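import Groth.Statements.S19386
import Groth.Agent.DualAbs.HodgeLefSec
import Groth.Agent.S16277
import Groth.Agent.FFCurve.AlgClosed
import Groth.Agent.S6472
-- import your own Groth.Agent.* helpers here

set_option autoImplicit false
universe u
open CategoryTheory CategoryTheory.Limits AlgebraicGeometry
open HdgLef

namespace Groth.Agent.S19386

/-- Let X be an irreducible smooth proper scheme of dimension n over a field k and L an ample invertible
O_X-module. There is m₀ such that for every m ≥ m₀, every global section s of L^{⊗m} with O_X →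
L^{⊗m} injective whose zero scheme Y, with inclusion i : Y → X, is smooth over k, and all p-th
exterior powers Ω^p_X of the differentials of X over k and Ω^p_Y of the differentials of Y over k
(affine-local sense), the k-dimensions of H^q(X, Ω^p_X) and of H^q(X, i_*Ω^p_Y) = H^q(Y, Ω^p_Y)
agree when p + q < n − 1, and the first is at most the second when p + q = n − 1. (The published
statement asserts that the restriction map is bijective, resp. injective, in these ranges; only the
resulting comparison of dimensions is stated, the pull-back map on exterior powers not being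
available as a named map here. X is taken irreducible: for a disjoint union of projective 3-space
with a curve of positive genus the comparison fails for p = 0, q = 1. The published statement takes
Y among the degree-m hypersurface sections of a projective embedding; the published argument uses
only Serre vanishing and duality for the powers of an ample invertible module.) -/
theorem result
    (k : Type u) [Field k] (X : Scheme.{u}) [X.Over (Spec (CommRingCat.of k))]
    [IsProper (X ↘ Spec (CommRingCat.of k))] [Smooth (X ↘ Spec (CommRingCat.of k))] [IrreducibleSpace X]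
    (n : ℕ) (hn : topologicalKrullDim X = n)
    (L : X.Modules) (hL : CohB1.IsAmple L) :
    ∃ m₀ : ℕ, ∀ (m : ℕ), m₀ ≤ m →
      ∀ (s : Coh.structureModule X ⟶ CohB1.tensorPow L m) [Mono s]
        [Smooth ((PicF2.zeroScheme (CohB1.tensorPow L m) s).subschemeι ≫ (X ↘ Spec (CommRingCat.of k)))]
        (p q : ℕ) (OmX : X.Modules) (OmY : (PicF2.zeroScheme (CohB1.tensorPow L m) s).subscheme.Modules),
        ExtPow.IsExtPow p (Omega.sheaf (X ↘ Spec (CommRingCat.of k))) OmX →
        ExtPow.IsExtPow p (Omega.sheaf ((PicF2.zeroScheme (CohB1.tensorPow L m) s).subschemeι ≫ (X ↘ Spec (CommRingCat.of k)))) OmY →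
        (p + q + 1 < n → Module.finrank k (Coh.HH X OmX q) = Module.finrank k (Coh.HH X ((Coh.push (PicF2.zeroScheme (CohB1.tensorPow L m) s).subschemeι).obj OmY) q)) ∧
        (p + q + 1 = n → Module.finrank k (Coh.HH X OmX q) ≤ Module.finrank k (Coh.HH X ((Coh.push (PicF2.zeroScheme (CohB1.tensorPow L m) s).subschemeι).obj OmY) q)) := by
  haveI : ConnectedSpace X := IrreducibleSpace.connectedSpace X
  haveI := Groth.Agent.FFCurve.isIntegral_of_connected k (X := X)
  cases n with
  | zero => exact ⟨0, fun m _ s _ _ p q _ _ _ _ => ⟨fun h => absurd h (by omega), fun h => absurd h (by omega)⟩⟩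
  | succ n =>
  haveI := Groth.Agent.S6472.smoothOfRelativeDimension_of_dim (k := k) (X := X) (n + 1) hn
  haveI := Groth.Agent.EulerChar.isLocallyNoetherian k (X := X)
  haveI := Groth.Agent.EulerChar.isNoetherian k (X := X)
  obtain ⟨N, i, hic, hi⟩ := Groth.Agent.DualAbs.HodgeLefSec.exists_embedding (k := k) hL
  haveI := hic
  obtain ⟨d₀, hd₀⟩ := Groth.Agent.S16277.exists_hvan k n N X i hi L hL
  refine ⟨d₀ + 1, ?_⟩
  intro m hm s _ _ p q OmX OmY hX hY
  let I := PicF2.zeroScheme (CohB1.tensorPow L m) s
  letI : I.subscheme.Over (Spec (CommRingCat.of k)) := ⟨I.subschemeι ≫ (X ↘ Spec (CommRingCat.of k))⟩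
  haveI : Smooth (I.subschemeι ≫ (X ↘ Spec (CommRingCat.of k))) :=
    ‹Smooth ((PicF2.zeroScheme (CohB1.tensorPow L m) s).subschemeι ≫ (X ↘ Spec (CommRingCat.of k)))›
  have hLm := Groth.Agent.AmpleLib.isInvertible_tensorPow hL.1 m
  obtain ⟨eI⟩ := Groth.Agent.DualAbs.HodgeLefSec.nonempty_zeroScheme_inv hLm s
  have hMi : PicF.IsInvertible (ClSub.idealMod I) := Groth.Agent.NegVan.isInvertible_of_inverse hLm ⟨eI⟩
  have hinv : ClSub.IsInverseOf (ClSub.idealMod I) (CohB1.tensorPow L m) :=
    ⟨Groth.Agent.ProjTwist.tensComm _ _ ≪≫ eI⟩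
  have eJ : ClSub.idealMod I.subschemeι.ker ≅ ClSub.idealMod I :=
    eqToIso (by rw [Scheme.IdealSheafData.ker_subschemeι])
  have hcY : Coh.IsCoh OmY := by
    haveI : IsProper (I.subscheme ↘ Spec (CommRingCat.of k)) :=
      inferInstanceAs (IsProper (I.subschemeι ≫ (X ↘ Spec (CommRingCat.of k))))
    haveI := Groth.Agent.EulerChar.isLocallyNoetherian k (X := I.subscheme)
    haveI := Groth.Agent.EulerChar.isNoetherian k (X := I.subscheme)
    haveI : QuasiSeparated (I.subschemeι ≫ (X ↘ Spec (CommRingCat.of k))) := inferInstance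
    have hc := Groth.Agent.VBLib.isCoh_of_isFinLocFree
      (Groth.Agent.DualAbs.HodgeLefSec.isFinLocFree_omega (I.subschemeι ≫ (X ↘ Spec (CommRingCat.of k))))
    haveI := hc.1
    exact Groth.Agent.ExtPowSt.isCoh ⟨hY.choose, hY.choose_spec⟩ hc
  obtain ⟨E⟩ := Groth.Agent.EulerChar.nonempty_pushEquiv (A := k) I.subschemeι rfl OmY hcY.1 q
  have hpush : Module.finrank k (Coh.HH X ((Coh.push I.subschemeι).obj OmY) q) =
      Module.finrank k (Coh.HH I.subscheme OmY q) := E.finrank_eq
  let e₀ : CohB1.tensorMod ((Scheme.Modules.pullback I.subschemeι).obj (CohB1.tensorPow (ClSub.idealMod I) 0)) OmY ≅ OmY :=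
    Groth.Agent.ProjTwist.tensCongr (Groth.Agent.QCoh.pullbackUnitIso I.subschemeι) (Iso.refl OmY) ≪≫
      Groth.Agent.ProjTwist.oneTens OmY
  have key := Groth.Agent.DualAbs.HodgeLefSec.lefschetz (n := n) I.subschemeι rfl hMi eJ
    (fun t ht p' q' hpq' E' hE' => by
      haveI := hd₀ (m * t) (le_trans (by omega) (Nat.le_mul_of_pos_right m ht)) _
        (Groth.Agent.DualAbs.HodgeLef.isInverseOf_pow hL.1 hMi hinv t) p' q' hpq' E' hE'
      exact (Groth.Agent.SurfRR.hhEquiv k (Groth.Agent.ProjTwist.tensComm E'
        (CohB1.tensorPow (ClSub.idealMod I) t)) q').toEquiv.symm.subsingleton)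
    p OmY hY OmX hX 0 q
  have he := (Groth.Agent.SurfRR.hhEquiv k e₀ q).finrank_eq
  refine ⟨fun h => ?_, fun h => ?_⟩
  · obtain ⟨k1, -⟩ := key (by omega)
    exact ((k1 (by omega)).trans (if_pos rfl)).symm.trans (he.trans hpush.symm)
  · obtain ⟨-, k2⟩ := key (by omega)
    exact (k2 rfl).trans (he.trans hpush.symm).le

end Groth.Agent.S19386
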