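import Groth.Statements.S1939
import Groth.Agent.S9358
import Groth.Agent.FlatOpen.EquiDim
-- import your own Groth.Agent.* helpers here

set_option autoImplicit false
universe u
open CategoryTheory AlgebraicGeometry
open CategoryTheory.Limits
open Cyc

namespace Groth.Agent.S1939

set_option linter.style.haveILetI false
attribute [local instance] Curv2.resAlgebra

/-- Let (S, δS) and (S', δS') be two pairs satisfying Cyc.IsSetup, g : S' → S flat with δS'(s') = δS(g
s') + c for every s' generic in an irreducible component of its fibre g⁻¹(g s'), a : X → S locally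
of finite type with X integral of δ-dimension k (δX induced from δS), and X' = X ×_S S' with δX'
induced from δS'. Then every generic point x' of an irreducible component of X' has δX'(x') = k + c.
A pair (X, δ) with Cyc.IsSetup plays the role of a scheme locally of finite type over a fixed base
with a dimension function (X locally Noetherian with universally catenary local rings, δ a dimension
function), and Cyc.DeltaCompat records that the dimension function upstairs is the induced one. -/
theorem result (S S' X : Scheme.{u}) (δS : S → ℤ) (δS' : S' → ℤ) (hS : Cyc.IsSetup S δS) (hS' : Cyc.IsSetup S' δS') (g : S' ⟶ S) [Flat g] (c : ℤ) (hc : ∀ s' : S', (∀ y, g y = g s' → y ⤳ s' → y = s') → δS' s' = δS (g s') + c) (a : X ⟶ S) [LocallyOfFiniteType a] [IsIntegral X] (δX : X → ℤ) (hX : Cyc.DeltaCompat a δX δS) (δX' : ↥(pullback a g) → ℤ) (hX' : Cyc.DeltaCompat (pullback.snd a g) δX' δS') (k : ℤ) (hk : δX (genericPoint X) = k) (x' : ↥(pullback a g)) (hx' : ∀ y : ↥(pullback a g), y ⤳ x' → y = x') : δX' x' = k + c := by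
  haveI := hS.1
  haveI : LocallyOfFiniteType (pullback.snd a g) := inferInstance
  let ξ := genericPoint X
  have hξmax : ∀ z : X, z ⤳ ξ → z = ξ := fun z hz => hz.antisymm (genericPoint_specializes z) |>.eq
  have hfst : pullback.fst a g x' = ξ := by
    obtain ⟨w, hw, hw'⟩ := Flat.generalizingMap (pullback.fst a g)
      (show ξ ⤳ pullback.fst a g x' from genericPoint_specializes _)
    rw [← hw', hx' w hw]
  -- the fibre dimension
  have hξF : FlatOpen.EquiDim.FMax a ξ := fun z hz _ => hξmax z hz
  obtain ⟨n, hn⟩ : ∃ n : ℕ, FlatMor.fibreDimAt a ξ = n := by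
    letI := a.fiberOverSpecResidueField (a ξ)
    haveI : LocallyOfFiniteType ((a.fiber (a ξ)) ↘ Spec (CommRingCat.of (S.residueField (a ξ)))) :=
      CycLib.locallyOfFiniteType_fiberToSpecResidueField a (a ξ)
    exact ⟨_, FlatOpen.EquiDim.localDim_of_max (S.residueField (a ξ))
      ((FlatOpen.EquiDim.fMax_fiberι_iff a (a ξ) _).2 (by rwa [a.fiberι_asFiber]))⟩
  have ht := FlatOpen.EquiDim.fibreDimAt_eq_trdeg a hξF hn
  have hn' : FlatMor.fibreDimAt (pullback.snd a g) x' = n := by
    rw [(S9358.result a g _ _ (IsPullback.of_hasPullback a g) n).1 x']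
    exact (congrArg (FlatMor.fibreDimAt a) hfst).trans hn
  have ht' := FlatOpen.EquiDim.fibreDimAt_eq_trdeg (pullback.snd a g) (fun z hz _ => hx' z hz) hn'
  obtain ⟨m, hm, hm'⟩ := hX ξ
  obtain ⟨m', hm2, hm2'⟩ := hX' x'
  have e1 : m = n := Nat.cast_injective (R := Cardinal) (hm.symm.trans ht)
  have e2 : m' = n := Nat.cast_injective (R := Cardinal) (hm2.symm.trans ht')
  -- the image is generic in its fibre
  set s' := pullback.snd a g x' with hs'
  have hgs : g s' = a ξ := by
    rw [← hfst, hs', ← Scheme.Hom.comp_apply, ← Scheme.Hom.comp_apply, pullback.condition]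
  have hgen : ∀ y, g y = g s' → y ⤳ s' → y = s' := by
    intro y hy hys
    let h : Spec (X.residueField ξ) ⟶ Spec (S.residueField (a ξ)) := Spec.map (a.residueFieldMap ξ)
    let W := pullback h (g.fiberToSpecResidueField (a ξ))
    have hψ : (pullback.fst h (g.fiberToSpecResidueField (a ξ)) ≫ X.fromSpecResidueField ξ) ≫ a =
        (pullback.snd h (g.fiberToSpecResidueField (a ξ)) ≫ g.fiberι (a ξ)) ≫ g := by
      have e1 : g.fiberι (a ξ) ≫ g = g.fiberToSpecResidueField (a ξ) ≫ S.fromSpecResidueField (a ξ) :=
        pullback.condition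
      rw [Category.assoc, Category.assoc, e1, ← pullback.condition_assoc]
      simp [h]
    let ψ : W ⟶ pullback a g := pullback.lift _ _ hψ
    haveI : Flat h := by
      refine Flat.SpecMap_iff.2 ?_
      letI := (a.residueFieldMap ξ).hom.toAlgebra
      exact RingHom.flat_algebraMap_iff.2 (inferInstanceAs (Module.Flat (S.residueField (a ξ)) (X.residueField ξ)))
    haveI : Flat (pullback.snd h (g.fiberToSpecResidueField (a ξ))) := inferInstance
    -- a point over `x'`
    let u := (pullback a g).fromSpecResidueField x'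
    let v : Spec ((pullback a g).residueField x') ⟶ Spec (X.residueField ξ) :=
      Spec.map ((X.residueFieldCongr hfst).inv ≫ (pullback.fst a g).residueFieldMap x')
    have hv : v ≫ X.fromSpecResidueField ξ = u ≫ pullback.fst a g := by
      simp [v, u, Scheme.residueFieldCongr_inv, Spec.map_comp]
    have hfib : (u ≫ pullback.snd a g) ≫ g = (v ≫ h) ≫ S.fromSpecResidueField (a ξ) := by
      rw [Category.assoc, Category.assoc, ← pullback.condition, ← Category.assoc u, ← hv, Category.assoc]
      simp [h]
    let w₀ : Spec ((pullback a g).residueField x') ⟶ g.fiber (a ξ) := pullback.lift _ _ hfib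
    have hw0 : v ≫ h = w₀ ≫ g.fiberToSpecResidueField (a ξ) := (pullback.lift_snd _ _ hfib).symm
    have hψu : pullback.lift v w₀ hw0 ≫ ψ = u := by
      apply pullback.hom_ext
      · rw [Category.assoc, pullback.lift_fst, pullback.lift_fst_assoc, hv]
      · rw [Category.assoc, pullback.lift_snd, pullback.lift_snd_assoc]
        exact pullback.lift_fst _ _ hfib
    let pt := IsLocalRing.closedPoint ((pullback a g).residueField x')
    let w : W := pullback.lift v w₀ hw0 pt
    have hw : ψ w = x' := by
      show (pullback.lift v w₀ hw0 ≫ ψ) pt = x'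
      rw [hψu]
      exact Scheme.fromSpecResidueField_apply _ _
    have hsnd : ∀ z : W, pullback.snd a g (ψ z) =
        g.fiberι (a ξ) (pullback.snd h (g.fiberToSpecResidueField (a ξ)) z) := fun z => by
      rw [← Scheme.Hom.comp_apply, pullback.lift_snd, Scheme.Hom.comp_apply]
    obtain ⟨y₀, rfl⟩ := (g.range_fiberι (a ξ)).ge (show y ∈ g ⁻¹' {a ξ} from hy.trans hgs)
    have hsp : y₀ ⤳ pullback.snd h (g.fiberToSpecResidueField (a ξ)) w := by
      refine (g.fiberι (a ξ)).isEmbedding.specializes_iff.1 ?_
      rwa [← hsnd, hw]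
    obtain ⟨z, hz, rfl⟩ := Flat.generalizingMap (pullback.snd h (g.fiberToSpecResidueField (a ξ))) hsp
    have := hx' (ψ z) (hw ▸ hz.map ψ.continuous)
    rw [← hsnd, this]
  rw [hm2', hc _ hgen, hgs, ← hk]
  show δS (a ξ) + c + m' = δX ξ + c
  rw [hm', e1, e2]
  ring

end Groth.Agent.S1939
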