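import Groth.Statements.S19390
import Mathlib.Tactic
import Mathlib.Data.Fin.Tuple.Sort


set_option autoImplicit false
universe u
open GIT

namespace Groth.Agent.S19390

/-- Let e ≥ 1, n = 2e + 1, and let x_1, …, x_n be points such that no point occurs more than e times
among them (the stability condition for n ordered points on a line, n odd). Then there are index
sequences i_1, …, i_n and j_1, …, j_n in which every index between 1 and n occurs exactly twice in
total, such that x_{i_k} ≠ x_{j_k} for every k and (i_1, i_2, i_3) = (j_3, j_1, j_2). Indices are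
written 0, …, n − 1 here. -/
theorem result {α : Type u} [DecidableEq α] (e : ℕ) (he : 1 ≤ e)
    (x : Fin (2 * e + 1) → α)
    (hx : ∀ a : α, (Finset.univ.filter fun k => x k = a).card ≤ e) :
    ∃ i j : Fin (2 * e + 1) → Fin (2 * e + 1),
      (∀ m : Fin (2 * e + 1),
        (Finset.univ.filter fun k => i k = m).card + (Finset.univ.filter fun k => j k = m).card = 2) ∧
      (∀ k, x (i k) ≠ x (j k)) ∧
      i 0 = j 2 ∧ i 1 = j 0 ∧ i 2 = j 1 := by
  let I : Finset α := Finset.univ.image x
  let cnt : α → ℕ := fun a => (Finset.univ.filter fun k => x k = a).card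
  let Big : Finset α := I.filter fun a => cnt a = e
  have hsum : ∑ a ∈ I, cnt a = 2 * e + 1 :=
    (Finset.card_eq_sum_card_image x Finset.univ).symm.trans (by simp)
  have hBig : Big.card ≤ 3 := by
    have h1 : ∑ a ∈ Big, cnt a ≤ ∑ a ∈ I, cnt a := Finset.sum_le_sum_of_subset (Finset.filter_subset _ _)
    rw [Finset.sum_congr rfl (g := fun _ => e) (fun a ha => (Finset.mem_filter.mp ha).2), Finset.sum_const,
      smul_eq_mul, hsum] at h1
    show (I.filter fun a => cnt a = e).card ≤ 3
    nlinarith
  have hI : 3 ≤ I.card := by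
    have h1 := Finset.sum_le_card_nsmul I cnt e (fun a _ => hx a)
    rw [hsum, smul_eq_mul] at h1
    nlinarith
  obtain ⟨T, hBT, hTI, hT⟩ := Finset.exists_subsuperset_card_eq (Finset.filter_subset _ I : Big ⊆ I) hBig hI
  obtain ⟨α', β', γ', h12, h13, h23, hTeq⟩ := Finset.card_eq_three.mp hT
  have hmem : ∀ t ∈ T, ∃ k, x k = t := fun t ht => by
    obtain ⟨k, -, hk⟩ := Finset.mem_image.mp (hTI ht)
    exact ⟨k, hk⟩
  obtain ⟨a, rfl⟩ := hmem α' (by simp [hTeq])
  obtain ⟨b, rfl⟩ := hmem β' (by simp [hTeq])
  obtain ⟨c, rfl⟩ := hmem γ' (by simp [hTeq])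
  let R : Finset (Fin (2 * e + 1)) := Finset.univ \ {a, b, c}
  have habc : ({a, b, c} : Finset (Fin (2 * e + 1))).card = 3 := by
    refine Finset.card_eq_three.mpr ⟨a, b, c, ?_, ?_, ?_, rfl⟩
    exacts [fun h => h12 (congrArg x h), fun h => h13 (congrArg x h), fun h => h23 (congrArg x h)]
  obtain ⟨m, rfl⟩ : ∃ m, e = m + 1 := ⟨e - 1, by omega⟩
  have hR : R.card = m + m := by
    rw [Finset.card_sdiff_of_subset (Finset.subset_univ _), habc, Finset.card_univ, Fintype.card_fin]
    omega
  have hRc : ∀ α₀, (R.filter fun k => x k = α₀).card ≤ m := by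
    intro α₀
    by_cases hα : α₀ ∈ T
    · have hlt : (R.filter fun k => x k = α₀).card < cnt α₀ := by
        refine Finset.card_lt_card ⟨fun k hk => by simpa using (Finset.mem_filter.mp hk).2, fun hsub => ?_⟩
        rw [hTeq] at hα
        simp only [Finset.mem_insert, Finset.mem_singleton] at hα
        rcases hα with h | h | h
        · have := hsub (Finset.mem_filter.mpr ⟨Finset.mem_univ a, h.symm⟩)
          simp [R] at this
        · have := hsub (Finset.mem_filter.mpr ⟨Finset.mem_univ b, h.symm⟩)
          simp [R] at this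
        · have := hsub (Finset.mem_filter.mpr ⟨Finset.mem_univ c, h.symm⟩)
          simp [R] at this
      have := hx α₀
      simp only [cnt] at hlt
      omega
    · have h1 : (R.filter fun k => x k = α₀).card ≤ cnt α₀ :=
        Finset.card_le_card fun k hk => by simpa using (Finset.mem_filter.mp hk).2
      have h2 : cnt α₀ ≠ m + 1 := fun he' => hα (hBT (Finset.mem_filter.mpr ⟨Finset.mem_image.mpr (by
        obtain ⟨k, hk⟩ := Finset.card_pos.mp (show 0 < cnt α₀ by omega)
        exact ⟨k, Finset.mem_univ _, (Finset.mem_filter.mp hk).2⟩), he'⟩))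
      have h3 : cnt α₀ ≤ m + 1 := hx α₀
      omega
  let key : Fin (2 * (m + 1) + 1) → ℕ := fun k =>
    ((Finset.univ.filter fun l => x l = x k).min' ⟨k, by simp⟩).val
  have hkey : ∀ k l, key k = key l ↔ x k = x l := by
    intro k l
    constructor
    · intro h
      have h1 := Finset.min'_mem (Finset.univ.filter fun l => x l = x k) ⟨k, by simp⟩
      have h2 := Finset.min'_mem (Finset.univ.filter fun l' => x l' = x l) ⟨l, by simp⟩
      have := Fin.ext h
      rw [Finset.mem_filter] at h1 h2
      rw [← h1.2, this, h2.2]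
    · intro h
      simp only [key, h]
  let q₀ : Fin (m + m) → Fin (2 * (m + 1) + 1) := fun t => R.orderEmbOfFin hR t
  let π := Tuple.sort (key ∘ q₀)
  let q := q₀ ∘ π
  have hmono : Monotone (key ∘ q) := Tuple.monotone_sort (key ∘ q₀)
  have hqinj : Function.Injective q := (R.orderEmbOfFin hR).injective.comp π.injective
  have hqR : ∀ t, q t ∈ R := fun t => R.orderEmbOfFin_mem hR _
  have hpair : ∀ t : Fin m, x (q (Fin.castAdd m t)) ≠ x (q (Fin.natAdd m t)) := by
    intro t he'
    have hle := hRc (x (q (Fin.castAdd m t)))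
    have hsub : (Finset.Icc (Fin.castAdd m t) (Fin.natAdd m t)).image q ⊆ R.filter fun k => x k = x (q (Fin.castAdd m t)) := by
      intro k hk
      obtain ⟨u, hu, rfl⟩ := Finset.mem_image.mp hk
      rw [Finset.mem_Icc] at hu
      refine Finset.mem_filter.mpr ⟨hqR u, ((hkey _ _).mp (le_antisymm ?_ (hmono hu.1)))⟩
      exact (hmono hu.2).trans_eq ((hkey _ _).mpr he'.symm)
    have := Finset.card_le_card hsub
    rw [Finset.card_image_of_injective _ hqinj, Fin.card_Icc] at this
    simp only [Fin.val_natAdd, Fin.val_castAdd] at this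
    omega
  let P := Fin 3 ⊕ (Fin m ⊕ Fin m)
  let σ : P → Fin (2 * (m + 1) + 1) := Sum.elim ![a, b, c] (Sum.elim (q ∘ Fin.castAdd m) (q ∘ Fin.natAdd m))
  have hσinj : Function.Injective σ := by
    refine Function.Injective.sumElim ?_ ?_ ?_
    · intro u w h
      fin_cases u <;> fin_cases w <;> simp at h <;> first
        | rfl | exact absurd (congrArg x h) h12 | exact absurd (congrArg x h).symm h12
        | exact absurd (congrArg x h) h13 | exact absurd (congrArg x h).symm h13
        | exact absurd (congrArg x h) h23 | exact absurd (congrArg x h).symm h23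
    · refine (hqinj.comp (Fin.castAdd_injective m m)).sumElim (hqinj.comp (Fin.natAdd_injective m m)) ?_
      intro u w h
      have := congrArg Fin.val (hqinj h)
      simp at this
      omega
    · intro u w h
      have h1 : ![a, b, c] u ∈ ({a, b, c} : Finset (Fin (2 * (m + 1) + 1))) := by fin_cases u <;> simp
      have h2 : ![a, b, c] u ∈ R := by
        rw [h]
        rcases w with w | w <;> exact hqR _
      exact (Finset.mem_sdiff.mp h2).2 h1
  have hcard : Fintype.card P = Fintype.card (Fin (2 * (m + 1) + 1)) := by simp [P]; omega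
  have hσ : Function.Bijective σ := (Fintype.bijective_iff_injective_and_card σ).mpr ⟨hσinj, hcard⟩
  let E : P ≃ Fin (2 * (m + 1) + 1) := (Equiv.sumCongr (Equiv.refl _) finSumFinEquiv).trans
    (finSumFinEquiv.trans (finCongr (by omega)))
  let i₀ : P → Fin (2 * (m + 1) + 1) := Sum.elim ![a, b, c] (Sum.elim (q ∘ Fin.castAdd m) (q ∘ Fin.castAdd m))
  let j₀ : P → Fin (2 * (m + 1) + 1) := Sum.elim ![b, c, a] (Sum.elim (q ∘ Fin.natAdd m) (q ∘ Fin.natAdd m))
  refine ⟨i₀ ∘ E.symm, j₀ ∘ E.symm, fun v => ?_, fun k => ?_, ?_⟩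
  · let w : Fin (2 * (m + 1) + 1) → ℕ := fun y => if y = v then 1 else 0
    have hc : ∀ g : P → Fin (2 * (m + 1) + 1), (Finset.univ.filter fun k => (g ∘ E.symm) k = v).card = ∑ p : P, w (g p) := by
      intro g
      rw [Finset.card_filter, ← E.sum_comp]
      exact Finset.sum_congr rfl fun p _ => by simp [w]
    have hone : ∑ p : P, w (σ p) = 1 := by
      obtain ⟨p, rfl⟩ := hσ.2 v
      rw [Finset.sum_eq_single p (fun b _ hb => if_neg fun e => hb (hσ.1 e)) (fun h => absurd (Finset.mem_univ p) h)]
      exact if_pos rfl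
    rw [hc, hc]
    clear hc
    clear_value w
    simp only [P, σ, i₀, j₀, Fintype.sum_sum_type, Sum.elim_inl, Sum.elim_inr, Fin.sum_univ_three] at hone ⊢
    simp only [Matrix.cons_val_zero, Matrix.cons_val_one, Matrix.cons_val, Function.comp_apply] at hone ⊢
    omega
  · rcases h : E.symm k with u | u | u <;> simp only [Function.comp_apply, h, i₀, j₀, Sum.elim_inl, Sum.elim_inr]
    · fin_cases u
      exacts [h12, h23, h13.symm]
    · exact hpair u
    · exact hpair u
  · have hE : ∀ u : Fin 3, E.symm (Fin.castLE (by omega) u) = Sum.inl u := fun u => by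
      rw [Equiv.symm_apply_eq]
      rfl
    have e0 : (0 : Fin (2 * (m + 1) + 1)) = Fin.castLE (by omega) (0 : Fin 3) := rfl
    have e1 : (1 : Fin (2 * (m + 1) + 1)) = Fin.castLE (by omega) (1 : Fin 3) :=
      Fin.ext (by simp [Fin.val_one', Nat.mod_eq_of_lt (show 1 < 2 * (m + 1) + 1 by omega)])
    have e2 : (2 : Fin (2 * (m + 1) + 1)) = Fin.castLE (by omega) (2 : Fin 3) :=
      Fin.ext (by simp [Fin.val_two, Nat.mod_eq_of_lt (show 2 < 2 * (m + 1) + 1 by omega)])
    simp only [Function.comp_apply, e0, e1, e2, hE]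
    exact ⟨rfl, rfl, rfl⟩

end Groth.Agent.S19390
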