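import Groth.Statements.S19392
import Mathlib
import Groth.Agent.S19391

set_option autoImplicit false
universe u
open InvQ

namespace Groth.Agent.S19392

theorem coef_comp {k : Type u} [Field k] (la mu : Fin 4 → k) (π : Equiv.Perm (Fin 4)) :
    W4c6intromoduli.coef (la ∘ π) (mu ∘ π) = W4c6intromoduli.coef la mu := by
  funext i
  simp only [W4c6intromoduli.coef, W4c6intromoduli.rootPoly, Function.comp_apply]
  rw [Equiv.prod_comp π (fun i => Polynomial.C (mu i) - Polynomial.C (la i) * Polynomial.X)]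

theorem double_root {R : Type u} [CommRing R] (la mu : Fin 4 → R) (t : R)
    (h1 : la 1 = t * la 0) (h2 : mu 1 = t * mu 0) :
    W4c6intromoduli.invI (W4c6intromoduli.coef la mu) =
        t ^ 2 * ((la 0 * mu 2 - la 2 * mu 0) * (la 0 * mu 3 - la 3 * mu 0)) ^ 2 ∧
      W4c6intromoduli.invJ (W4c6intromoduli.coef la mu) =
        -2 * (t * ((la 0 * mu 2 - la 2 * mu 0) * (la 0 * mu 3 - la 3 * mu 0))) ^ 3 := by
  simp only [W4c6intromoduli.invI, W4c6intromoduli.invJ, W4c6intromoduli.coef, Groth.Agent.S19391.coef_eq]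
  simp [Polynomial.coeff_C, Polynomial.coeff_X, -map_mul, -map_add, -map_neg, h1, h2]
  constructor <;> ring

theorem exists_smul {k : Type u} [Field k] (a b c d : k) (hab : a ≠ 0 ∨ b ≠ 0) (h : a * d = c * b) :
    ∃ t, c = t * a ∧ d = t * b := by
  rcases hab with ha | hb
  · exact ⟨c / a, by field_simp, by field_simp; linear_combination h⟩
  · exact ⟨d / b, by field_simp; linear_combination -h, by field_simp⟩

/-- Over a field of characteristic different from 2 and 3, a nonzero binary quartic f has P(f) = Q(f) =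
0 for the two basic invariants P, Q if and only if f has a triple zero. Stated for f = ∏_i (μ_i X₀ −
λ_i X₁) given by four root points (λ_i, μ_i) ≠ (0, 0) (over an algebraically closed field every
nonzero quartic form is of this shape), with the integral invariants I = 6P and J = 72Q of the
coefficients of f; a triple zero means that three of the four root points are pairwise proportional. -/
theorem result (k : Type u) [Field k]
    (h2 : (2 : k) ≠ 0) (h3 : (3 : k) ≠ 0) (la mu : Fin 4 → k) (hne : ∀ i, la i ≠ 0 ∨ mu i ≠ 0) :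
    (W4c6intromoduli.invI (W4c6intromoduli.coef la mu) = 0 ∧
        W4c6intromoduli.invJ (W4c6intromoduli.coef la mu) = 0) ↔
      ∃ i j l : Fin 4, i ≠ j ∧ j ≠ l ∧ i ≠ l ∧
        la i * mu j = la j * mu i ∧ la j * mu l = la l * mu j := by
  classical
  have move : ∀ i j : Fin 4, i ≠ j → la i * mu j = la j * mu i →
      ∃ (π : Equiv.Perm (Fin 4)) (t : k), π 0 = i ∧ π 1 = j ∧ (la ∘ π) 1 = t * (la ∘ π) 0 ∧ (mu ∘ π) 1 = t * (mu ∘ π) 0 := by
    intro i j hij h
    obtain ⟨t, ht⟩ := exists_smul (la i) (mu i) (la j) (mu j) (hne i) h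
    have hex : ∀ i j : Fin 4, i ≠ j → ∃ π : Equiv.Perm (Fin 4), π 0 = i ∧ π 1 = j := by decide
    obtain ⟨π, h0, h1⟩ := hex i j hij
    exact ⟨π, t, h0, h1, by simp [h0, h1, ht.1], by simp [h0, h1, ht.2]⟩
  constructor
  · rintro ⟨hI, hJ⟩
    have hD : (27 : k) * W4c6intromoduli.disc la mu = 0 := by
      rw [Groth.Agent.S19391.result, hI, hJ]; ring
    have h27 : (27 : k) ≠ 0 := by rw [show (27 : k) = 3 ^ 3 by norm_num]; exact pow_ne_zero _ h3
    obtain ⟨⟨i, j⟩, hij, h0⟩ := Finset.prod_eq_zero_iff.mp ((mul_eq_zero.mp hD).resolve_left h27)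
    have hij' : i ≠ j := ne_of_lt (Finset.mem_filter.mp hij).2
    have h0' : la j * mu i - la i * mu j = 0 := pow_eq_zero_iff two_ne_zero |>.mp h0
    obtain ⟨π, t, p0, p1, hl, hm⟩ := move i j hij' (sub_eq_zero.mp h0').symm
    have ht : t ≠ 0 := by
      rintro rfl
      simp only [zero_mul, Function.comp_apply] at hl hm
      exact (hne (π 1)).elim (fun h => h hl) (fun h => h hm)
    have hd := (double_root (la ∘ π) (mu ∘ π) t hl hm).1
    rw [coef_comp, hI] at hd
    have h := (mul_eq_zero.mp (pow_eq_zero_iff two_ne_zero |>.mp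
      ((mul_eq_zero.mp hd.symm).resolve_left (pow_ne_zero _ ht))))
    simp only [Function.comp_apply] at h hl hm
    rcases h with h | h
    · refine ⟨π 1, π 0, π 2, by simp, by simp, by simp, ?_, ?_⟩
      · rw [hl, hm]; ring
      · exact sub_eq_zero.mp h
    · refine ⟨π 1, π 0, π 3, by simp, by simp, by simp, ?_, ?_⟩
      · rw [hl, hm]; ring
      · exact sub_eq_zero.mp h
  · rintro ⟨i, j, l, hij, hjl, hil, e1, e2⟩
    obtain ⟨π, t, p0, p1, hl, hm⟩ := move j i hij.symm e1.symm
    have hl' : π.symm l = 2 ∨ π.symm l = 3 := by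
      have h0 : π.symm l ≠ 0 := fun h => hjl (by rw [← p0, ← h, Equiv.apply_symm_apply])
      have h1 : π.symm l ≠ 1 := fun h => hil (by rw [← p1, ← h, Equiv.apply_symm_apply])
      revert h0 h1; generalize π.symm l = x; revert x; decide
    have hz : ((la ∘ π) 0 * (mu ∘ π) 2 - (la ∘ π) 2 * (mu ∘ π) 0) * ((la ∘ π) 0 * (mu ∘ π) 3 - (la ∘ π) 3 * (mu ∘ π) 0) = 0 := by
      rcases hl' with h | h
      all_goals
        rw [Equiv.symm_apply_eq] at h
        simp only [Function.comp_apply, p0, ← h, e2, sub_self, mul_zero, zero_mul]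
    obtain ⟨dI, dJ⟩ := double_root (la ∘ π) (mu ∘ π) t hl hm
    rw [coef_comp, hz] at dI dJ
    exact ⟨by simpa using dI, by simpa using dJ⟩

end Groth.Agent.S19392
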