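import Groth.Statements.S19393
import Mathlib.Tactic

set_option autoImplicit false
universe u
open InvQ

namespace Groth.Agent.S19393

section
open W4c6intromoduli
variable {k : Type u} [Field k]

/-- bracket -/
def br (la mu : Fin 4 → k) (i j : Fin 4) : k := la i * mu j - la j * mu i

theorem br_ne_zero {la mu : Fin 4 → k} (hd : disc la mu ≠ 0) {i j : Fin 4} (hij : i ≠ j) :
    br la mu i j ≠ 0 := by
  rw [disc] at hd
  rcases lt_or_gt_of_ne hij with h | h
  · have := Finset.prod_ne_zero_iff.mp hd (i, j) (by simp [h])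
    intro h0
    apply this
    have : la j * mu i - la i * mu j = -br la mu i j := by rw [br]; ring
    simp only [this, h0]; ring
  · have := Finset.prod_ne_zero_iff.mp hd (j, i) (by simp [h])
    intro h0
    apply this
    change (br la mu i j) ^ 2 = 0
    rw [h0]; ring

theorem coef_eq (la mu : Fin 4 → k) :
    coef la mu 0 = mu 0 * mu 1 * mu 2 * mu 3 ∧
    coef la mu 1 = -(la 0 * mu 1 * mu 2 * mu 3 + mu 0 * la 1 * mu 2 * mu 3 + mu 0 * mu 1 * la 2 * mu 3
      + mu 0 * mu 1 * mu 2 * la 3) ∧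
    coef la mu 2 = la 0 * la 1 * mu 2 * mu 3 + la 0 * mu 1 * la 2 * mu 3 + la 0 * mu 1 * mu 2 * la 3
      + mu 0 * la 1 * la 2 * mu 3 + mu 0 * la 1 * mu 2 * la 3 + mu 0 * mu 1 * la 2 * la 3 ∧
    coef la mu 3 = -(mu 0 * la 1 * la 2 * la 3 + la 0 * mu 1 * la 2 * la 3 + la 0 * la 1 * mu 2 * la 3
      + la 0 * la 1 * la 2 * mu 3) ∧
    coef la mu 4 = la 0 * la 1 * la 2 * la 3 := by
  have h : rootPoly la mu =
      Polynomial.C (mu 0 * mu 1 * mu 2 * mu 3) +
      Polynomial.C (-(la 0 * mu 1 * mu 2 * mu 3 + mu 0 * la 1 * mu 2 * mu 3 + mu 0 * mu 1 * la 2 * mu 3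
        + mu 0 * mu 1 * mu 2 * la 3)) * Polynomial.X +
      Polynomial.C (la 0 * la 1 * mu 2 * mu 3 + la 0 * mu 1 * la 2 * mu 3 + la 0 * mu 1 * mu 2 * la 3
        + mu 0 * la 1 * la 2 * mu 3 + mu 0 * la 1 * mu 2 * la 3 + mu 0 * mu 1 * la 2 * la 3) * Polynomial.X ^ 2 +
      Polynomial.C (-(mu 0 * la 1 * la 2 * la 3 + la 0 * mu 1 * la 2 * la 3 + la 0 * la 1 * mu 2 * la 3
        + la 0 * la 1 * la 2 * mu 3)) * Polynomial.X ^ 3 +
      Polynomial.C (la 0 * la 1 * la 2 * la 3) * Polynomial.X ^ 4 := by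
    simp only [rootPoly, Fin.prod_univ_four, map_add, map_mul, map_neg]
    ring
  simp only [coef, h, Polynomial.coeff_add, Polynomial.coeff_C, Polynomial.coeff_C_mul_X_pow,
    Polynomial.coeff_C_mul_X, and_self, OfNat.ofNat_ne_zero, one_ne_zero, zero_ne_one, if_true, if_false,
    OfNat.zero_ne_ofNat, OfNat.ofNat_ne_one, OfNat.one_ne_ofNat, OfNat.ofNat_eq_ofNat,
    add_zero, zero_add, Nat.reduceEqDiff]

theorem inv_eq (la mu : Fin 4 → k) :
    let x := br la mu 0 1 * br la mu 2 3
    let z := br la mu 0 3 * br la mu 1 2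
    invI (coef la mu) = x ^ 2 + x * z + z ^ 2 ∧
      invJ (coef la mu) = (x - z) * (2 * x + z) * (x + 2 * z) := by
  obtain ⟨h0, h1, h2, h3, h4⟩ := coef_eq la mu
  simp only [invI, invJ, h0, h1, h2, h3, h4, br]
  constructor <;> ring

theorem six (x z x' z' : k) :
    (x ^ 2 + x * z + z ^ 2) ^ 3 * ((x' - z') * (2 * x' + z') * (x' + 2 * z')) ^ 2 -
      (x' ^ 2 + x' * z' + z' ^ 2) ^ 3 * ((x - z) * (2 * x + z) * (x + 2 * z)) ^ 2 =
    27 * ((x * z' - z * x') * (z * z' - x * x') * (-(x + z) * z' - z * x') *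
      (x * z' + (x + z) * x') * (z * z' + (x + z) * x') * (-(x + z) * z' - x * x')) := by
  ring

theorem subst_lin (M : Matrix (Fin 2) (Fin 2) k) (m l : k) :
    subst M (MvPolynomial.C m * MvPolynomial.X 0 - MvPolynomial.C l * MvPolynomial.X 1) =
      MvPolynomial.C (m * M 0 0 - l * M 1 0) * MvPolynomial.X 0 -
        MvPolynomial.C (l * M 1 1 - m * M 0 1) * MvPolynomial.X 1 := by
  simp only [subst, map_sub, map_mul, MvPolynomial.aeval_C, MvPolynomial.aeval_X,
    MvPolynomial.algebraMap_eq, Fin.sum_univ_two]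
  ring

theorem core (la mu la' mu' : Fin 4 → k) (hd : ∀ i j, i ≠ j → br la mu i j ≠ 0)
    (hd' : ∀ i j, i ≠ j → br la' mu' i j ≠ 0)
    (h : (br la mu 0 1 * br la mu 2 3) * (br la' mu' 0 3 * br la' mu' 1 2) =
      (br la mu 0 3 * br la mu 1 2) * (br la' mu' 0 1 * br la' mu' 2 3)) :
    ∃ (M : Matrix (Fin 2) (Fin 2) k) (c : k), IsUnit M.det ∧ c ≠ 0 ∧
      binForm la' mu' = MvPolynomial.C c * subst M (binForm la mu) := by
  set p := br la' mu' 2 1 * br la mu 0 2 with hp
  set q := br la' mu' 0 2 * br la mu 2 1 with hq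
  -- T(l, m) = p (l mu₁ - la₁ m) v'₀ + q (la₀ m - l mu₀) v'₁
  set t11 := p * mu 1 * la' 0 - q * mu 0 * la' 1 with ht11
  set t12 := -(p * la 1 * la' 0) + q * la 0 * la' 1 with ht12
  set t21 := p * mu 1 * mu' 0 - q * mu 0 * mu' 1 with ht21
  set t22 := -(p * la 1 * mu' 0) + q * la 0 * mu' 1 with ht22
  set M : Matrix (Fin 2) (Fin 2) k := !![t22, -t12; -t21, t11] with hM
  have hdet : M.det = p * q * br la mu 0 1 * br la' mu' 0 1 := by
    rw [hM, Matrix.det_fin_two_of, ht11, ht12, ht21, ht22]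
    simp only [br]; ring
  have hp0 : p ≠ 0 := mul_ne_zero (hd' 2 1 (by decide)) (hd 0 2 (by decide))
  have hq0 : q ≠ 0 := mul_ne_zero (hd' 0 2 (by decide)) (hd 2 1 (by decide))
  have h31 := hd' 3 1 (by decide)
  set s : Fin 4 → k := ![p * br la mu 0 1, q * br la mu 0 1,
    br la mu 2 1 * br la mu 0 2 * br la' mu' 0 1,
    p * br la mu 3 1 / br la' mu' 3 1 * br la' mu' 0 1] with hs
  have hs0 : ∀ i, s i ≠ 0 := by
    intro i
    fin_cases i
    · exact mul_ne_zero hp0 (hd 0 1 (by decide))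
    · exact mul_ne_zero hq0 (hd 0 1 (by decide))
    · exact mul_ne_zero (mul_ne_zero (hd 2 1 (by decide)) (hd 0 2 (by decide))) (hd' 0 1 (by decide))
    · exact mul_ne_zero (div_ne_zero (mul_ne_zero hp0 (hd 3 1 (by decide))) h31) (hd' 0 1 (by decide))
  have hdiv : p * br la mu 3 1 / br la' mu' 3 1 * br la' mu' 3 1 = p * br la mu 3 1 :=
    div_mul_cancel₀ _ h31
  have hcond : p * br la mu 3 1 / br la' mu' 3 1 * br la' mu' 0 3 = q * br la mu 0 3 := by
    refine mul_right_cancel₀ h31 ?_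
    rw [mul_right_comm, hdiv, hp, hq]
    simp only [br] at h ⊢
    linear_combination h
  have hT : ∀ i, mu i * t22 - la i * -t21 = s i * mu' i ∧ la i * t11 - mu i * -t12 = s i * la' i := by
    intro i
    fin_cases i
    · simp only [hs, ht11, ht12, ht21, ht22, br]; constructor <;> simp <;> ring
    · simp only [hs, ht11, ht12, ht21, ht22, br]; constructor <;> simp <;> ring
    · simp only [hs, ht11, ht12, ht21, ht22, hp, hq, br]; constructor <;> simp <;> ring
    · constructor
      · simp only [hs, ht21, ht22]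
        have e : br la' mu' 3 1 * mu' 0 + br la' mu' 0 3 * mu' 1 = br la' mu' 0 1 * mu' 3 := by
          simp only [br]; ring
        have e1 : mu 3 * (-(p * la 1 * mu' 0) + q * la 0 * mu' 1) -
            la 3 * -(p * mu 1 * mu' 0 - q * mu 0 * mu' 1) =
            p * br la mu 3 1 * mu' 0 + q * br la mu 0 3 * mu' 1 := by
          simp only [br]; ring
        change mu 3 * _ - la 3 * _ = p * br la mu 3 1 / br la' mu' 3 1 * br la' mu' 0 1 * mu' 3
        linear_combination e1 + (p * br la mu 3 1 / br la' mu' 3 1) * e - mu' 0 * hdiv - mu' 1 * hcond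
      · simp only [hs, ht11, ht12]
        have e : br la' mu' 3 1 * la' 0 + br la' mu' 0 3 * la' 1 = br la' mu' 0 1 * la' 3 := by
          simp only [br]; ring
        have e1 : la 3 * (p * mu 1 * la' 0 - q * mu 0 * la' 1) -
            mu 3 * -(-(p * la 1 * la' 0) + q * la 0 * la' 1) =
            p * br la mu 3 1 * la' 0 + q * br la mu 0 3 * la' 1 := by
          simp only [br]; ring
        change la 3 * _ - mu 3 * _ = p * br la mu 3 1 / br la' mu' 3 1 * br la' mu' 0 1 * la' 3
        linear_combination e1 + (p * br la mu 3 1 / br la' mu' 3 1) * e - la' 0 * hdiv - la' 1 * hcond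
  refine ⟨M, (∏ i, s i)⁻¹, ?_, inv_ne_zero (Finset.prod_ne_zero_iff.mpr fun i _ => hs0 i), ?_⟩
  · rw [isUnit_iff_ne_zero, hdet]
    exact mul_ne_zero (mul_ne_zero (mul_ne_zero hp0 hq0) (hd 0 1 (by decide))) (hd' 0 1 (by decide))
  · have h1 : subst M (binForm la mu) = MvPolynomial.C (∏ i, s i) * binForm la' mu' := by
      rw [binForm, binForm, map_prod, map_prod, ← Finset.prod_mul_distrib]
      refine Finset.prod_congr rfl fun i _ => ?_
      rw [subst_lin]
      have e00 : M 0 0 = t22 := by simp [hM]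
      have e10 : M 1 0 = -t21 := by simp [hM]
      have e11 : M 1 1 = t11 := by simp [hM]
      have e01 : M 0 1 = -t12 := by simp [hM]
      rw [e00, e10, e11, e01, (hT i).1, (hT i).2, map_mul, map_mul]
      ring
    rw [h1, ← mul_assoc, ← map_mul, inv_mul_cancel₀ (Finset.prod_ne_zero_iff.mpr fun i _ => hs0 i),
      map_one, one_mul]

theorem via_perm (la mu la' mu' : Fin 4 → k) (hd : ∀ i j, i ≠ j → br la mu i j ≠ 0)
    (hd' : ∀ i j, i ≠ j → br la' mu' i j ≠ 0) (π : Fin 4 → Fin 4) (hπ : Function.Bijective π)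
    (h : (br la mu (π 0) (π 1) * br la mu (π 2) (π 3)) * (br la' mu' 0 3 * br la' mu' 1 2) =
      (br la mu (π 0) (π 3) * br la mu (π 1) (π 2)) * (br la' mu' 0 1 * br la' mu' 2 3)) :
    ∃ (M : Matrix (Fin 2) (Fin 2) k) (c : k), IsUnit M.det ∧ c ≠ 0 ∧
      binForm la' mu' = MvPolynomial.C c * subst M (binForm la mu) := by
  have hperm : binForm (la ∘ π) (mu ∘ π) = binForm la mu := by
    simp only [binForm, Function.comp_apply]
    exact Fintype.prod_bijective π hπ _ _ fun _ => rfl
  have hbr : ∀ i j, br (la ∘ π) (mu ∘ π) i j = br la mu (π i) (π j) := fun i j => rfl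
  have h' := core (la ∘ π) (mu ∘ π) la' mu'
    (fun i j hij => by rw [hbr]; exact hd _ _ fun e => hij (hπ.1 e)) hd'
    (by rw [hbr, hbr, hbr, hbr]; exact h)
  rw [hperm] at h'
  exact h'

end

/-- Over a field of characteristic different from 2 and 3, two binary quartics without double zeros
lying in the same fibre of the map to the projective line given by the invariants, i.e. with
proportional (P³, Q²), are equivalent under a linear substitution of the variables up to a nonzero
constant factor. Stated for split quartics f = ∏_i (μ_i X₀ − λ_i X₁) given by root points (λ_i, μ_i)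
≠ (0, 0), with the integral invariants I = 6P, J = 72Q and the discriminant ∏_{i<j} (λ_j μ_i − λ_i
μ_j)²; only the assertion that such a fibre is a single orbit is stated (not its closedness). -/
theorem result (k : Type u) [Field k]
    (h2 : (2 : k) ≠ 0) (h3 : (3 : k) ≠ 0) (la mu la' mu' : Fin 4 → k)
    (hne : ∀ i, la i ≠ 0 ∨ mu i ≠ 0) (hne' : ∀ i, la' i ≠ 0 ∨ mu' i ≠ 0)
    (hd : W4c6intromoduli.disc la mu ≠ 0) (hd' : W4c6intromoduli.disc la' mu' ≠ 0)
    (h : W4c6intromoduli.invI (W4c6intromoduli.coef la mu) ^ 3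
          * W4c6intromoduli.invJ (W4c6intromoduli.coef la' mu') ^ 2 =
        W4c6intromoduli.invI (W4c6intromoduli.coef la' mu') ^ 3
          * W4c6intromoduli.invJ (W4c6intromoduli.coef la mu) ^ 2) :
    ∃ (M : Matrix (Fin 2) (Fin 2) k) (c : k), IsUnit M.det ∧ c ≠ 0 ∧
      W4c6intromoduli.binForm la' mu' =
        MvPolynomial.C c * W4c6intromoduli.subst M (W4c6intromoduli.binForm la mu) := by
  have hb := fun i j => br_ne_zero (i := i) (j := j) hd
  have hb' := fun i j => br_ne_zero (i := i) (j := j) hd'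
  obtain ⟨hI, hJ⟩ := inv_eq la mu
  obtain ⟨hI', hJ'⟩ := inv_eq la' mu'
  set x := br la mu 0 1 * br la mu 2 3 with hx
  set z := br la mu 0 3 * br la mu 1 2 with hz
  have h27 : (27 : k) ≠ 0 := by
    rw [show (27 : k) = 3 * 3 * 3 by norm_num]
    exact mul_ne_zero (mul_ne_zero h3 h3) h3
  rw [hI, hJ, hI', hJ', ← sub_eq_zero, six, mul_eq_zero] at h
  have h := h.resolve_left h27
  simp only [mul_eq_zero] at h
  rcases h with ((((h | h) | h) | h) | h) | h
  · refine via_perm la mu la' mu' hb hb' id Function.bijective_id ?_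
    simp only [id_eq, hx, hz] at h ⊢
    linear_combination h
  · refine via_perm la mu la' mu' hb hb' ![0, 3, 2, 1] (by decide) ?_
    simp only [hx, hz, br] at h ⊢
    simp
    linear_combination -h
  · refine via_perm la mu la' mu' hb hb' ![0, 2, 1, 3] (by decide) ?_
    simp only [hx, hz, br] at h ⊢
    simp
    linear_combination -h
  · refine via_perm la mu la' mu' hb hb' ![0, 1, 3, 2] (by decide) ?_
    simp only [hx, hz, br] at h ⊢
    simp
    linear_combination -h
  · refine via_perm la mu la' mu' hb hb' ![0, 3, 1, 2] (by decide) ?_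
    simp only [hx, hz, br] at h ⊢
    simp
    linear_combination h
  · refine via_perm la mu la' mu' hb hb' ![0, 2, 3, 1] (by decide) ?_
    simp only [hx, hz, br] at h ⊢
    simp
    linear_combination h

end Groth.Agent.S19393
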