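import Groth.Statements.S19394
import Mathlib

set_option autoImplicit false
universe u
open InvQ

namespace Groth.Agent.S19394

open Matrix in
theorem exists_basis (k : Type u) [Field k] [IsAlgClosed k] {n : ℕ} (S N : Matrix (Fin n) (Fin n) k)
    (hS : Module.End.IsSemisimple (Matrix.toLin' S)) (hN : IsNilpotent N) (hSN : Commute S N) :
    ∀ i ≤ n, ∃ (v : Fin i → (Fin n → k)) (μ : Fin i → k), LinearIndependent k v ∧
      (∀ j, S *ᵥ v j = μ j • v j) ∧
      ∀ j, N *ᵥ v j ∈ Submodule.span k {w | ∃ l, l < j ∧ w = v l} := by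
  classical
  intro i
  induction i with
  | zero => exact fun _ => ⟨Fin.elim0, Fin.elim0, linearIndependent_empty_type, fun j => j.elim0,
      fun j => j.elim0⟩
  | succ i ih =>
    intro hi
    obtain ⟨v, μ, hind, hv, hNv⟩ := ih (by omega)
    have hne : Submodule.span k (Set.range v) ≠ ⊤ := fun h => by
      have h1 := finrank_span_eq_card hind
      rw [h, finrank_top, Module.finrank_fin_fun, Fintype.card_fin] at h1
      omega
    obtain ⟨c, w, hw, hwW⟩ : ∃ c, ∃ w, S *ᵥ w = c • w ∧ w ∉ Submodule.span k (Set.range v) := by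
      by_contra! h
      refine hne (top_le_iff.mp ?_)
      rw [← hS.iSup_eigenspace_eq_top]
      refine iSup_le fun c w hw => h c w ?_
      simpa [Matrix.toLin'_apply] using Module.End.mem_eigenspace_iff.mp hw
    obtain ⟨M, hM⟩ := hN
    have hex : ∃ j, (N ^ j) *ᵥ w ∈ Submodule.span k (Set.range v) :=
      ⟨M, by rw [hM, zero_mulVec]; exact zero_mem _⟩
    have hj := Nat.find_spec hex
    have hj0 : Nat.find hex ≠ 0 := fun h => hwW (by simpa [h] using hj)
    obtain ⟨j', hj'⟩ := Nat.exists_eq_succ_of_ne_zero hj0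
    have hnot : (N ^ j') *ᵥ w ∉ Submodule.span k (Set.range v) :=
      Nat.find_min hex (by omega)
    rw [hj', pow_succ', ← mulVec_mulVec] at hj
    refine ⟨Fin.snoc v ((N ^ j') *ᵥ w), Fin.snoc μ c, linearIndependent_finSnoc.mpr ⟨hind, hnot⟩,
      Fin.lastCases ?_ fun j => ?_, Fin.lastCases ?_ fun j => ?_⟩
    · simp only [Fin.snoc_last]
      rw [mulVec_mulVec, (hSN.pow_right j').eq, ← mulVec_mulVec, hw, mulVec_smul]
    · simpa only [Fin.snoc_castSucc] using hv j
    · simp only [Fin.snoc_last]
      refine Submodule.span_mono ?_ hj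
      rintro _ ⟨l, rfl⟩
      exact ⟨l.castSucc, Fin.castSucc_lt_last l, by simp⟩
    · simp only [Fin.snoc_castSucc]
      refine Submodule.span_mono ?_ (hNv j)
      rintro _ ⟨l, hl, rfl⟩
      exact ⟨l.castSucc, by simpa using hl, by simp⟩

open Matrix in
/-- Simultaneous diagonalisation of `S` and strict triangularisation of `N`. -/
theorem exists_normalForm (k : Type u) [Field k] [IsAlgClosed k] {n : ℕ}
    (S N : Matrix (Fin n) (Fin n) k)
    (hS : Module.End.IsSemisimple (Matrix.toLin' S)) (hN : IsNilpotent N) (hSN : Commute S N) :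
    ∃ (P U : Matrix (Fin n) (Fin n) k) (d : Fin n → k), IsUnit P.det ∧
      (∀ i j, j ≤ i → U i j = 0) ∧ S = P * diagonal d * P⁻¹ ∧ N = P * U * P⁻¹ := by
  obtain ⟨v, μ, hind, hv, hNv⟩ := exists_basis k S N hS hN hSN n le_rfl
  set P : Matrix (Fin n) (Fin n) k := of fun i j => v j i with hP
  have hcol : ∀ j, P *ᵥ Pi.single j 1 = v j := fun j => by ext i; simp [hP]
  have hdet : IsUnit P.det :=
    (isUnit_iff_isUnit_det P).mp (linearIndependent_cols_iff_isUnit.mp hind)
  have hsingle : ∀ l, P⁻¹ *ᵥ v l = Pi.single l 1 := fun l => by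
    rw [← hcol, mulVec_mulVec, nonsing_inv_mul _ hdet, one_mulVec]
  refine ⟨P, P⁻¹ * N * P, μ, hdet, fun i j hij => ?_, ?_, ?_⟩
  · have key : ∀ w ∈ Submodule.span k {w | ∃ l, l < j ∧ w = v l}, (P⁻¹ *ᵥ w) i = 0 := by
      intro w hw
      induction hw using Submodule.span_induction with
      | mem y hy =>
        obtain ⟨l, hl, rfl⟩ := hy
        rw [hsingle, Pi.single_eq_of_ne (ne_of_gt (lt_of_lt_of_le hl hij))]
      | zero => simp
      | add _ _ _ _ h1 h2 => rw [mulVec_add, Pi.add_apply, h1, h2, add_zero]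
      | smul c y _ hy => rw [mulVec_smul, Pi.smul_apply, hy, smul_zero]
    have := key _ (hNv j)
    rw [← hcol j, mulVec_mulVec, mulVec_mulVec, mulVec_single_one] at this
    exact this
  · have h1 : S * P = P * diagonal μ := by
      refine Matrix.ext fun i j => ?_
      have := congrFun (hv j) i
      simp only [Pi.smul_apply, smul_eq_mul] at this
      rw [mul_diagonal, mul_comm]
      exact this
    rw [← h1, mul_nonsing_inv_cancel_right _ _ hdet]
  · rw [mul_assoc P⁻¹, mul_nonsing_inv_cancel_left _ _ hdet, mul_nonsing_inv_cancel_right _ _ hdet]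

open Matrix in
theorem exists_conj (k : Type u) [Field k] {n : ℕ} (P U : Matrix (Fin n) (Fin n) k) (d : Fin n → k)
    (hP : IsUnit P.det) (hU : ∀ i j, j ≤ i → U i j = 0) (t : k) (ht : t ≠ 0) :
    ∃ A : Matrix (Fin n) (Fin n) k, IsUnit A.det ∧
      A * (P * diagonal d * P⁻¹ + P * U * P⁻¹) * A⁻¹ =
        P * (diagonal d + of fun i j => t ^ (j.val - i.val) * U i j) * P⁻¹ := by
    let T : Matrix (Fin n) (Fin n) k := diagonal fun i => (t ^ i.val)⁻¹
    have hT : T * diagonal (fun i => t ^ i.val) = 1 := by
      simp only [T, diagonal_mul_diagonal]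
      rw [← diagonal_one]
      congr 1
      funext i
      exact inv_mul_cancel₀ (pow_ne_zero _ ht)
    have hTdet : IsUnit T.det := isUnit_det_of_right_inverse hT
    have hA : IsUnit (P * T * P⁻¹).det := by
      rw [det_mul, det_mul]
      exact (hP.mul hTdet).mul (isUnit_nonsing_inv_det _ hP)
    have hinv : (P * T * P⁻¹)⁻¹ = P * diagonal (fun i => t ^ i.val) * P⁻¹ := by
      refine inv_eq_right_inv ?_
      rw [mul_assoc (P * T), ← mul_assoc P⁻¹, nonsing_inv_mul_cancel_left _ _ hP, ← mul_assoc,
        mul_assoc P, hT, mul_one, mul_nonsing_inv _ hP]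
    have hmid : diagonal d + of (fun i j => t ^ (j.val - i.val) * U i j) =
        T * (diagonal d + U) * diagonal (fun i => t ^ i.val) := by
      ext i j
      simp only [T, mul_diagonal, diagonal_mul, Matrix.add_apply, of_apply]
      rcases eq_or_ne i j with rfl | hij
      · rw [hU i i le_rfl, diagonal_apply_eq, mul_zero, add_zero]
        field_simp
      · rw [diagonal_apply_ne _ hij, zero_add, zero_add]
        rcases le_or_gt j i with h | h
        · rw [hU i j h, mul_zero, mul_zero, zero_mul]
        · rw [← Nat.sub_add_cancel (le_of_lt (Fin.lt_def.mp h)), pow_add, Nat.add_sub_cancel]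
          field_simp
    refine ⟨P * T * P⁻¹, hA, ?_⟩
    rw [hinv, hmid]
    simp only [mul_add, add_mul, mul_assoc, nonsing_inv_mul_cancel_left _ _ hP]

open Matrix in
theorem eval_semisimplePart (k : Type u) [Field k] [IsAlgClosed k] {n : ℕ}
    (S N : Matrix (Fin n) (Fin n) k) (hS : Module.End.IsSemisimple (Matrix.toLin' S))
    (hN : IsNilpotent N) (hSN : Commute S N) (F : MvPolynomial (Fin n × Fin n) k)
    (hF : ∀ A : Matrix (Fin n) (Fin n) k, IsUnit A.det →
      MvPolynomial.eval (fun p => (A * (S + N) * A⁻¹) p.1 p.2) F = 0) :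
    MvPolynomial.eval (fun p => S p.1 p.2) F = 0 := by
  obtain ⟨P, U, d, hP, hU, rfl, rfl⟩ := exists_normalForm k S N hS hN hSN
  let M : k → Matrix (Fin n) (Fin n) k := fun t =>
    P * (diagonal d + of fun i j => t ^ (j.val - i.val) * U i j) * P⁻¹
  let Mp : Matrix (Fin n) (Fin n) (Polynomial k) :=
    P.map Polynomial.C * ((diagonal d).map Polynomial.C +
      of fun i j => Polynomial.X ^ (j.val - i.val) * Polynomial.C (U i j)) * P⁻¹.map Polynomial.C
  let g : Polynomial k := MvPolynomial.eval₂ Polynomial.C (fun p => Mp p.1 p.2) F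
  have hMp : ∀ (A : Matrix (Fin n) (Fin n) k) (t : k),
      (A.map Polynomial.C).map (Polynomial.evalRingHom t) = A := fun A t => by
    ext; simp
  have hg : ∀ t : k, g.eval t = MvPolynomial.eval (fun p => M t p.1 p.2) F := by
    intro t
    have h1 : Mp.map (Polynomial.evalRingHom t) = M t := by
      simp only [Mp, M, Matrix.map_mul, hMp]
      rw [Matrix.map_add _ (fun a b => map_add _ a b), hMp]
      congr 3
      ext i j
      simp only [map_apply, of_apply, Polynomial.coe_evalRingHom, Polynomial.eval_mul,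
        Polynomial.eval_pow, Polynomial.eval_X, Polynomial.eval_C]
    change Polynomial.evalRingHom t g = _
    rw [MvPolynomial.hom_eval₂, ← h1]
    have : (Polynomial.evalRingHom t).comp Polynomial.C = RingHom.id k := by ext; simp
    rw [this]
    rfl
  have hzero : ∀ t : k, t ≠ 0 → g.eval t = 0 := by
    intro t ht
    rw [hg]
    obtain ⟨A, hA, hAeq⟩ := exists_conj k P U d hP hU t ht
    have := hF A hA
    rw [hAeq] at this
    exact this
  have hg0 : g = 0 := by
    refine Polynomial.eq_zero_of_infinite_isRoot g ?_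
    refine Set.Infinite.mono (fun t ht => hzero t ht) ?_
    exact Set.Finite.infinite_compl (Set.finite_singleton 0)
  have := hg 0
  rw [hg0, Polynomial.eval_zero] at this
  rw [this]
  congr 2
  funext p
  congr 1
  have : of (fun i j => (0 : k) ^ (j.val - i.val) * U i j) = 0 := by
    ext i j
    rcases le_or_gt j i with h | h
    · simp [hU i j h]
    · simp [zero_pow (Nat.sub_ne_zero_of_lt (Fin.lt_def.mp h))]
  simp only [M, this, add_zero]

open Matrix in
theorem charpoly_eq (k : Type u) [Field k] [IsAlgClosed k] {n : ℕ}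
    (S N : Matrix (Fin n) (Fin n) k) (hS : Module.End.IsSemisimple (Matrix.toLin' S))
    (hN : IsNilpotent N) (hSN : Commute S N) :
    ∃ (P : Matrix (Fin n) (Fin n) k) (d : Fin n → k), IsUnit P.det ∧ S = P * diagonal d * P⁻¹ ∧
      (S + N).charpoly = ∏ i, (Polynomial.X - Polynomial.C (d i)) := by
  obtain ⟨P, U, d, hP, hU, rfl, rfl⟩ := exists_normalForm k S N hS hN hSN
  refine ⟨P, d, hP, rfl, ?_⟩
  rw [← add_mul, ← mul_add]
  rw [charpoly_mul_comm, nonsing_inv_mul_cancel_left _ _ hP, charpoly_of_isUpperTriangular]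
  · exact Finset.prod_congr rfl fun i _ => by simp [hU i i le_rfl]
  · intro i j hij
    have hlt : j < i := hij
    simp [hU i j hlt.le, diagonal_apply_ne _ hlt.ne']

/-- Over an algebraically closed field, the semisimple part of a square matrix B lies in the Zariski
closure of the orbit of B under conjugation by the general linear group. The semisimple part is
given as S with B = S + N, S semisimple, N nilpotent and SN = NS; membership in the Zariski closure
is spelled out as: every polynomial in the n² matrix entries vanishing at all conjugates A B A⁻¹ (A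
invertible) vanishes at S. -/
theorem result (k : Type u) [Field k] [IsAlgClosed k] (n : ℕ)
    (B S N : Matrix (Fin n) (Fin n) k) (hS : Module.End.IsSemisimple (Matrix.toLin' S))
    (hN : IsNilpotent N) (hSN : Commute S N) (hB : B = S + N)
    (F : MvPolynomial (Fin n × Fin n) k)
    (hF : ∀ A : Matrix (Fin n) (Fin n) k, IsUnit A.det →
      MvPolynomial.eval (fun p => (A * B * A⁻¹) p.1 p.2) F = 0) :
    MvPolynomial.eval (fun p => S p.1 p.2) F = 0 := by
  subst hB
  exact eval_semisimplePart k S N hS hN hSN F hF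

end Groth.Agent.S19394
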