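import Groth.Statements.S19395
import Groth.Agent.S19394

set_option autoImplicit false
universe u
open InvQ

namespace Groth.Agent.S19395

open Matrix in
theorem eval_univ_coeff (k : Type u) [CommRing k] (n : ℕ) (M : Matrix (Fin n) (Fin n) k) (i : ℕ) :
    MvPolynomial.eval (fun p => M p.1 p.2)
      ((mvPolynomialX (Fin n) (Fin n) k).charpoly.coeff i) = M.charpoly.coeff i := by
  have h1 : (mvPolynomialX (Fin n) (Fin n) k).map (MvPolynomial.eval fun p => M p.1 p.2) = M :=
    mvPolynomialX_mapMatrix_eval M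
  rw [← Polynomial.coeff_map, ← Matrix.charpoly_map, h1]

open Matrix in
theorem charpoly_eq_of_mem_closure (k : Type u) [Field k] (n : ℕ) (B C : Matrix (Fin n) (Fin n) k)
    (hC : ∀ F : MvPolynomial (Fin n × Fin n) k,
      (∀ A : Matrix (Fin n) (Fin n) k, IsUnit A.det →
        MvPolynomial.eval (fun p => (A * B * A⁻¹) p.1 p.2) F = 0) →
      MvPolynomial.eval (fun p => C p.1 p.2) F = 0) : C.charpoly = B.charpoly := by
  ext i
  have hev := fun M => eval_univ_coeff k n M i
  have := hC ((mvPolynomialX (Fin n) (Fin n) k).charpoly.coeff i - MvPolynomial.C (B.charpoly.coeff i))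
    fun A hA => by
      rw [map_sub, hev, MvPolynomial.eval_C, charpoly_mul_comm, nonsing_inv_mul_cancel_left _ _ hA,
        sub_self]
  rw [map_sub, hev, MvPolynomial.eval_C, sub_eq_zero] at this
  exact this

open Matrix in
theorem exists_conj_diagonal (k : Type u) [Field k] (n : ℕ) (d₁ d₂ : Fin n → k)
    (h : ∏ i, (Polynomial.X - Polynomial.C (d₁ i)) = ∏ i, (Polynomial.X - Polynomial.C (d₂ i))) :
    ∃ Q : Matrix (Fin n) (Fin n) k, IsUnit Q.det ∧ Q * diagonal d₁ * Q⁻¹ = diagonal d₂ := by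
  classical
  have hroots : (Finset.univ.val.map d₁) = Finset.univ.val.map d₂ := by
    have := congrArg Polynomial.roots h
    rw [Finset.prod, Finset.prod, ← Function.comp_def (fun a => Polynomial.X - Polynomial.C a) d₁,
      ← Function.comp_def (fun a => Polynomial.X - Polynomial.C a) d₂, ← Multiset.map_map,
      ← Multiset.map_map, Polynomial.roots_multiset_prod_X_sub_C,
      Polynomial.roots_multiset_prod_X_sub_C] at this
    exact this
  have hcard : ∀ c, Fintype.card {i // d₂ i = c} = Fintype.card {i // d₁ i = c} := fun c => by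
    have := congrArg (Multiset.count c) hroots
    simp only [Multiset.count_map] at this
    rw [Fintype.card_subtype, Fintype.card_subtype]
    simp only [eq_comm (a := c)] at this
    exact this.symm
  let e : Fin n ≃ Fin n := Equiv.ofFiberEquiv fun c => Fintype.equivOfCardEq (hcard c)
  have he : ∀ i, d₁ (e i) = d₂ i := Equiv.ofFiberEquiv_map _
  let Q : Matrix (Fin n) (Fin n) k := (1 : Matrix (Fin n) (Fin n) k).submatrix e id
  have hQ : Q * (1 : Matrix (Fin n) (Fin n) k).submatrix id e = 1 := by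
    rw [← submatrix_mul _ _ _ _ _ Function.bijective_id, one_mul, submatrix_one _ e.injective]
  refine ⟨Q, isUnit_det_of_right_inverse hQ, ?_⟩
  rw [inv_eq_right_inv hQ]
  have h2 : Q * diagonal d₁ = (diagonal d₁).submatrix e id := by
    rw [show diagonal d₁ = (diagonal d₁).submatrix id id from rfl,
      ← submatrix_mul _ _ _ _ _ Function.bijective_id, one_mul]
    rfl
  rw [h2, ← submatrix_mul _ _ _ _ _ Function.bijective_id, mul_one, submatrix_diagonal_equiv]
  exact congrArg diagonal (funext he)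

open Matrix in
theorem main (k : Type u) [Field k] [IsAlgClosed k]
    (n : ℕ) (S₁ N₁ S₂ N₂ : Matrix (Fin n) (Fin n) k)
    (hS₁ : Module.End.IsSemisimple (Matrix.toLin' S₁)) (hN₁ : IsNilpotent N₁) (hc₁ : Commute S₁ N₁)
    (hS₂ : Module.End.IsSemisimple (Matrix.toLin' S₂)) (hN₂ : IsNilpotent N₂) (hc₂ : Commute S₂ N₂) :
    (∃ C : Matrix (Fin n) (Fin n) k,
        (∀ F : MvPolynomial (Fin n × Fin n) k,
          (∀ A : Matrix (Fin n) (Fin n) k, IsUnit A.det →
            MvPolynomial.eval (fun p => (A * (S₁ + N₁) * A⁻¹) p.1 p.2) F = 0) →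
          MvPolynomial.eval (fun p => C p.1 p.2) F = 0) ∧
        (∀ F : MvPolynomial (Fin n × Fin n) k,
          (∀ A : Matrix (Fin n) (Fin n) k, IsUnit A.det →
            MvPolynomial.eval (fun p => (A * (S₂ + N₂) * A⁻¹) p.1 p.2) F = 0) →
          MvPolynomial.eval (fun p => C p.1 p.2) F = 0)) ↔
      ∃ A : Matrix (Fin n) (Fin n) k, IsUnit A.det ∧ A * S₁ * A⁻¹ = S₂ := by
  constructor
  · rintro ⟨C, h₁, h₂⟩
    obtain ⟨P₁, d₁, hP₁, hd₁, hc1⟩ := S19394.charpoly_eq k S₁ N₁ hS₁ hN₁ hc₁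
    obtain ⟨P₂, d₂, hP₂, hd₂, hc2⟩ := S19394.charpoly_eq k S₂ N₂ hS₂ hN₂ hc₂
    obtain ⟨Q, hQ, hQd⟩ := exists_conj_diagonal k n d₁ d₂ (by
      rw [← hc1, ← hc2, ← charpoly_eq_of_mem_closure k n _ C h₁,
        ← charpoly_eq_of_mem_closure k n _ C h₂])
    refine ⟨P₂ * Q * P₁⁻¹, ?_, ?_⟩
    · rw [det_mul, det_mul]; exact (hP₂.mul hQ).mul (isUnit_nonsing_inv_det _ hP₁)
    · rw [hd₁, hd₂, ← hQd, Matrix.mul_inv_rev, Matrix.mul_inv_rev, nonsing_inv_nonsing_inv _ hP₁]
      simp only [mul_assoc, nonsing_inv_mul_cancel_left _ _ hP₁]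
  · rintro ⟨A₀, hA₀, hA₀S⟩
    refine ⟨S₂, fun F hF => ?_, fun F hF => S19394.eval_semisimplePart k S₂ N₂ hS₂ hN₂ hc₂ F hF⟩
    refine S19394.eval_semisimplePart k S₂ (A₀ * N₁ * A₀⁻¹) hS₂ ?_ ?_ F fun A hA => ?_
    · obtain ⟨j, hj⟩ := hN₁
      refine ⟨j, ?_⟩
      let Q : (Matrix (Fin n) (Fin n) k)ˣ :=
        ⟨A₀, A₀⁻¹, mul_nonsing_inv _ hA₀, nonsing_inv_mul _ hA₀⟩
      have := Q.conj_pow N₁ j
      rw [hj, mul_zero, zero_mul] at this
      exact this
    · rw [← hA₀S, commute_iff_eq]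
      simp only [mul_assoc, nonsing_inv_mul_cancel_left _ _ hA₀]
      rw [← mul_assoc S₁, hc₁.eq, mul_assoc]
    · have := hF (A * A₀) (by rw [det_mul]; exact hA.mul hA₀)
      rw [Matrix.mul_inv_rev] at this
      rw [← hA₀S]
      simp only [mul_add, add_mul, mul_assoc] at this ⊢
      exact this

/-- Over an algebraically closed field, the Zariski closures of the conjugation orbits of two square
matrices B₁, B₂ meet if and only if their semisimple parts lie in one orbit. The semisimple parts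
are given as S_i with B_i = S_i + N_i, S_i semisimple, N_i nilpotent, S_i N_i = N_i S_i; a common
point of the two closures is a matrix C at which every polynomial in the matrix entries vanishing on
the whole orbit of B₁, and every one vanishing on the whole orbit of B₂, vanishes. -/
theorem result (k : Type u) [Field k] [IsAlgClosed k]
    (n : ℕ) (B₁ S₁ N₁ B₂ S₂ N₂ : Matrix (Fin n) (Fin n) k)
    (hS₁ : Module.End.IsSemisimple (Matrix.toLin' S₁)) (hN₁ : IsNilpotent N₁) (hc₁ : Commute S₁ N₁)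
    (hB₁ : B₁ = S₁ + N₁)
    (hS₂ : Module.End.IsSemisimple (Matrix.toLin' S₂)) (hN₂ : IsNilpotent N₂) (hc₂ : Commute S₂ N₂)
    (hB₂ : B₂ = S₂ + N₂) :
    (∃ C : Matrix (Fin n) (Fin n) k,
        (∀ F : MvPolynomial (Fin n × Fin n) k,
          (∀ A : Matrix (Fin n) (Fin n) k, IsUnit A.det →
            MvPolynomial.eval (fun p => (A * B₁ * A⁻¹) p.1 p.2) F = 0) →
          MvPolynomial.eval (fun p => C p.1 p.2) F = 0) ∧
        (∀ F : MvPolynomial (Fin n × Fin n) k,
          (∀ A : Matrix (Fin n) (Fin n) k, IsUnit A.det →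
            MvPolynomial.eval (fun p => (A * B₂ * A⁻¹) p.1 p.2) F = 0) →
          MvPolynomial.eval (fun p => C p.1 p.2) F = 0)) ↔
      ∃ A : Matrix (Fin n) (Fin n) k, IsUnit A.det ∧ A * S₁ * A⁻¹ = S₂ := by
  subst hB₁ hB₂
  exact main k n S₁ N₁ S₂ N₂ hS₁ hN₁ hc₁ hS₂ hN₂ hc₂

end Groth.Agent.S19395
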