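import Groth.Statements.S19402
import Groth.Agent.Comod.LunaEtale
import Groth.Agent.RegLoc.Basic
import Mathlib.RingTheory.Invariant.Basic
import Mathlib.RingTheory.Adjoin.Tower
import Mathlib.RingTheory.LocalRing.ResidueField.Ideal

set_option autoImplicit false
universe u v w
open scoped Pointwise
open GLin

namespace Groth.Agent.S19402

/-- Let k be an algebraically closed field of characteristic zero, R a finitely generated commutative
k-algebra which is an integrally closed domain (a normal irreducible affine variety X), and G a
finite group acting faithfully on R by k-algebra automorphisms. Let B be a commutative k-algebra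
with an injective algebra map B → R, compatible with the k-structures and G-invariant, whose image
is exactly the subring of G-invariants (so Spec R → Spec B is the quotient morphism X → X/G). Then
for a maximal ideal m of R (a closed point x of X), R is étale over B at m (the local ring R_m is
formally étale over B) if and only if the stabilizer of m in G is trivial. -/
theorem result (k : Type u) [Field k] [IsAlgClosed k] [CharZero k]
    (R : Type v) [CommRing R] [IsDomain R] [IsIntegrallyClosed R] [Algebra k R] [Algebra.FiniteType k R]
    (G : Type w) [Group G] [Finite G] [MulSemiringAction G R] [FaithfulSMul G R] [SMulCommClass G k R]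
    (B : Type v) [CommRing B] [Algebra k B] [Algebra B R] [IsScalarTower k B R] [FaithfulSMul B R]
    [SMulCommClass G B R] [Algebra.IsInvariant B R G]
    (m : Ideal R) [m.IsMaximal] :
    Algebra.IsEtaleAt B m ↔ MulAction.stabilizer G m = ⊥ := by
  classical
  have : Fintype G := Fintype.ofFinite G
  have : Algebra.FiniteType B R := Algebra.FiniteType.of_restrictScalars_finiteType k B R
  have : Algebra.IsIntegral B R := Algebra.IsInvariant.isIntegral B R G
  have : Module.Finite B R := Algebra.IsIntegral.finite
  have hBR : Function.Injective (algebraMap B R) := FaithfulSMul.algebraMap_injective B R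
  have hBft : Algebra.FiniteType k B := ⟨fg_of_fg_of_fg k B R Algebra.FiniteType.out Module.Finite.fg_top hBR⟩
  have : IsNoetherianRing B := Algebra.FiniteType.isNoetherianRing k B
  have : IsNoetherianRing R := Algebra.FiniteType.isNoetherianRing k R
  have : IsDomain B := hBR.isDomain
  have : Algebra.FinitePresentation B R := Algebra.FinitePresentation.of_finiteType.1 inferInstance
  set n := m.comap (algebraMap B R) with hn
  have : m.LiesOver n := ⟨rfl⟩
  let _ := Localization.AtPrime.algebraOfLiesOver n m
  -- the point
  let _ : Field (R ⧸ m) := Ideal.Quotient.field m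
  have : Module.Finite k (R ⧸ m) := finite_of_finite_type_of_isJacobsonRing k (R ⧸ m)
  have hx : ∀ r : R, ∃ c : k, r - algebraMap k R c ∈ m := fun r => by
    obtain ⟨c, hc⟩ := (IsAlgClosed.algebraMap_bijective_of_isIntegral (k := k) (K := R ⧸ m)).2 (Ideal.Quotient.mk m r)
    exact ⟨c, Ideal.Quotient.eq.1 hc.symm⟩
  constructor
  · intro het
    have hun : Algebra.FormallyUnramified B (Localization.AtPrime m) := inferInstance
    have hmap := ((Algebra.isUnramifiedAt_iff_map_eq B n m).1 hun).2
    refine (Subgroup.eq_bot_iff_forall _).2 fun g hg => FaithfulSMul.eq_of_smul_eq_smul (α := R) fun r => ?_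
    rw [one_smul]
    have hgm : ∀ a ∈ m, g • a ∈ m := fun a ha => by
      have h := Ideal.smul_mem_pointwise_smul g a m ha
      rwa [show g • m = m from hg] at h
    let Rm := Localization.AtPrime m
    -- `r ∈ B + n ^ j R` up to a denominator
    have key : ∀ j : ℕ, ∃ (b : B) (u : R) (w : R), u ∉ m ∧ w ∈ (n ^ j).map (algebraMap B R) ∧
        u * r = u * algebraMap B R b + w := by
      intro j
      induction j with
      | zero => exact ⟨0, 1, r, fun h => Ideal.IsPrime.ne_top' ((Ideal.eq_top_iff_one m).2 h),
          by rw [pow_zero, Ideal.one_eq_top, Ideal.map_top]; trivial, by simp⟩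
      | succ j ih =>
        obtain ⟨b, u, w, hu, hw, huw⟩ := ih
        have step : ∀ w ∈ (n ^ j).map (algebraMap B R), ∃ (b : B) (v : R), v ∉ m ∧
            v * (w - u * algebraMap B R b) ∈ (n ^ (j + 1)).map (algebraMap B R) := by
          intro w hw
          have hden : ∀ a ∈ m, ∃ v : R, v ∉ m ∧ v * a ∈ n.map (algebraMap B R) := by
            intro a ha
            have h1 : algebraMap R Rm a ∈ (n.map (algebraMap B R)).map (algebraMap R Rm) := by
              rw [Ideal.map_map, ← IsScalarTower.algebraMap_eq, hmap, ← Localization.AtPrime.map_eq_maximalIdeal]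
              exact Ideal.mem_map_of_mem _ ha
            obtain ⟨⟨⟨p, hp⟩, v⟩, hv⟩ := (IsLocalization.mem_map_algebraMap_iff m.primeCompl Rm).1 h1
            rw [← map_mul, IsLocalization.eq_iff_exists m.primeCompl] at hv
            obtain ⟨v', hv'⟩ := hv
            refine ⟨(v' : R) * v, m.primeCompl.mul_mem v'.2 v.2, ?_⟩
            rw [mul_assoc, mul_comm (v : R), hv']
            exact Ideal.mul_mem_left _ _ hp
          induction hw using Submodule.span_induction with
          | mem a ha =>
            obtain ⟨t, ht, rfl⟩ := ha
            -- scale the generator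
            obtain ⟨c, hc⟩ := hx u
            have hc0 : c ≠ 0 := fun h => hu (by simpa [h] using hc)
            have hscal : algebraMap k R c⁻¹ * u - 1 ∈ m := by
              have h2 := m.mul_mem_left (algebraMap k R c⁻¹) hc
              rwa [mul_sub, ← map_mul, inv_mul_cancel₀ hc0, map_one] at h2
            obtain ⟨v, hv, hva⟩ := hden _ hscal
            refine ⟨algebraMap k B c⁻¹ * t, v, hv, ?_⟩
            rw [map_mul, ← IsScalarTower.algebraMap_apply k B R,
              show v * (algebraMap B R t - u * (algebraMap k R c⁻¹ * algebraMap B R t)) =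
                -(algebraMap B R t * (v * (algebraMap k R c⁻¹ * u - 1))) by ring]
            refine neg_mem ?_
            rw [pow_succ, Ideal.map_mul]
            exact Ideal.mul_mem_mul (Ideal.mem_map_of_mem _ ht) hva
          | zero => exact ⟨0, 1, fun h => Ideal.IsPrime.ne_top' ((Ideal.eq_top_iff_one m).2 h), by simp⟩
          | add p q _ _ hp hq =>
            obtain ⟨b, v, hv, h⟩ := hp
            obtain ⟨b', v', hv', h'⟩ := hq
            refine ⟨b + b', v * v', fun h0 => (Ideal.IsPrime.mem_or_mem' h0).elim hv hv', ?_⟩
            rw [map_add, show v * v' * (p + q - u * (algebraMap B R b + algebraMap B R b')) =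
              v' * (v * (p - u * algebraMap B R b)) + v * (v' * (q - u * algebraMap B R b')) by ring]
            exact add_mem (Ideal.mul_mem_left _ _ h) (Ideal.mul_mem_left _ _ h')
          | smul a p hp' hp =>
            obtain ⟨b, v, hv, h⟩ := hp
            obtain ⟨c, hc⟩ := hx a
            obtain ⟨v', hv', hva⟩ := hden _ hc
            refine ⟨algebraMap k B c * b, v * v', fun h0 => (Ideal.IsPrime.mem_or_mem' h0).elim hv hv', ?_⟩
            rw [map_mul, ← IsScalarTower.algebraMap_apply k B R, smul_eq_mul,
              show v * v' * (a * p - u * (algebraMap k R c * algebraMap B R b)) =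
                v * (p * (v' * (a - algebraMap k R c))) + algebraMap k R c * v' * (v * (p - u * algebraMap B R b)) by ring]
            refine add_mem (Ideal.mul_mem_left _ _ ?_) (Ideal.mul_mem_left _ _ h)
            rw [pow_succ, Ideal.map_mul]
            exact Ideal.mul_mem_mul hp' hva
        obtain ⟨b', v, hv, h⟩ := step w hw
        refine ⟨b + b', v * u, v * (w - u * algebraMap B R b'), fun h0 => (Ideal.IsPrime.mem_or_mem' h0).elim hv hu, h, ?_⟩
        rw [map_add, mul_assoc, huw]
        ring
    -- Krull
    have hmem : ∀ j : ℕ, algebraMap R Rm (g • r - r) ∈ (IsLocalRing.maximalIdeal Rm) ^ j := by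
      intro j
      obtain ⟨b, u, w, hu, hw, huw⟩ := key j
      have hu' : g • u ∉ m := fun h => hu (by
        have h' := Ideal.smul_mem_pointwise_smul g⁻¹ _ m h
        rwa [inv_smul_smul, show g⁻¹ • m = m from inv_mem hg] at h')
      have hinv : ∀ t ∈ (n ^ j).map (algebraMap B R), g • t ∈ (n ^ j).map (algebraMap B R) := by
        intro t ht
        induction ht using Submodule.span_induction with
        | mem a ha =>
          obtain ⟨t, ht, rfl⟩ := ha
          rw [show g • algebraMap B R t = algebraMap B R t from smul_algebraMap g t]
          exact Ideal.mem_map_of_mem _ ht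
        | zero => simp
        | add a b _ _ ha hb => rw [smul_add]; exact add_mem ha hb
        | smul c a _ ha => rw [smul_eq_mul, smul_mul']; exact Ideal.mul_mem_left _ _ ha
      have h2 : (u * g • u) * (g • r - r) ∈ (n ^ j).map (algebraMap B R) := by
        have e : g • u * g • r = g • u * algebraMap B R b + g • w := by
          rw [← smul_mul', huw, smul_add, smul_mul', show g • algebraMap B R b = algebraMap B R b from smul_algebraMap g b]
        rw [show (u * g • u) * (g • r - r) = u * (g • u * g • r) - g • u * (u * r) by ring, e, huw,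
          show u * (g • u * algebraMap B R b + g • w) - g • u * (u * algebraMap B R b + w) =
            u * g • w - g • u * w by ring]
        exact sub_mem (Ideal.mul_mem_left _ _ (hinv w hw)) (Ideal.mul_mem_left _ _ hw)
      have h3 := Ideal.mem_map_of_mem (algebraMap R Rm) h2
      rw [map_mul, Ideal.map_map, ← IsScalarTower.algebraMap_eq, Ideal.map_pow, hmap] at h3
      exact (Ideal.unit_mul_mem_iff_mem _ (IsLocalization.map_units Rm
        (⟨u * g • u, m.primeCompl.mul_mem hu hu'⟩ : m.primeCompl))).1 h3
    have h0 : algebraMap R Rm (g • r - r) ∈ (⊥ : Ideal Rm) := by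
      rw [← Ideal.iInf_pow_eq_bot_of_isLocalRing (IsLocalRing.maximalIdeal Rm) (Ideal.IsPrime.ne_top')]
      exact (Submodule.mem_iInf _).2 hmem
    exact sub_eq_zero.1 (IsLocalization.injective Rm m.primeCompl_le_nonZeroDivisors
      ((Ideal.mem_bot.1 h0).trans (map_zero _).symm))
  · intro hstab
    -- a function equal to one at the point, zero at its translates
    obtain ⟨f, hf1, hf0⟩ : ∃ f : R, f - 1 ∈ m ∧ ∀ g : G, g ≠ 1 → g • f ∈ m := by
      let J : Ideal R := ⨅ g ∈ Finset.univ.filter (fun g : G => g ≠ 1), g⁻¹ • m
      have hJ : ¬ J ≤ m := by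
        intro hle
        have h' : (Finset.univ.filter (fun g : G => g ≠ 1)).inf (fun g : G => g⁻¹ • m) ≤ m := by
          rwa [Finset.inf_eq_iInf]
        obtain ⟨g, hg, hgm⟩ := (Ideal.IsPrime.inf_le' inferInstance).1 h'
        have hmax : (g⁻¹ • m).IsMaximal := by
          rw [Ideal.pointwise_smul_eq_comap]
          exact Ideal.comap_isMaximal_of_surjective _ (MulSemiringAction.toRingEquiv G R g⁻¹).symm.surjective
        have h1 : g⁻¹ • m = m := hmax.eq_of_le (Ideal.IsMaximal.ne_top ‹_›) hgm
        have : g⁻¹ ∈ MulAction.stabilizer G m := h1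
        rw [hstab, Subgroup.mem_bot, inv_eq_one] at this
        exact (Finset.mem_filter.1 hg).2 this
      have htop : J ⊔ m = ⊤ := (inferInstance : m.IsMaximal).out.2 _ (lt_of_le_of_ne le_sup_right fun h => hJ (h ▸ le_sup_left))
      obtain ⟨f, hf, e, he, hfe⟩ := Submodule.mem_sup.1 (htop ▸ Submodule.mem_top : (1 : R) ∈ J ⊔ m)
      refine ⟨f, by rw [← hfe, sub_add_cancel_left]; exact neg_mem he, fun g hg => ?_⟩
      have h := Ideal.smul_mem_pointwise_smul g f _ ((Submodule.mem_iInf _).1 ((Submodule.mem_iInf _).1 hf g)
        (Finset.mem_filter.2 ⟨Finset.mem_univ _, hg⟩))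
      rwa [smul_inv_smul] at h
    have hle : m ≤ n.map (algebraMap B R) ⊔ m ^ 2 := by
      intro c hc
      obtain ⟨b, hb⟩ := Algebra.IsInvariant.isInvariant (A := B) (G := G) (∑ g : G, g • (c * f ^ 2)) fun g => by
        rw [Finset.smul_sum]
        exact Fintype.sum_equiv (Equiv.mulLeft g) _ _ fun h => by rw [Equiv.coe_mulLeft, ← mul_smul]
      have h1 : algebraMap B R b - c ∈ m ^ 2 := by
        rw [hb, ← Finset.sum_erase_add _ _ (Finset.mem_univ (1 : G)), one_smul, add_sub_assoc]
        refine add_mem (Submodule.sum_mem _ fun g hg => ?_) ?_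
        · rw [smul_mul', smul_pow']
          exact Ideal.mul_mem_left _ _ (Ideal.pow_mem_pow (hf0 g (Finset.ne_of_mem_erase hg)) 2)
        · rw [show c * f ^ 2 - c = c * ((f - 1) * (f + 1)) by ring, pow_two]
          exact Ideal.mul_mem_mul hc (Ideal.mul_mem_right _ _ hf1)
      have hbn : b ∈ n := by
        have := add_mem (Ideal.pow_le_self two_ne_zero h1) hc
        simpa [hn] using this
      rw [show c = algebraMap B R b - (algebraMap B R b - c) by ring]
      exact sub_mem (Submodule.mem_sup_left (Ideal.mem_map_of_mem _ hbn)) (Submodule.mem_sup_right h1)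
    have hsurjres : Function.Surjective (algebraMap n.ResidueField m.ResidueField) := by
      intro z
      obtain ⟨q, rfl⟩ := Ideal.bijective_algebraMap_quotient_residueField m |>.2 z
      obtain ⟨r, rfl⟩ := Ideal.Quotient.mk_surjective q
      obtain ⟨c, hc⟩ := hx r
      refine ⟨algebraMap B n.ResidueField (algebraMap k B c), ?_⟩
      rw [← IsScalarTower.algebraMap_apply B n.ResidueField m.ResidueField,
        IsScalarTower.algebraMap_apply B R m.ResidueField, ← IsScalarTower.algebraMap_apply k B R,
        ← Ideal.Quotient.algebraMap_eq, ← IsScalarTower.algebraMap_apply R (R ⧸ m) m.ResidueField]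
      have := Ideal.algebraMap_residueField_eq_zero.2 hc
      rw [map_sub, sub_eq_zero] at this
      exact this.symm
    have hunr : Algebra.IsUnramifiedAt B m := by
      refine (Algebra.isUnramifiedAt_iff_map_eq B n m).2 ⟨?_, ?_⟩
      · exact AlgEquiv.Algebra.isSeparable (AlgEquiv.ofBijective (Algebra.ofId n.ResidueField m.ResidueField)
          ⟨(algebraMap n.ResidueField m.ResidueField).injective, hsurjres⟩)
      · refine RegLoc.eq_maximalIdeal_of_le_sup_sq ?_ ?_
        · rw [← Localization.AtPrime.map_eq_maximalIdeal, IsScalarTower.algebraMap_eq B R, ← Ideal.map_map]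
          exact Ideal.map_mono Ideal.map_comap_le
        · have h := Ideal.map_mono (f := algebraMap R (Localization.AtPrime m)) hle
          rwa [Ideal.map_sup, Ideal.map_pow, Localization.AtPrime.map_eq_maximalIdeal, Ideal.map_map,
            ← IsScalarTower.algebraMap_eq] at h
    have : IsIntegrallyClosed B := by
      refine (isIntegrallyClosed_iff (FractionRing B)).2 fun {z} hz => ?_
      obtain ⟨a, b, hb, rfl⟩ := IsFractionRing.div_surjective (A := B) z
      have hb0 : algebraMap B R b ≠ 0 := (map_ne_zero_iff _ hBR).2 (nonZeroDivisors.ne_zero hb)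
      let ι : FractionRing B →+* FractionRing R :=
        IsFractionRing.lift (A := B) (g := (algebraMap R (FractionRing R)).comp (algebraMap B R))
          ((IsFractionRing.injective R (FractionRing R)).comp hBR)
      have hι : ∀ c : B, ι (algebraMap B (FractionRing B) c) = algebraMap R (FractionRing R) (algebraMap B R c) :=
        fun c => IsFractionRing.lift_algebraMap _ c
      have hint := _root_.IsIntegral.map_of_comp_eq (algebraMap B R) ι (RingHom.ext fun c => (hι c).symm) hz
      obtain ⟨s, hs⟩ := IsIntegrallyClosed.isIntegral_iff.1 hint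
      rw [map_div₀, hι, hι, eq_div_iff ((map_ne_zero_iff _ (IsFractionRing.injective R (FractionRing R))).2 hb0),
        ← map_mul] at hs
      have hs' : s * algebraMap B R b = algebraMap B R a := IsFractionRing.injective R (FractionRing R) hs
      obtain ⟨s₀, rfl⟩ := Algebra.IsInvariant.isInvariant (A := B) (G := G) s fun g => by
        refine mul_right_cancel₀ hb0 ?_
        conv_rhs => rw [hs', ← smul_algebraMap g a, ← hs', smul_mul', show g • algebraMap B R b = algebraMap B R b from smul_algebraMap g b]
      refine ⟨s₀, (eq_div_iff ((map_ne_zero_iff _ (IsFractionRing.injective B (FractionRing B))).2 (nonZeroDivisors.ne_zero hb))).2 ?_⟩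
      rw [← map_mul]
      exact congrArg _ (hBR (by rw [map_mul]; exact hs'))
    have : IsIntegrallyClosed (Localization.AtPrime n) :=
      isIntegrallyClosed_of_isLocalization (Localization.AtPrime n) n.primeCompl n.primeCompl_le_nonZeroDivisors
    have : IsDomain (Localization.AtPrime n) := IsLocalization.isDomain_localization n.primeCompl_le_nonZeroDivisors
    have hinj' : Function.Injective (Localization.localRingHom n m (algebraMap B R) (m.over_def n)) :=
      IsLocalization.map_injective_of_injective' _ _ _ _ (fun h => h m.zero_mem) hBR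
    obtain ⟨g, hg, hget⟩ := S2136.result m n (Comod.isGeomUnibranch_of_normal _) hinj'
    exact Algebra.basicOpen_subset_etaleLocus_iff_etale.2 hget
      (show (⟨m, inferInstance⟩ : PrimeSpectrum R) ∈ PrimeSpectrum.basicOpen g from hg)

end Groth.Agent.S19402
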