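import Groth.Statements.S19404
import Groth.Agent.Comod.SliceMain

set_option autoImplicit false
universe u
open TensorProduct
open GLin

namespace Groth.Agent.S19404

/-- Let k be an algebraically closed field of characteristic zero, A a finitely generated commutative
Hopf algebra over k which is an integral domain and all of whose finite-dimensional comodules are
semisimple (a connected reductive group G), R a reduced finitely generated commutative k-algebra
with a multiplicative A-coaction (G acting on the affine variety X = Spec R), and x a k-point of X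
whose orbit is closed. Then there is a G-invariant function f on X with f(x) ≠ 0 (so the
non-vanishing locus X_f is a saturated open neighbourhood of x) such that for every k-point x' of X
with f(x') ≠ 0 whose orbit is closed there is a k-point g of G with the stabilizer ideal of x
contained in the stabilizer ideal of the translate of x' by g: the stabilizer of x' is conjugate to
a subgroup of the stabilizer of x. (The published statement allows any reductive G; the argument in
the source is complete for connected G, which is assumed here.) -/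
theorem result (k : Type u) [Field k] [IsAlgClosed k] [CharZero k]
    (A : Type u) [CommRing A] [IsDomain A] [HopfAlgebra k A] [Algebra.FiniteType k A] (hG : HopfRep.IsLinearlyReductive k A)
    (R : Type u) [CommRing R] [IsReduced R] [Algebra k R] [Algebra.FiniteType k R] [HopfRep.Comod k A R] [GLin.IsCoactAlg k A R]
    (x : R →ₐ[k] k) (hx : GLin.IsClosedOrbit k A x) :
    ∃ f ∈ GLin.invariants k A R, x f ≠ 0 ∧
      ∀ x' : R →ₐ[k] k, x' f ≠ 0 → GLin.IsClosedOrbit k A x' →
        ∃ g : A →ₐ[k] k, GLin.stabIdeal k A x ≤ GLin.stabIdeal k A (GLin.actPt k g x') := by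
  classical
  obtain ⟨α, hα⟩ := Comod.exists_integral_of_linRed hG
  obtain ⟨t, ht⟩ := Algebra.FiniteType.out (R := k) (A := R)
  obtain ⟨U, hfin, htU, hU⟩ := Comod.exists_finite_subcomod (k := k) (A := A) t
  haveI : Module.Finite k U := hfin
  letI cU := ComodSub.Comod.restr ‹HopfRep.Comod k A R› U hU
  have hs : Hoch.IsComodHom A U.subtype := by
    exact (ComodSub.rTensor_subtype_comp_restrCoact (c := _) (W := U) (hW := hU)).symm
  let b := (Module.finBasis k U).reindex (Equiv.ulift.{u, 0}.symm)
  let ι : Type u := ULift.{u, 0} (Fin (Module.finrank k U))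
  let a : ι → ι → A := Comod.mat A b
  have ha : Comod.IsMat k a := Comod.isMat_mat b
  letI cK : HopfRep.Comod k A k := HopfRep.Comod.trivial k A k
  haveI : GLin.IsCoactAlg k A k := ⟨rfl, fun c d => by
    change (c * d) ⊗ₜ[k] (1 : A) = (c ⊗ₜ[k] (1 : A)) * (d ⊗ₜ[k] (1 : A))
    rw [Algebra.TensorProduct.tmul_mul_tmul, one_mul]⟩
  letI cS : HopfRep.Comod k A (MvPolynomial ι k) := Comod.polyComod k ha
  haveI : GLin.IsCoactAlg k A (MvPolynomial ι k) :=
    ⟨map_one (Comod.polyCoact k a), map_mul (Comod.polyCoact k a)⟩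
  have hX : ∀ j, HopfRep.Comod.coact (k := k) (A := A) (MvPolynomial.X j : MvPolynomial ι k) =
      ∑ i, (MvPolynomial.X i : MvPolynomial ι k) ⊗ₜ[k] a i j := fun j => Comod.polyCoact_X k a j
  let Φ : MvPolynomial ι k →ₐ[k] R := MvPolynomial.aeval fun i => (b i : R)
  have hΦ : Hoch.IsComodHom A Φ.toLinearMap := by
    have key : (GLin.coactAlgHom k A R).comp Φ =
        (Algebra.TensorProduct.map Φ (AlgHom.id k A)).comp (GLin.coactAlgHom k A (MvPolynomial ι k)) := by
      refine MvPolynomial.algHom_ext fun j => ?_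
      simp only [AlgHom.comp_apply, GLin.coactAlgHom_apply, hX, map_sum, Φ, MvPolynomial.aeval_X]
      have h1 := LinearMap.congr_fun hs (b j)
      simp only [LinearMap.comp_apply, Submodule.subtype_apply, Comod.coact_basis, map_sum,
        LinearMap.rTensor_tmul] at h1
      rw [h1]
      simp [a]
      exact Finset.sum_congr (by ext; simp) fun i _ => rfl
    refine LinearMap.ext fun z => (AlgHom.congr_fun key z).trans ?_
    rw [AlgHom.comp_apply, GLin.coactAlgHom_apply]
    change _ = Φ.toLinearMap.rTensor A _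
    induction HopfRep.Comod.coact (k := k) (A := A) z using TensorProduct.induction_on with
    | zero => simp
    | add p q hp hq => simp only [map_add, hp, hq]
    | tmul p q => simp
  have hsurj : Function.Surjective Φ := by
    intro r
    have hr : r ∈ Algebra.adjoin k (t : Set R) := ht ▸ Algebra.mem_top
    refine Algebra.adjoin_induction (fun z hz => ?_) (fun c => ⟨MvPolynomial.C c, by simp [Φ]⟩)
      (fun p q _ _ hp hq => ?_) (fun p q _ _ hp hq => ?_) hr
    · refine ⟨∑ i, b.repr ⟨z, htU hz⟩ i • MvPolynomial.X i, ?_⟩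
      have h := congrArg (fun u : U => (u : R)) (b.sum_repr ⟨z, htU hz⟩)
      simp only [Submodule.coe_sum, Submodule.coe_smul] at h
      simp only [map_sum, map_smul, Φ, MvPolynomial.aeval_X]
      exact h
    · obtain ⟨p', rfl⟩ := hp; obtain ⟨q', rfl⟩ := hq; exact ⟨p' + q', map_add _ _ _⟩
    · obtain ⟨p', rfl⟩ := hp; obtain ⟨q', rfl⟩ := hq; exact ⟨p' * q', map_mul _ _ _⟩
  have hx₀ : GLin.IsClosedOrbit k A (x.comp Φ) :=
    Comod.isClosedOrbit_comp hΦ (RingHom.IsIntegral.of_finite (RingHom.Finite.of_surjective Φ.toRingHom hsurj)) x hx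
  obtain ⟨g, hg, hxg, hgv⟩ := Comod.SliceMain.exists_nhd hα ha hX (x.comp Φ) hx₀
  refine ⟨Φ g, ?_, hxg, fun x' hx' _ => ?_⟩
  · have h := LinearMap.congr_fun hΦ g
    simp only [LinearMap.comp_apply, AlgHom.toLinearMap_apply] at h
    rw [GLin.mem_invariants_iff, h, (GLin.mem_invariants_iff k A (MvPolynomial ι k) g).1 hg, LinearMap.rTensor_tmul]
    rfl
  obtain ⟨c, hc⟩ := hgv (x'.comp Φ) hx'
  refine ⟨c, Ideal.map_le_iff_le_comap.2 fun r hr => ?_⟩
  obtain ⟨G, rfl⟩ := hsurj r
  have h1 : GLin.orbitHom k A (x.comp Φ) G ∈ GLin.stabIdeal k A (x.comp Φ) :=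
    Ideal.mem_map_of_mem _ (RingHom.mem_ker.2 (RingHom.mem_ker.1 hr))
  have hle : GLin.stabIdeal k A (GLin.actPt k c (x'.comp Φ)) ≤ GLin.stabIdeal k A (GLin.actPt k c x') := by
    refine Ideal.map_le_iff_le_comap.2 fun s hs => ?_
    have e : GLin.actPt k c (x'.comp Φ) = (GLin.actPt k c x').comp Φ :=
      AlgHom.ext fun s => (congrArg c (Comod.orbitHom_comp hΦ x' s)).symm
    rw [e] at hs ⊢
    rw [Ideal.mem_comap, ← Comod.orbitHom_comp hΦ]
    exact Ideal.mem_map_of_mem _ (RingHom.mem_ker.2 (RingHom.mem_ker.1 hs))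
  rw [Ideal.mem_comap, Comod.orbitHom_comp hΦ]
  exact hle (hc h1)

end Groth.Agent.S19404
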