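import Groth.Statements.S19405
import Groth.Agent.Comod.LunaEtale
import Groth.Agent.RegLoc.Basic

set_option autoImplicit false
universe u
open TensorProduct
open GLin

namespace Groth.Agent.S19405

/-- Let k be an algebraically closed field of characteristic zero, A a finitely generated commutative
Hopf algebra over k which is an integral domain and all of whose finite-dimensional comodules are
semisimple (a connected reductive group G), S and R finitely generated commutative k-algebras which
are integrally closed domains, with multiplicative A-coactions (G acting on the normal irreducible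
affine varieties Y = Spec S and X = Spec R), and S → R an algebra map compatible with the coactions
(a G-morphism θ : X → Y) which is finite. Let S₀ → S and R₀ → R be injective k-algebra maps whose
images are exactly the subrings of invariants, and S₀ → R₀ an algebra map with S₀ → R₀ → R equal to
S₀ → S → R (the induced morphism θ/G : X//G → Y//G). Let x be a k-point of X whose orbit is closed,
m its kernel (a maximal ideal of R), suppose R is étale over S at m (θ étale at x), and suppose
every k-point of G fixing the image point θ(x) fixes x (θ is injective on the orbit of x). Then R₀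
is étale over S₀ at the prime of R₀ under the kernel of x (θ/G is étale at the image of x in X//G).
(The published statement allows any reductive G and normal X, Y; the argument given is for connected
G and irreducible X, Y, assumed here.) -/
theorem result (k : Type u) [Field k] [IsAlgClosed k] [CharZero k]
    (A : Type u) [CommRing A] [IsDomain A] [HopfAlgebra k A] [Algebra.FiniteType k A] (hG : HopfRep.IsLinearlyReductive k A)
    (S : Type u) [CommRing S] [IsDomain S] [IsIntegrallyClosed S] [Algebra k S] [Algebra.FiniteType k S]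
    [HopfRep.Comod k A S] [GLin.IsCoactAlg k A S]
    (R : Type u) [CommRing R] [IsDomain R] [IsIntegrallyClosed R] [Algebra k R] [Algebra.FiniteType k R]
    [HopfRep.Comod k A R] [GLin.IsCoactAlg k A R]
    [Algebra S R] [IsScalarTower k S R] [Module.Finite S R]
    (hequiv : (∀ s : S, HopfRep.Comod.coact (k := k) (A := A) (algebraMap S R s) =
      Algebra.TensorProduct.map (IsScalarTower.toAlgHom k S R) (AlgHom.id k A) (HopfRep.Comod.coact (k := k) (A := A) s)))
    (S₀ : Type u) [CommRing S₀] [Algebra k S₀] [Algebra S₀ S] [IsScalarTower k S₀ S]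
    (hS₀i : Function.Injective (algebraMap S₀ S)) (hS₀ : (IsScalarTower.toAlgHom k S₀ S).range = GLin.invariants k A S)
    (R₀ : Type u) [CommRing R₀] [Algebra k R₀] [Algebra R₀ R] [IsScalarTower k R₀ R]
    (hR₀i : Function.Injective (algebraMap R₀ R)) (hR₀ : (IsScalarTower.toAlgHom k R₀ R).range = GLin.invariants k A R)
    [Algebra S₀ R₀] [Algebra S₀ R] [IsScalarTower S₀ S R] [IsScalarTower S₀ R₀ R]
    (x : R →ₐ[k] k) (hx : GLin.IsClosedOrbit k A x) (m : Ideal R) [m.IsMaximal] (hm : m = RingHom.ker x.toRingHom)
    (het : Algebra.IsEtaleAt S m)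
    (hinj : ∀ g : A →ₐ[k] k, GLin.actPt k g (x.comp (IsScalarTower.toAlgHom k S R)) = x.comp (IsScalarTower.toAlgHom k S R) →
      GLin.actPt k g x = x) :
    Algebra.IsEtaleAt S₀ (Ideal.comap (algebraMap R₀ R) m) := by
  classical
  obtain ⟨α, hα⟩ := Comod.exists_integral_of_linRed hG
  have hθ : Hoch.IsComodHom A (IsScalarTower.toAlgHom k S R).toLinearMap := LinearMap.ext fun s => hequiv s
  have : m.IsPrime := Ideal.IsMaximal.isPrime inferInstance
  have : Algebra.FormallyUnramified S (Localization.AtPrime m) := inferInstance
  have hsurj := fun r => Comod.range_orbit_le hθ x hx hinj r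
  have hsq := Comod.ker_le_map_sup_sq hθ x hx hsurj m hm
  have hkey := Comod.maximal_eq_map_sup_sq hα hθ x hx (Comod.exists_approx x hsurj hsq) S₀ hS₀ R₀ hR₀i hR₀ m hm
  -- ring theoretic properties of the invariants
  let eR : R₀ ≃ₐ[k] GLin.invariants k A R :=
    (AlgEquiv.ofInjective (IsScalarTower.toAlgHom k R₀ R) hR₀i).trans (Subalgebra.equivOfEq _ _ hR₀)
  let eS : S₀ ≃ₐ[k] GLin.invariants k A S :=
    (AlgEquiv.ofInjective (IsScalarTower.toAlgHom k S₀ S) hS₀i).trans (Subalgebra.equivOfEq _ _ hS₀)
  have : IsDomain R₀ := hR₀i.isDomain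
  have : IsDomain S₀ := hS₀i.isDomain
  have : Algebra.FiniteType k (GLin.invariants k A R) := Comod.invariants_finiteType hα
  have : Algebra.FiniteType k (GLin.invariants k A S) := Comod.invariants_finiteType hα
  have hR0ft : Algebra.FiniteType k R₀ := Algebra.FiniteType.equiv inferInstance eR.symm
  have hS0ft : Algebra.FiniteType k S₀ := Algebra.FiniteType.equiv inferInstance eS.symm
  have : IsScalarTower k S₀ R₀ := IsScalarTower.of_algebraMap_eq fun c => hR₀i (by
    rw [← IsScalarTower.algebraMap_apply k R₀ R, ← IsScalarTower.algebraMap_apply S₀ R₀ R,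
      IsScalarTower.algebraMap_apply S₀ S R, ← IsScalarTower.algebraMap_apply k S₀ S,
      ← IsScalarTower.algebraMap_apply k S R])
  have : Algebra.FiniteType S₀ R₀ := Algebra.FiniteType.of_restrictScalars_finiteType k S₀ R₀
  have : IsNoetherianRing R₀ := Algebra.FiniteType.isNoetherianRing k R₀
  set m₀ := m.comap (algebraMap R₀ R) with hm₀
  set n₀ := m₀.comap (algebraMap S₀ R₀) with hn₀
  have : m₀.LiesOver n₀ := ⟨rfl⟩
  let _ := Localization.AtPrime.algebraOfLiesOver n₀ m₀
  -- residue fields are `k`
  have hres : ∀ r : R₀, r - algebraMap k R₀ (x (algebraMap R₀ R r)) ∈ m₀ := fun r => by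
    change algebraMap R₀ R _ ∈ m
    subst hm
    rw [RingHom.mem_ker, map_sub, ← IsScalarTower.algebraMap_apply k R₀ R]
    simp
  have hsurjres : Function.Surjective (algebraMap n₀.ResidueField m₀.ResidueField) := by
    intro z
    obtain ⟨a, b, hb, rfl⟩ : ∃ a b : R₀, b ∉ m₀ ∧ z = algebraMap R₀ m₀.ResidueField a / algebraMap R₀ m₀.ResidueField b := by
      obtain ⟨z, rfl⟩ := IsLocalRing.residue_surjective z
      obtain ⟨⟨a, b⟩, rfl⟩ := IsLocalization.mk'_surjective m₀.primeCompl z
      refine ⟨a, b, b.2, ?_⟩
      rw [eq_div_iff (fun h => b.2 (Ideal.algebraMap_residueField_eq_zero.1 h))]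
      change IsLocalRing.residue _ _ * IsLocalRing.residue _ _ = IsLocalRing.residue _ _
      rw [← map_mul, IsLocalization.mk'_spec]
    have hk : ∀ r : R₀, algebraMap R₀ m₀.ResidueField r ∈ (algebraMap n₀.ResidueField m₀.ResidueField).range := fun r => by
      refine ⟨algebraMap S₀ n₀.ResidueField (algebraMap k S₀ (x (algebraMap R₀ R r))), ?_⟩
      rw [← IsScalarTower.algebraMap_apply S₀ n₀.ResidueField m₀.ResidueField,
        IsScalarTower.algebraMap_apply S₀ R₀ m₀.ResidueField, ← IsScalarTower.algebraMap_apply k S₀ R₀]
      have := Ideal.algebraMap_residueField_eq_zero.2 (hres r)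
      rw [map_sub, sub_eq_zero] at this
      exact this.symm
    obtain ⟨p, hp⟩ := hk a
    obtain ⟨q, hq⟩ := hk b
    exact ⟨p / q, by rw [map_div₀, hp, hq]⟩
  have hunr : Algebra.IsUnramifiedAt S₀ m₀ := by
    refine (Algebra.isUnramifiedAt_iff_map_eq S₀ n₀ m₀).2 ⟨?_, ?_⟩
    · let e : n₀.ResidueField ≃ₐ[n₀.ResidueField] m₀.ResidueField :=
        AlgEquiv.ofBijective (Algebra.ofId n₀.ResidueField m₀.ResidueField)
          ⟨(algebraMap n₀.ResidueField m₀.ResidueField).injective, hsurjres⟩
      exact AlgEquiv.Algebra.isSeparable e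
    · refine RegLoc.eq_maximalIdeal_of_le_sup_sq ?_ ?_
      · rw [← Localization.AtPrime.map_eq_maximalIdeal, IsScalarTower.algebraMap_eq S₀ R₀, ← Ideal.map_map]
        exact Ideal.map_mono Ideal.map_comap_le
      · have h := Ideal.map_mono (f := algebraMap R₀ (Localization.AtPrime m₀)) hkey
        rwa [Ideal.map_sup, Ideal.map_pow, Localization.AtPrime.map_eq_maximalIdeal, Ideal.map_map,
          ← IsScalarTower.algebraMap_eq] at h
  -- normality of the invariants below
  have hinvS : IsIntegrallyClosed (GLin.invariants k A S) := Comod.invariants_isIntegrallyClosed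
  have : IsNoetherianRing S₀ := Algebra.FiniteType.isNoetherianRing k S₀
  have : Algebra.FinitePresentation S₀ R₀ := Algebra.FinitePresentation.of_finiteType.1 inferInstance
  have : IsIntegrallyClosed S₀ := IsIntegrallyClosed.of_equiv eS.symm.toRingEquiv
  have : IsIntegrallyClosed (Localization.AtPrime n₀) :=
    isIntegrallyClosed_of_isLocalization (Localization.AtPrime n₀) n₀.primeCompl n₀.primeCompl_le_nonZeroDivisors
  have : IsDomain (Localization.AtPrime n₀) :=
    IsLocalization.isDomain_localization n₀.primeCompl_le_nonZeroDivisors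
  have hS0R0 : Function.Injective (algebraMap S₀ R₀) := by
    -- `S → R` is injective: it is flat at `m`
    have : IsNoetherianRing S := Algebra.FiniteType.isNoetherianRing k S
    have : Algebra.FinitePresentation S R := Algebra.FinitePresentation.of_finiteType.1 inferInstance
    obtain ⟨f, hfm, hfet⟩ := Algebra.exists_etale_of_isEtaleAt (R := S) m
    have hf0 : f ≠ 0 := fun h => hfm (h ▸ m.zero_mem)
    have : Nontrivial (Localization.Away f) :=
      (IsLocalization.injective (Localization.Away f) (powers_le_nonZeroDivisors_of_noZeroDivisors hf0)).nontrivial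
    have hSR : Function.Injective (algebraMap S R) := by
      rw [injective_iff_map_eq_zero]
      intro s hs
      by_contra hs0
      have hreg : IsSMulRegular S s := fun a b h => mul_left_cancel₀ hs0 (by simpa using h)
      have h1 := (hreg.of_flat (S := Localization.Away f))
      refine one_ne_zero (α := Localization.Away f) (h1 ?_)
      simp [IsScalarTower.algebraMap_apply S R (Localization.Away f), hs]
    intro a b h
    refine hS₀i (hSR ?_)
    rw [← IsScalarTower.algebraMap_apply S₀ S R, ← IsScalarTower.algebraMap_apply S₀ S R,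
      IsScalarTower.algebraMap_apply S₀ R₀ R, IsScalarTower.algebraMap_apply S₀ R₀ R, h]
  have hinj' : Function.Injective (Localization.localRingHom n₀ m₀ (algebraMap S₀ R₀) (m₀.over_def n₀)) :=
    IsLocalization.map_injective_of_injective' _ _ _ _ (fun h => h m₀.zero_mem) hS0R0
  obtain ⟨g, hg, hget⟩ := S2136.result m₀ n₀ (Comod.isGeomUnibranch_of_normal _) hinj'
  exact Algebra.basicOpen_subset_etaleLocus_iff_etale.2 hget (show (⟨m₀, inferInstance⟩ : PrimeSpectrum R₀) ∈ PrimeSpectrum.basicOpen g from hg)

end Groth.Agent.S19405
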