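import Groth.Statements.S19406
import Groth.Agent.Comod.SemiInv

set_option autoImplicit false
universe u
open TensorProduct
open GLin

namespace Groth.Agent.S19406

/-- Let k be an algebraically closed field of characteristic zero, A a finitely generated commutative
Hopf algebra over k which is an integral domain and all of whose finite-dimensional comodules are
semisimple (a connected reductive group G), R a reduced finitely generated commutative k-algebra
with a multiplicative A-coaction (G acting on the affine variety X = Spec R), and χ a group-like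
element of A (a character of G). Then there is a set E of G-invariant functions on X such that, for
every k-point x of X whose orbit is closed, χ − 1 lies in the stabilizer ideal of x (χ is trivial on
the stabilizer of x) if and only if some member of E does not vanish at x: the set of points of X//G
over which the closed orbit has stabilizer on which χ is trivial is open. (The published statement
allows any reductive G; this row assumes G connected, the case the source's argument covers.) -/
theorem result (k : Type u) [Field k] [IsAlgClosed k] [CharZero k]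
    (A : Type u) [CommRing A] [IsDomain A] [HopfAlgebra k A] [Algebra.FiniteType k A] (hG : HopfRep.IsLinearlyReductive k A)
    (R : Type u) [CommRing R] [IsReduced R] [Algebra k R] [Algebra.FiniteType k R] [HopfRep.Comod k A R] [GLin.IsCoactAlg k A R]
    (χ : A) (hχ : IsGroupLikeElem k χ) :
    ∃ E : Set R, E ⊆ GLin.invariants k A R ∧
      ∀ x : R →ₐ[k] k, GLin.IsClosedOrbit k A x →
        (χ - 1 ∈ GLin.stabIdeal k A x ↔ ∃ f ∈ E, x f ≠ 0) := by
  obtain ⟨α, hα⟩ := Comod.exists_integral_of_linRed hG
  have hinv : χ * HopfAlgebra.antipode k χ = 1 := IsGroupLikeElem.mul_antipode_cancel hχ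
  have hχ' : IsGroupLikeElem k (HopfAlgebra.antipode k χ) := hχ.antipode
  refine ⟨{f | ∃ s t : R, HopfRep.Comod.coact (k := k) (A := A) s = s ⊗ₜ[k] χ ∧
    HopfRep.Comod.coact (k := k) (A := A) t = t ⊗ₜ[k] HopfAlgebra.antipode k χ ∧ f = s * t}, ?_, fun x hx => ?_⟩
  · rintro _ ⟨s, t, hs, ht, rfl⟩
    change HopfRep.Comod.coact (k := k) (A := A) (s * t) = (s * t) ⊗ₜ[k] (1 : A)
    rw [GLin.IsCoactAlg.coact_mul, hs, ht, Algebra.TensorProduct.tmul_mul_tmul, hinv]
  constructor
  · intro h
    -- semi-invariants of weight `χ` take the value one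
    have lift : ∀ {θ θ' : A}, IsGroupLikeElem k θ → IsGroupLikeElem k θ' → θ' * θ = 1 →
        θ - 1 ∈ GLin.stabIdeal k A x →
        ∃ s : R, HopfRep.Comod.coact (k := k) (A := A) s = s ⊗ₜ[k] θ ∧ x s = 1 := by
      intro θ θ' hθ hθ' hmul hmem
      exact Comod.exists_semiInvariant hα x hθ hθ' hmul (Comod.mem_range_orbitHom x hx hθ hmem)
    have h' : HopfAlgebra.antipode k χ - 1 ∈ GLin.stabIdeal k A x := by
      have : HopfAlgebra.antipode k χ - 1 = -HopfAlgebra.antipode k χ * (χ - 1) := by
        linear_combination hinv
      rw [this]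
      exact Ideal.mul_mem_left _ _ h
    obtain ⟨s, hs, hs1⟩ := lift hχ hχ' (by rw [mul_comm, hinv]) h
    obtain ⟨t, ht, ht1⟩ := lift hχ' hχ hinv h'
    exact ⟨s * t, ⟨s, t, hs, ht, rfl⟩, by rw [map_mul, hs1, ht1, mul_one]; exact one_ne_zero⟩
  · rintro ⟨_, ⟨s, t, hs, -, rfl⟩, hne⟩
    rw [map_mul] at hne
    have hs0 := left_ne_zero_of_mul hne
    have ho : GLin.orbitHom k A x s = x s • χ := by
      rw [Comod.orbitHom_apply_eq, hs]
      simp
    have : χ - 1 = (x s)⁻¹ • GLin.orbitHom k A x (s - algebraMap k R (x s)) := by
      rw [map_sub, AlgHom.commutes, ho, Algebra.algebraMap_eq_smul_one, smul_sub, inv_smul_smul₀ hs0,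
        inv_smul_smul₀ hs0]
    rw [this]
    exact Submodule.smul_of_tower_mem _ _ (Ideal.mem_map_of_mem _ (by simp [RingHom.mem_ker]))

end Groth.Agent.S19406
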