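import Groth.Statements.S19407
import Groth.Agent.Comod.LunaReduce
import Groth.Agent.Comod.LunaSpread

set_option autoImplicit false
universe u
open TensorProduct
open GLin

namespace Groth.Agent.S19407

/-- With explicit neighbourhoods: let k be an algebraically closed field of characteristic zero, A a
finitely generated commutative Hopf algebra over k which is an integral domain and all of whose
finite-dimensional comodules are semisimple (a connected reductive group G), S and R reduced
finitely generated commutative k-algebras with multiplicative A-coactions (G acting on the affine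
varieties Y = Spec S and X = Spec R), S → R an algebra map compatible with the coactions (a
G-morphism θ : X → Y), S₀ → S and R₀ → R injective k-algebra maps whose images are exactly the
subrings of invariants, and S₀ → R₀ an algebra map with S₀ → R₀ → R equal to S₀ → S → R (the
morphism θ/G : X//G → Y//G). Let x be a k-point of X with kernel m such that the local ring of R at
m is an integrally closed domain (X normal at x), R is étale over S at m (θ étale at x), the orbit
of the image point θ(x) is closed, and every k-point of G fixing θ(x) fixes x (θ injective on the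
orbit of x). Then there are f ∈ R₀ and g ∈ S₀ with f and g non-vanishing at x such that, writing h
for the image of f·g in R (so that U = X_h is a saturated affine open neighbourhood of x and V = Y_g
a saturated affine open of Y): every prime of S not containing g is the contraction of a prime of R
not containing h (θ maps U onto V); R is étale over S at every prime not containing h; every k-point
of U with closed orbit maps to a point with closed orbit; R₀ is étale over S₀ at every prime not
containing f·g (θ/G étale on U//G); and the canonical map S ⊗_{S₀} R₀ → R has every element of its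
kernel killed by a power of f·g and every element of R multiplied into its image by a power of h (it
becomes an isomorphism over U//G, i.e. U ≅ V ×_{V//G} U//G): the restriction of θ to U is a strongly
étale G-morphism onto V. (The published statement allows any reductive G; the argument in the source
is complete for connected G, assumed here.) -/
theorem result (k : Type u) [Field k] [IsAlgClosed k] [CharZero k]
    (A : Type u) [CommRing A] [IsDomain A] [HopfAlgebra k A] [Algebra.FiniteType k A] (hG : HopfRep.IsLinearlyReductive k A)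
    (S : Type u) [CommRing S] [IsReduced S] [Algebra k S] [Algebra.FiniteType k S] [HopfRep.Comod k A S] [GLin.IsCoactAlg k A S]
    (R : Type u) [CommRing R] [IsReduced R] [Algebra k R] [Algebra.FiniteType k R] [HopfRep.Comod k A R] [GLin.IsCoactAlg k A R]
    [Algebra S R] [IsScalarTower k S R]
    (hequiv : (∀ s : S, HopfRep.Comod.coact (k := k) (A := A) (algebraMap S R s) =
      Algebra.TensorProduct.map (IsScalarTower.toAlgHom k S R) (AlgHom.id k A) (HopfRep.Comod.coact (k := k) (A := A) s)))
    (S₀ : Type u) [CommRing S₀] [Algebra k S₀] [Algebra S₀ S] [IsScalarTower k S₀ S]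
    (hS₀i : Function.Injective (algebraMap S₀ S)) (hS₀ : (IsScalarTower.toAlgHom k S₀ S).range = GLin.invariants k A S)
    (R₀ : Type u) [CommRing R₀] [Algebra k R₀] [Algebra R₀ R] [IsScalarTower k R₀ R]
    (hR₀i : Function.Injective (algebraMap R₀ R)) (hR₀ : (IsScalarTower.toAlgHom k R₀ R).range = GLin.invariants k A R)
    [Algebra S₀ R₀] [Algebra S₀ R] [IsScalarTower S₀ S R] [IsScalarTower S₀ R₀ R]
    (x : R →ₐ[k] k) (m : Ideal R) [m.IsMaximal] (hm : m = RingHom.ker x.toRingHom)
    [IsDomain (Localization.AtPrime m)] [IsIntegrallyClosed (Localization.AtPrime m)]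
    (het : Algebra.IsEtaleAt S m)
    (hy : GLin.IsClosedOrbit k A (x.comp (IsScalarTower.toAlgHom k S R)))
    (hinj : ∀ g : A →ₐ[k] k, GLin.actPt k g (x.comp (IsScalarTower.toAlgHom k S R)) = x.comp (IsScalarTower.toAlgHom k S R) →
      GLin.actPt k g x = x) :
    ∃ (f : R₀) (g : S₀), x (algebraMap R₀ R (f * algebraMap S₀ R₀ g)) ≠ 0 ∧
      (∀ P : Ideal S, P.IsPrime → algebraMap S₀ S g ∉ P →
        ∃ Q : Ideal R, Q.IsPrime ∧ algebraMap R₀ R (f * algebraMap S₀ R₀ g) ∉ Q ∧ Q.comap (algebraMap S R) = P) ∧
      (∀ (Q : Ideal R) [Q.IsPrime], algebraMap R₀ R (f * algebraMap S₀ R₀ g) ∉ Q → Algebra.IsEtaleAt S Q) ∧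
      (∀ x' : R →ₐ[k] k, x' (algebraMap R₀ R (f * algebraMap S₀ R₀ g)) ≠ 0 → GLin.IsClosedOrbit k A x' →
        GLin.IsClosedOrbit k A (x'.comp (IsScalarTower.toAlgHom k S R))) ∧
      (∀ (q : Ideal R₀) [q.IsPrime], f * algebraMap S₀ R₀ g ∉ q → Algebra.IsEtaleAt S₀ q) ∧
      (∀ z : S ⊗[S₀] R₀, Algebra.TensorProduct.productMap (IsScalarTower.toAlgHom S₀ S R) (IsScalarTower.toAlgHom S₀ R₀ R) z = 0 →
        ∃ n : ℕ, ((1 : S) ⊗ₜ[S₀] (f * algebraMap S₀ R₀ g)) ^ n * z = 0) ∧
      (∀ r : R, ∃ (n : ℕ) (z : S ⊗[S₀] R₀),
        Algebra.TensorProduct.productMap (IsScalarTower.toAlgHom S₀ S R) (IsScalarTower.toAlgHom S₀ R₀ R) z =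
          algebraMap R₀ R (f * algebraMap S₀ R₀ g) ^ n * r) := by
  classical
  obtain ⟨α, hα⟩ := Comod.exists_integral_of_linRed hG
  have hθ : Hoch.IsComodHom A (IsScalarTower.toAlgHom k S R).toLinearMap :=
    LinearMap.ext fun s => by
      rw [LinearMap.comp_apply, LinearMap.comp_apply]
      refine (hequiv s).trans ?_
      induction HopfRep.Comod.coact (k := k) (A := A) s using TensorProduct.induction_on with
      | zero => simp
      | add p q hp hq => simp only [map_add, hp, hq]
      | tmul p a => simp
  obtain ⟨f, hf, hfet, hker, hsur⟩ :=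
    Comod.LunaReduce.exists_local hα hequiv hS₀i hS₀ hR₀i hR₀ x m hm het hy hinj
  have := Comod.LunaFund.isScalarTower_invariants (k := k) (S := S) (R := R) (S₀ := S₀) hR₀i
  let eR : R₀ ≃ₐ[k] GLin.invariants k A R :=
    (AlgEquiv.ofInjective (IsScalarTower.toAlgHom k R₀ R) hR₀i).trans (Subalgebra.equivOfEq _ _ hR₀)
  let eS : S₀ ≃ₐ[k] GLin.invariants k A S :=
    (AlgEquiv.ofInjective (IsScalarTower.toAlgHom k S₀ S) hS₀i).trans (Subalgebra.equivOfEq _ _ hS₀)
  have : Algebra.FiniteType k (GLin.invariants k A R) := Comod.invariants_finiteType hα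
  have : Algebra.FiniteType k (GLin.invariants k A S) := Comod.invariants_finiteType hα
  have : Algebra.FiniteType k R₀ := Algebra.FiniteType.equiv inferInstance eR.symm
  have : Algebra.FiniteType k S₀ := Algebra.FiniteType.equiv inferInstance eS.symm
  have : Algebra.FiniteType S₀ R₀ := Algebra.FiniteType.of_restrictScalars_finiteType k S₀ R₀
  have : Algebra.FiniteType S R := Algebra.FiniteType.of_restrictScalars_finiteType k S R
  have : IsNoetherianRing S₀ := Algebra.FiniteType.isNoetherianRing k S₀
  have : IsNoetherianRing S := Algebra.FiniteType.isNoetherianRing k S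
  have : Algebra.FinitePresentation S₀ R₀ := Algebra.FinitePresentation.of_finiteType.1 inferInstance
  have : Algebra.FinitePresentation S R := Algebra.FinitePresentation.of_finiteType.1 inferInstance
  let q₀ : PrimeSpectrum R₀ :=
    ⟨RingHom.ker (x.comp (IsScalarTower.toAlgHom k R₀ R)).toRingHom, RingHom.ker_isPrime _⟩
  obtain ⟨g, hg, h1, h2, h4, h5, h6⟩ :=
    Comod.LunaSpread.exists_base f q₀ (fun h => hf (RingHom.mem_ker.1 h)) hfet hker hsur
  refine ⟨f, g, ?_, h1, h2, fun x' hx' hc => ?_, h4, h5, h6⟩
  · rw [map_mul, map_mul]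
    exact mul_ne_zero hf fun h => hg (RingHom.mem_ker.2 h)
  · exact Comod.LunaSpread.isClosedOrbit_image hθ (f * algebraMap S₀ R₀ g)
      (fun e => (hR₀ ▸ (⟨e, rfl⟩ : algebraMap R₀ R e ∈ (IsScalarTower.toAlgHom k R₀ R).range) :
        algebraMap R₀ R e ∈ GLin.invariants k A R)) h6 x' hx' hc

end Groth.Agent.S19407
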