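import Groth.Statements.S19408
import Groth.Agent.Comod.Orbit

set_option autoImplicit false
universe u
open TensorProduct
open GLin

namespace Groth.Agent.S19408

/-- Let k be an algebraically closed field of characteristic zero, A a finitely generated commutative
Hopf algebra over k all of whose finite-dimensional comodules are semisimple (a reductive group G),
S and R finitely generated commutative k-algebras with multiplicative A-coactions (G acting on
affine Y = Spec S and X = Spec R), S → R an algebra map compatible with the coactions (a G-morphism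
θ : X → Y), S₀ → S and R₀ → R injective k-algebra maps whose images are the subrings of invariants,
and S₀ → R₀ an algebra map with S₀ → R₀ → R equal to S₀ → S → R (θ/G). Suppose R is étale over S, R₀
is étale over S₀, and the canonical map S ⊗_{S₀} R₀ → R is bijective (θ and θ/G étale and X ≅ Y
×_{Y//G} X//G). Let J be an ideal of S which is a subcomodule (Y' = V(J) a closed G-invariant
subscheme), let S/J and R/JR carry A-coactions for which the quotient maps are compatible with the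
coactions (the induced actions on Y' and X' = Y' ×_Y X), and let S₁ → S/J and R₁ → R/JR be injective
k-algebra maps whose images are the subrings of invariants, with S₁ → R₁ an algebra map such that S₁
→ R₁ → R/JR equals S₁ → S/J → R/JR. Then R/JR is étale over S/J, R₁ is étale over S₁, and the
canonical map (S/J) ⊗_{S₁} R₁ → R/JR is bijective (θ' : X' → Y' and θ'/G are étale and X' ≅ Y'
×_{Y'//G} X'//G). -/
theorem result (k : Type u) [Field k] [IsAlgClosed k] [CharZero k]
    (A : Type u) [CommRing A] [HopfAlgebra k A] [Algebra.FiniteType k A] (hG : HopfRep.IsLinearlyReductive k A)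
    (S : Type u) [CommRing S] [Algebra k S] [Algebra.FiniteType k S] [HopfRep.Comod k A S] [GLin.IsCoactAlg k A S]
    (R : Type u) [CommRing R] [Algebra k R] [Algebra.FiniteType k R] [HopfRep.Comod k A R] [GLin.IsCoactAlg k A R]
    [Algebra S R] [IsScalarTower k S R]
    (hequiv : (∀ s : S, HopfRep.Comod.coact (k := k) (A := A) (algebraMap S R s) =
      Algebra.TensorProduct.map (IsScalarTower.toAlgHom k S R) (AlgHom.id k A) (HopfRep.Comod.coact (k := k) (A := A) s)))
    (S₀ : Type u) [CommRing S₀] [Algebra k S₀] [Algebra S₀ S] [IsScalarTower k S₀ S]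
    (hS₀i : Function.Injective (algebraMap S₀ S)) (hS₀ : (IsScalarTower.toAlgHom k S₀ S).range = GLin.invariants k A S)
    (R₀ : Type u) [CommRing R₀] [Algebra k R₀] [Algebra R₀ R] [IsScalarTower k R₀ R]
    (hR₀i : Function.Injective (algebraMap R₀ R)) (hR₀ : (IsScalarTower.toAlgHom k R₀ R).range = GLin.invariants k A R)
    [Algebra S₀ R₀] [Algebra S₀ R] [IsScalarTower S₀ S R] [IsScalarTower S₀ R₀ R]
    (het : Algebra.Etale S R) (het₀ : Algebra.Etale S₀ R₀)
    (hcart : Function.Bijective (Algebra.TensorProduct.productMap (IsScalarTower.toAlgHom S₀ S R) (IsScalarTower.toAlgHom S₀ R₀ R)))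
    (J : Ideal S) (hJ : HopfRep.IsSubcomod (k := k) (A := A) (J.restrictScalars k))
    [HopfRep.Comod k A (S ⧸ J)] [GLin.IsCoactAlg k A (S ⧸ J)]
    (hqS : (∀ s : S, HopfRep.Comod.coact (k := k) (A := A) ((Ideal.Quotient.mkₐ k J) s) =
        Algebra.TensorProduct.map (Ideal.Quotient.mkₐ k J) (AlgHom.id k A) (HopfRep.Comod.coact (k := k) (A := A) s)))
    [HopfRep.Comod k A (R ⧸ J.map (algebraMap S R))] [GLin.IsCoactAlg k A (R ⧸ J.map (algebraMap S R))]
    (hqR : (∀ s : R, HopfRep.Comod.coact (k := k) (A := A) ((Ideal.Quotient.mkₐ k (J.map (algebraMap S R))) s) =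
        Algebra.TensorProduct.map (Ideal.Quotient.mkₐ k (J.map (algebraMap S R))) (AlgHom.id k A) (HopfRep.Comod.coact (k := k) (A := A) s)))
    (S₁ : Type u) [CommRing S₁] [Algebra k S₁] [Algebra S₁ (S ⧸ J)] [IsScalarTower k S₁ (S ⧸ J)]
    (hS₁i : Function.Injective (algebraMap S₁ (S ⧸ J)))
    (hS₁ : (IsScalarTower.toAlgHom k S₁ (S ⧸ J)).range = GLin.invariants k A (S ⧸ J))
    (R₁ : Type u) [CommRing R₁] [Algebra k R₁] [Algebra R₁ (R ⧸ J.map (algebraMap S R))] [IsScalarTower k R₁ (R ⧸ J.map (algebraMap S R))]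
    (hR₁i : Function.Injective (algebraMap R₁ (R ⧸ J.map (algebraMap S R))))
    (hR₁ : (IsScalarTower.toAlgHom k R₁ (R ⧸ J.map (algebraMap S R))).range = GLin.invariants k A (R ⧸ J.map (algebraMap S R)))
    [Algebra S₁ R₁] [Algebra S₁ (R ⧸ J.map (algebraMap S R))]
    [IsScalarTower S₁ (S ⧸ J) (R ⧸ J.map (algebraMap S R))] [IsScalarTower S₁ R₁ (R ⧸ J.map (algebraMap S R))] :
    Algebra.Etale (S ⧸ J) (R ⧸ J.map (algebraMap S R)) ∧ Algebra.Etale S₁ R₁ ∧
      Function.Bijective (Algebra.TensorProduct.productMap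
        (IsScalarTower.toAlgHom S₁ (S ⧸ J) (R ⧸ J.map (algebraMap S R)))
        (IsScalarTower.toAlgHom S₁ R₁ (R ⧸ J.map (algebraMap S R)))) := by
  classical
  obtain ⟨α, hα⟩ := Comod.exists_integral_of_linRed hG
  have hθ : Hoch.IsComodHom A (IsScalarTower.toAlgHom k S R).toLinearMap := LinearMap.ext fun s => hequiv s
  have hpS : Hoch.IsComodHom A (Ideal.Quotient.mkₐ k J).toLinearMap := LinearMap.ext fun s => hqS s
  have hpR : Hoch.IsComodHom A (Ideal.Quotient.mkₐ k (J.map (algebraMap S R))).toLinearMap := LinearMap.ext fun s => hqR s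
  have : Algebra.Etale S R := het
  have : Algebra.Etale S₀ R₀ := het₀
  -- the closed subscheme
  have hetJ : Algebra.Etale (S ⧸ J) (R ⧸ (J.map (algebraMap S R))) := by
    let f : (S ⧸ J) ⊗[S] R →ₐ[S ⧸ J] R ⧸ (J.map (algebraMap S R)) :=
      Algebra.TensorProduct.lift (Algebra.ofId (S ⧸ J) (R ⧸ (J.map (algebraMap S R)))) (Ideal.Quotient.mkₐ S (J.map (algebraMap S R))) (fun _ _ => Commute.all _ _)
    have hsurj : ∀ t : (S ⧸ J) ⊗[S] R, ∃ r : R, t = 1 ⊗ₜ[S] r := by
      intro t
      induction t using TensorProduct.induction_on with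
      | zero => exact ⟨0, by simp⟩
      | tmul a r =>
        obtain ⟨s, rfl⟩ := Ideal.Quotient.mk_surjective a
        exact ⟨s • r, by rw [← TensorProduct.smul_tmul]; congr 1; simp [Algebra.smul_def]⟩
      | add y z hy hz =>
        obtain ⟨r, rfl⟩ := hy
        obtain ⟨r', rfl⟩ := hz
        exact ⟨r + r', by rw [TensorProduct.tmul_add]⟩
    have hbij : Function.Bijective f := by
      refine ⟨(injective_iff_map_eq_zero f).2 fun t ht => ?_, fun y => ?_⟩
      · obtain ⟨r, rfl⟩ := hsurj t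
        simp only [f, Algebra.TensorProduct.lift_tmul, map_one, one_mul] at ht
        have hr : r ∈ (J.map (algebraMap S R)) := Ideal.Quotient.eq_zero_iff_mem.1 ht
        have hle : (J.map (algebraMap S R)) ≤ RingHom.ker (Algebra.TensorProduct.includeRight : R →ₐ[S] (S ⧸ J) ⊗[S] R).toRingHom := by
          refine Ideal.map_le_iff_le_comap.2 fun j hj => ?_
          change (1 : S ⧸ J) ⊗ₜ[S] algebraMap S R j = 0
          rw [Algebra.algebraMap_eq_smul_one, TensorProduct.tmul_smul, TensorProduct.smul_tmul',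
            ← Algebra.algebraMap_eq_smul_one, Ideal.Quotient.algebraMap_eq, Ideal.Quotient.eq_zero_iff_mem.2 hj,
            TensorProduct.zero_tmul]
        exact hle hr
      · obtain ⟨r, rfl⟩ := Ideal.Quotient.mk_surjective y
        exact ⟨1 ⊗ₜ[S] r, by simp [f]⟩
    exact Algebra.Etale.of_equiv (AlgEquiv.ofBijective f hbij)
  -- invariants of the closed subscheme
  have hl0 : ∀ s₀ : S₀, algebraMap S₀ S s₀ ∈ HopfRep.fixedPts k A S := fun s₀ =>
    (hS₀ ▸ (⟨s₀, rfl⟩ : algebraMap S₀ S s₀ ∈ (IsScalarTower.toAlgHom k S₀ S).range) :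
      algebraMap S₀ S s₀ ∈ GLin.invariants k A S)
  have hr0 : ∀ r₀ : R₀, algebraMap R₀ R r₀ ∈ HopfRep.fixedPts k A R := fun r₀ =>
    (hR₀ ▸ (⟨r₀, rfl⟩ : algebraMap R₀ R r₀ ∈ (IsScalarTower.toAlgHom k R₀ R).range) :
      algebraMap R₀ R r₀ ∈ GLin.invariants k A R)
  have hfixS : ∀ s₀ : S₀, Ideal.Quotient.mk J (algebraMap S₀ S s₀) ∈ (algebraMap S₁ (S ⧸ J)).range := fun s₀ => by
    have : Ideal.Quotient.mk J (algebraMap S₀ S s₀) ∈ GLin.invariants k A (S ⧸ J) := by
      change HopfRep.Comod.coact (k := k) (A := A) ((Ideal.Quotient.mkₐ k J) (algebraMap S₀ S s₀)) = _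
      rw [hqS, show HopfRep.Comod.coact (k := k) (A := A) (algebraMap S₀ S s₀) = algebraMap S₀ S s₀ ⊗ₜ[k] (1 : A) from hl0 s₀]
      rfl
    rw [← hS₁] at this
    exact this
  have hfixR : ∀ r₀ : R₀, Ideal.Quotient.mk (J.map (algebraMap S R)) (algebraMap R₀ R r₀) ∈ (algebraMap R₁ (R ⧸ (J.map (algebraMap S R)))).range := fun r₀ => by
    have : Ideal.Quotient.mk (J.map (algebraMap S R)) (algebraMap R₀ R r₀) ∈ GLin.invariants k A (R ⧸ (J.map (algebraMap S R))) := by
      change HopfRep.Comod.coact (k := k) (A := A) ((Ideal.Quotient.mkₐ k (J.map (algebraMap S R))) (algebraMap R₀ R r₀)) = _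
      rw [hqR, show HopfRep.Comod.coact (k := k) (A := A) (algebraMap R₀ R r₀) = algebraMap R₀ R r₀ ⊗ₜ[k] (1 : A) from hr0 r₀]
      rfl
    rw [← hR₁] at this
    exact this
  choose ψ hψ using hfixS
  choose χ hχ using hfixR
  let ψh : S₀ →+* S₁ :=
    { toFun := ψ
      map_one' := hS₁i (by rw [hψ, map_one, map_one, map_one])
      map_mul' := fun a b => hS₁i (by rw [map_mul, hψ, hψ, hψ, map_mul, map_mul])
      map_zero' := hS₁i (by rw [hψ, map_zero, map_zero, map_zero])
      map_add' := fun a b => hS₁i (by rw [map_add, hψ, hψ, hψ, map_add, map_add]) }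
  let χh : R₀ →+* R₁ :=
    { toFun := χ
      map_one' := hR₁i (by rw [hχ, map_one, map_one, map_one])
      map_mul' := fun a b => hR₁i (by rw [map_mul, hχ, hχ, hχ, map_mul, map_mul])
      map_zero' := hR₁i (by rw [hχ, map_zero, map_zero, map_zero])
      map_add' := fun a b => hR₁i (by rw [map_add, hχ, hχ, hχ, map_add, map_add]) }
  let _ : Algebra S₀ S₁ := ψh.toAlgebra
  let _ : Algebra S₀ R₁ := ((algebraMap S₁ R₁).comp ψh).toAlgebra
  have : IsScalarTower S₀ S₁ R₁ := IsScalarTower.of_algebraMap_eq' rfl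
  have hcompat : ∀ s₀ : S₀, algebraMap S₁ R₁ (ψ s₀) = χ (algebraMap S₀ R₀ s₀) := fun s₀ => hR₁i (by
    rw [hχ, ← IsScalarTower.algebraMap_apply S₁ R₁ (R ⧸ (J.map (algebraMap S R))), IsScalarTower.algebraMap_apply S₁ (S ⧸ J) (R ⧸ (J.map (algebraMap S R))),
      hψ, ← IsScalarTower.algebraMap_apply S₀ R₀ R, IsScalarTower.algebraMap_apply S₀ S R,
      ← Ideal.Quotient.mkₐ_eq_mk k (J.map (algebraMap S R))]
    rfl)
  let χA : R₀ →ₐ[S₀] R₁ := { χh with commutes' := fun s₀ => (hcompat s₀).symm }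
  -- surjectivity
  have hψs : Function.Surjective ψ := fun s₁ => by
    have hfix : algebraMap S₁ (S ⧸ J) s₁ ∈ HopfRep.fixedPts k A (S ⧸ J) :=
      (hS₁ ▸ (⟨s₁, rfl⟩ : algebraMap S₁ (S ⧸ J) s₁ ∈ (IsScalarTower.toAlgHom k S₁ (S ⧸ J)).range) :
        algebraMap S₁ (S ⧸ J) s₁ ∈ GLin.invariants k A (S ⧸ J))
    obtain ⟨s, hs, hse⟩ := hα.fixedPts_surjective _ hpS Ideal.Quotient.mk_surjective _ hfix
    obtain ⟨s₀, rfl⟩ : s ∈ (IsScalarTower.toAlgHom k S₀ S).range := by rw [hS₀]; exact hs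
    exact ⟨s₀, hS₁i ((hψ s₀).trans hse)⟩
  have hχs : Function.Surjective χ := fun r₁ => by
    have hfix : algebraMap R₁ (R ⧸ (J.map (algebraMap S R))) r₁ ∈ HopfRep.fixedPts k A (R ⧸ (J.map (algebraMap S R))) :=
      (hR₁ ▸ (⟨r₁, rfl⟩ : algebraMap R₁ (R ⧸ (J.map (algebraMap S R))) r₁ ∈ (IsScalarTower.toAlgHom k R₁ (R ⧸ (J.map (algebraMap S R)))).range) :
        algebraMap R₁ (R ⧸ (J.map (algebraMap S R))) r₁ ∈ GLin.invariants k A (R ⧸ (J.map (algebraMap S R))))
    obtain ⟨r, hr, hre⟩ := hα.fixedPts_surjective _ hpR Ideal.Quotient.mk_surjective _ hfix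
    obtain ⟨r₀, rfl⟩ : r ∈ (IsScalarTower.toAlgHom k R₀ R).range := by rw [hR₀]; exact hr
    exact ⟨r₀, hR₁i ((hχ r₀).trans hre)⟩
  -- the kernel on invariants
  let K : Ideal R₀ := (RingHom.ker ψh).map (algebraMap S₀ R₀)
  have hkey : ∀ z ∈ (J.map (algebraMap S R)), ∀ r : R, ∃ e ∈ K, algebraMap R₀ R e = Comod.avg α (r * z) := by
    intro z hz
    induction hz using Submodule.span_induction with
    | mem a ha =>
      obtain ⟨j, hj, rfl⟩ := ha
      intro r
      obtain ⟨t, ht⟩ := hcart.2 r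
      have hprod : ∀ t : S ⊗[S₀] R₀, ∃ e ∈ K, algebraMap R₀ R e = Comod.avg α
          (Algebra.TensorProduct.productMap (IsScalarTower.toAlgHom S₀ S R) (IsScalarTower.toAlgHom S₀ R₀ R) t *
            algebraMap S R j) := by
        intro t
        induction t using TensorProduct.induction_on with
        | zero => exact ⟨0, K.zero_mem, by simp⟩
        | add y z hy hz =>
          obtain ⟨e, he, h⟩ := hy
          obtain ⟨e', he', h'⟩ := hz
          exact ⟨e + e', add_mem he he', by rw [map_add, map_add, add_mul, map_add, h, h']⟩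
        | tmul s r₀ =>
          have hj' : Comod.avg α (s * j) ∈ J.restrictScalars k :=
            Comod.avg_mem_of_isSubcomod α hJ (J.mul_mem_left s hj)
          obtain ⟨s₀, hs₀⟩ : Comod.avg α (s * j) ∈ (IsScalarTower.toAlgHom k S₀ S).range := by
            rw [hS₀]; exact Comod.avg_mem hα _
          refine ⟨algebraMap S₀ R₀ s₀ * r₀, K.mul_mem_right _ (Ideal.mem_map_of_mem _ ?_), ?_⟩
          · refine hS₁i ((hψ s₀).trans ?_)
            rw [map_zero, Ideal.Quotient.eq_zero_iff_mem]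
            change (IsScalarTower.toAlgHom k S₀ S).toRingHom s₀ ∈ J
            rw [show (IsScalarTower.toAlgHom k S₀ S).toRingHom s₀ = Comod.avg α (s * j) from hs₀]
            exact hj'
          · rw [Algebra.TensorProduct.productMap_apply_tmul, map_mul, ← IsScalarTower.algebraMap_apply S₀ R₀ R,
              IsScalarTower.algebraMap_apply S₀ S R, show algebraMap S₀ S s₀ = Comod.avg α (s * j) from hs₀]
            change algebraMap S R (Comod.avg α (s * j)) * algebraMap R₀ R r₀ =
              Comod.avg α (algebraMap S R s * algebraMap R₀ R r₀ * algebraMap S R j)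
            rw [show algebraMap S R (Comod.avg α (s * j)) = Comod.avg α (algebraMap S R (s * j)) from
              Comod.map_avg α hθ _, ← Comod.avg_mul_fixed α _ (hr0 r₀), map_mul (algebraMap S R)]
            congr 1
            ring
      obtain ⟨e, he, h⟩ := hprod t
      rw [ht] at h
      exact ⟨e, he, h⟩
    | zero => exact fun r => ⟨0, K.zero_mem, by simp⟩
    | add a b _ _ ha hb =>
      intro r
      obtain ⟨e, he, h⟩ := ha r
      obtain ⟨e', he', h'⟩ := hb r
      exact ⟨e + e', add_mem he he', by rw [map_add, mul_add, map_add, h, h']⟩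
    | smul c a _ ha =>
      intro r
      obtain ⟨e, he, h⟩ := ha (r * c)
      exact ⟨e, he, by rw [h, smul_eq_mul, mul_assoc]⟩
  have hker : ∀ r₀ : R₀, χ r₀ = 0 → r₀ ∈ K := fun r₀ h => by
    have h' : algebraMap R₀ R r₀ ∈ (J.map (algebraMap S R)) := by
      rw [← Ideal.Quotient.eq_zero_iff_mem, ← hχ, h, map_zero]
    obtain ⟨e, he, hee⟩ := hkey _ h' 1
    rw [one_mul, Comod.avg_eq_self hα (hr0 r₀)] at hee
    rwa [← hR₀i hee]
  -- `S₁ ⊗ R₀ ≅ R₁`
  let f₁ : S₁ ⊗[S₀] R₀ →ₐ[S₁] R₁ :=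
    Algebra.TensorProduct.lift (Algebra.ofId S₁ R₁) χA (fun _ _ => Commute.all _ _)
  have hsurj₁ : ∀ t : S₁ ⊗[S₀] R₀, ∃ r₀ : R₀, t = 1 ⊗ₜ[S₀] r₀ := by
    intro t
    induction t using TensorProduct.induction_on with
    | zero => exact ⟨0, by simp⟩
    | tmul a r =>
      obtain ⟨s, rfl⟩ := hψs a
      refine ⟨s • r, ?_⟩
      rw [← TensorProduct.smul_tmul]
      congr 1
      rw [Algebra.smul_def, mul_one]
      rfl
    | add y z hy hz =>
      obtain ⟨r, rfl⟩ := hy
      obtain ⟨r', rfl⟩ := hz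
      exact ⟨r + r', by rw [TensorProduct.tmul_add]⟩
  have hbij₁ : Function.Bijective f₁ := by
    refine ⟨(injective_iff_map_eq_zero f₁).2 fun t ht => ?_, fun y => ?_⟩
    · obtain ⟨r₀, rfl⟩ := hsurj₁ t
      simp only [f₁, Algebra.TensorProduct.lift_tmul, map_one, one_mul] at ht
      have hle : K ≤ RingHom.ker (Algebra.TensorProduct.includeRight : R₀ →ₐ[S₀] S₁ ⊗[S₀] R₀).toRingHom := by
        refine Ideal.map_le_iff_le_comap.2 fun j hj => ?_
        change (1 : S₁) ⊗ₜ[S₀] algebraMap S₀ R₀ j = 0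
        rw [Algebra.algebraMap_eq_smul_one, TensorProduct.tmul_smul, TensorProduct.smul_tmul',
          ← Algebra.algebraMap_eq_smul_one, show algebraMap S₀ S₁ j = 0 from hj, TensorProduct.zero_tmul]
      exact hle (hker r₀ ht)
    · obtain ⟨r₀, rfl⟩ := hχs y
      exact ⟨1 ⊗ₜ[S₀] r₀, by simp only [f₁, Algebra.TensorProduct.lift_tmul, map_one, one_mul]; rfl⟩
  have het₁ : Algebra.Etale S₁ R₁ := Algebra.Etale.of_equiv (AlgEquiv.ofBijective f₁ hbij₁)
  refine ⟨hetJ, het₁, ?_⟩
  -- cartesian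
  set P₁ := Algebra.TensorProduct.productMap (IsScalarTower.toAlgHom S₁ (S ⧸ J) (R ⧸ (J.map (algebraMap S R))))
    (IsScalarTower.toAlgHom S₁ R₁ (R ⧸ (J.map (algebraMap S R))))
  set P := Algebra.TensorProduct.productMap (IsScalarTower.toAlgHom S₀ S R) (IsScalarTower.toAlgHom S₀ R₀ R)
  have : IsScalarTower S₀ S₁ (S ⧸ J) := IsScalarTower.of_algebraMap_eq fun s₀ => (hψ s₀).symm
  let Ψ : S ⊗[S₀] R₀ →ₐ[S₀] (S ⧸ J) ⊗[S₁] R₁ :=
    Algebra.TensorProduct.lift
      (((Algebra.TensorProduct.includeLeft : (S ⧸ J) →ₐ[S₁] (S ⧸ J) ⊗[S₁] R₁).restrictScalars S₀).comp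
        (Ideal.Quotient.mkₐ S₀ J))
      (((Algebra.TensorProduct.includeRight : R₁ →ₐ[S₁] (S ⧸ J) ⊗[S₁] R₁).restrictScalars S₀).comp χA)
      (fun _ _ => Commute.all _ _)
  have hΨ : ∀ (s : S) (r : R₀), Ψ (s ⊗ₜ[S₀] r) = Ideal.Quotient.mk J s ⊗ₜ[S₁] χ r := fun s r => by
    simp only [Ψ, Algebra.TensorProduct.lift_tmul, AlgHom.comp_apply, AlgHom.restrictScalars_apply,
      Algebra.TensorProduct.includeLeft_apply, Algebra.TensorProduct.includeRight_apply,
      Algebra.TensorProduct.tmul_mul_tmul, one_mul, mul_one]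
    rfl
  have hcomm : ∀ t, P₁ (Ψ t) = Ideal.Quotient.mk (J.map (algebraMap S R)) (P t) := by
    intro t
    induction t using TensorProduct.induction_on with
    | zero => simp
    | add y z hy hz => simp only [map_add, hy, hz]
    | tmul s r =>
      rw [hΨ]
      simp only [P, P₁, Algebra.TensorProduct.productMap_apply_tmul, map_mul]
      exact congrArg (Ideal.Quotient.mk (J.map (algebraMap S R)) (algebraMap S R s) * ·) (hχ r)
  have hΨs : Function.Surjective Ψ := by
    intro t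
    induction t using TensorProduct.induction_on with
    | zero => exact ⟨0, map_zero _⟩
    | tmul a b =>
      obtain ⟨s, rfl⟩ := Ideal.Quotient.mk_surjective a
      obtain ⟨r, rfl⟩ := hχs b
      exact ⟨_, hΨ s r⟩
    | add y z hy hz =>
      obtain ⟨p, rfl⟩ := hy
      obtain ⟨q, rfl⟩ := hz
      exact ⟨p + q, map_add _ _ _⟩
  refine ⟨(injective_iff_map_eq_zero P₁).2 fun t ht => ?_, fun y => ?_⟩
  · obtain ⟨t, rfl⟩ := hΨs t
    rw [hcomm, Ideal.Quotient.eq_zero_iff_mem] at ht
    let e := RingEquiv.ofBijective P.toRingHom hcart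
    have hle : (J.map (algebraMap S R)).comap P.toRingHom ≤ RingHom.ker Ψ.toRingHom := by
      rw [show (J.map (algebraMap S R)).comap P.toRingHom = (J.map (algebraMap S R)).map (e.symm : R →+* S ⊗[S₀] R₀) from (Ideal.map_symm e).symm,
        Ideal.map_map]
      refine Ideal.map_le_iff_le_comap.2 fun j hj => ?_
      have : e.symm (algebraMap S R j) = j ⊗ₜ[S₀] (1 : R₀) := by
        rw [RingEquiv.symm_apply_eq]
        change _ = P (j ⊗ₜ[S₀] (1 : R₀))
        simp [P]
      change Ψ (e.symm (algebraMap S R j)) = 0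
      rw [this, hΨ, Ideal.Quotient.eq_zero_iff_mem.2 hj, TensorProduct.zero_tmul]
    exact hle ht
  · obtain ⟨r, rfl⟩ := Ideal.Quotient.mk_surjective y
    obtain ⟨t, rfl⟩ := hcart.2 r
    exact ⟨Ψ t, hcomm t⟩

end Groth.Agent.S19408
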