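import Groth.Statements.S19410
import Groth.Agent.Comod.Invariants
import Groth.Agent.Comod.EquivZMT
import Groth.Agent.Comod.Matrix
import Mathlib.RingTheory.QuasiFinite.Basic
import Mathlib.RingTheory.RingHom.QuasiFinite
import Mathlib.RingTheory.Polynomial.UniqueFactorization
import Mathlib.RingTheory.Flat.Basic

set_option autoImplicit false
universe u
open TensorProduct
open GLin

namespace Groth.Agent.S19410

open Groth.Agent

section
variable {k : Type u} [Field k] {A : Type u} [CommRing A] [HopfAlgebra k A]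
variable {R : Type u} [CommRing R] [Algebra k R] [HopfRep.Comod k A R] {S : Type u} [CommRing S] [Algebra k S]
  [HopfRep.Comod k A S]

lemma map_eq_rTensor (f : S →ₐ[k] R) (z : S ⊗[k] A) :
    f.toLinearMap.rTensor A z = Algebra.TensorProduct.map f (AlgHom.id k A) z := by
  induction z using TensorProduct.induction_on with
  | zero => simp
  | add p q hp hq => simp only [map_add, hp, hq]
  | tmul p q => simp

lemma isComodHom_of_map (f : S →ₐ[k] R) (h : ∀ s : S, HopfRep.Comod.coact (k := k) (A := A) (f s) =
      Algebra.TensorProduct.map f (AlgHom.id k A) (HopfRep.Comod.coact (k := k) (A := A) s)) :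
    Hoch.IsComodHom A f.toLinearMap :=
  LinearMap.ext fun s => (h s).trans (map_eq_rTensor f _).symm

lemma map_of_isComodHom (f : S →ₐ[k] R) (h : Hoch.IsComodHom A f.toLinearMap) (s : S) :
    HopfRep.Comod.coact (k := k) (A := A) (f s) =
      Algebra.TensorProduct.map f (AlgHom.id k A) (HopfRep.Comod.coact (k := k) (A := A) s) :=
  (LinearMap.congr_fun h s).trans (map_eq_rTensor f _)

omit [HopfRep.Comod k A R] in
lemma rTensor_range_mono {U U' : Submodule k R} (h : U ≤ U') :
    LinearMap.range (U.subtype.rTensor A) ≤ LinearMap.range (U'.subtype.rTensor A) := by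
  rw [show U.subtype = U'.subtype ∘ₗ Submodule.inclusion h from rfl, LinearMap.rTensor_comp]
  exact LinearMap.range_comp_le_range _ _

lemma isSubcomod_sup_mul [GLin.IsCoactAlg k A R] {U U' L : Submodule k R} (hU : HopfRep.IsSubcomod (k := k) (A := A) U)
    (hU' : HopfRep.IsSubcomod (k := k) (A := A) U') (hL : HopfRep.IsSubcomod (k := k) (A := A) L) :
    HopfRep.IsSubcomod (k := k) (A := A) (U ⊔ U' ⊔ L * U') := by
  refine Comod.isSubcomod_sup (Comod.isSubcomod_sup hU hU') fun w hw => ?_
  refine Submodule.mul_induction_on hw ?_ ?_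
  rotate_left
  · intro x y hx hy
    rw [map_add]; exact add_mem hx hy
  · intro x hx y hy
    rw [GLin.IsCoactAlg.coact_mul]
    obtain ⟨p, hp⟩ := hL x hx
    obtain ⟨q, hq⟩ := hU' y hy
    rw [← hp, ← hq]
    clear hp hq
    induction p using TensorProduct.induction_on with
    | zero => simp
    | add p p' hp hp' => rw [map_add, add_mul]; exact add_mem hp hp'
    | tmul x' a =>
      induction q using TensorProduct.induction_on with
      | zero => simp
      | add q q' hq hq' => rw [map_add, mul_add]; exact add_mem hq hq'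
      | tmul y' c => exact ⟨⟨x'.1 * y'.1, Submodule.mul_mem_mul x'.2 y'.2⟩ ⊗ₜ (a * c), by simp⟩

end

lemma finite_fibre {k : Type u} [Field k] {ι : Type u} {R : Type u} [CommRing R] [Algebra k R]
    {S : Type u} [CommRing S] [Algebra k S] (S' : Subalgebra k (MvPolynomial ι k))
    (L I₀ : Submodule k (MvPolynomial ι k)) (h1 : ∀ f ∈ I₀, f ∈ S') (h2 : ∀ x ∈ L, ∀ f ∈ I₀, x * f ∈ S')
    (hXL : ∀ i, MvPolynomial.X i ∈ L) (Φ : MvPolynomial ι k →ₐ[k] R) (hΦ : Function.Surjective Φ)
    (hker : RingHom.ker Φ ≤ Ideal.span (I₀ : Set (MvPolynomial ι k)))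
    [Algebra S R] [IsScalarTower k S R] [Algebra.QuasiFinite S R]
    (pS : S' →ₐ[k] S) (hpS : Function.Surjective pS)
    (hcomm : Φ.comp S'.val = (IsScalarTower.toAlgHom k S R).comp pS) (p : PrimeSpectrum S') :
    (PrimeSpectrum.comap (algebraMap S' (MvPolynomial ι k)) ⁻¹' {p}).Finite := by
  classical
  by_cases hf : ∃ f, ∃ hf : f ∈ I₀, (⟨f, h1 f hf⟩ : S') ∉ p.asIdeal
  · obtain ⟨f, hf, hfp⟩ := hf
    refine Set.Subsingleton.finite ?_
    have hclear : ∀ x : MvPolynomial ι k, ∃ N : ℕ, f ^ N * x ∈ S' := by
      intro x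
      induction x using MvPolynomial.induction_on with
      | C c => exact ⟨0, by rw [pow_zero, one_mul]; exact S'.algebraMap_mem c⟩
      | add x y hx hy =>
        obtain ⟨N, hN⟩ := hx
        obtain ⟨M, hM⟩ := hy
        refine ⟨N + M, ?_⟩
        rw [show f ^ (N + M) * (x + y) = f ^ M * (f ^ N * x) + f ^ N * (f ^ M * y) by ring]
        exact S'.add_mem (S'.mul_mem (S'.pow_mem (h1 f hf) _) hN) (S'.mul_mem (S'.pow_mem (h1 f hf) _) hM)
      | mul_X x i hx =>
        obtain ⟨N, hN⟩ := hx
        refine ⟨N + 1, ?_⟩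
        rw [show f ^ (N + 1) * (x * MvPolynomial.X i) = f ^ N * x * (MvPolynomial.X i * f) by ring]
        exact S'.mul_mem hN (h2 _ (hXL i) f hf)
    have key : ∀ q q' : PrimeSpectrum (MvPolynomial ι k),
        PrimeSpectrum.comap (algebraMap S' (MvPolynomial ι k)) q = p →
        PrimeSpectrum.comap (algebraMap S' (MvPolynomial ι k)) q' = p → q.asIdeal ≤ q'.asIdeal := by
      intro q q' hq hq' x hx
      obtain ⟨N, hN⟩ := hclear x
      have : (⟨_, hN⟩ : S') ∈ p.asIdeal := hq ▸ q.asIdeal.mul_mem_left _ hx
      rw [← hq'] at this hfp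
      exact (q'.isPrime.mem_or_mem this).resolve_left fun h => hfp (q'.isPrime.mem_of_pow_mem N h)
    exact fun q hq q' hq' => PrimeSpectrum.ext (le_antisymm (key q q' hq hq') (key q' q hq' hq))
  · push Not at hf
    have hfin : (PrimeSpectrum.comap (algebraMap S R) ⁻¹' (PrimeSpectrum.comap pS.toRingHom ⁻¹' {p})).Finite :=
      Algebra.QuasiFinite.finite_comap_preimage
        (Set.Subsingleton.preimage (Set.subsingleton_singleton) (PrimeSpectrum.comap_injective_of_surjective _ hpS)).finite
    refine (hfin.image (PrimeSpectrum.comap Φ.toRingHom)).subset fun q hq => ?_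
    have hqI : Ideal.span (I₀ : Set (MvPolynomial ι k)) ≤ q.asIdeal := Ideal.span_le.2 fun f hf' => by
      have := hf f hf'
      rw [← show _ = p from hq] at this
      exact this
    obtain ⟨q₀, hq₀⟩ : q ∈ Set.range (PrimeSpectrum.comap Φ.toRingHom) := by
      rw [_root_.range_comap_of_surjective _ _ hΦ, PrimeSpectrum.mem_zeroLocus]
      exact hker.trans hqI
    refine ⟨q₀, ?_, hq₀⟩
    change PrimeSpectrum.comap pS.toRingHom (PrimeSpectrum.comap (algebraMap S R) q₀) = p
    rw [← show _ = p from hq, ← hq₀, ← PrimeSpectrum.comap_comp_apply, ← PrimeSpectrum.comap_comp_apply]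
    congr 1
    exact (congrArg AlgHom.toRingHom hcomm).symm


/-- Work over a field k that is algebraically closed and of characteristic zero. Suppose A is a finitely
generated commutative Hopf algebra over k whose finite-dimensional comodules are all semisimple (a
reductive group G). Take finitely generated commutative k-algebras S and R, each carrying a
multiplicative A-coaction (G acting on the affine schemes Y = Spec S and X = Spec R), together with
an injective, quasi-finite algebra map S → R that respects the coactions (a dominant quasi-finite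
G-morphism φ : X → Y). Then one can find finitely generated commutative k-algebras R' and S', both
integral domains with R' integrally closed, each equipped with a multiplicative A-coaction, along
with coaction-compatible surjective algebra maps R' → R and S' → S (so X and Y sit as closed
G-stable subschemes inside the integral affine G-varieties X' = Spec R' and Y' = Spec S', where X'
is normal), and a coaction-compatible algebra map S' → R' that is injective and quasi-finite (a
dominant quasi-finite G-morphism X' → Y'), such that following S' → R' by R' → R gives the same map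
as following S' → S by S → R. -/
theorem result (k : Type u) [Field k] [IsAlgClosed k] [CharZero k]
    (A : Type u) [CommRing A] [HopfAlgebra k A] [Algebra.FiniteType k A] (hG : HopfRep.IsLinearlyReductive k A)
    (S : Type u) [CommRing S] [Algebra k S] [Algebra.FiniteType k S] [HopfRep.Comod k A S] [GLin.IsCoactAlg k A S]
    (R : Type u) [CommRing R] [Algebra k R] [Algebra.FiniteType k R] [HopfRep.Comod k A R] [GLin.IsCoactAlg k A R]
    [Algebra S R] [IsScalarTower k S R] [Algebra.QuasiFinite S R] (hinj : Function.Injective (algebraMap S R))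
    (hequiv : (∀ s : S, HopfRep.Comod.coact (k := k) (A := A) (algebraMap S R s) =
      Algebra.TensorProduct.map (IsScalarTower.toAlgHom k S R) (AlgHom.id k A) (HopfRep.Comod.coact (k := k) (A := A) s))) :
    ∃ (R' : Type u) (_ : CommRing R') (_ : IsDomain R') (_ : IsIntegrallyClosed R') (_ : Algebra k R')
      (_ : HopfRep.Comod k A R') (_ : GLin.IsCoactAlg k A R')
      (S' : Type u) (_ : CommRing S') (_ : IsDomain S') (_ : Algebra k S')
      (_ : HopfRep.Comod k A S') (_ : GLin.IsCoactAlg k A S'),
      Algebra.FiniteType k R' ∧ Algebra.FiniteType k S' ∧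
      ∃ (pR : R' →ₐ[k] R) (pS : S' →ₐ[k] S) (φ' : S' →ₐ[k] R'),
        Function.Surjective pR ∧ Function.Surjective pS ∧ Function.Injective φ' ∧ φ'.toRingHom.QuasiFinite ∧
        (∀ s : R', HopfRep.Comod.coact (k := k) (A := A) (pR s) =
        Algebra.TensorProduct.map pR (AlgHom.id k A) (HopfRep.Comod.coact (k := k) (A := A) s)) ∧
        (∀ s : S', HopfRep.Comod.coact (k := k) (A := A) (pS s) =
        Algebra.TensorProduct.map pS (AlgHom.id k A) (HopfRep.Comod.coact (k := k) (A := A) s)) ∧
        (∀ s : S', HopfRep.Comod.coact (k := k) (A := A) (φ' s) =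
        Algebra.TensorProduct.map φ' (AlgHom.id k A) (HopfRep.Comod.coact (k := k) (A := A) s)) ∧
        pR.comp φ' = (IsScalarTower.toAlgHom k S R).comp pS := by
  classical
  -- a finite stable subspace of `R` containing generators of `S` and of `R`
  obtain ⟨tR, htR⟩ := Algebra.FiniteType.out (R := k) (A := R)
  obtain ⟨tS, htS⟩ := Algebra.FiniteType.out (R := k) (A := S)
  let j : S →ₐ[k] R := IsScalarTower.toAlgHom k S R
  have hj : Hoch.IsComodHom A j.toLinearMap := isComodHom_of_map j hequiv
  obtain ⟨U, hfin, htU, hU⟩ := Comod.exists_finite_subcomod (k := k) (A := A) (tR ∪ tS.image j)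
  haveI : Module.Finite k U := hfin
  letI cU := ComodSub.Comod.restr ‹HopfRep.Comod k A R› U hU
  have hs : Hoch.IsComodHom A U.subtype := by
    exact (ComodSub.rTensor_subtype_comp_restrCoact (c := _) (W := U) (hW := hU)).symm
  let b := (Module.finBasis k U).reindex (Equiv.ulift.{u, 0}.symm)
  let ι : Type u := ULift.{u, 0} (Fin (Module.finrank k U))
  let a : ι → ι → A := Comod.mat A b
  have ha : Comod.IsMat k a := Comod.isMat_mat b
  letI cK : HopfRep.Comod k A k := HopfRep.Comod.trivial k A k
  haveI : GLin.IsCoactAlg k A k := ⟨rfl, fun c d => by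
    change (c * d) ⊗ₜ[k] (1 : A) = (c ⊗ₜ[k] (1 : A)) * (d ⊗ₜ[k] (1 : A))
    rw [Algebra.TensorProduct.tmul_mul_tmul, one_mul]⟩
  letI cP : HopfRep.Comod k A (MvPolynomial ι k) := Comod.polyComod k ha
  haveI : GLin.IsCoactAlg k A (MvPolynomial ι k) :=
    ⟨map_one (Comod.polyCoact k a), map_mul (Comod.polyCoact k a)⟩
  have hX : ∀ i, HopfRep.Comod.coact (k := k) (A := A) (MvPolynomial.X i : MvPolynomial ι k) =
      ∑ l, (MvPolynomial.X l : MvPolynomial ι k) ⊗ₜ[k] a l i := fun i => Comod.polyCoact_X k a i
  let Φ : MvPolynomial ι k →ₐ[k] R := MvPolynomial.aeval fun i => (b i : R)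
  have hΦ : Hoch.IsComodHom A Φ.toLinearMap := by
    have key : (GLin.coactAlgHom k A R).comp Φ =
        (Algebra.TensorProduct.map Φ (AlgHom.id k A)).comp (GLin.coactAlgHom k A (MvPolynomial ι k)) := by
      refine MvPolynomial.algHom_ext fun i => ?_
      simp only [AlgHom.comp_apply, GLin.coactAlgHom_apply, hX, map_sum, Φ, MvPolynomial.aeval_X]
      have h1 := LinearMap.congr_fun hs (b i)
      simp only [LinearMap.comp_apply, Submodule.subtype_apply, Comod.coact_basis, map_sum,
        LinearMap.rTensor_tmul] at h1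
      rw [h1]
      simp [a]
      exact Finset.sum_congr (by ext; simp) fun i _ => rfl
    exact isComodHom_of_map Φ fun z => AlgHom.congr_fun key z
  let L : Submodule k (MvPolynomial ι k) := Submodule.span k (Set.range MvPolynomial.X)
  have hlift : ∀ z : R, z ∈ U → ∃ l ∈ L, Φ l = z := by
    intro z hz
    refine ⟨∑ i, b.repr ⟨z, hz⟩ i • MvPolynomial.X i,
      L.sum_mem fun i _ => L.smul_mem _ (Submodule.subset_span ⟨i, rfl⟩), ?_⟩
    have h := congrArg (fun u : U => (u : R)) (b.sum_repr ⟨z, hz⟩)
    simp only [Submodule.coe_sum, Submodule.coe_smul] at h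
    simp only [map_sum, map_smul, Φ, MvPolynomial.aeval_X]
    exact h
  have hsurj : Function.Surjective Φ := by
    rw [← AlgHom.range_eq_top, eq_top_iff, ← htR, Algebra.adjoin_le_iff]
    intro z hz
    obtain ⟨l, -, hl⟩ := hlift z (htU (Finset.mem_coe.2 (Finset.mem_union_left _ hz)))
    exact ⟨l, hl⟩
  have hLsub : HopfRep.IsSubcomod (k := k) (A := A) L := by
    intro w hw
    induction hw using Submodule.span_induction with
    | zero => simp
    | add x y _ _ hx hy => rw [map_add]; exact add_mem hx hy
    | smul c x _ hx => rw [map_smul]; exact Submodule.smul_mem _ c hx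
    | mem x hx =>
      obtain ⟨i, rfl⟩ := hx
      rw [hX]
      exact Submodule.sum_mem _ fun l _ => ⟨⟨MvPolynomial.X l, Submodule.subset_span ⟨l, rfl⟩⟩ ⊗ₜ a l i, rfl⟩
  -- linear forms which restrict to functions on `Spec S`
  let V : Submodule k (MvPolynomial ι k) := L ⊓ (LinearMap.range j.toLinearMap).comap Φ.toLinearMap
  have hV : HopfRep.IsSubcomod (k := k) (A := A) V :=
    Comod.isSubcomod_inf hLsub (Comod.isSubcomod_comap hΦ (Comod.isSubcomod_range hj))
  -- finitely many equations of `Spec R`
  obtain ⟨g, hg⟩ := IsNoetherian.noetherian (RingHom.ker Φ)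
  have hgker : ∀ f ∈ g, Φ f = 0 := fun f hf => RingHom.mem_ker.1 (by
    have := Submodule.subset_span (R := MvPolynomial ι k) (Finset.mem_coe.2 hf)
    rwa [hg] at this)
  letI cker := ComodSub.Comod.restr cP (LinearMap.ker Φ.toLinearMap) (Comod.isSubcomod_ker hΦ)
  let G₀ : Finset (LinearMap.ker Φ.toLinearMap) :=
    g.attach.image fun f => (⟨f.1, hgker f.1 f.2⟩ : LinearMap.ker Φ.toLinearMap)
  obtain ⟨W, hWfin, hgW, hW⟩ := Comod.exists_finite_subcomod (k := k) (A := A) G₀
  haveI : Module.Finite k W := hWfin
  let I₀ : Submodule k (MvPolynomial ι k) := W.map (LinearMap.ker Φ.toLinearMap).subtype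
  have hI₀ : HopfRep.IsSubcomod (k := k) (A := A) I₀ :=
    Comod.isSubcomod_map (ComodSub.rTensor_subtype_comp_restrCoact (c := _)
      (W := LinearMap.ker Φ.toLinearMap) (hW := Comod.isSubcomod_ker hΦ)).symm hW
  have hI₀0 : ∀ f ∈ I₀, Φ f = 0 := by
    rintro _ ⟨f, -, rfl⟩
    exact f.2
  have hgI₀ : ∀ f ∈ g, f ∈ I₀ := fun f hf =>
    ⟨⟨f, hgker f hf⟩, hgW (Finset.mem_coe.2 (Finset.mem_image.2 ⟨⟨f, hf⟩, Finset.mem_attach _ _, rfl⟩)), rfl⟩
  -- the subalgebra
  let T : Submodule k (MvPolynomial ι k) := V ⊔ I₀ ⊔ L * I₀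
  let S' : Subalgebra k (MvPolynomial ι k) := Algebra.adjoin k (T : Set (MvPolynomial ι k))
  have hTS : ∀ t ∈ T, t ∈ S' := fun t ht => Algebra.subset_adjoin ht
  have hS' : HopfRep.IsSubcomod (k := k) (A := A) (Subalgebra.toSubmodule S') := by
    refine Comod.EquivZMT.isSubcomod_of_generators S' T le_rfl fun t ht => ?_
    exact rTensor_range_mono (fun t ht => hTS t ht) (isSubcomod_sup_mul hV hI₀ hLsub t ht)
  obtain ⟨cS', hS'alg, hc⟩ := Comod.EquivZMT.exists_restr S' hS'
  have hTfg : T.FG := by
    have hL : L.FG := Submodule.fg_span (Set.finite_range _)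
    have hI : I₀.FG := Submodule.FG.map _ (Module.Finite.iff_fg.1 hWfin)
    have : IsNoetherian k L := isNoetherian_of_fg_of_noetherian L hL
    exact ((isNoetherian_submodule.1 this V inf_le_left).sup hI).sup (hL.mul hI)
  haveI hS'ft : Algebra.FiniteType k S' := by
    obtain ⟨t, ht⟩ := hTfg
    rw [← Subalgebra.fg_iff_finiteType]
    exact ⟨t, by simp only [S']; rw [← ht, Algebra.adjoin_span]⟩
  have hrange : ∀ s : S', Φ s ∈ j.range := by
    have : S' ≤ j.range.comap Φ := Algebra.adjoin_le fun t ht => by
      change t ∈ (Subalgebra.toSubmodule j.range).comap Φ.toLinearMap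
      refine (show T ≤ _ from sup_le (sup_le ?_ ?_) ?_) ht
      · intro x hx; exact hx.2
      · intro x hx; change Φ x ∈ j.range; rw [hI₀0 x hx]; exact zero_mem _
      · refine Submodule.mul_le.2 fun x _ f hf => ?_
        change Φ (x * f) ∈ j.range
        rw [map_mul, hI₀0 f hf, mul_zero]; exact zero_mem _
    exact fun s => this s.2
  let pS : S' →ₐ[k] S :=
    (AlgEquiv.ofInjective j hinj).symm.toAlgHom.comp ((Φ.comp S'.val).codRestrict j.range hrange)
  have hpS : ∀ s : S', j (pS s) = Φ s := fun s => by
    exact congrArg Subtype.val ((AlgEquiv.ofInjective j hinj).apply_symm_apply _)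
  have hcomm : Φ.comp S'.val = j.comp pS := AlgHom.ext fun s => (hpS s).symm
  have hpSsurj : Function.Surjective pS := by
    rw [← AlgHom.range_eq_top, eq_top_iff, ← htS, Algebra.adjoin_le_iff]
    intro z hz
    obtain ⟨l, hl, hlz⟩ := hlift (j z)
      (htU (Finset.mem_coe.2 (Finset.mem_union_right _ (Finset.mem_image_of_mem _ hz))))
    refine ⟨⟨l, hTS l (Submodule.mem_sup_left (Submodule.mem_sup_left ⟨hl, z, hlz.symm⟩))⟩, hinj ?_⟩
    exact (hpS _).trans hlz
  letI := cS'
  have hΦmap : ∀ z, HopfRep.Comod.coact (k := k) (A := A) (Φ z) =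
      Algebra.TensorProduct.map Φ (AlgHom.id k A) (HopfRep.Comod.coact (k := k) (A := A) z) :=
    fun z => map_of_isComodHom Φ hΦ z
  refine ⟨MvPolynomial ι k, inferInstance, inferInstance, inferInstance, inferInstance, cP, inferInstance,
    S', inferInstance, inferInstance, inferInstance, cS', hS'alg, inferInstance, hS'ft, Φ, pS, S'.val,
    hsurj, hpSsurj, Subtype.val_injective, ?_, hΦmap, ?_, hc, hcomm⟩
  · haveI : Algebra.FiniteType S' (MvPolynomial ι k) := Algebra.FiniteType.of_restrictScalars_finiteType k S' _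
    refine RingHom.quasiFinite_algebraMap.2 (Algebra.QuasiFinite.iff_finite_comap_preimage_singleton.2 fun p => ?_)
    exact finite_fibre S' L I₀ (fun f hf => hTS f (Submodule.mem_sup_left (Submodule.mem_sup_right hf)))
      (fun x hx f hf => hTS _ (Submodule.mem_sup_right (Submodule.mul_mem_mul hx hf)))
      (fun i => Submodule.subset_span ⟨i, rfl⟩) Φ hsurj
      (by rw [← hg]; exact Submodule.span_mono hgI₀)
      pS hpSsurj hcomm p
  · intro s
    have hinj' : Function.Injective (j.toLinearMap.rTensor A) :=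
      Module.Flat.rTensor_preserves_injective_linearMap _ hinj
    apply hinj'
    have e : ∀ z : S' ⊗[k] A, j.toLinearMap.rTensor A (Algebra.TensorProduct.map pS (AlgHom.id k A) z) =
        Algebra.TensorProduct.map Φ (AlgHom.id k A) (Algebra.TensorProduct.map S'.val (AlgHom.id k A) z) := by
      intro z
      induction z using TensorProduct.induction_on with
      | zero => simp
      | add p q hp hq => simp only [map_add, hp, hq]
      | tmul p q => simp [hpS]
    rw [e, ← hc, ← hΦmap, ← hpS s]
    exact (LinearMap.congr_fun hj (pS s)).symm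

end Groth.Agent.S19410
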