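import Groth.Statements.S19412
import Groth.Agent.Comod.OrbitClosed

set_option autoImplicit false
universe u
open TensorProduct
open GLin

namespace Groth.Agent.S19412

/-- Let k be an algebraically closed field of characteristic zero, A a finitely generated commutative
Hopf algebra over k (an algebraic group G), S and R finitely generated commutative k-algebras with
multiplicative A-coactions (G acting on affine Y = Spec S, X = Spec R), S → R an algebra map
compatible with the coactions (a G-morphism φ : X → Y), S₀ → S and R₀ → R injective k-algebra maps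
whose images are the subrings of invariants, and S₀ → R₀ an algebra map with S₀ → R₀ → R equal to S₀
→ S → R (φ/G). Suppose R₀ is étale over S₀ and the canonical map S ⊗_{S₀} R₀ → R is bijective (φ is
strongly étale: φ/G étale and X ≅ Y ×_{Y//G} X//G). Then R is étale over S (φ étale), and for every
k-point x of X: every k-point of G fixing the image point φ(x) fixes x (φ restricted to the orbit of
x is injective), and the orbit of x is closed if and only if the orbit of φ(x) is closed. (The
published item also asserts that φ is surjective; that fails when φ is the inclusion of a proper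
saturated open subset, which is strongly étale, so surjectivity is not asserted here.) -/
theorem result (k : Type u) [Field k] [IsAlgClosed k] [CharZero k]
    (A : Type u) [CommRing A] [HopfAlgebra k A] [Algebra.FiniteType k A]
    (S : Type u) [CommRing S] [Algebra k S] [Algebra.FiniteType k S] [HopfRep.Comod k A S] [GLin.IsCoactAlg k A S]
    (R : Type u) [CommRing R] [Algebra k R] [Algebra.FiniteType k R] [HopfRep.Comod k A R] [GLin.IsCoactAlg k A R]
    [Algebra S R] [IsScalarTower k S R]
    (hequiv : (∀ s : S, HopfRep.Comod.coact (k := k) (A := A) (algebraMap S R s) =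
      Algebra.TensorProduct.map (IsScalarTower.toAlgHom k S R) (AlgHom.id k A) (HopfRep.Comod.coact (k := k) (A := A) s)))
    (S₀ : Type u) [CommRing S₀] [Algebra k S₀] [Algebra S₀ S] [IsScalarTower k S₀ S]
    (hS₀i : Function.Injective (algebraMap S₀ S)) (hS₀ : (IsScalarTower.toAlgHom k S₀ S).range = GLin.invariants k A S)
    (R₀ : Type u) [CommRing R₀] [Algebra k R₀] [Algebra R₀ R] [IsScalarTower k R₀ R]
    (hR₀i : Function.Injective (algebraMap R₀ R)) (hR₀ : (IsScalarTower.toAlgHom k R₀ R).range = GLin.invariants k A R)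
    [Algebra S₀ R₀] [Algebra S₀ R] [IsScalarTower S₀ S R] [IsScalarTower S₀ R₀ R]
    (het₀ : Algebra.Etale S₀ R₀)
    (hcart : Function.Bijective (Algebra.TensorProduct.productMap (IsScalarTower.toAlgHom S₀ S R) (IsScalarTower.toAlgHom S₀ R₀ R))) :
    Algebra.Etale S R ∧
      ∀ x : R →ₐ[k] k,
        (∀ g : A →ₐ[k] k, GLin.actPt k g (x.comp (IsScalarTower.toAlgHom k S R)) = x.comp (IsScalarTower.toAlgHom k S R) →
          GLin.actPt k g x = x) ∧
        (GLin.IsClosedOrbit k A x ↔ GLin.IsClosedOrbit k A (x.comp (IsScalarTower.toAlgHom k S R))) := by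
  classical
  have : Algebra.Etale S₀ R₀ := het₀
  set θ := IsScalarTower.toAlgHom k S R with hθdef
  set P := Algebra.TensorProduct.productMap (IsScalarTower.toAlgHom S₀ S R) (IsScalarTower.toAlgHom S₀ R₀ R) with hPdef
  have hθ : Hoch.IsComodHom A θ.toLinearMap := LinearMap.ext fun s => hequiv s
  have hP : ∀ (s : S) (r₀ : R₀), P (s ⊗ₜ[S₀] r₀) = algebraMap S R s * algebraMap R₀ R r₀ := fun s r₀ => by
    simp [P]
  have hr0 : ∀ r₀ : R₀, algebraMap R₀ R r₀ ∈ HopfRep.fixedPts k A R := fun r₀ =>
    (hR₀ ▸ (⟨r₀, rfl⟩ : algebraMap R₀ R r₀ ∈ (IsScalarTower.toAlgHom k R₀ R).range) :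
      algebraMap R₀ R r₀ ∈ GLin.invariants k A R)
  have hs0 : ∀ s₀ : S₀, algebraMap S₀ S s₀ ∈ HopfRep.fixedPts k A S := fun s₀ =>
    (hS₀ ▸ (⟨s₀, rfl⟩ : algebraMap S₀ S s₀ ∈ (IsScalarTower.toAlgHom k S₀ S).range) :
      algebraMap S₀ S s₀ ∈ GLin.invariants k A S)
  refine ⟨?_, fun x => ?_⟩
  · let f : S ⊗[S₀] R₀ →ₐ[S] R :=
      { P.toRingHom with
        commutes' := fun s => by
          change P (s ⊗ₜ[S₀] (1 : R₀)) = _
          rw [hP, map_one, mul_one] }
    exact Algebra.Etale.of_equiv (AlgEquiv.ofBijective f hcart)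
  set y := x.comp θ with hy
  have hoθ : ∀ s, GLin.orbitHom k A x (algebraMap S R s) = GLin.orbitHom k A y s := fun s =>
    Comod.orbitHom_comp hθ x s
  have hor : ∀ r₀ : R₀, GLin.orbitHom k A x (algebraMap R₀ R r₀) = x (algebraMap R₀ R r₀) • 1 := fun r₀ =>
    Comod.orbit_of_fixed x (hr0 r₀)
  refine ⟨fun g hg => AlgHom.ext fun r => ?_, fun hx => ?_, fun hy' => ?_⟩
  · obtain ⟨t, rfl⟩ := hcart.2 r
    change GLin.actPt k g x (P t) = x (P t)
    induction t using TensorProduct.induction_on with
    | zero => simp
    | add p q hp hq => simp only [map_add, hp, hq]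
    | tmul s r₀ =>
      rw [hP, map_mul, map_mul]
      congr 1
      · change g (GLin.orbitHom k A x (algebraMap S R s)) = x (algebraMap S R s)
        rw [hoθ]
        exact DFunLike.congr_fun hg s
      · change g (GLin.orbitHom k A x (algebraMap R₀ R r₀)) = x (algebraMap R₀ R r₀)
        rw [hor, map_smul, map_one, smul_eq_mul, mul_one]
  · refine Comod.isClosedOrbit_of_points y fun z hz => ?_
    have hz0 : ∀ s₀ : S₀, z (algebraMap S₀ S s₀) = y (algebraMap S₀ S s₀) := fun s₀ => by
      have h : algebraMap S₀ S s₀ - algebraMap k S (y (algebraMap S₀ S s₀)) ∈ RingHom.ker (GLin.orbitHom k A y) := by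
        rw [RingHom.mem_ker, map_sub, AlgHom.commutes, Comod.orbit_of_fixed y (hs0 s₀),
          Algebra.algebraMap_eq_smul_one (R := k) (A := A), sub_self]
      have h' := hz h
      rwa [RingHom.mem_ker, map_sub, AlgHom.commutes, Algebra.algebraMap_self_apply, sub_eq_zero] at h'
    let _ : Algebra S₀ k := (x.toRingHom.comp (algebraMap S₀ R)).toAlgebra
    let zS : S →ₐ[S₀] k :=
      { z.toRingHom with
        commutes' := fun s₀ => by
          change z (algebraMap S₀ S s₀) = x (algebraMap S₀ R s₀)
          rw [hz0, IsScalarTower.algebraMap_apply S₀ S R]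
          rfl }
    let xR : R₀ →ₐ[S₀] k :=
      { x.toRingHom.comp (algebraMap R₀ R) with
        commutes' := fun s₀ => by
          change x (algebraMap R₀ R (algebraMap S₀ R₀ s₀)) = x (algebraMap S₀ R s₀)
          rw [← IsScalarTower.algebraMap_apply S₀ R₀ R] }
    let L := Algebra.TensorProduct.lift zS xR (fun _ _ => Commute.all _ _)
    let e := RingEquiv.ofBijective P.toRingHom hcart
    let z' : R →ₐ[k] k :=
      { L.toRingHom.comp e.symm.toRingHom with
        commutes' := fun c => by
          have h : e.symm (algebraMap k R c) = algebraMap k S c ⊗ₜ[S₀] (1 : R₀) := by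
            rw [RingEquiv.symm_apply_eq]
            change _ = P (algebraMap k S c ⊗ₜ[S₀] (1 : R₀))
            rw [hP, map_one, mul_one, ← IsScalarTower.algebraMap_apply k S R]
          change L (e.symm (algebraMap k R c)) = c
          rw [h]
          change zS (algebraMap k S c) * xR 1 = c
          rw [map_one, mul_one]
          exact z.commutes c }
    have key : ∀ t, ∃ s : S, GLin.orbitHom k A x (P t) = GLin.orbitHom k A y s ∧ L t = z s := by
      intro t
      induction t using TensorProduct.induction_on with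
      | zero => exact ⟨0, by simp, by simp⟩
      | add p q hp hq =>
        obtain ⟨s, h1, h2⟩ := hp
        obtain ⟨s', h1', h2'⟩ := hq
        exact ⟨s + s', by simp only [map_add, h1, h1'], by simp only [map_add, h2, h2']⟩
      | tmul s r₀ =>
        refine ⟨x (algebraMap R₀ R r₀) • s, ?_, ?_⟩
        · rw [hP, map_mul, hoθ, hor, map_smul, mul_smul_comm, mul_one]
        · change z s * x (algebraMap R₀ R r₀) = _
          rw [map_smul, smul_eq_mul, mul_comm]
    have hker : RingHom.ker (GLin.orbitHom k A x) ≤ RingHom.ker z' := by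
      intro r hr
      obtain ⟨t, rfl⟩ := hcart.2 r
      obtain ⟨s, h1, h2⟩ := key t
      have hs : z s = 0 := hz (by rw [RingHom.mem_ker, ← h1]; exact hr)
      change L (e.symm (P t)) = 0
      rw [show e.symm (P t) = t from (RingEquiv.symm_apply_eq e).2 rfl, h2, hs]
    obtain ⟨g, hg⟩ := Comod.exists_point_of_closedOrbit x hx z' hker
    refine ⟨g, AlgHom.ext fun s => ?_⟩
    have h := hg (P (s ⊗ₜ[S₀] (1 : R₀)))
    rw [hP, map_one, mul_one, hoθ] at h
    change z s = g (GLin.orbitHom k A y s)
    rw [h]
    change _ = L (e.symm (algebraMap S R s))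
    rw [show algebraMap S R s = P (s ⊗ₜ[S₀] (1 : R₀)) by rw [hP, map_one, mul_one],
      show e.symm (P (s ⊗ₜ[S₀] (1 : R₀))) = s ⊗ₜ[S₀] (1 : R₀) from (RingEquiv.symm_apply_eq e).2 rfl]
    change z s = z s * xR 1
    rw [map_one, mul_one]
  · refine Comod.isClosedOrbit_of_points x fun z hz => ?_
    obtain ⟨g, hg⟩ := Comod.exists_point_of_closedOrbit y hy' (z.comp θ) fun s hs => by
      refine hz ?_
      rw [RingHom.mem_ker]
      exact (hoθ s).trans hs
    refine ⟨g, AlgHom.ext fun r => ?_⟩
    obtain ⟨t, rfl⟩ := hcart.2 r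
    change z (P t) = g (GLin.orbitHom k A x (P t))
    induction t using TensorProduct.induction_on with
    | zero => simp
    | add p q hp hq => simp only [map_add, hp, hq]
    | tmul s r₀ =>
      rw [hP, map_mul, map_mul, map_mul, hoθ, hor, map_smul, map_one, smul_eq_mul, mul_one, hg]
      congr 1
      have h : algebraMap R₀ R r₀ - algebraMap k R (x (algebraMap R₀ R r₀)) ∈ RingHom.ker (GLin.orbitHom k A x) := by
        rw [RingHom.mem_ker, map_sub, AlgHom.commutes, hor, Algebra.algebraMap_eq_smul_one (R := k) (A := A), sub_self]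
      have h' := hz h
      rwa [RingHom.mem_ker, map_sub, AlgHom.commutes, Algebra.algebraMap_self_apply, sub_eq_zero] at h'

end Groth.Agent.S19412
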