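import Groth.Statements.S19416
import Groth.Agent.S6472
import Groth.Agent.IntMult88.RegDim
import Groth.Agent.FBase.Dim

set_option autoImplicit false
universe u
open CategoryTheory AlgebraicGeometry
open IntMult

namespace Groth.Agent.S19416

section
set_option backward.isDefEq.respectTransparency false
open CategoryTheory CategoryTheory.Limits AlgebraicGeometry TopologicalSpace

namespace Groth.Agent.InterDim88

/-- `S6472` over any field. -/
theorem diagonal_isRegular {k : Type u} [Field k] {X : Scheme.{u}} (f : X ⟶ Spec (CommRingCat.of k))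
    [Smooth f] [IsSeparated f] [IsIntegral X] (n : ℕ) (hn : topologicalKrullDim X = n) :
    RegImm.IsRegularImmersionOfCodim RegImm.Kind.regular n (pullback.diagonal f) := by
  letI : X.Over (Spec (CommRingCat.of k)) := ⟨f⟩
  haveI : Smooth (X ↘ Spec (CommRingCat.of k)) := ‹Smooth f›
  haveI hsm : SmoothOfRelativeDimension n f :=
    S6472.smoothOfRelativeDimension_of_dim (k := k) (X := X) n hn
  haveI := smoothOfRelativeDimension_isStableUnderBaseChange.{u} (n := n)
  haveI : SmoothOfRelativeDimension n (pullback.fst f f) :=
    MorphismProperty.of_isPullback (IsPullback.of_hasPullback f f).flip inferInstance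
  haveI : SmoothOfRelativeDimension (n + n) (pullback.fst f f ≫ f) :=
    smoothOfRelativeDimension_comp n n (f := pullback.fst f f) (g := f)
  haveI : SmoothOfRelativeDimension n (pullback.diagonal f ≫ pullback.fst f f ≫ f) := by
    rw [pullback.diagonal_fst_assoc]
    infer_instance
  haveI : IsLocallyNoetherian (pullback f f) :=
    LocallyOfFiniteType.isLocallyNoetherian (pullback.fst f f ≫ f)
  simpa using DualAbs.SmoothImm.isRegularImmersionOfCodim (pullback.fst f f ≫ f) (pullback.diagonal f)
    (n + n) n

end Groth.Agent.InterDim88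

end

open CategoryTheory.Limits
set_option backward.isDefEq.respectTransparency false

/-- Let k be a field and X a smooth variety over k (the structure morphism X → Spec k smooth, separated
and quasi-compact, X integral) of dimension n, and let V, W ⊆ X be closed irreducible subsets of
dimensions r and s. Then every irreducible component Z of V ∩ W has dimension at least r + s − n,
stated as r + s ≤ dim Z + n with Krull dimensions of the subspaces; equivalently the codimension of
Z is at most the sum of the codimensions of V and W. The base field is arbitrary here; the same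
statement over an algebraically closed field is the classical dimension count for intersections on a
nonsingular variety. -/
theorem result (k : Type u) [Field k] (X : Scheme.{u})
    (f : X ⟶ Spec (CommRingCat.of k)) [Smooth f] [IsSeparated f] [QuasiCompact f] [IsIntegral X]
    (n r s : ℕ) (hn : topologicalKrullDim X = n) (V W : Set X) (hVc : IsClosed V)
    (hVi : IsIrreducible V) (hWc : IsClosed W) (hWi : IsIrreducible W)
    (hr : topologicalKrullDim ↥V = r) (hs : topologicalKrullDim ↥W = s) (Z : Set ↥(V ∩ W))
    (hZ : Z ∈ irreducibleComponents ↥(V ∩ W)) :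
    ((r + s : ℕ) : WithBot ℕ∞) ≤ topologicalKrullDim ↥Z + n := by
  classical
  let CV : TopologicalSpace.Closeds X := ⟨V, hVc⟩
  let CW : TopologicalSpace.Closeds X := ⟨W, hWc⟩
  let IV := Scheme.IdealSheafData.vanishingIdeal CV
  let IW := Scheme.IdealSheafData.vanishingIdeal CW
  haveI : IsIntegral IV.subscheme := Groth.Agent.FBase.Dim.isIntegral_vanishingIdeal CV hVi
  haveI : IsIntegral IW.subscheme := Groth.Agent.FBase.Dim.isIntegral_vanishingIdeal CW hWi
  have hrV : Set.range IV.subschemeι = V := Groth.Agent.RedSub.range_vanishingIdeal_subschemeι CV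
  have hrW : Set.range IW.subschemeι = W := Groth.Agent.RedSub.range_vanishingIdeal_subschemeι CW
  have hdimV : topologicalKrullDim IV.subscheme = r := by
    rw [IsHomeomorph.topologicalKrullDim_eq _
      (IV.subschemeι.isEmbedding.toHomeomorph.trans (Homeomorph.setCongr hrV)).isHomeomorph, hr]
  have hdimW : topologicalKrullDim IW.subscheme = s := by
    rw [IsHomeomorph.topologicalKrullDim_eq _
      (IW.subschemeι.isEmbedding.toHomeomorph.trans (Homeomorph.setCongr hrW)).isHomeomorph, hs]
  -- the generic point of `Z`
  have hVW : IsClosed (V ∩ W) := hVc.inter hWc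
  haveI : QuasiSober ↥(V ∩ W) := hVW.isClosedEmbedding_subtypeVal.quasiSober
  obtain ⟨ζ₀, hζ₀⟩ := QuasiSober.sober hZ.1 (isClosed_of_mem_irreducibleComponents Z hZ)
  set ζ : X := ζ₀.1 with hζ
  have hζmax : ∀ y : X, y ∈ V → y ∈ W → y ⤳ ζ → y = ζ := by
    intro y hyV hyW hy
    let y₀ : ↥(V ∩ W) := ⟨y, hyV, hyW⟩
    have h0 : y₀ ⤳ ζ₀ := (subtype_specializes_iff _ _).2 hy
    have h1 : closure {ζ₀} ⊆ closure {y₀} := specializes_iff_closure_subset.1 h0
    have h2 := hZ.2 isIrreducible_singleton.closure (hζ₀.def ▸ h1)
    have h3 : ζ₀ ⤳ y₀ := specializes_iff_closure_subset.2 (hζ₀.def.symm ▸ h2)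
    exact (hy.antisymm ((subtype_specializes_iff _ _).1 h3)).eq
  -- the component of the product through `(ζ, ζ)`
  let Pr := pullback (IV.subschemeι ≫ f) (IW.subschemeι ≫ f)
  let m : Pr ⟶ pullback f f := pullback.map _ _ f f IV.subschemeι IW.subschemeι (𝟙 _) (by simp) (by simp)
  haveI : IsClosedImmersion m := by
    refine MorphismProperty.pullbackMap (P := @IsClosedImmersion) ?_ ?_ (by simp) (by simp) <;>
      infer_instance
  obtain ⟨z₀, hz₀⟩ : pullback.diagonal f ζ ∈ Set.range m := by
    rw [Scheme.Pullback.range_map, hrV, hrW]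
    refine ⟨?_, ?_⟩
    · show pullback.fst f f (pullback.diagonal f ζ) ∈ V
      rw [← Scheme.Hom.comp_apply, pullback.diagonal_fst]
      exact ζ₀.2.1
    · show pullback.snd f f (pullback.diagonal f ζ) ∈ W
      rw [← Scheme.Hom.comp_apply, pullback.diagonal_snd]
      exact ζ₀.2.2
  let C : Set Pr := irreducibleComponent z₀
  have hC : C ∈ irreducibleComponents Pr := irreducibleComponent_mem_irreducibleComponents z₀
  haveI : LocallyOfFiniteType (IV.subschemeι ≫ f) := inferInstance
  have hdimC : topologicalKrullDim C = ((r + s : ℕ) : WithBot ℕ∞) := by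
    rw [Groth.Agent.FBase.Dim.topDim_component_prod_of_integral (IV.subschemeι ≫ f) (IW.subschemeι ≫ f) hC,
      hdimV, hdimW, Nat.cast_add]
  let CC : TopologicalSpace.Closeds Pr := ⟨C, isClosed_irreducibleComponent⟩
  let IC := Scheme.IdealSheafData.vanishingIdeal CC
  haveI : IsIntegral IC.subscheme :=
    Groth.Agent.FBase.Dim.isIntegral_vanishingIdeal CC isIrreducible_irreducibleComponent
  have hrC : Set.range IC.subschemeι = C := Groth.Agent.RedSub.range_vanishingIdeal_subschemeι CC
  have hdC : topologicalKrullDim IC.subscheme = ((r + s : ℕ) : WithBot ℕ∞) := by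
    rw [IsHomeomorph.topologicalKrullDim_eq _
      (IC.subschemeι.isEmbedding.toHomeomorph.trans (Homeomorph.setCongr hrC)).isHomeomorph, hdimC]
  let ι := IC.subschemeι ≫ m
  -- the point of the preimage over `ζ`
  obtain ⟨c₀, hc₀⟩ : z₀ ∈ Set.range IC.subschemeι := by rw [hrC]; exact mem_irreducibleComponent
  obtain ⟨t₀, ht₀, -⟩ := Scheme.Pullback.exists_preimage_pullback (f := pullback.diagonal f) (g := ι)
    ζ c₀ (by rw [Scheme.Hom.comp_apply, hc₀, hz₀])
  obtain ⟨t, htg⟩ := QuasiSober.sober (isIrreducible_irreducibleComponent (x := t₀))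
    isClosed_irreducibleComponent
  have htmax : ∀ y : ↥(pullback (pullback.diagonal f) ι), y ⤳ t → y = t := by
    intro y hy
    have h1 : closure {t} ⊆ closure {y} := specializes_iff_closure_subset.1 hy
    have h2 := (irreducibleComponent_mem_irreducibleComponents t₀).2
      isIrreducible_singleton.closure (htg.def.symm ▸ h1)
    refine ((specializes_iff_closure_subset.2 ?_).antisymm hy).eq.symm
    rw [htg.def]; exact h2
  have htζ : t ⤳ t₀ := htg.specializes mem_irreducibleComponent
  set p := pullback.fst (pullback.diagonal f) ι with hp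
  have hfst : p t = ζ := by
    have hsp : p t ⤳ ζ := by
      have h := htζ.map p.continuous
      rwa [ht₀] at h
    have hm : pullback.diagonal f (p t) ∈ Set.range m :=
      ⟨IC.subschemeι (pullback.snd (pullback.diagonal f) ι t), by
        rw [← Scheme.Hom.comp_apply, ← Scheme.Hom.comp_apply, hp, ← pullback.condition,
          Scheme.Hom.comp_apply]⟩
    rw [Scheme.Pullback.range_map, hrV, hrW] at hm
    refine hζmax _ ?_ ?_ hsp
    · have h : pullback.fst f f (pullback.diagonal f (p t)) ∈ V := hm.1
      rwa [← Scheme.Hom.comp_apply (pullback.diagonal f), pullback.diagonal_fst] at h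
    · have h : pullback.snd f f (pullback.diagonal f (p t)) ∈ W := hm.2
      rwa [← Scheme.Hom.comp_apply (pullback.diagonal f), pullback.diagonal_snd] at h
  letI : X.Over (Spec (CommRingCat.of k)) := ⟨f⟩
  haveI : LocallyOfFiniteType (X ↘ Spec (CommRingCat.of k)) :=
    inferInstanceAs (LocallyOfFiniteType f)
  haveI : LocallyOfFiniteType (pullback.fst f f ≫ f) := inferInstance
  have hkey := Groth.Agent.IntMult88.RegDim.le_dimPt_add (pullback.fst f f ≫ f) (pullback.diagonal f) n
    (Groth.Agent.InterDim88.diagonal_isRegular f n hn) ι (r + s) hdC t htmax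
  letI : (pullback (pullback.diagonal f) ι).Over (Spec (CommRingCat.of k)) :=
    ⟨pullback.snd (pullback.diagonal f) ι ≫ ι ≫ pullback.fst f f ≫ f⟩
  haveI : LocallyOfFiniteType (pullback.snd (pullback.diagonal f) ι) :=
    MorphismProperty.pullback_snd _ _ inferInstance
  haveI : LocallyOfFiniteType ((pullback (pullback.diagonal f) ι) ↘ Spec (CommRingCat.of k)) :=
    inferInstanceAs (LocallyOfFiniteType (pullback.snd (pullback.diagonal f) ι ≫ ι ≫ pullback.fst f f ≫ f))
  have hle : Groth.Agent.VarDim.dimPt k (pullback (pullback.diagonal f) ι) t ≤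
      Groth.Agent.VarDim.dimPt k X ζ := by
    haveI : IsPreimmersion p := by
      rw [hp]; exact MorphismProperty.pullback_fst _ _ inferInstance
    have hsm : StrictMono p := fun a b hab => by
      rw [lt_iff_le_not_ge] at hab ⊢
      have e : ∀ x y, x ≤ y ↔ p x ≤ p y := fun x y => p.isEmbedding.isInducing.specializes_iff.symm
      rwa [← e, ← e]
    have h := Order.height_le_height_apply_of_strictMono p hsm t
    rw [hfst, Groth.Agent.VarDim.height_eq_dimPt k, Groth.Agent.VarDim.height_eq_dimPt k] at h
    exact_mod_cast h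
  have hZdim : topologicalKrullDim Z = (Groth.Agent.VarDim.dimPt k X ζ : WithBot ℕ∞) := by
    rw [← Groth.Agent.VarBC.Dim.topDim_closure k ζ, ← hζ₀.def]
    have e : Subtype.val '' closure ({ζ₀} : Set ↥(V ∩ W)) = closure {ζ} := by
      rw [← hVW.isClosedEmbedding_subtypeVal.closure_image_eq, Set.image_singleton]
    rw [← e]
    exact IsHomeomorph.topologicalKrullDim_eq _
      (Topology.IsEmbedding.subtypeVal.homeomorphImage _).isHomeomorph
  rw [hZdim]
  exact_mod_cast (le_trans hkey (Nat.add_le_add_right hle n))

end Groth.Agent.S19416
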