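import Groth.Statements.S19419
import Groth.Agent.CycLib.ProdFibre
import Groth.Agent.CycLib.P1Chart
import Groth.Agent.CycLib.MapLib
import Groth.Agent.CycLib.FieldDelta

set_option autoImplicit false
universe u
open CategoryTheory CategoryTheory.Limits AlgebraicGeometry
open Cyc

namespace Groth.Agent.S19419

set_option backward.isDefEq.respectTransparency false in
/-- Let X be a smooth proper integral curve over an algebraically closed field k, with generic point η,
and ψ : X → X a flat endomorphism over k. Let Y = X ×_k X with its two projections, m = ψ × id : Y →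
Y (first projection intertwines ψ, second projection unchanged), d : X → Y the diagonal and g = (id,
ψ) : X → Y the graph of ψ. For the dimension function δ on Y induced from weight 0 on Spec k, the
flat pull-back of cycles along m in relative dimension 0 takes the diagonal divisor [Δ], the cycle
equal to 1 at d(η) and 0 elsewhere, to the graph divisor [Γ_ψ], the cycle equal to 1 at g(η) and 0
elsewhere: (ψ × id)^*[Δ] = [Γ_ψ]. The published statement allows any endomorphism ψ and reads the
pull-back on divisors; flatness of ψ is what the flat pull-back of cycles requires (the intended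
case is the Frobenius endomorphism), and iterating gives [Γ_{ψ^n}] = ((ψ × id)^*)^n [Δ]. -/
theorem result (k : Type u) [Field k]
    [IsAlgClosed k] (X : Scheme.{u}) (f : X ⟶ Spec (CommRingCat.of k)) [Smooth f] [IsProper f]
    [IsIntegral X] (hdim : topologicalKrullDim ↥X = 1) (ψ : X ⟶ X) (hψ : ψ ≫ f = f) [Flat ψ]
    (m : pullback f f ⟶ pullback f f) (hm₁ : m ≫ pullback.fst f f = pullback.fst f f ≫ ψ)
    (hm₂ : m ≫ pullback.snd f f = pullback.snd f f) (g : X ⟶ pullback f f)
    (hg₁ : g ≫ pullback.fst f f = 𝟙 X) (hg₂ : g ≫ pullback.snd f f = ψ)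
    (δ : ↥(pullback f f) → ℤ) (hδ : Cyc.DeltaCompat (pullback.fst f f ≫ f) δ (fun _ => 0)) :
    Cyc.pullFun m δ δ 0
        (Set.indicator ({pullback.diagonal f (genericPoint ↥X)} : Set ↥(pullback f f)) (fun _ => (1 : ℤ))) =
      Set.indicator ({g (genericPoint ↥X)} : Set ↥(pullback f f)) (fun _ => (1 : ℤ)) := by
  classical
  haveI : LocallyOfFiniteType (pullback.fst f f ≫ f) := inferInstance
  haveI := LocallyOfFiniteType.isLocallyNoetherian f
  haveI : IsClosedImmersion (g ≫ pullback.fst f f) := by rw [hg₁]; infer_instance
  haveI : IsClosedImmersion g := IsClosedImmersion.of_comp g (pullback.fst f f)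
  haveI : IsClosedImmersion (pullback.diagonal f) := inferInstance
  -- the graph is the preimage of the diagonal
  have hsq : IsPullback g ψ m (pullback.diagonal f) := by
    refine ⟨⟨?_⟩, ⟨PullbackCone.IsLimit.mk _ (fun s => s.fst ≫ pullback.fst f f)
      (fun s => ?_) (fun s => ?_) (fun s l hl₁ _ => ?_)⟩⟩
    · apply pullback.hom_ext <;> simp [hm₁, hm₂, hg₁, hg₂, reassoc_of% hg₁]
    · have h1 := congr($(s.condition) ≫ pullback.fst f f)
      have h2 := congr($(s.condition) ≫ pullback.snd f f)
      simp only [Category.assoc, hm₁, hm₂, pullback.diagonal_fst, pullback.diagonal_snd,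
        Category.comp_id] at h1 h2
      apply pullback.hom_ext
      · simp [hg₁]
      · simp [hg₂, h1, h2]
    · have h1 := congr($(s.condition) ≫ pullback.fst f f)
      simp only [Category.assoc, hm₁, pullback.diagonal_fst, Category.comp_id] at h1
      rw [Category.assoc, h1]
    · rw [← hl₁, Category.assoc, hg₁, Category.comp_id]
  -- dimension functions
  have hfd : ∀ (e : X ⟶ pullback f f) [IsClosedImmersion e], e ≫ pullback.fst f f = 𝟙 X →
      ∀ x, δ (e x) = Groth.Agent.CycLib.fdelta k f x := by
    intro e _ he x
    obtain ⟨a, ha, ha'⟩ := Groth.Agent.CycLib.deltaCompat_fdelta k (pullback.fst f f ≫ f)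
      (pullback.fst f f ≫ f) (𝟙 _) (Category.comp_id _) (e x)
    obtain ⟨b, hb, hb'⟩ := hδ (e x)
    have hab : a = b := Nat.cast_injective (R := Cardinal) (ha.symm.trans hb)
    rw [Groth.Agent.CycLib.fdelta_id] at ha'
    have h2 : Groth.Agent.CycLib.fdelta k f x = Groth.Agent.CycLib.fdelta k (pullback.fst f f ≫ f) (e x) :=
      Groth.Agent.CycLib.delta_eq_of_surjective e
        (Groth.Agent.CycLib.deltaCompat_fdelta k e _ _ (by rw [← Category.assoc, he, Category.id_comp])) x
        (Groth.Agent.CycLib.residueFieldMap_bijective_closedImmersion e x).2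
    simp only at hb'
    omega
  have hdg := hfd g hg₁
  have hdd := hfd (pullback.diagonal f) (pullback.diagonal_fst f)
  have hψη : ψ (genericPoint X) = genericPoint X := by
    obtain ⟨z, hz, hzη⟩ := Flat.generalizingMap ψ (genericPoint_specializes (ψ (genericPoint X)))
    have e := ((genericPoint_specializes z).antisymm hz).eq
    rwa [← e] at hzη
  have hmg : ∀ x, m (g x) = pullback.diagonal f (ψ x) := fun x => by
    rw [← Scheme.Hom.comp_apply, hsq.w, Scheme.Hom.comp_apply]
  funext w
  rw [Cyc.pullFun]
  by_cases hw : w = g (genericPoint X)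
  · subst hw
    have hmw : m (g (genericPoint X)) = pullback.diagonal f (genericPoint X) := by rw [hmg, hψη]
    have hsp := specializes_of_eq (hmg (genericPoint X)).symm
    have hmax : (IsLocalRing.maximalIdeal ((pullback f f).presheaf.stalk (m (g (genericPoint X))))).map
        (m.stalkMap (g (genericPoint X))).hom =
        IsLocalRing.maximalIdeal ((pullback f f).presheaf.stalk (g (genericPoint X))) := by
      have hF : ∀ (e : X ⟶ pullback f f) [IsClosedImmersion e] (y : X), y = genericPoint X →
          RingHom.ker (e.stalkMap y).hom = IsLocalRing.maximalIdeal _ := by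
        rintro e _ y rfl
        exact IsLocalRing.eq_maximalIdeal (Ideal.Quotient.maximal_of_isField _
          ((RingHom.quotientKerEquivOfSurjective (e.stalkMap_surjective _)).toMulEquiv.isField
            (Field.toIsField X.functionField)))
      rw [← hF g _ rfl, Groth.Agent.CycLib.ker_stalkMap_isPullback hsq (genericPoint X) hsp, hF _ _ hψη,
        Groth.Agent.CycLib.comap_maximalIdeal_of_eq (hmg (genericPoint X)).symm hsp]
    have hl : Groth.Agent.CycLib.fibLen m (g (genericPoint X)) = 1 :=
      Groth.Agent.CycLib.fibLen_eq_one_of_map_eq m _ hmax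
    rw [if_pos (by rw [hmw, hdg, hdd, add_zero]), Set.indicator_of_mem (Set.mem_singleton _),
      Set.indicator_of_mem (Set.mem_singleton_iff.2 hmw)]
    show (1 : ℤ) * (Groth.Agent.CycLib.fibLen m (g (genericPoint X)) : ℤ) = 1
    rw [hl]
    rfl
  · rw [Set.indicator_of_notMem (s := {g (genericPoint X)}) (by simpa using hw)]
    refine ite_eq_right_iff.2 fun hd => ?_
    by_cases hm : m w = pullback.diagonal f (genericPoint X)
    · obtain ⟨x, rfl, hx⟩ := Scheme.exists_preimage_of_isPullback hsq w (genericPoint X) hm
      rw [hm, hdg, hdd, add_zero] at hd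
      exact absurd (congrArg g (Groth.Agent.CycLib.eq_of_specializes
        (Groth.Agent.CycLib.isDimFun_fdelta k f) (genericPoint_specializes x) hd.ge).symm) hw
    · rw [Set.indicator_of_notMem (by simpa using hm), zero_mul]

end Groth.Agent.S19419
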