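import Groth.Statements.S19420
import Groth.Agent.H85.HMPoly

set_option autoImplicit false
universe u
open TensorProduct LaurentPolynomial
open GIT

namespace Groth.Agent.S19420

open MvPolynomial Groth.Agent.H85 in
theorem exists_frame {k : Type*} [Field k] (H : Matrix (Fin 3) (Fin 3) k) {w : Fin 3 → k} (hw : w ≠ 0)
    (hHw : H.mulVec w = 0) (hr : H.rank ≤ 1) :
    ∃ M : Matrix (Fin 3) (Fin 3) k, M.det = 1 ∧ M.mulVec (Pi.single 0 1) = w ∧
      ∀ i, i ≠ 2 → H.mulVec (M.mulVec (Pi.single i 1)) = 0 := by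
  obtain ⟨u, hu, hHu⟩ := HMPoly.exists_indep_ker hw hHw (by lia)
  obtain ⟨x, hx⟩ := exists_linearIndependent_snoc_of_lt_finrank hu (by simp)
  obtain ⟨M, hM, hcol⟩ := HMPoly.exists_det_one_of_indep _ hx
  let c : Fin 3 → Fin 3 → k := Fin.snoc ![w, u] x
  have h : ∀ i : Fin 3, i ≠ 2 → M.mulVec (Pi.single i 1) = c i := fun i hi => by
    funext j
    rw [Matrix.mulVec_single_one]
    exact hcol i j hi
  refine ⟨M, hM, by rw [h 0 (by decide)]; rfl, fun i hi => ?_⟩
  rw [h i hi]
  fin_cases i
  · exact hHw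
  · exact hHu
  · exact absurd rfl hi

/-- Let k be an algebraically closed field of characteristic zero and let SL_3 act by substitution on
ternary cubic forms, the point a having the form F = Σ_m (3; m) a_m x^m. Then a is semistable (some
invariant homogeneous polynomial of positive degree in the coefficients is non-zero at a) if and
only if at every non-zero vector w where all first partial derivatives of F vanish, the matrix of
second partial derivatives of F at w has rank 2: every singular point of the plane cubic F = 0 is a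
double point with two distinct tangent lines. (The published statement assumes only that the
characteristic of k is neither 2 nor 3; it is stated here in characteristic zero.) -/
theorem result (k : Type u) [Field k] [IsAlgClosed k] [CharZero k]
    (a : CoordGrp.FormIdx 3 3 → k) :
    @GLin.IsSemistableVec k _ (CoordGrp.SLn 3 k) _ _ (CoordGrp.FormIdx 3 3) (GLin.comodAlong ((CoordGrp.SLn.mkHom 3 k).comp (CoordGrp.Mat.toGLn 3 k)) (CoordGrp.formsCoact k 3 3))
      (GLin.isCoactAlg_comodAlong ((CoordGrp.SLn.mkHom 3 k).comp (CoordGrp.Mat.toGLn 3 k)) (CoordGrp.formsCoact k 3 3)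
        (CoordGrp.formsCoact_isCoactAlg k 3 3))
      a ↔
      ∀ w : Fin 3 → k, w ≠ 0 →
        (∀ i : Fin 3, MvPolynomial.eval w (MvPolynomial.pderiv i (CoordGrp.formPoly a)) = 0) →
          (Matrix.of fun i j : Fin 3 =>
            MvPolynomial.eval w (MvPolynomial.pderiv i (MvPolynomial.pderiv j (CoordGrp.formPoly a)))).rank = 2 := by
  open MvPolynomial Groth.Agent.H85 in
  classical
  set F := CoordGrp.formPoly a with hFdef
  have hF : F.IsHomogeneous 3 := HMForms.isHomogeneous_formPoly a
  refine (HMForms.isSemistableVec_iff (by decide) a).trans ?_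
  constructor
  · intro hno w hw hgrad
    by_contra hne
    have hg : HMPoly.grad F w = 0 := funext hgrad
    have hHw := HMPoly.hess_mulVec_self hF hg
    change (HMPoly.hess F w).rank ≠ 2 at hne
    have h2 : (HMPoly.hess F w).rank ≤ 2 := by
      by_contra hlt
      have h3 : (HMPoly.hess F w).rank = 3 := le_antisymm (Matrix.rank_le_width _) (by lia)
      have := LinearMap.finrank_range_add_finrank_ker (HMPoly.hess F w).mulVecLin
      rw [Module.finrank_fin_fun, ← Matrix.rank, h3] at this
      have hker : LinearMap.ker (HMPoly.hess F w).mulVecLin = ⊥ := Submodule.finrank_eq_zero.1 (by lia)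
      exact hw ((Submodule.mem_bot k).1 (hker ▸ LinearMap.mem_ker.2 hHw))
    obtain ⟨M, hM, hMw, hMH⟩ := exists_frame _ hw hHw (by lia)
    set G := HMForms.sub M F with hG
    have hGh : G.IsHomogeneous 3 := HMPoly.isHomogeneous_sub M hF
    have hT : ∀ i j, j ≠ 2 → HMPoly.T G 0 i j = 0 := fun i j hj => by
      rw [← HMPoly.hess_single hGh, hG, HMPoly.hess_sub, hMw]
      have : (M.transpose * HMPoly.hess F w * M) i j =
          Matrix.mulVec M.transpose ((HMPoly.hess F w).mulVec (M.mulVec (Pi.single j 1))) i := by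
        rw [Matrix.mulVec_mulVec, Matrix.mulVec_mulVec, Matrix.mulVec_single_one]
        rfl
      rw [this, hMH j hj]
      simp
    refine hno ⟨M, ![-3, 1, 2], hM, by simp [Fin.sum_univ_three], ?_⟩
    refine (HMPoly.support_act_iff M a fun s => 0 < ∑ i, (![-3, 1, 2] : Fin 3 → ℤ) i * (s i : ℤ)).2 ?_
    rw [← hFdef, ← hG, HMPoly.weight_iff hGh _ (fun z => 0 < z)]
    intro i j l hne'
    have h0 : ∀ b c, b ≠ 2 ∨ c ≠ 2 → HMPoly.T G 0 b c = 0 := by
      rintro b c (h | h)
      · rw [HMPoly.T_swap₂]; exact hT c b h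
      · exact hT b c h
    have hi : i = 0 → j = 2 ∧ l = 2 := by
      rintro rfl
      by_contra h
      exact hne' (h0 j l (by tauto))
    have hj : j = 0 → i = 2 ∧ l = 2 := by
      rintro rfl
      by_contra h
      exact hne' (by rw [HMPoly.T_swap₁]; exact h0 i l (by tauto))
    have hl : l = 0 → i = 2 ∧ j = 2 := by
      rintro rfl
      by_contra h
      exact hne' (by rw [HMPoly.T_swap₂, HMPoly.T_swap₁]; exact h0 i j (by tauto))
    exact (by decide : ∀ i j l : Fin 3, (i = 0 → j = 2 ∧ l = 2) → (j = 0 → i = 2 ∧ l = 2) → (l = 0 → i = 2 ∧ j = 2) →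
      0 < (![-3, 1, 2] : Fin 3 → ℤ) i + (![-3, 1, 2] : Fin 3 → ℤ) j + (![-3, 1, 2] : Fin 3 → ℤ) l) i j l hi hj hl
  · rintro hsing ⟨M, ν, hM, hν, hpos⟩
    have hM0 : M.det ≠ 0 := by rw [hM]; exact one_ne_zero
    set G := HMForms.sub M F with hG
    have hGh : G.IsHomogeneous 3 := HMPoly.isHomogeneous_sub M hF
    replace hpos := (HMPoly.support_act_iff M a fun s => 0 < ∑ i, ν i * (s i : ℤ)).1 hpos
    rw [← hFdef, ← hG, HMPoly.weight_iff hGh _ (fun z => 0 < z)] at hpos
    obtain ⟨p, -, hp⟩ := Finset.exists_min_image Finset.univ ν Finset.univ_nonempty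
    obtain ⟨r, hrp, hr⟩ : ∃ r, r ≠ p ∧ ∀ i, i ≠ p → ν i ≤ ν r := by
      obtain ⟨r, hr, hr'⟩ := Finset.exists_max_image (Finset.univ.erase p) ν
        (Finset.card_pos.1 (by rw [Finset.card_erase_of_mem (Finset.mem_univ p)]; decide))
      exact ⟨r, Finset.ne_of_mem_erase hr, fun i hi => hr' i (Finset.mem_erase.2 ⟨hi, Finset.mem_univ i⟩)⟩
    simp only [Fin.sum_univ_three] at hν
    have hle : ∀ i j, (i, j) ≠ (r, r) → ν p + ν i + ν j ≤ 0 := by
      intro i j hij
      obtain ⟨q, hqp, hqr, hall⟩ : ∃ q, q ≠ p ∧ q ≠ r ∧ ∀ l, l = p ∨ l = q ∨ l = r :=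
        (by decide : ∀ p r : Fin 3, r ≠ p → ∃ q, q ≠ p ∧ q ≠ r ∧ ∀ l, l = p ∨ l = q ∨ l = r) p r hrp
      have hsum : ν p + ν q + ν r = 0 := by
        clear hr hp hij hpos hall
        fin_cases p <;> fin_cases q <;> fin_cases r <;> simp_all <;> lia
      have h1 := hp q (Finset.mem_univ _)
      have h2 := hp r (Finset.mem_univ _)
      have h3 := hr q hqp
      rcases hall i with rfl | rfl | rfl <;> rcases hall j with rfl | rfl | rfl <;>
        first
          | exact absurd rfl hij
          | lia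
    have hT : ∀ i j, (i, j) ≠ (r, r) → HMPoly.T G p i j = 0 := fun i j hij => by
      by_contra h
      exact absurd (hpos p i j h) (not_lt.2 (hle i j hij))
    have hp0 : (Pi.single p 1 : Fin 3 → k) ≠ 0 := fun h => by simpa using congrFun h p
    have hg' : HMPoly.grad G (Pi.single p 1) = 0 := by
      funext i
      rw [Pi.zero_apply, HMPoly.grad_single hGh p i]
      exact hT p i fun h => hrp (congrArg Prod.fst h).symm
    have hg : HMPoly.grad F (M.mulVec (Pi.single p 1)) = 0 := HMPoly.grad_eq_zero_of_sub hM0 hg'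
    have h2 : (HMPoly.hess F (M.mulVec (Pi.single p 1))).rank = 2 :=
      hsing _ (HMPoly.mulVec_ne_zero hM0 hp0) (congrFun hg)
    rw [← HMPoly.rank_hess_sub hM0, ← hG] at h2
    have hvv : HMPoly.hess G (Pi.single p 1) =
        Matrix.vecMulVec (Pi.single r (HMPoly.T G p r r)) (Pi.single r 1) := by
      ext i j
      rw [HMPoly.hess_single hGh, Matrix.vecMulVec_apply]
      by_cases hij : (i, j) = (r, r)
      · cases hij
        simp
      · rw [hT i j hij]
        rcases eq_or_ne i r with rfl | hi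
        · rw [Pi.single_eq_of_ne (fun h : j = i => hij (by rw [h])), mul_zero]
        · rw [Pi.single_eq_of_ne hi, zero_mul]
    have h1 := Matrix.rank_vecMulVec_le (Pi.single r (HMPoly.T G p r r) : Fin 3 → k) (Pi.single r 1)
    rw [← hvv, h2] at h1
    lia

end Groth.Agent.S19420
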