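import Groth.Statements.S19421
import Groth.Agent.H85.HMPoly

set_option autoImplicit false
universe u
open TensorProduct LaurentPolynomial
open GIT

namespace Groth.Agent.S19421

open MvPolynomial Groth.Agent.H85 in
theorem exists_frame {k : Type*} [Field k] {w : Fin 3 → k} (hw : w ≠ 0) :
    ∃ M : Matrix (Fin 3) (Fin 3) k, M.det = 1 ∧ M.mulVec (Pi.single 0 1) = w := by
  obtain ⟨u, hu⟩ := exists_linearIndependent_pair_of_one_lt_finrank (R := k) (by simp) hw
  obtain ⟨x, hx⟩ := exists_linearIndependent_snoc_of_lt_finrank hu (by simp)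
  obtain ⟨M, hM, hcol⟩ := HMPoly.exists_det_one_of_indep _ hx
  refine ⟨M, hM, funext fun j => ?_⟩
  rw [Matrix.mulVec_single_one]
  exact (hcol 0 j (by decide)).trans rfl

/-- Let k be an algebraically closed field of characteristic zero and let SL_3 act by substitution on
ternary cubic forms, the point a having the form F = Σ_m (3; m) a_m x^m. Then a is stable (its orbit
is closed and its stabiliser finite) if and only if the plane cubic curve F = 0 is smooth: at every
non-zero vector some first partial derivative of F is non-zero. (The published statement assumes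
only that the characteristic of k is neither 2 nor 3; it is stated here in characteristic zero.) -/
theorem result (k : Type u) [Field k] [IsAlgClosed k] [CharZero k]
    (a : CoordGrp.FormIdx 3 3 → k) :
    @GLin.IsStableVec k _ (CoordGrp.SLn 3 k) _ _ (CoordGrp.FormIdx 3 3) (GLin.comodAlong ((CoordGrp.SLn.mkHom 3 k).comp (CoordGrp.Mat.toGLn 3 k)) (CoordGrp.formsCoact k 3 3))
      (GLin.isCoactAlg_comodAlong ((CoordGrp.SLn.mkHom 3 k).comp (CoordGrp.Mat.toGLn 3 k)) (CoordGrp.formsCoact k 3 3)
        (CoordGrp.formsCoact_isCoactAlg k 3 3))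
      a ↔
      ∀ w : Fin 3 → k, w ≠ 0 →
        ∃ i : Fin 3, MvPolynomial.eval w (MvPolynomial.pderiv i (CoordGrp.formPoly a)) ≠ 0 := by
  open MvPolynomial Groth.Agent.H85 in
  classical
  set F := CoordGrp.formPoly a with hFdef
  have hF : F.IsHomogeneous 3 := HMForms.isHomogeneous_formPoly a
  refine (HMForms.isStableVec_iff (by decide) a).trans ?_
  constructor
  · intro hno w hw
    by_contra! hgrad
    have hg : HMPoly.grad F w = 0 := funext hgrad
    obtain ⟨M, hM, hMw⟩ := exists_frame hw
    set G := HMForms.sub M F with hG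
    have hGh : G.IsHomogeneous 3 := HMPoly.isHomogeneous_sub M hF
    have hT : ∀ i, HMPoly.T G 0 0 i = 0 := fun i => by
      rw [← HMPoly.grad_single hGh 0 i, hG, HMPoly.grad_sub, hMw, hg, Matrix.zero_vecMul, Pi.zero_apply]
    refine hno ⟨M, ![-2, 1, 1], hM, by simp [Fin.sum_univ_three], fun h => by simpa using congrFun h 1, ?_⟩
    refine (HMPoly.support_act_iff M a fun s => 0 ≤ ∑ i, (![-2, 1, 1] : Fin 3 → ℤ) i * (s i : ℤ)).2 ?_
    rw [← hFdef, ← hG, HMPoly.weight_iff hGh _ (fun z => 0 ≤ z)]
    intro i j l hne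
    have hij : ¬ (i = 0 ∧ j = 0) := by
      rintro ⟨rfl, rfl⟩
      exact hne (hT l)
    have hil : ¬ (i = 0 ∧ l = 0) := by
      rintro ⟨rfl, rfl⟩
      exact hne (by rw [HMPoly.T_swap₂]; exact hT j)
    have hjl : ¬ (j = 0 ∧ l = 0) := by
      rintro ⟨rfl, rfl⟩
      exact hne (by rw [HMPoly.T_swap₁, HMPoly.T_swap₂]; exact hT i)
    exact (by decide : ∀ i j l : Fin 3, ¬ (i = 0 ∧ j = 0) → ¬ (i = 0 ∧ l = 0) → ¬ (j = 0 ∧ l = 0) →
      0 ≤ (![-2, 1, 1] : Fin 3 → ℤ) i + (![-2, 1, 1] : Fin 3 → ℤ) j + (![-2, 1, 1] : Fin 3 → ℤ) l) i j l hij hil hjl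
  · rintro hsmooth ⟨M, ν, hM, hν, hν0, hpos⟩
    have hM0 : M.det ≠ 0 := by rw [hM]; exact one_ne_zero
    set G := HMForms.sub M F with hG
    have hGh : G.IsHomogeneous 3 := HMPoly.isHomogeneous_sub M hF
    replace hpos := (HMPoly.support_act_iff M a fun s => 0 ≤ ∑ i, ν i * (s i : ℤ)).1 hpos
    rw [← hFdef, ← hG, HMPoly.weight_iff hGh _ (fun z => 0 ≤ z)] at hpos
    have hT : ∀ i j l, ν i + ν j + ν l < 0 → HMPoly.T G i j l = 0 := fun i j l h => by
      by_contra h'
      exact absurd (hpos i j l h') (not_le.2 h)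
    have hsm : ∀ v : Fin 3 → k, v ≠ 0 → HMPoly.grad G v = 0 → False := fun v hv hg => by
      obtain ⟨i, hi⟩ := hsmooth _ (HMPoly.mulVec_ne_zero hM0 hv)
      exact hi (congrFun (HMPoly.grad_eq_zero_of_sub hM0 (F := F) hg) i)
    obtain ⟨p, -, hp⟩ := Finset.exists_min_image Finset.univ ν Finset.univ_nonempty
    obtain ⟨r, -, hr⟩ := Finset.exists_max_image Finset.univ ν Finset.univ_nonempty
    simp only [Fin.sum_univ_three] at hν
    have hneg : ν p < 0 := by
      by_contra! h
      refine hν0 (funext fun i => ?_)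
      have h0 := hp 0 (Finset.mem_univ _)
      have h1 := hp 1 (Finset.mem_univ _)
      have h2 := hp 2 (Finset.mem_univ _)
      fin_cases i <;> simp <;> lia
    have hrp : r ≠ p := by
      rintro rfl
      have h0 := hr 0 (Finset.mem_univ _)
      have h1 := hr 1 (Finset.mem_univ _)
      have h2 := hr 2 (Finset.mem_univ _)
      lia
    obtain ⟨q, hqp, hqr, hall⟩ : ∃ q, q ≠ p ∧ q ≠ r ∧ ∀ l, l = p ∨ l = q ∨ l = r :=
      (by decide : ∀ p r : Fin 3, r ≠ p → ∃ q, q ≠ p ∧ q ≠ r ∧ ∀ l, l = p ∨ l = q ∨ l = r) p r hrp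
    have hsum : ν p + ν q + ν r = 0 := by
      clear hr hp hall hT hsm
      fin_cases p <;> fin_cases q <;> fin_cases r <;> simp_all <;> lia
    have hpq := hp q (Finset.mem_univ _)
    have hqr' := hr q (Finset.mem_univ _)
    by_cases hlt : ν p < ν q
    · refine hsm (Pi.single p 1) (fun h => by simpa using congrFun h p) (funext fun i => ?_)
      rw [Pi.zero_apply, HMPoly.grad_single hGh]
      refine hT _ _ _ ?_
      rcases hall i with rfl | rfl | rfl <;> lia
    · have hpq' : ν q = ν p := by lia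
      obtain ⟨s, t, hst, hz⟩ := HMPoly.exists_quadratic_root (HMPoly.T G p p r) (2 * HMPoly.T G p q r)
        (HMPoly.T G q q r)
      have hv : ∀ f : Fin 3 → k, ∑ x, (Pi.single p s + Pi.single q t : Fin 3 → k) x * f x = s * f p + t * f q := fun f => by
        simp [Pi.single_apply, add_mul, Finset.sum_add_distrib]
      refine hsm (Pi.single p s + Pi.single q t) (fun h => ?_) (funext fun i => ?_)
      · have h0 := congrFun h p
        have h1 := congrFun h q
        simp [hqp, hqp.symm] at h0 h1
        exact hst.elim (fun hs => hs h0) fun ht => ht h1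
      rw [Pi.zero_apply, HMPoly.grad_eq_zero_iff hGh]
      simp only [← Finset.mul_sum, hv]
      rcases eq_or_ne i r with rfl | hi
      · rw [HMPoly.T_swap₁ G q p]
        linear_combination hz
      · have hνi : ν i = ν p := by
          rcases hall i with rfl | rfl | rfl
          exacts [rfl, hpq', absurd rfl hi]
        rw [hT p p i (by lia), hT p q i (by lia), hT q p i (by lia), hT q q i (by lia)]
        simp

end Groth.Agent.S19421
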