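import Groth.Statements.S19425
import Groth.Agent.GITLib.GoodQuotRestrict
open Groth.Agent.GITLib

set_option autoImplicit false
universe u
open CategoryTheory MonoidalCategory CartesianMonoidalCategory MonObj AlgebraicGeometry Topology
open NRQuot

namespace Groth.Agent.S19425

/-- Let k be an algebraically closed field, G an affine group scheme of finite type over k acting on a
k-scheme X locally of finite type, φ : X → Y a good quotient (affine and invariant, functions on
every open of Y are exactly the invariant functions on its preimage, invariant closed subsets have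
closed images, and images commute with intersections of families of invariant closed subsets), and U
an open subset of Y. Equip the open subscheme φ⁻¹(U) of X with the restricted action, given here as
an action compatible with the inclusion into X, and let φ_U : φ⁻¹(U) → U be the restriction of φ.
Then φ_U is a good quotient for the restricted action. -/
theorem result
    (k : Type u) [Field k] [IsAlgClosed k]
    (G X Y : Over (Spec (CommRingCat.of k))) [GrpObj G] [IsAffine G.left] [LocallyOfFiniteType G.hom]
    [LocallyOfFiniteType X.hom]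
    (a : AlgGrp.Action G X) (φ : X ⟶ Y) (h : NRQuot.IsGoodQuot a φ)
    (U : Y.left.Opens)
    (aU : AlgGrp.Action G (Over.mk ((φ.left ⁻¹ᵁ U).ι ≫ X.hom)))
    (jU : Over.mk ((φ.left ⁻¹ᵁ U).ι ≫ X.hom) ⟶ X) (hjU : jU.left = (φ.left ⁻¹ᵁ U).ι)
    (haU : aU.act ≫ jU = (G ◁ jU) ≫ a.act)
    (φU : Over.mk ((φ.left ⁻¹ᵁ U).ι ≫ X.hom) ⟶ Over.mk (U.ι ≫ Y.hom))
    (hφU : φU.left ≫ U.ι = (φ.left ⁻¹ᵁ U).ι ≫ φ.left) :
    NRQuot.IsGoodQuot aU φU := by
  have : IsOpenImmersion jU.left := by rw [hjU]; exact inferInstanceAs (IsOpenImmersion (φ.left ⁻¹ᵁ U).ι)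
  let ιU : Over.mk (U.ι ≫ Y.hom) ⟶ Y := Over.homMk U.ι rfl
  have : IsOpenImmersion ιU.left := inferInstanceAs (IsOpenImmersion U.ι)
  have : Mono ιU := by
    have : Mono ιU.left := inferInstanceAs (Mono U.ι)
    exact Over.mono_of_mono_left ιU
  refine isGoodQuot_restrict h U jU ιU (Scheme.Opens.range_ι U) ?_ haU φU ?_
  · rw [hjU]
    exact Scheme.Opens.range_ι _
  · refine Over.OverMorphism.ext ?_
    show φU.left ≫ U.ι = jU.left ≫ φ.left
    rw [hφU, hjU]

end Groth.Agent.S19425
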