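import Groth.Statements.S19426
import Groth.Agent.GITLib.StabGroup
import Groth.Agent.S5329

set_option linter.style.haveILetI false
set_option backward.isDefEq.respectTransparency false
-- import your own Groth.Agent.* helpers here

set_option autoImplicit false
universe u
open CategoryTheory MonoidalCategory CartesianMonoidalCategory MonObj AlgebraicGeometry Topology
open GIT

namespace Groth.Agent.S19426

/-- Let k be an algebraically closed field, G an affine group scheme of finite type over k acting on a
k-scheme X locally of finite type, and for a point x of X let G_x denote its stabiliser, the group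
scheme over the residue field of x obtained as the fibre of (g, t) ↦ (g · x(t), t) over (x, id).
Then for every n the set of points x of X with dim G_x ≥ n is closed: the stabiliser dimension is an
upper semicontinuous function on X. (Stated at all points of the scheme X; the published statement
is for the closed points of a variety, and also phrases it through the orbit dimension dim G − dim
G_x, which is not restated here.) -/
theorem result
    (k : Type u) [Field k] [IsAlgClosed k]
    (G X : Over (Spec (CommRingCat.of k))) [GrpObj G] [IsAffine G.left] [LocallyOfFiniteType G.hom]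
    [LocallyOfFiniteType X.hom]
    (a : AlgGrp.Action G X) (n : WithBot ℕ∞) :
    IsClosed {x : X.left | n ≤ topologicalKrullDim
      (GLinSh.stab a (Over.homMk (X.left.fromSpecResidueField x) rfl :
        Over.mk (X.left.fromSpecResidueField x ≫ X.hom) ⟶ X))} := by
  obtain ⟨hgrp⟩ := GITLib.StabGroup.exists_grpObj_stab a
  haveI : GrpObj (Over.mk (GITLib.stabHom a) : Over X.left) := hgrp
  haveI : LocallyOfFiniteType (Over.mk (GITLib.stabHom a) : Over X.left).hom :=
    GITLib.StabGroup.locallyOfFiniteType_stabHom a
  have husc := (Groth.Agent.S5329.result X.left (Over.mk (GITLib.stabHom a))).1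
  have hdim : ∀ x : X.left, topologicalKrullDim (GLinSh.stab a (Over.homMk (X.left.fromSpecResidueField x) rfl :
        Over.mk (X.left.fromSpecResidueField x ≫ X.hom) ⟶ X)) =
      topologicalKrullDim ↥((GITLib.stabHom a).base ⁻¹' {x}) := by
    intro x
    let e := (GITLib.StabGroup.isPullback_stab a (Over.homMk (X.left.fromSpecResidueField x) rfl :
      Over.mk (X.left.fromSpecResidueField x ≫ X.hom) ⟶ X)).isoPullback
    exact (e.schemeIsoToHomeo.trans ((GITLib.stabHom a).fiberHomeo x)).isHomeomorph.topologicalKrullDim_eq
  rw [← isOpen_compl_iff]
  refine isOpen_iff_mem_nhds.mpr fun x hx => ?_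
  simp only [Set.mem_compl_iff, Set.mem_ofPred_eq, hdim, not_le] at hx
  filter_upwards [husc x n hx] with z hz
  simp only [Set.mem_compl_iff, Set.mem_ofPred_eq, hdim, not_le]
  exact hz

end Groth.Agent.S19426
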