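import Groth.Statements.S19427
import Groth.Agent.MilK.Basic

set_option autoImplicit false
universe u
open MilnorK

namespace Groth.Agent.S19427

open Groth.Agent.MilK.Basic

/-- For a field F and nonzero b, c with b + c ≠ 0, in the Milnor K-group K_2(F) one has {b, c} + {b + c,
-b/c} = 0, that is {b, c} = -{b + c, -b/c} = {b + c, -c/b}. (The identity as displayed in the source
is {b, c} = {b + c, -b/c}, which differs from this by a sign and fails in general: for b = 3, c = 5
over the rationals the tame symbol at 5 takes the values 3 and 1/3 on the two sides; the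
accompanying derivation from the Steinberg relation b/(b+c) + c/(b+c) = 1 gives exactly the identity
stated here.) -/
theorem result (F : Type u) [Field F] (b c : Fˣ)
    (h : (b : F) + (c : F) ≠ 0) :
    (MilK.symbol ![b, c] : MilK.K F 2) + MilK.symbol ![Units.mk0 ((b : F) + (c : F)) h, -(b / c)] = 0 := by
  set s : Fˣ := Units.mk0 ((b : F) + (c : F)) h
  let z : MilK.K F 0 := MilK.symbol Fin.elim0
  have h0 : cons (b / s) (cons (c / s) z) = 0 := cons_cons_eq_zero (by simp [s]; field_simp) z
  have e : ∀ x y : Fˣ, (MilK.symbol ![x, y] : MilK.K F 2) = cons x (cons y z) := fun x y => by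
    simp only [z, cons_symbol]
    rfl
  rw [e, e]
  simp only [cons_div, map_sub] at h0
  have h1 : cons s (cons (-(b / c)) z) =
      cons s (cons (-1) z) + cons s (cons b z) - cons s (cons c z) := by
    rw [show -(b / c) = -1 * (b / c) by simp, cons_mul, cons_div, map_add, map_sub]
    abel
  rw [cons_cons_self s z, cons_cons_comm b s z] at h0
  rw [h1, ← h0]
  abel

end Groth.Agent.S19427
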