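import Groth.Statements.S19434
import Groth.Agent.HypCoh70.Basic
-- import your own Groth.Agent.* helpers here

set_option autoImplicit false
universe u
open Coherent

namespace Groth.Agent.S19434

open CategoryTheory CategoryTheory.Limits AlgebraicGeometry in
/-- Let F be a field, d ≥ 1, k ≥ 1, P = P^{d+1}_F, and X ⊆ P a hypersurface of degree k: a closed
subscheme (ideal sheaf I) whose ideal sheaf is isomorphic, as an O_P-module, to O_P(-k) —
equivalently X is cut out by one nonzero form q of degree k, with homogeneous coordinate ring A =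
F[x_0, …, x_{d+1}]/(q), whose degree-m piece has dimension a(m) = C(m+d+1, d+1) - C(m-k+d+1, d+1) (a
binomial coefficient with a negative upper entry read as 0). For an integer n let O_X(n) denote the
O_P-module O_X ⊗ O_P(n). Then H^p(P, O_X(n)) vanishes for every p different from 0 and d, H^0(P,
O_X(n)) is a finite-dimensional F-vector space of dimension a(n), and H^d(P, O_X(n)) is
finite-dimensional of dimension a(k-2-d-n). Only the vanishing, the finiteness and the dimensions
are stated here; the identifications of H^0(P, O_X(n)) with A_n and of H^d(P, O_X(n)) with the dual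
of A_{k-2-d-n} are not. -/
theorem result (F : Type u) [Field F] (d k : ℕ)
    (hd : 1 ≤ d) (hk : 1 ≤ k) (I : (CohB1.ProjSpace (d + 1) F).IdealSheafData)
    (hI : Nonempty (ClSub.idealMod I ≅ Twist.twistProjSpace (d + 1) F (-(k : ℤ)))) (n : ℤ) :
    (∀ p : ℕ, p ≠ 0 → p ≠ d →
      Subsingleton (Coh.HH (CohB1.ProjSpace (d + 1) F)
        (CohB1.tensorMod (ClSub.quotMod I) (Twist.twistProjSpace (d + 1) F n)) p)) ∧
    (Module.Finite F (Coh.HH (CohB1.ProjSpace (d + 1) F)
        (CohB1.tensorMod (ClSub.quotMod I) (Twist.twistProjSpace (d + 1) F n)) 0) ∧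
      Module.finrank F (Coh.HH (CohB1.ProjSpace (d + 1) F)
        (CohB1.tensorMod (ClSub.quotMod I) (Twist.twistProjSpace (d + 1) F n)) 0) =
        (Nat.choose (n + ((d : ℤ) + 1)).toNat (d + 1) - Nat.choose (n - (k : ℤ) + ((d : ℤ) + 1)).toNat (d + 1))) ∧
    (Module.Finite F (Coh.HH (CohB1.ProjSpace (d + 1) F)
        (CohB1.tensorMod (ClSub.quotMod I) (Twist.twistProjSpace (d + 1) F n)) d) ∧
      Module.finrank F (Coh.HH (CohB1.ProjSpace (d + 1) F)
        (CohB1.tensorMod (ClSub.quotMod I) (Twist.twistProjSpace (d + 1) F n)) d) =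
        (Nat.choose (((k : ℤ) - 2 - (d : ℤ) - n) + ((d : ℤ) + 1)).toNat (d + 1) - Nat.choose (((k : ℤ) - 2 - (d : ℤ) - n) - (k : ℤ) + ((d : ℤ) + 1)).toNat (d + 1))) := by
  open Groth.Agent.HypCoh70 in
  obtain ⟨S, hS, ⟨eA⟩, ⟨eB⟩, e3, h₃⟩ := exists_ses (r := d + 1) k I hI n
  haveI : IsProper (CohB1.ProjSpace (d + 1) F ↘ Spec (CommRingCat.of F)) :=
    Groth.Agent.ProjProper.Basic.isProper_toSpec (d + 1) F
  obtain ⟨m₁, m₂, -⟩ := Groth.Agent.HypCoh70.main hS eA eB (Nat.le_add_left 1 d) h₃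
  obtain ⟨m₀, md⟩ := m₂ (by omega)
  rw [Nat.add_sub_cancel] at md
  have f0 := Groth.Agent.EulerChar.finite_HH F S.X₃ h₃ 0
  have fd := Groth.Agent.EulerChar.finite_HH F S.X₃ h₃ d
  rw [e3] at m₁ m₀ md f0 fd
  refine ⟨fun p h0 hp => m₁ p h0 (by omega), ⟨f0, ?_⟩, fd, ?_⟩
  · rw [m₀, Groth.Agent.HypCoh70.ht_zero (d + 1) F (Nat.le_add_left 1 d),
      Groth.Agent.HypCoh70.ht_zero (d + 1) F (Nat.le_add_left 1 d)]
    push_cast
    rfl
  · rw [md, Groth.Agent.HypCoh70.ht_top (d + 1) F (Nat.le_add_left 1 d),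
      Groth.Agent.HypCoh70.ht_top (d + 1) F (Nat.le_add_left 1 d)]
    congr 3 <;> ring

end Groth.Agent.S19434
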