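import Groth.Statements.S19435
import Groth.Agent.HypCoh70.Basic
-- import your own Groth.Agent.* helpers here

set_option autoImplicit false
universe u
open Coherent

namespace Groth.Agent.S19435

open CategoryTheory CategoryTheory.Limits AlgebraicGeometry in
/-- The case d = 0. Let F be a field, k ≥ 1, P = P^1_F and X ⊆ P a hypersurface of degree k: a closed
subscheme (ideal sheaf I) whose ideal sheaf is isomorphic as an O_P-module to O_P(-k), with
coordinate ring A = F[x_0, x_1]/(q) whose degree-m piece has dimension a(m) = C(m+1, 1) - C(m-k+1,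
1) (negative upper entries read as 0); O_X(n) = O_X ⊗ O_P(n) as an O_P-module. Then H^0(P, O_X(n))
is finite-dimensional of dimension a(n) + a(k-2-n), that of an extension of the dual of the
degree-(k-2-n) piece of A by the degree-n piece (the exact sequence itself is not stated here); and
H^p(P, O_X(n)) vanishes for every p ≥ 1. -/
theorem result (F : Type u) [Field F] (k : ℕ)
    (hk : 1 ≤ k) (I : (CohB1.ProjSpace 1 F).IdealSheafData)
    (hI : Nonempty (ClSub.idealMod I ≅ Twist.twistProjSpace 1 F (-(k : ℤ)))) (n : ℤ) :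
    (Module.Finite F (Coh.HH (CohB1.ProjSpace 1 F)
        (CohB1.tensorMod (ClSub.quotMod I) (Twist.twistProjSpace 1 F n)) 0) ∧
      Module.finrank F (Coh.HH (CohB1.ProjSpace 1 F)
        (CohB1.tensorMod (ClSub.quotMod I) (Twist.twistProjSpace 1 F n)) 0) =
        (Nat.choose (n + 1).toNat 1 - Nat.choose (n - (k : ℤ) + 1).toNat 1) +
        (Nat.choose ((k : ℤ) - 2 - n + 1).toNat 1 - Nat.choose ((k : ℤ) - 2 - n - (k : ℤ) + 1).toNat 1)) ∧
    (∀ p : ℕ, 1 ≤ p →
      Subsingleton (Coh.HH (CohB1.ProjSpace 1 F)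
        (CohB1.tensorMod (ClSub.quotMod I) (Twist.twistProjSpace 1 F n)) p)) := by
  open Groth.Agent.HypCoh70 in
  obtain ⟨S, hS, ⟨eA⟩, ⟨eB⟩, e3, h₃⟩ := exists_ses (r := 1) k I hI n
  haveI : IsProper (CohB1.ProjSpace 1 F ↘ Spec (CommRingCat.of F)) :=
    Groth.Agent.ProjProper.Basic.isProper_toSpec 1 F
  obtain ⟨m₁, -, m₂⟩ := Groth.Agent.HypCoh70.main hS eA eB le_rfl h₃
  have m₀ := m₂ rfl
  have f0 := Groth.Agent.EulerChar.finite_HH F S.X₃ h₃ 0
  rw [e3] at m₁ m₀ f0
  refine ⟨⟨f0, ?_⟩, fun p hp => m₁ p (by omega) (by omega)⟩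
  rw [m₀, Groth.Agent.HypCoh70.ht_zero 1 F le_rfl, Groth.Agent.HypCoh70.ht_zero 1 F le_rfl,
    Groth.Agent.HypCoh70.ht_top 1 F le_rfl, Groth.Agent.HypCoh70.ht_top 1 F le_rfl]
  simp only [Nat.choose_one_right, Nat.cast_one]
  omega

end Groth.Agent.S19435
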