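import Mathlib
import Groth.Statements.S19436
-- import your own Groth.Agent.* helpers here

set_option autoImplicit false
universe u
open CAlg

namespace Groth.Agent.S19436

/-- For a Noetherian local commutative algebra R over a field k, with maximal ideal M, and an ideal I of
R whose quotient R/I is finite-dimensional over k of dimension n, the power M^n lies in I. -/
theorem result (k : Type u) [Field k] (R : Type u) [CommRing R]
    [Algebra k R] [IsNoetherianRing R] [IsLocalRing R] (I : Ideal R) [Module.Finite k (R ⧸ I)] (n : ℕ)
    (hn : Module.finrank k (R ⧸ I) = n) : IsLocalRing.maximalIdeal R ^ n ≤ I := by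
  classical
  let Q := R ⧸ I
  let W : ℕ → Submodule R Q := fun i => (IsLocalRing.maximalIdeal R ^ i • ⊤ : Submodule R Q)
  have hanti : ∀ i, W (i + 1) ≤ W i := fun i => Submodule.pow_smul_top_le _ _ i.le_succ
  have key : ∀ i, W i = ⊥ ∨ Module.finrank k ((W i).restrictScalars k) + i ≤ n := by
    intro i
    induction i with
    | zero => exact Or.inr (by rw [add_zero, ← hn]; exact Submodule.finrank_le _)
    | succ i ih =>
      rcases ih with h | h
      · exact Or.inl (le_bot_iff.mp (h ▸ hanti i))
      · by_cases heq : W (i + 1) = W i
        · left
          rw [heq]
          refine Submodule.eq_bot_of_le_smul_of_le_jacobson_bot (IsLocalRing.maximalIdeal R) (W i)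
            (IsNoetherian.noetherian _) ?_ (IsLocalRing.maximalIdeal_le_jacobson _)
          rw [← Submodule.mul_smul, ← pow_succ']
          exact heq.ge
        · right
          have hlt : (W (i + 1)).restrictScalars k < (W i).restrictScalars k :=
            lt_of_le_of_ne (hanti i) fun e => heq (Submodule.restrictScalars_injective k R Q e)
          have := Submodule.finrank_lt_finrank_of_lt hlt
          omega
  have hbot : W n = ⊥ := by
    rcases key n with h | h
    · exact h
    · have h0 : Module.finrank k ((W n).restrictScalars k) = 0 := by omega
      exact Submodule.restrictScalars_injective k R Q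
        ((Submodule.finrank_eq_zero.mp h0).trans (Submodule.restrictScalars_bot k R Q).symm)
  intro x hx
  rw [← Ideal.Quotient.eq_zero_iff_mem, ← Submodule.mem_bot R, ← hbot]
  have : x • (1 : Q) ∈ W n := Submodule.smul_mem_smul hx trivial
  rwa [Algebra.smul_def, mul_one] at this

end Groth.Agent.S19436
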