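import Groth.Statements.S19437
import Mathlib

set_option autoImplicit false
universe u
open CAlg

namespace Groth.Agent.S19437

open MvPowerSeries

/-- The exponent `(i, j)`. -/
noncomputable def E (i j : ℕ) : Fin 2 →₀ ℕ := Finsupp.single 0 i + Finsupp.single 1 j

@[simp] theorem E_zero (i j : ℕ) : E i j 0 = i := by simp [E]
@[simp] theorem E_one (i j : ℕ) : E i j 1 = j := by simp [E]

theorem eq_E (d : Fin 2 →₀ ℕ) : d = E (d 0) (d 1) := by ext i; fin_cases i <;> simp

theorem le_iff (i j : ℕ) (d : Fin 2 →₀ ℕ) : E i j ≤ d ↔ i ≤ d 0 ∧ j ≤ d 1 := by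
  refine ⟨fun h => ⟨by simpa using h 0, by simpa using h 1⟩, fun ⟨h0, h1⟩ l => ?_⟩
  fin_cases l <;> simpa

variable {k : Type u} [Field k]

theorem xy_eq : (X 0 * X 1 : MvPowerSeries (Fin 2) k) = monomial (E 1 1) 1 := by
  rw [X_def, X_def, monomial_mul_monomial, one_mul]; rfl

theorem xpow_eq (p : ℕ) : (X 0 ^ p : MvPowerSeries (Fin 2) k) = monomial (E p 0) 1 := by
  rw [X_pow_eq]; simp [E]

theorem ypow_eq (q : ℕ) : (X 1 ^ q : MvPowerSeries (Fin 2) k) = monomial (E 0 q) 1 := by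
  rw [X_pow_eq]; simp [E]

/-- The vanishing of the axis coefficients below `p` and `q`. -/
def Low (p q : ℕ) (f : MvPowerSeries (Fin 2) k) : Prop :=
  (∀ i < p, coeff (E i 0) f = 0) ∧ ∀ j < q, coeff (E 0 j) f = 0

theorem decomp {p q : ℕ} (hq : 1 ≤ q) {f : MvPowerSeries (Fin 2) k} (hf : Low p q f) :
    ∃ h u v, f = X 0 * X 1 * h + X 0 ^ p * u + X 1 ^ q * v ∧
      constantCoeff u = coeff (E p 0) f ∧ constantCoeff v = coeff (E 0 q) f := by
  let h : MvPowerSeries (Fin 2) k := fun d => coeff (E (d 0 + 1) (d 1 + 1)) f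
  let u : MvPowerSeries (Fin 2) k := fun d => if d 1 = 0 then coeff (E (d 0 + p) 0) f else 0
  let v : MvPowerSeries (Fin 2) k := fun d => if d 0 = 0 then coeff (E 0 (d 1 + q)) f else 0
  refine ⟨h, u, v, MvPowerSeries.ext fun d => ?_, ?_⟩
  · rw [map_add, map_add, xy_eq, xpow_eq, ypow_eq, coeff_monomial_mul, coeff_monomial_mul,
      coeff_monomial_mul, one_mul, one_mul, one_mul]
    simp only [le_iff, zero_le, and_true, true_and]
    have hh : ∀ e, coeff e h = coeff (E (e 0 + 1) (e 1 + 1)) f := fun _ => rfl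
    have hu : ∀ e, coeff e u = if e 1 = 0 then coeff (E (e 0 + p) 0) f else 0 := fun _ => rfl
    have hv : ∀ e, coeff e v = if e 0 = 0 then coeff (E 0 (e 1 + q)) f else 0 := fun _ => rfl
    simp only [hh, hu, hv, Finsupp.tsub_apply, E_zero, E_one, Nat.sub_zero]
    rw [eq_E d]
    simp only [E_zero, E_one]
    generalize d 0 = i, d 1 = j
    rcases Nat.eq_zero_or_pos j with rfl | hj
    · rw [if_neg (by omega), if_pos rfl, if_neg (c := q ≤ 0) (by omega), zero_add, add_zero]
      split_ifs with hi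
      · rw [Nat.sub_add_cancel hi]
      · exact hf.1 i (by omega)
    rcases Nat.eq_zero_or_pos i with rfl | hi
    · rw [if_neg (c := 1 ≤ 0 ∧ _) (by omega), zero_add]
      by_cases hqj : q ≤ j
      · rw [if_pos hqj, if_pos rfl, Nat.sub_add_cancel hqj]
        split_ifs <;> simp
        omega
      · rw [if_neg hqj, hf.2 j (by omega)]
        split_ifs <;> simp
        omega
    · rw [if_pos ⟨hi, hj⟩, Nat.sub_add_cancel hi, Nat.sub_add_cancel hj]
      split_ifs <;> first | omega | simp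
  · constructor
    · show u 0 = _
      simp [u]
    · show v 0 = _
      simp [v]

theorem low_mul {p q : ℕ} (hp : 1 ≤ p) (hq : 1 ≤ q) (g : MvPowerSeries (Fin 2) k) :
    Low p q (X 0 * X 1 * g) ∧ Low p q (X 0 ^ p * g) ∧ Low p q (X 1 ^ q * g) := by
  rw [xy_eq, xpow_eq, ypow_eq]
  refine ⟨⟨fun i hi => ?_, fun j hj => ?_⟩, ⟨fun i hi => ?_, fun j hj => ?_⟩, ⟨fun i hi => ?_, fun j hj => ?_⟩⟩ <;>
  · rw [coeff_monomial_mul, if_neg]
    rw [le_iff]
    simp only [E_zero, E_one]
    omega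

theorem span_le_low {p q : ℕ} (hp : 1 ≤ p) (hq : 1 ≤ q) {f : MvPowerSeries (Fin 2) k}
    (hf : f ∈ Ideal.span {X 0 * X 1, X 0 ^ p, X 1 ^ q}) : Low p q f := by
  simp only [Ideal.mem_span_insert, Ideal.mem_span_singleton'] at hf
  obtain ⟨a, z, ⟨b, w, ⟨c, rfl⟩, rfl⟩, rfl⟩ := hf
  obtain ⟨h1, -, -⟩ := low_mul (k := k) hp hq a
  obtain ⟨-, h2, -⟩ := low_mul (k := k) hp hq b
  obtain ⟨-, -, h3⟩ := low_mul (k := k) hp hq c
  rw [mul_comm a, mul_comm b, mul_comm c]
  exact ⟨fun i hi => by rw [map_add, map_add, h1.1 i hi, h2.1 i hi, h3.1 i hi, add_zero, add_zero],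
    fun j hj => by rw [map_add, map_add, h1.2 j hj, h2.2 j hj, h3.2 j hj, add_zero, add_zero]⟩

theorem low_le_span {p q : ℕ} (hq : 1 ≤ q) {f : MvPowerSeries (Fin 2) k} (hf : Low p q f) :
    f ∈ Ideal.span {X 0 * X 1, X 0 ^ p, X 1 ^ q} := by
  obtain ⟨h, u, v, rfl, -, -⟩ := decomp hq hf
  refine add_mem (add_mem ?_ ?_) ?_ <;> refine Ideal.mul_mem_right _ _ (Ideal.subset_span ?_) <;> simp

/-- A series with prescribed axis coefficients. -/
theorem exists_axes (u v : ℕ → k) : ∃ f : MvPowerSeries (Fin 2) k,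
    (∀ i, coeff (E i 0) f = u i) ∧ ∀ j, coeff (E 0 (j + 1)) f = v j := by
  refine ⟨fun d => if d 1 = 0 then u (d 0) else v (d 1 - 1), fun i => ?_, fun j => ?_⟩
  · show (if E i 0 1 = 0 then _ else _) = _
    simp
  · show (if E 0 (j + 1) 1 = 0 then _ else _) = _
    simp

theorem low_iff {p q : ℕ} (hp : 1 ≤ p) (f : MvPowerSeries (Fin 2) k) :
    Low p q f ↔ (∀ i : Fin p, coeff (E i 0) f = 0) ∧ ∀ j : Fin (q - 1), coeff (E 0 (j + 1)) f = 0 := by
  refine ⟨fun h => ⟨fun i => h.1 i i.2, fun j => h.2 _ (by have := j.2; omega)⟩,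
    fun h => ⟨fun i hi => h.1 ⟨i, hi⟩, fun j hj => ?_⟩⟩
  rcases Nat.eq_zero_or_pos j with rfl | hj0
  · simpa [E] using h.1 ⟨0, hp⟩
  · have := h.2 ⟨j - 1, by omega⟩
    rwa [show ((⟨j - 1, _⟩ : Fin (q - 1)) : ℕ) + 1 = j from Nat.sub_add_cancel hj0] at this

/-- The colength of the ideal of a surjective linear map. -/
theorem finrank_quot {W : Type u} [AddCommGroup W] [Module k W] (J : Ideal (MvPowerSeries (Fin 2) k))
    (L : MvPowerSeries (Fin 2) k →ₗ[k] W) (hL : Function.Surjective L) (hker : ∀ f, L f = 0 ↔ f ∈ J) :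
    Module.finrank k (MvPowerSeries (Fin 2) k ⧸ J) = Module.finrank k W := by
  have he : LinearMap.ker L = J.restrictScalars k := Submodule.ext hker
  rw [← ((Submodule.quotEquivOfEq _ _ he.symm).trans (LinearMap.quotKerEquivOfSurjective L hL) |>.finrank_eq)]
  exact (Submodule.Quotient.restrictScalarsEquiv k J).finrank_eq.symm

/-- Ideals of colength n of the complete local ring of a node. Let k be a field and J an ideal of the
power series ring k[[x,y]] in two variables x, y which contains xy and whose quotient is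
finite-dimensional over k of dimension n ≥ 2. Then there are integers a, b ≥ 1 such that either a +
b = n + 1 and J is generated by xy, x^a, y^b, or a + b = n and J is generated by xy and x^a + α y^b
for some nonzero scalar α. -/
theorem result (k : Type u) [Field k]
    (J : Ideal (MvPowerSeries (Fin 2) k))
    (hxy : (MvPowerSeries.X 0 * MvPowerSeries.X 1 : MvPowerSeries (Fin 2) k) ∈ J)
    [Module.Finite k (MvPowerSeries (Fin 2) k ⧸ J)] (n : ℕ) (hn : Module.finrank k (MvPowerSeries (Fin 2) k ⧸ J) = n)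
    (h2 : 2 ≤ n) :
    ∃ a b : ℕ, 1 ≤ a ∧ 1 ≤ b ∧
      ((a + b = n + 1 ∧
        J = Ideal.span {MvPowerSeries.X 0 * MvPowerSeries.X 1, MvPowerSeries.X 0 ^ a, MvPowerSeries.X 1 ^ b}) ∨
       (a + b = n ∧ ∃ α : k, α ≠ 0 ∧
        J = Ideal.span {MvPowerSeries.X 0 * MvPowerSeries.X 1,
          MvPowerSeries.X 0 ^ a + MvPowerSeries.C α * MvPowerSeries.X 1 ^ b})) := by
  classical
  have hne : J ≠ ⊤ := by
    rintro rfl
    haveI : Subsingleton (MvPowerSeries (Fin 2) k ⧸ (⊤ : Ideal (MvPowerSeries (Fin 2) k))) :=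
      Ideal.Quotient.subsingleton_iff.2 rfl
    rw [Module.finrank_zero_of_subsingleton] at hn
    omega
  have h00 : ∀ f ∈ J, coeff (E 0 0) f = 0 := fun f hf => by
    by_contra hc
    refine hne (Ideal.eq_top_of_isUnit_mem J hf ?_)
    rw [isUnit_iff_constantCoeff, isUnit_iff_ne_zero, ← coeff_zero_eq_constantCoeff_apply]
    simpa [E] using hc
  -- the ideal meets both axes
  have hex : ∀ s : Fin 2, ∃ i, ∃ f ∈ J, coeff (Finsupp.single s i) f ≠ 0 := by
    intro s
    have hdep := fun h => (LinearIndependent.fintype_card_le_finrank (R := k)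
      (b := fun i : Fin (n + 1) => Ideal.Quotient.mk J ((X s : MvPowerSeries (Fin 2) k) ^ (i : ℕ))) h)
    rw [hn, Fintype.card_fin] at hdep
    have hnli : ¬ LinearIndependent k
        (fun i : Fin (n + 1) => Ideal.Quotient.mk J ((X s : MvPowerSeries (Fin 2) k) ^ (i : ℕ))) :=
      fun h => by have := hdep h; omega
    rw [Fintype.not_linearIndependent_iff] at hnli
    obtain ⟨c, hc, i, hi⟩ := hnli
    refine ⟨i, ∑ j, c j • (X s : MvPowerSeries (Fin 2) k) ^ (j : ℕ), ?_, ?_⟩
    · rw [← Ideal.Quotient.eq_zero_iff_mem, map_sum, ← hc]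
      exact Finset.sum_congr rfl fun j _ => rfl
    · rw [map_sum, Finset.sum_eq_single i]
      · rwa [map_smul, X_pow_eq, coeff_monomial_same, smul_eq_mul, mul_one]
      · intro j _ hj
        rw [map_smul, X_pow_eq, coeff_monomial_ne, smul_zero]
        exact fun h => hj (Fin.ext (Finsupp.single_injective s h).symm)
      · simp
  obtain ⟨hex0, hex1⟩ : (∃ i, ∃ f ∈ J, coeff (E i 0) f ≠ 0) ∧ ∃ i, ∃ f ∈ J, coeff (E 0 i) f ≠ 0 :=
    ⟨by simpa [E] using hex 0, by simpa [E] using hex 1⟩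
  set a := Nat.find hex0 with ha
  set b := Nat.find hex1 with hb
  obtain ⟨fa, hfa, hfa'⟩ := Nat.find_spec hex0
  obtain ⟨fb, hfb, hfb'⟩ := Nat.find_spec hex1
  rw [← ha] at hfa'
  rw [← hb] at hfb'
  have ha1 : 1 ≤ a := Nat.pos_of_ne_zero fun h => hfa' (by rw [h]; exact h00 fa hfa)
  have hb1 : 1 ≤ b := Nat.pos_of_ne_zero fun h => hfb' (by rw [h]; exact h00 fb hfb)
  have hlow : ∀ f ∈ J, Low a b f := fun f hf =>
    ⟨fun i hi => by_contra fun h => Nat.find_min hex0 hi ⟨f, hf, h⟩,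
      fun j hj => by_contra fun h => Nat.find_min hex1 hj ⟨f, hf, h⟩⟩
  have hxa : X 0 ^ (a + 1) ∈ J := by
    obtain ⟨h, u, v, he, hu, -⟩ := decomp (p := a) le_rfl (f := fa) ⟨(hlow fa hfa).1, fun j hj => by
      rw [Nat.lt_one_iff.1 hj]; exact h00 fa hfa⟩
    have h1 : X 0 ^ (a + 1) * u ∈ J := by
      rw [show X 0 ^ (a + 1) * u = X 0 * fa - X 0 * X 1 * (X 0 * h + v) by rw [he]; ring]
      exact sub_mem (Ideal.mul_mem_left _ _ hfa) (Ideal.mul_mem_right _ _ hxy)
    exact (Ideal.mul_unit_mem_iff_mem J (isUnit_iff_constantCoeff.2 (isUnit_iff_ne_zero.2 (hu ▸ hfa')))).1 h1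
  have hyb : X 1 ^ (b + 1) ∈ J := by
    obtain ⟨h, u, v, he, -, hv⟩ := decomp (p := 1) hb1 (f := fb) ⟨fun i hi => by
      rw [Nat.lt_one_iff.1 hi]; exact h00 fb hfb, (hlow fb hfb).2⟩
    have h1 : X 1 ^ (b + 1) * v ∈ J := by
      rw [show X 1 ^ (b + 1) * v = X 1 * fb - X 0 * X 1 * (X 1 * h + u) by rw [he]; ring]
      exact sub_mem (Ideal.mul_mem_left _ _ hfb) (Ideal.mul_mem_right _ _ hxy)
    exact (Ideal.mul_unit_mem_iff_mem J (isUnit_iff_constantCoeff.2 (isUnit_iff_ne_zero.2 (hv ▸ hfb')))).1 h1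
  have hbig : ∀ f, Low (a + 1) (b + 1) f → f ∈ J := fun f hf =>
    SetLike.le_def.1 (Ideal.span_le.2 (Set.insert_subset_iff.2 ⟨hxy, Set.insert_subset_iff.2
      ⟨hxa, Set.singleton_subset_iff.2 hyb⟩⟩)) (low_le_span (Nat.succ_pos b) hf)
  have htop : ∀ f, Low a b f → f - C (coeff (E a 0) f) * X 0 ^ a - C (coeff (E 0 b) f) * X 1 ^ b ∈ J := by
    intro f hf
    refine hbig _ ⟨fun i hi => ?_, fun j hj => ?_⟩ <;>
      rw [map_sub, map_sub, coeff_C_mul, coeff_C_mul, xpow_eq, ypow_eq, coeff_monomial, coeff_monomial]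
    · rw [if_neg (c := E i 0 = E 0 b) (fun h => by have := congrArg (fun d : Fin 2 →₀ ℕ => d 1) h; simp at this; omega),
        mul_zero, sub_zero]
      rcases Nat.lt_succ_iff_lt_or_eq.1 hi with h | rfl
      · rw [hf.1 i h, if_neg (fun e => by have := congrArg (fun d : Fin 2 →₀ ℕ => d 0) e; simp at this; omega), mul_zero, sub_zero]
      · rw [if_pos rfl, mul_one, sub_self]
    · rw [if_neg (c := E 0 j = E a 0) (fun h => by have := congrArg (fun d : Fin 2 →₀ ℕ => d 0) h; simp at this; omega),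
        mul_zero, sub_zero]
      rcases Nat.lt_succ_iff_lt_or_eq.1 hj with h | rfl
      · rw [hf.2 j h, if_neg (fun e => by have := congrArg (fun d : Fin 2 →₀ ℕ => d 1) e; simp at this; omega), mul_zero, sub_zero]
      · rw [if_pos rfl, mul_one, sub_self]
  let Lx : MvPowerSeries (Fin 2) k →ₗ[k] (Fin a → k) := LinearMap.pi fun i => coeff (E i 0)
  let Ly : MvPowerSeries (Fin 2) k →ₗ[k] (Fin (b - 1) → k) := LinearMap.pi fun j => coeff (E 0 (j + 1))
  by_cases hA : X 0 ^ a ∈ J
  · have hB : X 1 ^ b ∈ J := by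
      have h1 := htop fb (hlow fb hfb)
      have h2 : C (coeff (E 0 b) fb) * X 1 ^ b ∈ J := by
        have h3 := sub_mem (sub_mem hfb (Ideal.mul_mem_left J (C (coeff (E a 0) fb)) hA)) h1
        simpa using h3
      exact (Ideal.unit_mul_mem_iff_mem J ((isUnit_iff_ne_zero.2 hfb').map C)).1 h2
    have hJ : J = Ideal.span {X 0 * X 1, X 0 ^ a, X 1 ^ b} := by
      refine le_antisymm (fun f hf => low_le_span hb1 (hlow f hf)) ?_
      rw [Ideal.span_le, Set.insert_subset_iff, Set.insert_subset_iff, Set.singleton_subset_iff]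
      exact ⟨hxy, hA, hB⟩
    refine ⟨a, b, ha1, hb1, Or.inl ⟨?_, hJ⟩⟩
    have h1 := finrank_quot J (Lx.prod Ly) (fun z => ?_) (fun f => ?_)
    · rw [hn, Module.finrank_prod, Module.finrank_fin_fun, Module.finrank_fin_fun] at h1
      omega
    · obtain ⟨f, hf1, hf2⟩ := exists_axes (fun i => if h : i < a then z.1 ⟨i, h⟩ else 0)
        (fun j => if h : j < b - 1 then z.2 ⟨j, h⟩ else 0)
      exact ⟨f, Prod.ext (funext fun i => by simp [Lx, hf1]) (funext fun j => by simp [Ly, hf2])⟩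
    · constructor
      · intro h
        rw [hJ]
        refine low_le_span hb1 ((low_iff ha1 f).2 ?_)
        simpa [Lx, Ly, Prod.ext_iff, funext_iff] using h
      · intro hf
        simpa [Lx, Ly, Prod.ext_iff, funext_iff] using (low_iff ha1 f).1 (hlow f hf)
  · set ca := coeff (E a 0) fa
    set cb := coeff (E 0 b) fa
    have hg0 : C ca * X 0 ^ a + C cb * X 1 ^ b ∈ J := by
      have h1 := sub_mem hfa (htop fa (hlow fa hfa))
      simpa [sub_sub] using h1
    have hcb : cb ≠ 0 := fun h => hA ((Ideal.unit_mul_mem_iff_mem J ((isUnit_iff_ne_zero.2 hfa').map C)).1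
      (by simpa [h] using hg0))
    set α := ca⁻¹ * cb
    have hα : α ≠ 0 := mul_ne_zero (inv_ne_zero hfa') hcb
    have hg : X 0 ^ a + C α * X 1 ^ b ∈ J := by
      have h1 := Ideal.mul_mem_left J (C ca⁻¹) hg0
      rwa [mul_add, ← mul_assoc, ← mul_assoc, ← map_mul, ← map_mul, inv_mul_cancel₀ hfa', map_one, one_mul] at h1
    have hiff : ∀ f, f ∈ J ↔ Low a b f ∧ coeff (E 0 b) f = α * coeff (E a 0) f := by
      intro f
      constructor
      · intro hf
        refine ⟨hlow f hf, by_contra fun hne' => hA ?_⟩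
        have h1 : (C (coeff (E 0 b) f - α * coeff (E a 0) f)) * X 1 ^ b ∈ J := by
          have h3 := sub_mem (sub_mem hf (htop f (hlow f hf))) (Ideal.mul_mem_left J (C (coeff (E a 0) f)) hg)
          refine (congrArg (· ∈ J) ?_).mp h3
          simp only [α, map_sub, map_mul]; ring
        have hB := (Ideal.unit_mul_mem_iff_mem J ((isUnit_iff_ne_zero.2 (sub_ne_zero.2 hne')).map C)).1 h1
        simpa using sub_mem hg (Ideal.mul_mem_left J (C α) hB)
      · rintro ⟨h1, h2⟩
        have h3 := add_mem (htop f h1) (Ideal.mul_mem_left J (C (coeff (E a 0) f)) hg)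
        refine (congrArg (· ∈ J) ?_).mp h3
        rw [h2]; simp only [map_mul]; ring
    have hJ : J = Ideal.span {X 0 * X 1, X 0 ^ a + C α * X 1 ^ b} := by
      refine le_antisymm (fun f hf => ?_) ?_
      · obtain ⟨h1, h2⟩ := (hiff f).1 hf
        set I : Ideal (MvPowerSeries (Fin 2) k) := Ideal.span {X 0 * X 1, X 0 ^ a + C α * X 1 ^ b}
        have hxI : X 0 * X 1 ∈ I := Ideal.subset_span (Or.inl rfl)
        have hgI : X 0 ^ a + C α * X 1 ^ b ∈ I := Ideal.subset_span (Or.inr rfl)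
        have hxI' : X 0 ^ (a + 1) ∈ I := by
          have h3 := sub_mem (Ideal.mul_mem_left I (X 0) hgI) (Ideal.mul_mem_left I (C α * X 1 ^ (b - 1)) hxI)
          refine (congrArg (· ∈ I) ?_).mp h3
          conv_lhs => rw [show b = b - 1 + 1 by omega, Nat.add_sub_cancel]
          ring
        have hyI' : X 1 ^ (b + 1) ∈ I := by
          refine (Ideal.unit_mul_mem_iff_mem I ((isUnit_iff_ne_zero.2 hα).map C)).1 ?_
          have h3 := sub_mem (Ideal.mul_mem_left I (X 1) hgI) (Ideal.mul_mem_left I (X 0 ^ (a - 1)) hxI)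
          refine (congrArg (· ∈ I) ?_).mp h3
          conv_lhs => rw [show a = a - 1 + 1 by omega, Nat.add_sub_cancel]
          ring
        have h4 : f - C (coeff (E a 0) f) * (X 0 ^ a + C α * X 1 ^ b) ∈ I := by
          refine SetLike.le_def.1 (Ideal.span_le.2 (Set.insert_subset_iff.2 ⟨hxI, Set.insert_subset_iff.2
            ⟨hxI', Set.singleton_subset_iff.2 hyI'⟩⟩)) (low_le_span (Nat.succ_pos b) ?_)
          refine ⟨fun i hi => ?_, fun j hj => ?_⟩ <;>
            rw [map_sub, coeff_C_mul, map_add, coeff_C_mul, xpow_eq, ypow_eq, coeff_monomial, coeff_monomial]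
          · rw [if_neg (c := E i 0 = E 0 b) (fun h => by have := congrArg (fun d : Fin 2 →₀ ℕ => d 1) h; simp at this; omega),
              mul_zero, add_zero]
            rcases Nat.lt_succ_iff_lt_or_eq.1 hi with h | rfl
            · rw [h1.1 i h, if_neg (fun e => by have := congrArg (fun d : Fin 2 →₀ ℕ => d 0) e; simp at this; omega), mul_zero, sub_zero]
            · rw [if_pos rfl, mul_one, sub_self]
          · rw [if_neg (c := E 0 j = E a 0) (fun h => by have := congrArg (fun d : Fin 2 →₀ ℕ => d 0) h; simp at this; omega),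
              zero_add]
            rcases Nat.lt_succ_iff_lt_or_eq.1 hj with h | rfl
            · rw [h1.2 j h, if_neg (fun e => by have := congrArg (fun d : Fin 2 →₀ ℕ => d 1) e; simp at this; omega), mul_zero, mul_zero, sub_zero]
            · rw [if_pos rfl, mul_one, h2, mul_comm α, sub_self]
        have := add_mem h4 (Ideal.mul_mem_left I (C (coeff (E a 0) f)) hgI)
        simpa using this
      · rw [Ideal.span_le, Set.insert_subset_iff, Set.singleton_subset_iff]
        exact ⟨hxy, hg⟩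
    refine ⟨a, b, ha1, hb1, Or.inr ⟨?_, α, hα, hJ⟩⟩
    let Lz : MvPowerSeries (Fin 2) k →ₗ[k] k := coeff (E 0 b) - α • coeff (E a 0)
    have h1 := finrank_quot J ((Lx.prod Ly).prod Lz) (fun z => ?_) (fun f => ?_)
    · rw [hn, Module.finrank_prod, Module.finrank_prod, Module.finrank_fin_fun, Module.finrank_fin_fun,
        Module.finrank_self] at h1
      omega
    · obtain ⟨f, hf1, hf2⟩ := exists_axes (fun i => if h : i < a then z.1.1 ⟨i, h⟩ else 0)
        (fun j => if h : j < b - 1 then z.1.2 ⟨j, h⟩ else z.2)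
      refine ⟨f, Prod.ext (Prod.ext (funext fun i => by simp [Lx, hf1]) (funext fun j => by simp [Ly, hf2])) ?_⟩
      have hfb2 : coeff (E 0 b) f = z.2 := by
        have hj := hf2 (b - 1)
        rwa [Nat.sub_add_cancel hb1, dif_neg (lt_irrefl _)] at hj
      simp [Lz, hfb2, hf1]
    · rw [hiff, low_iff ha1]
      simp [Lx, Ly, Lz, Prod.ext_iff, funext_iff, sub_eq_zero]

end Groth.Agent.S19437
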