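import Mathlib
import Groth.Statements.S19438
-- import your own Groth.Agent.* helpers here

set_option autoImplicit false
universe u
open CAlg

namespace Groth.Agent.S19438

/-- First assertion: let A be a Noetherian local commutative algebra over a field k with maximal ideal
M, residue field k (the map from k to A/M is onto) and embedding dimension dim M/M^2 at least 2, and
let I be a proper ideal with A/I finite-dimensional over k. If A/I is generated as a k-algebra by
one element, then some element of I does not lie in M^2; that is, the finite closed subscheme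
defined by I lies on a smooth hypersurface germ (it is curvilinear). (The published statement is for
the local ring of a smooth surface at a closed point; only a Noetherian local algebra with residue
field k and embedding dimension at least 2 is assumed here, which is what the published argument
uses.) -/
theorem result (k : Type u) [Field k]
    (A : Type u) [CommRing A] [Algebra k A] [IsNoetherianRing A] [IsLocalRing A]
    (hres : Function.Surjective (algebraMap k (IsLocalRing.ResidueField A)))
    (hemb : 2 ≤ Module.finrank (IsLocalRing.ResidueField A) (IsLocalRing.CotangentSpace A))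
    (I : Ideal A) (hI : I ≠ ⊤) [Module.Finite k (A ⧸ I)]
    (f : A ⧸ I) (hf : Algebra.adjoin k {f} = ⊤) :
    ∃ g ∈ I, g ∉ IsLocalRing.maximalIdeal A ^ 2 := by
  classical
  by_contra hcon
  simp only [not_exists, not_and, not_not] at hcon
  let M := IsLocalRing.maximalIdeal A
  obtain ⟨a, ha⟩ := Ideal.Quotient.mk_surjective f
  obtain ⟨c, hc⟩ := hres (IsLocalRing.residue A a)
  have hcM : a - algebraMap k A c ∈ M := by
    refine Ideal.Quotient.eq.mp ?_
    exact hc.symm
  let m : M := ⟨a - algebraMap k A c, hcM⟩
  have key : ∀ x : M, ∃ r : A, (x : A) - r * (m : A) ∈ M ^ 2 := by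
    intro x
    have hx : Ideal.Quotient.mk I (x : A) ∈ Algebra.adjoin k {f} := hf ▸ Algebra.mem_top
    rw [Algebra.adjoin_singleton_eq_range_aeval] at hx
    obtain ⟨P, hP⟩ := hx
    have hP' : (x : A) - Polynomial.aeval a P ∈ I := by
      refine Ideal.Quotient.eq.mp ?_
      rw [← hP, ← ha]
      exact Polynomial.aeval_algHom_apply (Ideal.Quotient.mkₐ k I) a P
    obtain ⟨Q, hQ⟩ := (P.map (algebraMap k A)).binomExpansion (algebraMap k A c) (a - algebraMap k A c)
    refine ⟨algebraMap k A (P.derivative.eval c), ?_⟩
    have h1 := hcon _ hP'
    set m' : A := a - algebraMap k A c with hm'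
    have hQ1 : Polynomial.aeval a P = algebraMap k A (P.eval c) +
        algebraMap k A (P.derivative.eval c) * m' + Q * m' ^ 2 := by
      rw [Polynomial.derivative_map, Polynomial.eval_map, Polynomial.eval_map, Polynomial.eval_map,
        Polynomial.eval₂_at_apply, Polynomial.eval₂_at_apply] at hQ
      rw [Polynomial.aeval_def, ← hQ]
      congr 1
      rw [hm']; ring
    have h2 : algebraMap k A (P.eval c) ∈ M := by
      have h3 : algebraMap k A (P.eval c) =
          (x : A) - ((x : A) - Polynomial.aeval a P) - algebraMap k A (P.derivative.eval c) * m' -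
            Q * m' ^ 2 := by
        rw [hQ1]; ring
      rw [h3]
      exact sub_mem (sub_mem (sub_mem x.2 (Ideal.pow_le_self two_ne_zero h1))
        (M.mul_mem_left _ hcM)) (M.mul_mem_left _ (Ideal.pow_mem_of_mem M hcM 2 two_pos))
    have h4 : P.eval c = 0 := by
      by_contra hne
      exact (IsLocalRing.mem_maximalIdeal _).mp h2 ((IsUnit.mk0 _ hne).map (algebraMap k A))
    have h5 : (x : A) - algebraMap k A (P.derivative.eval c) * m' =
        ((x : A) - Polynomial.aeval a P) + Q * m' ^ 2 := by
      rw [hQ1, h4, map_zero]; ring
    show (x : A) - algebraMap k A (P.derivative.eval c) * m' ∈ M ^ 2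
    rw [h5]
    exact add_mem h1 (Ideal.mul_mem_left _ _ (Ideal.pow_mem_pow hcM 2))
  have h1 : Module.finrank (IsLocalRing.ResidueField A) (IsLocalRing.CotangentSpace A) ≤ 1 := by
    refine finrank_le_one (M.toCotangent m) fun w => ?_
    obtain ⟨x, rfl⟩ := M.toCotangent_surjective w
    obtain ⟨r, hr⟩ := key x
    refine ⟨IsLocalRing.residue A r, ?_⟩
    have h2 : M.toCotangent x = r • M.toCotangent m := by
      rw [← map_smul, Ideal.toCotangent_eq]
      simpa using hr
    rw [h2]
    rfl
  omega


end Groth.Agent.S19438
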