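import Mathlib
import Groth.Statements.S19439
-- import your own Groth.Agent.* helpers here

set_option autoImplicit false
universe u
open CAlg

namespace Groth.Agent.S19439

/-- Affine form: for all n and N there is an integer d, that depends only on n and N, such that for
every algebraically closed field k and every ideal I of the polynomial ring in N variables over k
whose quotient has finite dimension n over k, the polynomials of total degree at most d map onto the
quotient. -/
theorem result (n N : ℕ) :
    ∃ d : ℕ, ∀ (k : Type u) [Field k] [IsAlgClosed k] (I : Ideal (MvPolynomial (Fin N) k))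
      [Module.Finite k (MvPolynomial (Fin N) k ⧸ I)],
      Module.finrank k (MvPolynomial (Fin N) k ⧸ I) = n →
      Submodule.map (Ideal.Quotient.mkₐ k I).toLinearMap (MvPolynomial.restrictTotalDegree (Fin N) k d) = ⊤ := by
  classical
  refine ⟨n, fun k _ _ I _ hn => ?_⟩
  let q := (Ideal.Quotient.mkₐ k I).toLinearMap
  let V : ℕ → Submodule k (MvPolynomial (Fin N) k ⧸ I) := fun d =>
    Submodule.map q (MvPolynomial.restrictTotalDegree (Fin N) k d)
  have hmono : ∀ d, V d ≤ V (d + 1) := fun d => Submodule.map_mono fun p hp => by
    rw [MvPolynomial.mem_restrictTotalDegree] at hp ⊢; omega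
  have hone : (1 : MvPolynomial (Fin N) k ⧸ I) ∈ V 0 :=
    ⟨1, by simp [MvPolynomial.mem_restrictTotalDegree], map_one (Ideal.Quotient.mkₐ k I)⟩
  have hstab : ∀ d, V (d + 1) = V d → V d = ⊤ := by
    intro d hd
    rw [eq_top_iff]
    rintro y -
    obtain ⟨p, rfl⟩ := Ideal.Quotient.mkₐ_surjective k I y
    induction p using MvPolynomial.induction_on with
    | C a =>
      have : (1 : MvPolynomial (Fin N) k ⧸ I) ∈ V d := monotone_nat_of_le_succ hmono d.zero_le hone
      have h2 := (V d).smul_mem a this
      rwa [← Algebra.algebraMap_eq_smul_one, ← AlgHom.commutes (Ideal.Quotient.mkₐ k I) a] at h2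
    | add p r hp hr => rw [map_add]; exact add_mem hp hr
    | mul_X p i hp =>
      obtain ⟨r, hr, hrp⟩ := hp
      rw [← hd]
      refine ⟨r * MvPolynomial.X i, ?_, ?_⟩
      · rw [SetLike.mem_coe, MvPolynomial.mem_restrictTotalDegree] at hr ⊢
        exact (MvPolynomial.totalDegree_mul _ _).trans (Nat.add_le_add hr (MvPolynomial.totalDegree_X i).le)
      · show Ideal.Quotient.mkₐ k I _ = _
        rw [map_mul, map_mul]
        exact congrArg (· * _) hrp
  have key : ∀ d, V d = ⊤ ∨ d ≤ Module.finrank k (V d) := by
    intro d
    induction d with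
    | zero => exact Or.inr (Nat.zero_le _)
    | succ d ih =>
      rcases ih with h | h
      · exact Or.inl (top_le_iff.mp (h ▸ hmono d))
      · by_cases heq : V (d + 1) = V d
        · exact Or.inl (heq.trans (hstab d heq))
        · right
          have := Submodule.finrank_lt_finrank_of_lt (lt_of_le_of_ne (hmono d) (Ne.symm heq))
          omega
  rcases key n with h | h
  · exact h
  · exact Submodule.eq_top_of_finrank_eq (le_antisymm (Submodule.finrank_le _) (hn ▸ h))

end Groth.Agent.S19439
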