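import Groth.Statements.S19443


set_option autoImplicit false
universe u
open LinAlg

namespace Groth.Agent.S19443

/-- Algebraic form: let G be a finite group with order invertible in the field k, ρ a linear
representation of G on a k-vector space V, and ω a nondegenerate bilinear form on V invariant under
G. Then ω restricted to the fixed subspace V^G is nondegenerate (for a finite group of symplectic
automorphisms, the fixed subspace is a symplectic subspace). -/
theorem result (k : Type u) [Field k]
    (G : Type u) [Group G] [Finite G] (hG : (Nat.card G : k) ≠ 0)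
    (V : Type u) [AddCommGroup V] [Module k V] (ρ : Representation k G V)
    (ω : LinearMap.BilinForm k V) (hω : ω.Nondegenerate)
    (hinv : ∀ (g : G) (v w : V), ω (ρ g v) (ρ g w) = ω v w) :
    (ω.restrict ρ.invariants).Nondegenerate := by
  classical
  have := Fintype.ofFinite G
  rw [Nat.card_eq_fintype_card] at hG
  let av : V →ₗ[k] V := (Fintype.card G : k)⁻¹ • ∑ g, ρ g
  have hav : ∀ w, av w ∈ ρ.invariants := fun w g => by
    simp only [av, LinearMap.smul_apply, LinearMap.sum_apply, map_smul, map_sum]
    congr 1
    refine Fintype.sum_bijective (g * ·) (Group.mulLeft_bijective g) _ _ fun h => ?_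
    rw [map_mul]
    rfl
  have hfix : ∀ (v : V), v ∈ ρ.invariants → ∀ g w, ω v (ρ g w) = ω v w := fun v hv g w => by
    rw [← hv g, hinv, hv g]
  have hfix' : ∀ (v : V), v ∈ ρ.invariants → ∀ g w, ω (ρ g w) v = ω w v := fun v hv g w => by
    rw [← hv g, hinv, hv g]
  refine ⟨fun v hv => Subtype.ext (hω.1 _ fun w => ?_), fun v hv => Subtype.ext (hω.2 _ fun w => ?_)⟩
  · have h : ω v.1 (av w) = 0 := hv ⟨av w, hav w⟩
    simp [av, hfix _ v.2, hG, Finset.sum_const] at h
    exact h
  · have h : ω (av w) v.1 = 0 := hv ⟨av w, hav w⟩
    simp [av, hfix' _ v.2, hG, Finset.sum_const] at h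
    exact h

end Groth.Agent.S19443
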