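import Groth.Statements.S19444
import Groth.Agent.PLaw.Polar
import Groth.Agent.PLaw.GammaFlat
import Mathlib.RingTheory.Norm.Basic

set_option autoImplicit false
universe u
open scoped TensorProduct
open SymTen

namespace Groth.Agent.S19444

/-- Linearised norm: let A be a commutative ring in which n! is invertible and R a commutative
A-algebra, free of rank n as an A-module. There is a unique A-algebra homomorphism from the
symmetric tensors TS^n_A(R) to A taking r ⊗ ⋯ ⊗ r to the norm of r for every r in R. (The published
corollary is stated for any free algebra of rank n; the construction printed for it divides by n!,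
and n! invertible is assumed here.) -/
theorem result (A : Type u) [CommRing A] (R : Type u) [CommRing R]
    [Algebra A R] [Module.Free A R] [Module.Finite A R] (n : ℕ) (hn : Module.finrank A R = n)
    (hfact : IsUnit ((Nat.factorial n : ℕ) : A)) :
    ∃! φ : SymTen.TS A R n →ₐ[A] A, ∀ r : R, φ (SymTen.tpow A R n r) = Algebra.norm A r := by
  obtain ⟨τ, hτv, hτ⟩ := PLaw.exists_isGammaD_TS (A := A) (B := R) (d := n) (Or.inr hfact)
  obtain ⟨φ, hφ, -⟩ := hτ A (PolLaw.normLaw A R n hn)
  have hground : ∀ r : R, φ (SymTen.tpow A R n r) = Algebra.norm A r := by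
    intro r
    have hinj : Function.Injective ((SymTen.TS A R n).val.toLinearMap.lTensor A) := by
      intro x y hxy
      apply (TensorProduct.lid A (SymTen.TS A R n)).injective
      apply Subtype.val_injective
      have hl : ∀ z, (SymTen.TS A R n).val (TensorProduct.lid A (SymTen.TS A R n) z) =
          TensorProduct.lid A _ ((SymTen.TS A R n).val.toLinearMap.lTensor A z) := by
        intro z
        induction z using TensorProduct.induction_on with
        | zero => simp
        | tmul a b => simp
        | add a b ha hb => simp only [map_add, ha, hb]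
      change (SymTen.TS A R n).val _ = (SymTen.TS A R n).val _
      rw [hl, hl, hxy]
    have hτ1 : τ.law.toFun' A (1 ⊗ₜ[A] r) = 1 ⊗ₜ[A] SymTen.tpow A R n r := by
      apply hinj
      rw [hτv, SymTen.tpowLaw_tmul, one_pow]
      rfl
    have h := PLaw.law_congr hφ A (1 ⊗ₜ[A] r)
    rw [PLaw.postcomp_apply, hτ1, PolLaw.normLaw_apply, LinearMap.lTensor_tmul] at h
    have h' := congrArg (TensorProduct.lid A A) h
    simp only [TensorProduct.lid_tmul, AlgHom.toLinearMap_apply, smul_eq_mul, one_mul, mul_one] at h'
    rw [h']
    refine (Algebra.norm_eq_of_algEquiv (Algebra.TensorProduct.lid A R) (1 ⊗ₜ[A] r : A ⊗[A] R)).symm.trans ?_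
    simp
  refine ⟨φ, hground, fun ψ hψ => ?_⟩
  apply AlgHom.toLinearMap_injective
  refine LinearMap.ext_on_range (PLaw.span_tpow_eq_top hfact) fun r => ?_
  exact (hψ r).trans (hground r).symm

end Groth.Agent.S19444
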