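import Mathlib
import Groth.Agent.CAlg99.CotGen
import Groth.Statements.S19445
-- import your own Groth.Agent.* helpers here

set_option autoImplicit false
universe u
open CAlg

namespace Groth.Agent.S19445

/-- Local form: let k be a field and A a regular local k-algebra with maximal ideal M and residue field
k (k maps onto A/M); let a finite group G whose order is invertible in k act on A by k-algebra
automorphisms. Then A/J is a regular local ring, where J is the ideal generated by the elements g·a
− a (J defines the fixed-point subscheme, so the fixed locus of G is smooth at the point). The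
accompanying identification of its tangent space with the G-invariants of the tangent space of A is
not restated here. -/
theorem result (k : Type u) [Field k] (A : Type u) [CommRing A]
    [Algebra k A] [IsRegularLocalRing A]
    (hres : Function.Surjective (algebraMap k (IsLocalRing.ResidueField A)))
    (G : Type u) [Group G] [Finite G] [MulSemiringAction G A] [SMulCommClass G k A]
    (hG : (Nat.card G : k) ≠ 0) :
    IsRegularLocalRing (A ⧸ Ideal.span {x : A | ∃ (g : G) (a : A), x = g • a - a}) := by
  classical
  let := Fintype.ofFinite G
  let τ : G → A →ₐ[k] A := fun g => MulSemiringAction.toAlgHom k A g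
  have hm : ∀ g, ∀ a ∈ IsLocalRing.maximalIdeal A, τ g a ∈ IsLocalRing.maximalIdeal A := fun g a ha => by
    rw [IsLocalRing.mem_maximalIdeal] at ha ⊢
    intro hu
    exact ha (by simpa [τ] using hu.map (MulSemiringAction.toAlgHom k A g⁻¹))
  obtain ⟨hJ, hJ2⟩ := CAlg99.CotGen.fixed_inf_sq_le τ hres hm
    (fun h => ⟨Equiv.mulRight h, fun g a => by simp [τ, mul_smul]⟩)
    (by rw [← Nat.card_eq_fintype_card]; exact hG)
  obtain ⟨r, f, hf, hli⟩ := CAlg99.CotGen.exists_indep_generators _ hJ hJ2
  have := CAlg99.CotGen.isRegularLocalRing_quotient_of_indep f hli
  rw [hf] at this
  exact this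

end Groth.Agent.S19445
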