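import Groth.Statements.S19447
import Groth.Agent.Comod.CSTFlat
import Groth.Agent.PSLoc.Basic
import Mathlib

set_option autoImplicit false
set_option maxHeartbeats 800000
universe u
open ConstAct

namespace Groth.Agent.S19447

open IsLocalRing

variable {k : Type u} [Field k] {n : ℕ} {G : Type u} [Group G]
  [MulSemiringAction G (MvPowerSeries (Fin n) k)] [SMulCommClass G k (MvPowerSeries (Fin n) k)]

local notation "A" => MvPowerSeries (Fin n) k
local notation "M" => IsLocalRing.maximalIdeal (MvPowerSeries (Fin n) k)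
local notation "Q" => ConstAct.inv k (MvPowerSeries (Fin n) k) G

lemma smul_mem_max {x : A} (g : G) (hx : x ∈ M) : g • x ∈ M := by
  rw [mem_maximalIdeal, mem_nonunits_iff] at hx ⊢
  exact fun h => hx (by simpa using h.map (MulSemiringAction.toRingHom G A g⁻¹))

lemma smul_mem_pow {x : A} (g : G) {d : ℕ} (hx : x ∈ M ^ d) : g • x ∈ M ^ d := by
  have : (M ^ d).map (MulSemiringAction.toRingHom G A g) ≤ M ^ d := by
    rw [Ideal.map_pow]
    exact Ideal.pow_right_mono (Ideal.map_le_iff_le_comap.mpr fun y hy => Ideal.mem_comap.mpr (smul_mem_max (k := k) (n := n) g hy)) d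
  exact this (Ideal.mem_map_of_mem _ hx)

lemma exists_const (a : A) : a - algebraMap k A (MvPowerSeries.constantCoeff a) ∈ M := by
  rw [mem_maximalIdeal, mem_nonunits_iff, MvPowerSeries.isUnit_iff_constantCoeff, map_sub]
  simp [MvPowerSeries.algebraMap_apply]

lemma sub_mem_max (g : G) (a : A) : g • a - a ∈ M := by
  have h := exists_const a
  set c := algebraMap k A (MvPowerSeries.constantCoeff a)
  have hc : g • c = c := smul_algebraMap g _
  rw [show g • a - a = g • (a - c) - (a - c) by rw [smul_sub, hc]; abel]
  exact sub_mem (smul_mem_max g h) h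

lemma finrank_sq : Module.Finite k (A ⧸ M ^ 2) ∧ Module.finrank k (A ⧸ M ^ 2) ≤ n + 1 := by
  classical
  let φ : (k × (Fin n → k)) →ₗ[k] (A ⧸ M ^ 2) :=
    (LinearMap.toSpanSingleton k _ 1).coprod
      (Fintype.linearCombination k fun i : Fin n => Ideal.Quotient.mk (M ^ 2) (MvPowerSeries.X i : A))
  have hφ : Function.Surjective φ := by
    intro z
    obtain ⟨a, rfl⟩ := Ideal.Quotient.mk_surjective z
    obtain ⟨b, hb⟩ := Ideal.mem_span_range_iff_exists_fun.mp
      (PSLoc.maximalIdeal_eq (σ := Fin n) k ▸ exists_const a :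
        a - algebraMap k A (MvPowerSeries.constantCoeff a) ∈ Ideal.span (Set.range MvPowerSeries.X))
    refine ⟨(MvPowerSeries.constantCoeff a, fun i => MvPowerSeries.constantCoeff (b i)), ?_⟩
    have : φ (MvPowerSeries.constantCoeff a, fun i => MvPowerSeries.constantCoeff (b i)) =
        Ideal.Quotient.mk (M ^ 2) (algebraMap k A (MvPowerSeries.constantCoeff a) +
          ∑ i, algebraMap k A (MvPowerSeries.constantCoeff (b i)) * MvPowerSeries.X i) := by
      simp [φ, Fintype.linearCombination_apply, Algebra.smul_def]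
    rw [this, Ideal.Quotient.eq]
    have e : (algebraMap k A (MvPowerSeries.constantCoeff a) +
          ∑ i, algebraMap k A (MvPowerSeries.constantCoeff (b i)) * MvPowerSeries.X i) - a =
        - ∑ i, (b i - algebraMap k A (MvPowerSeries.constantCoeff (b i))) * MvPowerSeries.X i := by
      simp only [sub_mul, Finset.sum_sub_distrib, hb]
      abel
    rw [e, neg_mem_iff, pow_two]
    refine Ideal.sum_mem _ fun i _ => Ideal.mul_mem_mul (exists_const _) ?_
    rw [PSLoc.maximalIdeal_eq (σ := Fin n) k]
    exact Ideal.subset_span ⟨i, rfl⟩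
  refine ⟨Module.Finite.of_surjective φ hφ, (LinearMap.finrank_le_finrank_of_surjective hφ).trans ?_⟩
  simp [Module.finrank_prod]; omega

variable [Finite G]

lemma natCast_card_ne {g : G} (hG : (Nat.card G : k) ≠ 0) : (orderOf g : k) ≠ 0 := by
  intro h
  obtain ⟨c, hc⟩ := orderOf_dvd_natCard g
  apply hG
  rw [hc, Nat.cast_mul, h, zero_mul]

/-- For a pseudo-reflection, the ideal generated by the `g a - a` is principal. -/
lemma exists_principal (hG : (Nat.card G : k) ≠ 0) (g : G)
    (hg : n ≤ Module.finrank k (A ⧸ (Ideal.span {x : A | ∃ a, x = g • a - a} ⊔ M ^ 2))) :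
    ∃ h ∈ M, ∀ a : A, ∃ b, g • a - a = h * b := by
  set J := Ideal.span {x : A | ∃ a, x = g • a - a}
  have hJ : ∀ a, g • a - a ∈ J := fun a => Ideal.subset_span ⟨a, rfl⟩
  have hJfg : J.FG := by
    haveI : IsRegularLocalRing A := PSLoc.isRegularLocalRing k n
    exact IsNoetherian.noetherian J
  have hsq : ∀ x ∈ M ^ 2, g • x - x ∈ M * J := by
    intro x hx
    rw [pow_two] at hx
    induction hx using Submodule.mul_induction_on' with
    | mem_mul_mem x hx y hy =>
      rw [show g • (x * y) - x * y = (g • y) * (g • x - x) + x * (g • y - y) by rw [smul_mul']; ring]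
      exact add_mem (Ideal.mul_mem_mul (smul_mem_max g hy) (hJ x)) (Ideal.mul_mem_mul hx (hJ y))
    | add x _ y _ hx hy =>
      rw [show g • (x + y) - (x + y) = (g • x - x) + (g • y - y) by rw [smul_add]; abel]
      exact add_mem hx hy
  have hlift : ∀ x : A, g • x - x ∈ M ^ 2 → g • x - x ∈ M * J := by
    intro x hx
    have hi : ∀ i : ℕ, g ^ i • x - x ∈ M ^ 2 := by
      intro i
      induction i with
      | zero => simp
      | succ i ih =>
        rw [show g ^ (i + 1) • x - x = g • (g ^ i • x - x) + (g • x - x) by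
          rw [smul_sub, pow_succ', mul_smul]; abel]
        exact add_mem (smul_mem_pow g ih) hx
    set m := orderOf g
    set S := ∑ i ∈ Finset.range m, g ^ i • x
    have hS : g • S = S := by
      have h1 : g • S = ∑ i ∈ Finset.range m, g ^ (i + 1) • x := by
        rw [Finset.smul_sum]
        exact Finset.sum_congr rfl fun i _ => by rw [pow_succ', mul_smul]
      have h2 := Finset.sum_range_succ' (fun i => g ^ i • x) m
      rw [Finset.sum_range_succ] at h2
      simp only [m, pow_orderOf_eq_one, pow_zero, one_smul] at h2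
      rw [h1]
      exact (add_right_cancel h2).symm
    set x' := (m : k)⁻¹ • S
    have hx' : g • x' = x' := by rw [smul_comm, hS]
    have hd : x - x' ∈ M ^ 2 := by
      have e : x - x' = - ((m : k)⁻¹ • ∑ i ∈ Finset.range m, (g ^ i • x - x)) := by
        rw [Finset.sum_sub_distrib, Finset.sum_const, Finset.card_range, smul_sub,
          ← Nat.cast_smul_eq_nsmul k m x, smul_smul, inv_mul_cancel₀ (natCast_card_ne hG), one_smul,
          neg_sub]
      rw [e, neg_mem_iff, Algebra.smul_def]
      exact Ideal.mul_mem_left _ _ (Ideal.sum_mem _ fun i _ => hi i)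
    have := hsq _ hd
    rwa [smul_sub, hx', sub_sub_sub_cancel_right] at this
  have hjac : M ≤ Ideal.jacobson ⊥ := (IsLocalRing.jacobson_eq_maximalIdeal ⊥ bot_ne_top).ge
  by_cases hall : ∀ a : A, g • a - a ∈ M ^ 2
  · refine ⟨0, zero_mem _, fun a => ⟨0, ?_⟩⟩
    have hJ0 : J = ⊥ := by
      refine Submodule.eq_bot_of_le_smul_of_le_jacobson_bot M J hJfg ?_ hjac
      rw [smul_eq_mul]
      exact Ideal.span_le.mpr (by rintro _ ⟨a, rfl⟩; exact hlift a (hall a))
    have := hJ a
    rw [hJ0, Ideal.mem_bot] at this
    simpa using this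
  · push Not at hall
    obtain ⟨x₀, hx₀⟩ := hall
    refine ⟨g • x₀ - x₀, sub_mem_max g x₀, ?_⟩
    obtain ⟨hfin, hle⟩ := finrank_sq (k := k) (n := n)
    let π : (A ⧸ M ^ 2) →ₗ[k] (A ⧸ (J ⊔ M ^ 2)) :=
      (Ideal.Quotient.factorₐ k (le_sup_right : M ^ 2 ≤ J ⊔ M ^ 2)).toLinearMap
    have hπ : Function.Surjective π := by
      intro z
      obtain ⟨a, rfl⟩ := Ideal.Quotient.mk_surjective z
      exact ⟨Ideal.Quotient.mk _ a, rfl⟩
    have hker : Module.finrank k (LinearMap.ker π) ≤ 1 := by
      have h1 := π.finrank_range_add_finrank_ker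
      rw [LinearMap.range_eq_top.mpr hπ, finrank_top] at h1
      omega
    have hmem : ∀ a : A, Ideal.Quotient.mk (M ^ 2) (g • a - a) ∈ LinearMap.ker π := fun a => by
      rw [LinearMap.mem_ker]
      exact Ideal.Quotient.eq_zero_iff_mem.mpr (Ideal.mem_sup_left (hJ a))
    set v := Ideal.Quotient.mk (M ^ 2) (g • x₀ - x₀)
    have hv : v ≠ 0 := fun h => hx₀ (Ideal.Quotient.eq_zero_iff_mem.mp h)
    have hspan : Submodule.span k {v} = LinearMap.ker π :=
      Submodule.eq_of_le_of_finrank_le ((Submodule.span_singleton_le_iff_mem _ _).mpr (hmem x₀))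
        (by rw [finrank_span_singleton hv]; exact hker)
    have hJle : J ≤ Ideal.span {g • x₀ - x₀} := by
      refine Submodule.le_of_le_smul_of_le_jacobson_bot hJfg hjac ?_
      rw [smul_eq_mul]
      refine Ideal.span_le.mpr ?_
      rintro _ ⟨a, rfl⟩
      obtain ⟨c, hc⟩ := Submodule.mem_span_singleton.mp (hspan.symm ▸ hmem a :
        Ideal.Quotient.mk (M ^ 2) (g • a - a) ∈ Submodule.span k {v})
      have e : g • (a - c • x₀) - (a - c • x₀) = (g • a - a) - c • (g • x₀ - x₀) := by
        rw [smul_sub, smul_comm g c, smul_sub]; abel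
      have hm := hlift (a - c • x₀) (by
        rw [e, ← Ideal.Quotient.eq_zero_iff_mem, map_sub, ← Ideal.Quotient.mkₐ_eq_mk k, map_smul,
          Ideal.Quotient.mkₐ_eq_mk, hc, sub_self])
      rw [e] at hm
      show g • a - a ∈ _
      rw [← sub_add_cancel (g • a - a) (c • (g • x₀ - x₀))]
      refine add_mem (Ideal.mem_sup_right hm) (Ideal.mem_sup_left ?_)
      rw [Algebra.smul_def]
      exact Ideal.mul_mem_left _ _ (Ideal.mem_span_singleton_self _)
    intro a
    obtain ⟨b, hb⟩ := Ideal.mem_span_singleton.mp (hJle (hJ a))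
    exact ⟨b, hb⟩

/-- The Reynolds operator. -/
noncomputable def avg (k : Type u) [Field k] {n : ℕ} (G : Type u) [Group G] [Finite G]
    [MulSemiringAction G (MvPowerSeries (Fin n) k)] [SMulCommClass G k (MvPowerSeries (Fin n) k)]
    (a : MvPowerSeries (Fin n) k) : ConstAct.inv k (MvPowerSeries (Fin n) k) G :=
  haveI := Fintype.ofFinite G
  ⟨(Nat.card G : k)⁻¹ • ∑ g : G, g • a, fun g => by
    rw [smul_comm, Finset.smul_sum]
    congr 1
    simp only [smul_smul]
    exact Fintype.sum_equiv (Equiv.mulLeft g) _ _ fun _ => rfl⟩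

lemma avg_mul (q : Q) (a : A) : avg k G ((q : A) * a) = q * avg k G a := by
  apply Subtype.ext
  show _ • _ = (q : A) * (_ • _)
  rw [mul_smul_comm, Finset.mul_sum]
  congr 1
  exact Finset.sum_congr rfl fun g _ => by rw [smul_mul', q.2 g]

lemma avg_sum {ι : Type*} (s : Finset ι) (f : ι → A) :
    avg k G (∑ i ∈ s, f i) = ∑ i ∈ s, avg k G (f i) := by
  apply Subtype.ext
  simp only [AddSubmonoidClass.coe_finsetSum, avg, Finset.smul_sum]
  exact Finset.sum_comm

lemma avg_coe (hG : (Nat.card G : k) ≠ 0) (q : Q) : avg k G (q : A) = q := by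
  letI := Fintype.ofFinite G
  apply Subtype.ext
  simp only [avg]
  rw [Finset.sum_congr rfl fun g _ => q.2 g, Finset.sum_const, Finset.card_univ,
    ← Nat.cast_smul_eq_nsmul k, smul_smul, ← Nat.card_eq_fintype_card, inv_mul_cancel₀ hG, one_smul]

lemma isUnit_of_isUnit_coe {q : Q} (h : IsUnit (q : A)) : IsUnit q := by
  obtain ⟨b, hb⟩ := h.exists_right_inv
  refine IsUnit.of_mul_eq_one ⟨b, fun g => ?_⟩ (Subtype.ext hb)
  have h1 : (q : A) * (g • b) = 1 := by
    have := congrArg (g • ·) hb
    simpa [smul_mul', q.2 g] using this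
  calc g • b = (g • b) * ((q : A) * b) := by rw [hb, mul_one]
    _ = b * ((q : A) * (g • b)) := by ring
    _ = b := by rw [h1, mul_one]

/-- Contraction of extended ideals. -/
lemma mem_of_coe_mem_map (hG : (Nat.card G : k) ≠ 0) (I : Ideal Q) {q : Q}
    (h : (q : A) ∈ I.map (algebraMap Q A)) : q ∈ I := by
  suffices ∀ a ∈ I.map (algebraMap Q A), avg k G a ∈ I by
    simpa [avg_coe hG q] using this _ h
  intro a ha
  rw [Ideal.map, ← Ideal.submodule_span_eq, Submodule.mem_span_iff_exists_finset_subset] at ha
  obtain ⟨f, t, ht, -, rfl⟩ := ha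
  rw [avg_sum]
  refine Ideal.sum_mem _ fun x hx => ?_
  obtain ⟨i, hi, rfl⟩ := ht hx
  rw [smul_eq_mul, mul_comm, show algebraMap Q A i = (i : A) from rfl, avg_mul]
  exact Ideal.mul_mem_right _ _ hi

lemma isNoetherianRing_inv (hG : (Nat.card G : k) ≠ 0) : IsNoetherianRing Q := by
  haveI : IsRegularLocalRing A := PSLoc.isRegularLocalRing k n
  have hmono : StrictMono fun I : Ideal Q => I.map (algebraMap Q A) :=
    Monotone.strictMono_of_injective (fun I J h => Ideal.map_mono h)
      fun I J h => le_antisymm
        (fun q hq => mem_of_coe_mem_map hG J ((h : I.map _ = J.map _) ▸ Ideal.mem_map_of_mem _ hq))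
        (fun q hq => mem_of_coe_mem_map hG I ((h : I.map _ = J.map _).symm ▸ Ideal.mem_map_of_mem _ hq))
  haveI : WellFoundedGT (Ideal A) := inferInstance
  exact isNoetherianRing_iff.mpr (isNoetherian_iff'.mpr hmono.wellFoundedGT)

/-- Let k be an algebraically closed field, A the power series ring in n variables over k with maximal
ideal M, and G a finite group of order invertible in k acting faithfully on A by k-algebra
automorphisms, A being finite over the ring of invariants A^G. Say g is a pseudo-reflection or acts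
trivially on the cotangent space when A modulo M^2 and the elements g·a − a has dimension at least n
over k. If G is generated by such elements, then A is flat over A^G and A^G is a regular local ring:
generation by pseudo-reflections implies the other two conditions of the published criterion (only
this sufficiency half is stated; the converse implication is not part of this statement). -/
theorem result (k : Type u) [Field k]
    [IsAlgClosed k] (n : ℕ) (G : Type u) [Group G] [Finite G] [MulSemiringAction G (MvPowerSeries (Fin n) k)]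
    [SMulCommClass G k (MvPowerSeries (Fin n) k)] [FaithfulSMul G (MvPowerSeries (Fin n) k)]
    (hG : (Nat.card G : k) ≠ 0)
    [Module.Finite (ConstAct.inv k (MvPowerSeries (Fin n) k) G) (MvPowerSeries (Fin n) k)]
    (hgen : Subgroup.closure {g : G | n ≤ Module.finrank k (MvPowerSeries (Fin n) k ⧸
        (Ideal.span {x : MvPowerSeries (Fin n) k | ∃ a, x = g • a - a} ⊔
          IsLocalRing.maximalIdeal (MvPowerSeries (Fin n) k) ^ 2))} = ⊤) :
    Module.Flat (ConstAct.inv k (MvPowerSeries (Fin n) k) G) (MvPowerSeries (Fin n) k) ∧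
      IsRegularLocalRing (ConstAct.inv k (MvPowerSeries (Fin n) k) G) := by
  classical
  haveI hA : IsRegularLocalRing (MvPowerSeries (Fin n) k) := PSLoc.isRegularLocalRing k n
  haveI := isNoetherianRing_inv (G := G) (n := n) hG
  let Qi := ConstAct.inv k (MvPowerSeries (Fin n) k) G
  let Ai := MvPowerSeries (Fin n) k
  let Mi : Ideal Ai := maximalIdeal Ai
  haveI hloc : IsLocalHom (algebraMap Qi Ai) := ⟨fun q hq => isUnit_of_isUnit_coe hq⟩
  haveI : IsLocalRing Qi := (algebraMap Qi Ai).domain_isLocalRing
  let p : Ideal Qi := maximalIdeal Qi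
  let I := p.map (algebraMap Qi Ai)
  have hkey : Comod.CSTFlat.RelCond (S := Ai) p := by
    intro κ _ s w l₀ hl₀ hnot f hf
    refine ⟨1, fun h => (maximalIdeal.isMaximal Qi).ne_top ((Ideal.eq_top_iff_one _).mpr h), ?_⟩
    rw [one_smul]
    have hw : w l₀ ∉ Ideal.span (w '' (s.erase l₀ : Set κ)) := by
      have := hnot 1 (fun h => (maximalIdeal.isMaximal Qi).ne_top ((Ideal.eq_top_iff_one _).mpr h))
      rwa [one_mul] at this
    have main : ∀ (d : ℕ) (f : κ → Ai), ∑ l ∈ s, f l * algebraMap Qi Ai (w l) = 0 →
        f l₀ ∈ I ⊔ Mi ^ d := by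
      intro d
      induction d with
      | zero => intro f _; simp
      | succ d ih =>
        intro f hf
        set J := I ⊔ Mi ^ (d + 1) with hJ
        have hstab : ∀ (g : G) (x : Ai), x ∈ J → g • x ∈ J := by
          intro g x hx
          have : J.map (MulSemiringAction.toRingHom G Ai g) ≤ J := by
            rw [hJ, Ideal.map_sup, Ideal.map_map]
            refine sup_le_sup (le_of_eq ?_) ?_
            · exact congrArg (fun φ => p.map φ) (RingHom.ext fun q => q.2 g)
            · exact Ideal.map_le_iff_le_comap.mpr fun y hy => smul_mem_pow g hy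
          exact this (Ideal.mem_map_of_mem _ hx)
        have hall : ∀ g : G, g • f l₀ - f l₀ ∈ J := by
          intro g
          have hg : g ∈ Subgroup.closure {g : G | n ≤ Module.finrank k (Ai ⧸
              (Ideal.span {x : Ai | ∃ a, x = g • a - a} ⊔ Mi ^ 2))} := by rw [hgen]; trivial
          induction hg using Subgroup.closure_induction with
          | mem g hg =>
            obtain ⟨h, hhM, hh⟩ := exists_principal hG g hg
            choose b hb using hh
            rw [hb]
            rcases eq_or_ne h 0 with h0 | h0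
            · simp [h0]
            have hrel : ∑ l ∈ s, b (f l) * algebraMap Qi Ai (w l) = 0 := by
              refine ((mul_eq_zero (a := h)).mp ?_).resolve_left h0
              rw [Finset.mul_sum]
              simp only [← mul_assoc, ← hb, sub_mul, Finset.sum_sub_distrib, hf, sub_zero]
              rw [show ∑ l ∈ s, g • f l * algebraMap Qi Ai (w l) =
                  g • ∑ l ∈ s, f l * algebraMap Qi Ai (w l) from by
                rw [Finset.smul_sum]
                exact Finset.sum_congr rfl fun l _ => by
                  rw [smul_mul', show g • algebraMap Qi Ai (w l) = algebraMap Qi Ai (w l) from (w l).2 g],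
                hf, smul_zero]
            obtain ⟨i, hi, j, hj, hij⟩ := Submodule.mem_sup.mp (ih _ hrel)
            rw [← hij, mul_add]
            exact add_mem (Ideal.mem_sup_left (Ideal.mul_mem_left _ _ hi))
              (Ideal.mem_sup_right (by rw [pow_succ']; exact Ideal.mul_mem_mul hhM hj))
          | one => simp
          | mul a b _ _ ha hb =>
            rw [show (a * b) • f l₀ - f l₀ = a • (b • f l₀ - f l₀) + (a • f l₀ - f l₀) by
              rw [smul_sub, mul_smul]; abel]
            exact add_mem (hstab a _ hb) ha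
          | inv a _ ha =>
            rw [show a⁻¹ • f l₀ - f l₀ = -(a⁻¹ • (a • f l₀ - f l₀)) by
              rw [smul_sub, inv_smul_smul, neg_sub]]
            exact neg_mem (hstab a⁻¹ _ ha)
        haveI := Fintype.ofFinite G
        have hd : (avg k G (f l₀) : Ai) - f l₀ ∈ J := by
          have e : (avg k G (f l₀) : Ai) - f l₀ = (Nat.card G : k)⁻¹ • ∑ g : G, (g • f l₀ - f l₀) := by
            show (Nat.card G : k)⁻¹ • _ - _ = _
            rw [Finset.sum_sub_distrib, Finset.sum_const, Finset.card_univ, smul_sub,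
              ← Nat.cast_smul_eq_nsmul k, smul_smul, ← Nat.card_eq_fintype_card, inv_mul_cancel₀ hG,
              one_smul]
            congr 2
            exact Finset.sum_congr (by ext; simp) fun _ _ => rfl
          rw [e, Algebra.smul_def]
          exact Ideal.mul_mem_left _ _ (Ideal.sum_mem _ fun g _ => hall g)
        have hav : avg k G (f l₀) ∈ p := by
          by_contra hu
          rw [show p = maximalIdeal Qi from rfl, IsLocalRing.notMem_maximalIdeal] at hu
          obtain ⟨v, hv⟩ := hu
          apply hw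
          have h0 : ∑ l ∈ s, avg k G (f l) * w l = 0 := by
            have := congrArg (avg k G) hf
            rw [avg_sum] at this
            have e : avg k G (0 : Ai) = 0 := Subtype.ext (by simp [avg])
            rw [e] at this
            rw [← this]
            exact Finset.sum_congr rfl fun l _ => by
              rw [mul_comm (f l), show algebraMap Qi Ai (w l) = (w l : Ai) from rfl, avg_mul, mul_comm]
          rw [← Finset.add_sum_erase _ _ hl₀, ← hv] at h0
          rw [show w l₀ = (↑v⁻¹ : Qi) * -(∑ l ∈ s.erase l₀, avg k G (f l) * w l) by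
            rw [← eq_neg_of_add_eq_zero_left h0, Units.inv_mul_cancel_left]]
          exact Ideal.mul_mem_left _ _ (neg_mem (Ideal.sum_mem _ fun l hl =>
            Ideal.mul_mem_left _ _ (Ideal.subset_span ⟨l, hl, rfl⟩)))
        have := sub_mem (Ideal.mem_sup_left (Ideal.mem_map_of_mem (algebraMap Qi Ai) hav) : _ ∈ J) hd
        rwa [show algebraMap Qi Ai (avg k G (f l₀)) = (avg k G (f l₀) : Ai) from rfl, sub_sub_cancel] at this
    have hI : I ≠ ⊤ := by
      intro h
      have h1 : ((1 : Qi) : Ai) ∈ p.map (algebraMap Qi Ai) := by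
        show _ ∈ I
        rw [h]; trivial
      exact (maximalIdeal.isMaximal Qi).ne_top ((Ideal.eq_top_iff_one _).mpr (mem_of_coe_mem_map hG p h1))
    rw [← Ideal.Quotient.eq_zero_iff_mem]
    have hbot : (⨅ d : ℕ, (Mi.map (Ideal.Quotient.mk I)) ^ d) = ⊥ := by
      haveI : Nontrivial (Ai ⧸ I) := Ideal.Quotient.nontrivial_iff.mpr hI
      haveI : IsLocalRing (Ai ⧸ I) := IsLocalRing.of_surjective' _ Ideal.Quotient.mk_surjective
      refine Ideal.iInf_pow_eq_bot_of_isLocalRing _ ?_
      intro h
      have := congrArg (Ideal.comap (Ideal.Quotient.mk I)) h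
      rw [Ideal.comap_map_of_surjective _ Ideal.Quotient.mk_surjective, Ideal.comap_top,
        ← RingHom.ker_eq_comap_bot, Ideal.mk_ker, sup_eq_left.mpr (IsLocalRing.le_maximalIdeal hI)] at this
      exact (maximalIdeal.isMaximal Ai).ne_top this
    rw [← Ideal.mem_bot, ← hbot, Ideal.mem_iInf]
    intro d
    have := Ideal.mem_map_of_mem (Ideal.Quotient.mk I) (main d f hf)
    rwa [Ideal.map_sup, Ideal.map_quotient_self, bot_sup_eq, Ideal.map_pow] at this
  obtain ⟨e, hegen, hind⟩ := Comod.CSTFlat.exists_indep p hkey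
  have hunit : ∀ u : Qi, u ∉ p → IsUnit u := fun u hu => by
    rwa [show p = maximalIdeal Qi from rfl, IsLocalRing.notMem_maximalIdeal] at hu
  haveI : Module.Free Qi Ai := by
    let v : e → Ai := fun j => (j : Ai)
    have hli : LinearIndependent Qi v := by
      rw [Fintype.linearIndependent_iff]
      intro c hc j
      let c' : Ai → Qi := fun x => if h : x ∈ e then c ⟨x, h⟩ else 0
      obtain ⟨u, hu, hu0⟩ := hind c' (by
        rw [← Finset.sum_coe_sort, ← hc]
        exact Finset.sum_congr rfl fun i _ => by simp [c', v, i.2]) j j.2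
      have := (hunit u hu).mul_right_eq_zero.mp hu0
      simpa [c', j.2] using this
    refine Module.Free.of_basis (Module.Basis.mk hli ?_)
    intro a _
    obtain ⟨u, hu, hmem⟩ := hegen a
    obtain ⟨v', rfl⟩ := hunit u hu
    rw [show Set.range v = (e : Set Ai) from Subtype.range_coe_subtype.trans rfl,
      show a = (↑v'⁻¹ : Qi) • ((v' : Qi) • a) by rw [smul_smul, Units.inv_mul, one_smul]]
    exact Submodule.smul_mem _ _ hmem
  exact ⟨inferInstance, RegLoc.Homological.isRegularLocalRing_of_flat Ai⟩

end Groth.Agent.S19447
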