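import Mathlib
import Groth.Agent.CAlg99.CotGen
import Groth.Statements.S19448
-- import your own Groth.Agent.* helpers here

set_option autoImplicit false
universe u
open CAlg

namespace Groth.Agent.S19448

/-- Let k be a field, A a Noetherian local k-algebra with maximal ideal M and residue field k, and G a
finite group with |G| ≠ 0 in k acting on A by k-algebra automorphisms. An element of G which acts
trivially on M/M^2 acts trivially on A; in other words the stabilizer acts faithfully on the
cotangent space whenever it acts faithfully on the local ring. -/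
theorem result (k : Type u) [Field k] (A : Type u) [CommRing A]
    [Algebra k A] [IsLocalRing A] [IsNoetherianRing A]
    (hres : Function.Surjective (algebraMap k (IsLocalRing.ResidueField A)))
    (G : Type u) [Group G] [Finite G] [MulSemiringAction G A] [SMulCommClass G k A]
    (hG : (Nat.card G : k) ≠ 0) (g : G)
    (hg : ∀ a ∈ IsLocalRing.maximalIdeal A, g • a - a ∈ IsLocalRing.maximalIdeal A ^ 2) (a : A) :
    g • a = a := by
  classical
  have hfin : IsOfFinOrder g := isOfFinOrder_of_finite g
  let := Fintype.ofFinite (Subgroup.zpowers g)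
  let τ : Subgroup.zpowers g → A →ₐ[k] A := fun h => MulSemiringAction.toAlgHom k A (h : G)
  have hm : ∀ h, ∀ a ∈ IsLocalRing.maximalIdeal A, τ h a ∈ IsLocalRing.maximalIdeal A := fun h a ha => by
    rw [IsLocalRing.mem_maximalIdeal] at ha ⊢
    intro hu
    exact ha (by simpa [τ] using hu.map (MulSemiringAction.toAlgHom k A (h : G)⁻¹))
  have hcard : (Fintype.card (Subgroup.zpowers g) : k) ≠ 0 := by
    intro h0
    obtain ⟨c, hc⟩ := Subgroup.card_subgroup_dvd_card (Subgroup.zpowers g)
    apply hG
    rw [hc, Nat.cast_mul, Nat.card_eq_fintype_card, h0, zero_mul]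
  obtain ⟨hJ, hJ2⟩ := CAlg99.CotGen.fixed_inf_sq_le τ hres hm
    (fun h => ⟨Equiv.mulRight h, fun i a => by simp [τ, mul_smul]⟩) hcard
  set J := Ideal.span {x : A | ∃ i a, x = τ i a - a} with hJdef
  have hsq : J ≤ IsLocalRing.maximalIdeal A ^ 2 := by
    have key : ∀ (n : ℕ) (b : A), g ^ n • b - b ∈ IsLocalRing.maximalIdeal A ^ 2 := by
      intro n
      induction n with
      | zero => intro b; simp
      | succ n ih =>
        intro b
        obtain ⟨t, ht⟩ := hres (IsLocalRing.residue A b)
        have hb : b - algebraMap k A t ∈ IsLocalRing.maximalIdeal A := by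
          rw [← IsLocalRing.residue_eq_zero_iff, map_sub, ← ht, sub_eq_zero]
          rfl
        have h1 := hg _ hb
        rw [smul_sub, smul_algebraMap, sub_sub_sub_cancel_right] at h1
        rw [show g ^ (n + 1) • b = g ^ n • g • b by rw [pow_succ, mul_smul], ← sub_add_sub_cancel (g ^ n • g • b) (g • b) b]
        exact Ideal.add_mem _ (ih _) h1
    refine Ideal.span_le.mpr ?_
    rintro _ ⟨⟨i, hi⟩, b, rfl⟩
    obtain ⟨n, rfl⟩ := Submonoid.mem_powers_iff _ _ |>.mp (hfin.mem_powers_iff_mem_zpowers.mpr hi)
    exact key n b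
  have hJ0 : J = ⊥ := Submodule.eq_bot_of_le_smul_of_le_jacobson_bot (IsLocalRing.maximalIdeal A) J
    (IsNoetherian.noetherian J) ((le_inf le_rfl hsq).trans hJ2) (IsLocalRing.maximalIdeal_le_jacobson _)
  have hmem : g • a - a ∈ J := Ideal.subset_span ⟨⟨g, Subgroup.mem_zpowers g⟩, a, rfl⟩
  rw [hJ0, Ideal.mem_bot, sub_eq_zero] at hmem
  exact hmem

end Groth.Agent.S19448
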