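import Groth.Statements.S19449
import Mathlib

set_option autoImplicit false
universe u
open SymRep

namespace Groth.Agent.S19449

section

open MvPolynomial

variable {k : Type u} [Field k] {n : ℕ}

/-- exponent vector of `Π_i X(i,0)^(q i).1 X(i,1)^(q i).2` -/
noncomputable def expo (q : Fin n → ℕ × ℕ) : Fin n × Fin 2 →₀ ℕ :=
  Finsupp.equivFunOnFinite.symm fun v => if v.2 = 0 then (q v.1).1 else (q v.1).2

theorem expo_apply (q : Fin n → ℕ × ℕ) (v : Fin n × Fin 2) :
    expo q v = if v.2 = 0 then (q v.1).1 else (q v.1).2 := rfl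

theorem expo_inj {q q' : Fin n → ℕ × ℕ} (h : expo q = expo q') : q = q' := by
  funext i
  have h0 := DFunLike.congr_fun h (i, 0)
  have h1 := DFunLike.congr_fun h (i, 1)
  simp [expo_apply] at h0 h1
  exact Prod.ext h0 h1

theorem prod_eq_monomial (q : Fin n → ℕ × ℕ) :
    ∏ i, ((X (i, 0) : MvPolynomial (Fin n × Fin 2) k) ^ (q i).1 * X (i, 1) ^ (q i).2) = monomial (expo q) 1 := by
  rw [monomial_eq, C_1, one_mul, Finsupp.prod_fintype _ _ (fun i => pow_zero _), Fintype.prod_prod_type]
  refine Finset.prod_congr rfl fun i _ => ?_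
  simp [Fin.prod_univ_two, expo_apply]

/-- the alternant of `p` -/
noncomputable abbrev alt (p : Fin n → ℕ × ℕ) : MvPolynomial (Fin n × Fin 2) k :=
  (Matrix.of fun i j : Fin n => (X (i, 0) : MvPolynomial (Fin n × Fin 2) k) ^ (p j).1 * X (i, 1) ^ (p j).2).det

theorem alt_eq (p : Fin n → ℕ × ℕ) :
    alt (k := k) p = ∑ σ : Equiv.Perm (Fin n), ((Equiv.Perm.sign σ : ℤˣ) : ℤ) • monomial (expo (p ∘ σ.symm)) 1 := by
  rw [alt, Matrix.det_apply]
  refine Finset.sum_congr rfl fun σ _ => ?_
  rw [Units.smul_def, ← prod_eq_monomial]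
  congr 1
  rw [← Equiv.prod_comp σ (fun i => (X (i, 0) : MvPolynomial (Fin n × Fin 2) k) ^ ((p ∘ σ.symm) i).1 * X (i, 1) ^ ((p ∘ σ.symm) i).2)]
  simp

theorem coeff_alt {p q : Fin n → ℕ ×ₗ ℕ} (hp : StrictMono p) (hq : StrictMono q) :
    coeff (expo (ofLex ∘ q)) (alt (k := k) (ofLex ∘ p)) = if p = q then 1 else 0 := by
  classical
  simp only [alt_eq, coeff_sum, zsmul_eq_mul, ← map_intCast (C : k →+* MvPolynomial (Fin n × Fin 2) k), coeff_C_mul,
    coeff_monomial]
  rw [Finset.sum_eq_single 1]
  · by_cases h : p = q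
    · subst h; rw [if_pos (show expo ((⇑ofLex ∘ p) ∘ ⇑(Equiv.symm (1 : Equiv.Perm (Fin n)))) = expo (⇑ofLex ∘ p) from rfl), if_pos rfl]; simp
    · rw [if_neg h, if_neg (fun e => h ?_), mul_zero]
      have := expo_inj e
      funext i
      exact congrArg toLex (congrFun this i)
  · intro σ _ hσ
    rw [if_neg, mul_zero]
    intro e
    have he : ∀ i, p (σ.symm i) = q i := fun i => congrArg toLex (congrFun (expo_inj e) i)
    have hmono : StrictMono σ.symm := fun a b hab => by
      have := hq hab
      rw [← he a, ← he b] at this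
      exact hp.lt_iff_lt.1 this
    exact hσ (by
      have h1 : (σ.symm : Fin n → Fin n) = id :=
        (hmono.range_inj strictMono_id).1 (by rw [σ.symm.surjective.range_eq, Set.range_id])
      exact Equiv.ext fun i => by simpa using (congrFun h1 (σ i)).symm)
  · simp

end

/-- Over a field k of characteristic zero, let the symmetric group S_n act on the polynomial ring in the
2n variables x_i, y_i (i < n; the variable (i, 0) is x_i and (i, 1) is y_i) by permuting the index
i, and for an n-tuple p of pairs (p_j, q_j) of exponents let Δ_p be the determinant det(x_i^{p_j}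
y_i^{q_j}). A polynomial is alternating — each permutation acts on it by its sign — exactly when it
is a k-linear combination of the Δ_p; and the Δ_p for p strictly increasing in the lexicographic
order on pairs (one for each n-element set of exponent pairs) are linearly independent. Hence these
Δ_p form a basis of the space of alternating polynomials. -/
theorem result (k : Type u) [Field k] [CharZero k] (n : ℕ) :
    (∀ f : MvPolynomial (Fin n × Fin 2) k,
      (∀ σ : Equiv.Perm (Fin n),
          MvPolynomial.rename (fun v : Fin n × Fin 2 => (σ v.1, v.2)) f = ((Equiv.Perm.sign σ : ℤˣ) : ℤ) • f) ↔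
        f ∈ Submodule.span k (Set.range fun p : Fin n → ℕ × ℕ =>
          (Matrix.of fun i j : Fin n =>
            (MvPolynomial.X (i, 0) : MvPolynomial (Fin n × Fin 2) k) ^ (p j).1 * MvPolynomial.X (i, 1) ^ (p j).2).det)) ∧
    LinearIndependent k (fun p : {p : Fin n → ℕ ×ₗ ℕ // StrictMono p} =>
      (Matrix.of fun i j : Fin n =>
        (MvPolynomial.X (i, 0) : MvPolynomial (Fin n × Fin 2) k) ^ (ofLex (p.1 j)).1 *
          MvPolynomial.X (i, 1) ^ (ofLex (p.1 j)).2).det) := by
  classical
  constructor
  · intro f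
    constructor
    · intro hf
      have key : (n.factorial : k) • f = ∑ m ∈ f.support, f.coeff m • alt (fun i => (m (i, 0), m (i, 1))) := by
        have h1 : ∑ σ : Equiv.Perm (Fin n), ((Equiv.Perm.sign σ : ℤˣ) : ℤ) •
            MvPolynomial.rename (fun v : Fin n × Fin 2 => (σ v.1, v.2)) f = (n.factorial : k) • f := by
          rw [Finset.sum_congr rfl (fun σ _ => by rw [hf, smul_smul, ← Units.val_mul, Int.units_mul_self, Units.val_one, one_smul])]
          simp [Fintype.card_perm, Nat.cast_smul_eq_nsmul]
        rw [← h1]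
        conv_lhs => enter [2, σ]; rw [f.as_sum, map_sum, Finset.smul_sum]
        rw [Finset.sum_comm]
        refine Finset.sum_congr rfl fun m _ => ?_
        rw [alt, Matrix.det_apply, Finset.smul_sum]
        refine Finset.sum_congr rfl fun σ _ => ?_
        rw [Units.smul_def, MvPolynomial.monomial_eq, map_mul, MvPolynomial.rename_C, MvPolynomial.smul_eq_C_mul,
          mul_smul_comm, Finsupp.prod_fintype _ _ (fun i => pow_zero _), map_prod, Fintype.prod_prod_type]
        congr 2
        exact Finset.prod_congr rfl fun i _ => by simp [Fin.prod_univ_two]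
      have hn : (n.factorial : k) ≠ 0 := Nat.cast_ne_zero.2 n.factorial_ne_zero
      rw [← inv_smul_smul₀ hn f, key]
      exact Submodule.smul_mem _ _ (Submodule.sum_mem _ fun m _ =>
        Submodule.smul_mem _ _ (Submodule.subset_span ⟨_, rfl⟩))
    · intro hf σ
      induction hf using Submodule.span_induction with
      | mem x hx =>
        obtain ⟨p, rfl⟩ := hx
        rw [AlgHom.map_det, zsmul_eq_mul]
        rw [show ((((Equiv.Perm.sign σ : ℤˣ) : ℤ)) : MvPolynomial (Fin n × Fin 2) k) = ((Equiv.Perm.sign σ : ℤˣ) : MvPolynomial (Fin n × Fin 2) k) from rfl, ← Matrix.det_permute]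
        congr 1
        ext1 i j
        simp
      | zero => simp
      | add x y _ _ hx hy => rw [map_add, hx, hy, smul_add]
      | smul c x _ hx => rw [map_smul, hx, smul_comm]
  · rw [linearIndependent_iff']
    intro t g hg q hq
    have h := congrArg (MvPolynomial.coeff (expo (ofLex ∘ q.1))) hg
    rw [MvPolynomial.coeff_sum, MvPolynomial.coeff_zero, Finset.sum_eq_single q] at h
    · rw [MvPolynomial.coeff_smul] at h
      erw [coeff_alt q.2 q.2] at h
      simpa using h
    · intro p _ hpq
      rw [MvPolynomial.coeff_smul]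
      erw [coeff_alt p.2 q.2, if_neg (fun e => hpq (Subtype.ext e))]
      simp
    · exact fun h' => absurd hq h'

end Groth.Agent.S19449
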