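import Groth.Statements.S1945
import Groth.Agent.CycLib.RelTop.Cut
import Groth.Agent.NilFree.Basic

set_option autoImplicit false
universe u
open CategoryTheory AlgebraicGeometry
open CategoryTheory.Limits
open Cyc

namespace Groth.Agent.S1945

/-- Let p : X → Y be flat, locally of finite type, of relative dimension r + 1, and i : D → X the zero
scheme of a global section s of an invertible module L which is a nonzerodivisor at every stalk,
with D → Y flat of relative dimension r (a relative effective Cartier divisor). Then for a (k +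
1)-cycle α on Y, i^*(p^*α) ∼_rat (p|_D)^*α as (k + r + 1)-cycles on D, flat pullbacks taken
coefficientwise. (The companion formula c_1(L) ∩ p^*α = i_*((p|_D)^*α) is not stated here.) Here i :
D → X is the zero scheme of a global section s of the invertible module L (Cyc.IsZeroSchemeOf), the
Gysin map i^* : Z_{k+1}(X) → CH_k(D) is computed on coefficient functions as c_1(L) ∩ − with the
rational sections taken to be s where it is nonzero (Cyc.gysinChoice) and restricted to the points
of D, and classes on D are compared up to rational equivalence on D for the restricted dimension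
function. A pair (X, δ) with Cyc.IsSetup plays the role of a scheme locally of finite type over a
base with a dimension function (X locally Noetherian with universally catenary local rings, δ a
dimension function), and Cyc.DeltaCompat records that the dimension function upstairs is the induced
one. -/
theorem result (X Y D : Scheme.{u}) (δX : X → ℤ) (δY : Y → ℤ) (hX : Cyc.IsSetup X δX) (hY : Cyc.IsSetup Y δY) (p : X ⟶ Y) [Flat p] [LocallyOfFiniteType p] (r : ℕ) (hr : Cyc.HasRelDim p (r + 1)) (hδ : Cyc.DeltaCompat p δX δY) (L : X.Modules) (hL : PicF.IsInvertible L) (s : L.presheaf.obj (Opposite.op ⊤)) (hreg : ∀ x : X, Function.Injective (fun a : X.presheaf.stalk x => a • (L.presheaf.germ ⊤ x trivial) s)) (i : D ⟶ X) [IsClosedImmersion i] (hD : Cyc.IsZeroSchemeOf i L s) [Flat (i ≫ p)] (hrD : Cyc.HasRelDim (i ≫ p) r) (k : ℤ) (α : AlgebraicCycle Y ℤ) (hα : α ∈ Cyc.Zk Y δY (k + 1)) (w : (ξ : X) → Cyc.secFibre L ξ) (hw : ∀ ξ, w ξ ≠ 0) (γ ζ : AlgebraicCycle D ℤ) (hγ : ∀ d, γ d =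 Cyc.c1CapFun δX L (Cyc.pullFun p δX δY (r + 1) ⇑α) (Cyc.gysinChoice L s w) (i d)) (hζ : ⇑ζ = Cyc.pullFun (i ≫ p) (fun d => δX (i d)) δY r ⇑α) : Cyc.RatEquiv (fun d => δX (i d)) (k + r + 1) γ ζ := by
  classical
  haveI := hX.1
  haveI := hY.1
  haveI : IsLocallyNoetherian D := CycLib.Dev.isLocallyNoetherian_closed i
  have hs : CycLib.ShiftBy p δX δY ((r + 1 : ℕ) : ℤ) := fun x hx => CycLib.delta_eq_of_generic p hδ hr x hx
  have hle : ∀ x, δX x ≤ δY (p x) + ((r + 1 : ℕ) : ℤ) := fun x => hs.le hX.2.2 x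
  have hcoord : ∀ x : X, ∃ (g : L.presheaf.stalk x) (w : X.presheaf.stalk x), CycLib.Dev.IsBas g ∧
      (L.presheaf.germ ⊤ x trivial) s = w • g ∧ CycLib.ZeroTop.zJ L s x = Ideal.span {w} := fun x => by
    obtain ⟨g, hg⟩ := CycLib.Dev.exists_isBas hL x
    obtain ⟨w, hw⟩ := hg.2 ((L.presheaf.germ ⊤ x trivial) s)
    rw [LinearMap.toSpanSingleton_apply] at hw
    refine ⟨g, w, hg, hw.symm, ?_⟩
    show CycLib.ZeroTop.coIdeal _ ((L.presheaf.germ ⊤ x trivial) s : L.presheaf.stalk x) = _
    rw [← hw]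
    exact CycLib.ZeroTop.coIdeal_smul hg w
  have hvan : ∀ x : X, CycLib.ZeroTop.zJ L s x ≠ ⊤ ↔
      (Submodule.Quotient.mk ((L.presheaf.germ ⊤ x trivial) s) : Cyc.secFibre L x) = 0 := fun x => by
    obtain ⟨g, w, hg, hw, hJ⟩ := hcoord x
    rw [hJ, Ne, Ideal.span_singleton_eq_top, hw]
    refine ⟨fun h => ?_, fun h hu => ?_⟩
    · rw [Submodule.Quotient.mk_eq_zero]
      exact Submodule.smul_mem_smul h trivial
    · exact CycLib.Dev.mk_ne_zero_of_isBas (CycLib.Dev.isBas_smul hg hu) h
  have hrange : Set.range i = {x | CycLib.ZeroTop.zJ L s x ≠ ⊤} := by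
    rw [hD.1]
    exact Set.ext fun x => (hvan x).symm
  have hker : ∀ d : D, RingHom.ker (i.stalkMap d).hom = CycLib.ZeroTop.zJ L s (i d) := fun d => by
    obtain ⟨t, f, ht, hf, hk⟩ := hD.2 d
    rw [hk]
    show _ = CycLib.ZeroTop.coIdeal _ ((L.presheaf.germ ⊤ (i d) trivial) s : L.presheaf.stalk (i d))
    rw [hf, CycLib.ZeroTop.coIdeal_smul (CycLib.Dev.isBas_of_span hL ht)]
  have hregen : ∀ x, δY (p x) + ((r + 1 : ℕ) : ℤ) - 1 ≤ δX x →
      CycLib.RelTop.RegGen (CycLib.RelTop.fibI p x) (CycLib.ZeroTop.zJ L s x) := by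
    intro x _
    by_cases htop : CycLib.ZeroTop.zJ L s x = ⊤
    · exact ⟨1, by rw [htop, Ideal.span_singleton_one], fun y hy => by rwa [mul_one] at hy⟩
    obtain ⟨d, rfl⟩ := hrange.ge htop
    obtain ⟨g, w, hg, hw, hJ⟩ := hcoord (i d)
    refine ⟨w, hJ, fun y hy => ?_⟩
    let φ := (p.stalkMap (i d)).hom
    letI := φ.toAlgebra
    letI : Algebra (Y.presheaf.stalk (p (i d))) (D.presheaf.stalk d) := ((i.stalkMap d).hom.comp φ).toAlgebra
    let ψ : X.presheaf.stalk (i d) →ₐ[Y.presheaf.stalk (p (i d))] D.presheaf.stalk d :=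
      { (i.stalkMap d).hom with commutes' := fun _ => rfl }
    haveI : Module.Flat (Y.presheaf.stalk (p (i d))) (D.presheaf.stalk d) := by
      have h := Flat.stalkMap (i ≫ p) d
      rw [Scheme.Hom.stalkMap_comp] at h
      exact h
    have hmem : y * w ∈ IsLocalRing.maximalIdeal (Y.presheaf.stalk (p (i d))) •
        (⊤ : Submodule (Y.presheaf.stalk (p (i d))) (X.presheaf.stalk (i d))) := by
      rw [Ideal.smul_top_eq_map]
      exact hy
    have h0 : ψ (y * w) = 0 := by
      rw [map_mul, show ψ w = 0 from RingHom.mem_ker.1 ((hker d).ge (hJ.ge (Ideal.mem_span_singleton_self w))), mul_zero]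
    have h1 := NilFree.inf_smul_top_le_smul_of_flat ψ.toLinearMap (i.stalkMap_surjective d) _ ⟨h0, hmem⟩
    have h2 : ∃ b ∈ IsLocalRing.maximalIdeal (Y.presheaf.stalk (p (i d))) •
        (⊤ : Submodule (Y.presheaf.stalk (p (i d))) (X.presheaf.stalk (i d))), b * w = y * w := by
      clear hy hmem h0
      refine Submodule.smul_induction_on h1 (fun a ha z hz => ?_) fun z z' hz hz' => ?_
      · obtain ⟨b, hb⟩ := Ideal.mem_span_singleton'.1 (hJ.le ((hker d).le (RingHom.mem_ker.2 hz)))
        exact ⟨a • b, Submodule.smul_mem_smul ha trivial, by rw [← hb, smul_mul_assoc]⟩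
      · obtain ⟨b, hb, hb'⟩ := hz
        obtain ⟨b', hc, hc'⟩ := hz'
        exact ⟨b + b', add_mem hb hc, by rw [add_mul, hb', hc']⟩
    obtain ⟨b, hb, hbw⟩ := h2
    have : b = y := hreg (i d) (by
      show b • (L.presheaf.germ ⊤ (i d) trivial) s = y • (L.presheaf.germ ⊤ (i d) trivial) s
      rw [hw, smul_smul, smul_smul, hbw])
    rw [Ideal.smul_top_eq_map] at hb
    exact this ▸ hb
  have ha := CycLib.Dev.IsCyc.of_cycle α hα
  have hdD := CycLib.Dev.isDimFun_comp_closed i hX.2.2
  have hcycle : ∀ d : D, γ d = ζ d := fun d => by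
    rw [hγ, hζ]
    have hcast : (r + 1 : ℤ) = ((r + 1 : ℕ) : ℤ) := by push_cast; rfl
    rw [hcast, CycLib.RelTop.pullFun_eq_relFun p ha, CycLib.RelTop.pullFun_eq_relFun (i ≫ p) ha,
      CycLib.RelTop.c1_relFun p hX.2.2 hle hL s hregen hY.2.2 ha _ (fun ξ hξ => ?_)]
    · rw [show k + 1 + (((r + 1 : ℕ) : ℤ) - 1) = k + 1 + (r : ℤ) by push_cast; ring,
        ← CycLib.RelTop.ext0_relFun p i (fun _ => rfl) _ _ (CycLib.ZeroTop.zJ L s) (fun _ => ⊥)
          (fun d => ((Ideal.map_eq_bot_iff_le_ker _).2 (hker d).ge).symm) (fun d => (hker d).le)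
          (fun x hx => by by_contra h; exact hx (hrange.ge h)), CycLib.ChowOp.ext0_apply]
    · exact if_pos fun h => (hvan ξ).2 h hξ
  have e : γ - ζ = 0 := Function.locallyFinsuppWithin.ext fun d => by
    show γ d - ζ d = 0
    rw [hcycle, sub_self]
  rw [Cyc.RatEquiv, e]
  exact (AddSubgroup.zero_mem (CycLib.Dev.prin hdD (k + r + 1)))

end Groth.Agent.S1945
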