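import Groth.Statements.S19450
import Groth.Agent.SymSing81.FibPow
import Groth.Agent.SGA1Quot.Free
import Groth.Agent.SGA1Quot.EtaleQuot
import Groth.Agent.SGA1Quot.Finiteness
import Groth.Agent.S1535
import Groth.Agent.S9683
import Groth.Agent.S0558
import Groth.Agent.S0565
import Groth.Agent.S0255
import Groth.Agent.RegLoc.UFD

set_option autoImplicit false
universe u
open CategoryTheory CategoryTheory.Limits AlgebraicGeometry
open SymProd

namespace Groth.Agent.S19450

set_option backward.isDefEq.respectTransparency false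
set_option backward.isDefEq.respectTransparency.types false

open Groth.Agent.SymSing81 (bigDiagSet dbl)
open Groth.Agent.SGA1Quot (FreeGeom)

theorem perm_apply {X S : Scheme.{u}} (f : X ⟶ S) (n : ℕ) (σ : ULift.{u} (Equiv.Perm (Fin n)))
    (x : ↥(SymProd.fibPow f n)) : (SymProd.permActU f n σ).hom x = SymProd.permHom f n σ.down x := by
  rw [SymProd.permActU_hom]

/-- The quotient map is etale over the complement of the image of the big diagonal. -/
theorem exists_etale_nhd {X S Y : Scheme.{u}} (f : X ⟶ S) [IsSeparated f] (m : ℕ)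
    {q : SymProd.fibPow f (m + 1) ⟶ Y} (hq : SGA1.IsQuot (SymProd.permActU f (m + 1)) q) [IsFinite q]
    (x : ↥(SymProd.fibPow f (m + 1))) (hx : x ∉ bigDiagSet f) :
    ∃ V : Y.Opens, q x ∈ V ∧ Etale ((q ⁻¹ᵁ V).ι ≫ q) := by
  let V : Y.Opens := ⟨(q '' bigDiagSet f)ᶜ,
    (q.isClosedMap _ (SymSing81.isClosed_bigDiagSet f)).isOpen_compl⟩
  have hV : ∀ y : ↥(SymProd.fibPow f (m + 1)), q y ∈ V ↔ y ∉ bigDiagSet f := by
    intro y
    refine ⟨fun h hy => h ⟨y, hy, rfl⟩, fun h ⟨y', hy', he⟩ => h ?_⟩
    obtain ⟨g, hg⟩ := (SGA1Quot.eq_iff_exists hq y' y).1 he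
    rw [← hg, perm_apply]
    exact SymSing81.perm_mem f _ hy'
  refine ⟨V, (hV x).2 hx, ?_⟩
  obtain ⟨ρV, hρV, hρι⟩ := SGA1Quot.exists_restrict_isQuot hq V
  have hfree : FreeGeom ρV := by
    intro K _ _ ξ g hg
    by_contra hne
    obtain ⟨a, ha⟩ : ∃ a, g.down.symm a ≠ a := by
      by_contra! h
      exact hne (ULift.ext _ _ (inv_eq_one.1 (Equiv.ext h : g.down⁻¹ = 1)))
    let t : Spec (CommRingCat.of K) := IsLocalRing.closedPoint K
    have h1 : (ξ ≫ (q ⁻¹ᵁ V).ι) ≫ SymProd.permHom f (m + 1) g.down = ξ ≫ (q ⁻¹ᵁ V).ι := by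
      rw [Category.assoc, ← SymProd.permActU_hom f (m + 1) g, ← hρι, reassoc_of% hg]
    have h2 : (ξ ≫ (q ⁻¹ᵁ V).ι) ≫ WidePullback.π _ (g.down.symm a) =
        (ξ ≫ (q ⁻¹ᵁ V).ι) ≫ WidePullback.π _ a := by
      conv_rhs => rw [← h1, Category.assoc, SymProd.permHom_π]
    exact (hV _).1 (ξ t).2 (SymSing81.mem_bigDiagSet f _ ha h2 t)
  let υ : (∐ fun _ : ULift.{u} (Equiv.Perm (Fin (m + 1))) => (q ⁻¹ᵁ V).toScheme) ⟶ pullback (q ∣_ V) (q ∣_ V) :=
    Sigma.desc fun g => pullback.lift (𝟙 _) (ρV g).hom ((Category.id_comp _).trans (hρV.inv g).symm)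
  haveI : IsIso υ := SGA1Quot.isIso_translates hρV hfree υ
    (fun g => by rw [Sigma.ι_desc_assoc]; exact pullback.lift_fst _ _ _)
    (fun g => by rw [Sigma.ι_desc_assoc]; exact pullback.lift_snd _ _ _)
  haveI : IsOpenImmersion (pullback.diagonal (q ∣_ V)) := by
    rw [show pullback.diagonal (q ∣_ V) = Sigma.ι _ 1 ≫ υ by
      rw [Sigma.ι_desc]
      refine pullback.hom_ext ?_ ?_
      · rw [pullback.diagonal_fst, pullback.lift_fst]
      · rw [pullback.diagonal_snd, pullback.lift_snd, map_one]; rfl]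
    infer_instance
  haveI := SGA1Quot.etale_of_isQuot hρV
  rw [← morphismRestrict_ι]
  infer_instance

/-- The quotient is locally of finite type. -/
theorem locallyOfFiniteType_quot {X S Y : Scheme.{u}} [IsAffine S] [IsLocallyNoetherian S] {f : X ⟶ S}
    [LocallyOfFiniteType f] {n : ℕ} {q : SymProd.fibPow f n ⟶ Y} {g : Y ⟶ S}
    (hY : SymProd.IsSymProd f n q g) : LocallyOfFiniteType g := by
  have hb : LocallyOfFiniteType (WidePullback.base fun _ : Fin n => f) :=
    SymSing81.prop_base f @LocallyOfFiniteType (fun _ _ => inferInstance) ‹_› n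
  rw [IsZariskiLocalAtSource.iff_of_iSup_eq_top (P := @LocallyOfFiniteType) (fun U : Y.affineOpens => U.1)
    (iSup_affineOpens_eq_top Y)]
  intro V
  haveI := hY.isQuot.affine
  obtain ⟨ρV, hρV, -⟩ := SGA1Quot.exists_restrict_isQuot hY.isQuot V.1
  haveI : IsAffine (q ⁻¹ᵁ V.1).toScheme := V.2.preimage q
  haveI : IsAffineHom ((q ⁻¹ᵁ V.1).ι ≫ WidePullback.base fun _ : Fin n => f) := isAffineHom_of_isAffine _
  exact ((SGA1Quot.affine_separated_finite_iff hρV ((q ⁻¹ᵁ V.1).ι ≫ WidePullback.base fun _ : Fin n => f)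
    (V.1.ι ≫ g) (by rw [morphismRestrict_ι_assoc, hY.over])).2.2.2 inferInstance inferInstance inferInstance).1


/-- Let k be an algebraically closed field, X an irreducible smooth separated k-scheme of dimension d ≥
2 in which every finite set of points lies in an affine open (as for X quasi-projective), n ≥ 2, and
q : X ×_k ⋯ ×_k X → Y (n factors) a symmetric product over k, i.e. a quotient by the symmetric group
permuting the factors. Then for a closed point z of the n-fold product, the local ring of Y at q(z)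
is regular if and only if the n components of z are pairwise distinct points of X; that is, the
singular locus of the n-th symmetric power is the image of the big diagonal. -/
theorem result (k : Type u) [Field k] [IsAlgClosed k]
    (X : Scheme.{u}) (f : X ⟶ Spec (CommRingCat.of k)) [Smooth f] [IsSeparated f]
    [IrreducibleSpace X]
    (d : ℕ) (hd : 2 ≤ d) (hdim : topologicalKrullDim X = d) (hAF : SymProd.IsAF f)
    (n : ℕ) (hn : 2 ≤ n) (Y : Scheme.{u}) (q : SymProd.fibPow f n ⟶ Y) (g : Y ⟶ Spec (CommRingCat.of k))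
    (hY : SymProd.IsSymProd f n q g) (z : SymProd.fibPow f n) (hz : IsClosed ({z} : Set (SymProd.fibPow f n))) :
    IsRegularLocalRing (Y.presheaf.stalk (q.base z)) ↔
      Function.Injective (fun i : Fin n => (WidePullback.π (fun _ : Fin n => f) i).base z) := by
  obtain ⟨m, rfl⟩ : ∃ m, n = m + 1 := ⟨n - 1, by omega⟩
  let b := WidePullback.base fun _ : Fin (m + 1) => f
  letI : (SymProd.fibPow f (m + 1)).Over (Spec (CommRingCat.of k)) := ⟨b⟩
  haveI : Smooth (SymProd.fibPow f (m + 1) ↘ Spec (CommRingCat.of k)) := inferInstanceAs (Smooth b)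
  have hsm : ∀ x, IsRegularLocalRing ((SymProd.fibPow f (m + 1)).presheaf.stalk x) := fun x => S1535.result k _ x
  haveI := SymSing81.irreducibleSpace_fibPow f (m + 1)
  have hdimP := SymSing81.dim_fibPow f hdim (m + 1)
  haveI : IsLocallyNoetherian (SymProd.fibPow f (m + 1)) := LocallyOfFiniteType.isLocallyNoetherian b
  haveI := locallyOfFiniteType_quot hY
  haveI : IsLocallyNoetherian Y := LocallyOfFiniteType.isLocallyNoetherian g
  haveI : IsFinite q :=
    (SGA1Quot.affine_separated_finite_iff hY.isQuot b g hY.over).2.2.1 inferInstance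
  haveI : Surjective q := ⟨SGA1Quot.surjective hY.isQuot⟩
  constructor
  · intro hreg a c hac
    by_contra hne
    let p := pointOfClosedPoint b z hz
    have hp : p (IsLocalRing.closedPoint k) = z := pointOfClosedPoint_apply b z hz _
    have hpp : p ≫ b = 𝟙 _ := pointOfClosedPoint_comp b z hz
    have hπ : ∀ i : Fin (m + 1), (p ≫ WidePullback.π _ i) ≫ f = 𝟙 _ := fun i => by
      rw [Category.assoc, WidePullback.π_arrow]; exact hpp
    have hzD : z ∈ bigDiagSet f := hp ▸ SymSing81.mem_bigDiagSet f p hne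
      (ext_of_apply_closedPoint_eq f (hπ a) (hπ c) (by
        rw [Scheme.Hom.comp_apply, Scheme.Hom.comp_apply, hp]; exact hac)) _
    -- dimensions
    have hη : VarDim.dimPt k (SymProd.fibPow f (m + 1)) (genericPoint _) = (m + 1) * d := by
      have h := (VarDim.topologicalKrullDim_eq_of_irreducible k (X := SymProd.fibPow f (m + 1))).symm.trans hdimP
      exact_mod_cast h
    have hco : ∀ x : ↥(SymProd.fibPow f (m + 1)),
        (((m + 1) * d - VarDim.dimPt k _ x : ℕ) : ℕ∞) ≤ Order.coheight x := fun x =>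
      hη ▸ VarDim.le_coheight k (genericPoint_specializes x : x ≤ genericPoint _)
    have hz0 : VarDim.dimPt k (SymProd.fibPow f (m + 1)) z = 0 := by
      obtain ⟨y, hy, -, hy0⟩ := VarDim.exists_le_dimPt_eq_zero k z ⊤ trivial
      rwa [show y = z from (show z ⤳ y from hy).mem_closed hz rfl] at hy0
    have hσ : ∀ (σ : ULift.{u} (Equiv.Perm (Fin (m + 1)))) (x : ↥(SymProd.fibPow f (m + 1))),
        Order.height ((SymProd.permActU f (m + 1) σ).hom x) = Order.height x := fun σ x =>
      le_antisymm (SymSing81.height_apply_le _ x) (by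
        have h := SymSing81.height_apply_le (SymProd.permActU f (m + 1) σ).inv ((SymProd.permActU f (m + 1) σ).hom x)
        rwa [← Scheme.Hom.comp_apply, Iso.hom_inv_id] at h)
    have hmono : StrictMono q.base := by
      intro x x' hlt
      refine lt_iff_le_not_ge.mpr ⟨(show x' ⤳ x from hlt.le).map q.continuous, fun h => ?_⟩
      have he : q x = q x' := (Specializes.antisymm (show q x ⤳ q x' from h) ((show x' ⤳ x from hlt.le).map q.continuous)).eq
      obtain ⟨σ, hσx⟩ := (SGA1Quot.eq_iff_exists hY.isQuot x x').1 he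
      have h1 := VarDim.dimPt_lt_of_lt k hlt
      have h2 := hσ σ x
      rw [hσx, VarDim.height_eq_dimPt k, VarDim.height_eq_dimPt k, Nat.cast_inj] at h2
      omega
    have hdimz : ringKrullDim ((SymProd.fibPow f (m + 1)).presheaf.stalk z) = ((m + 1) * d : ℕ) := by
      rw [ringKrullDim_stalk_eq_coheight]
      refine le_antisymm ((Order.coheight_le_krullDim z).trans
        ((VarDim.topologicalKrullDim_eq_krullDim (X := SymProd.fibPow f (m + 1))).symm.trans hdimP).le) ?_
      have := hco z
      rw [hz0, Nat.sub_zero] at this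
      exact_mod_cast this
    have hdimq : ringKrullDim ((SymProd.fibPow f (m + 1)).presheaf.stalk z) =
        ringKrullDim (Y.presheaf.stalk (q.base z)) := by
      refine le_antisymm ?_ ?_
      · rw [ringKrullDim_stalk_eq_coheight, ringKrullDim_stalk_eq_coheight]
        exact WithBot.coe_le_coe.2 (Order.coheight_le_coheight_apply_of_strictMono _ hmono z)
      · rw [hdimz, ringKrullDim_stalk_eq_coheight, ← hdimP, (S9683.result q).2 inferInstance]
        exact (Order.coheight_le_krullDim _).trans_eq (VarDim.topologicalKrullDim_eq_krullDim (X := Y)).symm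
    have hnorm : IsDomain ((SymProd.fibPow f (m + 1)).presheaf.stalk z) ∧
        IsIntegrallyClosed ((SymProd.fibPow f (m + 1)).presheaf.stalk z) := by
      haveI := hsm z
      haveI := S0558.result ((SymProd.fibPow f (m + 1)).presheaf.stalk z)
      haveI := RegLoc.UFD.uniqueFactorizationMonoid ((SymProd.fibPow f (m + 1)).presheaf.stalk z)
      exact ⟨inferInstance, inferInstance⟩
    obtain ⟨U, hzU, hU⟩ := S0255.result q z hnorm hreg (Scheme.Hom.quasiFiniteAt q z) hdimq
      (by rw [hdimz]; exact_mod_cast Nat.one_le_iff_ne_zero.2 (Nat.mul_ne_zero (Nat.succ_ne_zero m) (by omega)))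
      (fun x' hx' h1 => by
        have hxD : x' ∉ bigDiagSet f := fun hmem => by
          obtain ⟨i, hmem⟩ := Set.mem_iUnion.1 hmem
          obtain ⟨j, w, rfl⟩ := Set.mem_iUnion.1 hmem
          haveI := SymSing81.isClosedImmersion_dbl f i j
          letI : (SymProd.fibPow f m).Over (Spec (CommRingCat.of k)) := ⟨WidePullback.base fun _ : Fin m => f⟩
          haveI : LocallyOfFiniteType (SymProd.fibPow f m ↘ Spec (CommRingCat.of k)) :=
            inferInstanceAs (LocallyOfFiniteType (WidePullback.base fun _ : Fin m => f))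
          have hw := SymSing81.height_apply_le (dbl f i j) w
          rw [VarDim.height_eq_dimPt k, VarDim.height_eq_dimPt k, Nat.cast_le] at hw
          have hw2 : VarDim.dimPt k (SymProd.fibPow f m) w ≤ m * d := by
            have h := (le_iSup (fun x => (VarDim.dimPt k (SymProd.fibPow f m) x : WithBot ℕ∞)) w).trans
              ((VarDim.topologicalKrullDim_eq_iSup k (X := SymProd.fibPow f m)).symm.trans
                (SymSing81.dim_fibPow f hdim m)).le
            exact_mod_cast h
          rw [ringKrullDim_stalk_eq_coheight] at h1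
          have h2 := (WithBot.coe_le_coe.2 (hco (dbl f i j w))).trans h1.le
          have h3 : (m + 1) * d - VarDim.dimPt k (SymProd.fibPow f (m + 1)) (dbl f i j w) ≤ 1 := by exact_mod_cast h2
          rw [Nat.succ_mul] at h3
          omega
        obtain ⟨V, hxV, hV⟩ := exists_etale_nhd f m hY.isQuot x' hxD
        have h2 := Scheme.Hom.stalkMap_comp (q ⁻¹ᵁ V).ι q (⟨x', hxV⟩ : (q ⁻¹ᵁ V).toScheme)
        have h3 := FormallyUnramified.stalkMap ((q ⁻¹ᵁ V).ι ≫ q) (⟨x', hxV⟩ : (q ⁻¹ᵁ V).toScheme)
        rw [h2] at h3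
        exact (RingHom.FormallyUnramified.respectsIso.cancel_right_isIso _ _).1 h3)
    -- the transposition fixes a neighbourhood
    let σ := Equiv.swap a c
    let τ := SymProd.permHom f (m + 1) σ
    have hτq : τ ≫ q = q := by
      have h := hY.isQuot.inv ⟨σ⟩
      rwa [SymProd.permActU_hom] at h
    have hpτ : p ≫ τ = p := by
      refine WidePullback.hom_ext _ _ _ (fun i => ?_) ?_
      · rw [Category.assoc, SymProd.permHom_π, Equiv.symm_swap]
        have hab : p ≫ WidePullback.π _ a = p ≫ WidePullback.π _ c :=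
          ext_of_apply_closedPoint_eq f (hπ a) (hπ c) (by
            rw [Scheme.Hom.comp_apply, Scheme.Hom.comp_apply, hp]; exact hac)
        rcases eq_or_ne i a with rfl | hia
        · rw [Equiv.swap_apply_left]; exact hab.symm
        rcases eq_or_ne i c with rfl | hic
        · rw [Equiv.swap_apply_right]; exact hab
        rw [Equiv.swap_apply_of_ne_of_ne hia hic]
      · rw [Category.assoc, SymProd.permHom_base]
    have hτz : τ z = z := by rw [← hp, ← Scheme.Hom.comp_apply, hpτ]
    let W : (SymProd.fibPow f (m + 1)).Opens := U ⊓ τ ⁻¹ᵁ U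
    have hzW : z ∈ W := ⟨hzU, show τ z ∈ U by rw [hτz]; exact hzU⟩
    let α : W.toScheme ⟶ U.toScheme := (SymProd.fibPow f (m + 1)).homOfLE inf_le_left
    let β : W.toScheme ⟶ U.toScheme := τ.resLE U W inf_le_right
    let e := U.ι ≫ q
    have hα : α ≫ U.ι = W.ι := Scheme.homOfLE_ι _ _
    have hβ : β ≫ U.ι = W.ι ≫ τ := Scheme.Hom.resLE_comp_ι _ _
    have hαβ : α ≫ e = β ≫ e := by rw [← Category.assoc, hα, ← Category.assoc, hβ, Category.assoc, hτq]
    let l : W.toScheme ⟶ pullback e e := pullback.lift α β hαβ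
    haveI : IsOpenImmersion (pullback.diagonal e) := inferInstance
    let ε := pullback.fst l (pullback.diagonal e)
    haveI : IsOpenImmersion ε := MorphismProperty.pullback_fst _ _ inferInstance
    have hε : ε ≫ W.ι ≫ τ = ε ≫ W.ι := by
      have h := pullback.condition (f := l) (g := pullback.diagonal e)
      have ha : ε ≫ α = pullback.snd l (pullback.diagonal e) := by
        have := congrArg (· ≫ pullback.fst e e) h
        simpa [l, ε] using this
      have hb : ε ≫ β = pullback.snd l (pullback.diagonal e) := by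
        have := congrArg (· ≫ pullback.snd e e) h
        simpa [l, ε] using this
      rw [← hβ, ← hα, ← Category.assoc, hb, ← ha, Category.assoc]
    let pW : Spec (CommRingCat.of k) ⟶ W.toScheme := IsOpenImmersion.lift W.ι p (by
      rintro _ ⟨t, rfl⟩
      rw [Scheme.Opens.range_ι, show p t = z from (congrArg p (Subsingleton.elim (α := Spec (CommRingCat.of k)) _ _)).trans hp]
      exact hzW)
    have hpW : pW ≫ W.ι = p := IsOpenImmersion.lift_fac _ _ _
    have hpl : pW ≫ l = (pW ≫ α) ≫ pullback.diagonal e := by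
      have hb : pW ≫ β = pW ≫ α := by
        rw [← cancel_mono U.ι, Category.assoc, Category.assoc, hβ, hα, reassoc_of% hpW, hpτ, hpW]
      refine pullback.hom_ext ?_ ?_
      · simp [l]
      · simp [l, hb]
    let O : (SymProd.fibPow f (m + 1)).Opens := (ε ≫ W.ι).opensRange
    have hO : z ∈ O := ⟨pullback.lift pW (pW ≫ α) hpl (IsLocalRing.closedPoint k), by
      rw [← Scheme.Hom.comp_apply, pullback.lift_fst_assoc, hpW, hp]⟩
    -- the big diagonal is nowhere dense
    have hD : genericPoint ↥(SymProd.fibPow f (m + 1)) ∈ O :=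
      (genericPoint_specializes z).mem_open O.2 hO
    obtain ⟨t, ht⟩ := hD
    have hgen : genericPoint ↥(SymProd.fibPow f (m + 1)) ∈ bigDiagSet f := by
      rw [← ht]
      refine SymSing81.mem_bigDiagSet f (ε ≫ W.ι) hne ?_ t
      conv_lhs => rw [← hε]
      simp only [Category.assoc, τ, SymProd.permHom_π, σ, Equiv.symm_swap, Equiv.swap_apply_left]
    obtain ⟨i, hmem⟩ := Set.mem_iUnion.1 hgen
    obtain ⟨j, w, hw⟩ := Set.mem_iUnion.1 hmem
    haveI := SymSing81.isClosedImmersion_dbl f i j
    letI : (SymProd.fibPow f m).Over (Spec (CommRingCat.of k)) := ⟨WidePullback.base fun _ : Fin m => f⟩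
    haveI : LocallyOfFiniteType (SymProd.fibPow f m ↘ Spec (CommRingCat.of k)) :=
      inferInstanceAs (LocallyOfFiniteType (WidePullback.base fun _ : Fin m => f))
    have hw' := SymSing81.height_apply_le (dbl f i j) w
    rw [hw, VarDim.height_eq_dimPt k, VarDim.height_eq_dimPt k, Nat.cast_le, hη] at hw'
    have hw2 : VarDim.dimPt k (SymProd.fibPow f m) w ≤ m * d := by
      have h := (le_iSup (fun x => (VarDim.dimPt k (SymProd.fibPow f m) x : WithBot ℕ∞)) w).trans
        ((VarDim.topologicalKrullDim_eq_iSup k (X := SymProd.fibPow f m)).symm.trans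
          (SymSing81.dim_fibPow f hdim m)).le
      exact_mod_cast h
    rw [Nat.succ_mul] at hw'
    omega
  · intro hinj
    have hzD : z ∉ bigDiagSet f := fun hmem => by
      obtain ⟨i, hmem⟩ := Set.mem_iUnion.1 hmem
      obtain ⟨j, w, rfl⟩ := Set.mem_iUnion.1 hmem
      exact Fin.succAbove_ne i j (hinj (by
        show (WidePullback.π (fun _ : Fin (m + 1) => f) (i.succAbove j)) (dbl f i j w) =
          (WidePullback.π (fun _ : Fin (m + 1) => f) i) (dbl f i j w)
        rw [← Scheme.Hom.comp_apply, ← Scheme.Hom.comp_apply, SymSing81.dbl_π]))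
    obtain ⟨V, hzV, hV⟩ := exists_etale_nhd f m hY.isQuot z hzD
    let e := (q ⁻¹ᵁ V).ι ≫ q
    let z' : (q ⁻¹ᵁ V).toScheme := ⟨z, hzV⟩
    letI : (q ⁻¹ᵁ V).toScheme.Over (Spec (CommRingCat.of k)) := ⟨(q ⁻¹ᵁ V).ι ≫ b⟩
    haveI : Smooth ((q ⁻¹ᵁ V).toScheme ↘ Spec (CommRingCat.of k)) := inferInstanceAs (Smooth ((q ⁻¹ᵁ V).ι ≫ b))
    haveI := S1535.result k (q ⁻¹ᵁ V).toScheme z'
    have hfl := Flat.stalkMap e z'
    algebraize [(e.stalkMap z').hom]
    haveI : IsLocalHom (algebraMap (Y.presheaf.stalk (e z')) ((q ⁻¹ᵁ V).toScheme.presheaf.stalk z')) :=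
      inferInstanceAs (IsLocalHom (e.stalkMap z').hom)
    exact S0565.result (Y.presheaf.stalk (e z')) ((q ⁻¹ᵁ V).toScheme.presheaf.stalk z')

end Groth.Agent.S19450
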