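import Groth.Statements.S19452
import Groth.Agent.FlatNilp.Basic
import Mathlib.RingTheory.Flat.EquationalCriterion
import Mathlib.LinearAlgebra.TensorProduct.Quotient

set_option autoImplicit false
universe u
attribute [local instance] W4c6puncthilbintro.dualAlgebra
open HilbD

namespace Groth.Agent.S19452

open TrivSqZeroExt DualNumber TensorProduct W4c6puncthilbintro

theorem flat_of_bijective (A B : Type u) [CommRing A] [CommRing B] [Algebra A B]
    (hB : Function.Surjective (algebraMap A B)) (N : Type u) [AddCommGroup N] [Module A N] [Module B N]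
    [IsScalarTower A B N] [Module.Flat A N] : Module.Flat B N := by
  let g : B ⊗[A] N →ₗ[B] N := (LinearMap.id (R := A) (M := N)).liftBaseChange B
  have hs : ∀ z : B ⊗[A] N, ∃ n : N, z = 1 ⊗ₜ n := by
    intro z
    induction z with
    | zero => exact ⟨0, (TensorProduct.tmul_zero _ _).symm⟩
    | tmul b n =>
      obtain ⟨a, rfl⟩ := hB b
      exact ⟨a • n, by rw [← TensorProduct.smul_tmul, Algebra.smul_def, mul_one]⟩
    | add x y hx hy =>
      obtain ⟨m, rfl⟩ := hx
      obtain ⟨n, rfl⟩ := hy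
      exact ⟨m + n, (TensorProduct.tmul_add _ _ _).symm⟩
  have hg : Function.Bijective g := by
    refine ⟨(injective_iff_map_eq_zero g).mpr fun z hz => ?_, fun n => ⟨1 ⊗ₜ n, by simp [g]⟩⟩
    obtain ⟨n, rfl⟩ := hs z
    have : n = 0 := by simpa [g] using hz
    rw [this, TensorProduct.tmul_zero]
  exact Module.Flat.of_linearEquiv (LinearEquiv.ofBijective g hg).symm

section
variable (A : Type u) [CommRing A] (R : Type u) [CommRing R] [Algebra A R]

theorem dualMap_apply (x : DualNumber A) :
    dualMap A R x = inl (algebraMap A R x.fst) + inr (algebraMap A R x.snd) := by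
  have hx : x = inl x.fst + inl x.snd * (ε : DualNumber A) := by
    ext <;> simp
  conv_lhs => rw [hx]
  rw [map_add, map_mul, dualMap_eps, dualMap_inl, dualMap_inl]
  ext <;> simp [TrivSqZeroExt.algebraMap_eq_inl', Algebra.algebraMap_eq_smul_one]

theorem algebraMap_fst (x : DualNumber A) :
    (algebraMap (DualNumber A) (DualNumber R) x).fst = algebraMap A R x.fst := by
  show (dualMap A R x).fst = _
  simp [dualMap_apply]

theorem algebraMap_snd (x : DualNumber A) :
    (algebraMap (DualNumber A) (DualNumber R) x).snd = algebraMap A R x.snd := by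
  show (dualMap A R x).snd = _
  simp [dualMap_apply, Algebra.algebraMap_eq_smul_one]

theorem algebraMap_eps : algebraMap (DualNumber A) (DualNumber R) ε = ε := dualMap_eps A R

variable {R}

/-- Inclusion of the constants. -/
def inlMk (J : Ideal (DualNumber R)) (a : R) : DualNumber R ⧸ J := Ideal.Quotient.mk J (inl a)

theorem eps_smul_mk (J : Ideal (DualNumber R)) (x : DualNumber R) :
    (ε : DualNumber A) • Ideal.Quotient.mk J x = Ideal.Quotient.mk J (inr x.fst) := by
  show Ideal.Quotient.mk J ((ε : DualNumber A) • x) = _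
  rw [Algebra.smul_def, algebraMap_eps]
  congr 1
  ext <;> simp

theorem smul_smul' (J : Ideal (DualNumber R)) (c d : DualNumber A) (m : DualNumber R ⧸ J) :
    c • d • m = (c * d) • m := by
  obtain ⟨x, rfl⟩ := Ideal.Quotient.mk_surjective m
  exact congrArg (Ideal.Quotient.mk J) (smul_smul c d x)

theorem smul_add' (J : Ideal (DualNumber R)) (c : DualNumber A) (m n : DualNumber R ⧸ J) :
    c • (m + n) = c • m + c • n := by
  obtain ⟨x, rfl⟩ := Ideal.Quotient.mk_surjective m
  obtain ⟨y, rfl⟩ := Ideal.Quotient.mk_surjective n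
  exact congrArg (Ideal.Quotient.mk J) (smul_add c x y)

theorem zero_smul' (J : Ideal (DualNumber R)) (m : DualNumber R ⧸ J) : (0 : DualNumber A) • m = 0 := by
  obtain ⟨x, rfl⟩ := Ideal.Quotient.mk_surjective m
  exact congrArg (Ideal.Quotient.mk J) (show (0 : DualNumber A) • x = 0 by rw [Algebra.smul_def, map_zero, zero_mul])

theorem mem_eps_range (J : Ideal (DualNumber R)) (a : R) (m : DualNumber R ⧸ J)
    (h : inlMk J a = (ε : DualNumber A) • m) : ∃ z ∈ J, z.fst = a := by
  obtain ⟨y, rfl⟩ := Ideal.Quotient.mk_surjective m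
  rw [eps_smul_mk, inlMk, Ideal.Quotient.eq] at h
  exact ⟨_, h, by simp⟩

end

theorem flat_liftIdeal (A : Type u) [CommRing A] (R : Type u) [CommRing R] [Algebra A R]
    (I : Ideal R) [Module.Flat A (R ⧸ I)] (φ : I →ₗ[R] R ⧸ I) :
    Module.Flat (DualNumber A) (DualNumber R ⧸ liftIdeal I φ) := by
  set J := liftIdeal I φ
  set P : Ideal (DualNumber A) := Ideal.span {ε}
  have hP : ∀ x ∈ P, ∀ y ∈ P, y * x = 0 := fun x hx y hy => by
    obtain ⟨c, rfl⟩ := Ideal.mem_span_singleton'.mp hx
    obtain ⟨d, rfl⟩ := Ideal.mem_span_singleton'.mp hy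
    rw [mul_mul_mul_comm, eps_mul_eps, mul_zero]
  have hmemP : ∀ x ∈ P, x.fst = 0 := fun x hx => by
    obtain ⟨c, rfl⟩ := Ideal.mem_span_singleton'.mp hx
    simp
  -- lifting elements of `I`
  have hlift : ∀ a ∈ I, ∃ c : R, inl a + inr c ∈ J := fun a ha => by
    obtain ⟨c, hc⟩ := Ideal.Quotient.mk_surjective (φ ⟨a, ha⟩)
    exact ⟨c, ⟨by simpa using ha, by simpa using hc⟩⟩
  have hsub : ∀ a ∈ I, ∃ m, inlMk J a = (ε : DualNumber A) • m := fun a ha => by
    obtain ⟨c, hc⟩ := hlift a ha
    refine ⟨-inlMk J c, ?_⟩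
    rw [inlMk, inlMk, ← map_neg (Ideal.Quotient.mk J), eps_smul_mk, Ideal.Quotient.eq]
    have : inl a - inr (-inl c : DualNumber R).fst = inl a + inr c := by simp
    rwa [this]
  have hdec : ∀ x : DualNumber R, Ideal.Quotient.mk J x = inlMk J x.fst + (ε : DualNumber A) • inlMk J x.snd := fun x => by
    rw [inlMk, inlMk, eps_smul_mk, ← map_add]
    congr 1
    ext <;> simp
  have hzero : ∀ a : R, (ε : DualNumber A) • inlMk J a = 0 → a ∈ I := fun a h => by
    rw [inlMk, eps_smul_mk, Ideal.Quotient.eq_zero_iff_mem] at h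
    obtain ⟨h1, h2⟩ := h
    rw [show (⟨(inr (inl a : DualNumber R).fst : DualNumber R).fst, h1⟩ : I) = 0 from Subtype.ext (by simp), map_zero,
      Ideal.Quotient.eq_zero_iff_mem] at h2
    simpa using h2
  -- the reduction is flat
  set B := DualNumber A ⧸ P
  letI : Algebra A B := inferInstance
  set N := B ⊗[DualNumber A] (DualNumber R ⧸ J)
  have hBs : Function.Surjective (algebraMap A B) := fun b => by
    obtain ⟨x, rfl⟩ := Ideal.Quotient.mk_surjective b
    refine ⟨x.fst, ?_⟩
    rw [IsScalarTower.algebraMap_apply A (DualNumber A) B, Ideal.Quotient.algebraMap_eq, Ideal.Quotient.eq,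
      TrivSqZeroExt.algebraMap_eq_inl']
    exact Ideal.mem_span_singleton'.mpr ⟨inl (-x.snd), by ext <;> simp⟩
  have htmul : ∀ (a : DualNumber A) (n : DualNumber R ⧸ J),
      (1 : B) ⊗ₜ[DualNumber A] (a • n) = (Ideal.Quotient.mk P a : B) ⊗ₜ[DualNumber A] n := fun a n =>
    (TensorProduct.smul_tmul a (1 : B) n).symm.trans
      (congrArg (· ⊗ₜ[DualNumber A] n) (show Ideal.Quotient.mk P (a • (1 : DualNumber A)) = Ideal.Quotient.mk P a by rw [smul_eq_mul, mul_one]))
  have hεB : ∀ n : DualNumber R ⧸ J, (1 : B) ⊗ₜ[DualNumber A] ((ε : DualNumber A) • n) = 0 := fun n => by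
    rw [htmul, Ideal.Quotient.eq_zero_iff_mem.mpr (Ideal.mem_span_singleton_self ε : (ε : DualNumber A) ∈ P), TensorProduct.zero_tmul]
  have hone : ∀ z : N, ∃ a : R, z = 1 ⊗ₜ inlMk J a := fun z => by
    obtain ⟨m, rfl⟩ : ∃ m : DualNumber R ⧸ J, z = 1 ⊗ₜ m := by
      induction z using TensorProduct.induction_on with
      | zero => exact ⟨0, (TensorProduct.tmul_zero _ _).symm⟩
      | tmul b n =>
        obtain ⟨a, rfl⟩ := Ideal.Quotient.mk_surjective b
        exact ⟨a • n, (htmul a n).symm⟩
      | add x y hx hy =>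
        obtain ⟨m, rfl⟩ := hx
        obtain ⟨n, rfl⟩ := hy
        exact ⟨m + n, (TensorProduct.tmul_add _ _ _).symm⟩
    obtain ⟨x, rfl⟩ := Ideal.Quotient.mk_surjective m
    refine ⟨x.fst, ?_⟩
    rw [hdec, TensorProduct.tmul_add, hεB, add_zero]
  let h₀ : R →ₗ[A] N :=
    { toFun := fun a => 1 ⊗ₜ inlMk J a
      map_add' := fun a b => by rw [← TensorProduct.tmul_add, inlMk, inlMk, inlMk, inl_add, map_add]
      map_smul' := fun c a => by
        rw [RingHom.id_apply, ← IsScalarTower.algebraMap_smul (DualNumber A) c (1 ⊗ₜ[DualNumber A] inlMk J a : N),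
          ← TensorProduct.tmul_smul, inlMk, inlMk]
        congr 1
        show _ = Ideal.Quotient.mk J (algebraMap A (DualNumber A) c • (inl a : DualNumber R))
        congr 1
        rw [Algebra.smul_def (algebraMap A (DualNumber A) c)]
        ext <;> simp [algebraMap_fst, algebraMap_snd, Algebra.smul_def, TrivSqZeroExt.algebraMap_eq_inl'] }
  have hker : LinearMap.ker h₀ = I.restrictScalars A := by
    refine Submodule.ext fun a => ⟨fun h => ?_, fun ha => ?_⟩
    · have h' : (1 : B) ⊗ₜ[DualNumber A] inlMk J a = (1 : B) ⊗ₜ[DualNumber A] 0 := by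
        rw [TensorProduct.tmul_zero]; exact h
      have := congrArg (TensorProduct.quotTensorEquivQuotSMul _ P) h'
      rw [show (1 : B) = Ideal.Quotient.mk P 1 from rfl, TensorProduct.quotTensorEquivQuotSMul_mk_tmul,
        TensorProduct.quotTensorEquivQuotSMul_mk_tmul, one_smul, one_smul, Submodule.Quotient.mk_zero,
        Submodule.Quotient.mk_eq_zero, Submodule.ideal_span_singleton_smul] at this
      obtain ⟨m, -, hm⟩ := Set.mem_smul_set.mp this
      obtain ⟨z, hz, rfl⟩ := mem_eps_range A J a m hm.symm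
      exact hz.1
    · obtain ⟨m, hm⟩ := hsub a ha
      show (1 : B) ⊗ₜ[DualNumber A] inlMk J a = 0
      rw [hm, hεB]
  have hs : Function.Surjective h₀ := fun z => (hone z).imp fun a ha => ha.symm
  haveI : Module.Flat A N := by
    let e := (h₀.quotKerEquivOfSurjective hs).symm.trans
      ((Submodule.quotEquivOfEq _ _ hker).trans (Submodule.Quotient.restrictScalarsEquiv A I))
    exact Module.Flat.of_linearEquiv e
  haveI : Module.Flat B N := flat_of_bijective A B hBs N
  refine FlatNilp.flat_of_flat_quotients P P hP _ ?_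
  rw [injective_iff_map_eq_zero]
  intro z hz
  have hgen : ∀ z : P ⊗[DualNumber A] (DualNumber R ⧸ J), ∃ m, z = (⟨ε, Ideal.subset_span rfl⟩ : P) ⊗ₜ m := fun z => by
    induction z with
    | zero => exact ⟨0, (TensorProduct.tmul_zero _ _).symm⟩
    | tmul p n =>
      obtain ⟨p, hp⟩ := p
      obtain ⟨c, rfl⟩ := Ideal.mem_span_singleton'.mp hp
      exact ⟨c • n, (congrArg (· ⊗ₜ[DualNumber A] n) (Subtype.ext rfl : (⟨c * ε, hp⟩ : P) = c • (⟨ε, Ideal.subset_span rfl⟩ : P))).trans (TensorProduct.smul_tmul c _ n)⟩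
    | add x y hx hy =>
      obtain ⟨m, rfl⟩ := hx
      obtain ⟨n, rfl⟩ := hy
      exact ⟨m + n, (TensorProduct.tmul_add _ _ _).symm⟩
  obtain ⟨m, rfl⟩ := hgen z
  obtain ⟨x, rfl⟩ := Ideal.Quotient.mk_surjective m
  have hεm : (ε : DualNumber A) • Ideal.Quotient.mk J x = 0 := by
    have := congrArg (TensorProduct.lid (DualNumber A) _) hz
    simpa using this
  rw [hdec, smul_add', smul_smul', eps_mul_eps, zero_smul', add_zero] at hεm
  obtain ⟨m', hm'⟩ := hsub _ (hzero _ hεm)
  rw [hdec, hm', ← smul_add']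
  set n := m' + inlMk J x.snd
  exact (TensorProduct.smul_tmul (ε : DualNumber A) (⟨ε, Ideal.subset_span rfl⟩ : P) n).symm.trans
    ((congrArg (fun q : P => q ⊗ₜ[DualNumber A] n) (Subtype.ext eps_mul_eps :
      (ε : DualNumber A) • (⟨ε, Ideal.subset_span rfl⟩ : P) = 0)).trans (TensorProduct.zero_tmul P n))

theorem exists_eq_liftIdeal (A : Type u) [CommRing A] (R : Type u) [CommRing R] [Algebra A R]
    (I : Ideal R) (J : Ideal (DualNumber R)) (hflat : Module.Flat (DualNumber A) (DualNumber R ⧸ J))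
    (hJ : Ideal.map (TrivSqZeroExt.fstHom A R R) J = I) :
    ∃ φ : I →ₗ[R] R ⧸ I, J = liftIdeal I φ := by
  have hs : Function.Surjective (TrivSqZeroExt.fstHom A R R) := fun a => ⟨inl a, fst_inl R a⟩
  have hlift : ∀ a : I, ∃ z ∈ J, z.fst = (a : R) := fun a => by
    have ha : (a : R) ∈ Ideal.map (TrivSqZeroExt.fstHom A R R) J := by rw [hJ]; exact a.2
    exact (Ideal.mem_map_iff_of_surjective _ hs).mp ha
  have hfst : ∀ z ∈ J, z.fst ∈ I := fun z hz => hJ ▸ Ideal.mem_map_of_mem _ hz
  have hinr : ∀ b : R, b ∈ I → (inr b : DualNumber R) ∈ J := fun b hb => by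
    obtain ⟨z, hz, hzb⟩ := hlift ⟨b, hb⟩
    have : (ε : DualNumber R) * z = inr b := by ext <;> simp [hzb]
    exact this ▸ J.mul_mem_left _ hz
  have hmem : ∀ b : R, (inr b : DualNumber R) ∈ J → b ∈ I := fun b hb => by
    have h0 : (ε : DualNumber A) • inlMk J b = 0 := by
      rw [inlMk, eps_smul_mk, fst_inl, Ideal.Quotient.eq_zero_iff_mem]; exact hb
    obtain ⟨k, a, y, hy, ha⟩ := Module.Flat.isTrivialRelation_of_sum_smul_eq_zero
      (f := fun _ : Unit => (ε : DualNumber A)) (x := fun _ : Unit => inlMk J b) (by simp [h0])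
    have ha' : ∀ j, a () j = inl (a () j).snd * (ε : DualNumber A) := fun j => by
      have h := congrArg TrivSqZeroExt.snd (show (ε : DualNumber A) * a () j = 0 by simpa using ha j)
      have h' : (a () j).fst = 0 := by simpa using h
      ext <;> simp [h']
    have hy' : inlMk J b = (ε : DualNumber A) • ∑ j, (inl (a () j).snd : DualNumber A) • y j := by
      refine (hy ()).trans ((Finset.sum_congr rfl fun j _ => ?_).trans
        (Finset.smul_sum (r := (ε : DualNumber A)) (s := Finset.univ) (f := fun j => (inl (a () j).snd : DualNumber A) • y j)).symm)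
      exact (congrArg (fun c : DualNumber A => c • y j) ((ha' j).trans (mul_comm _ _))).trans (smul_smul' A J _ _ _).symm
    obtain ⟨z, hz, rfl⟩ := mem_eps_range A J b _ hy'
    exact hfst z hz
  choose z hz hza using hlift
  have hwd : ∀ x ∈ J, ∀ h : x.fst ∈ I, Ideal.Quotient.mk I x.snd = Ideal.Quotient.mk I (z ⟨x.fst, h⟩).snd := fun x hx h => by
    rw [Ideal.Quotient.eq]
    refine hmem _ ?_
    have : x - z ⟨x.fst, h⟩ = inr (x.snd - (z ⟨x.fst, h⟩).snd) := by ext <;> simp [hza]
    exact this ▸ J.sub_mem hx (hz _)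
  have hφ : ∀ (x : DualNumber R) (a : I), x ∈ J → x.fst = a → Ideal.Quotient.mk I (z a).snd = Ideal.Quotient.mk I x.snd := fun x a hx he => by
    obtain ⟨a, ha⟩ := a
    obtain rfl : x.fst = a := he
    exact (hwd x hx ha).symm
  let φ : I →ₗ[R] R ⧸ I :=
    { toFun := fun a => Ideal.Quotient.mk I (z a).snd
      map_add' := fun a b => by
        show Ideal.Quotient.mk I (z (a + b)).snd = _
        rw [hφ (z a + z b) (a + b) (J.add_mem (hz a) (hz b)) (by simp [hza]), snd_add, map_add]
      map_smul' := fun c a => by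
        show Ideal.Quotient.mk I (z (c • a)).snd = c • Ideal.Quotient.mk I (z a).snd
        rw [hφ (inl c * z a) (c • a) (J.mul_mem_left _ (hz a)) (by simp [hza]), DualNumber.snd_mul, fst_inl, snd_inl,
          zero_mul, add_zero, map_mul, Algebra.smul_def, Ideal.Quotient.algebraMap_eq] }
  refine ⟨φ, Ideal.ext fun x => ⟨fun hx => ⟨hfst x hx, hwd x hx _⟩, fun ⟨h, hx⟩ => ?_⟩⟩
  have : x = z ⟨x.fst, h⟩ + inr (x.snd - (z ⟨x.fst, h⟩).snd) := by ext <;> simp [hza]
  rw [this]
  exact J.add_mem (hz _) (hinr _ (Ideal.Quotient.eq.mp hx))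

/-- Let A be a commutative ring, R a commutative A-algebra free as an A-module, I an ideal of R with R/I
flat over A, and view the dual numbers R[ε] as an algebra over A[ε] (ε ↦ ε). For φ : I → R/I linear
over R, let J_φ be the ideal of elements a + bε of R[ε] with a ∈ I and b ≡ φ(a) modulo I. Then each
R[ε]/J_φ is flat over A[ε] and J_φ reduces to I modulo ε; the assignment φ ↦ J_φ is injective; and
every ideal J of R[ε] with R[ε]/J flat over A[ε] which reduces to I modulo ε equals some J_φ. Thus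
the first-order liftings of I correspond one-to-one to Hom_R(I, R/I) (the tangent space of the
Hilbert scheme at I). -/
theorem result (A : Type u) [CommRing A] (R : Type u) [CommRing R]
    [Algebra A R] [Module.Free A R] (I : Ideal R) [Module.Flat A (R ⧸ I)] :
    (∀ φ : I →ₗ[R] R ⧸ I,
        Module.Flat (DualNumber A) (DualNumber R ⧸ W4c6puncthilbintro.liftIdeal I φ) ∧
          Ideal.map (TrivSqZeroExt.fstHom A R R) (W4c6puncthilbintro.liftIdeal I φ) = I) ∧
      Function.Injective (W4c6puncthilbintro.liftIdeal I) ∧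
      ∀ J : Ideal (DualNumber R), Module.Flat (DualNumber A) (DualNumber R ⧸ J) →
        Ideal.map (TrivSqZeroExt.fstHom A R R) J = I →
          ∃ φ : I →ₗ[R] R ⧸ I, J = W4c6puncthilbintro.liftIdeal I φ := by
  refine ⟨fun φ => ⟨flat_liftIdeal A R I φ, ?_⟩, fun φ ψ h => ?_, fun J hf hJ => exists_eq_liftIdeal A R I J hf hJ⟩
  · refine le_antisymm (Ideal.map_le_iff_le_comap.mpr fun x hx => hx.1) fun a ha => ?_
    obtain ⟨c, hc⟩ := Ideal.Quotient.mk_surjective (φ ⟨a, ha⟩)
    have : (inl a + inr c : DualNumber R) ∈ W4c6puncthilbintro.liftIdeal I φ :=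
      ⟨by simpa using ha, by simpa using hc⟩
    simpa using Ideal.mem_map_of_mem (TrivSqZeroExt.fstHom A R R) this
  · refine LinearMap.ext fun a => ?_
    obtain ⟨a, ha⟩ := a
    obtain ⟨c, hc⟩ := Ideal.Quotient.mk_surjective (φ ⟨a, ha⟩)
    have hm : (inl a + inr c : DualNumber R) ∈ W4c6puncthilbintro.liftIdeal I φ :=
      ⟨by simpa using ha, by simpa using hc⟩
    rw [h] at hm
    obtain ⟨h1, h2⟩ := hm
    rw [← hc]
    simpa using h2

end Groth.Agent.S19452
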