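import Mathlib
import Groth.Statements.S19453
-- import your own Groth.Agent.* helpers here

set_option autoImplicit false
universe u
open CAlg

namespace Groth.Agent.S19453

/-- Converse direction: let k be a field, A a regular local k-algebra of Krull dimension 2 with maximal
ideal M and residue field k, and I an ideal with A/I of finite dimension n ≥ 1 over k. If some
element of I does not lie in M^2, then A/I is isomorphic as a k-algebra to k[x]/(x^n): a cluster
lying on a smooth curve germ of a smooth surface is curvilinear, with coordinate ring generated by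
one element. -/
theorem result (k : Type u) [Field k]
    (A : Type u) [CommRing A] [Algebra k A] [IsRegularLocalRing A] (hdim : ringKrullDim A = 2)
    (hres : Function.Surjective (algebraMap k (IsLocalRing.ResidueField A)))
    (I : Ideal A) [Module.Finite k (A ⧸ I)] (n : ℕ) (hn : Module.finrank k (A ⧸ I) = n) (h1 : 1 ≤ n)
    (g : A) (hgI : g ∈ I) (hg : g ∉ IsLocalRing.maximalIdeal A ^ 2) :
    Nonempty ((A ⧸ I) ≃ₐ[k] (Polynomial k ⧸ Ideal.span {(Polynomial.X : Polynomial k) ^ n})) := by
  classical
  let Q := A ⧸ I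
  have hIne : I ≠ ⊤ := fun h => by
    haveI : Subsingleton (A ⧸ I) := Ideal.Quotient.subsingleton_iff.mpr h
    rw [Module.finrank_zero_of_subsingleton] at hn
    omega
  let M := IsLocalRing.maximalIdeal A
  have hgM : g ∈ M := IsLocalRing.le_maximalIdeal hIne hgI
  let g' : M := ⟨g, hgM⟩
  have hv : M.toCotangent g' ≠ 0 := fun h => hg ((Ideal.toCotangent_eq_zero M g').mp h)
  have hfin : Module.finrank (IsLocalRing.ResidueField A) (IsLocalRing.CotangentSpace A) = 2 := by
    have h := IsRegularLocalRing.spanFinrank_maximalIdeal (R := A)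
    rw [hdim, IsLocalRing.spanFinrank_maximalIdeal_eq_finrank_cotangentSpace] at h
    exact_mod_cast h
  obtain ⟨t, ht⟩ : ∃ t : M, LinearIndependent (IsLocalRing.ResidueField A) ![M.toCotangent g', M.toCotangent t] := by
    obtain ⟨w, hw⟩ := exists_linearIndependent_pair_of_one_lt_finrank (R := IsLocalRing.ResidueField A)
      (M := IsLocalRing.CotangentSpace A) (by omega) hv
    obtain ⟨t, rfl⟩ := M.toCotangent_surjective w
    exact ⟨t, hw⟩
  have hMspan : M = Ideal.span {g, (t : A)} := by
    have hgen : Submodule.span (IsLocalRing.ResidueField A) ({M.toCotangent g', M.toCotangent t} : Set _) = ⊤ := by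
      have h := ht.span_eq_top_of_card_eq_finrank (by rw [Fintype.card_fin]; exact hfin.symm)
      simpa [Matrix.range_cons, Matrix.range_empty, Set.pair_comm] using h
    refine le_antisymm ?_ (Ideal.span_le.mpr (by rintro x (rfl | rfl); exacts [hgM, t.2]))
    refine Submodule.le_of_le_smul_of_le_jacobson_bot (IsNoetherian.noetherian M) (IsLocalRing.maximalIdeal_le_jacobson ⊥) ?_
    intro x hx
    have hx' : M.toCotangent ⟨x, hx⟩ ∈ Submodule.span (IsLocalRing.ResidueField A)
        ({M.toCotangent g', M.toCotangent t} : Set _) := hgen ▸ Submodule.mem_top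
    obtain ⟨a, b, hab⟩ := Submodule.mem_span_pair.mp hx'
    obtain ⟨a, rfl⟩ := IsLocalRing.residue_surjective a
    obtain ⟨b, rfl⟩ := IsLocalRing.residue_surjective b
    have h2 : M.toCotangent (a • g' + b • t) = M.toCotangent ⟨x, hx⟩ := by
      rw [map_add, map_smul, map_smul, ← hab]; rfl
    rw [Ideal.toCotangent_eq] at h2
    refine Submodule.mem_sup.mpr ⟨a * g + b * t,
      add_mem (Ideal.mul_mem_left _ _ (Ideal.subset_span (Set.mem_insert g _)))
        (Ideal.mul_mem_left _ _ (Ideal.subset_span (Set.mem_insert_of_mem g (Set.mem_singleton (t : A))))),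
      x - (a * g + b * t), ?_, add_sub_cancel _ _⟩
    rw [smul_eq_mul, ← pow_two]
    have := neg_mem h2
    simpa [g', M] using this
  let q : A →ₐ[k] Q := Ideal.Quotient.mkₐ k I
  let φ : Polynomial k →ₐ[k] Q := Polynomial.aeval (q t)
  have hdec : ∀ z : Q, ∃ (c : k) (w : Q), z = algebraMap k Q c + q t * w := by
    intro z
    obtain ⟨a, rfl⟩ := Ideal.Quotient.mk_surjective z
    obtain ⟨c, hc⟩ := hres (IsLocalRing.residue A a)
    have ha : a - algebraMap k A c ∈ M := Ideal.Quotient.eq.mp hc.symm
    rw [hMspan, Ideal.mem_span_pair] at ha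
    obtain ⟨u, v, huv⟩ := ha
    refine ⟨c, q v, ?_⟩
    show q a = _
    have : a = algebraMap k A c + (t : A) * v + u * g := by linear_combination -huv
    conv_lhs => rw [this]
    rw [map_add, map_add, map_mul, map_mul, AlgHom.commutes,
      show q g = 0 from Ideal.Quotient.eq_zero_iff_mem.mpr hgI, mul_zero, add_zero]
  have hmem : ∀ (j : ℕ) (z : Q), ∃ (p : Polynomial k) (w : Q), z = φ p + q t ^ j * w := by
    intro j
    induction j with
    | zero => exact fun z => ⟨0, z, by simp⟩
    | succ j ih =>
      intro z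
      obtain ⟨p, w, rfl⟩ := ih z
      obtain ⟨c, w', rfl⟩ := hdec w
      refine ⟨p + Polynomial.C c * Polynomial.X ^ j, w', ?_⟩
      simp [φ]
      ring
  haveI : IsArtinianRing Q := IsArtinianRing.of_finite k Q
  haveI : Nontrivial Q := Ideal.Quotient.nontrivial_iff.mpr hIne
  haveI : IsLocalRing Q := IsLocalRing.of_surjective' _ Ideal.Quotient.mk_surjective
  obtain ⟨N, hN⟩ : IsNilpotent (q t) := by
    refine (IsArtinianRing.isNilpotent_jacobson_bot (R := Q)).imp fun N hN => ?_
    have hmemq : q t ∈ IsLocalRing.maximalIdeal Q := fun hu =>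
      (IsLocalRing.mem_maximalIdeal _).mp t.2 (by
        haveI : IsLocalHom (Ideal.Quotient.mk I) := IsLocalHom.of_surjective _ Ideal.Quotient.mk_surjective
        exact IsLocalHom.map_nonunit (f := Ideal.Quotient.mk I) _ hu)
    have h1 : q t ^ N ∈ (Ideal.jacobson (⊥ : Ideal Q)) ^ N := by
      rw [IsLocalRing.jacobson_eq_maximalIdeal ⊥ bot_ne_top]
      exact Ideal.pow_mem_pow hmemq N
    rw [hN] at h1
    exact h1
  have hsurj : Function.Surjective φ := fun z => by
    obtain ⟨p, w, rfl⟩ := hmem N z
    exact ⟨p, by rw [hN, zero_mul, add_zero]⟩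
  have hker : ∃ e : ℕ, RingHom.ker φ = Ideal.span {(Polynomial.X : Polynomial k) ^ e} := by
    obtain ⟨f, hf⟩ := IsPrincipalIdealRing.principal (RingHom.ker φ)
    have hX : (Polynomial.X : Polynomial k) ^ N ∈ RingHom.ker φ := by
      rw [RingHom.mem_ker, map_pow, Polynomial.aeval_X, hN]
    rw [show RingHom.ker φ = Ideal.span {f} from hf, Ideal.mem_span_singleton] at hX
    obtain ⟨e, -, he⟩ := (dvd_prime_pow Polynomial.prime_X N).mp hX
    exact ⟨e, by rw [show RingHom.ker φ = Ideal.span {f} from hf, Ideal.span_singleton_eq_span_singleton]; exact he⟩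
  obtain ⟨e, he⟩ := hker
  let E : (Polynomial k ⧸ Ideal.span {(Polynomial.X : Polynomial k) ^ e}) ≃ₐ[k] Q :=
    (Ideal.quotientEquivAlgOfEq k he.symm).trans (Ideal.quotientKerAlgEquivOfSurjective hsurj)
  have hen : e = n := by
    rw [← hn, ← E.toLinearEquiv.finrank_eq, finrank_quotient_span_eq_natDegree, Polynomial.natDegree_X_pow]
  subst hen
  exact ⟨E.symm⟩

end Groth.Agent.S19453
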