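import Groth.Statements.S19456
import Groth.Agent.MeroDivMod.SectionDiv
-- import your own Groth.Agent.* helpers here

set_option autoImplicit false
universe u
open CategoryTheory CategoryTheory.Limits AlgebraicGeometry TopologicalSpace Opposite
open Mero

namespace Groth.Agent.S19456

/-- With the preceding paragraph: let X be an integral scheme, L an invertible O_X-module and s a
nonzero global section of L, given as a nonzero morphism O_X → L. Then the zero scheme Z(s) of s is
an effective Cartier divisor: there is a divisor D on X (a global section of the sheaf of units of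
K_X modulo units of O_X) which, around every point of X, on some affine open neighbourhood, is the
class of a regular function generating the ideal of Z(s) there; and there is an isomorphism of
O_X-modules L ≅ O_X(D) which carries s to the element 1 of Γ(X, O_X(D)) ⊆ K(X). (The published
statement is for an irreducible variety over an algebraically closed field; this row states it for
an arbitrary integral scheme.) -/
theorem result (X : Scheme.{u}) [AlgebraicGeometry.IsIntegral X]
    (L : X.Modules) (hL : PicF.IsInvertible L) (s : Coh.structureModule X ⟶ L) (hs : s ≠ 0) :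
    ∃ D : Mero.Divisor X, Mero.IsDivOfIdeal D (PicF2.zeroScheme L s) ∧
      ∃ e : L ≅ Mero.divMod D,
        (Mero.divModι D).app ⊤ (e.hom.app ⊤ (SecTwist.val s ⊤)) = 1 := by
  have hreg := Groth.Agent.MeroDivMod.isRegularMero_merSec hL hs
  obtain ⟨D, hD, φ, hφ⟩ := Groth.Agent.MeroDivMod.exists_divisor_iso hL hreg
  refine ⟨D, fun x => ?_, φ, ?_⟩
  · obtain ⟨V, hxV, e, he, f, hf, hsf⟩ := Groth.Agent.MeroDivMod.exists_coord hL hs x
    refine ⟨V, hxV, f, hf, Groth.Agent.ZeroSchemeLib.zeroScheme_ideal_eq_span hL s V he hsf, fun y => ?_⟩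
    refine hD y.1 (Groth.Agent.PullStalk.Sky.germM L V.1 y.1 y.2 e) _ ?_ ?_
    · rw [eq_top_iff]
      intro t _
      obtain ⟨r, hr⟩ := (Groth.Agent.MeroTotal.RegularSection.bijective_smul_germ he y.1 y.2).2 t
      exact Submodule.mem_span_singleton.mpr ⟨r, hr⟩
    · rw [IsUnit.unit_spec, algebraMap_smul, LocalizedModule.smul'_mk]
      change LocalizedModule.mk (Groth.Agent.PullStalk.Sky.germM L ⊤ y.1 (Opens.mem_top y.1)
        (Groth.Agent.ZeroSchemeLib.sval s ⊤)) 1 = _
      rw [Groth.Agent.MeroDivMod.germ_sval s (U := ⊤) y.1 (Opens.mem_top y.1) y.2, hsf,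
        Groth.Agent.PullStalk.Sky.germM_smul]
  · refine Groth.Agent.MeroDivMod.kext fun y => ?_
    have h := hφ ⊤ (Groth.Agent.ZeroSchemeLib.sval s ⊤) y
    have h2 : LocalizedModule.mk (Groth.Agent.PullStalk.Sky.germM L ⊤ y.1 y.2
        (Groth.Agent.ZeroSchemeLib.sval s ⊤)) 1 = (1 : Mero.KStalk X y.1) •
          (Groth.Agent.MeroDivMod.merSec s).1 ⟨y.1, trivial⟩ := (one_smul _ _).symm
    refine sub_eq_zero.mp (hreg y.1 _ ?_)
    rw [sub_smul, sub_eq_zero]
    exact h.trans h2

end Groth.Agent.S19456
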