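import Groth.Statements.S19457
import Groth.Agent.ZeroSchemeLib.Basic
import Mathlib.AlgebraicGeometry.FunctionField

set_option autoImplicit false
universe u
open CategoryTheory CategoryTheory.Limits AlgebraicGeometry TopologicalSpace Opposite
open PicF2

set_option backward.isDefEq.respectTransparency false
set_option linter.style.haveILetI false

namespace Groth.Agent.S19457

section

open Groth.Agent.QCoh Groth.Agent.Props.GenLocus TopologicalSpace

/-- A map out of the structure module is zero once its value on the whole space is. -/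
theorem eq_zero_of_sval {X : Scheme.{u}} {L : X.Modules} (s : Coh.structureModule X ⟶ L)
    (h : ZeroSchemeLib.sval s ⊤ = 0) : s = 0 := by
  apply L.unitHomEquiv.injective
  refine Subtype.ext (funext fun U => ?_)
  show ZeroSchemeLib.sval s U.unop = 0
  rw [← ZeroSchemeLib.res_sval s (le_top : U.unop ≤ ⊤), h, map_zero]

/-- On an integral scheme a non-zero section is non-zero on every non-empty open. -/
theorem sval_ne_zero {X : Scheme.{u}} [AlgebraicGeometry.IsIntegral X] {L : X.Modules} (hL : PicF.IsInvertible L)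
    {s : Coh.structureModule X ⟶ L} (hs : s ≠ 0) (U : X.Opens) [Nonempty U] : ZeroSchemeLib.sval s U ≠ 0 := by
  intro h0
  refine hs (eq_zero_of_sval s ?_)
  choose W e hxW he using fun x : X => exists_isGen hL x
  refine TopCat.Sheaf.eq_of_locally_eq' (⟨L.presheaf, L.isSheaf⟩ : TopCat.Sheaf Ab.{u} X) W ⊤
    (fun _ => homOfLE le_top) (fun x _ => Opens.mem_iSup.2 ⟨x, hxW x⟩) _ _ fun x => ?_
  show res L le_top (ZeroSchemeLib.sval s ⊤) = res L le_top 0
  rw [map_zero, ZeroSchemeLib.res_sval]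
  obtain ⟨a, ha, -⟩ := (he x).exists_eq le_rfl (ZeroSchemeLib.sval s (W x))
  rw [res_self] at ha
  haveI : Nonempty (W x ⊓ U : X.Opens) :=
    (nonempty_preirreducible_inter (W x).2 U.2 ⟨x, hxW x⟩ (Set.nonempty_coe_sort.1 ‹Nonempty U›)).to_subtype
  have h1 : rres (inf_le_left : W x ⊓ U ≤ W x) a • res L (inf_le_left : W x ⊓ U ≤ W x) (e x) = 0 := by
    rw [← res_smul, ← ha, ZeroSchemeLib.res_sval, ← ZeroSchemeLib.res_sval s (inf_le_right : W x ⊓ U ≤ U), h0,
      map_zero]
  have h2 : rres (inf_le_left : W x ⊓ U ≤ W x) a = 0 :=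
    (he x).injective inf_le_left (h1.trans (zero_smul _ _).symm)
  have h3 : a = 0 := map_injective_of_isIntegral X (homOfLE (inf_le_left : W x ⊓ U ≤ W x)) (h2.trans (map_zero _).symm)
  rw [ha, h3, zero_smul]

end


/-- Let X be an integral scheme, L an invertible O_X-module and s, s' two nonzero global sections of L,
given as nonzero morphisms O_X → L. Then the zero schemes Z(s') and Z(s) are equal (as
quasi-coherent ideal sheaves of O_X, that is, as effective Cartier divisors) if and only if s' = h ·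
s for some unit h of the ring of global functions Γ(X, O_X). (The published statement is for an
irreducible variety over an algebraically closed field; this row states it for an arbitrary integral
scheme.) -/
theorem result (X : Scheme.{u}) [AlgebraicGeometry.IsIntegral X]
    (L : X.Modules) (hL : PicF.IsInvertible L) (s s' : Coh.structureModule X ⟶ L) (hs : s ≠ 0) (hs' : s' ≠ 0) :
    PicF2.zeroScheme L s' = PicF2.zeroScheme L s ↔
      ∃ h : Γ(X, ⊤), IsUnit h ∧ (SecTwist.val s' ⊤ : Γ(L, ⊤)) = h • (SecTwist.val s ⊤ : Γ(L, ⊤)) := by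
  open Groth.Agent.QCoh Groth.Agent.Props.GenLocus TopologicalSpace in
  constructor
  · intro h
    have hpt : ∀ x : X, ∃ (U : X.affineOpens) (e : Γ(L, U.1)) (c : Γ(X, U.1)), x ∈ U.1 ∧ IsGen L U.1 e ∧
        IsUnit c ∧ ZeroSchemeLib.sval s' U.1 = c • ZeroSchemeLib.sval s U.1 := fun x => by
      obtain ⟨W, e, hxW, he⟩ := exists_isGen hL x
      obtain ⟨U, hU, hxU, hle⟩ := exists_isAffineOpen_mem_and_subset (show x ∈ W from hxW)
      replace hle : U ≤ W := hle
      haveI : Nonempty U := ⟨⟨x, hxU⟩⟩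
      obtain ⟨a, ha, -⟩ := (he.restrict hle).exists_eq le_rfl (ZeroSchemeLib.sval s U)
      obtain ⟨a', ha', -⟩ := (he.restrict hle).exists_eq le_rfl (ZeroSchemeLib.sval s' U)
      rw [res_self] at ha ha'
      have hid : Ideal.span {a'} = Ideal.span {a} := by
        rw [← ZeroSchemeLib.zeroScheme_ideal_eq_span hL s' ⟨U, hU⟩ (he.restrict hle) ha',
          ← ZeroSchemeLib.zeroScheme_ideal_eq_span hL s ⟨U, hU⟩ (he.restrict hle) ha, h]
      obtain ⟨c, hc⟩ := Ideal.span_singleton_eq_span_singleton.1 hid.symm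
      refine ⟨⟨U, hU⟩, res L hle e, c, hxU, he.restrict hle, c.isUnit, ?_⟩
      show ZeroSchemeLib.sval s' U = (c : Γ(X, U)) • ZeroSchemeLib.sval s U
      rw [ha', ← hc, ha, smul_smul, mul_comm]
    choose U e c hxU he hcu hc using hpt
    obtain ⟨g₀, hg₀, -⟩ := X.sheaf.existsUnique_gluing' (fun x => (U x).1) ⊤ (fun _ => homOfLE le_top)
      (fun x _ => Opens.mem_iSup.2 ⟨x, hxU x⟩) c (fun x y => by
        by_cases hne : Nonempty ((U x).1 ⊓ (U y).1 : X.Opens)
        · have h1 := congrArg (res L (inf_le_left : (U x).1 ⊓ (U y).1 ≤ (U x).1)) (hc x)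
          have h2 := congrArg (res L (inf_le_right : (U x).1 ⊓ (U y).1 ≤ (U y).1)) (hc y)
          rw [res_smul, ZeroSchemeLib.res_sval, ZeroSchemeLib.res_sval] at h1 h2
          obtain ⟨a, ha, -⟩ := (he x).exists_eq (inf_le_left : (U x).1 ⊓ (U y).1 ≤ (U x).1)
            (ZeroSchemeLib.sval s ((U x).1 ⊓ (U y).1))
          have h3 := h1.symm.trans h2
          rw [ha, smul_smul, smul_smul] at h3
          have ha0 : a ≠ 0 := fun h0 => sval_ne_zero hL hs _ (by rw [ha, h0, zero_smul])
          have h4 : rres (inf_le_left : (U x).1 ⊓ (U y).1 ≤ (U x).1) (c x) * a =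
              rres (inf_le_right : (U x).1 ⊓ (U y).1 ≤ (U y).1) (c y) * a := (he x).injective _ h3
          haveI := hne
          haveI : IsDomain Γ(X, (U x).1 ⊓ (U y).1) := inferInstance
          exact mul_right_cancel₀ (M₀ := Γ(X, (U x).1 ⊓ (U y).1)) ha0 h4
        · refine TopCat.Presheaf.section_ext X.sheaf _ _ _ fun z hz => absurd ⟨⟨z, hz⟩⟩ hne)
    obtain ⟨g, hg⟩ : ∃ g : Γ(X, ⊤), ∀ x, rres (le_top : (U x).1 ≤ ⊤) g = c x := ⟨g₀, hg₀⟩
    refine ⟨g, ?_, ?_⟩
    · refine X.toRingedSpace.isUnit_of_isUnit_germ ⊤ g fun x _ => ?_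
      rw [← TopCat.Presheaf.germ_res_apply X.toRingedSpace.presheaf
        (homOfLE (le_top : (U x).1 ≤ ⊤)) x (hxU x) g]
      exact (hg x).symm ▸ (hcu x).map (X.presheaf.germ (U x).1 x (hxU x)).hom
    · refine TopCat.Sheaf.eq_of_locally_eq' (⟨L.presheaf, L.isSheaf⟩ : TopCat.Sheaf Ab.{u} X) (fun x => (U x).1) ⊤
        (fun _ => homOfLE le_top) (fun x _ => Opens.mem_iSup.2 ⟨x, hxU x⟩) _ _ fun x => ?_
      show res L le_top (ZeroSchemeLib.sval s' ⊤) = res L le_top (g • ZeroSchemeLib.sval s ⊤)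
      rw [res_smul, ZeroSchemeLib.res_sval, ZeroSchemeLib.res_sval, hc x]
      exact congrArg (· • _) (hg x).symm
  · rintro ⟨g, hg, hgs⟩
    refine Scheme.IdealSheafData.ext_of_iSup_eq_top (fun i : {U : X.affineOpens // ∃ e : Γ(L, U.1), IsGen L U.1 e} => i.1)
      (top_unique fun x _ => ?_) fun ⟨U, e, he⟩ => ?_
    · obtain ⟨W, e, hxW, he⟩ := exists_isGen hL x
      obtain ⟨U, hU, hxU, hle⟩ := exists_isAffineOpen_mem_and_subset (show x ∈ W from hxW)
      exact Opens.mem_iSup.2 ⟨⟨⟨U, hU⟩, res L hle e, he.restrict hle⟩, hxU⟩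
    obtain ⟨a, ha, -⟩ := he.exists_eq le_rfl (ZeroSchemeLib.sval s U.1)
    rw [res_self] at ha
    have ha' : ZeroSchemeLib.sval s' U.1 = (rres (le_top : U.1 ≤ ⊤) g * a) • e := by
      have h1 : res L (le_top : U.1 ≤ ⊤) (ZeroSchemeLib.sval s' ⊤) =
          res L (le_top : U.1 ≤ ⊤) (g • ZeroSchemeLib.sval s ⊤) := congrArg _ hgs
      rw [res_smul, ZeroSchemeLib.res_sval, ZeroSchemeLib.res_sval, ha, smul_smul] at h1
      exact h1
    rw [ZeroSchemeLib.zeroScheme_ideal_eq_span hL s' U he ha', ZeroSchemeLib.zeroScheme_ideal_eq_span hL s U he ha]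
    exact Ideal.span_singleton_mul_left_unit (hg.map (rres (le_top : U.1 ≤ ⊤)).hom) a

end Groth.Agent.S19457
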