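import Groth.Statements.S19458
import Groth.Agent.MeroDivMod.Depth
import Groth.Agent.MeroDivMod.SectionDiv
-- import your own Groth.Agent.* helpers here

set_option autoImplicit false
universe u
open CategoryTheory CategoryTheory.Limits AlgebraicGeometry TopologicalSpace Opposite
open Mero

namespace Groth.Agent.S19458

theorem exists_regular_rep {X : Scheme.{u}} (D : Mero.Divisor X) (hD : Mero.IsEffective D) (x : X) :
    ∃ (V : X.affineOpens) (_ : x ∈ V.1) (c : Mero.regSub X V.1), ∀ y : V.1,
      D.1 y.1 = QuotientGroup.mk (IsLocalization.map_units (Mero.KStalk X y.1) (Mero.regGerm y c)).unit := by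
  obtain ⟨U, hxU, f, hf⟩ := Groth.Agent.MeroDivMod.exists_local D x
  obtain ⟨V, hxV, hV, a, b, w⟩ := Groth.Agent.MeroDivMod.exists_regular_fraction f x hxU
  obtain ⟨r, hr⟩ := (Groth.Agent.MeroDivMod.isEffectiveAt_iff D a b ⟨x, hxV⟩ _ (w ⟨x, hxV⟩) (hf ⟨x, hV hxV⟩)).mp (hD x)
  obtain ⟨W, hxW, r, rfl⟩ := X.presheaf.exists_germ_eq (x := x) r
  have hI : x ∈ V.1 ⊓ W := ⟨hxV, hxW⟩
  have h2 : X.presheaf.germ (V.1 ⊓ W) x hI (X.presheaf.map (homOfLE inf_le_left).op a.1) =
      X.presheaf.germ (V.1 ⊓ W) x hI (X.presheaf.map (homOfLE inf_le_left).op b.1 *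
        X.presheaf.map (homOfLE inf_le_right).op r) := by
    rw [map_mul, TopCat.Presheaf.germ_res_apply, TopCat.Presheaf.germ_res_apply,
      TopCat.Presheaf.germ_res_apply]
    exact hr
  obtain ⟨N, hxN, i, j, e⟩ := TopCat.Presheaf.germ_eq _ x hI hI _ _ h2
  obtain ⟨V', hxV', hle⟩ := Groth.Agent.IdealSh.Comap.exists_affine_le x N hxN
  let c := X.presheaf.map (homOfLE ((hle.trans i.le).trans inf_le_right : V'.1 ≤ W)).op r
  have hc : ∀ y : V'.1, X.presheaf.germ V.1 y.1 (i.le (hle y.2)).1 a.1 =
      X.presheaf.germ V.1 y.1 (i.le (hle y.2)).1 b.1 * X.presheaf.germ V'.1 y.1 y.2 c := by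
    intro y
    have e2 := congrArg (X.presheaf.germ N y.1 (hle y.2)) e
    simp only [TopCat.Presheaf.germ_res_apply, map_mul] at e2
    rw [TopCat.Presheaf.germ_res_apply]
    exact e2
  have hcR : c ∈ Mero.regSub X V'.1 := fun y => mem_nonZeroDivisors_iff_right.mpr fun t ht => by
    refine mem_nonZeroDivisors_iff_right.mp (a.2 ⟨y.1, (i.le (hle y.2)).1⟩) t ?_
    rw [hc y, mul_left_comm, ht, mul_zero]
  refine ⟨V', hxV', ⟨c, hcR⟩, fun y => (hf ⟨y.1, hV (i.le (hle y.2)).1⟩).trans (congrArg _ (Units.ext ?_))⟩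
  rw [IsUnit.unit_spec, Groth.Agent.Mero.algebraMap_eq_mk]
  refine (w ⟨y.1, (i.le (hle y.2)).1⟩).trans ?_
  rw [Groth.Agent.Mero.mk_eq_mk_iff, OneMemClass.coe_one, one_mul]
  exact hc y


/-- Let X be an integral scheme, L an invertible O_X-module and D an effective Cartier divisor on X (a
global section of the sheaf of units of K_X modulo units of O_X whose germ at every point is the
class of a germ of a regular function) such that O_X(D) is isomorphic to L. Then there is a nonzero
global section s of L, given as a nonzero morphism O_X → L, whose zero scheme Z(s) is D: around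
every point of X, on some affine open neighbourhood, the ideal of Z(s) is generated by a regular
function whose classes are the germs of D there. (The published statement is for an irreducible
variety over an algebraically closed field; this row states it for an arbitrary integral scheme.) -/
theorem result (X : Scheme.{u}) [AlgebraicGeometry.IsIntegral X]
    (L : X.Modules) (hL : PicF.IsInvertible L) (D : Mero.Divisor X) (hD : Mero.IsEffective D)
    (e : L ≅ Mero.divMod D) :
    ∃ s : Coh.structureModule X ⟶ L, s ≠ 0 ∧ Mero.IsDivOfIdeal D (PicF2.zeroScheme L s) := by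
  have hrep := fun x => exists_regular_rep D hD x
  let one : Γ(Mero.divMod D, ⊤) := ⟨(1 : Γ(Mero.kmod X, ⊤)).1, (1 : Γ(Mero.kmod X, ⊤)).2, fun y g hg => by
    obtain ⟨a, ha⟩ := hD y.1
    obtain ⟨v, hv⟩ := MonoidHom.mem_range.mp (QuotientGroup.eq.mp (ha.symm.trans hg))
    refine ⟨(a : X.presheaf.stalk y.1) * v, ?_⟩
    change _ = (1 : Mero.KStalk X y.1) * (g : Mero.KStalk X y.1)
    rw [one_mul, map_mul]
    have h1 := congrArg (fun u : (Mero.KStalk X y.1)ˣ =>
      (((IsLocalization.map_units (Mero.KStalk X y.1) a).unit * u : (Mero.KStalk X y.1)ˣ) : Mero.KStalk X y.1)) hv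
    simp only [mul_inv_cancel_left] at h1
    rw [← h1]
    rfl⟩
  let s : Coh.structureModule X ⟶ L := L.unitHomEquiv.symm
    (PresheafOfModules.sectionsMk (fun U => L.presheaf.map (homOfLE (le_top : U.unop ≤ ⊤)).op (e.inv.app ⊤ one))
      (fun U V i => by
        change L.presheaf.map i (L.presheaf.map _ _) = _
        rw [← ConcreteCategory.comp_apply, ← Functor.map_comp]
        rfl))
  have hs : ∀ U : X.Opens, Groth.Agent.ZeroSchemeLib.sval s U =
      e.inv.app U (Groth.Agent.QCoh.res (Mero.divMod D) le_top one) := by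
    intro U
    rw [Groth.Agent.QCoh.app_res]
    exact congrArg (fun σ => σ.val (op U)) (L.unitHomEquiv.apply_symm_apply _)
  refine ⟨s, fun h0 => ?_, fun x => ?_⟩
  · have h1 := hs ⊤
    rw [h0] at h1
    have h2 : Groth.Agent.ZeroSchemeLib.sval (0 : Coh.structureModule X ⟶ L) ⊤ = 0 := rfl
    rw [h2, Groth.Agent.QCoh.res_self] at h1
    have h3 : one = 0 := by
      apply (ConcreteCategory.bijective_of_isIso (e.inv.app ⊤)).1
      rw [← h1, map_zero]
    exact one_ne_zero (α := Mero.KStalk X (genericPoint X))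
      (congrFun (congrArg Subtype.val h3) ⟨genericPoint X, trivial⟩)
  · obtain ⟨V, hxV, c, hc⟩ := hrep x
    let F : Γ(Mero.kmod X, V.1)ˣ := (Groth.Agent.MeroDivMod.isUnit_toK_of_mem c.2).unit
    have hF : ∀ y : V.1, D.1 y.1 = Mero.germOf F y := fun y =>
      (hc y).trans (congrArg _ (Units.ext rfl))
    have hgen : Groth.Agent.Props.GenLocus.IsGen L V.1 (e.inv.app V.1 (Groth.Agent.MeroDivMod.gen D F hF)) := by
      intro W hW
      have key : Groth.Agent.Props.GenLocus.sm (e.inv.app V.1 (Groth.Agent.MeroDivMod.gen D F hF)) hW =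
          e.inv.app W ∘ Groth.Agent.Props.GenLocus.sm (Groth.Agent.MeroDivMod.gen D F hF) hW := funext fun r => by
        simp only [Function.comp_apply, Groth.Agent.Props.GenLocus.sm]
        rw [Scheme.Modules.Hom.app_smul, Groth.Agent.QCoh.app_res]
      rw [key]
      exact (ConcreteCategory.bijective_of_isIso (e.inv.app W)).comp (Groth.Agent.MeroDivMod.isGen_gen D F hF W hW)
    refine ⟨V, hxV, c.1, c.2, Groth.Agent.ZeroSchemeLib.zeroScheme_ideal_eq_span hL s V hgen ?_, hc⟩
    rw [hs, ← Scheme.Modules.Hom.app_smul]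
    congr 1
    refine Subtype.ext (funext fun y => ?_)
    refine Eq.trans ?_ (Algebra.smul_def _ _).symm
    change (1 : Mero.KStalk X y.1) = (F : Γ(Mero.kmod X, V.1)).1 y * (↑F⁻¹ : Γ(Mero.kmod X, V.1)).1 y
    rw [← Mero.kmod_mul_apply, F.mul_inv, Mero.kmod_one_apply]

end Groth.Agent.S19458
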