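import Groth.Statements.S19459
import Groth.Agent.Props.GenTensor
import Groth.Agent.MeroDivMod.SectionDiv
-- import your own Groth.Agent.* helpers here

set_option autoImplicit false
universe u
open CategoryTheory CategoryTheory.Limits AlgebraicGeometry TopologicalSpace Opposite
open Mero

namespace Groth.Agent.S19459

theorem eq_class {X : Scheme.{u}} [AlgebraicGeometry.IsIntegral X] {L : X.Modules}
    (hL : PicF.IsInvertible L) (s : Coh.structureModule X ⟶ L) {V U : X.affineOpens} {e : Γ(L, V.1)}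
    (he : Groth.Agent.Props.GenLocus.IsGen L V.1 e) {f : Γ(X, V.1)} (hf : f ∈ Mero.regSub X V.1)
    (hsf : Groth.Agent.ZeroSchemeLib.sval s V.1 = f • e) {g : Γ(X, U.1)} (hg : g ∈ Mero.regSub X U.1)
    (hI : (PicF2.zeroScheme L s).ideal U = Ideal.span {g}) {D : Mero.Divisor X}
    (hD : ∀ y : U.1, D.1 y.1 =
      QuotientGroup.mk (IsLocalization.map_units (Mero.KStalk X y.1) (Mero.regGerm y ⟨g, hg⟩)).unit)
    (W : X.affineOpens) (hV : W.1 ≤ V.1) (hU : W.1 ≤ U.1) (y : W.1) :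
    D.1 y.1 = QuotientGroup.mk (IsLocalization.map_units (Mero.KStalk X y.1)
      (Mero.regGerm y ⟨X.presheaf.map (homOfLE hV).op f, Mero.regSub_res _ hf⟩)).unit := by
  have h1 := (PicF2.zeroScheme L s).map_ideal (U := W) (V := V) hV
  have h2 := (PicF2.zeroScheme L s).map_ideal (U := W) (V := U) hU
  rw [Groth.Agent.ZeroSchemeLib.zeroScheme_ideal_eq_span hL s V he hsf, Ideal.map_span, Set.image_singleton] at h1
  rw [hI, Ideal.map_span, Set.image_singleton] at h2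
  obtain ⟨a, ha⟩ := Ideal.mem_span_singleton'.mp ((h1.trans h2.symm).le (Ideal.mem_span_singleton_self _))
  obtain ⟨b, hb⟩ := Ideal.mem_span_singleton'.mp ((h2.trans h1.symm).le (Ideal.mem_span_singleton_self _))
  have ea : X.presheaf.germ W.1 y.1 y.2 a * X.presheaf.germ U.1 y.1 (hU y.2) g =
      X.presheaf.germ V.1 y.1 (hV y.2) f := by
    have := congrArg (X.presheaf.germ W.1 y.1 y.2) ha
    rw [map_mul] at this
    exact ((congrArg (_ * ·) (X.presheaf.germ_res_apply _ _ _ _)).symm.trans this).trans (X.presheaf.germ_res_apply _ _ _ _)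
  have eb : X.presheaf.germ W.1 y.1 y.2 b * X.presheaf.germ V.1 y.1 (hV y.2) f =
      X.presheaf.germ U.1 y.1 (hU y.2) g := by
    have := congrArg (X.presheaf.germ W.1 y.1 y.2) hb
    rw [map_mul] at this
    exact ((congrArg (_ * ·) (X.presheaf.germ_res_apply _ _ _ _)).symm.trans this).trans (X.presheaf.germ_res_apply _ _ _ _)
  have hu : IsUnit (X.presheaf.germ W.1 y.1 y.2 a) := IsUnit.of_mul_eq_one (X.presheaf.germ W.1 y.1 y.2 b)
    ((mul_cancel_right_mem_nonZeroDivisors (hf ⟨y.1, hV y.2⟩)).mp (by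
      rw [mul_assoc, eb, ea, one_mul]))
  refine (hD ⟨y.1, hU y.2⟩).trans (QuotientGroup.eq.mpr (MonoidHom.mem_range.mpr ⟨hu.unit, Units.ext ?_⟩))
  change algebraMap (X.presheaf.stalk y.1) (Mero.KStalk X y.1) (X.presheaf.germ W.1 y.1 y.2 a) = _
  rw [Units.val_mul, Units.eq_inv_mul_iff_mul_eq, IsUnit.unit_spec, IsUnit.unit_spec, ← map_mul]
  refine congrArg _ ?_
  rw [mul_comm]
  exact ea.trans (X.presheaf.germ_res_apply _ _ _ _).symm


/-- Let X be an integral scheme, L₁ and L₂ invertible O_X-modules with nonzero global sections s₁ and s₂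
(nonzero morphisms O_X → L₁ and O_X → L₂), and let D₁, D₂ be the effective Cartier divisors of the
zero schemes Z(s₁), Z(s₂): divisors on X (global sections of the sheaf of units of K_X modulo units
of O_X) which around every point, on some affine open neighbourhood, are the class of a regular
function generating the ideal of the zero scheme. Then the divisor D₁ · D₂ (multiplicative notation
for the sum D₁ + D₂) is in the same sense the effective Cartier divisor of the zero scheme of the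
global section s₁ ⊗ s₂ of the tensor product L₁ ⊗ L₂; that is, Z(s₁ ⊗ s₂) = Z(s₁) + Z(s₂). (The
published statement is for an irreducible variety over an algebraically closed field; this row
states it for an arbitrary integral scheme.) -/
theorem result (X : Scheme.{u}) [AlgebraicGeometry.IsIntegral X]
    (L₁ L₂ : X.Modules) (hL₁ : PicF.IsInvertible L₁) (hL₂ : PicF.IsInvertible L₂)
    (s₁ : Coh.structureModule X ⟶ L₁) (s₂ : Coh.structureModule X ⟶ L₂) (hs₁ : s₁ ≠ 0) (hs₂ : s₂ ≠ 0)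
    (D₁ D₂ : Mero.Divisor X) (hD₁ : Mero.IsDivOfIdeal D₁ (PicF2.zeroScheme L₁ s₁))
    (hD₂ : Mero.IsDivOfIdeal D₂ (PicF2.zeroScheme L₂ s₂)) :
    Mero.IsDivOfIdeal (D₁ * D₂) (PicF2.zeroScheme (CohB1.tensorMod L₁ L₂) (SecTwist.tmulHom s₁ s₂)) := by
  intro x
  obtain ⟨V₁, hxV₁, e₁, he₁, f₁, hf₁, hsf₁⟩ := Groth.Agent.MeroDivMod.exists_coord hL₁ hs₁ x
  obtain ⟨V₂, hxV₂, e₂, he₂, f₂, hf₂, hsf₂⟩ := Groth.Agent.MeroDivMod.exists_coord hL₂ hs₂ x
  obtain ⟨U₁, hxU₁, g₁, hg₁, hI₁, hD₁'⟩ := hD₁ x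
  obtain ⟨U₂, hxU₂, g₂, hg₂, hI₂, hD₂'⟩ := hD₂ x
  obtain ⟨W, hxW, hle⟩ := Groth.Agent.IdealSh.Comap.exists_affine_le x ((V₁.1 ⊓ V₂.1) ⊓ (U₁.1 ⊓ U₂.1))
    ⟨⟨hxV₁, hxV₂⟩, hxU₁, hxU₂⟩
  have hV₁ : W.1 ≤ V₁.1 := hle.trans (inf_le_left.trans inf_le_left)
  have hV₂ : W.1 ≤ V₂.1 := hle.trans (inf_le_left.trans inf_le_right)
  have hU₁ : W.1 ≤ U₁.1 := hle.trans (inf_le_right.trans inf_le_left)
  have hU₂ : W.1 ≤ U₂.1 := hle.trans (inf_le_right.trans inf_le_right)
  have hd : ∀ y : W.1, (D₁ * D₂).1 y.1 = QuotientGroup.mk (IsLocalization.map_units (Mero.KStalk X y.1)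
      (Mero.regGerm y ⟨X.presheaf.map (homOfLE hV₁).op f₁ * X.presheaf.map (homOfLE hV₂).op f₂,
        mul_mem (Mero.regSub_res _ hf₁) (Mero.regSub_res _ hf₂)⟩)).unit := by
    intro y
    change D₁.1 y.1 * D₂.1 y.1 = _
    rw [eq_class hL₁ s₁ he₁ hf₁ hsf₁ hg₁ hI₁ hD₁' W hV₁ hU₁ y,
      eq_class hL₂ s₂ he₂ hf₂ hsf₂ hg₂ hI₂ hD₂' W hV₂ hU₂ y, ← QuotientGroup.mk_mul]
    refine congrArg _ (Units.ext ?_)
    simp only [Units.val_mul, IsUnit.unit_spec]
    rw [← map_mul]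
    refine congrArg _ ?_
    exact (map_mul (X.presheaf.germ W.1 y.1 y.2).hom _ _).symm
  have he := Groth.Agent.Props.GenTensor.isGen_tmul (he₁.restrict hV₁) (he₂.restrict hV₂)
  have hL : PicF.IsInvertible (CohB1.tensorMod L₁ L₂) := fun z => by
    obtain ⟨A, a, hzA, ha⟩ := Groth.Agent.Props.GenLocus.exists_isGen hL₁ z
    obtain ⟨B, b, hzB, hb⟩ := Groth.Agent.Props.GenLocus.exists_isGen hL₂ z
    exact ⟨A ⊓ B, ⟨hzA, hzB⟩, Groth.Agent.LFFrame.IsFrame.nonempty_restrict_iso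
      ((Groth.Agent.Props.GenLocus.isGen_iff_isFrame _).mp (Groth.Agent.Props.GenTensor.isGen_tmul
        (ha.restrict (inf_le_left : A ⊓ B ≤ A)) (hb.restrict (inf_le_right : A ⊓ B ≤ B))))⟩
  refine ⟨W, hxW, _, _, Groth.Agent.ZeroSchemeLib.zeroScheme_ideal_eq_span hL _ W he ?_, hd⟩
  have h1 : Groth.Agent.ZeroSchemeLib.sval (SecTwist.tmulHom s₁ s₂) W.1 =
      Groth.Agent.Props.GenTensor.tmul (Groth.Agent.ZeroSchemeLib.sval s₁ W.1)
        (Groth.Agent.ZeroSchemeLib.sval s₂ W.1) := SecTwist.val_tmulHom s₁ s₂ W.1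
  rw [h1, ← Groth.Agent.ZeroSchemeLib.res_sval s₁ hV₁, ← Groth.Agent.ZeroSchemeLib.res_sval s₂ hV₂,
    hsf₁, hsf₂, Groth.Agent.QCoh.res_smul, Groth.Agent.QCoh.res_smul,
    Groth.Agent.Props.GenTensor.tmul_smul_left, Groth.Agent.Props.GenTensor.tmul_smul_right, smul_smul]

end Groth.Agent.S19459
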