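import Mathlib
import Groth.Statements.S19461
-- import your own Groth.Agent.* helpers here

set_option autoImplicit false
universe u
open CAlg
open scoped TensorProduct

namespace Groth.Agent.S19461

theorem map_maximalIdeal_of_bijective {R S : Type u} [CommRing R] [CommRing S] [IsLocalRing R] [IsLocalRing S]
    (f : R →+* S) (hf : Function.Bijective f) :
    (IsLocalRing.maximalIdeal R).map f = IsLocalRing.maximalIdeal S :=
  IsLocalRing.eq_maximalIdeal (Ideal.map_isMaximal_of_equiv (RingEquiv.ofBijective f hf) (p := IsLocalRing.maximalIdeal R))

/-- The implication from isomorphic completions to flat and unramified. Let A → B be a local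
homomorphism of Noetherian local rings and ψ a ring map from the completion of A at its maximal
ideal to that of B whose composite with A → A^ is A → B → B^. If ψ is bijective, then A → B is flat
and the maximal ideal of A generates the maximal ideal of B. (The published statement is the
implication, for a morphism of algebraic varieties over an algebraically closed field, from
isomorphic induced maps of completed local rings at every point to flat and unramified; its proof is
this local-ring argument, valid for any Noetherian local rings. The converse implication is a
separate result.) -/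
theorem result (A B : Type u) [CommRing A]
    [CommRing B] [IsLocalRing A] [IsLocalRing B] [IsNoetherianRing A] [IsNoetherianRing B]
    [Algebra A B] [IsLocalHom (algebraMap A B)]
    (ψ : AdicCompletion (IsLocalRing.maximalIdeal A) A →+* AdicCompletion (IsLocalRing.maximalIdeal B) B)
    (hψ : ψ.comp (algebraMap A (AdicCompletion (IsLocalRing.maximalIdeal A) A)) =
      (algebraMap B (AdicCompletion (IsLocalRing.maximalIdeal B) B)).comp (algebraMap A B))
    (hbij : Function.Bijective ψ) :
    Module.Flat A B ∧
      Ideal.map (algebraMap A B) (IsLocalRing.maximalIdeal A) = IsLocalRing.maximalIdeal B := by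
  classical
  set Ah := AdicCompletion (IsLocalRing.maximalIdeal A) A
  set Bh := AdicCompletion (IsLocalRing.maximalIdeal B) B
  haveI : IsScalarTower A B Bh := inferInstance
  let ψe : Ah ≃ₐ[A] Bh :=
    { RingEquiv.ofBijective ψ hbij with commutes' := fun a => RingHom.congr_fun hψ a }
  haveI : Module.Flat A Bh := Module.Flat.of_linearEquiv ψe.symm.toLinearEquiv
  haveI : IsLocalHom (algebraMap B Bh) := by
    refine ((IsLocalRing.local_hom_TFAE (algebraMap B Bh)).out 0 2).mpr ?_
    rw [AdicCompletion.maximalIdeal_eq_map]
  haveI : Module.FaithfullyFlat B Bh := Module.FaithfullyFlat.of_flat_of_isLocalHom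
  refine ⟨?_, ?_⟩
  · rw [Module.Flat.iff_rTensor_injective']
    intro I
    rw [injective_iff_map_eq_zero]
    intro x hx
    let j : B →ₗ[A] Bh := (IsScalarTower.toAlgHom A B Bh).toLinearMap
    have h1 : LinearMap.lTensor I j x = 0 := by
      have hinj : Function.Injective (LinearMap.rTensor Bh I.subtype) :=
        Module.Flat.rTensor_preserves_injective_linearMap _ I.injective_subtype
      refine hinj ?_
      rw [map_zero, ← LinearMap.comp_apply, LinearMap.rTensor_comp_lTensor, ← LinearMap.lTensor_comp_rTensor,
        LinearMap.comp_apply, hx, map_zero]
    let c := TensorProduct.AlgebraTensorModule.cancelBaseChange A B Bh Bh I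
    have h2 : ∀ z : B ⊗[A] I, c (1 ⊗ₜ[B] z) = (LinearMap.rTensor I j z) := by
      intro z
      induction z using TensorProduct.induction_on with
      | zero => simp
      | tmul b i =>
        rw [TensorProduct.AlgebraTensorModule.cancelBaseChange_tmul, LinearMap.rTensor_tmul, Algebra.smul_def, mul_one]
        rfl
      | add a b ha hb => rw [TensorProduct.tmul_add, map_add, ha, hb, map_add]
    have h3 : LinearMap.rTensor I j (TensorProduct.comm A I B x) = 0 := by
      have h5 : ∀ z, LinearMap.rTensor I j (TensorProduct.comm A I B z) =
          TensorProduct.comm A I Bh (LinearMap.lTensor I j z) := fun z => by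
        induction z using TensorProduct.induction_on with
        | zero => simp
        | tmul i b => simp
        | add a b ha hb => simp [ha, hb]
      rw [h5, h1, map_zero]
    have h4 : (1 : Bh) ⊗ₜ[B] (TensorProduct.comm A I B x) = 0 := by
      apply c.injective
      rw [h2, h3, map_zero]
    exact (TensorProduct.comm A I B).map_eq_zero_iff.mp ((Module.FaithfullyFlat.one_tmul_eq_zero_iff B (B ⊗[A] I) (A := Bh) _).mp h4)
  · let mA := IsLocalRing.maximalIdeal A
    show mA.map (algebraMap A B) = IsLocalRing.maximalIdeal B
    have h1 : (mA.map (algebraMap A B)).map (algebraMap B Bh) =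
        (IsLocalRing.maximalIdeal B).map (algebraMap B Bh) := by
      rw [Ideal.map_map, ← hψ, ← Ideal.map_map, ← AdicCompletion.maximalIdeal_eq_map,
        ← AdicCompletion.maximalIdeal_eq_map]
      exact map_maximalIdeal_of_bijective ψ hbij
    rw [← Ideal.comap_map_eq_self_of_faithfullyFlat (B := Bh) (mA.map (algebraMap A B)), h1,
      Ideal.comap_map_eq_self_of_faithfullyFlat]

end Groth.Agent.S19461
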