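import Groth.Statements.S19462
import Mathlib.RingTheory.Nakayama
import Mathlib.RingTheory.Finiteness.Projective
import Mathlib.LinearAlgebra.Finsupp.LinearCombination

set_option autoImplicit false
universe u
open GrNak

namespace Groth.Agent.S19462

theorem comp_smul {R : Type*} [CommRing R] {σ : Type*} [SetLike σ R] [AddSubmonoidClass σ R] (𝒜 : ℤ → σ)
    [GradedRing 𝒜] {M : Type*} [AddCommGroup M] [Module R M] {τ : Type*} [SetLike τ M] [AddSubmonoidClass τ M]
    (ℳ : ℤ → τ) [DirectSum.Decomposition ℳ] [SetLike.GradedSMul 𝒜 ℳ] (r : R) {e : ℤ} {g : M} (hg : g ∈ ℳ e) (d : ℤ) :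
    (DirectSum.decompose ℳ (r • g) d : M) = (DirectSum.decompose 𝒜 r (d - e) : R) • g := by
  classical
  conv_lhs => rw [← DirectSum.sum_support_decompose 𝒜 r, Finset.sum_smul, DirectSum.decompose_sum,
    DFinsupp.finset_sum_apply, AddSubmonoidClass.coe_finsetSum]
  rw [Finset.sum_eq_single (d - e)]
  · have h := SetLike.GradedSMul.smul_mem (DirectSum.decompose 𝒜 r (d - e)).2 hg
    rw [vadd_eq_add, sub_add_cancel] at h
    exact DirectSum.decompose_of_mem_same ℳ h
  · intro a _ ha
    have h := SetLike.GradedSMul.smul_mem (DirectSum.decompose 𝒜 r a).2 hg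
    rw [vadd_eq_add] at h
    exact DirectSum.decompose_of_mem_ne ℳ h (by lia)
  · intro hni
    rw [DFinsupp.notMem_support_iff.1 hni]
    simp

theorem exists_basis {k R : Type u} [Field k] [CommRing R] [Algebra k R] {σ : Type u} [SetLike σ R]
    [AddSubmonoidClass σ R] (𝒜 : ℤ → σ) [GradedRing 𝒜]
    (hneg : ∀ i : ℤ, i < 0 → ∀ x ∈ 𝒜 i, x = 0) (h0 : ∀ x ∈ 𝒜 0, ∃ c : k, algebraMap k R c = x)
    {M : Type u} [AddCommGroup M] [Module R M] [Module.Finite R M] [Module.Projective R M]
    {τ : Type u} [SetLike τ M] [AddSubmonoidClass τ M] (ℳ : ℤ → τ) [DirectSum.Decomposition ℳ]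
    [SetLike.GradedSMul 𝒜 ℳ] :
    ∃ (ι : Type u) (b : Module.Basis ι R M), ∀ i : ι, SetLike.IsHomogeneousElem ℳ (b i) := by
  classical
  -- homogeneous generating finsets
  let P : ℕ → Prop := fun n => ∃ S : Finset M, S.card = n ∧ (∀ g ∈ S, SetLike.IsHomogeneousElem ℳ g) ∧
    Submodule.span R (S : Set M) = ⊤
  have hP : ∃ n, P n := by
    obtain ⟨S, hS⟩ := Module.Finite.fg_top (R := R) (M := M)
    let S' := S.biUnion fun g => (DirectSum.decompose ℳ g).support.image fun d => (DirectSum.decompose ℳ g d : M)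
    refine ⟨_, S', rfl, fun g hg => ?_, eq_top_iff.2 (hS ▸ Submodule.span_le.2 fun g hg => ?_)⟩
    · simp only [S', Finset.mem_biUnion, Finset.mem_image] at hg
      obtain ⟨g', -, d, -, rfl⟩ := hg
      exact ⟨d, (DirectSum.decompose ℳ g' d).2⟩
    · rw [← DirectSum.sum_support_decompose ℳ g]
      exact Submodule.sum_mem _ fun d hd => Submodule.subset_span (Finset.mem_coe.2
        (Finset.mem_biUnion.2 ⟨g, hg, Finset.mem_image.2 ⟨d, hd, rfl⟩⟩))
  obtain ⟨S, hcard, hhom, hspan⟩ := Nat.find_spec hP
  have hmin : ∀ g ∈ S, g ∉ Submodule.span R ((S.erase g : Finset M) : Set M) := by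
    intro g hg hmem
    refine Nat.find_min hP (m := (S.erase g).card) (hcard ▸ Finset.card_erase_lt_of_mem hg) ⟨_, rfl, fun x hx =>
      hhom x (Finset.mem_of_mem_erase hx), ?_⟩
    rw [eq_top_iff, ← hspan, Submodule.span_le]
    intro x hx
    rcases eq_or_ne x g with rfl | hne
    · exact hmem
    · exact Submodule.subset_span (Finset.mem_coe.2 (Finset.mem_erase.2 ⟨hne, hx⟩))
  let π : (S → R) →ₗ[R] M := Fintype.linearCombination R (fun g : S => (g : M))
  have hπ : Function.Surjective π := by
    rw [← LinearMap.range_eq_top, Fintype.range_linearCombination]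
    simpa using hspan
  obtain ⟨s, hs⟩ := Module.projective_lifting_property π LinearMap.id hπ
  -- coefficients of relations have no constant term
  have hrel : ∀ f : S → R, π f = 0 → ∀ g, (DirectSum.decompose 𝒜 (f g) 0 : R) = 0 := by
    intro f hf g
    obtain ⟨c, hc⟩ := h0 _ (DirectSum.decompose 𝒜 (f g) 0).2
    by_contra hne
    have hc0 : c ≠ 0 := fun h => hne (by rw [← hc, h, map_zero])
    obtain ⟨e, he⟩ := hhom g g.2
    have h1 := congrArg (fun x => (DirectSum.decompose ℳ x e : M)) hf
    simp only [π, Fintype.linearCombination_apply, DirectSum.decompose_sum, DFinsupp.finset_sum_apply,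
      AddSubmonoidClass.coe_finsetSum, DirectSum.decompose_zero, DirectSum.zero_apply, ZeroMemClass.coe_zero] at h1
    rw [← Finset.add_sum_erase _ _ (Finset.mem_univ g), DirectSum.add_apply, AddMemClass.coe_add, DFinsupp.finset_sum_apply, AddSubmonoidClass.coe_finsetSum,
      comp_smul 𝒜 ℳ (f g) he e, sub_self, ← hc,
      add_eq_zero_iff_eq_neg] at h1
    apply hmin g g.2
    suffices h2 : algebraMap k R c • (g : M) ∈ Submodule.span R ((S.erase (g : M) : Finset M) : Set M) by
      have h3 := Submodule.smul_mem _ (algebraMap k R c⁻¹) h2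
      rwa [smul_smul, ← map_mul, inv_mul_cancel₀ hc0, map_one, one_smul] at h3
    rw [h1]
    refine Submodule.neg_mem _ (Submodule.sum_mem _ fun x hx => ?_)
    obtain ⟨e', he'⟩ := hhom x x.2
    rw [comp_smul 𝒜 ℳ (f x) he' e]
    refine Submodule.smul_mem _ _ (Submodule.subset_span (Finset.mem_coe.2 (Finset.mem_erase.2 ⟨?_, x.2⟩)))
    exact fun h => Finset.ne_of_mem_erase hx (Subtype.ext h)
  let m : Ideal R :=
    { carrier := {r | (DirectSum.decompose 𝒜 r 0 : R) = 0}
      zero_mem' := by simp
      add_mem' := fun {a b} (ha : _ = 0) (hb : _ = 0) => by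
        change (DirectSum.decompose 𝒜 (a + b) 0 : R) = 0
        rw [← GradedRing.proj_apply] at ha hb ⊢
        rw [map_add, ha, hb, add_zero]
      smul_mem' := fun c r (hr : _ = 0) => by
        change (DirectSum.decompose 𝒜 (c * r) 0 : R) = 0
        conv_lhs => rw [← DirectSum.sum_support_decompose 𝒜 c, Finset.sum_mul, DirectSum.decompose_sum,
          DFinsupp.finset_sum_apply, AddSubmonoidClass.coe_finsetSum]
        refine Finset.sum_eq_zero fun a _ => ?_
        have h := DirectSum.coe_decompose_mul_add_of_left_mem 𝒜 (b := r) (j := -a) (DirectSum.decompose 𝒜 c a).2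
        rw [add_neg_cancel] at h
        rw [h]
        rcases lt_trichotomy a 0 with ha | rfl | ha
        · rw [hneg a ha _ (DirectSum.decompose 𝒜 c a).2, zero_mul]
        · rw [neg_zero, hr, mul_zero]
        · rw [hneg (-a) (by lia) _ (DirectSum.decompose 𝒜 r (-a)).2, mul_zero] }
  let Q : (S → R) →ₗ[R] (S → R) := LinearMap.id - s.comp π
  have hπQ : ∀ f, π (Q f) = 0 := fun f => by
    simp [Q, show π (s (π f)) = π f from LinearMap.congr_fun hs (π f)]
  have hQQ : ∀ f, Q (Q f) = Q f := fun f => by
    change Q f - s (π (Q f)) = Q f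
    rw [hπQ, map_zero, sub_zero]
  have hle : LinearMap.range Q ≤ m • LinearMap.range Q := by
    rintro _ ⟨f, rfl⟩
    rw [← hQQ f, pi_eq_sum_univ (Q f), map_sum]
    refine Submodule.sum_mem _ fun g _ => ?_
    rw [map_smul]
    exact Submodule.smul_mem_smul (hrel _ (hπQ f) g) ⟨_, rfl⟩
  obtain ⟨r, hr, hr0⟩ := Submodule.exists_sub_one_mem_and_smul_eq_zero_of_fg_of_le_smul m (LinearMap.range Q)
    (by rw [LinearMap.range_eq_map]; exact Submodule.FG.map _ Module.Finite.fg_top) hle
  have hinj : ∀ κ : R, r * κ = 0 → κ = 0 := by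
    intro κ hκ
    by_contra hne
    have hex : ∃ j : ℕ, (DirectSum.decompose 𝒜 κ (j : ℤ) : R) ≠ 0 := by
      by_contra! hall
      refine hne ?_
      rw [← DirectSum.sum_support_decompose 𝒜 κ]
      refine Finset.sum_eq_zero fun a _ => ?_
      rcases lt_or_ge a 0 with ha | ha
      · exact hneg a ha _ (DirectSum.decompose 𝒜 κ a).2
      · lift a to ℕ using ha
        exact hall a
    set j := Nat.find hex with hj
    have hlow : ∀ b : ℤ, b < j → (DirectSum.decompose 𝒜 κ b : R) = 0 := by
      intro b hb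
      rcases lt_or_ge b 0 with h | h
      · exact hneg b h _ (DirectSum.decompose 𝒜 κ b).2
      · lift b to ℕ using h
        exact not_not.1 (Nat.find_min hex (by exact_mod_cast hb))
    have h2 : (DirectSum.decompose 𝒜 ((r - 1) * κ) (j : ℤ) : R) = 0 := by
      conv_lhs => rw [← DirectSum.sum_support_decompose 𝒜 (r - 1), Finset.sum_mul, DirectSum.decompose_sum,
        DFinsupp.finset_sum_apply, AddSubmonoidClass.coe_finsetSum]
      refine Finset.sum_eq_zero fun a _ => ?_
      have h := DirectSum.coe_decompose_mul_add_of_left_mem 𝒜 (b := κ) (j := (j : ℤ) - a)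
        (DirectSum.decompose 𝒜 (r - 1) a).2
      rw [add_sub_cancel] at h
      rw [h]
      rcases lt_trichotomy a 0 with ha | rfl | ha
      · rw [hneg a ha _ (DirectSum.decompose 𝒜 (r - 1) a).2, zero_mul]
      · rw [show (DirectSum.decompose 𝒜 (r - 1) 0 : R) = 0 from hr, zero_mul]
      · rw [hlow _ (by lia), mul_zero]
    rw [sub_mul, hκ, one_mul, zero_sub, ← GradedRing.proj_apply, map_neg, neg_eq_zero, GradedRing.proj_apply] at h2
    exact Nat.find_spec hex h2
  have hQ : ∀ f, Q f = 0 := fun f => funext fun g =>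
    hinj _ (congrFun (hr0 (Q f) ⟨f, rfl⟩) g)
  have hbij : Function.Bijective π := by
    refine ⟨(injective_iff_map_eq_zero π).2 fun f hf => ?_, hπ⟩
    have := hQ f
    change f - s (π f) = 0 at this
    rwa [hf, map_zero, sub_zero] at this
  refine ⟨S, (Pi.basisFun R S).map (LinearEquiv.ofBijective π hbij), fun g => ?_⟩
  have : (Pi.basisFun R S).map (LinearEquiv.ofBijective π hbij) g = (g : M) := by
    simp [π, Fintype.linearCombination_apply, Pi.single_apply]
  rw [this]
  exact hhom g g.2

/-- Let k be a field and R a commutative ℤ-graded k-algebra whose pieces of negative degree vanish and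
whose degree-zero piece is the image of k, and let M be a finitely generated ℤ-graded R-module,
graded compatibly with R. Then M is a projective R-module if and only if M has an R-basis consisting
of homogeneous elements, i.e. M is a free graded module. (The published statement takes R a graded
quotient of a polynomial ring k[x_0, …, x_n] with its standard grading; stated here for any
commutative graded k-algebra concentrated in non-negative degrees with degree-zero part k, to which
the same graded-Nakayama argument applies.) -/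
theorem result {k : Type u} [Field k] {R : Type u} [CommRing R] [Algebra k R]
    {σ : Type u} [SetLike σ R] [AddSubmonoidClass σ R] (𝒜 : ℤ → σ) [GradedRing 𝒜]
    (hneg : ∀ i : ℤ, i < 0 → ∀ x ∈ 𝒜 i, x = 0)
    (hk : ∀ c : k, algebraMap k R c ∈ 𝒜 0) (h0 : ∀ x ∈ 𝒜 0, ∃ c : k, algebraMap k R c = x)
    {M : Type u} [AddCommGroup M] [Module R M] [Module.Finite R M]
    {τ : Type u} [SetLike τ M] [AddSubmonoidClass τ M] (ℳ : ℤ → τ) [DirectSum.Decomposition ℳ]
    [SetLike.GradedSMul 𝒜 ℳ] :
    Module.Projective R M ↔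
      ∃ (ι : Type u) (b : Module.Basis ι R M), ∀ i : ι, SetLike.IsHomogeneousElem ℳ (b i) := by
  constructor
  · intro h
    exact exists_basis 𝒜 hneg h0 ℳ
  · rintro ⟨ι, b, -⟩
    exact Module.Projective.of_basis b

end Groth.Agent.S19462
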