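import Groth.Statements.S19463
import Groth.Agent.DimOneAmple.RedCompletion
import Groth.Agent.CurveDVR.Stalk
import Groth.Agent.FFCurve.Smooth
import Groth.Agent.ProjProper.Basic

set_option autoImplicit false
universe u
open CategoryTheory CategoryTheory.Limits AlgebraicGeometry
open Curves

set_option linter.style.haveILetI false
namespace Groth.Agent.S19463

/-- Let k be an algebraically closed field and X a smooth curve over k (integral, separated, of finite
type and smooth over k, of dimension one). Then there are a smooth projective curve Y over k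
(integral, smooth over k, of dimension one, admitting a closed immersion over k into some P^n_k) and
an open immersion X → Y over k. -/
theorem result (k : Type u) [Field k] [IsAlgClosed k]
    (X : Scheme.{u}) [X.Over (Spec (CommRingCat.of k))] [IsIntegral X] [IsSeparated (X ↘ (Spec (CommRingCat.of k)))]
    [LocallyOfFiniteType (X ↘ (Spec (CommRingCat.of k)))] [QuasiCompact (X ↘ (Spec (CommRingCat.of k)))] [Smooth (X ↘ (Spec (CommRingCat.of k)))]
    (hdimX : topologicalKrullDim X = 1) :
    ∃ (Y : Scheme.{u}) (_ : Y.Over (Spec (CommRingCat.of k))) (j : X ⟶ Y), IsOpenImmersion j ∧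
      j ≫ (Y ↘ (Spec (CommRingCat.of k))) = X ↘ (Spec (CommRingCat.of k)) ∧ IsIntegral Y ∧ Smooth (Y ↘ (Spec (CommRingCat.of k))) ∧ topologicalKrullDim Y = 1 ∧
      ∃ (n : ℕ) (i : Y ⟶ CohB1.ProjSpace n k), IsClosedImmersion i ∧ i ≫ CohB1.ProjSpace.toSpec n k = Y ↘ (Spec (CommRingCat.of k)) := by
  obtain ⟨d, Y, c, j, hc, hj, hw, hdense, -, hY, -, hb⟩ :=
    DimOneAmple.exists_completion_reduced (k := k) X hdimX.le
  haveI := hc
  haveI := hj
  haveI := ProjProper.Basic.isProper_toSpec d k
  letI : Y.Over (Spec (CommRingCat.of k)) := ⟨c ≫ CohB1.ProjSpace.toSpec d k⟩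
  haveI : IsProper (Y ↘ Spec (CommRingCat.of k)) := inferInstanceAs (IsProper (c ≫ CohB1.ProjSpace.toSpec d k))
  haveI : ∀ y : Y, _root_.IsReduced (Y.presheaf.stalk y) := fun y => by
    by_cases h : y ∈ Set.range j.base
    · obtain ⟨x, rfl⟩ := h
      exact isReduced_of_injective _ (asIso (j.stalkMap x)).commRingCatIsoToRingEquiv.injective
    · obtain ⟨-, h1, -⟩ := hb y h
      infer_instance
  haveI : IsReduced Y := isReduced_of_isReduced_stalk Y
  haveI : IrreducibleSpace Y := by
    have h := ((IrreducibleSpace.isIrreducible_univ X).image j.base j.continuous.continuousOn).closure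
    rw [Set.image_univ, hdense.closure_eq] at h
    exact { toPreirreducibleSpace := ⟨h.2⟩, toNonempty := ⟨h.1.some⟩ }
  haveI : IsIntegral Y := isIntegral_of_irreducibleSpace_of_isReduced Y
  have hreg : ∀ y : Y, IsRegularLocalRing (Y.presheaf.stalk y) := fun y => by
    by_cases h : y ∈ Set.range j.base
    · obtain ⟨x, rfl⟩ := h
      haveI := CurveDVR.isRegularLocalRing_stalk (X ↘ Spec (CommRingCat.of k)) x
      exact IsRegularLocalRing.of_ringEquiv (asIso (j.stalkMap x)).commRingCatIsoToRingEquiv.symm
    · obtain ⟨-, h1, h2⟩ := hb y h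
      infer_instance
  refine ⟨Y, inferInstance, j, hj, hw, inferInstance,
    FFCurve.smooth_of_regular (Y ↘ Spec (CommRingCat.of k)) hreg, le_antisymm hY ?_, d, c, hc, rfl⟩
  rw [← hdimX]
  exact j.isOpenEmbedding.isInducing.topologicalKrullDim_le

end Groth.Agent.S19463
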