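import Groth.Statements.S19472
import Groth.Agent.MultMax90.Hopf
import Groth.Agent.DiagRig.MultLift
import Groth.Agent.UnipLib.FppfDesc
import Groth.Agent.S7782
import Groth.Agent.S19598
import Groth.Agent.GrpdLib.MonoClosedField
import Groth.Agent.MaxTorus.SubMult
import Groth.Agent.AssSch.Reduced

set_option backward.isDefEq.respectTransparency false
set_option synthInstance.maxHeartbeats 400000
set_option linter.style.haveILetI false

set_option autoImplicit false
universe u
open CategoryTheory MonoidalCategory CartesianMonoidalCategory MonObj GrpObj AlgebraicGeometry CategoryTheory.Limits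
open AlgGrp

namespace Groth.Agent.S19472

open Groth.Agent Groth.Agent.CocommUnip19 Groth.Agent.MultMax90
open scoped TensorProduct

section Aux

variable {k : Type u} [Field k]

local notation "Sk" => Spec (CommRingCat.of k)

variable {A B : Type u} [CommRing A] [HopfAlgebra k A] [CommRing B] [HopfAlgebra k B]

variable (k) in
/-- `Spec` of a Hopf algebra. -/
noncomputable abbrev spc (A : Type u) [CommRing A] [HopfAlgebra k A] : Over Sk :=
  (Spec (CommRingCat.of A)).asOver Sk

/-- `Spec` of a bialgebra map. -/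
noncomputable def specHom (π : A →ₐc[k] B) : spc k B ⟶ spc k A :=
  ((hopfSpec (CommRingCat.of k)).map (CommHopfAlgCat.ofHom π).op).hom.hom

instance (π : A →ₐc[k] B) : IsMonHom (specHom π) :=
  ((hopfSpec (CommRingCat.of k)).map (CommHopfAlgCat.ofHom π).op).hom.isMonHom_hom

theorem specHom_left (π : A →ₐc[k] B) :
    (specHom π).left = Spec.map (CommRingCat.ofHom (π : A →+* B)) := rfl

theorem exists_bialg (φ : spc k B ⟶ spc k A) [IsMonHom φ] : ∃ π : A →ₐc[k] B, specHom π = φ := by
  let ψ : (hopfSpec (CommRingCat.of k)).obj (Opposite.op (CommHopfAlgCat.of k B)) ⟶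
      (hopfSpec (CommRingCat.of k)).obj (Opposite.op (CommHopfAlgCat.of k A)) :=
    Grp.homMk' (@Mon.Hom.mk _ _ _ _ _ φ ⟨IsMonHom.one_hom φ, IsMonHom.mul_hom φ⟩)
  obtain ⟨v, hv⟩ : ∃ v, (hopfSpec (CommRingCat.of k)).map v = ψ :=
    ⟨_, hopfSpec.fullyFaithful.map_preimage ψ⟩
  exact ⟨v.unop.hom, show ((hopfSpec (CommRingCat.of k)).map v).hom.hom = φ by rw [hv]; rfl⟩

theorem specHom_comp {C : Type u} [CommRing C] [HopfAlgebra k C] (π : A →ₐc[k] B) (ρ : B →ₐc[k] C) :
    specHom ρ ≫ specHom π = specHom (ρ.comp π) :=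
  Over.OverMorphism.ext (by rw [Over.comp_left, specHom_left, specHom_left, specHom_left, ← Spec.map_comp]; rfl)

/-- Quotient lift. -/
noncomputable def qlift (I : Ideal A) [I.IsHopfIdeal k] (ψ : A →ₐc[k] B)
    (h : I ≤ RingHom.ker (ψ : A →ₐ[k] B)) : A ⧸ I →ₐc[k] B :=
  .ofAlgHom (Ideal.Quotient.liftₐ I (ψ : A →ₐ[k] B) fun a ha => h ha)
    (Ideal.Quotient.algHom_ext k (AlgHom.ext fun a => CoalgHomClass.counit_comp_apply ψ a))
    (Ideal.Quotient.algHom_ext k (AlgHom.ext fun a => by
      show Algebra.TensorProduct.map _ _ (Algebra.TensorProduct.map (Ideal.Quotient.mkₐ k _)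
          (Ideal.Quotient.mkₐ k _) (Coalgebra.comul (R := k) a)) = Coalgebra.comul (R := k) (ψ a)
      rw [← CoalgHomClass.map_comp_comul_apply ψ a]
      induction Coalgebra.comul (R := k) a using TensorProduct.induction_on with
      | zero => simp
      | tmul p q => rfl
      | add p q hp hq => simp only [map_add, hp, hq]))

theorem qlift_comp (I : Ideal A) [I.IsHopfIdeal k] (ψ : A →ₐc[k] B) (h : I ≤ RingHom.ker (ψ : A →ₐ[k] B)) :
    (qlift I ψ h).comp (Bialgebra.Quotient.mkBialgHom I) = ψ := BialgHom.ext fun _ => rfl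

theorem finiteType_of_iso {G : Over Sk} [LocallyOfFiniteType G.hom] (e : spc k A ≅ G) :
    Algebra.FiniteType k A := by
  haveI : IsIso e.hom.left := (inferInstance : IsIso ((Over.forget _).map e.hom))
  have h : LocallyOfFiniteType (e.hom.left ≫ G.hom) := inferInstance
  rw [Over.w e.hom] at h
  exact RingHom.finiteType_algebraMap.mp (HasRingHomProperty.Spec_iff.mp h)

theorem cocomm_of_iso {G : Over Sk} [GrpObj G] [IsCommMonObj G] (e : spc k A ≅ G) [IsMonHom e.hom] :
    Coalgebra.IsCocomm k A :=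
  S7782.isCocomm (CommRingCat.of k) (CommRingCat.of A) fun T f g => (cancel_mono e.hom).1 (by
    rw [MonObj.mul_comp, MonObj.mul_comp, _root_.mul_comm])

theorem isMultTypeFT_multSub [Algebra.FiniteType k A] [Coalgebra.IsCocomm k A] :
    SGA3x.IsMultTypeFT (spc k (A ⧸ multIdeal k A)) := by
  obtain ⟨T, _, _, hff, M, _, ⟨e⟩⟩ := isMultTypeConst_multIdeal (k := k) (A := A)
  haveI : Algebra.FiniteType k (A ⧸ multIdeal k A) :=
    Algebra.FiniteType.of_surjective (Ideal.Quotient.mkₐ k _) Ideal.Quotient.mk_surjective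
  have hN := DiagRig.exists_fg_model (R := k) (A := A ⧸ multIdeal k A) (fun K _ _ => inferInstance) e
  exact DiagRig.isMultTypeFT_spec_of_family (ι₀ := PUnit.{u+1}) (fun _ => T)
    (fun p => ⟨⟨⟩, PrimeSpectrum.comap_surjective_of_faithfullyFlat p⟩) fun _ => hN

/-- The largest subgroup of multiplicative type is `Spec` of the quotient by `multIdeal`. -/
theorem exists_iso_multSub {G : Over Sk} [GrpObj G] [IsAffine G.left] [LocallyOfFiniteType G.hom]
    (eG : spc k A ≅ G) [IsMonHom eG.hom] [Algebra.FiniteType k A] [Coalgebra.IsCocomm k A]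
    (M : Over Sk) [GrpObj M] (j : M ⟶ G) [IsMonHom j] [IsClosedImmersion j.left]
    (hM : SGA3x.IsMultTypeFT M)
    (hMmax : ∀ (M' : Over Sk) [GrpObj M'] (j' : M' ⟶ G) [IsMonHom j']
      [IsClosedImmersion j'.left], SGA3x.IsMultTypeFT M' → ∃ g : M' ⟶ M, g ≫ j = j') :
    ∃ e : spc k (A ⧸ multIdeal k A) ≅ M,
      e.hom ≫ j = specHom (Bialgebra.Quotient.mkBialgHom (multIdeal k A)) ≫ eG.hom := by
  let π := Bialgebra.Quotient.mkBialgHom (R := k) (multIdeal k A)
  let jS := specHom π ≫ eG.hom
  haveI : IsClosedImmersion (specHom π).left :=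
    IsClosedImmersion.spec_of_surjective _ Ideal.Quotient.mk_surjective
  haveI : IsClosedImmersion jS.left := by
    rw [Over.comp_left]
    haveI : IsIso eG.hom.left := (inferInstance : IsIso ((Over.forget _).map eG.hom))
    infer_instance
  haveI : Mono j := Over.mono_of_mono_left j
  haveI : Mono jS := Over.mono_of_mono_left jS
  obtain ⟨g, hg⟩ := hMmax _ jS isMultTypeFT_multSub
  haveI : IsAffine M.left := isAffine_of_isAffineHom j.left
  haveI : LocallyOfFiniteType M.hom := by rw [← Over.w j]; infer_instance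
  obtain ⟨C, _, _, eC, heC, hqi, hft, -⟩ := DiagRig.exists_qi_model (R := k) M
    (DiagRig.splitLoc_of_locally (DiagRig.locally_of_multTypeFT hM))
  haveI := heC
  haveI := hft
  have hmt := MultType.AdicLevel.isMultType_of_qi hqi
  haveI : Coalgebra.IsCocomm k C := MultType.Isotrivial.isCocomm_of_isMultType hmt
  have hC : SGA3b.IsMultTypeConst k C := by
    obtain ⟨K, _, _, N, _, ⟨ε⟩⟩ := MultType.Diag.exists_field_split hmt
    exact ⟨K, inferInstance, inferInstance, inferInstance, N, inferInstance, ⟨ε⟩⟩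
  haveI : IsMonHom eG.inv := inferInstance
  obtain ⟨ψ, hψ⟩ := exists_bialg (eC.hom ≫ j ≫ eG.inv)
  let h : M ⟶ spc k (A ⧸ multIdeal k A) := eC.inv ≫ specHom (qlift _ ψ (multIdeal_le_ker hC ψ))
  have hh : h ≫ jS = j := by
    simp only [h, jS, π, Category.assoc]
    rw [← Category.assoc (specHom _) (specHom _), specHom_comp, qlift_comp, hψ]
    simp
  exact ⟨⟨g, h, (cancel_mono jS).1 (by rw [Category.assoc, hh, hg, Category.id_comp]),
    (cancel_mono j).1 (by rw [Category.assoc, hg, hh, Category.id_comp])⟩, hg⟩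

end Aux

/-- Let k be a field and 1 → G₁ → G → G₂ → 1 an exact sequence of commutative affine k-group schemes of
finite type: i : G₁ → G is a closed subgroup scheme and the kernel of a flat surjective homomorphism
q : G → G₂. Let j₁ : M₁ → G₁, j : M → G and j₂ : M₂ → G₂ be the largest closed subgroup schemes of
multiplicative type (each of multiplicative type, every closed subgroup scheme of multiplicative
type factoring through it). Then the induced sequence 1 → M₁ → M → M₂ → 1 is exact: there are u : M₁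
→ M over i and v : M → M₂ over q with u a closed immersion, v flat and surjective, and u the kernel
of v. (The companion statement for the largest unipotent subgroup schemes over a perfect field is
not included; the existence of the largest multiplicative-type subgroups is carried as hypotheses.) -/
theorem result (k : Type u) [Field k]
    (G₁ : Over (Spec (CommRingCat.of k))) [GrpObj G₁] [IsCommMonObj G₁] [IsAffine G₁.left] [LocallyOfFiniteType G₁.hom]
    (G : Over (Spec (CommRingCat.of k))) [GrpObj G] [IsCommMonObj G] [IsAffine G.left] [LocallyOfFiniteType G.hom]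
    (G₂ : Over (Spec (CommRingCat.of k))) [GrpObj G₂] [IsCommMonObj G₂] [IsAffine G₂.left] [LocallyOfFiniteType G₂.hom]
    (i : G₁ ⟶ G) [IsMonHom i] [IsClosedImmersion i.left]
    (q : G ⟶ G₂) [IsMonHom q] [Surjective q.left] [Flat q.left] (hq : AlgGrp.IsKernel i q)
    (M₁ : Over (Spec (CommRingCat.of k))) [GrpObj M₁] (j₁ : M₁ ⟶ G₁) [IsMonHom j₁] [IsClosedImmersion j₁.left]
    (hM₁ : SGA3x.IsMultTypeFT M₁)
    (hM₁max : ∀ (M' : Over (Spec (CommRingCat.of k))) [GrpObj M'] (j' : M' ⟶ G₁) [IsMonHom j']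
      [IsClosedImmersion j'.left], SGA3x.IsMultTypeFT M' → ∃ g : M' ⟶ M₁, g ≫ j₁ = j')
    (M : Over (Spec (CommRingCat.of k))) [GrpObj M] (j : M ⟶ G) [IsMonHom j] [IsClosedImmersion j.left]
    (hM : SGA3x.IsMultTypeFT M)
    (hMmax : ∀ (M' : Over (Spec (CommRingCat.of k))) [GrpObj M'] (j' : M' ⟶ G) [IsMonHom j']
      [IsClosedImmersion j'.left], SGA3x.IsMultTypeFT M' → ∃ g : M' ⟶ M, g ≫ j = j')
    (M₂ : Over (Spec (CommRingCat.of k))) [GrpObj M₂] (j₂ : M₂ ⟶ G₂) [IsMonHom j₂] [IsClosedImmersion j₂.left]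
    (hM₂ : SGA3x.IsMultTypeFT M₂)
    (hM₂max : ∀ (M' : Over (Spec (CommRingCat.of k))) [GrpObj M'] (j' : M' ⟶ G₂) [IsMonHom j']
      [IsClosedImmersion j'.left], SGA3x.IsMultTypeFT M' → ∃ g : M' ⟶ M₂, g ≫ j₂ = j') :
    ∃ (u : M₁ ⟶ M) (v : M ⟶ M₂), u ≫ j = j₁ ≫ i ∧ v ≫ j₂ = j ≫ q ∧
      IsClosedImmersion u.left ∧ Surjective v.left ∧ Flat v.left ∧ AlgGrp.IsKernel u v := by
  classical
  haveI : Mono i := Over.mono_of_mono_left i
  haveI : Mono j := Over.mono_of_mono_left j
  haveI : Mono j₁ := Over.mono_of_mono_left j₁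
  haveI : Mono j₂ := Over.mono_of_mono_left j₂
  obtain ⟨A, _, eG, heG⟩ := AffGrp.Bridge.exists_iso (R := CommRingCat.of k) G
  obtain ⟨A₂, _, eG₂, heG₂⟩ := AffGrp.Bridge.exists_iso (R := CommRingCat.of k) G₂
  haveI := heG
  haveI := heG₂
  haveI := finiteType_of_iso (k := k) (A := A) eG
  haveI := finiteType_of_iso (k := k) (A := A₂) eG₂
  haveI := cocomm_of_iso (k := k) (A := A) eG
  haveI := cocomm_of_iso (k := k) (A := A₂) eG₂
  obtain ⟨eM, heM⟩ := exists_iso_multSub (k := k) (A := A) eG M j hM hMmax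
  obtain ⟨eM₂, heM₂⟩ := exists_iso_multSub (k := k) (A := A₂) eG₂ M₂ j₂ hM₂ hM₂max
  haveI : IsMonHom eG₂.inv := inferInstance
  obtain ⟨π, hπ⟩ := exists_bialg (k := k) (A := A₂) (B := A) (eG.hom ≫ q ≫ eG₂.inv)
  have hπinj : Function.Injective π := by
    haveI : IsIso eG.hom.left := (inferInstance : IsIso ((Over.forget _).map eG.hom))
    haveI : IsIso eG₂.inv.left := (inferInstance : IsIso ((Over.forget _).map eG₂.inv))
    have hl : Flat (Spec.map (CommRingCat.ofHom (π : A₂ →+* A))) ∧
        Surjective (Spec.map (CommRingCat.ofHom (π : A₂ →+* A))) := by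
      rw [← specHom_left, hπ]
      simp only [Over.comp_left]
      exact ⟨inferInstance, inferInstance⟩
    have hff : (π : A₂ →+* A).FaithfullyFlat :=
      RingHom.FaithfullyFlat.iff_flat_and_comap_surjective.mpr ⟨Flat.SpecMap_iff.mp hl.1, hl.2.surj⟩
    exact hff.injective
  let v : M ⟶ M₂ := eM.inv ≫ specHom (qmap π) ≫ eM₂.hom
  have hv : v ≫ j₂ = j ≫ q := by
    simp only [v, Category.assoc]
    rw [heM₂, ← Category.assoc (specHom (qmap π)), specHom_comp,
      show (qmap π).comp (Bialgebra.Quotient.mkBialgHom (multIdeal k A₂)) =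
        (Bialgebra.Quotient.mkBialgHom (multIdeal k A)).comp π from BialgHom.ext fun _ => rfl,
      ← specHom_comp, hπ]
    rw [← cancel_epi eM.hom, Iso.hom_inv_id_assoc, ← Category.assoc eM.hom, heM]
    simp
  have hvdef : v = eM.inv ≫ specHom (qmap π) ≫ eM₂.hom := rfl
  clear_value v
  haveI hvM : IsMonHom v := by
    haveI : IsMonHom (v ≫ j₂) := hv.symm ▸ inferInstance
    exact
      { one_hom := (cancel_mono j₂).1 (by rw [Category.assoc, IsMonHom.one_hom (v ≫ j₂), IsMonHom.one_hom j₂])
        mul_hom := (cancel_mono j₂).1 (by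
          rw [Category.assoc, IsMonHom.mul_hom (v ≫ j₂), Category.assoc, IsMonHom.mul_hom j₂,
            ← tensorHom_comp_tensorHom_assoc]) }
  haveI : IsClosedImmersion (j₁ ≫ i).left := by rw [Over.comp_left]; infer_instance
  obtain ⟨u, hu⟩ := hMmax M₁ (j₁ ≫ i) hM₁
  have hiq : i ≫ q = 1 := by rw [hq.w, Hom.one_def]
  haveI : IsClosedImmersion u.left := by
    haveI : IsClosedImmersion (u.left ≫ j.left) := by rw [← Over.comp_left, hu]; infer_instance
    exact IsClosedImmersion.of_comp u.left j.left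
  haveI : Mono u := Over.mono_of_mono_left u
  have huv : u ≫ v = 1 := (cancel_mono j₂).1 (by
    rw [Category.assoc, hv, ← Category.assoc, hu, Category.assoc, hiq, MonObj.comp_one, MonObj.one_comp])
  refine ⟨u, v, hu, hv, inferInstance, ?_, ?_, ?_⟩
  rotate_left 2
  · haveI : IsAffine M.left := isAffine_of_isAffineHom j.left
    haveI : IsAffine M₂.left := isAffine_of_isAffineHom j₂.left
    haveI : LocallyOfFiniteType M.hom := by rw [← Over.w j]; infer_instance
    haveI : IsSeparated M₂.hom := inferInstance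
    obtain ⟨N, _, nu, hnu, hmono, hcl, hι1, hlift⟩ := UnipLib.exists_kernel_grp v
    haveI := hnu
    haveI := hmono
    haveI := hcl
    haveI : IsAffine N.left := isAffine_of_isAffineHom nu.left
    haveI : LocallyOfFiniteType N.hom := by rw [← Over.w nu]; infer_instance
    haveI : LocallyOfFinitePresentation N.hom := by
      rw [HasRingHomProperty.iff_of_isAffine (P := @LocallyOfFinitePresentation) (X := N.left)]
      haveI : IsNoetherianRing Γ(Spec (CommRingCat.of k), ⊤) :=
        isNoetherianRing_of_ringEquiv k (Scheme.ΓSpecIso (CommRingCat.of k)).symm.commRingCatIsoToRingEquiv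
      exact RingHom.FinitePresentation.of_finiteType.1
        ((HasRingHomProperty.iff_of_isAffine (P := @LocallyOfFiniteType)).1 inferInstance)
    have hN : SGA3x.IsMultTypeFT N :=
      S19598.result N M hM nu hcl (AssSch.Reduced.flat_of_field N.hom) inferInstance
    have hw : (nu ≫ j) ≫ q = 1 := by
      rw [Category.assoc, ← hv, ← Category.assoc, hι1, MonObj.one_comp]
    let w : N ⟶ G₁ := hq.lift (nu ≫ j) (toUnit N) (by rw [hw, Hom.one_def])
    have hwi : w ≫ i = nu ≫ j := hq.lift_fst _ _ _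
    haveI : IsMonHom w :=
      { one_hom := (cancel_mono i).1 (by rw [Category.assoc, hwi, IsMonHom.one_hom (nu ≫ j), IsMonHom.one_hom i])
        mul_hom := (cancel_mono i).1 (by
          rw [Category.assoc, hwi, IsMonHom.mul_hom (nu ≫ j), Category.assoc, IsMonHom.mul_hom i,
            ← hwi, ← tensorHom_comp_tensorHom_assoc]) }
    haveI : IsClosedImmersion w.left := by
      haveI : IsClosedImmersion (w.left ≫ i.left) := by
        rw [← Over.comp_left, hwi, Over.comp_left]; infer_instance
      exact IsClosedImmersion.of_comp w.left i.left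
    obtain ⟨g, hg⟩ := hM₁max N w hN
    have hgu : g ≫ u = nu := (cancel_mono j).1 (by
      rw [Category.assoc, hu, ← Category.assoc, hg, hwi])
    have hlift' : ∀ (c : PullbackCone v η[M₂]), ∃ y, y ≫ u = c.fst := fun c => by
      obtain ⟨z, hz⟩ := hlift c.fst (by rw [c.condition, toUnit_unique c.snd (toUnit _), Hom.one_def])
      exact ⟨z ≫ g, by rw [Category.assoc, hgu, hz]⟩
    exact IsPullback.of_isLimit' ⟨huv.trans Hom.one_def⟩ (PullbackCone.IsLimit.mk _
      (fun c => (hlift' c).choose) (fun c => (hlift' c).choose_spec) (fun c => toUnit_unique _ _)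
      (fun c m h₁ _ => (cancel_mono u).1 (h₁.trans (hlift' c).choose_spec.symm)))
  all_goals
    haveI : IsIso eM.inv.left := (inferInstance : IsIso ((Over.forget _).map eM.inv))
    haveI : IsIso eM₂.hom.left := (inferInstance : IsIso ((Over.forget _).map eM₂.hom))
    have hff : (qmap π : (A₂ ⧸ multIdeal k A₂) →+* (A ⧸ multIdeal k A)).FaithfullyFlat := by
      algebraize [(qmap π : (A₂ ⧸ multIdeal k A₂) →+* (A ⧸ multIdeal k A))]
      haveI : IsScalarTower k (A₂ ⧸ multIdeal k A₂) (A ⧸ multIdeal k A) :=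
        IsScalarTower.of_algebraMap_eq fun r => ((qmap π).toAlgHom.commutes r).symm
      exact RingHom.faithfullyFlat_algebraMap_iff.mpr
        (HopfSub.faithfullyFlat (qmap π) (fun _ => rfl) (qmap_injective π hπinj))
    haveI : Flat (specHom (qmap π)).left := by
      rw [specHom_left]; exact Flat.SpecMap_iff.mpr hff.flat
    haveI : Surjective (specHom (qmap π)).left := by
      rw [specHom_left]
      exact ⟨(RingHom.FaithfullyFlat.iff_flat_and_comap_surjective.mp hff).2⟩
    rw [hvdef]
    simp only [Over.comp_left]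
    infer_instance

end Groth.Agent.S19472
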