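import Groth.Statements.S19467
import Groth.Agent.S19472
import Groth.Agent.CocommUnip19.Split
import Groth.Agent.MultType.TorsionHopf
import Groth.Agent.OortTate.Eigen
import Groth.Agent.ConstrLib.Basic
import Groth.Agent.S14645

set_option backward.isDefEq.respectTransparency false
set_option synthInstance.maxHeartbeats 400000
set_option linter.style.haveILetI false
set_option autoImplicit false
universe u
open CategoryTheory MonoidalCategory CartesianMonoidalCategory MonObj GrpObj AlgebraicGeometry CategoryTheory.Limits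
open AlgGrp

namespace Groth.Agent.S19467

open Groth.Agent Groth.Agent.Comod Groth.Agent.CocommUnip19 Groth.Agent.MultMax90
open scoped TensorProduct
open WithConv Coalgebra

section Aux

variable {k : Type u} [Field k] {A : Type u} [CommRing A] [HopfAlgebra k A]

/-- the augmentation deviation of the identity in the convolution ring -/
theorem dev_pow_apply_eq_zero : ∀ (n : ℕ) (x : A), x ∈ fil k A A n →
    ((toConv (LinearMap.id : A →ₗ[k] A) - 1) ^ n) x = 0
  | 0, x, hx => by rw [show x = 0 from (Submodule.mem_bot k).1 hx, map_zero]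
  | n + 1, x, hx => by
    obtain ⟨t, ht⟩ := mem_fil_succ.1 hx
    have hc : comul (R := k) x = (fil k A A n).subtype.rTensor A t + x ⊗ₜ[k] (1 : A) := by
      rw [ht]; exact (sub_add_cancel _ _).symm
    rw [pow_succ, LinearMap.convMul_apply, hc, map_add, map_add]
    have h1 : (toConv (LinearMap.id : A →ₗ[k] A) - 1) (1 : A) = 0 := by simp
    have h2 : ∀ s : fil k A A n ⊗[k] A, LinearMap.mul' k A (TensorProduct.map
        ((toConv (LinearMap.id : A →ₗ[k] A) - 1) ^ n).ofConv (toConv (LinearMap.id : A →ₗ[k] A) - 1).ofConv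
        ((fil k A A n).subtype.rTensor A s)) = 0 := by
      intro s
      induction s using TensorProduct.induction_on with
      | zero => simp
      | tmul a b =>
        simp only [LinearMap.rTensor_tmul, TensorProduct.map_tmul, LinearMap.mul'_apply]
        exact mul_eq_zero_of_left (dev_pow_apply_eq_zero n a.1 a.2) _
      | add a b ha hb => simp only [map_add, ha, hb, add_zero]
    rw [h2, zero_add, TensorProduct.map_tmul, LinearMap.mul'_apply]
    exact mul_eq_zero_of_right _ h1

variable [Coalgebra.IsCocomm k A]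

/-- in characteristic `p` a power map kills the unit component -/
theorem powConv_eq_zero (p : ℕ) [hp : Fact p.Prime] [CharP k p] (m N : ℕ) (hN : m ≤ p ^ N) {x : A}
    (hx : x ∈ fil k A A m) (h0 : counit (R := k) x = 0) : SGA3b.powConv k A (p ^ N) x = 0 := by
  let D : WithConv (A →ₗ[k] A) := toConv (LinearMap.id : A →ₗ[k] A) - 1
  have hd : (D ^ (p ^ N)) x = 0 := dev_pow_apply_eq_zero _ x (fil_mono hN hx)
  obtain ⟨r, hr⟩ := (Commute.one_right D).exists_add_pow_prime_pow_eq hp.out N
  have e0 : (D + 1) ^ (p ^ N) = toConv (SGA3b.powConv k A (p ^ N)).toLinearMap := by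
    rw [sub_add_cancel]
    exact (AlgHom.toLinearMap_convPow (toConv (AlgHom.id k A)) (p ^ N)).symm
  have e1 := congrArg (fun f : WithConv (A →ₗ[k] A) => f x) (e0.symm.trans hr)
  have h3 : ((p : WithConv (A →ₗ[k] A)) * D * 1 * r) x = 0 := by
    rw [_root_.mul_assoc, _root_.mul_assoc, ← nsmul_eq_mul]
    show p • ((D * (1 * r)) x) = 0
    rw [← Nat.cast_smul_eq_nsmul k, CharP.cast_eq_zero, zero_smul]
  refine e1.trans ?_
  simp only [one_pow, LinearMap.add_apply]
  show (D ^ (p ^ N)) x + (1 : WithConv (A →ₗ[k] A)) x + ((p : WithConv (A →ₗ[k] A)) * D * 1 * r) x = 0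
  rw [hd, h3, LinearMap.convOne_apply, h0, map_zero, zero_add, zero_add]

/-- `[n]` factors through the largest subgroup of multiplicative type, for some `n > 0` -/
theorem exists_quasi_retraction [Algebra.FiniteType k A] :
    ∃ (n : ℕ) (ψ : A ⧸ multIdeal k A →ₐc[k] A), 0 < n ∧
      (Ideal.Quotient.mkₐ k (multIdeal k A)).comp (ψ : A ⧸ multIdeal k A →ₐ[k] A) =
        SGA3b.powConv k (A ⧸ multIdeal k A) n := by
  classical
  obtain ⟨p, hp⟩ := CharP.exists k
  rcases CharP.char_is_prime_or_zero k p with hpp | hp0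
  · haveI : Fact p.Prime := ⟨hpp⟩
    letI := HopfSub.hopfAlgebra (isHopfSubalgebra_unitComp (k := k) (A := A))
    haveI : IsNoetherianRing A := Algebra.FiniteType.isNoetherianRing k A
    let S : Set A := {x | x ∈ unitComp k A ∧ counit (R := k) x = 0}
    have hspan : multIdeal k A ≤ Ideal.span S :=
      multIdeal_le_of fun x hx h0 => Ideal.subset_span ⟨hx, h0⟩
    obtain ⟨F, hFS, hF⟩ := (Submodule.fg_span_iff_fg_span_finset_subset S).1 (IsNoetherian.noetherian (Ideal.span S))
    have hF1 : ∀ x ∈ F, ∃ m, x ∈ fil k A A m := fun x hx => (hFS hx).1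
    choose! m hm using hF1
    let N := F.sup m
    have hN : ∀ x ∈ F, m x ≤ p ^ N := fun x hx => (Finset.le_sup hx).trans (Nat.lt_pow_self hpp.one_lt).le
    let φ : A →ₐc[k] A := MultType.TorsionHopf.powBialg (R := k) (C := A) (p ^ N)
    have hφ : multIdeal k A ≤ RingHom.ker (φ : A →ₐ[k] A) := by
      refine hspan.trans ?_
      show Submodule.span A S ≤ _
      rw [hF]
      refine Submodule.span_le.2 fun x hx => ?_
      rw [SetLike.mem_coe, RingHom.mem_ker]
      show φ x = 0
      rw [← MultType.TorsionHopf.powConv_eq]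
      exact powConv_eq_zero p _ N (hN x hx) (hm x hx) (hFS hx).2
    refine ⟨p ^ N, S19472.qlift _ φ hφ, pow_pos hpp.pos _, Ideal.Quotient.algHom_ext k ?_⟩
    let π := Bialgebra.Quotient.mkBialgHom (R := k) (multIdeal k A)
    have h1 : toConv ((Ideal.Quotient.mkₐ k (multIdeal k A)).comp (SGA3b.powConv k A (p ^ N))) =
        toConv (Ideal.Quotient.mkₐ k (multIdeal k A)) ^ (p ^ N) := OortTate.Eigen.comp_powConv _ _
    have h2 : ∀ n : ℕ, toConv ((SGA3b.powConv k (A ⧸ multIdeal k A) n).comp (π : A →ₐ[k] _)) =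
        toConv (Ideal.Quotient.mkₐ k (multIdeal k A)) ^ n := by
      intro n
      induction n with
      | zero =>
        rw [pow_zero]
        refine WithConv.ext (AlgHom.ext fun a => ?_)
        show (SGA3b.powConv k (A ⧸ multIdeal k A) 0) (π a) = (1 : WithConv (A →ₐ[k] _)) a
        rw [AlgHom.convOne_apply]
        show ((toConv (AlgHom.id k (A ⧸ multIdeal k A))) ^ 0) (π a) = _
        rw [pow_zero, AlgHom.convOne_apply, CoalgHomClass.counit_comp_apply]
      | succ n ih =>
        rw [pow_succ, ← ih]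
        refine WithConv.ofConv_injective ?_
        show ((toConv (AlgHom.id k (A ⧸ multIdeal k A))) ^ (n+1)).ofConv.comp (π : A →ₐ[k] _) = _
        rw [pow_succ, AlgHom.convMul_comp_bialgHom_distrib]
        rfl
    apply WithConv.toConv_injective
    refine Eq.trans ?_ (h2 (p ^ N)).symm
    rw [← h1]
    congr 1
    exact AlgHom.ext fun a => congrArg (Ideal.Quotient.mk _) (MultType.TorsionHopf.powConv_eq _ a).symm
  · subst hp0
    haveI : CharZero k := CharP.charP_to_charZero k
    let hB := isHopfSubalgebra_unitComp (k := k) (A := A)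
    letI := HopfSub.hopfAlgebra hB
    let hC := TrigGalois.isHopf_desc (k := k) (A := A) (AlgebraicClosure k)
    letI := HopfSub.hopfAlgebra hC
    let iB : unitComp k A →ₐc[k] A := HopfSub.incl hB
    let iC : coradical k A →ₐc[k] A := HopfSub.incl hC
    let π := Bialgebra.Quotient.mkBialgHom (R := k) (multIdeal k A)
    have hπB : ∀ b, π (iB b) = algebraMap k _ (counit (R := k) b) := fun b => KerHopf.mk_comp iB b
    let e := AlgEquiv.ofBijective (mulMap (k := k) (A := A)) ⟨injective_mulMap, surjective_mulMap⟩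
    have he : ∀ c b, e (c ⊗ₜ[k] b) = iC c * iB b := fun c b => rfl
    let rC : A →ₐ[k] coradical k A := (Algebra.TensorProduct.productMap (AlgHom.id k _)
      ((Algebra.ofId k (coradical k A)).comp (Bialgebra.counitAlgHom k (unitComp k A)))).comp e.symm.toAlgHom
    have hrCB : ∀ b, rC (iB b) = algebraMap k _ (counit (R := k) b) := fun b => by
      have h : e.symm (iB b) = 1 ⊗ₜ[k] b := e.injective (by rw [AlgEquiv.apply_symm_apply, he, map_one, _root_.one_mul])
      simp [rC, h]
    have hrCC : ∀ c, rC (iC c) = c := fun c => by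
      have h : e.symm (iC c) = c ⊗ₜ[k] 1 := e.injective (by rw [AlgEquiv.apply_symm_apply, he, map_one, _root_.mul_one])
      simp [rC, h]
    have hle : ∀ a ∈ multIdeal k A, rC a = 0 := by
      suffices multIdeal k A ≤ RingHom.ker rC from fun a ha => this ha
      refine Ideal.map_le_iff_le_comap.2 fun c hc => ?_
      rw [RingHom.mem_ker, Bialgebra.counitAlgHom_apply] at hc
      rw [Ideal.mem_comap, RingHom.mem_ker]
      exact (hrCB c).trans (by rw [hc, map_zero])
    have hbij : Function.Bijective (π.comp iC) := by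
      refine ⟨fun x y h => ?_, fun y => ?_⟩
      · have h' := congrArg (Ideal.Quotient.liftₐ (multIdeal k A) rC hle) h
        exact ((hrCC x).symm.trans h').trans (hrCC y)
      · obtain ⟨a, rfl⟩ := Ideal.Quotient.mk_surjective y
        obtain ⟨w, rfl⟩ := e.surjective a
        show ∃ z, π (iC z) = π _
        induction w using TensorProduct.induction_on with
        | zero => exact ⟨0, by simp⟩
        | add p q hp hq =>
          obtain ⟨p', hp'⟩ := hp
          obtain ⟨q', hq'⟩ := hq
          exact ⟨p' + q', by rw [map_add, map_add, map_add, map_add, hp', hq']⟩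
        | tmul c b =>
          refine ⟨counit (R := k) b • c, ?_⟩
          rw [he, map_mul, map_smul, map_smul, hπB, _root_.mul_comm, Algebra.smul_def]
    let E := BialgEquiv.ofBijective (π.comp iC) hbij
    refine ⟨1, iC.comp (E.symm : _ →ₐc[k] _), one_pos, ?_⟩
    rw [OortTate.Eigen.powConv_one]
    exact AlgHom.ext fun y => E.apply_symm_apply y

variable [Algebra.FiniteType k A]

theorem isCocomm_quot (I : Ideal A) [I.IsHopfIdeal k] : Coalgebra.IsCocomm k (A ⧸ I) :=
  ⟨LinearMap.ext fun q => by
    obtain ⟨a, rfl⟩ := Ideal.Quotient.mk_surjective q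
    let π := Bialgebra.Quotient.mkBialgHom (R := k) I
    show TensorProduct.comm k _ _ (Coalgebra.comul (R := k) (π a)) = Coalgebra.comul (R := k) (π a)
    rw [← CoalgHomClass.map_comp_comul_apply π a, ← TensorProduct.map_comm, Coalgebra.comm_comul]⟩

/-- the ring-theoretic content -/
theorem exists_complement :
    ∃ (I : Ideal A) (_ : I.IsHopfIdeal k) (N : ℕ),
      Module.Finite k ((A ⧸ multIdeal k A) ⧸ SGA3b.torsionIdeal k (A ⧸ multIdeal k A) N) ∧
      (∀ (R : Type u) [CommRing R] (φ : A ⧸ multIdeal k A →+* R) (φ' : A ⧸ I →+* R),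
        φ.comp (Ideal.Quotient.mk _) = φ'.comp (Ideal.Quotient.mk _) →
          SGA3b.torsionIdeal k (A ⧸ multIdeal k A) N ≤ RingHom.ker φ) ∧
      ∀ a : WithConv (A →ₐ[k] AlgebraicClosure k),
        ∃ (m : WithConv (A ⧸ multIdeal k A →ₐ[k] AlgebraicClosure k))
          (y : WithConv (A ⧸ I →ₐ[k] AlgebraicClosure k)),
          toConv (m.ofConv.comp (Ideal.Quotient.mkₐ k _)) * toConv (y.ofConv.comp (Ideal.Quotient.mkₐ k _)) = a := by
  classical
  let L := AlgebraicClosure k
  haveI : Algebra.FiniteType k (A ⧸ multIdeal k A) :=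
    Algebra.FiniteType.of_surjective (Ideal.Quotient.mkₐ k _) Ideal.Quotient.mk_surjective
  haveI := isCocomm_quot (k := k) (multIdeal k A)
  obtain ⟨M, _, ⟨e⟩⟩ := MultType.Diag.isDiag_of_span
    (isDiagonalizable_of_isMultTypeConst (isMultTypeConst_multIdeal (k := k) (A := A)))
  obtain ⟨m₀, hm₀, hroot⟩ := MultType.TorsionFinite.exists_point_root (A := k) (K := L) e
  obtain ⟨n, ψ₀, hn, hψ₀⟩ := exists_quasi_retraction (k := k) (A := A)
  let ψ : A ⧸ multIdeal k A →ₐc[k] A :=
    ψ₀.comp (MultType.TorsionHopf.powBialg (R := k) (C := A ⧸ multIdeal k A) m₀)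
  let π : A →ₐ[k] A ⧸ multIdeal k A := Ideal.Quotient.mkₐ k _
  have hψ : π.comp (ψ : A ⧸ multIdeal k A →ₐ[k] A) = SGA3b.powConv k (A ⧸ multIdeal k A) (n * m₀) := by
    rw [← OortTate.Eigen.powConv_comp, ← hψ₀]
    exact AlgHom.ext fun x => congrArg (fun t => π (ψ₀ t)) (MultType.TorsionHopf.powConv_eq _ x).symm
  have hψa : ∀ (a : WithConv (A →ₐ[k] L)), toConv (a.ofConv.comp (ψ : A ⧸ multIdeal k A →ₐ[k] A)) =
      toConv (a.ofConv.comp (ψ₀ : A ⧸ multIdeal k A →ₐ[k] A)) ^ m₀ := fun a => by
    rw [← OortTate.Eigen.comp_powConv]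
    exact congrArg toConv (AlgHom.ext fun x =>
      congrArg (fun t => a.ofConv (ψ₀ t)) (MultType.TorsionHopf.powConv_eq _ x).symm)
  let I := KerHopf.kerIdeal ψ
  haveI hI : I.IsHopfIdeal k := KerHopf.isHopfIdeal ψ
  refine ⟨I, hI, n * m₀, ?_, fun R _ φ φ' h => ?_, fun a => ?_⟩
  · exact MultType.TorsionMult.finite_of_family (R := k) (fun _ : PUnit.{u+1} => L) _
      fun _ => MultType.TorsionMult.finite_torsion_split e (Nat.mul_pos hn hm₀)
  · refine Ideal.map_le_iff_le_comap.mpr fun x hx => ?_
    rw [RingHom.mem_ker] at hx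
    rw [Ideal.mem_comap, RingHom.mem_ker]
    show φ (SGA3b.powConv k (A ⧸ multIdeal k A) (n * m₀) x) = 0
    rw [← hψ]
    show (φ.comp (Ideal.Quotient.mk _)) (ψ x) = 0
    rw [h]
    show φ' (Ideal.Quotient.mk I (ψ x)) = 0
    rw [KerHopf.mk_comp ψ x, show counit (R := k) x = 0 from hx, map_zero, map_zero]
  · obtain ⟨g, hg⟩ := hroot (toConv (a.ofConv.comp (ψ₀ : A ⧸ multIdeal k A →ₐ[k] A))) n hn
    rw [← hψa] at hg
    let x : WithConv (A →ₐ[k] L) := toConv (g.ofConv.comp π)
    let x' : WithConv (A →ₐ[k] L) := toConv (x.ofConv.comp (HopfAlgebra.antipodeAlgHom k A))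
    have hxψ : toConv (x.ofConv.comp (ψ : A ⧸ multIdeal k A →ₐ[k] A)) = g ^ (n * m₀) := by
      rw [← OortTate.Eigen.comp_powConv, ← hψ]
      rfl
    let c : WithConv (A →ₐ[k] L) := x' * a
    have hc : toConv (c.ofConv.comp (ψ : A ⧸ multIdeal k A →ₐ[k] A)) = 1 := by
      rw [AlgHom.convMul_comp_bialgHom_distrib, toConv_ofConv, ← hg]
      have hx' : toConv (x'.ofConv.comp (ψ : A ⧸ multIdeal k A →ₐ[k] A)) =
          toConv ((g ^ (n * m₀)).ofConv.comp (HopfAlgebra.antipodeAlgHom k (A ⧸ multIdeal k A))) := by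
        rw [← hxψ]
        exact congrArg toConv (AlgHom.ext fun z => congrArg x.ofConv (KerHopf.map_antipode ψ z))
      rw [hx']
      exact antipode_comp_conv _
    have hle : I ≤ RingHom.ker c.ofConv := by
      refine Ideal.map_le_iff_le_comap.mpr fun z hz => ?_
      rw [RingHom.mem_ker, Bialgebra.counitAlgHom_apply] at hz
      rw [Ideal.mem_comap, RingHom.mem_ker]
      refine (DFunLike.congr_fun (congrArg WithConv.ofConv hc) z).trans ?_
      show (1 : WithConv (A ⧸ multIdeal k A →ₐ[k] L)) z = 0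
      rw [AlgHom.convOne_apply, hz, map_zero]
    refine ⟨g, toConv (Ideal.Quotient.liftₐ I c.ofConv fun z hz => hle hz), ?_⟩
    show x * c = a
    rw [← _root_.mul_assoc, _root_.mul_comm x x']
    show toConv (x.ofConv.comp _) * x * a = a
    rw [show toConv (x.ofConv.comp (HopfAlgebra.antipodeAlgHom k A)) * x = 1 from antipode_comp_conv _,
      _root_.one_mul]

end Aux
/-- Let k be a field, G a commutative affine k-group scheme of finite type, and j : M → G the largest
closed subgroup scheme of multiplicative type (M is of multiplicative type and every closed subgroup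
scheme of G of multiplicative type factors through M). Then there is a closed subgroup scheme h : H
→ G such that G = M · H, in the sense that the multiplication M × H → G is surjective, and M ∩ H
(the fibre product of j and h) is finite over k. (The existence of the largest subgroup scheme of
multiplicative type is taken here as a hypothesis on M.) -/
theorem result (k : Type u) [Field k]
    (G : Over (Spec (CommRingCat.of k))) [GrpObj G] [IsCommMonObj G] [IsAffine G.left]
    [LocallyOfFiniteType G.hom]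
    (M : Over (Spec (CommRingCat.of k))) [GrpObj M] (j : M ⟶ G) [IsMonHom j] [IsClosedImmersion j.left]
    (hM : SGA3x.IsMultTypeFT M)
    (hMmax : ∀ (M' : Over (Spec (CommRingCat.of k))) [GrpObj M'] (j' : M' ⟶ G) [IsMonHom j']
      [IsClosedImmersion j'.left], SGA3x.IsMultTypeFT M' → ∃ g : M' ⟶ M, g ≫ j = j') :
    ∃ (H : Over (Spec (CommRingCat.of k))) (_ : GrpObj H) (h : H ⟶ G), IsMonHom h ∧ IsClosedImmersion h.left ∧
      Surjective ((j ⊗ₘ h) ≫ μ[G]).left ∧
      IsFinite (pullback.fst j.left h.left ≫ M.hom) := by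
  classical
  obtain ⟨A, _, eG, heG⟩ := AffGrp.Bridge.exists_iso (R := CommRingCat.of k) G
  haveI := heG
  haveI := S19472.finiteType_of_iso (k := k) (A := A) eG
  haveI := S19472.cocomm_of_iso (k := k) (A := A) eG
  obtain ⟨eM, heM⟩ := S19472.exists_iso_multSub (k := k) (A := A) eG M j hM hMmax
  obtain ⟨I, hI, N, hfin, hker, hpts⟩ := exists_complement (k := k) (A := A)
  haveI := hI
  let H := S19472.spc k (A ⧸ I)
  let π := S19472.specHom (Bialgebra.Quotient.mkBialgHom (R := k) (multIdeal k A))
  let h₀ := S19472.specHom (Bialgebra.Quotient.mkBialgHom (R := k) I)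
  let h : H ⟶ G := h₀ ≫ eG.hom
  haveI : IsClosedImmersion h₀.left :=
    IsClosedImmersion.spec_of_surjective _ Ideal.Quotient.mk_surjective
  haveI : IsIso eG.hom.left := (inferInstance : IsIso ((Over.forget _).map eG.hom))
  haveI : IsIso eM.hom.left := (inferInstance : IsIso ((Over.forget _).map eM.hom))
  haveI hcl : IsClosedImmersion h.left := by
    show IsClosedImmersion (h₀.left ≫ eG.hom.left)
    infer_instance
  refine ⟨H, inferInstance, h, inferInstance, hcl, ?_, ?_⟩
  · haveI : IsAffine M.left := isAffine_of_isAffineHom j.left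
    haveI : IsAffine H.left := inferInstanceAs (IsAffine (Spec (CommRingCat.of (A ⧸ I))))
    haveI : LocallyOfFiniteType M.hom := by rw [← Over.w j]; infer_instance
    haveI : LocallyOfFiniteType H.hom := by rw [← Over.w h]; infer_instance
    haveI : LocallyOfFiniteType (M ⊗ H).hom :=
      inferInstanceAs (LocallyOfFiniteType (pullback.fst M.hom H.hom ≫ M.hom))
    haveI : QuasiCompact M.hom := inferInstance
    haveI : QuasiCompact H.hom := inferInstance
    haveI : QuasiCompact (M ⊗ H).hom :=
      inferInstanceAs (QuasiCompact (pullback.fst M.hom H.hom ≫ M.hom))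
    let F := (j ⊗ₘ h) ≫ μ[G]
    haveI : LocallyOfFiniteType (F.left ≫ G.hom) := by rw [Over.w F]; infer_instance
    haveI : LocallyOfFiniteType F.left := locallyOfFiniteType_of_comp F.left G.hom
    haveI : QuasiCompact (F.left ≫ G.hom) := by rw [Over.w F]; infer_instance
    haveI : QuasiCompact F.left := QuasiCompact.of_comp F.left G.hom
    haveI : IsLocallyNoetherian G.left := LocallyOfFiniteType.isLocallyNoetherian G.hom
    haveI : LocallyOfFinitePresentation F.left :=
      LocallyOfFinitePresentation.iff_locallyOfFiniteType.mpr inferInstance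
    haveI : JacobsonSpace G.left := LocallyOfFiniteType.jacobsonSpace G.hom
    refine ⟨fun g₀ => ?_⟩
    by_contra hg₀
    have hc : Topology.IsConstructible (Set.range F.left.base)ᶜ := by
      rw [Topology.isConstructible_compl, ← Set.image_univ]
      exact F.left.isConstructible_image Topology.IsConstructible.univ
    obtain ⟨S, -, hS, hSU⟩ := ConstrLib.exists_locallyClosed_cover hc
    have hmem : g₀ ∈ (Set.range F.left.base)ᶜ := fun ⟨x, hx⟩ => hg₀ ⟨x, hx⟩
    rw [hSU] at hmem
    obtain ⟨t, htS, hgt⟩ := hmem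
    obtain ⟨z, hz, hzc⟩ := nonempty_inter_closedPoints ⟨g₀, hgt⟩ (hS t htS)
    have hzR : z ∈ (Set.range F.left.base)ᶜ := hSU ▸ ⟨t, htS, hz⟩
    obtain ⟨y, hy, hyp⟩ := S14645.exists_point G.hom (AlgebraicClosure k) z hzc
    let P := (Spec (CommRingCat.of (AlgebraicClosure k))).asOver (Spec (CommRingCat.of k))
    let xG : P ⟶ G := Over.homMk y hyp
    let E := Spec.mapMulEquiv (R := k) (S := A) (T := AlgebraicClosure k)
    obtain ⟨m, n, hmn⟩ := hpts (E.symm (xG ≫ eG.inv))
    let f₁ : P ⟶ M := Spec.mapMulEquiv (R := k) (S := A ⧸ multIdeal k A) m ≫ eM.hom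
    let f₂ : P ⟶ H := Spec.mapMulEquiv (R := k) (S := A ⧸ I) n
    have e1 : f₁ ≫ j = E (toConv (m.ofConv.comp (Ideal.Quotient.mkₐ k _))) ≫ eG.hom := by
      simp only [f₁, Category.assoc]
      rw [heM, ← Category.assoc]
      refine congrArg (· ≫ eG.hom) (Over.OverMorphism.ext ?_)
      exact (Spec.map_comp _ _).symm
    have e2 : f₂ ≫ h = E (toConv (n.ofConv.comp (Ideal.Quotient.mkₐ k _))) ≫ eG.hom := by
      simp only [f₂, h, ← Category.assoc]
      refine congrArg (· ≫ eG.hom) (Over.OverMorphism.ext ?_)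
      exact (Spec.map_comp _ _).symm
    have e3 : lift f₁ f₂ ≫ F = xG := by
      have e4 : lift f₁ f₂ ≫ F = (f₁ ≫ j) * (f₂ ≫ h) := by
        simp only [F, lift_map_assoc, Hom.mul_def]
      rw [e4, e1, e2, ← MonObj.mul_comp, ← map_mul, hmn, MulEquiv.apply_symm_apply, Category.assoc,
        Iso.inv_hom_id, Category.comp_id]
    exact hzR ⟨(lift f₁ f₂).left.base (IsLocalRing.closedPoint (AlgebraicClosure k)),
      (congrArg (fun q : P ⟶ G => q.left.base (IsLocalRing.closedPoint (AlgebraicClosure k))) e3).trans hy⟩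
  · haveI : IsAffine M.left := isAffine_of_isAffineHom j.left
    let Q := pullback j.left h.left
    let fs : Q ⟶ M.left := pullback.fst j.left h.left
    haveI : IsClosedImmersion fs := inferInstance
    haveI : IsAffine Q := isAffine_of_isAffineHom fs
    haveI : IsIso eM.inv.left := (inferInstance : IsIso ((Over.forget _).map eM.inv))
    let a : Spec Γ(Q, ⊤) ⟶ Spec (CommRingCat.of (A ⧸ multIdeal k A)) := Q.isoSpec.inv ≫ fs ≫ eM.inv.left
    let b : Spec Γ(Q, ⊤) ⟶ Spec (CommRingCat.of (A ⧸ I)) := Q.isoSpec.inv ≫ pullback.snd j.left h.left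
    let φ := Spec.preimage a
    let φ' := Spec.preimage b
    have hab : a ≫ π.left = b ≫ h₀.left := by
      rw [← cancel_mono eG.hom.left]
      simp only [a, b, Category.assoc]
      have h2 : π.left ≫ eG.hom.left = eM.hom.left ≫ j.left := (congrArg (fun q => q.left) heM).symm
      have h3 : eM.inv.left ≫ eM.hom.left = 𝟙 M.left := congrArg (fun q => q.left) eM.inv_hom_id
      rw [h2, reassoc_of% h3]
      exact congrArg (Q.isoSpec.inv ≫ ·) pullback.condition
    have hφ : φ.hom.comp (Ideal.Quotient.mk _) = φ'.hom.comp (Ideal.Quotient.mk _) := by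
      have h1 : CommRingCat.ofHom (Ideal.Quotient.mk (multIdeal k A)) ≫ φ =
          CommRingCat.ofHom (Ideal.Quotient.mk I) ≫ φ' := by
        apply Spec.map_injective
        rw [Spec.map_comp, Spec.map_comp, Spec.map_preimage, Spec.map_preimage]
        exact hab
      exact congrArg CommRingCat.Hom.hom h1
    let T := SGA3b.torsionIdeal k (A ⧸ multIdeal k A) N
    let φb : CommRingCat.of ((A ⧸ multIdeal k A) ⧸ T) ⟶ Γ(Q, ⊤) :=
      CommRingCat.ofHom (Ideal.Quotient.lift T φ.hom fun x hx => hker _ φ.hom φ'.hom hφ hx)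
    let q : CommRingCat.of (A ⧸ multIdeal k A) ⟶ CommRingCat.of ((A ⧸ multIdeal k A) ⧸ T) :=
      CommRingCat.ofHom (Ideal.Quotient.mk T)
    have hq : Spec.map φb ≫ Spec.map q = a := by
      rw [← Spec.map_comp, show q ≫ φb = φ from CommRingCat.hom_ext (RingHom.ext fun x => rfl), Spec.map_preimage]
    haveI : IsClosedImmersion (Spec.map φb) := by
      haveI : IsClosedImmersion (Spec.map φb ≫ Spec.map q) := by rw [hq]; infer_instance
      exact IsClosedImmersion.of_comp (Spec.map φb) (Spec.map q)
    haveI : IsFinite (Spec.map q ≫ (S19472.spc k (A ⧸ multIdeal k A)).hom) := by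
      show IsFinite (Spec.map q ≫ Spec.map (CommRingCat.ofHom (algebraMap k (A ⧸ multIdeal k A))))
      rw [← Spec.map_comp, IsFinite.SpecMap_iff]
      exact RingHom.finite_algebraMap.mpr hfin
    have hfs : fs ≫ M.hom = Q.isoSpec.hom ≫ Spec.map φb ≫ Spec.map q ≫ (S19472.spc k (A ⧸ multIdeal k A)).hom := by
      rw [← Category.assoc (Spec.map φb), hq]
      simp only [a, Category.assoc, Iso.hom_inv_id_assoc]
      rw [Over.w eM.inv]
    show IsFinite (fs ≫ M.hom)
    rw [hfs]
    infer_instance

end Groth.Agent.S19467
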