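import Groth.Statements.S19471
import Groth.Agent.GrSyz.Std
import Groth.Agent.GrSyz.ProjDim

set_option autoImplicit false
universe u
open GrSyz

namespace Groth.Agent.S19471

/-- Let k be an algebraically closed field, S = k[x_0, …, x_n] with its standard grading, and M a
finitely generated ℤ-graded S-module. Then M has a graded free resolution of length at most n + 1:
an exact sequence 0 → F_{n+1} → … → F_1 → F_0 → M → 0 in which every F_i is a finite direct sum of
twists S(−j) (a finite-rank free module with a homogeneous basis) and all maps respect the grading. -/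
theorem result (k : Type u) [Field k] [IsAlgClosed k] (n : ℕ)
    (M : Type u) [AddCommGroup M] [Module k M] [Module (MvPolynomial (Fin (n + 1)) k) M]
    [IsScalarTower k (MvPolynomial (Fin (n + 1)) k) M] [Module.Finite (MvPolynomial (Fin (n + 1)) k) M]
    (ℳ : ℤ → Submodule k M) [DirectSum.Decomposition ℳ]
    [SetLike.GradedSMul (GrSyz.stdGr k (Fin (n + 1))) ℳ] :
    ∃ F : GrSyz.FreeRes (GrSyz.stdGr k (Fin (n + 1))) ℳ, F.HasLengthLE (n + 1) := by
  obtain ⟨F, hF⟩ := Groth.Agent.GrSyz.exists_minimal (𝒜 := GrSyz.stdGr k (Fin (n + 1))) (ℳ := ℳ)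
    Groth.Agent.GrSyz.stdGr_eq_zero_of_neg Groth.Agent.GrSyz.stdGr_isUnit
  exact ⟨F, (Groth.Agent.GrSyz.pd_le_iff_hasLengthLE F Groth.Agent.GrSyz.stdGr_eq_zero_of_neg hF (n + 1)).2
    (Groth.Agent.GrSyz.pd_mvPolynomial (n + 1) M)⟩

end Groth.Agent.S19471
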