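import Groth.Statements.S19473
import Groth.Agent.GrpScheme.Basic

set_option autoImplicit false
universe u
open CategoryTheory CategoryTheory.Limits MonoidalCategory CartesianMonoidalCategory MonObj GrpObj AlgebraicGeometry
open AlgGrp

namespace Groth.Agent.S19473

/-- Let S be a scheme and G an S-group scheme whose structure morphism G → S is locally of finite type.
Then G → S is unramified — formally unramified, since it is locally of finite type — if and only if
the identity section S → G is an open immersion. (The separated and quasi-separated clauses of the
published item are separate results.) -/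
theorem result (S : Scheme.{u})
    (G : Over S) [GrpObj G] [LocallyOfFiniteType G.hom] :
    FormallyUnramified G.hom ↔ IsOpenImmersion η[G].left := by
  constructor
  · intro h
    have e : IsPullback η[G] η[G] (lift (toUnit G ≫ η[G]) (𝟙 G)) (lift (𝟙 G) (𝟙 G)) := by
      refine ⟨⟨?_⟩, ⟨Limits.PullbackCone.IsLimit.mk _ (fun s => toUnit _) (fun s => ?_) (fun s => ?_)
        (fun s m _ _ => toUnit_unique _ _)⟩⟩
      · rw [comp_lift, comp_lift]
        simp
      · have h₁ := s.condition =≫ fst G G
        have h₂ := s.condition =≫ snd G G
        simp only [Category.assoc, lift_fst, lift_snd, Category.comp_id, comp_toUnit_assoc] at h₁ h₂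
        exact h₁.trans h₂.symm
      · have h₁ := s.condition =≫ fst G G
        simp only [Category.assoc, lift_fst, lift_snd, Category.comp_id, comp_toUnit_assoc] at h₁
        exact h₁
    exact MorphismProperty.of_isPullback (P := @IsOpenImmersion)
      (e.map (Over.forget S)).flip (inferInstanceAs (IsOpenImmersion (Limits.pullback.diagonal G.hom)))
  · intro h
    have := Groth.Agent.GrpScheme.Basic.diagonal_mem (G := G) @IsOpenImmersion h
    infer_instance

end Groth.Agent.S19473
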