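import Mathlib
import Groth.Statements.S19475
-- import your own Groth.Agent.* helpers here

set_option autoImplicit false
universe u
open CAlg

namespace Groth.Agent.S19475

open IsLocalRing in
/-- Let A be a Noetherian ring, B an A-algebra, q a prime ideal of B and p its preimage in A; let A_p
and B_q be the local rings at p and q and Â_p the completion of A_p at its maximal ideal pA_p. Then
the ideal generated by qB_q in B_q ⊗ Â_p is maximal. (The tensor product is formed over A; since A_p
is a localization of A it agrees with the tensor product over A_p used in the published statement.) -/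
theorem result (A B : Type u) [CommRing A] [CommRing B]
    [Algebra A B] [IsNoetherianRing A] (q : Ideal B) [q.IsPrime] :
    ((maximalIdeal (Localization.AtPrime q)).map
      (Algebra.TensorProduct.includeLeftRingHom :
        Localization.AtPrime q →+* TensorProduct A (Localization.AtPrime q)
          (AdicCompletion (maximalIdeal (Localization.AtPrime (q.under A)))
            (Localization.AtPrime (q.under A))))).IsMaximal := by
  classical
  set p := q.under A
  set Bq := Localization.AtPrime q
  set Ap := Localization.AtPrime p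
  set C := AdicCompletion (maximalIdeal Ap) Ap
  let T := TensorProduct A Bq C
  let I : Ideal T := (maximalIdeal Bq).map (Algebra.TensorProduct.includeLeftRingHom : Bq →+* T)
  show I.IsMaximal
  have hfg : (maximalIdeal Ap).FG := IsNoetherian.noetherian _
  have hP : ∀ z : Ap, ∃ (b : Bq), ∀ w : C, (1 : Bq) ⊗ₜ[A] (algebraMap Ap C z * w) = b ⊗ₜ[A] w ∧
      (z ∈ maximalIdeal Ap → b ∈ maximalIdeal Bq) := by
    intro z
    obtain ⟨a, s, rfl⟩ := IsLocalization.exists_mk'_eq p.primeCompl z
    have hs : IsUnit (algebraMap A Bq s) := by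
      rw [IsScalarTower.algebraMap_apply A B Bq]
      exact IsLocalization.map_units Bq (⟨algebraMap A B s, s.2⟩ : q.primeCompl)
    obtain ⟨u, hu⟩ := hs
    refine ⟨algebraMap A Bq a * (u⁻¹ : Bqˣ), fun w => ⟨?_, fun hz => ?_⟩⟩
    · set z := algebraMap Ap C (IsLocalization.mk' Ap a s) * w with hz
      have h1 : (s : A) • z = a • w := by
        rw [hz, Algebra.smul_def, Algebra.smul_def, ← mul_assoc,
          IsScalarTower.algebraMap_apply A Ap C, IsScalarTower.algebraMap_apply A Ap C, ← map_mul,
          IsLocalization.mk'_spec']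
      have h2 : (s : A) • ((u⁻¹ : Bqˣ) : Bq) = 1 := by rw [Algebra.smul_def, ← hu, Units.mul_inv]
      rw [← h2, TensorProduct.smul_tmul, h1, ← TensorProduct.smul_tmul, Algebra.smul_def]
    · have ha : a ∈ p := (IsLocalization.AtPrime.mk'_mem_maximal_iff Ap p a s).mp hz
      refine Ideal.mul_mem_right _ _ ?_
      rw [IsScalarTower.algebraMap_apply A B Bq, IsLocalization.AtPrime.to_map_mem_maximal_iff Bq q]
      exact ha
  have hm : ∀ w ∈ (maximalIdeal Ap).map (algebraMap Ap C), (1 : Bq) ⊗ₜ[A] w ∈ I := by
    intro w hw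
    induction hw using Submodule.span_induction with
    | mem w hw =>
      obtain ⟨z, hz, rfl⟩ := hw
      obtain ⟨b, hb⟩ := hP z
      have h := (hb 1).1
      rw [mul_one] at h
      rw [h]
      exact Ideal.mem_map_of_mem _ ((hb 1).2 hz)
    | zero => simp
    | add x y _ _ hx hy => rw [TensorProduct.tmul_add]; exact add_mem hx hy
    | smul c x _ hx =>
      have : (1 : Bq) ⊗ₜ[A] (c • x) = ((1 : Bq) ⊗ₜ[A] c : T) * ((1 : Bq) ⊗ₜ[A] x) := by
        rw [Algebra.TensorProduct.tmul_mul_tmul, one_mul, smul_eq_mul]
      rw [this]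
      exact I.mul_mem_left _ hx
  haveI : IsLocalRing C := AdicCompletion.isLocalRing_of_fg hfg
  have hmax : maximalIdeal C = (maximalIdeal Ap).map (algebraMap Ap C) :=
    AdicCompletion.maximalIdeal_eq_map_of_fg hfg
  haveI : IsLocalHom (algebraMap Ap C) := ((local_hom_TFAE (algebraMap Ap C)).out 0 2).mpr hmax.ge
  have happrox : ∀ w : C, ∃ z : Ap, w - algebraMap Ap C z ∈ maximalIdeal C := by
    intro w
    obtain ⟨z, hz⟩ := Submodule.mkQ_surjective _ (AdicCompletion.eval (maximalIdeal Ap) Ap 1 w)
    refine ⟨z, ?_⟩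
    have hker : w - algebraMap Ap C z ∈ LinearMap.ker (AdicCompletion.eval (maximalIdeal Ap) Ap 1) := by
      rw [LinearMap.mem_ker, map_sub, sub_eq_zero, ← hz]
      rfl
    rw [← AdicCompletion.pow_smul_top_eq_ker_eval hfg, pow_one, Ideal.smul_top_eq_map] at hker
    rw [hmax]
    exact hker
  let f : Bq →ₐ[A] ResidueField Bq := IsScalarTower.toAlgHom A Bq _
  let ι : ResidueField Ap →+* ResidueField C := ResidueField.map (algebraMap Ap C)
  have hι : Function.Bijective ι := ⟨ι.injective, fun y => by
    obtain ⟨w, rfl⟩ := residue_surjective y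
    obtain ⟨z, hz⟩ := happrox w
    refine ⟨residue Ap z, ?_⟩
    show residue C (algebraMap Ap C z) = residue C w
    exact (Ideal.Quotient.eq.mpr hz).symm⟩
  let g₀ : C →+* ResidueField Bq := (ResidueField.map (Localization.localRingHom p q (algebraMap A B) rfl)).comp
    ((RingEquiv.ofBijective ι hι).symm.toRingHom.comp (residue C))
  have hg₀ : ∀ a : A, g₀ (algebraMap A C a) = algebraMap A (ResidueField Bq) a := by
    intro a
    have h1 : (RingEquiv.ofBijective ι hι).symm (residue C (algebraMap A C a)) = residue Ap (algebraMap A Ap a) := by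
      rw [RingEquiv.symm_apply_eq, IsScalarTower.algebraMap_apply A Ap C]
      rfl
    show ResidueField.map (Localization.localRingHom p q (algebraMap A B) rfl)
      ((RingEquiv.ofBijective ι hι).symm (residue C (algebraMap A C a))) = _
    rw [h1, ResidueField.map_residue, Localization.localRingHom_to_map]
    rfl
  let g : C →ₐ[A] ResidueField Bq := { g₀ with commutes' := hg₀ }
  let Φ : T →ₐ[A] ResidueField Bq := Algebra.TensorProduct.lift f g (fun _ _ => Commute.all _ _)
  have hΦI : I ≤ RingHom.ker Φ := by
    rw [Ideal.map_le_iff_le_comap]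
    intro b hb
    show Φ (b ⊗ₜ 1) = 0
    rw [Algebra.TensorProduct.lift_tmul, map_one, mul_one]
    exact Ideal.Quotient.eq_zero_iff_mem.mpr hb
  have hsurj : Function.Surjective Φ := fun y => by
    obtain ⟨b, rfl⟩ := residue_surjective y
    exact ⟨b ⊗ₜ 1, by rw [Algebra.TensorProduct.lift_tmul, map_one, mul_one]; rfl⟩
  have hred : ∀ x : T, ∃ b : Bq, x - b ⊗ₜ 1 ∈ I := by
    intro x
    induction x using TensorProduct.induction_on with
    | zero => exact ⟨0, by simp⟩
    | tmul b w =>
      obtain ⟨z, hz⟩ := happrox w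
      obtain ⟨b', hb'⟩ := hP z
      refine ⟨b * b', ?_⟩
      have h := (hb' 1).1
      rw [mul_one] at h
      have : (b ⊗ₜ w : T) - (b * b') ⊗ₜ 1 = (b ⊗ₜ 1) * ((1 : Bq) ⊗ₜ[A] (w - algebraMap Ap C z)) := by
        rw [TensorProduct.tmul_sub, h, mul_sub, Algebra.TensorProduct.tmul_mul_tmul,
          Algebra.TensorProduct.tmul_mul_tmul, mul_one, one_mul, one_mul]
      rw [this]
      exact I.mul_mem_left _ (hm _ (hmax ▸ hz))
    | add x y hx hy =>
      obtain ⟨a, ha⟩ := hx; obtain ⟨b, hb⟩ := hy
      exact ⟨a + b, by rw [TensorProduct.add_tmul, add_sub_add_comm]; exact add_mem ha hb⟩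
  have hker : RingHom.ker Φ = I := by
    refine le_antisymm (fun x hx => ?_) hΦI
    obtain ⟨b, hb⟩ := hred x
    have h0 : Φ (b ⊗ₜ 1) = 0 := by
      have := hΦI hb
      rw [RingHom.mem_ker, map_sub, (RingHom.mem_ker.mp hx), zero_sub, neg_eq_zero] at this
      exact this
    rw [Algebra.TensorProduct.lift_tmul, map_one, mul_one] at h0
    have hbI : (b ⊗ₜ 1 : T) ∈ I := Ideal.mem_map_of_mem _ (Ideal.Quotient.eq_zero_iff_mem.mp h0)
    simpa using add_mem hb hbI
  rw [← hker]
  exact RingHom.ker_isMaximal_of_surjective Φ hsurj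

end Groth.Agent.S19475
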