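import Groth.Statements.S19477
import Mathlib
-- import your own Groth.Agent.* helpers here

set_option autoImplicit false
universe u
open Variety

namespace Groth.Agent.S19477

open TensorProduct

lemma main (K F L : Type u) [Field K] [Field F] [Algebra K F] [Algebra.EssFiniteType K F]
    [Field L] [Algebra K L] [IsGalois K L] :
    Finite (PrimeSpectrum (F ⊗[K] L)) ∧
      ∀ P Q : PrimeSpectrum (F ⊗[K] L), ∃ γ : L ≃ₐ[K] L,
        Q.asIdeal = P.asIdeal.comap (Algebra.TensorProduct.map (AlgHom.id K F) (γ : L →ₐ[K] L)) := by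
  classical
  have : IsNoetherianRing (L ⊗[K] F) := Algebra.EssFiniteType.isNoetherianRing L _
  have : IsNoetherianRing (F ⊗[K] L) :=
    isNoetherianRing_of_ringEquiv _ (Algebra.TensorProduct.comm K L F).toRingEquiv
  have hint : Algebra.IsIntegral F (F ⊗[K] L) := inferInstance
  have hmax : ∀ P : PrimeSpectrum (F ⊗[K] L), P.asIdeal.IsMaximal := fun P =>
    Ideal.isMaximal_of_isIntegral_of_isMaximal_comap (R := F) P.asIdeal
      (by rw [Ideal.eq_bot_of_prime (P.asIdeal.comap (algebraMap F (F ⊗[K] L)))]; exact Ideal.bot_isMaximal)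
  have hfin : Finite (PrimeSpectrum (F ⊗[K] L)) := by
    have hsub : ∀ P : PrimeSpectrum (F ⊗[K] L), P.asIdeal ∈ minimalPrimes (F ⊗[K] L) := fun P => by
      obtain ⟨q, hq, hqP⟩ := Ideal.exists_minimalPrimes_le (I := (⊥ : Ideal (F ⊗[K] L))) (J := P.asIdeal) bot_le
      have hqm : q.IsMaximal := hmax ⟨q, hq.1.1⟩
      rw [← hqm.eq_of_le P.isPrime.ne_top hqP]
      exact hq
    have := (minimalPrimes.finite_of_isNoetherianRing (F ⊗[K] L)).to_subtype
    exact Finite.of_injective (fun P => (⟨P.asIdeal, hsub P⟩ : minimalPrimes (F ⊗[K] L)))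
      fun P Q h => PrimeSpectrum.ext (congrArg Subtype.val h)
  refine ⟨hfin, fun P Q => ?_⟩
  let T : (L ≃ₐ[K] L) → (F ⊗[K] L →ₐ[K] F ⊗[K] L) := fun γ => Algebra.TensorProduct.map (AlgHom.id K F) (γ : L →ₐ[K] L)
  by_contra hne
  push_neg at hne
  have hfinS : Set.Finite (Set.range fun γ => (P.asIdeal.comap (T γ) : Ideal (F ⊗[K] L))) := by
    refine (Set.finite_range (fun R : PrimeSpectrum (F ⊗[K] L) => R.asIdeal)).subset ?_
    rintro _ ⟨γ, rfl⟩
    exact ⟨⟨P.asIdeal.comap (T γ), Ideal.comap_isPrime _ _⟩, rfl⟩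
  -- an element of `Q` outside every conjugate of `P`
  have hx : ∃ x ∈ Q.asIdeal, ∀ γ, T γ x ∉ P.asIdeal := by
    by_contra hcon
    push_neg at hcon
    have hsub : (Q.asIdeal : Set (F ⊗[K] L)) ⊆ ⋃ I ∈ (hfinS.toFinset : Set (Ideal (F ⊗[K] L))), (I : Set (F ⊗[K] L)) := by
      intro x hx
      obtain ⟨γ, hγ⟩ := hcon x hx
      exact Set.mem_biUnion (by simp) (show x ∈ ((P.asIdeal.comap (T γ) : Ideal (F ⊗[K] L)) : Set (F ⊗[K] L)) from hγ)
    obtain ⟨I, hI, hQI⟩ := (Ideal.subset_union_prime (f := id) (s := hfinS.toFinset) ⊥ ⊥ (fun I hI _ _ => by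
      obtain ⟨γ, rfl⟩ := hfinS.mem_toFinset.1 hI
      exact Ideal.comap_isPrime _ _)).1 hsub
    obtain ⟨γ, rfl⟩ := hfinS.mem_toFinset.1 hI
    exact hne γ ((hmax Q).eq_of_le (Ideal.comap_isPrime _ _).ne_top hQI)
  obtain ⟨x, hxQ, hxP⟩ := hx
  let b := Module.Free.chooseBasis K F
  let c := TensorProduct.equivFinsuppOfBasisLeft (N := L) b
  have hc : ∀ γ z i, c (T γ z) i = γ (c z i) := by
    intro γ z i
    induction z using TensorProduct.induction_on with
    | zero => simp
    | tmul f l => simp [c, T]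
    | add z w hz hw => simp [map_add, hz, hw]
  -- the orbit of `x` is finite
  have horb : (Set.range fun γ => T γ x).Finite := by
    refine Set.Finite.of_injOn (f := fun z => fun i : (c x).support => c z i.1)
      (t := Set.pi Set.univ (fun i : (c x).support => (minpoly K (c x i.1)).rootSet L)) ?_ ?_ (Set.Finite.pi fun i => Set.toFinite _)
    · rintro _ ⟨γ, rfl⟩ i -
      show c (T γ x) i.1 ∈ _
      have hi : IsIntegral K (c x i.1) := Algebra.IsIntegral.isIntegral _
      rw [hc, Polynomial.mem_rootSet]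
      refine ⟨minpoly.ne_zero hi, ?_⟩
      rw [← AlgEquiv.coe_algHom, Polynomial.aeval_algHom_apply, minpoly.aeval, map_zero]
    · rintro _ ⟨γ, rfl⟩ _ ⟨γ', rfl⟩ h
      apply c.injective
      ext i
      by_cases hi : i ∈ (c x).support
      · exact congrFun h ⟨i, hi⟩
      · rw [hc, hc, Finsupp.notMem_support_iff.1 hi, map_zero, map_zero]
  let O := horb.toFinset
  have hTT : ∀ σ γ z, T σ (T γ z) = T (γ.trans σ) z := by
    intro σ γ z
    induction z using TensorProduct.induction_on with
    | zero => simp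
    | tmul f l => simp [T]
    | add z w hz hw => simp [map_add, hz, hw]
  have hfix : ∀ σ, T σ (∏ y ∈ O, y) = ∏ y ∈ O, y := by
    intro σ
    rw [map_prod]
    have hsimg : O.image (T σ) = O := by
      ext y
      simp only [O, Finset.mem_image, Set.Finite.mem_toFinset, Set.mem_range]
      constructor
      · rintro ⟨_, ⟨γ, rfl⟩, rfl⟩
        exact ⟨γ.trans σ, (hTT σ γ x).symm⟩
      · rintro ⟨γ, rfl⟩
        exact ⟨_, ⟨γ.trans σ.symm, rfl⟩, (hTT σ _ x).trans (congrArg (T · x) (AlgEquiv.ext fun l => by simp))⟩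
    have hinj : Set.InjOn (T σ) O := by
      intro y _ z _ h
      apply c.injective
      ext i
      exact σ.injective (by rw [← hc, ← hc, h])
    conv_rhs => rw [← hsimg, Finset.prod_image hinj]
  have hk : ∀ i, c (∏ y ∈ O, y) i ∈ Set.range (algebraMap K L) := fun i =>
    (InfiniteGalois.mem_range_algebraMap_iff_fixed _).2 fun σ => by rw [← hc, hfix]
  choose k hk using hk
  obtain ⟨f, hf⟩ : ∃ f : F, algebraMap F (F ⊗[K] L) f = ∏ y ∈ O, y := by
    refine ⟨∑ i ∈ (c (∏ y ∈ O, y)).support, k i • b i, c.injective ?_⟩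
    ext j
    rw [← hk, Algebra.TensorProduct.algebraMap_apply, Algebra.algebraMap_self, RingHom.id_apply]
    simp only [c, TensorProduct.equivFinsuppOfBasisLeft_apply_tmul_apply, map_sum, map_smul, Finsupp.finset_sum_apply, Finsupp.smul_apply, Module.Basis.repr_self, Finsupp.single_apply, smul_eq_mul, mul_ite, mul_one, mul_zero, Finset.sum_ite_eq']
    split_ifs with hj
    · rw [Algebra.smul_def, mul_one]
    · rw [hk j, Finsupp.notMem_support_iff.1 hj, zero_smul]
  have hQf : algebraMap F (F ⊗[K] L) f ∈ Q.asIdeal := by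
    rw [hf]
    exact Q.asIdeal.mem_of_dvd (Finset.dvd_prod_of_mem (fun y => y) (horb.mem_toFinset.2 ⟨AlgEquiv.refl, by simp [T]⟩)) hxQ
  have hf0 : f = 0 := by
    by_contra hf0
    exact Q.isPrime.ne_top (Ideal.eq_top_of_isUnit_mem _ hQf ((Ne.isUnit hf0).map _))
  have hPf : ∏ y ∈ O, y ∈ P.asIdeal := by rw [← hf, hf0, map_zero]; exact zero_mem _
  obtain ⟨y, hy, hyP⟩ := P.isPrime.prod_mem_iff.1 hPf
  obtain ⟨γ, rfl⟩ := horb.mem_toFinset.1 hy
  exact hxP γ hyP

/-- Let K be a field, B an integral K-algebra of finite type with fraction field F, and L a Galois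
extension of K with group Γ = Aut_K(L). Then F ⊗_K L has only finitely many prime ideals and Γ,
acting through the second factor, permutes them transitively: for prime ideals P, Q there is γ ∈ Γ
with Q the preimage of P under id ⊗ γ. (The published statement is the geometric one, that the
points of an algebraic K-scheme X correspond to the Γ-orbits of points of X_L and that these orbits
are finite; it reduces to this algebraic statement by passing to the fibre over a point, and the
algebraic statement is what is proved.) -/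
theorem result (K B L : Type u) [Field K]
    [CommRing B] [IsDomain B] [Algebra K B] [Algebra.FiniteType K B] [Field L] [Algebra K L] [IsGalois K L] :
    Finite (PrimeSpectrum (TensorProduct K (FractionRing B) L)) ∧
      ∀ P Q : PrimeSpectrum (TensorProduct K (FractionRing B) L), ∃ γ : L ≃ₐ[K] L,
        Q.asIdeal = P.asIdeal.comap
          (Algebra.TensorProduct.map (AlgHom.id K (FractionRing B)) (γ : L →ₐ[K] L)) := by
  have : Algebra.EssFiniteType K (FractionRing B) := Algebra.EssFiniteType.comp K B (FractionRing B)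
  exact main K (FractionRing B) L

end Groth.Agent.S19477
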