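import Groth.Statements.S19479
import Groth.Agent.Comod.Cosemisimple

set_option autoImplicit false
universe u v w
open HopfRep

namespace Groth.Agent.S19479

open TensorProduct in
/-- Let K be a field, C a K-coalgebra and V a right C-comodule. The following are equivalent: (i) V is
the internal direct sum of a family of simple subcomodules, i.e. there is an independent family of
subcomodules W_i with sum V, each W_i nonzero and having no subcomodules inside it other than 0 and
W_i; (ii) every subcomodule of V has a complementary subcomodule. A subcomodule is a subspace W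
whose coaction lands in the image of W ⊗ C. (The source states this for left comodules; a left
comodule over C is a right comodule over the co-opposite coalgebra, so the statement is the same.) -/
theorem result {K : Type u} {C : Type v} [Field K]
    [AddCommGroup C] [Module K C] [Coalgebra K C] (V : Type w) [AddCommGroup V] [Module K V] [HopfRep.Comod K C V] :
    (∃ (ι : Type w) (W : ι → Submodule K V), iSupIndep W ∧ iSup W = ⊤ ∧ ∀ i,
        HopfRep.IsSubcomod (k := K) (A := C) (W i) ∧ W i ≠ ⊥ ∧
          ∀ W' : Submodule K V, HopfRep.IsSubcomod (k := K) (A := C) W' → W' ≤ W i → W' = ⊥ ∨ W' = W i) ↔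
      HopfRep.IsSemisimpleComod K C V := by
  rw [Comod.isSemisimpleComod_iff]
  constructor
  · rintro ⟨ι, W, hind, htop, hW⟩
    have : ∀ i, IsSimpleModule (Comod.Dual K C) (Comod.toSub (W i) (hW i).1) := fun i =>
      (Comod.isSimpleModule_iff_atom (hW i).1).2 ⟨(hW i).2.1, (hW i).2.2⟩
    refine isSemisimpleModule_of_isSemisimpleModule_submodule' (fun i => inferInstance)
      (p := fun i => Comod.toSub (W i) (hW i).1) (eq_top_iff.2 fun x hx0 => ?_)
    clear hx0
    have hx : x ∈ iSup W := htop ▸ Submodule.mem_top
    induction hx using Submodule.iSup_induction' with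
    | mem m y hy => exact Submodule.mem_iSup_of_mem m hy
    | zero => simp
    | add y z _ _ hy hz => exact add_mem hy hz
  · intro h
    obtain ⟨s, hs, hstop, hssimp⟩ := IsSemisimpleModule.exists_sSupIndep_sSup_simples_eq_top (Comod.Dual K C) V
    refine ⟨s, fun m => m.1.restrictScalars K, ?_, eq_top_iff.2 fun x hx0 => ?_, fun m => ?_⟩
    · rw [iSupIndep_iff_finset_sum_eq_zero_imp_eq_zero]
      exact (iSupIndep_iff_finset_sum_eq_zero_imp_eq_zero (fun m : s => (m.1 : Submodule (Comod.Dual K C) V))).1
        ((sSupIndep_iff _).1 hs)
    · clear hx0
      have hx : x ∈ sSup s := hstop ▸ Submodule.mem_top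
      rw [sSup_eq_iSup'] at hx
      induction hx using Submodule.iSup_induction' with
      | mem m y hy => exact Submodule.mem_iSup_of_mem m hy
      | zero => simp
      | add y z _ _ hy hz => exact add_mem hy hz
    · refine ⟨Comod.isSubcomod_restrictScalars m.1, (Comod.isSimpleModule_iff_atom (Comod.isSubcomod_restrictScalars m.1)).1 ?_⟩
      exact hssimp m.1 m.2

end Groth.Agent.S19479
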