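import Groth.Statements.S19480
import Groth.Agent.S15046
import Groth.Agent.QuietLib.BaseChange
import Mathlib.RingTheory.Regular.Flat

set_option autoImplicit false
open CategoryTheory AlgebraicGeometry MvPolynomial
universe u
open Quiet

namespace Groth.Agent.S19480

private theorem isWeaklyRegular_map {R S : Type u} [CommRing R] [CommRing S] (φ : R →+* S)
    (hφ : φ.Flat) {rs : List R} (h : RingTheory.Sequence.IsWeaklyRegular R rs) :
    RingTheory.Sequence.IsWeaklyRegular S (rs.map φ) := by
  algebraize [φ]
  exact h.of_flat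

open CategoryTheory in
private theorem isPushout_quotientMap {R S : Type u} [CommRing R] [CommRing S] (φ : R →+* S) (I : Ideal R) :
    IsPushout (CommRingCat.ofHom φ) (CommRingCat.ofHom (Ideal.Quotient.mk I))
      (CommRingCat.ofHom (Ideal.Quotient.mk (I.map φ)))
      (CommRingCat.ofHom (Ideal.quotientMap (I.map φ) φ Ideal.le_comap_map)) := by
  refine IsPushout.of_isColimit' ⟨by ext; simp⟩ ?_
  have hker : ∀ (s : Limits.PushoutCocone (CommRingCat.ofHom φ) (CommRingCat.ofHom (Ideal.Quotient.mk I))),
      ∀ x ∈ I.map φ, s.inl.hom x = 0 := by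
    intro s x hx
    have h0 : I.map φ ≤ RingHom.ker s.inl.hom := by
      rw [Ideal.map_le_iff_le_comap]
      intro y hy
      have hc := ConcreteCategory.congr_hom s.condition y
      simp [Ideal.Quotient.eq_zero_iff_mem.2 hy] at hc
      exact hc
    exact h0 hx
  refine Limits.PushoutCocone.IsColimit.mk _ (fun s => CommRingCat.ofHom
    (Ideal.Quotient.lift _ s.inl.hom (hker s))) (fun s => ?_) (fun s => ?_) (fun s m h1 h2 => ?_)
  · ext x; simp
  · ext x
    have hc := ConcreteCategory.congr_hom s.condition x
    simp at hc ⊢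
    exact hc
  · ext x
    have e := ConcreteCategory.congr_hom h1 x
    simp at e ⊢
    exact e


/-- Let k be a perfect field of prime characteristic p, A a smooth k-algebra of characteristic p and
t_1, …, t_n a regular sequence in A, so that A₀ = A/(t_1^p, …, t_n^p) is a p-good algebra when A has
a system of parameters; let v_1, …, v_m ∈ A[Y_1, …, Y_r] have images forming a regular sequence in
A₀[Y_1, …, Y_r], and put B_0 = A[Y]/(t_1^p, …, t_n^p, v_1, …, v_m). Identify A^{1/p} with A as a
ring, so that u_i = t_i^p and the Frobenius x ↦ x^p of A[Y] carries the ideal (t_i^p, v_j) into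
(u_i^p, v_j^p) = (t_i^{p²}, v_j^p). Then: (ii) (t_1^{p²}, …, t_n^{p²}, v_1^p, …, v_m^p) is a regular
sequence in A[Y]; (iii) the induced ring map β : B_0 → B = A[Y]/(t_i^{p²}, v_j^p) is faithfully flat
and Spec β is an extraction of p-th roots, i.e. every point of Spec B_0 has an affine open
neighbourhood with affine preimage over which the ring map is a tower of finitely many elementary
extractions R → R[x]/(x^p − a). (The published statement also assumes B_0 faithfully flat and
syntomic over A₀ and A good; these are not used for (ii) and (iii) and are not assumed here. The v_j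
are taken in A[Y] rather than in A₀[Y], which is how their p-th powers in A^{1/p}[Y] are meant.) -/
theorem result (p : ℕ) [Fact p.Prime]
    (k : Type u) [Field k] [CharP k p] [PerfectRing k p] (A : Type u) [CommRing A] [Algebra k A]
    [CharP A p] [Algebra.Smooth k A] (n : ℕ) (t : Fin n → A) (ht : RingTheory.Sequence.IsRegular A (List.ofFn t))
    (r m : ℕ) (v : Fin m → MvPolynomial (Fin r) A)
    (hv : RingTheory.Sequence.IsRegular
      (MvPolynomial (Fin r) A ⧸ Ideal.span (Set.range fun i => C (t i) ^ p))
      (List.ofFn fun j => Ideal.Quotient.mk (Ideal.span (Set.range fun i => C (t i) ^ p)) (v j))) :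
    RingTheory.Sequence.IsRegular (MvPolynomial (Fin r) A)
        (List.ofFn (fun i => C (t i) ^ (p ^ 2)) ++ List.ofFn (fun j => v j ^ p)) ∧
      (Ideal.quotientMap ((Ideal.span (Set.range (fun i => C (t i) ^ p) ∪ Set.range v)).map (frobenius (MvPolynomial (Fin r) A) p)) (frobenius (MvPolynomial (Fin r) A) p) Ideal.le_comap_map).FaithfullyFlat ∧
      Quiet.IsPthRoot p (Spec.map (CommRingCat.ofHom (Ideal.quotientMap ((Ideal.span (Set.range (fun i => C (t i) ^ p) ∪ Set.range v)).map (frobenius (MvPolynomial (Fin r) A) p)) (frobenius (MvPolynomial (Fin r) A) p) Ideal.le_comap_map))) := by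
  let P := MvPolynomial (Fin r) A
  haveI : Algebra.Smooth A P := ⟨inferInstance, inferInstance⟩
  haveI : Algebra.Smooth k P := Algebra.Smooth.comp k A P
  obtain ⟨hFA, -⟩ := Groth.Agent.S15046.result p k A
  obtain ⟨hFP, hrootP⟩ := Groth.Agent.S15046.result p k P
  let J : Ideal P := Ideal.span (Set.range fun i => C (t i) ^ p)
  let I : Ideal P := Ideal.span (Set.range (fun i => C (t i) ^ p) ∪ Set.range v)
  let l₁ : List P := List.ofFn fun i => C (t i) ^ p
  let l₂ : List P := List.ofFn v
  have hl₁ : Ideal.ofList l₁ = J := by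
    simp only [Ideal.ofList, l₁, J, List.mem_ofFn]
    rfl
  have hI : Ideal.ofList (l₁ ++ l₂) = I := by
    simp only [Ideal.ofList, l₁, l₂, I, List.mem_append, List.mem_ofFn]
    rfl
  have h1 : RingTheory.Sequence.IsWeaklyRegular P l₁ := by
    have ha := isWeaklyRegular_map _ hFA.flat ht.toIsWeaklyRegular
    have hC : (C : A →+* P).Flat := RingHom.flat_algebraMap_iff.2 (inferInstance : Module.Flat A P)
    have hb := isWeaklyRegular_map _ hC ha
    have e : l₁ = List.map (C : A →+* P) (List.map (frobenius A p) (List.ofFn t)) := by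
      simp [l₁, List.map_ofFn, Function.comp_def, frobenius_def]
    rw [e]
    exact hb
  have h2 : RingTheory.Sequence.IsWeaklyRegular P (l₁ ++ l₂) := by
    rw [RingTheory.Sequence.isWeaklyRegular_append_iff]
    refine ⟨h1, ?_⟩
    have hv' := hv.toIsWeaklyRegular
    have e : (List.ofFn fun j => Ideal.Quotient.mk J (v j)) = l₂.map (algebraMap P (P ⧸ J)) := by
      simp [l₂, List.map_ofFn, Function.comp_def]
    change RingTheory.Sequence.IsWeaklyRegular (P ⧸ J) (List.ofFn fun j => Ideal.Quotient.mk J (v j)) at hv'
    rw [e, RingTheory.Sequence.isWeaklyRegular_map_algebraMap_iff] at hv'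
    exact ((Submodule.quotEquivOfEq _ _ (by rw [hl₁, smul_eq_mul, Ideal.mul_top])).isWeaklyRegular_congr l₂).2 hv'
  have hIne : I ≠ ⊤ := by
    intro htop
    refine hv.top_ne_smul ?_
    rw [smul_eq_mul, Ideal.mul_top]
    have : Ideal.ofList (List.ofFn fun j => Ideal.Quotient.mk J (v j)) = I.map (Ideal.Quotient.mk J) := by
      rw [← hI, Ideal.ofList_append, Ideal.map_sup, Ideal.map_ofList, Ideal.map_ofList, hl₁.symm]
      have h0 : Ideal.ofList (l₁.map (Ideal.Quotient.mk (Ideal.ofList l₁))) = ⊥ := by
        rw [← Ideal.map_ofList, Ideal.map_quotient_self]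
      rw [h0, bot_sup_eq]
      simp [l₂, List.map_ofFn, Function.comp_def]
    refine Eq.symm ?_
    change Ideal.ofList (List.ofFn fun j => Ideal.Quotient.mk J (v j)) = ⊤
    rw [this, htop, Ideal.map_top]
  have hmap : (l₁ ++ l₂).map (frobenius P p) =
      List.ofFn (fun i => C (t i) ^ (p ^ 2)) ++ List.ofFn (fun j => v j ^ p) := by
    simp [l₁, l₂, List.map_append, List.map_ofFn, Function.comp_def, frobenius_def, ← pow_mul, pow_two, -map_pow, P]
  have hreg : RingTheory.Sequence.IsRegular P
      (List.ofFn (fun i => C (t i) ^ (p ^ 2)) ++ List.ofFn (fun j => v j ^ p)) := by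
    rw [← hmap]
    refine ⟨isWeaklyRegular_map _ hFP.flat h2, fun htop => hIne ?_⟩
    rw [smul_eq_mul, Ideal.mul_top, ← Ideal.map_ofList, hI] at htop
    refine top_le_iff.1 (htop.le.trans ?_)
    rw [Ideal.map_le_iff_le_comap]
    intro y hy
    rw [Ideal.mem_comap, frobenius_def]
    exact I.pow_mem_of_mem hy p (Fact.out : p.Prime).pos
  have hpo := isPushout_quotientMap (frobenius P p) I
  refine ⟨hreg, ?_, ?_⟩
  · have hflat : (Ideal.quotientMap (I.map (frobenius P p)) (frobenius P p) Ideal.le_comap_map).Flat := by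
      have hh : MorphismProperty.IsStableUnderCobaseChange
          (RingHom.toMorphismProperty fun {R S} [CommRing R] [CommRing S] => RingHom.FaithfullyFlat (R := R) (S := S)) :=
        (RingHom.isStableUnderCobaseChange_toMorphismProperty_iff).2 RingHom.FaithfullyFlat.isStableUnderBaseChange
      exact (MorphismProperty.of_isPushout (P := RingHom.toMorphismProperty fun {R S} [CommRing R] [CommRing S] =>
        RingHom.FaithfullyFlat (R := R) (S := S)) hpo.flip hFP : RingHom.FaithfullyFlat _).flat
    rw [RingHom.FaithfullyFlat.iff_flat_and_comap_surjective]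
    refine ⟨hflat, fun q => ?_⟩
    have hle : I.map (frobenius P p) ≤ q.asIdeal.comap (Ideal.Quotient.mk I) := by
      rw [Ideal.map_le_iff_le_comap]
      intro y hy
      simp only [Ideal.mem_comap, frobenius_def, map_pow]
      rw [Ideal.Quotient.eq_zero_iff_mem.2 hy, zero_pow (Fact.out : p.Prime).ne_zero]
      exact Submodule.zero_mem _
    have hprime : ((q.asIdeal.comap (Ideal.Quotient.mk I)).map (Ideal.Quotient.mk (I.map (frobenius P p)))).IsPrime :=
      Ideal.map_isPrime_of_surjective Ideal.Quotient.mk_surjective (by rwa [Ideal.mk_ker])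
    refine ⟨⟨_, hprime⟩, PrimeSpectrum.ext (Ideal.ext fun y => ?_)⟩
    obtain ⟨y, rfl⟩ := Ideal.Quotient.mk_surjective y
    simp only [PrimeSpectrum.comap_asIdeal, Ideal.mem_comap, Ideal.quotientMap_mk]
    rw [Ideal.mem_map_iff_of_surjective _ Ideal.Quotient.mk_surjective]
    constructor
    · rintro ⟨z, hz, he⟩
      rw [Ideal.Quotient.eq] at he
      have hzy := hle he
      simp only [Ideal.mem_comap, map_sub, frobenius_def, map_pow] at hzy hz
      have := (Submodule.sub_mem_iff_right _ hz).1 hzy
      exact q.isPrime.mem_of_pow_mem p this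
    · intro hy
      exact ⟨frobenius P p y, by
        simp only [Ideal.mem_comap, frobenius_def, map_pow]
        exact Ideal.pow_mem_of_mem _ hy p (Fact.out : p.Prime).pos, rfl⟩
  · exact Groth.Agent.QuietLib.isPthRoot_of_isPullback
      (isPullback_SpecMap_of_isPushout _ _ _ _ hpo) hrootP

end Groth.Agent.S19480
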