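import Groth.Statements.S19481
import Groth.Agent.FiltCoh.Vanish

set_option autoImplicit false
universe u
open FiltBl

namespace Groth.Agent.S19481

open LaurentPolynomial in
/-- Let A be a Noetherian local ring that is a quotient of a Gorenstein ring, and F a filtration of
ideals on A (F^0 = A ⊇ F^1 ⊇ ⋯, F^i F^j ⊆ F^{i+j}) with every F^n nonzero and ⋂ F^n = 0, whose Rees
algebra ⊕_{n ≥ 0} F^n X^n is finitely generated over A, with F^1 of height at least 2 and containing
a non-zero-divisor of A. Let R' = ⊕_{n ∈ ℤ} F^n T^n ⊆ A[T, T⁻¹] be the extended Rees algebra, G =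
R'/uR' (u = T⁻¹) the associated graded ring ⊕ F^n/F^{n+1}, and G_+ ⊆ G the ideal generated by the
images of the elements a T^n of R' with n ≥ 1 (the ideal of forms of positive degree). Then for
every integer q ≥ 1: if the local cohomology module H^q_{G_+}(G) vanishes, then H^q_{F^1}(A)
vanishes. (The local cohomology of A here is taken with support in F^1 — equivalently in any ideal
generated by elements of the F^r, r ≥ 1, whose initial forms generate an ideal with radical
containing G_+; it is the local cohomology at the maximal ideal only when F^1 is primary to it. The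
requirement that F^1 contain a non-zero-divisor is the standing assumption of the published text
that no nonzero element of the Rees algebra is killed by a power of its positive-degree ideal.) -/
theorem result (A : Type u) [CommRing A]
    [IsNoetherianRing A] [IsLocalRing A]
    (S : Type u) [CommRing S] [LocCoh.IsGorensteinRing S] (π : S →+* A) (hπ : Function.Surjective π)
    (𝓕 : FiltBl.IdealFiltration A) (hne : ∀ n, 𝓕.F n ≠ ⊥) (hsep : ⨅ n, 𝓕.F n = ⊥)
    (hfg : Algebra.FiniteType A 𝓕.rees) (hht : 2 ≤ (𝓕.F 1).height)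
    (hnzd : ∃ x ∈ 𝓕.F 1, x ∈ nonZeroDivisors A)
    (q : ℕ) (hq : 1 ≤ q)
    (hG : Subsingleton (LocCoh.H
      ((Ideal.span {x : 𝓕.extRees | ∃ n : ℤ, 0 < n ∧ ∃ a : A, (x : A[T;T⁻¹]) = C a * T n}).map
        (Ideal.Quotient.mk (Ideal.span {𝓕.u}))) q 𝓕.Gr)) :
    Subsingleton (LocCoh.H (𝓕.F 1) q A) := by
  haveI := FiltCoh.isNoetherian_rees 𝓕 hfg
  haveI := FiltRees.isNoetherianRing_extRees 𝓕 hfg
  obtain ⟨i, rfl⟩ := Nat.exists_eq_succ_of_ne_zero (by omega : q ≠ 0)
  rw [← FiltCoh.map_plus] at hG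
  haveI := FiltCoh.subsingleton_H_extRees 𝓕 i hG
  haveI : IsNoetherianRing A[T;T⁻¹] := FiltRees.isNoetherianRing_laurent A
  haveI : Module.Flat 𝓕.extRees A[T;T⁻¹] := IsLocalization.flat _ (Submonoid.powers 𝓕.u)
  have h1 := FiltCoh.subsingleton_H_tensor (B := 𝓕.extRees) (C := A[T;T⁻¹])
    ((FiltCoh.plus 𝓕).toIdeal.map (algebraMap 𝓕.rees 𝓕.extRees)) (i + 1)
  have hI : ((FiltCoh.plus 𝓕).toIdeal.map (algebraMap 𝓕.rees 𝓕.extRees)).map
      (algebraMap 𝓕.extRees A[T;T⁻¹]) = (𝓕.F 1).map (algebraMap A A[T;T⁻¹]) := by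
    rw [FiltCoh.map_plus, Ideal.map_span]
    refine le_antisymm (Ideal.span_le.2 ?_) (Ideal.map_le_iff_le_comap.2 fun a ha => ?_)
    · rintro _ ⟨x, ⟨n, hn, a, hx⟩, rfl⟩
      have ha : a ∈ 𝓕.F n.toNat := by
        have := x.2 n
        rwa [hx, FiltRees.coeff_C_mul_T, if_pos rfl] at this
      show (x : A[T;T⁻¹]) ∈ _
      rw [hx]
      exact Ideal.mul_mem_right _ _ (Ideal.mem_map_of_mem (algebraMap A A[T;T⁻¹])
        (𝓕.antitone (show 1 ≤ n.toNat by omega) ha))
    · show algebraMap A A[T;T⁻¹] a ∈ Ideal.span (⇑(algebraMap 𝓕.extRees A[T;T⁻¹]) '' {x | ∃ n : ℤ, 0 < n ∧ ∃ a : A, (x : A[T;T⁻¹]) = LaurentPolynomial.C a * T n})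
      have h' : a ∈ 𝓕.F (1 : ℤ).toNat := ha
      have e : algebraMap A A[T;T⁻¹] a =
          algebraMap 𝓕.extRees A[T;T⁻¹] (FiltRees.mon 𝓕 1 a h') * T (-1) := by
        show LaurentPolynomial.C a = LaurentPolynomial.C a * T 1 * T (-1)
        rw [mul_assoc, ← T_add, add_neg_cancel, T_zero, mul_one]
      rw [e]
      exact Ideal.mul_mem_right _ _ (Ideal.subset_span ⟨_, ⟨1, one_pos, a, rfl⟩, rfl⟩)
  rw [hI] at h1
  obtain ⟨φ⟩ := LocCoh.BaseChangeIso.nonempty_H_tensor (B := A[T;T⁻¹]) (𝓕.F 1) (i + 1) (ModuleCat.of A A)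
  haveI : Subsingleton (TensorProduct A A[T;T⁻¹] (LocCoh.H (𝓕.F 1) (i + 1) A)) :=
    (φ.trans (LocCoh.HLinearEquiv _ (i + 1) (TensorProduct.AlgebraTensorModule.rid A A[T;T⁻¹] A[T;T⁻¹]))).toEquiv.subsingleton
  exact (Module.FaithfullyFlat.subsingleton_tensorProduct_iff_right A A[T;T⁻¹]).1 inferInstance

end Groth.Agent.S19481
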