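import Groth.Statements.S19482
import Groth.Agent.WeilFin27.Slope
import Groth.Agent.VBLib.Deg

set_option autoImplicit false
universe u
open CategoryTheory CategoryTheory.Limits AlgebraicGeometry
open VBCurve
open Groth.Agent Groth.Agent.VBLib

namespace Groth.Agent.S19482

section aux

variable {k : Type u} [Field k] {X : Scheme.{u}} [X.Over (Spec (CommRingCat.of k))] [IsIntegral X]

variable (k) in
/-- Degree zero and no subsheaf of positive degree. -/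
def Z0 (M : X.Modules) : Prop :=
  dg k M = 0 ∧ ∀ (G : X.Modules) (i : G ⟶ M), Mono i → FlatMod.IsFinLocFree G → dg k G ≤ 0

lemma z0_sub {A B : X.Modules} (i : A ⟶ B) [Mono i] (h : Z0 k B) (hA : dg k A = 0) : Z0 k A :=
  ⟨hA, fun G j _ hG => h.2 G (j ≫ i) (mono_comp j i) hG⟩

lemma z0_ss {M : X.Modules} {r : ℕ} (hM : FlatMod.IsFinLocFreeOfRank r M) (h : Z0 k M) :
    Curv2.deg k X M r = 0 ∧ ModFun.IsSlopeSemistable k X M r := by
  have h0 : Curv2.deg k X M r = 0 := by rw [dg_eq hM]; exact h.1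
  refine ⟨h0, fun F r' i hi _ hF => ?_⟩
  have := h.2 F i hi (isFinLocFree_of_ofRank hF)
  rw [← dg_eq hF] at this
  rw [h0, zero_mul]
  exact mul_nonpos_of_nonpos_of_nonneg this (Int.natCast_nonneg r)

variable (hX : GoodCurve k X)
include hX

/-- A degree zero subsheaf of such a bundle is a subbundle. -/
lemma isFinLocFree_cokernel {A B : X.Modules} (i : A ⟶ B) [Mono i] (hA : FlatMod.IsFinLocFree A)
    (hB : FlatMod.IsFinLocFree B) (h : Z0 k B) (hA0 : dg k A = 0) :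
    FlatMod.IsFinLocFree (cokernel i) := by
  obtain ⟨S, j, i', hji, hj, hi', hS, hC, hr, hd⟩ := hX.exists_saturation i (isCoh_of_isFinLocFree hA) hB
  haveI := hj
  obtain ⟨-, hiso⟩ := hX.dg_le_of_mono j (isCoh_of_isFinLocFree hA) (isCoh_of_isFinLocFree hS) hr.symm
  haveI := hiso (by have := h.2 S i' hi' hS; omega)
  exact KFlat.LocFree.isFinLocFree_of_iso
    ((cokernelEpiComp j i').symm ≪≫ cokernelIsoOfEq hji) hC

/-- A degree zero quotient bundle of such a bundle. -/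
lemma z0_quot {A Q : X.Modules} (g : A ⟶ Q) [Epi g] (hA : FlatMod.IsFinLocFree A)
    (hQ : FlatMod.IsFinLocFree Q) (h : Z0 k A) (hQ0 : dg k Q = 0) : Z0 k Q := by
  refine ⟨hQ0, fun G i hi hG => ?_⟩
  haveI := hi
  obtain ⟨P, j, hj, hP, hd, -⟩ :=
    hX.exists_preimage g i hA (isCoh_of_isFinLocFree hQ) (isCoh_of_isFinLocFree hG)
  have := h.2 P j hj hP
  have := h.1
  omega

/-- Degree zero is preserved by tensor products. -/
lemma dg_tens_zero {A B : X.Modules} (hA : FlatMod.IsFinLocFree A) (hB : FlatMod.IsFinLocFree B)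
    (hA0 : dg k A = 0) (hB0 : dg k B = 0) : dg k (CohB1.tensorMod A B) = 0 := by
  have := VBHom27.dg_tens hX hA hB
  rw [hA0, hB0, mul_zero, mul_zero, add_zero] at this
  exact this

omit hX in
lemma epi_tens {V A B : X.Modules} [IsLocallyNoetherian X] (hV : FlatMod.IsFinLocFree V) (f : A ⟶ B) [Epi f] :
    Epi (((DCoh.tensorBi (X := X)).obj V).map f) ∧ Epi (((DCoh.tensorBi (X := X)).flip.obj V).map f) := by
  let S := ShortComplex.mk (kernel.ι f) f (kernel.condition f)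
  have hS : S.ShortExact := { exact := S.exact_of_f_is_kernel (kernelIsKernel f) }
  have h := (CohDev.tens_shortExact (ofRank_rk hV) hS).epi_g
  refine ⟨h, ?_⟩
  let e : (DCoh.tensorBi (X := X)).flip.obj V ≅ (DCoh.tensorBi (X := X)).obj V :=
    (KFlat.tensorBiFlipIso (O := X.sheaf)).app V
  haveI : Epi (((DCoh.tensorBi (X := X)).obj V).map f) := h
  rw [← NatIso.naturality_2 e f]
  infer_instance

lemma dg_epi {A Q : X.Modules} (g : A ⟶ Q) [Epi g] (hA : Coh.IsCoh A) (hQ : Coh.IsCoh Q) :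
    dg k A = dg k (kernel g) + dg k Q := by
  haveI := hX.isLocallyNoetherian
  haveI : Epi (Abelian.image.ι g) := epi_of_epi_fac (Abelian.image.fac g)
  haveI : IsIso (Abelian.image.ι g) := isIso_of_mono_of_epi _
  rw [(hX.dg_kernel_image g hA hQ).1,
    (hX.dg_iso (asIso (Abelian.image.ι g)) (isCoh_image g hA hQ) hQ).1]

lemma build [IsProper (X ↘ Spec (CommRingCat.of k))] {A B Q : X.Modules} {r : ℕ}
    (fA : FlatMod.IsFinLocFree A) (fB : FlatMod.IsFinLocFree B) (fQ : FlatMod.IsFinLocFree Q)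
    (hQr : rk Q = r) (hw : WeilFin27.WeilFinite B) (zB : Z0 k B) (dA : dg k A = 0) (dQ : dg k Q = 0)
    (i : A ⟶ B) [Mono i] (g : A ⟶ Q) [Epi g] :
    FlatMod.IsFinLocFreeOfRank r Q ∧ Curv2.deg k X Q r = 0 ∧ ModFun.IsSlopeSemistable k X Q r ∧
      ∃ (s : ℕ) (G : X.Modules) (s₁ : ℕ) (F₁ : X.Modules) (s₂ : ℕ) (F₂ : X.Modules) (i₁ : F₁ ⟶ G) (i₂ : F₂ ⟶ F₁),
        FlatMod.IsFinLocFreeOfRank s G ∧ WeilFin27.WeilFinite G ∧
        FlatMod.IsFinLocFreeOfRank s₁ F₁ ∧ FlatMod.IsFinLocFreeOfRank s₂ F₂ ∧ Mono i₁ ∧ Mono i₂ ∧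
        FlatMod.IsFinLocFree (cokernel i₁) ∧ FlatMod.IsFinLocFree (cokernel i₂) ∧
        Curv2.deg k X F₁ s₁ = 0 ∧ ModFun.IsSlopeSemistable k X F₁ s₁ ∧
        Curv2.deg k X F₂ s₂ = 0 ∧ ModFun.IsSlopeSemistable k X F₂ s₂ ∧
        Nonempty (Q ≅ cokernel i₂) := by
  haveI := hX.isLocallyNoetherian
  have hQc := isCoh_of_isFinLocFree fQ
  have fK : FlatMod.IsFinLocFree (kernel g) := isFinLocFree_kernel hX.pid g fA hQc
  have dK : dg k (kernel g) = 0 := by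
    have := dg_epi hX g (isCoh_of_isFinLocFree fA) hQc
    omega
  have zA := z0_sub i zB dA
  have eQ : Q ≅ cokernel (kernel.ι g) :=
    ((cokernelIsCokernel (kernel.ι g)).coconePointUniqueUpToIso (Abelian.epiIsCokernelOfKernel _ (limit.isLimit (parallelPair g 0)))).symm
  have hr : FlatMod.IsFinLocFreeOfRank r Q := hQr ▸ ofRank_rk fQ
  obtain ⟨q1, q2⟩ := z0_ss hr (z0_quot hX g fA fQ zA dQ)
  obtain ⟨a1, a2⟩ := z0_ss (ofRank_rk fA) zA
  obtain ⟨k1, k2⟩ := z0_ss (ofRank_rk fK) (z0_sub (kernel.ι g) zA dK)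
  exact ⟨hr, q1, q2, rk B, B, rk A, A, rk (kernel g), kernel g, i, kernel.ι g, ofRank_rk fB,
    hw, ofRank_rk fA, ofRank_rk fK, inferInstance, inferInstance,
    isFinLocFree_cokernel hX i fA fB zB dA, KFlat.LocFree.isFinLocFree_of_iso eQ fQ,
    a1, a2, k1, k2, ⟨eQ⟩⟩

end aux

/-- Let X be a smooth proper integral curve over an algebraically closed field k. Say that a finite
locally free O_X-module E of rank r is essentially finite if it is slope-semistable of degree 0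
(degree = χ(E) − r·χ(O_X); semistable: every finite locally free submodule of positive rank has
degree ≤ 0) and there exist a finite locally free module G which is finite in the sense of Weil —
P(G) ≅ Q(G) for two distinct polynomials P ≠ Q with natural-number coefficients, where P(G) is the
direct sum over i of P_i copies of G^{⊗ i} — and sub-bundles F₂ ⊆ F₁ ⊆ G (monomorphisms F₂ → F₁ → G
whose cokernels are finite locally free), with F₁ and F₂ slope-semistable of degree 0, such that E ≅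
F₁/F₂. If E₁ of rank r₁ and E₂ of rank r₂ are essentially finite, then E₁ ⊗ E₂ is finite locally
free of rank r₁ r₂ and essentially finite. (The predicate is written out in full three times; the
curve is smooth, proper and integral of dimension one over an algebraically closed field, so
slope-semistability has its usual meaning.) -/
theorem result (k : Type u) [Field k] [IsAlgClosed k] (X : Scheme.{u}) [X.Over (Spec (CommRingCat.of k))]
    [IsIntegral X] [IsProper (X ↘ Spec (CommRingCat.of k))] [Smooth (X ↘ Spec (CommRingCat.of k))]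
    (hdim : topologicalKrullDim X = 1)
    (r₁ r₂ : ℕ) (E₁ E₂ : X.Modules) (hE₁ : FlatMod.IsFinLocFreeOfRank r₁ E₁) (hE₂ : FlatMod.IsFinLocFreeOfRank r₂ E₂)
    (h₁ : (Curv2.deg k X E₁ r₁ = 0 ∧ ModFun.IsSlopeSemistable k X E₁ r₁ ∧
      ∃ (s : ℕ) (G : X.Modules) (s₁ : ℕ) (F₁ : X.Modules) (s₂ : ℕ) (F₂ : X.Modules) (i₁ : F₁ ⟶ G) (i₂ : F₂ ⟶ F₁),
        FlatMod.IsFinLocFreeOfRank s G ∧
        (∃ P Q : Polynomial ℕ, P ≠ Q ∧ Nonempty ((∐ fun i : Fin (P.natDegree + 1) => ∐ fun _ : Fin (P.coeff ↑i) => CohB1.tensorPow G ↑i) ≅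
          (∐ fun i : Fin (Q.natDegree + 1) => ∐ fun _ : Fin (Q.coeff ↑i) => CohB1.tensorPow G ↑i))) ∧
        FlatMod.IsFinLocFreeOfRank s₁ F₁ ∧ FlatMod.IsFinLocFreeOfRank s₂ F₂ ∧ Mono i₁ ∧ Mono i₂ ∧
        FlatMod.IsFinLocFree (cokernel i₁) ∧ FlatMod.IsFinLocFree (cokernel i₂) ∧
        Curv2.deg k X F₁ s₁ = 0 ∧ ModFun.IsSlopeSemistable k X F₁ s₁ ∧
        Curv2.deg k X F₂ s₂ = 0 ∧ ModFun.IsSlopeSemistable k X F₂ s₂ ∧
        Nonempty (E₁ ≅ cokernel i₂)))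
    (h₂ : (Curv2.deg k X E₂ r₂ = 0 ∧ ModFun.IsSlopeSemistable k X E₂ r₂ ∧
      ∃ (s : ℕ) (G : X.Modules) (s₁ : ℕ) (F₁ : X.Modules) (s₂ : ℕ) (F₂ : X.Modules) (i₁ : F₁ ⟶ G) (i₂ : F₂ ⟶ F₁),
        FlatMod.IsFinLocFreeOfRank s G ∧
        (∃ P Q : Polynomial ℕ, P ≠ Q ∧ Nonempty ((∐ fun i : Fin (P.natDegree + 1) => ∐ fun _ : Fin (P.coeff ↑i) => CohB1.tensorPow G ↑i) ≅
          (∐ fun i : Fin (Q.natDegree + 1) => ∐ fun _ : Fin (Q.coeff ↑i) => CohB1.tensorPow G ↑i))) ∧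
        FlatMod.IsFinLocFreeOfRank s₁ F₁ ∧ FlatMod.IsFinLocFreeOfRank s₂ F₂ ∧ Mono i₁ ∧ Mono i₂ ∧
        FlatMod.IsFinLocFree (cokernel i₁) ∧ FlatMod.IsFinLocFree (cokernel i₂) ∧
        Curv2.deg k X F₁ s₁ = 0 ∧ ModFun.IsSlopeSemistable k X F₁ s₁ ∧
        Curv2.deg k X F₂ s₂ = 0 ∧ ModFun.IsSlopeSemistable k X F₂ s₂ ∧
        Nonempty (E₂ ≅ cokernel i₂))) :
    FlatMod.IsFinLocFreeOfRank (r₁ * r₂) (CohB1.tensorMod E₁ E₂) ∧
    (Curv2.deg k X (CohB1.tensorMod E₁ E₂) (r₁ * r₂) = 0 ∧ ModFun.IsSlopeSemistable k X (CohB1.tensorMod E₁ E₂) (r₁ * r₂) ∧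
      ∃ (s : ℕ) (G : X.Modules) (s₁ : ℕ) (F₁ : X.Modules) (s₂ : ℕ) (F₂ : X.Modules) (i₁ : F₁ ⟶ G) (i₂ : F₂ ⟶ F₁),
        FlatMod.IsFinLocFreeOfRank s G ∧
        (∃ P Q : Polynomial ℕ, P ≠ Q ∧ Nonempty ((∐ fun i : Fin (P.natDegree + 1) => ∐ fun _ : Fin (P.coeff ↑i) => CohB1.tensorPow G ↑i) ≅
          (∐ fun i : Fin (Q.natDegree + 1) => ∐ fun _ : Fin (Q.coeff ↑i) => CohB1.tensorPow G ↑i))) ∧
        FlatMod.IsFinLocFreeOfRank s₁ F₁ ∧ FlatMod.IsFinLocFreeOfRank s₂ F₂ ∧ Mono i₁ ∧ Mono i₂ ∧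
        FlatMod.IsFinLocFree (cokernel i₁) ∧ FlatMod.IsFinLocFree (cokernel i₂) ∧
        Curv2.deg k X F₁ s₁ = 0 ∧ ModFun.IsSlopeSemistable k X F₁ s₁ ∧
        Curv2.deg k X F₂ s₂ = 0 ∧ ModFun.IsSlopeSemistable k X F₂ s₂ ∧
        Nonempty ((CohB1.tensorMod E₁ E₂) ≅ cokernel i₂)) := by
  have hX : GoodCurve k X := goodCurve_of_smooth hdim
  haveI := hX.isLocallyNoetherian
  obtain ⟨hd₁, -, s, G, a₁, F₁, a₂, F₂, i₁, i₂, hG, hwG, hF₁, hF₂, hi₁, hi₂, -, hQ, hdF₁, -, -, -, ⟨e⟩⟩ := h₁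
  obtain ⟨hd₂, -, s', G', b₁, F₁', b₂, F₂', j₁, j₂, hG', hwG', hF₁', hF₂', hj₁, hj₂, -, hQ', hdF₁', -, -, -, ⟨e'⟩⟩ := h₂
  haveI := hi₁
  haveI := hj₁
  have fG := isFinLocFree_of_ofRank hG
  have fG' := isFinLocFree_of_ofRank hG'
  have fF := isFinLocFree_of_ofRank hF₁
  have fF' := isFinLocFree_of_ofRank hF₁'
  have fE₁ := isFinLocFree_of_ofRank hE₁
  have fE₂ := isFinLocFree_of_ofRank hE₂
  let A := CohB1.tensorMod F₁ F₁'
  let B := CohB1.tensorMod G G'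
  let Q := CohB1.tensorMod E₁ E₂
  have fA : FlatMod.IsFinLocFree A := KFlat.TensorLocFree.isFinLocFree_tensM fF fF'
  have fB : FlatMod.IsFinLocFree B := KFlat.TensorLocFree.isFinLocFree_tensM fG fG'
  have fQ : FlatMod.IsFinLocFree Q := KFlat.TensorLocFree.isFinLocFree_tensM fE₁ fE₂
  have gB := ((WeilFin27.weilFinite_iff k fG).1 hwG).tens ((WeilFin27.weilFinite_iff k fG').1 hwG')
  have zB : Z0 k B := ⟨WeilFin27.dg_eq_zero hX fB gB, fun H i hi hH => by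
    haveI := hi
    exact WeilFin27.dg_le_zero hX fB gB i hH⟩
  have dA : dg k A = 0 := dg_tens_zero hX fF fF' (by rw [← dg_eq hF₁]; exact hdF₁) (by rw [← dg_eq hF₁']; exact hdF₁')
  have dQ : dg k Q = 0 := dg_tens_zero hX fE₁ fE₂ (by rw [← dg_eq hE₁]; exact hd₁) (by rw [← dg_eq hE₂]; exact hd₂)
  let i : A ⟶ B := ((DCoh.tensorBi (X := X)).flip.obj F₁').map i₁ ≫ ((DCoh.tensorBi (X := X)).obj G).map j₁
  haveI : Mono i := @mono_comp _ _ _ _ _ _ (WeilFin27.mono_tens_right fF' i₁) _ (WeilFin27.mono_tens_left fG j₁)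
  let p : F₁ ⟶ E₁ := cokernel.π i₂ ≫ e.inv
  let p' : F₁' ⟶ E₂ := cokernel.π j₂ ≫ e'.inv
  let g : A ⟶ Q := ((DCoh.tensorBi (X := X)).flip.obj F₁').map p ≫ ((DCoh.tensorBi (X := X)).obj E₁).map p'
  haveI : Epi g := @epi_comp _ _ _ _ _ _ (epi_tens fF' p).2 _ (epi_tens fE₁ p').1
  exact build hX (r := r₁ * r₂) fA fB fQ (hQr := (VBHom27.rk_tens fE₁ fE₂).2.trans
    (by rw [rk_eq hE₁, rk_eq hE₂])) ((WeilFin27.weilFinite_iff k fB).2 gB) zB dA dQ i g

end Groth.Agent.S19482
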