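import Groth.Statements.S19484
import Groth.Agent.S19483
import Groth.Agent.GalCohAux.EtTorsion
import Groth.Agent.EtConsAb.Gen
-- import your own Groth.Agent.* helpers here

set_option autoImplicit false
universe u
open CategoryTheory CategoryTheory.Limits AlgebraicGeometry
open Curves

namespace Groth.Agent.S19484

set_option linter.style.haveILetI false

open Abelian in
/-- in a short exact sequence, cohomology does not see a term with vanishing cohomology -/
theorem comp_bijective_of_sub {A : Type*} [Category A] [Abelian A] [HasExt.{u + 1} A] (P : A)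
    {S : ShortComplex A} (hS : S.ShortExact) (q : ℕ) (h₁ : Subsingleton (Ext P S.X₁ q))
    (h₂ : Subsingleton (Ext P S.X₁ (q + 1))) :
    Function.Bijective (fun x : Ext P S.X₂ q => x.comp (Ext.mk₀ S.g) (add_zero q)) := by
  refine ⟨fun x y hxy => sub_eq_zero.1 ?_, fun z => ?_⟩
  · have h : (x - y).comp (Ext.mk₀ S.g) (add_zero q) = 0 := by
      rw [sub_eq_add_neg, Ext.add_comp, Ext.neg_comp]
      exact add_neg_eq_zero.2 hxy
    obtain ⟨w, hw⟩ := Ext.covariant_sequence_exact₂ P hS (x - y) h
    rw [← hw, h₁.elim w 0, Ext.zero_comp]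
  · exact Ext.covariant_sequence_exact₃ P hS z (rfl : q + 1 = q + 1) (h₂.elim _ 0)

open Abelian in
theorem comp_bijective_of_quot {A : Type*} [Category A] [Abelian A] [HasExt.{u + 1} A] (P : A)
    {S : ShortComplex A} (hS : S.ShortExact) (q : ℕ) (h₁ : Subsingleton (Ext P S.X₃ q))
    (h₂ : Subsingleton (Ext P S.X₃ (q + 1))) :
    Function.Bijective (fun x : Ext P S.X₁ (q + 1) => x.comp (Ext.mk₀ S.f) (add_zero (q + 1))) := by
  refine ⟨fun x y hxy => sub_eq_zero.1 ?_, fun z => ?_⟩
  · have h : (x - y).comp (Ext.mk₀ S.f) (add_zero (q + 1)) = 0 := by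
      rw [sub_eq_add_neg, Ext.add_comp, Ext.neg_comp]
      exact add_neg_eq_zero.2 hxy
    obtain ⟨w, hw⟩ := Ext.covariant_sequence_exact₁ P hS (x - y) h (rfl : q + 1 = q + 1)
    rw [← hw, h₁.elim w 0, Ext.zero_comp]
  · exact Ext.covariant_sequence_exact₂ P hS z (h₂.elim _ 0)

theorem isTorsion_of_epi {X : Scheme.{u}} {F G : EtCoh.Ab X} (π : F ⟶ G) [Epi π]
    (hF : EtCoh.IsTorsion F) : EtCoh.IsTorsion G := by
  refine GalCohAux.EtTorsion.isTorsion_of_stalk fun Ω _ _ ξ p => ?_
  obtain ⟨a, rfl⟩ := (AddCommGrpCat.epi_iff_surjective ((EtCoh.stalk ξ).map π)).1 inferInstance p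
  exact ((EtCoh.stalk ξ).map π).hom.isOfFinAddOrder
    (GalCohAux.EtTorsion.isOfFinAddOrder_stalk hF ξ a)

/-- Let k be a separably closed field and C a curve over k, that is a scheme of finite type over k of
dimension at most one (no connectedness, smoothness, separatedness or properness assumed). Let φ : F
→ G be a morphism of torsion abelian sheaves on the small étale site of C which induces an
isomorphism on stalks at every geometric point of C lying over a generic point of an irreducible
component (a point admitting no proper generalization). Then the induced map H^q(C_ét, F) →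
H^q(C_ét, G) is an isomorphism for all q > 1; if moreover φ is an epimorphism, it is an isomorphism
for q = 1 as well. (The published statement fixes one geometric point over each generic point; the
dimension is taken at most one here.) -/
theorem result
    (k : Type u) [Field k] [IsSepClosed k] (C : Scheme.{u})
    (f : C ⟶ Spec (CommRingCat.of k)) [LocallyOfFiniteType f] [QuasiCompact f]
    (hdim : topologicalKrullDim C ≤ 1) (F G : EtCoh.Ab C) (hF : EtCoh.IsTorsion F) (hG : EtCoh.IsTorsion G)
    (φ : F ⟶ G)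
    (hgen : ∀ (Ω : Type u) [Field Ω] [IsSepClosed Ω] (ξ : Spec (CommRingCat.of Ω) ⟶ C),
      (∀ x ∈ Set.range ξ.base, ∀ y : C, y ⤳ x → y = x) → IsIso ((EtCoh.stalk ξ).map φ)) :
    (∀ q : ℕ, 1 < q → IsIso ((EtCoh.HF C q).map φ)) ∧ (Epi φ → IsIso ((EtCoh.HF C 1).map φ)) := by
  let S₁ : ShortComplex (EtCoh.Ab C) :=
    ShortComplex.mk (kernel.ι φ) (Abelian.factorThruImage φ)
      (by rw [← cancel_mono (Abelian.image.ι φ), Category.assoc, Abelian.image.fac, kernel.condition,
        zero_comp])
  let S₂ : ShortComplex (EtCoh.Ab C) :=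
    ShortComplex.mk (Abelian.image.ι φ) (cokernel.π φ) (kernel.condition _)
  have hS₁ : S₁.ShortExact :=
    { exact := ShortComplex.exact_of_f_is_kernel _ (KernelFork.IsLimit.ofι _ _
        (fun k hk => kernel.lift φ k
          (by rw [← Abelian.image.fac φ, ← Category.assoc, hk, zero_comp]))
        (fun k hk => kernel.lift_ι _ _ _)
        (fun k hk m hm => by
          rw [← cancel_mono (kernel.ι φ), kernel.lift_ι]; exact hm))
      mono_f := inferInstanceAs (Mono (kernel.ι φ))
      epi_g := inferInstanceAs (Epi (Abelian.factorThruImage φ)) }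
  have hS₂ : S₂.ShortExact :=
    { exact := ShortComplex.exact_of_f_is_kernel _ (kernelIsKernel (cokernel.π φ))
      mono_f := inferInstanceAs (Mono (Abelian.image.ι φ))
      epi_g := inferInstanceAs (Epi (cokernel.π φ)) }
  have hker : ∀ q, 0 < q → Subsingleton (EtCoh.H C (kernel φ) q) := fun q hq =>
    S19483.result k C f hdim _ (EtConsAb.isTorsion_of_mono (kernel.ι φ) hF)
      (fun Ω _ _ ξ hξ => by
        haveI := hgen Ω ξ hξ
        exact IsZero.of_iso (isZero_kernel_of_mono ((EtCoh.stalk ξ).map φ))
          (PreservesKernel.iso (EtCoh.stalk ξ) φ)) q hq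
  have hcok : ∀ q, 0 < q → Subsingleton (EtCoh.H C (cokernel φ) q) := fun q hq =>
    S19483.result k C f hdim _ (isTorsion_of_epi (cokernel.π φ) hG)
      (fun Ω _ _ ξ hξ => by
        haveI := hgen Ω ξ hξ
        exact IsZero.of_iso (isZero_cokernel_of_epi ((EtCoh.stalk ξ).map φ))
          (PreservesCokernel.iso (EtCoh.stalk ξ) φ)) q hq
  have hfac : φ = S₁.g ≫ S₂.f := (Abelian.image.fac φ).symm
  have h₁ : ∀ q, 0 < q → IsIso ((EtCoh.HF C q).map S₁.g) := fun q hq => by
    rw [ConcreteCategory.isIso_iff_bijective]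
    exact comp_bijective_of_sub _ hS₁ q (hker q hq) (hker (q + 1) q.succ_pos)
  refine ⟨fun q hq => ?_, fun _ => ?_⟩
  · haveI := h₁ q (by omega)
    obtain ⟨r, rfl⟩ : ∃ r, q = r + 1 := ⟨q - 1, by omega⟩
    haveI : IsIso ((EtCoh.HF C (r + 1)).map S₂.f) := by
      rw [ConcreteCategory.isIso_iff_bijective]
      exact comp_bijective_of_quot _ hS₂ r (hcok r (by omega)) (hcok (r + 1) r.succ_pos)
    rw [hfac, Functor.map_comp]
    infer_instance
  · haveI := h₁ 1 one_pos
    haveI : IsIso S₂.f := inferInstanceAs (IsIso (Abelian.image.ι φ))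
    rw [hfac, Functor.map_comp]
    infer_instance

end Groth.Agent.S19484
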