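import Groth.Statements.S19485
import Mathlib
import Groth.Agent.Crimp71.RootDisk
import Groth.Agent.Crimp71.Basic
-- import your own Groth.Agent.* helpers here

set_option autoImplicit false
universe u
open Crimp

namespace Groth.Agent.S19485

/-- The criterion for closedness under multiplication on which the description of the stratum rests.
Over R = k⟦t⟧ with k an algebraically closed field of characteristic zero, let S̃ = k⟦x⟧ regarded as
an R-algebra through t ↦ x ^ 3, that is S̃ = R[x] / (x ^ 3 - t). Let m, n be natural numbers with m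
not divisible by 3, and let g be a power series with nonzero constant term. Then the R-submodule of
S̃ spanned by 1 and x ^ m g together with the ideal x ^ n S̃ is closed under multiplication if and
only if n ≤ 2m. (The published proposition goes on to describe the stratum of crimps with these
invariants as irreducible of dimension ⌊(n - m)/3⌋ with a normal form for g; only the closedness
criterion is stated here.) -/
theorem result {k : Type u} [Field k] [IsAlgClosed k] [CharZero k]
    (m n : ℕ) (hm : ¬ 3 ∣ m) (x g : W4c1hurwitzcpt.RootDisk 3 k)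
    (hx : W4c1hurwitzcpt.RootDisk.val x = PowerSeries.X) (hg : PowerSeries.order (W4c1hurwitzcpt.RootDisk.val g) = 0)
    (M : Submodule (PowerSeries k) (W4c1hurwitzcpt.RootDisk 3 k))
    (hM : M = Submodule.span (PowerSeries k) {1, x ^ m * g} ⊔
      (Ideal.span {x ^ n} : Ideal (W4c1hurwitzcpt.RootDisk 3 k)).restrictScalars (PowerSeries k)) :
    (∀ a ∈ M, ∀ b ∈ M, a * b ∈ M) ↔ n ≤ 2 * m := by
  rw [Groth.Agent.Crimp71.mul_closed_iff (x ^ m * g)
    ((Ideal.span {x ^ n} : Ideal (W4c1hurwitzcpt.RootDisk 3 k)).restrictScalars (PowerSeries k)) M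
    (fun a z hz => Ideal.mul_mem_left _ a hz) hM, hM]
  refine ⟨fun h => ?_, fun h => Submodule.mem_sup_right ?_⟩
  · by_contra hlt
    obtain ⟨z, hz, w, hw, e⟩ := Submodule.mem_sup.1 h
    obtain ⟨a, b, rfl⟩ := Submodule.mem_span_pair.1 hz
    obtain ⟨c, rfl⟩ := Ideal.mem_span_singleton.1 hw
    have e' := congrArg W4c1hurwitzcpt.RootDisk.val e
    simp only [map_add, map_mul, map_pow, map_one, hx, Groth.Agent.Crimp71.val_smul, mul_one] at e'
    refine Groth.Agent.Crimp71.not_sq_eq m n hm (by omega) a b _ _ ?_ (Or.inr ?_) e'.symm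
    · intro h0
      exact PowerSeries.order_ne_zero_iff_constCoeff_eq_zero.2 h0 hg
    · exact fun hd => hm ((Nat.Coprime.dvd_of_dvd_mul_left (by norm_num) hd))
  · exact Ideal.mem_span_singleton.2 ⟨x ^ (2 * m - n) * (g * g), by
      rw [← mul_assoc (x ^ n), ← pow_add, Nat.add_sub_cancel' h]; ring⟩


end Groth.Agent.S19485
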