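import Groth.Statements.S19486
import Mathlib
import Groth.Agent.Crimp71.RootDisk
-- import your own Groth.Agent.* helpers here

set_option autoImplicit false
universe u
open Crimp

namespace Groth.Agent.S19486

/-- The emptiness of the stratum rests on the following computation. Over R = k⟦t⟧ with k an
algebraically closed field of characteristic zero, let S̃ = S̃₁ × R where S̃₁ = k⟦x⟧ is regarded as
an R-algebra through t ↦ x ^ 2, that is S̃₁ = R[x] / (x ^ 2 - t), with R embedded diagonally in the
product. Let m be odd, n > 2m, and let g be a power series with nonzero constant term. Then the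
R-submodule of S̃ spanned by 1 = (1, 1) and (x ^ m g, 0) together with the ideal x ^ n S̃₁ × 0 is
not closed under multiplication. (The published item concludes that the corresponding stratum of
crimps is empty; only this computation is stated here, with the ideal read as x ^ n S̃₁ × 0.) -/
theorem result {k : Type u} [Field k] [IsAlgClosed k] [CharZero k]
    (m n : ℕ) (hm : Odd m) (hmn : 2 * m < n) (x g : W4c1hurwitzcpt.RootDisk 2 k)
    (hx : W4c1hurwitzcpt.RootDisk.val x = PowerSeries.X) (hg : PowerSeries.order (W4c1hurwitzcpt.RootDisk.val g) = 0)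
    (M : Submodule (PowerSeries k) (W4c1hurwitzcpt.RootDisk 2 k × PowerSeries k))
    (hM : M = Submodule.span (PowerSeries k) {(1 : W4c1hurwitzcpt.RootDisk 2 k × PowerSeries k), (x ^ m * g, 0)} ⊔
      ((Ideal.span {x ^ n} : Ideal (W4c1hurwitzcpt.RootDisk 2 k)).restrictScalars (PowerSeries k)).prod ⊥) :
    ∃ a ∈ M, ∃ b ∈ M, a * b ∉ M := by
  have hmem : ((x ^ m * g, 0) : W4c1hurwitzcpt.RootDisk 2 k × PowerSeries k) ∈ M :=
    hM ▸ Submodule.mem_sup_left (Submodule.subset_span (by simp))
  refine ⟨_, hmem, _, hmem, fun h => ?_⟩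
  rw [hM] at h
  obtain ⟨z, hz, w, hw, e⟩ := Submodule.mem_sup.1 h
  obtain ⟨a, b, rfl⟩ := Submodule.mem_span_pair.1 hz
  obtain ⟨hw1, hw2⟩ := Submodule.mem_prod.1 hw
  obtain ⟨c, hc⟩ := Ideal.mem_span_singleton.1 hw1
  rw [Submodule.mem_bot] at hw2
  obtain ⟨e1, e2⟩ := Prod.ext_iff.1 e
  simp [hw2] at e1 e2
  rw [e2, zero_smul, zero_add, hc] at e1
  have e' := congrArg W4c1hurwitzcpt.RootDisk.val e1
  simp only [map_add, map_mul, map_pow, hx, Groth.Agent.Crimp71.val_smul] at e'
  refine Groth.Agent.Crimp71.not_sq_eq m n (fun hd => ?_) hmn 0 b _ _ ?_ (Or.inl rfl) (e'.symm.trans (by simp; rfl))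
  · exact (Nat.not_even_iff_odd.2 hm) (even_iff_two_dvd.2 hd)
  · intro h0
    exact PowerSeries.order_ne_zero_iff_constCoeff_eq_zero.2 h0 hg


end Groth.Agent.S19486
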