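import Groth.Statements.S19487
import Mathlib
import Groth.Agent.Count86.Bounded

set_option autoImplicit false
open W4c1frobunstiva

namespace Groth.Agent.S19487

open Finset Polynomial

theorem coeff_linear_pow {T : Type*} [CommSemiring T] (u v : T) (n D : ℕ) :
    ((Polynomial.C u * Polynomial.X + Polynomial.C v) ^ n).coeff D =
      (n.choose D : T) * (u ^ D * v ^ (n - D)) := by
  classical
  rw [add_pow, Polynomial.finsetSum_coeff]
  have : ∀ k, ((Polynomial.C u * Polynomial.X) ^ k * Polynomial.C v ^ (n - k) *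
      (n.choose k : T[X])).coeff D =
      if D = k then (n.choose k : T) * (u ^ k * v ^ (n - k)) else 0 := by
    intro k
    rw [show (Polynomial.C u * Polynomial.X) ^ k * Polynomial.C v ^ (n - k) *
        (n.choose k : T[X]) =
        Polynomial.C ((n.choose k : T) * (u ^ k * v ^ (n - k))) * Polynomial.X ^ k by
      simp only [map_mul, map_pow, map_natCast]; ring]
    rw [Polynomial.coeff_C_mul_X_pow]
  rw [sum_congr rfl fun k _ => this k, sum_ite_eq]
  split_ifs with hD
  · rfl
  · rw [Nat.choose_eq_zero_of_lt (by simpa using hD)]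
    simp

theorem aux (h n s D : ℕ) :
    Fintype.card {e : Fin n → Fin (2 * h + 1) // (∀ i, 1 ≤ (e i : ℕ)) ∧ ∑ i, (e i : ℕ) = s ∧
        (Finset.univ.filter fun i => 2 * (e i : ℕ) < 2 * h + 1).card = D} =
      n.choose D *
        ((∑ a ∈ Icc 1 h, (X : ℕ[X]) ^ a) ^ D *
          (X ^ h * ∑ a ∈ Icc 1 h, (X : ℕ[X]) ^ a) ^ (n - D)).coeff s := by
  classical
  set A : ℕ[X] := ∑ a ∈ Icc 1 h, X ^ a with hA
  set w : ℕ → ℕ[X][X] := fun a =>
    if 2 * a < 2 * h + 1 then Polynomial.C ((X : ℕ[X]) ^ a) * Polynomial.X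
    else Polynomial.C ((X : ℕ[X]) ^ a) with hw
  have hsum : ∑ a ∈ Icc 1 (2 * h + 1 - 1), w a =
      Polynomial.C A * Polynomial.X + Polynomial.C (X ^ h * A) := by
    rw [Nat.add_sub_cancel]
    have hu : Icc 1 (2 * h) = Icc 1 h ∪ Icc (h + 1) (2 * h) := by
      ext a; simp only [mem_Icc, mem_union]; omega
    have hd : Disjoint (Icc 1 h) (Icc (h + 1) (2 * h)) := by
      rw [Finset.disjoint_left]; intro a; simp only [mem_Icc]; omega
    rw [hu, sum_union hd]
    congr 1
    · rw [hA, map_sum, sum_mul]
      refine sum_congr rfl fun a ha => ?_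
      simp only [mem_Icc] at ha
      simp only [hw]
      rw [if_pos (by omega)]
    · rw [hA, mul_sum, map_sum]
      refine sum_bij (fun a _ => a - h) ?_ ?_ ?_ ?_
      · intro a ha; simp only [mem_Icc] at ha ⊢; omega
      · intro a ha b hb hab; simp only [mem_Icc] at ha hb; omega
      · intro b hb
        simp only [mem_Icc] at hb
        exact ⟨b + h, by simp only [mem_Icc]; omega, by omega⟩
      · intro a ha
        simp only [mem_Icc] at ha
        simp only [hw]
        rw [if_neg (by omega), ← pow_add, Nat.add_sub_cancel' (by omega)]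
  have hpow := Groth.Agent.Count86.sum_pow_pos (2 * h + 1) n w
  rw [hsum] at hpow
  have hprod : ∀ e : Fin n → Fin (2 * h + 1), ∏ i, w (e i) =
      Polynomial.C ((X : ℕ[X]) ^ (∑ i, (e i : ℕ))) *
        Polynomial.X ^ (Finset.univ.filter fun i => 2 * (e i : ℕ) < 2 * h + 1).card := by
    intro e
    rw [← prod_pow_eq_pow_sum, map_prod, ← Finset.prod_const (Polynomial.X : ℕ[X][X]), prod_filter, ← prod_mul_distrib]
    refine prod_congr rfl fun i _ => ?_
    simp only [hw]
    split_ifs <;> simp
  have key := congrArg (fun q : ℕ[X][X] => (q.coeff D).coeff s) hpow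
  simp only [hprod, Polynomial.finsetSum_coeff, Polynomial.coeff_C_mul_X_pow] at key
  rw [Fintype.card_subtype, card_filter]
  have hlhs : ((Polynomial.C A * Polynomial.X + Polynomial.C (X ^ h * A)) ^ n).coeff D =
      (n.choose D : ℕ[X]) * (A ^ D * (X ^ h * A) ^ (n - D)) := by
    exact coeff_linear_pow A (X ^ h * A) n D
  rw [hlhs] at key
  rw [Polynomial.coeff_natCast_mul, Nat.cast_id] at key
  rw [key, sum_filter]
  refine sum_congr rfl fun e _ => ?_
  by_cases h1 : ∀ i, 1 ≤ (e i : ℕ)
  · simp only [h1, implies_true, true_and, if_true]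
    simp only [apply_ite (fun q : ℕ[X] => q.coeff s), Polynomial.coeff_X_pow, Polynomial.coeff_zero,
      eq_comm (a := s), eq_comm (a := D)]
    split_ifs <;> simp_all
  · simp [h1]


/-- The second formula. For p odd and natural numbers n, s, write N_p(n, s) for the number of monomials
of degree s in n variables in which every variable occurs with a positive exponent strictly less
than p, that is of exponent vectors (e_1, …, e_n) with sum s and 1 ≤ e_i ≤ p − 1, and N_p^D(n, s)
for the number of those in which exactly D variables occur with exponent less than p/2. Then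
N_p^D(n, s) = C(n, D) · Σ_j N_{(p+1)/2}(D, j) · N_{(p+1)/2}(n − D, s − j − (n − D)(p − 1)/2), the
sum running over 0 ≤ j ≤ s. (Natural-number subtraction is used in the last argument; when it
truncates and n > D the factor vanishes, as it should. The published setting has p an odd prime;
only p odd is used. The companion inclusion–exclusion expression for N_p(n, s) itself is a separate
statement.) -/
theorem result (p n s D : ℕ) (hp : Odd p) :
    Fintype.card {e : Fin n → Fin p // (∀ i, 1 ≤ (e i : ℕ)) ∧ ∑ i, (e i : ℕ) = s ∧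
        (Finset.univ.filter fun i => 2 * (e i : ℕ) < p).card = D} =
      n.choose D * ∑ j ∈ Finset.range (s + 1),
        Fintype.card {e : Fin D → Fin ((p + 1) / 2) // (∀ i, 1 ≤ (e i : ℕ)) ∧ ∑ i, (e i : ℕ) = j} *
          Fintype.card {e : Fin (n - D) → Fin ((p + 1) / 2) // (∀ i, 1 ≤ (e i : ℕ)) ∧ ∑ i, (e i : ℕ) = (s - j - (n - D) * ((p - 1) / 2))} := by
  classical
  obtain ⟨h, rfl⟩ := hp
  rw [aux]
  congr 1
  have e1 : (2 * h + 1 + 1) / 2 = h + 1 := by omega
  have e2 : (2 * h + 1 - 1) / 2 = h := by omega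
  rw [e1, e2]
  set A : ℕ[X] := ∑ a ∈ Finset.Icc 1 h, X ^ a with hA
  have hcard : ∀ m j, Fintype.card
      {e : Fin m → Fin (h + 1) // (∀ i, 1 ≤ (e i : ℕ)) ∧ ∑ i, (e i : ℕ) = j} =
      (A ^ m).coeff j := by
    intro m j
    have := Groth.Agent.Count86.card_eq_coeff (T := ℕ) (h + 1) m j
    simpa [hA] using this
  simp only [hcard]
  have hre : A ^ D * (X ^ h * A) ^ (n - D) = X ^ ((n - D) * h) * (A ^ D * A ^ (n - D)) := by
    rw [mul_pow, ← pow_mul, mul_comm (n - D) h]; ring
  rw [hre, Polynomial.coeff_X_pow_mul']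
  have hA0 : ∀ m, m ≠ 0 → (A ^ m).coeff 0 = 0 := by
    intro m hm
    rw [Polynomial.coeff_zero_eq_eval_zero, Polynomial.eval_pow]
    have : A.eval 0 = 0 := by
      simp only [hA, Polynomial.eval_finsetSum, Polynomial.eval_pow, Polynomial.eval_X]
      exact Finset.sum_eq_zero fun a ha => zero_pow (by simp only [Finset.mem_Icc] at ha; omega)
    rw [this, zero_pow hm]
  generalize hK : (n - D) * h = K
  have hK0 : n - D = 0 → K = 0 := fun h0 => by rw [← hK, h0, zero_mul]
  split_ifs with hle
  · rw [Polynomial.coeff_mul, Finset.Nat.sum_antidiagonal_eq_sum_range_succ_mk]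
    simp only [Nat.sub_sub, add_comm _ K]
    refine Finset.sum_subset ?_ ?_
    · intro j hj
      simp only [Finset.mem_range] at hj ⊢
      omega
    · intro j hj hj'
      simp only [Finset.mem_range] at hj hj'
      have h0 : s - (K + j) = 0 := by omega
      rw [h0, hA0 (n - D) ?_, mul_zero]
      intro hnd
      have := hK0 hnd
      omega
  · symm
    refine Finset.sum_eq_zero fun j _ => ?_
    have h0 : s - j - K = 0 := by omega
    rw [h0, hA0 (n - D) ?_, mul_zero]
    intro hnd
    have := hK0 hnd
    omega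

end Groth.Agent.S19487
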