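import Groth.Statements.S19488
import Mathlib

set_option autoImplicit false
universe u
open CategoryTheory CategoryTheory.Limits AlgebraicGeometry
open W4c1frobunstiva

namespace Groth.Agent.S19488

open CategoryTheory CategoryTheory.Limits AlgebraicGeometry

theorem faithful_push {S T : Scheme.{u}} (f : S ⟶ T) [IsClosedImmersion f] :
    (Scheme.Modules.pushforward f).Faithful where
  map_injective {M N} a b hab := by
    refine Scheme.Modules.hom_ext a b fun V => ?_
    obtain ⟨U, hU, hUV⟩ := f.isClosedEmbedding.isInducing.isOpen_iff.1 V.2
    have hV : f ⁻¹ᵁ ⟨U, hU⟩ = V := TopologicalSpace.Opens.ext hUV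
    subst hV
    rw [← Scheme.Modules.pushforward_map_app f a, ← Scheme.Modules.pushforward_map_app f b, hab]

theorem kernelComparison_epi {C D : Type*} [Category C] [Abelian C] [Category D] [Abelian D]
    (F : C ⥤ D) [F.PreservesZeroMorphisms] [PreservesColimitsOfSize.{0, 0} F] {X Y : C} (g : X ⟶ Y)
    [Epi g] : Epi (kernelComparison g F) := by
  let S := ShortComplex.mk (kernel.ι g) g (kernel.condition g)
  have hS : S.Exact := ShortComplex.exact_of_f_is_kernel _ (kernelIsKernel g)
  haveI : Epi S.g := inferInstanceAs (Epi g)
  have hc := hS.gIsCokernel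
  have hc' := CokernelCofork.mapIsColimit _ hc F
  have hS' : (S.map F).Exact := ShortComplex.exact_of_g_is_cokernel _ hc'
  exact hS'.epi_kernelLift


/-- Fix a closed immersion of schemes f : S → T, an O_T-module G, an O_S-module E and an epimorphism ψ :
G → f_*E. Then the morphism ψ′ : f^*G → E that corresponds to ψ under the adjunction between
pullback and pushforward (it is the pullback f^*ψ followed by the counit f^*f_*E → E, an isomorphism
for a closed immersion) is an epimorphism, and the canonical map f^*(ker ψ) → ker(f^*ψ) is an
epimorphism. (The published statement takes G and E locally free, which these two assertions do not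
use.) -/
theorem result
    {S T : Scheme.{u}} (f : S ⟶ T) [IsClosedImmersion f] (G : T.Modules) (E : S.Modules)
    (ψ : G ⟶ (Scheme.Modules.pushforward f).obj E) [Epi ψ] :
    Epi (((Scheme.Modules.pullbackPushforwardAdjunction f).homEquiv G E).symm ψ) ∧
      Epi (kernelComparison ψ (Scheme.Modules.pullback f)) := by
  haveI := faithful_push f
  let adj := Scheme.Modules.pullbackPushforwardAdjunction f
  haveI : (Scheme.Modules.pullback f).IsLeftAdjoint := adj.isLeftAdjoint
  haveI : PreservesColimitsOfSize.{0, 0} (Scheme.Modules.pullback f) :=
    adj.leftAdjoint_preservesColimits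
  refine ⟨?_, kernelComparison_epi _ ψ⟩
  rw [adj.homEquiv_counit]
  haveI : Epi ((Scheme.Modules.pullback f).map ψ) := inferInstance
  exact epi_comp _ _

end Groth.Agent.S19488
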