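import Groth.Statements.S19492
import Groth.Agent.WDivLib.ProjChart
import Groth.Agent.Props.AmpleTwist
import Groth.Agent.AmpleLib.Functorial
import Groth.Agent.NormNormal.Rel
import Groth.Agent.S9675
import Groth.Agent.S0566
import Groth.Agent.S2330
import Groth.Agent.ProjProper.Basic
import Groth.Agent.ProperFin.PnBase
import Groth.Agent.BCPoint.DeltaLe
import Mathlib.AlgebraicGeometry.ZariskisMainTheorem

set_option autoImplicit false
universe u
open CategoryTheory CategoryTheory.Limits AlgebraicGeometry
open Variety TopologicalSpace Opposite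
open Groth.Agent

namespace Groth.Agent.S19492

set_option linter.style.haveILetI false

/-- A proper scheme with an ample module is a closed subscheme of projective space. -/
theorem exists_closedImmersion_of_ample {k : Type u} [Field k] {Y : Scheme.{u}}
    (g : Y ⟶ Spec (CommRingCat.of k)) [IsProper g] {H : Y.Modules} (hH : CohB1.IsAmple H) :
    ∃ (n : ℕ) (i : Y ⟶ CohB1.ProjSpace n k), IsClosedImmersion i ∧
      i ≫ CohB1.ProjSpace.toSpec n k = g := by
  obtain ⟨m, -, n, i, hi, hif, -⟩ := (S2330.result g H hH.1).1.mp hH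
  obtain ⟨e, he⟩ := ProperFin.exists_iso_projSpaceOver n k
  haveI := hi
  haveI := ProjProper.Basic.isProper_toSpec n k
  have hw : (i ≫ e.hom) ≫ CohB1.ProjSpace.toSpec n k = g := by
    rw [Category.assoc, he]
    exact hif
  haveI : IsProper ((i ≫ e.hom) ≫ CohB1.ProjSpace.toSpec n k) := by rw [hw]; infer_instance
  haveI : IsProper (i ≫ e.hom) := IsProper.of_comp (i ≫ e.hom) (CohB1.ProjSpace.toSpec n k)
  exact ⟨n, i ≫ e.hom,
    .of_isPreimmersion (i ≫ e.hom) (i ≫ e.hom).isClosedMap.isClosed_range, hw⟩

/-- Over an algebraically closed field k, let X be an irreducible affine variety (an integral affine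
k-scheme of finite type). Then X is an open subvariety of an irreducible projective variety: there
are an integral k-scheme Y admitting a closed immersion over k into a projective space Pⁿ_k and an
open immersion j : X → Y over k. If X is normal (every local ring an integrally closed domain), then
Y can be chosen normal as well. -/
theorem result (k : Type u) [Field k]
    [IsAlgClosed k] (X : Scheme.{u}) (f : X ⟶ Spec (CommRingCat.of k)) [IsAffine X]
    [AlgebraicGeometry.IsIntegral X] [LocallyOfFiniteType f] :
    ∃ (Y : Scheme.{u}) (g : Y ⟶ Spec (CommRingCat.of k)) (n : ℕ) (c : Y ⟶ CohB1.ProjSpace n k)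
      (j : X ⟶ Y), AlgebraicGeometry.IsIntegral Y ∧ IsClosedImmersion c ∧
      c ≫ CohB1.ProjSpace.toSpec n k = g ∧ IsOpenImmersion j ∧ j ≫ g = f ∧
      (Pi1.IsNormalScheme X → Pi1.IsNormalScheme Y) := by
  suffices key : ∀ (U : Scheme.{u}) (π : U ⟶ Spec (CommRingCat.of k)) [IsAffine U] [AlgebraicGeometry.IsIntegral U]
      [LocallyOfFiniteType π], ∃ (Y : Scheme.{u}) (g : Y ⟶ Spec (CommRingCat.of k)) (n : ℕ)
      (c : Y ⟶ CohB1.ProjSpace n k) (j : U ⟶ Y), AlgebraicGeometry.IsIntegral Y ∧ IsClosedImmersion c ∧
      c ≫ CohB1.ProjSpace.toSpec n k = g ∧ IsOpenImmersion j ∧ j ≫ g = π ∧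
      (Pi1.IsNormalScheme U → Pi1.IsNormalScheme Y) from key X f
  intro U π _ _ _
  let φ : CommRingCat.of k ⟶ Γ(U, ⊤) := (Scheme.ΓSpecIso (CommRingCat.of k)).inv ≫ π.appTop
  have hφ : φ.hom.FiniteType := by
    rw [CommRingCat.hom_comp]
    refine RingHom.FiniteType.comp ((HasRingHomProperty.iff_of_isAffine
      (P := @LocallyOfFiniteType)).1 inferInstance) ?_
    exact RingHom.FiniteType.of_surjective _ (Scheme.ΓSpecIso
      (CommRingCat.of k)).symm.commRingCatIsoToRingEquiv.surjective
  letI : Algebra k Γ(U, ⊤) := φ.hom.toAlgebra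
  haveI : Algebra.FiniteType k Γ(U, ⊤) := hφ
  obtain ⟨N, g, hg⟩ := Algebra.FiniteType.iff_quotient_mvPolynomial''.mp ‹_›
  let g' : MvPolynomial (ULift.{u} (Fin N)) k →ₐ[k] Γ(U, ⊤) :=
    g.comp (MvPolynomial.renameEquiv k Equiv.ulift).toAlgHom
  have hg' : Function.Surjective g' := hg.comp (MvPolynomial.renameEquiv k Equiv.ulift).surjective
  let i : U ⟶ 𝔸(ULift.{u} (Fin N); Spec (CommRingCat.of k)) :=
    U.isoSpec.hom ≫ Spec.map (CommRingCat.ofHom g'.toRingHom) ≫
      (AffineSpace.SpecIso (ULift.{u} (Fin N)) (CommRingCat.of k)).inv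
  haveI : IsClosedImmersion (Spec.map (CommRingCat.ofHom g'.toRingHom)) :=
    IsClosedImmersion.spec_of_surjective _ hg'
  haveI : IsClosedImmersion i := by unfold i; infer_instance
  let c := WDivLib.projChart N k
  have hif : i ≫ c ≫ CohB1.ProjSpace.toSpec N k = π := by
    rw [WDivLib.projChart_over]
    have h1 : CommRingCat.ofHom (MvPolynomial.C : k →+* MvPolynomial (ULift.{u} (Fin N)) k) ≫
        CommRingCat.ofHom g'.toRingHom = φ :=
      CommRingCat.hom_ext (RingHom.ext fun r => g'.commutes r)
    unfold i
    rw [Category.assoc, Category.assoc, AffineSpace.SpecIso_inv_over, ← Spec.map_comp, h1]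
    unfold φ
    rw [Spec.map_comp, Scheme.isoSpec_hom_naturality_assoc, ← Scheme.isoSpec_Spec_inv, Iso.hom_inv_id,
      Category.comp_id]
  haveI := ProjProper.Basic.isProper_toSpec N k
  haveI : LocallyOfFiniteType (CohB1.ProjSpace.toSpec N k) := inferInstance
  let f : U ⟶ CohB1.ProjSpace N k := i ≫ c
  haveI : IsImmersion f := inferInstanceAs (IsImmersion (i ≫ c))
  haveI : IsLocallyNoetherian (CohB1.ProjSpace N k) :=
    LocallyOfFiniteType.isLocallyNoetherian (CohB1.ProjSpace.toSpec N k)
  haveI : QuasiCompact f := inferInstance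
  haveI : IsSeparated f := inferInstance
  haveI : LocallyQuasiFinite f := inferInstance
  haveI : IsFinite f.fromNormalization := by
    refine S9675.result f fun V => ?_
    letI : Algebra k Γ(CohB1.ProjSpace N k, V) :=
      ((Scheme.ΓSpecIso (CommRingCat.of k)).inv ≫
        (CohB1.ProjSpace.toSpec N k).appLE ⊤ V le_top).hom.toAlgebra
    haveI : Algebra.FiniteType k Γ(CohB1.ProjSpace N k, V) := by
      show RingHom.FiniteType _
      rw [CommRingCat.hom_comp]
      exact ((CohB1.ProjSpace.toSpec N k).finiteType_appLE (isAffineOpen_top _) V.2 le_top).comp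
        (RingHom.FiniteType.of_surjective _ (Scheme.ΓSpecIso
          (CommRingCat.of k)).symm.commRingCatIsoToRingEquiv.surjective)
    exact S0566.result k (BCPoint.isNagata_field k) _
  haveI : IsProper f.fromNormalization := inferInstance
  haveI : IsProper (f.fromNormalization ≫ CohB1.ProjSpace.toSpec N k) := inferInstance
  haveI : AlgebraicGeometry.IsIntegral f.normalization := inferInstance
  have hn : Pi1.IsNormalScheme U → Pi1.IsNormalScheme f.normalization := fun hU y => by
    have hfin : LocallyFinite (fun Z : ↥(irreducibleComponents U) => (Z : Set U)) := by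
      rw [irreducibleComponents_eq_singleton]
      exact locallyFinite_of_finite _
    have hη : closure {genericPoint U} ∈ irreducibleComponents U := by
      rw [irreducibleComponents_eq_singleton, genericPoint_closure]
      rfl
    refine (NormNormal.normal_and_eq f hU hfin hη y ?_).1
    exact ((genericPoint_spec U).image f.toNormalization.continuous).specializes (by
      rw [Set.image_univ, f.toNormalization.denseRange.closure_range]; trivial)
  let L₀ : (CohB1.ProjSpace N k).Modules := Twist.twistProjSpace N k 1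
  have hL₀ : CohB1.IsAmple L₀ := by
    haveI := Props.AmpleTwist.compactSpace N k
    exact Props.AmpleTwist.isAmple_twist (𝒜 := CohB1.polyGrading N k) (D := 1) Nat.one_pos
      (fun i : ULift.{u} (Fin (N + 1)) => Props.AmpleTwist.X_pow_mem N k 1 i.down)
      (Props.AmpleTwist.iSup_basicOpen_X_pow N k Nat.one_pos)
  have hA : CohB1.IsAmple ((Scheme.Modules.pullback f.fromNormalization).obj L₀) :=
    AmpleLib.isAmple_pullback_of_qaMor f.fromNormalization
      ⟨inferInstance, fun V hV => by
        haveI : IsAffine (f.fromNormalization ⁻¹ᵁ V : Scheme.{u}) := hV.preimage _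
        infer_instance⟩ hL₀
  obtain ⟨n, i', hi', hi''⟩ :=
    exists_closedImmersion_of_ample (f.fromNormalization ≫ CohB1.ProjSpace.toSpec N k) hA
  refine ⟨f.normalization, _, n, i', f.toNormalization, inferInstance, hi', hi'', inferInstance,
    ?_, hn⟩
  rw [f.toNormalization_fromNormalization_assoc]
  exact (Category.assoc _ _ _).trans hif

end Groth.Agent.S19492
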