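import Groth.Statements.S19493
import Groth.Agent.AssSch.Detect
import Groth.Agent.AssSch.FlatAss
import Groth.Agent.S2506
import Groth.Agent.HomShQC.Stalk
import Groth.Agent.Wt.FlatWt
import Groth.Agent.FlatOpen.EquiDim
import Mathlib.AlgebraicGeometry.Morphisms.UniversallyOpen
-- import your own Groth.Agent.* helpers here

set_option autoImplicit false
universe u
open CategoryTheory AlgebraicGeometry
open EtHull

namespace Groth.Agent.S19493

open TopologicalSpace Opposite Limits Groth.Agent.AssSch

/-- A point without proper generization is associated. -/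
theorem mem_ass_of_max {Y : Scheme.{u}} [IsLocallyNoetherian Y] {y : Y}
    (hy : FlatOpen.EquiDim.Max y) : y ∈ _root_.AssSch.Ass (Coh.structureModule Y) := by
  obtain ⟨q, hq⟩ := associatedPrimes.nonempty (Y.presheaf.stalk y) (Y.presheaf.stalk y)
  have hqp : q.IsPrime := hq.isPrime
  let w : Spec (Y.presheaf.stalk y) := ⟨q, hqp⟩
  have hsp : Y.fromSpecStalk y w ⤳ y := by
    have := Scheme.range_fromSpecStalk (X := Y) (x := y) ▸ Set.mem_range_self w
    exact this
  have he : Y.fromSpecStalk y w = Y.fromSpecStalk y (IsLocalRing.closedPoint _) := by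
    rw [Scheme.fromSpecStalk_closedPoint]; exact hy _ hsp
  have := (Y.fromSpecStalk y).isEmbedding.injective he
  have hqm : q = IsLocalRing.maximalIdeal (Y.presheaf.stalk y) := congrArg PrimeSpectrum.asIdeal this
  exact (FlatAss.mem_ass_structure_iff y).mpr (hqm ▸ hq)

/-- Associated points along an etale morphism. -/
theorem mem_ass_etale_iff {Y Z : Scheme.{u}} [IsLocallyNoetherian Y] [IsLocallyNoetherian Z]
    (g : Y ⟶ Z) [Etale g] (y : Y) :
    y ∈ _root_.AssSch.Ass (Coh.structureModule Y) ↔ g y ∈ _root_.AssSch.Ass (Coh.structureModule Z) := by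
  refine ⟨FlatAss.map_mem_ass_structure g y, fun h => ?_⟩
  obtain ⟨-, φ, hφ⟩ := (isAssociatedPrime_iff_exists_injective_linearMap _ _).mp
    ((FlatAss.mem_ass_structure_iff (g y)).mp h)
  let A := Z.presheaf.stalk (g y)
  let B := Y.presheaf.stalk y
  letI : Algebra A B := (g.stalkMap y).hom.toAlgebra
  have : IsLocalHom (algebraMap A B) := g.toLRSHom.prop y
  have : Module.Flat A B := Flat.stalkMap g y
  have : Module.FaithfullyFlat A B := Module.FaithfullyFlat.of_flat_of_isLocalHom
  let a : A := φ 1
  have ha : a ≠ 0 := fun h0 => one_ne_zero (hφ (h0.trans (map_zero φ).symm))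
  have hb : algebraMap A B a ≠ 0 := fun h0 =>
    ha (FaithfulSMul.algebraMap_injective A B (h0.trans (map_zero _).symm))
  have hkill : ∀ m ∈ IsLocalRing.maximalIdeal A, m * a = 0 := fun m hm => by
    rw [← smul_eq_mul, ← map_smul, Algebra.smul_def, mul_one]
    exact (congrArg φ (Ideal.Quotient.eq_zero_iff_mem.mpr hm)).trans (map_zero φ)
  rw [FlatAss.mem_ass_structure_iff]
  obtain ⟨P, hP, hle⟩ := exists_le_isAssociatedPrime_of_isNoetherianRing B (algebraMap A B a) hb
  have hm : IsLocalRing.maximalIdeal B ≤ P := by
    rw [← (Wt.FlatWt.etale_stalk g y).1]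
    refine Ideal.map_le_iff_le_comap.mpr fun m hm => hle ?_
    refine Submodule.mem_colon_singleton.mpr ?_
    show algebraMap A B m * algebraMap A B a ∈ (⊥ : Submodule B B)
    rw [← map_mul, hkill m hm, map_zero]
    exact Submodule.zero_mem _
  rwa [((IsLocalRing.maximalIdeal.isMaximal B).eq_of_le hP.isPrime.ne_top hm)]

/-- For a flat morphism to a locally Noetherian scheme, scheme-theoretically dominant means that
every associated point is in the image. -/
theorem isSchemeTheoreticallyDominant_iff_ass_subset {Y E : Scheme.{u}} [IsLocallyNoetherian E]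
    (u : Y ⟶ E) [Flat u] :
    IsSchemeTheoreticallyDominant u ↔
      _root_.AssSch.Ass (Coh.structureModule E) ⊆ Set.range u := by
  constructor
  · intro hu η hη
    by_contra hn
    let W : E.Opens := ⟨(closure {η})ᶜ, isClosed_closure.isOpen_compl⟩
    have hr : Set.range u ⊆ Set.range W.ι := by
      rw [Scheme.Opens.range_ι]
      rintro _ ⟨y, rfl⟩ hy
      obtain ⟨y', -, hy'⟩ := Flat.generalizingMap u (specializes_iff_mem_closure.mpr hy)
      exact hn ⟨y', hy'⟩
    have hW : IsSchemeTheoreticallyDominant W.ι := by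
      constructor
      refine le_bot_iff.mp ?_
      rw [← hu.ker_eq_bot, ← IsOpenImmersion.lift_fac W.ι u hr]
      exact Scheme.Hom.le_ker_comp _ _
    have : η ∈ (W : Set E) := (S2506.result _ ((HomShQC.isCoh_structureModule (X := E))).1 W).mpr
      (fun V _ t ht => by
        refine (W.ι.app_injective V) ?_
        refine Eq.trans ?_ (map_zero _).symm
        have hle : W.ι ''ᵁ (W.ι ⁻¹ᵁ V) ≤ V ⊓ W :=
          le_inf (W.ι.image_preimage_eq_opensRange_inf V ▸ inf_le_right)
            (W.ι.image_preimage_eq_opensRange_inf V ▸ inf_le_left.trans W.opensRange_ι.le)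
        rw [Scheme.Opens.ι_app]
        have key := congrArg (E.presheaf.map (homOfLE hle).op) ht
        refine Eq.trans ?_ (key.trans (map_zero _))
        exact (ConcreteCategory.congr_hom (E.presheaf.map_comp _ _) t)) hη
    exact this (subset_closure rfl)
  · intro h
    refine ⟨Scheme.IdealSheafData.ext (funext fun V => le_bot_iff.mp fun t ht => ?_)⟩
    have htk : u.app V.1 t = 0 := Scheme.IdealSheafData.ideal_ofIdeals_le _ V ht
    have := Stalk.isNoetherianRing_of_isAffineOpen V.2
    rw [Ideal.mem_bot]
    refine Detect.eq_zero_of_forall_exists (A := Γ(E, V.1)) subset_rfl fun P hP => ?_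
    have hPp : P.IsPrime := hP.isPrime
    let e : E := V.2.fromSpec ⟨P, hPp⟩
    have he : e ∈ V.1 := (IsAffineOpen.fromSpec_preimage_self V.2).ge (show _ ∈ (⊤ : (Spec Γ(E, V.1)).Opens) from trivial)
    have hpe : Stalk.primeOf V.2 e he = P :=
      congrArg PrimeSpectrum.asIdeal ((IsAffineOpen.isOpenImmersion_fromSpec V.2).base_open.injective
        (IsAffineOpen.fromSpec_primeIdealOf V.2 ⟨e, he⟩))
    have heass : e ∈ _root_.AssSch.Ass (Coh.structureModule E) :=
      (Stalk.mem_ass_iff (Coh.structureModule E) V.2 e he).mpr (by rwa [hpe])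
    obtain ⟨y, hy⟩ := h heass
    have hy' : u y ∈ V.1 := hy ▸ he
    letI : Algebra (E.presheaf.stalk (u y)) (Y.presheaf.stalk y) := (u.stalkMap y).hom.toAlgebra
    have : IsLocalHom (algebraMap (E.presheaf.stalk (u y)) (Y.presheaf.stalk y)) := u.toLRSHom.prop y
    have : Module.Flat (E.presheaf.stalk (u y)) (Y.presheaf.stalk y) := Flat.stalkMap u y
    have := Module.FaithfullyFlat.of_flat_of_isLocalHom
      (A := E.presheaf.stalk (u y)) (B := Y.presheaf.stalk y)
    have h0 : E.presheaf.germ V.1 (u y) hy' t = 0 := by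
      refine FaithfulSMul.algebraMap_injective (E.presheaf.stalk (u y)) (Y.presheaf.stalk y)
        (Eq.trans ?_ (map_zero _).symm)
      exact (Scheme.Hom.germ_stalkMap_apply u V.1 y hy' t).trans
        ((congrArg _ htk).trans (map_zero _))
    letI := (E.presheaf.germ V.1 (u y) hy').hom.toAlgebra
    have : IsLocalization.AtPrime (E.presheaf.stalk (u y)) (Stalk.primeOf V.2 (u y) hy') :=
      V.2.isLocalization_stalk ⟨u y, hy'⟩
    obtain ⟨⟨c, hc⟩, hc0⟩ := (IsLocalization.map_eq_zero_iff
      (Stalk.primeOf V.2 (u y) hy').primeCompl (E.presheaf.stalk (u y)) t).mp h0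
    refine ⟨c, fun hcP => hc ?_, hc0⟩
    rw [← hpe] at hcP
    have hq : ∀ (a b : E) (ha : a ∈ V.1) (hb : b ∈ V.1), a = b →
        Stalk.primeOf V.2 a ha = Stalk.primeOf V.2 b hb := by
      rintro a b ha hb rfl; rfl
    exact (hq _ _ hy' he hy).ge hcP

/-- Let f : S' → S be a morphism of locally Noetherian schemes which is integral, radicial (universally
injective) and surjective, and which matches embedded points: a point s' of S' is an embedded
associated point of O_{S'} (an associated point that is a proper specialization of another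
associated point) if and only if f(s') is an embedded associated point of O_S. Let a : X → S be
faithfully flat, g : E → S étale and u : X → E a morphism with u ≫ g = a, so that X → E → S is a
factorization of a through an étale S-scheme. Let E' → S' be the base change of g along f, with
projection φ : E' → E, and u' : X' → E' the base change of u along φ (so X' = X ×_S S'). Then u is
scheme-theoretically dominant if and only if u' is. (The source allows algebraic spaces; schemes
here.) -/
theorem result {X E S S' E' X' : Scheme.{u}}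
    [IsLocallyNoetherian S] [IsLocallyNoetherian S'] (f : S' ⟶ S) [IsIntegralHom f]
    [UniversallyInjective f] [Surjective f]
    (hemb : ∀ s' : S', (s' ∈ AssSch.Ass (Coh.structureModule S') ∧ ∃ t ∈ AssSch.Ass (Coh.structureModule S'), t ⤳ s' ∧ t ≠ s') ↔
      (f.base s' ∈ AssSch.Ass (Coh.structureModule S) ∧ ∃ t ∈ AssSch.Ass (Coh.structureModule S), t ⤳ f.base s' ∧ t ≠ f.base s'))
    (a : X ⟶ S) [Flat a] [Surjective a] (g : E ⟶ S) [Etale g] (u : X ⟶ E) (hu : u ≫ g = a)
    (g' : E' ⟶ S') (φ : E' ⟶ E) (hE : IsPullback φ g' g f)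
    (u' : X' ⟶ E') (ψ : X' ⟶ X) (hX : IsPullback ψ u' u φ) :
    IsSchemeTheoreticallyDominant u ↔ IsSchemeTheoreticallyDominant u' := by
  have : IsLocallyNoetherian E := LocallyOfFiniteType.isLocallyNoetherian g
  have : Etale g' := MorphismProperty.of_isPullback hE (inferInstance : Etale g)
  have : IsLocallyNoetherian E' := LocallyOfFiniteType.isLocallyNoetherian g'
  have : Flat (u ≫ g) := hu ▸ inferInstance
  have : Flat u := by
    have h1 : Flat (pullback.lift (𝟙 X) u (by simp) : X ⟶ pullback (u ≫ g) g) :=
      MorphismProperty.of_isPullback (P := @Flat) (pullback_lift_diagonal_isPullback u g)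
        (inferInstance : Flat (pullback.diagonal g))
    rw [show u = pullback.lift (𝟙 X) u (by simp) ≫ pullback.snd (u ≫ g) g by rw [pullback.lift_snd]]
    infer_instance
  have : Flat u' := MorphismProperty.of_isPullback hX (inferInstance : Flat u)
  rw [isSchemeTheoreticallyDominant_iff_ass_subset, isSchemeTheoreticallyDominant_iff_ass_subset]
  have hinj : Function.Injective f := f.injective
  have hcl : IsClosedMap f := f.isClosedMap
  have hmax : ∀ s' : S', FlatOpen.EquiDim.Max s' ↔ FlatOpen.EquiDim.Max (f s') := by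
    have hemb' : Topology.IsEmbedding f :=
      (Topology.IsClosedEmbedding.of_continuous_injective_isClosedMap f.continuous hinj hcl).isEmbedding
    intro s'
    constructor
    · intro h z hz
      obtain ⟨z', rfl⟩ := f.surjective z
      rw [h z' (hemb'.specializes_iff.mp hz)]
    · intro h z hz
      exact hinj (h _ (hz.map f.continuous))
  have hS : ∀ s' : S', s' ∈ _root_.AssSch.Ass (Coh.structureModule S') ↔
      f s' ∈ _root_.AssSch.Ass (Coh.structureModule S) := by
    intro s'
    by_cases hs : FlatOpen.EquiDim.Max s'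
    · exact iff_of_true (mem_ass_of_max hs) (mem_ass_of_max ((hmax s').mp hs))
    · constructor
      · intro h
        obtain ⟨t, hts, htm⟩ := FlatOpen.EquiDim.exists_max s'
        exact ((hemb s').mp ⟨h, t, mem_ass_of_max htm, hts, fun e => hs (e ▸ htm)⟩).1
      · intro h
        obtain ⟨t, hts, htm⟩ := FlatOpen.EquiDim.exists_max (f s')
        exact ((hemb s').mpr ⟨h, t, mem_ass_of_max htm, hts,
          fun e => hs ((hmax s').mpr (e ▸ htm))⟩).1
  have hE' : ∀ e' : E', e' ∈ _root_.AssSch.Ass (Coh.structureModule E') ↔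
      φ e' ∈ _root_.AssSch.Ass (Coh.structureModule E) := by
    intro e'
    rw [mem_ass_etale_iff g', mem_ass_etale_iff g, hS]
    exact Iff.of_eq (congrArg (· ∈ _) (congrArg (fun h : E' ⟶ S => h e') hE.w.symm))
  have : Surjective φ := MorphismProperty.of_isPullback hE.flip (inferInstance : Surjective f)
  have hrange : Set.range u' = φ ⁻¹' Set.range u := by
    ext e'
    constructor
    · rintro ⟨x', rfl⟩
      exact ⟨ψ x', congrArg (fun h : X' ⟶ E => h x') hX.w⟩
    · rintro ⟨x, hx⟩
      obtain ⟨x', -, hx'⟩ := Scheme.exists_preimage_of_isPullback hX x e' hx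
      exact ⟨x', hx'⟩
  rw [hrange]
  constructor
  · exact fun h e' he' => h ((hE' e').mp he')
  · intro h e he
    obtain ⟨e', rfl⟩ := φ.surjective e
    exact h ((hE' e').mpr he)

end Groth.Agent.S19493
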