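import Groth.Statements.S19494
import Groth.Agent.EtHull16.Initial
import Groth.Agent.GrpScheme.Ext

set_option autoImplicit false
open CategoryTheory AlgebraicGeometry
universe u
open EtHull

namespace Groth.Agent.S19494

open Limits EtHull16

/-- The base itself, cut down to the closure of the image, is admissible. -/
theorem exists_base {X S : Scheme.{u}} [IsNoetherian S]
    (hS : ∀ s : S, CAlg2.IsGeomUnibranch (S.presheaf.stalk s))
    (hemb : AssSch.NoEmbedded (Coh.structureModule S))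
    (f : X ⟶ S) [Flat f] [LocallyOfFinitePresentation f] [QuasiCompact f] :
    ∃ (E : Scheme.{u}) (g : E ⟶ S) (u : X ⟶ E), IsAdm f g u ∧ Mono g := by
  obtain ⟨C, u, -, hu, hC, hd⟩ := S15997.dominant_closure hS hemb f (𝟙 S) f (Category.comp_id f)
  exact ⟨C.toScheme, C.ι, u, ⟨inferInstance, hC, hd, hu⟩, inferInstance⟩

/-- Let S be a Noetherian scheme all of whose local rings are geometrically unibranch and whose
structure sheaf has no embedded associated points, and let f : X → S be flat, surjective and of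
finite presentation. Call an admissible factorization a factorization X → E → S of f with E → S
étale and affine and X → E scheme-theoretically dominant. Then any two admissible factorizations X →
E₁ → S and X → E₂ → S have an infimum: an admissible factorization X → E → S together with
compatible S-morphisms E₁ → E and E₂ → E, such that every admissible factorization X → E' → S
receiving compatible S-morphisms E₁ → E' and E₂ → E' admits a compatible morphism E → E'. (The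
source allows X to be an algebraic space; X is a scheme here.) -/
theorem result {X S : Scheme.{u}} [IsNoetherian S]
    (hS : ∀ s : S, CAlg2.IsGeomUnibranch (S.presheaf.stalk s))
    (hemb : AssSch.NoEmbedded (Coh.structureModule S))
    (f : X ⟶ S) [Flat f] [Surjective f] [LocallyOfFinitePresentation f] [QuasiCompact f]
    [QuasiSeparated f]
    (E₁ E₂ : Scheme.{u}) (g₁ : E₁ ⟶ S) (g₂ : E₂ ⟶ S) (u₁ : X ⟶ E₁) (u₂ : X ⟶ E₂)
    [Etale g₁] [Etale g₂] [IsAffineHom g₁] [IsAffineHom g₂]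
    [IsSchemeTheoreticallyDominant u₁] [IsSchemeTheoreticallyDominant u₂]
    (h₁ : u₁ ≫ g₁ = f) (h₂ : u₂ ≫ g₂ = f) :
    ∃ (E : Scheme.{u}) (g : E ⟶ S) (u : X ⟶ E) (v₁ : E₁ ⟶ E) (v₂ : E₂ ⟶ E),
      Etale g ∧ IsAffineHom g ∧ IsSchemeTheoreticallyDominant u ∧ u ≫ g = f ∧
      u₁ ≫ v₁ = u ∧ u₂ ≫ v₂ = u ∧ v₁ ≫ g = g₁ ∧ v₂ ≫ g = g₂ ∧
      ∀ (E' : Scheme.{u}) (g' : E' ⟶ S) (u' : X ⟶ E') (w₁ : E₁ ⟶ E') (w₂ : E₂ ⟶ E'),
        Etale g' → IsAffineHom g' → IsSchemeTheoreticallyDominant u' → u' ≫ g' = f →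
        u₁ ≫ w₁ = u' → u₂ ≫ w₂ = u' → w₁ ≫ g' = g₁ → w₂ ≫ g' = g₂ →
        ∃ w : E ⟶ E', u ≫ w = u' ∧ v₁ ≫ w = w₁ ∧ v₂ ≫ w = w₂ := by
  let P : ∀ (E : Scheme.{u}), (E ⟶ S) → (X ⟶ E) → Prop := fun E g u =>
    ∃ (w₁ : E₁ ⟶ E) (w₂ : E₂ ⟶ E), u₁ ≫ w₁ = u ∧ u₂ ≫ w₂ = u ∧ w₁ ≫ g = g₁ ∧ w₂ ≫ g = g₂
  have hP : ∃ (E : Scheme.{u}) (g : E ⟶ S) (u : X ⟶ E), IsAdm f g u ∧ P E g u := by
    obtain ⟨C, u, hC, hu, hCa, hd⟩ := S15997.dominant_closure hS hemb f (𝟙 S) f (Category.comp_id f)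
    have hrange : ∀ {D : Scheme.{u}} (g : D ⟶ S) (v : X ⟶ D), v ≫ g = f →
        Set.range g ⊆ Set.range C.ι := by
      intro D g v hv y hy
      rw [Scheme.Opens.range_ι, hC, f.surjective.range_eq, closure_univ]
      trivial
    refine ⟨C.toScheme, C.ι, u, ⟨inferInstance, hCa, hd, hu⟩,
      IsOpenImmersion.lift C.ι g₁ (hrange g₁ u₁ h₁), IsOpenImmersion.lift C.ι g₂ (hrange g₂ u₂ h₂),
      ?_, ?_, IsOpenImmersion.lift_fac _ _ _, IsOpenImmersion.lift_fac _ _ _⟩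
    · rw [← cancel_mono C.ι, Category.assoc, IsOpenImmersion.lift_fac, h₁, hu]
    · rw [← cancel_mono C.ι, Category.assoc, IsOpenImmersion.lift_fac, h₂, hu]
  obtain ⟨E, g, u, h, ⟨v₁, v₂, hv₁, hv₂, hv₁g, hv₂g⟩, hinit⟩ := exists_initial P hP (by
    intro E E' g u g' u' h hp h' hp'
    haveI := h.et; haveI := h.aff; haveI := h.dom
    haveI := h'.et; haveI := h'.aff; haveI := h'.dom
    obtain ⟨w₁, w₂, a1, a2, a3, a4⟩ := hp
    obtain ⟨w₁', w₂', b1, b2, b3, b4⟩ := hp'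
    obtain ⟨F, gF, uF, a, b, e1, e2, e3, e4, e5, e6, e7, e8, huniv⟩ :=
      S15997.result hS hemb f E E' g g' u u' h.fac h'.fac
    obtain ⟨x₁, hx₁, hx₁a, -⟩ := huniv E₁ g₁ u₁ w₁ w₁' inferInstance inferInstance inferInstance h₁ a1 b1 a3 b3
    obtain ⟨x₂, hx₂, hx₂a, -⟩ := huniv E₂ g₂ u₂ w₂ w₂' inferInstance inferInstance inferInstance h₂ a2 b2 a4 b4
    exact ⟨F, gF, uF, a, b, ⟨e1, e2, e3, e4⟩, ⟨x₁, x₂, hx₁, hx₂,
      by rw [← e7, ← Category.assoc, hx₁a, a3], by rw [← e7, ← Category.assoc, hx₂a, a4]⟩,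
      e5, e6, e7, e8⟩)
  refine ⟨E, g, u, v₁, v₂, h.et, h.aff, h.dom, h.fac, hv₁, hv₂, hv₁g, hv₂g, ?_⟩
  intro E' g' u' w₁ w₂ hg' hg'a hu' hu'f hw₁ hw₂ hw₁g hw₂g
  obtain ⟨w, hw, hwg⟩ := hinit E' g' u' ⟨hg', hg'a, hu', hu'f⟩ ⟨w₁, w₂, hw₁, hw₂, hw₁g, hw₂g⟩
  refine ⟨w, hw, ?_, ?_⟩
  · exact GrpScheme.Ext.ext_of_schematicallyDominant u₁ g' (by rw [Category.assoc, hwg, hv₁g, hw₁g])
      (by rw [reassoc_of% hv₁, hw, hw₁])
  · exact GrpScheme.Ext.ext_of_schematicallyDominant u₂ g' (by rw [Category.assoc, hwg, hv₂g, hw₂g])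
      (by rw [reassoc_of% hv₂, hw, hw₂])

end Groth.Agent.S19494
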