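import Groth.Statements.S19498
import Groth.Agent.CanonTriv.Basic
import Groth.Agent.AmpleLib.Basic
import Groth.Agent.ProjTwist.Invertible
import Groth.Agent.Cube.SeesawThm
import Groth.Agent.AbDualLib.Rigid
import Groth.Agent.CBC.TrivBundle
import Groth.Agent.CBC.Deg0Thms
import Groth.Agent.HomShEval.QCoh
-- import your own Groth.Agent.* helpers here

set_option autoImplicit false
universe u
open CategoryTheory CategoryTheory.Limits AlgebraicGeometry
open Canon

namespace Groth.Agent.S19498

open Groth.Agent

/-- Let S be a locally Noetherian scheme and f : X ⟶ S a locally projective morphism, smooth of relative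
dimension n, whose fibres are non-empty and geometrically connected; let ω be an n-th exterior power
of the sheaf of relative differentials of f (the relative canonical sheaf K_{X/S}) and m ≥ 1 an
integer such that K^{⊗m} is trivial on fibres: for every point s of S the restriction of K^{⊗m} to
the fibre X_s is isomorphic to O_{X_s}. Assume H^1(X_s, O_{X_s}) = 0 for every point s of S. Then
the evaluation map f^* f_* K^{⊗m} ⟶ K^{⊗m}, the counit of the adjunction between pullback and
pushforward of modules, is an isomorphism. (The published statement has f projective and smooth of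
possibly varying relative dimension; here f is taken locally projective of constant relative
dimension n.) -/
theorem result
    {X S : Scheme.{u}} [IsLocallyNoetherian S] (f : X ⟶ S)
    (hproj : RedSub.IsLocallyProjective (Over.mk f))
    (n : ℕ) [SmoothOfRelativeDimension n f] [GeometricallyConnected f]
    (ω : X.Modules) (hω : Canon.IsTopDiff f n ω) (m : ℕ) (hm : 1 ≤ m)
    (htriv : ∀ s : ↥S, Nonempty ((Scheme.Modules.pullback (f.fiberι s)).obj (CohB1.tensorPow ω m) ≅
      Coh.structureModule (f.fiber s)))
    (hH1 : ∀ s : ↥S, Subsingleton (Coh.HH (f.fiber s) (Coh.structureModule (f.fiber s)) 1)) :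
    IsIso ((Scheme.Modules.pullbackPushforwardAdjunction f).counit.app (CohB1.tensorPow ω m)) := by
  have := CanonTriv.isProper_of_locallyProjective f hproj
  have : Smooth f := SmoothOfRelativeDimension.smooth n f
  have : IsLocallyNoetherian X := LocallyOfFiniteType.isLocallyNoetherian f
  have : GeometricallyReduced f := AbDualLib.Rigid.geometricallyReduced_of_smooth f
  have hh := Cube.Seesaw.finrank_eq_one_of_geometrically f
  have hL := AmpleLib.isInvertible_tensorPow (CanonTriv.isInvertible_topDiff f n hω) m
  have : (CohB1.tensorPow ω m).IsQuasicoherent := ProjTwist.isQCoh_of_isInvertible hL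
  have hFP : CohB1.IsFP (CohB1.tensorPow ω m) := HomShEval.QCoh.isFP_of_isCoh _ (Cube.Seesaw.isCoh_of_invertible hL)
  have hfl := Cube.Seesaw.isFlatOver_of_invertible f hL
  have hfib : ∀ y : S, Subsingleton (CohIII.fiberH f (CohB1.tensorPow ω m) y 1) := fun y => by
    obtain ⟨e⟩ := htriv y
    have := hH1 y
    exact (CohLin.hIso e 1).toEquiv.subsingleton
  have happ : ∀ U : S.Opens, Function.Bijective (f.app U) := fun U =>
    Cube.Universal.bijective_app_self f ⊤ (fun z _ => hh z) U le_top
  refine CBC.TrivBundle.isIso_counit f happ fun z => ?_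
  obtain ⟨N, hz, -, hR⟩ := CBC.exists_rExact_zero_of_fibres hFP hfl ⊤ (fun y _ => hfib y)
    (show z ∈ (⊤ : S.Opens) from trivial)
  have hbc := CBC.isIso_bc0_of_rExact (F := CohB1.tensorPow ω m)
    (IsPullback.of_hasPullback f (S.fromSpecResidueField z)) fun p => ⟨N, by
      have hp : S.fromSpecResidueField z p = z := by simp
      rw [hp]; exact hz, hR⟩
  have hne : Nontrivial (CohIII.fiberH f (CohB1.tensorPow ω m) z 0) :=
    Module.nontrivial_of_finrank_eq_succ (R := S.residueField z) (n := 0)
      ((Cube.Seesaw.fiberRank_eq_of_iso f z (htriv z)).trans (hh z))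
  obtain ⟨s, hs⟩ := CBC.TrivBundle.exists_section_of_epi f N.hV z hz hne
    (@IsIso.epi_of_iso _ _ _ _ _ hbc)
  have : Nontrivial Γ(f.fiber z, ⊤) :=
    Module.nontrivial_of_finrank_eq_succ (R := S.residueField z) (n := 0) (hh z)
  have hb : Function.Bijective (algebraMap (S.residueField z) Γ(f.fiber z, ⊤)) :=
    ⟨RingHom.injective _, fun a => by
      obtain ⟨c, hc⟩ := (finrank_eq_one_iff_of_nonzero' (1 : Γ(f.fiber z, ⊤)) one_ne_zero).mp (hh z) a
      exact ⟨c, (Algebra.algebraMap_eq_smul_one c).trans hc⟩⟩
  exact (CBC.TrivBundle.exists_gen_of_section f hL z hz hb (htriv z) s hs).imp fun V h => h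

end Groth.Agent.S19498
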