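import Groth.Statements.S1950
import Groth.Agent.IntMult66.ProjKey
import Groth.Agent.IntMult66.Bilin

set_option autoImplicit false
universe u
open CategoryTheory CategoryTheory.Limits AlgebraicGeometry
attribute [local instance] HasDerivedCategory.standard
open IntMult

namespace Groth.Agent.S1950

/-- Let f : X → Y be proper and flat, where X and Y are nonsingular varieties over K of dimensions n and
m, e = n − m, α an r-cycle on X and β an s-cycle on Y such that α and f^*β intersect properly. The
pushforward f_*α then meets β properly, and on Y the cycle f_*α · β equals f_*(α · f^*β) (flat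
pullback and products taken coefficientwise; f_* is Mathlib's pushforward, applied to any cycle with
the coefficients of α · f^*β). Here X is a nonsingular variety over the algebraically closed field K
(smooth, separated, quasi-compact, integral) with dimension function δ (transcendence degree) and n
= dim X; cycles are Mathlib AlgebraicCycles with Cyc.Zk membership, proper intersection is
IntMult.IntersectProperly and α · β is the Tor-formula intersection product on coefficient functions
(IntMult.interProd), bundled where needed as 'any cycle with these coefficients'. -/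
theorem result (K : Type u) [Field K] [IsAlgClosed K] (X Y : Scheme.{u}) (f : X ⟶ Y) (gX : X ⟶ Spec (CommRingCat.of K)) (gY : Y ⟶ Spec (CommRingCat.of K)) (hf : f ≫ gY = gX) [Smooth gX] [IsSeparated gX] [QuasiCompact gX] [IsIntegral X] [Smooth gY] [IsSeparated gY] [QuasiCompact gY] [IsIntegral Y] [Flat f] [IsProper f] (δX : X → ℤ) (δY : Y → ℤ) (hX : Cyc.IsSetup X δX) (hY : Cyc.IsSetup Y δY) (hδX : Cyc.DeltaCompat gX δX (fun _ => 0)) (hδY : Cyc.DeltaCompat gY δY (fun _ => 0)) (hδ : Cyc.DeltaCompat f δX δY) (n m : ℤ) (hn : δX (genericPoint X) = n) (hm : δY (genericPoint Y) = m) (e : ℕ) (he : (e : ℤ) = n - m) (hrel : Cyc.HasRelDim f e) (r s : ℤ) (α : AlgebraicCycle X ℤ) (β : AlgebraicCycle Y ℤ) (hα : α ∈ Cyc.Zk X δX r) (hβ : β ∈ Cyc.Zk Y δY s) (hprop : IntMult.IntersectProperly δX n ⇑α (Cyc.pullFun f δX δY e ⇑β)) (γ : AlgebraicCycle X ℤ) (hγ : ⇑γ = IntMult.interProd δX n ⇑α (Cyc.pullFun f δX δY e ⇑β)) : IntMult.IntersectProperly δY m ⇑(AlgebraicCycle.map f δX δY α) ⇑β ∧ IntMult.interProd δY m ⇑(AlgebraicCycle.map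 f δX δY α) ⇑β = ⇑(AlgebraicCycle.map f δX δY γ) := by
  classical
  open Groth.Agent.IntMult66 Groth.Agent.CycLib in
  exact (by
    haveI := hX.1
    haveI := hY.1
    haveI : CompactSpace X := QuasiCompact.compactSpace_of_compactSpace gX
    haveI : CompactSpace Y := QuasiCompact.compactSpace_of_compactSpace gY
    have hs' : ShiftBy f δX δY (e : ℤ) := fun z hz => delta_eq_of_generic f hδ hrel z hz
    obtain ⟨β', hβ'⟩ := exists_pull_cycle f hX.2.2 hs' β
    let S := (finite_support_of_compact α).toFinset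
    let T := (finite_support_of_compact β).toFinset
    let T' := (finite_support_of_compact β').toFinset
    have hS : ∀ x, x ∉ S → α x = 0 := fun x hx => by simpa [S] using hx
    have hT : ∀ y, y ∉ T → β y = 0 := fun y hy => by simpa [T] using hy
    have hT' : ∀ u, u ∉ T' → Cyc.pullFun f δX δY e ⇑β u = 0 := fun u hu => by rw [← hβ']; simpa [T'] using hu
    have hbound : ∀ ξ v z, α ξ ≠ 0 → β v ≠ 0 → ξ ⤳ z → v ⤳ f z → δX z ≤ δX ξ + δY v - m := by
      intro ξ v z hξ hv h1 h2
      obtain ⟨η, hη, -, hd, hne⟩ := exists_pullFun_ne_zero f hδ hrel ⇑β hv h2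
      have := hprop ξ η z hξ hne h1 hη
      omega
    have hmapsum : ∀ y, AlgebraicCycle.map f δX δY α y =
        ∑ ξ ∈ S with f ξ = y, α ξ * (AlgebraicCycle.mapCoeff f δX δY ξ : ℤ) := fun y =>
      map_apply_eq_sum f δX δY α y S fun x _ hne => by_contra fun h => hne (hS x h)
    refine ⟨fun y v ζ hy hv hyζ hvζ => ?_, funext fun w => ?_⟩
    · rw [hmapsum] at hy
      obtain ⟨ξ, hξ, hne⟩ := Finset.exists_ne_zero_of_sum_ne_zero hy
      obtain rfl := (Finset.mem_filter.1 hξ).2
      have hα0 : α ξ ≠ 0 := left_ne_zero_of_mul hne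
      have hd : δX ξ = δY (f ξ) := by
        by_contra h
        apply right_ne_zero_of_mul hne
        unfold AlgebraicCycle.mapCoeff
        rw [if_neg h]
        rfl
      obtain ⟨z, hz1, hz2⟩ := exists_lift f hyζ
      have h1 := le_delta f hδ z
      have h2 := hbound ξ v z hα0 hv hz1 (hz2.symm ▸ hvζ)
      rw [hz2] at h1
      omega
    have hpβ : ∀ u, Cyc.pullFun f δX δY e ⇑β u =
        ∑ v ∈ T, β v * Cyc.pullFun f δX δY e (Set.indicator {v} 1) u := fun u => by
      unfold Cyc.pullFun
      split_ifs with h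
      · rw [eq_sum_indicator ⇑β T hT (f u), Finset.sum_mul]
        exact Finset.sum_congr rfl fun ξ _ => by ring
      · simp
    have hq1 : ∀ (v : Y) (u : X), β v ≠ 0 →
        Cyc.pullFun f δX δY e (Set.indicator {v} 1) u ≠ 0 → Cyc.pullFun f δX δY e ⇑β u ≠ 0 := by
      intro v u hv hu
      unfold Cyc.pullFun at hu ⊢
      split_ifs at hu ⊢ with hd
      · have e' : f u = v := by simpa [Set.indicator_apply] using left_ne_zero_of_mul hu
        exact mul_ne_zero (e' ▸ hv) (right_ne_zero_of_mul hu)
      · exact absurd rfl hu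
    have hγz : ∀ z, γ z = ∑ ξ ∈ S, ∑ v ∈ T, α ξ * β v *
        IntMult.interProd δX n (Set.indicator {ξ} 1) (Cyc.pullFun f δX δY e (Set.indicator {v} 1)) z := fun z => by
      rw [hγ, interProd_eq_sum δX n _ _ S T' hS hT' z]
      refine Finset.sum_congr rfl fun ξ _ => ?_
      rw [Finset.sum_congr rfl fun u _ => by rw [hpβ u, Finset.mul_sum, Finset.sum_mul], Finset.sum_comm]
      refine Finset.sum_congr rfl fun v _ => ?_
      by_cases hv : β v = 0
      · simp [hv]
      rw [interProd_eq_sum δX n _ _ {ξ} T' (fun u hu => Set.indicator_of_notMem (by simpa using hu) _)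
        (fun u hu => by_contra fun h => hq1 v u hv h (hT' u hu)) z, Finset.sum_singleton, Finset.mul_sum]
      refine Finset.sum_congr rfl fun u _ => ?_
      simp only [Set.indicator_of_mem (Set.mem_singleton ξ), Pi.one_apply]
      ring
    have hsetfin : (⋃ p ∈ ((S ×ˢ T).filter fun p : X × Y =>
        α p.1 ≠ 0 ∧ β p.2 ≠ 0 ∧ p.2 ⤳ w ∧ δY w = δX p.1 + δY p.2 - m),
        {z : X | p.1 ⤳ z ∧ f z = w}).Finite := by
      refine (Finset.finite_toSet _).biUnion fun p hp => ?_
      obtain ⟨-, hp1, hp2, hp3, hp4⟩ := Finset.mem_filter.1 (Finset.mem_coe.1 hp)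
      obtain ⟨Z, _, i, _, hi, hrange⟩ := exists_closure_subscheme p.1
      haveI : IsProper (i ≫ f) := MorphismProperty.comp_mem _ i f inferInstance inferInstance
      haveI : IsLocallyNoetherian Z := LocallyOfFiniteType.isLocallyNoetherian i
      have hd : ∀ z : Z, (i ≫ f) z = w → δX (i z) = δY w := fun z hz => by
        have h1 : f (i z) = w := hz
        have h2 := le_delta f hδ (i z)
        have h3 := hbound p.1 p.2 (i z) hp1 hp2 ((hrange _).1 ⟨z, rfl⟩) (h1.symm ▸ hp3)
        rw [h1] at h2
        omega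
      refine ((finite_fibre_of_discrete (i ≫ f) w fun z z' hz hz' hs => ?_).image i).subset ?_
      · exact i.isClosedEmbedding.injective (eq_of_le gX hδX (hs.map i.continuous) (by rw [hd z hz, hd z' hz']))
      · rintro z ⟨h1, h2⟩
        obtain ⟨z', rfl⟩ := (hrange z).2 h1
        exact ⟨z', h2, rfl⟩
    let F := (hsetfin.toFinset ∪ (finite_fibre_support f γ w).toFinset).filter fun z => f z = w
    have hmapγ : AlgebraicCycle.map f δX δY γ w =
        ∑ z ∈ F, γ z * (AlgebraicCycle.mapCoeff f δX δY z : ℤ) := by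
      rw [map_apply_eq_sum f δX δY γ w F fun x h1 h2 => Finset.mem_filter.2
        ⟨Finset.mem_union_right _ ((Set.Finite.mem_toFinset _).2 ⟨h1, h2⟩), h1⟩,
        Finset.filter_true_of_mem fun z hz => (Finset.mem_filter.1 hz).2]
    rw [hmapγ, interProd_eq_sum δY m _ _ (S.image fun ξ => f ξ) T (fun y hy => by
      rw [hmapsum, Finset.sum_eq_zero fun ξ hξ => ?_]
      exact absurd (Finset.mem_image.2 ⟨ξ, (Finset.mem_filter.1 hξ).1, (Finset.mem_filter.1 hξ).2⟩) hy) hT w]
    calc _ = ∑ ξ ∈ S, ∑ v ∈ T, α ξ * β v * ((AlgebraicCycle.mapCoeff f δX δY ξ : ℤ) *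
            IntMult.interProd δY m (Set.indicator {f ξ} 1) (Set.indicator {v} 1) w) := by
          rw [← Finset.sum_fiberwise_of_maps_to (s := S) (t := S.image fun ξ => f ξ) (g := fun ξ => f ξ)
            (fun ξ hξ => Finset.mem_image_of_mem _ hξ)]
          refine Finset.sum_congr rfl fun y _ => ?_
          rw [Finset.sum_comm (s := S.filter fun ξ => f ξ = y)]
          refine Finset.sum_congr rfl fun v _ => ?_
          rw [hmapsum, Finset.sum_mul, Finset.sum_mul]
          refine Finset.sum_congr rfl fun ξ hξ => ?_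
          rw [(Finset.mem_filter.1 hξ).2]
          ring
      _ = ∑ ξ ∈ S, ∑ v ∈ T, α ξ * β v * ∑ z ∈ F, (AlgebraicCycle.mapCoeff f δX δY z : ℤ) *
            IntMult.interProd δX n (Set.indicator {ξ} 1) (Cyc.pullFun f δX δY e (Set.indicator {v} 1)) z := by
          refine Finset.sum_congr rfl fun ξ hξ => Finset.sum_congr rfl fun v hv => ?_
          by_cases hα0 : α ξ = 0
          · simp [hα0]
          by_cases hβ0 : β v = 0
          · simp [hβ0]
          rw [key_projection f gX gY hX hY hδX hδY hδ hn hm e he hrel ξ v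
            (fun z h1 h2 => hbound ξ v z hα0 hβ0 h1 h2) w F (fun z hz => (Finset.mem_filter.1 hz).2)
            (fun hvw ht z h1 h2 => Finset.mem_filter.2 ⟨Finset.mem_union_left _ ((Set.Finite.mem_toFinset _).2
              (Set.mem_biUnion (x := (ξ, v)) (Finset.mem_filter.2
                ⟨Finset.mem_product.2 ⟨hξ, hv⟩, hα0, hβ0, hvw, ht⟩) ⟨h1, h2⟩)), h2⟩)]
      _ = _ := by
          simp only [hγz, Finset.sum_mul, Finset.mul_sum]
          rw [Finset.sum_comm (s := F)]
          refine Finset.sum_congr rfl fun ξ _ => ?_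
          rw [Finset.sum_comm]
          refine Finset.sum_congr rfl fun z _ => Finset.sum_congr rfl fun v _ => ?_
          ring)

end Groth.Agent.S1950
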