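import Groth.Statements.S19501
import Groth.Agent.CycLib.ProdClass
import Groth.Agent.FBase.BC

set_option autoImplicit false
set_option linter.style.haveILetI false
set_option maxHeartbeats 1000000
universe u
open CategoryTheory MonoidalCategory CartesianMonoidalCategory AlgebraicGeometry CategoryTheory.Limits
open Cyc

namespace Groth.Agent.S19501

open IsLocalRing MvPolynomial CycLib

section

variable {k : Type u} [Field k] {σ : Type u}

/-- A rational scheme contains a basic open subset of affine space. -/
theorem exists_affine_chart {W : Scheme.{u}} (w : W ⟶ Spec (CommRingCat.of k)) {U : W.Opens}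
    {V : (𝔸(σ; Spec (CommRingCat.of k))).Opens} (e : (U : Scheme.{u}) ≅ (V : Scheme.{u}))
    (hU : (U : Set W).Nonempty)
    (he : e.hom ≫ V.ι ≫ (𝔸(σ; Spec (CommRingCat.of k)) ↘ Spec (CommRingCat.of k)) = U.ι ≫ w) :
    ∃ (g : MvPolynomial σ k) (jX : Spec (CommRingCat.of (Localization.Away g)) ⟶ W),
      g ≠ 0 ∧ IsOpenImmersion jX ∧
        jX ≫ w = Spec.map (CommRingCat.ofHom (algebraMap k (Localization.Away g))) := by
  let A : CommRingCat.{u} := CommRingCat.of (MvPolynomial σ k)
  let iA := AffineSpace.SpecIso σ (CommRingCat.of k)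
  let f : (V : Scheme.{u}) ⟶ Spec A := V.ι ≫ iA.hom
  obtain ⟨x, hx⟩ := hU
  obtain ⟨_, ⟨g, rfl⟩, hxg, hsub⟩ := PrimeSpectrum.isTopologicalBasis_basic_opens.exists_subset_of_mem_open
    (show f (e.hom ⟨x, hx⟩) ∈ Set.range f from ⟨_, rfl⟩) f.isOpenEmbedding.isOpen_range
  let j : Spec (CommRingCat.of (Localization.Away g)) ⟶ Spec A :=
    Spec.map (CommRingCat.ofHom (algebraMap (MvPolynomial σ k) (Localization.Away g)))
  haveI : IsOpenImmersion j := IsOpenImmersion.of_isLocalization g
  have hj : Set.range j ⊆ Set.range f := by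
    refine subset_trans (subset_of_eq ?_) hsub
    exact PrimeSpectrum.localization_away_comap_range (Localization.Away g) g
  let jV := IsOpenImmersion.lift f j hj
  haveI : IsOpenImmersion jV := by
    haveI : IsOpenImmersion (jV ≫ f) := by rw [IsOpenImmersion.lift_fac]; infer_instance
    exact IsOpenImmersion.of_comp jV f
  refine ⟨g, jV ≫ e.inv ≫ U.ι, fun h0 => ?_, inferInstance, ?_⟩
  · subst h0
    exact hxg (Ideal.zero_mem _)
  · have h1 : e.inv ≫ U.ι ≫ w = f ≫ Spec.map (CommRingCat.ofHom C) := by
      rw [← he, e.inv_hom_id_assoc]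
      simp only [f, Category.assoc, iA]
      rw [← AffineSpace.SpecIso_inv_over (CommRingCat.of k), Iso.hom_inv_id_assoc]
    rw [Category.assoc, Category.assoc, h1, ← Category.assoc, IsOpenImmersion.lift_fac]
    simp only [j, ← Spec.map_comp, ← CommRingCat.ofHom_comp]
    rfl

theorem reached_of_eq {W Z : Scheme.{u}} {f f' : W ⟶ Z} (h : f = f') {x : W} {c : W.residueField x}
    (hc : Reached f x c) : Reached f' x c := h ▸ hc

/-- Functions from an affine open of the target are reached. -/
theorem reached_evaluation {R R' : CommRingCat.{u}} (φ : R ⟶ R') {Z : Scheme.{u}} (j : Spec R ⟶ Z)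
    [IsOpenImmersion j] (x : Spec R') (c : R) :
    Reached (Spec.map φ ≫ j) x ((Spec R').evaluation ⊤ x trivial ((Scheme.ΓSpecIso R').inv (φ c))) := by
  obtain ⟨a, ha⟩ := ((asIso (j.residueFieldMap (Spec.map φ x))).commRingCatIsoToRingEquiv).surjective
    ((Spec R).evaluation ⊤ (Spec.map φ x) trivial ((Scheme.ΓSpecIso R).inv c))
  refine ⟨a, ?_⟩
  rw [congr($(Scheme.residueFieldMap_comp (Spec.map φ) j x) a)]
  show (Spec.map φ).residueFieldMap x (j.residueFieldMap _ a) = _
  rw [show j.residueFieldMap _ a = _ from ha]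
  refine (Scheme.evaluation_naturality_apply (Spec.map φ) (V := ⊤) x trivial _).trans ?_
  exact congrArg _ (congr($(Scheme.ΓSpecIso_inv_naturality φ) c)).symm

end

section

variable {k : Type u} [Field k] {σ : Type u} {B : Type u} [CommRing B] [Algebra k B] (g : MvPolynomial σ k)

/-- The polynomial `g` over `B`. -/
noncomputable abbrev gOver (B : Type u) [CommRing B] [Algebra k B] : MvPolynomial σ B :=
  MvPolynomial.map (algebraMap k B) g

/-- The map `k[t]_g → B[t]_g`. -/
noncomputable def chartA : Localization.Away g →+* Localization.Away (gOver g B) :=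
  IsLocalization.Away.lift g (g := (algebraMap (MvPolynomial σ B) (Localization.Away (gOver g B))).comp
    (MvPolynomial.map (algebraMap k B))) (IsLocalization.Away.algebraMap_isUnit (gOver g B))

theorem chartA_algebraMap (p : MvPolynomial σ k) :
    chartA (B := B) g (algebraMap _ _ p) = algebraMap _ _ (MvPolynomial.map (algebraMap k B) p) :=
  IsLocalization.Away.lift_eq g _ p

/-- The map `B → B[t]_g`. -/
noncomputable def chartB : B →+* Localization.Away (gOver g B) :=
  (algebraMap (MvPolynomial σ B) (Localization.Away (gOver g B))).comp C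

section desc

variable {T : Type u} [CommRing T] (f : Localization.Away g →+* T) (h : B →+* T)
  (hc : f.comp (algebraMap k (Localization.Away g)) = h.comp (algebraMap k B))

include hc in
theorem eval₂_comp_map : (eval₂Hom h fun i => f (algebraMap (MvPolynomial σ k) (Localization.Away g) (X i))).comp
    (MvPolynomial.map (algebraMap k B)) = f.comp (algebraMap (MvPolynomial σ k) (Localization.Away g)) := by
  refine MvPolynomial.ringHom_ext (fun c => ?_) fun i => by simp
  rw [RingHom.comp_apply, map_C, eval₂Hom_C, RingHom.comp_apply]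
  exact (RingHom.congr_fun hc c).symm

/-- The map out of `B[t]_g`. -/
noncomputable def chartDesc : Localization.Away (gOver g B) →+* T :=
  IsLocalization.Away.lift (gOver g B)
    (g := eval₂Hom h fun i => f (algebraMap (MvPolynomial σ k) (Localization.Away g) (X i)))
    (by
      rw [show eval₂Hom h _ (gOver g B) = _ from RingHom.congr_fun (eval₂_comp_map g f h hc) g]
      exact (IsLocalization.Away.algebraMap_isUnit (S := Localization.Away g) g).map f)

theorem chartDesc_comp_A : (chartDesc g f h hc).comp (chartA g) = f := by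
  refine IsLocalization.ringHom_ext (Submonoid.powers g) (RingHom.ext fun p => ?_)
  rw [RingHom.comp_apply, RingHom.comp_apply, chartA_algebraMap, chartDesc, IsLocalization.Away.lift_eq]
  exact RingHom.congr_fun (eval₂_comp_map g f h hc) p

theorem chartDesc_comp_B : (chartDesc g f h hc).comp (chartB g) = h := by
  refine RingHom.ext fun b => ?_
  rw [RingHom.comp_apply, chartB, RingHom.comp_apply, chartDesc, IsLocalization.Away.lift_eq, eval₂Hom_C]

theorem chartDesc_unique (m : Localization.Away (gOver g B) →+* T) (h1 : m.comp (chartA g) = f)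
    (h2 : m.comp (chartB g) = h) : m = chartDesc g f h hc := by
  refine IsLocalization.ringHom_ext (Submonoid.powers (gOver g B)) ?_
  rw [chartDesc, IsLocalization.Away.lift_comp]
  refine MvPolynomial.ringHom_ext (fun b => ?_) fun i => ?_
  · rw [eval₂Hom_C, ← h2]
    rfl
  · rw [eval₂Hom_X', ← h1, RingHom.comp_apply, RingHom.comp_apply, chartA_algebraMap, map_X]

end desc

theorem isPushout_chart : IsPushout (CommRingCat.ofHom (algebraMap k (Localization.Away g)))
    (CommRingCat.ofHom (algebraMap k B)) (CommRingCat.ofHom (chartA (B := B) g))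
    (CommRingCat.ofHom (chartB (B := B) g)) := by
  have hw : CommRingCat.ofHom (algebraMap k (Localization.Away g)) ≫ CommRingCat.ofHom (chartA (B := B) g) =
      CommRingCat.ofHom (algebraMap k B) ≫ CommRingCat.ofHom (chartB (B := B) g) := by
    ext c
    show chartA g (algebraMap k (Localization.Away g) c) = chartB g (algebraMap k B c)
    rw [IsScalarTower.algebraMap_apply k (MvPolynomial σ k) (Localization.Away g), chartA_algebraMap,
      MvPolynomial.algebraMap_eq, map_C]
    rfl
  refine ⟨⟨hw⟩, ⟨PushoutCocone.IsColimit.mk hw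
    (fun s => CommRingCat.ofHom (chartDesc g s.inl.hom s.inr.hom (congrArg CommRingCat.Hom.hom s.condition)))
    (fun s => CommRingCat.hom_ext (chartDesc_comp_A g s.inl.hom s.inr.hom (congrArg CommRingCat.Hom.hom s.condition)))
    (fun s => CommRingCat.hom_ext (chartDesc_comp_B g s.inl.hom s.inr.hom (congrArg CommRingCat.Hom.hom s.condition)))
    (fun s m h1 h2 => CommRingCat.hom_ext (chartDesc_unique g s.inl.hom s.inr.hom (congrArg CommRingCat.Hom.hom s.condition) m.hom
      (congrArg CommRingCat.Hom.hom h1) (congrArg CommRingCat.Hom.hom h2)))⟩⟩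

end


/-- Over an algebraically closed field k, let X and Y be normal irreducible varieties (integral normal
separated k-schemes of finite type) and assume X rational: some nonempty open subscheme of X is
isomorphic over k to an open subscheme of an affine space 𝔸ⁿ_k. Fix dimension functions δX, δY, δP
on X, Y and P = X ×_k Y (each scheme locally Noetherian with universally catenary local rings), with
δP induced from δX along the first projection and from δY along the second, and generic points ηX,
ηY, ηP; write dX = δX(ηX), dY = δY(ηY), dP = δP(ηP), so that codimension-one cycles are the (d −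
1)-cycles and the projections are flat of relative δ-dimensions dP − dX and dP − dY. Then the map
(α, β) ↦ p₁^*α + p₂^*β from Cl(X) × Cl(Y) to Cl(X × Y) is bijective: (surjectivity) every (dP −
1)-cycle γ on P is rationally equivalent to a cycle with coefficient function p₁^*α + p₂^*β for some
(dX − 1)-cycle α on X and (dY − 1)-cycle β on Y; (injectivity) if such a cycle p₁^*α + p₂^*β is
rationally equivalent to zero then α and β are rationally equivalent to zero. -/
theorem result (k : Type u) [Field k] [IsAlgClosed k]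
    (X Y : Over (Spec (CommRingCat.of k))) [AlgebraicGeometry.IsIntegral X.left] [IsSeparated X.hom]
    [LocallyOfFiniteType X.hom] [QuasiCompact X.hom]
    [AlgebraicGeometry.IsIntegral Y.left] [IsSeparated Y.hom] [LocallyOfFiniteType Y.hom] [QuasiCompact Y.hom]
    (hX : Pi1.IsNormalScheme X.left) (hY : Pi1.IsNormalScheme Y.left)
    (hrat : ∃ (U : X.left.Opens) (n : ℕ) (V : (𝔸(ULift.{u} (Fin n); Spec (CommRingCat.of k))).Opens)
      (e : (U : Scheme.{u}) ≅ (V : Scheme.{u})), (U : Set ↥X.left).Nonempty ∧
        e.hom ≫ V.ι ≫ (𝔸(ULift.{u} (Fin n); Spec (CommRingCat.of k)) ↘ Spec (CommRingCat.of k)) = U.ι ≫ X.hom)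
    (δX : ↥X.left → ℤ) (δY : ↥Y.left → ℤ) (δP : ↥(X ⊗ Y).left → ℤ)
    (hsX : Cyc.IsSetup X.left δX) (hsY : Cyc.IsSetup Y.left δY) (hsP : Cyc.IsSetup (X ⊗ Y).left δP)
    (hc₁ : Cyc.DeltaCompat (fst X Y).left δP δX) (hc₂ : Cyc.DeltaCompat (snd X Y).left δP δY)
    (ηX : ↥X.left) (ηY : ↥Y.left) (ηP : ↥(X ⊗ Y).left)
    (hηX : closure ({ηX} : Set ↥X.left) = Set.univ) (hηY : closure ({ηY} : Set ↥Y.left) = Set.univ)
    (hηP : closure ({ηP} : Set ↥(X ⊗ Y).left) = Set.univ) :
    (∀ γ ∈ Cyc.Zk (X ⊗ Y).left δP (δP ηP - 1),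
      ∃ α ∈ Cyc.Zk X.left δX (δX ηX - 1), ∃ β ∈ Cyc.Zk Y.left δY (δY ηY - 1),
        ∃ γ' : AlgebraicCycle (X ⊗ Y).left ℤ,
          (∀ z, γ' z = Cyc.pullFun (fst X Y).left δP δX (δP ηP - δX ηX) α z +
            Cyc.pullFun (snd X Y).left δP δY (δP ηP - δY ηY) β z) ∧
          Cyc.RatEquiv δP (δP ηP - 1) γ γ') ∧
    (∀ α ∈ Cyc.Zk X.left δX (δX ηX - 1), ∀ β ∈ Cyc.Zk Y.left δY (δY ηY - 1),
      ∀ γ' : AlgebraicCycle (X ⊗ Y).left ℤ,
        (∀ z, γ' z = Cyc.pullFun (fst X Y).left δP δX (δP ηP - δX ηX) α z +
            Cyc.pullFun (snd X Y).left δP δY (δP ηP - δY ηY) β z) →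
        Cyc.RatEquivZero δP (δP ηP - 1) γ' →
        Cyc.RatEquivZero δX (δX ηX - 1) α ∧ Cyc.RatEquivZero δY (δY ηY - 1) β) := by
  classical
  obtain ⟨U, n, V, e, hU, he⟩ := hrat
  obtain ⟨g, jX, hg, hjXo, hjX⟩ := exists_affine_chart X.hom e hU he
  haveI := hjXo
  haveI := FBase.BC.geometricallyReduced_of_isReduced_of_perfectField X.hom
  haveI := FBase.BC.geometricallyReduced_of_isReduced_of_perfectField Y.hom
  haveI : GeometricallyIrreducible X.hom := FBase.BC.geometricallyIrreducible_of_isSepClosed X.hom
  haveI : GeometricallyIrreducible Y.hom := FBase.BC.geometricallyIrreducible_of_isSepClosed Y.hom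
  haveI : GeometricallyIntegral X.hom := .of_geometricallyReduced_of_geometricallyIrreducible X.hom
  haveI : GeometricallyIntegral Y.hom := .of_geometricallyReduced_of_geometricallyIrreducible Y.hom
  haveI : IsLocallyNoetherian X.left := hsX.1
  haveI : IsLocallyNoetherian Y.left := hsY.1
  haveI : IsLocallyNoetherian (Limits.pullback X.hom Y.hom) := hsP.1
  haveI : CompactSpace X.left := QuasiCompact.compactSpace_of_compactSpace X.hom
  haveI : CompactSpace (Limits.pullback X.hom Y.hom : Scheme.{u}) :=
    QuasiCompact.compactSpace_of_compactSpace (pullback.fst X.hom Y.hom)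
  haveI : AlgebraicGeometry.IsIntegral (Limits.pullback X.hom Y.hom) := inferInstance
  let p1 := pullback.fst X.hom Y.hom
  let p2 := pullback.snd X.hom Y.hom
  have hpair : ∀ x y, ∃ z, p1 z = x ∧ p2 z = y := fun x y =>
    Scheme.Pullback.exists_preimage_pullback x y (Subsingleton.elim _ _)
  obtain ⟨y0⟩ : Nonempty Y.left := inferInstance
  obtain ⟨V0, hV0, hy0, -⟩ := exists_isAffineOpen_mem_and_subset (x := y0) (U := ⊤) trivial
  haveI : Nonempty V0 := ⟨⟨y0, hy0⟩⟩
  let jY := hV0.fromSpec
  let φ := Spec.preimage (jY ≫ Y.hom)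
  letI : Algebra k Γ(Y.left, V0) := φ.hom.toAlgebra
  have hjY : jY ≫ Y.hom = Spec.map (CommRingCat.ofHom (algebraMap k Γ(Y.left, V0))) :=
    (Spec.map_preimage _).symm
  haveI : IsNoetherianRing Γ(Y.left, V0) := IsLocallyNoetherian.component_noetherian ⟨V0, hV0⟩
  let gB := gOver g Γ(Y.left, V0)
  have hgB : gB ≠ 0 := (map_ne_zero_iff _ (map_injective _ (algebraMap k Γ(Y.left, V0)).injective)).2 hg
  haveI : IsDomain (Localization.Away gB) :=
    IsLocalization.isDomain_localization (powers_le_nonZeroDivisors_of_noZeroDivisors hgB)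
  haveI : IsNoetherianRing (Localization.Away gB) :=
    IsLocalization.isNoetherianRing (Submonoid.powers gB) _ inferInstance
  let a : CommRingCat.of (Localization.Away g) ⟶ CommRingCat.of (Localization.Away gB) :=
    CommRingCat.ofHom (chartA g)
  let b : Γ(Y.left, V0) ⟶ CommRingCat.of (Localization.Away gB) := CommRingCat.ofHom (chartB g)
  have hsq := isPullback_SpecMap_of_isPushout _ _ _ _ (isPushout_chart (B := Γ(Y.left, V0)) g)
  have hsq' : IsPullback (Spec.map a) (Spec.map b) (jX ≫ X.hom) (jY ≫ Y.hom) := by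
    rw [hjX, hjY]; exact hsq
  let mp := pullback.map (jX ≫ X.hom) (jY ≫ Y.hom) X.hom Y.hom jX jY (𝟙 _) (Category.comp_id _) (Category.comp_id _)
  let J : Spec (CommRingCat.of (Localization.Away gB)) ⟶ Limits.pullback X.hom Y.hom := hsq'.isoPullback.hom ≫ mp
  have hJ1 : J ≫ p1 = Spec.map a ≫ jX := by
    simp only [J, mp, p1, Category.assoc, pullback.map, pullback.lift_fst, IsPullback.isoPullback_hom_fst_assoc]
  have hJ2 : J ≫ p2 = Spec.map b ≫ jY := by
    simp only [J, mp, p2, Category.assoc, pullback.map, pullback.lift_snd, IsPullback.isoPullback_hom_snd_assoc]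
  have hrange : Set.range J = p1 ⁻¹' Set.range jX ∩ p2 ⁻¹' Set.range jY := by
    rw [show Set.range J = Set.range mp by
      rw [Scheme.Hom.comp_base, TopCat.coe_comp,
        (inferInstance : Surjective hsq'.isoPullback.hom).surj.range_comp]]
    exact Scheme.Pullback.range_map ..
  haveI : AlgebraicGeometry.IsIntegral (X ⊗ Y).left := ‹AlgebraicGeometry.IsIntegral (Limits.pullback X.hom Y.hom)›
  haveI : IsDomain (Localization.Away g) :=
    IsLocalization.isDomain_localization (powers_le_nonZeroDivisors_of_noZeroDivisors hg)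
  have hηX' : ηX = genericPoint X.left := IsGenericPoint.eq hηX (genericPoint_spec _)
  have hηY' : ηY = genericPoint Y.left := IsGenericPoint.eq hηY (genericPoint_spec _)
  have hηP' : ηP = genericPoint (Limits.pullback X.hom Y.hom : Scheme.{u}) :=
    IsGenericPoint.eq hηP (genericPoint_spec _)
  have hgenX : ηX = jX (genericPoint (Spec (CommRingCat.of (Localization.Away g)))) := by
    haveI : IsDomain (Localization.Away g) :=
      IsLocalization.isDomain_localization (powers_le_nonZeroDivisors_of_noZeroDivisors hg)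
    exact hηX'.trans (genericPoint_eq_of_isOpenImmersion jX).symm
  have hgenY : ηY = jY (genericPoint (Spec Γ(Y.left, V0))) :=
    hηY'.trans (genericPoint_eq_of_isOpenImmersion jY).symm
  have hch : IsProdChart p1 p2 g ηX ηY gB J := by
    refine ⟨rfl, hg, fun y => ?_, fun z hz hzJ => ?_, fun y hy => ?_⟩
    · have e2 : p2 (J y) = jY (Spec.map b y) := congr($hJ2 y)
      rw [e2, hgenY, jY.isOpenEmbedding.injective.eq_iff, genericPoint_eq_bot_of_affine]
      refine ⟨fun h c hc => ?_, fun h => PrimeSpectrum.ext (le_bot_iff.1 fun c hc => h c hc)⟩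
      have : c ∈ (Spec.map b y).asIdeal := hc
      rw [h] at this
      exact this
    · intro hz1
      refine hzJ (hrange ▸ ⟨?_, ?_⟩)
      · exact ⟨_, (hz1.trans hgenX).symm⟩
      · exact ⟨_, (hz.trans hgenY).symm⟩
    · haveI : IsDomain (Localization.Away g) :=
        IsLocalization.isDomain_localization (powers_le_nonZeroDivisors_of_noZeroDivisors hg)
      rw [show p1 (J y) = jX (Spec.map a y) from congr($hJ1 y), hgenX, Ne, jX.isOpenEmbedding.injective.eq_iff,
        genericPoint_eq_bot_of_affine] at hy
      obtain ⟨c, hc, hc0⟩ : ∃ c, c ∈ (Spec.map a y).asIdeal ∧ c ≠ 0 := by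
        by_contra hh
        push Not at hh
        exact hy (PrimeSpectrum.ext (le_bot_iff.1 fun c hc => hh c hc))
      obtain ⟨⟨r, s⟩, hrs⟩ := IsLocalization.surj (Submonoid.powers g) c
      refine ⟨r, fun hr => hc0 ?_, ?_⟩
      · dsimp only at hrs
        rw [hr, map_zero, mul_eq_zero] at hrs
        exact hrs.resolve_right (IsLocalization.map_units _ s).ne_zero
      · show algebraMap _ _ (MvPolynomial.map (algebraMap k Γ(Y.left, V0)) r) ∈ y.asIdeal
        rw [← chartA_algebraMap, ← hrs, map_mul]
        exact Ideal.mul_mem_right _ _ hc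
  letI : Algebra k (FractionRing Γ(Y.left, V0)) := inferInstance
  refine ⟨?_, ?_⟩
  · exact prodClass_surjective p1 p2 δP δX δY (FractionRing Γ(Y.left, V0)) g gB J hsP.2.2 hsX.2.2 hsY.2.2
      ηX ηY ηP hηX' hηY' hηP' hpair hch
  · exact prodClass_injective p1 p2 δP δX δY (FractionRing Γ(Y.left, V0)) g gB J hsP.2.2 hsX.2.2 hsY.2.2
      ηX ηY ηP hηX' hηY' hηP' hpair hch
      (fun r => reached_of_eq hJ1.symm (by
        have h := reached_evaluation a jX (genericPoint (Spec (CommRingCat.of (Localization.Away gB))))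
          (algebraMap _ (Localization.Away g) r)
        rw [show a (algebraMap _ (Localization.Away g) r) = _ from chartA_algebraMap g r] at h
        exact h))
      (fun c => reached_of_eq hJ2.symm (reached_evaluation b jY _ c))

end Groth.Agent.S19501
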