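import Groth.Statements.S19502
import Mathlib
-- import your own Groth.Agent.* helpers here

set_option autoImplicit false
universe u
open W4c3ghconstell

namespace Groth.Agent.S19502

/-- Let ι index the irreducible representations, θ : ι → ℚ a weight which is negative exactly on the
finite set D₋, h h' : ι → ℕ with h' ≤ h pointwise (the isotypic dimensions of an object and of a
sub-object) and Σ_i θ_i h_i summable. For a finite set D of indices put S_D = Σ_{i ∉ D} θ_i h_i, d =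
#(D ∖ D₋) and θ̃_D = Σ_{i ∈ D} θ_i h'_i + (S_D / d) · Σ_{i ∈ D ∖ D₋} h'_i / h_i, the modified weight
attached to the parameters chosen for D (a quotient by zero is read as zero). Then for finite sets
D₋ ⊆ D ⊆ D̃ contained in the locus θ ≠ 0: (first error term) θ̃_{D̃} − θ̃_D = Σ_{τ ∈ D̃ ∖ D} (θ_τ
h_τ + S_{D̃}/d̃) · (h'_τ/h_τ − (1/d) Σ_{σ ∈ D ∖ D₋} h'_σ/h_σ); (second error term) Σ_i θ_i h'_i −
θ̃_D = Σ_{τ ∉ D} θ_τ h_τ · (h'_τ/h_τ − (1/d) Σ_{σ ∈ D ∖ D₋} h'_σ/h_σ). -/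
theorem result {ι : Type u} [DecidableEq ι]
    (θ : ι → ℚ) (h h' : ι → ℕ) (hle : ∀ i, h' i ≤ h i) (hfin : {i | θ i < 0}.Finite)
    (hsum : Summable (fun i => (θ i : ℝ) * (h i : ℝ))) (D D' : Finset ι)
    (hDm : hfin.toFinset ⊆ D) (hDD' : D ⊆ D') (hsupp : ∀ i ∈ D', θ i ≠ 0) :
    (((∑ i ∈ D', (θ i : ℝ) * (h' i : ℝ)) + ((∑' i, if i ∈ D' then (0 : ℝ) else (θ i : ℝ) * (h i : ℝ)) / ((D' \ hfin.toFinset).card : ℝ)) * (∑ σ ∈ D' \ hfin.toFinset, ((h' σ : ℝ) / (h σ : ℝ)))) - ((∑ i ∈ D, (θ i : ℝ) * (h' i : ℝ)) + ((∑' i, if i ∈ D then (0 : ℝ) else (θ i : ℝ) * (h i : ℝ)) / ((D \ hfin.toFinset).card : ℝ)) * (∑ σ ∈ D \ hfin.toFinset, ((h' σ : ℝ) / (h σ : ℝ)))) =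
      ∑ τ ∈ D' \ D, ((θ τ : ℝ) * (h τ : ℝ) + (∑' i, if i ∈ D' then (0 : ℝ) else (θ i : ℝ) * (h i : ℝ)) / ((D' \ hfin.toFinset).card : ℝ)) *
        (((h' τ : ℝ) / (h τ : ℝ)) - (1 / ((D \ hfin.toFinset).card : ℝ)) * (∑ σ ∈ D \ hfin.toFinset, ((h' σ : ℝ) / (h σ : ℝ))))) ∧
    ((∑' i, (θ i : ℝ) * (h' i : ℝ)) - ((∑ i ∈ D, (θ i : ℝ) * (h' i : ℝ)) + ((∑' i, if i ∈ D then (0 : ℝ) else (θ i : ℝ) * (h i : ℝ)) / ((D \ hfin.toFinset).card : ℝ)) * (∑ σ ∈ D \ hfin.toFinset, ((h' σ : ℝ) / (h σ : ℝ)))) =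
      ∑' τ, if τ ∈ D then (0 : ℝ) else (θ τ : ℝ) * (h τ : ℝ) *
        (((h' τ : ℝ) / (h τ : ℝ)) - (1 / ((D \ hfin.toFinset).card : ℝ)) * (∑ σ ∈ D \ hfin.toFinset, ((h' σ : ℝ) / (h σ : ℝ))))) := by
  classical
  have hq : ∀ i, (θ i : ℝ) * (h i : ℝ) * ((h' i : ℝ) / (h i : ℝ)) = (θ i : ℝ) * (h' i : ℝ) := by
    intro i
    rcases Nat.eq_zero_or_pos (h i) with hz | hp
    · have : h' i = 0 := by have := hle i; omega
      simp [hz, this]
    · have : (h i : ℝ) ≠ 0 := by exact_mod_cast hp.ne'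
      field_simp
  have hsum' : Summable (fun i => (θ i : ℝ) * (h' i : ℝ)) :=
    Summable.of_norm_bounded hsum.abs fun i => by
      rw [Real.norm_eq_abs, abs_mul, abs_mul, Nat.abs_cast, Nat.abs_cast]
      exact mul_le_mul_of_nonneg_left (Nat.cast_le.2 (hle i)) (abs_nonneg _)
  have hsplit : ∀ (f : ι → ℝ) (E : Finset ι), Summable f →
      ∑' i, f i = (∑ i ∈ E, f i) + ∑' i, if i ∈ E then 0 else f i := by
    intro f E hf
    rw [← hf.sum_add_tsum_compl (s := E)]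
    congr 1
    refine (tsum_subtype ((E : Set ι)ᶜ) f).trans (tsum_congr fun i => ?_)
    by_cases hi : i ∈ E <;> simp [hi]
  have hS : (∑' i, if i ∈ D then (0 : ℝ) else (θ i : ℝ) * (h i : ℝ)) =
      (∑ i ∈ D' \ D, (θ i : ℝ) * (h i : ℝ)) + ∑' i, if i ∈ D' then (0 : ℝ) else (θ i : ℝ) * (h i : ℝ) := by
    have h1 := hsplit _ D hsum
    have h2 := hsplit _ D' hsum
    rw [← Finset.sum_sdiff hDD'] at h2
    linarith
  have hd : ((D' \ hfin.toFinset).card : ℝ) = ((D \ hfin.toFinset).card : ℝ) + ((D' \ D).card : ℝ) := by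
    rw [← Nat.cast_add, ← Finset.card_union_of_disjoint (Finset.disjoint_left.2 fun x hx hx' =>
      (Finset.mem_sdiff.1 hx').2 (Finset.mem_sdiff.1 hx).1)]
    congr 2
    ext x
    simp only [Finset.mem_union, Finset.mem_sdiff]
    constructor
    · intro hx
      by_cases hxD : x ∈ D
      · exact Or.inl ⟨hxD, hx.2⟩
      · exact Or.inr ⟨hx.1, hxD⟩
    · rintro (hx | hx)
      · exact ⟨hDD' hx.1, hx.2⟩
      · exact ⟨hx.1, fun hm => hx.2 (hDm hm)⟩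
  have hQ : (∑ σ ∈ D' \ hfin.toFinset, ((h' σ : ℝ) / (h σ : ℝ))) =
      (∑ σ ∈ D \ hfin.toFinset, ((h' σ : ℝ) / (h σ : ℝ))) + ∑ σ ∈ D' \ D, ((h' σ : ℝ) / (h σ : ℝ)) := by
    rw [← Finset.sum_union (Finset.disjoint_left.2 fun x hx hx' =>
      (Finset.mem_sdiff.1 hx').2 (Finset.mem_sdiff.1 hx).1)]
    refine Finset.sum_congr ?_ fun _ _ => rfl
    ext x
    simp only [Finset.mem_union, Finset.mem_sdiff]
    constructor
    · intro hx
      by_cases hxD : x ∈ D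
      · exact Or.inl ⟨hxD, hx.2⟩
      · exact Or.inr ⟨hx.1, hxD⟩
    · rintro (hx | hx)
      · exact ⟨hDD' hx.1, hx.2⟩
      · exact ⟨hx.1, fun hm => hx.2 (hDm hm)⟩
  refine ⟨?_, ?_⟩
  · set d := ((D \ hfin.toFinset).card : ℝ) with hddef
    set d' := ((D' \ hfin.toFinset).card : ℝ) with hd'def
    set Q := ∑ σ ∈ D \ hfin.toFinset, ((h' σ : ℝ) / (h σ : ℝ)) with hQdef
    set S' := ∑' i, if i ∈ D' then (0 : ℝ) else (θ i : ℝ) * (h i : ℝ) with hS'def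
    rw [hQ, hS, ← Finset.sum_sdiff hDD']
    simp only [mul_sub, add_mul, hq, Finset.sum_sub_distrib, Finset.sum_add_distrib, ← Finset.sum_mul,
      ← Finset.mul_sum, Finset.sum_const, nsmul_eq_mul]
    by_cases hd0 : d = 0
    · have hQ0 : Q = 0 := by
        rw [hQdef, Finset.card_eq_zero.1 ((Nat.cast_eq_zero (R := ℝ)).1 hd0)]
        simp
      rw [hd0, hQ0]
      simp
      ring
    · have hd'0 : d' ≠ 0 := by
        have : 0 ≤ ((D' \ D).card : ℝ) := Nat.cast_nonneg _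
        have : 0 ≤ d := Nat.cast_nonneg _
        intro hz
        apply hd0
        linarith
      rw [show ((D' \ D).card : ℝ) = d' - d by linarith]
      field_simp
      ring
  · rw [hsplit _ D hsum']
    set c := (1 / ((D \ hfin.toFinset).card : ℝ)) * (∑ σ ∈ D \ hfin.toFinset, ((h' σ : ℝ) / (h σ : ℝ))) with hc
    have hite : ∀ f : ι → ℝ, Summable f → Summable fun i => if i ∈ D then (0 : ℝ) else f i := fun f hf =>
      Summable.of_norm_bounded hf.abs fun i => by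
        by_cases hi : i ∈ D <;> simp [hi]
    have hR : ∀ τ, (if τ ∈ D then (0 : ℝ) else (θ τ : ℝ) * (h τ : ℝ) * (((h' τ : ℝ) / (h τ : ℝ)) - c)) =
        (if τ ∈ D then (0 : ℝ) else (θ τ : ℝ) * (h' τ : ℝ)) -
          c * (if τ ∈ D then (0 : ℝ) else (θ τ : ℝ) * (h τ : ℝ)) := by
      intro τ
      split_ifs
      · ring
      · rw [mul_sub, hq]; ring
    rw [tsum_congr hR, (hite _ hsum').tsum_sub ((hite _ hsum).mul_left c), tsum_mul_left, hc]
    ring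

end Groth.Agent.S19502
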