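import Groth.Statements.S19506
import Groth.Agent.CohenStruct16.SepRegular
import Groth.Agent.SymGr.Regular
import Mathlib.RingTheory.MvPolynomial.Ideal

set_option autoImplicit false
universe u
open CAlg

namespace Groth.Agent.S19506

open MvPolynomial IsLocalRing

/-- If `p i ≡ q i` modulo `I ^ 2` and `q i ∈ I`, monomials agree modulo one more power of `I`. -/
theorem prod_congr_pow {R σ : Type*} [CommRing R] (I : Ideal R) (p q : σ → R) (hq : ∀ i, q i ∈ I)
    (hpq : ∀ i, p i - q i ∈ I ^ 2) (d : σ →₀ ℕ) :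
    (d.prod fun i k => p i ^ k) - (d.prod fun i k => q i ^ k) ∈ I ^ (d.degree + 1) ∧
      (d.prod fun i k => p i ^ k) ∈ I ^ d.degree ∧ (d.prod fun i k => q i ^ k) ∈ I ^ d.degree := by
  classical
  have hp : ∀ i, p i ∈ I := fun i => by
    have := I.add_mem (Ideal.pow_le_self two_ne_zero (hpq i)) (hq i)
    rwa [sub_add_cancel] at this
  induction d using Finsupp.induction_linear with
  | zero => simp
  | add f g hf hg =>
    rw [Finsupp.prod_add_index' (fun i => pow_zero _) (fun i a b => pow_add _ _ _),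
      Finsupp.prod_add_index' (fun i => pow_zero _) (fun i a b => pow_add _ _ _), map_add]
    refine ⟨?_, ?_, ?_⟩
    · rw [show ∀ a a' b b' : R, a * a' - b * b' = (a - b) * a' + b * (a' - b') from
        fun a a' b b' => by ring]
      refine add_mem ?_ ?_
      · rw [show f.degree + g.degree + 1 = (f.degree + 1) + g.degree by ring, pow_add]
        exact Ideal.mul_mem_mul hf.1 hg.2.1
      · rw [show f.degree + g.degree + 1 = f.degree + (g.degree + 1) by ring, pow_add]
        exact Ideal.mul_mem_mul hf.2.2 hg.1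
    · rw [pow_add]; exact Ideal.mul_mem_mul hf.2.1 hg.2.1
    · rw [pow_add]; exact Ideal.mul_mem_mul hf.2.2 hg.2.2
  | single i b =>
    rw [Finsupp.prod_single_index (h := fun i k => p i ^ k) (pow_zero _),
      Finsupp.prod_single_index (h := fun i k => q i ^ k) (pow_zero _), Finsupp.degree_single]
    refine ⟨?_, Ideal.pow_mem_pow (hp i) b, Ideal.pow_mem_pow (hq i) b⟩
    induction b with
    | zero => simp
    | succ b ih =>
      rw [pow_succ (p i), pow_succ (q i), show ∀ a a' c c' : R,
        a * a' - c * c' = (a - c) * a' + c * (a' - c') from fun a a' c c' => by ring]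
      refine add_mem ?_ ?_
      · rw [pow_succ I (b + 1)]
        exact Ideal.mul_mem_mul ih (hp i)
      · rw [show b + 1 + 1 = b + 2 by ring, pow_add I b 2]
        exact Ideal.mul_mem_mul (Ideal.pow_mem_pow (hq i) b) (hpq i)

/-- Substituting `p i ≡ X i` (mod squares) into a form of degree `n` changes it only in degrees `> n`. -/
theorem eq_zero_of_aeval_mem {k σ : Type*} [Field k] (p : σ → MvPolynomial σ k)
    (hp : ∀ i, p i - X i ∈ idealOfVars σ k ^ 2) {n : ℕ} {H : MvPolynomial σ k}
    (hH : H.IsHomogeneous n) (h : aeval p H ∈ idealOfVars σ k ^ (n + 1)) : H = 0 := by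
  classical
  have h1 : aeval p H - aeval X H ∈ idealOfVars σ k ^ (n + 1) := by
    rw [aeval_def, aeval_def, eval₂_eq, eval₂_eq, ← Finset.sum_sub_distrib]
    refine sum_mem fun d hd => ?_
    rw [← mul_sub]
    refine Ideal.mul_mem_left _ _ ?_
    have hdeg : d.degree = n := by
      by_contra hne
      exact (mem_support_iff.mp hd) (hH.coeff_eq_zero hne)
    rw [← hdeg]
    exact (prod_congr_pow _ p X (fun i => Ideal.subset_span (Set.mem_range_self i)) hp d).1
  rw [aeval_X_left_apply] at h1
  have h2 : H ∈ idealOfVars σ k ^ (n + 1) := by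
    have := sub_mem h h1
    rwa [sub_sub_cancel] at this
  refine MvPolynomial.ext _ _ fun d => ?_
  rw [coeff_zero]
  by_cases hd : d.degree = n
  · exact (mem_pow_idealOfVars_iff' _ _).mp h2 d (by omega)
  · exact hH.coeff_eq_zero hd

/-- The truncated polynomial ring. -/
abbrev P (k : Type*) [Field k] (d j : ℕ) : Type _ :=
  MvPolynomial (Fin d) k ⧸ idealOfVars (Fin d) k ^ j

theorem idealOfVars_le_ker {k : Type*} [Field k] {d : ℕ} :
    idealOfVars (Fin d) k ≤ RingHom.ker (constantCoeff : MvPolynomial (Fin d) k →+* k) :=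
  Ideal.span_le.mpr (by rintro _ ⟨i, rfl⟩; simp)

theorem ker_constantCoeff_le {k : Type*} [Field k] {d : ℕ} :
    RingHom.ker (constantCoeff : MvPolynomial (Fin d) k →+* k) ≤ idealOfVars (Fin d) k := by
  intro x hx
  rw [← pow_one (idealOfVars (Fin d) k), mem_pow_idealOfVars_iff']
  intro e he
  rw [Finsupp.degree_eq_zero_iff e |>.mp (by omega)]
  exact hx

/-- The augmentation. -/
noncomputable def eps (k : Type*) [Field k] (d j : ℕ) : P k d (j + 1) →ₐ[k] k :=
  Ideal.Quotient.liftₐ _ (aeval (fun _ : Fin d => (0 : k))) fun a ha => by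
    have h1 : aeval (fun _ : Fin d => (0 : k)) a = constantCoeff a := by simp [aeval_zero']
    rw [h1]
    exact idealOfVars_le_ker (Ideal.pow_le_self (Nat.succ_ne_zero j) ha)

theorem mem_map_of_eps {k : Type*} [Field k] {d j : ℕ} {x : P k d (j + 1)} (hx : eps k d j x = 0) :
    x ∈ (idealOfVars (Fin d) k).map (Ideal.Quotient.mk (idealOfVars (Fin d) k ^ (j + 1))) := by
  obtain ⟨y, rfl⟩ := Ideal.Quotient.mk_surjective x
  refine Ideal.mem_map_of_mem _ (ker_constantCoeff_le ?_)
  rw [RingHom.mem_ker]
  have h1 : aeval (fun _ : Fin d => (0 : k)) y = constantCoeff y := by simp [aeval_zero']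
  rw [← h1]
  exact hx

theorem pow_eq_zero_of_eps {k : Type*} [Field k] {d j : ℕ} {x : P k d (j + 1)} (hx : eps k d j x = 0) :
    x ^ (j + 1) = 0 := by
  have := Ideal.pow_mem_pow (mem_map_of_eps hx) (j + 1)
  rwa [← Ideal.map_pow, Ideal.map_quotient_self, Ideal.mem_bot] at this

theorem isUnit_of_eps {k : Type*} [Field k] {d j : ℕ} {x : P k d (j + 1)} (hx : eps k d j x ≠ 0) :
    IsUnit x := by
  have h1 : eps k d j (x - algebraMap k _ (eps k d j x)) = 0 := by simp
  have h2 : IsNilpotent (x - algebraMap k (P k d (j + 1)) (eps k d j x)) :=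
    ⟨j + 1, pow_eq_zero_of_eps h1⟩
  have h3 := h2.isUnit_add_left_of_commute ((IsUnit.mk0 _ hx).map (algebraMap k (P k d (j + 1))))
    (Commute.all _ _)
  rwa [add_sub_cancel] at h3

theorem nontrivial_P (k : Type*) [Field k] (d j : ℕ) : Nontrivial (P k d (j + 1)) :=
  (eps k d j).toRingHom.domain_nontrivial

theorem isLocalRing_P (k : Type*) [Field k] (d j : ℕ) : IsLocalRing (P k d (j + 1)) := by
  haveI := nontrivial_P k d j
  refine IsLocalRing.of_isUnit_or_isUnit_one_sub_self fun a => ?_
  by_cases ha : eps k d j a = 0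
  · exact Or.inr (isUnit_of_eps (by simp [ha]))
  · exact Or.inl (isUnit_of_eps ha)

theorem isArtinianRing_P (k : Type*) [Field k] (d j : ℕ) : IsArtinianRing (P k d (j + 1)) := by
  haveI : IsNoetherianRing (P k d (j + 1)) := inferInstance
  refine isArtinianRing_iff_krullDimLE_zero.mpr ((Ring.krullDimLE_zero_iff).mpr fun p hp => ?_)
  have h1 : RingHom.ker (eps k d j) ≤ p := fun x hx =>
    hp.mem_of_pow_mem (j + 1) (by rw [pow_eq_zero_of_eps hx]; exact p.zero_mem)
  have h2 : (RingHom.ker (eps k d j)).IsMaximal :=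
    RingHom.ker_isMaximal_of_surjective _ fun c => ⟨algebraMap k _ c, AlgHom.commutes _ c⟩
  rwa [← h2.eq_of_le hp.ne_top h1]

open scoped Classical in
theorem regular_of_lifting (k A : Type u) [Field k]
    [CommRing A] [Algebra k A] [IsLocalRing A] [IsNoetherianRing A]
    (π : A →ₐ[k] k) (hπ : RingHom.ker π = maximalIdeal A)
    (h : ∀ (R : Type u) [CommRing R] [Algebra k R] [IsArtinianRing R] [IsLocalRing R] (J : Ideal R),
        J ^ 2 = ⊥ → ∀ f : A →ₐ[k] R ⧸ J, IsLocalHom (f : A →+* R ⧸ J) →
          ∃ g : A →ₐ[k] R, (Ideal.Quotient.mkₐ k J).comp g = f) :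
    IsRegularLocalRing A := by
  set m := maximalIdeal A
  have hπm : ∀ {x}, π x = 0 ↔ x ∈ m := fun {x} => by rw [← hπ]; exact RingHom.mem_ker.symm
  have hsub : ∀ x, x - algebraMap k A (π x) ∈ m := fun x => hπm.mp (by simp)
  -- a `k`-basis of `m / m²`
  obtain ⟨s, hs⟩ := (IsNoetherian.noetherian m : m.FG)
  have hfin : Module.Finite k m.Cotangent := by
    refine ⟨⟨s.attach.image (fun x : {x // x ∈ s} =>
      m.toCotangent ⟨x.1, hs.le (Submodule.subset_span x.2)⟩), ?_⟩⟩
    rw [eq_top_iff]
    rintro c -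
    obtain ⟨⟨y, hy⟩, rfl⟩ := m.toCotangent_surjective c
    obtain ⟨w, hw⟩ := Submodule.mem_span_finset.mp (hs.ge hy : y ∈ Submodule.span A (s : Set A))
    have heq : (⟨y, hy⟩ : m) =
        ∑ x ∈ s.attach, w x.1 • (⟨x.1, hs.le (Submodule.subset_span x.2)⟩ : m) := by
      apply Subtype.ext
      simp only [AddSubmonoidClass.coe_finset_sum, Submodule.coe_smul]
      rw [Finset.sum_attach s (fun x => w x • x)]
      exact hw.2.symm
    rw [heq, map_sum]
    refine sum_mem fun x hx => ?_
    have h0 : m.toCotangent (w x.1 • (⟨x.1, hs.le (Submodule.subset_span x.2)⟩ : m)) =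
        π (w x.1) • m.toCotangent ⟨x.1, hs.le (Submodule.subset_span x.2)⟩ := by
      rw [← LinearMap.map_smul_of_tower, Ideal.toCotangent_eq, sq]
      show w x.1 * x.1 - (π (w x.1)) • x.1 ∈ m * m
      rw [Algebra.smul_def, ← sub_mul]
      exact Ideal.mul_mem_mul (hsub _) (hs.le (Submodule.subset_span x.2))
    rw [h0]
    exact Submodule.smul_mem _ _ (Submodule.subset_span (Finset.mem_coe.mpr
      (Finset.mem_image_of_mem _ hx)))
  obtain ⟨d, ⟨b⟩⟩ : ∃ d, Nonempty (Module.Basis (Fin d) k m.Cotangent) :=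
    ⟨_, ⟨Module.finBasis k m.Cotangent⟩⟩
  choose a' ha' using fun i => m.toCotangent_surjective (b i)
  let a : Fin d → A := fun i => (a' i : A)
  have hspan : Ideal.span (Set.range a) = m := by
    refine le_antisymm (Ideal.span_le.mpr (by rintro _ ⟨i, rfl⟩; exact (a' i).2)) ?_
    refine Submodule.le_of_le_smul_of_le_jacobson_bot (IsNoetherian.noetherian m)
      (IsLocalRing.maximalIdeal_le_jacobson _) (fun x hx => ?_)
    have hb := b.sum_repr (m.toCotangent ⟨x, hx⟩)
    simp_rw [← ha', ← LinearMap.map_smul_of_tower, ← map_sum] at hb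
    have hd := (Ideal.toCotangent_eq _).mp hb.symm
    rw [smul_eq_mul, ← sq]
    refine Submodule.mem_sup.mpr ⟨_, ?_, _, hd, add_sub_cancel _ _⟩
    simp only [AddSubmonoidClass.coe_finset_sum, Submodule.coe_smul_of_tower]
    exact sum_mem fun i _ => by
      rw [Algebra.smul_def]
      exact Ideal.mul_mem_left _ _ (Ideal.subset_span ⟨i, rfl⟩)
  let I := idealOfVars (Fin d) k
  -- coordinates modulo `m²`
  let D : A →ₗ[k] (Fin d → k) := b.equivFun.toLinearMap ∘ₗ
    (m.toCotangent.restrictScalars k) ∘ₗ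
      { toFun := fun x => (⟨x - algebraMap k A (π x), hsub x⟩ : m)
        map_add' := fun x y => Subtype.ext (by simp only [map_add, Submodule.coe_add]; ring)
        map_smul' := fun c x => Subtype.ext (by
          simp only [Algebra.smul_def, map_mul, AlgHom.commutes, Algebra.algebraMap_self,
            RingHom.id_apply, Submodule.coe_smul_of_tower]
          ring) }
  have hDa : ∀ i, D (a i) = Pi.single i 1 := fun i => by
    have h0 : π (a i) = 0 := hπm.mpr (a' i).2
    simp only [D, LinearMap.comp_apply, LinearMap.coe_mk, AddHom.coe_mk, h0, map_zero, sub_zero,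
      LinearMap.coe_restrictScalars, LinearEquiv.coe_coe]
    rw [show (⟨a i, _⟩ : m) = a' i from rfl, ha']
    funext j
    simp [Module.Basis.equivFun_apply, Finsupp.single_apply, Pi.single_apply, eq_comm]
  have hDmul : ∀ x y, D (x * y) = π x • D y + π y • D x := fun x y => by
    simp only [D, LinearMap.comp_apply, LinearMap.coe_mk, AddHom.coe_mk, ← map_smul,
      LinearMap.coe_restrictScalars, LinearEquiv.coe_coe, ← map_add, ← LinearMap.map_smul_of_tower]
    congr 1
    rw [Ideal.toCotangent_eq, sq]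
    simp only [Submodule.coe_add, Submodule.coe_smul_of_tower, Algebra.smul_def, map_mul]
    rw [show ∀ u v : A, x * y - u * v - (u * (y - v) + v * (x - u)) = (x - u) * (y - v) from
      fun u v => by ring]
    exact Ideal.mul_mem_mul (hsub x) (hsub y)
  let L : A →ₗ[k] MvPolynomial (Fin d) k :=
    (Algebra.linearMap k _).comp π.toLinearMap +
      ∑ i, (((LinearMap.proj i).comp D).smulRight (X i : MvPolynomial (Fin d) k))
  have hL : ∀ x, L x = C (π x) + ∑ i, C (D x i) * X i := fun x => by
    simp [L, MvPolynomial.algebraMap_eq, MvPolynomial.smul_eq_C_mul]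
  have hLI : ∀ x, ∑ i, C (D x i) * X i ∈ I := fun x =>
    sum_mem fun i _ => Ideal.mul_mem_left _ _ (Ideal.subset_span ⟨i, rfl⟩)
  let g2 : A →ₐ[k] P k d (1 + 1) := AlgHom.ofLinearMap ((Ideal.Quotient.mkₐ k _).toLinearMap ∘ₗ L)
    (by
      show Ideal.Quotient.mk _ (L 1) = 1
      have h1 : D (1 : A) = 0 := by
        have := hDmul 1 1
        simp only [one_mul, map_one, one_smul] at this
        exact left_eq_add.mp this
      rw [hL, map_one π, h1]
      simp)
    (fun x y => by
      show Ideal.Quotient.mk _ (L (x * y)) = Ideal.Quotient.mk _ (L x) * Ideal.Quotient.mk _ (L y)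
      rw [← map_mul, Ideal.Quotient.eq, hL, hL, hL, hDmul, map_mul π]
      simp only [Pi.add_apply, Pi.smul_apply, smul_eq_mul, map_add, map_mul, add_mul, Finset.sum_add_distrib]
      simp only [mul_assoc, ← Finset.mul_sum]
      rw [show ∀ u v s t : MvPolynomial (Fin d) k,
        u * v + (u * t + v * s) - (u * (v + t) + s * (v + t)) = -(s * t) from fun u v s t => by ring,
        Ideal.neg_mem_iff, sq]
      exact Ideal.mul_mem_mul (hLI x) (hLI y))
  -- successive lifts
  have lifts : ∀ j : ℕ, ∃ g : A →ₐ[k] P k d (j + 1 + 1),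
      ∀ i, ∃ p, g (a i) = Ideal.Quotient.mk _ p ∧ p - X i ∈ I ^ 2 := by
    intro j
    induction j with
    | zero =>
      refine ⟨g2, fun i => ⟨L (a i), rfl, ?_⟩⟩
      have h0 : π (a i) = 0 := hπm.mpr (a' i).2
      rw [hL, h0, hDa, Finset.sum_eq_single i (fun c _ hc => by simp [Pi.single_eq_of_ne hc])
        (fun hi => absurd (Finset.mem_univ i) hi)]
      simp
    | succ j ih =>
      obtain ⟨g, hg⟩ := ih
      let q := Ideal.Quotient.mk (I ^ (j + 1 + 1 + 1))
      let J : Ideal (P k d (j + 1 + 1 + 1)) := (I ^ (j + 1 + 1)).map q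
      have hJ : J ^ 2 = ⊥ := by
        rw [eq_bot_iff, ← Ideal.map_pow, ← pow_mul,
          ← Ideal.map_quotient_self (I ^ (j + 1 + 1 + 1))]
        exact Ideal.map_mono (Ideal.pow_le_pow_right (by omega))
      let e : P k d (j + 1 + 1) →ₐ[k] P k d (j + 1 + 1 + 1) ⧸ J :=
        Ideal.Quotient.liftₐ _ ((Ideal.Quotient.mkₐ k J).comp (Ideal.Quotient.mkₐ k _)) fun z hz =>
          Ideal.Quotient.eq_zero_iff_mem.mpr (Ideal.mem_map_of_mem q hz)
      haveI := isLocalRing_P k d (j + 1 + 1)
      haveI := isArtinianRing_P k d (j + 1 + 1)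
      have hloc : IsLocalHom ((e.comp g : A →ₐ[k] P k d (j + 1 + 1 + 1) ⧸ J) :
          A →+* P k d (j + 1 + 1 + 1) ⧸ J) := by
        refine ⟨fun x hx => ?_⟩
        by_contra hux
        have hxm : π x = 0 := hπm.mpr hux
        have h1 : (RingHom.ker ((eps k d (j + 1)).comp g)) = m :=
          IsLocalRing.eq_maximalIdeal (RingHom.ker_isMaximal_of_surjective _
            fun c => ⟨algebraMap k A c, AlgHom.commutes _ c⟩)
        have h2 : eps k d (j + 1) (g x) = 0 := h1.ge (hπm.mp hxm)
        have h3 : IsNilpotent ((e.comp g) x) :=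
          IsNilpotent.map (⟨_, pow_eq_zero_of_eps h2⟩ : IsNilpotent (g x)) e
        haveI : Nontrivial (P k d (j + 1 + 1 + 1) ⧸ J) := by
          refine Ideal.Quotient.nontrivial_iff.mpr fun hJt => ?_
          rw [hJt, Ideal.top_pow] at hJ
          exact top_ne_bot hJ
        exact h3.not_isUnit hx
      obtain ⟨g', hg'⟩ := h (P k d (j + 1 + 1 + 1)) J hJ (e.comp g) hloc
      refine ⟨g', fun i => ?_⟩
      obtain ⟨p, hp, hpX⟩ := hg i
      obtain ⟨p', hp'⟩ := Ideal.Quotient.mk_surjective (g' (a i))
      refine ⟨p', hp'.symm, ?_⟩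
      have h1 : Ideal.Quotient.mk J (g' (a i)) = Ideal.Quotient.mk J (q p) := by
        have := DFunLike.congr_fun hg' (a i)
        simp only [AlgHom.comp_apply, Ideal.Quotient.mkₐ_eq_mk] at this
        rw [this, hp]
        rfl
      rw [← hp', Ideal.Quotient.eq, ← map_sub] at h1
      have h2 : p' - p ∈ ((I ^ (j + 1 + 1)).map q).comap q := h1
      rw [Ideal.comap_map_of_surjective q Ideal.Quotient.mk_surjective,
        show Ideal.comap q ⊥ = I ^ (j + 1 + 1 + 1) from Ideal.mk_ker] at h2
      have h3 : p' - p ∈ I ^ 2 :=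
        (sup_le (Ideal.pow_le_pow_right (by omega)) (Ideal.pow_le_pow_right (by omega)) :
          I ^ (j + 1 + 1) ⊔ I ^ (j + 1 + 1 + 1) ≤ I ^ 2) h2
      have := add_mem h3 hpX
      rwa [sub_add_sub_cancel] at this
  -- quasi-regularity
  refine SymGr.Regular.isRegularLocalRing_iff_symGr.mpr
    (SymGr.Quasi.symGrBijective_of_isQuasiRegular hspan.symm.symm (fun n H hH hev e => ?_))
  rw [hspan]
  let H₀ : MvPolynomial (Fin d) k := MvPolynomial.map π.toRingHom H
  have hH₀ : H₀.IsHomogeneous n := hH.map _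
  suffices H₀ = 0 by
    apply hπm.mp
    have h1 := congrArg (coeff e) this
    simpa [H₀, coeff_map] using h1
  have hev0 : aeval a H₀ ∈ m ^ (n + 1) := by
    have h1 : eval a (H - MvPolynomial.map (algebraMap k A) H₀) ∈ Ideal.span (Set.range a) ^ (n + 1) :=
      RegLoc.AdicNoeth.mem_pow_succ_of_coeff_mem a (hH.sub (hH₀.map _)) fun c => by
        rw [hspan, coeff_sub, coeff_map, coeff_map]
        exact hsub _
    have h2 := sub_mem hev h1
    rw [map_sub, sub_sub_cancel, eval_map, ← aeval_def, hspan] at h2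
    exact h2
  cases n with
  | zero =>
    have hc : H₀ = C (coeff 0 H₀) :=
      (totalDegree_eq_zero_iff_eq_C).mp (Nat.le_zero.mp hH₀.totalDegree_le)
    rw [hc, aeval_C] at hev0
    have := hπm.mpr (Ideal.pow_le_self (by omega) hev0)
    rw [AlgHom.commutes] at this
    rw [hc, show coeff 0 H₀ = 0 from this, map_zero]
  | succ n =>
    obtain ⟨g, hg⟩ := lifts n
    choose p hp hpX using hg
    refine eq_zero_of_aeval_mem p hpX hH₀ ?_
    have hker : ∀ x ∈ m, g x ∈ I.map (Ideal.Quotient.mk (I ^ (n + 1 + 1))) := fun x hx => by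
      have h1 : (RingHom.ker ((eps k d (n + 1)).comp g)) = m :=
        IsLocalRing.eq_maximalIdeal (RingHom.ker_isMaximal_of_surjective _
          fun c => ⟨algebraMap k A c, AlgHom.commutes _ c⟩)
      exact mem_map_of_eps (h1.ge hx)
    have h3 : g (aeval a H₀) = 0 := by
      have h4 : g (aeval a H₀) ∈ (m ^ (n + 1 + 1)).map g.toRingHom := Ideal.mem_map_of_mem _ hev0
      rw [Ideal.map_pow] at h4
      have h5 : m.map g.toRingHom ≤ I.map (Ideal.Quotient.mk (I ^ (n + 1 + 1))) :=
        Ideal.map_le_iff_le_comap.mpr hker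
      have h6 := Ideal.pow_right_mono h5 _ h4
      rwa [← Ideal.map_pow, Ideal.map_quotient_self, Ideal.mem_bot] at h6
    rw [← AlgHom.comp_apply, comp_aeval] at h3
    rw [show (fun i => g (a i)) = fun i => Ideal.Quotient.mkₐ k (I ^ (n + 1 + 1)) (p i) from funext hp,
      ← comp_aeval, AlgHom.comp_apply, Ideal.Quotient.mkₐ_eq_mk, Ideal.Quotient.eq_zero_iff_mem] at h3
    exact h3

/-- (i) ⇔ (iii): let k be a field and A a complete local Noetherian k-algebra with residue field k (a
k-algebra map π : A → k with kernel the maximal ideal; A complete for the adic topology of its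
maximal ideal). Then A is regular if and only if A satisfies the infinitesimal lifting criterion:
for every Artinian local k-algebra R and every ideal J of R of square zero, every local k-algebra
homomorphism A → R/J (one carrying non-units to non-units) lifts to a k-algebra homomorphism A → R.
(The test algebras R range over one universe, that of A. The published criterion is worded for
arbitrary k-algebra homomorphisms A → R/J; it is stated here for local ones, the case the argument
establishes and the form in which the text itself restates the criterion afterwards. The published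
statement lists a third equivalent condition, A ≅ k[[x_1, …, x_d]].) -/
theorem result (k A : Type u) [Field k]
    [CommRing A] [Algebra k A] [IsLocalRing A] [IsNoetherianRing A]
    [IsAdicComplete (IsLocalRing.maximalIdeal A) A]
    (π : A →ₐ[k] k) (hπ : RingHom.ker π = IsLocalRing.maximalIdeal A) :
    IsRegularLocalRing A ↔
      ∀ (R : Type u) [CommRing R] [Algebra k R] [IsArtinianRing R] [IsLocalRing R] (J : Ideal R),
        J ^ 2 = ⊥ → ∀ f : A →ₐ[k] R ⧸ J, IsLocalHom (f : A →+* R ⧸ J) →
          ∃ g : A →ₐ[k] R, (Ideal.Quotient.mkₐ k J).comp g = f := by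
  refine ⟨fun hA R _ _ _ _ J hJ f hf => ?_, fun h => regular_of_lifting k A π hπ h⟩
  have hres : Function.Bijective (algebraMap k (IsLocalRing.ResidueField A)) := by
    refine ⟨(algebraMap k _).injective, fun y => ?_⟩
    obtain ⟨x, rfl⟩ := IsLocalRing.residue_surjective y
    refine ⟨π x, Ideal.Quotient.eq.mpr ?_⟩
    rw [← hπ, RingHom.mem_ker, map_sub, AlgHom.commutes, Algebra.algebraMap_self_apply, sub_self]
  haveI : Algebra.FormallySmooth k (IsLocalRing.ResidueField A) :=
    Algebra.FormallySmooth.of_equiv (AlgEquiv.ofBijective (Algebra.ofId k _) hres)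
  haveI : Algebra.IsGeometricallyReduced k (IsLocalRing.ResidueField A) :=
    (FieldSep.MacLane.formallySmooth_iff k _).1 inferInstance
  obtain ⟨N, hN⟩ := IsArtinianRing.isNilpotent_jacobson_bot (R := R)
  refine CohenStruct16.SepRegular.formallySmooth_of_regular (k := k) (A := A) R J hJ f ⟨N, fun x hx => ?_⟩
  have h2 : f x ∈ ((IsLocalRing.maximalIdeal A).map f.toRingHom) ^ N := by
    rw [← Ideal.map_pow]; exact Ideal.mem_map_of_mem _ hx
  have h1 : (IsLocalRing.maximalIdeal A).map f.toRingHom ≤
      (IsLocalRing.maximalIdeal R).map (Ideal.Quotient.mk J) := by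
    refine Ideal.map_le_iff_le_comap.mpr fun y hy => ?_
    obtain ⟨r, hr⟩ := Ideal.Quotient.mk_surjective (f y)
    rw [Ideal.mem_comap]
    show f y ∈ (IsLocalRing.maximalIdeal R).map (Ideal.Quotient.mk J)
    rw [← hr]
    refine Ideal.mem_map_of_mem _ fun hru => hy (hf.map_nonunit y ?_)
    show IsUnit (f y)
    rw [← hr]; exact hru.map _
  have h3 := Ideal.pow_right_mono h1 N h2
  rwa [← IsLocalRing.jacobson_eq_maximalIdeal ⊥ bot_ne_top, ← Ideal.map_pow, hN, Ideal.zero_eq_bot,
    Ideal.map_bot, Ideal.mem_bot] at h3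

end Groth.Agent.S19506
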