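import Groth.Statements.S19509
import Groth.Agent.SGA7Lib.TorsionEtale

set_option autoImplicit false
set_option linter.style.haveILetI false
universe u
open CategoryTheory MonoidalCategory CartesianMonoidalCategory MonObj GrpObj AlgebraicGeometry
open Neron

namespace Groth.Agent.S19509

open CategoryTheory AlgebraicGeometry in
/-- rational points with the same image are equal -/
theorem ext_of_apply_eq {k : Type u} [Field k] {X : Scheme.{u}} (h : X ⟶ Spec (CommRingCat.of k))
    {f g : Spec (CommRingCat.of k) ⟶ X} (hf : f ≫ h = 𝟙 _) (hg : g ≫ h = 𝟙 _)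
    (H : f.base (IsLocalRing.closedPoint k) = g.base (IsLocalRing.closedPoint k)) : f = g := by
  have key : ∀ (e : Spec (CommRingCat.of k) ⟶ X) (z : X), e.base (IsLocalRing.closedPoint k) = z →
      ∃ φ : X.residueField z ⟶ CommRingCat.of k, Spec.map φ ≫ X.fromSpecResidueField z = e := by
    rintro e z rfl
    exact ⟨_, Scheme.descResidueField_stalkClosedPointTo_fromSpecResidueField k X e⟩
  obtain ⟨φ₁, h₁⟩ := key f _ rfl
  obtain ⟨φ₂, h₂⟩ := key g _ H.symm
  let z := f.base (IsLocalRing.closedPoint k)
  let ι' : CommRingCat.of k ⟶ X.residueField z := Spec.preimage (X.fromSpecResidueField z ≫ h)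
  have hι : ∀ (φ : X.residueField z ⟶ CommRingCat.of k),
      (Spec.map φ ≫ X.fromSpecResidueField z) ≫ h = 𝟙 _ → ι' ≫ φ = 𝟙 _ := by
    intro φ hφ
    apply Spec.map_injective
    rw [Spec.map_comp, Spec.map_preimage, Spec.map_id, ← Category.assoc]
    exact hφ
  have e₁ := hι φ₁ (by rw [h₁, hf])
  have e₂ := hι φ₂ (by rw [h₂, hg])
  have : φ₁ = φ₂ := by
    ext y
    have hy : ι'.hom (φ₁.hom y) = y := φ₁.hom.injective
      (RingHom.congr_fun (congrArg CommRingCat.Hom.hom e₁) (φ₁.hom y))
    exact (RingHom.congr_fun (congrArg CommRingCat.Hom.hom e₂) (φ₁.hom y)).symm.trans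
      (congrArg φ₂.hom hy)
  rw [← h₁, ← h₂, this]

/-- Let R be a complete discrete valuation ring whose fraction field K has characteristic zero and whose
residue field k has characteristic p > 0, and let N be a commutative R-group scheme which is a Néron
model of its generic fibre, an abelian variety over K. Then the torsion of order prime to p of N(R)
= A(K) injects into the special fibre under reduction: a section x with x^n = 1, n ≥ 1 prime to p,
whose value at the closed point of Spec R is the identity point of the special fibre, is the unit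
section. -/
theorem result (R : Type u) [CommRing R] [IsDomain R]
    [IsDiscreteValuationRing R] [IsAdicComplete (IsLocalRing.maximalIdeal R) R] (K : Type u) [Field K] [Algebra R K]
    [IsFractionRing R K] [CharZero K] (p : ℕ) [Fact p.Prime] [CharP (IsLocalRing.ResidueField R) p]
    (N : Over (Spec (CommRingCat.of R))) [GrpObj N] [IsCommMonObj N] (hN : SGA7.IsNeron R K N)
    [IsProper ((SGA7.genFib R K).obj N).hom] [GeometricallyIntegral ((SGA7.genFib R K).obj N).hom]
    (x : 𝟙_ (Over (Spec (CommRingCat.of R))) ⟶ N) (n : ℕ) (hn : 0 < n) (hx : x ^ n = 1)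
    (hred : x.left.base (IsLocalRing.closedPoint R) = (η[N]).left.base (IsLocalRing.closedPoint R))
    (hnp : Nat.Coprime n p) : x = 1 := by
  obtain ⟨hsm, hsep, hqc, -⟩ := hN
  have hnk : (n : IsLocalRing.ResidueField R) ≠ 0 := by
    rw [Ne, CharP.cast_eq_zero_iff _ p]
    intro hdvd
    exact (Fact.out : p.Prime).not_dvd_one (hnp ▸ Nat.dvd_gcd hdvd dvd_rfl)
  haveI : Etale ((𝟙 N : N ⟶ N) ^ n).left := by
    refine SGA7Lib.etale_pow N (fun s => inferInstance) n fun q h0 => ?_
    have hu : IsUnit (n : R) :=
      (IsLocalRing.residue_ne_zero_iff_isUnit _).1 (by rwa [map_natCast])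
    let φ : R →+* (Spec (CommRingCat.of R)).residueField q :=
      (Spec.preimage ((Spec (CommRingCat.of R)).fromSpecResidueField q)).hom
    exact not_isUnit_zero (h0 ▸ map_natCast φ n ▸ hu.map φ)
  let f := ((𝟙 N : N ⟶ N) ^ n).left
  haveI : LocallyOfFiniteType f := inferInstance
  haveI : FormallyUnramified f := inferInstance
  have hη : (1 : 𝟙_ (Over (Spec (CommRingCat.of R))) ⟶ N) = η[N] := by
    rw [Hom.one_def, toUnit_unique (toUnit _) (𝟙 _), Category.id_comp]
  ext1
  refine SGA7Lib.eq_of_unramified f _ _ ?_ ?_
  · rw [← Over.comp_left, ← Over.comp_left, MonObj.comp_pow, MonObj.comp_pow, Category.comp_id,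
      Category.comp_id, hx, one_pow]
  · let r := Spec.map (CommRingCat.ofHom (IsLocalRing.residue R))
    haveI : IsClosedImmersion r :=
      IsClosedImmersion.spec_of_surjective _ Ideal.Quotient.mk_surjective
    let l : ∀ y : 𝟙_ (Over (Spec (CommRingCat.of R))) ⟶ N,
        Spec (CommRingCat.of (IsLocalRing.ResidueField R)) ⟶ Limits.pullback N.hom r := fun y =>
      Limits.pullback.lift (r ≫ y.left) (𝟙 _) (by
        rw [Category.assoc, Over.w y, Category.id_comp]; exact Category.comp_id _)
    have hl : l x = l 1 := by
      refine ext_of_apply_eq (Limits.pullback.snd N.hom r) (Limits.pullback.lift_snd _ _ _)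
        (Limits.pullback.lift_snd _ _ _) ((Limits.pullback.fst N.hom r).isEmbedding.injective ?_)
      refine (Scheme.Hom.comp_apply (l x) _ _).symm.trans (Eq.trans ?_ (Scheme.Hom.comp_apply (l 1) _ _))
      simp only [l, Limits.pullback.lift_fst, hη]
      exact (Scheme.Hom.comp_apply r x.left _).trans
        (((congrArg x.left.base (IsLocalRing.comap_closedPoint (IsLocalRing.residue R))).trans hred).trans
          ((congrArg η[N].left.base (IsLocalRing.comap_closedPoint (IsLocalRing.residue R))).symm.trans
            (Scheme.Hom.comp_apply r η[N].left _).symm))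
    have := congrArg (· ≫ Limits.pullback.fst N.hom r) hl
    simp only [l, Limits.pullback.lift_fst] at this
    exact this

end Groth.Agent.S19509
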