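import Groth.Statements.S1951
import Groth.Agent.IntMult66.Ext
import Groth.Agent.IntMult66.Bilin

set_option autoImplicit false
universe u
open CategoryTheory CategoryTheory.Limits AlgebraicGeometry
attribute [local instance] HasDerivedCategory.standard
open IntMult

namespace Groth.Agent.S1951

/-- Let X, Y be nonsingular varieties over K of dimensions n, m, α an r-cycle on X and β an s-cycle on
Y. Then pr_X^*α and pr_Y^*β (flat pullbacks to X ×_K Y, of relative dimensions m and n) intersect
properly on X ×_K Y and pr_X^*α · pr_Y^*β = α × β as (r + s)-cycles, coefficientwise. Here X is a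
nonsingular variety over the algebraically closed field K (smooth, separated, quasi-compact,
integral) with dimension function δ (transcendence degree) and n = dim X; cycles are Mathlib
AlgebraicCycles with Cyc.Zk membership, proper intersection is IntMult.IntersectProperly and α · β
is the Tor-formula intersection product on coefficient functions (IntMult.interProd), bundled where
needed as 'any cycle with these coefficients'. -/
theorem result (K : Type u) [Field K] [IsAlgClosed K] (X Y : Scheme.{u}) (f : X ⟶ Spec (CommRingCat.of K)) (g : Y ⟶ Spec (CommRingCat.of K)) [Smooth f] [IsSeparated f] [QuasiCompact f] [IsIntegral X] [Smooth g] [IsSeparated g] [QuasiCompact g] [IsIntegral Y] (δX : X → ℤ) (δY : Y → ℤ) (δ : ↥(pullback f g) → ℤ) (hX : Cyc.DeltaCompat f δX (fun _ => 0)) (hY : Cyc.DeltaCompat g δY (fun _ => 0)) (hXY : Cyc.DeltaCompat (pullback.fst f g ≫ f) δ (fun _ => 0)) (n m : ℕ) (hn : δX (genericPoint X) = n) (hm : δY (genericPoint Y) = m) (r s : ℤ) (α : AlgebraicCycle X ℤ) (β : AlgebraicCycle Y ℤ) (hα : α ∈ Cyc.Zk X δX r) (hβ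 : β ∈ Cyc.Zk Y δY s) : IntMult.IntersectProperly δ (n + m) (Cyc.pullFun (pullback.fst f g) δ δX m ⇑α) (Cyc.pullFun (pullback.snd f g) δ δY n ⇑β) ∧ IntMult.interProd δ (n + m) (Cyc.pullFun (pullback.fst f g) δ δX m ⇑α) (Cyc.pullFun (pullback.snd f g) δ δY n ⇑β) = IntMult.extProd f g δX δY δ ⇑α ⇑β := by
  classical
  open Groth.Agent.IntMult66 Groth.Agent.CycLib in
  exact (by
    set p := pullback.fst f g
    set q := pullback.snd f g
    have hsW := isSetup_of_deltaCompat (p ≫ f) hXY
    haveI := hsW.1
    haveI := (isSetup_of_deltaCompat f hX).1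
    haveI := (isSetup_of_deltaCompat g hY).1
    haveI : CompactSpace X := QuasiCompact.compactSpace_of_compactSpace f
    haveI : CompactSpace Y := QuasiCompact.compactSpace_of_compactSpace g
    haveI : CompactSpace ↥(pullback f g) := QuasiCompact.compactSpace_of_compactSpace (p ≫ f)
    have hqc : Cyc.DeltaCompat (q ≫ g) δ (fun _ => 0) := pullback.condition (f := f) (g := g) ▸ hXY
    have hcp : Cyc.DeltaCompat p δ δX := by
      rw [delta_eq (p ≫ f) hXY, delta_eq f hX]
      exact deltaCompat_fdelta K p (p ≫ f) f rfl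
    have hcq : Cyc.DeltaCompat q δ δY := by
      rw [delta_eq (q ≫ g) hqc, delta_eq g hY]
      exact deltaCompat_fdelta K q (q ≫ g) g rfl
    obtain ⟨-, hrf⟩ := hasRelDim_toField f hX
    obtain ⟨-, hrg⟩ := hasRelDim_toField g hY
    rw [hn, Int.toNat_natCast] at hrf
    rw [hm, Int.toNat_natCast] at hrg
    have hrp : Cyc.HasRelDim p m := (Groth.Agent.S9358.result g f q p (IsPullback.of_hasPullback f g).flip m).2.2 hrg
    have hrq : Cyc.HasRelDim q n := (Groth.Agent.S9358.result f g p q (IsPullback.of_hasPullback f g) n).2.2 hrf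
    obtain ⟨α', hα'⟩ := exists_pull_cycle p hsW.2.2 (fun z hz => delta_eq_of_generic p hcp hrp z hz) α
    obtain ⟨β', hβ'⟩ := exists_pull_cycle q hsW.2.2 (fun z hz => delta_eq_of_generic q hcq hrq z hz) β
    let S := (finite_support_of_compact α).toFinset
    let T := (finite_support_of_compact β).toFinset
    let S' := (finite_support_of_compact α').toFinset
    let T' := (finite_support_of_compact β').toFinset
    have hS : ∀ y, y ∉ S → α y = 0 := fun y hy => by simpa [S] using hy
    have hT : ∀ y, y ∉ T → β y = 0 := fun y hy => by simpa [T] using hy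
    have hS' : ∀ u, u ∉ S' → Cyc.pullFun p δ δX m ⇑α u = 0 := fun u hu => by rw [← hα']; simpa [S'] using hu
    have hT' : ∀ u, u ∉ T' → Cyc.pullFun q δ δY n ⇑β u = 0 := fun u hu => by rw [← hβ']; simpa [T'] using hu
    have hone : ∀ {Z : Scheme.{u}} (φ : ↥(pullback f g) → Z) (u : ↥(pullback f g)) (x : Z),
        (Set.indicator {x} 1 (φ u) : ℤ) ≠ 0 → φ u = x := fun φ u x h => by simpa [Set.indicator_apply] using h
    have hp1 : ∀ (a : X) (u : ↥(pullback f g)), α a ≠ 0 →
        Cyc.pullFun p δ δX m (Set.indicator {a} 1) u ≠ 0 → Cyc.pullFun p δ δX m ⇑α u ≠ 0 := by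
      intro a u ha hu
      unfold Cyc.pullFun at hu ⊢
      split_ifs at hu ⊢ with hd
      · have e := hone _ u a (left_ne_zero_of_mul hu)
        exact mul_ne_zero (e ▸ ha) (right_ne_zero_of_mul hu)
      · exact absurd rfl hu
    have hq1 : ∀ (a : Y) (u : ↥(pullback f g)), β a ≠ 0 →
        Cyc.pullFun q δ δY n (Set.indicator {a} 1) u ≠ 0 → Cyc.pullFun q δ δY n ⇑β u ≠ 0 := by
      intro a u ha hu
      unfold Cyc.pullFun at hu ⊢
      split_ifs at hu ⊢ with hd
      · have e := hone _ u a (left_ne_zero_of_mul hu)
        exact mul_ne_zero (e ▸ ha) (right_ne_zero_of_mul hu)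
      · exact absurd rfl hu
    have hpα : ∀ u, Cyc.pullFun p δ δX m ⇑α u =
        ∑ a ∈ S, α a * Cyc.pullFun p δ δX m (Set.indicator {a} 1) u := fun u => by
      unfold Cyc.pullFun
      split_ifs with h
      · rw [eq_sum_indicator ⇑α S hS (p u), Finset.sum_mul]
        exact Finset.sum_congr rfl fun ξ _ => by ring
      · simp
    have hqβ : ∀ u, Cyc.pullFun q δ δY n ⇑β u =
        ∑ a ∈ T, β a * Cyc.pullFun q δ δY n (Set.indicator {a} 1) u := fun u => by
      unfold Cyc.pullFun
      split_ifs with h
      · rw [eq_sum_indicator ⇑β T hT (q u), Finset.sum_mul]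
        exact Finset.sum_congr rfl fun ξ _ => by ring
      · simp
    refine ⟨fun u v z hu hv huz hvz => ?_, funext fun w => ?_⟩
    · obtain ⟨a, ha, hua⟩ := Finset.exists_ne_zero_of_sum_ne_zero ((hpα u).symm.trans_ne hu)
      obtain ⟨b, hb, hvb⟩ := Finset.exists_ne_zero_of_sum_ne_zero ((hqβ v).symm.trans_ne hv)
      exact (interProd_extProd_prime f g hX hY hXY a b n m hn hm).1 u v z (right_ne_zero_of_mul hua)
        (right_ne_zero_of_mul hvb) huz hvz
    rw [interProd_eq_sum δ _ _ _ S' T' hS' hT' w]
    calc _ = ∑ a ∈ S, ∑ b ∈ T, ∑ u ∈ S', ∑ v ∈ T', (α a * Cyc.pullFun p δ δX m (Set.indicator {a} 1) u) *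
            (β b * Cyc.pullFun q δ δY n (Set.indicator {b} 1) v) *
            IntMult.interProd δ (n + m) (Set.indicator {u} 1) (Set.indicator {v} 1) w := by
          symm
          rw [Finset.sum_comm_cycle]
          refine Finset.sum_congr rfl fun u _ => ?_
          rw [Finset.sum_comm_cycle]
          refine Finset.sum_congr rfl fun v _ => ?_
          rw [hpα u, hqβ v, Finset.sum_mul_sum, Finset.sum_mul]
          refine Finset.sum_congr rfl fun a _ => ?_
          rw [Finset.sum_mul]
      _ = ∑ a ∈ S, ∑ b ∈ T, α a * β b *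
            IntMult.extProd f g δX δY δ (Set.indicator {a} 1) (Set.indicator {b} 1) w := by
          refine Finset.sum_congr rfl fun a _ => Finset.sum_congr rfl fun b _ => ?_
          by_cases h0 : α a = 0 ∨ β b = 0
          · rcases h0 with h0 | h0 <;> simp [h0]
          rw [not_or] at h0
          rw [← (interProd_extProd_prime f g hX hY hXY a b n m hn hm).2,
            interProd_eq_sum δ _ _ _ S' T'
              (fun u hu => by_contra fun h => hp1 a u h0.1 h (hS' u hu))
              (fun u hu => by_contra fun h => hq1 b u h0.2 h (hT' u hu)) w, Finset.mul_sum]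
          refine Finset.sum_congr rfl fun u _ => ?_
          rw [Finset.mul_sum]
          exact Finset.sum_congr rfl fun v _ => by ring
      _ = _ := by
          unfold IntMult.extProd
          split_ifs with h
          · rw [eq_sum_indicator ⇑α S hS (p w), eq_sum_indicator ⇑β T hT (q w), Finset.sum_mul_sum, Finset.sum_mul]
            refine Finset.sum_congr rfl fun a _ => ?_
            rw [Finset.sum_mul]
            exact Finset.sum_congr rfl fun b _ => by ring
          · simp)

end Groth.Agent.S1951
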