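import Groth.Statements.S19510
import Groth.Agent.S19509
-- import your own Groth.Agent.* helpers here

set_option autoImplicit false
universe u
open CategoryTheory MonoidalCategory CartesianMonoidalCategory MonObj GrpObj AlgebraicGeometry
open Neron

namespace Groth.Agent.S19510

set_option linter.style.haveILetI false

namespace SmallRam

open TensorProduct

theorem iterDiff_mem {R : Type*} [CommRing R] (J : Ideal R) (s : ℕ → R) (hs : ∀ i, s i ∈ J)
    (k : ℕ) : (fwdDiff 1)^[k] s 0 ∈ J := by
  rw [fwdDiff_iter_eq_sum_shift]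
  exact J.sum_mem fun i _ => zsmul_mem (hs _) _

/-- truncated geometric series: invert `g` modulo the `N`-th power of the maximal ideal -/
theorem exists_approx_inverse {R B : Type u} [CommRing R] [IsLocalRing R] [CommRing B] [Algebra R B]
    (g : B) (u : Rˣ) (N : ℕ) : ∃ q : B, ∀ ψ : B →ₐ[R] R,
      ψ g - u ∈ IsLocalRing.maximalIdeal R →
        ψ g * ψ q - 1 ∈ IsLocalRing.maximalIdeal R ^ N := by
  refine ⟨algebraMap R B ↑u⁻¹ * ∑ i ∈ Finset.range N, (1 - algebraMap R B ↑u⁻¹ * g) ^ i,
    fun ψ hψ => ?_⟩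
  simp only [map_mul, map_sum, map_pow, map_sub, map_one, AlgHom.commutes, Algebra.algebraMap_self_apply]
  have hgeom := geom_sum_mul (1 - (↑u⁻¹ : R) * ψ g) N
  have e : ψ g * ((↑u⁻¹ : R) * ∑ i ∈ Finset.range N, (1 - ↑u⁻¹ * ψ g) ^ i) - 1
      = -(1 - ↑u⁻¹ * ψ g) ^ N := by linear_combination -hgeom
  rw [e]
  refine neg_mem (Ideal.pow_mem_pow ?_ N)
  have e' : 1 - (↑u⁻¹ : R) * ψ g = -(↑u⁻¹ * (ψ g - u)) := by
    rw [mul_sub, Units.inv_mul]; ring
  rw [e']
  exact neg_mem (Ideal.mul_mem_left _ _ hψ)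

variable {R : Type u} [CommRing R] [IsLocalRing R]
  (N : Over (Spec (CommRingCat.of R)))

/-- An affine chart at the unit, as seen by the `R`-points reducing to the unit. -/
structure Chart [GrpObj N] where
  A : Type u
  [ring : CommRing A]
  [alg : Algebra R A]
  emb : Spec (CommRingCat.of A) ⟶ N.left
  [opImm : IsOpenImmersion emb]
  w : Spec.map (CommRingCat.ofHom (algebraMap R A)) = emb ≫ N.hom
  mem : (η[N]).left.base (IsLocalRing.closedPoint R) ∈ Set.range emb.base

attribute [instance] Chart.ring Chart.alg Chart.opImm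

/-- points reducing to the unit -/
abbrev RedUnit [GrpObj N] : Type u :=
  {y : 𝟙_ (Over (Spec (CommRingCat.of R))) ⟶ N //
    y.left.base (IsLocalRing.closedPoint R) = (η[N]).left.base (IsLocalRing.closedPoint R)}

theorem exists_chart [GrpObj N] : Nonempty (Chart N) := by
  obtain ⟨V, hV, hmem, -⟩ := exists_isAffineOpen_mem_and_subset
    (X := N.left) (x := (η[N]).left.base (IsLocalRing.closedPoint R)) (U := ⊤) trivial
  letI alg : Algebra R Γ(N.left, V) := (Spec.preimage (hV.fromSpec ≫ N.hom)).hom.toAlgebra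
  exact ⟨{ A := Γ(N.left, V)
           emb := hV.fromSpec
           w := Spec.map_preimage (hV.fromSpec ≫ N.hom)
           mem := by rw [hV.range_fromSpec]; exact hmem }⟩

variable {N} [GrpObj N] (C : Chart N)

theorem exists_ev (y : 𝟙_ (Over (Spec (CommRingCat.of R))) ⟶ N)
    (hy : y.left.base (IsLocalRing.closedPoint R) ∈ Set.range C.emb.base) :
    ∃ φ : C.A →ₐ[R] R, Spec.map (CommRingCat.ofHom φ.toRingHom) ≫ C.emb = y.left := by
  have hr : Set.range y.left.base ⊆ Set.range C.emb.base := by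
    rintro _ ⟨s, rfl⟩
    exact (C.emb.isOpenEmbedding.isOpen_range).stableUnderGeneralization
      ((IsLocalRing.specializes_closedPoint s).map y.left.base.hom.continuous) hy
  let f := IsOpenImmersion.lift C.emb y.left hr
  have hf : f ≫ C.emb = y.left := IsOpenImmersion.lift_fac _ _ _
  refine ⟨AlgHom.mk' (Spec.preimage f).hom fun r a => ?_, ?_⟩
  · rw [Algebra.smul_def, Algebra.smul_def, map_mul]
    congr 1
    have h : CommRingCat.ofHom (algebraMap R C.A) ≫ Spec.preimage f = 𝟙 _ := by
      apply Spec.map_injective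
      rw [Spec.map_comp, Spec.map_preimage, C.w, ← Category.assoc, hf, Spec.map_id]
      exact Over.w y
    exact RingHom.congr_fun (congrArg CommRingCat.Hom.hom h) r
  · exact (congrArg (· ≫ C.emb) (Spec.map_preimage f)).trans hf

noncomputable def ev (y : RedUnit N) : C.A →ₐ[R] R :=
  (exists_ev C y.1 (by rw [y.2]; exact C.mem)).choose

theorem ev_spec (y : RedUnit N) :
    Spec.map (CommRingCat.ofHom (ev C y).toRingHom) ≫ C.emb = y.1.left :=
  (exists_ev C y.1 (by rw [y.2]; exact C.mem)).choose_spec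

theorem ev_sub_mem (y z : RedUnit N) (a : C.A) :
    ev C y a - ev C z a ∈ IsLocalRing.maximalIdeal R := by
  have key : ∀ y : RedUnit N, C.emb.base ((Spec.map (CommRingCat.ofHom (ev C y).toRingHom)).base
      (IsLocalRing.closedPoint R)) = (η[N]).left.base (IsLocalRing.closedPoint R) := fun y =>
    ((Scheme.Hom.comp_apply _ _ _).symm.trans
      (congrArg (fun f : Spec (CommRingCat.of R) ⟶ N.left => f.base (IsLocalRing.closedPoint R))
        (ev_spec C y))).trans y.2
  have hp := C.emb.isOpenEmbedding.injective ((key y).trans (key z).symm)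
  have hiff : ∀ b : C.A, ev C y b ∈ IsLocalRing.maximalIdeal R ↔
      ev C z b ∈ IsLocalRing.maximalIdeal R := fun b =>
    SetLike.ext_iff.mp (congrArg PrimeSpectrum.asIdeal hp) b
  have h := (hiff (a - algebraMap R C.A (ev C z a))).2 (by simp)
  simpa using h

noncomputable def unitPt : RedUnit N := ⟨η[N], rfl⟩

/-- approximation of `f (y * z)` by a function on `V × V` -/
theorem exists_mul_approx (h : C.A) (M : ℕ) :
    ∃ c : C.A ⊗[R] C.A, ∀ y z : RedUnit N,
      ∃ hyz : (y.1 * z.1).left.base (IsLocalRing.closedPoint R) =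
          (η[N]).left.base (IsLocalRing.closedPoint R),
        ev C ⟨y.1 * z.1, hyz⟩ h -
          Algebra.TensorProduct.lift (ev C y) (ev C z) (fun _ _ => Commute.all _ _) c ∈
            IsLocalRing.maximalIdeal R ^ M := by
  let ψ : RedUnit N → RedUnit N → (C.A ⊗[R] C.A →ₐ[R] R) := fun y z =>
    Algebra.TensorProduct.lift (ev C y) (ev C z) (fun _ _ => Commute.all _ _)
  have hψ : ∀ y z y' z' b, ψ y z b - ψ y' z' b ∈ IsLocalRing.maximalIdeal R := by
    intro y z y' z' b
    induction b using TensorProduct.induction_on with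
    | zero => simp
    | tmul a b =>
      have e : ψ y z (a ⊗ₜ b) - ψ y' z' (a ⊗ₜ b) =
          (ev C y a - ev C y' a) * ev C z b + ev C y' a * (ev C z b - ev C z' b) := by
        simp only [ψ, Algebra.TensorProduct.lift_tmul]; ring
      rw [e]
      exact add_mem (Ideal.mul_mem_right _ _ (ev_sub_mem C _ _ a))
        (Ideal.mul_mem_left _ _ (ev_sub_mem C _ _ b))
    | add b b' hb hb' =>
      rw [map_add, map_add, add_sub_add_comm]
      exact add_mem hb hb'
  let p₁ : Spec (CommRingCat.of (C.A ⊗[R] C.A)) ⟶ N.left :=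
    Spec.map (CommRingCat.ofHom (Algebra.TensorProduct.includeLeftRingHom : C.A →+* C.A ⊗[R] C.A)) ≫ C.emb
  let p₂ : Spec (CommRingCat.of (C.A ⊗[R] C.A)) ⟶ N.left :=
    Spec.map (CommRingCat.ofHom
      (Algebra.TensorProduct.includeRight (R := R) (A := C.A) (B := C.A)).toRingHom) ≫ C.emb
  let j : Spec (CommRingCat.of (C.A ⊗[R] C.A)) ⟶ (N ⊗ N).left :=
    Limits.pullback.lift p₁ p₂ (by
      simp only [p₁, p₂, Category.assoc, ← C.w, ← Spec.map_comp, ← CommRingCat.ofHom_comp]
      congr 2
      exact ((Algebra.TensorProduct.includeRight (R := R) (A := C.A) (B := C.A)).comp_algebraMap).symm)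
  have hpt : ∀ y z : RedUnit N,
      Spec.map (CommRingCat.ofHom (ψ y z).toRingHom) ≫ j ≫ (μ[N]).left = (y.1 * z.1).left := by
    intro y z
    rw [Hom.mul_def, Over.comp_left, ← Category.assoc]
    congr 1
    apply Limits.pullback.hom_ext
    · rw [Over.lift_left]
      simp only [j, p₁, Category.assoc, Limits.pullback.lift_fst]
      rw [← ev_spec C y, ← Category.assoc, ← Spec.map_comp,
        ← CommRingCat.ofHom_comp]
      congr 3
      ext a
      simp [ψ]
    · rw [Over.lift_left]
      simp only [j, p₂, Category.assoc, Limits.pullback.lift_snd]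
      rw [← ev_spec C z, ← Category.assoc, ← Spec.map_comp,
        ← CommRingCat.ofHom_comp]
      congr 3
      ext a
      simp [ψ]
  let P₀ := (Spec.map (CommRingCat.ofHom (ψ unitPt unitPt).toRingHom)).base (IsLocalRing.closedPoint R)
  have hcl : ∀ y z, (Spec.map (CommRingCat.ofHom (ψ y z).toRingHom)).base (IsLocalRing.closedPoint R)
      = P₀ := by
    intro y z
    refine PrimeSpectrum.ext (SetLike.ext fun b => ?_)
    change ψ y z b ∈ IsLocalRing.maximalIdeal R ↔ ψ unitPt unitPt b ∈ IsLocalRing.maximalIdeal R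
    exact ⟨fun hb => by simpa using sub_mem hb (hψ y z unitPt unitPt b),
      fun hb => by simpa using add_mem hb (hψ y z unitPt unitPt b)⟩
  have happ : ∀ y z : RedUnit N, (y.1 * z.1).left.base (IsLocalRing.closedPoint R) =
      (j ≫ (μ[N]).left).base P₀ := by
    intro y z
    exact ((congrArg (fun f : Spec (CommRingCat.of R) ⟶ N.left => f.base (IsLocalRing.closedPoint R))
      (hpt y z)).symm.trans ((Scheme.Hom.comp_apply _ _ _).trans
        (congrArg (j ≫ (μ[N]).left).base (hcl y z))))
  have hone : (unitPt.1 * unitPt.1 : 𝟙_ (Over (Spec (CommRingCat.of R))) ⟶ N) = η[N] := by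
    have hη : (1 : 𝟙_ (Over (Spec (CommRingCat.of R))) ⟶ N) = η[N] := by
      rw [Hom.one_def, toUnit_unique (toUnit _) (𝟙 _), Category.id_comp]
    change η[N] * η[N] = η[N]
    rw [← hη, _root_.mul_one]
  have hP₀ : (j ≫ (μ[N]).left).base P₀ = (η[N]).left.base (IsLocalRing.closedPoint R) := by
    rw [← happ unitPt unitPt, hone]
  obtain ⟨g, hgP, hgsub⟩ :
      ∃ g : C.A ⊗[R] C.A, P₀ ∈ (PrimeSpectrum.basicOpen g : Set (PrimeSpectrum (C.A ⊗[R] C.A))) ∧
        (PrimeSpectrum.basicOpen g : Set (PrimeSpectrum (C.A ⊗[R] C.A))) ⊆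
          (j ≫ (μ[N]).left).base ⁻¹' Set.range C.emb.base := by
    obtain ⟨_, ⟨g, rfl⟩, hP, hsub⟩ :=
      PrimeSpectrum.isTopologicalBasis_basic_opens.exists_subset_of_mem_open
        (show P₀ ∈ (j ≫ (μ[N]).left).base ⁻¹' Set.range C.emb.base by
          rw [Set.mem_preimage, hP₀]; exact C.mem)
        (C.emb.isOpenEmbedding.isOpen_range.preimage (j ≫ (μ[N]).left).base.hom.continuous)
    exact ⟨g, hP, hsub⟩
  let L := Localization.Away g
  let q : Spec (CommRingCat.of L) ⟶ Spec (CommRingCat.of (C.A ⊗[R] C.A)) :=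
    Spec.map (CommRingCat.ofHom (algebraMap (C.A ⊗[R] C.A) L))
  have hq : Set.range (q ≫ j ≫ (μ[N]).left).base ⊆ Set.range C.emb.base := by
    rintro _ ⟨s, rfl⟩
    rw [Scheme.Hom.comp_apply]
    refine hgsub ?_
    have := PrimeSpectrum.localization_away_comap_range L g
    exact this.le ⟨s, rfl⟩
  let θ := Spec.preimage (IsOpenImmersion.lift C.emb (q ≫ j ≫ (μ[N]).left) hq)
  have hθ : Spec.map θ ≫ C.emb = q ≫ j ≫ (μ[N]).left := by
    rw [Spec.map_preimage, IsOpenImmersion.lift_fac]
  obtain ⟨⟨a, ⟨_, m, rfl⟩⟩, ha⟩ := IsLocalization.surj (Submonoid.powers g) (θ.hom h)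
  obtain ⟨u, hu⟩ : IsUnit (ψ unitPt unitPt g) := by
    by_contra hn
    exact hgP ((IsLocalRing.mem_maximalIdeal _).2 hn)
  obtain ⟨r, hr⟩ := exists_approx_inverse (R := R) g u M
  refine ⟨a * r ^ m, fun y z => ?_⟩
  have hyz := (happ y z).trans hP₀
  refine ⟨hyz, ?_⟩
  have hgu : IsUnit (ψ y z g) := by
    by_contra hn
    have h1 := hψ y z unitPt unitPt g
    rw [← hu] at h1
    exact (IsLocalRing.mem_maximalIdeal _).1
      (by simpa using sub_mem ((IsLocalRing.mem_maximalIdeal _).2 hn) h1) u.isUnit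
  let ψ' : L →+* R := IsLocalization.Away.lift g (g := (ψ y z).toRingHom) hgu
  have hψ' : ψ'.comp (algebraMap (C.A ⊗[R] C.A) L) = (ψ y z).toRingHom :=
    IsLocalization.Away.lift_comp (S := L) g (g := (ψ y z).toRingHom) hgu
  have hev : (ev C ⟨y.1 * z.1, hyz⟩).toRingHom = ψ'.comp θ.hom := by
    have e : Spec.map (CommRingCat.ofHom (ev C ⟨y.1 * z.1, hyz⟩).toRingHom) =
        Spec.map (θ ≫ CommRingCat.ofHom ψ') := by
      rw [← cancel_mono C.emb, ev_spec, Spec.map_comp, Category.assoc, hθ]
      change (y.1 * z.1).left = _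
      rw [← Category.assoc, ← Spec.map_comp, ← CommRingCat.ofHom_comp, hψ', hpt]
    exact congrArg CommRingCat.Hom.hom (Spec.map_injective e)
  have ha' : ev C ⟨y.1 * z.1, hyz⟩ h * (ψ y z g) ^ m = ψ y z a := by
    have := congrArg ψ' ha
    rw [map_mul] at this
    have e1 : ψ' (algebraMap _ L a) = ψ y z a := RingHom.congr_fun hψ' a
    have e2 : ψ' (algebraMap _ L (g ^ m)) = (ψ y z g) ^ m :=
      (RingHom.congr_fun hψ' (g ^ m)).trans (map_pow _ g m)
    rw [e1, e2] at this
    exact (congrArg (· * (ψ y z g) ^ m) (RingHom.congr_fun hev h)).trans this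
  have hclose : ψ y z g * ψ y z r - 1 ∈ IsLocalRing.maximalIdeal R ^ M :=
    hr (ψ y z) (by rw [hu]; exact hψ y z unitPt unitPt g)
  change ev C ⟨y.1 * z.1, hyz⟩ h - ψ y z (a * r ^ m) ∈ _
  rw [map_mul, map_pow, ← ha', _root_.mul_assoc, ← mul_pow, ← mul_one_sub, ← neg_sub _ (1 : R)]
  refine Ideal.mul_mem_left _ _ (neg_mem ?_)
  obtain ⟨d, hd⟩ := sub_one_dvd_pow_sub_one (ψ y z g * ψ y z r) m
  exact hd ▸ Ideal.mul_mem_right _ _ hclose

include C in
theorem mul_red (y z : RedUnit N) : (y.1 * z.1).left.base (IsLocalRing.closedPoint R) =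
    (η[N]).left.base (IsLocalRing.closedPoint R) :=
  ((exists_mul_approx C 1 0).choose_spec y z).1

include C in
theorem pow_red (y x : RedUnit N) (i : ℕ) :
    (y.1 * x.1 ^ i).left.base (IsLocalRing.closedPoint R) =
      (η[N]).left.base (IsLocalRing.closedPoint R) := by
  induction i with
  | zero => rw [pow_zero, _root_.mul_one]; exact y.2
  | succ i ih => rw [pow_succ, ← _root_.mul_assoc]; exact mul_red C ⟨_, ih⟩ x

/-- iterated differences along `x` land in the powers of the ideal measuring `x` -/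
theorem iterDiff_ev_mem (v : ℕ) (x : RedUnit N)
    (hx : ∀ a, ev C x a - ev C unitPt a ∈ IsLocalRing.maximalIdeal R ^ v) (k : ℕ) :
    ∀ (h : C.A) (y : RedUnit N),
      (fwdDiff 1)^[k] (fun i => ev C ⟨y.1 * x.1 ^ i, pow_red C y x i⟩ h) 0 ∈
        IsLocalRing.maximalIdeal R ^ (v * k) := by
  induction k with
  | zero => intro h y; simp
  | succ k ih =>
    intro h y
    obtain ⟨c, hc⟩ := exists_mul_approx C h (v * (k + 1))
    let Y : ℕ → RedUnit N := fun i => ⟨y.1 * x.1 ^ i, pow_red C y x i⟩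
    let ψ : RedUnit N → RedUnit N → (C.A ⊗[R] C.A →ₐ[R] R) := fun y z =>
      Algebra.TensorProduct.lift (ev C y) (ev C z) (fun _ _ => Commute.all _ _)
    let s : ℕ → R := fun i => ψ (Y i) x c - ψ (Y i) unitPt c
    let d : ℕ → R := fun i => (fwdDiff 1 (fun i => ev C (Y i) h) i) - s i
    have hη : (1 : 𝟙_ (Over (Spec (CommRingCat.of R))) ⟶ N) = η[N] := by
      rw [Hom.one_def, toUnit_unique (toUnit _) (𝟙 _), Category.id_comp]
    have hd : ∀ i, d i ∈ IsLocalRing.maximalIdeal R ^ (v * (k + 1)) := by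
      intro i
      obtain ⟨_, h1⟩ := hc (Y i) x
      obtain ⟨_, h2⟩ := hc (Y i) unitPt
      have e1 : Y (i + 1) = ⟨(Y i).1 * x.1, mul_red C _ _⟩ :=
        Subtype.ext (by simp only [Y, pow_succ, _root_.mul_assoc])
      have e2 : Y i = ⟨(Y i).1 * (unitPt (N := N)).1, mul_red C _ _⟩ :=
        Subtype.ext ((_root_.mul_one _).symm.trans (congrArg ((Y i).1 * ·) hη))
      have e3 : d i = (ev C ⟨(Y i).1 * x.1, mul_red C _ _⟩ h - ψ (Y i) x c) -
          (ev C ⟨(Y i).1 * (unitPt (N := N)).1, mul_red C _ _⟩ h - ψ (Y i) unitPt c) := by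
        simp only [d, s, fwdDiff]
        rw [← e1, ← e2]; ring
      rw [e3]
      exact sub_mem h1 h2
    have hs : (fwdDiff 1)^[k] s 0 ∈ IsLocalRing.maximalIdeal R ^ (v * (k + 1)) := by
      simp only [s]
      clear hc hd d s
      induction c using TensorProduct.induction_on with
      | zero =>
        simp only [map_zero, sub_self]
        exact iterDiff_mem _ _ (fun _ => zero_mem _) k
      | tmul a b =>
        have e : (fun i => ψ (Y i) x (a ⊗ₜ b) - ψ (Y i) unitPt (a ⊗ₜ b)) =
            (ev C x b - ev C unitPt b) • fun i => ev C (Y i) a := by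
          funext i
          simp only [ψ, Algebra.TensorProduct.lift_tmul, Pi.smul_apply, smul_eq_mul]; ring
        rw [e, fwdDiff_iter_const_smul, Pi.smul_apply, smul_eq_mul, Nat.mul_succ, add_comm, pow_add]
        exact Ideal.mul_mem_mul (hx b) (ih a y)
      | add c c' hc hc' =>
        have e : (fun i => ψ (Y i) x (c + c') - ψ (Y i) unitPt (c + c')) =
            (fun i => ψ (Y i) x c - ψ (Y i) unitPt c) + fun i => ψ (Y i) x c' - ψ (Y i) unitPt c' := by
          funext i; simp only [map_add, Pi.add_apply]; ring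
        rw [e, fwdDiff_iter_add, Pi.add_apply]
        exact add_mem hc hc'
    rw [Function.iterate_succ_apply]
    have e : fwdDiff 1 (fun i => ev C ⟨y.1 * x.1 ^ i, pow_red C y x i⟩ h) = s + d := by
      funext i; simp only [d, Pi.add_apply, add_sub_cancel]; rfl
    rw [e, fwdDiff_iter_add, Pi.add_apply]
    exact add_mem hs (iterDiff_mem _ _ hd k)

end SmallRam

open SmallRam in
/-- no `p`-torsion in the kernel of reduction when `v(p) < p - 1` -/
theorem eq_one_of_pow_prime {R : Type u} [CommRing R] [IsDomain R] [IsDiscreteValuationRing R]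
    (N : Over (Spec (CommRingCat.of R))) [GrpObj N] (p : ℕ) (hp : p.Prime) (hp0 : (p : R) ≠ 0)
    (x : 𝟙_ (Over (Spec (CommRingCat.of R))) ⟶ N) (hx : x ^ p = 1)
    (hred : x.left.base (IsLocalRing.closedPoint R) = (η[N]).left.base (IsLocalRing.closedPoint R))
    (hv : (p : R) ∉ IsLocalRing.maximalIdeal R ^ (p - 1)) : x = 1 := by
  have hη : (1 : 𝟙_ (Over (Spec (CommRingCat.of R))) ⟶ N) = η[N] := by
    rw [Hom.one_def, toUnit_unique (toUnit _) (𝟙 _), Category.id_comp]
  obtain ⟨C⟩ := exists_chart N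
  let X : RedUnit N := ⟨x, hred⟩
  let I : Ideal R := Ideal.span (Set.range fun a => ev C X a - ev C unitPt a)
  by_cases hI : I = ⊥
  · have e : ev C X = ev C unitPt := AlgHom.ext fun a => sub_eq_zero.1
      ((Ideal.mem_bot).1 (hI ▸ Ideal.subset_span ⟨a, rfl⟩))
    rw [hη]
    ext1
    exact (ev_spec C X).symm.trans ((e ▸ ev_spec C unitPt))
  exfalso
  obtain ⟨ϖ, hϖ⟩ := IsDiscreteValuationRing.exists_irreducible R
  have hm : IsLocalRing.maximalIdeal R = Ideal.span {ϖ} := hϖ.maximalIdeal_eq
  obtain ⟨v, hvI⟩ := IsDiscreteValuationRing.ideal_eq_span_pow_irreducible hI hϖ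
  rw [← Ideal.span_singleton_pow, ← hm] at hvI
  have hxI : ∀ a, ev C X a - ev C unitPt a ∈ IsLocalRing.maximalIdeal R ^ v := fun a =>
    hvI ▸ Ideal.subset_span ⟨a, rfl⟩
  have hv1 : 1 ≤ v := by
    rcases Nat.eq_zero_or_pos v with rfl | h
    · rw [pow_zero, Ideal.one_eq_top] at hvI
      exfalso
      have : I ≤ IsLocalRing.maximalIdeal R :=
        Ideal.span_le.2 (by rintro _ ⟨a, rfl⟩; exact ev_sub_mem C _ _ a)
      rw [hvI] at this
      exact (IsLocalRing.maximalIdeal.isMaximal R).ne_top (top_le_iff.1 this)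
    · exact h
  obtain ⟨w, u, hw⟩ := IsDiscreteValuationRing.eq_unit_mul_pow_irreducible hp0 hϖ
  have hwp : w + 2 ≤ p := by
    by_contra hlt
    refine hv ?_
    rw [hm, Ideal.span_singleton_pow, Ideal.mem_span_singleton, hw]
    exact Dvd.dvd.mul_left (pow_dvd_pow _ (by omega)) _
  have hpm : (p : R) ∈ IsLocalRing.maximalIdeal R ^ w := by
    rw [hm, Ideal.span_singleton_pow, Ideal.mem_span_singleton, hw]
    exact Dvd.intro_left _ rfl
  have key : ∀ h : C.A, (p : R) * (ev C X h - ev C unitPt h) ∈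
      IsLocalRing.maximalIdeal R ^ (w + v + 1) := by
    intro h
    let s : ℕ → R := fun i => ev C ⟨(unitPt (N := N)).1 * x ^ i, pow_red C unitPt X i⟩ h
    have hs0 : s 0 = ev C unitPt h := by
      have : (⟨(unitPt (N := N)).1 * x ^ 0, pow_red C unitPt X 0⟩ : RedUnit N) = unitPt :=
        Subtype.ext (by change η[N] * x ^ 0 = η[N]; rw [pow_zero, _root_.mul_one])
      exact congrArg (fun y => ev C y h) this
    have hsp : s p = ev C unitPt h := by
      have : (⟨(unitPt (N := N)).1 * x ^ p, pow_red C unitPt X p⟩ : RedUnit N) = unitPt :=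
        Subtype.ext (by change η[N] * x ^ p = η[N]; rw [hx, _root_.mul_one])
      exact congrArg (fun y => ev C y h) this
    have hs1 : s 1 = ev C X h := by
      have : (⟨(unitPt (N := N)).1 * x ^ 1, pow_red C unitPt X 1⟩ : RedUnit N) = X :=
        Subtype.ext (by change η[N] * x ^ 1 = x; rw [← hη, _root_.one_mul, pow_one])
      exact congrArg (fun y => ev C y h) this
    have hN := shift_eq_sum_fwdDiff_iter (1 : ℕ) s p 0
    rw [zero_add, nsmul_one, Nat.cast_id, hsp, Finset.sum_range_succ', Function.iterate_zero_apply,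
      Nat.choose_zero_right, one_smul, hs0] at hN
    have hsum : ∑ k ∈ Finset.range p, p.choose (k + 1) • (fwdDiff 1)^[k + 1] s 0 = 0 := by
      linear_combination -hN
    have h0 : 0 ∈ Finset.range p := Finset.mem_range.2 hp.pos
    rw [← Finset.add_sum_erase _ _ h0] at hsum
    have e1 : p.choose (0 + 1) • (fwdDiff 1)^[0 + 1] s 0 = (p : R) * (ev C X h - ev C unitPt h) := by
      rw [zero_add, Nat.choose_one_right, Function.iterate_one, fwdDiff, zero_add, hs0, hs1,
        nsmul_eq_mul]
    rw [← e1, eq_neg_of_add_eq_zero_left hsum]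
    refine neg_mem (Ideal.sum_mem _ fun k hk => ?_)
    obtain ⟨hk0, hkp⟩ := Finset.mem_erase.1 hk
    rw [Finset.mem_range] at hkp
    have hD := iterDiff_ev_mem C v X hxI (k + 1) h unitPt
    rw [nsmul_eq_mul]
    rcases Nat.lt_or_ge (k + 1) p with hlt | hge
    · obtain ⟨d, hd⟩ := hp.dvd_choose_self (k := k + 1) (by omega) hlt
      rw [hd, Nat.cast_mul]
      have : (p : R) * d * (fwdDiff 1)^[k + 1] s 0 ∈
          IsLocalRing.maximalIdeal R ^ (w + v * (k + 1)) := by
        rw [pow_add]
        exact Ideal.mul_mem_mul (Ideal.mul_mem_right _ _ hpm) hD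
      refine Ideal.pow_le_pow_right ?_ this
      have : v * 2 ≤ v * (k + 1) := Nat.mul_le_mul_left v (by omega)
      omega
    · refine Ideal.pow_le_pow_right ?_ (Ideal.mul_mem_left _ _ hD)
      obtain ⟨q, rfl⟩ : ∃ q, p = q + 2 := ⟨p - 2, by omega⟩
      have e : k + 1 = q + 2 := by omega
      rw [e]
      have : q + 1 ≤ v * (q + 1) := Nat.le_mul_of_pos_left _ hv1
      rw [Nat.mul_succ]
      omega
  have hle : IsLocalRing.maximalIdeal R ^ (w + v) ≤ IsLocalRing.maximalIdeal R ^ (w + v + 1) := by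
    have e : IsLocalRing.maximalIdeal R ^ (w + v) = Ideal.span {(p : R)} * I := by
      rw [pow_add, ← hvI, hm, Ideal.span_singleton_pow, hw, mul_comm (u : R) (ϖ ^ w),
        Ideal.span_singleton_mul_right_unit u.isUnit]
    rw [e, Ideal.span_mul_span', Ideal.span_le]
    rintro _ ⟨_, hp', _, ⟨a, rfl⟩, rfl⟩
    rw [Set.mem_singleton_iff] at hp'
    subst hp'
    exact key a
  rw [hm, Ideal.span_singleton_pow, Ideal.span_singleton_pow,
    Ideal.span_singleton_le_span_singleton] at hle
  exact absurd ((pow_dvd_pow_iff hϖ.ne_zero hϖ.not_isUnit).1 hle) (by omega)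

/-- Let R be a complete discrete valuation ring whose fraction field K has characteristic zero and whose
residue field has characteristic p > 0, with absolute ramification small in the sense that v(p) < p
− 1 for the normalised valuation, i.e. p does not lie in the (p − 1)-st power of the maximal ideal.
Let N be a commutative R-group scheme which is a Néron model of its generic fibre, an abelian
variety over K. Then all torsion of N(R) = A(K) injects into the special fibre under reduction: a
section x with x^n = 1 for some n ≥ 1 whose value at the closed point is the identity point is the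
unit section. -/
theorem result (R : Type u) [CommRing R] [IsDomain R]
    [IsDiscreteValuationRing R] [IsAdicComplete (IsLocalRing.maximalIdeal R) R] (K : Type u) [Field K] [Algebra R K]
    [IsFractionRing R K] [CharZero K] (p : ℕ) [Fact p.Prime] [CharP (IsLocalRing.ResidueField R) p]
    (N : Over (Spec (CommRingCat.of R))) [GrpObj N] [IsCommMonObj N] (hN : SGA7.IsNeron R K N)
    [IsProper ((SGA7.genFib R K).obj N).hom] [GeometricallyIntegral ((SGA7.genFib R K).obj N).hom]
    (x : 𝟙_ (Over (Spec (CommRingCat.of R))) ⟶ N) (n : ℕ) (hn : 0 < n) (hx : x ^ n = 1)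
    (hred : x.left.base (IsLocalRing.closedPoint R) = (η[N]).left.base (IsLocalRing.closedPoint R))
    (hv : (p : R) ∉ IsLocalRing.maximalIdeal R ^ (p - 1)) : x = 1 := by
  have hp : p.Prime := Fact.out
  have hp0 : (p : R) ≠ 0 := fun h => hp.ne_zero (by
    have := congrArg (algebraMap R K) h
    simpa using this)
  obtain ⟨j, n', hnp, rfl⟩ := Nat.exists_eq_pow_mul_and_not_dvd hn.ne' p hp.ne_one
  have hη : (1 : 𝟙_ (Over (Spec (CommRingCat.of R))) ⟶ N) = η[N] := by
    rw [Hom.one_def, toUnit_unique (toUnit _) (𝟙 _), Category.id_comp]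
  obtain ⟨C⟩ := SmallRam.exists_chart N
  have hpow : ∀ i, (x ^ i).left.base (IsLocalRing.closedPoint R) =
      (η[N]).left.base (IsLocalRing.closedPoint R) := fun i => by
    have h := SmallRam.pow_red C SmallRam.unitPt ⟨x, hred⟩ i
    change (η[N] * x ^ i).left.base _ = _ at h
    rwa [← hη, _root_.one_mul, hη] at h
  have hn' : 0 < n' := Nat.pos_of_mul_pos_left hn
  have hj : x ^ p ^ j = 1 := S19509.result R K p N hN (x ^ p ^ j) n' hn' (by rw [← pow_mul, hx])
    (hpow _) ((hp.coprime_iff_not_dvd.2 hnp).symm)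
  clear hn hx hn' hnp
  induction j with
  | zero => rwa [pow_zero, pow_one] at hj
  | succ j ih =>
    refine ih (eq_one_of_pow_prime N p hp hp0 _ ?_ (hpow _) hv)
    rw [← pow_mul, ← pow_succ, hj]

end Groth.Agent.S19510
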