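import Groth.Statements.S19514
import Groth.Agent.Fibration.FlatBC

set_option autoImplicit false
universe u
open CategoryTheory CategoryTheory.Limits AlgebraicGeometry
open Variety

namespace Groth.Agent.S19514

/-- Let k be a field and f : X → Y a k-morphism between proper k-schemes which is a fibration, i.e. O_Y
→ f_*O_X is an isomorphism (Γ(V, O_Y) → Γ(f⁻¹V, O_X) bijective for every open V ⊆ Y). If X is
geometrically integral over k, then so is Y. (The assertion of (iii) for geometric normality is not
stated here.) -/
theorem result (k : Type u) [Field k] (X Y : Scheme.{u})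
    [X.Over (Spec (CommRingCat.of k))] [Y.Over (Spec (CommRingCat.of k))] [IsProper (X ↘ Spec (CommRingCat.of k))] [IsProper (Y ↘ Spec (CommRingCat.of k))]
    (f : X ⟶ Y) (hf : f ≫ (Y ↘ Spec (CommRingCat.of k)) = X ↘ Spec (CommRingCat.of k)) (hfib : ∀ V : Y.Opens, IsIso (f.app V))
    [GeometricallyIntegral (X ↘ Spec (CommRingCat.of k))] : GeometricallyIntegral (Y ↘ Spec (CommRingCat.of k)) := by
  let qX := X ↘ Spec (CommRingCat.of k)
  let qY := Y ↘ Spec (CommRingCat.of k)
  have : IsProper f := Groth.Agent.Fibration.isProper_of_over f qX qY hf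
  refine ⟨fun K _ i Z fst snd hZ => ?_⟩
  let fK : pullback qX i ⟶ Z := hZ.lift (pullback.fst qX i ≫ f) (pullback.snd qX i)
    (by rw [Category.assoc, hf]; exact pullback.condition)
  have H : IsPullback (pullback.fst qX i) fK f fst := by
    refine IsPullback.of_bot ?_ (hZ.lift_fst _ _ _).symm hZ
    rw [hZ.lift_snd, hf]
    exact IsPullback.of_hasPullback qX i
  have hflat : Flat i := by
    obtain ⟨φ, rfl⟩ := Spec.map_surjective i
    rw [HasRingHomProperty.Spec_iff (P := @Flat)]
    let := φ.hom.toAlgebra
    exact RingHom.flat_algebraMap_iff.2 inferInstance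
  have : Flat fst := MorphismProperty.of_isPullback (P := @Flat) hZ.flip hflat
  have : IsProper fK := MorphismProperty.of_isPullback (P := @IsProper) H inferInstance
  have : AlgebraicGeometry.IsIntegral (pullback qX i) :=
    GeometricallyIntegral.geometrically_isIntegral (f := qX) _ _ _ (IsPullback.of_hasPullback qX i)
  exact Groth.Agent.Fibration.isIntegral_of_fibration fK
    (fun V => Groth.Agent.Fibration.isIso_app_baseChange H hfib V)

end Groth.Agent.S19514
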