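import Groth.Statements.S19515
import Groth.Agent.Fibration.FlatBC

set_option autoImplicit false
universe u
open CategoryTheory CategoryTheory.Limits AlgebraicGeometry
open Variety

namespace Groth.Agent.S19515

/-- Let k be a field and f : X → Y a k-morphism between proper k-schemes which is a fibration, i.e. O_Y
→ f_*O_X is an isomorphism (Γ(V, O_Y) → Γ(f⁻¹V, O_X) bijective for every open V ⊆ Y). If X is
geometrically normal, i.e. its base change to every algebraic closure of k has all local rings
integrally closed domains, then Y is geometrically normal in the same sense. -/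
theorem result (k : Type u) [Field k] (X Y : Scheme.{u})
    [X.Over (Spec (CommRingCat.of k))] [Y.Over (Spec (CommRingCat.of k))] [IsProper (X ↘ Spec (CommRingCat.of k))] [IsProper (Y ↘ Spec (CommRingCat.of k))]
    (f : X ⟶ Y) (hf : f ≫ (Y ↘ Spec (CommRingCat.of k)) = X ↘ Spec (CommRingCat.of k)) (hfib : ∀ V : Y.Opens, IsIso (f.app V))
    (hX : ∀ (K : Type u) [Field K] [Algebra k K] [IsAlgClosure k K],
      Pi1.IsNormalScheme (pullback (X ↘ Spec (CommRingCat.of k)) (Spec.map (CommRingCat.ofHom (algebraMap k K)))))
    (K : Type u) [Field K] [Algebra k K] [IsAlgClosure k K] :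
    Pi1.IsNormalScheme (pullback (Y ↘ Spec (CommRingCat.of k)) (Spec.map (CommRingCat.ofHom (algebraMap k K)))) := by
  let qX := X ↘ Spec (CommRingCat.of k)
  let qY := Y ↘ Spec (CommRingCat.of k)
  let i := Spec.map (CommRingCat.ofHom (algebraMap k K))
  have : IsProper f := Groth.Agent.Fibration.isProper_of_over f qX qY hf
  let fK : pullback qX i ⟶ pullback qY i := pullback.lift (pullback.fst qX i ≫ f) (pullback.snd qX i)
    (by rw [Category.assoc, hf]; exact pullback.condition)
  have H : IsPullback (pullback.fst qX i) fK f (pullback.fst qY i) := by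
    refine IsPullback.of_bot ?_ (pullback.lift_fst _ _ _).symm (IsPullback.of_hasPullback qY i)
    rw [pullback.lift_snd, hf]
    exact IsPullback.of_hasPullback qX i
  have hflat : Flat i := by
    rw [HasRingHomProperty.Spec_iff (P := @Flat)]
    exact RingHom.flat_algebraMap_iff.2 inferInstance
  have : Flat (pullback.fst qY i) := MorphismProperty.pullback_fst (P := @Flat) _ _ hflat
  have : IsProper fK := MorphismProperty.of_isPullback (P := @IsProper) H inferInstance
  have : IsProper (pullback.snd qX i) := MorphismProperty.pullback_snd (P := @IsProper) _ _ ‹_›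
  have : TopologicalSpace.NoetherianSpace ↥(pullback qX i) :=
    Groth.Agent.Fibration.noetherianSpace_of_proper (pullback.snd qX i)
  exact Groth.Agent.Fibration.isNormalScheme_of_fibration fK
    (fun V => Groth.Agent.Fibration.isIso_app_baseChange H hfib V) (hX K)

end Groth.Agent.S19515
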