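import Groth.Statements.S19517
import Groth.Agent.GrpScheme.RedIdComponent
import Groth.Agent.GrpScheme.NormalOfPoints
import Groth.Agent.GrpdLib.GrpOver
import Groth.Agent.UnipLib.FppfDesc

set_option autoImplicit false
universe u
open CategoryTheory CategoryTheory.Limits MonoidalCategory CartesianMonoidalCategory MonObj GrpObj AlgebraicGeometry
open AlgGrp

open Limits Groth.Agent

namespace Groth.Agent.S19517

set_option backward.isDefEq.respectTransparency false

/-- Linear part, the assertion on the kernel: over an algebraically closed field k let G be a smooth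
k-group scheme of finite type, j : K → G a closed normal subgroup scheme of finite type, i : G_lin →
G the largest smooth connected affine normal closed subgroup scheme of G and i_K : K_lin → K the
largest smooth connected affine normal closed subgroup scheme of K. Then K_lin is contained in
G_lin, and K_lin has finite index in K ∩ G_lin in the sense that K_lin and the fibre product K ×_G
G_lin have the same dimension (K_lin is the reduced identity component of K ∩ G_lin). (The published
proposition is stated for an exact sequence e → K → G → Q → e of arbitrary algebraic groups and also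
for unipotent and solvable parts; G is assumed smooth here, and only the linear part is stated.) -/
theorem result (k : Type u) [Field k] [IsAlgClosed k]
    (G : Over (Spec (CommRingCat.of k))) [GrpObj G] [Smooth G.hom] [QuasiCompact G.hom]
    (K : Over (Spec (CommRingCat.of k))) [GrpObj K] [QuasiCompact K.hom] [LocallyOfFiniteType K.hom]
    (j : K ⟶ G) [IsMonHom j] [IsClosedImmersion j.left] (hK : AlgGrp.IsNormalHom j)
    (N : Over (Spec (CommRingCat.of k))) [GrpObj N] (i : N ⟶ G) [IsMonHom i] [IsClosedImmersion i.left]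
    [Smooth N.hom] [ConnectedSpace ↥N.left] [IsAffine N.left] (hN : AlgGrp.IsNormalHom i)
    (hNmax : (∀ (N' : Over (Spec (CommRingCat.of k))) [GrpObj N'] (i' : N' ⟶ G) [IsMonHom i'] [IsClosedImmersion i'.left]
      [Smooth N'.hom] [ConnectedSpace ↥N'.left] [IsAffine N'.left], AlgGrp.IsNormalHom i' → ∃ f : N' ⟶ N, f ≫ i = i'))
    (NK : Over (Spec (CommRingCat.of k))) [GrpObj NK] (iK : NK ⟶ K) [IsMonHom iK] [IsClosedImmersion iK.left]
    [Smooth NK.hom] [ConnectedSpace ↥NK.left] [IsAffine NK.left] (hNK : AlgGrp.IsNormalHom iK)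
    (hNKmax : (∀ (N' : Over (Spec (CommRingCat.of k))) [GrpObj N'] (i' : N' ⟶ K) [IsMonHom i'] [IsClosedImmersion i'.left]
      [Smooth N'.hom] [ConnectedSpace ↥N'.left] [IsAffine N'.left], AlgGrp.IsNormalHom i' → ∃ f : N' ⟶ NK, f ≫ iK = i')) :
    (∃ g : NK ⟶ N, g ≫ i = iK ≫ j) ∧
      topologicalKrullDim ↥NK.left = topologicalKrullDim ↥(pullback j.left i.left) := by
  haveI : IsReduced G.left := GrpScheme.HomFlat.isReduced_of_smooth G.hom
  haveI : Mono i := Over.mono_of_mono_left i
  haveI : Mono j := Over.mono_of_mono_left j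
  haveI : Mono iK := Over.mono_of_mono_left iK
  haveI hjK : IsClosedImmersion (iK ≫ j).left := by rw [Over.comp_left]; infer_instance
  haveI : IsReduced NK.left := GrpScheme.HomFlat.isReduced_of_smooth NK.hom
  -- the linear part of the normal subgroup is normal
  have hNKG : AlgGrp.IsNormalHom (iK ≫ j) := by
    refine GrpScheme.NormalOfPoints.isNormalHom (iK ≫ j) fun g => ?_
    obtain ⟨cK, hcK⟩ := hK NK (toUnit NK ≫ g) iK
    haveI : Mono (iK ≫ j) := mono_comp _ _
    have hpt : ∀ {T : Over (Spec (CommRingCat.of k))} (x : T ⟶ NK),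
        x ≫ cK ≫ j = (toUnit T ≫ g) * (x ≫ iK ≫ j) * (toUnit T ≫ g)⁻¹ := fun {T} x => by
      rw [← hcK, MonObj.comp_mul, MonObj.comp_mul, GrpObj.comp_inv, ← Category.assoc x (toUnit NK),
        toUnit_unique (x ≫ toUnit NK) (toUnit T)]
    haveI : IsMonHom cK := WittLib.Basic.isMonHom_of_points _ fun T x y => by
      rw [← cancel_mono j, MonObj.mul_comp _ _ j, Category.assoc, hpt, Category.assoc, Category.assoc, hpt, hpt,
        MonObj.mul_comp x y (iK ≫ j)]
      group
    have hcl : IsClosedImmersion (cK ≫ j).left := by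
      let α : G ⟶ G := (toUnit G ≫ g) * 𝟙 G * (toUnit G ≫ g)⁻¹
      let β : G ⟶ G := (toUnit G ≫ g)⁻¹ * 𝟙 G * (toUnit G ≫ g)
      have e : cK ≫ j = (iK ≫ j) ≫ α := by
        rw [MonObj.comp_mul, MonObj.comp_mul, GrpObj.comp_inv, Category.comp_id, ← Category.assoc (iK ≫ j),
          toUnit_unique ((iK ≫ j) ≫ toUnit G) (toUnit NK), ← hcK]
      haveI : IsIso α := ⟨β, by
          rw [MonObj.comp_mul, MonObj.comp_mul, GrpObj.comp_inv, Category.comp_id, ← Category.assoc α,
            toUnit_unique (α ≫ toUnit G) (toUnit G)]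
          show (toUnit G ≫ g)⁻¹ * ((toUnit G ≫ g) * 𝟙 G * (toUnit G ≫ g)⁻¹) * (toUnit G ≫ g) = _
          group, by
          rw [MonObj.comp_mul, MonObj.comp_mul, GrpObj.comp_inv, Category.comp_id, ← Category.assoc β,
            toUnit_unique (β ≫ toUnit G) (toUnit G)]
          show (toUnit G ≫ g) * ((toUnit G ≫ g)⁻¹ * 𝟙 G * (toUnit G ≫ g)) * (toUnit G ≫ g)⁻¹ = _
          group⟩
      haveI : IsIso α.left := inferInstanceAs (IsIso ((Over.forget _).map α))
      rw [e, Over.comp_left]
      infer_instance
    haveI : IsClosedImmersion cK.left := by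
      haveI : IsClosedImmersion (cK.left ≫ j.left) := by rw [← Over.comp_left]; exact hcl
      exact IsClosedImmersion.of_comp cK.left j.left
    have hn : AlgGrp.IsNormalHom cK := by
      intro T y x
      obtain ⟨y', hy'⟩ := hK T (toUnit T ≫ g)⁻¹ y
      obtain ⟨x', hx'⟩ := hNK T y' x
      refine ⟨x', ?_⟩
      rw [← cancel_mono j, MonObj.mul_comp _ _ j, MonObj.mul_comp _ _ j, GrpObj.inv_comp, Category.assoc x,
        Category.assoc x', hpt, hpt, ← Category.assoc x', ← hx', MonObj.mul_comp _ _ j, MonObj.mul_comp _ _ j,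
        GrpObj.inv_comp, ← hy', Category.assoc x]
      group
    obtain ⟨c, hc⟩ := hNKmax NK cK hn
    exact ⟨c, by rw [reassoc_of% hc, ← hcK]⟩
  obtain ⟨g, hg⟩ := hNmax NK (iK ≫ j) hNKG
  refine ⟨⟨g, hg⟩, ?_⟩
  -- the intersection as a subgroup
  let P := pullback j i
  let a : P ⟶ K := pullback.fst j i
  let b : P ⟶ N := pullback.snd j i
  have hP : IsPullback a b j i := IsPullback.of_hasPullback j i
  have hPl : IsPullback a.left b.left j.left i.left := GrpdLib.GrpOver.isPullback_left hP
  haveI : IsClosedImmersion a.left := MorphismProperty.of_isPullback (P := @IsClosedImmersion) hPl.flip inferInstance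
  haveI : IsClosedImmersion b.left := MorphismProperty.of_isPullback (P := @IsClosedImmersion) hPl inferInstance
  haveI : Mono a := Over.mono_of_mono_left a
  have hw : a ≫ j = b ≫ i := hP.w
  obtain ⟨_, ham⟩ : ∃ _ : GrpObj P, IsMonHom a := by
    refine GrpScheme.SubgroupObj.exists_grpObj a ⟨hP.lift ((a ⊗ₘ a) ≫ μ[K]) ((b ⊗ₘ b) ≫ μ[N]) ?_,
      hP.lift_fst _ _ _⟩ ⟨hP.lift η[K] η[N] (by simp), hP.lift_fst _ _ _⟩
      ⟨hP.lift (a ≫ GrpObj.inv) (b ≫ GrpObj.inv) ?_, hP.lift_fst _ _ _⟩
    · rw [Category.assoc, IsMonHom.mul_hom, ← Category.assoc, MonoidalCategory.tensorHom_comp_tensorHom, hw,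
        ← MonoidalCategory.tensorHom_comp_tensorHom, Category.assoc, Category.assoc, IsMonHom.mul_hom]
    · rw [Category.assoc, GrpObj.inv_hom j, ← Category.assoc, hw, Category.assoc, Category.assoc, GrpObj.inv_hom i]
  haveI := ham
  haveI : LocallyOfFiniteType P.hom := by rw [← Over.w a]; infer_instance
  haveI : QuasiCompact P.hom := by rw [← Over.w a]; infer_instance
  obtain ⟨R, hR, r, hr, hrc, hRs, hRconn, hRq, hRrange, hRd⟩ :=
    GrpScheme.RedIdComponent.exists_reduced_idComponent_range P
  haveI : IsClosedImmersion (r ≫ b).left := by rw [Over.comp_left]; infer_instance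
  haveI : IsAffine R.left := isAffine_of_isAffineHom (r ≫ b).left
  haveI : IsReduced R.left := GrpScheme.HomFlat.isReduced_of_smooth R.hom
  haveI : IsClosedImmersion (r ≫ a).left := by rw [Over.comp_left]; infer_instance
  haveI : IsClosedImmersion ((r ≫ a) ≫ j).left := by rw [Over.comp_left]; infer_instance
  have hRG : AlgGrp.IsNormalHom ((r ≫ a) ≫ j) := by
    refine GrpScheme.NormalOfPoints.isNormalHom _ fun g => ?_
    obtain ⟨cK, hcK⟩ := hK R (toUnit R ≫ g) (r ≫ a)
    obtain ⟨cN, hcN⟩ := hN R (toUnit R ≫ g) (r ≫ b)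
    let v : R ⟶ P := hP.lift cK cN (by
      rw [← hcK, ← hcN, Category.assoc r a, Category.assoc r b, hw])
    have hv : η[R] ≫ v = η[P] := by
      rw [← cancel_mono a, Category.assoc, hP.lift_fst, ← cancel_mono j, Category.assoc, ← hcK, MonObj.comp_mul,
        MonObj.comp_mul, GrpObj.comp_inv, ← Category.assoc η[R] (toUnit R), toUnit_unique (η[R] ≫ toUnit R) (𝟙 _),
        Category.id_comp, IsMonHom.one_hom ((r ≫ a) ≫ j), IsMonHom.one_hom a, IsMonHom.one_hom j,
        MonObj.one_eq_one, _root_.mul_one, mul_inv_cancel]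
    have hrange : Set.range v.left ⊆ connectedComponent (GrpScheme.IdComponent.e₀ P) := by
      have hpre : _root_.IsPreconnected (Set.range v.left) := isPreconnected_range v.left.continuous
      refine hpre.subset_connectedComponent ⟨η[R].left (IsLocalRing.closedPoint k), ?_⟩
      exact (Scheme.Hom.comp_apply η[R].left v.left (IsLocalRing.closedPoint k)).symm.trans
        congr(($hv).left (IsLocalRing.closedPoint k))
    obtain ⟨w, hw'⟩ := RedSub.exists_lift_closed r.left v.left (hrange.trans hRrange.ge)
    let w' : R ⟶ R := Over.homMk w (by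
      conv_lhs => rw [← Over.w r, reassoc_of% hw', Over.w])
    have e : w' ≫ r = v := Over.OverMorphism.ext hw'
    refine ⟨w', ?_⟩
    rw [Category.assoc r a j, reassoc_of% e, hP.lift_fst_assoc, ← Category.assoc r a j, ← hcK]
  have hn : AlgGrp.IsNormalHom (r ≫ a) := fun T y x => by
    obtain ⟨x', hx'⟩ := hRG T (y ≫ j) x
    refine ⟨x', ?_⟩
    rw [← cancel_mono j, MonObj.mul_comp _ _ j, MonObj.mul_comp _ _ j, GrpObj.inv_comp]
    simpa only [Category.assoc] using hx'
  obtain ⟨f, hf⟩ := hNKmax R (r ≫ a) hn
  haveI : IsClosedImmersion (f.left ≫ iK.left) := by rw [← Over.comp_left, hf]; infer_instance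
  haveI : IsClosedImmersion f.left := IsClosedImmersion.of_comp f.left iK.left
  let v : NK ⟶ P := hP.lift iK g hg.symm
  haveI : IsClosedImmersion (v.left ≫ a.left) := by rw [← Over.comp_left, hP.lift_fst]; infer_instance
  haveI : IsClosedImmersion v.left := IsClosedImmersion.of_comp v.left a.left
  rw [← hPl.isoPullback.hom.homeomorph.isClosedEmbedding.isInducing.topologicalKrullDim_le.antisymm
    hPl.isoPullback.hom.homeomorph.symm.isClosedEmbedding.isInducing.topologicalKrullDim_le]
  refine le_antisymm v.left.isClosedEmbedding.isInducing.topologicalKrullDim_le ?_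
  rw [← hRd]
  exact f.left.isClosedEmbedding.isInducing.topologicalKrullDim_le

end Groth.Agent.S19517
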