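import Groth.Statements.S19519
import Groth.Agent.GrpScheme.OrbitDim
import Groth.Agent.TopDimLib.Basic
-- import your own Groth.Agent.* helpers here

set_option autoImplicit false
universe u
open CategoryTheory MonoidalCategory CartesianMonoidalCategory MonObj GrpObj AlgebraicGeometry
open AlgGrp

namespace Groth.Agent.S19519

/-- Let k be an algebraically closed field, G a smooth k-group scheme of finite type acting on a
k-scheme X of finite type, and x a rational point of X. If the orbit of x — the image of the orbit
map G → X, g ↦ g · x, with its subspace topology — has Krull dimension at most that of the orbit of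
every rational point of X, then the orbit of x is closed in X. (The first assertions of the lemma,
local closedness and smoothness of orbits over any field, are not restated here.) -/
theorem result (k : Type u) [Field k] [IsAlgClosed k]
    (G X : Over (Spec (CommRingCat.of k))) [GrpObj G] [Smooth G.hom] [QuasiCompact G.hom]
    [LocallyOfFiniteType X.hom] [QuasiCompact X.hom] (a : AlgGrp.Action G X)
    (x : 𝟙_ (Over (Spec (CommRingCat.of k))) ⟶ X)
    (hmin : ∀ y : 𝟙_ (Over (Spec (CommRingCat.of k))) ⟶ X,
      topologicalKrullDim (Set.range (a.orbitMap x).left.base) ≤ topologicalKrullDim (Set.range (a.orbitMap y).left.base)) :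
    IsClosed (Set.range (a.orbitMap x).left.base) := by
  refine isClosed_of_closure_subset fun z hz => ?_
  by_contra hzO
  let O := Set.range (a.orbitMap x).left
  have hO : IsLocallyClosed O := Groth.Agent.S7984.isLocallyClosed_orbit a x
  have hBeq : closure O \ O = (coborder O)ᶜ := (compl_compl (closure O \ O)).symm
  have hB : IsClosed (closure O \ O) := by
    rw [hBeq]; exact hO.isOpen_coborder.isClosed_compl
  have : JacobsonSpace X.left := LocallyOfFiniteType.jacobsonSpace X.hom
  obtain ⟨w, ⟨hwc, hwO⟩, hwcl⟩ := nonempty_inter_closedPoints (Z := closure O \ O) ⟨z, hz, hzO⟩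
    hB.isLocallyClosed
  let y : 𝟙_ (Over (Spec (CommRingCat.of k))) ⟶ X :=
    Over.homMk (pointOfClosedPoint X.hom w hwcl) (pointOfClosedPoint_comp X.hom w hwcl)
  have hy : y.left (IsLocalRing.closedPoint k) = w := pointOfClosedPoint_apply X.hom w hwcl _
  have hsub : Set.range (a.orbitMap y).left ⊆ closure O \ O := fun v hv =>
    ⟨Groth.Agent.GrpScheme.OrbitDim.orbit_subset_closure a x y (hy.symm ▸ hwc) hv, fun hvO =>
      hwO (hy ▸ Groth.Agent.GrpScheme.OrbitDim.orbit_subset a x y hv hvO)⟩
  have h2 := Groth.Agent.TopDimLib.topDim_le_of_subset hsub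
  exact absurd (((hmin y).trans h2).trans_lt (Groth.Agent.GrpScheme.OrbitDim.boundary_lt a x))
    (lt_irrefl _)

end Groth.Agent.S19519
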