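import Groth.Statements.S1952
import Groth.Agent.IntMult66.FamDiv

set_option autoImplicit false
universe u
open CategoryTheory CategoryTheory.Limits AlgebraicGeometry
attribute [local instance] HasDerivedCategory.standard
open IntMult

namespace Groth.Agent.S1952

/-- Let α be a (k + 1)-cycle on P^1_X (X a nonsingular variety, P^1_X of dimension n + 1 with dimension
function δP) intersecting the divisors X × 0 and X × ∞ (the images of the two sections, as prime
cycles) properly. Then pr_{X,*}(α · [X × 0] − α · [X × ∞]) ∼_rat 0 as a k-cycle on X (the source's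
two distinct closed points a, b of P^1 are taken to be 0 and ∞), for any cycle on P^1_X with the
coefficients of α · [X × 0] − α · [X × ∞]. Here X is a nonsingular variety over the algebraically
closed field K (smooth, separated, quasi-compact, integral) with dimension function δ (transcendence
degree) and n = dim X; cycles are Mathlib AlgebraicCycles with Cyc.Zk membership, proper
intersection is IntMult.IntersectProperly and α · β is the Tor-formula intersection product on
coefficient functions (IntMult.interProd), bundled where needed as 'any cycle with these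
coefficients'. -/
theorem result (K : Type u) [Field K] [IsAlgClosed K] (X : Scheme.{u}) (f : X ⟶ Spec (CommRingCat.of K)) [Smooth f] [IsSeparated f] [QuasiCompact f] [IsIntegral X] (δ : X → ℤ) (hX : Cyc.IsSetup X δ) (hδ : Cyc.DeltaCompat f δ (fun _ => 0)) (n : ℤ) (hn : δ (genericPoint X) = n) (δP : ↥(CohB1.ProjSpaceOver 1 X) → ℤ) (hPX : Cyc.IsSetup (CohB1.ProjSpaceOver 1 X) δP) (hP : Cyc.DeltaCompat (CohB1.ProjSpaceOver.toBase 1 X) δP δ) [QuasiCompact (CohB1.ProjSpaceOver.toBase 1 X)] (k : ℤ) (α : AlgebraicCycle (CohB1.ProjSpaceOver 1 X) ℤ) (hα : α ∈ Cyc.Zk _ δP (k + 1)) (h0 : IntMult.IntersectProperly δP (n + 1) ⇑α (Set.indicator {P1.sect X 0 (genericPoint X)} 1)) (h1 : IntMult.IntersectProperly δP (n + 1) ⇑α (Set.indicator {P1.sect X 1 (genericPoint X)} 1)) (γ : AlgebraicCycle (CohB1.ProjSpaceOver 1 X) ℤ) (hγ : ⇑γ = IntMult.interProd δP (n + 1) ⇑α (Set.indicator {P1.sect X 0 (genericPoint X)} 1) - IntMult.interProd δP (n + 1) ⇑α (Set.indicator {P1.sect X 1 (genericPoint X)}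 1)) : Cyc.RatEquivZero δ k (AlgebraicCycle.map (CohB1.ProjSpaceOver.toBase 1 X) δP δ γ) := by
  classical
  open Groth.Agent.IntMult66 Groth.Agent.CycLib in
  exact (by
    haveI := hX.1
    haveI := hPX.1
    haveI : IsProper (CohB1.ProjSpaceOver.toBase 1 X) := ProjProper.Basic.isProper_toBase 1 X
    haveI : CompactSpace X := QuasiCompact.compactSpace_of_compactSpace f
    haveI : CompactSpace (CohB1.ProjSpaceOver 1 X) :=
      QuasiCompact.compactSpace_of_compactSpace (CohB1.ProjSpaceOver.toBase 1 X)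
    have hdP := hPX.2.2
    haveI := fun i => isClosedImmersion_sect X i
    haveI : Smooth (CohB1.ProjSpaceOver.toBase 1 X ≫ f) := smooth_toBase_comp f
    have hbound : ∀ (i : Fin (1 + 1)) (ζ : ↥(CohB1.ProjSpaceOver 1 X)) (y : X), α ζ ≠ 0 →
        ζ ⤳ P1.sect X i y → δP (P1.sect X i y) ≤ k := by
      intro i ζ y hζ hy
      have hd : δP ζ = k + 1 := by_contra fun h => hζ (hα ζ h)
      have hh : IntMult.IntersectProperly δP (n + 1) ⇑α (Set.indicator {P1.sect X i (genericPoint X)} 1) := by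
        fin_cases i
        · exact h0
        · exact h1
      have := hh ζ (P1.sect X i (genericPoint X)) (P1.sect X i y) hζ (by simp) hy
        ((genericPoint_specializes y).map (P1.sect X i).continuous)
      rw [delta_sect hP i (genericPoint X), hn, hd] at this
      omega
    have hnot : ∀ (i : Fin (1 + 1)) (ζ : ↥(CohB1.ProjSpaceOver 1 X)), α ζ ≠ 0 → ζ ∉ Set.range ⇑(P1.sect X i) := by
      rintro i ζ hζ ⟨y, rfl⟩
      have := hbound i _ y hζ (specializes_refl _)
      have hd : δP (P1.sect X i y) = k + 1 := by_contra fun h => hζ (hα _ h)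
      omega
    let S := (finite_support_of_compact α).toFinset
    have hS : ∀ p, p ∉ S → α p = 0 := fun p hp => by simpa [S] using hp
    have hmem : ∀ ζ : S, α ζ.1 ≠ 0 := fun ζ => (Set.Finite.mem_toFinset _).1 ζ.2
    have hchart : ∀ (ζ : S) (i : Fin (1 + 1)), ζ.1 ∈ chartOpen X i := fun ζ i =>
      mem_chartOpen_of_notMem_range _ (fun h => h.elim (hnot 0 _ (hmem ζ)) (hnot 1 _ (hmem ζ))) i
    let t0 : (ζ : S) → (CohB1.ProjSpaceOver 1 X).residueField ζ.1 := fun ζ => tVal X 0 1 ζ.1 (hchart ζ 0)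
    have ht0 : ∀ ζ, t0 ζ ≠ 0 := fun ζ => tVal_ne_zero 0 1 _ _ (hchart ζ 1)
    let g : (ζ : S) → (CohB1.ProjSpaceOver 1 X).residueField ζ.1 := fun ζ => t0 ζ ^ (α ζ.1)
    have hdiv : ∀ (ζ : S) p, Cyc.divFun δP ζ.1 (g ζ) p = α ζ.1 * Cyc.divFun δP ζ.1 (t0 ζ) p := fun ζ p => by
      show Cyc.divFun δP ζ.1 (t0 ζ ^ (α ζ.1)) p = _
      rcases Int.eq_nat_or_neg (α ζ.1) with ⟨N, hN | hN⟩ <;> rw [hN]
      · rw [zpow_natCast, divFun_pow hdP (ht0 ζ)]
      · rw [zpow_neg, zpow_natCast, divFun_inv hdP (pow_ne_zero _ (ht0 ζ)), divFun_pow hdP (ht0 ζ)]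
        ring
    have hval : ∀ (ζ : S) (i j : Fin (1 + 1)), i ≠ j → ∀ y : X,
        IntMult.interProd δP (n + 1) (Set.indicator {ζ.1} 1) (Set.indicator {P1.sect X i (genericPoint X)} 1) (P1.sect X i y) =
          Cyc.divFun δP ζ.1 (tVal X i j ζ.1 (hchart ζ i)) (P1.sect X i y) := by
      intro ζ i j hij y
      have hd : δP ζ.1 = k + 1 := by_contra fun h => hmem ζ (hα _ h)
      rw [interProd_indicator, delta_sect hP i (genericPoint X), hn, hd]
      by_cases h : ζ.1 ⤳ P1.sect X i y ∧ δP (P1.sect X i y) + 1 = δP ζ.1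
      · rw [if_pos (by omega), mult_sect_eq_divFun f hdP i j hij ζ.1 (hnot i _ (hmem ζ)) (hchart ζ i) y h.1 h.2]
      · rw [Cyc.divFun, dif_neg h]
        split_ifs with hc
        · by_cases h' : ζ.1 ⤳ P1.sect X i y
          · exact absurd ⟨h', by omega⟩ h
          · exact mult_eq_zero_left h'
        · rfl
    have hsum : ∀ (i : Fin (1 + 1)) p, IntMult.interProd δP (n + 1) ⇑α
        (Set.indicator {P1.sect X i (genericPoint X)} 1) p = ∑ ζ : S, α ζ.1 *
          IntMult.interProd δP (n + 1) (Set.indicator {ζ.1} 1) (Set.indicator {P1.sect X i (genericPoint X)} 1) p := by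
      intro i p
      rw [interProd_eq_sum δP (n + 1) _ _ S {P1.sect X i (genericPoint X)} hS
        (fun x hx => Set.indicator_of_notMem (by simpa using hx) _) p, ← Finset.sum_coe_sort S]
      refine Finset.sum_congr rfl fun ζ _ => ?_
      rw [Finset.sum_singleton]
      simp
    have hrange : ∀ (i : Fin (1 + 1)) p (ζ : S), p ∉ Set.range ⇑(P1.sect X i) →
        IntMult.interProd δP (n + 1) (Set.indicator {ζ.1} 1) (Set.indicator {P1.sect X i (genericPoint X)} 1) p = 0 := by
      intro i p ζ hp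
      rw [interProd_indicator]
      split_ifs
      · refine mult_eq_zero_right fun h => hp ?_
        exact h.mem_closed (P1.sect X i).isClosedEmbedding.isClosed_range ⟨_, rfl⟩
      · rfl
    have hγrel : Cyc.RatEquiv δP k γ 0 := by
      refine ⟨S, fun ζ => ζ.1, g, fun ζ => by_contra fun h => hmem ζ (hα _ h),
        fun ζ => zpow_ne_zero _ (ht0 ζ), fun x => ⟨Set.univ, isOpen_univ, trivial, Set.toFinite _⟩, fun p => ?_⟩
      show γ p - 0 = _
      rw [sub_zero, hγ, Pi.sub_apply, hsum, hsum, finsum_eq_sum_of_fintype, ← Finset.sum_sub_distrib]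
      refine Finset.sum_congr rfl fun ζ _ => ?_
      rw [hdiv, ← mul_sub]
      refine congrArg _ ?_
      by_cases h0r : p ∈ Set.range ⇑(P1.sect X 0)
      · obtain ⟨y, rfl⟩ := h0r
        rw [hval ζ 0 1 (by decide), hrange 1 _ ζ (by rintro ⟨y', h⟩; exact sect_ne y y' h.symm), sub_zero]
      by_cases h1r : p ∈ Set.range ⇑(P1.sect X 1)
      · obtain ⟨y, rfl⟩ := h1r
        rw [hrange 0 _ ζ (by rintro ⟨y', h⟩; exact sect_ne y' y h), zero_sub, hval ζ 1 0 (by decide)]
        show _ = Cyc.divFun δP ζ.1 (tVal X 0 1 ζ.1 (hchart ζ 0)) _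
        rw [eq_inv_of_mul_eq_one_left (tVal_mul 0 1 ζ.1 (hchart ζ 0) (hchart ζ 1)),
          divFun_inv hdP (tVal_ne_zero 1 0 _ _ (hchart ζ 0))]
      · have hp : p ∉ Set.range ⇑(P1.sect X 0) ∪ Set.range ⇑(P1.sect X 1) := fun h => h.elim h0r h1r
        rw [hrange 0 p ζ h0r, hrange 1 p ζ h1r, sub_zero]
        rw [Cyc.divFun]
        split_ifs with h
        · symm
          show Cyc.ordAt p ζ.1 h.1 (tVal X 0 1 ζ.1 (hchart ζ 0)) = 0
          rw [tVal_eq_specMap 0 1 h.1 (mem_chartOpen_of_notMem_range p hp 0),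
            ordAt_specMap hdP h.1 h.2 ?_, LenLib.ordZ_of_isUnit ?_]
          · exact ((isUnit_tGerm_iff X 0 1 p _).2 (mem_chartOpen_of_notMem_range p hp 1)).map _
          · exact (((isUnit_tGerm_iff X 0 1 p _).2 (mem_chartOpen_of_notMem_range p hp 1)).map _).ne_zero
        · rfl
    have hmap := ratEquiv_map δP δ hdP hX.2.2 (CohB1.ProjSpaceOver.toBase 1 X) hP k γ 0 hγrel
    have hz : AlgebraicCycle.map (CohB1.ProjSpaceOver.toBase 1 X) δP δ
        (0 : AlgebraicCycle (CohB1.ProjSpaceOver 1 X) ℤ) = 0 := DFunLike.ext _ _ fun x => by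
      rw [map_apply_eq_sum _ δP δ _ x ∅ fun p _ h => absurd rfl h]; simp
    unfold Cyc.RatEquiv at hmap
    rwa [hz, sub_zero] at hmap)

end Groth.Agent.S1952
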