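import Groth.Statements.S19521
import Groth.Agent.AbDualLib.Symm
-- import your own Groth.Agent.* helpers here

set_option autoImplicit false
universe u
open CategoryTheory CategoryTheory.Limits MonoidalCategory CartesianMonoidalCategory MonObj GrpObj AlgebraicGeometry
open AbDual

namespace Groth.Agent.S19521

/-- Let S be a locally Noetherian scheme and f : A' → A a homomorphism of abelian schemes over S. Let
A^t, A'^t be dual abelian schemes of A, A' (given through φ_A, φ_A', fppf topology, classes
algebraically equivalent to zero on geometric fibres), A^tt, A'^tt dual abelian schemes of A^t, A'^t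
(through φ_{A^t}, φ_{A'^t}), ξ and ξ' Poincaré classes on A ×_S A^t and A' ×_S A'^t whose
factor-swapped classes are algebraically equivalent to zero on the geometric fibres over A and A',
f^t : A^t → A'^t the transpose of f and f^tt : A'^tt → A^tt the transpose of f^t. With κ_A : A →
A^tt and κ_A' : A' → A'^tt the biduality morphisms defined by the swapped Poincaré classes, the
square commutes: f followed by κ_A equals κ_A' followed by f^tt. (The published statement is for
projective abelian schemes over a Noetherian base, where the duals exist as schemes; here the duals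
are given as data.) -/
theorem result {S : Scheme.{u}} [IsLocallyNoetherian S]
    (A At Att A' A't A'tt : Over S) [GrpObj A] [IsCommMonObj A] [IsProper A.hom] [Smooth A.hom] [GeometricallyConnected A.hom] [GrpObj At] [IsCommMonObj At] [IsProper At.hom] [Smooth At.hom] [GeometricallyConnected At.hom] [GrpObj Att] [IsCommMonObj Att] [IsProper Att.hom] [Smooth Att.hom] [GeometricallyConnected Att.hom]
    [GrpObj A'] [IsCommMonObj A'] [IsProper A'.hom] [Smooth A'.hom] [GeometricallyConnected A'.hom] [GrpObj A't] [IsCommMonObj A't] [IsProper A't.hom] [Smooth A't.hom] [GeometricallyConnected A't.hom] [GrpObj A'tt] [IsCommMonObj A'tt] [IsProper A'tt.hom] [Smooth A'tt.hom] [GeometricallyConnected A'tt.hom]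
    (φA : ∀ T : Over S, PicF.Cl (PicF.XT A.hom T) → (T ⟶ At))
    (φAt : ∀ T : Over S, PicF.Cl (PicF.XT At.hom T) → (T ⟶ Att))
    (φA' : ∀ T : Over S, PicF.Cl (PicF.XT A'.hom T) → (T ⟶ A't))
    (φA't : ∀ T : Over S, PicF.Cl (PicF.XT A't.hom T) → (T ⟶ A'tt))
    (hA : AbDual.IsDualAV Scheme.fppfPrecoverage A At φA) (hAt : AbDual.IsDualAV Scheme.fppfPrecoverage At Att φAt)
    (hA' : AbDual.IsDualAV Scheme.fppfPrecoverage A' A't φA') (hA't : AbDual.IsDualAV Scheme.fppfPrecoverage A't A'tt φA't)
    (ξ : PicF.Cl (PicF.XT A.hom At)) (hξ : AbDual.IsPoincareCl A At φA ξ)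
    (hξs : AbDual.IsPicZeroCl At.hom A (PicF.pullCl (pullbackSymmetry At.hom A.hom).hom ξ))
    (ξ' : PicF.Cl (PicF.XT A'.hom A't)) (hξ' : AbDual.IsPoincareCl A' A't φA' ξ')
    (hξ's : AbDual.IsPicZeroCl A't.hom A' (PicF.pullCl (pullbackSymmetry A't.hom A'.hom).hom ξ'))
    (f : A' ⟶ A) [IsMonHom f] (ft : At ⟶ A't) (hft : AbDual.IsTranspose f φA' φA ft)
    (ftt : A'tt ⟶ Att) (hftt : AbDual.IsTranspose ft φAt φA't ftt) :
    f ≫ φAt A (PicF.pullCl (pullbackSymmetry At.hom A.hom).hom ξ) =
      φA't A' (PicF.pullCl (pullbackSymmetry A't.hom A'.hom).hom ξ') ≫ ftt := by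
  open Groth.Agent in
  open scoped Groth.Agent.PicLaw in
  exact (by
    obtain ⟨x, rfl, hxz⟩ := AbDualLib.Transpose.exists_class ξ hξ.1
    obtain ⟨y, rfl, hyz⟩ := AbDualLib.Transpose.exists_class ξ' hξ'.1
    rw [AbDualLib.Symm.pullbackSymmetry_eq At A] at hξs ⊢
    rw [AbDualLib.Symm.pullbackSymmetry_eq A't A'] at hξ's ⊢
    have key : PicLaw.Mumford.op (f ▷ At) x = PicLaw.Mumford.op (A' ◁ ft) y := by
      refine AbDualLib.Symm.eq_of_pt_eq hA' _ _ (AbDualLib.Primitive.zero_map f _ hxz)
        (AbVarLib.Bilin.zero_op _ _ hyz) ?_ ?_ ?_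
      · rw [← PicLaw.Mumford.op_comp]
        have e : AbDualLib.Rigid.sec A' At ≫ f ▷ At = AbDualLib.Rigid.sec A At := by
          apply CartesianMonoidalCategory.hom_ext <;> simp [Hom.one_def]
        rw [e, AbDualLib.Symm.sec_of_poincare hξ]
      · rw [← PicLaw.Mumford.op_comp, AbDualLib.Rigid.sec_natural, PicLaw.Mumford.op_comp,
          AbDualLib.Symm.sec_of_poincare hξ', map_one]
      · have h := hft At _ hξ.1
        rw [AbDualLib.Transpose.pullCl_bcMap, hξ.2.1, Category.id_comp] at h
        rw [h, PicZero.pt_natural hA' _ _ hyz, hξ'.2.1, Category.comp_id]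
    show f ≫ φAt A (PicLaw.Mumford.op (AbDualLib.Symm.sw At A) x).1 =
      φA't A' (PicLaw.Mumford.op (AbDualLib.Symm.sw A't A') y).1 ≫ ftt
    rw [← PicZero.pt_natural hAt f (PicLaw.Mumford.op (AbDualLib.Symm.sw At A) x) hξs,
      ← hftt A' (PicLaw.Mumford.op (AbDualLib.Symm.sw A't A') y).1 hξ's, AbDualLib.Transpose.pullCl_bcMap]
    refine congrArg (φAt A') (congrArg Subtype.val ?_)
    have e : (At ◁ f) ≫ AbDualLib.Symm.sw At A = AbDualLib.Symm.sw At A' ≫ f ▷ At := by
      apply CartesianMonoidalCategory.hom_ext <;> simp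
    rw [← PicLaw.Mumford.op_comp (At ◁ f), e, PicLaw.Mumford.op_comp, key,
      ← PicLaw.Mumford.op_comp, ← PicLaw.Mumford.op_comp]
    congr 2
    apply CartesianMonoidalCategory.hom_ext <;> simp)

end Groth.Agent.S19521
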