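import Groth.Statements.S19522
import Mathlib

set_option autoImplicit false
universe u
open TensorProduct
open GLin

namespace Groth.Agent.S19522

open scoped TensorProduct

theorem extract {k : Type u} [CommRing k] {A : Type u} [CommRing A] [Algebra k A] {R : Type u} [CommRing R]
    [Algebra k R] (z : R ⊗[k] A) (n : ℕ) (a : A) (m : ℕ) :
    LinearMap.rTensor A ((Polynomial.lcoeff R m).restrictScalars k)
      (Algebra.TensorProduct.map (Polynomial.CAlgHom : R →ₐ[k] Polynomial R) (AlgHom.id k A) z *
        ((Polynomial.X ^ n) ⊗ₜ[k] a)) = if n = m then z * ((1 : R) ⊗ₜ[k] a) else 0 := by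
  induction z with
  | zero => simp
  | add x y hx hy => rw [map_add, add_mul, map_add, hx, hy]; split <;> simp [add_mul]
  | tmul r b =>
    simp only [Algebra.TensorProduct.map_tmul, AlgHom.id_apply, Algebra.TensorProduct.tmul_mul_tmul,
      LinearMap.rTensor_tmul, LinearMap.restrictScalars_apply, Polynomial.lcoeff_apply, mul_one]
    change ((Polynomial.C r * Polynomial.X ^ n).coeff m) ⊗ₜ[k] (b * a) = _
    rw [Polynomial.coeff_C_mul_X_pow]
    by_cases h : n = m
    · subst h; simp
    · rw [if_neg (Ne.symm h), if_neg h, TensorProduct.zero_tmul]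

/-- Let k be a field, A a commutative k-bialgebra coacting multiplicatively on a commutative k-algebra
R, and χ ∈ A a group-like element with an inverse χ' (χχ' = 1). Suppose the polynomial ring R[t]
carries a multiplicative coaction which restricts to the given one on constants and sends t to t ⊗
χ'. Then g ∈ R[t] is coinvariant if and only if, for every r, its r-th coefficient has coaction g_r
↦ g_r ⊗ χ^r; that is, the ring of invariants of R[t] is the sum over r ≥ 0 of the weight-χ^r
semi-invariants of R times t^r. (The published statement is phrased for an affine variety with an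
action of a linear algebraic group over an algebraically closed field of characteristic zero and
identifies the invariants of X × A¹ with the graded ring of invariant sections of the powers of the
linearised trivial bundle; this is its coordinate-ring content, valid over any field.) -/
theorem result (k : Type u) [Field k]
    (A : Type u) [CommRing A] [Bialgebra k A]
    (R : Type u) [CommRing R] [Algebra k R] [HopfRep.Comod k A R] [GLin.IsCoactAlg k A R]
    [HopfRep.Comod k A (Polynomial R)] [GLin.IsCoactAlg k A (Polynomial R)]
    (χ χ' : A) (hχ : CoalgebraStruct.comul (R := k) (A := A) χ = χ ⊗ₜ[k] χ)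
    (hχε : CoalgebraStruct.counit (R := k) (A := A) χ = 1) (hχχ' : χ * χ' = 1)
    (hC : ∀ r : R, HopfRep.Comod.coact (k := k) (A := A) (Polynomial.C r) =
      Algebra.TensorProduct.map (Polynomial.CAlgHom : R →ₐ[k] Polynomial R) (AlgHom.id k A)
        (HopfRep.Comod.coact (k := k) (A := A) r))
    (hX : HopfRep.Comod.coact (k := k) (A := A) (Polynomial.X : Polynomial R) = Polynomial.X ⊗ₜ[k] χ')
    (g : Polynomial R) :
    g ∈ GLin.invariants k A (Polynomial R) ↔
      ∀ r : ℕ, g.coeff r ∈ HopfRep.eigenspace k A R (χ ^ r) := by
  classical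
  have hpow : ∀ r : ℕ, χ ^ r * χ' ^ r = 1 := fun r => by rw [← mul_pow, hχχ', one_pow]
  have hexp : HopfRep.Comod.coact (k := k) (A := A) g = ∑ n ∈ g.support,
      Algebra.TensorProduct.map (Polynomial.CAlgHom : R →ₐ[k] Polynomial R) (AlgHom.id k A)
        (HopfRep.Comod.coact (k := k) (A := A) (g.coeff n)) * ((Polynomial.X ^ n) ⊗ₜ[k] (χ' ^ n)) := by
    conv_lhs => rw [g.as_sum_support_C_mul_X_pow, map_sum]
    refine Finset.sum_congr rfl fun n _ => ?_
    rw [← GLin.coactAlgHom_apply k A (Polynomial R), map_mul, map_pow, GLin.coactAlgHom_apply,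
      GLin.coactAlgHom_apply, hC, hX, Algebra.TensorProduct.tmul_pow]
  constructor
  · intro hg m
    have h : HopfRep.Comod.coact (k := k) (A := A) g = g ⊗ₜ[k] (1 : A) := hg
    have h2 := congrArg (LinearMap.rTensor A ((Polynomial.lcoeff R m).restrictScalars k)) h
    rw [hexp, map_sum] at h2
    simp only [extract, Finset.sum_ite_eq', LinearMap.rTensor_tmul, LinearMap.restrictScalars_apply,
      Polynomial.lcoeff_apply] at h2
    change HopfRep.Comod.coact (k := k) (A := A) (g.coeff m) = g.coeff m ⊗ₜ[k] (χ ^ m)
    by_cases hm : m ∈ g.support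
    · rw [if_pos hm] at h2
      have h3 := congrArg (· * ((1 : R) ⊗ₜ[k] (χ ^ m))) h2
      simpa [mul_assoc, mul_comm (χ' ^ m), hpow, ← Algebra.TensorProduct.one_def] using h3
    · simp [Polynomial.notMem_support_iff.mp hm]
  · intro h
    change HopfRep.Comod.coact (k := k) (A := A) g = g ⊗ₜ[k] (1 : A)
    rw [hexp]
    conv_rhs => rw [g.as_sum_support_C_mul_X_pow, TensorProduct.sum_tmul]
    refine Finset.sum_congr rfl fun n _ => ?_
    rw [show HopfRep.Comod.coact (k := k) (A := A) (g.coeff n) = g.coeff n ⊗ₜ[k] (χ ^ n) from h n,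
      Algebra.TensorProduct.map_tmul, AlgHom.id_apply, Algebra.TensorProduct.tmul_mul_tmul, hpow]
    rfl

end Groth.Agent.S19522
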