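import Groth.Statements.S19524
import Groth.Agent.Omega.SepSections
import Groth.Agent.Omega.GlobalWedge
import Groth.Agent.GeomLoc.SmoothRegular
import Groth.Agent.NeronHD.FiniteExt
import Groth.Agent.S2535

set_option autoImplicit false
universe u
open CategoryTheory CategoryTheory.Limits AlgebraicGeometry
open OmegaSh

namespace Groth.Agent.S19524

/-- Let k be a field and f : X → Z a k-morphism between integral proper k-schemes, where X is
geometrically normal (its base change to an algebraic closure of k has integrally closed local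
domains) and Z is smooth over k; let Y ⊆ Z be the closure of the image of f, m its dimension, and
assume the fibre of f over the generic point of Y is geometrically reduced over the residue field
there (the function field extension K(Y) ⊆ K(X) is separable). Let d_Z : O_Z → Ω_Z and d_X : O_X →
Ω_X be universal k-derivations and c : f^*Ω_Z → Ω_X the O_X-linear map compatible with them, and let
U ⊆ X be the largest open subscheme smooth over k. If f^*Ω_Z is a free O_X-module of finite rank and
Ω^m_X is an m-th exterior power of Ω_X (affine-locally the exterior power of the sections), then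
Ω^m_X has a nonzero section over U: h⁰(U, Ω^m) ≥ 1. -/
theorem result (k : Type u) [Field k]
    (X Z : Scheme.{u}) [X.Over (Spec (CommRingCat.of k))] [Z.Over (Spec (CommRingCat.of k))]
    [IsProper (X ↘ Spec (CommRingCat.of k))] [IsProper (Z ↘ Spec (CommRingCat.of k))] [IsIntegral X] [IsIntegral Z]
    [Smooth (Z ↘ Spec (CommRingCat.of k))]
    (hgn : ∀ (K : Type u) [Field K] [Algebra k K] [IsAlgClosure k K],
      Pi1.IsNormalScheme (pullback (X ↘ Spec (CommRingCat.of k)) (Spec.map (CommRingCat.ofHom (algebraMap k K)))))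
    (f : X ⟶ Z) (hf : f ≫ (Z ↘ Spec (CommRingCat.of k)) = X ↘ Spec (CommRingCat.of k))
    (η : Z) (hη : closure {η} = closure (Set.range f.base)) (m : ℕ)
    (hm : topologicalKrullDim (closure (Set.range f.base)) = m)
    (hsep : GeometricallyReduced (pullback.snd f (Z.fromSpecResidueField η)))
    (ΩZ : Z.Modules) (dZ : OmegaSh.Der (Z ↘ Spec (CommRingCat.of k)) ΩZ) (hdZ : OmegaSh.IsUniversal dZ)
    (ΩX : X.Modules) (dX : OmegaSh.Der (X ↘ Spec (CommRingCat.of k)) ΩX) (hdX : OmegaSh.IsUniversal dX)
    (c : (Scheme.Modules.pullback f).obj ΩZ ⟶ ΩX) (hc : OmegaSh.IsDiffCompat f dZ dX c)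
    (hfree : ∃ d : ℕ, Nonempty ((Scheme.Modules.pullback f).obj ΩZ ≅ FlatMod.freeMod X d))
    (U : X.Opens) (hU : Smooth (U.ι ≫ (X ↘ Spec (CommRingCat.of k))))
    (hUmax : ∀ V : X.Opens, Smooth (V.ι ≫ (X ↘ Spec (CommRingCat.of k))) → V ≤ U)
    (Ωm : X.Modules) (hΩm : ExtPow.IsExtPow m ΩX Ωm) :
    ∃ s : Ωm.val.obj (Opposite.op U), s ≠ 0 := by
  have hξ : f (genericPoint X) = η := by
    have h1 := (genericPoint_spec X).image f.continuous
    rw [Set.image_univ] at h1
    exact h1.eq hη
  subst hξ
  have hsm := Groth.Agent.Omega.GenericSep.formallySmooth_residueField f _ rfl hsep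
  have hm' : m ≤ Groth.Agent.VarDim.dimPt k Z (f (genericPoint X)) := by
    rw [← hη, Groth.Agent.VarBC.Dim.topDim_closure k] at hm
    exact le_of_eq (by exact_mod_cast hm.symm)
  obtain ⟨d, ⟨e⟩⟩ := hfree
  obtain ⟨φ, hφ⟩ := hΩm
  have hne : genericPoint X ∈ U := by
    let pX := X ↘ Spec (CommRingCat.of k)
    haveI : LocallyOfFinitePresentation pX := Groth.Agent.GeomLoc.locallyOfFinitePresentation
    haveI : AlgebraicGeometry.IsReduced (FBase.bc pX (AlgebraicClosure k)) :=
      Groth.Agent.NeronHD.isReduced_of_normal (hgn (AlgebraicClosure k))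
    haveI : GeometricallyReduced pX := Groth.Agent.S2535.result (Ω := AlgebraicClosure k) pX
    have hmem : genericPoint X ∈ pX.smoothLocus :=
      Groth.Agent.GeomLoc.mem_smoothLocus_of_generic (genericPoint X)
        (by rw [(genericPoint_spec X).def, irreducibleComponents_eq_singleton]; rfl)
        (Groth.Agent.GeomLoc.geometricallyReduced_iff_genericPoint.1 inferInstance)
    haveI : LocallyOfFinitePresentation (pX.smoothLocus.ι ≫ pX) := inferInstance
    refine hUmax pX.smoothLocus ?_ hmem
    rw [← Scheme.Hom.smoothLocus_eq_top_iff, ← Scheme.Hom.preimage_smoothLocus_eq]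
    ext x
    simp
  revert dX hdX hc
  generalize X ↘ Spec (CommRingCat.of k) = pX at hf
  subst hf
  intro dX hdX hc
  obtain ⟨σ, hσ⟩ := Groth.Agent.Omega.SepSections.exists_global_germs k f m hm' hsm hdZ hdX hc
    (fun V hV s => Groth.Agent.AmpleLib.germ_mem_span_of_epi e.inv s _ hV)
  exact Groth.Agent.Omega.GlobalWedge.exists_ne_zero ⟨φ, hφ⟩ σ hσ U hne

end Groth.Agent.S19524
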