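import Groth.Statements.S19529
import Groth.Agent.S19982
import Groth.Agent.S16586
import Groth.Agent.AbExt.HomBC

set_option autoImplicit false
universe u
open CategoryTheory MonoidalCategory CartesianMonoidalCategory MonObj GrpObj AlgebraicGeometry
open AbVar

namespace Groth.Agent.S19529

/-- Let k be a field with an algebraic closure Ω, l a prime invertible in k, A an abelian variety over k
(a proper, geometrically integral commutative group scheme over k) and α an endomorphism of A (a
homomorphism of group schemes). Let T_l(α) be the induced ℤ_l-linear endomorphism of the l-adic Tate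
module of Ω-points of A, which is assumed, as is always the case, to be free of finite rank over
ℤ_l. Then the minimal polynomial of T_l(α) over ℤ_l is defined over ℤ: there is a monic polynomial P
with integer coefficients whose image in ℤ_l[X] is that minimal polynomial. (The companion clause on
the characteristic polynomial is stated separately for finite and for algebraically closed ground
fields.) -/
theorem result (k Ω : Type u) [Field k] [Field Ω] [Algebra k Ω] [IsAlgClosure k Ω]
    (l : ℕ) [Fact l.Prime] (hl : (l : k) ≠ 0) (A : Over (Spec (CommRingCat.of k)))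
    [GrpObj A] [IsCommMonObj A] [IsProper A.hom] [GeometricallyIntegral A.hom]
    (α : A ⟶ A) [IsMonHom α]
    [Module.Free ℤ_[l] (AbDual.TateMod A l (SGA7.pt Ω))] [Module.Finite ℤ_[l] (AbDual.TateMod A l (SGA7.pt Ω))] :
    ∃ P : Polynomial ℤ, P.Monic ∧
      (minpoly ℤ_[l] (AbDual.tateMapₗ (l := l) (T := SGA7.pt Ω) α)) = P.map (Int.castRingHom ℤ_[l]) := by
  open Groth.Agent Groth.Agent.AbExt Polynomial in
  exact by
    have : IsAlgClosed Ω := IsAlgClosure.isAlgClosed k
    let T := SGA7.pt (K := k) Ω
    let R := EndAV.End A
    let f : R := EndAV.End.of α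
    let ρ : R →+* Module.End ℤ_[l] (AbDual.TateMod A l T) := EndAV.End.tateRep l T
    have hρ : Function.Injective ρ := fun φ ψ h => Groth.Agent.S19982.result k Ω l hl A A h
    obtain ⟨g, hg⟩ : ∃ g : ℕ, topologicalKrullDim A.left = (g : WithBot ℕ∞) := HomBC.exists_dim A
    obtain ⟨hfree, hfin, -⟩ := Groth.Agent.S16586.result k A A g g hg hg
    have : Module.Finite ℤ R := hfin
    have : Module.Free ℤ R := hfree
    let S := TensorProduct ℤ ℚ R
    let j : R →ₐ[ℤ] S := Algebra.TensorProduct.includeRight
    have hj : Function.Injective j := Algebra.TensorProduct.includeRight_injective (Int.cast_injective (α := ℚ))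
    have hint : IsIntegral ℚ (j f) := Algebra.IsIntegral.isIntegral _
    have hintZ : IsIntegral ℤ f := Algebra.IsIntegral.isIntegral _
    have hdvd : minpoly ℚ (j f) ∣ (minpoly ℤ f).map (algebraMap ℤ ℚ) := minpoly.dvd _ _ (by
      rw [Polynomial.aeval_map_algebraMap, Polynomial.aeval_algHom_apply, minpoly.aeval, map_zero])
    obtain ⟨P, hPmap⟩ : ∃ P : ℤ[X], P.map (algebraMap ℤ ℚ) * C (minpoly ℚ (j f)).leadingCoeff =
        minpoly ℚ (j f) := IsIntegrallyClosed.eq_map_mul_C_of_dvd ℚ (minpoly.monic hintZ) hdvd
    rw [(minpoly.monic hint).leadingCoeff, map_one, _root_.mul_one] at hPmap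
    have hPm : P.Monic := monic_of_injective (f := algebraMap ℤ ℚ) (Int.cast_injective (α := ℚ))
      (by rw [hPmap]; exact minpoly.monic hint)
    have hP0 : aeval f P = 0 := hj (by
      rw [map_zero, ← Polynomial.aeval_algHom_apply, ← Polynomial.aeval_map_algebraMap ℚ, hPmap, minpoly.aeval])
    have hlow : ∀ c : ℤ[X], c.degree < P.degree → aeval f c = 0 → c = 0 := fun c hd hc => by
      by_contra h0
      have hinjQ : Function.Injective (algebraMap ℤ ℚ) := Int.cast_injective
      have := minpoly.degree_le_of_ne_zero ℚ (j f) (p := c.map (algebraMap ℤ ℚ))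
        ((Polynomial.map_ne_zero_iff hinjQ).mpr h0)
        (by rw [Polynomial.aeval_map_algebraMap, Polynomial.aeval_algHom_apply, hc, map_zero])
      rw [← hPmap, degree_map_eq_of_injective hinjQ, degree_map_eq_of_injective hinjQ] at this
      exact absurd hd (not_lt.mpr this)
    -- the powers of `f` are independent, also on the Tate module
    have hindep : LinearIndependent ℤ (fun i : Fin P.natDegree => (f ^ (i : ℕ) : EndAV.Hom A A)) := by
      rw [Fintype.linearIndependent_iff]
      intro c hc i₀
      have hz : (∑ i : Fin P.natDegree, C (c i) * X ^ (i : ℕ)) = 0 := hlow _ (by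
        refine lt_of_lt_of_le (degree_sum_fin_lt c) ?_
        rw [degree_eq_natDegree hPm.ne_zero]) (by
        simp only [map_sum, map_mul, map_pow, aeval_X, aeval_C]
        refine Eq.trans (Finset.sum_congr rfl fun i _ => ?_) hc
        rw [← Algebra.smul_def])
      have := congrArg (fun q : ℤ[X] => q.coeff i₀) hz
      simpa [coeff_C_mul, coeff_X_pow, Fin.val_inj] using this
    have hindT := HomBC.linearIndependent_tateMap (Ω := Ω) l hl _ _ hindep
    have hfα : ρ f = AbDual.tateMapₗ (l := l) (T := T) α := rfl
    refine ⟨P, hPm, ?_⟩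
    rw [← hfα]
    let Q := P.map (Int.castRingHom ℤ_[l])
    have hQ : Q.Monic := hPm.map _
    have hQ0 : aeval (ρ f) Q = 0 := by
      show aeval (ρ f) (P.map (Int.castRingHom ℤ_[l])) = 0
      rw [← algebraMap_int_eq, Polynomial.aeval_map_algebraMap]
      have h2 := congrArg ρ hP0
      rw [map_zero, Polynomial.aeval_def, Polynomial.hom_eval₂] at h2
      rw [← h2, Polynomial.aeval_def]
      congr 1
      exact RingHom.ext_int _ _
    have hintT : IsIntegral ℤ_[l] (ρ f) := ⟨Q, hQ, by rw [← Polynomial.aeval_def]; exact hQ0⟩
    have hTlow : ∀ c : ℤ_[l][X], c.degree < Q.degree → aeval (ρ f) c = 0 → c = 0 := fun c hd hc => by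
      by_contra h0
      have hn : c.natDegree < P.natDegree := by
        rw [hPm.degree_map, degree_eq_natDegree h0, degree_eq_natDegree hPm.ne_zero] at hd
        exact_mod_cast hd
      rw [aeval_eq_sum_range' hn, ← Fin.sum_univ_eq_sum_range (fun i => c.coeff i • ρ f ^ i)] at hc
      simp only [← map_pow] at hc
      have hz := Fintype.linearIndependent_iff.mp hindT _ hc
      refine h0 (Polynomial.ext fun i => ?_)
      rcases lt_or_ge i P.natDegree with hi | hi
      · exact hz ⟨i, hi⟩
      · exact coeff_eq_zero_of_natDegree_lt (by omega)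
    have hmin := minpoly.monic hintT
    by_contra hne
    have hsub : (minpoly ℤ_[l] (ρ f) - Q).degree < Q.degree := by
      refine degree_sub_lt ?_ hmin.ne_zero (by rw [hmin.leadingCoeff, hQ.leadingCoeff]) |>.trans_le ?_
      · refine le_antisymm (minpoly.min _ _ hQ hQ0) (not_lt.mp fun hd => ?_)
        exact hmin.ne_zero (hTlow _ hd (minpoly.aeval _ _))
      · exact minpoly.min _ _ hQ hQ0
    exact hne (sub_eq_zero.mp (hTlow _ hsub (by rw [map_sub, minpoly.aeval, hQ0, sub_zero])))

end Groth.Agent.S19529
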