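import Groth.Statements.S1953
import Groth.Agent.IntMult66.Graph
import Groth.Agent.IntMult66.Ext
import Groth.Agent.IntMult66.Bilin
import Groth.Agent.S1951
import Groth.Agent.S1950
import Groth.Agent.S6450
import Groth.Agent.IntMult66.AssocExpand
import Groth.Agent.CycLib.ProdClass

set_option autoImplicit false
universe u
open CategoryTheory CategoryTheory.Limits AlgebraicGeometry
attribute [local instance] HasDerivedCategory.standard
open IntMult

namespace Groth.Agent.S1953

/-- Let X be a proper nonsingular variety over K, α an r-cycle and β an s-cycle intersecting properly, Δ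
⊆ X ×_K X the diagonal (as the prime cycle of its generic point) and α × β the exterior product,
with dimension function δ₂ on X ×_K X. Then [Δ] and α × β intersect properly and pr_{1,*}([Δ] · (α ×
β)) = α · β coefficientwise, for any cycle on X ×_K X with the coefficients of [Δ] · (α × β). Here X
is a nonsingular variety over the algebraically closed field K (smooth, separated, quasi-compact,
integral) with dimension function δ (transcendence degree) and n = dim X; cycles are Mathlib
AlgebraicCycles with Cyc.Zk membership, proper intersection is IntMult.IntersectProperly and α · β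
is the Tor-formula intersection product on coefficient functions (IntMult.interProd), bundled where
needed as 'any cycle with these coefficients'. -/
theorem result (K : Type u) [Field K] [IsAlgClosed K] (X : Scheme.{u}) (f : X ⟶ Spec (CommRingCat.of K)) [Smooth f] [IsProper f] [IsIntegral X] (δ : X → ℤ) (hX : Cyc.IsSetup X δ) (hδ : Cyc.DeltaCompat f δ (fun _ => 0)) (n : ℤ) (hn : δ (genericPoint X) = n) (δ₂ : ↥(pullback f f) → ℤ) (h₂ : Cyc.DeltaCompat (pullback.fst f f ≫ f) δ₂ (fun _ => 0)) (h₂' : Cyc.DeltaCompat (pullback.fst f f) δ₂ δ) (r s : ℤ) (α β : AlgebraicCycle X ℤ) (hα : α ∈ Cyc.Zk X δ r) (hβ : β ∈ Cyc.Zk X δ s) (hprop : IntMult.IntersectProperly δ n ⇑α ⇑β) (γ : AlgebraicCycle (pullback f f) ℤ) (hγ : ⇑γ = IntMult.interProd δ₂ (n + n) (Set.indicator {pullback.diagonal f (genericPoint X)} 1) (IntMult.extProd f f δ δ δ₂ ⇑α ⇑β)) : IntMult.IntersectProperly δ₂ (n + n) (Set.indicator {pullback.diagonal f (genericPoint X)} 1) (IntMult.extProd f f δ δ δ₂ ⇑α ⇑β) ∧ ⇑(AlgebraicCycle.map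 (pullback.fst f f) δ₂ δ γ) = IntMult.interProd δ n ⇑α ⇑β := by
  classical
  open Groth.Agent.IntMult66 Groth.Agent.CycLib in
  exact (by
    haveI := hX.1
    set p := pullback.fst f f
    set q := pullback.snd f f
    set Δ := pullback.diagonal f with hΔ
    have hΔp : Δ ≫ p = 𝟙 X := pullback.diagonal_fst f
    have hΔq : Δ ≫ q = 𝟙 X := pullback.diagonal_snd f
    haveI := Groth.Agent.S1582.result K X X f f
    haveI : Flat f := flat_of_field f
    haveI : Flat (Δ ≫ p) := by rw [hΔp]; infer_instance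
    haveI : Flat (Δ ≫ q) := by rw [hΔq]; infer_instance
    have hsW := isSetup_of_deltaCompat (p ≫ f) h₂
    haveI := hsW.1
    haveI : CompactSpace X := QuasiCompact.compactSpace_of_compactSpace f
    haveI : CompactSpace ↥(pullback f f) := QuasiCompact.compactSpace_of_compactSpace (p ≫ f)
    have hqf : q ≫ f = p ≫ f := pullback.condition.symm
    have hcq : Cyc.DeltaCompat q δ₂ δ := by
      rw [delta_eq (p ≫ f) h₂, delta_eq f hδ]
      exact deltaCompat_fdelta K q (p ≫ f) f hqf
    obtain ⟨hn0, hrf⟩ := hasRelDim_toField f hδ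
    rw [hn] at hn0
    obtain ⟨dn, rfl⟩ : ∃ d : ℕ, n = (d : ℤ) := ⟨n.toNat, (Int.toNat_of_nonneg hn0).symm⟩
    rw [hn, Int.toNat_natCast] at hrf
    have hrp : Cyc.HasRelDim p dn :=
      (Groth.Agent.S9358.result f f q p (IsPullback.of_hasPullback f f).flip dn).2.2 hrf
    have hrq : Cyc.HasRelDim q dn := (Groth.Agent.S9358.result f f p q (IsPullback.of_hasPullback f f) dn).2.2 hrf
    have hW : δ₂ (genericPoint ↥(pullback f f)) = (dn : ℤ) + dn := by
      refine le_antisymm ((delta_le_fst_add_snd f f hδ hδ h₂ _).trans ?_) ?_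
      · exact add_le_add (hn ▸ delta_mono f hδ (genericPoint_specializes _)) (hn ▸ delta_mono f hδ (genericPoint_specializes _))
      · obtain ⟨w, hw, -⟩ := Scheme.Pullback.exists_preimage_pullback (f := f) (g := f) (genericPoint X)
          (genericPoint X) rfl
        obtain ⟨w0, h0, hw0, hmax⟩ := exists_generic_fibre p w
        have := delta_mono (p ≫ f) h₂ (genericPoint_specializes w0)
        have h' := delta_eq_of_generic p h₂' hrp w0 hmax
        rw [hw0, hw, hn] at h'
        omega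
    have hshp : ShiftBy p δ₂ δ (dn : ℤ) := fun z hz => delta_eq_of_generic p h₂' hrp z hz
    have hshq : ShiftBy q δ₂ δ (dn : ℤ) := fun z hz => delta_eq_of_generic q hcq hrq z hz
    have hΔf : Δ ≫ p ≫ f = f := by rw [← Category.assoc, hΔp, Category.id_comp]
    have hgq := fun v => interProd_graph f (p ≫ f) f Δ hΔf q hqf hX hsW hX hδ h₂ hδ dn dn hn hn hW v
    have hgp := fun v => interProd_graph f (p ≫ f) f Δ hΔf p rfl hX hsW hX hδ h₂ hδ dn dn hn hn hW v
    have hδΔ := delta_closedImmersion f (p ≫ f) Δ hΔf hδ h₂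
    obtain ⟨α', hα'⟩ := exists_pull_cycle p hsW.2.2 hshp α
    obtain ⟨β', hβ'⟩ := exists_pull_cycle q hsW.2.2 hshq β
    let S := (finite_support_of_compact α').toFinset
    let T := (finite_support_of_compact β').toFinset
    let T0 := (finite_support_of_compact β).toFinset
    have hS : ∀ u, u ∉ S → Cyc.pullFun p δ₂ δ dn ⇑α u = 0 := fun u hu => by rw [← hα']; simpa [S] using hu
    have hT : ∀ u, u ∉ T → Cyc.pullFun q δ₂ δ dn ⇑β u = 0 := fun u hu => by rw [← hβ']; simpa [T] using hu
    have hT0 : ∀ u, u ∉ T0 → β u = 0 := fun u hu => by simpa [T0] using hu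
    have hne : ∀ (φ : X → ℤ) (r' : ↥(pullback f f) → X → Prop) (π : pullback f f ⟶ X) (u : ↥(pullback f f)),
        Cyc.pullFun π δ₂ δ dn φ u ≠ 0 → δ₂ u = δ (π u) + dn ∧ φ (π u) ≠ 0 ∧
          Cyc.pullFun π δ₂ δ dn (Set.indicator {π u} 1) u ≠ 0 := by
      intro φ _ π u hu
      unfold Cyc.pullFun at hu ⊢
      split_ifs at hu ⊢ with h
      · exact ⟨h, left_ne_zero_of_mul hu, by simpa using right_ne_zero_of_mul hu⟩
      · exact absurd rfl hu
    have hone : ∀ {a b : ↥(pullback f f)}, (Set.indicator {a} 1 b : ℤ) ≠ 0 → b = a := fun h =>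
      Set.mem_singleton_iff.1 (Set.mem_of_indicator_ne_zero h)
    obtain ⟨hext1, hext2⟩ := Groth.Agent.S1951.result K X X f f δ δ δ₂ hδ hδ h₂ dn dn hn hn r s α β hα hβ
    have hdiag : ∀ {u : ↥(pullback f f)} {z : ↥(pullback f f)}, u = Δ (genericPoint X) → u ⤳ z → ∃ x, Δ x = z :=
      fun hu h => h.mem_closed Δ.isClosedEmbedding.isClosed_range ⟨_, hu.symm⟩
    have hpΔ : ∀ x, p (Δ x) = x := fun x => by rw [← Scheme.Hom.comp_apply, hΔp]; rfl
    have hqΔ : ∀ x, q (Δ x) = x := fun x => by rw [← Scheme.Hom.comp_apply, hΔq]; rfl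
    have hUα : ∀ u v z, u = Δ (genericPoint X) → Cyc.pullFun p δ₂ δ dn ⇑α v ≠ 0 → u ⤳ z → v ⤳ z →
        δ₂ z ≤ δ₂ u + δ₂ v - ((dn : ℤ) + dn) := by
      intro u v z hu hv h1 h2
      obtain ⟨hd, hv1, hv2⟩ := hne ⇑α (fun _ _ => True) p v hv
      exact (hgp (p v)).1 u v z (by simp [hu]) hv2 h1 h2
    have hUβ : ∀ u v z, u = Δ (genericPoint X) → Cyc.pullFun q δ₂ δ dn ⇑β v ≠ 0 → u ⤳ z → v ⤳ z →
        δ₂ z ≤ δ₂ u + δ₂ v - ((dn : ℤ) + dn) := by
      intro u v z hu hv h1 h2
      obtain ⟨hd, hv1, hv2⟩ := hne ⇑β (fun _ _ => True) q v hv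
      exact (hgq (q v)).1 u v z (by simp [hu]) hv2 h1 h2
    have hUVW : ∀ a b z, Cyc.pullFun p δ₂ δ dn ⇑α a ≠ 0 → Cyc.pullFun q δ₂ δ dn ⇑β b ≠ 0 →
        Δ (genericPoint X) ⤳ z → b ⤳ z → a ⤳ z →
        δ₂ z ≤ δ₂ (Δ (genericPoint X)) + δ₂ b + δ₂ a - 2 * ((dn : ℤ) + dn) := by
      intro a b z ha hb h1 h2 h3
      obtain ⟨x, rfl⟩ := hdiag rfl h1
      obtain ⟨hda, ha1, -⟩ := hne ⇑α (fun _ _ => True) p a ha
      obtain ⟨hdb, hb1, -⟩ := hne ⇑β (fun _ _ => True) q b hb
      have e1 := h3.map p.continuous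
      have e2 := h2.map q.continuous
      rw [hpΔ] at e1
      rw [hqΔ] at e2
      have := hprop (p a) (q b) x ha1 hb1 e1 e2
      rw [hδΔ, hδΔ, hn, hda, hdb]
      omega
    -- the pullback of `β` cut by the diagonal
    set μf := IntMult.interProd δ₂ ((dn : ℤ) + dn) (Set.indicator {Δ (genericPoint X)} 1) (Cyc.pullFun q δ₂ δ dn ⇑β) with hμf
    have hqβ : ∀ u, Cyc.pullFun q δ₂ δ dn ⇑β u =
        ∑ v ∈ T0, β v * Cyc.pullFun q δ₂ δ dn (Set.indicator {v} 1) u := fun u => by
      unfold Cyc.pullFun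
      split_ifs with h
      · rw [eq_sum_indicator ⇑β T0 hT0 (q u), Finset.sum_mul]
        exact Finset.sum_congr rfl fun ξ _ => by ring
      · simp
    have hq1 : ∀ (v : X) (u : ↥(pullback f f)), β v ≠ 0 →
        Cyc.pullFun q δ₂ δ dn (Set.indicator {v} 1) u ≠ 0 → Cyc.pullFun q δ₂ δ dn ⇑β u ≠ 0 := by
      intro v u hv hu
      unfold Cyc.pullFun at hu ⊢
      split_ifs at hu ⊢ with hd
      · have e' : q u = v := by simpa [Set.indicator_apply] using left_ne_zero_of_mul hu
        exact mul_ne_zero (e' ▸ hv) (right_ne_zero_of_mul hu)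
      · exact absurd rfl hu
    have hμsum : ∀ w, μf w = ∑ v ∈ T0, β v * IntMult.interProd δ₂ ((dn : ℤ) + dn)
        (Set.indicator {Δ (genericPoint X)} 1) (Cyc.pullFun q δ₂ δ dn (Set.indicator {v} 1)) w := fun w => by
      rw [hμf, interProd_eq_sum δ₂ _ _ _ {Δ (genericPoint X)} T
        (fun u hu => Set.indicator_of_notMem (by simpa using hu) _) hT w, Finset.sum_singleton,
        Finset.sum_congr rfl fun u _ => by rw [hqβ u, Finset.mul_sum, Finset.sum_mul], Finset.sum_comm]
      refine Finset.sum_congr rfl fun v _ => ?_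
      by_cases hv : β v = 0
      · simp [hv]
      rw [interProd_eq_sum δ₂ _ _ _ {Δ (genericPoint X)} T
        (fun u hu => Set.indicator_of_notMem (by simpa using hu) _)
        (fun u hu => by_contra fun h => hq1 v u hv h (hT u hu)) w, Finset.sum_singleton, Finset.mul_sum]
      refine Finset.sum_congr rfl fun u _ => ?_
      simp only [Set.indicator_of_mem (Set.mem_singleton (Δ (genericPoint X))), Pi.one_apply]
      ring
    have hμΔ : ∀ x, μf (Δ x) = β x := fun x => by
      rw [hμsum, eq_sum_indicator ⇑β T0 hT0 x]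
      refine Finset.sum_congr rfl fun v _ => ?_
      rw [(hgq v).2.2 x]
      congr 1
      unfold Cyc.pullFun
      have hqx : (Δ ≫ q) x = x := by rw [hΔq]; rfl
      rw [if_pos (by rw [hqx]; omega)]
      rw [show (Set.indicator {v} 1 ((Δ ≫ q) x) : ℤ) = Set.indicator {v} 1 x from congrArg _ hqx]
      have hlen : ((Module.length (X.presheaf.stalk x) (X.presheaf.stalk x ⧸ Ideal.map ((Δ ≫ q).stalkMap x).hom
          (IsLocalRing.maximalIdeal (X.presheaf.stalk ((Δ ≫ q) x))))).toNat : ℤ) = 1 := by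
        have key : ∀ (h : X ⟶ X), h = 𝟙 X → ((Module.length (X.presheaf.stalk x) (X.presheaf.stalk x ⧸
            Ideal.map (h.stalkMap x).hom (IsLocalRing.maximalIdeal (X.presheaf.stalk (h x))))).toNat : ℤ) = 1 := by
          rintro h rfl
          rw [Scheme.Hom.stalkMap_id]
          erw [Ideal.map_id]
          show ((Module.length (X.presheaf.stalk x) (X.presheaf.stalk x ⧸
            IsLocalRing.maximalIdeal (X.presheaf.stalk x))).toNat : ℤ) = 1
          haveI : IsSimpleModule (X.presheaf.stalk x)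
              (X.presheaf.stalk x ⧸ IsLocalRing.maximalIdeal (X.presheaf.stalk x)) :=
            isSimpleModule_iff_isCoatom.2 (Ideal.isMaximal_def.1 (IsLocalRing.maximalIdeal.isMaximal _))
          erw [Module.length_eq_one]
          rfl
        exact key _ hΔq
      rw [hlen, mul_one]
    have hμ0 : ∀ w, (∀ x, Δ x ≠ w) → μf w = 0 := fun w hw => by
      rw [hμsum]
      exact Finset.sum_eq_zero fun v _ => by rw [(hgq v).2.1 w hw, mul_zero]
    have hμne : ∀ w, μf w ≠ 0 → ∃ x, Δ x = w ∧ β x ≠ 0 := fun w hw => by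
      by_cases h : ∃ x, Δ x = w
      · obtain ⟨x, rfl⟩ := h
        exact ⟨x, rfl, hμΔ x ▸ hw⟩
      · exact absurd (hμ0 w (not_exists.1 h)) hw
    have hμfin : (Function.support μf).Finite :=
      ((finite_support_of_compact β).image Δ).subset fun w hw => by
        obtain ⟨x, rfl, hx⟩ := hμne w hw
        exact ⟨x, hx, rfl⟩
    obtain ⟨μ, hμ⟩ := exists_cycle_of_finite μf hμfin
    have hμk : μ ∈ Cyc.Zk (pullback f f) δ₂ s := fun w hw => by
      by_contra h
      rw [hμ] at h
      obtain ⟨x, rfl, hx⟩ := hμne w h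
      exact hx (hβ x (by rwa [hδΔ] at hw))
    have hμprop : IntMult.IntersectProperly δ₂ ((dn : ℤ) + dn) ⇑μ (Cyc.pullFun p δ₂ δ dn ⇑α) := by
      intro u a z hu ha h1 h2
      rw [hμ] at hu
      obtain ⟨x, rfl, hx⟩ := hμne u hu
      obtain ⟨x', rfl⟩ := h1.mem_closed Δ.isClosedEmbedding.isClosed_range ⟨x, rfl⟩
      obtain ⟨hda, ha1, -⟩ := hne ⇑α (fun _ _ => True) p a ha
      have e1 := h2.map p.continuous
      rw [hpΔ] at e1
      have e2 := h1.map q.continuous
      rw [hqΔ, hqΔ] at e2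
      have := hprop (p a) x x' ha1 hx e1 e2
      rw [hδΔ, hδΔ, hda]
      omega
    let U := T0.image fun x => Δ x
    have hU : ∀ u, u ∉ U → μf u = 0 := fun u hu => by
      by_contra h
      obtain ⟨x, rfl, hx⟩ := hμne u h
      exact hu (Finset.mem_image_of_mem _ (by_contra fun h' => hx (hT0 x h')))
    have hγ' : ⇑γ = IntMult.interProd δ₂ ((dn : ℤ) + dn) ⇑μ (Cyc.pullFun p δ₂ δ dn ⇑α) := by
      funext z
      rw [hγ, ← hext2, hμ]
      have hγ2 : ∀ w, IntMult.interProd δ₂ ((dn : ℤ) + dn) (Cyc.pullFun p δ₂ δ dn ⇑α) (Cyc.pullFun q δ₂ δ dn ⇑β) w =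
          ∑ a ∈ S, ∑ b ∈ T, Cyc.pullFun p δ₂ δ dn ⇑α a * Cyc.pullFun q δ₂ δ dn ⇑β b *
            IntMult.interProd δ₂ ((dn : ℤ) + dn) (Set.indicator {b} 1) (Set.indicator {a} 1) w := fun w => by
        rw [interProd_eq_sum δ₂ _ _ _ S T hS hT w]
        refine Finset.sum_congr rfl fun a _ => Finset.sum_congr rfl fun b _ => ?_
        rw [interProd_swap]
      exact assoc_expand (p ≫ f) hsW h₂ hW (Δ (genericPoint X)) _ _ S T hS hT
        (fun a u z ha hu h1 h2 => hUα u a z hu ha h1 h2) (fun b u z hb hu h1 h2 => hUβ u b z hu hb h1 h2)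
        hext1 hUVW μf hμf z
    obtain ⟨hp1, hp2⟩ := Groth.Agent.S1950.result K (pullback f f) X p (p ≫ f) f rfl δ₂ δ hsW hX h₂ hδ h₂'
      ((dn : ℤ) + dn) dn hW hn dn (by omega) hrp s r μ α hμk hα hμprop γ hγ'
    have hmapμ : ∀ y, AlgebraicCycle.map p δ₂ δ μ y = β y := fun y => by
      rw [map_apply_eq_sum p δ₂ δ μ y {Δ y} fun w hw hne' => ?_,
        Finset.filter_true_of_mem fun w hw => by rw [Finset.mem_singleton.1 hw]; exact hpΔ y, Finset.sum_singleton]
      · unfold AlgebraicCycle.mapCoeff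
        rw [if_pos]
        · have hdeg : p.residueDegree (Δ y) = 1 := by
            have h := residueDegree_comp Δ p y
            rw [residueDegree_congr hΔp y,
              residueDegree_eq_one (𝟙 X) y (residueFieldMap_bijective_closedImmersion (𝟙 X) y).2] at h
            exact Nat.eq_one_of_mul_eq_one_left h.symm
          rw [hdeg, hμ, hμΔ]
          simp
        · show δ₂ (Δ y) = δ (p (Δ y))
          rw [hpΔ, hδΔ]
      · rw [hμ] at hne'
        obtain ⟨x, rfl, -⟩ := hμne w hne'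
        rw [hpΔ] at hw
        rw [hw]
        exact Finset.mem_singleton_self _
    refine ⟨?_, ?_⟩
    · intro u v z hu hv h1 h2
      obtain rfl := hone hu
      have hv' := hv
      unfold IntMult.extProd at hv'
      split_ifs at hv' with hd
      · obtain ⟨hαv, hβv⟩ := mul_ne_zero_iff.1 (left_ne_zero_of_mul hv')
        obtain ⟨x, rfl⟩ := hdiag rfl h1
        have e1 := h2.map p.continuous
        have e2 := h2.map q.continuous
        rw [hpΔ] at e1
        rw [hqΔ] at e2
        have := hprop _ _ x hαv hβv e1 e2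
        rw [hδΔ, hδΔ, hn, hd]
        omega
      · exact absurd rfl hv'
    · rw [← hp2, show (⇑(AlgebraicCycle.map p δ₂ δ μ) : X → ℤ) = ⇑β from funext hmapμ, interProd_swap])

end Groth.Agent.S1953
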