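import Groth.Statements.S19532
import Groth.Agent.TFSemigroup.Monomial
import Mathlib.RingTheory.Nilpotent.Basic
import Mathlib.Algebra.Group.Prod

set_option autoImplicit false
universe u
open CategoryTheory
open TFCurv

namespace Groth.Agent.S19532

open CategoryTheory PowerSeries

variable {k : Type u} [Field k] {δ : ℕ} {O : Subalgebra k (PowerSeries k × PowerSeries k)}

noncomputable abbrev Xp (k : Type u) [Field k] (i : ℕ) : PowerSeries k × PowerSeries k := (X ^ i, X ^ i)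

theorem mem_O (hO : ∀ f : (PowerSeries k × PowerSeries k), f ∈ O ↔ (δ : ℕ∞) ≤ PowerSeries.order (f.1 - f.2))
    (f : PowerSeries k × PowerSeries k) : f ∈ O ↔ X ^ δ ∣ f.1 - f.2 :=
  (hO f).trans (Groth.Agent.TFSemigroup.PSeries.X_pow_dvd_iff_le _ _).symm

theorem hloc (hδ : 1 ≤ δ) (hO : ∀ f, f ∈ O ↔ X ^ δ ∣ f.1 - f.2) (a : ↥O) :
    ∃ c : k, a - algebraMap k ↥O c ∈ Ideal.jacobson (⊥ : Ideal ↥O) := by
  let c := constantCoeff (a : PowerSeries k × PowerSeries k).1
  refine ⟨c, Ideal.mem_jacobson_bot.mpr fun y => ?_⟩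
  have ha2 : constantCoeff (a : PowerSeries k × PowerSeries k).2 = c := by
    have h := X_pow_dvd_iff.mp ((hO _).mp a.2) 0 hδ
    rw [coeff_zero_eq_constantCoeff_apply, map_sub, sub_eq_zero] at h
    exact h.symm
  let b := (a - algebraMap k ↥O c) * y + 1
  have h1 : IsUnit (b : PowerSeries k × PowerSeries k).1 := by
    rw [isUnit_iff_constantCoeff]
    show IsUnit (constantCoeff (((a : PowerSeries k × PowerSeries k).1 - algebraMap k (PowerSeries k) c) *
      (y : PowerSeries k × PowerSeries k).1 + 1))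
    rw [map_add, map_mul, map_sub, PowerSeries.algebraMap_eq, constantCoeff_C]
    simp [c]
  have h2 : IsUnit (b : PowerSeries k × PowerSeries k).2 := by
    rw [isUnit_iff_constantCoeff]
    show IsUnit (constantCoeff (((a : PowerSeries k × PowerSeries k).2 - algebraMap k (PowerSeries k) c) *
      (y : PowerSeries k × PowerSeries k).2 + 1))
    rw [map_add, map_mul, map_sub, PowerSeries.algebraMap_eq, constantCoeff_C, ha2]
    simp
  obtain ⟨u₁, hu₁⟩ := h1
  obtain ⟨u₂, hu₂⟩ := h2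
  have hb := (hO _).mp b.2
  have hinv : ((↑u₁⁻¹, ↑u₂⁻¹) : PowerSeries k × PowerSeries k) ∈ O := by
    rw [hO]
    show X ^ δ ∣ (↑u₁⁻¹ : PowerSeries k) - (↑u₂⁻¹ : PowerSeries k)
    have e : (↑u₁⁻¹ : PowerSeries k) - (↑u₂⁻¹ : PowerSeries k) =
        -((↑u₁⁻¹ : PowerSeries k) * ((u₁ : PowerSeries k) - (u₂ : PowerSeries k)) * (↑u₂⁻¹ : PowerSeries k)) := by
      rw [mul_sub, Units.inv_mul, sub_mul, one_mul, mul_assoc, Units.mul_inv, mul_one]; ring
    rw [e, dvd_neg, hu₁, hu₂]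
    exact (hb.mul_left _).mul_right _
  refine IsUnit.of_mul_eq_one (b := ⟨_, hinv⟩) (Subtype.ext (Prod.ext ?_ ?_))
  · show (b : PowerSeries k × PowerSeries k).1 * ↑u₁⁻¹ = 1
    rw [← hu₁, Units.mul_inv]
  · show (b : PowerSeries k × PowerSeries k).2 * ↑u₂⁻¹ = 1
    rw [← hu₂, Units.mul_inv]

theorem isRegular_Xp (i : ℕ) : IsRegular (Xp k i) := by
  have h : ∀ a b : PowerSeries k × PowerSeries k, Xp k i * a = Xp k i * b → a = b := fun a b h => by
    obtain ⟨h1, h2⟩ := Prod.ext_iff.mp h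
    exact Prod.ext (mul_left_cancel₀ (pow_ne_zero i X_ne_zero) h1) (mul_left_cancel₀ (pow_ne_zero i X_ne_zero) h2)
  exact ⟨fun a b hab => h a b hab, fun a b hab => h a b (by rwa [mul_comm _ a, mul_comm _ b])⟩

theorem mem_span_iff (hO : ∀ f, f ∈ O ↔ X ^ δ ∣ f.1 - f.2) {j : ℕ} (hj : j ≤ δ)
    (f : PowerSeries k × PowerSeries k) :
    f ∈ Submodule.span ↥O ({Xp k j, ((X : PowerSeries k) ^ δ, 0)} : Set (PowerSeries k × PowerSeries k)) ↔
      X ^ j ∣ f.1 ∧ X ^ δ ∣ f.1 - f.2 := by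
  constructor
  · intro hf
    induction hf using Submodule.span_induction with
    | mem g hg =>
      rcases hg with rfl | rfl
      · exact ⟨dvd_rfl, by simp⟩
      · exact ⟨pow_dvd_pow X hj, by simp⟩
    | zero => simp
    | add x y _ _ hx hy =>
      exact ⟨dvd_add hx.1 hy.1, by
        rw [show (x + y).1 - (x + y).2 = (x.1 - x.2) + (y.1 - y.2) by simp; ring]
        exact dvd_add hx.2 hy.2⟩
    | smul a x _ hx =>
      refine ⟨hx.1.mul_left _, ?_⟩
      show X ^ δ ∣ (a : PowerSeries k × PowerSeries k).1 * x.1 - (a : PowerSeries k × PowerSeries k).2 * x.2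
      rw [show (a : PowerSeries k × PowerSeries k).1 * x.1 - (a : PowerSeries k × PowerSeries k).2 * x.2 =
        ((a : PowerSeries k × PowerSeries k).1 - (a : PowerSeries k × PowerSeries k).2) * x.1 +
          (a : PowerSeries k × PowerSeries k).2 * (x.1 - x.2) by ring]
      exact dvd_add (((hO _).mp a.2).mul_right _) (hx.2.mul_left _)
  · rintro ⟨⟨z, hz⟩, ⟨w, hw⟩⟩
    have hz2 : X ^ j ∣ f.2 := by
      rw [show f.2 = f.1 - (f.1 - f.2) by ring, hw]
      exact dvd_sub ⟨z, hz⟩ ((pow_dvd_pow X hj).mul_right w)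
    obtain ⟨z', hz'⟩ := hz2
    refine Submodule.mem_span_pair.mpr ⟨⟨(z', z'), (hO _).mpr (by simp)⟩, ⟨(w, w), (hO _).mpr (by simp)⟩, ?_⟩
    apply Prod.ext
    · show z' * X ^ j + w * X ^ δ = f.1
      rw [mul_comm z', ← hz', mul_comm w, ← hw]; ring
    · show z' * X ^ j + w * 0 = f.2
      rw [mul_comm z', ← hz', mul_zero, add_zero]

noncomputable def gv (k : Type u) [Field k] (δ i : ℕ) : Fin 1 → PowerSeries k × PowerSeries k :=
  fun _ => ((X : PowerSeries k) ^ (δ - i), 0)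

theorem mem_condC (hO : ∀ f, f ∈ O ↔ X ^ δ ∣ f.1 - f.2) {i j : ℕ} (hi : i ≤ δ) (hj : j ≤ δ)
    (N : Submodule ↥O (PowerSeries k × PowerSeries k)) (hN : ∀ f, f ∈ N ↔ X ^ j ∣ f.1 ∧ X ^ δ ∣ f.1 - f.2)
    (h : Fin 1 → PowerSeries k × PowerSeries k) :
    h ∈ Groth.Agent.TFSemigroup.Monomial.condC (gv k δ i) (Xp k δ) N ↔
      X ^ (δ + (j - i)) ∣ (h 0).1 ∧ X ^ δ ∣ (h 0).2 ∧ X ^ (δ + (δ - i)) ∣ (h 0).1 - (h 0).2 := by
  constructor
  · intro hh
    have key : ∀ a : ↥O, X ^ i ∣ (a : PowerSeries k × PowerSeries k).1 →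
        ∃ y ∈ N, (a : PowerSeries k × PowerSeries k) * h 0 = Xp k δ * y := by
      intro a ha
      obtain ⟨y, hy, e⟩ := hh (fun _ => a) (by
        show ∑ l : Fin 1, (a : PowerSeries k × PowerSeries k) * gv k δ i l ∈ O
        rw [Fin.sum_univ_one, hO]
        obtain ⟨w, hw⟩ := ha
        refine ⟨w, ?_⟩
        show (a : PowerSeries k × PowerSeries k).1 * X ^ (δ - i) - (a : PowerSeries k × PowerSeries k).2 * 0 = _
        rw [hw, mul_zero, sub_zero, mul_right_comm, ← pow_add, Nat.add_sub_cancel' hi])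
      rw [Fin.sum_univ_one] at e
      exact ⟨y, hy, e⟩
    obtain ⟨y, hy, e⟩ := key ⟨Xp k i, (hO _).mpr (by simp)⟩ dvd_rfl
    obtain ⟨y', hy', e'⟩ := key ⟨(X ^ δ, 0), (hO _).mpr (by simp)⟩ (pow_dvd_pow X hi)
    obtain ⟨y'', hy'', e''⟩ := key ⟨(0, X ^ δ), (hO _).mpr (by simp)⟩ (dvd_zero _)
    obtain ⟨e1, e2⟩ := Prod.ext_iff.mp e
    obtain ⟨e1', e2'⟩ := Prod.ext_iff.mp e'
    obtain ⟨e1'', e2''⟩ := Prod.ext_iff.mp e''
    change X ^ i * (h 0).1 = X ^ δ * y.1 at e1
    change X ^ i * (h 0).2 = X ^ δ * y.2 at e2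
    change X ^ δ * (h 0).1 = X ^ δ * y'.1 at e1'
    change 0 * (h 0).2 = X ^ δ * y'.2 at e2'
    change X ^ δ * (h 0).2 = X ^ δ * y''.2 at e2''
    change 0 * (h 0).1 = X ^ δ * y''.1 at e1''
    have hne : (X : PowerSeries k) ^ δ ≠ 0 := pow_ne_zero _ X_ne_zero
    rw [zero_mul, eq_comm, mul_eq_zero, or_iff_right hne] at e2' e1''
    have d1 : X ^ δ ∣ (h 0).1 := by
      have := ((hN _).mp hy').2
      rwa [e2', sub_zero, ← mul_left_cancel₀ hne e1'] at this
    have d2 : X ^ δ ∣ (h 0).2 := by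
      have := ((hN _).mp hy'').2
      rwa [e1'', zero_sub, dvd_neg, ← mul_left_cancel₀ hne e2''] at this
    have hcancel : ∀ (a : ℕ) (u : PowerSeries k), X ^ (δ + a) ∣ X ^ i * u → i ≤ δ + a → X ^ (δ + a - i) ∣ u := by
      intro a u hu hle
      refine (mul_dvd_mul_iff_left (pow_ne_zero i (X_ne_zero (R := k)))).mp ?_
      rwa [← pow_add, Nat.add_sub_cancel' hle]
    refine ⟨?_, d2, ?_⟩
    · by_cases hij : i ≤ j
      · have := hcancel j (h 0).1 (by rw [e1, pow_add]; exact mul_dvd_mul_left _ ((hN _).mp hy).1) (by omega)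
        rwa [show δ + j - i = δ + (j - i) by omega] at this
      · rwa [show δ + (j - i) = δ by omega]
    · have := hcancel δ ((h 0).1 - (h 0).2)
        (by rw [mul_sub, e1, e2, ← mul_sub, pow_add]; exact mul_dvd_mul_left _ ((hN _).mp hy).2) (by omega)
      rwa [show δ + δ - i = δ + (δ - i) by omega] at this
  · rintro ⟨⟨z₁, h1⟩, ⟨z₂, h2⟩, hd⟩ a ha
    have hm : X ^ δ ∣ (a 0 : PowerSeries k × PowerSeries k).1 * X ^ (δ - i) := by
      have h' : ∑ l : Fin 1, (a l : PowerSeries k × PowerSeries k) * gv k δ i l ∈ O := ha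
      rw [Fin.sum_univ_one, hO] at h'
      change X ^ δ ∣ (a 0 : PowerSeries k × PowerSeries k).1 * X ^ (δ - i) -
        (a 0 : PowerSeries k × PowerSeries k).2 * 0 at h'
      rwa [mul_zero, sub_zero] at h'
    have ha1 : X ^ i ∣ (a 0 : PowerSeries k × PowerSeries k).1 := by
      refine (mul_dvd_mul_iff_right (pow_ne_zero (δ - i) (X_ne_zero (R := k)))).mp ?_
      rwa [← pow_add, Nat.add_sub_cancel' hi]
    refine ⟨((a 0 : PowerSeries k × PowerSeries k).1 * (X ^ (j - i) * z₁), (a 0 : PowerSeries k × PowerSeries k).2 * z₂),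
      (hN _).mpr ⟨?_, ?_⟩, ?_⟩
    · obtain ⟨w, hw⟩ := ha1
      show X ^ j ∣ (a 0 : PowerSeries k × PowerSeries k).1 * (X ^ (j - i) * z₁)
      rw [hw, show X ^ i * w * (X ^ (j - i) * z₁) = (X ^ i * X ^ (j - i)) * (w * z₁) by ring, ← pow_add]
      exact (pow_dvd_pow X (by omega)).mul_right _
    · show X ^ δ ∣ (a 0 : PowerSeries k × PowerSeries k).1 * (X ^ (j - i) * z₁) -
        (a 0 : PowerSeries k × PowerSeries k).2 * z₂
      obtain ⟨w, hw⟩ := ha1
      have hd' : X ^ (δ - i) ∣ X ^ (j - i) * z₁ - z₂ := by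
        rw [h1, h2, pow_add X δ (j - i), mul_assoc, ← mul_sub, pow_add] at hd
        exact (mul_dvd_mul_iff_left (pow_ne_zero δ (X_ne_zero (R := k)))).mp hd
      rw [show (a 0 : PowerSeries k × PowerSeries k).1 * (X ^ (j - i) * z₁) -
        (a 0 : PowerSeries k × PowerSeries k).2 * z₂ = (a 0 : PowerSeries k × PowerSeries k).1 * (X ^ (j - i) * z₁ - z₂) +
          ((a 0 : PowerSeries k × PowerSeries k).1 - (a 0 : PowerSeries k × PowerSeries k).2) * z₂ by ring]
      refine dvd_add ?_ (((hO _).mp (a 0).2).mul_right _)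
      have := mul_dvd_mul (show X ^ i ∣ (a 0 : PowerSeries k × PowerSeries k).1 from ⟨w, hw⟩) hd'
      rwa [← pow_add, Nat.add_sub_cancel' hi] at this
    · rw [Fin.sum_univ_one]
      apply Prod.ext
      · show (a 0 : PowerSeries k × PowerSeries k).1 * (h 0).1 = X ^ δ * ((a 0 : PowerSeries k × PowerSeries k).1 * (X ^ (j - i) * z₁))
        rw [h1, pow_add]; ring
      · show (a 0 : PowerSeries k × PowerSeries k).2 * (h 0).2 = X ^ δ * ((a 0 : PowerSeries k × PowerSeries k).2 * z₂)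
        rw [h2]; ring

theorem length_main (hδ : 1 ≤ δ) (hO : ∀ f, f ∈ O ↔ X ^ δ ∣ f.1 - f.2) {i j : ℕ} (hi : i ≤ δ) (hj : j ≤ δ)
    (N : Submodule ↥O (PowerSeries k × PowerSeries k)) (hN : ∀ f, f ∈ N ↔ X ^ j ∣ f.1 ∧ X ^ δ ∣ f.1 - f.2) :
    Module.length ↥O (Abelian.Ext (ModuleCat.of ↥O ↥(Submodule.span ↥O
      (Set.range (Fin.cases 1 (gv k δ i) : Fin (1 + 1) → PowerSeries k × PowerSeries k)))) (ModuleCat.of ↥O ↥N) 1) =
      ((2 * min i j : ℕ) : ℕ∞) := by
  classical
  let M := min i j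
  let T := (Fin M → k) × (Fin M → k)
  let Φ : (Fin 1 → PowerSeries k × PowerSeries k) →ₗ[k] T :=
    (LinearMap.prod
      (LinearMap.pi fun p : Fin M => (coeff (δ + (j - M) + (p : ℕ))).comp (LinearMap.fst k _ _))
      (LinearMap.pi fun p : Fin M => (coeff (δ + (δ - i) + (p : ℕ))).comp (LinearMap.fst k _ _ - LinearMap.snd k _ _))).comp
      (LinearMap.proj 0)
  rw [Groth.Agent.TFSemigroup.Monomial.length_ext (hloc hδ hO) (gv k δ i) (Xp k δ) (isRegular_Xp δ)
    ((hO _).mpr (by simp)) (fun _ => (hO _).mpr (by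
      show X ^ δ ∣ X ^ δ * X ^ (δ - i) - X ^ δ * 0
      simp)) N T Φ ?_ ?_]
  · simp [T, M, Module.finrank_prod, two_mul]
  · rintro ⟨s, t⟩
    let s' : PowerSeries k := mk fun q => if hq : j - M ≤ q ∧ q < j then s ⟨q - (j - M), by omega⟩ else 0
    let t' : PowerSeries k := mk fun q => if hq : δ - i ≤ q ∧ q < δ - i + M then t ⟨q - (δ - i), by omega⟩ else 0
    have hs' : X ^ (j - M) ∣ s' := X_pow_dvd_iff.mpr fun q hq => by rw [coeff_mk, dif_neg (by omega)]
    have ht' : X ^ (δ - i) ∣ t' := X_pow_dvd_iff.mpr fun q hq => by rw [coeff_mk, dif_neg (by omega)]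
    refine ⟨fun _ => (X ^ δ * s', X ^ δ * (s' - t')), (mem_condC hO hi hj N hN _).mpr ⟨?_, dvd_mul_right _ _, ?_⟩, ?_⟩
    · show X ^ (δ + (j - i)) ∣ X ^ δ * s'
      rw [pow_add, show j - i = j - M by omega]
      exact mul_dvd_mul_left _ hs'
    · show X ^ (δ + (δ - i)) ∣ X ^ δ * s' - X ^ δ * (s' - t')
      rw [← mul_sub, sub_sub_cancel, pow_add]
      exact mul_dvd_mul_left _ ht'
    · refine Prod.ext (funext fun p => ?_) (funext fun p => ?_)
      · show coeff (δ + (j - M) + (p : ℕ)) (X ^ δ * s') = s p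
        rw [show δ + (j - M) + (p : ℕ) = (j - M + p) + δ by omega, coeff_X_pow_mul, coeff_mk, dif_pos (by omega)]
        congr 1; ext; simp
      · show coeff (δ + (δ - i) + (p : ℕ)) (X ^ δ * s' - X ^ δ * (s' - t')) = t p
        rw [← mul_sub, sub_sub_cancel, show δ + (δ - i) + (p : ℕ) = (δ - i + p) + δ by omega, coeff_X_pow_mul,
          coeff_mk, dif_pos (by omega)]
        congr 1; ext; simp
  · intro h hh
    rw [mem_condC hO hi hj N hN] at hh
    obtain ⟨c1, ⟨z₂, c2⟩, c3⟩ := hh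
    obtain ⟨z₁, hz₁⟩ : X ^ δ ∣ (h 0).1 := (pow_dvd_pow X (Nat.le_add_right δ _)).trans c1
    rw [hz₁, c2, ← mul_sub, pow_add, mul_dvd_mul_iff_left (pow_ne_zero δ (X_ne_zero (R := k)))] at c3
    rw [hz₁, pow_add, mul_dvd_mul_iff_left (pow_ne_zero δ (X_ne_zero (R := k)))] at c1
    have hΦ : Φ h = 0 ↔ (X ^ j ∣ z₁ ∧ X ^ (δ - i + M) ∣ z₁ - z₂) := by
      constructor
      · intro e
        obtain ⟨e1, e2⟩ := Prod.ext_iff.mp e
        constructor
        · refine X_pow_dvd_iff.mpr fun q hq => ?_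
          by_cases hq' : q < j - i
          · exact X_pow_dvd_iff.mp c1 q hq'
          · have := congrFun e1 ⟨q - (j - M), by omega⟩
            change coeff (δ + (j - M) + (q - (j - M))) (h 0).1 = 0 at this
            rwa [hz₁, show δ + (j - M) + (q - (j - M)) = q + δ by omega, coeff_X_pow_mul] at this
        · refine X_pow_dvd_iff.mpr fun q hq => ?_
          by_cases hq' : q < δ - i
          · exact X_pow_dvd_iff.mp c3 q hq'
          · have := congrFun e2 ⟨q - (δ - i), by omega⟩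
            change coeff (δ + (δ - i) + (q - (δ - i))) ((h 0).1 - (h 0).2) = 0 at this
            rwa [hz₁, c2, ← mul_sub, show δ + (δ - i) + (q - (δ - i)) = q + δ by omega, coeff_X_pow_mul] at this
      · rintro ⟨e1, e2⟩
        refine Prod.ext (funext fun p => ?_) (funext fun p => ?_)
        · show coeff (δ + (j - M) + (p : ℕ)) (h 0).1 = 0
          rw [hz₁, show δ + (j - M) + (p : ℕ) = (j - M + p) + δ by omega, coeff_X_pow_mul]
          exact X_pow_dvd_iff.mp e1 _ (by omega)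
        · show coeff (δ + (δ - i) + (p : ℕ)) ((h 0).1 - (h 0).2) = 0
          rw [hz₁, c2, ← mul_sub, show δ + (δ - i) + (p : ℕ) = (δ - i + p) + δ by omega, coeff_X_pow_mul]
          exact X_pow_dvd_iff.mp e2 _ (by omega)
    rw [hΦ]
    constructor
    · rintro ⟨e1, w, e2⟩
      by_cases hij : i ≤ j
      · refine ⟨Fin.cases 0 fun _ => (z₁, z₂), ?_, fun l => ?_⟩
        · refine Fin.cases N.zero_mem fun _ => (hN _).mpr ⟨e1, ?_⟩
          show X ^ δ ∣ z₁ - z₂
          rw [e2, show δ - i + M = δ by omega]; exact dvd_mul_right _ _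
        · obtain rfl : l = 0 := Subsingleton.elim _ _
          show h 0 = Xp k δ * ((z₁, z₂) - gv k δ i 0 * 0)
          rw [mul_zero, sub_zero]
          exact Prod.ext hz₁ c2
      · have hj2 : X ^ j ∣ z₂ := by
          rw [show z₂ = z₁ - (z₁ - z₂) by ring, e2]
          exact dvd_sub e1 ((pow_dvd_pow X (by omega)).mul_right w)
        refine ⟨Fin.cases (-(X ^ j * w), -(X ^ j * w)) fun _ => (z₂, z₂), ?_, fun l => ?_⟩
        · exact Fin.cases ((hN _).mpr ⟨dvd_neg.mpr (dvd_mul_right _ _),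
            (sub_self (-(X ^ j * w))).symm ▸ dvd_zero _⟩)
            fun _ => (hN _).mpr ⟨hj2, (sub_self z₂).symm ▸ dvd_zero _⟩
        · obtain rfl : l = 0 := Subsingleton.elim _ _
          show h 0 = Xp k δ * ((z₂, z₂) - gv k δ i 0 * (-(X ^ j * w), -(X ^ j * w)))
          apply Prod.ext
          · show (h 0).1 = X ^ δ * (z₂ - X ^ (δ - i) * -(X ^ j * w))
            rw [hz₁, eq_add_of_sub_eq e2, show δ - i + M = (δ - i) + j by omega, pow_add]; ring
          · show (h 0).2 = X ^ δ * (z₂ - 0 * -(X ^ j * w))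
            rw [c2]; ring
    · rintro ⟨v, hv, hv'⟩
      obtain ⟨f1, f2⟩ := Prod.ext_iff.mp (hv' 0)
      change (h 0).1 = X ^ δ * ((v (Fin.succ 0)).1 - X ^ (δ - i) * (v 0).1) at f1
      change (h 0).2 = X ^ δ * ((v (Fin.succ 0)).2 - 0 * (v 0).2) at f2
      rw [hz₁] at f1
      rw [c2, zero_mul, sub_zero] at f2
      have g1 := mul_left_cancel₀ (pow_ne_zero δ (X_ne_zero (R := k))) f1
      have g2 := mul_left_cancel₀ (pow_ne_zero δ (X_ne_zero (R := k))) f2
      obtain ⟨a1, a2⟩ := (hN _).mp (hv (Fin.succ 0))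
      have b1 := ((hN _).mp (hv 0)).1
      refine ⟨?_, ?_⟩
      · rw [g1]
        exact dvd_sub a1 (b1.mul_left _)
      · rw [g1, g2, sub_right_comm]
        refine dvd_sub ((pow_dvd_pow X (by omega)).trans a2) ?_
        exact (pow_dvd_pow X (by omega)).trans (pow_add (X : PowerSeries k) (δ - i) j ▸ mul_dvd_mul_left _ b1)

/-- Let k be an algebraically closed field of characteristic zero, δ ≥ 1, and O ⊂ k[[t]] × k[[t]] the
complete local ring of the simple plane curve singularity A_{2δ−1} (two smooth branches with contact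
of order δ, y² = x^{2δ}), namely the k-subalgebra of all pairs (f, g) of power series with f − g
divisible by t^δ. For 0 ≤ j ≤ δ let I_j ⊂ k[[t]] × k[[t]] be the O-submodule generated by (t^j, t^j)
and (t^δ, 0), so that I_0 = O and I_δ is the conductor; the I_j represent the rank-one torsion-free
O-modules M_j. Then for all 0 ≤ i, j ≤ δ the O-module Ext¹_O(I_i, I_j) has length 2·min(i, j)
(length over O equals k-dimension here). (The one-branch case n = 2δ of the published lemma is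
stated separately.) -/
theorem result (k : Type u) [Field k] [IsAlgClosed k] [CharZero k] (δ : ℕ) (hδ : 1 ≤ δ) (O : Subalgebra k (PowerSeries k × PowerSeries k)) (hO : ∀ f : (PowerSeries k × PowerSeries k), f ∈ O ↔ (δ : ℕ∞) ≤ PowerSeries.order (f.1 - f.2)) (i j : ℕ) (hi : i ≤ δ) (hj : j ≤ δ) : Module.length ↥O (Abelian.Ext (ModuleCat.of ↥O ↥(Submodule.span ↥O ({((PowerSeries.X : PowerSeries k) ^ i, (PowerSeries.X : PowerSeries k) ^ i), ((PowerSeries.X : PowerSeries k) ^ δ, 0)} : Set (PowerSeries k × PowerSeries k)))) (ModuleCat.of ↥O ↥(Submodule.span ↥O ({((PowerSeries.X : PowerSeries k) ^ j, (PowerSeries.X : PowerSeries k) ^ j), ((PowerSeries.X : PowerSeries k) ^ δ, 0)} : Set (PowerSeries k × PowerSeries k)))) 1) = ((2 * min i j : ℕ) : ℕ∞) := by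
  classical
  have hO' := mem_O hO
  let m : (PowerSeries k × PowerSeries k) →ₗ[↥O] (PowerSeries k × PowerSeries k) :=
    (LinearMap.mulLeft (PowerSeries k × PowerSeries k) (Xp k i)).restrictScalars ↥O
  have hm : Function.Injective m := fun a b h => (isRegular_Xp i).left h
  let L := Submodule.span ↥O (Set.range (Fin.cases 1 (gv k δ i) : Fin (1 + 1) → PowerSeries k × PowerSeries k))
  have hmap : L.map m = Submodule.span ↥O ({((PowerSeries.X : PowerSeries k) ^ i, (PowerSeries.X : PowerSeries k) ^ i),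
      ((PowerSeries.X : PowerSeries k) ^ δ, 0)} : Set (PowerSeries k × PowerSeries k)) := by
    rw [Submodule.map_span, ← Set.range_comp]
    congr 1
    ext y
    have e1 : m 1 = ((PowerSeries.X : PowerSeries k) ^ i, (PowerSeries.X : PowerSeries k) ^ i) := mul_one _
    have e2 : m (gv k δ i 0) = ((PowerSeries.X : PowerSeries k) ^ δ, 0) := by
      show Xp k i * (PowerSeries.X ^ (δ - i), 0) = _
      rw [Prod.mk_mul_mk, ← pow_add, Nat.add_sub_cancel' hi, mul_zero]
    simp [Fin.exists_fin_succ, e1, e2, eq_comm]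
  rw [Groth.Agent.TFSemigroup.Cubical.length_ext_congr (B := ↥O) (M' := ↥L)
    (N := ↥(Submodule.span ↥O ({((PowerSeries.X : PowerSeries k) ^ j, (PowerSeries.X : PowerSeries k) ^ j),
      ((PowerSeries.X : PowerSeries k) ^ δ, 0)} : Set (PowerSeries k × PowerSeries k))))
    (M := ↥(Submodule.span ↥O ({((PowerSeries.X : PowerSeries k) ^ i, (PowerSeries.X : PowerSeries k) ^ i),
      ((PowerSeries.X : PowerSeries k) ^ δ, 0)} : Set (PowerSeries k × PowerSeries k))))
    (N' := ↥(Submodule.span ↥O ({((PowerSeries.X : PowerSeries k) ^ j, (PowerSeries.X : PowerSeries k) ^ j),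
      ((PowerSeries.X : PowerSeries k) ^ δ, 0)} : Set (PowerSeries k × PowerSeries k))))
    ((LinearEquiv.ofEq _ _ hmap.symm).trans (Submodule.equivMapOfInjective m hm L).symm) (LinearEquiv.refl _ _)]
  exact length_main hδ hO' hi hj _ (mem_span_iff hO' hj)

end Groth.Agent.S19532
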