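import Groth.Statements.S19533
import Groth.Agent.AbVarLib.Pointed
import Groth.Agent.GrpScheme.HomFlat
import Groth.Agent.RedSub.Basic
import Groth.Agent.FBase.BC
import Groth.Agent.AbVarLib.Basics

set_option autoImplicit false
universe u
open CategoryTheory CategoryTheory.Limits MonoidalCategory CartesianMonoidalCategory MonObj GrpObj AlgebraicGeometry
open AbVar

namespace Groth.Agent.S19533

variable {k : Type u} [Field k] [IsAlgClosed k]

theorem kpt_ext {A : Over (Spec (CommRingCat.of k))} [LocallyOfFiniteType A.hom]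
    {z z' : 𝟙_ (Over (Spec (CommRingCat.of k))) ⟶ A}
    (h : z.left (IsLocalRing.closedPoint k) = z'.left (IsLocalRing.closedPoint k)) : z = z' :=
  Over.OverMorphism.ext (ext_of_apply_closedPoint_eq A.hom (Over.w z) (Over.w z') h)

theorem isClosed_pt {A : Over (Spec (CommRingCat.of k))} [IsSeparated A.hom]
    (z : 𝟙_ (Over (Spec (CommRingCat.of k))) ⟶ A) :
    IsClosed {z.left (IsLocalRing.closedPoint k)} := by
  have hw : z.left ≫ A.hom = 𝟙 (Spec (CommRingCat.of k)) := Over.w z
  have : IsIso (z.left ≫ A.hom) := by rw [hw]; exact inferInstanceAs (IsIso (𝟙 (Spec (CommRingCat.of k))))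
  have := IsClosedImmersion.of_comp z.left A.hom
  have h := z.left.isClosedEmbedding.isClosed_range
  rwa [Set.range_eq_singleton
    (fun t : ↥(Spec (CommRingCat.of k)) => congrArg z.left (Subsingleton.elim t _))] at h

theorem exists_kpt {A : Over (Spec (CommRingCat.of k))} [LocallyOfFiniteType A.hom] {p : A.left}
    (hp : IsClosed {p}) : ∃ z : 𝟙_ (Over (Spec (CommRingCat.of k))) ⟶ A,
      z.left (IsLocalRing.closedPoint k) = p :=
  ⟨Over.homMk _ ((pointEquivClosedPoint A.hom).symm ⟨p, hp⟩).2, pointOfClosedPoint_apply A.hom p hp _⟩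

/-- Rigidity: translates of `f` by rational points in one irreducible closed subset of a fibre agree. -/
theorem key {A B : Over (Spec (CommRingCat.of k))} [GrpObj A] [IsProper A.hom] [IsIntegral A.left]
    [IsSeparated B.hom] (f : A ⟶ B) (Z : TopologicalSpace.Closeds A.left)
    (hZi : IsIrreducible (Z : Set A.left))
    (hZ : ∀ p ∈ Z, f.left p = (η[A] ≫ f).left (IsLocalRing.closedPoint k))
    (z₁ z₂ a : 𝟙_ (Over (Spec (CommRingCat.of k))) ⟶ A)
    (h₁ : z₁.left (IsLocalRing.closedPoint k) ∈ Z) (h₂ : z₂.left (IsLocalRing.closedPoint k) ∈ Z) :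
    (a * z₁) ≫ f = (a * z₂) ≫ f := by
  let V := GrpScheme.Component.redSub A Z
  let i : V ⟶ A := Over.homMk (Scheme.IdealSheafData.vanishingIdeal Z).subschemeι rfl
  have hri : Set.range i.left = Z := RedSub.range_vanishingIdeal_subschemeι Z
  have hred : IsReduced V.left := RedSub.isReduced_vanishingIdeal Z
  have hirr : IrreducibleSpace V.left := by
    have hh : IsIrreducible (Set.range i.left) := hri ▸ hZi
    let e := (Scheme.IdealSheafData.vanishingIdeal Z).subschemeι.isClosedEmbedding.isEmbedding.toHomeomorph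
    have : IrreducibleSpace ↥(Set.range i.left) := Subtype.irreducibleSpace hh
    exact e.irreducibleSpace_iff.mpr this
  have : IsProper V.hom := inferInstanceAs
    (IsProper ((Scheme.IdealSheafData.vanishingIdeal Z).subschemeι ≫ A.hom))
  have : GeometricallyReduced V.hom := FBase.BC.geometricallyReduced_of_isReduced_of_perfectField V.hom
  have : GeometricallyIrreducible V.hom := FBase.BC.geometricallyIrreducible_of_isSepClosed V.hom
  have : GeometricallyIntegral V.hom :=
    GeometricallyIntegral.of_geometricallyReduced_of_geometricallyIrreducible _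
  let t : 𝟙_ (Over (Spec (CommRingCat.of k))) ⟶ B := η[A] ≫ f
  let F : V ⊗ A ⟶ B := (snd V A * (fst V A ≫ i)) ≫ f
  have hpair : ∀ (z : 𝟙_ (Over (Spec (CommRingCat.of k))) ⟶ A) (v : 𝟙_ (Over (Spec (CommRingCat.of k))) ⟶ V)
      (_ : v ≫ i = z), lift v a ≫ F = (a * z) ≫ f := by
    intro z v hv
    simp only [F, ← Category.assoc, MonObj.comp_mul, lift_fst, lift_snd, hv]
  obtain ⟨g, -, hg⟩ := (AbVarLib.Rigidity.exists_eq_snd_comp V.hom A.hom B.hom F.left
    ((Over.w F).trans pullback.condition) (η[A].left (IsLocalRing.closedPoint k))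
    (t.left (IsLocalRing.closedPoint k)) (fun w hw => by
      obtain ⟨v, rfl⟩ : w ∈ Set.range (V ◁ η[A]).left := by
        rw [Over.whiskerLeft_left, Scheme.Pullback.range_map]
        exact ⟨by simp, IsLocalRing.closedPoint k, hw.symm⟩
      have e : (V ◁ η[A]) ≫ F = fst V (𝟙_ _) ≫ i ≫ f := by
        simp only [F, ← Category.assoc, MonObj.comp_mul, whiskerLeft_snd, whiskerLeft_fst]
        rw [show snd V (𝟙_ _) ≫ η[A] = 1 from by rw [toUnit_unique (snd V _) (toUnit _)]; rfl,
          _root_.one_mul]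
      calc F.left ((V ◁ η[A]).left v) = ((V ◁ η[A]) ≫ F).left v := rfl
        _ = f.left (i.left ((fst V (𝟙_ _)).left v)) := by rw [e]; rfl
        _ = _ := hZ _ (by
          have : i.left ((fst V (𝟙_ _)).left v) ∈ Set.range i.left := ⟨_, rfl⟩
          rwa [hri] at this))).exists
  have hlift : ∀ (z : 𝟙_ (Over (Spec (CommRingCat.of k))) ⟶ A),
      z.left (IsLocalRing.closedPoint k) ∈ Z → ((a * z) ≫ f).left = a.left ≫ g := by
    intro z hz
    obtain ⟨q, hq⟩ := (hri ▸ hz : z.left (IsLocalRing.closedPoint k) ∈ Set.range i.left)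
    have hqc : IsClosed {q} := by
      have := (isClosed_pt z).preimage i.left.continuous
      rwa [← hq, show i.left ⁻¹' {i.left q} = {q} from Set.ext fun r => by
        refine ⟨fun h => ?_, fun h => ?_⟩
        · exact (Scheme.IdealSheafData.vanishingIdeal Z).subschemeι.isClosedEmbedding.injective h
        · exact congrArg i.left h] at this
    obtain ⟨v, hv⟩ := exists_kpt hqc
    have hvz : v ≫ i = z := kpt_ext (by rw [← hq, ← hv]; rfl)
    rw [← hpair z v hvz, Over.comp_left, hg, ← Category.assoc]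
    congr 1
    exact congrArg CommaMorphism.left (lift_snd v a)
  exact Over.OverMorphism.ext ((hlift z₁ h₁).trans (hlift z₂ h₂).symm)

/-- Let k be an algebraically closed field, A an abelian variety over k (a k-group scheme whose
structure morphism is proper, smooth and geometrically connected) with unit point e, Y a scheme
separated over k and f : A → Y a morphism over k. Write F₀ for the connected component of e in the
fibre f⁻¹(f(e)). Then the k-rational points of F₀ are stable under the group law: if k-points x and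
y of A lie in F₀ then so do the product point x·y and the inverse point x⁻¹. (The published
statement is for Y a k-variety and concludes that F₀ with its reduced structure is an abelian
subvariety, together with the translation formula F_a = a + F₀; this row records the closure of
F₀(k) under multiplication and inversion, for Y merely separated over k.) -/
theorem result (k : Type u) [Field k] [IsAlgClosed k]
    (A : Over (Spec (CommRingCat.of k))) [GrpObj A] [IsProper A.hom] [Smooth A.hom] [GeometricallyConnected A.hom]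
    {Y : Scheme.{u}} (q : Y ⟶ Spec (CommRingCat.of k)) [IsSeparated q] (f : A.left ⟶ Y) (hf : f ≫ q = A.hom)
    (x y : 𝟙_ (Over (Spec (CommRingCat.of k))) ⟶ A)
    (hx : x.left (IsLocalRing.closedPoint k) ∈
      connectedComponentIn (f ⁻¹' {f (η[A].left (IsLocalRing.closedPoint k))}) (η[A].left (IsLocalRing.closedPoint k)))
    (hy : y.left (IsLocalRing.closedPoint k) ∈
      connectedComponentIn (f ⁻¹' {f (η[A].left (IsLocalRing.closedPoint k))}) (η[A].left (IsLocalRing.closedPoint k))) :
    (lift x y ≫ μ[A]).left (IsLocalRing.closedPoint k) ∈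
        connectedComponentIn (f ⁻¹' {f (η[A].left (IsLocalRing.closedPoint k))}) (η[A].left (IsLocalRing.closedPoint k)) ∧
      (x ≫ ι[A]).left (IsLocalRing.closedPoint k) ∈
        connectedComponentIn (f ⁻¹' {f (η[A].left (IsLocalRing.closedPoint k))}) (η[A].left (IsLocalRing.closedPoint k)) := by
  let B : Over (Spec (CommRingCat.of k)) := Over.mk q
  have : IsSeparated B.hom := ‹IsSeparated q›
  let g : A ⟶ B := Over.homMk f hf
  have : IsIntegral A.left := AbVarLib.Basics.isIntegral_left A
  set e := η[A].left (IsLocalRing.closedPoint k) with he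
  set F := f ⁻¹' {f e} with hFdef
  set F₀ := connectedComponentIn F e with hF₀def
  have hFc : IsClosed F := (isClosed_pt (η[A] ≫ g)).preimage f.continuous
  have heF : e ∈ F := rfl
  have he₀ : e ∈ F₀ := mem_connectedComponentIn heF
  have hsub : F₀ ⊆ F := connectedComponentIn_subset _ _
  have hconn : _root_.IsPreconnected F₀ := isPreconnected_connectedComponentIn
  have hF₀c : IsClosed F₀ := closure_subset_iff_isClosed.mp
    (hconn.closure.subset_connectedComponentIn (subset_closure he₀)
      (closure_minimal hsub hFc))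
  have := LocallyOfFiniteType.jacobsonSpace A.hom
  have : IsLocallyNoetherian A.left := LocallyOfFiniteType.isLocallyNoetherian A.hom
  have : CompactSpace A.left := QuasiCompact.compactSpace_of_compactSpace A.hom
  have : IsNoetherian A.left := ⟨⟩
  obtain ⟨S, hSf, hSi, hS⟩ :=
    TopologicalSpace.NoetherianSpace.exists_finite_set_closeds_irreducible ⟨F₀, hF₀c⟩
  have hcov : ∀ p, p ∈ F₀ ↔ ∃ Z ∈ S, p ∈ Z := fun p => by
    have := congrArg (fun C : TopologicalSpace.Closeds A.left => (C : Set A.left)) hS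
    simp only [TopologicalSpace.Closeds.coe_mk] at this
    rw [this, TopologicalSpace.Closeds.coe_sSup, IsClosed.closure_eq]
    · simp
    · rw [Set.sUnion_image]
      exact hSf.isClosed_biUnion fun Z _ => Z.isClosed
  let P : (𝟙_ (Over (Spec (CommRingCat.of k))) ⟶ A) → Prop :=
    fun z => ∀ a : 𝟙_ (Over (Spec (CommRingCat.of k))) ⟶ A, (a * z) ≫ g = a ≫ g
  have hone : P η[A] := fun a => by rw [one_eq_one, _root_.mul_one]
  have hprop : ∀ Z ∈ S, ∀ z z', z.left (IsLocalRing.closedPoint k) ∈ Z →
      z'.left (IsLocalRing.closedPoint k) ∈ Z → P z → P z' := by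
    intro Z hZ z z' hz hz' hPz a
    rw [← key g Z (hSi Z hZ) (fun p hp => hsub ((hcov p).mpr ⟨Z, hZ, hp⟩)) z z' a hz hz']
    exact hPz a
  let T : Set (TopologicalSpace.Closeds A.left) :=
    {Z ∈ S | ∃ z, z.left (IsLocalRing.closedPoint k) ∈ Z ∧ P z}
  have hall : ∀ z, z.left (IsLocalRing.closedPoint k) ∈ F₀ → P z := by
    intro z hz
    by_contra hPz
    have hcl : ∀ U ⊆ S, IsClosed (⋃ Z ∈ U, (Z : Set A.left)) := fun U hU =>
      (hSf.subset hU).isClosed_biUnion fun Z _ => Z.isClosed
    obtain ⟨Z₀, hZ₀, hzZ₀⟩ := (hcov _).mp hz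
    obtain ⟨Z₁, hZ₁, heZ₁⟩ := (hcov _).mp he₀
    have hne := isPreconnected_closed_iff.mp hconn _ _
      (hcl T (Set.sep_subset _ _)) (hcl (S \ T) Set.sdiff_subset)
      (fun p hp => by
        obtain ⟨Z, hZ, hpZ⟩ := (hcov p).mp hp
        by_cases hT : Z ∈ T
        · exact Or.inl (Set.mem_biUnion hT hpZ)
        · exact Or.inr (Set.mem_biUnion ⟨hZ, hT⟩ hpZ))
      ⟨e, he₀, Set.mem_biUnion ⟨hZ₁, η[A], heZ₁, hone⟩ heZ₁⟩
      ⟨_, hz, Set.mem_biUnion ⟨hZ₀, fun ⟨_, w, hw, hPw⟩ => hPz (hprop Z₀ hZ₀ w z hw hzZ₀ hPw)⟩ hzZ₀⟩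
    obtain ⟨p, ⟨-, hpT, hpS⟩, hpc⟩ := nonempty_inter_closedPoints hne
      (hF₀c.inter ((hcl T (Set.sep_subset _ _)).inter (hcl (S \ T) Set.sdiff_subset))).isLocallyClosed
    obtain ⟨u, hu⟩ := exists_kpt hpc
    simp only [Set.mem_iUnion] at hpT hpS
    obtain ⟨Z, ⟨hZ, w, hw, hPw⟩, hpZ⟩ := hpT
    obtain ⟨Z', ⟨hZ', hnT⟩, hpZ'⟩ := hpS
    exact hnT ⟨hZ', u, hu ▸ hpZ', hprop Z hZ w u hw (hu ▸ hpZ) hPw⟩
  -- translations by a point `a` with `f a = f e` send `F₀` into the fibre
  have htr : ∀ a : 𝟙_ (Over (Spec (CommRingCat.of k))) ⟶ A,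
      f (a.left (IsLocalRing.closedPoint k)) = f e →
      (∃ p ∈ F₀, ((toUnit A ≫ a) * 𝟙 A).left p ∈ F₀) →
      ∀ z : 𝟙_ (Over (Spec (CommRingCat.of k))) ⟶ A, z.left (IsLocalRing.closedPoint k) ∈ F₀ →
        (a * z).left (IsLocalRing.closedPoint k) ∈ F₀ := by
    intro a ha hp₀ z hz
    obtain ⟨p₀, hp₀, hp₀'⟩ := hp₀
    set m : A ⟶ A := (toUnit A ≫ a) * 𝟙 A with hm
    have hmz : ∀ z : 𝟙_ (Over (Spec (CommRingCat.of k))) ⟶ A, z ≫ m = a * z := fun z => by
      rw [hm, MonObj.comp_mul, AbVarLib.Pointed.toUnit_self, Category.comp_id]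
    have hmaps : F₀ ⊆ m.left ⁻¹' F := by
      rw [← hF₀c.closure_eq, ← JacobsonSpace.closure_inter_closedPoints_eq_closure hF₀c.isLocallyClosed]
      refine closure_minimal (fun p ⟨hp, hpc⟩ => ?_) (hFc.preimage m.left.continuous)
      obtain ⟨u, hu⟩ := exists_kpt hpc
      have h := congrArg (fun r => r.left (IsLocalRing.closedPoint k)) (hall u (hu ▸ hp) a)
      have e1 : m.left p = (a * u).left (IsLocalRing.closedPoint k) := by rw [← hmz, ← hu]; rfl
      show f (m.left p) = f e
      rw [e1, ← ha]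
      exact h
    have := (hconn.image m.left m.left.continuous.continuousOn).subset_connectedComponentIn
      ⟨p₀, hp₀, rfl⟩ (Set.image_subset_iff.mpr hmaps)
    rw [hF₀def, connectedComponentIn_eq hp₀']
    exact this ⟨_, hz, by rw [← hmz]; rfl⟩
  refine ⟨?_, ?_⟩
  · rw [← Hom.mul_def]
    refine htr x (hsub hx) ⟨e, he₀, ?_⟩ y hy
    have : η[A] ≫ ((toUnit A ≫ x) * 𝟙 A) = x := by
      rw [MonObj.comp_mul, AbVarLib.Pointed.toUnit_self, Category.comp_id, one_eq_one, _root_.mul_one]
    have h : ((toUnit A ≫ x) * 𝟙 A).left e = x.left (IsLocalRing.closedPoint k) :=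
      congrArg (fun r => r.left (IsLocalRing.closedPoint k)) this
    rw [h]
    exact hx
  · rw [← Hom.inv_def]
    have hxinv : f (x⁻¹.left (IsLocalRing.closedPoint k)) = f e := by
      have h := congrArg (fun r => r.left (IsLocalRing.closedPoint k)) (hall x hx x⁻¹)
      simp only [inv_mul_cancel] at h
      rw [← one_eq_one] at h
      exact h.symm
    have h := htr x⁻¹ hxinv ⟨x.left (IsLocalRing.closedPoint k), hx, ?_⟩ η[A] he₀
    · rwa [one_eq_one, _root_.mul_one] at h
    · have : x ≫ ((toUnit A ≫ x⁻¹) * 𝟙 A) = η[A] := by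
        rw [MonObj.comp_mul, AbVarLib.Pointed.toUnit_self, Category.comp_id, inv_mul_cancel, one_eq_one]
      have h : ((toUnit A ≫ x⁻¹) * 𝟙 A).left (x.left (IsLocalRing.closedPoint k)) = e :=
        congrArg (fun r => r.left (IsLocalRing.closedPoint k)) this
      rw [h]
      exact he₀

end Groth.Agent.S19533
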