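import Groth.Statements.S19535
import Groth.Agent.VBLib.Basic
import Groth.Agent.FFCurve.Canonical
import Groth.Agent.PicCl.Basic
import Groth.Agent.VBLib.Deg
import Groth.Agent.VarDim.Curve
import Groth.Agent.EpiLocus.Basic
import Groth.Agent.CurveCoh.Integral

set_option autoImplicit false
universe u
open CategoryTheory CategoryTheory.Limits AlgebraicGeometry TopologicalSpace
open Curves

set_option linter.style.haveILetI false
namespace Groth.Agent.S19535

open Groth.Agent.VBLib Groth.Agent.PullStalk.Exact in
/-- Invertibility at the generic point of the differentials of a smooth curve. -/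
lemma finrank_generic (k : Type u) [Field k] {X : Scheme.{u}} [X.Over (Spec (CommRingCat.of k))] [IsIntegral X]
    [Smooth (X ↘ Spec (CommRingCat.of k))] (hd : topologicalKrullDim X = 1) {Ω : X.Modules}
    {d : OmegaSh.Der (X ↘ Spec (CommRingCat.of k)) Ω} (hu : OmegaSh.IsUniversal d) : VBLib.rk Ω = 1 := by
  obtain ⟨E⟩ := FFCurve.exists_generic_equiv k hu
  obtain ⟨h1, h2⟩ := FFCurve.formallySmooth_functionField (X := X) k
  letI := Curv2.resAlgebra k X (genericPoint X)
  let e : X.functionField ≃ₐ[k] X.residueField (genericPoint X) :=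
    AlgEquiv.ofBijective (AlgHom.mk (X.residue (genericPoint X)).hom fun c => rfl)
      ⟨RingHom.injective _, Ideal.Quotient.mk_surjective⟩
  have ht : Algebra.trdeg k X.functionField = (1 : ℕ) := by
    rw [e.trdeg_eq]
    have := VarDim.dimPt_genericPoint_of_curve k hd
    rw [VarDim.dimPt, Cardinal.toNat_eq_iff (by norm_num)] at this
    exact this
  exact E.finrank_eq.trans (Omega.RankDim.finrank_kaehler_eq_trdeg (k := k) X.functionField 1 ht)

open Groth.Agent.VBLib Groth.Agent.PullStalk.Exact in
/-- A map between line bundles on a curve vanishes or is a generic isomorphism. -/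
lemma eq_zero_or_mono {X : Scheme.{u}} [IsIntegral X] [IsLocallyNoetherian X]
    (hP : ∀ x : X, IsPrincipalIdealRing (X.presheaf.stalk x)) {M N : X.Modules} (hM : FlatMod.IsFinLocFree M)
    (hN : FlatMod.IsFinLocFree N) (hMr : VBLib.rk M = 1) (hNr : VBLib.rk N = 1) (c : M ⟶ N) :
    c = 0 ∨ (Mono c ∧ ∃ U : X.Opens, (U : Set X).Nonempty ∧ IsZero ((Scheme.Modules.pullback U.ι).obj (cokernel c))) := by
  let η := genericPoint X
  letI : Field (X.presheaf.stalk η) := inferInstanceAs (Field X.functionField)
  have hMc := isCoh_of_isFinLocFree hM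
  have hNc := isCoh_of_isFinLocFree hN
  haveI := finite_stalk hMc η
  haveI := finite_stalk hNc η
  have hK := VBLib.isFinLocFree_kernel hP c hM hNc
  rcases Nat.eq_zero_or_pos (VBLib.rk (kernel c)) with h0 | h0
  · right
    haveI : Mono c := Preadditive.mono_of_kernel_zero
      ((VBLib.isZero_of_rk_eq_zero hK h0).eq_of_src _ _)
    refine ⟨inferInstance, ?_⟩
    have hs : Function.Surjective (stalkLin c η) := (LinearMap.injective_iff_surjective_of_finrank_eq_finrank
      (hMr.trans hNr.symm)).mp (VBLib.stalkLin_injective c η)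
    have hS : (ShortComplex.mk c (cokernel.π c) (cokernel.condition c)).ShortExact :=
      { exact := ShortComplex.exact_of_g_is_cokernel _ (cokernelIsCokernel c) }
    obtain ⟨-, he, hq⟩ := stalk_exact hS η
    have hCc := VBLib.isCoh_cokernel c hMc hNc
    haveI := hCc.1
    haveI : Subsingleton ((cokernel c).presheaf.stalk η) := ⟨fun a b => by
      obtain ⟨a, rfl⟩ := hq a
      obtain ⟨b, rfl⟩ := hq b
      obtain ⟨a, rfl⟩ := hs a
      obtain ⟨b, rfl⟩ := hs b
      exact ((he _).mpr ⟨a, rfl⟩).trans ((he _).mpr ⟨b, rfl⟩).symm⟩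
    refine ⟨⟨_, (CycLib.isClosed_support (cokernel c) hCc).isOpen_compl⟩,
      ⟨η, fun (hn : Nontrivial _) => not_nontrivial _ hn⟩, ?_⟩
    refine (WeakAssSch.isZero_iff_forall_stalk _).2 fun t => ?_
    let W : X.Opens := ⟨_, (CycLib.isClosed_support (cokernel c) hCc).isOpen_compl⟩
    let f := W.ι
    let := (f.stalkMap t).hom.toAlgebra
    let := PullStalk.Basic.moduleOver f (cokernel c) t
    have : IsScalarTower (X.presheaf.stalk (f t)) (W.toScheme.presheaf.stalk t)
        (((Scheme.Modules.pullback f).obj (cokernel c)).presheaf.stalk t) :=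
      IsScalarTower.of_algebraMap_smul fun _ _ => rfl
    have : Subsingleton ((cokernel c).presheaf.stalk (f t)) :=
      not_nontrivial_iff_subsingleton.1 fun hn => t.2 hn
    exact (PullStalk.Basic.isBaseChange_unitStalk f (cokernel c) t).equiv.symm.toEquiv.subsingleton
  · left
    haveI := hMc.1
    haveI := hNc.1
    have hi := isFinLocFree_image hP c hMc hN
    have hi1 : VBLib.rk M = VBLib.rk (kernel c) + VBLib.rk (Abelian.image c) := by
      let S := ShortComplex.mk (kernel.ι c) (Abelian.factorThruImage c)
        ((cancel_mono (Abelian.image.ι c)).mp (by simp))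
      have hS : S.ShortExact := by
        refine { exact := ShortComplex.exact_of_f_is_kernel _ ?_ }
        refine KernelFork.IsLimit.ofι' _ _ fun {A} a ha => ⟨kernel.lift c a ?_, kernel.lift_ι _ _ _⟩
        rw [← Abelian.image.fac c, ← Category.assoc]
        exact (congrArg (· ≫ Abelian.image.ι c) ha).trans zero_comp
      exact rk_add hS hMc
    rw [← Abelian.image.fac c, (VBLib.isZero_of_rk_eq_zero hi (by omega)).eq_of_tgt (Abelian.factorThruImage c) 0,
      zero_comp]


/-- Dichotomy for the differential of a map of smooth curves: let k be a field, X and Y integral schemes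
each smooth, separated and quasi-compact over Spec k and of dimension one, and φ : X → Y a morphism
over k. Let Ω_Y and Ω_X be sheaves of differentials of Y and of X over k, given as universal
derivations, and c : φ^*Ω_Y → Ω_X the compatible map dφ (sending the pullback of d_Y s to d_X(φ^♯
s)). Then exactly one of two things happens, stated here as a disjunction: either c is the zero map,
or c is a monomorphism of O_X-modules and its cokernel (the sheaf of relative differentials Ω_{X/Y})
restricts to zero on some nonempty open subset of X, so that it is supported at finitely many closed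
points. (The published statement is for smooth curves, which are in addition geometrically
connected; integrality of X and Y is what the argument uses.) -/
theorem result (k : Type u) [Field k] {X Y : Scheme.{u}}
    (pX : X ⟶ Spec (CommRingCat.of k)) (pY : Y ⟶ Spec (CommRingCat.of k)) (φ : X ⟶ Y) (w : φ ≫ pY = pX)
    [IsIntegral X] [Smooth pX] [IsSeparated pX] [QuasiCompact pX] (hdX : topologicalKrullDim X = 1)
    [IsIntegral Y] [Smooth pY] [IsSeparated pY] [QuasiCompact pY] (hdY : topologicalKrullDim Y = 1)
    (ΩY : Y.Modules) (dY : OmegaSh.Der pY ΩY) (hY : OmegaSh.IsUniversal dY)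
    (ΩX : X.Modules) (dX : OmegaSh.Der pX ΩX) (hX : OmegaSh.IsUniversal dX)
    (c : (Scheme.Modules.pullback φ).obj ΩY ⟶ ΩX) (hc : OmegaSh.IsDiffCompat φ dY dX c) :
    c = 0 ∨ (Mono c ∧ ∃ U : X.Opens, (U : Set X).Nonempty ∧ IsZero ((Scheme.Modules.pullback U.ι).obj (cokernel c))) := by
  letI : X.Over (Spec (CommRingCat.of k)) := ⟨pX⟩
  letI : Y.Over (Spec (CommRingCat.of k)) := ⟨pY⟩
  haveI : Smooth (X ↘ Spec (CommRingCat.of k)) := ‹Smooth pX›
  haveI : Smooth (Y ↘ Spec (CommRingCat.of k)) := ‹Smooth pY›
  haveI : IsLocallyNoetherian X := LocallyOfFiniteType.isLocallyNoetherian (X ↘ Spec (CommRingCat.of k))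
  have hP : ∀ x : X, IsPrincipalIdealRing (X.presheaf.stalk x) := fun x => by
    haveI := CurveCoh.valuationRing_stalk k X hdX x
    haveI : IsNoetherianRing (X.presheaf.stalk x) := inferInstance
    exact (IsBezout.TFAE.out 0 1).mp this
  have lfX : FlatMod.IsFinLocFree ΩX := by
    refine Omega.LocalStructure.isFinLocFree_of_smooth hX fun {U} hU {V} hV e => ?_
    let := (pX.appLE U V e).hom.toAlgebra
    haveI : Algebra.Smooth Γ(Spec (CommRingCat.of k), U) Γ(X, V) := pX.smooth_appLE hU hV e
    exact ⟨inferInstance, inferInstance⟩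
  have lfY : FlatMod.IsFinLocFree ΩY := by
    refine Omega.LocalStructure.isFinLocFree_of_smooth hY fun {U} hU {V} hV e => ?_
    let := (pY.appLE U V e).hom.toAlgebra
    haveI : Algebra.Smooth Γ(Spec (CommRingCat.of k), U) Γ(Y, V) := pY.smooth_appLE hU hV e
    exact ⟨inferInstance, inferInstance⟩
  have hinv : PicF.IsInvertible ΩY := fun y => by
    obtain ⟨U, n, e, hy, he⟩ := LFFrame.exists_isFrame_of_isFinLocFree lfY y
    have hn : VBLib.rk ΩY = n := VBLib.rk_eq_of_isFrame he (VBLib.genericPoint_mem_of_mem hy)
    rw [finrank_generic k hdY hY] at hn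
    subst hn
    exact ⟨U, hy, he.nonempty_restrict_iso⟩
  refine eq_zero_or_mono hP (VBLib.isFinLocFree_of_ofRank (VBLib.ofRank_one_of_invertible (PicCl.isInvertible_pullback φ hinv))) lfX ?_ (finrank_generic k hdX hX) c
  obtain ⟨U, n, e, hx, he⟩ := LFFrame.exists_isFrame_of_isFinLocFree lfY (φ (genericPoint X))
  have hn : VBLib.rk ΩY = n := VBLib.rk_eq_of_isFrame he (VBLib.genericPoint_mem_of_mem hx)
  rw [finrank_generic k hdY hY] at hn
  subst hn
  exact VBLib.rk_eq_of_isFrame (he.pullback φ) hx

end Groth.Agent.S19535
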