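import Groth.Statements.S19537
import Groth.Agent.FTorsLib.ComplDerived
import Groth.Agent.FTorsLib.PushQC
import Groth.Agent.Props.SubExt
import Groth.Agent.S17070

set_option autoImplicit false
set_option backward.isDefEq.respectTransparency.types false
open CategoryTheory CategoryTheory.Limits AlgebraicGeometry
universe u
attribute [local instance] HasDerivedCategory.standard
open FTors

namespace Groth.Agent.S19537

/-- Let X be a locally Noetherian scheme, 𝓘 a quasi-coherent ideal of O_X with closed subset Z, X̂ the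
completion of X along 𝓘 and κ : X̂ ⟶ X the completion morphism of ringed spaces, with κ^* exact
(assumed) and the derived direct image Rκ_* existing on unbounded derived categories. Write D_Z(X)
for the complexes of O_X-modules whose cohomology sheaves are 𝓘-power torsion and D_qcZ(X) for those
whose cohomology sheaves are moreover quasi-coherent; write D_t(X̂) for the complexes of
O_X̂-modules whose cohomology sheaves are torsion and D_qct(X̂) for those whose cohomology sheaves
are quasi-coherent torsion modules. Then κ^* sends D_Z(X) into D_t(X̂); Rκ_* sends D_t(X̂) into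
D_Z(X); κ^* sends D_qcZ(X) into D_qct(X̂); Rκ_* sends D_qct(X̂) into D_qcZ(X); and if M ∈ D_qct(X̂)
has coherent cohomology sheaves, then so does Rκ_*M. (The published statement says moreover that κ^*
and κ_* are inverse isomorphisms between D_Z(X) and D_t(X̂) and between D_qcZ(X) and D_qct(X̂); that
the unit and counit are isomorphisms there is not stated here.) -/
theorem result (X : Scheme.{u}) [IsLocallyNoetherian X]
    (𝓘 : X.IdealSheafData) (hX : (FSch.completionAlong X 𝓘).IsFormal)
    [PreservesFiniteLimits (FSch.toSchemeMor (FSch.completionAlong X 𝓘) hX (FSch.completionToX X 𝓘) (FSch.completionToX_comm X 𝓘)).pull] [SiteCmp.HasRpushD (FSch.toSchemeMor (FSch.completionAlong X 𝓘) hX (FSch.completionToX X 𝓘) (FSch.completionToX_comm X 𝓘))] :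
    (∀ F : DerivedCategory (ModSite.Mod X.sheaf), FTors.IsDTorsZp X 𝓘 F →
      FTors.IsDTorsF (FSch.completionAlong X 𝓘) hX ((SiteCmp.pullD (FSch.toSchemeMor (FSch.completionAlong X 𝓘) hX (FSch.completionToX X 𝓘) (FSch.completionToX_comm X 𝓘))).obj F)) ∧
    (∀ G : DerivedCategory (FSch.ModF (FSch.completionAlong X 𝓘) hX), FTors.IsDTorsF (FSch.completionAlong X 𝓘) hX G →
      FTors.IsDTorsZp X 𝓘 ((SiteCmp.RpushD (FSch.toSchemeMor (FSch.completionAlong X 𝓘) hX (FSch.completionToX X 𝓘) (FSch.completionToX_comm X 𝓘))).obj G)) ∧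
    (∀ F : DerivedCategory (ModSite.Mod X.sheaf), FTors.IsDTorsZp X 𝓘 F →
      (∀ i : ℤ, SheafOfModules.IsQuasicoherent.{u} (SiteCmp.HMod F i)) →
      FTors.IsDQCT (FSch.completionAlong X 𝓘) hX ((SiteCmp.pullD (FSch.toSchemeMor (FSch.completionAlong X 𝓘) hX (FSch.completionToX X 𝓘) (FSch.completionToX_comm X 𝓘))).obj F)) ∧
    (∀ G : DerivedCategory (FSch.ModF (FSch.completionAlong X 𝓘) hX), FTors.IsDQCT (FSch.completionAlong X 𝓘) hX G →
      FTors.IsDTorsZp X 𝓘 ((SiteCmp.RpushD (FSch.toSchemeMor (FSch.completionAlong X 𝓘) hX (FSch.completionToX X 𝓘) (FSch.completionToX_comm X 𝓘))).obj G) ∧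
        ∀ i : ℤ, SheafOfModules.IsQuasicoherent.{u} (SiteCmp.HMod ((SiteCmp.RpushD (FSch.toSchemeMor (FSch.completionAlong X 𝓘) hX (FSch.completionToX X 𝓘) (FSch.completionToX_comm X 𝓘))).obj G) i)) ∧
    (∀ G : DerivedCategory (FSch.ModF (FSch.completionAlong X 𝓘) hX), FTors.IsDQCT (FSch.completionAlong X 𝓘) hX G →
      (∀ i : ℤ, FSch.IsCohF (FSch.completionAlong X 𝓘) hX (SiteCmp.HMod G i)) →
      ∀ i : ℤ, Coh.IsCoh (SiteCmp.HMod ((SiteCmp.RpushD (FSch.toSchemeMor (FSch.completionAlong X 𝓘) hX (FSch.completionToX X 𝓘) (FSch.completionToX_comm X 𝓘))).obj G) i)) := by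
  have key := Groth.Agent.S17070.result X 𝓘 hX
  refine ⟨fun F hF => Groth.Agent.FTorsLib.Compl.isDTorsF_pullD hX hF,
    fun G hG => Groth.Agent.FTorsLib.Compl.isDTorsZp_RpushD hX hG,
    fun F hF hq i => ?_, fun G hG => ?_, fun G hG hc i => ?_⟩
  · exact ⟨Groth.Agent.FTorsLib.Compl.isDTorsF_pullD hX hF i,
      (SheafOfModules.isQuasicoherent (ModSite.ringSh ((FSch.completionAlong X 𝓘).Osh hX))).prop_of_iso
        (DTrunc.homologyMapDerivedIso (Groth.Agent.FTorsLib.Compl.kap hX).pull F i).symm ((key.1 _ (hF i) (hq i)).2)⟩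
  · refine ⟨Groth.Agent.FTorsLib.Compl.isDTorsZp_RpushD hX (fun i => (hG i).1), fun i => ?_⟩
    exact (SheafOfModules.isQuasicoherent (ModSite.ringSh X.sheaf)).prop_of_iso
        ((DerivedCategory.homologyFunctor _ i).mapIso ((Groth.Agent.FTorsLib.Compl.rpushIso hX).app G) ≪≫
          DTrunc.homologyMapDerivedIso (Groth.Agent.FTorsLib.Compl.kap hX).push G i).symm ((key.2 _ (hG i)).2.1)
  · obtain ⟨hq, hft⟩ := (key.2 _ (hG i)).2.2 (hc i)
    haveI := hq
    haveI := hft
    have e := ((DerivedCategory.homologyFunctor _ i).mapIso ((Groth.Agent.FTorsLib.Compl.rpushIso hX).app G) ≪≫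
          DTrunc.homologyMapDerivedIso (Groth.Agent.FTorsLib.Compl.kap hX).push G i).symm
    have hq' := (SheafOfModules.isQuasicoherent (ModSite.ringSh X.sheaf)).prop_of_iso e hq
    haveI : SheafOfModules.IsQuasicoherent.{u} (SiteCmp.HMod ((SiteCmp.RpushD (Groth.Agent.FTorsLib.Compl.kap hX)).obj G) i) := hq'
    exact ⟨hq', Groth.Agent.Props.SubExt.isFiniteType_of_iso e hft⟩

end Groth.Agent.S19537
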