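import Groth.Statements.S19540
import Groth.Agent.SiteCoh.WeakContr
import Mathlib.CategoryTheory.Sites.Abelian
import Mathlib.Algebra.Homology.ShortComplex.Ab

set_option autoImplicit false
open CategoryTheory CategoryTheory.Limits Opposite
universe w v u
open CohSite

namespace Groth.Agent.S19540

/-- Let (C, J) be a site and B a class of objects of C, each weakly contractible (every epimorphism of
sheaves of sets, valued in a fixed universe, is surjective on sections over it), such that every
object V of C has a covering sieve all of whose arrows factor through some object of B. Then a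
three-term complex F ⟶ G ⟶ H of abelian sheaves on (C, J) is exact if and only if for every U in B
the sequence of section groups F(U) ⟶ G(U) ⟶ H(U) is exact. (The published statement is for sheaves
of modules over a sheaf of rings O; this row is the case of the constant sheaf of rings ℤ, i.e.
abelian sheaves, to which exactness questions for O-modules reduce. The universe set-up assumes that
abelian sheafification exists and inverts exactly the locally bijective maps, as on any small site.) -/
theorem result
    {C : Type u} [Category.{v} C] (J : GrothendieckTopology C) [HasSheafify J AddCommGrpCat.{w}]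
    [J.WEqualsLocallyBijective AddCommGrpCat.{w}]
    (B : C → Prop)
    (hB : ∀ U : C, B U → ∀ (P Q : Sheaf J (Type w)) (ψ : P ⟶ Q), Epi ψ → Function.Surjective (ψ.hom.app (op U)))
    (hcov : ∀ V : C, ∃ S : Sieve V, S ∈ J V ∧ ∀ ⦃W : C⦄ (f : W ⟶ V), S.arrows f →
      ∃ (U : C) (g : W ⟶ U) (h : U ⟶ V), B U ∧ g ≫ h = f)
    (S : ShortComplex (Sheaf J AddCommGrpCat.{w})) :
    S.Exact ↔ ∀ U : C, B U →
      (S.map (sheafToPresheaf J AddCommGrpCat.{w} ⋙ (evaluation Cᵒᵖ AddCommGrpCat.{w}).obj (op U))).Exact := by
  let Φ := fun U : C => sheafToPresheaf J AddCommGrpCat.{w} ⋙ (evaluation Cᵒᵖ AddCommGrpCat.{w}).obj (op U)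
  have hadd : ∀ U, (Φ U).Additive := fun U => inferInstance
  have hpz : ∀ U, (Φ U).PreservesZeroMorphisms := fun U => inferInstance
  have key : ∀ (U : C) (x : (Φ U).obj S.X₂), (Φ U).map S.g x = 0 →
      ∃ k, (Φ U).map (kernel.ι S.g) k = x := by
    intro U
    have e : (ShortComplex.mk ((Φ U).map (kernel.ι S.g)) ((Φ U).map S.g)
        (by rw [← Functor.map_comp, kernel.condition, Functor.map_zero])).Exact :=
      ShortComplex.exact_of_f_is_kernel _ (KernelFork.mapIsLimit _ (kernelIsKernel S.g) (Φ U))
    exact (ShortComplex.ab_exact_iff _).1 e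
  have hl : ∀ (U : C) (t : (Φ U).obj S.X₁),
      (Φ U).map (kernel.ι S.g) ((Φ U).map (kernel.lift S.g S.f S.zero) t) = (Φ U).map S.f t := by
    intro U t
    rw [← ConcreteCategory.comp_apply, ← Functor.map_comp, kernel.lift_ι]
  rw [S.exact_iff_epi_kernel_lift]
  constructor
  · intro hE U hU
    rw [ShortComplex.ab_exact_iff]
    intro x hx
    obtain ⟨k, hk⟩ := key U x hx
    have : Sheaf.IsLocallySurjective (kernel.lift S.g S.f S.zero) :=
      (Sheaf.isLocallySurjective_iff_epi' _ _).2 hE
    obtain ⟨t, ht⟩ := Groth.Agent.SiteCoh.WeakContr.surjective_of_isLocallySurjective (hB U hU)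
      (kernel.lift S.g S.f S.zero) k
    exact ⟨t, (hl U t).symm.trans ((congrArg _ ht).trans hk)⟩
  · intro hE
    have : Sheaf.IsLocallySurjective (kernel.lift S.g S.f S.zero) := by
      refine Groth.Agent.SiteCoh.WeakContr.isLocallySurjective_of_covers hcov _ (fun U hU k => ?_)
      obtain ⟨t, ht⟩ := (ShortComplex.ab_exact_iff _).1 (hE U hU) ((Φ U).map (kernel.ι S.g) k)
        (by
          show ((Φ U).map (kernel.ι S.g) ≫ (Φ U).map S.g) k = 0
          rw [← Functor.map_comp, kernel.condition, Functor.map_zero]
          rfl)
      refine ⟨t, ?_⟩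
      have : Mono ((Φ U).map (kernel.ι S.g)) := inferInstance
      exact (AddCommGrpCat.mono_iff_injective _).1 this ((hl U t).trans ht)
    infer_instance

end Groth.Agent.S19540
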