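import Groth.Statements.S19541
import Groth.Agent.EtStruct.Scheme
import Groth.Agent.CurveDVR.Stalk
import Groth.Agent.LinSerLib.RatPoint
import Mathlib.AlgebraicGeometry.AlgClosed.Basic
import Mathlib.RingTheory.Flat.TorsionFree

set_option autoImplicit false
universe u
open CategoryTheory CategoryTheory.Limits AlgebraicGeometry TopologicalSpace
open Curves

namespace Groth.Agent.S19541

set_option linter.style.haveILetI false

theorem dvr_map {R S : Type u} [CommRing R] [CommRing S] [IsDomain R] [IsDomain S]
    [IsDiscreteValuationRing R] [IsDiscreteValuationRing S] [Algebra R S] [IsLocalHom (algebraMap R S)]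
    (h : (IsLocalRing.maximalIdeal R).map (algebraMap R S) = IsLocalRing.maximalIdeal S) :
    Module.Flat R S := by
  have hinj : Function.Injective (algebraMap R S) := by
    rw [injective_iff_map_eq_zero]
    intro a ha
    by_contra ha0
    obtain ⟨ϖ, hϖ⟩ := IsDiscreteValuationRing.exists_irreducible R
    obtain ⟨n, u, rfl⟩ := IsDiscreteValuationRing.eq_unit_mul_pow_irreducible ha0 hϖ
    rw [map_mul, map_pow] at ha
    have h0 : algebraMap R S ϖ = 0 :=
      (pow_eq_zero_iff'.mp ((mul_eq_zero.mp ha).resolve_left (u.isUnit.map (algebraMap R S)).ne_zero)).1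
    rw [hϖ.maximalIdeal_eq, Ideal.map_span, Set.image_singleton, h0, Ideal.span_singleton_zero] at h
    exact IsDiscreteValuationRing.not_a_field S h.symm
  haveI : FaithfulSMul R S := (faithfulSMul_iff_algebraMap_injective R S).mpr hinj
  haveI : Module.IsTorsionFree R S := inferInstance
  rw [Module.Flat.flat_iff_torsion_eq_bot_of_isBezout, ← Submodule.isTorsionFree_iff_torsion_eq_bot]
  infer_instance

/-- Pointwise criterion for a map of smooth curves to be étale: let k be an algebraically closed field,
X and Y integral schemes each smooth, separated and quasi-compact over Spec k and of dimension one,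
φ : X → Y a morphism over k and x a closed point of X. Then φ is étale at x (the restriction of φ to
some open neighbourhood of x is étale) if and only if the induced homomorphism of stalks O_{Y,φ(x)}
→ O_{X,x} carries the maximal ideal of the discrete valuation ring O_{Y,φ(x)} to an ideal generating
the maximal ideal of O_{X,x}; equivalently a uniformiser at φ(x) pulls back to a uniformiser at x.
(The published statement is for smooth curves, which are in addition geometrically connected;
integrality is what is used. For a constant φ both sides fail.) -/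
theorem result (k : Type u) [Field k] [IsAlgClosed k] {X Y : Scheme.{u}}
    (pX : X ⟶ Spec (CommRingCat.of k)) (pY : Y ⟶ Spec (CommRingCat.of k)) (φ : X ⟶ Y) (w : φ ≫ pY = pX)
    [IsIntegral X] [Smooth pX] [IsSeparated pX] [QuasiCompact pX] (hdX : topologicalKrullDim X = 1)
    [IsIntegral Y] [Smooth pY] [IsSeparated pY] [QuasiCompact pY] (hdY : topologicalKrullDim Y = 1)
    (x : X) (hx : IsClosed ({x} : Set X)) :
    (∃ U : X.Opens, x ∈ U ∧ Etale (U.ι ≫ φ)) ↔
      Ideal.map (φ.stalkMap x).hom (IsLocalRing.maximalIdeal (Y.presheaf.stalk (φ.base x))) =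
        IsLocalRing.maximalIdeal (X.presheaf.stalk x) := by
  have hft : LocallyOfFiniteType φ := by
    haveI : LocallyOfFiniteType (φ ≫ pY) := by rw [w]; infer_instance
    exact locallyOfFiniteType_of_comp φ pY
  haveI : IsLocallyNoetherian Y := LocallyOfFiniteType.isLocallyNoetherian pY
  haveI : LocallyOfFinitePresentation φ := LocallyOfFinitePresentation.iff_locallyOfFiniteType.mpr hft
  rw [EtStruct.etale_nhd_iff φ x]
  let P := pointOfClosedPoint pX x hx
  have hP : P ≫ pX = 𝟙 _ := pointOfClosedPoint_comp _ _ _
  have hPx : P (IsLocalRing.closedPoint k) = x := pointOfClosedPoint_apply _ _ _ _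
  have hy : IsClosed ({φ x} : Set Y) := by
    haveI : IsClosedImmersion (P ≫ φ) := isClosedImmersion_of_comp_eq_id pY _ (by rw [Category.assoc, w, hP])
    have h1 := (P ≫ φ).isClosedEmbedding.isClosed_range
    have h2 : Set.range (P ≫ φ).base = {φ x} := by
      apply Set.eq_singleton_iff_unique_mem.mpr
      refine ⟨⟨IsLocalRing.closedPoint k, congrArg φ.base hPx⟩, ?_⟩
      rintro _ ⟨a, rfl⟩
      rw [Subsingleton.elim a (IsLocalRing.closedPoint k)]
      exact congrArg φ.base hPx
    rwa [h2] at h1
  haveI := CurveDVR.isDiscreteValuationRing_stalk pX hdX hx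
  haveI := CurveDVR.isDiscreteValuationRing_stalk pY hdY hy
  algebraize [(φ.stalkMap x).hom]
  haveI : IsLocalHom (algebraMap (Y.presheaf.stalk (φ x)) (X.presheaf.stalk x)) :=
    inferInstanceAs (IsLocalHom (φ.stalkMap x).hom)
  haveI : Algebra.EssFiniteType (Y.presheaf.stalk (φ x)) (X.presheaf.stalk x) :=
    RingHom.essFiniteType_algebraMap.mp (LocallyOfFiniteType.stalkMap φ x)
  constructor
  · rintro ⟨hu, -⟩
    haveI : Algebra.FormallyUnramified (Y.presheaf.stalk (φ x)) (X.presheaf.stalk x) := hu
    exact (Algebra.FormallyUnramified.iff_map_maximalIdeal_eq.mp inferInstance).2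
  · intro h
    have hflat : Module.Flat (Y.presheaf.stalk (φ x)) (X.presheaf.stalk x) := dvr_map h
    have hsurj : Function.Surjective (algebraMap (IsLocalRing.ResidueField (Y.presheaf.stalk (φ x)))
        (IsLocalRing.ResidueField (X.presheaf.stalk x))) := by
      intro r
      obtain ⟨z, rfl⟩ := IsLocalRing.residue_surjective r
      letI : X.Over (Spec (CommRingCat.of k)) := ⟨pX⟩
      have key : ∀ (x' : X) (hx' : P (IsLocalRing.closedPoint k) = x') (z : X.presheaf.stalk x'),
          ∃ c : k, z - X.presheaf.germ ⊤ x' trivial (Coh.toGlobal pX c) ∈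
            IsLocalRing.maximalIdeal (X.presheaf.stalk x') := by
        intro x' hx' z
        subst hx'
        refine ⟨LinSerLib.chi P z, (IsLocalRing.mem_maximalIdeal _).mpr fun hu => ?_⟩
        have h0 : LinSerLib.chi P (z - X.presheaf.germ ⊤ _ trivial (Coh.toGlobal pX (LinSerLib.chi P z))) = 0 := by
          rw [map_sub, sub_eq_zero]
          exact (LinSerLib.chi_global P hP _).symm
        exact not_isUnit_zero (h0 ▸ hu.map (LinSerLib.chi P))
      obtain ⟨c, hc⟩ := key x hPx z
      refine ⟨IsLocalRing.residue _ (Y.presheaf.germ ⊤ (φ x) trivial (Coh.toGlobal pY c)), ?_⟩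
      have hg : algebraMap (Y.presheaf.stalk (φ x)) (X.presheaf.stalk x)
          (Y.presheaf.germ ⊤ (φ x) trivial (Coh.toGlobal pY c)) =
          X.presheaf.germ ⊤ x trivial (Coh.toGlobal pX c) := by
        show (Y.presheaf.germ ⊤ (φ x) trivial ≫ φ.stalkMap x).hom (Coh.toGlobal pY c) = _
        rw [Scheme.Hom.germ_stalkMap]
        subst w
        rfl
      show IsLocalRing.residue (X.presheaf.stalk x) _ = IsLocalRing.residue (X.presheaf.stalk x) z
      rw [hg]
      exact (Ideal.Quotient.eq.mpr hc).symm
    haveI : Algebra.IsSeparable (IsLocalRing.ResidueField (Y.presheaf.stalk (φ x)))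
        (IsLocalRing.ResidueField (X.presheaf.stalk x)) :=
      ⟨fun r => by obtain ⟨a, rfl⟩ := hsurj r; exact isSeparable_algebraMap a⟩
    exact ⟨(Algebra.FormallyUnramified.of_map_maximalIdeal h : _), hflat⟩

end Groth.Agent.S19541
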