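import Groth.Statements.S19544
import Groth.Agent.CAlg99.BassCancel
-- import your own Groth.Agent.* helpers here

set_option autoImplicit false
universe u
open CAlg

namespace Groth.Agent.S19544

theorem step {R : Type u} [CommRing R] [IsNoetherianRing R] {d : ℕ} (hdim : ringKrullDim R ≤ d)
    (P : Type u) [AddCommGroup P] [Module R P] [Module.Finite R P] [Module.Projective R P] (n : ℕ)
    (hrk : ∀ p : PrimeSpectrum R, Module.rankAtStalk (R := R) P p = n) :
    ∀ k, k + d ≤ n → ∃ (P₀ : Type u) (_ : AddCommGroup P₀) (_ : Module R P₀)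
      (_ : Module.Finite R P₀) (_ : Module.Projective R P₀),
      (∀ p : PrimeSpectrum R, Module.rankAtStalk (R := R) P₀ p + k = n) ∧
      Nonempty (P ≃ₗ[R] P₀ × (Fin k → R)) := by
  intro k
  induction k with
  | zero =>
    exact fun _ => ⟨P, inferInstance, inferInstance, inferInstance, inferInstance,
      fun p => by simp [hrk], ⟨(LinearEquiv.prodUnique).symm⟩⟩
  | succ k ih =>
    intro hk
    obtain ⟨P₁, i1, i2, i3, i4, hr, ⟨e⟩⟩ := ih (by omega)
    obtain ⟨φ, hφ⟩ := Groth.Agent.CAlg99.BassCancel.split_one (M := P₁) hdim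
      (fun p => by have := hr p; omega)
    obtain ⟨g, hg⟩ := Module.projective_lifting_property φ LinearMap.id hφ
    have hg' : ∀ r, φ (g r) = r := LinearMap.congr_fun hg
    let f : P₁ →ₗ[R] LinearMap.ker φ :=
      (LinearMap.id - g ∘ₗ φ).codRestrict _ fun x => by simp [hg']
    let E : P₁ ≃ₗ[R] LinearMap.ker φ × R :=
      { toLinearMap := f.prod φ
        invFun := fun z => (z.1 : P₁) + g z.2
        left_inv := fun x => by simp [f]
        right_inv := fun z => by
          have hz : φ (z.1 : P₁) = 0 := z.1.2
          ext <;> simp [f, hg', hz] }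
    have : Module.Projective R (LinearMap.ker φ) :=
      Module.Projective.of_split (LinearMap.ker φ).subtype f (LinearMap.ext fun x => by
        have hx : φ (x : P₁) = 0 := x.2
        ext; simp [f, hx])
    have : Module.Finite R (LinearMap.ker φ) := Module.Finite.iff_fg.mpr (IsNoetherian.noetherian _)
    refine ⟨LinearMap.ker φ, inferInstance, inferInstance, this, inferInstance, fun p => ?_, ?_⟩
    · have h1 := congrFun (Module.rankAtStalk_eq_of_equiv E) p
      haveI : Nontrivial R := ⟨0, 1, fun h => p.isPrime.ne_top ((Ideal.eq_top_iff_one _).mpr (h ▸ zero_mem _))⟩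
      rw [Module.rankAtStalk_prod, Pi.add_apply, Module.rankAtStalk_self, Pi.one_apply] at h1
      have := hr p
      omega
    · exact ⟨e.trans ((LinearEquiv.prodCongr E (LinearEquiv.refl R _)).trans
        ((LinearEquiv.prodAssoc R _ R _).trans (LinearEquiv.prodCongr (LinearEquiv.refl R _)
          (Fin.consLinearEquiv R fun _ : Fin (k + 1) => R))))⟩

/-- Let R be a Noetherian ring of Krull dimension d and P a finitely generated projective R-module of
constant rank n at every prime of R, with n > d. Then P is isomorphic to P₀ ⊕ R^(n-d) for some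
module P₀; concretely, P has complementary submodules P₀ and Q with Q free of rank n - d. -/
theorem result (R : Type u) [CommRing R]
    [IsNoetherianRing R] (d n : ℕ) (hdim : ringKrullDim R = d)
    (P : Type u) [AddCommGroup P] [Module R P] [Module.Finite R P] [Module.Projective R P]
    (hrk : ∀ p : PrimeSpectrum R, Module.rankAtStalk (R := R) P p = n) (hnd : d < n) :
    ∃ (P₀ Q : Submodule R P), IsCompl P₀ Q ∧ Nonempty (Q ≃ₗ[R] (Fin (n - d) → R)) := by
  obtain ⟨P₀, i1, i2, i3, i4, -, ⟨e⟩⟩ := step hdim.le P n hrk (n - d) (by omega)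
  refine ⟨LinearMap.range (e.symm.toLinearMap ∘ₗ LinearMap.inl R P₀ (Fin (n - d) → R)),
    LinearMap.range (e.symm.toLinearMap ∘ₗ LinearMap.inr R P₀ (Fin (n - d) → R)), ?_,
    ⟨(LinearEquiv.ofInjective (e.symm.toLinearMap ∘ₗ LinearMap.inr R P₀ (Fin (n - d) → R)) (by
      simpa only [LinearMap.coe_comp, LinearEquiv.coe_coe] using e.symm.injective.comp LinearMap.inr_injective)).symm⟩⟩
  rw [LinearMap.range_comp, LinearMap.range_comp]
  exact (LinearMap.isCompl_range_inl_inr).map (Submodule.orderIsoMapComap e.symm)

end Groth.Agent.S19544
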