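import Groth.Statements.S19546
import Mathlib.RingTheory.Valuation.LocalSubring
import Mathlib.RingTheory.AlgebraicIndependent.TranscendenceBasis
import Mathlib.RingTheory.Nullstellensatz
import Mathlib.Analysis.Complex.Polynomial.Basic
import Mathlib.RingTheory.Valuation.ValuationSubring
import Mathlib.Tactic.FieldSimp

set_option autoImplicit false
universe u v w
open scoped TensorProduct
open VBCurve

namespace Groth.Agent.S19546

open MvPolynomial in
/-- In a valuation ring containing `k` and all the forms, every product of two coordinates lies. -/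
lemma le_one_of_forms {k : Type u} [Field k] [IsAlgClosed k] {n a b : ℕ} (c : Fin n → Fin a → Fin b → k)
    (ha : 0 < a) (hb : 0 < b)
    (h : ∀ (x : Fin a → k) (y : Fin b → k), (∀ l, ∑ i, ∑ j, c l i j * (x i * y j) = 0) → x = 0 ∨ y = 0)
    {L : Type u} [Field L] [Algebra k L] (V : ValuationSubring L) (x : Fin a → L) (y : Fin b → L)
    (hk : ∀ r : k, algebraMap k L r ∈ V) (hf : ∀ l, ∑ i, ∑ j, algebraMap k L (c l i j) * (x i * y j) ∈ V)
    (i₀ : Fin a) (j₀ : Fin b) : x i₀ * y j₀ ∈ V := by
  classical
  haveI : Nonempty (Fin a) := ⟨⟨0, ha⟩⟩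
  haveI : Nonempty (Fin b) := ⟨⟨0, hb⟩⟩
  obtain ⟨p, hp⟩ := Finite.exists_max (fun i => V.valuation (x i))
  obtain ⟨q, hq⟩ := Finite.exists_max (fun j => V.valuation (y j))
  by_contra hne
  rw [← V.valuation_le_one_iff, not_le, map_mul] at hne
  have hbig : 1 < V.valuation (x p) * V.valuation (y q) :=
    lt_of_lt_of_le hne (mul_le_mul' (hp i₀) (hq j₀))
  have hxp : x p ≠ 0 := fun h0 => by simp [h0] at hbig
  have hyq : y q ≠ 0 := fun h0 => by simp [h0] at hbig
  have hvx : V.valuation (x p) ≠ 0 := by simpa using hxp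
  have hvy : V.valuation (y q) ≠ 0 := by simpa using hyq
  have hxm : ∀ i, x i / x p ∈ V := by
    intro i
    rw [← V.valuation_le_one_iff, map_div₀, div_le_one₀ (zero_lt_iff.2 hvx)]
    exact hp i
  have hym : ∀ j, y j / y q ∈ V := by
    intro j
    rw [← V.valuation_le_one_iff, map_div₀, div_le_one₀ (zero_lt_iff.2 hvy)]
    exact hq j
  letI : Algebra k V := ((algebraMap k L).codRestrict V.toSubring hk).toAlgebra
  let z : Fin a ⊕ Fin b → V := Sum.elim (fun i => ⟨_, hxm i⟩) (fun j => ⟨_, hym j⟩)
  let φ : MvPolynomial (Fin a ⊕ Fin b) k →+* IsLocalRing.ResidueField V :=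
    (IsLocalRing.residue V).comp (MvPolynomial.aeval z).toRingHom
  obtain ⟨M, hM, hker⟩ := Ideal.exists_le_maximal (RingHom.ker φ) (RingHom.ker_ne_top φ)
  obtain ⟨w, hw⟩ := MvPolynomial.isMaximal_iff_eq_vanishingIdeal_singleton.1 hM
  have key : ∀ P, φ P = 0 → MvPolynomial.eval w P = 0 := by
    intro P hP
    have hPM : P ∈ M := hker hP
    rw [hw, MvPolynomial.mem_vanishingIdeal_iff] at hPM
    simpa [MvPolynomial.aeval_eq_eval] using hPM w rfl
  have h1 : ∀ l, ∑ i, ∑ j, c l i j * (w (.inl i) * w (.inr j)) = 0 := by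
    intro l
    have := key (∑ i, ∑ j, C (c l i j) * (X (.inl i) * X (.inr j))) (by
      change IsLocalRing.residue V _ = 0
      rw [IsLocalRing.residue_eq_zero_iff]
      refine (V.valuation_lt_one_iff _).2 ?_
      have e : ((MvPolynomial.aeval z (∑ i, ∑ j, C (c l i j) * (X (.inl i) * X (.inr j))) : V) : L) =
          (∑ i, ∑ j, algebraMap k L (c l i j) * (x i * y j)) / (x p * y q) := by
        simp only [map_sum, map_mul, MvPolynomial.aeval_X, MvPolynomial.aeval_C,
          AddSubmonoidClass.coe_finsetSum, Finset.sum_div]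
        refine Finset.sum_congr rfl fun i _ => Finset.sum_congr rfl fun j _ => ?_
        change algebraMap k L (c l i j) * (x i / x p * (y j / y q)) = _
        field_simp
      change V.valuation _ < 1
      erw [e]
      rw [map_div₀, map_mul, div_lt_one₀ (lt_trans zero_lt_one hbig)]
      exact lt_of_le_of_lt ((V.valuation_le_one_iff _).2 (hf l)) hbig)
    simpa using this
  have hwp : w (.inl p) = 1 := by
    have := key (X (.inl p) - 1) (by
      have e : z (.inl p) = 1 := Subtype.ext (div_self hxp)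
      simp [φ, e])
    simpa [sub_eq_zero] using this
  have hwq : w (.inr q) = 1 := by
    have := key (X (.inr q) - 1) (by
      have e : z (.inr q) = 1 := Subtype.ext (div_self hyq)
      simp [φ, e])
    simpa [sub_eq_zero] using this
  rcases h (fun i => w (.inl i)) (fun j => w (.inr j)) h1 with h0 | h0
  · simpa [hwp] using congrFun h0 p
  · simpa [hwq] using congrFun h0 q

open MvPolynomial in
lemma algebraicIndependent_segre (k : Type u) [Field k] {a b : ℕ} (ha : 0 < a) (hb : 0 < b) :
    AlgebraicIndependent k (Sum.elim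
      (fun i : Fin a => algebraMap (MvPolynomial (Fin a ⊕ Fin b) k) (FractionRing (MvPolynomial (Fin a ⊕ Fin b) k)) (X (.inl i)) *
        algebraMap (MvPolynomial (Fin a ⊕ Fin b) k) _ (X (.inr ⟨0, hb⟩)))
      (fun j : Fin (b - 1) => algebraMap (MvPolynomial (Fin a ⊕ Fin b) k) (FractionRing (MvPolynomial (Fin a ⊕ Fin b) k)) (X (.inl ⟨0, ha⟩)) *
        algebraMap (MvPolynomial (Fin a ⊕ Fin b) k) _ (X (.inr ⟨j.1 + 1, by omega⟩)))) := by
  let P := MvPolynomial (Fin a ⊕ Fin (b - 1)) k
  let T : Fin a ⊕ Fin (b - 1) → FractionRing P := fun s => algebraMap P _ (X s)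
  have hT : AlgebraicIndependent k T :=
    (MvPolynomial.algebraicIndependent_X _ k).map' (f := IsScalarTower.toAlgHom k P (FractionRing P))
      (IsFractionRing.injective P (FractionRing P))
  have hT0 : T (.inl ⟨0, ha⟩) ≠ 0 := by
    simp [T, P, IsFractionRing.injective P (FractionRing P) |>.eq_iff' (map_zero _)]
  let ψ : MvPolynomial (Fin a ⊕ Fin b) k →ₐ[k] FractionRing P := aeval (Sum.elim (fun i => T (.inl i))
    (fun j => if hj : j.1 = 0 then 1 else T (.inr ⟨j.1 - 1, by omega⟩) / T (.inl ⟨0, ha⟩)))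
  let gS : Fin a ⊕ Fin (b - 1) → MvPolynomial (Fin a ⊕ Fin b) k := Sum.elim
    (fun i => X (.inl i) * X (.inr ⟨0, hb⟩)) (fun j => X (.inl ⟨0, ha⟩) * X (.inr ⟨j.1 + 1, by omega⟩))
  have hgS : AlgebraicIndependent k gS := AlgebraicIndependent.of_comp ψ (by
    convert hT using 1
    funext s
    rcases s with i | j
    · simp [ψ, gS]
    · simp [ψ, gS]
      rw [mul_div_cancel₀ _ hT0])
  have := hgS.map' (f := IsScalarTower.toAlgHom k (MvPolynomial (Fin a ⊕ Fin b) k)
      (FractionRing (MvPolynomial (Fin a ⊕ Fin b) k)))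
    (IsFractionRing.injective (MvPolynomial (Fin a ⊕ Fin b) k) _)
  convert this using 1
  funext s
  rcases s with i | j <;> simp [gS]

open MvPolynomial in
/-- Over an algebraically closed field, `n` bilinear forms in `a` and `b` variables without a common zero
on `P^(a-1) × P^(b-1)` satisfy `a + b ≤ n + 1`. -/
lemma bilinear_count {k : Type u} [Field k] [IsAlgClosed k] {n a b : ℕ} (c : Fin n → Fin a → Fin b → k)
    (ha : 0 < a) (hb : 0 < b)
    (h : ∀ (x : Fin a → k) (y : Fin b → k), (∀ l, ∑ i, ∑ j, c l i j * (x i * y j) = 0) → x = 0 ∨ y = 0) :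
    a + b ≤ n + 1 := by
  classical
  let L := FractionRing (MvPolynomial (Fin a ⊕ Fin b) k)
  let x : Fin a → L := fun i => algebraMap (MvPolynomial (Fin a ⊕ Fin b) k) L (X (.inl i))
  let y : Fin b → L := fun j => algebraMap (MvPolynomial (Fin a ⊕ Fin b) k) L (X (.inr j))
  let f : Fin n → L := fun l => ∑ i, ∑ j, algebraMap k L (c l i j) * (x i * y j)
  let F := Algebra.adjoin k (Set.range f)
  have hint : ∀ i j, IsIntegral F (x i * y j) := by
    intro i j
    have hmem : x i * y j ∈ (integralClosure (Subring.closure ((F : Set L))) L).toSubring := by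
      rw [← iInf_valuationSubring_superset, Subring.mem_iInf]
      rintro ⟨V, hV⟩
      exact le_one_of_forms c ha hb h V x y (fun r => hV (F.algebraMap_mem r))
        (fun l => hV (Algebra.subset_adjoin ⟨l, rfl⟩)) i j
    have hcl : Subring.closure (F : Set L) = F.toSubring := Subring.closure_eq F.toSubring
    have hmem' : IsIntegral (Subring.closure (F : Set L)) (x i * y j) := hmem
    have hle : ∀ z : Subring.closure (F : Set L), (z : L) ∈ F := fun z => hcl.le z.2
    exact hmem'.map_of_comp_eq ((Subring.closure (F : Set L)).subtype.codRestrict F hle)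
      (RingHom.id L) rfl
  let g : Fin a ⊕ Fin (b - 1) → L := Sum.elim (fun i => x i * y ⟨0, hb⟩)
    (fun j => x ⟨0, ha⟩ * y ⟨j.1 + 1, by omega⟩)
  let T : Subalgebra k L := (integralClosure F L).restrictScalars k
  have hgT : ∀ s, g s ∈ T := by rintro (i | j) <;> exact hint _ _
  have hg : AlgebraicIndependent k g := algebraicIndependent_segre k ha hb
  have hgT' : AlgebraicIndependent k (fun s => (⟨g s, hgT s⟩ : T)) :=
    AlgebraicIndependent.of_comp T.val hg
  have hFT : ∀ z ∈ F, z ∈ T := fun z hz =>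
    Subalgebra.algebraMap_mem (integralClosure F L) (⟨z, hz⟩ : F)
  let fT : Fin n → T := fun l => ⟨f l, hFT _ (Algebra.subset_adjoin ⟨l, rfl⟩)⟩
  haveI : Algebra.IsAlgebraic (Algebra.adjoin k (Set.range fT)) T := by
    let φ0 : F →ₐ[k] T := Subalgebra.inclusion hFT
    have hF : ∀ z : F, φ0 z ∈ Algebra.adjoin k (Set.range fT) := by
      rintro ⟨z, hz⟩
      induction hz using Algebra.adjoin_induction with
      | mem z hz => obtain ⟨l, rfl⟩ := hz; exact Algebra.subset_adjoin ⟨l, rfl⟩
      | algebraMap r => exact Subalgebra.algebraMap_mem _ r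
      | add z w hz hw h1 h2 => exact Subalgebra.add_mem _ h1 h2
      | mul z w hz hw h1 h2 => exact Subalgebra.mul_mem _ h1 h2
    let φ : F →+* Algebra.adjoin k (Set.range fT) := φ0.toRingHom.codRestrict _ hF
    refine ⟨fun t => IsIntegral.isAlgebraic ?_⟩
    obtain ⟨P, hP, hev⟩ := t.2
    refine ⟨P.map φ, hP.map φ, Subtype.ext ?_⟩
    rw [Polynomial.eval₂_map]
    refine (Polynomial.hom_eval₂ P _ T.val.toRingHom t).trans ?_
    exact hev
  have h1 := hgT'.lift_cardinalMk_le_trdeg.trans
    (Cardinal.lift_le.2 (Algebra.IsAlgebraic.trdeg_le_cardinalMk k (Set.range fT)))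
  have h2 := h1.trans (Cardinal.mk_range_le_lift (f := fT))
  simp only [Cardinal.mk_fintype, Fintype.card_sum, Fintype.card_fin, Cardinal.lift_natCast, Nat.cast_le] at h2
  omega

/-- Let A, B, C be complex vector spaces, A and B finite-dimensional, and ν : A ⊗ B → C a linear map
injective on each factor separately (b ↦ ν(a ⊗ b) is injective for every a ≠ 0 and a ↦ ν(a ⊗ b) is
injective for every b ≠ 0). Then the image of ν has dimension at least dim A + dim B - 1. (For A = 0
the separate-injectivity hypothesis is empty and the inequality fails as soon as dim B ≥ 2, so A and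
B are taken nonzero here, the case the inequality is about.) -/
theorem result
    (A : Type u) (B : Type v) (C : Type w) [AddCommGroup A] [Module ℂ A] [AddCommGroup B] [Module ℂ B]
    [AddCommGroup C] [Module ℂ C] [FiniteDimensional ℂ A] [FiniteDimensional ℂ B]
    [Nontrivial A] [Nontrivial B] (ν : A ⊗[ℂ] B →ₗ[ℂ] C)
    (hA : ∀ a : A, a ≠ 0 → Function.Injective (fun b : B => ν (a ⊗ₜ[ℂ] b)))
    (hB : ∀ b : B, b ≠ 0 → Function.Injective (fun a : A => ν (a ⊗ₜ[ℂ] b))) :
    Module.finrank ℂ A + Module.finrank ℂ B ≤ Module.finrank ℂ (LinearMap.range ν) + 1 := by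
  classical
  set n := Module.finrank ℂ (LinearMap.range ν) with hn
  let bA := Module.finBasis ℂ A
  let bB := Module.finBasis ℂ B
  let νr := ν.rangeRestrict
  haveI : Module.Finite ℂ (LinearMap.range ν) := Module.Finite.range ν
  let bW := Module.finBasis ℂ (LinearMap.range ν)
  let c : Fin n → Fin (Module.finrank ℂ A) → Fin (Module.finrank ℂ B) → ℂ :=
    fun l i j => bW.repr (νr (bA i ⊗ₜ[ℂ] bB j)) l
  refine bilinear_count c Module.finrank_pos Module.finrank_pos ?_
  intro x y hxy
  set a := ∑ i, x i • bA i with ha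
  set b := ∑ j, y j • bB j with hb
  by_contra hne
  rw [not_or] at hne
  have hb0 : b ≠ 0 := by
    intro h
    apply hne.2
    funext j
    have := congrArg (fun v => bB.repr v j) h
    simpa [hb, Finsupp.single_apply] using this
  have hν : νr (a ⊗ₜ[ℂ] b) = 0 := by
    apply bW.repr.injective
    ext l
    rw [map_zero, Finsupp.zero_apply, ← hxy l]
    simp [ha, hb, c, TensorProduct.sum_tmul, TensorProduct.tmul_sum, ← TensorProduct.smul_tmul', TensorProduct.tmul_smul,
      Finset.mul_sum, mul_assoc, mul_comm, mul_left_comm]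
    exact Finset.sum_comm
  have hν' : ν (a ⊗ₜ[ℂ] b) = 0 := congrArg Subtype.val hν
  have ha0 : a = 0 := hB b hb0 (by simpa using hν')
  apply hne.1
  funext i
  have := congrArg (fun v => bA.repr v i) ha0
  simpa [ha, Finsupp.single_apply] using this

end Groth.Agent.S19546
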