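import Groth.Statements.S19547
import Mathlib.RingTheory.Flat.FaithfullyFlat.Algebra

set_option autoImplicit false
universe u
open TensorProduct
open Desc

namespace Groth.Agent.S19547

/-- Let A → A' be a faithfully flat homomorphism of commutative rings, M' an A'-module and φ : M' ⊗_A A'
→ A' ⊗_A M' an isomorphism of (A' ⊗_A A')-modules for the diagonal actions (x ⊗ y)(u ⊗ z) = xu ⊗ yz
and (x ⊗ y)(z ⊗ u) = xz ⊗ yu, satisfying the cocycle condition φ_13 = φ_23 ∘ φ_12 between the three
pullbacks to A' ⊗_A A' ⊗_A A'. Here linearity over A' ⊗_A A' is stated on the generators x ⊗ 1 and 1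
⊗ y, and the cocycle condition on pure tensors u ⊗ a ⊗ b: writing φ(u ⊗ a) = Σ a_i ⊗ u_i, it says Σ
a_i ⊗ φ(u_i ⊗ b) = Σ b_j ⊗ a ⊗ u'_j where φ(u ⊗ b) = Σ b_j ⊗ u'_j. Let M = {u ∈ M' : φ(u ⊗ 1) = 1 ⊗
u}, an A-submodule of M'. Then the canonical map λ : A' ⊗_A M → M', x ⊗ u ↦ xu, is an isomorphism. -/
theorem result (A A' : Type u) [CommRing A] [CommRing A']
    [Algebra A A'] [Module.FaithfullyFlat A A'] (M' : Type u) [AddCommGroup M'] [Module A M']
    [Module A' M'] [IsScalarTower A A' M']
    (φ : M' ⊗[A] A' →ₗ[A] A' ⊗[A] M') (hφ : Function.Bijective φ)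
    (h1 : ∀ (x : A') (u : M') (z : A'),
      φ ((x • u) ⊗ₜ[A] z) = LinearMap.rTensor M' (LinearMap.mulLeft A x) (φ (u ⊗ₜ[A] z)))
    (h2 : ∀ (y : A') (u : M') (z : A'),
      φ (u ⊗ₜ[A] (y * z)) = LinearMap.lTensor A' (Algebra.lsmul A A M' y) (φ (u ⊗ₜ[A] z)))
    (hcoc : ∀ (u : M') (a b : A'),
      LinearMap.lTensor A' φ (TensorProduct.assoc A A' M' A' (LinearMap.rTensor A' φ ((u ⊗ₜ[A] a) ⊗ₜ[A] b))) =
        LinearMap.lTensor A' (TensorProduct.mk A A' M' a) (φ (u ⊗ₜ[A] b)))
    (M : Submodule A M') (hM : ∀ u : M', u ∈ M ↔ φ (u ⊗ₜ[A] (1 : A')) = (1 : A') ⊗ₜ[A] u) :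
    Function.Bijective
      ((TensorProduct.lift (Algebra.lsmul A A M').toLinearMap) ∘ₗ (LinearMap.lTensor A' M.subtype)) := by
  let m : A' ⊗[A] M' →ₗ[A] M' := TensorProduct.lift (Algebra.lsmul A A M').toLinearMap
  have hm : ∀ (x : A') (u : M'), m (x ⊗ₜ[A] u) = x • u := fun x u => rfl
  let α : M' →ₗ[A] A' ⊗[A] M' := φ ∘ₗ (TensorProduct.mk A M' A').flip 1
  let β : M' →ₗ[A] A' ⊗[A] M' := TensorProduct.mk A A' M' 1
  have hα : ∀ u, α u = φ (u ⊗ₜ[A] (1 : A')) := fun u => rfl
  have hmr : ∀ (x : A') (z : A' ⊗[A] M'),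
      m (LinearMap.rTensor M' (LinearMap.mulLeft A x) z) = x • m z := by
    intro x z
    induction z using TensorProduct.induction_on with
    | zero => simp
    | tmul a b => simp [hm, smul_smul]
    | add a b ha hb => simp [ha, hb]
  have hml : ∀ (x : A') (z : A' ⊗[A] M'),
      m (LinearMap.lTensor A' (Algebra.lsmul A A M' x) z) = x • m z := by
    intro x z
    induction z using TensorProduct.induction_on with
    | zero => simp
    | tmul a b => simp [hm, smul_smul, mul_comm a x]
    | add a b ha hb => simp [ha, hb]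
  let e : M' →ₗ[A'] M' :=
    { toFun := fun u => m (α u)
      map_add' := fun u v => by simp
      map_smul' := fun x u => by
        simp only [hα, h1, hmr, RingHom.id_apply] }
  have hz : ∀ (u : M') (z : A'), φ (u ⊗ₜ[A] z) = LinearMap.lTensor A' (Algebra.lsmul A A M' z) (α u) := by
    intro u z
    rw [hα, ← h2, mul_one]
  have hme : ∀ (u : M') (z : A'), m (φ (u ⊗ₜ[A] z)) = z • e u := fun u z => by
    rw [hz, hml]; rfl
  have hc : ∀ z : A' ⊗[A] M', LinearMap.lTensor A' φ
      (TensorProduct.assoc A A' M' A' (z ⊗ₜ[A] (1 : A'))) = LinearMap.lTensor A' α z := by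
    intro z
    induction z using TensorProduct.induction_on with
    | zero => simp
    | tmul a b => simp [hα]
    | add a b ha hb => rw [TensorProduct.add_tmul, map_add, map_add, map_add, ha, hb]
  have hco : ∀ u, LinearMap.lTensor A' α (α u) = LinearMap.lTensor A' β (α u) := fun u => by
    have := hcoc u 1 1
    rwa [LinearMap.rTensor_tmul, hc, ← hα] at this
  have he1 : ∀ u, LinearMap.lTensor A' (e.restrictScalars A) (α u) = α u := fun u => by
    have h := congrArg (LinearMap.lTensor A' m) (hco u)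
    rw [← LinearMap.lTensor_comp_apply, ← LinearMap.lTensor_comp_apply,
      show m ∘ₗ α = e.restrictScalars A from rfl,
      show m ∘ₗ β = LinearMap.id from LinearMap.ext fun v => by simp [β, hm]] at h
    simpa using h
  have he : ∀ z : A' ⊗[A] M', LinearMap.lTensor A' (e.restrictScalars A) z = z := by
    intro z
    obtain ⟨w, rfl⟩ := hφ.2 z
    induction w using TensorProduct.induction_on with
    | zero => simp
    | tmul u a =>
      rw [hz]
      conv_rhs => rw [← he1 u]
      rw [← LinearMap.lTensor_comp_apply, ← LinearMap.lTensor_comp_apply]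
      congr 2
      exact LinearMap.ext fun v => map_smul e a v
    | add a b ha hb => rw [map_add, map_add, ha, hb]
  have hid : ∀ u, m (α u) = u := fun u =>
    (Module.FaithfullyFlat.tensorProduct_mk_injective (A := A) (B := A') M'
      (show (1 : A') ⊗ₜ[A] e u = (1 : A') ⊗ₜ[A] u from (LinearMap.lTensor_tmul _ _ _ _).symm.trans (he _)))
  have hex : Function.Exact M.subtype (α - β) := fun u => by
    rw [LinearMap.sub_apply, sub_eq_zero, hα]
    exact ⟨fun h => ⟨⟨u, (hM u).2 h⟩, rfl⟩, by rintro ⟨v, rfl⟩; exact (hM v).1 v.2⟩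
  have hexT := Module.Flat.lTensor_exact A' hex
  have hαl : α ∘ₗ (m ∘ₗ LinearMap.lTensor A' M.subtype) = LinearMap.lTensor A' M.subtype := by
    refine TensorProduct.ext' fun x u => ?_
    simp only [LinearMap.comp_apply, LinearMap.lTensor_tmul, Submodule.subtype_apply, hm, hα, h1,
      (hM u).1 u.2, LinearMap.rTensor_tmul, LinearMap.mulLeft_apply, mul_one]
  constructor
  · intro a b hab
    apply Module.Flat.lTensor_preserves_injective_linearMap M.subtype M.injective_subtype
    rw [← hαl, LinearMap.comp_apply, LinearMap.comp_apply]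
    exact congrArg α hab
  · intro u
    obtain ⟨z, hz⟩ := (hexT (α u)).1 (by
      rw [LinearMap.lTensor_sub, LinearMap.sub_apply, sub_eq_zero]
      exact hco u)
    exact ⟨z, (congrArg m hz).trans (hid u)⟩

end Groth.Agent.S19547
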