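import Groth.Statements.S19548
import Groth.Agent.RootWord.Basic
-- import your own Groth.Agent.* helpers here

set_option autoImplicit false
universe u
open CategoryTheory AlgebraicGeometry
open RedSub

namespace Groth.Agent.S19548

/-- Let Φ be a finite reduced root system (a reduced root pairing over ℤ on a finite index set) with a
base b, let w = σ_{α_1} ⋯ σ_{α_ℓ} be a reduced decomposition of a Weyl group element into simple
reflections (every α_j in the base, and no shorter word in the simple reflections gives the same
permutation of the roots), and let γ be a positive root with w⁻¹(γ) negative. Then for some i with 1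
≤ i ≤ ℓ one has σ_γ σ_{α_1} ⋯ σ_{α_i} = σ_{α_1} ⋯ σ_{α_{i-1}}. (Indices are shifted by one below:
the word is a list and the prefixes are its first i + 1 and first i letters.) -/
theorem result {idx M N : Type}
    [AddCommGroup M] [AddCommGroup N] [Finite idx]
    (P : RootPairing idx ℤ M N) [P.IsReduced] (b : P.Base) (l : List idx)
    (hl : ∀ a ∈ l, a ∈ b.support)
    (hred : ∀ l' : List idx, (∀ a ∈ l', a ∈ b.support) →
      RedSub.wordPerm P l' = RedSub.wordPerm P l → l.length ≤ l'.length)
    (c : idx) (hc : c ∈ RedSub.posRoots P b) (hneg : (RedSub.wordPerm P l).symm c ∈ RedSub.negRoots P b) :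
    ∃ i : ℕ, i < l.length ∧
      P.reflectionPerm c * RedSub.wordPerm P (l.take (i + 1)) = RedSub.wordPerm P (l.take i) := by
  classical
  open Groth.Agent.RootWord.Basic in
  have hex : ∃ j, j ≤ l.length ∧ ¬ b.IsPos ((RedSub.wordPerm P (l.take j)).symm c) :=
    ⟨l.length, le_rfl, by rwa [List.take_length, ← mem_negRoots_iff]⟩
  obtain ⟨hj, hjn⟩ := Nat.find_spec hex
  have hcpos : b.IsPos c := (Groth.Agent.RootWord.Basic.mem_posRoots_iff b c).mp hc
  obtain ⟨i, hi⟩ : ∃ i, Nat.find hex = i + 1 :=
    Nat.exists_eq_succ_of_ne_zero fun h0 => by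
      rw [h0] at hjn
      exact hjn (by simpa [RedSub.wordPerm, Equiv.Perm.one_def] using hcpos)
  rw [hi] at hj hjn
  have hilt : i < l.length := hj
  have hci : b.IsPos ((RedSub.wordPerm P (l.take i)).symm c) := by
    by_contra h
    have := Nat.find_min' hex ⟨hilt.le, h⟩
    omega
  set d := (RedSub.wordPerm P (l.take i)).symm c with hd
  have hstep := Groth.Agent.RootWord.Basic.wordPerm_take_succ (P := P) l hilt
  have hd' : d = l[i] := by
    by_contra hne
    apply hjn
    have := hci.reflectionPerm (hl _ (List.getElem_mem hilt)) hne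
    rw [hstep, Equiv.Perm.mul_def, Equiv.symm_trans_apply, P.reflectionPerm_symm, ← hd]
    exact this
  have hc' : c = RedSub.wordPerm P (l.take i) l[i] := by rw [← hd', hd]; simp
  refine ⟨i, hilt, ?_⟩
  rw [hstep, hc', Groth.Agent.RootWord.Basic.reflectionPerm_wordPerm]
  rw [mul_assoc, inv_mul_cancel_left, mul_assoc,
    ← sq, P.reflectionPerm_sq, mul_one]

end Groth.Agent.S19548
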