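import Groth.Statements.S19551
import Groth.Agent.KronMod.Basic

set_option autoImplicit false
universe u v w
open KronMod

namespace Groth.Agent.S19551

/-- Case of two arrows. Over an algebraically closed field K, if a Kronecker module f = (f_0, f_1) with
two arrows between spaces V and W of the same finite dimension k is semistable, then some linear
combination z_0 f_0 + z_1 f_1 of its arrows is a linear isomorphism V → W: for two arrows the
semistable locus of dimension vector (k, k) lies in the open set of modules whose generic
combination is invertible, for every k. (The published statement, over an algebraically closed field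
of characteristic zero, also covers the dimension vectors (1, 1) and (2, 2) for any number of
arrows; this row states the two-arrow case for all k, without the characteristic assumption.) -/
theorem result (K : Type u) [Field K] [IsAlgClosed K]
    (V : Type v) (W : Type w)
    [AddCommGroup V] [Module K V] [FiniteDimensional K V]
    [AddCommGroup W] [Module K W] [FiniteDimensional K W]
    (f : Fin 2 → (V →ₗ[K] W)) (k : ℕ)
    (hV : Module.finrank K V = k) (hW : Module.finrank K W = k)
    (hf : KronMod.IsSemistable f) :
    ∃ z : Fin 2 → K, Function.Bijective ((∑ j, z j • f j : V →ₗ[K] W) : V → W) := by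
  classical
  rcases Nat.eq_zero_or_pos k with hk | hk
  · subst hk
    haveI : Subsingleton V := Module.finrank_zero_iff.1 hV
    haveI : Subsingleton W := Module.finrank_zero_iff.1 hW
    exact ⟨0, fun a b _ => Subsingleton.elim a b, fun b => ⟨0, Subsingleton.elim _ _⟩⟩
  by_contra hne
  push_neg at hne
  open Polynomial in
  let bV := Module.finBasisOfFinrankEq K V hV
  open Polynomial in
  let bW := Module.finBasisOfFinrankEq K W hW
  let A := LinearMap.toMatrix bV bW (f 0)
  let B := LinearMap.toMatrix bV bW (f 1)
  let M : Matrix (Fin k) (Fin k) (Polynomial K) :=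
    A.map Polynomial.C + (Polynomial.X : Polynomial K) • B.map Polynomial.C
  have hdet : M.det = 0 := by
    refine Polynomial.zero_of_eval_zero _ fun t => ?_
    by_contra hdt
    have he : M.map (Polynomial.evalRingHom t) = A + t • B := by
      ext i j; simp [M, Matrix.map_apply]; ring
    have hd : (A + t • B).det ≠ 0 := by
      rw [← he]
      have := RingHom.map_det (Polynomial.evalRingHom t) M
      rw [RingHom.mapMatrix_apply] at this
      rw [← this]; exact hdt
    have hinj : Function.Injective (∑ j, ![(1 : K), t] j • f j : V →ₗ[K] W) := by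
      have hL : (∑ j, ![(1 : K), t] j • f j : V →ₗ[K] W) = f 0 + t • f 1 := by
        simp [Fin.sum_univ_two]
      rw [hL, ← LinearMap.ker_eq_bot, Submodule.eq_bot_iff]
      intro x hx
      have h1 := LinearMap.toMatrix_mulVec_repr bV bW (f 0 + t • f 1) x
      rw [LinearMap.mem_ker.1 hx, map_add, map_smul, map_zero, Finsupp.coe_zero] at h1
      have h2 : (bV.repr x : Fin k → K) = 0 := by
        by_contra hh
        exact hd (Matrix.exists_mulVec_eq_zero_iff.1 ⟨_, hh, h1⟩)
      have : bV.repr x = 0 := DFunLike.coe_injective h2
      simpa using this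
    exact hne _ ⟨hinj, (LinearMap.injective_iff_surjective_of_finrank_eq_finrank (by omega)).1 hinj⟩
  obtain ⟨v, hv0, hv⟩ := Matrix.exists_mulVec_eq_zero_iff.2 hdet
  -- coefficient vectors
  let c : ℕ → V := fun i => bV.equivFun.symm fun j => (v j).coeff i
  have hA : ∀ i, A.mulVec (fun j => (v j).coeff i) = bW.equivFun (f 0 (c i)) := by
    intro i
    have h1 := LinearMap.toMatrix_mulVec_repr bV bW (f 0) (c i)
    have h2 : (bV.repr (c i) : Fin k → K) = fun j => (v j).coeff i :=
      bV.equivFun.apply_symm_apply _
    rw [h2] at h1
    exact h1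
  have hB : ∀ i, B.mulVec (fun j => (v j).coeff i) = bW.equivFun (f 1 (c i)) := by
    intro i
    have h1 := LinearMap.toMatrix_mulVec_repr bV bW (f 1) (c i)
    have h2 : (bV.repr (c i) : Fin k → K) = fun j => (v j).coeff i :=
      bV.equivFun.apply_symm_apply _
    rw [h2] at h1
    exact h1
  have hrow : ∀ r, (∑ j, Polynomial.C (A r j) * v j) +
      Polynomial.X * (∑ j, Polynomial.C (B r j) * v j) = 0 := by
    intro r
    have h1 := congrFun hv r
    simp only [M, Matrix.mulVec, dotProduct, Matrix.add_apply, Matrix.smul_apply, Matrix.map_apply,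
      smul_eq_mul, Pi.zero_apply, add_mul, Finset.sum_add_distrib] at h1
    rw [Finset.mul_sum]
    simp only [← mul_assoc]
    exact h1
  have e0 : f 0 (c 0) = 0 := by
    apply bW.equivFun.injective
    rw [map_zero, ← hA]
    funext r
    have h1 := congrArg (fun p => Polynomial.coeff p 0) (hrow r)
    simp only [Polynomial.coeff_add, Polynomial.finsetSum_coeff, Polynomial.coeff_C_mul,
      Polynomial.coeff_X_mul_zero, add_zero, Polynomial.coeff_zero] at h1
    simpa [Matrix.mulVec, dotProduct] using h1
  have es : ∀ i, f 1 (c i) = f 0 (-c (i + 1)) := by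
    intro i
    apply bW.equivFun.injective
    rw [map_neg, map_neg, ← hA, ← hB]
    funext r
    have h1 := congrArg (fun p => Polynomial.coeff p (i + 1)) (hrow r)
    simp only [Polynomial.coeff_add, Polynomial.finsetSum_coeff, Polynomial.coeff_C_mul,
      Polynomial.coeff_X_mul, Polynomial.coeff_zero] at h1
    simp only [Pi.neg_apply, Matrix.mulVec, dotProduct]
    linear_combination h1
  have hex : ∃ i, c i ≠ 0 := by
    by_contra hh
    push_neg at hh
    apply hv0
    funext j
    ext i
    have := bV.equivFun.symm.injective ((hh i).trans (map_zero bV.equivFun.symm).symm)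
    simpa using congrFun this j
  let V' : Submodule K V := Submodule.span K (Set.range c)
  have hsub : KronMod.IsSubrep f V' (V'.map (f 0)) := by
    intro j
    rw [Submodule.map_span_le]
    rintro _ ⟨i, rfl⟩
    fin_cases j
    · exact ⟨c i, Submodule.subset_span ⟨i, rfl⟩, rfl⟩
    · exact ⟨-c (i + 1), neg_mem (Submodule.subset_span ⟨i + 1, rfl⟩), (es i).symm⟩
  obtain ⟨i, hi, hmin⟩ : ∃ i, c i ≠ 0 ∧ ∀ l < i, c l = 0 :=
    ⟨Nat.find hex, Nat.find_spec hex, fun l hl => not_not.1 (Nat.find_min hex hl)⟩
  have hker : f 0 (c i) = 0 := by
    rcases i with _ | i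
    · exact e0
    · have := es i
      rw [hmin i (Nat.lt_succ_self i), map_zero, map_neg, eq_comm, neg_eq_zero] at this
      exact this
  have hmem : c i ∈ V' := Submodule.subset_span ⟨i, rfl⟩
  have hlt : Module.finrank K (V'.map (f 0)) < Module.finrank K V' := by
    have h1 := LinearMap.finrank_range_add_finrank_ker (f 0 ∘ₗ V'.subtype)
    rw [LinearMap.range_comp, Submodule.range_subtype] at h1
    have h2 : 0 < Module.finrank K (LinearMap.ker (f 0 ∘ₗ V'.subtype)) := by
      refine Nat.pos_of_ne_zero fun e => hi ?_
      have h3 := Submodule.finrank_eq_zero.1 e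
      have : (⟨c i, hmem⟩ : V') ∈ LinearMap.ker (f 0 ∘ₗ V'.subtype) := by simpa using hker
      rw [h3] at this
      simpa using this
    omega
  have h3 := hf.2 _ _ hsub (fun e => hi (by simpa [e.1] using hmem))
    (fun e => by rw [e.2, e.1, finrank_top, finrank_top] at hlt; omega)
  rw [hV, hW] at h3
  have := Nat.le_of_mul_le_mul_left h3 hk
  omega

end Groth.Agent.S19551
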