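import Groth.Statements.S19552
import Groth.Agent.CAlg99.BassCancel
-- import your own Groth.Agent.* helpers here

set_option autoImplicit false
universe u
open CAlg

namespace Groth.Agent.S19552

/-- Functions into a product. -/
def piProd (R A B : Type u) [CommRing R] [AddCommGroup A] [Module R A] [AddCommGroup B] [Module R B]
    (N : ℕ) : (Fin N → A × B) ≃ₗ[R] (Fin N → A) × (Fin N → B) where
  toFun f := (fun i => (f i).1, fun i => (f i).2)
  invFun g i := (g.1 i, g.2 i)
  map_add' _ _ := rfl
  map_smul' _ _ := rfl
  left_inv _ := rfl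
  right_inv _ := rfl

/-- Let R be a Noetherian ring of Krull dimension d and P, Q finitely generated projective R-modules of
constant rank at every prime which have the same class in the Grothendieck group, i.e. are stably
isomorphic: P ⊕ R^m ≅ Q ⊕ R^m for some m. Then there is a positive integer N with P^N ≅ Q^N. (The
two exponents in the published display are read as the same integer N; for modules of positive rank
an isomorphism between direct powers forces equal exponents.) -/
theorem result (R : Type u) [CommRing R] [IsNoetherianRing R]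
    (d n : ℕ) (hdim : ringKrullDim R = d)
    (P Q : Type u) [AddCommGroup P] [Module R P] [Module.Finite R P] [Module.Projective R P]
    [AddCommGroup Q] [Module R Q] [Module.Finite R Q] [Module.Projective R Q]
    (hrk : ∀ p : PrimeSpectrum R, Module.rankAtStalk (R := R) P p = n)
    (hrk' : ∀ p : PrimeSpectrum R, Module.rankAtStalk (R := R) Q p = n)
    (m : ℕ) (e : (P × (Fin m → R)) ≃ₗ[R] (Q × (Fin m → R))) :
    ∃ N : ℕ, 1 ≤ N ∧ Nonempty ((Fin N → P) ≃ₗ[R] (Fin N → Q)) := by
  classical
  rcases Nat.eq_zero_or_pos n with rfl | hn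
  · haveI : Module.Flat R P := inferInstance
    have hP : Subsingleton P := Module.rankAtStalk_eq_zero_iff_subsingleton.mp (funext hrk)
    have hQ : Subsingleton Q := Module.rankAtStalk_eq_zero_iff_subsingleton.mp (funext hrk')
    exact ⟨1, le_rfl, ⟨LinearEquiv.ofSubsingleton _ _⟩⟩
  refine ⟨d + 1, Nat.le_add_left 1 d, ?_⟩
  let N := d + 1
  have e1 : ((Fin N → P) × (Fin (N * m) → R)) ≃ₗ[R] ((Fin N → Q) × (Fin (N * m) → R)) := by
    let c : (Fin N → Fin m → R) ≃ₗ[R] (Fin (N * m) → R) :=
      (LinearEquiv.curry R R (Fin N) (Fin m)).symm.trans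
        (LinearEquiv.funCongrLeft R R finProdFinEquiv.symm)
    exact ((LinearEquiv.prodCongr (LinearEquiv.refl R _) c.symm).trans
      (Groth.Agent.S19552.piProd R P (Fin m → R) N).symm).trans
      ((LinearEquiv.piCongrRight fun _ => e).trans
      ((Groth.Agent.S19552.piProd R Q (Fin m → R) N).trans
        (LinearEquiv.prodCongr (LinearEquiv.refl R _) c)))
  haveI : Module.Projective R (Fin N → P) :=
    Module.Projective.of_equiv (DFinsupp.linearEquivFunOnFintype (R := R) (M := fun _ : Fin N => P))
  refine Groth.Agent.CAlg99.BassCancel.cancel hdim.le (fun p => ?_) _ e1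
  rw [Module.rankAtStalk_pi, finsum_eq_sum_of_fintype]
  simp only [hrk, Finset.sum_const, Finset.card_univ, Fintype.card_fin, smul_eq_mul]
  exact Nat.le_mul_of_pos_right _ hn

end Groth.Agent.S19552
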