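import Groth.Statements.S19554
import Groth.Agent.EtLocConstSets.Triv
import Groth.Agent.EtaleSite.RepSh
import Groth.Agent.FEtCat.Count

set_option autoImplicit false
set_option linter.style.haveILetI false
set_option backward.isDefEq.respectTransparency.types false
universe u
open CategoryTheory AlgebraicGeometry
open CohProp

namespace Groth.Agent.S19554


open CategoryTheory CategoryTheory.Limits AlgebraicGeometry Opposite Groth.Agent.EtaleSite Groth.Agent.EtLocConstSets

variable {X : Scheme.{u}}

/-- A point lifting through the image of a section of an étale morphism factors through the section. -/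
theorem eq_comp_section {P B : Scheme.{u}} (p : P ⟶ B) [Etale p] (τ : B ⟶ P) (hτ : τ ≫ p = 𝟙 B)
    {T : Scheme.{u}} (z : T ⟶ P) (hr : Set.range z ⊆ Set.range τ) : z = (z ≫ p) ≫ τ := by
  haveI : Etale (τ ≫ p) := hτ.symm ▸ inferInstance
  haveI : Etale τ := Etale.of_comp τ p
  haveI : IsSplitMono τ := IsSplitMono.mk' ⟨p, hτ⟩
  haveI : IsOpenImmersion τ := IsOpenImmersion.of_flat_of_mono τ
  have h := IsOpenImmersion.lift_fac τ z hr
  have h' : IsOpenImmersion.lift τ z hr = z ≫ p :=
    ((Category.comp_id _).symm.trans (congrArg (_ ≫ ·) hτ.symm)).trans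
      ((Category.assoc _ _ _).symm.trans (congrArg (· ≫ p) h))
  exact h.symm.trans (congrArg (· ≫ τ) h')

set_option maxHeartbeats 800000 in
/-- Near every geometric point the sections of a finite étale scheme realise the geometric fibres. -/
theorem exists_trivialization (U : X.Etale) [IsFinite U.hom] (Ω : Type u) [Field Ω] [IsSepClosed Ω]
    (ξ : Spec (CommRingCat.of Ω) ⟶ X) :
    ∃ (W : X.Etale) (_ : (Scheme.pointSmallEtale ξ).fiber.obj W) (M : Type u) (_ : Finite M) (σ : M → (W ⟶ U)),
      ∀ (Ω' : Type u) [Field Ω'] [IsSepClosed Ω'] (ξ' : Spec (CommRingCat.of Ω') ⟶ X)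
        (φ : (Scheme.pointSmallEtale ξ').fiber.obj W),
        Function.Bijective fun i => (Scheme.pointSmallEtale ξ').fiber.map (σ i) φ := by
  classical
  haveI : Etale U.hom := U.prop
  let M := (Scheme.pointSmallEtale ξ).fiber.obj U
  haveI : Finite (Groth.Agent.FEtCat.Count.Sec U.hom ξ) := Groth.Agent.FEtCat.Count.finite_sec U.hom ξ
  haveI : Finite M := Finite.of_injective
    (fun u => (⟨u.left, Over.w u⟩ : Groth.Agent.FEtCat.Count.Sec U.hom ξ))
    (fun a b e => Over.OverMorphism.ext (congrArg Subtype.val e))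
  haveI := Fintype.ofFinite M
  let el : M → _ := fun u => (Scheme.pointSmallEtale ξ).fiber.elementsMk _ u
  obtain ⟨z, hz⟩ := IsCofiltered.inf_objs_exists (Finset.univ.image el)
  choose f hf using fun u : M => (⟨(hz (Finset.mem_image_of_mem el (Finset.mem_univ u))).some, trivial⟩ :
    ∃ _ : z ⟶ el u, True)
  obtain ⟨W, w₀⟩ := z
  let σ : M → (W ⟶ U) := fun u => (f u).1
  have hσ : ∀ u, (Scheme.pointSmallEtale ξ).fiber.map (σ u) w₀ = u := fun u => (f u).2
  haveI : Etale W.hom := W.prop
  let Wl : Scheme.{u} := W.left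
  let P : Scheme.{u} := pullback W.hom U.hom
  let p : P ⟶ W.left := pullback.fst W.hom U.hom
  haveI : IsFinite p := MorphismProperty.pullback_fst W.hom U.hom ‹IsFinite U.hom›
  haveI : Etale p := MorphismProperty.pullback_fst W.hom U.hom ‹Etale U.hom›
  let τ : M → (W.left ⟶ P) := fun u =>
    pullback.lift (𝟙 _) (σ u).left ((Category.id_comp _).trans (MorphismProperty.Over.w (σ u)).symm)
  have hτ : ∀ u, τ u ≫ p = 𝟙 _ := fun u => pullback.lift_fst _ _ _
  have hτs : ∀ u, τ u ≫ pullback.snd W.hom U.hom = (σ u).left := fun u => pullback.lift_snd _ _ _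
  have hτo : ∀ u, IsOpen (Set.range (τ u)) := fun u => by
    haveI : Etale (τ u ≫ p) := (hτ u).symm ▸ inferInstance
    haveI : Etale (τ u) := Etale.of_comp _ p
    exact (τ u).isOpenMap.isOpen_range
  have hτc : ∀ u, IsClosed (Set.range (τ u)) := fun u => by
    haveI : IsClosedImmersion (τ u ≫ p) := (hτ u).symm ▸ inferInstance
    haveI : IsClosedImmersion (τ u) := IsClosedImmersion.of_comp (τ u) p
    exact (τ u).isClosedEmbedding.isClosed_range
  have hpt : ∀ (u : M) (x : W.left), p (τ u x) = x := fun u x => by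
    rw [← Scheme.Hom.comp_apply, hτ]
    rfl
  let E : Set P := ⋃ u, Set.range (τ u)
  let bad₁ : Set W.left := p '' Eᶜ
  let bad₂ : Set W.left := ⋃ uv : {uv : M × M // uv.1 ≠ uv.2}, (τ uv.1.1) ⁻¹' Set.range (τ uv.1.2)
  have hbad : IsClosed (bad₁ ∪ bad₂) := by
    refine IsClosed.union (p.isClosedMap _ (isOpen_iUnion hτo).isClosed_compl) ?_
    exact isClosed_iUnion_of_finite fun uv => (hτc _).preimage (τ uv.1.1).continuous
  let o : W.left := w₀.left (default : Spec (CommRingCat.of Ω))
  have hgood : o ∉ bad₁ ∪ bad₂ := by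
    rintro (⟨q, hq, hqo⟩ | hb)
    · obtain ⟨s, hs⟩ := Groth.Agent.FEtCat.Count.exists_sec_apply_eq p w₀.left q hqo
      let v : M := (Over.homMk (s.1 ≫ pullback.snd W.hom U.hom) (by
        refine (Category.assoc _ _ _).trans ((congrArg (s.1 ≫ ·) pullback.condition.symm).trans ?_)
        exact ((Category.assoc _ _ _).symm.trans (congrArg (· ≫ W.hom) s.2)).trans (Over.w w₀)) :
        Over.mk ξ ⟶ (Scheme.Etale.forget X).obj U)
      have e : w₀.left ≫ τ v = s.1 := by
        refine pullback.hom_ext ?_ ?_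
        · exact ((Category.assoc _ _ _).trans ((congrArg (w₀.left ≫ ·) (hτ v)).trans (Category.comp_id _))).trans
            s.2.symm
        · refine (Category.assoc _ _ _).trans ((congrArg (w₀.left ≫ ·) (hτs v)).trans ?_)
          exact congrArg (fun k : (Scheme.pointSmallEtale ξ).fiber.obj U => k.left) (hσ v)
      exact hq (Set.mem_iUnion.2 ⟨v, o, (congrArg (fun k : Spec (CommRingCat.of Ω) ⟶ P => k default) e).trans hs⟩)
    · obtain ⟨⟨⟨a, b⟩, hab⟩, hm⟩ := Set.mem_iUnion.1 hb
      refine hab ?_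
      have h := eq_comp_section p (τ b) (hτ b) (w₀.left ≫ τ a) (by
        rintro _ ⟨t, rfl⟩
        rw [Subsingleton.elim (α := Spec (CommRingCat.of Ω)) t default]
        exact hm)
      have ha : ∀ c, (w₀.left ≫ τ c) ≫ pullback.snd W.hom U.hom =
          ((Scheme.pointSmallEtale ξ).fiber.map (σ c) w₀).left := fun c =>
        (Category.assoc _ _ _).trans (congrArg (w₀.left ≫ ·) (hτs c))
      have h' := congrArg (· ≫ pullback.snd W.hom U.hom) (h.trans (congrArg (· ≫ τ b)
        ((Category.assoc _ _ _).trans ((congrArg (w₀.left ≫ ·) (hτ a)).trans (Category.comp_id _)))))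
      rw [← hσ a, ← hσ b]
      exact Over.OverMorphism.ext ((ha a).symm.trans (h'.trans (ha b)))
  let O : Wl.Opens := ⟨(bad₁ ∪ bad₂)ᶜ, hbad.isOpen_compl⟩
  haveI hOi : IsOpenImmersion O.ι := inferInstance
  let W' : X.Etale := Scheme.Etale.mk (O.ι ≫ W.hom)
  let j : W' ⟶ W := MorphismProperty.Over.homMk O.ι rfl trivial
  have hr : Set.range w₀.left ⊆ Set.range O.ι := by
    rintro _ ⟨t, rfl⟩
    rw [Subsingleton.elim (α := Spec (CommRingCat.of Ω)) t default]
    exact O.range_ι.symm ▸ hgood
  let w₁ : (Scheme.pointSmallEtale ξ).fiber.obj W' :=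
    (Over.homMk (IsOpenImmersion.lift (H := hOi) O.ι w₀.left hr)
      (((Category.assoc _ _ _).symm.trans (congrArg (· ≫ W.hom) (IsOpenImmersion.lift_fac (H := hOi) O.ι w₀.left hr))).trans
        (Over.w w₀)) : Over.mk ξ ⟶ (Scheme.Etale.forget X).obj W')
  refine ⟨W', w₁, M, inferInstance, fun u => j ≫ σ u, fun Ω' _ _ ξ' φ => ?_⟩
  let φl : Spec (CommRingCat.of Ω') ⟶ O.toScheme := φ.left
  let x : Spec (CommRingCat.of Ω') ⟶ W.left := φl ≫ O.ι
  have hxO : x default ∉ bad₁ ∪ bad₂ := (φl default).2
  have hmap : ∀ u, ((Scheme.pointSmallEtale ξ').fiber.map (j ≫ σ u) φ).left =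
      (x ≫ τ u) ≫ pullback.snd W.hom U.hom := fun u => by
    rw [Category.assoc, hτs]
    exact (Category.assoc _ _ _).symm
  refine ⟨fun a b e => ?_, fun v => ?_⟩
  · by_contra hab
    have e' := ((hmap a).symm.trans (congrArg (fun k : (Scheme.pointSmallEtale ξ').fiber.obj U => k.left) e)).trans
      (hmap b)
    have hxy : x ≫ τ a = x ≫ τ b := pullback.hom_ext
      (((Category.assoc _ _ _).trans (congrArg (x ≫ ·) (hτ a))).trans
        ((Category.assoc _ _ _).trans (congrArg (x ≫ ·) (hτ b))).symm) e'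
    exact hxO (Or.inr (Set.mem_iUnion.2 ⟨⟨(a, b), hab⟩, x default,
      (congrArg (fun k : Spec (CommRingCat.of Ω') ⟶ P => k default) hxy).symm⟩))
  · have hv : x ≫ W.hom = v.left ≫ U.hom :=
      ((Category.assoc _ _ _).trans (Over.w φ)).trans (Over.w v).symm
    let zv : Spec (CommRingCat.of Ω') ⟶ P := pullback.lift x v.left hv
    have hzp : zv ≫ p = x := pullback.lift_fst _ _ _
    have hE : zv default ∈ E := by
      by_contra hn
      exact hxO (Or.inl ⟨_, hn, congrArg (fun k : Spec (CommRingCat.of Ω') ⟶ W.left => k default) hzp⟩)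
    obtain ⟨u, hu⟩ := Set.mem_iUnion.1 hE
    refine ⟨u, Over.OverMorphism.ext ?_⟩
    refine (hmap u).trans ?_
    have h := eq_comp_section p (τ u) (hτ u) zv (by
      rintro _ ⟨t, rfl⟩
      rw [Subsingleton.elim (α := Spec (CommRingCat.of Ω')) t default]
      exact hu)
    rw [hzp] at h
    rw [← h]
    exact pullback.lift_snd _ _ _

/-- Sections of a finite étale scheme realising the fibres trivialise its sheaf of sets. -/
theorem isTriv_repSh (U W : X.Etale) {M : Type u} (σ : M → (W ⟶ U))
    (hb : ∀ (Ω' : Type u) [Field Ω'] [IsSepClosed Ω'] (ξ' : Spec (CommRingCat.of Ω') ⟶ X)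
      (φ : (Scheme.pointSmallEtale ξ').fiber.obj W),
      Function.Bijective fun i => (Scheme.pointSmallEtale ξ').fiber.map (σ i) φ) :
    IsTriv (EtDesc.repSh U) W (ULift.{u + 1} M) fun i => (RepSh.sectEquiv U W).symm (σ i.down) := by
  intro V g Ω _ _ ξ φ
  have hres : ∀ {V' : X.Etale} (k : V' ⟶ W) (i : ULift.{u + 1} M),
      RepSh.sectEquiv U V' ((EtDesc.repSh U).obj.map k.op ((RepSh.sectEquiv U W).symm (σ i.down))) = k ≫ σ i.down :=
    fun k i => by rw [RepSh.sectEquiv_map, Equiv.apply_symm_apply]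
  refine ⟨fun a b e => ?_, fun s => ?_⟩
  · have e' := congrArg (RepSh.sectEquiv U V) e
    rw [hres, hres] at e'
    refine ULift.ext _ _ ((hb Ω ξ ((Scheme.pointSmallEtale ξ).fiber.map g φ)).1 ?_)
    show (Scheme.pointSmallEtale ξ).fiber.map (σ a.down) _ = (Scheme.pointSmallEtale ξ).fiber.map (σ b.down) _
    rw [← ConcreteCategory.comp_apply, ← ConcreteCategory.comp_apply, ← Functor.map_comp, ← Functor.map_comp, e']
  · let t := RepSh.sectEquiv U V s
    obtain ⟨i, hi⟩ := (hb Ω ξ ((Scheme.pointSmallEtale ξ).fiber.map g φ)).2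
      ((Scheme.pointSmallEtale ξ).fiber.map t φ)
    have hi' : (Scheme.pointSmallEtale ξ).fiber.map (g ≫ σ i) φ = (Scheme.pointSmallEtale ξ).fiber.map t φ := by
      rw [Functor.map_comp]
      exact hi
    let f₁ : (Scheme.pointSmallEtale ξ).fiber.elementsMk _ φ ⟶
        (Scheme.pointSmallEtale ξ).fiber.elementsMk _ ((Scheme.pointSmallEtale ξ).fiber.map t φ) :=
      CategoryOfElements.homMk _ _ (g ≫ σ i) hi'
    let f₂ : (Scheme.pointSmallEtale ξ).fiber.elementsMk _ φ ⟶
        (Scheme.pointSmallEtale ξ).fiber.elementsMk _ ((Scheme.pointSmallEtale ξ).fiber.map t φ) :=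
      CategoryOfElements.homMk _ _ t rfl
    obtain ⟨y, k, hk⟩ := IsCofilteredOrEmpty.cone_maps f₁ f₂
    refine ⟨y.1, k.1, y.2, ⟨i⟩, k.2, (RepSh.sectEquiv U y.1).injective ?_⟩
    rw [hres, RepSh.sectEquiv_map]
    exact (Category.assoc _ _ _).trans (congrArg Subtype.val hk)

/-- For any scheme S and any finite étale morphism f : X → S, the sheaf of sets h_X on the small étale
site of S attached to the étale S-scheme X is finite locally constant: S admits a jointly surjective
family of étale S-schemes over each member of which h_X becomes isomorphic to a constant sheaf with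
finite value. (This is the first assertion of the published result, that X ↦ h_X sends finite étale
S-schemes to finite locally constant sheaves of sets; the equivalence it goes on to assert is not
stated here.) -/
theorem result (S X : Scheme.{u}) (f : X ⟶ S) [Etale f] [IsFinite f] :
    CohProp.IsFinLocConstSet (EtDesc.repSh (Scheme.Etale.mk f)) := by
  haveI : IsFinite (Scheme.Etale.mk f).hom := ‹IsFinite f›
  choose W w M hM σ hσ using fun s : S => exists_trivialization (Scheme.Etale.mk f) _ (geomPointAt S s)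
  refine ⟨S, W, fun s => ⟨s, (w s).left (default : Spec (CommRingCat.of (SeparableClosure (S.residueField s)))), ?_⟩,
    fun s => ?_⟩
  · exact (congrArg (fun k : Spec (CommRingCat.of (SeparableClosure (S.residueField s))) ⟶ S => k default)
      (Over.w (w s))).trans (geomPointAt_apply S s _)
  · haveI := hM s
    exact ⟨ULift.{u + 1} (M s), inferInstance, nonempty_over_iso_constSh (isTriv_repSh _ _ (σ s) (hσ s))⟩

end Groth.Agent.S19554
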