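import Groth.Statements.S19555
import Groth.Agent.LccRepSets.Global
import Groth.Agent.EtaleSite.RepSh
-- import your own Groth.Agent.* helpers here

set_option autoImplicit false
universe u
open CategoryTheory AlgebraicGeometry
open CohProp

namespace Groth.Agent.S19555

open AlgebraicGeometry CategoryTheory CategoryTheory.Limits Opposite in
theorem isTriv_of_iso {X : Scheme.{u}} {F : EtDesc.Sh X} {W : X.Etale} {M : Type (u + 1)}
    (e : F.over W ≅ (CohProp.constSh X M).over W) :
    ∃ m : M → F.obj.obj (op W), EtLocConstSets.IsTriv F W M m := by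
  let c : M → (CohProp.constSh X M).obj.obj (op W) := fun x =>
    (toSheafify X.smallEtaleTopology ((Functor.const X.Etaleᵒᵖ).obj M)).app (op W) x
  let α {V : X.Etale} (g : V ⟶ W) : (CohProp.constSh X M).obj.obj (op V) → F.obj.obj (op V) :=
    fun s => e.inv.hom.app (op (Over.mk g)) s
  let β {V : X.Etale} (g : V ⟶ W) : F.obj.obj (op V) → (CohProp.constSh X M).obj.obj (op V) :=
    fun s => e.hom.hom.app (op (Over.mk g)) s
  have hαβ : ∀ {V : X.Etale} (g : V ⟶ W) (s), α g (β g s) = s := fun g s =>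
    congrArg (fun k => k.hom.app (op (Over.mk g)) s) e.hom_inv_id
  have hβα : ∀ {V : X.Etale} (g : V ⟶ W) (s), β g (α g s) = s := fun g s =>
    congrArg (fun k => k.hom.app (op (Over.mk g)) s) e.inv_hom_id
  have hnat : ∀ {V V' : X.Etale} (k : V' ⟶ V) (g : V ⟶ W) (s : (CohProp.constSh X M).obj.obj (op V)),
      F.obj.map k.op (α g s) = α (k ≫ g) ((CohProp.constSh X M).obj.map k.op s) := fun k g s =>
    (NatTrans.naturality_apply e.inv.hom
      (Over.homMk k rfl : Over.mk (k ≫ g) ⟶ Over.mk g).op s).symm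
  refine ⟨fun x => α (𝟙 W) (c x), fun V g Ω _ _ ξ φ => ⟨fun x y h => ?_, fun s => ?_⟩⟩
  · refine (EtLocConstSets.isTriv_constSh W M V g Ω ξ φ).1 x y ?_
    rw [hnat g (𝟙 W), hnat g (𝟙 W)] at h
    exact ((hβα _ _).symm.trans (congrArg (β _) h)).trans (hβα _ _)
  · obtain ⟨V', k, φ', x, hk, hx⟩ := (EtLocConstSets.isTriv_constSh W M V g Ω ξ φ).2 (β g s)
    refine ⟨V', k, φ', x, hk, ?_⟩
    rw [hnat (k ≫ g) (𝟙 W), show ((k ≫ g) ≫ 𝟙 W) = k ≫ g from Category.comp_id _]
    refine (congrArg (α (k ≫ g)) hx).trans ?_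
    rw [← hnat k g, hαβ]

/-- For any scheme S, every finite locally constant sheaf of sets F on the small étale site of S is
isomorphic to the sheaf h_U attached to some étale S-scheme U which is finite over S (existence of
an isomorphism F ≅ h_U is what is asserted). Together with the facts that h_U is finite locally
constant for U finite étale over S and that U ↦ h_U is fully faithful, this gives the published
equivalence between finite étale S-schemes and finite locally constant sheaves of sets on the small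
étale site. -/
theorem result (S : Scheme.{u}) (F : EtDesc.Sh S)
    (hF : CohProp.IsFinLocConstSet F) :
    ∃ (U : S.Etale) (_ : IsFinite U.hom), Nonempty (F ≅ EtDesc.repSh U) := by
  classical
  obtain ⟨ι, V, hV, hM⟩ := hF
  have hrep : ∀ i, ∃ (κ : Type u) (_ : Finite κ)
      (x : F.obj.obj (Opposite.op (LccRepLib.sigma fun _ : κ => V i))),
      LccRepSets.Rep F (LccRepLib.sigmaDesc (fun _ : κ => V i) fun _ => 𝟙 (V i)) x := fun i => by
    obtain ⟨M, _, ⟨e⟩⟩ := hM i
    obtain ⟨m, hm⟩ := isTriv_of_iso e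
    obtain ⟨n, ⟨eM⟩⟩ := Finite.exists_equiv_fin M
    exact ⟨ULift.{u} (Fin n), inferInstance,
      LccRepSets.exists_rep_triv F (Equiv.ulift.trans eM.symm) hm⟩
  choose κ hκ x hx using hrep
  obtain ⟨η, hη⟩ := LccRepSets.exists_sigma_sect (fun i => LccRepLib.sigma fun _ : κ i => V i) F x
  have hr := LccRepSets.rep_sigma F V _ _ (fun _ _ => True) (fun _ _ _ => trivial) x hx η hη trivial
  haveI : ∀ i, IsFinite (LccRepLib.sigmaDesc (fun _ : κ i => V i) fun _ => 𝟙 (V i)).left :=
    fun i => LccRepLib.isFinite_fold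
  haveI := LccRepLib.isFinite_sigmaDesc V (fun i => LccRepLib.sigma fun _ : κ i => V i)
    fun i => LccRepLib.sigmaDesc (fun _ : κ i => V i) fun _ => 𝟙 (V i)
  haveI : Surjective (LccRepLib.sigma V).hom := ⟨fun y => by
    obtain ⟨i, v, hv⟩ := hV y
    refine ⟨(LccRepLib.sigmaι V i).left v, ?_⟩
    rw [← hv, ← Scheme.Hom.comp_apply, MorphismProperty.Over.w (LccRepLib.sigmaι V i)]⟩
  obtain ⟨U, hU, η', -, hinj, hsurj⟩ := LccRepSets.exists_repr' hr fun _ _ _ _ => trivial
  let Φ : yoneda.obj U ⋙ uliftFunctor.{u + 1} ≅ F.obj := NatIso.ofComponents (fun W =>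
    (Equiv.ulift.trans (Equiv.ofBijective (fun a : W.unop ⟶ U => LccRepSets.res F a η')
      ⟨fun a b => hinj W.unop a b, fun s => hsurj W.unop s trivial⟩)).toIso) (by
    intro W W' k
    ext a
    exact LccRepSets.res_comp F k.unop a.down η')
  exact ⟨U, hU, ⟨(EtaleSite.RepSh.iso U ≪≫
    (sheafToPresheaf _ _).preimageIso Φ).symm⟩⟩

end Groth.Agent.S19555
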