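import Groth.Statements.S19556
import Mathlib.AlgebraicGeometry.Morphisms.Separated
import Mathlib.AlgebraicGeometry.Morphisms.Finite
import Mathlib.AlgebraicGeometry.Morphisms.Immersion
import Mathlib.AlgebraicGeometry.Morphisms.Proper
-- import your own Groth.Agent.* helpers here

set_option autoImplicit false
universe u
open CategoryTheory CategoryTheory.Limits AlgebraicGeometry
open Mor

namespace Groth.Agent.S19556

/-- Let S be a scheme, p : X → S and q : Y → S schemes over S, and π : X → Y a finite surjective
morphism over S (π ≫ q = p). If X is separated over S then Y is separated over S. (The published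
statement is about the quotient map X → X/G of a scheme by an action of a finite group scheme,
assumed to exist and then finite and surjective; this row keeps of it only a finite surjective
S-morphism π, which is all the argument uses.) -/
theorem result {S X Y : Scheme.{u}} (p : X ⟶ S) (q : Y ⟶ S)
    (π : X ⟶ Y) (hπ : π ≫ q = p) [IsFinite π] [Surjective π] [IsSeparated p] :
    IsSeparated q := by
  subst hπ
  haveI : UniversallyClosed (π ≫ pullback.diagonal q) := by
    rw [show π ≫ pullback.diagonal q = pullback.diagonal (π ≫ q) ≫
        pullback.map (π ≫ q) (π ≫ q) q q π π (𝟙 S) (by simp) (by simp) by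
      apply pullback.hom_ext <;> simp [pullback.map, pullback.diagonal, pullback.lift_fst, pullback.lift_snd, pullback.lift_fst_assoc, pullback.lift_snd_assoc]]
    haveI : UniversallyClosed (pullback.map (π ≫ q) (π ≫ q) q q π π (𝟙 S) (by simp) (by simp)) :=
      MorphismProperty.pullbackMap (P := @UniversallyClosed) (i₁ := π) (i₂ := π) inferInstance inferInstance rfl rfl
    infer_instance
  haveI : UniversallyClosed (pullback.diagonal q) := .of_comp_surjective π _
  exact ⟨.of_isPreimmersion _ (pullback.diagonal q).isClosedMap.isClosed_range⟩

end Groth.Agent.S19556
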