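import Groth.Statements.S19560


set_option autoImplicit false
universe u
open W4c1limliniiii

namespace Groth.Agent.S19560
open Polynomial in
lemma pow_dvd_wronskian {k : Type u} [Field k] (F H : k[X]) (a : k) (n : ℕ) :
    wronskian F ((X - C a) ^ (n + 1) * H) = (X - C a) ^ n *
      (C ((n : k) + 1) * F * H + (X - C a) * (F * derivative H - derivative F * H)) := by
  simp only [wronskian, derivative_mul, derivative_pow, derivative_sub, derivative_X, derivative_C,
    sub_zero, mul_one, Nat.add_sub_cancel, Nat.cast_add, Nat.cast_one, map_add, map_natCast, map_one]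
  ring

open Polynomial in
/-- Let k be an algebraically closed field of characteristic p (a prime or zero) and let F, G be
polynomials spanning a base-point-free pencil V of degree d (a two-dimensional space of polynomials
of degree at most d containing one of degree d and with no common zero in k), so that V encodes a
degree-d self-map F/G of the projective line up to automorphisms of the target. Suppose the
Wronskian W = F′G − FG′ is non-zero and vanishes at the point a to order exactly e − 1 with e ≥ 1,
and that p = 0 or e − 1 < p. Then the map is tamely ramified at a with index e: the largest order of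
vanishing at a of a non-zero member of V is e, and p does not divide e. (The hypothesis W ≠ 0 makes
the order of vanishing meaningful; for W = 0 the map is inseparable.) -/
theorem result
    (k : Type u) [Field k] [IsAlgClosed k] (p : ℕ) [CharP k p]
    (d : ℕ) (F G : k[X]) (hV : W4c1limliniiii.IsPencil d (Submodule.span k {F, G}))
    (hW : Polynomial.wronskian F G ≠ 0) (a : k) (e : ℕ)
    (he : (Polynomial.wronskian F G).rootMultiplicity a + 1 = e) (hp : p = 0 ∨ e - 1 < p) :
    W4c1limliniiii.HasRamIdx (Submodule.span k {F, G}) a e ∧ ¬ p ∣ e := by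
  obtain ⟨-, hr, -, hbp⟩ := hV
  obtain ⟨s, hs, hsa⟩ := hbp a
  obtain ⟨u, v, rfl⟩ := Submodule.mem_span_pair.1 hs
  -- choose a basis (F₁, G₁) with G₁(a) = 0 and F₁(a) ≠ 0
  obtain ⟨F₁, G₁, c, hF₁, hG₁, hc, hW₁, hspan⟩ : ∃ F₁ G₁ : k[X], ∃ c : k, F₁.eval a ≠ 0 ∧
      G₁.eval a = 0 ∧ c ≠ 0 ∧ wronskian F₁ G₁ = C c * wronskian F G ∧
      Submodule.span k {F₁, G₁} = Submodule.span k {F, G} := by
    by_cases hF : F.eval a = 0
    · have hG : G.eval a ≠ 0 := fun e => hsa (by simp [hF, e])
      refine ⟨G, F, -1, hG, hF, by simp, ?_, by rw [Set.pair_comm]⟩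
      simp only [wronskian, map_neg, map_one]; ring
    · refine ⟨F, G - C (G.eval a / F.eval a) * F, 1, hF, by simp [hF], one_ne_zero, ?_, ?_⟩
      · simp only [wronskian, derivative_sub, derivative_mul, derivative_C, map_one]; ring
      · rw [← Polynomial.smul_eq_C_mul]
        apply le_antisymm
        · rw [Submodule.span_le, Set.pair_subset_iff]
          exact ⟨Submodule.subset_span (by simp), sub_mem (Submodule.subset_span (by simp))
            (Submodule.smul_mem _ _ (Submodule.subset_span (by simp)))⟩
        · rw [Submodule.span_le, Set.pair_subset_iff]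
          refine ⟨Submodule.subset_span (by simp), ?_⟩
          rw [SetLike.mem_coe, Submodule.mem_span_pair]
          exact ⟨G.eval a / F.eval a, 1, by simp⟩
  have hW0 : wronskian F₁ G₁ ≠ 0 := by
    rw [hW₁]; exact mul_ne_zero (by simpa using hc) hW
  have hG₁0 : G₁ ≠ 0 := fun e => hW0 (by simp [e])
  obtain ⟨n, hn⟩ : ∃ n, G₁.rootMultiplicity a = n + 1 :=
    ⟨_, (Nat.succ_pred_eq_of_pos ((Polynomial.rootMultiplicity_pos hG₁0).2 hG₁)).symm⟩
  obtain ⟨H, hH, hHa⟩ := Polynomial.exists_eq_pow_rootMultiplicity_mul_and_not_dvd G₁ hG₁0 a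
  rw [hn] at hH
  rw [Polynomial.dvd_iff_isRoot, Polynomial.IsRoot] at hHa
  set R := C ((n : k) + 1) * F₁ * H + (X - C a) * (F₁ * derivative H - derivative F₁ * H) with hR
  have hWR : wronskian F₁ G₁ = (X - C a) ^ n * R := by rw [hH, pow_dvd_wronskian]
  have hR0 : R ≠ 0 := fun e => hW0 (by rw [hWR, e, mul_zero])
  have hm : (wronskian F G).rootMultiplicity a = n + R.rootMultiplicity a := by
    have h1 : (wronskian F₁ G₁).rootMultiplicity a = (wronskian F G).rootMultiplicity a := by
      rw [hW₁, Polynomial.rootMultiplicity_mul (mul_ne_zero (by simpa using hc) hW),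
        Polynomial.rootMultiplicity_C, zero_add]
    rw [← h1, hWR, mul_comm, Polynomial.rootMultiplicity_mul_X_sub_C_pow hR0, add_comm]
  have hcast : ((n + 1 : ℕ) : k) ≠ 0 := by
    intro h
    have hd := (CharP.cast_eq_zero_iff k p (n + 1)).1 h
    rcases hp with hp | hp
    · subst hp; simp at hd
    · have hr1 : 0 < R.rootMultiplicity a := (Polynomial.rootMultiplicity_pos hR0).2 (by
        rw [Nat.cast_add, Nat.cast_one] at h
        simp [Polynomial.IsRoot, hR, h])
      have := Nat.le_of_dvd (Nat.succ_pos n) hd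
      omega
  have hRa : R.rootMultiplicity a = 0 := Polynomial.rootMultiplicity_eq_zero (by
    rw [Nat.cast_add, Nat.cast_one] at hcast
    simp [Polynomial.IsRoot, hR, hcast, hF₁, hHa])
  obtain rfl : e = n + 1 := by omega
  refine ⟨⟨⟨G₁, hspan ▸ Submodule.subset_span (by simp), hG₁0, hn.ge⟩, fun s hs hs0 => ?_⟩,
    fun hd => hcast ((CharP.cast_eq_zero_iff k p (n + 1)).2 hd)⟩
  rw [← hspan] at hs
  obtain ⟨x, y, rfl⟩ := Submodule.mem_span_pair.1 hs
  by_cases hx : x = 0
  · subst hx
    rw [zero_smul, zero_add] at hs0 ⊢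
    have hy : y ≠ 0 := fun e => hs0 (by rw [e, zero_smul])
    rw [Polynomial.smul_eq_C_mul] at hs0 ⊢
    rw [Polynomial.rootMultiplicity_mul hs0, Polynomial.rootMultiplicity_C, hn]
    omega
  · rw [Polynomial.rootMultiplicity_eq_zero (by simp [Polynomial.IsRoot, hG₁, hx, hF₁])]
    omega

end Groth.Agent.S19560
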