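import Groth.Statements.S19562


set_option autoImplicit false
universe u
open W4c1limliniiii

namespace Groth.Agent.S19562
open TensorProduct in
lemma finrank_pt {k : Type u} [Field k] {d r : ℕ} (hrd : r < d)
    (V : Module.Grassmannian k (k ⊗[k] (Fin d → k)) (d - r)) :
    Module.finrank k V.toSubmodule = r := by
  have h := V.rankAtStalk_eq ⟨⊥, Ideal.isPrime_bot⟩
  rw [Module.rankAtStalk_eq_finrank_of_free] at h
  have h2 := Submodule.finrank_quotient_add_finrank V.toSubmodule
  have h3 : Module.finrank k (k ⊗[k] (Fin d → k)) = d := by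
    rw [Module.finrank_baseChange, Module.finrank_fin_fun]
  simp only [Pi.natCast_apply] at h
  simp at h
  omega

lemma split {k : Type u} [Field k] {E : Type*} [AddCommGroup E] [Module k E]
    [FiniteDimensional k E] {E' : Type*} [AddCommGroup E'] [Module k E'] [FiniteDimensional k E']
    (f : E →ₗ[k] E') (V : Submodule k E) :
    Module.finrank k (V.map f) + Module.finrank k ↥(LinearMap.ker f ⊓ V) = Module.finrank k V := by
  have h := LinearMap.finrank_range_add_finrank_ker (f.domRestrict V)
  rw [LinearMap.range_domRestrict, LinearMap.ker_domRestrict] at h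
  rw [← h]
  congr 1
  rw [← Submodule.finrank_map_subtype_eq V, Submodule.map_comap_subtype, inf_comm]

open TensorProduct in
/-- Let k be a field, 0 < r < d, and f_i, g_i (i < n) linear maps forward and backward between
consecutive ones of n + 1 copies of k^d, forming a linked Grassmannian over Spec k whose scalar s is
zero: every composite f_i ∘ g_i and g_i ∘ f_i vanishes, rank f_i + rank g_i ≥ d, and for consecutive
indices im f_i ∩ ker f_{i+1} = 0 and im g_{i+1} ∩ ker g_i = 0. Let (V_i) be a k-valued point of the
linked Grassmannian of rank-r sub-bundles (subspaces V_i of k ⊗ k^d with quotient of rank d − r,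
with f_i(V_i) ⊆ V_{i+1} and g_i(V_{i+1}) ⊆ V_i). Then (V_i) is exact, meaning ker g_i ∩ V_{i+1} ⊆
f_i(V_i) and ker f_i ∩ V_i ⊆ g_i(V_{i+1}) for all i, if and only if dim f_i(V_i) + dim g_i(V_{i+1})
= r for all i. (The published assertion is for points with values in an arbitrary scheme and also
says that f_i(V_i) and g_i(V_{i+1}) are then sub-bundles; this row is the case of a field, where the
last clause is empty.) -/
theorem result (k : Type u) [Field k]
    (d r n : ℕ) (hr : 0 < r) (hrd : r < d) (f g : Fin n → ((Fin d → k) →ₗ[k] (Fin d → k)))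
    (hI : ∀ i, (f i).comp (g i) = 0 ∧ (g i).comp (f i) = 0)
    (hII : ∀ i, d ≤ Module.finrank k (LinearMap.range (f i)) + Module.finrank k (LinearMap.range (g i)))
    (hIII : ∀ i j : Fin n, i.val + 1 = j.val →
      LinearMap.range (f i) ⊓ LinearMap.ker (f j) = ⊥ ∧
        LinearMap.range (g j) ⊓ LinearMap.ker (g i) = ⊥)
    (V : Fin (n + 1) → Module.Grassmannian k (k ⊗[k] (Fin d → k)) (d - r))
    (hV : V ∈ W4c1limliniiii.LGPoints k d r n f g k) :
    W4c1limliniiii.IsExact k d r n f g k V ↔
      ∀ i : Fin n,
        Module.finrank k ↥(Submodule.map ((f i).baseChange k) (V i.castSucc).toSubmodule) +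
          Module.finrank k ↥(Submodule.map ((g i).baseChange k) (V i.succ).toSubmodule) = r := by
  refine forall_congr' fun i => ?_
  obtain ⟨hfV, hgV⟩ := hV i
  set A := (V i.castSucc).toSubmodule with hA
  set B := (V i.succ).toSubmodule with hB
  set F := (f i).baseChange k with hF
  set G := (g i).baseChange k with hG
  have c1 : F ∘ₗ G = 0 := by
    rw [hF, hG, ← LinearMap.baseChange_comp, (hI i).1, LinearMap.baseChange_zero]
  have c2 : G ∘ₗ F = 0 := by
    rw [hF, hG, ← LinearMap.baseChange_comp, (hI i).2, LinearMap.baseChange_zero]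
  have l1 : Submodule.map G B ≤ LinearMap.ker F ⊓ A := le_inf
    (by rintro _ ⟨x, _, rfl⟩; exact LinearMap.congr_fun c1 x) hgV
  have l2 : Submodule.map F A ≤ LinearMap.ker G ⊓ B := le_inf
    (by rintro _ ⟨x, _, rfl⟩; exact LinearMap.congr_fun c2 x) hfV
  have s1 := split F A
  have s2 := split G B
  rw [hA, finrank_pt hrd] at s1
  rw [hB, finrank_pt hrd] at s2
  rw [← hA] at s1
  rw [← hB] at s2
  constructor
  · rintro ⟨e1, e2⟩
    have := Submodule.finrank_mono e2
    have := Submodule.finrank_mono l1
    omega
  · intro h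
    exact ⟨(Submodule.eq_of_le_of_finrank_le l2 (by omega)).ge,
      (Submodule.eq_of_le_of_finrank_le l1 (by omega)).ge⟩

end Groth.Agent.S19562
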