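import Groth.Statements.S19564
import Mathlib
import Groth.Agent.S13139
import Groth.Agent.FrobW.W2
import Groth.Agent.FrobW.Witt
-- import your own Groth.Agent.* helpers here

set_option autoImplicit false
universe u
open scoped BigOperators
open FrobAlg

namespace Groth.Agent.S19564
open MvPolynomial

/-- Transport along an algebra isomorphism. -/
theorem isFLiftable_congr (p : ℕ) [Fact p.Prime] (k : Type u) [CommRing k] [CharP k p] {A A' : Type u}
    [CommRing A] [Algebra k A] [CommRing A'] [Algebra k A'] (e : A ≃ₐ[k] A')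
    (h : FrobAlg.IsFLiftable p k A) : FrobAlg.IsFLiftable p k A' := by
  obtain ⟨B, iB, ι, π, Φ, hΦ⟩ := h
  refine ⟨B, iB, ι, (e : A →+* A').comp π, Φ, ⟨⟨hΦ.flat, e.surjective.comp hΦ.surj, ?_, ?_⟩, hΦ.semi,
    fun b => ?_⟩⟩
  · rw [RingHom.ker_comp_of_injective π e.injective, hΦ.ker_eq]
  · refine RingHom.ext fun a => ?_
    have := RingHom.congr_fun hΦ.comm a
    simp only [RingHom.comp_apply] at this ⊢
    rw [this]
    exact e.commutes _
  · simp only [RingHom.comp_apply, hΦ.red b, map_pow]

/-- `(Σ zᵢ)^p - Σ zᵢ^p` is divisible by `p`. -/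
theorem exists_freshman {R : Type*} [CommRing R] {ι : Type*} [DecidableEq ι] (p : ℕ) (hp : p.Prime)
    (s : Finset ι) (z : ι → R) :
    ∃ C, (∑ i ∈ s, z i) ^ p - ∑ i ∈ s, z i ^ p = (p : R) * C := by
  induction s using Finset.induction_on with
  | empty => exact ⟨0, by simp [zero_pow hp.ne_zero]⟩
  | insert a s ha ih =>
    obtain ⟨C, hC⟩ := ih
    obtain ⟨r, hr⟩ := exists_add_pow_prime_eq hp (z a) (∑ i ∈ s, z i)
    refine ⟨C + z a * (∑ i ∈ s, z i) * r, ?_⟩
    rw [Finset.sum_insert ha, Finset.sum_insert ha, hr]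
    linear_combination hC

variable {p : ℕ} [Fact p.Prime] {k : Type u} [Field k] [CharP k p] {n : ℕ}

/-- Index of a variable. -/
abbrev ix (i : Fin n) (j : Fin 2) : Fin (n * 2) := finProdFinEquiv (i, j)

/-- Substitute `a, b, -a-b, 0, …` for the products of the pairs. -/
noncomputable def vv {R : Type*} [CommRing R] (i : Fin n) : MvPolynomial (Fin 2) R :=
  if (i : ℕ) = 0 then X 0 else if (i : ℕ) = 1 then X 1 else if (i : ℕ) = 2 then -X 0 - X 1 else 0

open Classical in
/-- The degree-zero part, evaluated. -/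
noncomputable def psi : MvPolynomial (Fin (n * 2)) k →ₗ[k] MvPolynomial (Fin 2) k :=
  (MvPolynomial.basisMonomials _ k).constr k fun m =>
    if ∀ i : Fin n, m (ix i 0) = m (ix i 1) then ∏ i : Fin n, vv i ^ m (ix i 0) else 0

open Classical in
theorem psi_monomial (m : Fin (n * 2) →₀ ℕ) (c : k) :
    psi (n := n) (monomial m c) =
      c • (if ∀ i : Fin n, m (ix i 0) = m (ix i 1) then ∏ i : Fin n, vv i ^ m (ix i 0) else 0) := by
  have hb : (MvPolynomial.basisMonomials (Fin (n * 2)) k) m = monomial m 1 := by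
    rw [MvPolynomial.coe_basisMonomials]
  rw [show monomial m c = c • monomial m (1 : k) by rw [smul_monomial, smul_eq_mul, mul_one], map_smul,
    ← hb, psi, Module.Basis.constr_basis]

theorem psi_mul_pair (i : Fin n) (u : MvPolynomial (Fin (n * 2)) k) :
    psi (u * (X (ix i 0) * X (ix i 1))) = psi u * vv i := by
  classical
  induction u using MvPolynomial.induction_on' with
  | monomial m c =>
    rw [X, X, monomial_mul, monomial_mul, psi_monomial, psi_monomial]
    set m' := m + (Finsupp.single (ix i 0) 1 + Finsupp.single (ix i 1) 1) with hm'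
    have hval : ∀ (l : Fin n) (j : Fin 2), m' (ix l j) = m (ix l j) + if l = i then 1 else 0 := by
      intro l j
      have : j = 0 ∨ j = 1 := by omega
      simp only [m', Finsupp.add_apply, Finsupp.single_apply, EmbeddingLike.apply_eq_iff_eq, Prod.mk.injEq]
      rcases this with rfl | rfl <;> simp [eq_comm]
    by_cases hbal : ∀ l : Fin n, m (ix l 0) = m (ix l 1)
    · rw [if_pos hbal, if_pos (fun l => by rw [hval, hval, hbal l]), smul_mul_assoc]
      simp only [mul_one]
      congr 1
      simp only [hval, pow_add, Finset.prod_mul_distrib]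
      congr 1
      rw [Finset.prod_eq_single i (fun l _ hl => by simp [hl]) (by simp)]
      simp
    · rw [if_neg hbal, if_neg (fun h => hbal fun l => by simpa [hval] using h l)]
      simp
  | add a b ha hb => rw [add_mul, map_add, map_add, ha, hb, add_mul]

theorem psi_one : psi (n := n) (1 : MvPolynomial (Fin (n * 2)) k) = 1 := by
  classical
  rw [← C_1, C_apply, psi_monomial]
  simp

/-- The target ideal `(a^p, b^p)`. -/
noncomputable def JJ (p : ℕ) (k : Type u) [CommRing k] : Ideal (MvPolynomial (Fin 2) k) :=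
  Ideal.span {X 0 ^ p, X 1 ^ p}

theorem vv_pow_mem (i : Fin n) : (vv i : MvPolynomial (Fin 2) k) ^ p ∈ JJ p k := by
  have h0 : (X 0 : MvPolynomial (Fin 2) k) ^ p ∈ JJ p k := Ideal.subset_span (Set.mem_insert _ _)
  have h1 : (X 1 : MvPolynomial (Fin 2) k) ^ p ∈ JJ p k := Ideal.subset_span (Set.mem_insert_of_mem _ rfl)
  unfold vv
  split_ifs
  · exact h0
  · exact h1
  · rw [sub_pow_char, neg_pow]
    exact sub_mem (Ideal.mul_mem_left _ _ h0) h1
  · rw [zero_pow (Fact.out (p := p.Prime)).ne_zero]; exact zero_mem _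

theorem psi_mul_pow_mem (i : Fin n) (j : Fin 2) (u : MvPolynomial (Fin (n * 2)) k) :
    psi (u * X (ix i j) ^ p) ∈ JJ p k := by
  classical
  induction u using MvPolynomial.induction_on' with
  | monomial m c =>
    rw [X_pow_eq_monomial, monomial_mul, psi_monomial, smul_eq_C_mul]
    refine Ideal.mul_mem_left _ _ ?_
    split_ifs with hbal
    · have hle : p ≤ (m + Finsupp.single (ix i j) p : Fin (n * 2) →₀ ℕ) (ix i 0) := by
        have : j = 0 ∨ j = 1 := by omega
        rcases this with rfl | rfl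
        · simp
        · rw [hbal i]; simp
      rw [← Finset.mul_prod_erase Finset.univ _ (Finset.mem_univ i)]
      exact Ideal.mul_mem_right _ _ (Ideal.pow_mem_of_pow_mem _ (vv_pow_mem i) hle)
    · exact zero_mem _
  | add a b ha hb => rw [add_mul, map_add]; exact add_mem ha hb

/-- The ideal of `p`-th powers of the variables. -/
noncomputable def II (p n : ℕ) (k : Type u) [CommRing k] : Ideal (MvPolynomial (Fin (n * 2)) k) :=
  Ideal.span (Set.range fun l => X l ^ p)

theorem psi_mem_JJ {u : MvPolynomial (Fin (n * 2)) k} (hu : u ∈ II p n k) : psi u ∈ JJ p k := by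
  induction hu using Submodule.span_induction with
  | mem x hx =>
    obtain ⟨l, rfl⟩ := hx
    obtain ⟨⟨i, j⟩, rfl⟩ := (finProdFinEquiv (m := n) (n := 2)).surjective l
    simpa using psi_mul_pow_mem (p := p) i j (1 : MvPolynomial (Fin (n * 2)) k)
  | zero => simp
  | add x y _ _ hx hy => rw [map_add]; exact add_mem hx hy
  | smul a x hx' _ =>
    clear * - hx'
    induction hx' using Submodule.span_induction generalizing a with
    | mem x hx =>
      obtain ⟨l, rfl⟩ := hx
      obtain ⟨⟨i, j⟩, rfl⟩ := (finProdFinEquiv (m := n) (n := 2)).surjective l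
      exact psi_mul_pow_mem i j a
    | zero => simp
    | add x y _ _ hx hy => rw [smul_add, map_add]; exact add_mem (hx a) (hy a)
    | smul b x _ hx => rw [smul_smul]; exact hx (a * b)

theorem sum_vv {R : Type*} [CommRing R] (hn : 3 ≤ n) : ∑ i : Fin n, (vv i : MvPolynomial (Fin 2) R) = 0 := by
  obtain ⟨m, rfl⟩ : ∃ m, n = m + 3 := ⟨n - 3, by omega⟩
  rw [Fin.sum_univ_succ, Fin.sum_univ_succ, Fin.sum_univ_succ]
  simp [vv, Nat.mod_eq_of_lt (show 2 < m + 3 by omega)]

theorem psi_sum_pairs (u : MvPolynomial (Fin (n * 2)) k) (hn : 3 ≤ n) :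
    psi (u * ∑ i : Fin n, X (ix i 0) * X (ix i 1)) = 0 := by
  rw [Finset.mul_sum, map_sum]
  simp only [psi_mul_pair, ← Finset.mul_sum]
  rw [sum_vv hn, mul_zero]

theorem coeff_eq_zero_of_mem {u : MvPolynomial (Fin 2) k} (hu : u ∈ JJ p k) (hp2 : 2 ≤ p) :
    coeff (Finsupp.single 0 1 + Finsupp.single 1 (p - 1)) u = 0 := by
  obtain ⟨a, b, rfl⟩ := Ideal.mem_span_pair.mp hu
  rw [coeff_add, X_pow_eq_monomial, X_pow_eq_monomial, coeff_mul_monomial', coeff_mul_monomial']
  rw [if_neg, if_neg, add_zero]
  · intro h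
    have := h 1
    simp at this
    omega
  · intro h
    have := h 0
    simp at this
    omega

variable (p)

/-- The obstruction does not vanish. -/
theorem coeff_cross (hn : 3 ≤ n) (hp : 3 ≤ p) (C : MvPolynomial (Fin n) ℤ)
    (hC : (∑ i, X i) ^ p - ∑ i, (X i : MvPolynomial (Fin n) ℤ) ^ p = (p : MvPolynomial (Fin n) ℤ) * C) :
    coeff (Finsupp.single 0 1 + Finsupp.single 1 (p - 1)) (aeval (fun i => (vv i : MvPolynomial (Fin 2) k)) C) = 1 := by
  classical
  have hpp := Fact.out (p := p.Prime)
  have hint : coeff (Finsupp.single 0 1 + Finsupp.single 1 (p - 1))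
      (aeval (fun i => (vv i : MvPolynomial (Fin 2) ℤ)) C) = 1 := by
    set φ := aeval (R := ℤ) (fun i : Fin n => (vv i : MvPolynomial (Fin 2) ℤ)) with hφ
    have h := congrArg φ hC
    rw [map_mul, map_natCast] at h
    generalize φ C = T at h ⊢
    simp only [map_sub, map_pow, map_sum, φ, aeval_X] at h
    rw [sum_vv hn, zero_pow hpp.ne_zero] at h
    have hodd : Odd p := hpp.odd_of_ne_two (by omega)
    obtain ⟨m, rfl⟩ : ∃ m, n = m + 3 := ⟨n - 3, by omega⟩
    rw [Fin.sum_univ_succ, Fin.sum_univ_succ, Fin.sum_univ_succ] at h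
    simp only [vv, Fin.val_zero, Fin.val_succ, if_true, Nat.succ_ne_zero, if_false,
      zero_add] at h
    simp [zero_pow hpp.ne_zero] at h
    have h2 : ((X 0 : MvPolynomial (Fin 2) ℤ) + X 1) ^ p - X 0 ^ p - X 1 ^ p = (p : MvPolynomial (Fin 2) ℤ) * T := by
      rw [← h, show (-X 0 - X 1 : MvPolynomial (Fin 2) ℤ) = -(X 0 + X 1) by ring, hodd.neg_pow]
      ring
    have h3 := congrArg (coeff (Finsupp.single 0 1 + Finsupp.single 1 (p - 1))) h2
    rw [coeff_sub, coeff_sub, coeff_X_pow, coeff_X_pow, if_neg, if_neg, sub_zero, sub_zero, add_pow,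
      coeff_sum, ← map_natCast (MvPolynomial.C : ℤ →+* MvPolynomial (Fin 2) ℤ) p, coeff_C_mul,
      Finset.sum_eq_single 1] at h3
    · rw [← map_natCast (MvPolynomial.C : ℤ →+* MvPolynomial (Fin 2) ℤ) (p.choose 1), mul_comm _ (MvPolynomial.C _),
        coeff_C_mul, X_pow_eq_monomial, X_pow_eq_monomial, monomial_mul, coeff_monomial, if_pos rfl,
        Nat.choose_one_right] at h3
      have hp0 : (p : ℤ) ≠ 0 := by exact_mod_cast hpp.ne_zero
      rw [mul_one, mul_one] at h3
      exact mul_left_cancel₀ hp0 (h3.symm.trans (mul_one _).symm)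
    · intro j _ hj
      rw [← map_natCast (MvPolynomial.C : ℤ →+* MvPolynomial (Fin 2) ℤ) (p.choose j), mul_comm _ (MvPolynomial.C _),
        coeff_C_mul, X_pow_eq_monomial, X_pow_eq_monomial, monomial_mul, coeff_monomial, if_neg, mul_zero]
      intro h4
      have := DFunLike.congr_fun h4 0
      simp at this
      exact hj this
    · intro h4
      exact absurd (Finset.mem_range.mpr (by omega)) h4
    · intro h4
      have := DFunLike.congr_fun h4 0
      simp at this
    · intro h4
      have := DFunLike.congr_fun h4 1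
      simp at this
      omega
  have hcast : aeval (fun i => (vv i : MvPolynomial (Fin 2) k)) C =
      MvPolynomial.map (Int.castRingHom k) (aeval (fun i => (vv i : MvPolynomial (Fin 2) ℤ)) C) := by
    clear hint hC
    induction C using MvPolynomial.induction_on with
    | C a => simp
    | add a b ha hb => simp only [map_add, ha, hb]
    | mul_X a i ha =>
      rw [map_mul, map_mul, ha, aeval_X, aeval_X, map_mul]
      congr 1
      simp only [vv]
      split_ifs <;> simp
  rw [hcast, coeff_map, hint]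
  simp

/-- Let k be a perfect field of characteristic p ≥ 3 and n ≥ 3. Then the ordinary double point k[x_1,
y_1, …, x_n, y_n]/(x_1y_1 + ⋯ + x_ny_n), the affine cone over the split quadric in 2n ≥ 6 variables,
admits no flat lifting over W₂(k) compatible with Frobenius (no flat W₂(k)-algebra reducing to it
that carries a ring endomorphism which is σ₂-semilinear and reduces to the p-th power map). (The
published statement is for any number N ≥ 5 of variables and allows arbitrary terms of degree ≥ 3 to
be added to a non-degenerate quadratic form; this row is the case of the split form in an even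
number of variables with nothing added, the case in which the argument is a pure comparison of
homogeneous components.) -/
theorem result
    (p : ℕ) [Fact p.Prime] (hp : 3 ≤ p) (k : Type u) [Field k] [CharP k p] [PerfectRing k p]
    (n : ℕ) (hn : 3 ≤ n) :
    ¬ FrobAlg.IsFLiftable p k
      (MvPolynomial (Fin n × Fin 2) k ⧸ Ideal.span
        {(∑ i : Fin n, MvPolynomial.X (i, (0 : Fin 2)) * MvPolynomial.X (i, (1 : Fin 2)) : MvPolynomial (Fin n × Fin 2) k)}) := by
  classical
  intro hlift
  have hpp := Fact.out (p := p.Prime)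
  let f : MvPolynomial (Fin (n * 2)) k := ∑ i : Fin n, X (ix i 0) * X (ix i 1)
  let e₁ := MvPolynomial.renameEquiv k (finProdFinEquiv (m := n) (n := 2))
  have hf : e₁ (∑ i : Fin n, X (i, (0 : Fin 2)) * X (i, (1 : Fin 2))) = f := by
    simp [e₁, f, map_sum]
  have hspan : (Ideal.span (Set.range (fun _ : Fin 1 => f))) =
      Ideal.map (e₁.toRingEquiv : MvPolynomial (Fin n × Fin 2) k →+* _)
        (Ideal.span {(∑ i : Fin n, X (i, (0 : Fin 2)) * X (i, (1 : Fin 2)))}) := by
    rw [Ideal.map_span, Set.image_singleton, Set.range_const]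
    exact congrArg (fun t => Ideal.span {t}) hf.symm
  have h' := isFLiftable_congr p k (Ideal.quotientEquivAlg _ _ e₁ hspan) hlift
  have hev : eval (fun _ : Fin (n * 2) => (0 : k)) f = 0 := by simp [f]
  have hf0 : f ≠ 0 := by
    intro h0
    have := congrArg (eval fun l : Fin (n * 2) =>
      if l = ix ⟨0, by omega⟩ 0 ∨ l = ix ⟨0, by omega⟩ 1 then (1 : k) else 0) h0
    simp only [f, map_sum, map_mul, eval_X, map_zero] at this
    rw [Finset.sum_eq_single (⟨0, by omega⟩ : Fin n)] at this
    · simp at this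
    · intro i _ hi
      simp [ix, hi]
    · simp
  have hreg : RingTheory.Sequence.IsRegular (MvPolynomial (Fin (n * 2)) k) (List.ofFn fun _ : Fin 1 => f) := by
    refine ⟨?_, ?_⟩
    · rw [List.ofFn_succ, List.ofFn_zero]
      refine (RingTheory.Sequence.isWeaklyRegular_cons_iff _ _ _).mpr ⟨?_, RingTheory.Sequence.IsWeaklyRegular.nil _ _⟩
      exact fun a b hab => mul_left_cancel₀ hf0 hab
    · intro htop
      rw [List.ofFn_succ, List.ofFn_zero, Ideal.ofList_singleton, Ideal.smul_eq_mul, Ideal.mul_top] at htop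
      have hu : IsUnit f := Ideal.span_singleton_eq_top.mp htop.symm
      exact (hev ▸ hu.map (eval fun _ : Fin (n * 2) => (0 : k))).ne_zero rfl
  obtain ⟨f', h, hf', hrel⟩ := (S13139.result p k (fun _ : Fin 1 => f) hreg).mp h'
  obtain ⟨C₀, hC₀⟩ := exists_freshman p hpp Finset.univ (fun i : Fin n => (X i : MvPolynomial (Fin n) ℤ))
  set W := FrobAlg.W2 p k
  let r := MvPolynomial.map (σ := Fin (n * 2)) (FrobAlg.res p k)
  let z : Fin n → MvPolynomial (Fin (n * 2)) W := fun i => X (ix i 0) * X (ix i 1)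
  let F0 : MvPolynomial (Fin (n * 2)) W := ∑ i, z i
  have hpC : ∀ u : MvPolynomial (Fin (n * 2)) W, (p : MvPolynomial (Fin (n * 2)) W) * u = 0 → r u = 0 := by
    intro u hu
    refine MvPolynomial.ext _ _ fun m => ?_
    have h1 := congrArg (coeff m) hu
    rw [← map_natCast (MvPolynomial.C : W →+* MvPolynomial (Fin (n * 2)) W) p, coeff_C_mul, coeff_zero] at h1
    obtain ⟨c, hc⟩ := FrobW.W2.dvd_of_mul_eq_zero p k h1
    rw [coeff_map, hc, map_mul, map_natCast, CharP.cast_eq_zero k p, zero_mul, coeff_zero]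
  have hp2 : (p : MvPolynomial (Fin (n * 2)) W) ^ 2 = 0 := by
    rw [← map_natCast (MvPolynomial.C : W →+* MvPolynomial (Fin (n * 2)) W) p, ← map_pow,
      FrobW.W2.natCast_sq, map_zero]
  obtain ⟨g, hg⟩ : ∃ g, f' 0 = F0 + (p : MvPolynomial (Fin (n * 2)) W) * g := by
    have hker : f' 0 - F0 ∈ RingHom.ker r := by
      rw [RingHom.mem_ker, map_sub, sub_eq_zero, show r (f' 0) = f from hf' 0]
      simp [r, F0, z, f, map_sum]
    rw [show r = MvPolynomial.map (FrobAlg.res p k) from rfl, MvPolynomial.ker_map, FrobW.Witt.ker_res,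
      Ideal.map_span, Set.image_singleton, Ideal.mem_span_singleton, map_natCast] at hker
    obtain ⟨g, hg⟩ := hker
    exact ⟨g, by rw [← hg]; ring⟩
  have hrel0 := hrel 0
  rw [Set.range_unique, show (default : Fin 1) = 0 from rfl, Ideal.span_singleton_mul_span_singleton,
    Ideal.mem_span_singleton] at hrel0
  obtain ⟨t, ht⟩ := hrel0
  let C' : MvPolynomial (Fin (n * 2)) W := aeval z C₀
  have hfresh : F0 ^ p - ∑ i, z i ^ p = (p : MvPolynomial (Fin (n * 2)) W) * C' := by
    have h2 := congrArg (aeval (R := ℤ) z) hC₀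
    simpa [F0, C', map_sum] using h2
  have hpow : f' 0 ^ p = F0 ^ p := by
    have h2 := dvd_sub_pow_of_dvd_sub (R := MvPolynomial (Fin (n * 2)) W) (p := p) (a := f' 0) (b := F0)
      ⟨g, by rw [hg]; ring⟩ 1
    rw [pow_one, show (1 : ℕ) + 1 = 2 from rfl, hp2, zero_dvd_iff] at h2
    exact sub_eq_zero.mp h2
  have hfrob : FrobAlg.polyFrob p k (Fin (n * 2)) F0 = ∑ i, z i ^ p := by
    simp [F0, z, FrobAlg.polyFrob, map_sum, mul_pow]
  set G := FrobAlg.polyFrob p k (Fin (n * 2)) g with hG
  set D := ∑ j, pderiv j (f' 0) ^ p * h j with hD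
  have hz : (p : MvPolynomial (Fin (n * 2)) W) * (-C' + G - D - f' 0 * t) = 0 := by
    have h3 : FrobAlg.polyFrob p k (Fin (n * 2)) (f' 0) = ∑ i, z i ^ p + (p : MvPolynomial (Fin (n * 2)) W) * G := by
      rw [hg, map_add, map_mul, map_natCast, hfrob]
    rw [h3, hpow] at ht
    linear_combination ht + hfresh
  have h4 := congrArg psi (hpC _ hz)
  simp only [map_sub, map_add, map_neg, map_mul, map_zero] at h4
  rw [show r (f' 0) = f from hf' 0] at h4
  have h5 : psi (f * r t) = 0 := (congrArg psi (mul_comm f (r t))).trans (psi_sum_pairs _ hn)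
  -- the Frobenius term
  have hrange : ∀ u : MvPolynomial (Fin (n * 2)) W,
      ∃ c : k, r (FrobAlg.polyFrob p k (Fin (n * 2)) u) - MvPolynomial.C c ∈ II p n k := by
    intro u
    induction u using MvPolynomial.induction_on with
    | C a => exact ⟨FrobAlg.res p k (FrobAlg.sigma p k a), by simp [r, FrobAlg.polyFrob]⟩
    | add a b ha hb =>
      obtain ⟨c, hc⟩ := ha
      obtain ⟨c', hc'⟩ := hb
      exact ⟨c + c', by rw [map_add, map_add, map_add, add_sub_add_comm]; exact add_mem hc hc'⟩
    | mul_X a l _ =>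
      refine ⟨0, ?_⟩
      rw [map_zero, sub_zero, map_mul, map_mul]
      refine Ideal.mul_mem_left _ _ ?_
      have hl : (X l : MvPolynomial (Fin (n * 2)) k) ^ p ∈ II p n k := Ideal.subset_span (Set.mem_range_self l)
      simpa [r, FrobAlg.polyFrob] using hl
  set m₀ : Fin 2 →₀ ℕ := Finsupp.single 0 1 + Finsupp.single 1 (p - 1)
  have hG0 : coeff m₀ (psi (r G)) = 0 := by
    obtain ⟨c, hc⟩ := hrange g
    have hsplit : r G = (r G - MvPolynomial.C c) + c • 1 := by rw [smul_eq_C_mul, mul_one, sub_add_cancel]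
    rw [hsplit, map_add, map_smul, psi_one, coeff_add, coeff_eq_zero_of_mem (psi_mem_JJ hc) hpp.two_le,
      coeff_smul, coeff_one, if_neg, smul_zero, add_zero]
    intro h6
    have := DFunLike.congr_fun h6 0
    simp [m₀] at this
  have hD0 : coeff m₀ (psi (r D)) = 0 := by
    refine coeff_eq_zero_of_mem (psi_mem_JJ ?_) hpp.two_le
    rw [hD, map_sum]
    refine sum_mem fun j _ => ?_
    rw [map_mul, map_pow, show r (pderiv j (f' 0)) = pderiv j (r (f' 0)) from (pderiv_map).symm,
      show r (f' 0) = f from hf' 0]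
    refine Ideal.mul_mem_right _ _ ?_
    rw [show f = ∑ i : Fin n, X (ix i 0) * X (ix i 1) from rfl, map_sum, sum_pow_char]
    refine sum_mem fun i _ => ?_
    rw [pderiv_mul, add_pow_char, mul_pow, mul_pow]
    exact add_mem (Ideal.mul_mem_left _ _ (Ideal.subset_span ⟨_, rfl⟩))
      (Ideal.mul_mem_right _ _ (Ideal.subset_span ⟨_, rfl⟩))
  have hC' : psi (r C') = aeval (fun i => (vv i : MvPolynomial (Fin 2) k)) C₀ := by
    suffices ∀ (u : MvPolynomial (Fin (n * 2)) k) (P : MvPolynomial (Fin n) ℤ),
        psi (u * r (aeval z P)) = psi u * aeval (fun i => (vv i : MvPolynomial (Fin 2) k)) P by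
      have h7 := this 1 C₀
      rwa [one_mul, psi_one, one_mul] at h7
    intro u P
    induction P using MvPolynomial.induction_on generalizing u with
    | C a =>
      simp only [algHom_C, eq_intCast, map_intCast]
      rw [← zsmul_eq_mul', map_zsmul, zsmul_eq_mul']
    | add a b ha hb => rw [map_add, map_add, map_add, mul_add, map_add, ha, hb, mul_add]
    | mul_X a i ha =>
      have e1 : r (aeval z (a * X i)) = r (aeval z a) * (X (ix i 0) * X (ix i 1)) := by
        rw [map_mul (aeval z), aeval_X, map_mul r]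
        simp [r, z]
      rw [e1, ← mul_assoc, psi_mul_pair, ha, mul_assoc, map_mul (aeval (fun i => (vv i : MvPolynomial (Fin 2) k))), aeval_X]
  rw [h5, sub_zero] at h4
  have h6 := congrArg (coeff m₀) h4
  rw [coeff_sub, coeff_add, coeff_neg, hC', coeff_cross p hn hp C₀ hC₀, hG0, hD0] at h6
  simp at h6

end Groth.Agent.S19564
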