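import Groth.Statements.S19565
import Mathlib.LinearAlgebra.RootSystem.BaseExists

set_option autoImplicit false
universe u v w
open RootComb

namespace Groth.Agent.S19565

/-- Let Φ be a finite reduced crystallographic irreducible root system over a field of characteristic
zero, Δ a base of simple roots, I ⊆ Δ, and suppose the simple roots outside I are split into two
disjoint non-empty sets A and B. Then there are a simple root β ∈ A and a root δ such that δ is a
non-negative integer combination of the simple roots of I ∪ B (a positive root whose support avoids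
A), δ is not in the linear span of I (so δ is not a root of the Levi subsystem of I), and ⟨δ, β^∨⟩ <
0. (The published statement is made for the root system of a semisimple group; for a reducible
system such as A₁ × A₁ with I empty and A, B the two simple roots there is no such δ, and the
argument measures distances in a connected Dynkin diagram, so the root system is taken irreducible
here.) -/
theorem result
    {ι : Type u} [Finite ι] [DecidableEq ι] {k : Type v} [Field k] [CharZero k]
    {M : Type w} [AddCommGroup M] [Module k M] {N : Type w} [AddCommGroup N] [Module k N]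
    (P : RootPairing ι k M N) [P.IsCrystallographic] [P.IsReduced] [P.IsIrreducible] (b : P.Base)
    (I A B : Finset ι) (hcover : I ∪ A ∪ B = b.support) (hIA : Disjoint I A) (hIB : Disjoint I B)
    (hAB : Disjoint A B) (hA : A.Nonempty) (hB : B.Nonempty) :
    ∃ l ∈ A, ∃ j : ι, P.root j ∈ AddSubmonoid.closure (P.root '' ↑(I ∪ B)) ∧
      P.root j ∉ Submodule.span k (P.root '' ↑I) ∧ P.pairingIn ℤ j l < 0 := by
  classical
  by_contra! hcon
  let S : Set ι := {j | P.root j ∈ AddSubmonoid.closure (P.root '' ↑(I ∪ B)) ∧
    P.root j ∉ Submodule.span k (P.root '' ↑I)}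
  have hsubA : ∀ m ∈ I ∪ B, m ∈ b.support ∧ m ∉ A := by
    intro m hm
    refine ⟨?_, fun hA' => ?_⟩
    · rw [← hcover]; simp only [Finset.mem_union] at hm ⊢; tauto
    · rcases Finset.mem_union.mp hm with h | h
      · exact Finset.disjoint_left.mp hIA h hA'
      · exact Finset.disjoint_left.mp hAB hA' h
  have hzero : ∀ j ∈ S, ∀ l ∈ A, P.pairing j l = 0 := by
    intro j hj l hl
    have h1 : 0 ≤ P.pairingIn ℤ j l := hcon l hl j hj.1 hj.2
    have hlS : l ∈ b.support := by rw [← hcover]; simp [hl]
    have h2 : ∃ z : ℤ, z ≤ 0 ∧ P.coroot' l (P.root j) = z := by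
      refine AddSubmonoid.closure_induction (fun x hx => ?_) ⟨0, le_rfl, by simp⟩
        (fun x y _ _ hx hy => ?_) hj.1
      · obtain ⟨m, hm, rfl⟩ := hx
        obtain ⟨hms, hmA⟩ := hsubA m hm
        refine ⟨P.pairingIn ℤ m l, ?_, ?_⟩
        · by_contra! hc
          have hne : m ≠ l := fun e => hmA (e ▸ hl)
          exact b.sub_notMem_range_root hms hlS (P.root_sub_root_mem_of_pairingIn_pos hc hne)
        · rw [P.root_coroot'_eq_pairing, ← P.algebraMap_pairingIn ℤ m l]; rfl
      · obtain ⟨z, hz, hxz⟩ := hx
        obtain ⟨z', hz', hyz⟩ := hy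
        exact ⟨z + z', by omega, by rw [map_add, hxz, hyz, Int.cast_add]⟩
    obtain ⟨z, hz, hjz⟩ := h2
    rw [P.root_coroot'_eq_pairing, ← P.algebraMap_pairingIn ℤ j l] at hjz
    have he : P.pairingIn ℤ j l = z := Int.cast_injective (α := k) hjz
    rw [← P.algebraMap_pairingIn ℤ j l, show P.pairingIn ℤ j l = 0 by omega, map_zero]
  let U : Submodule k M := Submodule.span k (P.root '' S)
  have hBS : ∀ m ∈ B, m ∈ S := by
    intro m hm
    refine ⟨AddSubmonoid.subset_closure ⟨m, by simp [hm], rfl⟩, fun h => ?_⟩
    have hmI : m ∉ (↑I : Set ι) := fun h' => Finset.disjoint_left.mp hIB h' hm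
    have hsub : insert m (↑I : Set ι) ⊆ ↑b.support := by
      rw [← hcover]
      intro x hx
      rcases hx with rfl | hx
      · simp [hm]
      · simp at hx ⊢; tauto
    exact hmI ((b.linearIndepOn_root.mono ((Set.subset_insert _ _).trans hsub)).mem_span_iff.mp h
      (b.linearIndepOn_root.mono hsub))
  have hUA : ∀ l ∈ A, ∀ x ∈ U, P.coroot' l x = 0 := by
    intro l hl
    suffices U ≤ LinearMap.ker (P.coroot' l) from fun x hx => this hx
    refine Submodule.span_le.mpr ?_
    rintro _ ⟨j, hj, rfl⟩
    exact (P.root_coroot'_eq_pairing l j).trans (hzero j hj l hl)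
  have hinv : ∀ i ∈ b.support, ∀ j ∈ S, P.reflection i (P.root j) ∈ U := by
    intro i hi j hj
    have hjU : P.root j ∈ U := Submodule.subset_span ⟨j, hj, rfl⟩
    rw [← hcover, Finset.mem_union, Finset.mem_union] at hi
    rcases hi with (hiI | hiA) | hiB
    · rw [← P.root_reflectionPerm]
      refine Submodule.subset_span ⟨_, ?_, rfl⟩
      have hs : ∀ J : Finset ι, J ⊆ I ∪ B → i ∈ J → P.root j ∈ Submodule.span k (P.root '' ↑J) →
          P.root (P.reflectionPerm i j) ∈ Submodule.span k (P.root '' ↑J) := by
        intro J _ hiJ h
        rw [P.root_reflectionPerm, P.reflection_apply]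
        exact Submodule.sub_mem _ h (Submodule.smul_mem _ _ (Submodule.subset_span ⟨i, hiJ, rfl⟩))
      have hspan : ∀ x ∈ AddSubmonoid.closure (P.root '' ↑(I ∪ B)),
          x ∈ Submodule.span k (P.root '' ↑(I ∪ B)) := fun x hx =>
        AddSubmonoid.closure_le (S := (Submodule.span k (P.root '' ↑(I ∪ B))).toAddSubmonoid).mpr
          Submodule.subset_span hx
      constructor
      · have hmem := hs (I ∪ B) subset_rfl (by simp [hiI]) (hspan _ hj.1)
        have his : i ∈ b.support := by rw [← hcover]; simp [hiI]
        have hjpos : b.IsPos j := by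
          by_contra hn
          have hneg := (RootPairing.Base.IsPos.neg_iff_not b j).mpr hn
          obtain ⟨f, hf0, hpn, hf⟩ := b.exists_root_eq_sum_int j
          have hmemS : P.root j ∈ AddSubmonoid.closure (P.root '' (b.support : Set ι)) :=
            AddSubmonoid.closure_mono (Set.image_mono fun m hm => (hsubA m hm).1) hj.1
          rw [← Submodule.span_nat_eq_addSubmonoidClosure, Submodule.mem_toAddSubmonoid,
            Fintype.mem_span_image_iff_exists_fun] at hmemS
          obtain ⟨c, hc⟩ := hmemS
          let g : ι → ℤ := fun m => if h : m ∈ b.support then (c ⟨m, h⟩ : ℤ) else 0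
          have hg : P.root j = ∑ m ∈ b.support, g m • P.root m := by
            rw [← Finset.sum_coe_sort, ← hc]
            exact Finset.sum_congr rfl fun m _ => by
              simp [g]
          refine hn ((RootPairing.Base.isPos_iff' b).mpr ?_)
          rw [RootPairing.Base.height_eq_sum hg]
          exact Finset.sum_nonneg fun m hm => by simp only [g, hm, dite_true]; exact Int.natCast_nonneg _
        have hpos : b.IsPos (P.reflectionPerm i j) := hjpos.reflectionPerm his fun e =>
          hj.2 (e ▸ Submodule.subset_span ⟨i, hiI, rfl⟩)
        obtain ⟨f, hf0, hpn, hf⟩ := b.exists_root_eq_sum_int (P.reflectionPerm i j)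
        have hnn : 0 < f := hpn.resolve_right fun h => by
          have h1 := (RootPairing.Base.isPos_iff b).mp hpos
          rw [RootPairing.Base.height_eq_sum hf] at h1
          exact h1.not_ge (Finset.sum_nonpos fun m _ => h.le m)
        have hfA : ∀ m ∈ A, f m = 0 := by
          intro m hm
          have hms : m ∈ b.support := by rw [← hcover]; simp [hm]
          by_contra hne
          have hm' : P.root m ∈ Submodule.span k (P.root '' ↑(b.support.erase m)) := by
            have h1 : P.root (P.reflectionPerm i j) ∈ Submodule.span k (P.root '' ↑(b.support.erase m)) := by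
              refine Submodule.span_mono (Set.image_mono fun x hx => ?_) hmem
              rw [Finset.mem_coe, Finset.mem_erase]
              exact ⟨fun e => (hsubA x hx).2 (e ▸ hm), (hsubA x hx).1⟩
            rw [hf, ← Finset.add_sum_erase _ _ hms] at h1
            have h2 : ∑ x ∈ b.support.erase m, f x • P.root x ∈
                Submodule.span k (P.root '' ↑(b.support.erase m)) :=
              Submodule.sum_mem _ fun x hx =>
                zsmul_mem (Submodule.subset_span (Set.mem_image_of_mem P.root hx)) _
            have h3 := (Submodule.add_mem_iff_left _ h2).mp h1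
            rw [← Int.cast_smul_eq_zsmul k] at h3
            exact (Submodule.smul_mem_iff _ (Int.cast_ne_zero.mpr hne)).mp h3
          have hsub : insert m (↑(b.support.erase m) : Set ι) ⊆ ↑b.support := by
            intro x hx
            rcases hx with rfl | hx
            · exact hms
            · exact (Finset.mem_erase.mp hx).2
          exact Finset.notMem_erase m b.support
            ((b.linearIndepOn_root.mono ((Set.subset_insert _ _).trans hsub)).mem_span_iff.mp hm'
              (b.linearIndepOn_root.mono hsub))
        rw [hf]
        refine AddSubmonoid.sum_mem _ fun m hm => ?_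
        by_cases hmA : m ∈ A
        · rw [hfA m hmA, zero_smul]; exact AddSubmonoid.zero_mem _
        · obtain ⟨n, hn⟩ := Int.eq_ofNat_of_zero_le (hnn.le m)
          rw [hn, natCast_zsmul]
          refine AddSubmonoid.nsmul_mem _ (AddSubmonoid.subset_closure (Set.mem_image_of_mem P.root ?_)) _
          rw [← hcover] at hm
          simp only [Finset.mem_union, Finset.mem_coe] at hm ⊢
          tauto
      · intro h
        refine hj.2 ?_
        have h' : P.root (P.reflectionPerm i (P.reflectionPerm i j)) ∈
            Submodule.span k (P.root '' ↑I) := by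
          rw [P.root_reflectionPerm, P.reflection_apply]
          exact Submodule.sub_mem _ h (Submodule.smul_mem _ _ (Submodule.subset_span ⟨i, hiI, rfl⟩))
        rwa [P.reflectionPerm_self] at h'
    · rw [P.reflection_apply_root, hzero j hj i hiA, zero_smul, sub_zero]
      exact hjU
    · rw [P.reflection_apply_root]
      exact Submodule.sub_mem _ hjU (Submodule.smul_mem _ _ (Submodule.subset_span ⟨i, hBS i hiB, rfl⟩))
  have hall : ∀ i, U ∈ Module.End.invtSubmodule (P.reflection i) := by
    rw [← RootPairing.Base.forall_mem_support_invtSubmodule_iff (b := b)]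
    intro i hi
    rw [Module.End.mem_invtSubmodule]
    refine Submodule.span_le.mpr ?_
    rintro _ ⟨j, hj, rfl⟩
    exact hinv i hi j hj
  obtain ⟨m, hm⟩ := hB
  have hne : U ≠ ⊥ := fun h => P.ne_zero m (by
    have : P.root m ∈ U := Submodule.subset_span ⟨m, hBS m hm, rfl⟩
    rwa [h, Submodule.mem_bot] at this)
  have htop := RootPairing.IsIrreducible.eq_top_of_invtSubmodule_reflection U hall hne
  obtain ⟨l, hl⟩ := hA
  have h2 := hUA l hl (P.root l) (htop ▸ Submodule.mem_top)
  rw [P.root_coroot'_eq_pairing, P.pairing_same] at h2
  exact two_ne_zero h2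

end Groth.Agent.S19565
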