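import Groth.Statements.S19567
import Groth.Agent.Hens.PairStage
set_option linter.style.haveILetI false

set_option autoImplicit false
universe u
open Hensel

namespace Groth.Agent.S19567

/-- Let A be a ring and I an ideal of A, and consider étale A-algebras A' for which the induced map A/I
→ A'/IA' is bijective. (1) For any two such algebras A₁ and A₂ there is a third such algebra A₃
admitting A-algebra maps from both. (2) For any two A-algebra maps f, g : A₁ → A₂ between such
algebras there are such an algebra A₃ and an A-algebra map h : A₂ → A₃ with h ∘ f = h ∘ g. (All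
algebras are taken in the universe of A. Since A itself is such an algebra, (1) and (2) say that the
category of these algebras and A-algebra maps is filtered.) -/
theorem result (A : Type u) [CommRing A] (I : Ideal A) :
    (∀ (A₁ A₂ : Type u) [CommRing A₁] [Algebra A A₁] [Algebra.Etale A A₁] [CommRing A₂] [Algebra A A₂]
        [Algebra.Etale A A₂],
        Function.Bijective (Ideal.quotientMap (I.map (algebraMap A A₁)) (algebraMap A A₁) Ideal.le_comap_map) →
        Function.Bijective (Ideal.quotientMap (I.map (algebraMap A A₂)) (algebraMap A A₂) Ideal.le_comap_map) →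
          ∃ (A₃ : Type u) (_ : CommRing A₃) (_ : Algebra A A₃) (_ : Algebra.Etale A A₃),
            Function.Bijective (Ideal.quotientMap (I.map (algebraMap A A₃)) (algebraMap A A₃) Ideal.le_comap_map) ∧
              Nonempty (A₁ →ₐ[A] A₃) ∧ Nonempty (A₂ →ₐ[A] A₃)) ∧
    (∀ (A₁ A₂ : Type u) [CommRing A₁] [Algebra A A₁] [Algebra.Etale A A₁] [CommRing A₂] [Algebra A A₂]
        [Algebra.Etale A A₂],
        Function.Bijective (Ideal.quotientMap (I.map (algebraMap A A₁)) (algebraMap A A₁) Ideal.le_comap_map) →
        Function.Bijective (Ideal.quotientMap (I.map (algebraMap A A₂)) (algebraMap A A₂) Ideal.le_comap_map) →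
          ∀ (f g : A₁ →ₐ[A] A₂),
            ∃ (A₃ : Type u) (_ : CommRing A₃) (_ : Algebra A A₃) (_ : Algebra.Etale A A₃),
              Function.Bijective (Ideal.quotientMap (I.map (algebraMap A A₃)) (algebraMap A A₃) Ideal.le_comap_map) ∧
                ∃ h : A₂ →ₐ[A] A₃, h.comp f = h.comp g) := by
  refine ⟨?_, ?_⟩
  · intro A₁ A₂ _ _ _ _ _ _ h₁ h₂
    obtain ⟨σ₁, -⟩ := Groth.Agent.Hens.exists_section_of_bijective h₁
    obtain ⟨σ₂, -⟩ := Groth.Agent.Hens.exists_section_of_bijective h₂
    haveI : Algebra.Etale A (TensorProduct A A₁ A₂) := Algebra.Etale.comp A A₁ _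
    obtain ⟨t, -, hb⟩ := Groth.Agent.Hens.exists_away_bijective
      (Algebra.TensorProduct.lift σ₁ σ₂ (fun _ _ => Commute.all _ _))
    exact ⟨Localization.Away t, _, _, inferInstance, hb,
      ⟨(IsScalarTower.toAlgHom A (TensorProduct A A₁ A₂) _).comp Algebra.TensorProduct.includeLeft⟩,
      ⟨(IsScalarTower.toAlgHom A (TensorProduct A A₁ A₂) _).comp Algebra.TensorProduct.includeRight⟩⟩
  · intro A₁ A₂ _ _ _ _ _ _ h₁ h₂ f g
    obtain ⟨σ, -⟩ := Groth.Agent.Hens.exists_section_of_bijective h₂
    obtain ⟨θ, hθ, -⟩ := Groth.Agent.Hens.existsUnique_algHom_pair σ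
    have he : θ.comp f = θ.comp g := Groth.Agent.Hens.pair_eq_of_point
      (Groth.Agent.Hens.section_unique_self h₁.2 _ _)
    obtain ⟨G, hG⟩ := Algebra.FiniteType.out (R := A) (A := A₁)
    choose s hs hs' using fun a : G => Groth.Agent.Hens.exists_mul_eq_zero_of_pair θ
      (s := f (a : A₁) - g (a : A₁))
      (by rw [map_sub]; exact sub_eq_zero.2 (AlgHom.congr_fun he (a : A₁)))
    have hu : IsUnit (σ (∏ a : G, s a)) := by
      rw [map_prod]
      refine IsUnit.prod_iff.2 fun a _ => ?_
      rw [← hθ]
      exact hs a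
    obtain ⟨t, -, hb⟩ := Groth.Agent.Hens.exists_away_bijective
      (Groth.Agent.Hens.awayExt σ (∏ a : G, s a) hu)
    refine ⟨Localization.Away t, _, _, inferInstance, hb,
      (IsScalarTower.toAlgHom A (Localization.Away (∏ a : G, s a)) _).comp
        (IsScalarTower.toAlgHom A A₂ _), AlgHom.ext_of_adjoin_eq_top hG fun a ha => ?_⟩
    simp only [AlgHom.comp_apply]
    congr 1
    obtain ⟨c, hc⟩ := Finset.dvd_prod_of_mem s (Finset.mem_univ (⟨a, ha⟩ : G))
    refine sub_eq_zero.1 ((IsLocalization.Away.algebraMap_isUnit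
      (S := Localization.Away (∏ a : G, s a)) (∏ a : G, s a)).mul_left_cancel ?_)
    rw [mul_zero, ← map_sub, IsScalarTower.toAlgHom_apply, ← map_mul]
    rw [show (∏ a : G, s a) * (f a - g a) = 0 by rw [hc, mul_right_comm, hs' ⟨a, ha⟩, zero_mul]]
    exact map_zero _

end Groth.Agent.S19567
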