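import Mathlib
import Groth.Statements.S19569
-- import your own Groth.Agent.* helpers here

set_option autoImplicit false
universe u
open CAlg

namespace Groth.Agent.S19569

open TensorProduct in
/-- Let A be the colimit of a directed system of rings (A_i), given by compatible ring maps A_i → A
which are jointly surjective and such that an element of some A_i mapping to zero in A already maps
to zero in some later A_j, and let B be an étale A-algebra. Then for some index i there is an étale
A_i-algebra B_i such that B is isomorphic, as an A-algebra, to the base change A ⊗_{A_i} B_i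
(existence of an isomorphism). (Stated for a system indexed by a directed preordered set.) -/
theorem result {ι : Type u} [Preorder ι] [IsDirected ι (· ≤ ·)] [Nonempty ι]
    (G : ι → Type u) [∀ i, CommRing (G i)] (f : ∀ i j, i ≤ j → (G i →+* G j))
    (A : Type u) [CommRing A] (g : ∀ i, G i →+* A) (hg : ∀ i j (h : i ≤ j), (g j).comp (f i j h) = g i)
    (hsurj : ∀ a : A, ∃ i, ∃ x : G i, g i x = a)
    (hker : ∀ i (x : G i), g i x = 0 → ∃ j, ∃ h : i ≤ j, f i j h x = 0)
    (B : Type u) [CommRing B] [Algebra A B] [Algebra.Etale A B] :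
    ∃ (i : ι) (Bi : Type u) (_ : CommRing Bi) (_ : Algebra (G i) Bi), Algebra.Etale (G i) Bi ∧
      letI : Algebra (G i) A := (g i).toAlgebra
      Nonempty (B ≃ₐ[A] A ⊗[G i] Bi) := by
  classical
  obtain ⟨A₀, B₀, _, _, hfg, het, ⟨e⟩⟩ := Algebra.Etale.exists_subalgebra_fg (R := ℤ) (A := A) (B := B)
  have : Algebra.FiniteType ℤ A₀ := (Subalgebra.fg_iff_finiteType A₀).mp hfg
  have hFP : Algebra.FinitePresentation ℤ A₀ := Algebra.FinitePresentation.of_finiteType.mp this
  obtain ⟨N, π, hπ, ⟨T, hT⟩⟩ := hFP
  choose ix xx hxx using fun i : Fin N => hsurj ((π (MvPolynomial.X i) : A₀) : A)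
  obtain ⟨i₀, hi₀⟩ := Finite.exists_le ix
  have key : ∀ S : Finset (MvPolynomial (Fin N) ℤ), S ⊆ T → ∃ (j : ι) (φ : MvPolynomial (Fin N) ℤ →+* G j),
      (∀ P, g j (φ P) = ((π P : A₀) : A)) ∧ ∀ P ∈ S, φ P = 0 := by
    intro S
    induction S using Finset.induction with
    | empty =>
      intro _
      refine ⟨i₀, MvPolynomial.eval₂Hom (Int.castRingHom _) (fun n => f (ix n) i₀ (hi₀ n) (xx n)), fun P => ?_, by simp⟩
      have : (g i₀).comp (MvPolynomial.eval₂Hom (Int.castRingHom _) (fun n => f (ix n) i₀ (hi₀ n) (xx n))) =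
          (A₀.val.toRingHom).comp π.toRingHom := by
        refine MvPolynomial.ringHom_ext (fun r => by simp) fun n => ?_
        simp only [RingHom.comp_apply, MvPolynomial.eval₂Hom_X']
        rw [← RingHom.comp_apply (g i₀), hg, hxx]
        rfl
      exact RingHom.congr_fun this P
    | insert Q S _ ih =>
      intro hsub
      rw [Finset.insert_subset_iff] at hsub
      obtain ⟨j, φ, hφ, hφ0⟩ := ih hsub.2
      have hQ : g j (φ Q) = 0 := by
        have : Q ∈ RingHom.ker π.toRingHom := hT ▸ Ideal.subset_span hsub.1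
        rw [hφ, show π Q = 0 from this]
        rfl
      obtain ⟨k, hk, hk0⟩ := hker j _ hQ
      refine ⟨k, (f j k hk).comp φ, fun P => ?_, fun P hP => ?_⟩
      · rw [RingHom.comp_apply, ← RingHom.comp_apply (g k), hg, hφ]
      · rcases Finset.mem_insert.mp hP with rfl | hP
        · exact hk0
        · rw [RingHom.comp_apply, hφ0 P hP, map_zero]
  obtain ⟨j, φ, hφ, hφ0⟩ := key T subset_rfl
  have hker' : RingHom.ker π.toRingHom ≤ RingHom.ker φ := by
    rw [← hT, Submodule.span_le]; exact fun P hP => hφ0 P hP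
  let ψ : A₀ →+* G j := RingHom.liftOfSurjective π.toRingHom hπ ⟨φ, hker'⟩
  have hψ : (g j).comp ψ = A₀.val.toRingHom := by
    refine RingHom.ext fun a => ?_
    obtain ⟨P, rfl⟩ := hπ a
    show g j (ψ (π.toRingHom P)) = _
    rw [RingHom.liftOfSurjective_comp_apply]
    exact hφ P
  let : Algebra A₀ (G j) := ψ.toAlgebra
  let : Algebra (G j) A := (g j).toAlgebra
  have : IsScalarTower A₀ (G j) A := IsScalarTower.of_algebraMap_eq' hψ.symm
  exact ⟨j, G j ⊗[A₀] B₀, inferInstance, inferInstance, inferInstance,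
    ⟨e.trans (Algebra.TensorProduct.cancelBaseChange A₀ (G j) A A B₀).symm⟩⟩

end Groth.Agent.S19569
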