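import Groth.Statements.S1957
import Mathlib
import Groth.Agent.Hens.PairStage

set_option autoImplicit false
universe u
open Polynomial
open EtAlg

namespace Groth.Agent.S1957

/-- Let A be a ring, I an ideal and f a monic polynomial over A. Suppose the image of f in (A/I)[x]
factors as g h where the leading coefficient of g is a unit and g, h generate the unit ideal. Then
there is an etale A-algebra A' such that A/I -> A'/IA' is bijective, together with a factorization f
= g' h' in A'[x] whose reduction modulo IA' is the image of the given one. -/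
theorem result (A : Type u) [CommRing A] (I : Ideal A) (f : A[X]) (hf : f.Monic)
    (g h : (A ⧸ I)[X]) (hgh : f.map (Ideal.Quotient.mk I) = g * h) (hlead : IsUnit g.leadingCoeff)
    (hcop : IsCoprime g h) :
    ∃ (A' : Type u) (_ : CommRing A') (_ : Algebra A A') (_ : Algebra.Etale A A'),
      Function.Bijective (Ideal.quotientMap (I.map (algebraMap A A')) (algebraMap A A') Ideal.le_comap_map) ∧
      ∃ g' h' : A'[X], f.map (algebraMap A A') = g' * h' ∧
        g'.map (Ideal.Quotient.mk (I.map (algebraMap A A'))) =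
          g.map (Ideal.quotientMap (I.map (algebraMap A A')) (algebraMap A A') Ideal.le_comap_map) ∧
        h'.map (Ideal.Quotient.mk (I.map (algebraMap A A'))) =
          h.map (Ideal.quotientMap (I.map (algebraMap A A')) (algebraMap A A') Ideal.le_comap_map) := by
  classical
  obtain hsub | hnt := subsingleton_or_nontrivial (A ⧸ I)
  · have hI : I = ⊤ := Submodule.Quotient.subsingleton_iff.mp hsub
    -- the zero ring works
    let t : A := 0
    refine ⟨Localization.Away t, inferInstance, inferInstance, inferInstance, ?_, 1, f.map (algebraMap A _), by rw [one_mul], ?_, ?_⟩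
    all_goals
      have hsub' : Subsingleton (Localization.Away t) := IsLocalization.subsingleton (M := Submonoid.powers t) ⟨1, by simp [t]⟩
      have : Subsingleton (Localization.Away t ⧸ I.map (algebraMap A (Localization.Away t))) := Ideal.Quotient.mk_surjective.subsingleton
    · exact ⟨fun _ _ _ => Subsingleton.elim _ _, fun y => ⟨0, Subsingleton.elim _ _⟩⟩
    · exact Subsingleton.elim _ _
    · exact Subsingleton.elim _ _
  obtain ⟨u, hu⟩ := hlead
  set g₀ : (A ⧸ I)[X] := g * C (↑u⁻¹ : A ⧸ I) with hg₀def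
  set h₀ : (A ⧸ I)[X] := C (u : A ⧸ I) * h with hh₀def
  have hCu : C (↑u⁻¹ : A ⧸ I) * C (u : A ⧸ I) = 1 := by rw [← C_mul, Units.inv_mul, C_1]
  have hfg : f.map (Ideal.Quotient.mk I) = g₀ * h₀ := by
    rw [hgh, hg₀def, hh₀def, mul_assoc g, ← mul_assoc (C _), hCu, one_mul]
  have hg₀ : g₀.Monic := monic_mul_C_of_leadingCoeff_mul_eq_one (by rw [← hu, Units.mul_inv])
  have hh₀ : h₀.Monic := hg₀.of_mul_monic_left (hfg ▸ hf.map _)
  have hc : IsCoprime g₀ h₀ := by
    obtain ⟨a, b, hab⟩ := hcop
    refine ⟨a * C (u : A ⧸ I), b * C (↑u⁻¹ : A ⧸ I), ?_⟩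
    rw [← hab, hg₀def, hh₀def]
    linear_combination (a * g + b * h) * hCu
  let m := g₀.natDegree
  let k := h₀.natDegree
  have hn : f.natDegree = m + k := by
    rw [← hg₀.natDegree_mul hh₀, ← hfg, hf.natDegree_map]
  let p : MonicDegreeEq A f.natDegree := .mk f hf rfl
  let U' := UniversalCoprimeFactorizationRing m k hn p
  let q : { q : MonicDegreeEq (A ⧸ I) m × MonicDegreeEq (A ⧸ I) k //
      q.1.1 * q.2.1 = p.1.map (algebraMap A (A ⧸ I)) ∧ IsCoprime q.1.1 q.2.1 } :=
    ⟨(.mk g₀ hg₀ rfl, .mk h₀ hh₀ rfl), hfg.symm, hc⟩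
  let σ' : U' →ₐ[A] A ⧸ I := (UniversalCoprimeFactorizationRing.homEquiv _ m k hn p).symm q
  obtain ⟨b, hb⟩ := Ideal.Quotient.mk_surjective (u : A ⧸ I)
  have hσb : IsUnit (σ' (algebraMap A U' b)) := by
    rw [σ'.commutes, Ideal.Quotient.algebraMap_eq, hb]; exact u.isUnit
  let S := Localization.Away (algebraMap A U' b)
  haveI : Algebra.Etale A U' := inferInstance
  haveI : Algebra.Etale U' S := inferInstance
  haveI hS : Algebra.Etale A S := Algebra.Etale.comp A U' S
  obtain ⟨t, ht, hbij⟩ := Agent.Hens.exists_away_bijective (Agent.Hens.awayExt σ' _ hσb)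
  let A' := Localization.Away t
  haveI : Algebra.Etale S A' := inferInstance
  refine ⟨A', inferInstance, inferInstance, Algebra.Etale.comp A S A', hbij, ?_⟩
  let ρ : A' →ₐ[A] A ⧸ I := Agent.Hens.awayExt (Agent.Hens.awayExt σ' _ hσb) t (by rw [ht]; exact isUnit_one)
  let ι : U' →ₐ[A] A' := (IsScalarTower.toAlgHom A S A').comp (IsScalarTower.toAlgHom A U' S)
  have hι : ρ.comp ι = σ' := AlgHom.ext fun x => by
    show ρ (algebraMap S A' (algebraMap U' S x)) = σ' x
    simp only [ρ, S, A', Agent.Hens.awayExt_algebraMap]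
  set Q := A' ⧸ I.map (algebraMap A A')
  let qm : (A ⧸ I) →+* Q := Ideal.quotientMap (I.map (algebraMap A A')) (algebraMap A A') Ideal.le_comap_map
  let qmA : (A ⧸ I) →ₐ[A] Q := ⟨qm, fun a => rfl⟩
  have hsec : qmA.comp ρ = Ideal.Quotient.mkₐ A _ :=
    Agent.Hens.section_unique (C := Q) hbij.2 (qmA.comp ρ) (Ideal.Quotient.mkₐ A _) fun a ha => (Ideal.Quotient.eq_zero_iff_mem (I := I.map (algebraMap A A'))).2 (Ideal.mem_map_of_mem _ ha)
  obtain ⟨w, hw⟩ : ∃ w : A'ˣ, (w : A') = algebraMap A A' b := by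
    have : IsUnit (algebraMap A A' b) := by
      rw [IsScalarTower.algebraMap_apply A S A', IsScalarTower.algebraMap_apply A U' S]
      exact (IsLocalization.Away.algebraMap_isUnit _).map _
    exact ⟨this.unit, rfl⟩
  rcases hF : UniversalCoprimeFactorizationRing.homEquiv A' m k hn p ι with ⟨⟨G, H⟩, hGH, hGHc⟩
  have hG : G.1.map ρ.toRingHom = g₀ := by
    have h1 := UniversalCoprimeFactorizationRing.homEquiv_comp_fst A' m k hn p ι ρ
    rw [hι, Equiv.apply_symm_apply, hF] at h1
    exact (congrArg Subtype.val h1).symm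
  have hH : H.1.map ρ.toRingHom = h₀ := by
    have h1 := UniversalCoprimeFactorizationRing.homEquiv_comp_snd A' m k hn p ι ρ
    rw [hι, Equiv.apply_symm_apply, hF] at h1
    exact (congrArg Subtype.val h1).symm
  have hmk : ∀ P : A'[X], P.map (Ideal.Quotient.mk (I.map (algebraMap A A'))) = (P.map ρ.toRingHom).map qm := fun P => by
    rw [Polynomial.map_map]
    exact congrArg (fun φ : A' →+* Q => P.map φ) (congrArg AlgHom.toRingHom hsec).symm
  refine ⟨C (w : A') * G.1, C (↑w⁻¹ : A') * H.1, ?_, ?_, ?_⟩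
  · rw [mul_mul_mul_comm, ← C_mul, Units.mul_inv, C_1, one_mul, hGH]
    rfl
  · rw [hmk, Polynomial.map_mul, map_C, hG, hg₀def, hw]
    have : ρ.toRingHom (algebraMap A A' b) = (u : A ⧸ I) := (ρ.commutes b).trans hb
    rw [this, mul_comm g, ← mul_assoc, ← C_mul, Units.mul_inv, C_1, one_mul]
  · rw [hmk, Polynomial.map_mul, map_C, hH, hh₀def]
    have : ρ.toRingHom (↑w⁻¹ : A') = (↑u⁻¹ : A ⧸ I) := by
      refine left_inv_eq_right_inv (a := (u : A ⧸ I)) ?_ (Units.mul_inv u)
      rw [← (show ρ.toRingHom (algebraMap A A' b) = (u : A ⧸ I) from (ρ.commutes b).trans hb), ← hw, ← map_mul, Units.inv_mul, map_one]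
    rw [this, ← mul_assoc, ← C_mul, Units.inv_mul, C_1, one_mul]

end Groth.Agent.S1957
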