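import Groth.Statements.S19570
import Groth.Agent.EGA4Lib.EtaleStage
import Groth.Agent.S6827
import Groth.Agent.S0532
import Groth.Agent.S1182

set_option autoImplicit false
universe u
open scoped TensorProduct
open EGA4

set_option linter.style.haveILetI false

namespace Groth.Agent.S19570

/-- Let V be a complete discrete valuation ring of characteristic zero, with maximal ideal 𝔪 and residue
field k, let A₀ be a smooth k-algebra and B₀ a finite étale A₀-algebra. Then A₀ lifts to a smooth
V-algebra A (an isomorphism k ⊗_V A ≅ A₀ of k-algebras), and the finite étale cover lifts over it: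
there is a finite A-algebra B which is a normal ring, with an isomorphism k ⊗_V B ≅ B₀ compatible
with the one for A and with the algebra maps, such that the localization A_T → B_T at T = 1 + 𝔪A is
étale. The published corollary also claims, for the lift it produces, a finite étale lift after
inverting a suitable element and further properties of formal completions of projective closures;
the statement here asserts only that B is finite over A and normal and that A_T → B_T is étale. -/
theorem result
    (V : Type u) [CommRing V] [IsDomain V] [IsDiscreteValuationRing V] [CharZero V]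
    [IsAdicComplete (IsLocalRing.maximalIdeal V) V]
    (A₀ : Type u) [CommRing A₀] [Algebra (IsLocalRing.ResidueField V) A₀]
    [Algebra.Smooth (IsLocalRing.ResidueField V) A₀]
    (B₀ : Type u) [CommRing B₀] [Algebra A₀ B₀] [Algebra (IsLocalRing.ResidueField V) B₀]
    [IsScalarTower (IsLocalRing.ResidueField V) A₀ B₀] [Module.Finite A₀ B₀] [Algebra.Etale A₀ B₀] :
    ∃ (A : Type u) (_ : CommRing A) (_ : Algebra V A) (_ : Algebra.Smooth V A)
      (e : (IsLocalRing.ResidueField V) ⊗[V] A ≃ₐ[IsLocalRing.ResidueField V] A₀)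
      (B : Type u) (_ : CommRing B) (_ : Algebra A B) (_ : Algebra V B) (_ : IsScalarTower V A B)
      (e' : (IsLocalRing.ResidueField V) ⊗[V] B ≃ₐ[IsLocalRing.ResidueField V] B₀),
      Module.Finite A B ∧ EGA4.IsNormalRing B ∧
      (∀ x : (IsLocalRing.ResidueField V) ⊗[V] A,
        e' (Algebra.TensorProduct.map (AlgHom.id (IsLocalRing.ResidueField V) (IsLocalRing.ResidueField V))
          (IsScalarTower.toAlgHom V A B) x) = algebraMap A₀ B₀ (e x)) ∧
      Algebra.Etale (Localization (MonoidHom.mker (Ideal.Quotient.mk ((IsLocalRing.maximalIdeal V).map (algebraMap V A)))))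
        (Localization (Algebra.algebraMapSubmonoid B
          (MonoidHom.mker (Ideal.Quotient.mk ((IsLocalRing.maximalIdeal V).map (algebraMap V A)))))) := by
  letI : Algebra (V ⧸ IsLocalRing.maximalIdeal V) A₀ :=
    inferInstanceAs (Algebra (IsLocalRing.ResidueField V) A₀)
  haveI : Algebra.Smooth (V ⧸ IsLocalRing.maximalIdeal V) A₀ :=
    inferInstanceAs (Algebra.Smooth (IsLocalRing.ResidueField V) A₀)
  letI : Algebra V A₀ :=
    ((algebraMap (IsLocalRing.ResidueField V) A₀).comp
      (IsLocalRing.residue V)).toAlgebra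
  letI : Algebra V B₀ :=
    ((algebraMap (IsLocalRing.ResidueField V) B₀).comp
      (IsLocalRing.residue V)).toAlgebra
  haveI : IsScalarTower V (IsLocalRing.ResidueField V) A₀ :=
    IsScalarTower.of_algebraMap_eq fun _ => rfl
  haveI : IsScalarTower V (IsLocalRing.ResidueField V) B₀ :=
    IsScalarTower.of_algebraMap_eq fun _ => rfl
  obtain ⟨A, _, _, hA, ⟨e₀⟩⟩ :=
    Groth.Agent.S6827.result (R := V) (A₀ := A₀) (IsLocalRing.maximalIdeal V)
  haveI : IsNoetherianRing A := Algebra.FiniteType.isNoetherianRing V A
  set I : Ideal A := (IsLocalRing.maximalIdeal V).map (algebraMap V A) with hI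
  let H := Groth.Agent.Hens.PairHenselization A I
  let J : Ideal H := I.map (algebraMap A H)
  haveI : HenselianRing H J :=
    (Groth.Agent.Hens.isPairHenselization_pairHenselization (A := A) (I := I)).1
  -- `H / J ≅ A₀`
  let π : H →+* A₀ := e₀.toRingEquiv.toRingHom.comp (Groth.Agent.Hens.pairPoint A I).toRingHom
  have hπk : RingHom.ker π = J := by
    show _ = I.map (algebraMap A H)
    rw [← Groth.Agent.Hens.ker_pairPoint]
    ext x
    exact map_eq_zero_iff _ e₀.toRingEquiv.injective
  have hπs : Function.Surjective π := fun y => by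
    obtain ⟨a, ha⟩ := Ideal.Quotient.mk_surjective (e₀.symm y)
    refine ⟨algebraMap A H a, ?_⟩
    show e₀ (Groth.Agent.Hens.pairPoint A I (algebraMap A H a)) = y
    rw [AlgHom.commutes, Ideal.Quotient.algebraMap_eq, ha, e₀.apply_symm_apply]
  let π' : H ⧸ J →+* A₀ := Ideal.Quotient.lift J π fun x hx => hπk.ge hx
  have hπ' : Function.Bijective π' := by
    refine ⟨(injective_iff_map_eq_zero _).2 fun x hx => ?_, fun y => ?_⟩
    · obtain ⟨h, rfl⟩ := Ideal.Quotient.mk_surjective x
      exact Ideal.Quotient.eq_zero_iff_mem.2 (hπk.le hx)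
    · obtain ⟨h, rfl⟩ := hπs y
      exact ⟨Ideal.Quotient.mk J h, rfl⟩
  letI : Algebra (H ⧸ J) A₀ := π'.toAlgebra
  letI : Algebra (H ⧸ J) B₀ := ((algebraMap A₀ B₀).comp π').toAlgebra
  haveI : IsScalarTower (H ⧸ J) A₀ B₀ := IsScalarTower.of_algebraMap_eq fun _ => rfl
  haveI : Algebra.Etale (H ⧸ J) A₀ :=
    Algebra.Etale.of_equiv (AlgEquiv.ofBijective (Algebra.ofId (H ⧸ J) A₀) hπ')
  haveI : Algebra.Etale (H ⧸ J) B₀ := Algebra.Etale.comp (H ⧸ J) A₀ B₀
  haveI : Module.Finite (H ⧸ J) A₀ :=
    Module.Finite.of_surjective (Algebra.linearMap (H ⧸ J) A₀) hπ'.2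
  haveI : Module.Finite (H ⧸ J) B₀ := Module.Finite.trans A₀ B₀
  obtain ⟨BH, _, _, _, _, ⟨eH⟩⟩ := Groth.Agent.S0532.result H J B₀
  let q : BH →+* B₀ := eH.toRingEquiv.toRingHom.comp
    (Algebra.TensorProduct.includeRight : BH →ₐ[H] (H ⧸ J) ⊗[H] BH).toRingHom
  have hq : Function.Surjective q := fun y => by
    obtain ⟨b, hb⟩ := Algebra.TensorProduct.includeRight_surjective (R := H) (S := H ⧸ J) BH
      Ideal.Quotient.mk_surjective (eH.symm y)
    exact ⟨b, (congrArg eH hb).trans (eH.apply_symm_apply y)⟩
  have hqalg : ∀ h, q (algebraMap H BH h) = algebraMap A₀ B₀ (π h) := fun h => by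
    show eH (Algebra.TensorProduct.includeRight (algebraMap H BH h)) = _
    rw [AlgHom.commutes, IsScalarTower.algebraMap_apply H (H ⧸ J) ((H ⧸ J) ⊗[H] BH),
      eH.commutes]
    rfl
  have hqk : RingHom.ker q = I.map ((algebraMap H BH).comp (algebraMap A H)) := by
    rw [← Ideal.map_map]
    refine le_antisymm (fun b hb => ?_) ?_
    · have hb' : Algebra.TensorProduct.includeRight (R := H) (A := H ⧸ J) b = 0 :=
        (map_eq_zero_iff _ eH.injective).1 hb
      rw [Algebra.TensorProduct.includeRight_apply,
        ← (TensorProduct.quotTensorEquivQuotSMul BH J).map_eq_zero_iff,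
        TensorProduct.quotTensorEquivQuotSMul_mk_one_tmul, Submodule.Quotient.mk_eq_zero,
        Ideal.smul_top_eq_map] at hb'
      exact hb'
    · rw [Ideal.map_le_iff_le_comap]
      intro h hh
      show q (algebraMap H BH h) = 0
      rw [hqalg, show π h = 0 from hπk.ge hh, map_zero]
  obtain ⟨S, _, _, _, θ, hθk, B, _, _, _, qB, hfin, hqBs, hqBk, hqB⟩ :=
    Groth.Agent.EGA4Lib.EtaleStage.exists_finiteEtale_stage BH B₀ q hq hqk
  letI : Algebra V S := ((algebraMap A S).comp (algebraMap V A)).toAlgebra
  haveI : IsScalarTower V A S := IsScalarTower.of_algebraMap_eq fun _ => rfl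
  haveI : Algebra.Smooth V S := Algebra.Smooth.comp V A S
  letI : Algebra V B := ((algebraMap S B).comp (algebraMap V S)).toAlgebra
  haveI : IsScalarTower V S B := IsScalarTower.of_algebraMap_eq fun _ => rfl
  have hv : ∀ v, π (algebraMap A H (algebraMap V A v)) = algebraMap V A₀ v := fun v => by
    show e₀ (Groth.Agent.Hens.pairPoint A I (algebraMap A H (algebraMap V A v))) = _
    rw [AlgHom.commutes]
    exact e₀.commutes (Ideal.Quotient.mk _ v)
  let qS : S →ₐ[V] A₀ :=
    { π.comp θ.toRingHom with
      commutes' := fun v => by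
        show π (θ (algebraMap A S (algebraMap V A v))) = _
        rw [θ.commutes, hv] }
  have hqSs : Function.Surjective qS := fun y => by
    obtain ⟨a, ha⟩ := Ideal.Quotient.mk_surjective (e₀.symm y)
    refine ⟨algebraMap A S a, ?_⟩
    show e₀ (Groth.Agent.Hens.pairPoint A I (θ (algebraMap A S a))) = y
    rw [θ.commutes, AlgHom.commutes, Ideal.Quotient.algebraMap_eq, ha, e₀.apply_symm_apply]
  have hqSk : RingHom.ker qS.toRingHom = (IsLocalRing.maximalIdeal V).map (algebraMap V S) := by
    rw [IsScalarTower.algebraMap_eq V A S, ← Ideal.map_map, ← hI, ← hθk]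
    ext x
    exact map_eq_zero_iff _ e₀.toRingEquiv.injective
  let qB' : B →ₐ[V] B₀ :=
    { qB with
      commutes' := fun v => by
        show qB (algebraMap S B (algebraMap A S (algebraMap V A v))) = _
        rw [hqB, θ.commutes, hqalg, hv]
        exact (IsScalarTower.algebraMap_apply (IsLocalRing.ResidueField V) A₀ B₀ _).symm }
  have hqB'k : RingHom.ker qB'.toRingHom = (IsLocalRing.maximalIdeal V).map (algebraMap V B) := by
    rw [IsScalarTower.algebraMap_eq V S B, ← Ideal.map_map, IsScalarTower.algebraMap_eq V A S,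
      ← Ideal.map_map, ← hI]
    exact hqBk
  haveI : Algebra.Smooth V B := Algebra.Smooth.comp V S B
  refine ⟨S, inferInstance, inferInstance, inferInstance,
    Groth.Agent.EGA4Lib.EtaleStage.residueEquiv V qS hqSs hqSk, B, inferInstance, inferInstance,
    inferInstance, inferInstance,
    Groth.Agent.EGA4Lib.EtaleStage.residueEquiv V qB' hqBs hqB'k, hfin, ?_, ?_, ?_⟩
  · refine (Groth.Agent.S1182.result V B).1 fun p _ => ?_
    exact ⟨inferInstance,
      isIntegrallyClosed_of_isLocalization _ p.primeCompl p.primeCompl_le_nonZeroDivisors⟩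
  · intro x
    induction x using TensorProduct.induction_on with
    | zero => simp
    | tmul c s =>
      rw [Algebra.TensorProduct.map_tmul, AlgHom.id_apply,
        Groth.Agent.EGA4Lib.EtaleStage.residueEquiv_tmul,
        Groth.Agent.EGA4Lib.EtaleStage.residueEquiv_tmul, map_mul,
        ← IsScalarTower.algebraMap_apply]
      congr 1
      exact (hqB s).trans (hqalg (θ s))
    | add x y hx hy => simp only [map_add, hx, hy]
  · set M := MonoidHom.mker (Ideal.Quotient.mk ((IsLocalRing.maximalIdeal V).map (algebraMap V S)))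
    haveI : Algebra.IsPushout S (Localization M) B (Localization (Algebra.algebraMapSubmonoid B M)) :=
      (Algebra.isPushout_of_isLocalization M (Localization M) B _).symm
    exact Algebra.Etale.of_equiv
      (Algebra.IsPushout.equiv S (Localization M) B (Localization (Algebra.algebraMapSubmonoid B M)))

end Groth.Agent.S19570
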