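import Groth.Statements.S19571
import Mathlib.AlgebraicGeometry.Morphisms.UniversallyOpen
import Mathlib.AlgebraicGeometry.AffineScheme
import Mathlib.AlgebraicGeometry.Morphisms.Flat
-- import your own Groth.Agent.* helpers here

set_option autoImplicit false
universe u
open CategoryTheory AlgebraicGeometry
open EtaPt

namespace Groth.Agent.S19571

open AlgebraicGeometry

/-- Let f : Y → X be a morphism of schemes which is flat, surjective and locally of finite presentation.
Then every affine open U of X is covered by affine opens V each of which is the image f(W) of some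
affine open W of Y; stated pointwise: for every x ∈ U there are an affine open V of X with x ∈ V ≤ U
and an affine open W of Y with f(W) = V as sets. (For such V and W the induced ring map Γ(V) → Γ(W)
is then faithfully flat.) -/
theorem result
    {X Y : Scheme.{u}} (f : Y ⟶ X) [Flat f] [Surjective f] [LocallyOfFinitePresentation f]
    (U : X.affineOpens) (x : X) (hx : x ∈ (U : X.Opens)) :
    ∃ V : X.affineOpens, x ∈ (V : X.Opens) ∧ (V : X.Opens) ≤ (U : X.Opens) ∧
      ∃ W : Y.affineOpens, f.base '' ((W : Y.Opens) : Set Y) = ((V : X.Opens) : Set X) := by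
  obtain ⟨y, rfl⟩ := f.surjective x
  obtain ⟨_, ⟨W₀, hW₀, rfl⟩, hyW, hWU⟩ := Y.isBasis_affineOpens.exists_subset_of_mem_open
    (show y ∈ (f ⁻¹ᵁ U.1 : Set Y) from hx) (f ⁻¹ᵁ U.1).isOpen
  have hW₀U : W₀ ≤ f ⁻¹ᵁ U.1 := hWU
  let O : X.Opens := ⟨f.base '' (W₀ : Set Y), f.isOpenMap _ W₀.isOpen⟩
  obtain ⟨s, hsle, hs⟩ := U.2.exists_basicOpen_le (V := O) ⟨f y, y, hyW, rfl⟩ hx
  refine ⟨⟨X.basicOpen s, U.2.basicOpen s⟩, hs, X.basicOpen_le s,
    ⟨Y.basicOpen ((f.appLE U.1 W₀ hW₀U).hom s), hW₀.basicOpen _⟩, ?_⟩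
  change f.base '' (Y.basicOpen ((f.appLE U.1 W₀ hW₀U).hom s) : Set Y) = (X.basicOpen s : Set X)
  rw [Scheme.basicOpen_appLE]
  ext z
  constructor
  · rintro ⟨w, ⟨-, hw⟩, rfl⟩; exact hw
  · intro hz
    obtain ⟨w, hw, rfl⟩ := hsle hz
    exact ⟨w, ⟨hw, hz⟩, rfl⟩

end Groth.Agent.S19571
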