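import Groth.Statements.S19573
import Mathlib.LinearAlgebra.Determinant
import Mathlib.LinearAlgebra.ExteriorPower.Basic
import Mathlib.RingTheory.Spectrum.Prime.FreeLocus

set_option autoImplicit false
universe u
open LocInt

namespace Groth.Agent.S19573

theorem ann_eq (R : Type*) [CommRing R] (n : ℕ) (a : Fin n → R) :
    (⋀[R]^n ((Fin n → R) ⧸ Submodule.span R {a})).annihilator = Ideal.span (Set.range a) := by
  classical
  let F := (Fin n → R) ⧸ Submodule.span R {a}
  let I := Ideal.span (Set.range a)
  let π : (Fin n → R) →ₗ[R] F := (Submodule.span R {a}).mkQ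
  let e : Fin n → F := fun i => π (Pi.single i 1)
  let ω : ⋀[R]^n F := exteriorPower.ιMulti R n e
  -- ω generates
  have hgen : ∀ x : ⋀[R]^n F, ∃ c : R, c • ω = x := by
    intro x
    have hx : x ∈ Submodule.span R (Set.range (exteriorPower.ιMulti R n : (Fin n → F) → ⋀[R]^n F)) := by
      rw [exteriorPower.ιMulti_span]; exact Submodule.mem_top
    have halt : (exteriorPower.ιMulti R n).compLinearMap π =
        (LinearMap.toSpanSingleton R (⋀[R]^n F) ω).compAlternatingMap (Pi.basisFun R (Fin n)).det := by
      refine Module.Basis.ext_alternating (Pi.basisFun R (Fin n)) fun v hv => ?_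
      let σ : Equiv.Perm (Fin n) := Equiv.ofBijective v (Finite.injective_iff_bijective.1 hv)
      have h1 : (fun i => (Pi.basisFun R (Fin n)) (v i)) = ⇑(Pi.basisFun R (Fin n)) ∘ σ := rfl
      rw [h1, AlternatingMap.map_perm, AlternatingMap.map_perm]
      congr 1
      rw [LinearMap.compAlternatingMap_apply, Module.Basis.det_self, LinearMap.toSpanSingleton_apply, one_smul,
        AlternatingMap.compLinearMap_apply]
      simp only [ω, e, Pi.basisFun_apply]
    refine Submodule.mem_span_singleton.1 ((Submodule.span_le.2 ?_ : Submodule.span R _ ≤ Submodule.span R {ω}) hx)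
    rintro _ ⟨m, rfl⟩
    choose m' hm' using fun i => Submodule.mkQ_surjective (Submodule.span R {a}) (m i)
    have h2 := congrArg (fun g : (Fin n → R) [⋀^Fin n]→ₗ[R] ⋀[R]^n F => g m') halt
    simp only [AlternatingMap.compLinearMap_apply, LinearMap.compAlternatingMap_apply,
      LinearMap.toSpanSingleton_apply] at h2
    rw [SetLike.mem_coe, Submodule.mem_span_singleton, show m = fun i => π (m' i) from funext fun i => (hm' i).symm]
    exact ⟨_, h2.symm⟩
  -- the determinant modulo I
  let S := R ⧸ I
  let q : (Fin n → R) →ₗ[R] (Fin n → S) := LinearMap.pi fun i => (Algebra.linearMap R S).comp (LinearMap.proj i)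
  have hqa : Submodule.span R {a} ≤ LinearMap.ker q := by
    rw [Submodule.span_singleton_le_iff_mem, LinearMap.mem_ker]
    funext i
    exact Ideal.Quotient.eq_zero_iff_mem.2 (Ideal.subset_span ⟨i, rfl⟩)
  let D : (Fin n → S) [⋀^Fin n]→ₗ[R] S :=
    { toMultilinearMap := (Pi.basisFun S (Fin n)).det.toMultilinearMap.restrictScalars R
      map_eq_zero_of_eq' := (Pi.basisFun S (Fin n)).det.map_eq_zero_of_eq' }
  let L : ⋀[R]^n F →ₗ[R] S :=
    exteriorPower.alternatingMapLinearEquiv (D.compLinearMap ((Submodule.span R {a}).liftQ q hqa))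
  have hL : L ω = 1 := by
    simp only [L, ω, exteriorPower.alternatingMapLinearEquiv_apply_ιMulti]
    change (Pi.basisFun S (Fin n)).det (fun i => q (Pi.single i 1)) = 1
    rw [show (fun i => q (Pi.single i 1)) = ⇑(Pi.basisFun S (Fin n)) from ?_, Module.Basis.det_self]
    funext i j
    simp [q, Pi.single_apply, apply_ite (Ideal.Quotient.mk I), S]
  refine le_antisymm (fun r hr => ?_) (Ideal.span_le.2 ?_)
  · have := congrArg L (show r • ω = 0 from Subtype.ext (Submodule.mem_annihilator.1 hr ω.1 ω.2))
    rwa [map_smul, hL, map_zero, Algebra.smul_def, mul_one, Ideal.Quotient.algebraMap_eq,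
      Ideal.Quotient.eq_zero_iff_mem] at this
  · rintro _ ⟨j, rfl⟩
    refine Submodule.mem_annihilator.2 fun x hx => ?_
    obtain ⟨c, hc⟩ := hgen ⟨x, hx⟩
    suffices h0 : a j • (c • ω) = 0 by
      rw [hc] at h0
      exact congrArg Subtype.val h0
    rw [smul_comm]
    have hj : a j • e j = - ∑ i ∈ Finset.univ.erase j, a i • e i := by
      rw [eq_neg_iff_add_eq_zero, Finset.add_sum_erase Finset.univ (fun i => a i • e i) (Finset.mem_univ j)]
      have : (∑ i, a i • e i) = π a := by
        simp only [e, ← map_smul, ← map_sum]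
        congr 1
        funext i
        simp [Pi.single_apply]
      rw [this]
      exact (Submodule.Quotient.mk_eq_zero _).2 (Submodule.mem_span_singleton_self a)
    suffices a j • ω = 0 by rw [this, smul_zero]
    have h1 : a j • ω = exteriorPower.ιMulti R n (Function.update e j (a j • e j)) := by
      rw [AlternatingMap.map_update_smul, Function.update_eq_self]
    rw [h1, hj, AlternatingMap.map_update_neg, AlternatingMap.map_update_sum, neg_eq_zero]
    refine Finset.sum_eq_zero fun i hi => ?_
    rw [AlternatingMap.map_update_smul, AlternatingMap.map_update_self _ _ (Finset.ne_of_mem_erase hi).symm, smul_zero]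

theorem free_at (R : Type u) [CommRing R] (n : ℕ) (a : Fin n → R) (p : PrimeSpectrum R) (j : Fin n)
    (hj : a j ∉ p.asIdeal) :
    p ∈ Module.freeLocus R ((Fin n → R) ⧸ Submodule.span R {a}) ∧
      Module.rankAtStalk ((Fin n → R) ⧸ Submodule.span R {a}) p = n - 1 := by
  classical
  haveI : Nontrivial R := nontrivial_of_ne _ _ fun h : (1 : R) = 0 =>
    p.isPrime.ne_top ((Ideal.eq_top_iff_one _).2 (h ▸ p.asIdeal.zero_mem))
  let F := (Fin n → R) ⧸ Submodule.span R {a}
  let π : (Fin n → R) →ₗ[R] F := (Submodule.span R {a}).mkQ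
  let ι := {i : Fin n // i ≠ j}
  let θ₀ : (Fin n → R) →ₗ[R] (ι → R) :=
    LinearMap.pi fun i => a j • LinearMap.proj i.1 - a i.1 • LinearMap.proj j
  have hθ₀ : Submodule.span R {a} ≤ LinearMap.ker θ₀ := by
    rw [Submodule.span_singleton_le_iff_mem, LinearMap.mem_ker]
    funext i
    simp [θ₀, mul_comm]
  let θ : F →ₗ[R] (ι → R) := (Submodule.span R {a}).liftQ θ₀ hθ₀
  let η : (ι → R) →ₗ[R] F := π.comp (LinearMap.pi fun i => if h : i ≠ j then LinearMap.proj (⟨i, h⟩ : ι) else 0)
  have hθη : ∀ w, θ (η w) = a j • w := fun w => by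
    funext i
    change a j * (if h : (i : Fin n) ≠ j then LinearMap.proj (⟨i, h⟩ : ι) else 0 : (ι → R) →ₗ[R] R) w
      - a i * (if h : j ≠ j then LinearMap.proj (⟨j, h⟩ : ι) else 0 : (ι → R) →ₗ[R] R) w = a j • w i
    rw [dif_pos i.2, dif_neg (fun h => h rfl)]
    simp
  have hηθ : ∀ x, η (θ x) = a j • x := by
    intro x
    obtain ⟨v, rfl⟩ := Submodule.mkQ_surjective (Submodule.span R {a}) x
    change π _ = a j • π v
    rw [← map_smul]
    refine (Submodule.Quotient.eq _).2 (Submodule.mem_span_singleton.2 ⟨-v j, ?_⟩)
    funext i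
    by_cases h : i = j
    · subst h
      simp [mul_comm]
    · simp only [Pi.smul_apply, Pi.sub_apply, smul_eq_mul, LinearMap.pi_apply]
      rw [dif_pos h]
      change _ = (a j * v i - a i * v j) - a j * v i
      ring
  let Θ := LocalizedModule.map p.asIdeal.primeCompl θ
  have hΘ : Function.Bijective Θ := by
    constructor
    · rw [injective_iff_map_eq_zero]
      intro z
      induction z using LocalizedModule.induction_on with
      | h m s =>
        intro hz
        rw [LocalizedModule.map_mk] at hz
        rw [← LocalizedModule.zero_mk 1, LocalizedModule.mk_eq]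
        obtain ⟨u, hu⟩ := (IsLocalizedModule.eq_zero_iff p.asIdeal.primeCompl
          (LocalizedModule.mkLinearMap p.asIdeal.primeCompl (ι → R)) (m := θ m)).1 (by
            rw [LocalizedModule.mkLinearMap_apply, ← LocalizedModule.mk_cancel s]
            rw [Submonoid.smul_def, ← LocalizedModule.smul'_mk, hz]; exact smul_zero (s : R))
        refine ⟨u * ⟨a j, hj⟩, ?_⟩
        have := congrArg η hu
        rw [Submonoid.smul_def, map_smul, hηθ, map_zero] at this
        simp [Submonoid.smul_def, mul_smul, this]
    · intro z
      induction z using LocalizedModule.induction_on with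
      | h w s =>
        refine ⟨LocalizedModule.mk (η w) (⟨a j, hj⟩ * s), ?_⟩
        rw [LocalizedModule.map_mk, hθη]
        exact LocalizedModule.mk_cancel_common_left ⟨a j, hj⟩ s w
  let E := LinearEquiv.ofBijective Θ hΘ
  haveI : Module.Free (Localization.AtPrime p.asIdeal) (LocalizedModule p.asIdeal.primeCompl (ι → R)) :=
    Module.free_of_isLocalizedModule p.asIdeal.primeCompl (LocalizedModule.mkLinearMap _ _)
  refine ⟨Module.mem_freeLocus.2 (Module.Free.of_equiv E.symm), ?_⟩
  rw [Module.rankAtStalk, E.finrank_eq]
  change Module.rankAtStalk (ι → R) p = n - 1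
  rw [Module.rankAtStalk_eq_finrank_of_free, Pi.natCast_def, Module.finrank_pi]
  simp [ι]

/-- The first sentence of the lemma together with the description of the closed subscheme Z given in its
proof, in the local model. Let R be a commutative ring, n ≥ 1, a ∈ R^n, and F = R^n / R·a the
cokernel of R → R^n, 1 ↦ a (the zeroth homology of the two-term complex R → R^n). Then the
annihilator ideal of the top exterior power ⋀^n F is the ideal generated by the coordinates a_1, …,
a_n of a, and at every prime p of R off the closed set V(a_1, …, a_n) the module F is free of rank n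
− 1 after localization at p. (The published statement is for a complex on a scheme which is locally
quasi-isomorphic to such a two-term complex L → E with L invertible and E locally free of rank n,
and says that H^0 restricted to the complement of the closed subscheme cut out by the annihilator of
its n-th exterior power is locally free of rank n − 1; this row is the local model.) -/
theorem result (R : Type u) [CommRing R]
    (n : ℕ) (hn : 1 ≤ n) (a : Fin n → R) :
    (⋀[R]^n ((Fin n → R) ⧸ Submodule.span R {a})).annihilator = Ideal.span (Set.range a) ∧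
    ∀ p : PrimeSpectrum R, ¬ Ideal.span (Set.range a) ≤ p.asIdeal →
      p ∈ Module.freeLocus R ((Fin n → R) ⧸ Submodule.span R {a}) ∧
      Module.rankAtStalk ((Fin n → R) ⧸ Submodule.span R {a}) p = n - 1 := by
  refine ⟨ann_eq R n a, fun p hp => ?_⟩
  obtain ⟨j, hj⟩ : ∃ j, a j ∉ p.asIdeal := by
    by_contra! h
    exact hp (Ideal.span_le.2 (Set.range_subset_iff.2 h))
  exact free_at R n a p j hj

end Groth.Agent.S19573
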