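import Groth.Statements.S19578
import Groth.Agent.EtaPtLib.Rel
-- import your own Groth.Agent.* helpers here

set_option autoImplicit false
universe u
open EtaPt

namespace Groth.Agent.S19578

open Groth.Agent.EtaPtLib

/-- Let f : A → B be a homomorphism of commutative rings, each with only finitely many minimal primes,
and suppose the induced map M_η(f) : M_η(A) → M_η(B) is an isomorphism. Then Spec f is a bijection
between the prime ideals of B and of A, and for every prime q of B, with p = f⁻¹(q), there is a ring
map φ : k(q) → F(k(p)) whose composite with the residue field map k(p) → k(q) equals η_{k(p)}. Here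
η is the field-endofunctor datum of the pointwise construction, M_η(A) ⊆ ∏_p F(k(p)) the subring
attached to A with q_A : A → M_η(A), and M_η(f) : M_η(A) → M_η(B) the ring map induced by N_η(f),
pinned here as the ring map g compatible with N_η(f) under the two subring inclusions. -/
theorem result (η : EtaPt.FieldEndo.{u}) {A B : Type u} [CommRing A] [CommRing B]
    (hA : (minimalPrimes A).Finite) (hB : (minimalPrimes B).Finite) (f : A →+* B)
    (g : η.M A →+* η.M B) (hg : ∀ x : η.M A, ((g x : η.M B) : η.N B) = η.Nmap f (x : η.N A))
    (hbij : Function.Bijective g) :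
    Function.Bijective (PrimeSpectrum.comap f) ∧
      ∀ Q : PrimeSpectrum B,
        ∃ φ : Q.asIdeal.ResidueField →+* η.obj (PrimeSpectrum.comap f Q).asIdeal.ResidueField,
          φ.comp (Ideal.ResidueField.map (PrimeSpectrum.comap f Q).asIdeal Q.asIdeal f rfl) =
            η.eta (PrimeSpectrum.comap f Q).asIdeal.ResidueField := by
  let e := RingEquiv.ofBijective g hbij
  have hψ : (e.symm.toRingHom.comp (η.q B)).comp f = η.q A := RingHom.ext fun a =>
    e.injective ((e.apply_symm_apply _).trans
      (Subtype.ext ((η.Nmap_t_apply f a).symm.trans (hg (η.q A a)).symm)))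
  have hker : RingHom.ker (e.symm.toRingHom.comp (η.q B)) ≤ nilradical B := by
    rw [RingHom.ker_comp_of_injective _ e.symm.injective]; exact q_ker_le_nilradical η
  exact ⟨between_comap_bijective η f _ hψ hker hA, between_hasFactor η f _ hψ hker hA⟩

end Groth.Agent.S19578
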