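import Groth.Statements.S19579
import Groth.Agent.Cube.Closed
import Groth.Agent.PicLaw.Mumford
-- import your own Groth.Agent.* helpers here

set_option autoImplicit false
universe u
open CategoryTheory CategoryTheory.Limits MonoidalCategory CartesianMonoidalCategory MonObj AlgebraicGeometry
open AbVar

namespace Groth.Agent.S19579

/-- The implication from triviality of the Mumford bundle on one fibre to its triviality relative to the
base, with the identification of the descended bundle. Let X be an abelian variety over a field k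
(proper, geometrically integral k-group scheme with multiplication m and unit e), T a connected
locally Noetherian k-scheme and L an invertible module on X ×_k T. On X ×_k X ×_k T let m_T, p_13,
p_23 be the maps to X ×_k T induced by m and by the two projections X × X → X, π the projection to
T, and e_T : T → X ×_k T the unit section. If there is a point t of T over whose fibre X × X × Spec
k(t) the modules m_T^*L and p_13^*L ⊗ p_23^*L become isomorphic (equivalently the Mumford bundle
Λ(L) = m_T^*L ⊗ p_13^*L⁻¹ ⊗ p_23^*L⁻¹ is trivial on one fibre), then m_T^*L ⊗ π^*(e_T^*L) and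
p_13^*L ⊗ p_23^*L are isomorphic on all of X × X × T, i.e. Λ(L) ≅ π^*N with N = e_T^*L⁻¹ (existence
of an isomorphism). -/
theorem result (k : Type u) [Field k]
    (X T : Over (Spec (CommRingCat.of k)))
    [GrpObj X] [IsProper X.hom] [GeometricallyIntegral X.hom]
    [IsLocallyNoetherian T.left] [ConnectedSpace ↥T.left]
    (L : (X ⊗ T).left.Modules) (hL : PicF.IsInvertible L)
    (t : ↥T.left)
    (ht : Nonempty
      ((Scheme.Modules.pullback (pullback.fst (snd (X ⊗ X) T).left
          (T.left.fromSpecResidueField t))).obj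
          ((Scheme.Modules.pullback (μ[X] ▷ T).left).obj L) ≅
       (Scheme.Modules.pullback (pullback.fst (snd (X ⊗ X) T).left
          (T.left.fromSpecResidueField t))).obj
          (CohB1.tensorMod ((Scheme.Modules.pullback (fst X X ▷ T).left).obj L)
            ((Scheme.Modules.pullback (snd X X ▷ T).left).obj L)))) :
    Nonempty
      (CohB1.tensorMod ((Scheme.Modules.pullback (μ[X] ▷ T).left).obj L)
          ((Scheme.Modules.pullback (snd (X ⊗ X) T).left).obj
            ((Scheme.Modules.pullback (CartesianMonoidalCategory.lift (toUnit T ≫ η[X]) (𝟙 T)).left).obj L)) ≅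
        CohB1.tensorMod ((Scheme.Modules.pullback (fst X X ▷ T).left).obj L)
          ((Scheme.Modules.pullback (snd X X ▷ T).left).obj L)) := by
  open Groth.Agent in
  open scoped Groth.Agent.PicLaw in
  exact (by
    have := AbVarLib.Rigidity.isIso_appTop X.hom
    set l := PicGrp.cls L hL with hl
    let eT : T ⟶ X ⊗ T := lift (toUnit T ≫ η[X]) (𝟙 T)
    let M : PicLoc.PicSet ((X ⊗ X) ⊗ T).left :=
      PicLaw.Mumford.op (μ[X] ▷ T) l * PicLaw.Mumford.op (snd (X ⊗ X) T) (PicLaw.Mumford.op eT l) /
        (PicLaw.Mumford.op (fst X X ▷ T) l * PicLaw.Mumford.op (snd X X ▷ T) l)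
    let a := (α_ X X T).inv
    let c := PicLaw.Mumford.op a M
    have hμ : μ[X] ▷ T = lift ((fst (X ⊗ X) T ≫ fst X X) * (fst (X ⊗ X) T ≫ snd X X)) (snd (X ⊗ X) T) := by
      apply CartesianMonoidalCategory.hom_ext
      · rw [whiskerRight_fst, lift_fst, ← MonObj.comp_mul, Hom.mul_def, lift_fst_snd, Category.id_comp]
      · simp
    have hx : PicLaw.Mumford.op (Cube.Local.slX X X η[X] T) c = 1 := by
      simp only [c, M, map_div, map_mul, ← PicLaw.Mumford.op_comp, hμ, a, eT]
      rw [div_eq_one, _root_.mul_comm]
      congr 3 <;> (apply CartesianMonoidalCategory.hom_ext <;> simp [MonObj.comp_mul, ← Hom.one_def])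
    have hy : PicLaw.Mumford.op (Cube.Local.slY X X η[X] T) c = 1 := by
      simp only [c, M, map_div, map_mul, ← PicLaw.Mumford.op_comp, hμ, a, eT]
      rw [div_eq_one]
      congr 3 <;> (apply CartesianMonoidalCategory.hom_ext <;> simp [MonObj.comp_mul, ← Hom.one_def])
    have hμL := PicLoc.isInvertible_pullback (μ[X] ▷ T).left hL
    have hfL := PicLoc.isInvertible_pullback (fst X X ▷ T).left hL
    have hsL := PicLoc.isInvertible_pullback (snd X X ▷ T).left hL
    have hne : (Cube.Global.trivLocus c).Nonempty := by
      refine ⟨t, (Cube.Global.mem_trivLocus_iff_fiber c t).mpr ?_⟩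
      let π := (snd (X ⊗ X) T).left
      have hπ : a.left ≫ π = Cube.Global.proj X X T := by
        show (a ≫ snd (X ⊗ X) T).left = (snd X (X ⊗ T) ≫ snd X T).left
        simp [a]
      let φ : (Cube.Global.proj X X T).fiber t ⟶ pullback π (T.left.fromSpecResidueField t) :=
        pullback.map _ _ _ _ a.left (𝟙 _) (𝟙 _) (by rw [hπ, Category.comp_id]) (by rw [Category.id_comp, Category.comp_id])
      show PicLaw.pl _ (PicLaw.pl a.left M) = 1
      rw [← PicLaw.pl_comp, show (Cube.Global.proj X X T).fiberι t ≫ a.left = φ ≫ pullback.fst π _ from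
        (pullback.lift_fst _ _ _).symm, PicLaw.pl_comp]
      refine (congrArg (PicLaw.pl φ) ?_).trans (map_one _)
      have hn : PicLaw.pl (pullback.fst π (T.left.fromSpecResidueField t))
          (PicLaw.Mumford.op (snd (X ⊗ X) T) (PicLaw.Mumford.op eT l)) = 1 := by
        show PicLaw.pl _ (PicLaw.pl π _) = 1
        obtain ⟨N, hN, hN'⟩ := PicGrp.exists_eq_cls (PicLaw.pl (T.left.fromSpecResidueField t) (PicLaw.Mumford.op eT l))
        rw [← PicLaw.pl_comp, pullback.condition, PicLaw.pl_comp]
        refine (congrArg (PicLaw.pl (pullback.snd π (T.left.fromSpecResidueField t))) (hN'.trans ?_)).trans (map_one _)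
        have : Subsingleton ↥(Spec (T.left.residueField t)) := inferInstanceAs (Subsingleton (PrimeSpectrum (T.left.residueField t)))
        have : Nonempty ↥(Spec (T.left.residueField t)) := inferInstanceAs (Nonempty (PrimeSpectrum (T.left.residueField t)))
        exact (PicGrp.cls_eq_one_iff hN).mpr (PicLaw.nonempty_iso_of_subsingleton hN)
      rw [map_div, map_mul, hn, _root_.mul_one, div_eq_one, PicLaw.Mumford.op, PicLaw.Mumford.op, PicLaw.Mumford.op,
        hl, ← PicLaw.cls_pullback _ hL, ← PicLaw.cls_pullback _ hL, ← PicLaw.cls_pullback _ hL, ← PicLaw.cls_tensor hfL hsL,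
        ← PicLaw.cls_pullback _ hμL, ← PicLaw.cls_pullback _ (PicLaw.isInvertible_tensor hfL hsL), PicGrp.cls_eq_cls_iff]
      exact ht
    have hclopen : IsClopen (Cube.Global.trivLocus c) :=
      ⟨Cube.Global.isClosed_trivLocus c, Cube.Global.isOpen_trivLocus η[X] η[X] c hx hy⟩
    have huniv := (isClopen_iff.mp hclopen).resolve_left hne.ne_empty
    have hc : c = 1 := Cube.Global.eq_one_of_fibres η[X] η[X] c hx hy fun z => huniv.ge trivial
    have hM : M = 1 := by
      have e := congrArg (PicLaw.Mumford.op (α_ X X T).hom) hc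
      rw [← PicLaw.Mumford.op_comp, Iso.hom_inv_id, map_one] at e
      exact (PicLaw.pl_id M).symm.trans e
    have hbase := PicLoc.isInvertible_pullback (snd (X ⊗ X) T).left (PicLoc.isInvertible_pullback eT.left hL)
    rw [PicLaw.iso_iff (PicLaw.isInvertible_tensor hμL hbase) (PicLaw.isInvertible_tensor hfL hsL),
      PicLaw.cls_tensor hμL hbase, PicLaw.cls_tensor hfL hsL, PicLaw.cls_pullback _ hL, PicLaw.cls_pullback _ hL,
      PicLaw.cls_pullback _ hL, PicLaw.cls_pullback _ (PicLoc.isInvertible_pullback eT.left hL), PicLaw.cls_pullback _ hL]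
    exact div_eq_one.mp hM)

end Groth.Agent.S19579
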