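import Groth.Statements.S19582
import Groth.Agent.FlatClosEq96.Closure

set_option autoImplicit false
universe u
open Cyc

namespace Groth.Agent.S19582

open CategoryTheory CategoryTheory.Limits AlgebraicGeometry in
/-- Let S be a separated Noetherian scheme, p : X → S separated of finite type, z a point of X lying
over a generic point of an irreducible component of S whose closure in its fibre p⁻¹(p z) has
dimension r, and ι : Z → X a closed immersion from a reduced scheme with image the closure of z. Let
R be a discrete valuation ring with fraction field K and x : Spec R → S a morphism sending the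
generic point of Spec R to a generic point of an irreducible component of S, and let q : φ → Spec R
be the flat closure φ = φ_x(Z) of Z along x, i.e. the scheme-theoretic image of Z ×_S Spec K in Z
×_S Spec R, with its projection to Spec R. Then q is universally equidimensional of dimension r: for
every scheme S' and every S' → Spec R, the base change φ ×_R S' → S' has local fibre dimension r at
every point (the dimension at w of the fibre through w is r) and every irreducible component of φ
×_R S' dominates an irreducible component of S'. -/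
theorem result {X S Z : Scheme.{u}} [IsNoetherian S] [S.IsSeparated] [X.IsSeparated]
    (p : X ⟶ S) [LocallyOfFiniteType p] [QuasiCompact p] (z : X) (hz : closure {p.base z} ∈ irreducibleComponents ↥S)
    (r : ℕ) (hr : topologicalKrullDim ↥(closure ({p.asFiber z} : Set ↥(p.fiber (p.base z)))) = r)
    (ι : Z ⟶ X) [IsClosedImmersion ι] [IsReduced Z] (hZ : Set.range ι.base = closure {z})
    (R : Type u) [CommRing R] [IsDomain R] [IsDiscreteValuationRing R] (x : Spec (CommRingCat.of R) ⟶ S)
    (hx : closure {x.base ⟨⊥, Ideal.isPrime_bot⟩} ∈ irreducibleComponents ↥S)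
    (q : (pullback.map (ι ≫ p) (Spec.map (CommRingCat.ofHom (algebraMap R (FractionRing R))) ≫ x) (ι ≫ p) x (𝟙 Z) (Spec.map (CommRingCat.ofHom (algebraMap R (FractionRing R)))) (𝟙 S) ((Category.comp_id _).trans (Category.id_comp _).symm) (Category.comp_id _)).ker.subscheme ⟶ Spec (CommRingCat.of R))
    (hq : q = (pullback.map (ι ≫ p) (Spec.map (CommRingCat.ofHom (algebraMap R (FractionRing R))) ≫ x) (ι ≫ p) x (𝟙 Z) (Spec.map (CommRingCat.ofHom (algebraMap R (FractionRing R)))) (𝟙 S) ((Category.comp_id _).trans (Category.id_comp _).symm) (Category.comp_id _)).ker.subschemeι ≫ pullback.snd (ι ≫ p) x)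
    (S' : Scheme.{u}) (g : S' ⟶ Spec (CommRingCat.of R)) :
    (∀ w : ↥(pullback q g), FlatMor.fibreDimAt (pullback.snd q g) w = r) ∧
      ∀ C ∈ irreducibleComponents ↥(pullback q g),
        closure ((pullback.snd q g).base '' C) ∈ irreducibleComponents ↥S' := by
  let k : Spec (CommRingCat.of (FractionRing R)) ⟶ Spec (CommRingCat.of R) :=
    Spec.map (CommRingCat.ofHom (algebraMap R (FractionRing R)))
  let f := ι ≫ p
  let j : pullback f (k ≫ x) ⟶ pullback f x :=
    pullback.map f (k ≫ x) f x (𝟙 Z) k (𝟙 S) ((Category.comp_id _).trans (Category.id_comp _).symm) (Category.comp_id _)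
  have hfst : j ≫ pullback.fst f x = pullback.fst f (k ≫ x) :=
    (pullback.lift_fst _ _ _).trans (Category.comp_id _)
  have hsnd : j ≫ pullback.snd f x = pullback.snd f (k ≫ x) ≫ k := pullback.lift_snd _ _ _
  have H : IsPullback j (pullback.snd f (k ≫ x)) (pullback.snd f x) k := by
    refine IsPullback.of_right ?_ hsnd (IsPullback.of_hasPullback f x)
    rw [hfst]
    exact IsPullback.of_hasPullback f (k ≫ x)
  haveI : QuasiCompact j := MorphismProperty.of_isPullback H.flip (inferInstance : QuasiCompact k)
  haveI : Flat q := by
    rw [hq]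
    exact FlatClosEq96.flat_image (pullback.snd f x) j (pullback.snd f (k ≫ x)) hsnd
  haveI : LocallyOfFiniteType q := by
    rw [hq]
    infer_instance
  refine FlatClosEq96.universally_of_flat q r (fun w hw => ?_) g
  let b : Spec (CommRingCat.of R) := ⟨⊥, Ideal.isPrime_bot⟩
  have hwb : q w = b := (hw b ((PrimeSpectrum.le_iff_specializes _ _).1 bot_le)).symm
  have H' : IsPullback j.toImage (pullback.snd f (k ≫ x)) q k := by
    rw [hq]
    exact FlatClosEq96.isPullback_toImage (pullback.snd f x) j (pullback.snd f (k ≫ x)) H
  have hb : b ∈ Set.range k := by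
    refine ⟨(⟨⊥, Ideal.isPrime_bot⟩ : PrimeSpectrum (FractionRing R)), PrimeSpectrum.ext ?_⟩
    exact Ideal.comap_bot_of_injective _ (IsFractionRing.injective R (FractionRing R))
  obtain ⟨t, ht⟩ := hb
  obtain ⟨y, hy, -⟩ := Scheme.exists_preimage_of_isPullback H' w t (hwb.trans ht.symm)
  subst hy
  rw [← AlgSpD.fibreDimAt_of_isPullback q H' y,
    AlgSpD.fibreDimAt_of_isPullback f (IsPullback.of_hasPullback f (k ≫ x)) y]
  refine FlatClosEq96.fibreDimAt_of_max p z r hr ι hZ _ ?_
  have hk : ∀ s : Spec (CommRingCat.of (FractionRing R)), k s = b := fun s => by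
    refine PrimeSpectrum.ext ?_
    show Ideal.comap (algebraMap R (FractionRing R)) s.asIdeal = ⊥
    rw [(Ideal.eq_bot_or_top s.asIdeal).resolve_right s.2.ne_top]
    exact Ideal.comap_bot_of_injective _ (IsFractionRing.injective R (FractionRing R))
  have hfy : f (pullback.fst f (k ≫ x) y) = x b := by
    rw [← Scheme.Hom.comp_apply, pullback.condition, Scheme.Hom.comp_apply, Scheme.Hom.comp_apply, hk]
  intro y' hy'
  rw [hfy] at hy' ⊢
  exact QSect.max_of_component hx isGenericPoint_closure y' hy'

end Groth.Agent.S19582
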