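import Groth.Statements.S19583
import Groth.Agent.FlatClosEq96.Strict2

set_option autoImplicit false
universe u
open Cyc

namespace Groth.Agent.S19583

open CategoryTheory CategoryTheory.Limits AlgebraicGeometry in
/-- Let S be a separated Noetherian scheme, p : X → S a morphism from a separated scheme X (no
finiteness condition), ι : Z → X a closed immersion, and b : S' → S a blowing up of S in a
quasi-coherent ideal with support S₀ such that (1) b restricts to a bijection between the generic
points of the irreducible components of S' and of S and (2) the strict transform Z~ of Z — the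
closed subscheme of Z ×_S S' whose ideal consists, on each affine open, of the functions annihilated
by a power of the pulled-back centre — is flat over S'. Let R be a discrete valuation ring with
fraction field K and f : Spec R → S a morphism sending the generic point of Spec R into S ∖ S₀. Then
f factors uniquely through b, and for the factorisation f' : Spec R → S' the flat closure φ_f(Z) ⊆ Z
×_S Spec R (the scheme-theoretic image of Z ×_S Spec K) coincides with Spec R ×_{S'} Z~: its ideal
sheaf equals the inverse image of the ideal of Z~ under the map Z ×_S Spec R → Z ×_S S' induced by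
f'. -/
theorem result {X S Z S' : Scheme.{u}} [IsNoetherian S] [S.IsSeparated] [X.IsSeparated]
    (p : X ⟶ S) (ι : Z ⟶ X) [IsClosedImmersion ι]
    (𝓘 : S.IdealSheafData) (b : S' ⟶ S) (hb : BlowUp.IsBlowUp b 𝓘)
    (hgen : Set.BijOn b.base {s' : ↥S' | closure {s'} ∈ irreducibleComponents ↥S'} {s : ↥S | closure {s} ∈ irreducibleComponents ↥S})
    (𝒥 : (pullback (ι ≫ p) b).IdealSheafData)
    (h𝒥 : ∀ (V : (pullback (ι ≫ p) b).affineOpens) (a : Γ(pullback (ι ≫ p) b, V.1)), a ∈ 𝒥.ideal V ↔
      BlowUp.KilledByPowerNear ((𝓘.comap (ι ≫ p)).comap (pullback.fst (ι ≫ p) b)) (Coh.structureModule (pullback (ι ≫ p) b)) V a)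
    [Flat (𝒥.subschemeι ≫ pullback.snd (ι ≫ p) b)]
    (R : Type u) [CommRing R] [IsDomain R] [IsDiscreteValuationRing R] (f : Spec (CommRingCat.of R) ⟶ S)
    (hf : f.base ⟨⊥, Ideal.isPrime_bot⟩ ∉ (𝓘.support : Set ↥S)) :
    (∃! f' : Spec (CommRingCat.of R) ⟶ S', f' ≫ b = f) ∧
      ∀ (f' : Spec (CommRingCat.of R) ⟶ S') (hf' : f' ≫ b = f),
        (pullback.map (ι ≫ p) (Spec.map (CommRingCat.ofHom (algebraMap R (FractionRing R))) ≫ f) (ι ≫ p) f (𝟙 Z) (Spec.map (CommRingCat.ofHom (algebraMap R (FractionRing R)))) (𝟙 S) ((Category.comp_id _).trans (Category.id_comp _).symm) (Category.comp_id _)).ker = 𝒥.comap (pullback.map (ι ≫ p) f (ι ≫ p) b (𝟙 Z) f' (𝟙 S) ((Category.comp_id _).trans (Category.id_comp _).symm) ((Category.comp_id f).trans hf'.symm)) := by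
  let F := ι ≫ p
  let k : Spec (CommRingCat.of (FractionRing R)) ⟶ Spec (CommRingCat.of R) :=
    Spec.map (CommRingCat.ofHom (algebraMap R (FractionRing R)))
  have hE : BlowUp.IsEffCartierIdeal (𝓘.comap f) := by
    refine FlatClosEq96.isEffCartierIdeal_dvr _ fun hmem => hf ?_
    rw [Scheme.IdealSheafData.support_comap] at hmem
    exact hmem
  refine ⟨hb.2 _ f hE, fun f' hf' => ?_⟩
  let j : pullback F (k ≫ f) ⟶ pullback F f :=
    pullback.map F (k ≫ f) F f (𝟙 Z) k (𝟙 S) ((Category.comp_id _).trans (Category.id_comp _).symm) (Category.comp_id _)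
  let m : pullback F f ⟶ pullback F b :=
    pullback.map F f F b (𝟙 Z) f' (𝟙 S) ((Category.comp_id _).trans (Category.id_comp _).symm) ((Category.comp_id f).trans hf'.symm)
  have hfst : j ≫ pullback.fst F f = pullback.fst F (k ≫ f) :=
    (pullback.lift_fst _ _ _).trans (Category.comp_id _)
  have hsnd : j ≫ pullback.snd F f = pullback.snd F (k ≫ f) ≫ k := pullback.lift_snd _ _ _
  have H : IsPullback j (pullback.snd F (k ≫ f)) (pullback.snd F f) k := by
    refine IsPullback.of_right ?_ hsnd (IsPullback.of_hasPullback F f)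
    rw [hfst]
    exact IsPullback.of_hasPullback F (k ≫ f)
  have hmfst : m ≫ pullback.fst F b = pullback.fst F f := (pullback.lift_fst _ _ _).trans (Category.comp_id _)
  have hmsnd : m ≫ pullback.snd F b = pullback.snd F f ≫ f' := pullback.lift_snd _ _ _
  have Hm : IsPullback m (pullback.snd F f) (pullback.snd F b) f' := by
    refine IsPullback.of_right ?_ hmsnd (IsPullback.of_hasPullback F b)
    rw [hmfst, hf']
    exact IsPullback.of_hasPullback F f
  show j.ker = 𝒥.comap m
  apply le_antisymm
  · have Hq : IsPullback (pullback.snd m 𝒥.subschemeι) (pullback.fst m 𝒥.subschemeι ≫ pullback.snd F f)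
        (𝒥.subschemeι ≫ pullback.snd F b) f' :=
      (IsPullback.of_hasPullback m 𝒥.subschemeι).flip.paste_vert Hm
    haveI : Flat (pullback.fst m 𝒥.subschemeι ≫ pullback.snd F f) :=
      MorphismProperty.of_isPullback Hq (inferInstance : Flat (𝒥.subschemeι ≫ pullback.snd (ι ≫ p) b))
    have h1 := FlatClosEq96.ker_le_of_flat (pullback.snd F f) j (pullback.snd F (k ≫ f)) H
      (pullback.fst m 𝒥.subschemeι)
    exact h1
  · have hle : 𝒥 ≤ (j ≫ m).ker := by
      refine FlatClosEq96.le_ker_of_killed _ 𝒥 (fun V a => (h𝒥 V a).1) (j ≫ m) fun t ht => hf ?_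
      rw [Scheme.IdealSheafData.support_comap, Scheme.IdealSheafData.support_comap] at ht
      have h2 : (ι ≫ p) (pullback.fst F b ((j ≫ m) t)) ∈ (𝓘.support : Set S) := ht
      have h3 : (j ≫ m) ≫ pullback.fst F b ≫ F = pullback.snd F (k ≫ f) ≫ k ≫ f := by
        simp only [Category.assoc]
        rw [reassoc_of% hmfst, reassoc_of% hfst, pullback.condition]
      have h4 : F (pullback.fst F b ((j ≫ m) t)) = f (k (pullback.snd F (k ≫ f) t)) := by
        rw [← Scheme.Hom.comp_apply, ← Scheme.Hom.comp_apply, h3]
        rfl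
      have h5 : k (pullback.snd F (k ≫ f) t) = (⟨⊥, Ideal.isPrime_bot⟩ : PrimeSpectrum R) := by
        refine PrimeSpectrum.ext ?_
        show Ideal.comap (algebraMap R (FractionRing R)) (pullback.snd F (k ≫ f) t).asIdeal = ⊥
        rw [(Ideal.eq_bot_or_top (pullback.snd F (k ≫ f) t).asIdeal).resolve_right
          (pullback.snd F (k ≫ f) t).2.ne_top]
        exact Ideal.comap_bot_of_injective _ (IsFractionRing.injective R (FractionRing R))
      rw [show (ι ≫ p) (pullback.fst F b ((j ≫ m) t)) = _ from h4, h5] at h2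
      exact h2
    let l := IsClosedImmersion.lift 𝒥.subschemeι (j ≫ m) (by rwa [Scheme.IdealSheafData.ker_subschemeι])
    have hl : l ≫ 𝒥.subschemeι = j ≫ m := IsClosedImmersion.lift_fac _ _ _
    have hj : pullback.lift j l hl.symm ≫ pullback.fst m 𝒥.subschemeι = j := pullback.lift_fst _ _ _
    exact (Scheme.Hom.le_ker_comp (pullback.lift j l hl.symm) (pullback.fst m 𝒥.subschemeι)).trans
      (le_of_eq (congrArg Scheme.Hom.ker hj))

end Groth.Agent.S19583
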