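import Groth.Statements.S19586
import Groth.Agent.JacCrit.Quotient
import Mathlib.LinearAlgebra.Determinant

set_option autoImplicit false
universe u
open KaehlerDifferential
open LocInt

namespace Groth.Agent.S19586

open TensorProduct Module

variable {A B R : Type u} [CommRing A] [CommRing B] [CommRing R]
    [Algebra A B] [Algebra B R] [Algebra A R] [IsScalarTower A B R]

section
variable (g : B) (p : Ideal R) [p.IsPrime]

/-- The map `c ⊗ x ↦ c * (x / g)` shows `1 ⊗ g ≠ 0` in `κ ⊗ (g)`. -/
lemma one_tmul_ne_zero (hg : IsSMulRegular B g)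
    (hker : RingHom.ker (algebraMap B R) = Ideal.span {g}) :
    (1 : p.ResidueField) ⊗ₜ[B]
      (⟨g, hker ▸ Ideal.mem_span_singleton_self g⟩ : RingHom.ker (algebraMap B R)) ≠ 0 := by
  classical
  let m : B →ₗ[B] RingHom.ker (algebraMap B R) :=
    LinearMap.toSpanSingleton B _ ⟨g, hker ▸ Ideal.mem_span_singleton_self g⟩
  have hm : Function.Bijective m := by
    refine ⟨fun a b hab => hg ?_, fun x => ?_⟩
    · have := congrArg Subtype.val hab
      simpa [m, mul_comm] using this
    · have hx : (x : B) ∈ Ideal.span {g} := hker ▸ x.2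
      obtain ⟨c, hc⟩ := Ideal.mem_span_singleton'.mp hx
      exact ⟨c, Subtype.ext (by simpa [m] using hc)⟩
  let e := LinearEquiv.ofBijective m hm
  let φ : RingHom.ker (algebraMap B R) →ₗ[B] p.ResidueField :=
    (Algebra.linearMap B p.ResidueField) ∘ₗ e.symm.toLinearMap
  have h1 : φ ⟨g, hker ▸ Ideal.mem_span_singleton_self g⟩ = 1 := by
    have : e.symm ⟨g, hker ▸ Ideal.mem_span_singleton_self g⟩ = 1 := by
      rw [LinearEquiv.symm_apply_eq]
      exact Subtype.ext (by simp [e, m])
    simp [φ, this]
  intro h0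
  have := congrArg (LinearMap.liftBaseChange p.ResidueField φ) h0
  rw [LinearMap.liftBaseChange_tmul, h1, map_zero, one_smul] at this
  exact one_ne_zero this

lemma formallySmooth_iff [Algebra.FormallySmooth A B] (hg : IsSMulRegular B g)
    (hsurj : Function.Surjective (algebraMap B R))
    (hker : RingHom.ker (algebraMap B R) = Ideal.span {g}) :
    Algebra.FormallySmooth A (Localization.AtPrime p) ↔
      (1 : p.ResidueField) ⊗ₜ[B] KaehlerDifferential.D A B g ≠ 0 := by
  have hfg : (RingHom.ker (algebraMap B R)).FG := hker ▸ Submodule.fg_span_singleton g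
  have : Module.Finite B (RingHom.ker (algebraMap B R)) := Module.Finite.iff_fg.mpr hfg
  have : Module.Finite B (RingHom.ker (algebraMap B R)).Cotangent :=
    Module.Finite.of_surjective _ (RingHom.ker (algebraMap B R)).toCotangent_surjective
  rw [Groth.Agent.JacCrit.Quotient.formallySmooth_atPrime_iff (A := A) hsurj p]
  set z : RingHom.ker (algebraMap B R) := ⟨g, hker ▸ Ideal.mem_span_singleton_self g⟩
  have hz : cotangentComplexBaseChange A R B p.ResidueField (1 ⊗ₜ[B] z) =
      (1 : p.ResidueField) ⊗ₜ[B] KaehlerDifferential.D A B g := by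
    rw [cotangentComplexBaseChange_tmul, kerToTensor_apply, one_smul]
  have hgen : ∀ t : p.ResidueField ⊗[B] RingHom.ker (algebraMap B R),
      ∃ c : p.ResidueField, t = c • (1 ⊗ₜ[B] z) := by
    intro t
    induction t with
    | zero => exact ⟨0, by simp⟩
    | add a b ha hb =>
      obtain ⟨c, rfl⟩ := ha
      obtain ⟨d, rfl⟩ := hb
      exact ⟨c + d, (add_smul _ _ _).symm⟩
    | tmul c x =>
      have hx : (x : B) ∈ Ideal.span {g} := hker ▸ x.2
      obtain ⟨b, hb⟩ := Ideal.mem_span_singleton'.mp hx
      have hxz : x = b • z := Subtype.ext (by simpa [z] using hb.symm)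
      exact ⟨b • c, by rw [TensorProduct.smul_tmul', smul_eq_mul, mul_one, hxz,
        TensorProduct.smul_tmul]⟩
  constructor
  · intro hinj h0
    apply one_tmul_ne_zero g p hg hker
    exact hinj (by rw [hz, h0, map_zero])
  · intro hne
    rw [injective_iff_map_eq_zero]
    intro t ht
    obtain ⟨c, rfl⟩ := hgen t
    rw [map_smul, hz, smul_eq_zero] at ht
    rw [ht.resolve_right hne, zero_smul]

variable (A B)
/-- The fibre of `Ω[B⁄A]` at `p` has dimension `n`. -/
lemma finrank_fibre [Algebra.Smooth A B] (n : ℕ)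
    (hn : ∀ q : PrimeSpectrum B, Module.rankAtStalk (Ω[B⁄A]) q = n) :
    Module.finrank p.ResidueField (p.ResidueField ⊗[B] Ω[B⁄A]) = n := by
  have h := Module.rankAtStalk_eq (M := R ⊗[B] Ω[B⁄A]) ⟨p, ‹p.IsPrime›⟩
  rw [Module.rankAtStalk_baseChange, hn] at h
  rw [h]
  exact (AlgebraTensorModule.cancelBaseChange B R p.ResidueField p.ResidueField
    (Ω[B⁄A])).finrank_eq.symm

/-- The spanning set `1 ⊗ D b` of the fibre. -/
lemma span_range_tmul_D :
    Submodule.span p.ResidueField (Set.range fun b : B =>
      (1 : p.ResidueField) ⊗ₜ[B] KaehlerDifferential.D A B b) = ⊤ := by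
  rw [eq_top_iff]
  rintro t -
  induction t with
  | zero => exact zero_mem _
  | add a b ha hb => exact add_mem ha hb
  | tmul c ω =>
    have hω : ω ∈ Submodule.span B (Set.range (KaehlerDifferential.D A B)) := by
      rw [KaehlerDifferential.span_range_derivation]; trivial
    induction hω using Submodule.span_induction with
    | mem x hx =>
      obtain ⟨b, rfl⟩ := hx
      rw [← mul_one c, ← smul_eq_mul, ← TensorProduct.smul_tmul']
      exact Submodule.smul_mem _ _ (Submodule.subset_span ⟨b, rfl⟩)
    | zero => rw [tmul_zero]; exact zero_mem _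
    | add x y _ _ hx hy => rw [tmul_add]; exact add_mem hx hy
    | smul r x _ hx =>
      rw [tmul_smul, ← IsScalarTower.algebraMap_smul p.ResidueField r]
      exact Submodule.smul_mem _ _ hx

/-- Non-smooth points lie in the zero locus of the annihilator. -/
lemma annihilator_le [Algebra.Smooth A B] (n : ℕ)
    (hn : ∀ q : PrimeSpectrum B, Module.rankAtStalk (Ω[B⁄A]) q = n)
    (hsurj : Function.Surjective (algebraMap B R))
    (hker : RingHom.ker (algebraMap B R) = Ideal.span {g})
    (h0 : (1 : p.ResidueField) ⊗ₜ[B] KaehlerDifferential.D A B g = 0) :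
    (⋀[R]^n (Ω[R⁄A])).annihilator ≤ p := by
  classical
  let κ := p.ResidueField
  let V := κ ⊗[B] Ω[B⁄A]
  let h : R ⊗[B] Ω[B⁄A] →ₗ[R] V :=
    LinearMap.liftBaseChange R (TensorProduct.mk B κ (Ω[B⁄A]) 1)
  have hh : ∀ (b : B) (ω : Ω[B⁄A]), h (1 ⊗ₜ[B] ω) = (1 : κ) ⊗ₜ[B] ω := fun b ω => by
    rw [LinearMap.liftBaseChange_tmul, one_smul]; rfl
  have hle : LinearMap.ker (mapBaseChange A B R) ≤ LinearMap.ker h := by
    intro x hx
    obtain ⟨y, rfl⟩ := (exact_kerCotangentToTensor_mapBaseChange A B R hsurj x).mp hx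
    obtain ⟨z, rfl⟩ := (RingHom.ker (algebraMap B R)).toCotangent_surjective y
    obtain ⟨b, hb⟩ := Ideal.mem_span_singleton'.mp (hker ▸ z.2 : (z : B) ∈ Ideal.span {g})
    have hg0 : algebraMap B κ g = 0 := by
      rw [IsScalarTower.algebraMap_apply B R κ,
        RingHom.mem_ker.mp (hker ▸ Ideal.mem_span_singleton_self g : g ∈ RingHom.ker (algebraMap B R)),
        map_zero]
    rw [LinearMap.mem_ker, kerCotangentToTensor_toCotangent, hh b, ← hb, Derivation.leibniz,
      tmul_add, tmul_smul, tmul_smul, h0, smul_zero, zero_add,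
      ← IsScalarTower.algebraMap_smul κ g, hg0, zero_smul]
  let Φ : Ω[R⁄A] →ₗ[R] V := (Submodule.liftQ _ h hle) ∘ₗ
    ((mapBaseChange A B R).quotKerEquivOfSurjective
      (mapBaseChange_surjective A B R hsurj)).symm.toLinearMap
  have hΦ : ∀ b : B, Φ (KaehlerDifferential.D A R (algebraMap B R b)) =
      (1 : κ) ⊗ₜ[B] KaehlerDifferential.D A B b := by
    intro b
    have : ((mapBaseChange A B R).quotKerEquivOfSurjective
      (mapBaseChange_surjective A B R hsurj)).symm (KaehlerDifferential.D A R (algebraMap B R b))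
        = Submodule.Quotient.mk (1 ⊗ₜ[B] KaehlerDifferential.D A B b) := by
      rw [LinearEquiv.symm_apply_eq, LinearMap.quotKerEquivOfSurjective_apply_mk]
      simp
    simp only [Φ, LinearMap.comp_apply, LinearEquiv.coe_coe, this, Submodule.liftQ_apply]
    exact hh b _
  let t : Set V := Set.range fun b : B => (1 : κ) ⊗ₜ[B] KaehlerDifferential.D A B b
  have hs : LinearIndepOn κ id (∅ : Set V) := linearIndepOn_empty _ _
  have ht : ⊤ ≤ Submodule.span κ t := (span_range_tmul_D A B p).ge
  let β := Basis.extendLe hs (Set.empty_subset t) ht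
  have := Fintype.ofFinite (hs.extend (Set.empty_subset t))
  have hc : Fintype.card (hs.extend (Set.empty_subset t)) = n := by
    rw [← Module.finrank_eq_card_basis β, finrank_fibre A B p n hn]
  let β' := β.reindex (Fintype.equivFinOfCardEq hc)
  have hb : ∀ i, ∃ b : B, (1 : κ) ⊗ₜ[B] KaehlerDifferential.D A B b = β' i := fun i => by
    have : β' i ∈ t := by
      simp only [β', Basis.reindex_apply, β, Basis.coe_extendLe]
      exact hs.extend_subset _ (Subtype.coe_prop _)
    exact this
  choose b hb using hb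
  let F : Ω[R⁄A] [⋀^Fin n]→ₗ[R] κ :=
    { (β'.det.toMultilinearMap.restrictScalars R).compLinearMap (fun _ => Φ) with
      map_eq_zero_of_eq' := fun v i j hv hij => by
        show β'.det (fun k => Φ (v k)) = 0
        exact AlternatingMap.map_eq_zero_of_eq _ _ (by simp [hv]) hij }
  let L := exteriorPower.alternatingMapLinearEquiv F
  have hL : L (exteriorPower.ιMulti R n fun i => KaehlerDifferential.D A R (algebraMap B R (b i)))
      = 1 := by
    simp only [L, exteriorPower.alternatingMapLinearEquiv_apply_ιMulti]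
    show β'.det (fun k => Φ (KaehlerDifferential.D A R (algebraMap B R (b k)))) = 1
    simp only [hΦ, hb]
    exact β'.det_self
  intro r hr
  replace hr : r ∈ Module.annihilator R ↥(⋀[R]^n (Ω[R⁄A])) := hr
  rw [Module.mem_annihilator] at hr
  have := congrArg L (hr (exteriorPower.ιMulti R n fun i => KaehlerDifferential.D A R (algebraMap B R (b i))))
  rw [map_smul, hL, map_zero, Algebra.smul_def, mul_one] at this
  exact Ideal.algebraMap_residueField_eq_zero.mp this

end

/-- An alternating form vanishes on a submodule with fewer generators than arguments. -/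
lemma ιMulti_eq_zero_of_mem_span {R M : Type u} [CommRing R] [AddCommGroup M] [Module R M]
    {n k : ℕ} (hk : k < n) (w : Fin k → M) (m : Fin n → M)
    (hm : ∀ i, m i ∈ Submodule.span R (Set.range w)) : exteriorPower.ιMulti R n m = 0 := by
  classical
  let l : (Fin k → R) →ₗ[R] M := Fintype.linearCombination R w
  have h0 : (exteriorPower.ιMulti R n).compLinearMap l = 0 := by
    refine Basis.ext_alternating (Pi.basisFun R (Fin k)) fun v hv => ?_
    exact absurd (Fintype.card_le_of_injective v hv) (by simp [hk])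
  have hl : ∀ i, ∃ c, l c = m i := fun i =>
    (Submodule.mem_span_range_iff_exists_fun R).mp (hm i)
  choose c hc using hl
  have := AlternatingMap.congr_fun h0 c
  simpa [AlternatingMap.compLinearMap_apply, hc] using this

section
variable (g : B) (p : Ideal R) [p.IsPrime]
variable (A B)

/-- Smooth points lie outside the zero locus of the annihilator. -/
lemma not_annihilator_le [Algebra.Smooth A B] (n : ℕ)
    (hn : ∀ q : PrimeSpectrum B, Module.rankAtStalk (Ω[B⁄A]) q = n)
    (hsurj : Function.Surjective (algebraMap B R))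
    (hker : RingHom.ker (algebraMap B R) = Ideal.span {g})
    (h0 : (1 : p.ResidueField) ⊗ₜ[B] KaehlerDifferential.D A B g ≠ 0) :
    ¬ (⋀[R]^n (Ω[R⁄A])).annihilator ≤ p := by
  classical
  have : Algebra.FiniteType A R :=
    .of_surjective (IsScalarTower.toAlgHom A B R) (by simpa using hsurj)
  let κ := p.ResidueField
  let V := κ ⊗[B] Ω[B⁄A]
  let v0 : V := (1 : κ) ⊗ₜ[B] KaehlerDifferential.D A B g
  let t : Set V := Set.range fun b : B => (1 : κ) ⊗ₜ[B] KaehlerDifferential.D A B b
  have hs : LinearIndepOn κ id ({v0} : Set V) := LinearIndepOn.singleton (v := id) h0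
  have hst : ({v0} : Set V) ⊆ t := Set.singleton_subset_iff.mpr ⟨g, rfl⟩
  have ht : ⊤ ≤ Submodule.span κ t := (span_range_tmul_D A B p).ge
  let β := Basis.extendLe hs hst ht
  have := Fintype.ofFinite (hs.extend hst)
  have hc : Fintype.card (hs.extend hst) = n := by
    rw [← Module.finrank_eq_card_basis β, finrank_fibre A B p n hn]
  let i0 : hs.extend hst := ⟨v0, hs.subset_extend hst rfl⟩
  let S := {i : hs.extend hst // i ≠ i0}
  have hS : Fintype.card S < n := hc ▸ Fintype.card_subtype_lt (x := i0) (by simp)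
  have hb : ∀ i : S, ∃ b : B, (1 : κ) ⊗ₜ[B] KaehlerDifferential.D A B b = (i.1 : V) := fun i =>
    hs.extend_subset hst i.1.2
  choose b hb using hb
  let e := Fintype.equivFin S
  let w : Fin (Fintype.card S) → Ω[R⁄A] := fun i =>
    KaehlerDifferential.D A R (algebraMap B R (b (e.symm i)))
  let W := Submodule.span R (Set.range w)
  let Q := Ω[R⁄A] ⧸ W
  let f : Ω[B⁄A] →ₗ[B] κ ⊗[R] Q :=
    ((TensorProduct.mk R κ Q 1) ∘ₗ W.mkQ).restrictScalars B ∘ₗ KaehlerDifferential.map A A B R
  let Ψ : V →ₗ[κ] κ ⊗[R] Q := LinearMap.liftBaseChange κ f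
  have hΨ : ∀ x : B, Ψ ((1 : κ) ⊗ₜ[B] KaehlerDifferential.D A B x) =
      (1 : κ) ⊗ₜ[R] W.mkQ (KaehlerDifferential.D A R (algebraMap B R x)) := fun x => by
    rw [LinearMap.liftBaseChange_tmul, one_smul, LinearMap.comp_apply, KaehlerDifferential.map_D]
    rfl
  have hΨ0 : Ψ = 0 := by
    refine β.ext fun i => ?_
    rw [LinearMap.zero_apply, show β i = (i : V) by simp [β]]
    by_cases hi : i = i0
    · subst hi
      show Ψ v0 = 0
      rw [hΨ, RingHom.mem_ker.mp
        (hker ▸ Ideal.mem_span_singleton_self g : g ∈ RingHom.ker (algebraMap B R)), map_zero,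
        map_zero, tmul_zero]
    · rw [← hb ⟨i, hi⟩, hΨ]
      have : KaehlerDifferential.D A R (algebraMap B R (b ⟨i, hi⟩)) ∈ W :=
        Submodule.subset_span ⟨e ⟨i, hi⟩, by simp [w]⟩
      rw [Submodule.mkQ_apply, (Submodule.Quotient.mk_eq_zero W).mpr this, tmul_zero]
  have hsub : Subsingleton (κ ⊗[R] Q) := by
    refine subsingleton_of_forall_eq 0 fun z => ?_
    induction z with
    | zero => rfl
    | add a b ha hb => rw [ha, hb, add_zero]
    | tmul c q =>
      obtain ⟨ω, rfl⟩ := W.mkQ_surjective q
      have hω : ω ∈ Submodule.span R (Set.range (KaehlerDifferential.D A R)) := by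
        rw [KaehlerDifferential.span_range_derivation]; trivial
      induction hω using Submodule.span_induction generalizing c with
      | mem x hx =>
        obtain ⟨r, rfl⟩ := hx
        obtain ⟨x, rfl⟩ := hsurj r
        rw [← mul_one c, ← smul_eq_mul, ← TensorProduct.smul_tmul', ← hΨ x, hΨ0,
          LinearMap.zero_apply, smul_zero]
      | zero => simp
      | add x y _ _ hx hy => rw [map_add, tmul_add, hx c, hy c, add_zero]
      | smul r x _ hx => rw [map_smul, ← smul_tmul, hx]
  have hns : ¬ Module.annihilator R Q ≤ p := fun hle => by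
    have h1 : (⟨p, ‹p.IsPrime›⟩ : PrimeSpectrum R) ∈ Module.support R Q :=
      Module.mem_support_iff_of_finite.mpr hle
    rw [Module.mem_support_iff_nontrivial_residueField_tensorProduct] at h1
    exact (not_subsingleton_iff_nontrivial.mpr h1) hsub
  obtain ⟨r, hr, hrp⟩ := SetLike.not_le_iff_exists.mp hns
  rw [Module.mem_annihilator] at hr
  have hrW : ∀ x : Ω[R⁄A], r • x ∈ W := fun x => by
    have := hr (W.mkQ x)
    rwa [← map_smul, Submodule.mkQ_apply, Submodule.Quotient.mk_eq_zero] at this
  intro hle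
  refine hrp ((Ideal.IsPrime.mem_of_pow_mem ‹p.IsPrime› n) (hle ?_))
  show r ^ n ∈ Module.annihilator R ↥(⋀[R]^n (Ω[R⁄A]))
  rw [← Submodule.annihilator_top, ← exteriorPower.ιMulti_span, Submodule.mem_annihilator_span]
  rintro ⟨_, m, rfl⟩
  have := (exteriorPower.ιMulti R n).map_smul_univ (fun _ => r) m
  simp only [Finset.prod_const, Finset.card_univ, Fintype.card_fin] at this
  rw [← this]
  exact ιMulti_eq_zero_of_mem_span hS w _ fun i => hrW (m i)

end

/-- Let A → B be a smooth ring map with Ω_{B/A} of rank n at every prime of B, g ∈ B a nonzerodivisor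
and R = B/gB, so that Spec R is a hypersurface of virtual relative dimension n − 1 over Spec A. Let
J ⊆ R be the annihilator of the n-th exterior power of Ω_{R/A} and Z = V(J) ⊆ Spec R. Then the
underlying set of Z is exactly the set of primes at which R is not smooth over A: for a prime p of
R, J ⊆ p if and only if the localization R_p is not formally smooth over A. -/
theorem result (A B R : Type u) [CommRing A] [CommRing B] [CommRing R]
    [Algebra A B] [Algebra B R] [Algebra A R] [IsScalarTower A B R] [Algebra.Smooth A B] (n : ℕ)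
    (hn : ∀ p : PrimeSpectrum B, Module.rankAtStalk (Ω[B⁄A]) p = n)
    (g : B) (hg : IsSMulRegular B g) (hsurj : Function.Surjective (algebraMap B R))
    (hker : RingHom.ker (algebraMap B R) = Ideal.span {g}) (p : PrimeSpectrum R) :
    (⋀[R]^n (Ω[R⁄A])).annihilator ≤ p.asIdeal ↔ p ∉ Algebra.smoothLocus A R := by
  have hfs := formallySmooth_iff (A := A) g p.asIdeal hg hsurj hker
  show _ ↔ ¬ Algebra.FormallySmooth A (Localization.AtPrime p.asIdeal)
  rw [hfs, not_not]
  exact ⟨fun h => by_contra fun h0 => not_annihilator_le A B g p.asIdeal n hn hsurj hker h0 h,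
    annihilator_le A B g p.asIdeal n hn hsurj hker⟩

end Groth.Agent.S19586
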