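import Groth.Statements.S19590
import Mathlib.RingTheory.Int.Basic


set_option autoImplicit false
open BddFin

namespace Groth.Agent.S19590

/-- For every n, the orders of the finite subgroups of GL_n(ℤ) are bounded: there is B such that every
finite subgroup of GL_n(ℤ) has at most B elements. -/
theorem result (n : ℕ) :
    ∃ B : ℕ, ∀ H : Subgroup (Matrix.GeneralLinearGroup (Fin n) ℤ), Finite H → Nat.card H ≤ B := by
  classical
  let φ : Matrix.GeneralLinearGroup (Fin n) ℤ →* Matrix.GeneralLinearGroup (Fin n) (ZMod 3) :=
    Matrix.GeneralLinearGroup.map (Int.castRingHom (ZMod 3))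
  refine ⟨Nat.card (Matrix.GeneralLinearGroup (Fin n) (ZMod 3)), fun H hH => ?_⟩
  have key : ∀ p : ℕ, p.Prime → ∀ M : Matrix (Fin n) (Fin n) ℤ, (1 + M) ^ p = 1 →
      (∀ i j, (3 : ℤ) ∣ M i j) → M = 0 := by
    intro p hp M hM h3
    have main : ∀ a : ℕ, ∀ i j, (3 : ℤ) ^ (a + 1) ∣ M i j := by
      intro a
      induction a with
      | zero => simpa using h3
      | succ a ih =>
        choose N hN using ih
        let c : ℤ := 3 ^ (a + 1)
        have hM' : M = c • (Matrix.of N : Matrix (Fin n) (Fin n) ℤ) := by
          ext i j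
          exact hN i j
        set X : Matrix (Fin n) (Fin n) ℤ := Matrix.of N
        have hdiv : ∀ i j, (3 : ℤ) ∣ X i j := by
          intro i j
          by_cases hp3 : p = 3
          · rw [hM', hp3] at hM
            have h : (1 + c • X) ^ 3 = 1 + c • ((3 : ℤ) • X + (3 * c) • (X * X) + (c * c) • (X * X * X)) := by
              simp only [pow_succ, pow_zero, one_mul, mul_add, add_mul, mul_one, smul_mul_assoc, mul_smul_comm,
                smul_add, smul_smul]
              module
            rw [h] at hM
            have h' := (congrFun (congrFun (add_eq_left.1 hM) i) j).trans (show ((0 : Matrix (Fin n) (Fin n) ℤ) i j) = (0 : ℤ) from rfl)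
            simp only [Matrix.smul_apply, Matrix.add_apply, smul_eq_mul, mul_eq_zero,
              pow_ne_zero (a + 1) (by norm_num : (3 : ℤ) ≠ 0), c, false_or] at h'
            refine ⟨-((3 : ℤ) ^ a * (X * X) i j + (3 : ℤ) ^ (2 * a) * (X * X * X) i j), mul_left_cancel₀ (by norm_num : (3 : ℤ) ≠ 0) ?_⟩
            rw [pow_succ] at h'
            rw [two_mul, pow_add]
            linarith
          · have hm : ∀ m : ℕ, ∃ Y : Matrix (Fin n) (Fin n) ℤ,
                (1 + c • X) ^ m = 1 + ((m : ℤ) * c) • X + (c * c) • Y := by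
              intro m
              induction m with
              | zero => exact ⟨0, by simp⟩
              | succ m ih =>
                obtain ⟨Y, hY⟩ := ih
                refine ⟨(m : ℤ) • (X * X) + Y + c • (Y * X), ?_⟩
                rw [pow_succ, hY]
                simp only [mul_add, add_mul, mul_one, one_mul, smul_mul_assoc, mul_smul_comm, smul_add, smul_smul,
                  Nat.cast_add, Nat.cast_one, add_smul]
                module
            obtain ⟨Y, hY⟩ := hm p
            rw [hM', hY, add_assoc] at hM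
            have h' := (congrFun (congrFun (add_eq_left.1 hM) i) j).trans (show ((0 : Matrix (Fin n) (Fin n) ℤ) i j) = (0 : ℤ) from rfl)
            simp only [Matrix.smul_apply, Matrix.add_apply, smul_eq_mul] at h'
            have h'' : c * ((p : ℤ) * X i j + c * Y i j) = 0 := by rw [← h']; ring
            have h4 := (mul_eq_zero.1 h'').resolve_left (pow_ne_zero _ (by norm_num))
            have h5 : (3 : ℤ) ∣ (p : ℤ) * X i j :=
              ⟨-((3 : ℤ) ^ a * Y i j), by simp only [c, pow_succ] at h4; linarith⟩
            refine ((Int.prime_three : Prime (3 : ℤ)).dvd_or_dvd h5).resolve_left fun h => hp3 ?_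
            exact ((Nat.prime_dvd_prime_iff_eq Nat.prime_three hp).1 (by exact_mod_cast h)).symm
        intro i j
        rw [hN i j, pow_succ]
        exact mul_dvd_mul_left _ (hdiv i j)
    ext i j
    by_contra hne
    obtain ⟨a, ha⟩ : ∃ a : ℕ, (M i j).natAbs < 3 ^ a := ⟨_, Nat.lt_pow_self (by norm_num)⟩
    have h := Int.natAbs_dvd_natAbs.2 (main a i j)
    rw [Int.natAbs_pow, show (3 : ℤ).natAbs = 3 from rfl] at h
    have h' := Nat.le_of_dvd (Int.natAbs_pos.2 hne) h
    rw [pow_succ] at h'
    linarith [Nat.one_le_pow a 3 (by norm_num)]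
  refine Nat.card_le_card_of_injective (φ.comp H.subtype) ((injective_iff_map_eq_one _).2 fun h hh => ?_)
  by_contra hne
  obtain ⟨p, hp, hdvd⟩ := Nat.exists_prime_and_dvd (mt orderOf_eq_one_iff.1 hne)
  have hord : orderOf h ≠ 0 := (isOfFinOrder_of_finite h).orderOf_pos.ne'
  set g := h ^ (orderOf h / p)
  have hg : orderOf g = p := orderOf_pow_orderOf_div hord hdvd
  have hker : φ (H.subtype g) = 1 := by
    show φ (H.subtype (h ^ _)) = 1
    rw [map_pow, map_pow, show φ (H.subtype h) = 1 from hh, one_pow]
  have hM := key p hp ((H.subtype g).val - (1 : Matrix (Fin n) (Fin n) ℤ)) (by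
    rw [add_sub_cancel]
    exact (Units.val_pow_eq_pow_val (H.subtype g) p).symm.trans
      (congrArg Units.val (show (H.subtype g) ^ p = 1 by rw [← map_pow, ← hg, pow_orderOf_eq_one, map_one]))) (fun i j => by
    have he := congrArg (fun G : Matrix.GeneralLinearGroup (Fin n) (ZMod 3) => (G : Matrix (Fin n) (Fin n) (ZMod 3)) i j) hker
    refine (ZMod.intCast_zmod_eq_zero_iff_dvd _ 3).1 ?_
    rw [Matrix.sub_apply, Int.cast_sub, show (((H.subtype g).val i j : ℤ) : ZMod 3) = (1 : Matrix (Fin n) (Fin n) (ZMod 3)) i j from he]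
    by_cases hij : i = j <;> simp [Matrix.one_apply, hij])
  have : g = 1 := by
    apply H.subtype_injective
    rw [map_one]
    exact Units.ext (sub_eq_zero.1 hM)
  rw [this, orderOf_one] at hg
  exact hp.ne_one hg.symm

end Groth.Agent.S19590
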