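import Groth.Statements.S19591


set_option autoImplicit false
universe u v
open BddFin

namespace Groth.Agent.S19591



/-- Let K be a perfect field of characteristic 2, V a finite-dimensional K-vector space with dim V > 2
and q a quadratic form on V whose polar bilinear form is non-degenerate. Then q represents zero
non-trivially. (Non-degeneracy of the polar form, which is alternating in characteristic 2, forces
dim V to be even, as the published lemma notes.) -/
theorem result
    (K : Type u) [Field K] [CharP K 2] [PerfectField K]
    (V : Type v) [AddCommGroup V] [Module K V] [FiniteDimensional K V]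
    (hV : 2 < Module.finrank K V) (q : QuadraticForm K V)
    (hq : (QuadraticMap.polarBilin q).Nondegenerate) :
    ∃ v : V, v ≠ 0 ∧ q v = 0 := by
  have hsq : ∀ c : K, ∃ r : K, r ^ 2 = c := fun c => by
    haveI : ExpChar K 2 := ExpChar.prime Nat.prime_two
    exact ⟨(frobeniusEquiv K 2).symm c, frobeniusEquiv_symm_pow_p K 2 c⟩
  haveI : Nontrivial V := Module.nontrivial_of_finrank_pos (R := K) (by omega)
  obtain ⟨x, hx⟩ := exists_ne (0 : V)
  by_cases hqx : q x = 0
  · exact ⟨x, hx, hqx⟩
  set φ : V →ₗ[K] K := (QuadraticMap.polarBilin q) x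
  have hker : 2 ≤ Module.finrank K (LinearMap.ker φ) := by
    have h1 := LinearMap.finrank_range_add_finrank_ker φ
    have h2 : Module.finrank K (LinearMap.range φ) ≤ Module.finrank K K := Submodule.finrank_le _
    rw [Module.finrank_self] at h2
    omega
  obtain ⟨y, hy, hyx⟩ : ∃ y ∈ LinearMap.ker φ, y ∉ K ∙ x := by
    by_contra! h
    have h1 := Submodule.finrank_mono (show LinearMap.ker φ ≤ K ∙ x from h)
    rw [finrank_span_singleton hx] at h1
    omega
  obtain ⟨r, hr⟩ := hsq (q y / q x)
  refine ⟨r • x + y, fun h => hyx ?_, ?_⟩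
  · rw [Submodule.mem_span_singleton]
    exact ⟨-r, by rw [neg_smul, neg_eq_iff_add_eq_zero, h]⟩
  · have hpol : QuadraticMap.polar q x y = 0 := hy
    rw [QuadraticMap.map_add q, QuadraticMap.map_smul, QuadraticMap.polar_smul_left, hpol, smul_eq_mul, ← pow_two r, hr,
      div_mul_cancel₀ _ hqx, smul_zero, add_zero]
    exact CharTwo.add_self_eq_zero _

end Groth.Agent.S19591
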