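import Groth.Statements.S19593
import Groth.Agent.ProjBundleLib.PushId
import Groth.Agent.CartDiv.Avoid
import Mathlib.GroupTheory.CosetCover

set_option autoImplicit false
universe u
open CategoryTheory AlgebraicGeometry
open PicF

namespace Groth.Agent.S19593

/-- Let k be an infinite field, Y a scheme proper over k with a relatively very ample O_Y-module A (the
pullback of O(1) along an immersion of Y into the Proj of a symmetric algebra over k), and y_1, …,
y_m finitely many points of Y. Then some global section of A generates A at every y_i. (The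
published statement takes Y projective over k and A a very ample line bundle; here Y is proper over
k and A very ample relative to Y → Spec k, which makes Y projective.) -/
theorem result
    (k : Type u) [Field k] [Infinite k] (Y : Scheme.{u}) (f : Y ⟶ Spec (CommRingCat.of k)) [IsProper f]
    (A : Y.Modules) (hA : RelProj.IsRelVeryAmple f A)
    (ι : Type) [Finite ι] (y : ι → ↥Y) :
    ∃ s : Coh.structureModule Y ⟶ A, ∀ i : ι, y i ∈ CohB1.genLocus A s := by
  classical
  obtain ⟨E, _, v, hv, -⟩ := ProjBundleLib.exists_of_isRelVeryAmple hA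
  let σ : Γ(E, ⊤) → Γ(A, f ⁻¹ᵁ ⊤) := ProjBundleLib.vsec v ⊤
  have hgen : ∀ x : Y, ∃ e : Γ(E, ⊤), x ∈ AmpleLib.locus (σ e) := fun x => by
    obtain ⟨e, V, hxV, h, hg⟩ := hv ⊤ (isAffineOpen_top _) x trivial
    exact ⟨e, AmpleLib.le_locus h hg hxV⟩
  have hinv : PicF.IsInvertible A := fun x => by
    obtain ⟨e, V, hxV, h, hg⟩ := hv ⊤ (isAffineOpen_top _) x trivial
    exact ⟨V, hxV, LFFrame.IsFrame.nonempty_restrict_iso ((Props.GenLocus.isGen_iff_isFrame _).1 hg)⟩
  let φ : k →+* Γ(Spec (CommRingCat.of k), ⊤) := (Scheme.ΓSpecIso (CommRingCat.of k)).inv.hom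
  let _ : Module k Γ(E, ⊤) := Module.compHom _ φ
  have hsmul : ∀ (r : Γ(Spec (CommRingCat.of k), ⊤)) (e : Γ(E, ⊤)) (x : Y),
      x ∈ AmpleLib.locus (σ (r • e)) → x ∈ AmpleLib.locus (σ e) := fun r e x hx => by
    rw [show σ (r • e) = f.app ⊤ r • σ e from ProjBundleLib.vsec_smul v ⊤ r e,
      AmpleLib.locus_smul hinv] at hx
    exact hx.2
  let W : ι → Submodule k Γ(E, ⊤) := fun i =>
    { carrier := {e | y i ∉ AmpleLib.locus (σ e)}
      add_mem' := fun {a b} ha hb h => by
        have hneg : y i ∉ AmpleLib.locus (σ (-a)) := fun h' => ha (hsmul (-1) a _ (by rwa [neg_one_smul]))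
        have := CartDiv.Avoid.mem_locus_add hinv (σ (-a)) (σ (a + b)) trivial hneg h
        rw [show σ (-a) + σ (a + b) = σ b from
          (ProjBundleLib.vsec_add v ⊤ (-a) (a + b)).symm.trans (congrArg σ (neg_add_cancel_left a b))] at this
        exact hb this
      zero_mem' := fun h => by
        have h0 : σ 0 = (0 : Γ(Y, f ⁻¹ᵁ ⊤)) • σ 0 := by
          rw [zero_smul]; exact map_zero (v.app ⊤).hom
        rw [h0, AmpleLib.locus_smul hinv, Scheme.basicOpen_zero] at h
        exact h.1
      smul_mem' := fun c e he h => he (hsmul (φ c) e _ h) }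
  suffices ∃ e : Γ(E, ⊤), ∀ i, y i ∈ AmpleLib.locus (σ e) by
    obtain ⟨e, he⟩ := this
    have htop : (⊤ : Y.Opens) ≤ f ⁻¹ᵁ ⊤ := le_of_eq (Scheme.Hom.preimage_top f).symm
    refine ⟨Props.GenLocus.homOfSec (QCoh.res A htop (σ e)), fun i => ?_⟩
    exact ((AmpleLib.genLocus_homOfSec _).trans (AmpleLib.locus_res htop (σ e))).ge ⟨he i, trivial⟩
  by_contra hc
  push Not at hc
  have hcov : (⋃ i, (W i : Set Γ(E, ⊤))) = Set.univ := Set.eq_univ_of_forall fun e => by
    obtain ⟨i, hi⟩ := hc e
    exact Set.mem_iUnion.2 ⟨i, hi⟩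
  obtain ⟨i, hi⟩ := Subspace.exists_eq_top_of_iUnion_eq_univ hcov
  obtain ⟨e, he⟩ := hgen (y i)
  exact (hi.ge Submodule.mem_top : e ∈ W i) he

end Groth.Agent.S19593
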