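import Groth.Statements.S19603
import Groth.Agent.GITLib.LinearInv

set_option autoImplicit false
universe u
open GIT

namespace Groth.Agent.S19603

/-- For the whole projective space U = P(V), let k be an algebraically closed field of arbitrary
characteristic and G = Spec A a linearly reductive affine algebraic group acting linearly on affine
ι-space, and let v be a vector. Then some invariant homogeneous polynomial of positive degree is
non-zero at v (the point of v is semistable) if and only if the origin is not in the closure of the
orbit of v. -/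
theorem result (k : Type u) [Field k] [IsAlgClosed k]
    (A : Type u) [CommRing A] [HopfAlgebra k A] [Algebra.FiniteType k A] (hG : HopfRep.IsLinearlyReductive k A)
    (ι : Type u) [Fintype ι] [HopfRep.Comod k A (MvPolynomial ι k)] [GLin.IsCoactAlg k A (MvPolynomial ι k)]
    (hlin : GLin.IsLinear k A ι) (v : ι → k) :
    GLin.IsSemistableVec k A v ↔
      ¬ GLin.InOrbitClosure k A (GLin.vecPt k ι v) (GLin.vecPt k ι (fun _ => (0 : k))) := by
  rw [GLin.IsSemistableVec, not_iff_not]
  constructor
  · intro h
    obtain ⟨z, hz, hz0⟩ := (GITLib.comp_invariants_eq_iff_meet hG (GLin.vecPt k ι v)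
      (GLin.vecPt k ι fun _ => (0 : k))).1 (AlgHom.ext fun f => GITLib.eval_eq_of_isNullform hlin h f.2)
    rwa [← GITLib.eq_zero_of_inOrbitClosure_zero hlin hz0]
  · intro h F hF d hd hhom
    have h0 : GLin.InOrbitClosure k A (GLin.vecPt k ι fun _ => (0 : k)) (GLin.vecPt k ι fun _ => (0 : k)) :=
      fun f hf => by
        rw [RingHom.mem_ker, ← InvQLib.counit_orbitHom (A := A), RingHom.mem_ker.1 hf, map_zero]
    have := AlgHom.congr_fun ((GITLib.comp_invariants_eq_iff_meet hG (GLin.vecPt k ι v) _).2 ⟨_, h, h0⟩) ⟨F, hF⟩
    refine this.trans ?_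
    simp [MvPolynomial.aeval_zero', MvPolynomial.constantCoeff_eq,
      hhom.coeff_eq_zero (show (0 : ι →₀ ℕ).degree ≠ d by simp; omega)]

end Groth.Agent.S19603
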