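import Groth.Statements.S19606
import Groth.Agent.CohAff.ResOps

set_option autoImplicit false
universe u
open CategoryTheory CategoryTheory.Limits AlgebraicGeometry
open ClSub

namespace Groth.Agent.S19606

section aux

open AlgebraicGeometry CategoryTheory CategoryTheory.Limits

variable {X : Scheme.{u}} (I : X.IdealSheafData) (U : X.Opens) (hU : IsAffineOpen U)

include hU in
lemma toSubscheme_surjective : Function.Surjective ((ClSub.toSubscheme I).app U) :=
  I.subschemeι_app_surjective ⟨U, hU⟩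

lemma toSubscheme_eq_zero_iff (a : Γ(X, U)) :
    (ClSub.toSubscheme I).app U a = 0 ↔ a ∈ I.ideal ⟨U, hU⟩ := by
  rw [← I.ker_subschemeι_app ⟨U, hU⟩]
  exact Iff.rfl

lemma comp_app_apply {M N L : X.Modules} (f : M ⟶ N) (g : N ⟶ L) (x : Γ(M, U)) :
    g.app U (f.app U x) = (f ≫ g).app U x := by
  rw [Scheme.Modules.Hom.comp_app]
  rfl

lemma sub_app_apply {M N : X.Modules} (f g : M ⟶ N) (x : Γ(M, U)) :
    (f - g).app U x = f.app U x - g.app U x := rfl

/-- Sections of a biproduct are determined by their components. -/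
lemma biprod_ext {M N : X.Modules} {z z' : Γ(M ⊞ N, U)}
    (h₁ : (biprod.fst : M ⊞ N ⟶ M).app U z = (biprod.fst : M ⊞ N ⟶ M).app U z')
    (h₂ : (biprod.snd : M ⊞ N ⟶ N).app U z = (biprod.snd : M ⊞ N ⟶ N).app U z') : z = z' := by
  have key : ∀ w : Γ(M ⊞ N, U), w = (biprod.inl : M ⟶ M ⊞ N).app U ((biprod.fst : M ⊞ N ⟶ M).app U w) +
      (biprod.inr : N ⟶ M ⊞ N).app U ((biprod.snd : M ⊞ N ⟶ N).app U w) := fun w => by
    rw [comp_app_apply, comp_app_apply]
    have e := congr($(congrArg (fun t : M ⊞ N ⟶ M ⊞ N => Scheme.Modules.Hom.app t U) biprod.total) w)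
    exact e.symm
  rw [key z, key z', h₁, h₂]

end aux

/-- Let X be a scheme and I₁, I₂ quasi-coherent ideal sheaves with I₁ ⊓ I₂ = 0, cutting out closed
subschemes X₁, X₂ and X₁ ∩ X₂ (ideal I₁ + I₂). Then 0 → O_X → O_X/I₁ ⊕ O_X/I₂ → O_X/(I₁ + I₂) → 0 is
an exact sequence of O_X-modules, the maps being the two restrictions and the difference of the
restrictions q₁, q₂ (the module maps compatible with the quotient maps from O_X). The published
statement is for a locally free sheaf E on a reduced scheme with two irreducible components X₁, X₂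
(whose ideals meet in zero); this row is the case E = O_X for any two ideals with zero intersection,
which is what the local argument uses. -/
theorem result (X : Scheme.{u}) (I₁ I₂ : X.IdealSheafData)
    (h : I₁ ⊓ I₂ = ⊥)
    (q₁ : ClSub.quotMod I₁ ⟶ ClSub.quotMod (I₁ ⊔ I₂)) (q₂ : ClSub.quotMod I₂ ⟶ ClSub.quotMod (I₁ ⊔ I₂))
    (hq₁ : ClSub.toSubscheme I₁ ≫ q₁ = ClSub.toSubscheme (I₁ ⊔ I₂))
    (hq₂ : ClSub.toSubscheme I₂ ≫ q₂ = ClSub.toSubscheme (I₁ ⊔ I₂)) :
    Epi (biprod.desc q₁ (-q₂)) ∧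
      ∃ w : biprod.lift (ClSub.toSubscheme I₁) (ClSub.toSubscheme I₂) ≫ biprod.desc q₁ (-q₂) = 0,
        Nonempty (IsLimit (KernelFork.ofι (biprod.lift (ClSub.toSubscheme I₁) (ClSub.toSubscheme I₂)) w)) := by
  have h₁s : Epi (ClSub.toSubscheme (I₁ ⊔ I₂)) :=
    CohAff.epi_of_affine_surjective _ fun U hU => toSubscheme_surjective _ U hU
  refine ⟨?_, ?_⟩
  · have e : biprod.inl ≫ biprod.desc q₁ (-q₂) = q₁ := biprod.inl_desc _ _
    have hq : Epi (ClSub.toSubscheme I₁ ≫ q₁) := by rw [hq₁]; exact h₁s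
    have : Epi q₁ := epi_of_epi (ClSub.toSubscheme I₁) q₁
    have : Epi (biprod.inl ≫ biprod.desc q₁ (-q₂)) := by rw [e]; assumption
    exact epi_of_epi biprod.inl _
  let L := biprod.lift (ClSub.toSubscheme I₁) (ClSub.toSubscheme I₂)
  let D := biprod.desc q₁ (-q₂)
  have w : L ≫ D = 0 := by
    rw [biprod.lift_desc, Preadditive.comp_neg, hq₁, hq₂, add_neg_cancel]
  refine ⟨w, ?_⟩
  let κ := kernel.lift D L w
  have hκ : IsIso κ := CohAff.isIso_of_affine_bijective _ fun U hU => by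
    have hι : Function.Injective ((kernel.ι D).app U) := QCoh.app_injective_of_mono _ U
    have hfst : ∀ a, (biprod.fst : ClSub.quotMod I₁ ⊞ ClSub.quotMod I₂ ⟶ _).app U (L.app U a) =
        (ClSub.toSubscheme I₁).app U a := fun a => by
      rw [comp_app_apply, biprod.lift_fst]
    have hsnd : ∀ a, (biprod.snd : ClSub.quotMod I₁ ⊞ ClSub.quotMod I₂ ⟶ _).app U (L.app U a) =
        (ClSub.toSubscheme I₂).app U a := fun a => by
      rw [comp_app_apply, biprod.lift_snd]
    have hκι : ∀ a, (kernel.ι D).app U (κ.app U a) = L.app U a := fun a => by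
      rw [comp_app_apply, kernel.lift_ι]
    refine ⟨(injective_iff_map_eq_zero _).2 fun a ha => ?_, fun y => ?_⟩
    · have h0 : L.app U a = 0 := by rw [← hκι, ha, map_zero]
      have m₁ : a ∈ I₁.ideal ⟨U, hU⟩ := (toSubscheme_eq_zero_iff I₁ U hU a).1 (by
        rw [← hfst, h0, map_zero])
      have m₂ : a ∈ I₂.ideal ⟨U, hU⟩ := (toSubscheme_eq_zero_iff I₂ U hU a).1 (by
        rw [← hsnd, h0, map_zero])
      have hm : a ∈ (I₁ ⊓ I₂).ideal ⟨U, hU⟩ := ⟨m₁, m₂⟩
      rw [h] at hm
      exact hm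
    · let z := (kernel.ι D).app U y
      have hz : D.app U z = 0 := by
        rw [comp_app_apply, kernel.condition]
        rfl
      obtain ⟨a, ha⟩ : ∃ a : Γ(X, U), (ClSub.toSubscheme I₁).app U a =
          (biprod.fst : ClSub.quotMod I₁ ⊞ ClSub.quotMod I₂ ⟶ _).app U z :=
        toSubscheme_surjective I₁ U hU _
      obtain ⟨b, hb⟩ : ∃ b : Γ(X, U), (ClSub.toSubscheme I₂).app U b =
          (biprod.snd : ClSub.quotMod I₁ ⊞ ClSub.quotMod I₂ ⟶ _).app U z :=
        toSubscheme_surjective I₂ U hU _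
      have hD : D = biprod.fst ≫ q₁ - biprod.snd ≫ q₂ :=
        biprod.hom_ext' _ _ (by simp [D]) (by simp [D])
      have hab : a - b ∈ (I₁ ⊔ I₂).ideal ⟨U, hU⟩ := by
        refine (toSubscheme_eq_zero_iff (I₁ ⊔ I₂) U hU _).1 ?_
        refine (map_sub ((ClSub.toSubscheme (I₁ ⊔ I₂)).app U).hom a b).trans ?_
        rw [hD, sub_app_apply, ← comp_app_apply, ← comp_app_apply, ← ha, ← hb, comp_app_apply,
          comp_app_apply, hq₁, hq₂] at hz
        exact hz
      rw [Scheme.IdealSheafData.ideal_sup, Pi.sup_apply] at hab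
      replace hab := (Submodule.mem_sup (R := Γ(X, U)) (M := Γ(X, U))).1 hab
      obtain ⟨c₁, hc₁, c₂, hc₂, hc⟩ := hab
      refine ⟨(a - c₁ : Γ(X, U)), hι ?_⟩
      rw [hκι]
      refine biprod_ext U ?_ ?_
      · rw [hfst]
        refine (map_sub ((ClSub.toSubscheme I₁).app U).hom a c₁).trans ?_
        exact (congrArg ((ClSub.toSubscheme I₁).app U a - ·)
          ((toSubscheme_eq_zero_iff I₁ U hU c₁).2 hc₁)).trans ((sub_zero _).trans ha)
      · rw [hsnd, show (a - c₁ : Γ(X, U)) = b + c₂ by linear_combination -hc]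
        refine (map_add ((ClSub.toSubscheme I₂).app U).hom b c₂).trans ?_
        exact (congrArg ((ClSub.toSubscheme I₂).app U b + ·)
          ((toSubscheme_eq_zero_iff I₂ U hU c₂).2 hc₂)).trans ((add_zero _).trans hb)
  exact ⟨IsLimit.ofIsoLimit (kernelIsKernel D)
    (Fork.ext (asIso κ).symm (by simp [κ, L]))⟩

end Groth.Agent.S19606
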