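import Groth.Statements.S19607
import Groth.Agent.StFib.InfAut

set_option autoImplicit false
set_option backward.isDefEq.respectTransparency false
set_option backward.isDefEq.respectTransparency.types false
universe u
open AlgSt

namespace Groth.Agent.S19607

open CategoryTheory AlgebraicGeometry in
/-- Let f : 𝒳 → 𝒴 be a functor over (Sch/S) between algebraic stacks for the etale topology which are
locally Noetherian and have separated diagonals over S, with f locally of finite type. Then the
diagonal of f is unramified (f is DM: diagonal representable by algebraic spaces, locally of finite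
type and formally unramified) if and only if for every surjection A → A₀ of Artinian local rings
with kernel a simple module, every x̃ : Spec A → 𝒳 and every 2-automorphism Θ of x̃ which restricts
to the identity over Spec A₀ and maps to the identity under f, Θ is the identity. An automorphism of
a lifting (x̃, β, γ) of an infinitesimal lifting diagram is exactly such a Θ, and every x̃ is a
lifting of the diagram it induces, so this is the criterion 'every automorphism of a lifting is
trivial'. Separatedness of the diagonals is taken over S, which is equivalent to separatedness of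
the absolute diagonals. -/
theorem result (S : Scheme.{u}) (𝒳 𝒴 : AlgSt.Cat S)
    (h𝒳 : AlgSt.IsAlgStack Scheme.etalePrecoverage 𝒳) (h𝒴 : AlgSt.IsAlgStack Scheme.etalePrecoverage 𝒴)
    (hn𝒳 : AlgSt.SmoothLocally (fun T => IsLocallyNoetherian T) 𝒳)
    (hn𝒴 : AlgSt.SmoothLocally (fun T => IsLocallyNoetherian T) 𝒴)
    (hΔ𝒳 : AlgSt.RepByAlgSpWith AlgSp.IsSeparatedMor (FibCat.diag (FibCat.toSelf 𝒳)))
    (hΔ𝒴 : AlgSt.RepByAlgSpWith AlgSp.IsSeparatedMor (FibCat.diag (FibCat.toSelf 𝒴)))
    (f : 𝒳 ⥤ᵇ 𝒴) (hft : AlgSt.LocQ (AlgSp.LocP @LocallyOfFiniteType) f) :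
    AlgSt.IsDMMor f ↔
      ∀ (A A₀ : Type u) [CommRing A] [IsArtinianRing A] [IsLocalRing A] [CommRing A₀] [IsLocalRing A₀]
        (φ : A →+* A₀) (_ : Function.Surjective φ) (_ : IsSimpleModule A (RingHom.ker φ))
        (sA : Spec (CommRingCat.of A) ⟶ S)
        (xt : FibCat.overCat (Over.mk sA) ⥤ᵇ 𝒳) (Θ : xt ≅ xt),
        BasedCategory.whiskerLeft (AlgSt.overMap (Over.homMk (Spec.map (CommRingCat.ofHom φ)) rfl :
            Over.mk (Spec.map (CommRingCat.ofHom φ) ≫ sA) ⟶ Over.mk sA)) Θ.hom =
          𝟙 (BasedFunctor.comp (AlgSt.overMap (Over.homMk (Spec.map (CommRingCat.ofHom φ)) rfl :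
            Over.mk (Spec.map (CommRingCat.ofHom φ) ≫ sA) ⟶ Over.mk sA)) xt) →
        BasedCategory.whiskerRight Θ.hom f = 𝟙 (BasedFunctor.comp xt f) →
        Θ.hom = 𝟙 xt := by
  constructor
  · intro hf A A₀ _ _ _ _ _ φ hφ hs sA xt Θ h1 h2
    exact Groth.Agent.StFib.eq_id_of_isDMMor h𝒳.isStack.1 f hf φ hφ
      (Groth.Agent.StFib.ker_sq_eq_bot φ (hI := hs)) sA xt Θ h1 h2
  · intro H
    exact Groth.Agent.StFib.isDMMor_of_trivialAutAtDuals h𝒳 h𝒴 f
      (Groth.Agent.StFib.trivialAutAtDuals_of_criterion h𝒳.isStack.1 h𝒴.isStack.1 f H)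

end Groth.Agent.S19607
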