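import Groth.Statements.S19609
-- import your own Groth.Agent.* helpers here

set_option autoImplicit false
universe u
open CartMod

namespace Groth.Agent.S19609

lemma eq_zero_of_forall_dvd {A : Type u} [CommRing A] (p : ℕ)
    [IsAdicComplete (Ideal.span {(p : A)}) A] (a : A) (h : ∀ n : ℕ, (p : A) ^ n ∣ a) : a = 0 := by
  refine IsHausdorff.haus (inferInstance : IsHausdorff (Ideal.span {(p : A)}) A) a fun n => ?_
  rw [SModEq.zero, smul_eq_mul, Ideal.mul_top, Ideal.span_singleton_pow, Ideal.mem_span_singleton]
  exact h n

/-- Let p be a prime and u : A → B a ring homomorphism between commutative rings which are complete and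
separated for the p-adic topology and have no p-torsion (flat over the p-adic base). If u induces a
bijection A/pA → B/pB (injectivity: u a ∈ pB forces a ∈ pA; surjectivity: every b ∈ B is congruent
to some u a modulo pB), then u is bijective. (The published statement is for a morphism of flat
p-adic formal schemes over the Witt vectors of a perfect field: if its special fibre is an
isomorphism, so is the morphism; this row is its affine, ring-level case.) -/
theorem result (p : ℕ) [Fact p.Prime]
    {A B : Type u} [CommRing A] [CommRing B]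
    [IsAdicComplete (Ideal.span {(p : A)}) A] [IsAdicComplete (Ideal.span {(p : B)}) B]
    (hA : IsSMulRegular A (p : A)) (hB : IsSMulRegular B (p : B)) (u : A →+* B)
    (hinj : ∀ a : A, u a ∈ Ideal.span {(p : B)} → a ∈ Ideal.span {(p : A)})
    (hsurj : ∀ b : B, ∃ a : A, b - u a ∈ Ideal.span {(p : B)}) :
    Function.Bijective u := by
  have hu : ∀ n : ℕ, u ((p : A) ^ n) = (p : B) ^ n := fun n => by simp
  have step : ∀ b : B, ∃ ab : A × B, b = u ab.1 + (p : B) * ab.2 := fun b => by
    obtain ⟨a, ha⟩ := hsurj b
    obtain ⟨c, hc⟩ := Ideal.mem_span_singleton.mp ha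
    exact ⟨(a, c), by rw [← hc]; ring⟩
  choose F hF using step
  refine ⟨(injective_iff_map_eq_zero u).mpr fun a ha => ?_, fun b => ?_⟩
  · refine eq_zero_of_forall_dvd p a fun n => ?_
    induction n with
    | zero => simp
    | succ n ih =>
      obtain ⟨a', rfl⟩ := ih
      have h0 : u a' = 0 := by
        refine (hB.pow n) ?_
        simp only [smul_eq_mul, mul_zero]
        rw [← hu, ← map_mul, ha]
      obtain ⟨a'', rfl⟩ := Ideal.mem_span_singleton.mp (hinj a' (h0 ▸ zero_mem _))
      exact ⟨a'', by ring⟩
  · let rest : ℕ → B := fun n => (fun c => (F c).2)^[n] b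
    let f : ℕ → A := fun n => ∑ i ∈ Finset.range n, (p : A) ^ i * (F (rest i)).1
    have hr : ∀ n, b = u (f n) + (p : B) ^ n * rest n := by
      intro n
      induction n with
      | zero => simp [f, rest]
      | succ n ih =>
        have h := hF (rest n)
        have e : rest (n + 1) = (F (rest n)).2 := Function.iterate_succ_apply' _ _ _
        rw [show f (n + 1) = f n + (p : A) ^ n * (F (rest n)).1 from Finset.sum_range_succ _ _,
          map_add, map_mul, hu, e]
        conv_lhs => rw [ih]
        rw [pow_succ]
        conv_lhs => rw [h]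
        ring
    have hcauchy : ∀ {m n}, m ≤ n → f m ≡ f n [SMOD (Ideal.span {(p : A)} ^ m • ⊤ : Submodule A A)] := by
      intro m n hmn
      rw [SModEq.sub_mem, smul_eq_mul, Ideal.mul_top, Ideal.span_singleton_pow,
        Ideal.mem_span_singleton]
      have : f m - f n = -∑ i ∈ Finset.Ico m n, (p : A) ^ i * (F (rest i)).1 := by
        rw [Finset.sum_Ico_eq_sub _ hmn]; simp [f]
      rw [this, dvd_neg]
      exact Finset.dvd_sum fun i hi => Dvd.dvd.mul_right (pow_dvd_pow _ (Finset.mem_Ico.mp hi).1) _
    obtain ⟨L, hL⟩ := IsPrecomplete.prec inferInstance hcauchy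
    refine ⟨L, sub_eq_zero.mp (eq_zero_of_forall_dvd p _ fun n => ?_)⟩
    have h := hL n
    rw [SModEq.sub_mem, smul_eq_mul, Ideal.mul_top, Ideal.span_singleton_pow,
      Ideal.mem_span_singleton] at h
    obtain ⟨c, hc⟩ := h
    refine ⟨-u c - rest n, ?_⟩
    conv_lhs => rw [hr n, show L = f n - (p : A) ^ n * c by rw [← hc]; ring]
    rw [map_sub, map_mul, hu]
    ring

end Groth.Agent.S19609
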