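import Groth.Statements.S19610
import Groth.Agent.LocFlat.Basic

set_option autoImplicit false
universe u
open scoped TensorProduct
open CartMod

namespace Groth.Agent.S19610

/-- Let p be a prime and B a commutative algebra over the commutative ring A, both complete and
separated for the p-adic topology and both without p-torsion (flat over the p-adic base). If B/pB is
flat over A/pA, then B/p^nB is flat over A/p^nA for every n ≥ 1 (the quotients are written as base
changes (A/p^n) ⊗_A B). (The published statement is for a morphism of flat p-adic formal schemes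
over the Witt vectors of a perfect field: if its special fibre is flat, so are the induced morphisms
of schemes modulo every power of p; this row is its affine, ring-level case.) -/
theorem result (p : ℕ) [Fact p.Prime]
    {A B : Type u} [CommRing A] [CommRing B] [Algebra A B]
    [IsAdicComplete (Ideal.span {(p : A)}) A] [IsAdicComplete (Ideal.span {(p : B)}) B]
    (hA : IsSMulRegular A (p : A)) (hB : IsSMulRegular B (p : B))
    (h : Module.Flat (A ⧸ Ideal.span {(p : A)}) ((A ⧸ Ideal.span {(p : A)}) ⊗[A] B))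
    (n : ℕ) (hn : 1 ≤ n) :
    Module.Flat (A ⧸ (Ideal.span {(p : A)} ^ n)) ((A ⧸ (Ideal.span {(p : A)} ^ n)) ⊗[A] B) := by
  let I : Ideal A := Ideal.span {(p : A)}
  let R := A ⧸ I ^ n
  let M := R ⊗[A] B
  let J : Ideal R := I.map (Ideal.Quotient.mk _)
  have hJ : J = Ideal.span {(p : R)} := by
    simp [J, I, Ideal.map_span]
  have hpn : (p : R) ^ n = 0 := by
    rw [← map_natCast (Ideal.Quotient.mk (I ^ n)), ← map_pow, Ideal.Quotient.eq_zero_iff_mem]
    exact Ideal.pow_mem_pow (Ideal.mem_span_singleton_self _) n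
  refine LocFlat.flat_criterion_nilpotent M J ⟨n, ?_⟩ ?_ ?_
  · rw [hJ, Ideal.span_singleton_pow (p : R), hpn]; simp
  · rw [injective_iff_map_eq_zero]
    let gen : J := ⟨(p : R), hJ.ge (Ideal.mem_span_singleton_self _)⟩
    have hsurj : ∀ t : J ⊗[R] M, ∃ m : M, gen ⊗ₜ[R] m = t := by
      intro t
      induction t with
      | zero => exact ⟨0, TensorProduct.tmul_zero _ _⟩
      | tmul x m =>
        obtain ⟨c, hc⟩ := Ideal.mem_span_singleton'.mp (hJ.le x.2)
        refine ⟨c • m, ?_⟩
        rw [← TensorProduct.smul_tmul]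
        congr 1
        exact Subtype.ext hc
      | add x y hx hy =>
        obtain ⟨a, rfl⟩ := hx
        obtain ⟨b, rfl⟩ := hy
        exact ⟨a + b, TensorProduct.tmul_add _ _ _⟩
    intro t ht
    obtain ⟨m, rfl⟩ := hsurj t
    obtain ⟨b, rfl⟩ : ∃ b : B, (1 : R) ⊗ₜ[A] b = m :=
      TensorProduct.mk_surjective A B R Ideal.Quotient.mk_surjective m
    have h0 : (1 : R) ⊗ₜ[A] ((p : A) • b) = 0 := by
      rw [TensorProduct.tmul_smul, ← algebraMap_smul R (p : A) ((1 : R) ⊗ₜ[A] b), map_natCast]
      have := congrArg (TensorProduct.lid R M) ht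
      rwa [LinearMap.rTensor_tmul, TensorProduct.lid_tmul, map_zero] at this
    have hmem : (p : A) • b ∈ I ^ n • (⊤ : Submodule A B) := by
      have := congrArg (TensorProduct.quotTensorEquivQuotSMul B (I ^ n)) h0
      rw [show (1 : R) = Ideal.Quotient.mk (I ^ n) 1 from rfl,
        TensorProduct.quotTensorEquivQuotSMul_mk_tmul, one_smul, map_zero] at this
      exact (Submodule.Quotient.mk_eq_zero _).mp this
    rw [Ideal.smul_top_eq_map, Submodule.restrictScalars_mem, Ideal.map_pow, Ideal.map_span,
      Set.image_singleton, map_natCast, Ideal.span_singleton_pow, Ideal.mem_span_singleton] at hmem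
    obtain ⟨c, hc⟩ := hmem
    obtain ⟨m, rfl⟩ : ∃ m, m + 1 = n := ⟨n - 1, by omega⟩
    have hb : b = (p : A) ^ m • c := by
      apply hB
      simp only [smul_eq_mul]
      rw [Algebra.smul_def, map_natCast] at hc
      rw [hc, Algebra.smul_def, map_pow, map_natCast]
      ring
    rw [hb, TensorProduct.tmul_smul, ← algebraMap_smul R ((p : A) ^ m) ((1 : R) ⊗ₜ[A] c),
      ← TensorProduct.smul_tmul]
    rw [show algebraMap A R ((p : A) ^ m) • gen = 0 from Subtype.ext (by
      show (algebraMap A R ((p : A) ^ m)) * (p : R) = 0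
      rw [map_pow, map_natCast, ← pow_succ, hpn]), TensorProduct.zero_tmul]
  · let f : A ⧸ I →+* R ⧸ J :=
      Ideal.Quotient.lift I (algebraMap A (R ⧸ J)) fun a ha => by
        rw [IsScalarTower.algebraMap_apply A R (R ⧸ J)]
        exact Ideal.Quotient.eq_zero_iff_mem.mpr (Ideal.mem_map_of_mem _ ha)
    let _ : Algebra (A ⧸ I) (R ⧸ J) := f.toAlgebra
    have : IsScalarTower A (A ⧸ I) (R ⧸ J) := IsScalarTower.of_algebraMap_eq fun _ => rfl
    have : Module.Flat (R ⧸ J) ((R ⧸ J) ⊗[A ⧸ I] ((A ⧸ I) ⊗[A] B)) := inferInstance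
    exact Module.Flat.of_linearEquiv ((TensorProduct.AlgebraTensorModule.cancelBaseChange A R
      (R ⧸ J) (R ⧸ J) B).trans (TensorProduct.AlgebraTensorModule.cancelBaseChange A (A ⧸ I)
      (R ⧸ J) (R ⧸ J) B).symm)

end Groth.Agent.S19610
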