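import Groth.Statements.S19612
import Mathlib.RingTheory.Flat.EquationalCriterion
import Mathlib.RingTheory.Flat.TorsionFree
import Mathlib.RingTheory.WittVector.DiscreteValuationRing

set_option autoImplicit false
universe u
open scoped TensorProduct
open CartMod

namespace Groth.Agent.S19612

/-- Let k be a perfect field of characteristic p, W = W(k) the ring of Witt vectors of k, and A a
commutative W-algebra which is complete and separated for the p-adic topology (an adic W-algebra).
Then flatness of A over W is equivalent to flatness of A/p^nA = (W/p^nW) ⊗_W A over W/p^nW for every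
n ≥ 1. -/
theorem result (p : ℕ) [Fact p.Prime] (k : Type u) [Field k]
    [CharP k p] [PerfectRing k p] (A : Type u) [CommRing A] [Algebra (WittVector p k) A]
    [IsAdicComplete (Ideal.span {(p : WittVector p k)}) A] :
    Module.Flat (WittVector p k) A ↔
      ∀ n : ℕ, 1 ≤ n →
        Module.Flat (WittVector p k ⧸ (Ideal.span {(p : WittVector p k)} ^ n))
          ((WittVector p k ⧸ (Ideal.span {(p : WittVector p k)} ^ n)) ⊗[WittVector p k] A) := by
  refine ⟨fun _ n _ => inferInstance, fun h => ?_⟩
  set W := WittVector p k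
  have hp0 : (p : W) ≠ 0 := (WittVector.irreducible p (k := k)).ne_zero
  have hreg : ∀ x : A, (p : W) • x = 0 → x = 0 := by
    intro x hx
    refine IsHausdorff.haus (inferInstance : IsHausdorff (Ideal.span {(p : W)}) A) x fun n => ?_
    rw [SModEq.zero]
    have := h (n + 1) (Nat.le_add_left _ _)
    let R := W ⧸ (Ideal.span {(p : W)} ^ (n + 1))
    have h0 : ∑ _i : Fin 1, (p : R) • ((1 : R) ⊗ₜ[W] x) = 0 := by
      rw [Fin.sum_univ_one, ← map_natCast (algebraMap W R), algebraMap_smul,
        ← TensorProduct.tmul_smul, hx, TensorProduct.tmul_zero]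
    obtain ⟨l, a, y, hy, ha⟩ := Module.Flat.isTrivialRelation_of_sum_smul_eq_zero h0
    obtain ⟨z, hz⟩ : ∃ z, (1 : R) ⊗ₜ[W] x = ((p : W) ^ n) • z := by
      choose b hb using fun j => Ideal.Quotient.mk_surjective (a 0 j)
      have hdvd : ∀ j, (p : W) ^ n ∣ b j := fun j => by
        have := ha j
        rw [Fin.sum_univ_one, ← hb, ← map_natCast (Ideal.Quotient.mk _), ← map_mul,
          Ideal.Quotient.eq_zero_iff_mem, Ideal.span_singleton_pow,
          Ideal.mem_span_singleton, pow_succ'] at this
        exact (mul_dvd_mul_iff_left hp0).mp this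
      choose c hc using hdvd
      refine ⟨∑ j, c j • y j, ?_⟩
      have h1 : (1 : R) ⊗ₜ[W] x = ∑ j, a 0 j • y j := hy 0
      rw [h1, Finset.smul_sum]
      refine Finset.sum_congr rfl fun j _ => ?_
      rw [← hb, smul_smul, ← hc]
      exact algebraMap_smul R (b j) (y j)
    obtain ⟨w, rfl⟩ : ∃ w : A, (1 : R) ⊗ₜ[W] w = z :=
      TensorProduct.mk_surjective W A R Ideal.Quotient.mk_surjective z
    rw [← TensorProduct.tmul_smul] at hz
    have e := congrArg (TensorProduct.quotTensorEquivQuotSMul A (Ideal.span {(p : W)} ^ (n + 1))) hz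
    rw [show (1 : R) = Ideal.Quotient.mk _ 1 from rfl,
      TensorProduct.quotTensorEquivQuotSMul_mk_tmul,
      TensorProduct.quotTensorEquivQuotSMul_mk_tmul, one_smul, one_smul,
      Submodule.Quotient.eq] at e
    have e' : x - (p : W) ^ n • w ∈ Ideal.span {(p : W)} ^ n • (⊤ : Submodule W A) :=
      Submodule.smul_mono_left (Ideal.pow_le_pow_right n.le_succ) e
    have h₂ : (p : W) ^ n • w ∈ Ideal.span {(p : W)} ^ n • (⊤ : Submodule W A) :=
      Submodule.smul_mem_smul (Ideal.pow_mem_pow (Ideal.mem_span_singleton_self _) n) trivial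
    simpa using add_mem e' h₂
  rw [Module.Flat.flat_iff_torsion_eq_bot_of_isBezout, eq_bot_iff]
  rintro x ⟨⟨r, hr⟩, hrx⟩
  obtain ⟨m, v, rfl⟩ := WittVector.exists_eq_pow_p_mul' r (nonZeroDivisors.ne_zero hr)
  have hx : (p : W) ^ m • x = 0 := by
    have : (v : W) • ((p : W) ^ m • x) = 0 := by rw [smul_smul, mul_comm]; exact hrx
    simpa using congrArg (fun z => ((v⁻¹ : Wˣ) : W) • z) this
  rw [Submodule.mem_bot]
  clear hrx hr
  induction m with
  | zero => simpa using hx
  | succ m ih => exact ih (hreg _ (by rw [smul_smul, ← pow_succ']; exact hx))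

end Groth.Agent.S19612
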