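import Groth.Statements.S19613
import Groth.Agent.AffThick.Nil
import Groth.Agent.QCoh.Exact

set_option autoImplicit false
universe u
open CategoryTheory AlgebraicGeometry TopologicalSpace
open CartMod

namespace Groth.Agent.S19613

theorem surjective_of_nilpotent {T Tc : Scheme.{u}} (i : T ⟶ Tc) [IsClosedImmersion i]
    (hnil : ∃ n : ℕ, ∀ V : Tc.affineOpens, i.ker.ideal V ^ n = ⊥) : Surjective i := by
  refine ⟨fun x => ?_⟩
  obtain ⟨_, ⟨U, hU, rfl⟩, hxU, -⟩ := Tc.isBasis_affineOpens.exists_subset_of_mem_open (Set.mem_univ x) isOpen_univ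
  obtain ⟨n, hn⟩ := hnil
  have hx : x ∈ i.ker.support := by
    rw [Scheme.IdealSheafData.mem_support_iff_of_mem (U := ⟨U, hU⟩) hxU, Scheme.mem_zeroLocus_iff]
    intro f hf hxf
    have : f ^ n = 0 := by
      have := Ideal.pow_mem_pow hf n
      rw [hn] at this
      exact this
    rw [Scheme.mem_basicOpen _ _ _ hxU] at hxf
    exact (IsNilpotent.map (⟨n, this⟩ : IsNilpotent f) (Tc.presheaf.germ U x hxU).hom).not_isUnit hxf
  have h2 : x ∈ (i.ker.support : Set Tc) := hx
  rw [Scheme.Hom.support_ker, i.isClosedEmbedding.isClosed_range.closure_eq] at h2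
  exact h2


/-- Let u : T → U be an affine morphism of schemes and i : T → T♮ a nilpotent closed immersion (its
ideal has a vanishing power), so that |T♮| = |T|; let g : |T♮| → |U| be the continuous map
underlying u, and v : (T♮, O_{T♮}) → (U, g_*O_{T♮}) the induced morphism of ringed spaces (identity
on structure rings), with direct image v_* (sections over g⁻¹ of an open) and inverse image v^* its
left adjoint. Then the restriction of v_* to quasi-coherent O_{T♮}-modules is exact; since v_* is a
right adjoint, the content is that v_* of an epimorphism between quasi-coherent O_{T♮}-modules is an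
epimorphism of sheaves of g_*O_{T♮}-modules on U, which is what is stated. -/
theorem result
    {T Tc U : Scheme.{u}} (i : T ⟶ Tc) [IsClosedImmersion i]
    (hnil : ∃ n : ℕ, ∀ V : Tc.affineOpens, i.ker.ideal V ^ n = ⊥)
    (u : T ⟶ U) [IsAffineHom u] (g : Tc.carrier ⟶ U.carrier) (hg : i.base ≫ g = u.base)
    (M N : Tc.Modules) [M.IsQuasicoherent] [N.IsQuasicoherent] (φ : M ⟶ N) [Epi φ] :
    Epi ((SheafOfModules.pushforward (F := Opens.map g) (R := Tc.ringCatSheaf)
      (𝟙 (((Opens.map g).sheafPushforwardContinuous RingCat.{u} (Opens.grothendieckTopology U)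
        (Opens.grothendieckTopology Tc)).obj Tc.ringCatSheaf))).map φ) := by
  haveI := surjective_of_nilpotent i hnil
  refine Preadditive.epi_of_cancel_zero _ fun {H} t ht => SheafOfModules.hom_ext
    (PresheafOfModules.hom_ext fun W => ModuleCat.hom_ext (LinearMap.ext fun x => ?_))
  let ι := {V : U.affineOpens // V.1 ≤ W.unop}
  have hW : W.unop ≤ iSup fun V : ι => V.1.1 := fun p hp => by
    obtain ⟨V, hV, hpV, hVW⟩ := exists_isAffineOpen_mem_and_subset hp
    exact Opens.mem_iSup.mpr ⟨⟨⟨V, hV⟩, hVW⟩, hpV⟩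
  refine TopCat.Sheaf.eq_of_locally_eq' (⟨H.val.presheaf, H.isSheaf⟩ : TopCat.Sheaf AddCommGrpCat.{u} U.carrier)
    (fun V : ι => V.1.1) W.unop (fun V => homOfLE V.2) hW _ _ fun V => ?_
  have haff : IsAffineOpen ((Opens.map g).obj V.1.1) := by
    have h0 : IsAffineOpen (i ⁻¹ᵁ (Opens.map g).obj V.1.1) := by
      have he : i ⁻¹ᵁ (Opens.map g).obj V.1.1 = u ⁻¹ᵁ V.1.1 := by
        show (Opens.map i.base).obj ((Opens.map g).obj V.1.1) = (Opens.map u.base).obj V.1.1
        rw [← hg]
        rfl
      rw [he]
      exact V.1.2.preimage u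
    haveI : IsAffine (i ⁻¹ᵁ (Opens.map g).obj V.1.1).toScheme := h0
    haveI : Surjective (i ∣_ (Opens.map g).obj V.1.1) :=
      MorphismProperty.of_isPullback (isPullback_morphismRestrict i _).flip (inferInstanceAs (Surjective i))
    exact Groth.Agent.AffThick.isAffine_of_surjective (i ∣_ (Opens.map g).obj V.1.1)
  obtain ⟨y, hy⟩ := QCoh.app_surjective_of_epi φ haff (N.val.map ((Opens.map g).op.map (homOfLE V.2).op) x)
  let P := SheafOfModules.pushforward (F := Opens.map g) (R := Tc.ringCatSheaf)
      (𝟙 (((Opens.map g).sheafPushforwardContinuous RingCat.{u} (Opens.grothendieckTopology U)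
        (Opens.grothendieckTopology Tc)).obj Tc.ringCatSheaf))
  have h1 : (t.val.app (Opposite.op V.1.1)).hom (((P.map φ).val.app (Opposite.op V.1.1)).hom y) = 0 := by
    have := congrArg (fun s : P.obj M ⟶ H => (s.val.app (Opposite.op V.1.1)).hom y) ht
    exact this
  have h2 : (t.val.app (Opposite.op V.1.1)).hom ((P.obj N).val.map (homOfLE V.2).op x) = 0 :=
    (congrArg (t.val.app (Opposite.op V.1.1)).hom hy).symm.trans h1
  show H.val.map (homOfLE V.2).op ((t.val.app W).hom x) = H.val.map (homOfLE V.2).op 0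
  rw [map_zero]
  exact (PresheafOfModules.naturality_apply t.val (homOfLE V.2).op x).symm.trans h2

end Groth.Agent.S19613
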