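import Groth.Statements.S19616
import Mathlib.RingTheory.AdicCompletion.Completeness
import Mathlib.RingTheory.AdicCompletion.RingHom
import Mathlib.RingTheory.Localization.Away.Basic

set_option autoImplicit false
universe u
open CartMod

namespace Groth.Agent.S19616

section completion

variable {R : Type u} [CommRing R] (p : ℕ)

theorem isAdicComplete_compl :
    IsAdicComplete (Ideal.span {(p : AdicCompletion (Ideal.span {(p : R)}) R)})
      (AdicCompletion (Ideal.span {(p : R)}) R) := by
  have h := AdicCompletion.isAdicComplete (M := R) (Submodule.fg_span_singleton (p : R) : (Ideal.span {(p : R)}).FG)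
  rw [← IsAdicComplete.map_algebraMap_iff (S := AdicCompletion (Ideal.span {(p : R)}) R), Ideal.map_span,
    Set.image_singleton, map_natCast] at h
  exact h

theorem exists_mul_eq_of_evalₐ_eq_zero {n : ℕ} {x : AdicCompletion (Ideal.span {(p : R)}) R}
    (hx : AdicCompletion.evalₐ _ n x = 0) :
    ∃ y, x = (p : AdicCompletion (Ideal.span {(p : R)}) R) ^ n * y := by
  have h1 : AdicCompletion.eval (Ideal.span {(p : R)}) R n x = 0 := by
    rw [← AdicCompletion.factor_evalₐ_eq_eval (Ideal.span {(p : R)}) x (by simp), hx, map_zero]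
  have h2 : x ∈ (Ideal.span {(p : R)}) ^ n •
      (⊤ : Submodule R (AdicCompletion (Ideal.span {(p : R)}) R)) := by
    rw [AdicCompletion.pow_smul_top_eq_ker_eval (Submodule.fg_span_singleton (p : R))]
    exact LinearMap.mem_ker.2 h1
  rw [Ideal.span_singleton_pow, Submodule.ideal_span_singleton_smul] at h2
  obtain ⟨y, -, rfl⟩ := Submodule.mem_smul_pointwise_iff_exists _ _ _ |>.1 h2
  exact ⟨y, by rw [Algebra.smul_def, map_pow, map_natCast]⟩

theorem isSMulRegular_compl (h : IsSMulRegular R (p : R)) :
    IsSMulRegular (AdicCompletion (Ideal.span {(p : R)}) R) (p : AdicCompletion (Ideal.span {(p : R)}) R) := by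
  rw [isSMulRegular_iff_right_eq_zero_of_smul]
  intro x hx
  rw [smul_eq_mul] at hx
  refine AdicCompletion.ext_evalₐ fun n => ?_
  induction x using AdicCompletion.induction_on with
  | h f =>
    have h1 := congrArg (AdicCompletion.evalₐ (Ideal.span {(p : R)}) (n + 1)) hx
    rw [map_mul, map_natCast, map_zero, AdicCompletion.evalₐ_mk, ← map_natCast (Ideal.Quotient.mk _),
      ← map_mul, Ideal.Quotient.eq_zero_iff_mem, Ideal.span_singleton_pow, Ideal.mem_span_singleton'] at h1
    obtain ⟨r, hr⟩ := h1
    have h2 : f.val (n + 1) = r * (p : R) ^ n :=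
      h (show (p : R) * f.val (n + 1) = (p : R) * (r * (p : R) ^ n) by rw [← hr]; ring)
    rw [AdicCompletion.evalₐ_mk, map_zero, ← AdicCompletion.Ideal.mk_eq_mk _ (Nat.le_succ n) f, h2,
      Ideal.Quotient.eq_zero_iff_mem, Ideal.span_singleton_pow]
    exact Ideal.mem_span_singleton'.2 ⟨r, rfl⟩

theorem factor_evalₐ {I : Ideal R} {m n : ℕ} (h : m ≤ n) (x : AdicCompletion I R) :
    Ideal.Quotient.factor (Ideal.pow_le_pow_right h) (AdicCompletion.evalₐ I n x) =
      AdicCompletion.evalₐ I m x := by
  induction x using AdicCompletion.induction_on with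
  | h f =>
    rw [AdicCompletion.evalₐ_mk, AdicCompletion.evalₐ_mk, Ideal.Quotient.factor_mk]
    exact AdicCompletion.Ideal.mk_eq_mk _ h f

variable {A B : Type u} [CommRing A] [CommRing B] [Algebra A R] [Algebra A B]
  [IsAdicComplete (Ideal.span {(p : B)}) B]

theorem pow_map_le (φ : R →ₐ[A] B) (n : ℕ) :
    Ideal.span {(p : R)} ^ n ≤ (Ideal.span {(p : B)} ^ n).comap φ.toRingHom := by
  rw [← Ideal.map_le_iff_le_comap, Ideal.map_pow, Ideal.map_span, Set.image_singleton, map_natCast]

theorem exists_extend (φ : R →ₐ[A] B) :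
    Nonempty (AdicCompletion (Ideal.span {(p : R)}) R →ₐ[A] B) :=
  ⟨IsAdicComplete.liftAlgHom (Ideal.span {(p : B)})
    (fun n => (Ideal.quotientMapₐ (Ideal.span {(p : B)} ^ n) φ (pow_map_le p φ n)).comp
      ((AdicCompletion.evalₐ (Ideal.span {(p : R)}) n).restrictScalars A))
    fun {m n} hle => AlgHom.ext fun x => by
      show Ideal.Quotient.factor (Ideal.pow_le_pow_right hle) (Ideal.quotientMap _ φ.toRingHom (pow_map_le p φ n)
        (AdicCompletion.evalₐ _ n x)) = Ideal.quotientMap _ φ.toRingHom (pow_map_le p φ m)
          (AdicCompletion.evalₐ _ m x)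
      rw [← factor_evalₐ hle x]
      obtain ⟨r, hr⟩ := Ideal.Quotient.mk_surjective (AdicCompletion.evalₐ _ n x)
      rw [← hr, Ideal.quotientMap_mk, Ideal.Quotient.factor_mk, Ideal.Quotient.factor_mk,
        Ideal.quotientMap_mk]⟩

theorem ext_compl [Subsingleton (R →ₐ[A] B)] :
    Subsingleton (AdicCompletion (Ideal.span {(p : R)}) R →ₐ[A] B) := by
  refine ⟨fun f g => IsAdicComplete.algHom_ext (Ideal.span {(p : B)}) fun n => AlgHom.ext fun x => ?_⟩
  obtain ⟨r, hr⟩ := Ideal.Quotient.mk_surjective (AdicCompletion.evalₐ _ n x)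
  obtain ⟨y, hy⟩ := exists_mul_eq_of_evalₐ_eq_zero p (n := n)
    (x := x - algebraMap R _ r) (by rw [map_sub, AlgHom.commutes, ← hr]; exact sub_self _)
  have hx : x = algebraMap R _ r + (p : AdicCompletion (Ideal.span {(p : R)}) R) ^ n * y := by
    rw [← hy]; ring
  let j : R →ₐ[A] AdicCompletion (Ideal.span {(p : R)}) R :=
    { algebraMap R (AdicCompletion (Ideal.span {(p : R)}) R) with commutes' := fun _ => rfl }
  have hj : f (algebraMap R _ r) = g (algebraMap R _ r) :=
    DFunLike.congr_fun (Subsingleton.elim (f.comp j) (g.comp j)) r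
  show Ideal.Quotient.mk _ (f x) = Ideal.Quotient.mk _ (g x)
  rw [Ideal.Quotient.eq, hx, map_add, map_add, map_mul, map_mul, map_pow, map_pow, map_natCast,
    map_natCast, hj, add_sub_add_left_eq_sub, ← mul_sub, Ideal.span_singleton_pow]
  exact Ideal.mem_span_singleton'.2 ⟨_, mul_comm _ _⟩

end completion


/-- Let p be a prime, A a commutative ring which is complete and separated for the p-adic topology and
has no p-torsion, and a_1, …, a_n elements of A (so that (p, a_1, …, a_n) is an open ideal
containing p). Then there is a commutative A-algebra D, complete and separated for the p-adic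
topology and without p-torsion, in which each a_i is divisible by p, with the following universal
property: for every A-algebra B which is p-adically complete and separated, has no p-torsion, and in
which each a_i is divisible by p, there is exactly one A-algebra homomorphism D → B; moreover this
homomorphism is surjective whenever A → B is. (D is the coordinate ring of the dilatation of Spf A
with respect to p along the closed subscheme defined by (p, a_1, …, a_n). The published statement is
for flat p-adic formal schemes locally of finite type over the Witt vectors of a perfect field; this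
row is its affine, ring-level case without a finiteness hypothesis.) -/
theorem result (p : ℕ) [Fact p.Prime]
    (A : Type u) [CommRing A] [IsAdicComplete (Ideal.span {(p : A)}) A]
    (hA : IsSMulRegular A (p : A)) {n : ℕ} (a : Fin n → A) :
    ∃ (D : Type u) (_ : CommRing D) (_ : Algebra A D),
      IsAdicComplete (Ideal.span {(p : D)}) D ∧ IsSMulRegular D (p : D) ∧
      (∀ i, algebraMap A D (a i) ∈ Ideal.span {(p : D)}) ∧
      ∀ (B : Type u) [CommRing B] [Algebra A B] [IsAdicComplete (Ideal.span {(p : B)}) B],
        IsSMulRegular B (p : B) → (∀ i, algebraMap A B (a i) ∈ Ideal.span {(p : B)}) →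
          Nonempty (D →ₐ[A] B) ∧ Subsingleton (D →ₐ[A] B) ∧
            (Function.Surjective (algebraMap A B) → ∀ f : D →ₐ[A] B, Function.Surjective f) := by
  classical
  let K := Localization.Away (p : A)
  let w : K := IsLocalization.Away.invSelf (p : A)
  have hw : (p : K) * w = 1 := by
    rw [← map_natCast (algebraMap A K)]
    exact IsLocalization.Away.mul_invSelf (p : A)
  let R : Subalgebra A K := Algebra.adjoin A (Set.range fun i => algebraMap A K (a i) * w)
  let x : Fin n → R := fun i => ⟨algebraMap A K (a i) * w, Algebra.subset_adjoin ⟨i, rfl⟩⟩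
  have hx : ∀ i, algebraMap A R (a i) = (p : R) * x i := fun i => Subtype.ext (by
    show algebraMap A K (a i) = ((p : R) : K) * (algebraMap A K (a i) * w)
    rw [show ((p : R) : K) = (p : K) from map_natCast R.val p, mul_left_comm, hw, mul_one])
  have hR : IsSMulRegular R (p : R) := fun y z h => Subtype.ext (by
    refine (IsUnit.of_mul_eq_one w hw).mul_left_cancel ?_
    have h' : (((p : R) * y : R) : K) = (((p : R) * z : R) : K) := congrArg Subtype.val h
    rw [MulMemClass.coe_mul, MulMemClass.coe_mul, show ((p : R) : K) = (p : K) from map_natCast R.val p] at h'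
    exact h')
  refine ⟨AdicCompletion (Ideal.span {(p : R)}) R, inferInstance, inferInstance, isAdicComplete_compl p,
    isSMulRegular_compl p hR, fun i => Ideal.mem_span_singleton.2
      ⟨algebraMap R _ (x i), ?_⟩, ?_⟩
  · have := congrArg (algebraMap R (AdicCompletion (Ideal.span {(p : R)}) R)) (hx i)
    rw [map_mul, map_natCast] at this
    exact this
  intro B _ _ _ hB ha
  haveI : Subsingleton (R →ₐ[A] B) := ⟨fun f g => by
    refine AlgHom.ext fun y => ?_
    obtain ⟨y, hy⟩ := y
    induction hy using Algebra.adjoin_induction with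
    | mem z hz =>
      obtain ⟨i, rfl⟩ := hz
      refine hB ?_
      show (p : B) * f (x i) = (p : B) * g (x i)
      have h1 := congrArg f (hx i)
      have h2 := congrArg g (hx i)
      rw [AlgHom.commutes, map_mul, map_natCast] at h1 h2
      exact h1.symm.trans h2
    | algebraMap r => exact (f.commutes r).trans (g.commutes r).symm
    | add y z hy hz h1 h2 =>
      exact (map_add f ⟨y, hy⟩ ⟨z, hz⟩).trans
        ((congrArg₂ (· + ·) h1 h2).trans (map_add g ⟨y, hy⟩ ⟨z, hz⟩).symm)
    | mul y z hy hz h1 h2 =>
      exact (map_mul f ⟨y, hy⟩ ⟨z, hz⟩).trans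
        ((congrArg₂ (· * ·) h1 h2).trans (map_mul g ⟨y, hy⟩ ⟨z, hz⟩).symm)⟩
  refine ⟨?_, ext_compl p, fun hsurj f b => ?_⟩
  · let K' := Localization.Away (p : B)
    have hu : ∀ y : Submonoid.powers (p : A), IsUnit (Algebra.ofId A K' (y : A)) := by
      rintro ⟨_, m, rfl⟩
      show IsUnit (algebraMap A K' ((p : A) ^ m))
      rw [map_pow, map_natCast, ← map_natCast (algebraMap B K')]
      exact (IsLocalization.Away.algebraMap_isUnit (p : B)).pow m
    let ψ : K →ₐ[A] K' := IsLocalization.liftAlgHom hu
    let ι : B →ₐ[A] K' := IsScalarTower.toAlgHom A B K'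
    have hι : Function.Injective ι := by
      intro y z h
      obtain ⟨c, hc⟩ := (IsLocalization.eq_iff_exists (Submonoid.powers (p : B)) K').1 h
      obtain ⟨m, hm⟩ := c.2
      exact (IsSMulRegular.pow m hB) (by
        show (p : B) ^ m * y = (p : B) ^ m * z
        rw [show (p : B) ^ m = c.1 from hm]; exact hc)
    have hle : R ≤ ι.range.comap ψ := by
      refine Algebra.adjoin_le ?_
      rintro _ ⟨i, rfl⟩
      obtain ⟨b, hb⟩ := Ideal.mem_span_singleton.1 (ha i)
      refine ⟨b, ?_⟩
      show algebraMap B K' b = ψ (algebraMap A K (a i) * w)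
      have hψw : (p : K') * ψ w = 1 := by rw [← map_natCast ψ, ← map_mul, hw, map_one]
      rw [map_mul, AlgHom.commutes, IsScalarTower.algebraMap_apply A B K', hb, map_mul, map_natCast,
        mul_comm (p : K'), mul_assoc, hψw, mul_one]
    let e := AlgEquiv.ofInjective ι hι
    exact exists_extend p (e.symm.toAlgHom.comp ((ψ.comp R.val).codRestrict ι.range fun y => hle y.2))
  · obtain ⟨y, rfl⟩ := hsurj b
    exact ⟨algebraMap A _ y, f.commutes y⟩

end Groth.Agent.S19616
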