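import Groth.Statements.S19618
import Groth.Agent.IdealSh.Regular

set_option autoImplicit false
universe u
open CategoryTheory CategoryTheory.Limits AlgebraicGeometry Opposite TopologicalSpace
open BlowUp

namespace Groth.Agent.S19618

lemma nat_of_ne_top (d : WithBot ℕ∞) (h : d ≠ ⊥) (h' : d ≠ ⊤) : ∃ n : ℕ, d = n := by
  induction d with
  | bot => exact absurd rfl h
  | coe d =>
    induction d with
    | top => exact absurd rfl h'
    | coe n => exact ⟨n, rfl⟩

/-- Let X be a locally Noetherian scheme, Y an effective Cartier divisor on X (a quasi-coherent ideal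
sheaf which, near every point, is generated on some affine open by one nonzerodivisor; Y is its
support) and Z a closed integral subscheme (a closed immersion i from an integral scheme with
generic point ξ). If Y and Z intersect properly — every point ζ of Y ∩ Z which is maximal under
generization inside Y ∩ Z satisfies dim O_{X,ζ} = codim(Y,X) + codim(Z,X), where codim(Y,X) is the
infimum over y ∈ Y of dim O_{X,y} and codim(Z,X) = dim O_{X,i(ξ)} — then Z is not contained in Y. -/
theorem result {X Z : Scheme.{u}}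
    [IsLocallyNoetherian X] (𝓘 : X.IdealSheafData) (hY : BlowUp.IsEffCartierIdeal 𝓘)
    (i : Z ⟶ X) [IsClosedImmersion i] [IsIntegral Z]
    (hprop : ∀ ζ : ↥X, ζ ∈ (𝓘.support : Set ↥X) ∩ Set.range i.base →
        (∀ ζ' : ↥X, ζ' ∈ (𝓘.support : Set ↥X) ∩ Set.range i.base → ζ' ⤳ ζ → ζ' = ζ) →
        ringKrullDim ↑(X.presheaf.stalk ζ) =
          (⨅ y : (𝓘.support : Set ↥X), ringKrullDim ↑(X.presheaf.stalk y.1)) +
            ringKrullDim ↑(X.presheaf.stalk (i (genericPoint ↥Z)))) :
    ¬ Set.range i.base ⊆ (𝓘.support : Set ↥X) := by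
  intro hsub
  have hin : Set.range i.base ∩ (𝓘.support : Set ↥X) = Set.range i.base :=
    Set.inter_eq_left.mpr hsub
  have h1 := hprop (i (genericPoint ↥Z)) ⟨hsub ⟨_, rfl⟩, ⟨_, rfl⟩⟩ (by
    rintro _ ⟨-, w, rfl⟩ hspec
    exact (hspec.antisymm ((genericPoint_specializes w).map i.continuous)).eq)
  have hfin : ∀ x : ↥X, ringKrullDim ↑(X.presheaf.stalk x) ≠ ⊤ := fun x => ringKrullDim_ne_top
  obtain ⟨y, hy⟩ : ∃ y : (𝓘.support : Set ↥X), ringKrullDim ↑(X.presheaf.stalk y.1) =
      ⨅ y : (𝓘.support : Set ↥X), ringKrullDim ↑(X.presheaf.stalk y.1) := by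
    have : Nonempty ((𝓘.support : Set ↥X)) := ⟨⟨_, hsub ⟨genericPoint ↥Z, rfl⟩⟩⟩
    exact ciInf_mem _
  rw [← hy] at h1
  have h0 : ringKrullDim ↑(X.presheaf.stalk y.1) = 0 := by
    obtain ⟨n, hn⟩ : ∃ n : ℕ, ringKrullDim ↑(X.presheaf.stalk y.1) = n :=
      Groth.Agent.S19618.nat_of_ne_top _ ringKrullDim_ne_bot (hfin _)
    obtain ⟨m, hm⟩ : ∃ m : ℕ, ringKrullDim ↑(X.presheaf.stalk (i (genericPoint ↥Z))) = m :=
      Groth.Agent.S19618.nat_of_ne_top _ ringKrullDim_ne_bot (hfin _)
    rw [hn, hm, ← Nat.cast_add, Nat.cast_inj] at h1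
    rw [hn, show n = 0 by omega]
    rfl
  refine Groth.Agent.IdealSh.Regular.not_mem_support_of_maximal hY y.1 ?_ y.2
  intro w hw
  have h2 := AlgebraicGeometry.ringKrullDim_stalk_eq_coheight y.1
  rw [h0] at h2
  have h3 : IsMax y.1 := by
    rw [← Order.coheight_eq_zero]
    exact_mod_cast h2.symm
  have h4 : y.1 ≤ w := hw
  exact (hw.antisymm (h3 h4)).eq

end Groth.Agent.S19618
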