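import Groth.Statements.S19620
import Groth.Agent.CohDerLib.Kosz.Geom
import Groth.Agent.CohDev.Loc

set_option autoImplicit false
universe u
open CategoryTheory CategoryTheory.Limits AlgebraicGeometry
attribute [local instance] HasDerivedCategory.standard
open DCoh
attribute [-instance] CategoryTheory.ReflQuiver.toQuiver

namespace Groth.Agent.S19620

theorem subsingleton_stalk {Y : Scheme.{u}} {M : Y.Modules} {U : Y.Opens} (h : IsZero (M.restrict U.ι))
    {y : Y} (hy : y ∈ U) : Subsingleton (M.presheaf.stalk y) := by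
  refine subsingleton_of_forall_eq 0 fun t => ?_
  obtain ⟨W, hyW, s, rfl⟩ := M.presheaf.exists_germ_eq t
  let W' : U.toScheme.Opens := U.ι ⁻¹ᵁ W
  have h1 : ∀ z : Γ(M.restrict U.ι, W'), z = 0 := fun z =>
    congr($(congrArg (fun φ => Scheme.Modules.Hom.app φ W') ((IsZero.iff_id_eq_zero _).1 h)) z)
  have hy' : y ∈ U.ι ''ᵁ W' := ⟨⟨y, hy⟩, hyW, rfl⟩
  have hle : U.ι ''ᵁ W' ≤ W := by
    rintro _ ⟨z, hz, rfl⟩; exact hz
  rw [← M.presheaf.germ_res_apply (homOfLE hle) y hy' s]
  exact (congrArg _ (h1 (M.presheaf.map (homOfLE hle).op s))).trans (map_zero _)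

/-- Let f : X → Y be a proper morphism of schemes, with Rf_* the total right derived functor of f_* on
the unbounded derived categories of modules (assumed to exist), let Z ⊆ X be a closed subset and E
an object of D(O_X) whose cohomology sheaves are all supported in Z (every stalk at a point outside
Z is trivial). Then the cohomology sheaves of Rf_*E are supported in the closed subset f(Z) of Y.
(The published statement, made in a setting where all schemes are separated and of finite type over
a regular base, takes f proper and perfect and concludes that Rf_* carries perfect complexes acyclic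
outside Z to perfect complexes acyclic outside f(Z); the perfectness of Rf_*E is a separate result,
and the support inclusion, which is what the published proof establishes, holds for every proper f
and every E and is stated in that generality.) -/
theorem result {X Y : Scheme.{u}} (f : X ⟶ Y) [IsProper f]
    [DCoh.HasRpush f] (Z : Set ↥X) (hZ : IsClosed Z) (E : DCoh.D X)
    (hE : ∀ i : ℤ, CohB1.support (DCoh.HD E i) ⊆ Z) (i : ℤ) :
    CohB1.support (DCoh.HD ((DCoh.Rpush f).obj E) i) ⊆ f.base '' Z := by
  let V : Y.Opens := ⟨(f.base '' Z)ᶜ, (f.isClosedMap Z hZ).isOpen_compl⟩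
  intro y hy
  by_contra hyZ
  refine hy (subsingleton_stalk (U := V) ?_ hyZ)
  have := Groth.Agent.KFlat.RPush.hasRpush (f ∣_ V)
  have hz : IsZero ((DCoh.restrictD (f ⁻¹ᵁ V).ι).obj E) := by
    have hh : ∀ j, IsZero ((DerivedCategory.homologyFunctor _ j).obj ((DCoh.restrictD (f ⁻¹ᵁ V).ι).obj E)) := fun j => by
      refine (Groth.Agent.CohDev.isZero_restrict_of_support (f ⁻¹ᵁ V).ι (M := DCoh.HD E j) ?_).of_iso
        (Groth.Agent.CohDerLib.Kosz.homologyRestrictIso (f ⁻¹ᵁ V) E j)
      intro x hx
      rw [Scheme.Opens.range_ι]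
      exact fun hxV => hxV ⟨x, hE j hx, rfl⟩
    have : IsIso (0 : (DCoh.restrictD (f ⁻¹ᵁ V).ι).obj E ⟶ (DCoh.restrictD (f ⁻¹ᵁ V).ι).obj E) := by
      rw [DerivedCategory.isIso_iff]
      exact fun j => isIso_of_isInitial (hh j).isInitial (hh j).isInitial _
    rw [IsZero.iff_id_eq_zero]
    exact (cancel_epi (0 : (DCoh.restrictD (f ⁻¹ᵁ V).ι).obj E ⟶ _)).1 (by simp)
  have hz' : IsZero ((DCoh.restrictD V.ι).obj ((DCoh.Rpush f).obj E)) :=
    (Functor.map_isZero (DCoh.Rpush (f ∣_ V)) hz).of_iso ((Groth.Agent.KFlat.RPushBase.restrictRpushIso f V).app E)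
  exact ((DerivedCategory.homologyFunctor _ i).map_isZero hz').of_iso
    (Groth.Agent.CohDerLib.Kosz.homologyRestrictIso V ((DCoh.Rpush f).obj E) i).symm

end Groth.Agent.S19620
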