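import Groth.Statements.S19621
import Groth.Agent.IndCofLib.Div
import Mathlib.NumberTheory.Divisors
import Mathlib.Data.Nat.Factorization.Induction
import Mathlib.Algebra.BigOperators.Group.Finset.Basic

set_option autoImplicit false
universe v
open IndCof

namespace Groth.Agent.S19621

open CategoryTheory CategoryTheory.Limits in
/-- Let C be a small abelian category all of whose objects are Artinian and killed by some positive
integer, and A an ind-object of C of cofinite type (A[n] is isomorphic to an object of C for every n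
≥ 1). Then the following are equivalent: (i) the inverse system of copies of A indexed by the
positive integers ordered by divisibility, with transition map from the m-th to the n-th copy
multiplication by m/n, is Mittag-Leffler (for every n the images of these maps in the n-th copy are
eventually constant): A is divisibly ML; (ii) A has a divisible sub-object B' (multiplication by
every positive integer is an epimorphism of B') such that A/B' is isomorphic to an object of C;
(iii) multiplication by p on A is an epimorphism for all but finitely many primes p. (The published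
statement phrases (ii) as: A modulo its divisible part lies in C, and (iii) as: the p-primary part
of A is divisible for almost all p; the divisible part is the largest divisible sub-object, and
multiplication by p on A is an epimorphism exactly when it is one on the p-primary part, the other
primary parts being uniquely p-divisible.) -/
theorem result {C : Type v} [SmallCategory C] [Abelian C]
    (hart : ∀ X : C, IsArtinianObject X)
    (htor : ∀ X : C, ∃ n : ℕ, 0 < n ∧ n • 𝟙 X = 0)
    (A : Ind C) (hA : ∀ n : ℕ, 0 < n → (Ind.yoneda (C := C)).essImage (kernel (n • 𝟙 A))) :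
    ((∀ n : ℕ, 0 < n → ∃ m : ℕ, 0 < m ∧ n ∣ m ∧ ∀ m' : ℕ, 0 < m' → m ∣ m' →
        imageSubobject ((m' / n) • 𝟙 A) = imageSubobject ((m / n) • 𝟙 A)) ↔
      ∃ B' : Subobject A, (∀ k : ℕ, 0 < k → Epi (k • 𝟙 (B' : Ind C))) ∧
        (Ind.yoneda (C := C)).essImage (cokernel B'.arrow)) ∧
    ((∃ B' : Subobject A, (∀ k : ℕ, 0 < k → Epi (k • 𝟙 (B' : Ind C))) ∧
        (Ind.yoneda (C := C)).essImage (cokernel B'.arrow)) ↔
      {p : ℕ | p.Prime ∧ ¬ Epi (p • 𝟙 A)}.Finite) := by
  let T := fun n k (hn : 0 < n) => IndCofLib.Tor.ofEssImage (hA (n ^ k) (pow_pos hn k))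
  -- a quotient in `C` is killed by a positive integer
  have hkill : ∀ B' : Subobject A, (Ind.yoneda (C := C)).essImage (cokernel B'.arrow) →
      ∃ M : ℕ, 0 < M ∧ M • 𝟙 (cokernel B'.arrow) = 0 := fun B' hB => by
    obtain ⟨M, hM, h0⟩ := htor hB.witness
    refine ⟨M, hM, ?_⟩
    rw [← cancel_epi hB.getIso.hom, comp_zero, IndCofLib.comp_nsmul_id]
    rw [← IndCofLib.nsmul_id_comp, ← (Ind.yoneda (C := C)).map_id, ← Functor.map_nsmul, h0,
      Functor.map_zero, zero_comp]
  have h31 : {p : ℕ | p.Prime ∧ ¬ Epi (p • 𝟙 A)}.Finite →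
      ∃ B' : Subobject A, (∀ k : ℕ, 0 < k → Epi (k • 𝟙 (B' : Ind C))) ∧
        (Ind.yoneda (C := C)).essImage (cokernel B'.arrow) := fun hfin => by
    let n := ∏ p ∈ hfin.toFinset, p
    have hn : 0 < n := Finset.prod_pos fun p hp => (hfin.mem_toFinset.1 hp).1.pos
    obtain ⟨N, hN⟩ := IndCofLib.exists_stabAt htor (fun k => T n k hn) hart hn
    refine ⟨imageSubobject ((n ^ N) • 𝟙 A), fun k hk => ?_, ?_⟩
    · induction k using Nat.recOnMul with
      | zero => exact absurd hk (lt_irrefl 0)
      | one => rw [one_smul]; infer_instance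
      | prime p hp =>
        by_cases hb : Epi (p • 𝟙 A)
        · exact IndCofLib.epi_image_of_epi hb
        · exact hN.epi_image (Finset.dvd_prod_of_mem _ (hfin.mem_toFinset.2 ⟨hp, hb⟩))
      | mul a b iha ihb =>
        have := iha (Nat.pos_of_mul_pos_right hk)
        have := ihb (Nat.pos_of_mul_pos_left hk)
        have e : (a * b) • 𝟙 ((imageSubobject ((n ^ N) • 𝟙 A) : Subobject A) : Ind C) =
            (b • 𝟙 _) ≫ (a • 𝟙 _) := by
          rw [IndCofLib.comp_nsmul_id, ← mul_smul]
        rw [e]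
        exact epi_comp _ _
    · have h1 := IndCofLib.essImage_cokernel (fun k => T n k hn) hN N
      refine Functor.essImage.ofIso ?_ h1
      exact
        { hom := cokernel.desc _ (cokernel.π _) (IndCofLib.comp_cokernel_imageSubobject _)
          inv := cokernel.desc _ (cokernel.π _)
            (imageSubobject_arrow_comp_eq_zero (cokernel.condition _))
          hom_inv_id := by ext; simp
          inv_hom_id := by ext; simp }
  have h13 : (∀ n : ℕ, 0 < n → ∃ m : ℕ, 0 < m ∧ n ∣ m ∧ ∀ m' : ℕ, 0 < m' → m ∣ m' →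
      imageSubobject ((m' / n) • 𝟙 A) = imageSubobject ((m / n) • 𝟙 A)) →
      {p : ℕ | p.Prime ∧ ¬ Epi (p • 𝟙 A)}.Finite := fun h => by
    obtain ⟨m, hm, -, hst⟩ := h 1 one_pos
    simp only [Nat.div_one] at hst
    refine (Nat.divisors m).finite_toSet.subset fun p ⟨hp, hne⟩ => ?_
    rw [Finset.mem_coe, Nat.mem_divisors]
    refine ⟨by_contra fun hpm => hne (IndCofLib.epi_of _ fun X x => ?_), hm.ne'⟩
    obtain ⟨X', q, hq, l, hl⟩ := IndCofLib.exists_of_imageSubobject_le
      (hst (m * p) (Nat.mul_pos hm hp.pos) (dvd_mul_right m p)).ge x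
    rw [IndCofLib.nsmul_eq, IndCofLib.nsmul_eq, Preadditive.comp_nsmul] at hl
    have hb := Nat.gcd_eq_gcd_ab p m
    rw [Nat.Coprime.gcd_eq_one (hp.coprime_iff_not_dvd.2 hpm)] at hb
    refine ⟨X', q, hq, Nat.gcdA p m • (IndCofLib.Y.map q ≫ x) + (Nat.gcdB p m * m) • l, ?_⟩
    rw [IndCofLib.nsmul_eq, ← natCast_zsmul, smul_add, ← mul_smul, ← mul_smul]
    rw [← natCast_zsmul, ← natCast_zsmul] at hl
    rw [show ((p : ℤ) * (Nat.gcdB p m * m)) = Nat.gcdB p m * ((m * p : ℕ) : ℤ) by
      push_cast; ring, mul_smul (Nat.gcdB p m), hl, ← mul_smul, ← add_smul,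
      show (p : ℤ) * Nat.gcdA p m + Nat.gcdB p m * (m : ℤ) = 1 by
        push_cast at hb ⊢; linarith [hb], one_zsmul]
  have h21 : (∃ B' : Subobject A, (∀ k : ℕ, 0 < k → Epi (k • 𝟙 (B' : Ind C))) ∧
      (Ind.yoneda (C := C)).essImage (cokernel B'.arrow)) →
      ∀ n : ℕ, 0 < n → ∃ m : ℕ, 0 < m ∧ n ∣ m ∧ ∀ m' : ℕ, 0 < m' → m ∣ m' →
      imageSubobject ((m' / n) • 𝟙 A) = imageSubobject ((m / n) • 𝟙 A) :=
    fun ⟨B', hdiv, hB⟩ => (IndCofLib.mittagLeffler_iff A).2 ⟨B', hdiv, hkill B' hB⟩
  exact ⟨⟨fun h => h31 (h13 h), h21⟩, ⟨fun h => h13 (h21 h), h31⟩⟩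

end Groth.Agent.S19621
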