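import Groth.Statements.S19622
import Groth.Agent.IndCofLib.Div

set_option autoImplicit false
universe v
open IndCof

namespace Groth.Agent.S19622

open CategoryTheory CategoryTheory.Limits in
/-- Let C be a small abelian category all of whose objects are Artinian and killed by some positive
integer, and A an ind-object of C of cofinite type (A[n] is isomorphic to an object of C for every n
≥ 1). Then A has a largest divisible sub-object D — multiplication by every positive integer is an
epimorphism of D, and D contains every sub-object of A with this property — and both D and A/D are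
of cofinite type, so that 0 → D → A → A/D → 0 is an exact sequence of ind-objects of cofinite type.
(The published statement also describes A/D as the largest quotient of A all of whose primary parts
lie in C; that clause is not included here.) -/
theorem result {C : Type v} [SmallCategory C] [Abelian C]
    (hart : ∀ X : C, IsArtinianObject X)
    (htor : ∀ X : C, ∃ n : ℕ, 0 < n ∧ n • 𝟙 X = 0)
    (A : Ind C) (hA : ∀ n : ℕ, 0 < n → (Ind.yoneda (C := C)).essImage (kernel (n • 𝟙 A))) :
    ∃ D : Subobject A, (∀ k : ℕ, 0 < k → Epi (k • 𝟙 (D : Ind C))) ∧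
      (∀ D' : Subobject A, (∀ k : ℕ, 0 < k → Epi (k • 𝟙 (D' : Ind C))) → D' ≤ D) ∧
      (∀ n : ℕ, 0 < n → (Ind.yoneda (C := C)).essImage (kernel (n • 𝟙 (D : Ind C)))) ∧
      (∀ n : ℕ, 0 < n → (Ind.yoneda (C := C)).essImage (kernel (n • 𝟙 (cokernel D.arrow)))) := by
  let T := fun n k (hn : 0 < n) => IndCofLib.Tor.ofEssImage (hA (n ^ k) (pow_pos hn k))
  obtain ⟨D, hdiv, hlarge, hD⟩ := IndCofLib.exists_largest hart htor T
  refine ⟨D, hdiv, hlarge, hD, fun n hn => ?_⟩
  simpa only [pow_one] using IndCofLib.essImage_kernel_cokernel htor hart hn D.arrow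
    (fun k => IndCofLib.Tor.ofEssImage (hD (n ^ k) (pow_pos hn k))) (fun k => T n k hn) 1

end Groth.Agent.S19622
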