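import Groth.Statements.S19624
import Groth.Agent.LenLib.CokerDet
import Mathlib.RingTheory.OrderOfVanishing.Basic
-- import your own Groth.Agent.* helpers here

set_option autoImplicit false
universe u v
open IntTh

namespace Groth.Agent.S19624

open Groth.Agent.LenLib in
theorem ord_eq_addVal {B : Type u} [CommRing B] [IsDomain B] [IsDiscreteValuationRing B] {x : B}
    (hx : x ≠ 0) : Module.length B (B ⧸ Ideal.span {x}) = IsDiscreteValuationRing.addVal B x := by
  obtain ⟨ϖ, hϖ⟩ := IsDiscreteValuationRing.exists_irreducible B
  obtain ⟨k, v, rfl⟩ := IsDiscreteValuationRing.eq_unit_mul_pow_irreducible hx hϖ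
  rw [IsDiscreteValuationRing.addVal_def' v hϖ k]
  change Ring.ord B ((v : B) * ϖ ^ k) = _
  rw [Ring.ord_mul_of_isUnit_left v.isUnit,
    Ring.ord_pow (mem_nonZeroDivisors_iff_ne_zero.2 hϖ.ne_zero), Ring.ord_of_irreducible hϖ]
  simp

open Groth.Agent.LenLib in
theorem coker_matrix {B : Type u} [CommRing B] [IsDomain B] [IsDiscreteValuationRing B]
    {k : Type} [Fintype k] [DecidableEq k] (P : Matrix k k B) :
    Module.length B ((k → B) ⧸ LinearMap.range P.mulVecLin) =
      IsDiscreteValuationRing.addVal B P.det := by
  by_cases h : P.det = 0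
  · rw [h, AddValuation.map_zero]
    by_contra hne
    have := isMaximal_of_det_mem P hne ⊥ Ideal.isPrime_bot (h ▸ Submodule.zero_mem _)
    haveI := this
    exact lt_irrefl (⊥ : Ideal B)
      (Ideal.bot_lt_of_maximal ⊥ (IsDiscreteValuationRing.not_isField B))
  · rw [length_coker_eq_ord_det P (mem_nonZeroDivisors_iff_ne_zero.2 h), ord_eq_addVal h]

theorem block {B : Type u} [CommRing B] [IsDomain B] [IsDiscreteValuationRing B] (ω : B ≃+* B)
    {k : Type} [Fintype k] [DecidableEq k] {M N : Type v} [AddCommGroup M] [Module B M]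
    [AddCommGroup N] [Module B N] (bM : Module.Basis k B M) (bN : Module.Basis k B N)
    (χ : M →+ N) (hχ : ∀ (b : B) (x : M), χ (b • x) = ω b • χ x) :
    Module.length B (N ⧸ Submodule.span B (Set.range χ)) =
      IsDiscreteValuationRing.addVal B
        (Matrix.det (Matrix.of fun a c => bN.repr (χ (bM c)) a)) := by
  rw [← coker_matrix]
  refine (Submodule.Quotient.equiv _ _ bN.equivFun ?_).length_eq
  rw [Submodule.map_span, Matrix.range_mulVecLin]
  apply le_antisymm
  · rw [Submodule.span_le]
    rintro _ ⟨_, ⟨x, rfl⟩, rfl⟩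
    rw [← bM.sum_repr x, map_sum, map_sum]
    refine Submodule.sum_mem _ fun c _ => ?_
    rw [hχ, map_smul]
    exact Submodule.smul_mem _ _ (Submodule.subset_span ⟨c, rfl⟩)
  · rw [Submodule.span_le]
    rintro _ ⟨c, rfl⟩
    exact Submodule.subset_span ⟨χ (bM c), ⟨bM c, rfl⟩, rfl⟩

/-- Let B be a discrete valuation ring with its normalised additive valuation v (so v(0) = ∞) and ω a
ring automorphism of B. For each i in a finite index set let M_i and N_i be free B-modules with
chosen bases indexed by one and the same finite type, and χ_i : M_i → N_i an additive map which is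
ω-semilinear, χ_i(b·x) = ω(b)·χ_i(x); write A_i for the matrix of χ_i in the chosen bases. Then the
length over B of the cokernel of the direct sum χ = ⊕_i χ_i : ⊕_i M_i → ⊕_i N_i (the quotient of ⊕_i
N_i by the submodule generated by the image of χ) equals v(∏_i det A_i); in particular both sides
are infinite exactly when some det A_i is zero. -/
theorem result {B : Type u} [CommRing B] [IsDomain B]
    [IsDiscreteValuationRing B] (ω : B ≃+* B) {n : ℕ} (r : Fin n → ℕ)
    (M N : Fin n → Type v) [∀ i, AddCommGroup (M i)] [∀ i, Module B (M i)]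
    [∀ i, AddCommGroup (N i)] [∀ i, Module B (N i)]
    (bM : ∀ i, Module.Basis (Fin (r i)) B (M i)) (bN : ∀ i, Module.Basis (Fin (r i)) B (N i))
    (χ : ∀ i, M i →+ N i) (hχ : ∀ i (b : B) (x : M i), χ i (b • x) = ω b • χ i x) :
    Module.length B ((∀ i, N i) ⧸ Submodule.span B (Set.range (fun (x : ∀ i, M i) (i : Fin n) => χ i (x i)))) =
      IsDiscreteValuationRing.addVal B (∏ i, Matrix.det
        (Matrix.of fun (a c : Fin (r i)) => (bN i).repr (χ i (bM i c)) a)) := by
  classical
  have hspan : Submodule.span B (Set.range (fun (x : ∀ i, M i) (i : Fin n) => χ i (x i))) =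
      Submodule.pi Set.univ (fun i => Submodule.span B (Set.range (χ i))) := by
    apply le_antisymm
    · rw [Submodule.span_le]
      rintro _ ⟨x, rfl⟩ i -
      exact Submodule.subset_span ⟨x i, rfl⟩
    · intro y hy
      rw [← Finset.univ_sum_single y]
      refine Submodule.sum_mem _ fun i _ => ?_
      have : Submodule.span B (Set.range (χ i)) ≤
          (Submodule.span B (Set.range (fun (x : ∀ i, M i) (i : Fin n) => χ i (x i)))).comap
            (LinearMap.single B N i) := by
        rw [Submodule.span_le]
        rintro _ ⟨m, rfl⟩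
        refine Submodule.subset_span ⟨Pi.single i m, ?_⟩
        funext j
        by_cases h : j = i
        · subst h; simp
        · simp [h]
      exact this (hy i trivial)
  rw [(Submodule.quotEquivOfEq _ _ hspan).length_eq, (Submodule.quotientPi _).length_eq,
    Module.length_pi_of_fintype]
  rw [Finset.sum_congr rfl fun i _ => block ω (bM i) (bN i) (χ i) (hχ i)]
  have key : ∀ (t : Finset (Fin n)) (D : Fin n → B),
      ∑ i ∈ t, IsDiscreteValuationRing.addVal B (D i) =
        IsDiscreteValuationRing.addVal B (∏ i ∈ t, D i) := by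
    intro t D
    induction t using Finset.induction with
    | empty => simp
    | insert a s ha ih => rw [Finset.sum_insert ha, Finset.prod_insert ha,
        AddValuation.map_mul, ih]
  exact key Finset.univ _

end Groth.Agent.S19624
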