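import Groth.Statements.S19625
import Groth.Agent.DualAbs.CurveDeg
import Groth.Agent.DualAbs.Closed
-- import your own Groth.Agent.* helpers here

set_option autoImplicit false
universe u
open CategoryTheory CategoryTheory.Limits AlgebraicGeometry
open Surf

namespace Groth.Agent.S19625

/-- Let k be a field and S an integral surface (dimension two) which is smooth over k and projective (a
closed immersion into some P^n_k over k). Let i : C → S be the closed immersion of an integral curve
(dimension one) all of whose local rings are regular, with ideal sheaf I ⊆ O_S, and let N =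
Hom(i^*I, O_C) be the normal sheaf of C in S, the dual of the conormal sheaf i^*I (the sheaf Hom,
assumed to exist as the right adjoint of tensoring with i^*I). Then the self-intersection number
C·C, namely the intersection number of O_S(C) with itself computed as the alternating sum χ(O_S) −
2χ(I) + χ(I ⊗ I) with the inverse I = O_S(−C) of O_S(C) (packaged as FGA.intNum), equals the degree
of N on C, the degree of a module M on C being χ(M) − χ(O_C). -/
theorem result (k : Type u) [Field k] (S : Scheme.{u}) [S.Over (Spec (CommRingCat.of k))]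
    [IsIntegral S] (hdim : topologicalKrullDim S = 2) [Smooth (S ↘ (Spec (CommRingCat.of k)))]
    (hproj : ∃ (n : ℕ) (ι : S ⟶ CohB1.ProjSpace n k), IsClosedImmersion ι ∧ ι ≫ CohB1.ProjSpace.toSpec n k = (S ↘ (Spec (CommRingCat.of k))))
    (C : Scheme.{u}) (i : C ⟶ S) [IsClosedImmersion i] [IsIntegral C] (hC : topologicalKrullDim C = 1)
    (hCreg : ∀ c : C, IsRegularLocalRing (C.presheaf.stalk c))
    [DCoh.HasSheafHom (Omega.conormal i)] :
    letI : C.Over (Spec (CommRingCat.of k)) := ⟨i ≫ (S ↘ (Spec (CommRingCat.of k)))⟩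
    FGA.intNum k S 2 ![ClSub.idealMod i.ker, ClSub.idealMod i.ker] (Coh.structureModule S) =
      Curv2.deg k C ((DCoh.sheafHom (Omega.conormal i)).obj (Coh.structureModule C)) 1 := by
  obtain ⟨n, ι, hι', hι⟩ := hproj
  haveI := hι'
  haveI := Groth.Agent.SurfRR.isProper_of_closedImmersion k ι hι
  letI : C.Over (Spec (CommRingCat.of k)) := ⟨i ≫ (S ↘ (Spec (CommRingCat.of k)))⟩
  haveI : IsProper (C ↘ Spec (CommRingCat.of k)) :=
    inferInstanceAs (IsProper (i ≫ (S ↘ Spec (CommRingCat.of k))))
  have hd : topologicalKrullDim S = ((2 : ℕ) : WithBot ℕ∞) := by rw [hdim]; rfl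
  have hreg : ∀ x : S, IsRegularLocalRing (S.presheaf.stalk x) := fun x =>
    CurveDVR.isRegularLocalRing_stalk (S ↘ Spec (CommRingCat.of k)) x
  have hI := SurfRR.isInvertible_curve k (i := i) hd hreg (by rw [hC]; rfl)
  obtain ⟨J, hJ, ⟨e⟩⟩ := PicLaw.exists_inverse hI
  obtain ⟨p⟩ := PicLaw.pullback_tensor i hJ hI
  let u : CohB1.tensorMod ((Scheme.Modules.pullback i).obj J) (Omega.conormal i) ≅ Coh.structureModule C :=
    p.symm ≪≫ (Scheme.Modules.pullback i).mapIso (ProjTwist.tensComm J _ ≪≫ e) ≪≫ QCoh.pullbackUnitIso i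
  obtain ⟨h⟩ := DualAbs.nonempty_sheafHom_invertible (Omega.conormal i) ((Scheme.Modules.pullback i).obj J) u
    (Coh.structureModule C)
  rw [SurfRR.pr_eq_intNum k hd.le hI hI, Curv2.deg, EulerChar.euler_iso k (h ≪≫ ProjTwist.tensOne _)]
  have h1 := DualAbs.CurveDeg.pr_ideal k i rfl hI hJ
  rw [Curv2.deg, SurfRR.pr_comm, SurfRR.pr_inv k hd.le hI hJ hI e] at h1
  linarith

end Groth.Agent.S19625
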