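import Groth.Statements.S19628
import Groth.Agent.S15295
import Groth.Agent.DeRham.Basic
import Mathlib.RingTheory.Flat.Basic

set_option autoImplicit false
universe u
open DeRham

namespace Groth.Agent.S19628
open TensorProduct

set_option maxHeartbeats 1000000 in

open exteriorPower in
/-- In the affine case, at ring level, let k ⊆ K be an extension of fields of characteristic zero, A a
smooth k-algebra and A' = K ⊗_k A (a pushout square of commutative rings with the scalar-tower
conventions). Let d be the de Rham differential of A over k, d' that of A' over K, and ψ the map of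
de Rham complexes induced by A → A', assumed compatible with d and d'. Then for every p the K-span
of ψ(closed p-forms of A/k) is the module of closed p-forms of A'/K, and the K-span of ψ(exact
p-forms of A/k) is the module of exact p-forms of A'/K. Together with the degreewise base-change
bijection for exterior powers of differentials, this says that the natural map H^p_dR(A/k) ⊗_k K →
H^p_dR(A'/K) is an isomorphism. (The source states the isomorphism H^i_dR(X) ⊗_k K ≅ H^i_dR(X_K) for
a smooth variety X, induced by a quasi-isomorphism of complexes; this row is the case of an affine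
X, phrased through closed and exact forms.) -/
theorem result
    (k K : Type u) [Field k] [Field K] [CharZero k] [Algebra k K]
    (A A' : Type u) [CommRing A] [CommRing A'] [Algebra k A] [Algebra.Smooth k A]
    [Algebra A A'] [Algebra k A'] [IsScalarTower k A A'] [Algebra K A'] [IsScalarTower k K A']
    [Algebra.IsPushout k K A A']
    (d : ∀ p : ℕ, ↥(⋀[A]^p (Ω[A⁄k])) →ₗ[k] ↥(⋀[A]^(p + 1) (Ω[A⁄k])))
    (hd : DeRham.IsDiff (KaehlerDifferential.D k A) d)
    (d' : ∀ p : ℕ, ↥(⋀[A']^p (Ω[A'⁄K])) →ₗ[K] ↥(⋀[A']^(p + 1) (Ω[A'⁄K])))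
    (hd' : DeRham.IsDiff (KaehlerDifferential.D K A') d')
    (ψ : ∀ p : ℕ, ↥(⋀[A]^p (Ω[A⁄k])) →+ ↥(⋀[A']^p (Ω[A'⁄K])))
    (hψ : DeRham.IsCxMap (KaehlerDifferential.D k A) (KaehlerDifferential.D K A') (algebraMap A A') ψ)
    (hcomm : ∀ (p : ℕ) (x : ↥(⋀[A]^p (Ω[A⁄k]))), ψ (p + 1) (d p x) = d' p (ψ p x))
    (p : ℕ) :
    Submodule.span K (ψ p '' (DeRham.cocycles d p : Set ↥(⋀[A]^p (Ω[A⁄k])))) = DeRham.cocycles d' p ∧
      Submodule.span K (ψ p '' (DeRham.coboundaries d p : Set ↥(⋀[A]^p (Ω[A⁄k])))) =
        DeRham.coboundaries d' p := by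
  classical
  have hψk : ∀ (q : ℕ) (c : k) (x : ↥(⋀[A]^q (Ω[A⁄k]))), ψ q (c • x) = algebraMap k K c • ψ q x := by
    intro q c x
    refine DeRham.Basic.gen_induction (KaehlerDifferential.D k A)
      (KaehlerDifferential.span_range_derivation k A)
      (P := fun x => ψ q (c • x) = algebraMap k K c • ψ q x) ?_ ?_ ?_ x
    · simp
    · intro a b ha hb; simp [smul_add, ha, hb]
    · intro b₀ b
      rw [← algebraMap_smul A c (DeRham.gen _ q b₀ b), DeRham.Basic.smul_gen, hψ, hψ,
        ← algebraMap_smul A' (algebraMap k K c) (DeRham.gen _ q _ _), DeRham.Basic.smul_gen, map_mul,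
        ← IsScalarTower.algebraMap_apply k A A', ← IsScalarTower.algebraMap_apply k K A']
  haveI : ∀ q, IsScalarTower k K ↥(⋀[A']^q (Ω[A'⁄K])) := fun q => IsScalarTower.of_algebraMap_smul fun c x => by
    rw [← algebraMap_smul A' (algebraMap k K c) x, ← IsScalarTower.algebraMap_apply, algebraMap_smul]
  let ψl : ∀ q, ↥(⋀[A]^q (Ω[A⁄k])) →ₗ[k] ↥(⋀[A']^q (Ω[A'⁄K])) := fun q =>
    { (ψ q : ↥(⋀[A]^q (Ω[A⁄k])) →+ ↥(⋀[A']^q (Ω[A'⁄K]))) with
      map_smul' := fun c x => (hψk q c x).trans (algebraMap_smul K c _) }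
  let Φ : ∀ q, K ⊗[k] ↥(⋀[A]^q (Ω[A⁄k])) →ₗ[K] ↥(⋀[A']^q (Ω[A'⁄K])) := fun q => (ψl q).liftBaseChange K
  have hΦt : ∀ (q : ℕ) (c : K) (x), Φ q (c ⊗ₜ x) = c • ψ q x := fun q c x =>
    LinearMap.liftBaseChange_tmul _ _ _ _
  have hbij : ∀ q, Function.Bijective (Φ q) := fun q =>
    Groth.Agent.S15295.result k K A A' ψ hψ q (Φ q).toAddMonoidHom (hΦt q)
  have hnat : ∀ q z, d' q (Φ q z) = Φ (q + 1) (LinearMap.lTensor K (d q) z) := by
    intro q z
    induction z using TensorProduct.induction_on with
    | zero => simp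
    | tmul c x => rw [LinearMap.lTensor_tmul, hΦt, hΦt, map_smul, hcomm]
    | add a b ha hb => simp [ha, hb]
  constructor
  · refine le_antisymm (Submodule.span_le.2 ?_) ?_
    · rintro _ ⟨x, hx, rfl⟩
      show d' p (ψ p x) = 0
      rw [← hcomm, show d p x = 0 from hx, map_zero]
    · intro y hy
      obtain ⟨z, rfl⟩ := (hbij p).2 y
      have hz : LinearMap.lTensor K (d p) z = 0 := (hbij (p + 1)).1 (by
        rw [← hnat, map_zero]; exact hy)
      let bK := Module.Basis.ofVectorSpace k K
      have hnat' : ∀ (w : K ⊗[k] ↥(⋀[A]^p (Ω[A⁄k]))) (i : Module.Basis.ofVectorSpaceIndex k K),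
          TensorProduct.equivFinsuppOfBasisLeft bK (LinearMap.lTensor K (d p) w) i =
            d p (TensorProduct.equivFinsuppOfBasisLeft bK w i) := by
        intro w i
        induction w using TensorProduct.induction_on with
        | zero => simp
        | tmul c x => simp
        | add a b ha hb => simp [ha, hb]
      rw [← (TensorProduct.equivFinsuppOfBasisLeft bK).symm_apply_apply z,
        TensorProduct.equivFinsuppOfBasisLeft_symm_apply, Finsupp.sum, map_sum]
      refine sum_mem fun i _ => ?_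
      rw [hΦt]
      refine Submodule.smul_mem _ _ (Submodule.subset_span ⟨_, ?_, rfl⟩)
      show d p (TensorProduct.equivFinsuppOfBasisLeft bK z i) = 0
      rw [← hnat', hz, map_zero, Finsupp.zero_apply]
  · cases p with
    | zero =>
      show Submodule.span K (ψ 0 '' ((⊥ : Submodule k ↥(⋀[A]^0 (Ω[A⁄k]))) : Set ↥(⋀[A]^0 (Ω[A⁄k])))) = ⊥
      simp
    | succ q =>
      refine le_antisymm (Submodule.span_le.2 ?_) ?_
      · rintro _ ⟨x, ⟨y, rfl⟩, rfl⟩
        exact ⟨ψ q y, (hcomm q y).symm⟩
      · rintro _ ⟨y, rfl⟩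
        obtain ⟨z, rfl⟩ := (hbij q).2 y
        rw [hnat]
        induction z using TensorProduct.induction_on with
        | zero => simp
        | tmul c x =>
          rw [LinearMap.lTensor_tmul, hΦt]
          exact Submodule.smul_mem _ _ (Submodule.subset_span ⟨_, ⟨x, rfl⟩, rfl⟩)
        | add a b ha hb => rw [map_add, map_add]; exact add_mem ha hb

end Groth.Agent.S19628
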