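import Groth.Statements.S19629
import Mathlib
import Groth.Agent.DeRham.Basic

set_option autoImplicit false
universe u
open DeRham

namespace Groth.Agent.S19629

set_option maxHeartbeats 1000000

open exteriorPower in
/-- In the chart case reached in its proof, let k be a field of characteristic zero and A a smooth
k-algebra carrying functions t_1, …, t_d whose differentials form a basis of Ω_{A/k} (a global
system of étale coordinates on X = Spec A), and let D_1, …, D_n be the coordinate hyperplanes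
t_{e(1)} = 0, …, t_{e(n)} = 0 for an injection e, so that D = D_1 ∪ ⋯ ∪ D_n is a simple normal
crossings divisor. For I ⊆ {1, …, n} write A_I = A/(t_{e(i)} : i ∈ I) for the coordinate ring of D_I
= ⋂_{i ∈ I} D_i, and let ψ_{I,J} (I ⊆ J) be the maps of de Rham complexes induced by the surjections
A_I → A_J. Then whenever s + 1 + m = d, the Čech differential ∏_{|I| = s} Ω^m_{A_I/k} → ∏_{|J| =
s+1} Ω^m_{A_J/k}, (ω_I) ↦ (Σ_{j ∈ J} ± ψ_{J∖j,J}(ω_{J∖j}))_J with the usual alternating signs, is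
surjective; for s = 0 this is the surjectivity of Ω^{d-1}(X) → ⊕_i Ω^{d-1}(D_i). (The source states
the surjectivity for a smooth affine variety X of dimension d with a simple normal crossings divisor
and reduces to this chart case étale-locally; here A_∅ is A/0 rather than A.) -/
theorem result
    (k : Type u) [Field k] [CharZero k] (A : Type u) [CommRing A] [Algebra k A] [Algebra.Smooth k A]
    (d n : ℕ) (t : Fin d → A) (e : Fin n ↪ Fin d)
    (b : Module.Basis (Fin d) A (Ω[A⁄k])) (hb : ∀ i, b i = KaehlerDifferential.D k A (t i))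
    (ψ : ∀ (I J : Finset (Fin n)) (p : ℕ), ↥(⋀[(A ⧸ (⨆ i ∈ I, Ideal.span {t (e i)} : Ideal A))]^p (Ω[(A ⧸ (⨆ i ∈ I, Ideal.span {t (e i)} : Ideal A))⁄k])) →+ ↥(⋀[(A ⧸ (⨆ i ∈ J, Ideal.span {t (e i)} : Ideal A))]^p (Ω[(A ⧸ (⨆ i ∈ J, Ideal.span {t (e i)} : Ideal A))⁄k])))
    (hψ : ∀ (I J : Finset (Fin n)) (h : I ⊆ J),
      DeRham.IsCxMap (KaehlerDifferential.D k (A ⧸ (⨆ i ∈ I, Ideal.span {t (e i)} : Ideal A))) (KaehlerDifferential.D k (A ⧸ (⨆ i ∈ J, Ideal.span {t (e i)} : Ideal A)))
        (Ideal.Quotient.factor (biSup_mono h)) (ψ I J))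
    (s m : ℕ) (hs : s + 1 + m = d)
    (g : ∀ J : Finset (Fin n), ↥(⋀[(A ⧸ (⨆ i ∈ J, Ideal.span {t (e i)} : Ideal A))]^m (Ω[(A ⧸ (⨆ i ∈ J, Ideal.span {t (e i)} : Ideal A))⁄k]))) :
    ∃ ω : ∀ I : Finset (Fin n), ↥(⋀[(A ⧸ (⨆ i ∈ I, Ideal.span {t (e i)} : Ideal A))]^m (Ω[(A ⧸ (⨆ i ∈ I, Ideal.span {t (e i)} : Ideal A))⁄k])),
      ∀ J : Finset (Fin n), J.card = s + 1 →
        (∑ j ∈ J.attach,
          ((-1 : ℤ) ^ (J.filter (fun i => i < j.1)).card) •
            ψ (J.erase j.1) J m (ω (J.erase j.1))) = g J := by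
  classical
  let D := KaehlerDifferential.D k A
  let Φ : ∀ I : Finset (Fin n), ↥(⋀[A]^m (Ω[A⁄k])) →ₗ[A] ↥(⋀[(A ⧸ (⨆ i ∈ I, Ideal.span {t (e i)} : Ideal A))]^m (Ω[(A ⧸ (⨆ i ∈ I, Ideal.span {t (e i)} : Ideal A))⁄k])) :=
    fun I => Groth.Agent.DeRham.Basic.kaehlerMap k k A (A ⧸ (⨆ i ∈ I, Ideal.span {t (e i)} : Ideal A)) m
  have hΦgen : ∀ I (c : A) (v : Fin m → A), Φ I (DeRham.gen D m c v) =
      DeRham.gen (KaehlerDifferential.D k (A ⧸ (⨆ i ∈ I, Ideal.span {t (e i)} : Ideal A))) m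
        (Ideal.Quotient.mk _ c) (fun i => Ideal.Quotient.mk _ (v i)) := fun I c v =>
    Groth.Agent.DeRham.Basic.kaehlerMap_isCxMap k k A (A ⧸ (⨆ i ∈ I, Ideal.span {t (e i)} : Ideal A)) m c v
  have hΦψ : ∀ I J, I ⊆ J → ∀ η, ψ I J m (Φ I η) = Φ J η := fun I J h η => by
    refine Groth.Agent.DeRham.Basic.gen_induction D (KaehlerDifferential.span_range_derivation k A)
      (P := fun η => ψ I J m (Φ I η) = Φ J η) (by simp) (fun x y hx hy => by simp [hx, hy]) (fun c v => ?_) η
    rw [hΦgen, hΦgen, hψ I J h m]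
    simp only [Ideal.Quotient.factor_mk]
  have hΦsurj : ∀ J, Function.Surjective (Φ J) := fun J x => by
    refine Groth.Agent.DeRham.Basic.gen_induction _ (KaehlerDifferential.span_range_derivation k _)
      (P := fun x => ∃ a, Φ J a = x) ⟨0, map_zero _⟩ (fun x y hx hy => ?_) (fun c v => ?_) x
    · obtain ⟨a, rfl⟩ := hx; obtain ⟨a', rfl⟩ := hy; exact ⟨a + a', map_add _ _ _⟩
    · obtain ⟨c, rfl⟩ := Ideal.Quotient.mk_surjective c
      choose v' hv' using fun i => Ideal.Quotient.mk_surjective (v i)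
      exact ⟨DeRham.gen D m c v', by rw [hΦgen]; simp only [hv']⟩
  -- coordinate forms
  let W : (Fin m → Fin d) → ↥(⋀[A]^m (Ω[A⁄k])) := fun v => exteriorPower.ιMulti A m (fun i => b (v i))
  have hW0 : ∀ J v, (∃ a, ∃ j ∈ J, v a = e j) → Φ J (W v) = 0 := by
    rintro J v ⟨a, j, hj, ha⟩
    have e1 : W v = DeRham.gen D m 1 (fun i => t (v i)) := by
      rw [Groth.Agent.DeRham.Basic.gen_one]; simp only [W, hb, D]
    rw [e1, hΦgen, Groth.Agent.DeRham.Basic.gen_eq]
    rw [(exteriorPower.ιMulti _ m).map_coord_zero a, smul_zero]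
    have hz : Ideal.Quotient.mk (⨆ i ∈ J, Ideal.span {t (e i)} : Ideal A) (t (v a)) = 0 := by
      rw [Ideal.Quotient.eq_zero_iff_mem, ha]
      exact Submodule.mem_iSup_of_mem j (Submodule.mem_iSup_of_mem hj (Ideal.mem_span_singleton_self _))
    rw [hz, map_zero]
  have htop : Submodule.span A (Set.range W) = ⊤ := by
    rw [eq_top_iff, ← exteriorPower.ιMulti_span_of_span A m _ b.span_eq]
    refine Submodule.span_mono ?_
    rintro _ ⟨a, ha, rfl⟩
    choose v hv using fun i => ha ⟨i, rfl⟩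
    exact ⟨v, congrArg (exteriorPower.ιMulti A m) (funext hv)⟩
  have hlift : ∀ J : Finset (Fin n), ∃ η : ↥(⋀[A]^m (Ω[A⁄k])), J.card = s + 1 →
      Φ J η = g J ∧ ∀ J' : Finset (Fin n), J'.card = s + 1 → J' ≠ J → Φ J' η = 0 := by
    intro J
    by_cases hJ : J.card = s + 1
    swap
    · exact ⟨0, fun h => absurd h hJ⟩
    have hc : (Finset.univ \ J.map e : Finset (Fin d)).card = m := by
      rw [Finset.card_sdiff_of_subset (Finset.subset_univ _), Finset.card_univ, Fintype.card_fin, Finset.card_map]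
      omega
    let v₀ : Fin m → Fin d := fun i => (Finset.univ \ J.map e).orderEmbOfFin hc i
    have hkill : ∀ J' : Finset (Fin n), J'.card = s + 1 → J' ≠ J → Φ J' (W v₀) = 0 := fun J' hJ' hne => by
      obtain ⟨j, hj, hjJ⟩ : ∃ j ∈ J', j ∉ J := by
        by_contra! h
        exact hne (Finset.eq_of_subset_of_card_le h (by omega))
      have : e j ∈ (Finset.univ \ J.map e : Finset (Fin d)) := by simp [hjJ]
      rw [← Finset.mem_coe, ← Finset.range_orderEmbOfFin _ hc] at this
      obtain ⟨a, ha⟩ := this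
      exact hW0 J' v₀ ⟨a, j, hj, ha⟩
    suffices hgenl : ∀ (N : Type u) [AddCommGroup N] [Module A N] (F : ↥(⋀[A]^m (Ω[A⁄k])) →ₗ[A] N),
        (∀ v, (∃ a, ∃ j ∈ J, v a = e j) → F (W v) = 0) → ∀ η, ∃ c : A, F η = c • F (W v₀) by
      obtain ⟨η, hη⟩ := hΦsurj J (g J)
      obtain ⟨c, hc'⟩ := hgenl _ (Φ J) (hW0 J) η
      refine ⟨c • W v₀, fun _ => ⟨?_, fun J' h h' => ?_⟩⟩
      · rw [LinearMap.map_smul, ← hc', hη]
      · rw [LinearMap.map_smul, hkill J' h h', smul_zero]
    intro N _ _ F hF η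
    have hη : η ∈ Submodule.span A (Set.range W) := by rw [htop]; trivial
    induction hη using Submodule.span_induction with
    | zero => exact ⟨0, by simp⟩
    | add x y _ _ hx hy =>
      obtain ⟨c, hc⟩ := hx; obtain ⟨c', hc'⟩ := hy
      exact ⟨c + c', by rw [map_add, hc, hc', add_smul]⟩
    | smul a x _ hx => obtain ⟨c, hc⟩ := hx; exact ⟨a * c, by rw [map_smul, hc, smul_smul]⟩
    | mem x hx =>
      obtain ⟨v, rfl⟩ := hx
      by_cases hv : ∃ a, ∃ j ∈ J, v a = e j
      · exact ⟨0, by rw [hF v hv, zero_smul]⟩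
      by_cases hinj : Function.Injective v
      swap
      · refine ⟨0, ?_⟩
        obtain ⟨a, a', haa, hne⟩ := Function.not_injective_iff.1 hinj
        have : W v = 0 := (exteriorPower.ιMulti A m).map_eq_zero_of_eq _ (congrArg b haa) hne
        rw [this, map_zero, zero_smul]
      have hmemv : ∀ i, ∃ i', v₀ i' = v i := fun i => by
        have : v i ∈ (Finset.univ \ J.map e : Finset (Fin d)) := by
          simp only [Finset.mem_sdiff, Finset.mem_univ, Finset.mem_map, true_and]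
          rintro ⟨j, hj, hji⟩
          exact hv ⟨i, j, hj, hji.symm⟩
        rw [← Finset.mem_coe, ← Finset.range_orderEmbOfFin _ hc] at this
        exact this
      choose σf hσ using hmemv
      have hσinj : Function.Injective σf := fun x y h => hinj (by rw [← hσ x, ← hσ y, h])
      let σ : Equiv.Perm (Fin m) := Equiv.ofBijective σf (Finite.injective_iff_bijective.1 hσinj)
      have : W v = (Equiv.Perm.sign σ : ℤˣ) • W v₀ := by
        rw [← AlternatingMap.map_perm]
        exact congrArg (exteriorPower.ιMulti A m) (funext fun i => congrArg b (hσ i).symm)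
      rw [this, Units.smul_def, map_zsmul]
      exact ⟨((Equiv.Perm.sign σ : ℤˣ) : ℤ), (Int.cast_smul_eq_zsmul A _ _).symm⟩
  choose η hη using hlift
  refine ⟨fun I => Φ I (∑ j ∈ Finset.univ.filter (fun j => ∀ i ∈ I, j < i), η (insert j I)), fun J hJ => ?_⟩
  have hne : J.Nonempty := Finset.card_pos.1 (by omega)
  let j₀ : Fin n := J.min' hne
  rw [Finset.sum_eq_single ⟨j₀, J.min'_mem hne⟩]
  · have h0 : (J.filter fun i => i < j₀).card = 0 := by
      rw [Finset.card_eq_zero, Finset.filter_eq_empty_iff]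
      exact fun i hi => not_lt.2 (J.min'_le i hi)
    rw [h0, pow_zero, one_zsmul, hΦψ _ _ (Finset.erase_subset _ _), map_sum, Finset.sum_eq_single j₀]
    · rw [Finset.insert_erase (J.min'_mem hne)]
      exact (hη J hJ).1
    · intro j hj hjne
      have hj' := (Finset.mem_filter.1 hj).2
      have hnot : j ∉ J.erase j₀ := fun h => lt_irrefl j (hj' j h)
      refine (hη _ ?_).2 J hJ ?_
      · rw [Finset.card_insert_of_notMem hnot, Finset.card_erase_of_mem (J.min'_mem hne)]; omega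
      · intro e'
        have : j₀ ∈ insert j (J.erase j₀) := e' ▸ J.min'_mem hne
        rw [Finset.mem_insert] at this
        exact hjne (this.resolve_right (Finset.notMem_erase _ _)).symm
    · intro h
      exact absurd (Finset.mem_filter.2 ⟨Finset.mem_univ _, fun i hi =>
        lt_of_le_of_ne (J.min'_le i (Finset.mem_of_mem_erase hi)) (Finset.ne_of_mem_erase hi).symm⟩) h
  · intro j₁ _ hne₁
    rw [hΦψ _ _ (Finset.erase_subset _ _), map_sum, Finset.sum_eq_zero, smul_zero]
    intro j hj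
    have hj' := (Finset.mem_filter.1 hj).2
    have hj₁ : j₁.1 ≠ j₀ := fun h => hne₁ (Subtype.ext h)
    have hm0 : j₀ ∈ J.erase j₁.1 := Finset.mem_erase.2 ⟨hj₁.symm, J.min'_mem hne⟩
    have hlt : j < j₀ := hj' _ hm0
    have hnotJ : j ∉ J := fun h => absurd (J.min'_le j h) (not_le.2 hlt)
    refine (hη _ ?_).2 J hJ ?_
    · rw [Finset.card_insert_of_notMem (fun h => hnotJ (Finset.mem_of_mem_erase h)), Finset.card_erase_of_mem j₁.2]; omega
    · intro e'
      exact hnotJ (e' ▸ Finset.mem_insert_self j _)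
  · exact fun h => absurd (Finset.mem_attach _ _) h

end Groth.Agent.S19629
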