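import Groth.Statements.S19630
import Groth.Agent.DeRham.Basic
import Mathlib.RingTheory.Unramified.Field
import Mathlib.FieldTheory.Perfect

set_option autoImplicit false
universe u
open DeRham

namespace Groth.Agent.S19630

open exteriorPower in
/-- In the affine case, at ring level, let k ⊆ K be a finite extension of fields of characteristic zero
and B a smooth K-algebra, so that Y = Spec B is a smooth affine variety over K which may also be
regarded over k. Let ψ be the map of de Rham complexes from Ω•_{B/k} to Ω•_{B/K} induced by the
identity of B. Then ψ is bijective in every degree: the de Rham complex of Y over k and over K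
coincide, and hence the natural map H^i_dR(Y/k) → H^i_dR(Y/K) is an isomorphism. (The source states
the isomorphism on de Rham cohomology for any smooth variety Y over K, through the equality of the
two de Rham complexes; this row is that equality for affine Y.) -/
theorem result
    (k K : Type u) [Field k] [Field K] [CharZero k] [Algebra k K] [Module.Finite k K]
    (B : Type u) [CommRing B] [Algebra K B] [Algebra k B] [IsScalarTower k K B] [Algebra.Smooth K B]
    (ψ : ∀ p : ℕ, ↥(⋀[B]^p (Ω[B⁄k])) →+ ↥(⋀[B]^p (Ω[B⁄K])))
    (hψ : DeRham.IsCxMap (KaehlerDifferential.D k B) (KaehlerDifferential.D K B) (RingHom.id B) ψ)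
    (p : ℕ) :
    Function.Bijective (ψ p) := by
  haveI : Module.Finite k K := inferInstance
  have hmap : Function.Bijective (KaehlerDifferential.map k K B B) := by
    refine ⟨?_, KaehlerDifferential.map_surjective k K B⟩
    rw [← LinearMap.ker_eq_bot]
    have h := LinearMap.exact_iff.1 (KaehlerDifferential.exact_mapBaseChange_map k K B)
    rw [h, LinearMap.range_eq_bot]
    haveI : Algebra.IsSeparable k K := inferInstance
    haveI : Algebra.FormallyUnramified k K := Algebra.FormallyUnramified.of_isSeparable k K
    refine LinearMap.ext fun x => ?_
    induction x using TensorProduct.induction_on with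
    | zero => simp
    | tmul b w => rw [Subsingleton.elim w 0, TensorProduct.tmul_zero]; simp
    | add a b ha hb => simp [ha, hb]
  let e : Ω[B⁄k] ≃ₗ[B] Ω[B⁄K] := LinearEquiv.ofBijective _ hmap
  have h : ∀ x, ψ p x = exteriorPower.map p e.toLinearMap x := by
    refine fun x => DeRham.Basic.gen_induction (KaehlerDifferential.D k B)
      (KaehlerDifferential.span_range_derivation k B)
      (P := fun x => ψ p x = exteriorPower.map p e.toLinearMap x) ?_ ?_ ?_ x
    · simp
    · intro a b ha hb; simp [ha, hb]
    · intro b₀ b
      rw [hψ p b₀ b, DeRham.Basic.gen_eq, DeRham.Basic.gen_eq, map_smul, exteriorPower.map_apply_ιMulti]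
      congr 2
      funext i
      exact (KaehlerDifferential.map_D k K B B (b i)).symm
  have hinv : Function.Bijective (exteriorPower.map p e.toLinearMap) :=
    ⟨exteriorPower.map_injective e.symm.toLinearMap (by ext; simp),
      exteriorPower.map_surjective e.surjective⟩
  rw [show (⇑(ψ p)) = exteriorPower.map p e.toLinearMap from funext h]
  exact hinv

end Groth.Agent.S19630
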