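import Groth.Statements.S19631
import Groth.Agent.SSetLib.Cosk
import Mathlib.AlgebraicTopology.CechNerve

set_option autoImplicit false
universe u
open Hyper

namespace Groth.Agent.S19631

open CategoryTheory CategoryTheory.Limits Opposite Simplicial in
/-- The Čech nerve to the final object is coskeletal in every degree. -/
theorem uniqueLift_cechNerveTerminalFrom {E : Type*} [Category E] [HasFiniteProducts E] (A : E) (n : ℕ) :
    Groth.Agent.SSetLib.UniqueLift (cechNerveTerminalFrom A) n := by
  intro M T e he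
  have hπ : ∀ {k l : ℕ} (φ : ⦋k⦌ ⟶ ⦋l⦌) (j : Fin (k + 1)),
      (cechNerveTerminalFrom A).map φ.op ≫ Pi.π (fun _ : Fin (k + 1) => A) j =
        Pi.π (fun _ : Fin (l + 1) => A) (φ.toOrderHom j) := fun φ j => Pi.lift_π _ _
  have hc : ∀ k (hk : k ≤ n) (φ : ⦋k⦌ ⟶ ⦋M⦌) (j : Fin (k + 1)),
      e 0 (Nat.zero_le n) (SimplexCategory.const ⦋0⦌ ⦋M⦌ (φ.toOrderHom j)) ≫
          Pi.π (fun _ : Fin (0 + 1) => A) 0 =
        e k hk φ ≫ Pi.π (fun _ : Fin (k + 1) => A) j := by
    intro k hk φ j
    have h := he k 0 hk (Nat.zero_le n) (SimplexCategory.const ⦋0⦌ ⦋k⦌ j) φ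
    rw [SimplexCategory.const_comp] at h
    rw [h]
    refine (Category.assoc _ _ _).trans (congrArg (e k hk φ ≫ ·) ?_)
    exact hπ (SimplexCategory.const ⦋0⦌ ⦋k⦌ j) 0
  refine ⟨Pi.lift fun i => e 0 (Nat.zero_le n) (SimplexCategory.const ⦋0⦌ ⦋M⦌ i) ≫
    Pi.π (fun _ : Fin (0 + 1) => A) 0, fun k hk φ => ?_, fun g hg => ?_⟩
  · refine Pi.hom_ext _ _ fun j => ?_
    refine (Category.assoc _ _ _).trans ?_
    refine (congrArg (_ ≫ ·) (hπ φ j)).trans ?_
    exact (Pi.lift_π _ _).trans (hc k hk φ j)
  · refine Pi.hom_ext _ _ fun i => ?_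
    erw [Pi.lift_π]
    rw [← hg 0 (Nat.zero_le n) (SimplexCategory.const ⦋0⦌ ⦋M⦌ i)]
    exact ((Category.assoc _ _ _).trans (congrArg (g ≫ ·) (hπ (SimplexCategory.const ⦋0⦌ ⦋M⦌ i) 0))).symm

open CategoryTheory CategoryTheory.Limits AlgebraicGeometry in
/-- Let f : X → Y be a morphism of schemes and X_• = cosk_0^Y(X) its Čech nerve, the simplicial scheme
over Y with X_p = X ×_Y ⋯ ×_Y X (p + 1 factors), face maps the projections forgetting one factor and
degeneracies induced by diagonals. Then X_•, as a simplicial object of the category of schemes over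
Y, is n-coskeletal for every n, i.e. the adjunction morphisms X_• → cosk_n sk_n X_• (coskeleta
relative to Y) are isomorphisms. In the source this is phrased as: for a class S of covering maps of
varieties containing the identities, X_• → Y is an S-hypercover whenever X → Y lies in S, the
adjunction maps X_p → (cosk_{p-1} sk_{p-1} X_•)_p being isomorphisms for p ≥ 1 and X_0 → Y being f.
(Stated for arbitrary schemes; the source has varieties over a field.) -/
theorem result (X Y : Scheme.{u}) (f : X ⟶ Y) (n : ℕ) :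
    SimplicialObject.IsCoskeletal (cechNerveTerminalFrom (Over.mk f)) n := by
  exact Groth.Agent.SSetLib.isCoskeletal_of_uniqueLift
    (uniqueLift_cechNerveTerminalFrom (Over.mk f) n)

end Groth.Agent.S19631
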