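import Groth.Statements.S19632
import Groth.Agent.DeRham.Laurent

set_option autoImplicit false
universe u
open DeRham

namespace Groth.Agent.S19632

/-- Let k be a field of characteristic zero and G_m = Spec k[t, t⁻¹] the multiplicative group. The
kernel of the differential d : k[t, t⁻¹] → Ω¹ of the de Rham complex of G_m consists of the
constants: for a Laurent polynomial f, df = 0 if and only if f lies in the image of k. Equivalently
H^0_dR(G_m/k) = k. (Characteristic zero is used: in characteristic p the element t^p is closed.) -/
theorem result (k : Type u) [Field k] [CharZero k]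
    (f : LaurentPolynomial k) :
    KaehlerDifferential.D k (LaurentPolynomial k) f = 0 ↔ f ∈ Set.range (algebraMap k (LaurentPolynomial k)) := by
  constructor
  · intro h
    refine ⟨f.coeff 0, ?_⟩
    have he : DeRham.Laurent.euler k f = 0 := by
      rw [← Derivation.liftKaehlerDifferential_comp_D (DeRham.Laurent.euler k) f, h, map_zero]
    apply AddMonoidAlgebra.coeff_injective
    ext m
    have hm := congrArg (fun g : LaurentPolynomial k => g.coeff m) he
    simp only [DeRham.Laurent.euler_apply, DeRham.Laurent.coeff_eulerₗ] at hm
    rw [← LaurentPolynomial.C_eq_algebraMap, ← LaurentPolynomial.single_eq_C,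
      AddMonoidAlgebra.coeff_single, Finsupp.single_apply]
    split_ifs with h0
    · rw [← h0]
    · exact ((mul_eq_zero.1 (by simpa using hm)).resolve_left (Int.cast_ne_zero.2 (Ne.symm h0))).symm
  · rintro ⟨c, rfl⟩
    exact Derivation.map_algebraMap _ _

end Groth.Agent.S19632
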