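import Groth.Statements.S19633
import Groth.Agent.DeRham.Basic
import Groth.Agent.DeRham.Laurent

set_option autoImplicit false
universe u
open DeRham

namespace Groth.Agent.S19633

open exteriorPower in
/-- Let k be a field of characteristic zero, G_m = Spec k[t, t⁻¹], and d the de Rham differential of
k[t, t⁻¹] over k. Then: every 1-form is closed; the exact 1-forms and the k-line spanned by t⁻¹ dt
are complementary subspaces of the 1-forms, and t⁻¹ dt is not exact — so H^1_dR(G_m/k) is
one-dimensional, generated by the class of dt/t (the isomorphism with k being the residue); and for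
every i ≥ 2 the closed i-forms are exact, so H^i_dR(G_m/k) = 0 for i > 1. (Characteristic zero is
used in the computation of the exact forms.) -/
theorem result (k : Type u) [Field k] [CharZero k]
    (d : ∀ p : ℕ, ↥(⋀[LaurentPolynomial k]^p (Ω[LaurentPolynomial k⁄k])) →ₗ[k] ↥(⋀[LaurentPolynomial k]^(p + 1) (Ω[LaurentPolynomial k⁄k])))
    (hd : DeRham.IsDiff (KaehlerDifferential.D k (LaurentPolynomial k)) d) :
    DeRham.cocycles d 1 = ⊤ ∧
    IsCompl (DeRham.coboundaries d 1)
      (Submodule.span k {DeRham.gen (KaehlerDifferential.D k (LaurentPolynomial k)) 1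
        (LaurentPolynomial.T (-1)) (fun _ => LaurentPolynomial.T 1)}) ∧
    DeRham.gen (KaehlerDifferential.D k (LaurentPolynomial k)) 1
        (LaurentPolynomial.T (-1)) (fun _ => LaurentPolynomial.T 1) ∉ DeRham.coboundaries d 1 ∧
    ∀ i : ℕ, DeRham.cocycles d (i + 2) ≤ DeRham.coboundaries d (i + 2) := by
  classical
  let A := LaurentPolynomial k
  let L := (DeRham.Laurent.euler k).liftKaehlerDifferential
  let D := KaehlerDifferential.D k A
  let ω := DeRham.Laurent.ω k
  have hexp : ∀ x : Ω[A⁄k], x = L x • ω := DeRham.Laurent.eq_smul_ω k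
  have htop : ∀ (i : ℕ) (y : ↥(⋀[A]^(i + 2) (Ω[A⁄k]))), y = 0 := by
    intro i y
    have hspan : Submodule.span A ({ω} : Set (Ω[A⁄k])) = ⊤ := eq_top_iff.2 fun x _ =>
      Submodule.mem_span_singleton.2 ⟨L x, (hexp x).symm⟩
    have hy : y ∈ Submodule.span A (exteriorPower.ιMulti A (i + 2) '' {a | Set.range a ⊆ ({ω} : Set (Ω[A⁄k]))}) := by
      rw [exteriorPower.ιMulti_span_of_span A (i + 2) _ hspan]; trivial
    induction hy using Submodule.span_induction with
    | mem z hz =>
      obtain ⟨a, ha, rfl⟩ := hz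
      refine (exteriorPower.ιMulti A (i + 2)).map_eq_zero_of_eq a (i := 0) (j := 1) ?_ (by simp)
      rw [show a 0 = ω from ha ⟨0, rfl⟩, show a 1 = ω from ha ⟨1, rfl⟩]
    | zero => rfl
    | add a b _ _ ha hb => rw [ha, hb, add_zero]
    | smul c a _ ha => rw [ha, smul_zero]
  let e₁ := exteriorPower.oneEquiv A (Ω[A⁄k])
  have he : ∀ (g : A) (b : Fin 1 → A), e₁ (DeRham.gen D 1 g b) = g • D (b 0) := fun g b => by
    rw [DeRham.Basic.gen_eq, map_smul, exteriorPower.oneEquiv_ιMulti]
  let g₀ := DeRham.gen D 1 (LaurentPolynomial.T (-1) : A) (fun _ => (LaurentPolynomial.T 1 : A))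
  have hg₀ : e₁ g₀ = ω := he _ _
  let φ : ↥(⋀[A]^1 (Ω[A⁄k])) → A := fun y => L (e₁ y)
  have hφ : ∀ y y', φ y = φ y' → y = y' := fun y y' h => e₁.injective (by
    rw [hexp (e₁ y), hexp (e₁ y')]; exact congrArg (· • ω) h)
  have hφd : ∀ x : ↥(⋀[A]^0 (Ω[A⁄k])), ∃ f : A, φ (d 0 x) = DeRham.Laurent.eulerₗ k f := by
    intro x
    refine DeRham.Basic.gen_induction D (KaehlerDifferential.span_range_derivation k A)
      (P := fun x => ∃ f : A, φ (d 0 x) = DeRham.Laurent.eulerₗ k f) ⟨0, by simp [φ]⟩ ?_ ?_ x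
    · rintro a b ⟨f, hf⟩ ⟨g, hg⟩
      exact ⟨f + g, by simp only [φ, map_add] at hf hg ⊢; rw [hf, hg]⟩
    · intro b₀ b
      refine ⟨b₀, ?_⟩
      rw [DeRham.Basic.d_gen hd.1]
      show L (e₁ (DeRham.gen D 1 1 (Fin.cons b₀ b))) = _
      rw [he, one_smul]
      exact Derivation.liftKaehlerDifferential_comp_D (DeRham.Laurent.euler k) b₀
  have hd0 : ∀ f : A, φ (d 0 (DeRham.gen D 0 f Fin.elim0)) = DeRham.Laurent.eulerₗ k f := fun f => by
    rw [DeRham.Basic.d_gen hd.1]
    show L (e₁ (DeRham.gen D 1 1 (Fin.cons f Fin.elim0))) = _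
    rw [he, one_smul]
    exact Derivation.liftKaehlerDifferential_comp_D (DeRham.Laurent.euler k) f
  have hφg : ∀ c : k, φ (c • g₀) = algebraMap k A c := fun c => by
    show L (e₁ (c • g₀)) = _
    rw [← algebraMap_smul A c g₀, map_smul, map_smul, hg₀,
      show L ω = 1 from DeRham.Laurent.lift_ω k, smul_eq_mul, mul_one]
  have hnot : g₀ ∉ DeRham.coboundaries d 1 := by
    rintro ⟨x, hx⟩
    obtain ⟨f, hf⟩ := hφd x
    rw [hx] at hf
    have h0 : algebraMap k A 1 = DeRham.Laurent.eulerₗ k f := by rw [← hφg 1, one_smul, hf]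
    have h1 := congrArg (fun g : A => g.coeff 0) h0
    simp [DeRham.Laurent.coeff_eulerₗ, ← LaurentPolynomial.C_eq_algebraMap, ← LaurentPolynomial.single_eq_C] at h1
  refine ⟨eq_top_iff.2 fun x _ => htop 0 _, ⟨?_, ?_⟩, hnot, fun i x _ => ?_⟩
  · rw [Submodule.disjoint_def]
    intro x hx hx'
    obtain ⟨c, rfl⟩ := Submodule.mem_span_singleton.1 hx'
    by_contra hne
    have hc : c ≠ 0 := fun h => hne (by rw [h, zero_smul])
    exact hnot (by simpa [hc, g₀, D, A] using Submodule.smul_mem _ c⁻¹ hx)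
  · rw [codisjoint_iff, eq_top_iff]
    intro y _
    let c : k := (φ y).coeff 0
    let iv : (ℤ →₀ k) →ₗ[k] (ℤ →₀ k) :=
      Finsupp.lsum k (fun n : ℤ => (n : k)⁻¹ • (Finsupp.lsingle (R := k) n : k →ₗ[k] ℤ →₀ k))
    obtain ⟨f, hf⟩ : ∃ f : A, DeRham.Laurent.eulerₗ k f = φ y - algebraMap k A c := by
      refine ⟨(AddMonoidAlgebra.coeffLinearEquiv k).symm
        (iv (φ y).coeff), ?_⟩
      apply AddMonoidAlgebra.coeff_injective
      ext m
      have hsum : ∀ v : ℤ →₀ k, iv v m =
          (m : k)⁻¹ * v m := by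
        intro v
        induction v using Finsupp.induction_linear with
        | zero => simp
        | add a b ha hb => simp [ha, hb, mul_add]
        | single n a =>
          rw [show iv (Finsupp.single n a) = (n : k)⁻¹ • Finsupp.single n a from Finsupp.lsum_single _ _ _ _]
          by_cases h : n = m
          · subst h; simp
          · simp [h]
      rw [DeRham.Laurent.coeff_eulerₗ, ← LaurentPolynomial.C_eq_algebraMap, ← LaurentPolynomial.single_eq_C,
        AddMonoidAlgebra.coeff_sub, Finsupp.sub_apply, AddMonoidAlgebra.coeff_single, Finsupp.single_apply]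
      show (m : k) * iv (φ y).coeff m = _
      rw [hsum]
      split_ifs with h
      · subst h; simp [c]
      · rw [sub_zero, ← mul_assoc, mul_inv_cancel₀ (Int.cast_ne_zero.2 (Ne.symm h)), one_mul]
    refine Submodule.mem_sup.2 ⟨d 0 (DeRham.gen D 0 f Fin.elim0), ⟨_, rfl⟩, c • g₀,
      Submodule.smul_mem _ c (Submodule.subset_span rfl), hφ _ _ ?_⟩
    have hadd : ∀ a b, φ (a + b) = φ a + φ b := fun a b => by simp [φ]
    rw [hadd, hd0, hφg, hf, sub_add_cancel]
  · rw [htop i x]; exact Submodule.zero_mem _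

end Groth.Agent.S19633
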