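import Groth.Statements.S19634
import Mathlib.Algebra.Polynomial.Derivation
import Mathlib.Algebra.MvPolynomial.Division
import Mathlib.RingTheory.MvPolynomial.Ideal

set_option autoImplicit false
universe u
open DeRham

namespace Groth.Agent.S19634

/-- Let k be a field of characteristic zero and A = k[X, Y]/(XY), the coordinate ring of two affine
lines crossing in a point. In the naive de Rham complex A → Ω¹_{A/k} the kernel of d consists of the
constants: dP = 0 if and only if P is in the image of k. -/
theorem result (k : Type u) [Field k] [CharZero k]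
    (P : MvPolynomial (Fin 2) k ⧸ Ideal.span {(MvPolynomial.X 0 * MvPolynomial.X 1 : MvPolynomial (Fin 2) k)}) :
    KaehlerDifferential.D k (MvPolynomial (Fin 2) k ⧸ Ideal.span {(MvPolynomial.X 0 * MvPolynomial.X 1 : MvPolynomial (Fin 2) k)}) P = 0 ↔
      P ∈ Set.range (algebraMap k (MvPolynomial (Fin 2) k ⧸ Ideal.span {(MvPolynomial.X 0 * MvPolynomial.X 1 : MvPolynomial (Fin 2) k)})) := by
  constructor
  · intro h
    obtain ⟨P, rfl⟩ := Ideal.Quotient.mk_surjective P
    refine ⟨MvPolynomial.coeff 0 P, Eq.symm ?_⟩
    rw [← Ideal.Quotient.mk_algebraMap, Ideal.Quotient.eq]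
    have key : ∀ i : Fin 2, ∀ e : Fin 2 →₀ ℕ, e (1 - i) = 0 → e i ≠ 0 → MvPolynomial.coeff e P = 0 := by
      intro i e he hei
      let g : MvPolynomial (Fin 2) k →ₐ[k] Polynomial k :=
        MvPolynomial.aeval fun j => if j = i then Polynomial.X else 0
      have hg : g (MvPolynomial.X 0 * MvPolynomial.X 1) = 0 := by
        fin_cases i <;> simp [g]
      let gA := Ideal.Quotient.liftₐ _ g fun a ha => by
        obtain ⟨c, rfl⟩ := Ideal.mem_span_singleton'.1 ha
        rw [map_mul, hg, mul_zero]
      have hder : Polynomial.derivative (g P) = 0 := by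
        let _ : Algebra (MvPolynomial (Fin 2) k ⧸ Ideal.span {(MvPolynomial.X 0 * MvPolynomial.X 1 : MvPolynomial (Fin 2) k)}) (Polynomial k) := gA.toRingHom.toAlgebra
        have _ : IsScalarTower k (MvPolynomial (Fin 2) k ⧸ Ideal.span {(MvPolynomial.X 0 * MvPolynomial.X 1 : MvPolynomial (Fin 2) k)}) (Polynomial k) :=
          IsScalarTower.of_algebraMap_eq fun c => (gA.commutes c).symm
        have h2 := congrArg
          (((Polynomial.derivative' : Derivation k (Polynomial k) (Polynomial k)).compAlgebraMap
            (MvPolynomial (Fin 2) k ⧸ Ideal.span {(MvPolynomial.X 0 * MvPolynomial.X 1 : MvPolynomial (Fin 2) k)})).liftKaehlerDifferential) h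
        rw [Derivation.liftKaehlerDifferential_comp_D, map_zero] at h2
        exact h2
      have hcoef : (g P).coeff (e i) = MvPolynomial.coeff e P := by
        classical
        conv_lhs => rw [P.as_sum]
        rw [map_sum, Polynomial.finsetSum_coeff, Finset.sum_eq_single e]
        · fin_cases i <;> simp_all [g, MvPolynomial.aeval_monomial, Finsupp.prod_fintype, Fin.prod_univ_two]
        · intro b _ hb
          fin_cases i <;> simp_all [g, MvPolynomial.aeval_monomial, Finsupp.prod_fintype, Fin.prod_univ_two,
            zero_pow_eq] <;>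
          · split_ifs with hz
            · rw [Polynomial.coeff_C_mul_X_pow, if_neg]
              intro hz'
              exact hb (by ext j; fin_cases j <;> simp_all)
            · simp
        · intro he'
          simp [MvPolynomial.notMem_support_iff.1 he']
      rw [← hcoef, Polynomial.eq_C_of_derivative_eq_zero hder, Polynomial.coeff_C, if_neg hei]
    have hmon : (MvPolynomial.X 0 * MvPolynomial.X 1 : MvPolynomial (Fin 2) k) =
        MvPolynomial.monomial (Finsupp.single 0 1 + Finsupp.single 1 1) 1 := by
      simp [MvPolynomial.X, MvPolynomial.monomial_mul]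
    rw [hmon, ← Set.image_singleton (f := fun s => MvPolynomial.monomial s (1 : k)),
      MvPolynomial.mem_ideal_span_monomial_image]
    intro e he
    refine ⟨_, rfl, ?_⟩
    have he' := MvPolynomial.mem_support_iff.1 he
    have hne : e ≠ 0 := fun h0 => he' (by simp [h0, MvPolynomial.algebraMap_eq])
    have hP : MvPolynomial.coeff e P ≠ 0 := fun h0 => he' (by
      simp [MvPolynomial.algebraMap_eq, MvPolynomial.coeff_C, h0, Ne.symm hne])
    have h0 : e 0 ≠ 0 := fun h0 => hP (key 1 e (by simpa using h0) fun h1 => hne (by
      ext j; fin_cases j <;> assumption))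
    have h1 : e 1 ≠ 0 := fun h1 => hP (key 0 e (by simpa using h1) h0)
    intro j
    fin_cases j <;> simp <;> omega
  · rintro ⟨c, rfl⟩
    exact Derivation.map_algebraMap _ _

end Groth.Agent.S19634
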