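import Groth.Statements.S19635
import Mathlib.Algebra.MvPolynomial.PDeriv
import Mathlib.LinearAlgebra.Quotient.Basic
import Mathlib.RingTheory.Ideal.Quotient.Operations

set_option autoImplicit false
universe u
open DeRham

namespace Groth.Agent.S19635

/-- Let k be a field of characteristic zero and A = k[X, Y]/(XY), the coordinate ring of two affine
lines crossing in a point. The differential d : A → Ω¹_{A/k} of the naive de Rham complex is not
surjective, so the naive H^1 of this singular curve does not vanish although one expects trivial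
cohomology; this is the example motivating the h-topology definition. -/
theorem result (k : Type u) [Field k] [CharZero k] :
    ¬ Function.Surjective (KaehlerDifferential.D k (MvPolynomial (Fin 2) k ⧸ Ideal.span {(MvPolynomial.X 0 * MvPolynomial.X 1 : MvPolynomial (Fin 2) k)})) := by
  classical
  intro hsurj
  let J : Ideal (MvPolynomial (Fin 2) k) := Ideal.span {(MvPolynomial.X 0 * MvPolynomial.X 1 : (MvPolynomial (Fin 2) k))}
  let A := (MvPolynomial (Fin 2) k) ⧸ J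
  let mk : (MvPolynomial (Fin 2) k) →ₐ[k] A := Ideal.Quotient.mkₐ k J
  have hmk : Function.Surjective mk := Ideal.Quotient.mkₐ_surjective k J
  let ev : (MvPolynomial (Fin 2) k) →ₐ[k] k := MvPolynomial.aeval fun _ => (0 : k)
  have hevJ : ∀ a ∈ J, ev a = 0 := fun a ha => by
    obtain ⟨c, rfl⟩ := Ideal.mem_span_singleton'.1 ha
    simp [ev]
  have hdJ : ∀ i, ∀ a ∈ J, ev (MvPolynomial.pderiv i a) = 0 := fun i a ha => by
    obtain ⟨c, rfl⟩ := Ideal.mem_span_singleton'.1 ha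
    fin_cases i <;> simp [ev]
  let e₀ : A →ₐ[k] k := Ideal.Quotient.liftₐ J ev hevJ
  let pd : Fin 2 → A → k := fun i a => ev (MvPolynomial.pderiv i (Function.surjInv hmk a))
  have hpd : ∀ i f, pd i (mk f) = ev (MvPolynomial.pderiv i f) := fun i f => by
    have hm : Function.surjInv hmk (mk f) - f ∈ J := Ideal.Quotient.eq.1 (Function.surjInv_eq hmk (mk f))
    have := hdJ i _ hm
    rwa [map_sub, map_sub, sub_eq_zero] at this
  have he₀ : ∀ f, e₀ (mk f) = ev f := fun f => Ideal.Quotient.liftₐ_apply _ _ _ _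
  let S : Submodule A (A × A) :=
    { carrier := {z | e₀ z.1 = 0 ∧ e₀ z.2 = 0 ∧ pd 0 z.2 = pd 1 z.1}
      zero_mem' := ⟨map_zero _, map_zero _, by
        rw [Prod.snd_zero, Prod.fst_zero, ← map_zero mk, hpd, hpd]; simp⟩
      add_mem' := by
        rintro ⟨a, b⟩ ⟨c, d⟩ ⟨h1, h2, h3⟩ ⟨g1, g2, g3⟩
        refine ⟨by simp_all, by simp_all, ?_⟩
        obtain ⟨a, rfl⟩ := hmk a; obtain ⟨b, rfl⟩ := hmk b
        obtain ⟨c, rfl⟩ := hmk c; obtain ⟨d, rfl⟩ := hmk d
        simp only [Prod.mk_add_mk, ← map_add, hpd] at h3 g3 ⊢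
        simp only [map_add, h3, g3]
      smul_mem' := by
        rintro c ⟨a, b⟩ ⟨h1, h2, h3⟩
        refine ⟨by simp_all, by simp_all, ?_⟩
        obtain ⟨c, rfl⟩ := hmk c; obtain ⟨a, rfl⟩ := hmk a; obtain ⟨b, rfl⟩ := hmk b
        simp only [Prod.smul_mk, smul_eq_mul, ← map_mul, hpd, he₀] at h1 h2 h3 ⊢
        simp [Derivation.leibniz, h1, h2, h3] }
  let δ₀ : (MvPolynomial (Fin 2) k) →ₗ[k] (A × A) ⧸ S :=
    (S.mkQ.restrictScalars k) ∘ₗ LinearMap.prod (mk.toLinearMap ∘ₗ (MvPolynomial.pderiv (0 : Fin 2)).toLinearMap)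
      (mk.toLinearMap ∘ₗ (MvPolynomial.pderiv (1 : Fin 2)).toLinearMap)
  have hδ₀ : ∀ f, δ₀ f = S.mkQ (mk (MvPolynomial.pderiv 0 f), mk (MvPolynomial.pderiv 1 f)) := fun f => rfl
  have hker : ∀ f ∈ J, δ₀ f = 0 := by
    intro f hf
    rw [hδ₀, Submodule.mkQ_apply, Submodule.Quotient.mk_eq_zero]
    refine ⟨(he₀ _).trans (hdJ 0 f hf), (he₀ _).trans (hdJ 1 f hf), ?_⟩
    rw [hpd, hpd]
    obtain ⟨c, rfl⟩ := Ideal.mem_span_singleton'.1 hf
    simp [ev]
  let δ₁ : A →ₗ[k] (A × A) ⧸ S := (J.restrictScalars k).liftQ δ₀ (fun f hf => hker f hf)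
  have hδ₁ : ∀ f, δ₁ (mk f) = δ₀ f := fun f => rfl
  let δ : Derivation k A ((A × A) ⧸ S) := Derivation.mk' δ₁ (fun a b => by
    obtain ⟨a, rfl⟩ := hmk a; obtain ⟨b, rfl⟩ := hmk b
    rw [← map_mul, hδ₁, hδ₁, hδ₁, hδ₀, hδ₀, hδ₀, ← map_smul, ← map_smul, ← map_add]
    congr 1
    simp [Derivation.leibniz, Prod.smul_mk])
  obtain ⟨f, hf⟩ := hsurj (mk (MvPolynomial.X 0) • KaehlerDifferential.D k A (mk (MvPolynomial.X 1)))
  have h1 : δ f = mk (MvPolynomial.X 0) • δ (mk (MvPolynomial.X 1)) := by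
    rw [← δ.liftKaehlerDifferential_comp_D f, ← δ.liftKaehlerDifferential_comp_D (mk (MvPolynomial.X 1)),
      ← map_smul]
    exact congrArg _ hf
  obtain ⟨f, rfl⟩ := hmk f
  have h2 : δ₀ f = mk (MvPolynomial.X 0) • δ₀ (MvPolynomial.X 1) := h1
  rw [hδ₀, hδ₀, ← map_smul, Submodule.mkQ_apply, Submodule.mkQ_apply, Submodule.Quotient.eq] at h2
  obtain ⟨-, -, h3⟩ := h2
  simp only [Prod.smul_mk, smul_eq_mul, Prod.mk_sub_mk, ← map_mul, ← map_sub, hpd] at h3
  have hcomm : ∀ g, ev (MvPolynomial.pderiv 0 (MvPolynomial.pderiv 1 g)) = ev (MvPolynomial.pderiv 1 (MvPolynomial.pderiv 0 g)) := by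
    intro g
    induction g using MvPolynomial.induction_on with
    | C a => simp
    | add p q hp hq => simp [hp, hq]
    | mul_X p i hp => fin_cases i <;> simp [ev, Derivation.leibniz] at hp ⊢ <;> simp [hp]
  simp [ev] at h3 hcomm
  simp [hcomm] at h3

end Groth.Agent.S19635
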