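import Groth.Statements.S19636
import Groth.Agent.S19629

set_option autoImplicit false
universe u
open DeRham

namespace Groth.Agent.S19636

open exteriorPower in
/-- In the chart case, let k be a field of characteristic zero, A a smooth k-algebra with functions t_1,
…, t_d whose differentials form a basis of Ω_{A/k}, D_1, …, D_n the coordinate hyperplanes t_{e(1)}
= 0, …, t_{e(n)} = 0 for an injection e (a simple normal crossings divisor D on X = Spec A), A_I =
A/(t_{e(i)} : i ∈ I) the coordinate ring of D_I = ⋂_{i∈I} D_i, ψ_{I,J} the maps of de Rham complexes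
induced by A_I → A_J, and d_I the de Rham differential of A_I over k. Consider the double complex
with component Ω^q(A_I/k) in bidegree (I, q), horizontal Čech differential (alternating sum of the
ψ_{J∖j,J}) and vertical differential (−1)^{|I|} d_I; its total complex computes the relative de Rham
cohomology of (X, D). Then every cochain ω of total degree d agrees, on all components with I
nonempty, with the total differential of some cochain η of degree d − 1; that is, modulo
coboundaries ω is concentrated on the component Ω^d(A_∅/k) = Ω^d(X), so every class in H^d_dR(X, D)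
is represented by a d-form on X. (The source states this for a smooth affine variety of dimension d
with a simple normal crossings divisor; the chart case with global coordinates is the one its proof
treats, and the double-complex description of H^d_dR(X, D) is taken as the setting.) -/
theorem result
    (k : Type u) [Field k] [CharZero k] (A : Type u) [CommRing A] [Algebra k A] [Algebra.Smooth k A]
    (d n : ℕ) (t : Fin d → A) (e : Fin n ↪ Fin d)
    (b : Module.Basis (Fin d) A (Ω[A⁄k])) (hb : ∀ i, b i = KaehlerDifferential.D k A (t i))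
    (ψ : ∀ (I J : Finset (Fin n)) (p : ℕ), ↥(⋀[(A ⧸ (⨆ i ∈ I, Ideal.span {t (e i)} : Ideal A))]^p (Ω[(A ⧸ (⨆ i ∈ I, Ideal.span {t (e i)} : Ideal A))⁄k])) →+ ↥(⋀[(A ⧸ (⨆ i ∈ J, Ideal.span {t (e i)} : Ideal A))]^p (Ω[(A ⧸ (⨆ i ∈ J, Ideal.span {t (e i)} : Ideal A))⁄k])))
    (hψ : ∀ (I J : Finset (Fin n)) (h : I ⊆ J),
      DeRham.IsCxMap (KaehlerDifferential.D k (A ⧸ (⨆ i ∈ I, Ideal.span {t (e i)} : Ideal A))) (KaehlerDifferential.D k (A ⧸ (⨆ i ∈ J, Ideal.span {t (e i)} : Ideal A)))
        (Ideal.Quotient.factor (biSup_mono h)) (ψ I J))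
    (dq : ∀ (I : Finset (Fin n)) (p : ℕ), ↥(⋀[(A ⧸ (⨆ i ∈ I, Ideal.span {t (e i)} : Ideal A))]^p (Ω[(A ⧸ (⨆ i ∈ I, Ideal.span {t (e i)} : Ideal A))⁄k])) →ₗ[k] ↥(⋀[(A ⧸ (⨆ i ∈ I, Ideal.span {t (e i)} : Ideal A))]^(p + 1) (Ω[(A ⧸ (⨆ i ∈ I, Ideal.span {t (e i)} : Ideal A))⁄k])))
    (hdq : ∀ I : Finset (Fin n), DeRham.IsDiff (KaehlerDifferential.D k (A ⧸ (⨆ i ∈ I, Ideal.span {t (e i)} : Ideal A))) (dq I))
    (ω : ∀ (J : Finset (Fin n)) (q : ℕ), ↥(⋀[(A ⧸ (⨆ i ∈ J, Ideal.span {t (e i)} : Ideal A))]^q (Ω[(A ⧸ (⨆ i ∈ J, Ideal.span {t (e i)} : Ideal A))⁄k]))) :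
    ∃ η : ∀ (I : Finset (Fin n)) (q : ℕ), ↥(⋀[(A ⧸ (⨆ i ∈ I, Ideal.span {t (e i)} : Ideal A))]^q (Ω[(A ⧸ (⨆ i ∈ I, Ideal.span {t (e i)} : Ideal A))⁄k])),
      (∀ (J : Finset (Fin n)) (q : ℕ), J.Nonempty → J.card + (q + 1) = d →
        ω J (q + 1) =
          (∑ j ∈ J.attach, ((-1 : ℤ) ^ (J.filter (fun i => i < j.1)).card) • ψ (J.erase j.1) J (q + 1) (η (J.erase j.1) (q + 1))) +
            ((-1 : ℤ) ^ J.card) • dq J q (η J q)) ∧
      (∀ J : Finset (Fin n), J.Nonempty → J.card = d →
        ω J 0 = ∑ j ∈ J.attach, ((-1 : ℤ) ^ (J.filter (fun i => i < j.1)).card) • ψ (J.erase j.1) J 0 (η (J.erase j.1) 0)) := by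
  classical
  suffices H : ∀ c' : ℕ, c' ≤ d → ∃ η : ∀ (I : Finset (Fin n)) (q : ℕ), ↥(⋀[(A ⧸ (⨆ i ∈ I, Ideal.span {t (e i)} : Ideal A))]^q (Ω[(A ⧸ (⨆ i ∈ I, Ideal.span {t (e i)} : Ideal A))⁄k])),
      (∀ (J : Finset (Fin n)) (q : ℕ), d - c' < J.card → J.card + (q + 1) = d →
        ω J (q + 1) =
          (∑ j ∈ J.attach, ((-1 : ℤ) ^ (J.filter (fun i => i < j.1)).card) • ψ (J.erase j.1) J (q + 1) (η (J.erase j.1) (q + 1))) +
            ((-1 : ℤ) ^ J.card) • dq J q (η J q)) ∧
      (∀ J : Finset (Fin n), d - c' < J.card → J.card = d →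
        ω J 0 = ∑ j ∈ J.attach, ((-1 : ℤ) ^ (J.filter (fun i => i < j.1)).card) • ψ (J.erase j.1) J 0 (η (J.erase j.1) 0)) by
    obtain ⟨η, h1, h2⟩ := H d le_rfl
    exact ⟨η, fun J q hJ hq => h1 J q (by have := hJ.card_pos; omega) hq,
      fun J hJ hd => h2 J (by have := hJ.card_pos; omega) hd⟩
  intro c'
  induction c' with
  | zero => exact fun _ => ⟨fun _ _ => 0, fun J q h h' => absurd h (by omega), fun J h h' => absurd h (by omega)⟩
  | succ c' ih =>
    intro hc'
    obtain ⟨η, h1, h2⟩ := ih (by omega)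
    -- the equations with `J.card = s + 1`, in degree `m = c'`
    obtain ⟨s, hs⟩ : ∃ s, s + 1 + c' = d := ⟨d - c' - 1, by omega⟩
    let g : ∀ J : Finset (Fin n), ↥(⋀[(A ⧸ (⨆ i ∈ J, Ideal.span {t (e i)} : Ideal A))]^c' (Ω[(A ⧸ (⨆ i ∈ J, Ideal.span {t (e i)} : Ideal A))⁄k])) :=
      fun J => match c' with
        | 0 => ω J 0
        | q + 1 => ω J (q + 1) - ((-1 : ℤ) ^ J.card) • dq J q (η J q)
    obtain ⟨ν, hν⟩ := Groth.Agent.S19629.result k A d n t e b hb ψ hψ s c' hs g
    refine ⟨fun I q => if I.card = s then (if h : c' = q then h ▸ ν I else 0) else η I q, ?_, ?_⟩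
    · intro J q hJ hq
      by_cases hJs : J.card = s + 1
      · obtain rfl : c' = q + 1 := by omega
        have e1 : ∀ j : {x // x ∈ J}, (J.erase j.1).card = s := fun j => by
          rw [Finset.card_erase_of_mem j.2]; omega
        simp only [e1, if_true, dif_pos, show ¬ J.card = s by omega, if_false]
        rw [hν J hJs]
        simp only [g, sub_add_cancel]
      · have e1 : ∀ j : {x // x ∈ J}, ¬ (J.erase j.1).card = s := fun j => by
          rw [Finset.card_erase_of_mem j.2]; omega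
        simp only [e1, if_false, show ¬ J.card = s by omega]
        exact h1 J q (by omega) hq
    · intro J hJ hd
      by_cases hJs : J.card = s + 1
      · obtain rfl : c' = 0 := by omega
        have e1 : ∀ j : {x // x ∈ J}, (J.erase j.1).card = s := fun j => by
          rw [Finset.card_erase_of_mem j.2]; omega
        simp only [e1, if_true, dif_pos]
        rw [hν J hJs]
      · have e1 : ∀ j : {x // x ∈ J}, ¬ (J.erase j.1).card = s := fun j => by
          rw [Finset.card_erase_of_mem j.2]; omega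
        simp only [e1, if_false]
        exact h2 J (by omega) hd

end Groth.Agent.S19636
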