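import Groth.Statements.S19638
import Groth.Agent.StFib.Gerbe.StabScheme

set_option autoImplicit false
set_option backward.isDefEq.respectTransparency false
set_option backward.isDefEq.respectTransparency.types false
universe u
open CategoryTheory AlgebraicGeometry
open AlgSt

namespace Groth.Agent.S19638

/-- Let `S` be a scheme and `𝒳` an algebraic stack over `(Sch/S)` for the big etale topology (a stack in
groupoids with diagonal representable by algebraic spaces and a smooth surjective chart from a
scheme) whose diagonal over `S` is representable by algebraic spaces and quasi-separated. Then each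
field-valued point has as stabilizer a group scheme that is locally of finite type: for every field
`K`, every `p : Spec K ⟶ S` and every point `x : (Sch/Spec K) ⟶ 𝒳` over `(Sch/S)`, there is a group
scheme `G` over `Spec K`, locally of finite type over `K`, together with group isomorphisms `G(T) ≅
Aut_T(x_T)` for all schemes `T` over `Spec K`, natural in `T` (that is, `G` represents the
automorphism presheaf of `x`). (The published statement takes the diagonal quasi-separated in the
absolute sense; it is taken over the base scheme `S` here, which is what the argument uses, the
stabilizer being a base change of that diagonal. A priori the stabilizer is a group algebraic space;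
the content is that it is a scheme.) -/
theorem result
    (S : Scheme.{u}) (𝒳 : AlgSt.Cat S) (h𝒳 : AlgSt.IsAlgStack Scheme.etalePrecoverage 𝒳)
    (hΔ : AlgSt.RepByAlgSpWith AlgSp.IsQuasiSeparatedMor (FibCat.diag (FibCat.toSelf 𝒳)))
    (K : Type u) [Field K] (p : Spec (CommRingCat.of K) ⟶ S)
    (x : FibCat.overCat (Over.mk p) ⥤ᵇ 𝒳) :
    ∃ (G : Over (Spec (CommRingCat.of K))) (_ : GrpObj G),
      LocallyOfFiniteType G.hom ∧ Nonempty (Gerb.AutRep x (Gerb.ptsGrp (Over.mk p) G)) := by
  exact Groth.Agent.StFib.Stab.exists_grpScheme h𝒳 hΔ K p x

end Groth.Agent.S19638
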