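import Groth.Statements.S1964
import Groth.Agent.Hensel.Local
import Groth.Agent.Hensel.Pair
import Mathlib.FieldTheory.PurelyInseparable.Basic

set_option autoImplicit false
universe u
open EtAlg

namespace Groth.Agent.S1964

/-- A domain B integral over a henselian local ring A is itself henselian local, and the structure map A
-> B is local; if the residue field of A is separably closed, so is that of B, and the residue field
extension is purely inseparable. -/
theorem result (A B : Type u) [CommRing A] [HenselianLocalRing A] [CommRing B]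
    [IsDomain B] [Algebra A B] [Algebra.IsIntegral A B] :
    ∃ _ : HenselianLocalRing B, IsLocalHom (algebraMap A B) ∧
      (IsSepClosed (IsLocalRing.ResidueField A) →
        IsSepClosed (IsLocalRing.ResidueField B) ∧
        ∀ _ : IsLocalHom (algebraMap A B),
          letI := (IsLocalRing.ResidueField.map (algebraMap A B)).toAlgebra
          IsPurelyInseparable (IsLocalRing.ResidueField A) (IsLocalRing.ResidueField B)) := by
  have hmax : ∀ M : Ideal B, M.IsMaximal → M.comap (algebraMap A B) = IsLocalRing.maximalIdeal A := fun M hM =>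
    IsLocalRing.eq_maximalIdeal (Ideal.isMaximal_comap_of_isIntegral_of_isMaximal M)
  have hloc1 : ∀ (S : Subalgebra A B), Module.Finite A S → IsLocalRing S := by
    intro S hS
    haveI := hS
    obtain ⟨n, e, he, hloc⟩ := Groth.Agent.Hensel.exists_pi_local (R := A) S
    obtain ⟨i, hi⟩ : ∃ i, e i ≠ 0 := by
      by_contra h
      push Not at h
      have h1 := he.complete
      rw [Finset.sum_eq_zero (fun i _ => h i)] at h1
      exact zero_ne_one h1
    have h1 : e i = 1 := (IsIdempotentElem.iff_eq_zero_or_one.mp (he.idem i)).resolve_left hi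
    haveI := hloc i
    have hbot : Ideal.span {1 - e i} = ⊥ := by rw [h1, sub_self, Ideal.span_singleton_eq_bot]
    exact RingEquiv.isLocalRing ((Ideal.quotEquivOfEq hbot).trans (RingEquiv.quotientBot S))
  haveI hBloc : IsLocalRing B := by
    obtain ⟨M, hM⟩ := Ideal.exists_maximal B
    refine IsLocalRing.of_unique_max_ideal ⟨M, hM, fun M' hM' => ?_⟩
    refine hM'.eq_of_le hM.ne_top fun x hx => ?_
    let S := Algebra.adjoin A {x}
    haveI := hloc1 S (Module.Finite.iff_fg.mpr (Algebra.IsIntegral.isIntegral x).fg_adjoin_singleton)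
    have hint : Algebra.IsIntegral S B := Algebra.IsIntegral.tower_top A
    have h1 := IsLocalRing.eq_maximalIdeal (Ideal.isMaximal_comap_of_isIntegral_of_isMaximal (R := S) M)
    have h2 := IsLocalRing.eq_maximalIdeal (Ideal.isMaximal_comap_of_isIntegral_of_isMaximal (R := S) M')
    have h3 : (⟨x, Algebra.subset_adjoin rfl⟩ : S) ∈ M'.comap (algebraMap S B) := hx
    rw [h2, ← h1] at h3
    exact h3
  haveI hlh : IsLocalHom (algebraMap A B) := by
    refine ⟨fun a ha => ?_⟩
    by_contra hna
    have := (hmax _ (IsLocalRing.maximalIdeal.isMaximal B)).ge (hna : a ∈ IsLocalRing.maximalIdeal A)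
    exact this ha
  haveI : HenselianRing B ((IsLocalRing.maximalIdeal A).map (algebraMap A B)) :=
    Groth.Agent.Hensel.henselianRing_of_isIntegral B
  have hrad : IsLocalRing.maximalIdeal B ≤ ((IsLocalRing.maximalIdeal A).map (algebraMap A B)).radical := by
    rw [Ideal.radical_eq_sInf]
    refine le_sInf fun P ⟨hP, hPp⟩ => ?_
    haveI := hPp
    have hPc : P.comap (algebraMap A B) = IsLocalRing.maximalIdeal A :=
      ((IsLocalRing.maximalIdeal.isMaximal A).eq_of_le (Ideal.IsPrime.ne_top inferInstance)
        (Ideal.map_le_iff_le_comap.mp hP)).symm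
    have hPmax : P.IsMaximal := Ideal.isMaximal_of_isIntegral_of_isMaximal_comap P
      (hPc ▸ IsLocalRing.maximalIdeal.isMaximal A)
    exact (IsLocalRing.eq_maximalIdeal hPmax).ge
  haveI : HenselianRing B (IsLocalRing.maximalIdeal B) :=
    Groth.Agent.Hensel.henselianRing_of_radical_eq (I := (IsLocalRing.maximalIdeal A).map (algebraMap A B)) hrad
  refine ⟨Groth.Agent.Hensel.henselianLocalRing_of_henselianRing ‹_›, hlh, fun hsc => ?_⟩
  letI := (IsLocalRing.ResidueField.map (algebraMap A B)).toAlgebra
  haveI : IsScalarTower A (IsLocalRing.ResidueField A) (IsLocalRing.ResidueField B) :=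
    IsScalarTower.of_algebraMap_eq fun a => rfl
  haveI : Algebra.IsIntegral A (IsLocalRing.ResidueField B) := Algebra.IsIntegral.trans B
  haveI : Algebra.IsIntegral (IsLocalRing.ResidueField A) (IsLocalRing.ResidueField B) :=
    Algebra.IsIntegral.tower_top A
  haveI : Algebra.IsAlgebraic (IsLocalRing.ResidueField A) (IsLocalRing.ResidueField B) := inferInstance
  haveI := hsc
  refine ⟨Algebra.IsAlgebraic.isSepClosed (F := IsLocalRing.ResidueField A), fun _ => ?_⟩
  exact inferInstance

end Groth.Agent.S1964
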