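import Groth.Statements.S1965
import Mathlib

set_option autoImplicit false
universe u
open Polynomial
open EtAlg

namespace Groth.Agent.S1965

/-- Let A be a complete Noetherian local domain of Krull dimension 1 with maximal ideal m, P a
polynomial over A and α a root of P which is not a root of the derivative P'. Then for every c there
is an n such that for every polynomial Q all of whose coefficients lie in m^n, the polynomial P + Q
has a root β with β - α in m^c. -/
theorem result (A : Type u) [CommRing A] [IsDomain A] [IsLocalRing A] [IsNoetherianRing A]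
    [IsAdicComplete (IsLocalRing.maximalIdeal A) A] (hdim : ringKrullDim A = 1) (P : A[X]) (α : A)
    (hα : P.eval α = 0) (hα' : (derivative P).eval α ≠ 0) (c : ℕ) :
    ∃ n : ℕ, ∀ Q : A[X], (∀ i, Q.coeff i ∈ IsLocalRing.maximalIdeal A ^ n) →
      ∃ β : A, (P + Q).eval β = 0 ∧ β - α ∈ IsLocalRing.maximalIdeal A ^ c := by
  classical
  set m := IsLocalRing.maximalIdeal A with hm
  set d := (derivative P).eval α with hd
  -- (d) contains a power of m
  obtain ⟨k, hk⟩ : ∃ k, m ^ k ≤ Ideal.span {d} := by
    have hfin : (Ideal.span {d}).radical.FG := IsNoetherian.noetherian _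
    obtain ⟨k, hk⟩ := Ideal.exists_radical_pow_le_of_fg _ hfin
    refine ⟨k, le_trans (Ideal.pow_right_mono ?_ k) hk⟩
    by_cases hdu : IsUnit d
    · rw [Ideal.span_singleton_eq_top.mpr hdu, Ideal.radical_top]; exact le_top
    rw [Ideal.radical_eq_sInf]
    refine le_sInf fun J ⟨hJ, hJp⟩ => ?_
    have : Ring.KrullDimLE 1 A := Ring.krullDimLE_iff.mpr hdim.le
    have hJ0 : J ≠ ⊥ := fun h => hα' (by simpa [h] using hJ)
    haveI := hJp
    have hJm : J.IsMaximal := Ideal.IsPrime.isMaximal_of_ne_bot hJp hJ0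
    exact (IsLocalRing.eq_maximalIdeal hJm).ge
  refine ⟨2 * k + c + 2, fun Q hQ => ?_⟩
  have hQev : ∀ (N : ℕ) (R : A[X]), (∀ i, R.coeff i ∈ m ^ N) → ∀ x, R.eval x ∈ m ^ N := fun N R hR x => by
    rw [eval_eq_sum, Polynomial.sum]
    exact Ideal.sum_mem _ fun i _ => Ideal.mul_mem_right _ _ (hR i)
  have hmk : ∀ N, m ^ (k + N) ≤ Ideal.span {d} * m ^ N := fun N => by
    rw [pow_add]; exact Ideal.mul_mono_left hk
  have hQ' : (derivative Q).eval α ∈ Ideal.span {d} * m := by
    have h1 : ∀ i, (derivative Q).coeff i ∈ m ^ (2 * k + c + 2) := fun i => by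
      rw [coeff_derivative]; exact Ideal.mul_mem_right _ _ (hQ _)
    have := (Ideal.pow_le_pow_right (show k + 1 ≤ 2 * k + c + 2 by omega)) (hQev _ _ h1 α)
    simpa using hmk 1 this
  obtain ⟨e, he, he'⟩ := Ideal.mem_span_singleton_mul.mp hQ'
  have hu : IsUnit (1 + e) := by
    have : IsUnit (1 + e) ∨ IsUnit (-e) := IsLocalRing.isUnit_or_isUnit_of_add_one (by ring)
    rcases this with h | h
    · exact h
    · exact absurd h (by simpa [hm, IsLocalRing.mem_maximalIdeal] using he)
  have hQα : Q.eval α ∈ Ideal.span {d * d} * m ^ (c + 2) := by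
    have := hQev _ _ hQ α
    have h2 : m ^ (2 * k + c + 2) ≤ Ideal.span {d * d} * m ^ (c + 2) := by
      rw [show 2 * k + c + 2 = k + (k + (c + 2)) by omega]
      refine (hmk _).trans (le_trans (Ideal.mul_mono_right (hmk _)) ?_)
      rw [← mul_assoc, Ideal.span_singleton_mul_span_singleton]
    exact h2 this
  obtain ⟨q, hq, hq'⟩ := Ideal.mem_span_singleton_mul.mp hQα
  -- Taylor expansion
  set G := taylor α (P + Q) with hG
  set R := G.divX.divX with hR
  have hexp : ∀ x, (P + Q).eval (α + x) = Q.eval α + (1 + e) * d * x + x * x * R.eval x := by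
    intro x
    have h0 : (P + Q).eval (α + x) = G.eval x := by rw [hG, taylor_eval, add_comm]
    have h1 := congrArg (eval x) (G.X_mul_divX_add)
    have h2 := congrArg (eval x) (G.divX.X_mul_divX_add)
    simp only [eval_add, eval_mul, eval_X, eval_C] at h1 h2
    rw [h0, ← h1, ← h2, coeff_divX, hG, taylor_coeff_zero, taylor_coeff_one, derivative_add, eval_add, eval_add, hα, ← hd, ← he', hR, hG]
    ring
  obtain ⟨v, hv⟩ := hu
  set T : A → A := fun y => -(↑v⁻¹ : A) * (q + y * y * R.eval (d * y)) with hT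
  have hT1 : ∀ y ∈ m, T y ∈ m := fun y hy => Ideal.mul_mem_left _ _
    (Ideal.add_mem _ (Ideal.pow_le_self (by omega) hq) (Ideal.mul_mem_right _ _ (Ideal.mul_mem_right _ _ hy)))
  have hT2 : ∀ (j : ℕ) (y z : A), y ∈ m → z ∈ m → y - z ∈ m ^ j → T y - T z ∈ m ^ (j + 1) := by
    intro j y z hy hz hyz
    obtain ⟨w, hw⟩ := sub_dvd_eval_sub (d * y) (d * z) R
    have : T y - T z = -(↑v⁻¹ : A) * ((y - z) * ((y + z) * R.eval (d * y) + z * z * d * w)) := by
      simp only [hT]
      linear_combination (-(↑v⁻¹ : A) * (z * z)) * hw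
    rw [this, pow_succ]
    exact Ideal.mul_mem_left _ _ (Ideal.mul_mem_mul hyz (Ideal.add_mem _
      (Ideal.mul_mem_right _ _ (Ideal.add_mem _ hy hz))
      (Ideal.mul_mem_right _ _ (Ideal.mul_mem_right _ _ (Ideal.mul_mem_right _ _ hz)))))
  let s : ℕ → A := fun i => T^[i] 0
  have hsm : ∀ i, s i ∈ m := fun i => by
    induction i with
    | zero => exact zero_mem _
    | succ i ih => simp only [s, Function.iterate_succ', Function.comp]; exact hT1 _ ih
  have hsucc : ∀ i, s (i + 1) = T (s i) := fun i => by simp only [s, Function.iterate_succ', Function.comp]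
  have hstep : ∀ i, s (i + 1) - s i ∈ m ^ (i + 1) := fun i => by
    induction i with
    | zero => simpa using Ideal.sub_mem _ (hsm 1) (hsm 0)
    | succ i ih => rw [hsucc (i + 1)]; nth_rw 2 [hsucc i]; exact hT2 _ _ _ (hsm _) (hsm _) ih
  have hcauchy : ∀ i l, i ≤ l → s i - s l ∈ m ^ i := by
    intro i l hil
    induction l, hil using Nat.le_induction with
    | base => simp
    | succ l hl ih =>
      rw [show s i - s (l + 1) = (s i - s l) - (s (l + 1) - s l) by ring]
      exact Ideal.sub_mem _ ih (Ideal.pow_le_pow_right (by omega) (hstep l))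
  obtain ⟨y, hy⟩ := IsPrecomplete.prec (inferInstance : IsPrecomplete m A) (f := s) fun {i l} hil => by
    simpa [SModEq.sub_mem] using hcauchy i l hil
  have hy' : ∀ i, s i - y ∈ m ^ i := fun i => by simpa [SModEq.sub_mem] using hy i
  have hym : y ∈ m := by simpa using Ideal.sub_mem m (hsm 1) (show s 1 - y ∈ m by simpa using hy' 1)
  have hfix : T y = y := by
    rw [← sub_eq_zero]
    refine IsHausdorff.haus (inferInstance : IsHausdorff m A) _ fun i => ?_
    rw [SModEq.sub_mem, sub_zero, smul_eq_mul, Ideal.mul_top]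
    rw [show T y - y = (T y - T (s i)) + (s (i + 1) - y) by rw [hsucc]; ring]
    exact Ideal.pow_le_pow_right (Nat.le_succ i) (Ideal.add_mem _
      (hT2 i _ _ hym (hsm _) (by rw [← neg_sub]; exact neg_mem (hy' i))) (hy' (i + 1)))
  refine ⟨α + d * y, ?_, ?_⟩
  · rw [hexp, ← hq', ← hv]
    have hk2 : (v : A) * y + (q + y * y * R.eval (d * y)) = 0 := by
      have := congrArg (fun t => (v : A) * t) hfix
      simp only [hT, neg_mul, mul_neg, ← mul_assoc, Units.mul_inv, one_mul] at this
      linear_combination -this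
    linear_combination d * d * hk2
  · have hy2 : y * ((v : A) + y * R.eval (d * y)) = -q := by
      have := congrArg (fun t => (v : A) * t) hfix
      simp only [hT, neg_mul, mul_neg, ← mul_assoc, Units.mul_inv, one_mul] at this
      linear_combination -this
    have hu2 : IsUnit ((v : A) + y * R.eval (d * y)) := by
      by_contra h
      exact ((IsLocalRing.mem_maximalIdeal _).mp (by simpa using Ideal.sub_mem _ ((IsLocalRing.mem_maximalIdeal _).mpr h) (Ideal.mul_mem_right (R.eval (d * y)) _ hym))) v.isUnit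
    rw [add_sub_cancel_left]
    refine Ideal.mul_mem_left _ _ (Ideal.pow_le_pow_right (show c ≤ c + 2 by omega) ?_)
    exact (Ideal.mul_unit_mem_iff_mem _ hu2).mp (by rw [hy2]; exact neg_mem hq)

end Groth.Agent.S1965
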