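import Groth.Statements.S19652
import Groth.Agent.AbVarLib.BilinInv

set_option autoImplicit false
universe u v
open AbVar

namespace Groth.Agent.S19652

open Polynomial in
/-- Stated for an arbitrary invariant nondegenerate bilinear form, as the argument there allows. Let k
be a field, V a finite-dimensional k-vector space with a nondegenerate bilinear form B and M a
linear automorphism of V with B(Mx, My) = B(x, y) for all x, y. If Q is a polynomial associated to
its own reciprocal polynomial (its coefficient list reversed), then B restricted to the generalized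
kernel of Q(M), the union of the kernels of the powers Q(M)^n, is nondegenerate. (The published
statement takes M symplectic and Q a self-reciprocal divisor of the characteristic polynomial;
divisibility plays no role and is not assumed.) -/
theorem result
    {k : Type u} [Field k] {V : Type v} [AddCommGroup V] [Module k V] [FiniteDimensional k V]
    (B : LinearMap.BilinForm k V) (hB : B.Nondegenerate) (M : V ≃ₗ[k] V)
    (hM : ∀ x y : V, B (M x) (M y) = B x y)
    (Q : k[X]) (hQ : Associated Q Q.reverse) :
    (B.restrict (⨆ n : ℕ, LinearMap.ker (Polynomial.aeval (M : V →ₗ[k] V) Q ^ n))).Nondegenerate := by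
  set T : Module.End k V := (M : V →ₗ[k] V)
  set f := Polynomial.aeval T Q
  obtain ⟨N, hN⟩ := AbVarLib.BilinInv.ker_iSup_eq f
  obtain ⟨hW, hc⟩ := hN N le_rfl
  rw [hW]
  obtain ⟨c, hc'⟩ := hQ
  obtain ⟨a, ha, hac⟩ := Polynomial.isUnit_iff.mp c.isUnit
  have hrev : ∀ z, Polynomial.aeval T (Q ^ N).reverse z = (a ^ N) • (f ^ N) z := by
    intro z
    rw [AbVarLib.BilinInv.reverse_pow', ← hc', ← hac, mul_pow, ← Polynomial.C_pow, map_mul,
      Polynomial.aeval_C, map_pow, ← Algebra.commutes, ← Algebra.smul_def]
    rfl
  set d := (Q ^ N).natDegree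
  have hshift : ∀ v y', B ((f ^ N) v) ((T ^ d) y') = a ^ N • B v ((f ^ N) y') := by
    intro v y'
    rw [show f ^ N = Polynomial.aeval T (Q ^ N) from (map_pow _ _ _).symm,
      AbVarLib.BilinInv.aeval_reverse B T hM, hrev, map_smul, map_pow]
  have hsurj : Function.Surjective (T ^ d) := by
    rw [Module.End.coe_pow]; exact M.surjective.iterate d
  have hinj : Function.Injective (T ^ d) := by
    rw [Module.End.coe_pow]; exact M.injective.iterate d
  have hdecomp : ∀ z : V, ∃ w ∈ LinearMap.ker (f ^ N), ∃ v, z = w + (f ^ N) v := by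
    intro z
    have hz : z ∈ LinearMap.ker (f ^ N) ⊔ LinearMap.range (f ^ N) := hc.sup_eq_top ▸ Submodule.mem_top
    obtain ⟨w, hw, r, ⟨v, hv⟩, e⟩ := Submodule.mem_sup.mp hz
    exact ⟨w, hw, v, by rw [hv, e]⟩
  constructor
  · intro x hx
    apply Subtype.ext
    refine hB.1 _ fun z => ?_
    obtain ⟨w, hw, v, rfl⟩ := hdecomp z
    rw [map_add, show B x.1 w = 0 from hx ⟨w, hw⟩, zero_add]
    have := hshift x.1 v
    rw [show (f ^ N) x.1 = 0 from x.2, map_zero, LinearMap.zero_apply] at this
    exact (smul_eq_zero.mp this.symm).resolve_left (pow_ne_zero _ ha.ne_zero)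
  · intro y hy
    apply Subtype.ext
    refine hB.2 _ fun z => ?_
    obtain ⟨w, hw, v, rfl⟩ := hdecomp z
    rw [map_add, LinearMap.add_apply, show B w y.1 = 0 from hy ⟨w, hw⟩, zero_add]
    obtain ⟨y', hy'⟩ := hsurj y.1
    have hy0 : (f ^ N) y' = 0 := by
      apply hinj
      have hcm : Commute (T ^ d) (f ^ N) :=
        (Polynomial.aeval_X (R := k) T ▸ (Commute.all Polynomial.X Q).map (Polynomial.aeval T)).pow_pow d N
      rw [map_zero, ← Module.End.mul_apply, hcm.eq, Module.End.mul_apply, hy']
      exact y.2
    rw [← hy', hshift, hy0, map_zero, smul_zero]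

end Groth.Agent.S19652
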