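import Groth.Statements.S19653
import Groth.Agent.ProperFib.GeomConn
-- import your own Groth.Agent.* helpers here

set_option autoImplicit false
universe u
open AlgebraicGeometry CategoryTheory CategoryTheory.Limits
open EGA43

namespace Groth.Agent.S19653

set_option backward.isDefEq.respectTransparency.types false

/-- Let R be a discrete valuation ring and f : X → Spec R a flat, separated morphism of finite type
whose closed fibre is nonempty and proper over the residue field and whose generic fibre is
geometrically connected. Then f is proper, and its closed fibre is geometrically connected too. (The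
published statement does not require the closed fibre to be nonempty; the affine line over the
fraction field, viewed over R, has empty closed fibre and satisfies the other hypotheses without
being proper, and the published proof uses a point of the closed fibre, so nonemptiness is assumed
here.) -/
theorem result
    (R : Type u) [CommRing R] [IsDomain R] [IsDiscreteValuationRing R]
    (X : Scheme.{u}) (f : X ⟶ Spec (CommRingCat.of R))
    [Flat f] [IsSeparated f] [LocallyOfFiniteType f] [QuasiCompact f]
    [IsProper (f.fiberToSpecResidueField (IsLocalRing.closedPoint R))]
    [Nonempty ↥(f.fiber (IsLocalRing.closedPoint R))]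
    [GeometricallyConnected (f.fiberToSpecResidueField (genericPoint ↥(Spec (CommRingCat.of R))))] :
    IsProper f ∧ GeometricallyConnected (f.fiberToSpecResidueField (IsLocalRing.closedPoint R)) := by
  let S := Spec (CommRingCat.of R)
  have hη : ∀ η : S, (∀ η' : S, η' ⤳ η → η' = η) → η = genericPoint S := fun η hη =>
    (hη _ (genericPoint_specializes η)).symm
  have hgen : ∀ η : S, (∀ η' : S, η' ⤳ η → η' = η) → GeometricallyConnected (f.fiberToSpecResidueField η) :=
    fun η h => by
      rw [hη η h]
      infer_instance
  have : LocallyOfFinitePresentation f := LocallyOfFinitePresentation.iff_locallyOfFiniteType.2 inferInstance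
  obtain ⟨U, hsU, hU⟩ := Groth.Agent.ProperFib.Generic.exists_nhd_of_flat f (fun η h _ => hgen η h)
    (IsLocalRing.closedPoint R) inferInstance
  have hproper : IsProper f := by
    refine (IsZariskiLocalAtTarget.iff_of_iSup_eq_top (P := @IsProper) (fun _ : Unit => U)
      (top_le_iff.1 fun s _ => TopologicalSpace.Opens.mem_iSup.2
        ⟨(), (IsLocalRing.specializes_closedPoint s).mem_open U.isOpen hsU⟩)).2 fun _ => hU
  have : Surjective f := ⟨fun s => by
    obtain ⟨z⟩ := ‹Nonempty ↥(f.fiber (IsLocalRing.closedPoint R))›
    have hz : f (f.fiberι _ z) = IsLocalRing.closedPoint R := (f.range_fiberι _).le ⟨z, rfl⟩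
    obtain ⟨x, -, hx⟩ := Flat.generalizingMap f
      (show s ⤳ f (f.fiberι _ z) from hz.symm ▸ IsLocalRing.specializes_closedPoint s)
    exact ⟨x, hx⟩⟩
  have := Groth.Agent.ProperFib.GeomConn.geometricallyConnected_of_generic f hgen
  exact ⟨hproper, inferInstance⟩

end Groth.Agent.S19653
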