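import Groth.Statements.S19654
import Groth.Agent.AbExt.Main

set_option autoImplicit false
universe u
open CategoryTheory CategoryTheory.Limits MonoidalCategory CartesianMonoidalCategory AlgebraicGeometry
open AbSch

namespace Groth.Agent.S19654

/-- Let S be a scheme and A an abelian scheme over S, that is an S-group scheme which is proper, smooth
and has geometrically connected fibres. Let T be a regular scheme (locally Noetherian with regular
local rings) with a morphism t : T → S, U a dense open subscheme of T and g : U → A a morphism
compatible with the maps to S. Then there is a unique S-morphism T → A restricting to g on U; in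
other words a rational S-map from a regular scheme to an abelian scheme is defined everywhere. -/
theorem result
    {S : Scheme.{u}} (A : Over S) [GrpObj A] [IsProper A.hom] [Smooth A.hom]
    [GeometricallyConnected A.hom]
    (T : Scheme.{u}) (t : T ⟶ S) [IsLocallyNoetherian T] (hT : Models.IsRegularScheme T)
    (U : T.Opens) (hU : Dense (U : Set T))
    (g : (U : Scheme.{u}) ⟶ A.left) (hg : g ≫ A.hom = U.ι ≫ t) :
    ∃! g' : T ⟶ A.left, g' ≫ A.hom = t ∧ U.ι ≫ g' = g := by
  exact AbExt.existsUnique_extension A t hT U hU g hg

end Groth.Agent.S19654
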