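import Groth.Statements.S19658
import Groth.Agent.SGA7Lib.TorsionEtale
import Groth.Agent.Hensel.SmoothLift
import Groth.Agent.Hensel.Pair

set_option autoImplicit false
set_option linter.style.haveILetI false
universe u
open CategoryTheory CategoryTheory.Limits MonoidalCategory CartesianMonoidalCategory AlgebraicGeometry
open Neron MonObj

namespace Groth.Agent.S19658

section
open CategoryTheory CategoryTheory.Limits AlgebraicGeometry
set_option backward.isDefEq.respectTransparency false in
set_option backward.isDefEq.respectTransparency.types false in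
/-- Sections of a smooth scheme over a henselian local ring extend from closed subschemes. -/
theorem exists_section_extending {R : Type u} [CommRing R] [HenselianLocalRing R] {X : Scheme.{u}}
    (f : X ⟶ Spec (CommRingCat.of R)) [Smooth f] (a : Ideal R) (ha : a ≠ ⊤)
    (u₀ : Spec (CommRingCat.of (R ⧸ a)) ⟶ X) (h₀ : u₀ ≫ f = Spec.map (CommRingCat.ofHom (Ideal.Quotient.mk a))) :
    ∃ u : Spec (CommRingCat.of R) ⟶ X, u ≫ f = 𝟙 _ ∧
      Spec.map (CommRingCat.ofHom (Ideal.Quotient.mk a)) ≫ u = u₀ := by
  have : Nontrivial (R ⧸ a) := Ideal.Quotient.nontrivial_iff.2 ha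
  have : IsLocalRing (R ⧸ a) := IsLocalRing.of_surjective' (Ideal.Quotient.mk a) Ideal.Quotient.mk_surjective
  obtain ⟨U, hU, hxU, -⟩ := exists_isAffineOpen_mem_and_subset
    (show u₀ (IsLocalRing.closedPoint (R ⧸ a)) ∈ (⊤ : X.Opens) from trivial)
  have hrange : Set.range u₀ ⊆ Set.range hU.fromSpec := by
    rintro _ ⟨w, rfl⟩
    rw [hU.range_fromSpec]
    exact (IsLocalRing.specializes_closedPoint w).map u₀.continuous |>.mem_open U.2 hxU
  let v := IsOpenImmersion.lift hU.fromSpec u₀ hrange
  obtain ⟨φ, hφ⟩ := Spec.map_surjective (hU.fromSpec ≫ f)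
  have hsm : φ.hom.Smooth := by
    have : Smooth (Spec.map φ) := by rw [hφ]; infer_instance
    exact (HasRingHomProperty.Spec_iff (P := @Smooth)).1 this
  obtain ⟨ψ, hψ⟩ := Spec.map_surjective v
  letI : Algebra R Γ(X, U) := φ.hom.toAlgebra
  haveI : Algebra.Smooth R Γ(X, U) := RingHom.smooth_algebraMap.1 hsm
  have : HenselianRing R a := Groth.Agent.Hensel.henselianRing_of_le (IsLocalRing.le_maximalIdeal ha)
  have hc : φ ≫ ψ = CommRingCat.ofHom (Ideal.Quotient.mk a) := by
    apply Spec.map_injective
    rw [Spec.map_comp, hψ, hφ, ← Category.assoc, IsOpenImmersion.lift_fac, h₀]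
  let σ : Γ(X, U) →ₐ[R] R ⧸ a :=
    { toRingHom := ψ.hom
      commutes' := fun r => RingHom.congr_fun (congrArg CommRingCat.Hom.hom hc) r }
  obtain ⟨τ, hτ⟩ := Groth.Agent.Hensel.exists_algHom_lift_smooth (I := a) _ σ
  refine ⟨Spec.map (CommRingCat.ofHom τ.toRingHom) ≫ hU.fromSpec, ?_, ?_⟩
  · rw [Category.assoc, ← hφ, ← Spec.map_comp, ← Spec.map_id]
    congr 1
    ext r
    exact τ.commutes r
  · rw [← Category.assoc, ← Spec.map_comp, show CommRingCat.ofHom τ.toRingHom ≫
      CommRingCat.ofHom (Ideal.Quotient.mk a) = ψ from CommRingCat.hom_ext (RingHom.ext fun x =>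
        DFunLike.congr_fun hτ x), hψ, IsOpenImmersion.lift_fac]
end

/-- The first display of the lemma, in the generality its argument gives. Let R be a henselian local
ring with residue field k, G a commutative group scheme over Spec R that is smooth, separated and
quasi-compact, and N a natural number which is a unit in R. Then every k-valued point of G killed by
N lifts to exactly one R-valued point of G killed by N; that is, reduction G(R)[N] → G(k)[N] is a
bijection on N-torsion. (The text applies this to the Néron model of an abelian variety over a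
henselian discrete valuation ring, where G(R) = A(K).) -/
theorem result
    (R : Type u) [CommRing R] [HenselianLocalRing R]
    (G : Over (Spec (CommRingCat.of R))) [GrpObj G] [IsCommMonObj G]
    [Smooth G.hom] [IsSeparated G.hom] [QuasiCompact G.hom]
    (N : ℕ) (hN : IsUnit (N : R))
    (τ : Over.mk (Spec.map (CommRingCat.ofHom (IsLocalRing.residue R))) ⟶ G)
    (hτ : τ ∈ AbDual.torsPts G N (Over.mk (Spec.map (CommRingCat.ofHom (IsLocalRing.residue R))))) :
    ∃! σ : Over.mk (𝟙 (Spec (CommRingCat.of R))) ⟶ G,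
      σ ∈ AbDual.torsPts G N (Over.mk (𝟙 (Spec (CommRingCat.of R)))) ∧
        Over.homMk (Spec.map (CommRingCat.ofHom (IsLocalRing.residue R))) (Category.comp_id _) ≫ σ = τ := by
  haveI hcomm : ∀ s, IsCommMonObj (GrpSGA.Fibre.fib G s) := fun s => inferInstance
  have hn : ∀ s : Spec (CommRingCat.of R), (N : (Spec (CommRingCat.of R)).residueField s) ≠ 0 := fun p h0 => by
    let φ : R →+* (Spec (CommRingCat.of R)).residueField p :=
      (Spec.preimage ((Spec (CommRingCat.of R)).fromSpecResidueField p)).hom
    exact not_isUnit_zero (h0 ▸ map_natCast φ N ▸ hN.map φ)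
  let f : G ⟶ G := 𝟙 G ^ N
  haveI : Etale f.left := SGA7Lib.etale_pow G hcomm N hn
  let r := Spec.map (CommRingCat.ofHom (IsLocalRing.residue R))
  let T := Over.mk (𝟙 (Spec (CommRingCat.of R)))
  let T₀ := Over.mk r
  let q : T₀ ⟶ T := Over.homMk r (Category.comp_id _)
  have hτ' : τ ^ N = 1 := hτ
  have hone : ∀ (Y : Over (Spec (CommRingCat.of R))),
      ((1 : Y ⟶ G)).left = Y.hom ≫ η[G].left := fun Y => by
    rw [Hom.one_def, Over.comp_left]
    congr 1
  have hpow : ∀ (Y : Over (Spec (CommRingCat.of R))) (y : Y ⟶ G), y.left ≫ f.left = (y ^ N).left :=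
    fun Y y => by rw [← Over.comp_left, MonObj.comp_pow, Category.comp_id]
  let pK := pullback.snd f.left η[G].left
  haveI : Etale pK := inferInstance
  let u₀ : Spec (CommRingCat.of (IsLocalRing.ResidueField R)) ⟶ pullback f.left η[G].left :=
    pullback.lift τ.left r ((hpow _ τ).trans ((congrArg (fun z => z.left) hτ').trans (hone _)))
  obtain ⟨v, hv, hv₀⟩ := exists_section_extending pK (IsLocalRing.maximalIdeal R)
    (IsLocalRing.maximalIdeal.isMaximal R).ne_top u₀ (pullback.lift_snd _ _ _)
  let σ₀ : Spec (CommRingCat.of R) ⟶ G.left := v ≫ pullback.fst _ _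
  have hσ₀ : σ₀ ≫ G.hom = 𝟙 _ := by
    have hη : η[G].left ≫ G.hom = 𝟙 _ := Over.w η[G]
    have h1 : σ₀ ≫ f.left = η[G].left := by
      rw [Category.assoc, pullback.condition, ← Category.assoc, hv, Category.id_comp]
    rw [← Over.w f, ← Category.assoc, h1]
    exact hη
  let σ : T ⟶ G := Over.homMk σ₀ hσ₀
  have hσN : σ ^ N = 1 := by
    ext1
    rw [← hpow, hone]
    show (v ≫ pullback.fst _ _) ≫ f.left = 𝟙 _ ≫ η[G].left
    rw [Category.assoc, pullback.condition, ← Category.assoc, hv]
    rfl
  refine ⟨σ, ⟨hσN, ?_⟩, ?_⟩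
  · ext1
    show r ≫ v ≫ pullback.fst _ _ = τ.left
    rw [← Category.assoc]
    exact (congrArg (· ≫ pullback.fst _ _) hv₀).trans (pullback.lift_fst _ _ _)
  · rintro σ' ⟨hσ', hσ'₀⟩
    have hσ'' : σ' ^ N = 1 := hσ'
    ext1
    haveI : LocallyOfFiniteType f.left := inferInstance
    haveI : FormallyUnramified f.left := inferInstance
    refine SGA7Lib.eq_of_unramified f.left _ _ ?_ ?_
    · rw [hpow, hpow, hσ'', hσN]
    · have := congrArg (fun z => z.left) hσ'₀
      refine this.trans ?_
      show τ.left = r ≫ v ≫ pullback.fst _ _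
      rw [← Category.assoc]
      exact ((congrArg (· ≫ pullback.fst _ _) hv₀).trans (pullback.lift_fst _ _ _)).symm

end Groth.Agent.S19658
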