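import Groth.Statements.S1966
import Mathlib

set_option autoImplicit false
universe u
open EtAlg
open Polynomial

namespace Groth.Agent.S1966

/-- Towers indexed by the natural numbers: let (A_k) be rings with surjective transition maps A_{k+1} ->
A_k whose kernels consist of nilpotent elements, and let A be a ring with compatible projections p_k
: A -> A_k identifying A with the set of compatible sequences (p is jointly injective and every
compatible sequence comes from an element of A). Then for every k the pair (A, ker p_k) is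
henselian. -/
theorem result (A : Type u) [CommRing A] (As : ℕ → Type u) [∀ k, CommRing (As k)]
    (t : ∀ k, As (k + 1) →+* As k) (ht : ∀ k, Function.Surjective (t k))
    (hnil : ∀ k (x : As (k + 1)), t k x = 0 → IsNilpotent x)
    (p : ∀ k, A →+* As k) (hp : ∀ k, (t k).comp (p (k + 1)) = p k)
    (hinj : ∀ a b : A, (∀ k, p k a = p k b) → a = b)
    (hsurj : ∀ x : ∀ k, As k, (∀ k, t k (x (k + 1)) = x k) → ∃ a : A, ∀ k, p k a = x k) (k : ℕ) :
    HenselianRing A (RingHom.ker (p k)) := by
  classical
  have hcomp : ∀ j (a : A), t j (p (j + 1) a) = p j a := fun j a => DFunLike.congr_fun (hp j) a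
  have hunit1 : ∀ j (x : As (j + 1)), IsUnit (t j x) → IsUnit x := by
    intro j x hx
    obtain ⟨y, hy⟩ := ht j (↑hx.unit⁻¹ : As j)
    have h1 : IsNilpotent (1 - x * y) := hnil j _ (by rw [map_sub, map_one, map_mul, hy, IsUnit.mul_val_inv hx, sub_self])
    exact isUnit_of_mul_isUnit_left (by simpa using h1.isUnit_one_sub : IsUnit (x * y))
  have hunitk : ∀ (a : A), IsUnit (p k a) → ∀ j, IsUnit (p j a) := by
    intro a ha
    have hle : ∀ j, k ≤ j → IsUnit (p j a) := fun j hj => by
      induction j, hj using Nat.le_induction with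
      | base => exact ha
      | succ j hj ih => exact hunit1 j _ (by rwa [hcomp])
    intro j
    have h := hle (max j k) (le_max_right _ _)
    have hdown : ∀ j l, j ≤ l → IsUnit (p l a) → IsUnit (p j a) := fun j l hjl => by
      induction l, hjl using Nat.le_induction with
      | base => exact id
      | succ l hl ih => exact fun hu => ih (by rw [← hcomp]; exact hu.map _)
    exact hdown j _ (le_max_left _ _) h
  have hunit : ∀ a : A, IsUnit (p k a) → IsUnit a := fun a ha => by
    have hj := hunitk a ha
    obtain ⟨b, hb⟩ := hsurj (fun j => (↑(hj j).unit⁻¹ : As j)) fun j => by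
      have h1 : t j (↑(hj (j + 1)).unit⁻¹) * p j a = 1 := by
        nth_rw 1 [← hcomp j a]
        rw [← map_mul, IsUnit.val_inv_mul, map_one]
      exact left_inv_eq_right_inv h1 (IsUnit.mul_val_inv (hj j))
    exact IsUnit.of_mul_eq_one b (hinj _ _ fun j => by rw [map_mul, hb, map_one, IsUnit.mul_val_inv])
  refine ⟨?_, fun f hf a₀ h0 hd => ?_⟩
  · intro x hx
    rw [Ideal.mem_jacobson_bot]
    intro y
    refine hunit _ ?_
    rw [map_add, map_mul, (RingHom.mem_ker).mp hx, zero_mul, zero_add, map_one]
    exact isUnit_one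
  have hd' : IsUnit (p k (f.derivative.eval a₀)) := by
    obtain ⟨b, hb⟩ := hd.exists_right_inv
    obtain ⟨b, rfl⟩ := Ideal.Quotient.mk_surjective b
    rw [← map_mul, ← map_one (Ideal.Quotient.mk (RingHom.ker (p k))), Ideal.Quotient.eq, RingHom.mem_ker, map_sub, map_one, map_mul, sub_eq_zero] at hb
    exact IsUnit.of_mul_eq_one _ hb
  -- the roots at levels ≥ k
  let g : ∀ j, (As j)[X] := fun j => f.map (p j)
  have hstep : ∀ j (x : As j), (g j).eval x = 0 → IsUnit ((g j).derivative.eval x) →
      ∃ y : As (j + 1), t j y = x ∧ (g (j + 1)).eval y = 0 ∧ IsUnit ((g (j + 1)).derivative.eval y) := by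
    intro j x hx hx'
    obtain ⟨y0, hy0⟩ := ht j x
    have hg : (g (j + 1)).map (t j) = g j := by simp only [g, Polynomial.map_map, hp]
    have h1 : IsNilpotent (aeval y0 (g (j + 1))) := by
      rw [coe_aeval_eq_eval]
      exact hnil j _ (by rw [← Polynomial.eval_map_apply, hg, hy0, hx])
    have h2 : IsUnit (aeval y0 (derivative (g (j + 1)))) := by
      rw [coe_aeval_eq_eval]
      exact hunit1 j _ (by rwa [← Polynomial.eval_map_apply, ← derivative_map, hg, hy0])
    obtain ⟨r, ⟨hr, hr0⟩, -⟩ := existsUnique_nilpotent_sub_and_aeval_eq_zero h1 h2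
    rw [coe_aeval_eq_eval] at hr0
    have h3 : IsNilpotent (x - t j r) := by simpa [hy0] using hr.map (t j)
    have hz : t j r = x := by
      obtain ⟨r', -, huniq⟩ := existsUnique_nilpotent_sub_and_aeval_eq_zero (P := g j) (x := x)
        (by simp [hx]) (by simpa using hx')
      rw [huniq (t j r) ⟨h3, by rw [coe_aeval_eq_eval, ← hg, Polynomial.eval_map_apply, hr0, map_zero]⟩,
        huniq x ⟨by simp, by simp [hx]⟩]
    exact ⟨r, hz, hr0, hunit1 j _ (by rwa [← Polynomial.eval_map_apply, ← derivative_map, hg, hz])⟩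
  choose! next hn1 hn2 hn3 using hstep
  let sq : ∀ i, As (k + i) := fun i => Nat.rec (motive := fun i => As (k + i)) (p k a₀) (fun i x => next (k + i) x) i
  have hsq : ∀ i, (g (k + i)).eval (sq i) = 0 ∧ IsUnit ((g (k + i)).derivative.eval (sq i)) := fun i => by
    induction i with
    | zero => exact ⟨by simpa [g, sq, Polynomial.eval_map_apply] using (RingHom.mem_ker).mp h0,
        by simpa [g, sq, derivative_map, Polynomial.eval_map_apply] using hd'⟩
    | succ i ih => exact ⟨hn2 _ _ ih.1 ih.2, hn3 _ _ ih.1 ih.2⟩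
  obtain ⟨a, ha⟩ : ∃ a : A, ∀ j, k ≤ j → ∃ i, ∃ h : k + i = j, p j a = h ▸ sq i := by
    let dn : ∀ j l, j ≤ l → As l → As j := fun j l h x =>
      Nat.decreasingInduction (motive := fun m _ => As m) (fun m _ y => t m y) x h
    have hdn1 : ∀ j l (h : j ≤ l) x, dn j (l + 1) (h.trans (Nat.le_succ l)) x = dn j l h (t l x) := fun j l h x => by
      simp only [dn]
      rw [Nat.decreasingInduction_succ _ _ h]
    have hdn0 : ∀ j x, dn j j le_rfl x = x := fun j x => by simp only [dn, Nat.decreasingInduction_self]
    have hdnt : ∀ j l (h : j + 1 ≤ l) x, t j (dn (j + 1) l h x) = dn j l ((Nat.le_succ j).trans h) x := fun j l h x => by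
      simp only [dn]
      rw [Nat.decreasingInduction_succ_left _ _ h ((Nat.le_succ j).trans h)]
    obtain ⟨a, ha⟩ := hsurj (fun j => dn j (k + j) (Nat.le_add_left j k) (sq j)) fun j => by
      rw [hdnt, show dn j (k + (j + 1)) _ (sq (j + 1)) = dn j (k + j) (Nat.le_add_left j k) (t (k + j) (sq (j + 1))) from hdn1 j (k + j) _ _]
      exact congrArg _ (hn1 _ _ (hsq j).1 (hsq j).2)
    have hdnsq : ∀ i l (h : k + i ≤ k + (i + l)), dn (k + i) (k + (i + l)) h (sq (i + l)) = sq i := by
      intro i l
      induction l with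
      | zero => intro h; exact hdn0 _ _
      | succ l ih =>
        intro h
        rw [show dn (k + i) (k + (i + (l + 1))) h (sq (i + (l + 1))) = dn (k + i) (k + (i + l)) (by omega) (t (k + (i + l)) (sq (i + l + 1))) from hdn1 (k + i) (k + (i + l)) (by omega) _,
          hn1 _ _ (hsq (i + l)).1 (hsq (i + l)).2]
        exact ih _
    refine ⟨a, fun j hj => ?_⟩
    obtain ⟨i, rfl⟩ := Nat.exists_eq_add_of_le hj
    refine ⟨i, rfl, ?_⟩
    rw [ha]
    simp only
    have := hdnsq i k (by omega)
    have h3 : ∀ l l' (h : k + i ≤ k + l) (h' : k + i ≤ k + l'), l = l' → dn (k + i) (k + l) h (sq l) = dn (k + i) (k + l') h' (sq l') := by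
      intro l l' h h' e; subst e; rfl
    rw [← this]
    exact h3 _ _ _ _ (by omega)
  refine ⟨a, ?_, ?_⟩
  · refine hinj _ _ fun j => ?_
    have hk' : ∀ l, j ≤ l → p l (f.eval a) = 0 → p j (f.eval a) = p j 0 := fun l hl => by
      induction l, hl using Nat.le_induction with
      | base => intro h; rw [h, map_zero]
      | succ l hl ih => intro h; exact ih (by rw [← hcomp, h, map_zero])
    obtain ⟨i, hi, hv⟩ := ha (k + j) (Nat.le_add_right _ _)
    obtain rfl : i = j := by omega
    exact hk' (k + i) (Nat.le_add_left _ _) (by rw [← Polynomial.eval_map_apply, hv]; exact (hsq i).1)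
  · obtain ⟨i, hi, hv⟩ := ha k le_rfl
    obtain rfl : i = 0 := by omega
    rw [RingHom.mem_ker, map_sub, hv, sub_eq_zero]
    rfl

end Groth.Agent.S1966
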