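import Groth.Statements.S19660
import Groth.Agent.AbVarLib.BilinInv

set_option autoImplicit false
universe u v
open AbVar

namespace Groth.Agent.S19660

/-- The text applies this to the Frobenius acting on the points of prime order of a principally
polarised abelian variety over a finite field with q elements and to their Weil pairing. Let k be a
field, V a finite-dimensional k-vector space with a nondegenerate bilinear form B, q a nonzero
element of k and M a linear automorphism of V with B(Mx, My) = q·B(x, y) for all x, y. Write V₁ and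
V_q for the generalized eigenspaces of M at 1 and at q. Then every vector of V₁ that is B-orthogonal
to all of V_q is zero, every vector of V_q that is B-orthogonal (on the right) to all of V₁ is zero,
and when q ≠ 1 the form B vanishes identically on V₁ × V₁ and on V_q × V_q. (The text asserts this
as the evident adaptation, to a form scaled by q, of the orthogonality and nondegeneracy facts for
generalized kernels of an automorphism preserving a form; the abstract statement is recorded here,
the application to the Weil pairing needing that pairing's formalism.) -/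
theorem result
    {k : Type u} [Field k] {V : Type v} [AddCommGroup V] [Module k V] [FiniteDimensional k V]
    (B : LinearMap.BilinForm k V) (hB : B.Nondegenerate) (q : k) (hq : q ≠ 0)
    (M : V ≃ₗ[k] V) (hM : ∀ x y : V, B (M x) (M y) = q * B x y) :
    (∀ x ∈ Module.End.maxGenEigenspace (M : Module.End k V) 1,
        (∀ y ∈ Module.End.maxGenEigenspace (M : Module.End k V) q, B x y = 0) → x = 0) ∧
      (∀ y ∈ Module.End.maxGenEigenspace (M : Module.End k V) q,
        (∀ x ∈ Module.End.maxGenEigenspace (M : Module.End k V) 1, B x y = 0) → y = 0) ∧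
      (q ≠ 1 → ∀ x ∈ Module.End.maxGenEigenspace (M : Module.End k V) 1,
        ∀ x' ∈ Module.End.maxGenEigenspace (M : Module.End k V) 1, B x x' = 0) ∧
      (q ≠ 1 → ∀ y ∈ Module.End.maxGenEigenspace (M : Module.End k V) q,
        ∀ y' ∈ Module.End.maxGenEigenspace (M : Module.End k V) q, B y y' = 0) := by
  set T : Module.End k V := (M : V →ₗ[k] V)
  have hsurj : ∀ N : ℕ, Function.Surjective (T ^ N) := fun N => by
    rw [Module.End.coe_pow]; exact M.surjective.iterate N
  have key : ∀ (a : k) (n : ℕ) (x y : V),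
      B (((T - a • 1) ^ n) x) ((T ^ n) y) = B x (((q • 1 - a • T) ^ n) y) := by
    intro a n
    induction n with
    | zero => intro x y; rfl
    | succ n ih =>
      intro x y
      rw [pow_succ (T - a • 1), pow_succ T, Module.End.mul_apply, Module.End.mul_apply, ih,
        pow_succ' (q • (1 : Module.End k V) - a • T), Module.End.mul_apply]
      have hcm : Commute ((q • (1 : Module.End k V) - a • T) ^ n) T := Commute.pow_left
        (((Commute.one_left T).smul_left q).sub_left ((Commute.refl T).smul_left a)) n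
      rw [← Module.End.mul_apply, hcm.eq, Module.End.mul_apply]
      set z := ((q • (1 : Module.End k V) - a • T) ^ n) y
      simp only [LinearMap.sub_apply, LinearMap.smul_apply, Module.End.one_apply, map_sub, map_smul,
        smul_eq_mul]
      rw [show B (T x) (T z) = q * B x z from hM x z]
  obtain ⟨M₁, hM₁⟩ := AbVarLib.BilinInv.ker_iSup_eq (T - (1 : k) • 1)
  obtain ⟨Mq, hMq⟩ := AbVarLib.BilinInv.ker_iSup_eq (T - q • 1)
  obtain ⟨h1, hc1⟩ := hM₁ (max M₁ Mq) (le_max_left _ _)
  obtain ⟨hq', hcq⟩ := hMq (max M₁ Mq) (le_max_right _ _)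
  set N₁ := max M₁ Mq with hNdef
  clear_value N₁
  have mem : ∀ (a : k) (x : V), x ∈ Module.End.maxGenEigenspace T a ↔
      ∃ n : ℕ, ((T - a • 1) ^ n) x = 0 := fun a x => Module.End.mem_maxGenEigenspace T a x
  have ker1 : ∀ x, x ∈ Module.End.maxGenEigenspace T 1 ↔ ((T - (1 : k) • 1) ^ N₁) x = 0 := by
    intro x
    rw [mem]
    refine ⟨fun ⟨n, hn⟩ => ?_, fun h => ⟨N₁, h⟩⟩
    rw [← LinearMap.mem_ker, ← h1]
    exact Submodule.mem_iSup_of_mem n hn
  have kerq : ∀ x, x ∈ Module.End.maxGenEigenspace T q ↔ ((T - q • 1) ^ N₁) x = 0 := by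
    intro x
    rw [mem]
    refine ⟨fun ⟨n, hn⟩ => ?_, fun h => ⟨N₁, h⟩⟩
    rw [← LinearMap.mem_ker, ← hq']
    exact Submodule.mem_iSup_of_mem n hn
  have orth1 : ∀ x, x ∈ Module.End.maxGenEigenspace T 1 → ∀ n, N₁ ≤ n → ∀ v, B x (((T - q • 1) ^ n) v) = 0 := by
    intro x hx n hn v
    have := key 1 n x v
    rw [AbVarLib.BilinInv.mem_ker_pow_of_le _ hn ((ker1 x).mp hx), map_zero, LinearMap.zero_apply,
      show q • (1 : Module.End k V) - (1 : k) • T = (-1 : k) • (T - q • 1) by rw [one_smul, neg_one_smul, neg_sub],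
      smul_pow, LinearMap.smul_apply, map_smul] at this
    exact (smul_eq_zero.mp this.symm).resolve_left (pow_ne_zero _ (by simp))
  have orthq : ∀ x, x ∈ Module.End.maxGenEigenspace T q → ∀ n, N₁ ≤ n → ∀ v, B x (((T - (1 : k) • 1) ^ n) v) = 0 := by
    intro x hx n hn v
    have := key q n x v
    rw [AbVarLib.BilinInv.mem_ker_pow_of_le _ hn ((kerq x).mp hx), map_zero, LinearMap.zero_apply,
      show q • (1 : Module.End k V) - q • T = (-q : k) • (T - (1 : k) • 1) by
        rw [one_smul, smul_sub, neg_smul, neg_smul]; abel,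
      smul_pow, LinearMap.smul_apply, map_smul] at this
    exact (smul_eq_zero.mp this.symm).resolve_left (pow_ne_zero _ (by simpa using hq))
  have cop : ∀ (a b : k), a ≠ b → ∀ (n m : ℕ) (x : V), ((T - a • (1 : Module.End k V)) ^ n) x = 0 →
      ∃ v : V, x = ((T - b • (1 : Module.End k V)) ^ m) v := by
    intro a b hab n m x hx
    obtain ⟨u, v, huv⟩ := ((Polynomial.isCoprime_X_sub_C_of_isUnit_sub (a := a) (b := b)
      (sub_ne_zero.mpr hab).isUnit).pow (m := n) (n := m))
    refine ⟨Polynomial.aeval T v x, ?_⟩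
    have := congrArg (fun p => Polynomial.aeval T p x) huv
    simp only [map_add, map_mul, map_pow, map_sub, Polynomial.aeval_X, Polynomial.aeval_C, map_one,
      LinearMap.add_apply, Module.End.mul_apply, Module.End.one_apply, Algebra.algebraMap_eq_smul_one,
      hx, map_zero, zero_add] at this
    conv_lhs => rw [← this]
    have hcm : Commute (Polynomial.aeval T v) ((T - b • 1) ^ m) := by
      refine Commute.pow_right ?_ m
      have := (Commute.all v (Polynomial.X - Polynomial.C b)).map (Polynomial.aeval T)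
      rwa [map_sub, Polynomial.aeval_X, Polynomial.aeval_C, Algebra.algebraMap_eq_smul_one] at this
    rw [← Module.End.mul_apply, hcm.eq, Module.End.mul_apply]
  refine ⟨fun x hx hxy => hB.1 x fun z => ?_, fun y hy hyx => hB.2 y fun z => ?_,
    fun hq1 x hx x' hx' => ?_, fun hq1 y hy y' hy' => ?_⟩
  · have hz : z ∈ LinearMap.ker ((T - q • 1) ^ N₁) ⊔ LinearMap.range ((T - q • 1) ^ N₁) :=
      hcq.sup_eq_top ▸ Submodule.mem_top
    obtain ⟨w, hw, r, ⟨v, rfl⟩, rfl⟩ := Submodule.mem_sup.mp hz
    rw [map_add, hxy w ((kerq w).mpr hw), zero_add]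
    exact orth1 x hx N₁ le_rfl v
  · have hz : z ∈ LinearMap.ker ((T - (1 : k) • 1) ^ N₁) ⊔ LinearMap.range ((T - (1 : k) • 1) ^ N₁) :=
      hc1.sup_eq_top ▸ Submodule.mem_top
    obtain ⟨w, hw, r, ⟨v, rfl⟩, rfl⟩ := Submodule.mem_sup.mp hz
    rw [map_add, LinearMap.add_apply, hyx w ((ker1 w).mpr hw), zero_add]
    obtain ⟨y', rfl⟩ := hsurj N₁ y
    have hy' : ((T - q • 1) ^ N₁) y' = 0 := by
      apply (show Function.Injective (T ^ N₁) by rw [Module.End.coe_pow]; exact M.injective.iterate _)
      have hcm : Commute (T ^ N₁) ((T - q • 1) ^ N₁) :=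
        ((Commute.refl T).sub_right ((Commute.one_right T).smul_right q)).pow_pow _ _
      rw [map_zero, ← Module.End.mul_apply, hcm.eq, Module.End.mul_apply]
      exact (kerq _).mp hy
    rw [key, show q • (1 : Module.End k V) - (1 : k) • T = (-1 : k) • (T - q • 1) by
      rw [one_smul, neg_one_smul, neg_sub], smul_pow, LinearMap.smul_apply, hy', smul_zero, map_zero]
  · obtain ⟨v, rfl⟩ := cop 1 q (Ne.symm hq1) N₁ N₁ x' ((ker1 x').mp hx')
    exact orth1 x hx N₁ le_rfl v
  · obtain ⟨v, rfl⟩ := cop q 1 hq1 N₁ N₁ y' ((kerq y').mp hy')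
    exact orthq y hy N₁ le_rfl v

end Groth.Agent.S19660
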