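import Groth.Statements.S19661
import Groth.Agent.Grass52.QuotBC
import Groth.Agent.S10845
import Groth.Agent.QCoh.Exact
import Groth.Agent.QCoh.Pullback
import Groth.Agent.VBLib.Basic
import Groth.Agent.CycLib.ProjBdl.BundleBC

set_option autoImplicit false
set_option backward.isDefEq.respectTransparency false
set_option backward.isDefEq.respectTransparency.types false
universe u
open CategoryTheory CategoryTheory.Limits AlgebraicGeometry
open Grass

namespace Groth.Agent.S19661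

open Groth.Agent.Grass52

/-- Base change of a quotient is natural in the module. -/
theorem map_quotBC {X G T : Scheme.{u}} {π : G ⟶ X} {E' E : X.Modules} {Q : G.Modules} {g : T ⟶ G} {t : T ⟶ X}
    (hg : g ≫ π = t) (a : E' ⟶ E) (q : (Scheme.Modules.pullback π).obj E ⟶ Q) :
    Grass.quotBC hg ((Scheme.Modules.pullback π).map a ≫ q) =
      (Scheme.Modules.pullback t).map a ≫ Grass.quotBC hg q := by
  simp only [Grass.quotBC, Functor.map_comp, NatTrans.naturality_assoc]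
  erw [← (Scheme.Modules.pullbackComp g π).inv.naturality_assoc a]

/-- Let `X` be a scheme, `E₁`, `E₂` quasi-coherent `O_X`-modules, `v : E₁ ⟶ E₂` an epimorphism and `e ≥
0`. Let `(G₁, π₁, Q₁, q₁)` be a Grassmannian of rank-`e` locally free quotients of `E₁` over `X` (a
representing scheme with its universal quotient `q₁ : π₁^* E₁ ⟶ Q₁`) and `(G₂, π₂, Q₂, q₂)` one of
`E₂`. Then the morphism `G₂ ⟶ G₁` over `X` classifying the rank-`e` quotient `π₂^* E₁ ⟶ π₂^* E₂ ⟶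
Q₂` of `E₁` (every quotient of `E₂` is a quotient of `E₁`) is a closed immersion. (The base is an
arbitrary scheme and the modules are only assumed quasi-coherent; the form over an affine base with
the Grassmannians given by their points in affine schemes is a separate statement.) -/
theorem result (X G₁ G₂ : Scheme.{u}) (π₁ : G₁ ⟶ X) (π₂ : G₂ ⟶ X)
    (E₁ E₂ : X.Modules) (hE₁ : Coh.IsQCoh E₁) (hE₂ : Coh.IsQCoh E₂) (v : E₁ ⟶ E₂) [Epi v] (e : ℕ)
    (Q₁ : G₁.Modules) (q₁ : (Scheme.Modules.pullback π₁).obj E₁ ⟶ Q₁) (hG₁ : Grass.IsGrass π₁ E₁ e Q₁ q₁)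
    (Q₂ : G₂.Modules) (q₂ : (Scheme.Modules.pullback π₂).obj E₂ ⟶ Q₂) (hG₂ : Grass.IsGrass π₂ E₂ e Q₂ q₂) :
    IsClosedImmersion (hG₁.mapOfEpi hG₂ v) := by
  haveI : E₁.IsQuasicoherent := hE₁
  haveI : E₂.IsQuasicoherent := hE₂
  let c : G₂ ⟶ G₁ := hG₁.mapOfEpi hG₂ v
  show IsClosedImmersion c
  haveI := hG₂.epi
  haveI : Epi ((Scheme.Modules.pullback π₂).map v) := Grass.epi_pullback_map π₂ v
  let ec : (Scheme.Modules.pullback c).obj Q₁ ≅ Q₂ :=
    hG₁.liftIso π₂ Q₂ hG₂.rank ((Scheme.Modules.pullback π₂).map v ≫ q₂) (epi_comp _ _)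
  have hcp : c ≫ π₁ = π₂ := hG₁.mapOfEpi_comp hG₂ v
  have hec : Grass.quotBC hcp q₁ ≫ ec.hom = (Scheme.Modules.pullback π₂).map v ≫ q₂ :=
    hG₁.quotBC_liftIso π₂ Q₂ hG₂.rank _ (epi_comp _ _)
  -- the vanishing locus of the kernel of `v` in `Q₁`
  let S : ShortComplex X.Modules := ShortComplex.mk (kernel.ι v) v (kernel.condition v)
  have hS : S.Exact := ShortComplex.exact_of_f_is_kernel _ (kernelIsKernel v)
  let w := (Scheme.Modules.pullback π₁).map (kernel.ι v) ≫ q₁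
  haveI : Coh.IsQCoh ((Scheme.Modules.pullback π₁).obj (kernel v)) :=
    QCoh.isQuasicoherent_pullback π₁ _
  have hlf : FlatMod.IsFinLocFree Q₁ := fun x => by
    obtain ⟨U, hx, hφ⟩ := hG₁.rank x
    exact ⟨U, e, hx, hφ⟩
  haveI : Coh.IsQCoh Q₁ := (VBLib.isCoh_of_isFinLocFree hlf).1
  obtain ⟨I, hI⟩ := Groth.Agent.S10845.result hlf w
  -- `quotBC` of `w` vanishes iff the pullback of `w` does
  have hw : ∀ {T : Scheme.{u}} (h : T ⟶ G₁) (g : T ⟶ X) (hg : h ≫ π₁ = g),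
      (Scheme.Modules.pullback g).map (kernel.ι v) ≫ Grass.quotBC hg q₁ = 0 ↔
        (Scheme.Modules.pullback h).map w = 0 := by
    intro T h g hg
    rw [← map_quotBC hg (kernel.ι v) q₁, Grass.quotBC]
    simp only [Preadditive.IsIso.comp_left_eq_zero]
    rfl
  obtain ⟨m, hm⟩ : ∃ m : G₂ ⟶ I.subscheme, m ≫ I.subschemeι = c := by
    refine (hI G₂ c).mpr ((hw c π₂ hcp).mp ?_)
    rw [← cancel_mono ec.hom, zero_comp, Category.assoc, hec, ← Category.assoc, ← Functor.map_comp,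
      kernel.condition, Functor.map_zero, zero_comp]
  let ι₀ := I.subschemeι
  let g := ι₀ ≫ π₁
  let L := (Scheme.Modules.pullback ι₀).obj Q₁
  have hL : FlatMod.IsFinLocFreeOfRank e L := CycLib.ProjBdl.isFinLocFreeOfRank_pullback ι₀ hG₁.rank
  haveI : PreservesColimitsOfSize.{0, 0} (Scheme.Modules.pullback g) :=
    (Scheme.Modules.pullbackPushforwardAdjunction g).leftAdjoint_preservesColimits
  haveI : Epi S.g := inferInstanceAs (Epi v)
  have hSg : (S.map (Scheme.Modules.pullback g)).Exact :=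
    hS.map_of_epi_of_preservesCokernel _ inferInstance inferInstance
  haveI : Epi (S.map (Scheme.Modules.pullback g)).g := Grass.epi_pullback_map g v
  have hk0 : (Scheme.Modules.pullback g).map (kernel.ι v) ≫ Grass.quotBC (rfl : ι₀ ≫ π₁ = g) q₁ = 0 :=
    (hw ι₀ g rfl).mpr ((hI _ ι₀).mp ⟨𝟙 _, Category.id_comp _⟩)
  let s₂ : (Scheme.Modules.pullback g).obj E₂ ⟶ L := hSg.desc (Grass.quotBC (rfl : ι₀ ≫ π₁ = g) q₁) hk0
  have hs₂ : (Scheme.Modules.pullback g).map v ≫ s₂ = Grass.quotBC (rfl : ι₀ ≫ π₁ = g) q₁ := hSg.g_desc _ hk0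
  haveI : Epi (Grass.quotBC (rfl : ι₀ ≫ π₁ = g) q₁) := epi_quotBC _ _ hG₁.epi
  haveI hs₂e : Epi s₂ := epi_of_epi_fac hs₂
  obtain ⟨k, ⟨hk, ek, hek⟩, -⟩ := hG₂.univ _ g L hL s₂ hs₂e
  have hkc : k ≫ c = ι₀ := by
    have hg' : (k ≫ c) ≫ π₁ = g := by rw [Category.assoc, hcp, hk]
    haveI := isIso_quotBC (rfl : k ≫ c = _) ec.hom
    refine (hG₁.univ _ g L hL (Grass.quotBC (rfl : ι₀ ≫ π₁ = g) q₁) inferInstance).unique
      ⟨hg', asIso (Grass.quotBC (rfl : k ≫ c = _) ec.hom) ≪≫ ek, ?_⟩ ⟨rfl, Iso.refl _, Category.comp_id _⟩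
    rw [Iso.trans_hom, asIso_hom, ← Category.assoc, quotBC_quotBC hg' rfl hcp hk, hec, map_quotBC,
      Category.assoc, hek, hs₂]
  have hkm : k ≫ m = 𝟙 _ := by
    rw [← cancel_mono I.subschemeι, Category.assoc, hm, hkc, Category.id_comp]
  have hac : (m ≫ k) ≫ c = c := by rw [Category.assoc, hkc, hm]
  have hmk : m ≫ k = 𝟙 _ := by
    have hh : ∀ (a : G₂ ⟶ G₂), a ≫ c = c → ∃ (ha : a ≫ π₂ = π₂)
        (e' : (Scheme.Modules.pullback a).obj Q₂ ≅ (Scheme.Modules.pullback c).obj Q₁),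
        Grass.quotBC ha q₂ ≫ e'.hom = q₂ ≫ ec.inv := by
      intro a ha'
      have ha : a ≫ π₂ = π₂ := by rw [← hcp, ← Category.assoc, ha']
      haveI := isIso_quotBC ha' ec.hom
      refine ⟨ha, (asIso (Grass.quotBC ha' ec.hom)).symm, ?_⟩
      rw [Iso.symm_hom, asIso_inv, IsIso.comp_inv_eq, ← cancel_epi ((Scheme.Modules.pullback π₂).map v),
        ← map_quotBC ha, ← hec, ← quotBC_quotBC hcp ha' hcp ha]
      have h2 : (Scheme.Modules.pullback π₂).map v ≫ q₂ ≫ ec.inv = Grass.quotBC hcp q₁ := by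
        rw [← Category.assoc, ← hec, Category.assoc, Iso.hom_inv_id, Category.comp_id]
      rw [← h2]
      simp only [Category.assoc]
    exact (hG₂.univ G₂ π₂ _ (CycLib.ProjBdl.isFinLocFreeOfRank_pullback c hG₁.rank) (q₂ ≫ ec.inv)
      (epi_comp _ _)).unique (hh _ hac) (hh _ (Category.id_comp c))
  haveI : IsIso m := ⟨k, hmk, hkm⟩
  rw [← hm]
  infer_instance

end Groth.Agent.S19661
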