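import Groth.Statements.S19663
import Groth.Agent.Grass52.QuotBC
import Groth.Agent.CycLib.ProjBdl.BundleBC

set_option autoImplicit false
set_option backward.isDefEq.respectTransparency false
set_option backward.isDefEq.respectTransparency.types false
universe u
open CategoryTheory CategoryTheory.Limits AlgebraicGeometry
open Grass

namespace Groth.Agent.S19663

open Groth.Agent.Grass52
open Groth.Agent.CycLib.ProjBdl (isFinLocFreeOfRank_pullback)

/-- Let `X` be a scheme, `E` an `O_X`-module, `m ≥ 0` and `n : Fin (m+2) → ℕ`. Let `(F', π', Q', q')` be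
the partial flag scheme of `E` of type `n` (universal nested locally free quotients `q' i : π'^* E ⟶
Q' i` of ranks `n i`, index `0` the largest) and `(F, π, Q, q)` the partial flag scheme of the
truncated type `n ∘ Fin.castSucc` (the first `m+1` steps). Then the morphism `F' ⟶ F` over `X`
classifying the first `m+1` universal quotients of `F'`, together with the last universal quotient
`Q' (m+1)` and the epimorphism onto it from the pulled-back `Q m` (through the classifying
isomorphism and the factoring map `Q' m ⟶ Q' (m+1)`), is the Grassmannian over `F` of rank-`n (m+1)`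
locally free quotients of the last universal quotient `Q m` of `F`. (The source takes the base of
finite type over a field, `E` locally free of finite rank and the ranks positive and strictly
decreasing; the statement is made here for any base scheme, any module and any type.) -/
theorem result (X F F' : Scheme.{u}) (π : F ⟶ X) (π' : F' ⟶ X) (E : X.Modules)
    (m : ℕ) (n : Fin (m + 2) → ℕ)
    (Q : Fin (m + 1) → F.Modules) (q : ∀ i, (Scheme.Modules.pullback π).obj E ⟶ Q i)
    (hF : Grass.IsFlag π E (fun i => n (Fin.castSucc i)) Q q)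
    (Q' : Fin (m + 2) → F'.Modules) (q' : ∀ i, (Scheme.Modules.pullback π').obj E ⟶ Q' i)
    (hF' : Grass.IsFlag π' E n Q' q') :
    Grass.IsGrass
      (hF.lift π' (fun i => Q' (Fin.castSucc i)) (fun i => hF'.rank (Fin.castSucc i)) (fun i => q' (Fin.castSucc i))
        (fun i => hF'.epi (Fin.castSucc i))
        (fun i j hij => hF'.nested (Fin.castSucc i) (Fin.castSucc j) (Fin.castSucc_le_castSucc_iff.mpr hij)))
      (Q (Fin.last m)) (n (Fin.last (m + 1))) (Q' (Fin.last (m + 1)))
      ((hF.liftIso π' (fun i => Q' (Fin.castSucc i)) (fun i => hF'.rank (Fin.castSucc i)) (fun i => q' (Fin.castSucc i))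
          (fun i => hF'.epi (Fin.castSucc i))
          (fun i j hij => hF'.nested (Fin.castSucc i) (Fin.castSucc j) (Fin.castSucc_le_castSucc_iff.mpr hij))
          (Fin.last m)).hom ≫
        (hF'.nested (Fin.castSucc (Fin.last m)) (Fin.last (m + 1)) (Fin.le_last _)).choose) := by
  have hnest : ∀ i j : Fin (m + 1), i ≤ j → ∃ t : Q' i.castSucc ⟶ Q' j.castSucc, q' i.castSucc ≫ t = q' j.castSucc :=
    fun i j hij => hF'.nested _ _ (Fin.castSucc_le_castSucc_iff.mpr hij)
  let c : F' ⟶ F := hF.lift π' (fun i => Q' (Fin.castSucc i)) (fun i => hF'.rank _) (fun i => q' (Fin.castSucc i))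
    (fun i => hF'.epi _) hnest
  let ec : ∀ i, (Scheme.Modules.pullback c).obj (Q i) ≅ Q' (Fin.castSucc i) :=
    hF.liftIso π' (fun i => Q' (Fin.castSucc i)) (fun i => hF'.rank _) (fun i => q' (Fin.castSucc i))
    (fun i => hF'.epi _) hnest
  have hcp : c ≫ π = π' := hF.lift_comp _ _ _ _ _ _
  have hec : ∀ i, Grass.quotBC hcp (q i) ≫ (ec i).hom = q' (Fin.castSucc i) :=
    hF.quotBC_liftIso _ _ _ _ _ hnest
  have htop := hF'.nested (Fin.castSucc (Fin.last m)) (Fin.last (m + 1)) (Fin.le_last _)
  let qG := (ec (Fin.last m)).hom ≫ htop.choose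
  have hqG : Grass.quotBC hcp (q (Fin.last m)) ≫ qG = q' (Fin.last (m + 1)) := by
    rw [← Category.assoc, hec, htop.choose_spec]
  show Grass.IsGrass c (Q (Fin.last m)) (n (Fin.last (m + 1))) (Q' (Fin.last (m + 1))) qG
  refine ⟨hF'.rank _, ?_, fun T g L hL s hs => ?_⟩
  · haveI := hF'.epi (Fin.last (m + 1))
    exact epi_of_epi_fac hqG
  let S : T.Modules := (Scheme.Modules.pullback (g ≫ π)).obj E
  let P : Fin (m + 2) → Σ L : T.Modules, S ⟶ L :=
    Fin.lastCases (motive := fun _ => Σ L : T.Modules, S ⟶ L)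
      ⟨L, Grass.quotBC (rfl : g ≫ π = _) (q (Fin.last m)) ≫ s⟩
      (fun i => ⟨(Scheme.Modules.pullback g).obj (Q i), Grass.quotBC (rfl : g ≫ π = _) (q i)⟩)
  have hP₀ : P (Fin.last (m + 1)) = ⟨L, Grass.quotBC (rfl : g ≫ π = _) (q (Fin.last m)) ≫ s⟩ :=
    Fin.lastCases_last
  have hP₁ : ∀ i, P (Fin.castSucc i) =
      ⟨(Scheme.Modules.pullback g).obj (Q i), Grass.quotBC (rfl : g ≫ π = _) (q i)⟩ := fun i =>
    Fin.lastCases_castSucc _
  have hepi : ∀ i, Epi (Grass.quotBC (rfl : g ≫ π = _) (q i)) := fun i => epi_quotBC _ _ (hF.epi i)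
  have hrk₁ : ∀ i, FlatMod.IsFinLocFreeOfRank (n (Fin.castSucc i)) ((Scheme.Modules.pullback g).obj (Q i)) :=
    fun i => isFinLocFreeOfRank_pullback g (hF.rank i)
  have hrk : ∀ i, FlatMod.IsFinLocFreeOfRank (n i) (P i).1 := fun i => by
    induction i using Fin.lastCases with
    | last => rw [hP₀]; exact hL
    | cast i => rw [hP₁]; exact hrk₁ i
  have hPepi : ∀ i, Epi (P i).2 := fun i => by
    induction i using Fin.lastCases with
    | last => rw [hP₀]; haveI := hepi (Fin.last m); haveI := hs; exact epi_comp _ _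
    | cast i => rw [hP₁]; exact hepi i
  have hPnest : ∀ i j : Fin (m + 2), i ≤ j → ∃ t : (P i).1 ⟶ (P j).1, (P i).2 ≫ t = (P j).2 := by
    intro i j hij
    induction j using Fin.lastCases with
    | last =>
      induction i using Fin.lastCases with
      | last => exact ⟨𝟙 _, Category.comp_id _⟩
      | cast i =>
        rw [hP₀, hP₁]
        obtain ⟨t, ht⟩ := hF.nested i (Fin.last m) (Fin.le_last _)
        exact ⟨(Scheme.Modules.pullback g).map t ≫ s, by rw [← Category.assoc, ← quotBC_comp, ht]⟩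
    | cast j =>
      induction i using Fin.lastCases with
      | last => exact absurd hij (not_le.mpr (Fin.castSucc_lt_last j))
      | cast i =>
        rw [hP₁, hP₁]
        obtain ⟨t, ht⟩ := hF.nested i j (Fin.castSucc_le_castSucc_iff.mp hij)
        exact ⟨(Scheme.Modules.pullback g).map t, by rw [← quotBC_comp, ht]⟩
  obtain ⟨h, ⟨hh, e, he⟩, huniq⟩ :=
    hF'.univ T (g ≫ π) (fun i => (P i).1) hrk (fun i => (P i).2) hPepi hPnest
  have hgc : h ≫ c = g := by
    refine (hF.univ T (g ≫ π) (fun i => (Scheme.Modules.pullback g).obj (Q i)) hrk₁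
      (fun i => Grass.quotBC (rfl : g ≫ π = _) (q i)) hepi ?_).unique ?_
      ⟨rfl, fun i => Iso.refl _, fun i => Category.comp_id _⟩
    · intro i j hij
      obtain ⟨t, ht⟩ := hF.nested i j hij
      exact ⟨(Scheme.Modules.pullback g).map t, by rw [← quotBC_comp, ht]⟩
    · have hg' : (h ≫ c) ≫ π = g ≫ π := by rw [Category.assoc, hcp, hh]
      choose e₁ he₁ using fun i => exists_iso_transport (hP₁ i) ⟨e (Fin.castSucc i), he (Fin.castSucc i)⟩
      haveI : ∀ i, IsIso (Grass.quotBC (rfl : h ≫ c = _) (ec i).hom) := fun i => isIso_quotBC _ _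
      refine ⟨hg', fun i => asIso (Grass.quotBC (rfl : h ≫ c = _) (ec i).hom) ≪≫ e₁ i, fun i => ?_⟩
      rw [Iso.trans_hom, asIso_hom, ← Category.assoc, quotBC_quotBC hg' rfl hcp hh, hec]
      exact he₁ i
  refine ⟨h, ⟨hgc, ?_⟩, ?_⟩
  · obtain ⟨e₀, he₀⟩ := exists_iso_transport hP₀ ⟨e (Fin.last (m + 1)), he (Fin.last (m + 1))⟩
    refine ⟨e₀, ?_⟩
    haveI := hepi (Fin.last m)
    rw [← cancel_epi (Grass.quotBC (rfl : g ≫ π = _) (q (Fin.last m))), ← Category.assoc,
      quotBC_quotBC rfl hgc hcp hh, hqG]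
    exact he₀
  · rintro h' ⟨hg', e', he'⟩
    have hh' : h' ≫ π' = g ≫ π := by rw [← hcp, ← Category.assoc, hg']
    apply huniq
    have hall : ∀ i, ∃ e'' : (Scheme.Modules.pullback h').obj (Q' i) ≅ (P i).1,
        Grass.quotBC hh' (q' i) ≫ e''.hom = (P i).2 := by
      intro i
      induction i using Fin.lastCases with
      | last =>
        refine exists_iso_transport hP₀.symm ⟨e', ?_⟩
        rw [← hqG, ← quotBC_quotBC rfl hg' hcp hh', Category.assoc]
        exact congrArg (Grass.quotBC (rfl : g ≫ π = _) (q (Fin.last m)) ≫ ·) he'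
      | cast i =>
        haveI := isIso_quotBC hg' (ec i).hom
        refine exists_iso_transport (hP₁ i).symm ⟨(asIso (Grass.quotBC hg' (ec i).hom)).symm, ?_⟩
        rw [Iso.symm_hom, asIso_inv, IsIso.comp_inv_eq, quotBC_quotBC rfl hg' hcp hh', hec]
    choose e'' he'' using hall
    exact ⟨hh', e'', he''⟩

end Groth.Agent.S19663
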