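import Groth.Statements.S1967
import Mathlib
import Groth.Agent.Hens.Construction
import Groth.Agent.Hens.Unique
import Groth.Agent.Hensel.EtLike
import Groth.Agent.Hensel.EtLikeNormal
import Groth.Agent.WEtale.Olivier
import Groth.Agent.WEtale.Local
import Groth.Agent.S0679

set_option autoImplicit false
universe u
open TensorProduct
open EtAlg
open scoped TensorProduct

namespace Groth.Agent.S1967

lemma mem_span_of_flat_local (Bq S : Type u) [CommRing Bq] [IsLocalRing Bq] [CommRing S] [IsLocalRing S]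
    [IsDomain S] [IsIntegrallyClosed S] (ψ : Bq →+* S) (hψ : ψ.Flat) [IsLocalHom ψ]
    (a b : Bq) (ha : ψ a ≠ 0) (P : Polynomial Bq) (hP : P.Monic) (hroot : Polynomial.aeval b (P.scaleRoots a) = 0) :
    b ∈ Ideal.span {a} := by
  letI := ψ.toAlgebra
  haveI : Module.Flat Bq S := hψ
  haveI : IsLocalHom (algebraMap Bq S) := ‹IsLocalHom ψ›
  haveI : Module.FaithfullyFlat Bq S := Module.FaithfullyFlat.of_flat_of_isLocalHom
  let F := FractionRing S
  have hF : algebraMap S F (ψ a) ≠ 0 := (map_ne_zero_iff _ (IsFractionRing.injective S F)).2 ha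
  set u : F := algebraMap S F (ψ b) / algebraMap S F (ψ a)
  have hu : IsIntegral S u := by
    refine ⟨P.map ψ, hP.map ψ, ?_⟩
    rw [Polynomial.eval₂_map]
    set φ := (algebraMap S F).comp ψ
    have h1 := Polynomial.scaleRoots_eval₂_mul φ (p := P) u a
    have hu' : φ a * u = φ b := by
      change algebraMap S F (ψ a) * (algebraMap S F (ψ b) / algebraMap S F (ψ a)) = _
      rw [mul_div_cancel₀ _ hF]; rfl
    rw [hu', Polynomial.eval₂_at_apply] at h1
    rw [Polynomial.coe_aeval_eq_eval] at hroot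
    rw [hroot, map_zero] at h1
    exact (mul_eq_zero.1 h1.symm).resolve_left (pow_ne_zero _ hF)
  obtain ⟨s, hs⟩ := IsIntegrallyClosed.isIntegral_iff.1 hu
  have hmem : ψ b ∈ (Ideal.span {a}).map ψ := by
    rw [Ideal.map_span, Set.image_singleton, Ideal.mem_span_singleton]
    refine ⟨s, IsFractionRing.injective S F ?_⟩
    rw [map_mul, hs, mul_div_cancel₀ _ hF]
  have := Ideal.comap_map_eq_self_of_faithfullyFlat (B := S) (Ideal.span {a})
  rw [← this]
  exact hmem

attribute [local instance] Algebra.TensorProduct.rightAlgebra in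
/-- A local ring weakly etale over a normal local domain maps flatly and locally to a normal domain. -/
lemma exists_flat_local_hom (R C : Type u) [CommRing R] [IsLocalRing R] [IsDomain R] [IsIntegrallyClosed R]
    [CommRing C] [IsLocalRing C] [Algebra R C] [IsLocalHom (algebraMap R C)] [Algebra.WeaklyEtale R C] :
    ∃ (S : Type u) (_ : CommRing S) (_ : IsLocalRing S) (_ : IsDomain S) (_ : IsIntegrallyClosed S) (ψ : C →+* S),
      ψ.Flat ∧ IsLocalHom ψ ∧ Function.Injective (ψ.comp (algebraMap R C)) := by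
  classical
  let Ω := SeparableClosure (IsLocalRing.ResidueField R)
  let S := Hens.EtLoc R Ω
  have hel : Hensel.IsEtLike R S := Hensel.IsEtLike.of_algEquiv_etLoc (K := Ω) AlgEquiv.refl
  obtain ⟨hdom, hnorm⟩ := hel.isDomain_and_isIntegrallyClosed
  haveI : IsSepClosed (IsLocalRing.ResidueField S) :=
    S0679.isSepClosed_of_ringEquiv (Hens.residueEquiv (Hens.point_surjective (R := R) (K := Ω))).symm
  haveI := hel.faithfullyFlat
  haveI : Module.Flat R C := inferInstance
  let e : C ⊗[R] S ≃ₐ[C] S ⊗[R] C :=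
    { (Algebra.TensorProduct.comm R C S).toRingEquiv with
      commutes' := fun c ↦ by
        change Algebra.TensorProduct.comm R C S (c ⊗ₜ 1) = _
        rw [Algebra.TensorProduct.comm_tmul]
        rfl }
  haveI : Module.FaithfullyFlat C (S ⊗[R] C) := Module.FaithfullyFlat.of_linearEquiv C (C ⊗[R] S) e.symm.toLinearEquiv
  obtain ⟨⟨Q, hQp⟩, hQ⟩ := PrimeSpectrum.comap_surjective_of_faithfullyFlat
    (A := C) (B := S ⊗[R] C) ⟨IsLocalRing.maximalIdeal C, inferInstance⟩
  haveI := hQp
  replace hQ : Q.comap (algebraMap C (S ⊗[R] C)) = IsLocalRing.maximalIdeal C := congrArg PrimeSpectrum.asIdeal hQ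
  have hQS : IsLocalRing.maximalIdeal S = Q.comap (algebraMap S (S ⊗[R] C)) := by
    refine (IsLocalRing.maximalIdeal.isMaximal S).eq_of_le (Ideal.IsPrime.ne_top inferInstance) ?_
    rw [← hel.map_max, Ideal.map_le_iff_le_comap]
    intro r hr
    rw [Ideal.mem_comap, Ideal.mem_comap, ← IsScalarTower.algebraMap_apply R S (S ⊗[R] C)]
    have h2 : algebraMap R C r ∈ Q.comap (algebraMap C (S ⊗[R] C)) := by
      rw [hQ]
      exact fun hu ↦ hr (isUnit_of_map_unit (algebraMap R C) r hu)
    rw [Ideal.mem_comap] at h2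
    convert h2 using 1
    exact (Algebra.TensorProduct.tmul_one_eq_one_tmul r)
  let W := Localization.AtPrime Q
  haveI : Algebra.WeaklyEtale (S ⊗[R] C) W := WEtale.Local.of_isLocalization Q.primeCompl
  haveI : Algebra.WeaklyEtale S W := Algebra.WeaklyEtale.trans S (S ⊗[R] C) W
  haveI : IsLocalHom (algebraMap S W) := by
    refine ⟨fun s hs ↦ ?_⟩
    by_contra hns
    have h1 : s ∈ Q.comap (algebraMap S (S ⊗[R] C)) := hQS ▸ (IsLocalRing.mem_maximalIdeal s).2 hns
    rw [IsScalarTower.algebraMap_apply S (S ⊗[R] C) W] at hs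
    exact ((IsLocalization.AtPrime.isUnit_to_map_iff W Q _).1 hs) h1
  have hbij := WEtale.Olivier.bijective S W
  let χ : W ≃+* S := (RingEquiv.ofBijective (algebraMap S W) hbij).symm
  let ψ : C →+* S := χ.toRingHom.comp ((algebraMap (S ⊗[R] C) W).comp (algebraMap C (S ⊗[R] C)))
  refine ⟨S, inferInstance, inferInstance, hdom, hnorm, ψ, ?_, ?_, ?_⟩
  · refine RingHom.Flat.comp (RingHom.Flat.comp ?_ ?_) (RingHom.Flat.of_bijective χ.bijective)
    · exact RingHom.flat_algebraMap_iff.2 inferInstance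
    · exact RingHom.flat_algebraMap_iff.2 (IsLocalization.flat W Q.primeCompl)
  · refine ⟨fun c hc ↦ ?_⟩
    by_contra hnc
    have h1 : c ∈ Q.comap (algebraMap C (S ⊗[R] C)) := hQ.symm ▸ (IsLocalRing.mem_maximalIdeal c).2 hnc
    have h2 : IsUnit (algebraMap (S ⊗[R] C) W (algebraMap C (S ⊗[R] C) c)) := (isUnit_map_iff χ _).1 hc
    exact ((IsLocalization.AtPrime.isUnit_to_map_iff W Q _).1 h2) h1
  · have : ψ.comp (algebraMap R C) = algebraMap R S := by
      ext r
      change χ (algebraMap (S ⊗[R] C) W (1 ⊗ₜ algebraMap R C r)) = algebraMap R S r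
      rw [← Algebra.TensorProduct.tmul_one_eq_one_tmul, RingEquiv.symm_apply_eq]
      exact (IsScalarTower.algebraMap_apply S (S ⊗[R] C) W (algebraMap R S r)).symm
    rw [this]
    exact hel.algebraMap_injective

lemma local_dvd (A B : Type u) [CommRing A] [IsDomain A] [IsIntegrallyClosed A] [CommRing B] [Algebra A B]
    [Algebra.WeaklyEtale A B] (q : Ideal B) [q.IsPrime] (a : A) (ha : a ≠ 0) (b : B) (P : Polynomial B) (hP : P.Monic)
    (hroot : Polynomial.aeval b (P.scaleRoots (algebraMap A B a)) = 0) :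
    ∃ s, s ∉ q ∧ s * b ∈ Ideal.span {algebraMap A B a} := by
  classical
  set p := q.comap (algebraMap A B) with hp
  let Ap := Localization.AtPrime p
  let Bq := Localization.AtPrime q
  letI : Algebra Ap Bq := (Localization.localRingHom p q (algebraMap A B) rfl).toAlgebra
  haveI : IsLocalHom (algebraMap Ap Bq) := Localization.isLocalHom_localRingHom p q (algebraMap A B) rfl
  haveI : Algebra.WeaklyEtale Ap Bq := WEtale.Local.weaklyEtale_localRingHom p q rfl
  haveI : IsIntegrallyClosed Ap :=
    isIntegrallyClosed_of_isLocalization Ap p.primeCompl p.primeCompl_le_nonZeroDivisors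
  obtain ⟨S, _, _, _, _, ψ, hψ, hψl, hψi⟩ := exists_flat_local_hom Ap Bq
  have hne : ψ (algebraMap B Bq (algebraMap A B a)) ≠ 0 := by
    have h1 : algebraMap B Bq (algebraMap A B a) = algebraMap Ap Bq (algebraMap A Ap a) :=
      (Localization.localRingHom_to_map p q (algebraMap A B) rfl a).symm
    rw [h1]
    intro h0
    have := hψi (a₁ := algebraMap A Ap a) (a₂ := 0) (by rw [map_zero]; exact h0)
    exact ha (IsLocalization.injective Ap p.primeCompl_le_nonZeroDivisors (this.trans (map_zero _).symm))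
  have hmem := mem_span_of_flat_local Bq S ψ hψ _ (algebraMap B Bq b) hne (P.map (algebraMap B Bq)) (hP.map _) (by
    rw [← Polynomial.map_scaleRoots _ _ _ (by rw [hP.leadingCoeff, map_one]; exact one_ne_zero),
      Polynomial.aeval_map_algebraMap, Polynomial.aeval_algebraMap_apply, hroot, map_zero])
  rw [← Set.image_singleton, ← Ideal.map_span, IsLocalization.mem_map_algebraMap_iff q.primeCompl] at hmem
  obtain ⟨⟨⟨t, ht⟩, ⟨s, hs⟩⟩, hts⟩ := hmem
  rw [← map_mul] at hts
  obtain ⟨⟨u, hu⟩, hu'⟩ := (IsLocalization.eq_iff_exists q.primeCompl Bq).1 hts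
  refine ⟨u * s, q.primeCompl.mul_mem hu hs, ?_⟩
  rw [show u * s * b = u * (b * s) by ring, hu']
  exact Ideal.mul_mem_left _ _ ht

/-- If A is an integrally closed domain with fraction field K and B is weakly etale over A, then every
element of B ⊗_A K that is integral over B (via b ↦ b ⊗ 1) already comes from B. -/
theorem result (A : Type u) [CommRing A] [IsDomain A] [IsIntegrallyClosed A]
    (K : Type u) [Field K] [Algebra A K] [IsFractionRing A K] (B : Type u) [CommRing B] [Algebra A B]
    [Algebra.WeaklyEtale A B] :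
    IsIntegrallyClosedIn B (B ⊗[A] K) := by
  classical
  rw [isIntegrallyClosedIn_iff]
  have hinj : Function.Injective (algebraMap B (B ⊗[A] K)) :=
    Algebra.TensorProduct.includeLeft_injective (S := A) (IsFractionRing.injective A K)
  refine ⟨hinj, fun {x} hx ↦ ?_⟩
  obtain ⟨a, b, hab⟩ : ∃ (a : nonZeroDivisors A) (b : B), algebraMap A (B ⊗[A] K) a * x = b ⊗ₜ 1 := by
    clear hx
    induction x with
    | zero => exact ⟨1, 0, by simp⟩
    | tmul c k =>
      obtain ⟨⟨n, a⟩, hna⟩ := IsLocalization.surj (nonZeroDivisors A) k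
      refine ⟨a, n • c, ?_⟩
      rw [← Algebra.smul_def, TensorProduct.smul_tmul', TensorProduct.smul_tmul, Algebra.smul_def, mul_comm,
        hna, TensorProduct.smul_tmul, Algebra.smul_def, mul_one]
    | add u v hu hv =>
      obtain ⟨a, b, hab⟩ := hu
      obtain ⟨a', b', hab'⟩ := hv
      refine ⟨a * a', (a' : A) • b + (a : A) • b', ?_⟩
      have hs : ∀ (r : A) (c : B), (r • c) ⊗ₜ[A] (1 : K) = algebraMap A (B ⊗[A] K) r * (c ⊗ₜ 1) := fun r c ↦ by
        rw [← Algebra.smul_def, TensorProduct.smul_tmul']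
      rw [Submonoid.coe_mul, map_mul, TensorProduct.add_tmul, hs, hs, ← hab, ← hab']
      ring
  obtain ⟨P, hPm, hP⟩ := hx
  set aB := algebraMap A B (a : A)
  have hroot : Polynomial.aeval b (Polynomial.scaleRoots P aB) = 0 := by
    apply hinj
    rw [map_zero, ← Polynomial.aeval_algebraMap_apply]
    have h1 := Polynomial.scaleRoots_eval₂_mul (algebraMap B (B ⊗[A] K)) (p := P) x aB
    have h2 : algebraMap B (B ⊗[A] K) b = algebraMap B (B ⊗[A] K) aB * x := by
      rw [← IsScalarTower.algebraMap_apply, hab]; rfl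
    rw [h2, Polynomial.aeval_def, h1, hP, mul_zero]
  have key : ∀ q : Ideal B, q.IsMaximal → ∃ s, s ∉ q ∧ s * b ∈ Ideal.span {aB} :=
    fun q hq ↦ local_dvd A B q a (nonZeroDivisors.ne_zero a.2) b P hPm hroot
  obtain ⟨c, hc⟩ : aB ∣ b := by
    let J : Ideal B := Submodule.comap (LinearMap.toSpanSingleton B B b) (Ideal.span {aB})
    have hJ : J = ⊤ := by
      by_contra h
      obtain ⟨q, hq, hle⟩ := Ideal.exists_le_maximal J h
      obtain ⟨s, hs, hsb⟩ := key q hq
      exact hs (hle hsb)
    have : (1 : B) * b ∈ Ideal.span {aB} := (Ideal.eq_top_iff_one J).1 hJ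
    rwa [one_mul, Ideal.mem_span_singleton] at this
  refine ⟨c, ?_⟩
  have hu : IsUnit (algebraMap A (B ⊗[A] K) a) := by
    have h2 : algebraMap A (B ⊗[A] K) a = (Algebra.TensorProduct.includeRight : K →ₐ[A] B ⊗[A] K) (algebraMap A K a) :=
      (AlgHom.commutes _ _).symm
    rw [h2]
    exact (IsLocalization.map_units K a).map _
  refine hu.mul_left_cancel ?_
  rw [hab, hc, IsScalarTower.algebraMap_apply A B (B ⊗[A] K), ← map_mul]
  rfl

end Groth.Agent.S1967
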