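import Groth.Statements.S19679
import Groth.Agent.ChGrpLib.BalProd
-- import your own Groth.Agent.* helpers here

set_option autoImplicit false
universe u
open CategoryTheory MonoidalCategory CartesianMonoidalCategory MonObj AlgebraicGeometry
open ChGrp

namespace Groth.Agent.S19679

open Groth.Agent.GITLib Groth.Agent.ChGrpLib

/-- Let k be an algebraically closed field of characteristic zero, G and H affine group schemes of
finite type over k (algebraic groups) with i : H → G a homomorphism which is a closed immersion, and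
Z a reduced affine k-scheme of finite type (an affine variety) with an action of H. Let Y, with its
G-action and j : G × Z → Y, be the balanced product G ×^H Z for the fppf topology: j is
G-equivariant for left translation on the first factor, it is a torsor for the twisted H-action
h·(g, z) = (g i(h)⁻¹, h·z), and it has sections fppf-locally on Y. If π_Z : Z → P is a categorical
quotient of Z by H and π_Y : Y → Q a categorical quotient of Y by G, then the projection G × Z → Z
induces an isomorphism Q ≅ P, inverse to the morphism induced by the H-invariant map z ↦ π_Y(j(e,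
z)): there are mutually inverse φ : P → Q and χ : Q → P with π_Z followed by φ equal to z ↦ π_Y(j(e,
z)) and j followed by π_Y and χ equal to the projection followed by π_Z (so Y//G ≅ Z//H). (The
source assumes G and H reductive and defines G ×^H Z as the quotient (G × Z)//H, a principal
H-bundle; here the quotients are part of the data, the balanced product is taken in its torsor form,
and reductivity is not needed.) -/
theorem result
    (k : Type u) [Field k] [IsAlgClosed k] [CharZero k]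
    (G H Z Y P Q : Over (Spec (CommRingCat.of k))) [GrpObj G] [GrpObj H]
    [IsAffine G.left] [LocallyOfFiniteType G.hom] [IsAffine H.left] [LocallyOfFiniteType H.hom]
    (i : H ⟶ G) [IsMonHom i] [IsClosedImmersion i.left]
    [IsAffine Z.left] [LocallyOfFiniteType Z.hom] [IsReduced Z.left]
    (aZ : AlgGrp.Action H Z) (aY : AlgGrp.Action G Y) (j : G ⊗ Z ⟶ Y)
    (hY : ChGrp.IsBalProd Scheme.fppfPrecoverage i aZ aY j)
    (πZ : Z ⟶ P) (hP : GIT.IsCatQuot aZ πZ) (πY : Y ⟶ Q) (hQ : GIT.IsCatQuot aY πY) :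
    ∃ (φ : P ⟶ Q) (χ : Q ⟶ P), φ ≫ χ = 𝟙 P ∧ χ ≫ φ = 𝟙 Q ∧
      πZ ≫ φ = lift (toUnit Z ≫ η[G]) (𝟙 Z) ≫ j ≫ πY ∧ j ≫ πY ≫ χ = snd G Z ≫ πZ := by
  have hK : Scheme.fppfPrecoverage.{u} ≤ Scheme.fpqcPrecoverage := Scheme.fppfPrecoverage_le_fpqcPrecoverage
  have e1 : toUnit Z ≫ η[G] = (1 : Z ⟶ G) := (Hom.one_def).symm
  have invY : ∀ {T : Over (Spec (CommRingCat.of k))} (g : T ⟶ G) (y : T ⟶ Y), (lift g y ≫ aY.act) ≫ πY = y ≫ πY :=
    fun g y => by rw [Category.assoc, hQ.1, lift_snd_assoc]
  have invZ : ∀ {T : Over (Spec (CommRingCat.of k))} (g : T ⟶ H) (z : T ⟶ Z), (lift g z ≫ aZ.act) ≫ πZ = z ≫ πZ :=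
    fun g z => by rw [Category.assoc, hP.1, lift_snd_assoc]
  obtain ⟨φ, hφ, -⟩ := hP.2 Q (lift (toUnit Z ≫ η[G]) (𝟙 Z) ≫ j ≫ πY) (by
    show aZ.act ≫ _ = snd H Z ≫ _
    rw [e1, comp_lift_assoc, comp_lift_assoc, Category.comp_id, Category.comp_id, MonObj.comp_one, MonObj.comp_one,
      ← Category.assoc (lift _ _), ← Category.assoc (lift _ _)]
    rw [show lift (1 : H ⊗ Z ⟶ G) aZ.act ≫ j = lift (fst H Z ≫ i) (snd H Z) ≫ j from
      ((balProd_eq_iff hY _ _ _ _).2 ⟨fst H Z, (mul_inv_cancel _).symm,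
        by rw [lift_fst_snd, Category.id_comp]⟩).symm]
    rw [← _root_.mul_one (fst H Z ≫ i), balProd_equivariant hY, invY])
  obtain ⟨v, hv⟩ := balProd_desc hK hY (snd G Z ≫ πZ) (by
    have e₀ : lift (fst H (G ⊗ Z)) (lift (snd H (G ⊗ Z) ≫ fst G Z) (snd H (G ⊗ Z) ≫ snd G Z)) = 𝟙 _ := by
      rw [lift_comp_fst_snd, lift_fst_snd]
    rw [← Category.id_comp ((ChGrp.twist i aZ).act ≫ _), ← e₀, ← Category.assoc, ChGrp.lift_twist_act,
      lift_snd_assoc, invZ, Category.assoc])
  have hvp : ∀ {T : Over (Spec (CommRingCat.of k))} (g : T ⟶ G) (z : T ⟶ Z), (lift g z ≫ j) ≫ v = z ≫ πZ :=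
    fun g z => by rw [Category.assoc, hv, lift_snd_assoc]
  obtain ⟨χ, hχ, -⟩ := hQ.2 P v (by
    show aY.act ≫ v = snd G Y ≫ v
    refine hom_ext_q (liftSieve_mem j hK hY.2.2 (snd G Y)) fun T f hf => ?_
    obtain ⟨p, hp⟩ := hf
    have e : f = lift (f ≫ fst G Y) (lift (p ≫ fst G Z) (p ≫ snd G Z) ≫ j) := by
      rw [lift_comp_fst_snd, hp, lift_comp_fst_snd]
    conv_lhs => rw [e]
    rw [← Category.assoc f, ← hp, ← Category.assoc, ← balProd_equivariant hY, hvp, Category.assoc, Category.assoc, hv])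
  have hjπ : j ≫ πY = snd G Z ≫ lift (toUnit Z ≫ η[G]) (𝟙 Z) ≫ j ≫ πY := by
    have e0 : lift (fst G Z * 1) (snd G Z) ≫ j = j := by rw [_root_.mul_one, lift_fst_snd, Category.id_comp]
    conv_lhs => rw [← e0, balProd_equivariant hY, invY]
    rw [e1, comp_lift_assoc, MonObj.comp_one, Category.comp_id, Category.assoc]
  refine ⟨φ, χ, ?_, ?_, hφ, ?_⟩
  · refine (hP.2 P πZ hP.1).unique ?_ (Category.comp_id _)
    rw [reassoc_of% hφ, hχ, hv, lift_snd_assoc, Category.id_comp]
  · refine (hQ.2 Q πY hQ.1).unique ?_ (Category.comp_id _)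
    rw [reassoc_of% hχ]
    refine balProd_hom_ext hK hY ?_
    rw [reassoc_of% hv, hφ]
    exact hjπ.symm
  · rw [hχ, hv]

end Groth.Agent.S19679
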