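import Groth.Statements.S1969
import Mathlib

set_option autoImplicit false
universe u
open EtAlg

namespace Groth.Agent.S1969

/-- a submodule is flat if its finitely generated submodules are -/
lemma flat_of_fg_le {A : Type u} [CommRing A] {M : Type*} [AddCommGroup M] [Module A M] (N : Submodule A M)
    (h : ∀ J : Submodule A M, J.FG → J ≤ N → Module.Flat A J) : Module.Flat A N := by
  refine Module.Flat.of_forall_isTrivialRelation fun {l f x} hfx ↦ ?_
  let J : Submodule A M := Submodule.span A (Set.range fun i ↦ (x i : M))
  have hJ : J ≤ N := Submodule.span_le.2 (by rintro _ ⟨i, rfl⟩; exact (x i).2)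
  haveI := h J (Submodule.fg_span (Set.finite_range _)) hJ
  let x' : Fin l → J := fun i ↦ ⟨x i, Submodule.subset_span ⟨i, rfl⟩⟩
  have hx' : ∑ i, f i • x' i = 0 := Subtype.ext (by
    have := congrArg Subtype.val hfx
    simpa [x'] using this)
  obtain ⟨k, a, y, hy, ha⟩ := Module.Flat.isTrivialRelation_of_sum_smul_eq_zero hx'
  refine ⟨k, a, fun j ↦ ⟨y j, hJ (y j).2⟩, fun i ↦ Subtype.ext ?_, ha⟩
  have := congrArg Subtype.val (hy i)
  simpa [x'] using this

open scoped TensorProduct in
/-- submodules of flat modules are flat if finitely generated ideals are -/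
lemma flat_submodule {A : Type u} [CommRing A] (hfg : ∀ I : Ideal A, I.FG → Module.Flat A I)
    (M : Type u) [AddCommGroup M] [Module A M] [Module.Flat A M] (N : Submodule A M) : Module.Flat A N := by
  rw [Module.Flat.iff_lift_lsmul_comp_subtype_injective]
  intro I hI
  haveI := hfg I hI
  have h1 : Function.Injective (LinearMap.lTensor (↥I) N.subtype) :=
    Module.Flat.lTensor_preserves_injective_linearMap _ N.injective_subtype
  have h2 : Function.Injective (TensorProduct.lift ((LinearMap.lsmul A M).comp I.subtype)) :=
    (Module.Flat.iff_lift_lsmul_comp_subtype_injective.1 ‹Module.Flat A M›) hI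
  have heq : N.subtype.comp (TensorProduct.lift ((LinearMap.lsmul A N).comp I.subtype)) =
      (TensorProduct.lift ((LinearMap.lsmul A M).comp I.subtype)).comp (LinearMap.lTensor (↥I) N.subtype) :=
    TensorProduct.ext' fun a b ↦ by simp
  refine Function.Injective.of_comp (f := N.subtype) ?_
  rw [← LinearMap.coe_comp, heq, LinearMap.coe_comp]
  exact h2.comp h1

open IsLocalRing in
/-- a local ring with flat finitely generated ideals is a valuation domain -/
lemma valuationRing_of_flat (R : Type u) [CommRing R] [IsLocalRing R] (h : ∀ I : Ideal R, I.FG → Module.Flat R I) :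
    ∃ _ : IsDomain R, ValuationRing R := by
  classical
  have hfree : ∀ I : Ideal R, I.FG → ∃ g : R, I = Ideal.span {g} ∧ (g ≠ 0 → ∀ a, a * g = 0 → a = 0) := by
    intro I hI
    haveI := h I hI
    haveI : Module.Finite R I := Module.Finite.iff_fg.2 hI
    haveI : Module.Free R I := Module.free_of_flat_of_isLocalRing
    let b := Module.Free.chooseBasis R I
    haveI hsub : Subsingleton (Module.Free.ChooseBasisIndex R I) := ⟨fun i j ↦ by
      by_contra hij
      have hne : (b i : R) ≠ 0 := fun h0 ↦ b.ne_zero i (Subtype.ext h0)
      have hli := b.linearIndependent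
      have hrel : (b j : R) • b i - (b i : R) • b j = 0 := Subtype.ext (by simp [mul_comm])
      have h3 : b.repr ((b j : R) • b i - (b i : R) • b j) j = -(b i : R) := by
        rw [map_sub, map_smul, map_smul, b.repr_self, b.repr_self]
        simp [Finsupp.single_apply, hij]
      rw [hrel, map_zero, Finsupp.zero_apply, eq_comm, neg_eq_zero] at h3
      exact hne h3⟩
    rcases isEmpty_or_nonempty (Module.Free.ChooseBasisIndex R I) with he | ⟨⟨i⟩⟩
    · haveI : Subsingleton I := b.repr.toEquiv.subsingleton
      refine ⟨0, ?_, fun h0 ↦ (h0 rfl).elim⟩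
      rw [Ideal.span_singleton_zero]
      exact Submodule.eq_bot_of_subsingleton
    · letI : Unique (Module.Free.ChooseBasisIndex R I) := uniqueOfSubsingleton i
      refine ⟨b i, le_antisymm (fun x hx ↦ ?_) ((Ideal.span_singleton_le_iff_mem _).2 (b i).2), fun _ a ha ↦ ?_⟩
      · rw [Ideal.mem_span_singleton']
        refine ⟨b.repr ⟨x, hx⟩ i, ?_⟩
        have := congrArg Subtype.val (b.sum_repr ⟨x, hx⟩)
        rw [Fintype.sum_unique] at this
        simpa [Subsingleton.elim i default] using this
      · have h4 : b.repr (a • b i) i = a := by simp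
        rw [show a • b i = 0 from Subtype.ext (by simpa using ha), map_zero, Finsupp.zero_apply] at h4
        exact h4.symm
  haveI : NoZeroDivisors R := ⟨fun {a c} hac ↦ by
    obtain ⟨g, hg, hann⟩ := hfree (Ideal.span {c}) (Submodule.fg_span_singleton c)
    by_contra hne
    push Not at hne
    obtain ⟨r, hr⟩ := Ideal.mem_span_singleton'.1 (hg ▸ Ideal.mem_span_singleton_self c : c ∈ Ideal.span {g})
    obtain ⟨t, ht⟩ := Ideal.mem_span_singleton'.1 (hg.symm ▸ Ideal.mem_span_singleton_self g : g ∈ Ideal.span {c})
    have hg0 : g ≠ 0 := fun h0 ↦ hne.2 (by rw [← hr, h0, mul_zero])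
    exact hne.1 (hann hg0 a (by rw [← ht, mul_left_comm, hac, mul_zero]))⟩
  haveI : IsDomain R := NoZeroDivisors.to_isDomain R
  haveI : IsBezout R := ⟨fun I hI ↦ by
    obtain ⟨g, hg, -⟩ := hfree I hI
    exact ⟨g, hg⟩⟩
  exact ⟨inferInstance, inferInstance⟩

/-- For a commutative ring A these are equivalent — all ideals are flat A-modules; all finitely
generated ideals are flat; flatness passes to submodules of flat modules; each localization at a
prime is a valuation ring (in particular a domain). Condition (1), weak dimension at most one, is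
not stated. -/
theorem result (A : Type u) [CommRing A] :
    List.TFAE [∀ I : Ideal A, Module.Flat A I,
      ∀ I : Ideal A, I.FG → Module.Flat A I,
      ∀ (M : Type u) [AddCommGroup M] [Module A M], Module.Flat A M → ∀ N : Submodule A M, Module.Flat A N,
      ∀ (p : Ideal A) [p.IsPrime], ∃ _ : IsDomain (Localization.AtPrime p), ValuationRing (Localization.AtPrime p)] := by
  classical
  tfae_have 1 → 2 := fun h I _ ↦ h I
  tfae_have 2 → 3 := fun h M _ _ hM N ↦ flat_submodule h M N
  tfae_have 3 → 1 := fun h I ↦ h A inferInstance I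
  tfae_have 1 → 4 := fun h p _ ↦ by
    refine valuationRing_of_flat _ fun J _ ↦ ?_
    let S := Localization.AtPrime p
    obtain ⟨I, rfl⟩ : ∃ I : Ideal A, J = I.map (algebraMap A S) :=
      ⟨J.comap (algebraMap A S), (IsLocalization.map_comap p.primeCompl S J).symm⟩
    haveI := h I
    haveI : IsLocalizedModule p.primeCompl (Algebra.idealMap (S := S) I) := inferInstance
    exact Module.Flat.of_isLocalizedModule S p.primeCompl (Algebra.idealMap (S := S) I)
  tfae_have 4 → 1 := fun h I ↦ by
    refine Module.flat_of_localized_maximal (R := A) I fun P hP ↦ ?_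
    obtain ⟨hd, hv⟩ := h P
    haveI := hd
    haveI := hv
    let S := Localization.AtPrime P
    let φ₀ : LocalizedModule P.primeCompl I →ₗ[A] S :=
      IsLocalizedModule.map P.primeCompl (LocalizedModule.mkLinearMap P.primeCompl I)
        (Algebra.linearMap A S) I.subtype
    have hinj : Function.Injective φ₀ :=
      IsLocalizedModule.map_injective P.primeCompl _ _ I.subtype I.injective_subtype
    let φ : LocalizedModule P.primeCompl I →ₗ[S] S := φ₀.extendScalarsOfIsLocalization P.primeCompl S
    haveI : Module.Flat S (LocalizedModule P.primeCompl I) := by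
      rw [Module.Flat.flat_iff_torsion_eq_bot_of_isBezout]
      refine (Submodule.eq_bot_iff _).2 fun x hx ↦ ?_
      obtain ⟨⟨a, ha⟩, hax⟩ := hx
      have h1 : a * φ x = 0 := by
        rw [← smul_eq_mul, ← map_smul]
        simp only [Submonoid.mk_smul] at hax
        rw [hax, map_zero]
      exact hinj ((mul_eq_zero.1 h1).resolve_left (nonZeroDivisors.ne_zero ha) |>.trans (map_zero φ₀).symm)
    exact Module.Flat.trans A S _
  tfae_finish

end Groth.Agent.S1969
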