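import Groth.Statements.S1968
import Mathlib
import Groth.Agent.S1969

set_option autoImplicit false
universe u
open EtAlg

namespace Groth.Agent.S1968

/-- Let (A_j) be a family of valuation rings with fraction fields K_j. Then every ideal of the product
ring Π A_j is a flat Π A_j-module (that is, Π A_j has weak dimension at most 1), and Π K_j is the
localization of Π A_j at its non-zero-divisors. -/
theorem result {J : Type u} (A : J → Type u) [∀ j, CommRing (A j)] [∀ j, IsDomain (A j)]
    [∀ j, ValuationRing (A j)] (K : J → Type u) [∀ j, Field (K j)] [∀ j, Algebra (A j) (K j)]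
    [∀ j, IsFractionRing (A j) (K j)] :
    (∀ I : Ideal (∀ j, A j), Module.Flat (∀ j, A j) I) ∧
      IsLocalization (nonZeroDivisors (∀ j, A j)) (∀ j, K j) := by
  classical
  refine ⟨fun I ↦ ?_, ?_⟩
  · refine Groth.Agent.S1969.flat_of_fg_le I fun J hJ _ ↦ ?_
    haveI : ∀ j, IsBezout (A j) := fun j ↦ inferInstance
    -- `J` is principal
    obtain ⟨s, hs⟩ := hJ
    have hgen : ∀ j, (Ideal.span (s : Set (∀ j, A j))).map (Pi.evalRingHom A j) =
        Ideal.span (((s.image (Pi.evalRingHom A j)) : Finset (A j)) : Set (A j)) := fun j ↦ by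
      rw [Ideal.map_span, Finset.coe_image]
    have hprin : ∀ j, ∃ g : A j, (Ideal.span (s : Set (∀ j, A j))).map (Pi.evalRingHom A j) = Ideal.span {g} := fun j ↦ by
      rw [hgen]
      exact (IsBezout.isPrincipal_of_FG _ ⟨_, rfl⟩).principal
    choose g hg using hprin
    have hgJ : g ∈ J := by
      rw [← hs]
      have hcoef : ∀ j, ∃ c : s → A j, g j = ∑ x : s, c x * (x.1 j) := fun j ↦ by
        have h1 : g j ∈ Ideal.span (Set.range fun x : s ↦ x.1 j) := by
          have h2 : g j ∈ (Ideal.span (s : Set (∀ j, A j))).map (Pi.evalRingHom A j) := by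
            rw [hg]; exact Ideal.mem_span_singleton_self _
          rw [Ideal.map_span] at h2
          convert h2 using 3
          ext y; simp
        obtain ⟨c, hc⟩ := (Submodule.mem_span_range_iff_exists_fun (A j)).1 h1
        exact ⟨c, hc.symm⟩
      choose c hc using hcoef
      have : g = ∑ x : s, (fun j ↦ c j x) * x.1 := funext fun j ↦ by rw [hc j]; simp [Finset.sum_apply]
      rw [this]
      exact Submodule.sum_mem _ fun x _ ↦ Ideal.mul_mem_left _ _ (Ideal.subset_span x.2)
    let e : ∀ j, A j := fun j ↦ if g j = 0 then 0 else 1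
    have hJg : ∀ y ∈ J, ∃ r : ∀ j, A j, r * g = y := fun y hy ↦ by
      have : ∀ j, ∃ r : A j, r * g j = y j := fun j ↦ by
        rw [← Ideal.mem_span_singleton', ← hg]
        exact Ideal.mem_map_of_mem (Pi.evalRingHom A j) (show y ∈ Ideal.span (s : Set (∀ j, A j)) by rw [Ideal.span, hs]; exact hy)
      choose r hr using this
      exact ⟨r, funext hr⟩
    choose r hr using hJg
    have key : ∀ a b : ∀ j, A j, a * g = b * g → a * e = b * e := fun a b h ↦ funext fun j ↦ by
      simp only [e, Pi.mul_apply]
      split_ifs with hj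
      · simp
      · simpa using mul_right_cancel₀ hj (congrFun h j)
    let toJ : (∀ j, A j) →ₗ[∀ j, A j] J := LinearMap.toSpanSingleton (∀ j, A j) J ⟨g, hgJ⟩
    let back : J →ₗ[∀ j, A j] (∀ j, A j) :=
      { toFun := fun y ↦ r y.1 y.2 * e
        map_add' := fun y z ↦ by
          rw [← add_mul]
          exact key _ _ (by rw [hr, add_mul, hr, hr]; rfl)
        map_smul' := fun a y ↦ by
          rw [RingHom.id_apply, smul_eq_mul, ← mul_assoc]
          exact key _ _ (by rw [hr, mul_assoc, hr]; rfl) }
    refine Module.Flat.of_retract back toJ ?_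
    ext y : 1
    refine Subtype.ext ?_
    change r y.1 y.2 * e * g = y.1
    rw [mul_assoc, show e * g = g from funext fun j ↦ by simp only [e, Pi.mul_apply]; split_ifs with hj <;> simp [hj], hr]
  · have hnzd : ∀ b : ∀ j, A j, b ∈ nonZeroDivisors (∀ j, A j) ↔ ∀ j, b j ≠ 0 := by
      intro b
      refine ⟨fun hb j h0 ↦ ?_, fun hb ↦ mem_nonZeroDivisors_iff.2 ⟨fun z hz ↦ funext fun j ↦ ?_, fun z hz ↦ funext fun j ↦ ?_⟩⟩
      · have := (mem_nonZeroDivisors_iff.1 hb).2 (Pi.single j 1) (funext fun i ↦ by
          rcases eq_or_ne i j with rfl | hij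
          · simp [h0]
          · simp [hij])
        exact one_ne_zero (α := A j) (by simpa using congrFun this j)
      · exact ((mul_eq_zero.1 (congrFun hz j)).resolve_left (hb j))
      · exact ((mul_eq_zero.1 (congrFun hz j)).resolve_right (hb j))
    constructor
    constructor
    · rintro ⟨b, hb⟩
      refine Pi.isUnit_iff.2 fun j ↦ isUnit_iff_ne_zero.2 ?_
      exact (map_ne_zero_iff _ (IsFractionRing.injective (A j) (K j))).2 ((hnzd b).1 hb j)
    · intro z
      choose a b hb hab using fun j ↦ IsFractionRing.div_surjective (A := A j) (z j)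
      refine ⟨⟨a, ⟨b, (hnzd b).2 fun j ↦ nonZeroDivisors.ne_zero (hb j)⟩⟩, funext fun j ↦ ?_⟩
      change z j * algebraMap (A j) (K j) (b j) = algebraMap (A j) (K j) (a j)
      rw [← hab j, div_mul_cancel₀]
      exact (map_ne_zero_iff _ (IsFractionRing.injective (A j) (K j))).2 (nonZeroDivisors.ne_zero (hb j))
    · intro x y hxy
      obtain rfl : x = y := funext fun j ↦ IsFractionRing.injective (A j) (K j) (congrFun hxy j)
      exact ⟨1, rfl⟩

end Groth.Agent.S1968
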