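import Groth.Statements.S19681
import Groth.Agent.ChGrpLib.BalProd
import Groth.Prelude.Def_ActBC
-- import your own Groth.Agent.* helpers here

set_option autoImplicit false
universe u
open CategoryTheory MonoidalCategory CartesianMonoidalCategory MonObj AlgebraicGeometry
open ChGrp

namespace Groth.Agent.S19681

open CategoryTheory.Limits
open Groth.Agent.GITLib Groth.Agent.ChGrpLib

/-- Let k be an algebraically closed field of characteristic zero, G and H affine group schemes of
finite type over k with i : H → G a homomorphism which is a closed immersion, and Z a reduced affine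
k-scheme of finite type with an action of H. Let Y, with its G-action and j : G × Z → Y, be the
balanced product G ×^H Z for the fppf topology (j is G-equivariant for left translation on the first
factor, a torsor for the twisted H-action h·(g, z) = (g i(h)⁻¹, h·z), with sections fppf-locally on
Y). Let c : Y' → Y be a closed immersion from a reduced scheme Y' with a G-action making c
equivariant (a closed G-invariant subvariety of Y). Then Y' is again a balanced product: there are a
closed immersion c' : Z' → Z, an H-action on Z' for which c' is equivariant (a closed H-invariant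
subscheme of Z), and a morphism j' : G × Z' → Y' with j' followed by c equal to G × c' followed by
j, such that j' makes Y' the balanced product G ×^H Z' for the fppf topology. (The source assumes G
and H reductive and defines G ×^H Z as the quotient (G × Z)//H, a principal H-bundle; here the
balanced product is taken in its torsor form and reductivity is not needed.) -/
theorem result
    (k : Type u) [Field k] [IsAlgClosed k] [CharZero k]
    (G H Z Y Y' : Over (Spec (CommRingCat.of k))) [GrpObj G] [GrpObj H]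
    [IsAffine G.left] [LocallyOfFiniteType G.hom] [IsAffine H.left] [LocallyOfFiniteType H.hom]
    (i : H ⟶ G) [IsMonHom i] [IsClosedImmersion i.left]
    [IsAffine Z.left] [LocallyOfFiniteType Z.hom] [IsReduced Z.left]
    (aZ : AlgGrp.Action H Z) (aY : AlgGrp.Action G Y) (j : G ⊗ Z ⟶ Y)
    (hY : ChGrp.IsBalProd Scheme.fppfPrecoverage i aZ aY j)
    (c : Y' ⟶ Y) [IsClosedImmersion c.left] [IsReduced Y'.left]
    (aY' : AlgGrp.Action G Y') (hc : AlgGrp.Action.IsEquivariant aY' aY c) :
    ∃ (Z' : Over (Spec (CommRingCat.of k))) (c' : Z' ⟶ Z) (aZ' : AlgGrp.Action H Z') (j' : G ⊗ Z' ⟶ Y'),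
      IsClosedImmersion c'.left ∧ AlgGrp.Action.IsEquivariant aZ' aZ c' ∧
      j' ≫ c = (G ◁ c') ≫ j ∧ ChGrp.IsBalProd Scheme.fppfPrecoverage i aZ' aY' j' := by
  haveI : Mono c := (Over.forget _).mono_of_mono_map (show Mono c.left from inferInstance)
  let e : Z ⟶ Y := lift (1 : Z ⟶ G) (𝟙 Z) ≫ j
  have hep : ∀ {T : Over (Spec (CommRingCat.of k))} (g : T ⟶ G) (z : T ⟶ Z),
      lift g z ≫ j = lift g (z ≫ e) ≫ aY.act := fun {T} g z => by
    conv_lhs => rw [← _root_.mul_one g, balProd_equivariant hY]
    simp only [e, comp_lift_assoc, MonObj.comp_one, Category.comp_id]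
  have heH : ∀ {T : Over (Spec (CommRingCat.of k))} (h : T ⟶ H) (z : T ⟶ Z),
      (lift h z ≫ aZ.act) ≫ e = lift (h ≫ i) (z ≫ e) ≫ aY.act := fun {T} h z => by
    rw [← hep]
    simp only [e, comp_lift_assoc, MonObj.comp_one, Category.comp_id]
    exact ((balProd_eq_iff hY _ _ _ _).2 ⟨h, (mul_inv_cancel _).symm, rfl⟩).symm
  have hceq : ∀ {T : Over (Spec (CommRingCat.of k))} (g : T ⟶ G) (y : T ⟶ Y'),
      (lift g y ≫ aY'.act) ≫ c = lift g (y ≫ c) ≫ aY.act := fun g y => by
    rw [Category.assoc, hc, lift_whiskerLeft_assoc]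
  let Z' : Over (Spec (CommRingCat.of k)) := Over.mk (pullback.fst e.left c.left ≫ Z.hom)
  let c' : Z' ⟶ Z := Over.homMk (pullback.fst e.left c.left) rfl
  let sY : Z' ⟶ Y' := Over.homMk (pullback.snd e.left c.left) (by
    show _ ≫ Y'.hom = pullback.fst e.left c.left ≫ Z.hom
    rw [← Over.w c, ← Category.assoc, ← pullback.condition, Category.assoc, Over.w e])
  haveI hci : IsClosedImmersion c'.left := MorphismProperty.pullback_fst (P := @IsClosedImmersion) _ _ inferInstance
  haveI : Mono c' := (Over.forget _).mono_of_mono_map (show Mono c'.left from inferInstance)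
  have hsq : c' ≫ e = sY ≫ c := Over.OverMorphism.ext pullback.condition
  have hfac : ∀ {T : Over (Spec (CommRingCat.of k))} (z : T ⟶ Z) (y : T ⟶ Y'), z ≫ e = y ≫ c →
      ∃ z' : T ⟶ Z', z' ≫ c' = z := fun {T} z y h =>
    ⟨Over.homMk (pullback.lift z.left y.left (congrArg CommaMorphism.left h)) (by
      show pullback.lift _ _ _ ≫ pullback.fst _ _ ≫ Z.hom = T.hom
      rw [pullback.lift_fst_assoc, Over.w z]), Over.OverMorphism.ext (pullback.lift_fst _ _ _)⟩
  obtain ⟨act', hact'⟩ := hfac ((H ◁ c') ≫ aZ.act) (lift (fst H Z' ≫ i) (snd H Z' ≫ sY) ≫ aY'.act) (by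
    rw [hceq, Category.assoc (snd H Z'), ← hsq, show H ◁ c' = lift (fst H Z') (snd H Z' ≫ c') from
      CartesianMonoidalCategory.hom_ext _ _ (by simp) (by simp), heH, Category.assoc (snd H Z')])
  have hact : ∀ {T : Over (Spec (CommRingCat.of k))} (h : T ⟶ H) (z : T ⟶ Z'),
      (lift h z ≫ act') ≫ c' = lift h (z ≫ c') ≫ aZ.act := fun h z => by
    rw [Category.assoc, hact', lift_whiskerLeft_assoc]
  let aZ' : AlgGrp.Action H Z' :=
    { act := act'
      one_act := by
        rw [← cancel_mono c', Category.assoc, hact', ← MonoidalCategory.whisker_exchange_assoc, aZ.one_act]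
        simp
      mul_act := by
        apply AlgGrp.Action.hom_ext_lift₃
        intro T h h' z
        rw [lift_whiskerRight_assoc, lift_lift_associator_hom_assoc, lift_whiskerLeft_assoc, ← Hom.mul_def,
          ← cancel_mono c', hact, hact, hact, aZ.lift_mul_act] }
  let j' : G ⊗ Z' ⟶ Y' := lift (fst G Z') (snd G Z' ≫ sY) ≫ aY'.act
  have hjp : ∀ {T : Over (Spec (CommRingCat.of k))} (g : T ⟶ G) (z : T ⟶ Z'),
      (lift g z ≫ j') ≫ c = lift g (z ≫ c') ≫ j := fun g z => by
    simp only [j', comp_lift_assoc, lift_fst, lift_snd_assoc]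
    rw [hceq, hep, Category.assoc, ← hsq, Category.assoc]
  have hjc : j' ≫ c = (G ◁ c') ≫ j := by
    have := hjp (fst G Z') (snd G Z')
    rwa [lift_fst_snd, Category.id_comp, ← lift_whiskerLeft_assoc, lift_fst_snd, Category.id_comp] at this
  refine ⟨Z', c', aZ', j', hci, hact', hjc, ?_, ?_, ?_⟩
  · let g := fst G (G ⊗ Z')
    let q := snd G (G ⊗ Z') ≫ fst G Z'
    let z := snd G (G ⊗ Z') ≫ snd G Z'
    have e₀ : lift g (lift q z) = 𝟙 (G ⊗ (G ⊗ Z')) := by
      simp [g, q, z, ← comp_lift]
    have main : lift (g * q) z ≫ j' = lift g (lift q z ≫ j') ≫ aY'.act := by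
      simp only [j', comp_lift_assoc, lift_fst, lift_snd_assoc, aY'.lift_mul_act]
    show _ ≫ j' = _ ≫ aY'.act
    have lhs : lift g (lift q z) ≫ ((NonAbH1.trivialAction G).prod (AlgGrp.Action.trivial G Z')).act = lift (g * q) z := by
      rw [AlgGrp.Action.lift_prod_act]
      refine CartesianMonoidalCategory.hom_ext _ _ ?_ ?_
      · rw [lift_fst, lift_fst, Hom.mul_def]
        rfl
      · simp [AlgGrp.Action.trivial_act]
    rw [← Category.id_comp (_ ≫ j'), ← Category.id_comp (_ ≫ aY'.act), ← e₀, reassoc_of% lhs, lift_whiskerLeft_assoc, main]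
  · have key : ∀ {T : Over (Spec (CommRingCat.of k))} (q q' : T ⟶ G ⊗ Z'),
        q ≫ j' = q' ≫ j' ↔ ∃ h : T ⟶ H, lift h q ≫ (ChGrp.twist i aZ').act = q' := by
      intro T q q'
      rw [← cancel_mono c, ← lift_comp_fst_snd q, ← lift_comp_fst_snd q', hjp, hjp, balProd_eq_iff hY]
      refine exists_congr fun h => ?_
      rw [ChGrp.lift_twist_act]
      constructor
      · rintro ⟨h1, h2⟩
        refine congrArg₂ lift h1.symm ?_
        rw [← cancel_mono c', hact]
        exact h2.symm
      · intro h'
        have h1 := congrArg (· ≫ fst G Z') h'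
        have h2 := congrArg (· ≫ snd G Z') h'
        simp only [lift_fst, lift_snd] at h1 h2
        exact ⟨h1.symm, by rw [← h2]; exact hact h _⟩
    have hw : (ChGrp.twist i aZ').act ≫ j' = snd H (G ⊗ Z') ≫ j' :=
      ((key _ _).2 ⟨fst _ _, by rw [lift_fst_snd, Category.id_comp]⟩).symm
    have huniq : ∀ {T : Over (Spec (CommRingCat.of k))} (q : T ⟶ G ⊗ Z') (h h' : T ⟶ H),
        lift h q ≫ (ChGrp.twist i aZ').act = lift h' q ≫ (ChGrp.twist i aZ').act → h = h' := by
      intro T q h h' he
      haveI : Mono i := (Over.forget _).mono_of_mono_map (show Mono i.left from inferInstance)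
      rw [← lift_comp_fst_snd q, ChGrp.lift_twist_act, ChGrp.lift_twist_act] at he
      have h1 := congrArg (· ≫ fst G Z') he
      simp only [lift_fst, mul_right_inj, inv_inj] at h1
      exact (cancel_mono i).1 h1
    choose t ht using fun cn : PullbackCone j' j' => (key cn.snd cn.fst).1 cn.condition.symm
    refine ⟨⟨hw⟩, ⟨PullbackCone.IsLimit.mk _ (fun cn => lift (t cn) cn.snd) ht (fun cn => lift_snd _ _)
      (fun cn r h₁ h₂ => ?_)⟩⟩
    have er : r = lift (r ≫ fst _ _) cn.snd := by rw [← h₂, lift_comp_fst_snd]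
    conv_lhs => rw [er]
    refine congrArg (lift · cn.snd) (huniq cn.snd _ _ ?_)
    rw [ht, ← er]
    exact h₁
  · obtain ⟨R, hR, hsec⟩ := hY.2.2
    refine ⟨R.pullbackArrows c.left, Precoverage.pullbackArrows_mem c.left hR, ?_⟩
    rintro W g ⟨V, u, hu⟩
    obtain ⟨s, hs⟩ := hsec u hu
    change s ≫ j.left = u at hs
    let TW : Over (Spec (CommRingCat.of k)) := Over.mk (pullback.snd u c.left ≫ Y'.hom)
    let p : TW ⟶ G ⊗ Z := Over.homMk (pullback.fst u c.left ≫ s) (by
      show (pullback.fst u c.left ≫ s) ≫ (G ⊗ Z).hom = pullback.snd u c.left ≫ Y'.hom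
      rw [← Over.w j, Category.assoc, ← Category.assoc s, hs, ← Category.assoc, pullback.condition, Category.assoc,
        Over.w c])
    let π : TW ⟶ Y' := Over.homMk (pullback.snd u c.left) rfl
    have hp : p ≫ j = π ≫ c := by
      refine Over.OverMorphism.ext ?_
      show (pullback.fst u c.left ≫ s) ≫ j.left = pullback.snd u c.left ≫ c.left
      rw [Category.assoc, hs, pullback.condition]
    rw [← lift_comp_fst_snd p, hep] at hp
    have hp' : (p ≫ snd _ _) ≫ e = (lift (p ≫ fst _ _)⁻¹ π ≫ aY'.act) ≫ c := by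
      rw [hceq, ← hp, ← aY.lift_mul_act, inv_mul_cancel, aY.lift_one_act]
    obtain ⟨z', hz'⟩ := hfac _ _ hp'
    refine ⟨(lift (p ≫ fst _ _) z').left, ?_⟩
    show (lift _ z').left ≫ j'.left = pullback.snd u c.left
    rw [← Over.comp_left]
    refine congrArg CommaMorphism.left (show lift (p ≫ fst _ _) z' ≫ j' = π from ?_)
    rw [← cancel_mono c, hjp, hz', hep, hp]

end Groth.Agent.S19681
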