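import Groth.Statements.S19686
import Groth.Agent.AbSch51.Bilinear
import Groth.Agent.AbSch51.BiextPairing
-- import your own Groth.Agent.* helpers here

set_option autoImplicit false
universe u
open CategoryTheory CategoryTheory.Limits MonoidalCategory CartesianMonoidalCategory MonObj AlgebraicGeometry
open AbSch

namespace Groth.Agent.S19686

/-- Let S be a scheme and A₁, A₂, A₃ abelian S-schemes (smooth, proper, connected fibres). Then the
category of biextensions of (A₁, A₂) by A₃ is rigid: for every biextension B of (A₁, A₂) by A₃,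
formed with the sheaves of points on the big fppf site of all S-schemes, the only endomorphism of B
inducing the identity on A₁, A₂ and A₃ is the identity (equivalently, there is no non-zero
biadditive morphism from A₁ × A₂ to A₃). The source also asserts that every such biextension is
trivial; that assertion is not part of this statement. -/
theorem result {S : Scheme.{u}} (A₁ A₂ A₃ : Over S)
    [GrpObj A₁] [IsCommMonObj A₁] [Smooth A₁.hom] [IsProper A₁.hom]
    (hA₁ : ∀ s : S, ConnectedSpace ↥(A₁.hom.fiber s))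
    [GrpObj A₂] [IsCommMonObj A₂] [Smooth A₂.hom] [IsProper A₂.hom]
    (hA₂ : ∀ s : S, ConnectedSpace ↥(A₂.hom.fiber s))
    [GrpObj A₃] [IsCommMonObj A₃] [Smooth A₃.hom] [IsProper A₃.hom]
    (hA₃ : ∀ s : S, ConnectedSpace ↥(A₃.hom.fiber s))
    (B : Biext (QuotSh.J Scheme.fppfPrecoverage S) (CGrpSh.pts Scheme.fppfPrecoverage A₁) (CGrpSh.pts Scheme.fppfPrecoverage A₂) (CGrpSh.pts Scheme.fppfPrecoverage A₃))
    (f : Biext.Hom (QuotSh.J Scheme.fppfPrecoverage S) B B) : f = Biext.HomOver.id (QuotSh.J Scheme.fppfPrecoverage S) B := by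
  have := AbSch51.ConnFibres.geometricallyConnected A₁ hA₁
  have := AbSch51.ConnFibres.geometricallyConnected A₂ hA₂
  obtain ⟨φ, hnat, h0r, h0l, hf⟩ := AbSch51.BiextPairing.exists_pairing B f
  let ev : ∀ (W : Over S), (W ⟶ A₁) → (W ⟶ A₂) → (W ⟶ A₃) := fun W a b =>
    (φ W (ULift.up (Additive.ofMul a)) (ULift.up (Additive.ofMul b))).down.toMul
  have hev : ∀ {W W' : Over S} (k : W' ⟶ W) (a : W ⟶ A₁) (b : W ⟶ A₂),
      ev W' (k ≫ a) (k ≫ b) = k ≫ ev W a b := fun {W W'} k a b =>
    congrArg (fun z => z.down.toMul)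
      (hnat W W' k (ULift.up (Additive.ofMul a)) (ULift.up (Additive.ofMul b)))
  have hb1 : ∀ (W : Over S) (a : W ⟶ A₁), ev W a 1 = 1 := fun W a =>
    congrArg (fun z => z.down.toMul) (h0r W (ULift.up (Additive.ofMul a)))
  have ha1 : ∀ (W : Over S) (b : W ⟶ A₂), ev W 1 b = 1 := fun W b =>
    congrArg (fun z => z.down.toMul) (h0l W (ULift.up (Additive.ofMul b)))
  have hβ : ev (A₁ ⊗ A₂) (fst A₁ A₂) (snd A₁ A₂) = 1 := by
    refine AbSch51.Bilinear.eq_one _ ?_ ?_
    · rw [← hev, lift_fst, lift_snd, hb1]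
    · rw [← hev, lift_fst, lift_snd, ha1]
  have h1 : ∀ (W : Over S) (a : W ⟶ A₁) (b : W ⟶ A₂), ev W a b = 1 := fun W a b => by
    have h := hev (lift a b) (fst A₁ A₂) (snd A₁ A₂)
    rw [lift_fst, lift_snd, hβ, MonObj.comp_one] at h
    exact h
  refine Biext.HomOver.ext' _ (fun T x => ?_)
  show f.map T x = x
  have hz : φ T (B.πP T x) (B.πQ T x) = 0 :=
    ULift.ext _ _ (congrArg Additive.ofMul (h1 T (B.πP T x).down.toMul (B.πQ T x).down.toMul))
  rw [hf T x, hz, B.zero_act]

end Groth.Agent.S19686
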