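import Groth.Statements.S19690
import Groth.Agent.S18542
import Groth.Agent.AlgSp.Basic
import Groth.Agent.GrpScheme.AVPow
import Groth.Agent.DiagRig.MultProp
import Groth.Agent.AffGrp.Bridge
import Groth.Agent.TorusFld.Chars
import Groth.Agent.GITLib.TorusChars
import Groth.Agent.GrpScheme.Rosenlicht.Group
import Groth.Agent.GrpScheme.Smooth
import Groth.Agent.Borel50.Lin.TorusAlg
import Groth.Agent.Cube.Connected
-- import your own Groth.Agent.* helpers here

set_option autoImplicit false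
universe u
open CategoryTheory CategoryTheory.Limits MonoidalCategory CartesianMonoidalCategory MonObj AlgebraicGeometry
open OneMot

namespace Groth.Agent.S19690

set_option backward.isDefEq.respectTransparency false

noncomputable section

variable {k : Type u} [Field k] [IsAlgClosed k]

/-- The one-point scheme over `k`. -/
abbrev E (k : Type u) [Field k] : Over (Spec (CommRingCat.of k)) := Over.mk (𝟙 (Spec (CommRingCat.of k)))

/-- Torsion rational points are dense. -/
def Dns (X : Over (Spec (CommRingCat.of k))) [GrpObj X] : Prop :=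
  ∀ U : X.left.Opens, (U : Set X.left).Nonempty →
    ∃ (n : ℕ) (y : E k ⟶ X), 0 < n ∧ y ^ n = 1 ∧ ∃ t, y.left.base t ∈ U

/-- A morphism killing torsion is trivial. -/
theorem eq_one_of_dns {X Y : Over (Spec (CommRingCat.of k))} [GrpObj X] [GrpObj Y] [IsReduced X.left]
    [IsSeparated Y.hom] (hD : Dns X) (φ : X ⟶ Y)
    (h : ∀ (n : ℕ) (y : E k ⟶ X), 0 < n → y ^ n = 1 → y ≫ φ = 1) : φ = 1 := by
  apply Over.OverMorphism.ext
  have H : φ.left ≫ Y.hom = (1 : X ⟶ Y).left ≫ Y.hom := (Over.w φ).trans (Over.w _).symm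
  suffices IsDominant (equalizer.ι φ.left (1 : X ⟶ Y).left) from
    ext_of_isDominant_of_isSeparated Y.hom H _ (equalizer.condition _ _)
  refine ⟨dense_iff_inter_open.2 fun U hU hne => ?_⟩
  obtain ⟨n, y, hn, hy, t, ht⟩ := hD ⟨U, hU⟩ hne
  have he : y.left ≫ φ.left = y.left ≫ (1 : X ⟶ Y).left := by
    rw [← Over.comp_left, ← Over.comp_left, h n y hn hy, MonObj.comp_one]
  exact ⟨_, ht, equalizer.lift y.left he t, by rw [← Scheme.Hom.comp_apply, equalizer.lift_ι]⟩

/-- A surjective morphism of finite type lifts rational points. -/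
theorem exists_lift_pt {W X : Over (Spec (CommRingCat.of k))} (f : W ⟶ X) [LocallyOfFiniteType f.left]
    [Surjective f.left] (a : E k ⟶ X) : ∃ b : E k ⟶ W, b ≫ f = a := by
  let q : pullback f.left a.left ⟶ Spec (CommRingCat.of k) := pullback.snd f.left a.left
  have : JacobsonSpace ↥(pullback f.left a.left) := LocallyOfFiniteType.jacobsonSpace q
  obtain ⟨x₀, -⟩ := q.surjective (IsLocalRing.closedPoint k)
  obtain ⟨x, -, hx⟩ := nonempty_inter_closedPoints (Z := (Set.univ : Set ↥(pullback f.left a.left))) ⟨x₀, trivial⟩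
    isClosed_univ.isLocallyClosed
  let b : E k ⟶ W := Over.homMk (pointOfClosedPoint q x hx ≫ pullback.fst f.left a.left) (by
    rw [← Over.w f, Category.assoc, ← Category.assoc (pullback.fst f.left a.left), pullback.condition,
      Category.assoc, Over.w a, ← Category.assoc, pointOfClosedPoint_comp]
    exact Category.id_comp _)
  refine ⟨b, ?_⟩
  apply Over.OverMorphism.ext
  show (pointOfClosedPoint q x hx ≫ pullback.fst f.left a.left) ≫ f.left = a.left
  rw [Category.assoc, pullback.condition, ← Category.assoc, pointOfClosedPoint_comp, Category.id_comp]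

lemma bc_comp {A B C : Scheme.{u}} (p : A ⟶ B) (q : B ⟶ C) (r : A ⟶ C) (h : r = p ≫ q) (X : Over C) [GrpObj X] :
    Nonempty (Grp.mk (Red.bc p (Red.bc q X)) ≅ Grp.mk (Red.bc r X)) := by
  subst h
  exact ⟨(Functor.mapGrpCompIso (F := Over.pullback q) (G := Over.pullback p)).symm.app (Grp.mk X) ≪≫
    (Functor.mapGrpNatIso (Over.pullbackComp p q).symm).app (Grp.mk X)⟩

omit [IsAlgClosed k] in
theorem exists_split_field {T : Over (Spec (CommRingCat.of k))} [GrpObj T] (hT : Red.IsTorus T) :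
    ∃ (r : ℕ) (L : Type u) (_ : Field L) (_ : Algebra k L),
      Red.IsSplitTorusWith (Fin r → ℤ) (Red.bc (Spec.map (CommRingCat.ofHom (algebraMap k L))) T) := by
  obtain ⟨S', f, -, hf, -, hloc⟩ := hT
  obtain ⟨s', -⟩ := hf.surj (show Spec (CommRingCat.of k) from (default : PrimeSpectrum k))
  obtain ⟨U, hs', r, ⟨E⟩⟩ := hloc s'
  let z : U.toScheme := ⟨s', hs'⟩
  let κ := U.toScheme.residueField z
  let j : Spec κ ⟶ U.toScheme := U.toScheme.fromSpecResidueField z
  let φ : CommRingCat.of k ⟶ κ := Spec.preimage (j ≫ U.ι ≫ f)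
  letI : Algebra k κ := φ.hom.toAlgebra
  have hp : Spec.map (CommRingCat.ofHom (algebraMap k κ)) = j ≫ U.ι ≫ f := by
    rw [show CommRingCat.ofHom (algebraMap k κ) = φ from rfl]
    exact Spec.map_preimage _
  refine ⟨r, κ, inferInstance, inferInstance, ?_⟩
  obtain ⟨i₁⟩ := bc_comp j (U.ι ≫ f) _ hp T
  obtain ⟨i₂⟩ := bc_comp j (Limits.IsTerminal.from specULiftZIsTerminal U.toScheme)
    (Limits.IsTerminal.from specULiftZIsTerminal (Spec κ)) (specULiftZIsTerminal.hom_ext _ _)
    (Red.diag (ULift.{u} ℤ) (Fin r → ℤ))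
  exact ⟨i₁.symm ≪≫ (Over.pullback j).mapGrp.mapIso E ≪≫ i₂⟩

open WithConv TensorProduct Borel50.Lin in
theorem torus_props {T : Over (Spec (CommRingCat.of k))} [GrpObj T] [IsCommMonObj T] [CharZero k]
    (hT : Red.IsTorus T) :
    IsReduced T.left ∧ IsSeparated T.hom ∧ Dns T ∧
      ∀ (n : ℕ), n ≠ 0 → ∀ t : E k ⟶ T, ∃ d : E k ⟶ T, d ^ n = t := by
  have hM : SGA3x.IsMultTypeFT T := by
    obtain ⟨S', f, hf, hfs, hfc, hl⟩ := hT
    refine ⟨S', f, hf, hfs, hfc, fun s' => ?_⟩
    obtain ⟨U, hU, r, hr⟩ := hl s'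
    exact ⟨U, hU, Fin r → ℤ, inferInstance, AddGroup.fg_iff_addMonoid_fg.mpr inferInstance, hr⟩
  have := DiagRig.multType_isAffineHom T hM
  have := DiagRig.multType_locallyOfFiniteType T hM
  have : IsAffine T.left := isAffine_of_isAffineHom T.hom
  obtain ⟨A, hA, e, he⟩ := AffGrp.Bridge.exists_iso (R := CommRingCat.of k) T
  letI : HopfAlgebra k A := hA
  have : IsMonHom e.hom := he
  have : IsIso e.hom.left := inferInstanceAs (IsIso ((Over.forget _).map e.hom))
  have hft : Algebra.FiniteType k A := by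
    have h : LocallyOfFiniteType ((Spec A).asOver (Spec (CommRingCat.of k))).hom := by
      rw [← Over.w e.hom]; infer_instance
    have h' : LocallyOfFiniteType (Spec.map (CommRingCat.ofHom (algebraMap k A))) := h
    rw [HasRingHomProperty.Spec_iff (P := @LocallyOfFiniteType)] at h'
    exact RingHom.finiteType_algebraMap.1 h'
  obtain ⟨r, L, _, _, ⟨e'⟩⟩ := exists_split_field hT
  obtain ⟨φ, -, hbij⟩ := TorusFld.exists_chars L (A := A) T e e'
  have hdom₁ : IsDomain (L ⊗[k] A) :=
    MulEquiv.isDomain_iff (RingEquiv.ofBijective _ hbij).toMulEquiv |>.1 inferInstance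
  have hinc : Function.Injective (Algebra.TensorProduct.includeRight : A →ₐ[k] L ⊗[k] A) :=
    Algebra.TensorProduct.includeRight_injective (algebraMap k L).injective
  have hdom : IsDomain A := hinc.isDomain _
  have hint : IsIntegral T.left := by
    have : IsIntegral (Spec A) := (affine_isIntegral_iff A).2 hdom
    have : Nonempty T.left := (inferInstance : Nonempty (Spec A)).map e.hom.left.base
    let φ : T.left ⟶ Spec A := e.inv.left
    have : IsIso φ := inferInstanceAs (IsIso ((Over.forget _).map e.inv))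
    exact isIntegral_of_isOpenImmersion φ
  obtain ⟨K, _, _, hK⟩ := GITLib.TorusChars.exists_field_span e hT
  have hspan := GITLib.TorusChars.span_groupLike_eq_top K hK
  obtain ⟨m, ⟨L'⟩⟩ := TorusAlg.exists_laurent hspan
  let ee : (Spec (CommRingCat.of k)).asOver (Spec (CommRingCat.of k)) ≅ E k :=
    Over.isoMk (Iso.refl _) (by
      show 𝟙 _ ≫ 𝟙 _ = Spec.map (CommRingCat.ofHom (algebraMap k k))
      simp)
  let ψ : (E k ⟶ T) ≃* LieKolchin.Pts k A :=
    { toFun := fun g => Spec.mapMulEquiv.symm (ee.hom ≫ g ≫ e.inv)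
      invFun := fun w => ee.inv ≫ Spec.mapMulEquiv w ≫ e.hom
      left_inv := fun g => by simp
      right_inv := fun w => by
        show Spec.mapMulEquiv.symm (ee.hom ≫ (ee.inv ≫ Spec.mapMulEquiv w ≫ e.hom) ≫ e.inv) = w
        simp
      map_mul' := fun g h => by
        rw [← map_mul, ← MonObj.comp_mul, ← MonObj.mul_comp] }
  have hprime : ∀ w : LieKolchin.Pts k A, LieKolchin.toPrime w =
      (Spec.mapMulEquiv w).left.base (IsLocalRing.closedPoint k) := fun w => by
    refine PrimeSpectrum.ext (Ideal.ext fun a => ?_)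
    show a ∈ RingHom.ker w.ofConv.toRingHom ↔ w.ofConv.toRingHom a ∈ IsLocalRing.maximalIdeal k
    rw [RingHom.mem_ker, IsLocalRing.maximalIdeal_eq_bot, Ideal.mem_bot]
  have hpt : ∀ w : LieKolchin.Pts k A, (ψ.symm w).left.base (IsLocalRing.closedPoint k) =
      e.hom.left.base (LieKolchin.toPrime w) := fun w => by
    rw [hprime]
    rfl
  refine ⟨inferInstance, inferInstance, fun U hU => ?_, fun n hn t => ?_⟩
  · have : JacobsonSpace T.left := LocallyOfFiniteType.jacobsonSpace T.hom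
    obtain ⟨x, hxU, hx⟩ := nonempty_inter_closedPoints hU U.2.isLocallyClosed
    let x₀ : E k ⟶ T := Over.homMk (pointOfClosedPoint T.hom x hx) (pointOfClosedPoint_comp _ _ _)
    have hx₀ : x₀.left.base (IsLocalRing.closedPoint k) = x := pointOfClosedPoint_apply _ _ _ _
    letI := LieKolchin.zariski (k := k) (A := A)
    have hop : IsOpen (LieKolchin.toPrime ⁻¹' (e.hom.left.base ⁻¹' (U : Set T.left)) : Set (LieKolchin.Pts k A)) :=
      (U.2.preimage e.hom.left.continuous).preimage continuous_induced_dom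
    have hmem : ψ x₀ ∈ LieKolchin.toPrime ⁻¹' (e.hom.left.base ⁻¹' (U : Set T.left)) := by
      show e.hom.left.base (LieKolchin.toPrime (ψ x₀)) ∈ U
      rw [← hpt, MulEquiv.symm_apply_apply, hx₀]
      exact hxU
    obtain ⟨w, hw, n, hn, hwn⟩ :=
      mem_closure_iff.1 ((TorusAlg.closure_torsion L').ge (Set.mem_univ (ψ x₀))) _ hop hmem
    refine ⟨n, ψ.symm w, Nat.pos_of_ne_zero (by rintro rfl; exact hn Nat.cast_zero), ?_,
      IsLocalRing.closedPoint k, ?_⟩
    · rw [← map_pow, hwn, map_one]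
    · rw [hpt]; exact hw
  · let c := TorusAlg.chars L' (ψ t)
    have hroot : ∀ i : Fin m, ∃ u : kˣ, ((u ^ n : kˣ) : k) = c (Multiplicative.ofAdd (Pi.single i 1)) := fun i => by
      obtain ⟨s, hs⟩ := IsAlgClosed.exists_pow_nat_eq (c (Multiplicative.ofAdd (Pi.single i 1))) hn.bot_lt
      have hne : c (Multiplicative.ofAdd (Pi.single i 1)) ≠ 0 := ((Group.isUnit _).map c).ne_zero
      have hs0 : s ≠ 0 := by rintro rfl; rw [zero_pow hn] at hs; exact hne hs.symm
      exact ⟨Units.mk0 s hs0, by rw [Units.val_pow_eq_pow_val, Units.val_mk0, hs]⟩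
    choose u hu using hroot
    let χ : Multiplicative (Fin m → ℤ) →* kˣ :=
      { toFun := fun v => ∏ i, u i ^ (Multiplicative.toAdd v i)
        map_one' := by simp
        map_mul' := fun a b => by simp [zpow_add, Finset.prod_mul_distrib] }
    let w : LieKolchin.Pts k A := toConv ((MonoidAlgebra.lift k k _ ((Units.coeHom k).comp χ)).comp
      (L'.symm : A →ₐc[k] MonoidAlgebra k (Multiplicative (Fin m → ℤ))).toAlgHom)
    have hw : ∀ z, TorusAlg.chars L' w z = ((χ z : kˣ) : k) := fun z => by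
      show MonoidAlgebra.lift k k _ ((Units.coeHom k).comp χ) (L'.symm (L' (MonoidAlgebra.single z 1))) = _
      rw [L'.symm_apply_apply, MonoidAlgebra.lift_single, one_smul]
      rfl
    refine ⟨ψ.symm w, ψ.injective (TorusAlg.chars_injective L' ?_)⟩
    rw [map_pow, MulEquiv.apply_symm_apply]
    -- compare the two characters on units
    have hcu : ∀ z, IsUnit (c z) := fun z => (Group.isUnit z).map c
    let c' : Multiplicative (Fin m → ℤ) →* kˣ :=
      { toFun := fun z => (hcu z).unit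
        map_one' := Units.ext (map_one c)
        map_mul' := fun a b => Units.ext (map_mul c a b) }
    have key : χ ^ n = c' := by
      refine MonoidHom.ext fun z => ?_
      have hz : z = ∏ i, Multiplicative.ofAdd (Pi.single i (1 : ℤ) : Fin m → ℤ) ^ (Multiplicative.toAdd z i) := by
        refine Multiplicative.toAdd.injective ?_
        simp only [toAdd_prod, toAdd_zpow, toAdd_ofAdd]
        funext j
        simp [Finset.sum_apply, Pi.single_apply]
      rw [hz, map_prod, map_prod]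
      refine Finset.prod_congr rfl fun i _ => ?_
      rw [map_zpow, map_zpow]
      congr 1
      apply Units.ext
      show (((χ (Multiplicative.ofAdd (Pi.single i 1))) ^ n : kˣ) : k) = c (Multiplicative.ofAdd (Pi.single i 1))
      rw [← hu i]
      congr 2
      show ∏ j, u j ^ (Pi.single i (1 : ℤ) : Fin m → ℤ) j = u i
      rw [Finset.prod_eq_single i] <;> simp +contextual
    refine (map_pow _ _ _).trans (MonoidHom.ext fun z => ?_)
    show (TorusAlg.chars L' w z) ^ n = c z
    rw [hw, ← Units.val_pow_eq_pow_val]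
    exact congrArg Units.val (DFunLike.congr_fun key z)

theorem ab_props {A : Over (Spec (CommRingCat.of k))} [GrpObj A] [IsCommMonObj A] [CharZero k]
    (hA : OneMot.IsAbelianSch A) :
    IsReduced A.left ∧ IsSeparated A.hom ∧ Dns A ∧
      ∀ (n : ℕ), n ≠ 0 → ∀ t : E k ⟶ A, ∃ d : E k ⟶ A, d ^ n = t := by
  have := hA.smooth
  have := hA.proper
  have : ConnectedSpace A.left := by
    have := hA.connectedFibres (IsLocalRing.closedPoint k)
    refine Function.Surjective.connectedSpace ?_ (A.hom.fiberι (IsLocalRing.closedPoint k)).continuous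
    rw [← Set.range_eq_univ, Scheme.Hom.range_fiberι]
    exact Set.eq_univ_of_forall fun _ => Subsingleton.elim _ _
  have : IsIntegral A.left := GrpScheme.Rosenlicht.isIntegral_group A
  have : GeometricallyIntegral A.hom := Cube.geometricallyIntegral_of_isAlgClosed A.hom
  have := FBase.BC.geometricallyConnected_of_geometricallyIrreducible A.hom
  refine ⟨inferInstance, inferInstance, fun U hU => ?_, fun n hn t => ?_⟩
  · have : Fact (Nat.Prime 2) := ⟨Nat.prime_two⟩
    have hd := Groth.Agent.S18542.result k A 2 (by exact_mod_cast (two_ne_zero : (2 : k) ≠ 0))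
    obtain ⟨z, hzU, hz⟩ := hd.inter_open_nonempty _ U.2 hU
    simp only [Set.mem_iUnion] at hz
    obtain ⟨n, b, hb, t, rfl⟩ := hz
    exact ⟨2 ^ n, b, Nat.two_pow_pos n, hb, t, hzU⟩
  · obtain ⟨hfin, hsurj⟩ := GrpScheme.AVPow.isFinite_surjective_pow A (n := n) (Nat.pos_of_ne_zero hn)
    have : IsFinite (𝟙 A ^ n : A ⟶ A).left := hfin
    have : Surjective (𝟙 A ^ n : A ⟶ A).left := hsurj
    obtain ⟨b, hb⟩ := exists_lift_pt (𝟙 A ^ n : A ⟶ A) t
    exact ⟨b, by rw [← hb, MonObj.comp_pow, Category.comp_id]⟩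

section seq

variable (M : OneMot.Motive (Spec (CommRingCat.of k)))

theorem incl_inj {X : Over (Spec (CommRingCat.of k))} {a b : X ⟶ M.T} (h : a ≫ M.incl = b ≫ M.incl) :
    a = b := by
  have : Mono (CGrpSh.ptsMap Scheme.fppfPrecoverage M.incl) := M.semiAb.shortExact.mono_f
  let F := sheafToPresheaf (QuotSh.J Scheme.fppfPrecoverage (Spec (CommRingCat.of k))) AddCommGrpCat.{u + 1} ⋙
    (evaluation _ _).obj (Opposite.op X)
  have hm : Mono (F.map (CGrpSh.ptsMap Scheme.fppfPrecoverage M.incl)) := Functor.map_mono F _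
  have := (AddCommGrpCat.mono_iff_injective _).1 hm
    (a₁ := ULift.up (Additive.ofMul a)) (a₂ := ULift.up (Additive.ofMul b))
    (ULift.ext _ _ (congrArg Additive.ofMul h))
  exact congrArg Additive.toMul (congrArg ULift.down this)

theorem exists_factor {X : Over (Spec (CommRingCat.of k))} (x : X ⟶ M.G) (hx : x ≫ M.proj = 1) :
    ∃ t : X ⟶ M.T, t ≫ M.incl = x := by
  have hs := M.semiAb.shortExact
  have := hs.mono_f
  let F := sheafToPresheaf (QuotSh.J Scheme.fppfPrecoverage (Spec (CommRingCat.of k))) AddCommGrpCat.{u + 1} ⋙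
    (evaluation _ _).obj (Opposite.op X)
  have hex := hs.exact.map_of_mono_of_preservesKernel F inferInstance inferInstance
  rw [ShortComplex.ab_exact_iff] at hex
  obtain ⟨y, hy⟩ := hex (ULift.up (Additive.ofMul x)) (ULift.ext _ _ (congrArg Additive.ofMul hx))
  exact ⟨y.down.toMul, congrArg Additive.toMul (congrArg ULift.down hy)⟩

theorem exists_lift (a : E k ⟶ M.A) : ∃ c : E k ⟶ M.G, c ≫ M.proj = a := by
  have := M.semiAb.shortExact.epi_g
  have : Epi (CGrpSh.ptsMap Scheme.fppfPrecoverage M.proj) := this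
  have hls : Sheaf.IsLocallySurjective (CGrpSh.ptsMap Scheme.fppfPrecoverage M.proj) :=
    (Sheaf.isLocallySurjective_iff_epi' _ _).2 this
  obtain ⟨R, hR, hsub⟩ := AlgSp.exists_cover_of_mem
    (Presheaf.imageSieve_mem (QuotSh.J Scheme.fppfPrecoverage (Spec (CommRingCat.of k)))
      (CGrpSh.ptsMap Scheme.fppfPrecoverage M.proj).hom (U := Opposite.op (E k)) (ULift.up (Additive.ofMul a)))
  obtain ⟨𝒰, rfl⟩ := Precoverage.mem_iff_exists_zeroHypercover.1 hR
  have hm : ∀ i, Flat (𝒰.f i) ∧ LocallyOfFinitePresentation (𝒰.f i) :=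
    ((Scheme.ofArrows_mem_precoverage_iff _).mp hR).2
  obtain ⟨i, w, -⟩ := ((Scheme.ofArrows_mem_precoverage_iff _).mp hR).1 (IsLocalRing.closedPoint k)
  have := (hm i).2
  let W : Over (Spec (CommRingCat.of k)) := Over.mk (𝒰.f i ≫ (E k).hom)
  let g : W ⟶ E k := Over.homMk (𝒰.f i) rfl
  have hs : Surjective g.left := ⟨fun s => ⟨w, Subsingleton.elim (α := Spec (CommRingCat.of k)) _ _⟩⟩
  have hl : LocallyOfFiniteType g.left := inferInstanceAs (LocallyOfFiniteType (𝒰.f i))
  obtain ⟨b, hb⟩ := exists_lift_pt g (𝟙 (E k))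
  obtain ⟨y, hy⟩ := hsub (𝒰.f i) (Presieve.ofArrows.mk i)
  refine ⟨b ≫ y.down.toMul, ?_⟩
  have hy' : y.down.toMul ≫ M.proj = g ≫ a := congrArg Additive.toMul (congrArg ULift.down hy)
  rw [Category.assoc, hy', ← Category.assoc, hb, Category.id_comp]

variable [CharZero k]

theorem exists_root_G (n : ℕ) (hn : n ≠ 0) (g : E k ⟶ M.G) : ∃ c : E k ⟶ M.G, c ^ n = g := by
  obtain ⟨-, -, -, hTd⟩ := torus_props M.semiAb.torus
  obtain ⟨-, -, -, hAd⟩ := ab_props M.semiAb.abelian
  obtain ⟨a, ha⟩ := hAd n hn (g ≫ M.proj)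
  obtain ⟨c, hc⟩ := exists_lift M a
  obtain ⟨t, ht⟩ := exists_factor M (g * (c ^ n)⁻¹) (by
    rw [MonObj.mul_comp, GrpObj.inv_comp, MonObj.pow_comp, hc, ha, mul_inv_cancel])
  obtain ⟨d, rfl⟩ := hTd n hn t
  refine ⟨c * (d ≫ M.incl), ?_⟩
  rw [mul_pow, ← MonObj.pow_comp, ht, _root_.mul_comm g, ← _root_.mul_assoc, mul_inv_cancel, _root_.one_mul]

theorem exists_torsion_lift {n : ℕ} (hn : n ≠ 0) (a : E k ⟶ M.A) (ha : a ^ n = 1) :
    ∃ c : E k ⟶ M.G, c ^ n = 1 ∧ c ≫ M.proj = a := by
  obtain ⟨-, -, -, hTd⟩ := torus_props M.semiAb.torus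
  obtain ⟨c, hc⟩ := exists_lift M a
  obtain ⟨t, ht⟩ := exists_factor M (c ^ n) (by rw [MonObj.pow_comp, hc, ha])
  obtain ⟨d, rfl⟩ := hTd n hn t
  refine ⟨c * (d ≫ M.incl)⁻¹, ?_, ?_⟩
  · rw [mul_pow, inv_pow, ← MonObj.pow_comp, ht, mul_inv_cancel]
  · rw [MonObj.mul_comp, GrpObj.inv_comp, hc, Category.assoc, M.semiAb.comp, MonObj.comp_one, inv_one, _root_.mul_one]

/-- A morphism from a scheme with dense torsion into a semi-abelian scheme killing torsion is trivial. -/
theorem kill {X : Over (Spec (CommRingCat.of k))} [GrpObj X] [IsReduced X.left] (hD : Dns X) (φ : X ⟶ M.G)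
    (h : ∀ (n : ℕ) (y : E k ⟶ X), 0 < n → y ^ n = 1 → y ≫ φ = 1) : φ = 1 := by
  obtain ⟨-, _, -, -⟩ := torus_props M.semiAb.torus
  obtain ⟨-, _, -, -⟩ := ab_props M.semiAb.abelian
  have h1 : φ ≫ M.proj = 1 := eq_one_of_dns hD _ fun n y hn hy => by
    rw [← Category.assoc, h n y hn hy, MonObj.one_comp]
  obtain ⟨z, rfl⟩ := exists_factor M φ h1
  have hz : z = 1 := eq_one_of_dns hD _ fun n y hn hy => incl_inj M (by
    rw [Category.assoc, h n y hn hy, MonObj.one_comp])
  rw [hz, MonObj.one_comp]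

theorem fG_eq {N : OneMot.Motive (Spec (CommRingCat.of k))} (f g : OneMot.Motive.Hom M N)
    (h : ∀ (n : ℕ) (y : E k ⟶ M.G), 0 < n → y ^ n = 1 → y ≫ f.fG = y ≫ g.fG) : f.fG = g.fG := by
  obtain ⟨_, -, hTD, -⟩ := torus_props M.semiAb.torus
  obtain ⟨_, -, hAD, -⟩ := ab_props M.semiAb.abelian
  have hT : M.incl ≫ f.fG = M.incl ≫ g.fG := by
    rw [← mul_inv_eq_one]
    refine kill N hTD _ fun n y hn hy => ?_
    rw [MonObj.comp_mul, GrpObj.comp_inv, mul_inv_eq_one, ← Category.assoc, ← Category.assoc]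
    exact h n _ hn (by rw [← MonObj.pow_comp, hy, MonObj.one_comp])
  have hs := M.semiAb.shortExact
  have := hs.epi_g
  let D := CGrpSh.ptsMap Scheme.fppfPrecoverage f.fG - CGrpSh.ptsMap Scheme.fppfPrecoverage g.fG
  have hD0 : CGrpSh.ptsMap Scheme.fppfPrecoverage M.incl ≫ D = 0 := by
    refine Sheaf.hom_ext (NatTrans.ext (funext fun T => AddCommGrpCat.ext fun x => ULift.ext _ _ ?_))
    change Additive.ofMul ((x.down.toMul ≫ M.incl) ≫ f.fG) - Additive.ofMul ((x.down.toMul ≫ M.incl) ≫ g.fG) = 0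
    rw [Category.assoc, Category.assoc, hT, sub_self]
  let d := hs.exact.desc D hD0
  have hd : CGrpSh.ptsMap Scheme.fppfPrecoverage M.proj ≫ d = D := hs.exact.g_desc D hD0
  let h' : M.A ⟶ N.G := (d.hom.app (Opposite.op M.A) (ULift.up (Additive.ofMul (𝟙 M.A)))).down.toMul
  have hfac : f.fG * g.fG⁻¹ = M.proj ≫ h' := by
    have h1 := congrArg (fun φ => φ.hom.app (Opposite.op M.G) (ULift.up (Additive.ofMul (𝟙 M.G)))) hd
    have h2 := ConcreteCategory.congr_hom (d.hom.naturality M.proj.op) (ULift.up (Additive.ofMul (𝟙 M.A)))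
    have h1' : (d.hom.app (Opposite.op M.G) (ULift.up (Additive.ofMul (𝟙 M.G ≫ M.proj)))).down.toMul =
        (𝟙 M.G ≫ f.fG) / (𝟙 M.G ≫ g.fG) := congrArg Additive.toMul (congrArg ULift.down h1)
    have h2' : (d.hom.app (Opposite.op M.G) (ULift.up (Additive.ofMul (M.proj ≫ 𝟙 M.A)))).down.toMul =
        M.proj ≫ h' := congrArg Additive.toMul (congrArg ULift.down h2)
    rw [Category.id_comp] at h1'
    rw [Category.comp_id, h1', Category.id_comp, Category.id_comp, div_eq_mul_inv] at h2'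
    exact h2'
  have hh : h' = 1 := kill N hAD _ fun n a hn ha => by
    obtain ⟨c, hc, rfl⟩ := exists_torsion_lift M hn.ne' a ha
    rw [Category.assoc, ← hfac, MonObj.comp_mul, GrpObj.comp_inv, mul_inv_eq_one]
    exact h n c hn hc
  rwa [hh, MonObj.comp_one, mul_inv_eq_one] at hfac

omit [CharZero k] in
/-- The points of a lattice. -/
theorem exists_pts : ∃ (r : ℕ) (P : Multiplicative (Fin r → ℤ) → (E k ⟶ M.L)),
    (∀ a b, P (a * b) = P a * P b) ∧ Function.Bijective P ∧
    ∀ (Y : Over (Spec (CommRingCat.of k))) (φ ψ : M.L ⟶ Y), (∀ a, P a ≫ φ = P a ≫ ψ) → φ = ψ := by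
  obtain ⟨S', f, hf, ⟨s, -⟩, r, e, he⟩ := M.lattice (IsLocalRing.closedPoint k)
  have : Etale f := hf
  let gS : Over.mk f ⟶ E k := Over.homMk f (Category.comp_id f)
  have : LocallyOfFiniteType gS.left := inferInstanceAs (LocallyOfFiniteType f)
  have : Surjective gS.left := ⟨fun x => ⟨s, Subsingleton.elim (α := Spec (CommRingCat.of k)) _ _⟩⟩
  obtain ⟨σ', hσ'⟩ := exists_lift_pt gS (𝟙 (E k))
  let σ : Spec (CommRingCat.of k) ⟶ S' := σ'.left
  have hσ : σ ≫ f = 𝟙 _ := congrArg CommaMorphism.left hσ'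
  let I := Multiplicative (Fin r → ℤ)
  let j : M.L.left ⟶ (Red.bc f M.L).left := pullback.lift (𝟙 _) (M.L.hom ≫ σ) (by
    rw [Category.id_comp, Category.assoc, hσ, Category.comp_id])
  let ψf : (Red.bc f M.L).left ⟶ M.L.left := pullback.fst M.L.hom f
  let c : M.L.left ⟶ (TwC.const S' I).left := j ≫ e.hom.left
  let q : I → (Spec (CommRingCat.of k) ⟶ (TwC.const S' I).left) := fun m => σ ≫ (TwC.pt S' I m).left
  have hc : c ≫ e.inv.left ≫ ψf = 𝟙 _ := by
    simp only [c, Category.assoc]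
    rw [← Over.comp_left_assoc, e.hom_inv_id, Over.id_left, Category.id_comp]
    exact pullback.lift_fst _ _ _
  -- the points
  have hP0 : ∀ m, (σ ≫ (TwC.pt S' I m ≫ e.inv).left ≫ ψf) ≫ M.L.hom = 𝟙 _ := fun m => by
    have h1 : (TwC.pt S' I m ≫ e.inv).left ≫ pullback.snd M.L.hom f = 𝟙 S' := Over.w (TwC.pt S' I m ≫ e.inv)
    simp only [ψf, Category.assoc, pullback.condition, reassoc_of% h1]
    erw [Category.id_comp]
    exact hσ
  let P : I → (E k ⟶ M.L) := fun m => Over.homMk (σ ≫ (TwC.pt S' I m ≫ e.inv).left ≫ ψf) (hP0 m)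
  -- transport of the group law
  let Ψ : (Over.mk f ⟶ M.L) ≃ (𝟙_ (Over S') ⟶ Red.bc f M.L) :=
    { toFun := fun x => Over.homMk (pullback.lift x.left (𝟙 S') ((Over.w x).trans (Category.id_comp f).symm))
        (pullback.lift_snd _ _ _)
      invFun := fun y => Over.homMk (y.left ≫ ψf) (by
        rw [Category.assoc, pullback.condition, ← Category.assoc]
        exact (congrArg (· ≫ f) (Over.w y)).trans (Category.id_comp f))
      left_inv := fun x => Over.OverMorphism.ext (pullback.lift_fst _ _ _)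
      right_inv := fun y => Over.OverMorphism.ext (pullback.hom_ext (pullback.lift_fst _ _ _)
        ((pullback.lift_snd _ _ _).trans (Over.w y).symm)) }
  let δ : 𝟙_ (Over S') ⟶ Red.bc f (Over.mk f) :=
    Over.homMk (pullback.lift (𝟙 S') (𝟙 S') rfl) (pullback.lift_snd _ _ _)
  have hΨ : ∀ x, Ψ x = δ ≫ (Over.pullback f).map x := fun x => by
    apply Over.OverMorphism.ext
    apply pullback.hom_ext
    · show pullback.lift x.left (𝟙 S') _ ≫ pullback.fst _ _ = (pullback.lift _ _ _ ≫ pullback.lift _ _ _) ≫ pullback.fst _ _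
      rw [pullback.lift_fst, Category.assoc, pullback.lift_fst, ← Category.assoc, pullback.lift_fst]
      exact (Category.id_comp _).symm
    · show pullback.lift x.left (𝟙 S') _ ≫ pullback.snd _ _ = (pullback.lift _ _ _ ≫ pullback.lift _ _ _) ≫ pullback.snd _ _
      rw [pullback.lift_snd, Category.assoc, pullback.lift_snd, pullback.lift_snd]
  have hΨm : ∀ x y, Ψ (x * y) = Ψ x * Ψ y := fun x y => by
    rw [hΨ, hΨ, hΨ, Functor.map_mul, MonObj.comp_mul]
  have hPe : ∀ m, P m = σ' ≫ Ψ.symm (TwC.pt S' I m ≫ e.inv) := fun m => Over.OverMorphism.ext rfl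
  have hmul : ∀ a b, P (a * b) = P a * P b := fun a b => by
    rw [hPe, hPe, hPe, ← he a b, ← MonObj.comp_mul]
    congr 1
    apply Ψ.injective
    rw [hΨm, Ψ.apply_symm_apply, Ψ.apply_symm_apply, Ψ.apply_symm_apply]
  have hι : ∀ m, (TwC.pt S' I m).left = Sigma.ι (fun _ : I => S') m := fun m => rfl
  have hqc : ∀ m, (P m).left ≫ c = q m := fun m => by
    have h1 : (TwC.pt S' I m ≫ e.inv).left ≫ pullback.snd M.L.hom f = 𝟙 S' := Over.w (TwC.pt S' I m ≫ e.inv)
    have h2 : (P m).left ≫ j = σ ≫ (TwC.pt S' I m ≫ e.inv).left := by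
      apply pullback.hom_ext
      · rw [Category.assoc, pullback.lift_fst, Category.comp_id, Category.assoc]
        rfl
      · rw [Category.assoc, pullback.lift_snd, Category.assoc, h1, Category.comp_id, ← Category.assoc]
        exact (congrArg (· ≫ σ) (hP0 m)).trans (Category.id_comp σ)
    rw [← Category.assoc, h2, Category.assoc, ← Over.comp_left, Category.assoc, e.inv_hom_id, Category.comp_id]
  -- cover
  have hcov : ∀ y : M.L.left, ∃ (m : I) (U : M.L.left.Opens), y ∈ U ∧ U.ι = (U.ι ≫ M.L.hom) ≫ (P m).left := by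
    intro y
    obtain ⟨m, z, hz⟩ := (Scheme.IsLocallyDirected.openCover (Discrete.functor fun _ : I => S')).exists_eq (c y) |>
      fun ⟨i, z, hz⟩ => (⟨i.as, z, hz⟩ : ∃ m z, Sigma.ι (fun _ : I => S') m z = c y)
    let U : M.L.left.Opens := c ⁻¹ᵁ (Sigma.ι (fun _ : I => S') m).opensRange
    refine ⟨m, U, ⟨z, hz⟩, ?_⟩
    obtain ⟨w, hw⟩ : ∃ w, w ≫ Sigma.ι (fun _ : I => S') m = U.ι ≫ c := ⟨IsOpenImmersion.lift _ _ (by
      rintro _ ⟨u, rfl⟩
      exact u.2), IsOpenImmersion.lift_fac _ _ _⟩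
    have hcd : c ≫ (TwC.const S' I).hom = M.L.hom ≫ σ := by
      show (j ≫ e.hom.left) ≫ _ = _
      rw [Category.assoc, Over.w e.hom]
      exact pullback.lift_snd _ _ _
    have hw' : w = (U.ι ≫ M.L.hom) ≫ σ := by
      have h := congrArg (· ≫ (TwC.const S' I).hom) hw
      simp only [Category.assoc, hcd] at h
      have hd : Sigma.ι (fun _ : I => S') m ≫ (TwC.const S' I).hom = 𝟙 S' := Sigma.ι_desc _ _
      rw [hd, Category.comp_id] at h
      rw [Category.assoc]
      exact h
    haveI : IsSplitMono c := ⟨⟨_, hc⟩⟩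
    rw [← cancel_mono c, Category.assoc, hqc, ← hw, hw', Category.assoc]
    rfl
  refine ⟨r, P, hmul, ⟨fun a b hab => ?_, fun x => ?_⟩, fun Y φ ψ hφ => ?_⟩
  · have h1 : q a = q b := by rw [← hqc, ← hqc, hab]
    have h2 := congrArg (fun φ => φ (IsLocalRing.closedPoint k)) h1
    exact (sigmaι_eq_iff (fun _ : I => S') a b (σ (IsLocalRing.closedPoint k)) (σ (IsLocalRing.closedPoint k))).mp h2 |>
      fun h => (Sigma.mk.inj h).1
  · obtain ⟨m, U, hU, hUι⟩ := hcov (x.left (IsLocalRing.closedPoint k))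
    refine ⟨m, ?_⟩
    apply Over.OverMorphism.ext
    obtain ⟨u, hu⟩ : ∃ u, u ≫ U.ι = x.left := ⟨IsOpenImmersion.lift _ _ (by
      rintro _ ⟨t, rfl⟩
      rw [Scheme.Opens.range_ι]
      rwa [Subsingleton.elim (α := Spec (CommRingCat.of k)) t (IsLocalRing.closedPoint k)]), IsOpenImmersion.lift_fac _ _ _⟩
    rw [← hu, hUι, ← Category.assoc, reassoc_of% hu, Over.w x]
    exact (Category.id_comp _).symm
  · apply Over.OverMorphism.ext
    choose m U hyU hUι using hcov
    refine Scheme.Cover.hom_ext (Scheme.openCoverOfIsOpenCover M.L.left U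
      (TopologicalSpace.Opens.coe_eq_univ.mp (Set.eq_univ_of_forall fun y => by
        rw [TopologicalSpace.Opens.coe_iSup]; exact Set.mem_iUnion.mpr ⟨y, hyU y⟩))) _ _ (fun y => ?_)
    show (U y).ι ≫ φ.left = (U y).ι ≫ ψ.left
    rw [hUι y, Category.assoc ((U y).ι ≫ M.L.hom), Category.assoc ((U y).ι ≫ M.L.hom)]
    exact congrArg _ (congrArg CommaMorphism.left (hφ (m y)))

end seq


/-- Let k be an algebraically closed field of characteristic zero, M and N 1-motives over k, and f, g
morphisms of 1-motives from M to N. If for every integer m ≥ 1 the homomorphisms induced by f and by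
g on the torsion realizations of level m, computed on k-points, are equal, then f = g. (The source
states that the realization functor to the inverse limit over all m is faithful; equality at every
finite level implies equality on the limit.) -/
theorem result (k : Type u) [Field k] [IsAlgClosed k] [CharZero k]
    (M N : OneMot.Motive (Spec (CommRingCat.of k))) (f g : OneMot.Motive.Hom M N)
    (h : ∀ m : ℕ, 1 ≤ m → OneMot.tzMap m (Over.mk (𝟙 (Spec (CommRingCat.of k)))) f = OneMot.tzMap m (Over.mk (𝟙 (Spec (CommRingCat.of k)))) g) :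
    f = g := by
  -- the equations
  have key : ∀ (m : ℕ), 1 ≤ m → ∀ (x : E k ⟶ M.L) (c : E k ⟶ M.G), x ≫ M.u = (c ^ m)⁻¹ →
      ∃ y : E k ⟶ N.L, y ^ m = (x ≫ f.fL) / (x ≫ g.fL) ∧ (y ≫ N.u)⁻¹ = (c ≫ f.fG) / (c ≫ g.fG) := by
    intro m hm x c hxc
    let p : OneMot.tzPairs M m (E k) :=
      ⟨(Additive.ofMul x, Additive.ofMul c), congrArg Additive.ofMul hxc⟩
    have hp := DFunLike.congr_fun (h m hm) (QuotientAddGroup.mk p)
    rw [OneMot.tzMap, OneMot.tzMap, QuotientAddGroup.map_mk, QuotientAddGroup.map_mk,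
      QuotientAddGroup.eq_iff_sub_mem] at hp
    obtain ⟨y, hy⟩ := hp
    exact ⟨y.toMul, congrArg Additive.toMul (congrArg Prod.fst hy), congrArg Additive.toMul (congrArg Prod.snd hy)⟩
  obtain ⟨r, P, hPm, hPb, hPext⟩ := exists_pts M
  obtain ⟨r', P', hPm', hPb', -⟩ := exists_pts N
  let e' : Multiplicative (Fin r' → ℤ) ≃* (E k ⟶ N.L) :=
    MulEquiv.ofBijective (MonoidHom.mk' P' hPm') hPb'
  have hroot : ∀ z : E k ⟶ N.L, (∀ m : ℕ, 1 ≤ m → ∃ y, y ^ m = z) → z = 1 := by
    intro z hz
    obtain ⟨a, rfl⟩ := e'.surjective z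
    suffices a = 1 by rw [this, map_one]
    refine Multiplicative.toAdd.injective (funext fun i => ?_)
    obtain ⟨y, hy⟩ := hz ((Multiplicative.toAdd a i).natAbs + 1) (by omega)
    obtain ⟨b, rfl⟩ := e'.surjective y
    rw [← map_pow, e'.injective.eq_iff] at hy
    have hb := congrArg (fun v : Multiplicative (Fin r' → ℤ) => Multiplicative.toAdd v i) hy
    simp only [toAdd_pow, Pi.smul_apply, nsmul_eq_mul, toAdd_one, Pi.zero_apply] at hb ⊢
    have habs := congrArg Int.natAbs hb
    rw [Int.natAbs_mul, Int.natAbs_natCast] at habs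
    rcases Nat.eq_zero_or_pos (Multiplicative.toAdd b i).natAbs with h0 | h0
    · rw [h0, mul_zero] at habs
      omega
    · have := Nat.le_mul_of_pos_right ((Multiplicative.toAdd a i).natAbs + 1) h0
      omega
  have hL : f.fL = g.fL := by
    refine hPext _ _ _ fun a => ?_
    rw [← div_eq_one]
    refine hroot _ fun m hm => ?_
    obtain ⟨c, hc⟩ := exists_root_G M m (by omega) (P a ≫ M.u)⁻¹
    obtain ⟨y, hy, -⟩ := key m hm (P a) c (by rw [hc, inv_inv])
    exact ⟨y, hy⟩
  refine OneMot.Motive.Hom.ext' hL (fG_eq M f g fun n y hn hy => ?_)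
  obtain ⟨z, hz, hz'⟩ := key n hn 1 y (by rw [hy, inv_one, MonObj.one_comp])
  rw [hL, div_self'] at hz
  have hz1 : z = 1 := by
    obtain ⟨b, rfl⟩ := e'.surjective z
    rw [← map_pow, ← map_one e', e'.injective.eq_iff] at hz
    have : b = 1 := Multiplicative.toAdd.injective (funext fun i => by
      have h1 := congrArg (fun v : Multiplicative (Fin r' → ℤ) => Multiplicative.toAdd v i) hz
      simp only [toAdd_pow, Pi.smul_apply, nsmul_eq_mul, toAdd_one, Pi.zero_apply, mul_eq_zero,
        Nat.cast_eq_zero] at h1 ⊢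
      exact h1.resolve_left hn.ne')
    rw [this, map_one]
  rw [hz1, MonObj.one_comp, inv_one] at hz'
  exact div_eq_one.mp hz'.symm

end

end Groth.Agent.S19690
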