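import Groth.Statements.S19692
import Mathlib
import Groth.Agent.FinCov71.Cover
import Groth.Agent.FEtCat.Rank
-- import your own Groth.Agent.* helpers here

set_option autoImplicit false
universe u
open CategoryTheory CategoryTheory.Limits AlgebraicGeometry Opposite
open FinCov

namespace Groth.Agent.S19692

/-- A morphism of schemes f : X → Y is a cover of degree d — finite, flat, locally of finite
presentation and of rank d at every point of Y — if and only if f is affine and the direct image
f_*O_X is locally free of rank d as an O_Y-module, i.e. every point of Y has an open neighbourhood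
over which f_*O_X is isomorphic to the direct sum of d copies of the structure sheaf. This is the
object-level content of the equivalence between degree-d covers of Y and O_Y-algebras locally free
of rank d. -/
theorem result {X Y : Scheme.{u}} (f : X ⟶ Y) (d : ℕ) :
    FinCov.IsCover f d ↔
      IsAffineHom f ∧ FlatMod.IsFinLocFreeOfRank d ((Scheme.Modules.pushforward f).obj (Coh.structureModule X)) := by
  refine ⟨fun h => ?_, fun ⟨hf, hM⟩ => ?_⟩
  · obtain ⟨⟨h1, h2, h3⟩, hd⟩ := h
    exact ⟨inferInstance, Groth.Agent.FEtCat.Rank.isFinLocFreeOfRank_of_finrank f d hd⟩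
  · haveI := hf
    refine Groth.Agent.FinCov71.isCover_of_basis f d fun y => ?_
    obtain ⟨U, e, hyU, he⟩ := Groth.Agent.FinCov71.exists_isFrame_rank hM y
    obtain ⟨_, ⟨V, hV, rfl⟩, hyV, hVU⟩ := Y.isBasis_affineOpens.exists_subset_of_mem_open hyU U.2
    refine ⟨V, hV, hyV, ?_⟩
    letI := (f.app V).hom.toAlgebra
    let L : (Fin d → Γ(Y, V)) →ₗ[Γ(Y, V)] Γ(X, f ⁻¹ᵁ V) :=
      Fintype.linearCombination Γ(Y, V)
        (fun i => (((Scheme.Modules.pushforward f).obj (Coh.structureModule X)).presheaf.map (homOfLE hVU).op (e i) :
          Γ(X, f ⁻¹ᵁ V)))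
    have hL : Function.Bijective L := by
      have heq : ∀ a, L a = Groth.Agent.LFFrame.comb _ e hVU a := fun a => by
        rw [Fintype.linearCombination_apply]
        exact Finset.sum_congr rfl fun i _ => rfl
      exact (funext heq : ⇑L = Groth.Agent.LFFrame.comb _ e hVU) ▸ he V hVU
    exact ⟨Module.Basis.ofEquivFun (LinearEquiv.ofBijective L hL).symm⟩


end Groth.Agent.S19692
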