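import Groth.Statements.S19693
import Mathlib
import Groth.Agent.FinCov71.Cover
import Groth.Agent.FinCov71.Trace
-- import your own Groth.Agent.* helpers here

set_option autoImplicit false
universe u
open CategoryTheory CategoryTheory.Limits AlgebraicGeometry Opposite
open FinCov

namespace Groth.Agent.S19693

/-- Let X be a scheme and A a quasi-coherent O_X-algebra whose underlying O_X-module is locally free of
rank d. Then the structure morphism Spec(A) → X of the relative spectrum of A is a cover of degree
d: finite, flat, locally of finite presentation and of rank d at every point of X. (This is the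
quasi-inverse direction of the equivalence between degree-d covers of X and O_X-algebras locally
free of rank d; the other direction and the identification of the direct-image algebra of Spec(A)
with A are separate statements.) -/
theorem result {X : Scheme.{u}} (A : RelSpec.QCAlg X) (d : ℕ)
    (hA : FlatMod.IsFinLocFreeOfRank d A.toModule) : FinCov.IsCover A.π d := by
  refine Groth.Agent.FinCov71.isCover_of_basis A.π d fun x => ?_
  obtain ⟨U, e, V, hxV, -, hVU, hV, he⟩ :=
    Groth.Agent.FinCov71.exists_affine_frame hA (W := ⊤) (x := x) trivial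
  refine ⟨V, hV, hxV, ?_⟩
  haveI : IsIso (A.gammaAff V hV) := by
    have h := (A.ι V hV).isIso_app (A.π ⁻¹ᵁ V) (A.π_preimage V hV).le
    have : IsIso ((Spec (A.presheaf.obj (Opposite.op V))).presheaf.map (homOfLE (A.top_le_preimage V hV)).op) := by
      have e : homOfLE (A.top_le_preimage V hV) = eqToHom (le_antisymm (A.top_le_preimage V hV) le_top) :=
        Subsingleton.elim _ _
      rw [e]; infer_instance
    rw [RelSpec.QCAlg.gammaAff, Scheme.Hom.appLE]
    infer_instance
  letI := (A.π.app V).hom.toAlgebra
  letI : Algebra Γ(X, V) (A.presheaf.obj (Opposite.op V)) := (A.str.app (Opposite.op V)).hom.toAlgebra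
  let g := (asIso (A.gammaAff V hV)).symm.commRingCatIsoToRingEquiv
  have hg : ∀ r : Γ(X, V), g ((A.str.app (Opposite.op V)).hom r) = (A.π.app V).hom r := fun r => by
    rw [← A.π_app_gammaAff V hV]
    exact congr($(IsIso.hom_inv_id (A.gammaAff V hV)) ((A.π.app V).hom r))
  let φ : A.presheaf.obj (Opposite.op V) ≃ₗ[Γ(X, V)] Γ(A.spec, A.π ⁻¹ᵁ V) :=
    (AlgEquiv.ofRingEquiv (f := g) hg).toLinearEquiv
  exact ⟨(Groth.Agent.FinCov71.frameBasis he hVU).map φ⟩


end Groth.Agent.S19693
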