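import Groth.Statements.S19701
import Groth.Agent.VBLib.GlobGen
import Groth.Agent.VBLib.PushEuler
import Groth.Agent.CurveCoh.Integral
import Groth.Agent.PicPn.LineSplit
import Groth.Agent.FFCurve.P1Map
import Groth.Agent.S4466
import Groth.Agent.ProjTwist.Zero
import Groth.Agent.FEtCat.Rank
import Groth.Agent.VBLib.HomOne
import Groth.Agent.HomShEval.Reflexive

set_option autoImplicit false
universe u
open CategoryTheory CategoryTheory.Limits AlgebraicGeometry Opposite
open Curves

set_option linter.style.haveILetI false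
open TopologicalSpace
namespace Groth.Agent.S19701

open Groth.Agent.VBLib

variable (k : Type u) [Field k]

lemma euler_twist [IsIntegral (CohB1.ProjSpace 1 k)] (n : ℤ) :
    Curv2.euler k (CohB1.ProjSpace 1 k) (Twist.twistProjSpace 1 k n) = n + 1 := by
  obtain ⟨hPp, hPs, -, hPd⟩ := FFCurve.p1_facts k
  haveI : IsProper ((CohB1.ProjSpace 1 k) ↘ Spec (CommRingCat.of k)) := hPp
  haveI : Smooth ((CohB1.ProjSpace 1 k) ↘ Spec (CommRingCat.of k)) := hPs
  haveI : (Twist.twistProjSpace 1 k n).IsQuasicoherent :=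
    ProjTwist.isQCoh_of_isInvertible (ProjTwist.isInvertible_twistProjSpace 1 k n)
  rw [CurveCoh.euler_eq _ (goodCurve_of_smooth (k := k) (X := CohB1.ProjSpace 1 k) hPd).val hPd]
  have h := S4466.result k 1 one_pos n
  simp only [Finset.sum_range_succ, Finset.sum_range_zero, zero_add, pow_zero, pow_one, one_mul, neg_mul,
    Ring.choose_one_right, Nat.cast_one] at h
  linarith

open Groth.Agent.PullStalk.Exact Groth.Agent.PullStalk.Sky in
/-- The trace of a double cover of the line is surjective when `2` is invertible. -/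
lemma epi_trace {X : Scheme.{u}} (h2 : (2 : k) ≠ 0) (h : X ⟶ CohB1.ProjSpace 1 k) [IsFinite h]
    (hO : FlatMod.IsFinLocFreeOfRank 2 ((Scheme.Modules.pushforward h).obj (Coh.structureModule X)))
    (τ : (Scheme.Modules.pushforward h).obj (Coh.structureModule X) ⟶ Coh.structureModule (CohB1.ProjSpace 1 k))
    (hτ : FinCov.IsTraceHom h τ) : Epi τ := by
  refine Omega.Stalks.epi_of_stalk fun x => ?_
  obtain ⟨i, hi⟩ := Opens.mem_iSup.mp
    ((ProjTwist.iSup_stdOpen 1 k).ge (trivial : x ∈ (⊤ : (CohB1.ProjSpace 1 k).Opens)))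
  let U := ProjTwist.stdOpen 1 k i
  obtain ⟨e, he⟩ := PicPn.exists_frame hO i
  have hU : IsAffineOpen U := ProjTwist.isAffineOpen_stdOpen 1 k i
  letI alg : Algebra Γ(CohB1.ProjSpace 1 k, U) Γ(X, h ⁻¹ᵁ U) := (h.app U).hom.toAlgebra
  let M := (Scheme.Modules.pushforward h).obj (Coh.structureModule X)
  let L : (Fin 2 → Γ(CohB1.ProjSpace 1 k, U)) →ₗ[Γ(CohB1.ProjSpace 1 k, U)] Γ(X, h ⁻¹ᵁ U) :=
    Fintype.linearCombination Γ(CohB1.ProjSpace 1 k, U)
      (fun j => M.presheaf.map (homOfLE (le_refl U)).op (e j))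
  have hL : Function.Bijective L := by
    have heq : ∀ a, L a = LFFrame.comb M e (le_refl U) a := fun a => by
      rw [Fintype.linearCombination_apply]
      exact Finset.sum_congr rfl fun j _ => rfl
    exact (funext heq : ⇑L = LFFrame.comb M e (le_refl U)) ▸ he U le_rfl
  let b : Module.Basis (Fin 2) Γ(CohB1.ProjSpace 1 k, U) Γ(X, h ⁻¹ᵁ U) :=
    Module.Basis.ofEquivFun (LinearEquiv.ofBijective L hL).symm
  have hfree : Module.Free Γ(CohB1.ProjSpace 1 k, U) Γ(X, h ⁻¹ᵁ U) := Module.Free.of_basis b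
  have hfin : Module.Finite Γ(CohB1.ProjSpace 1 k, U) Γ(X, h ⁻¹ᵁ U) := Module.Finite.of_basis b
  have h1 : (τ.val.app (Opposite.op U)).hom (1 : Γ(X, h ⁻¹ᵁ U)) = (2 : Γ(CohB1.ProjSpace 1 k, U)) := by
    refine (hτ U hU hfree hfin 1).trans ?_
    have := Algebra.trace_algebraMap_of_basis b (1 : Γ(CohB1.ProjSpace 1 k, U))
    rw [map_one, Fintype.card_fin] at this
    rw [this, two_nsmul, one_add_one_eq_two]
  intro t
  have hu : IsUnit ((CohB1.ProjSpace 1 k).presheaf.germ U x hi (2 : Γ(CohB1.ProjSpace 1 k, U))) := by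
    rw [map_ofNat]
    have := (IsUnit.mk0 _ h2).map ((CohB1.ProjSpace 1 k).presheaf.germ ⊤ x trivial |>.hom.comp
      (Coh.toGlobal (CohB1.ProjSpace.toSpec 1 k)))
    rwa [map_ofNat] at this
  obtain ⟨r, hr⟩ := hu.exists_left_inv
  obtain ⟨c, rfl⟩ : ∃ c, HomShEval.Reflexive.structureStalkEquiv x c = t :=
    (HomShEval.Reflexive.structureStalkEquiv x).surjective t
  refine ⟨(c * r) • germM M U x hi (show Γ(M, U) from (1 : Γ(X, h ⁻¹ᵁ U))), ?_⟩
  rw [map_smul, stalkLin_germ]
  refine (congrArg (fun z => (c * r) • germM _ U x hi z) h1).trans ?_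
  rw [← VBLib.HomOne.structureStalkEquiv_germ, ← map_smul, smul_eq_mul, mul_assoc, hr, mul_one]



/-- Let k be an algebraically closed field of characteristic different from 2 and X a hyperelliptic
curve of genus g over k: X → Spec k is smooth and proper, X is connected of dimension one with g =
dim_k H¹(X, O_X) ≥ 2, and h : X → P¹_k is a k-morphism which is a double cover (finite, flat,
locally of finite presentation, of rank 2 at every point). Let τ : h_*O_X → O_{P¹} be the trace of h
(the O-linear map which over every affine open of P¹_k where h_*O_X is finite free is the trace of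
the regular representation). Then the kernel of τ — an invertible sheaf on P¹_k — has degree −g − 1,
the degree of a rank-one sheaf E on P¹_k being χ(E) − χ(O). (On P¹_k this says that ker τ is
isomorphic to O(−g − 1); only the degree is asserted here.) -/
theorem result (k : Type u) [Field k] [IsAlgClosed k]
    (h2 : (2 : k) ≠ 0) {X : Scheme.{u}} (p : X ⟶ Spec (CommRingCat.of k)) [IsProper p] [Smooth p]
    [ConnectedSpace ↥X] (hX : topologicalKrullDim ↥X = 1) (hg : 2 ≤ @Curv2.genus k _ X ⟨p⟩)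
    (h : X ⟶ CohB1.ProjSpace 1 k) (hh : h ≫ CohB1.ProjSpace.toSpec 1 k = p)
    [IsFinite h] [Flat h] [LocallyOfFinitePresentation h]
    (hr : ∀ y : ↥(CohB1.ProjSpace 1 k), h.finrank y = 2)
    (τ : (Scheme.Modules.pushforward h).obj (Coh.structureModule X) ⟶ Coh.structureModule (CohB1.ProjSpace 1 k))
    (hτ : FinCov.IsTraceHom h τ) :
    @Curv2.deg k _ (CohB1.ProjSpace 1 k) ⟨CohB1.ProjSpace.toSpec 1 k⟩ (kernel τ) 1 =
      -((@Curv2.genus k _ X ⟨p⟩ : ℤ) + 1) := by
  letI : X.Over (Spec (CommRingCat.of k)) := ⟨p⟩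
  haveI : IsProper (X ↘ Spec (CommRingCat.of k)) := ‹IsProper p›
  haveI : Smooth (X ↘ Spec (CommRingCat.of k)) := ‹Smooth p›
  haveI : IsLocallyNoetherian X := LocallyOfFiniteType.isLocallyNoetherian (X ↘ Spec (CommRingCat.of k))
  haveI : CompactSpace X := QuasiCompact.compactSpace_of_compactSpace (X ↘ Spec (CommRingCat.of k))
  haveI : AlgebraicGeometry.IsNoetherian X := { }
  haveI := CurveCoh.irreducibleSpace_of_domain_stalks X (CurveCoh.isDomain_stalk k X)
  haveI : ∀ x : X, _root_.IsReduced (X.presheaf.stalk x) := fun x =>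
    haveI := CurveCoh.isDomain_stalk k X x
    inferInstance
  haveI : IsReduced X := isReduced_of_isReduced_stalk X
  haveI : IsIntegral X := isIntegral_of_irreducibleSpace_of_isReduced X
  obtain ⟨hPp, hPs, hPi, hPd⟩ := FFCurve.p1_facts k
  haveI := hPi
  haveI : IsProper ((CohB1.ProjSpace 1 k) ↘ Spec (CommRingCat.of k)) := hPp
  haveI : Smooth ((CohB1.ProjSpace 1 k) ↘ Spec (CommRingCat.of k)) := hPs
  have w : h ≫ ((CohB1.ProjSpace 1 k) ↘ Spec (CommRingCat.of k)) = X ↘ Spec (CommRingCat.of k) := hh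
  have hXg := VBLib.goodCurve_of_smooth (k := k) hX
  have hY := VBLib.goodCurve_of_smooth (k := k) (X := CohB1.ProjSpace 1 k) hPd
  haveI := hY.isLocallyNoetherian
  have hO := FEtCat.Rank.isFinLocFreeOfRank_of_finrank h 2 hr
  haveI := epi_trace k h2 h hO τ hτ
  have hOc := VBLib.isCoh_of_ofRank hO
  have hU := LFFrame.isInvertible_structureModule (CohB1.ProjSpace 1 k)
  have hU1 := VBLib.ofRank_one_of_invertible hU
  have hUc := VBLib.isCoh_of_ofRank hU1
  have hKc := VBLib.isCoh_kernel τ hOc hUc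
  let S := ShortComplex.mk (kernel.ι τ) τ (kernel.condition τ)
  have hS : S.ShortExact := { exact := S.exact_of_f_is_kernel (kernelIsKernel τ) }
  have he := hY.euler_add hS hKc hOc hUc
  have hχO : Curv2.euler k (CohB1.ProjSpace 1 k) (Coh.structureModule (CohB1.ProjSpace 1 k)) = 1 := by
    have z : Coh.structureModule (CohB1.ProjSpace 1 k) ≅ Twist.twistProjSpace 1 k 0 :=
      ProjTwist.twistZeroIso (CohB1.polyGrading 1 k)
    rw [EulerChar.euler_iso k z]
    exact (euler_twist k 0).trans (by norm_num)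
  have hχX : Curv2.euler k X (Coh.structureModule X) = 1 - (Curv2.genus k X : ℤ) := by
    haveI : (Coh.structureModule X).IsQuasicoherent := ProjTwist.isQuasicoherent_structureModule _
    rw [CurveCoh.euler_eq _ hXg.val hXg.dim,
      VBLib.finrank_H0_structure_eq_one (VBLib.bijective_toGlobal_of_isAlgClosed (k := k) (X := X))]
    rfl
  haveI : (Coh.structureModule X).IsQuasicoherent := ProjTwist.isQuasicoherent_structureModule _
  have hχp : Curv2.euler k (CohB1.ProjSpace 1 k) S.X₂ = Curv2.euler k X (Coh.structureModule X) :=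
    VBLib.PushEuler.euler_push h w (Coh.structureModule X)
  rw [hχp, hχX, show Curv2.euler k (CohB1.ProjSpace 1 k) S.X₃ = 1 from hχO] at he
  show Curv2.deg k (CohB1.ProjSpace 1 k) (kernel τ) 1 = -((Curv2.genus k X : ℤ) + 1)
  rw [Curv2.deg, hχO]
  simp only [S] at he
  push_cast
  linarith

end Groth.Agent.S19701
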