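import Groth.Statements.S19703
import Groth.Agent.S14578
import Groth.Agent.S4094
import Groth.Agent.GrpArtin.Descend
import Groth.Agent.GrpScheme.GlobalSections
import Groth.Agent.GrpScheme.AntiAffine

set_option autoImplicit false
universe u
open CategoryTheory MonoidalCategory CartesianMonoidalCategory MonObj GrpObj AlgebraicGeometry CategoryTheory.Limits
open AlgGrp

open Limits Groth.Agent

namespace Groth.Agent.S19703

set_option backward.isDefEq.respectTransparency false

/-- Let k be a field, G an anti-affine algebraic group over k (smooth, of finite type, with O(G) = k), H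
a connected k-group scheme of finite type and j : M → H its largest anti-affine closed subgroup
scheme H_ant (O(M) = k and every anti-affine closed subgroup scheme of H factors through M). Then
every morphism of k-schemes f : G → H with f(e_G) = e_H factors through H_ant. -/
theorem result (k : Type u) [Field k]
    (G H : Over (Spec (CommRingCat.of k))) [GrpObj G] [Smooth G.hom] [QuasiCompact G.hom]
    (hG : Function.Bijective ((Scheme.ΓSpecIso (CommRingCat.of k)).inv ≫ G.hom.appTop).hom)
    [GrpObj H] [LocallyOfFiniteType H.hom] [QuasiCompact H.hom] [ConnectedSpace ↥H.left]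
    (M : Over (Spec (CommRingCat.of k))) [GrpObj M] [LocallyOfFiniteType M.hom] [QuasiCompact M.hom] (j : M ⟶ H) [IsMonHom j] [IsClosedImmersion j.left]
    (hM : Function.Bijective ((Scheme.ΓSpecIso (CommRingCat.of k)).inv ≫ M.hom.appTop).hom)
    (hMmax : ∀ (M₁ : Over (Spec (CommRingCat.of k))) [GrpObj M₁] [LocallyOfFiniteType M₁.hom] [QuasiCompact M₁.hom] (j₁ : M₁ ⟶ H) [IsMonHom j₁] [IsClosedImmersion j₁.left],
      Function.Bijective ((Scheme.ΓSpecIso (CommRingCat.of k)).inv ≫ M₁.hom.appTop).hom → ∃ g : M₁ ⟶ M, g ≫ j = j₁)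
    (f : G ⟶ H) (hf : η[G] ≫ f = η[H]) :
    ∃ g : G ⟶ M, g ≫ j = f := by
  haveI : IsMonHom f := S14578.result k G H hG f hf
  haveI : LocallyOfFinitePresentation G.hom := inferInstance
  obtain ⟨Q, hQ, p, i, hp, hi, hpi, hsurj, hflat, -, hmono, hQlfp, -⟩ :=
    Groth.Agent.S4094.result _ G H f inferInstance
  haveI : CompactSpace G.left := (quasiCompact_iff_compactSpace G.hom).1 inferInstance
  haveI : CompactSpace Q.left := ⟨by
    rw [← Set.image_univ_of_surjective hsurj.surj]
    exact isCompact_univ.image p.left.continuous⟩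
  haveI : QuasiCompact Q.hom := (quasiCompact_iff_compactSpace Q.hom).2 inferInstance
  haveI : IsSeparated H.hom := GrpdLib.GrpOver.isSeparated_hom H
  haveI : QuasiCompact (i.left ≫ H.hom) := by rw [Over.w i]; infer_instance
  haveI : QuasiCompact i.left := QuasiCompact.of_comp i.left H.hom
  haveI := GrpArtin.Descend.isClosedImmersion_of_mono i
  haveI : IsSeparated Q.hom := GrpdLib.GrpOver.isSeparated_hom Q
  haveI : QuasiCompact (p.left ≫ Q.hom) := by rw [Over.w p]; infer_instance
  haveI : QuasiCompact p.left := QuasiCompact.of_comp p.left Q.hom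
  haveI := (GrpScheme.AntiAffine.bijective_iff_isIso G).mp hG
  have hQa : Function.Bijective ((Scheme.ΓSpecIso (CommRingCat.of k)).inv ≫ Q.hom.appTop).hom := by
    rw [GrpScheme.AntiAffine.bijective_iff_isIso]
    have hw : Q.hom.appTop ≫ p.left.appTop = G.hom.appTop := by rw [← Scheme.Hom.comp_appTop, Over.w p]
    haveI : Mono p.left.appTop :=
      ConcreteCategory.mono_of_injective _ (GrpScheme.GlobalSections.appTop_injective p.left)
    haveI : IsSplitEpi p.left.appTop := IsSplitEpi.mk' ⟨inv G.hom.appTop ≫ Q.hom.appTop, by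
      rw [Category.assoc, hw, IsIso.inv_hom_id]⟩
    haveI : IsIso p.left.appTop := isIso_of_mono_of_isSplitEpi _
    haveI : IsIso (Q.hom.appTop ≫ p.left.appTop) := hw ▸ inferInstance
    exact IsIso.of_isIso_comp_right Q.hom.appTop p.left.appTop
  obtain ⟨g, hg⟩ := hMmax Q i hQa
  exact ⟨p ≫ g, by rw [Category.assoc, hg, hpi]⟩

end Groth.Agent.S19703
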