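import Groth.Statements.S1971
import Groth.Agent.Hensel.Pair

set_option autoImplicit false
universe u
open EtAlg

namespace Groth.Agent.S1971

/-- Let A be a ring with ideals I and J having the same zero locus in Spec A. Then an A-algebra is a
henselization of the pair (A, I) if and only if it is a henselization of the pair (A, J). -/
theorem result (A : Type u) [CommRing A] (I J : Ideal A)
    (h : PrimeSpectrum.zeroLocus (I : Set A) = PrimeSpectrum.zeroLocus (J : Set A)) (B : Type u) [CommRing B] [Algebra A B] :
    Hens2.IsPairHenselization A I B ↔ Hens2.IsPairHenselization A J B := by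
  have key : ∀ {I J : Ideal A}, PrimeSpectrum.zeroLocus (I : Set A) = PrimeSpectrum.zeroLocus (J : Set A) →
      Hens2.IsPairHenselization A I B → Hens2.IsPairHenselization A J B := by
    intro I J h hI
    have hrad : I.radical = J.radical := PrimeSpectrum.zeroLocus_eq_iff.mp h
    haveI := hI.1
    refine ⟨?_, fun C _ K f hC hJ => ?_⟩
    · refine Groth.Agent.Hensel.henselianRing_of_radical_eq (I := I.map (algebraMap A B)) ?_
      refine Ideal.map_le_iff_le_comap.mpr fun x hx => ?_
      have : x ∈ I.radical := hrad ▸ Ideal.le_radical hx
      exact Ideal.map_radical_le (algebraMap A B) (Ideal.mem_map_of_mem _ this)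
    · haveI := hC
      haveI := Groth.Agent.Hensel.henselianRing_radical (A := C) (I := K)
      refine hI.2 C K.radical f inferInstance ?_
      refine Ideal.map_le_iff_le_comap.mpr fun x hx => ?_
      have : x ∈ J.radical := hrad ▸ Ideal.le_radical hx
      exact Ideal.radical_mono hJ (Ideal.map_radical_le f (Ideal.mem_map_of_mem _ this))
  exact ⟨key h, key h.symm⟩

end Groth.Agent.S1971
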