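import Groth.Statements.S19711
import Mathlib.Algebra.Module.FinitePresentation
import Mathlib.RingTheory.Localization.FractionRing

set_option autoImplicit false
universe u
open CategoryTheory
open Coh

namespace Groth.Agent.S19711

/-- Let A be a Noetherian integral domain and F an A-linear additive functor from A-modules to A-modules
with F(A) a finitely generated A-module. Call such a functor generically injective when there is a
dense open subset U of Spec A such that for every point u of U whose residue field κ(u) is a
finitely generated A-algebra the comparison map F(A) ⊗_A κ(u) → F(κ(u)) is injective; since F is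
A-linear this injectivity says: every m in F(A) whose image under F(A → κ(u)) vanishes satisfies s·m
∈ u·F(A) for some s outside u. If F is generically injective then so is every A-linear additive
subfunctor K ⊆ F (a natural transformation K → F with injective components). (The published
statement is over a reduced Noetherian affine scheme, for additive functors on quasi-coherent
sheaves with values in abelian groups and the induced A-action, assumes F weakly bounded (F(A/p)
finitely generated for every prime ideal p) and also records that K is again weakly bounded; only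
the finite generation of F(A), which its argument uses, is assumed here, and the integral case with
A-linear functors stated here is the one its argument by generic flatness treats.) -/
theorem result {A : Type u} [CommRing A] [IsNoetherianRing A] [IsDomain A]
    (F K : ModuleCat.{u} A ⥤ ModuleCat.{u} A) [F.Additive] [F.Linear A] [K.Additive] [K.Linear A]
    (ι : K ⟶ F) (hι : ∀ X : ModuleCat.{u} A, Function.Injective (ι.app X).hom)
    (hfin : Module.Finite A (F.obj (ModuleCat.of A A)))
    (hGI : ∃ U : Set (PrimeSpectrum A), IsOpen U ∧ Dense U ∧ ∀ u ∈ U, Algebra.FiniteType A u.asIdeal.ResidueField →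
        ∀ m : F.obj (ModuleCat.of A A),
          (F.map (ModuleCat.ofHom (Algebra.linearMap A u.asIdeal.ResidueField))).hom m = 0 →
            ∃ s ∉ u.asIdeal, s • m ∈ u.asIdeal • (⊤ : Submodule A (F.obj (ModuleCat.of A A)))) :
    ∃ U : Set (PrimeSpectrum A), IsOpen U ∧ Dense U ∧ ∀ u ∈ U, Algebra.FiniteType A u.asIdeal.ResidueField →
        ∀ m : K.obj (ModuleCat.of A A),
          (K.map (ModuleCat.ofHom (Algebra.linearMap A u.asIdeal.ResidueField))).hom m = 0 →
            ∃ s ∉ u.asIdeal, s • m ∈ u.asIdeal • (⊤ : Submodule A (K.obj (ModuleCat.of A A))) := by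
  classical
  obtain ⟨U, hU, hUd, hGI⟩ := hGI
  let j₀ := (ι.app (ModuleCat.of A A)).hom
  let π := (LinearMap.range j₀).mkQ
  haveI : Module.Finite A (F.obj (ModuleCat.of A A)) := hfin
  haveI : Module.FinitePresentation A (F.obj (ModuleCat.of A A) ⧸ LinearMap.range j₀) :=
    Module.finitePresentation_of_finite A _
  let S := nonZeroDivisors A
  have hπs : Function.Surjective (LocalizedModule.map S π) :=
    LocalizedModule.map_surjective S π (Submodule.mkQ_surjective _)
  haveI : Module.Projective (Localization S) (LocalizedModule S (F.obj (ModuleCat.of A A) ⧸ LinearMap.range j₀)) :=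
    Module.Projective.of_free (R := FractionRing A)
  obtain ⟨sect, hsect⟩ := LinearMap.exists_rightInverse_of_surjective
    (LocalizedModule.map S π) (LinearMap.range_eq_top.mpr hπs)
  let h := (sect.restrictScalars A) ∘ₗ LocalizedModule.mkLinearMap S _
  obtain ⟨l, c, hl⟩ := Module.FinitePresentation.exists_lift_of_isLocalizedModule S
    (LocalizedModule.mkLinearMap S (F.obj (ModuleCat.of A A))) h
  -- `π ∘ l = c` up to torsion
  have hloc : ∀ q, LocalizedModule.mkLinearMap S _ (π (l q)) =
      LocalizedModule.mkLinearMap S _ ((c : A) • q) := fun q => by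
    have h1 : (LocalizedModule.map S π) (LocalizedModule.mkLinearMap S _ (l q)) =
        (LocalizedModule.map S π) ((c : A) • h q) := congrArg _ (LinearMap.congr_fun hl q)
    rw [LocalizedModule.mkLinearMap_apply, LocalizedModule.map_mk] at h1
    rw [map_smul, LocalizedModule.mkLinearMap_apply]
    refine h1.trans ?_
    rw [LinearMap.map_smul_of_tower]
    exact congrArg _ (LinearMap.congr_fun hsect _)
  obtain ⟨t, ht⟩ : ∃ t ∈ S, ∀ q, t • (π (l q) - (c : A) • q) = 0 := by
    obtain ⟨G, hG⟩ := (inferInstance : Module.Finite A (F.obj (ModuleCat.of A A) ⧸ LinearMap.range j₀))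
    have hgen : ∀ q, ∃ t : S, (t : A) • (π (l q) - (c : A) • q) = 0 := fun q => by
      obtain ⟨t, ht⟩ := (IsLocalizedModule.eq_iff_exists S (LocalizedModule.mkLinearMap S _)).mp (hloc q)
      exact ⟨t, by rw [smul_sub, sub_eq_zero]; exact ht⟩
    choose tf htf using hgen
    refine ⟨∏ x ∈ G, (tf x : A), Submonoid.prod_mem _ fun x _ => (tf x).2, fun q => ?_⟩
    have hle : Submodule.span A (G : Set _) ≤
        LinearMap.ker ((∏ x ∈ G, (tf x : A)) • (π ∘ₗ l - (c : A) • LinearMap.id)) :=
      Submodule.span_le.mpr fun x hx => by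
        obtain ⟨d, hd⟩ := Finset.dvd_prod_of_mem (fun x => (tf x : A)) hx
        simp only [SetLike.mem_coe, LinearMap.mem_ker, LinearMap.smul_apply, LinearMap.sub_apply,
          LinearMap.comp_apply, LinearMap.id_apply]
        rw [hd, mul_comm, mul_smul, htf, smul_zero]
    exact hle (hG ▸ Submodule.mem_top : q ∈ Submodule.span A (G : Set _))
  obtain ⟨htS, ht⟩ := ht
  let g : A := t * c
  have hg : g ∈ S := Submonoid.mul_mem _ htS c.2
  have hg0 : g ≠ 0 := nonZeroDivisors.ne_zero hg
  let ρ₀ : F.obj (ModuleCat.of A A) →ₗ[A] F.obj (ModuleCat.of A A) := g • LinearMap.id - t • (l ∘ₗ π)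
  have hρ : ∀ x, ρ₀ x ∈ LinearMap.range j₀ := fun x => by
    rw [← Submodule.ker_mkQ (LinearMap.range j₀), LinearMap.mem_ker]
    show π (g • x - t • l (π x)) = 0
    have := ht (π x)
    rw [smul_sub, sub_eq_zero, smul_smul] at this
    rw [map_sub, map_smul, map_smul, this, sub_self]
  let ρ : F.obj (ModuleCat.of A A) →ₗ[A] K.obj (ModuleCat.of A A) :=
    (LinearEquiv.ofInjective j₀ (hι _)).symm.toLinearMap ∘ₗ ρ₀.codRestrict _ hρ
  have hρj : ∀ m, ρ (j₀ m) = g • m := fun m => by
    apply hι
    show j₀ _ = j₀ _
    have h1 : ∀ y, j₀ ((LinearEquiv.ofInjective j₀ (hι _)).symm y) = (y : F.obj (ModuleCat.of A A)) :=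
      fun y => LinearEquiv.ofInjective_symm_apply j₀ _
    rw [show ρ (j₀ m) = _ from rfl, map_smul]
    refine (h1 _).trans ?_
    have : π (j₀ m) = 0 := (Submodule.Quotient.mk_eq_zero _).mpr ⟨m, rfl⟩
    show g • j₀ m - t • l (π (j₀ m)) = _
    rw [this, map_zero, smul_zero, sub_zero]
  refine ⟨U ∩ PrimeSpectrum.basicOpen g, hU.inter (PrimeSpectrum.basicOpen g).2, ?_, fun u hu hft m hm => ?_⟩
  · refine (hUd.inter_of_isOpen_left ?_ hU)
    refine IsOpen.dense (PrimeSpectrum.basicOpen g).2 ⟨⟨⊥, Ideal.isPrime_bot⟩, ?_⟩
    simpa using hg0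
  · obtain ⟨s, hs, hsm⟩ := hGI u hu.1 hft (j₀ m) (by
      have := congrArg (fun f => f.hom m) (ι.naturality (ModuleCat.ofHom (Algebra.linearMap A u.asIdeal.ResidueField)))
      simp only [ModuleCat.hom_comp, LinearMap.comp_apply] at this
      rw [hm, map_zero] at this
      exact this.symm)
    refine ⟨s * g, fun h => (u.isPrime.mem_or_mem h).elim hs hu.2, ?_⟩
    have h2 : ρ (s • j₀ m) ∈ u.asIdeal • (⊤ : Submodule A (K.obj (ModuleCat.of A A))) := by
      refine (?_ : Submodule.map ρ _ ≤ _) (Submodule.mem_map_of_mem hsm)
      rw [Submodule.map_smul'']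
      exact Submodule.smul_mono le_rfl le_top
    rwa [map_smul, hρj, ← mul_smul] at h2

end Groth.Agent.S19711
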