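import Groth.Statements.S19712
import Groth.Agent.BigVol.UnivBound
import Groth.Agent.BigVol.ZeroCoker
import Groth.Agent.HilbLoc.Normal
import Groth.Agent.DualAbs.ClosedDualCor
import Groth.Agent.ShStabLib.BC.Sys
import Groth.Agent.EulerChar.Push
import Groth.Agent.EulerChar.Restrict
import Groth.Agent.NumTriv.Piece
-- import your own Groth.Agent.* helpers here

set_option autoImplicit false
set_option linter.style.haveILetI false
universe u
open CategoryTheory AlgebraicGeometry
open Variety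

namespace Groth.Agent.S19712
open Groth.Agent.ProjTwist Groth.Agent.AmpleLib Groth.Agent.BigVol Groth.Agent.BigVol.CohBound


open Groth.Agent.PullStalk.Sky Groth.Agent.PullStalk.Exact in
theorem support_congr {X : Scheme.{u}} {A B : X.Modules} (e : A ≅ B) :
    CohB1.support A = CohB1.support B := Set.ext fun x =>
  not_congr (Equiv.ofBijective (stalkLin e.hom x) (Function.bijective_iff_has_inverse.2
    ⟨stalkLin e.inv x, fun t => by rw [← CohDev.stalkLin_comp_apply, e.hom_inv_id, CohDev.stalkLin_id_apply],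
      fun t => by rw [← CohDev.stalkLin_comp_apply, e.inv_hom_id, CohDev.stalkLin_id_apply]⟩)).subsingleton_congr

open AlgebraicGeometry.Scheme.Modules in
/-- Uniform cohomology bound on intersections of divisors: let X be an integral scheme, proper over an
algebraically closed field k of characteristic zero and admitting an ample invertible module, of
dimension n (the source works over the complex numbers); let A be an invertible O_X-module which is
very ample (A ≅ i^*O(1) for an immersion into some P^N_k) and such that A ⊗ P' is very ample for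
every invertible P' numerically equivalent to zero, D any invertible O_X-module and 1 ≤ k ≤ n. Then
there is a constant C > 0, determined by X, A and D, such that: for every invertible P numerically
equivalent to zero, every k global sections s_1, …, s_k of A ⊗ P, and every closed subscheme Z of X
whose ideal is generated by the zero-scheme ideals of the s_j (Z = E_1 ∩ ⋯ ∩ E_k with E_j the
divisor of s_j), if Z is reduced and all its irreducible components have dimension n − k, then dim_k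
H^i(Z, (D^{⊗m})|_Z) ≤ C · m^{n−k} for every m ≥ 1 and every i. -/
theorem result
    (k : Type u) [Field k] [IsAlgClosed k] [CharZero k] (X : Scheme.{u})
    [X.Over (Spec (CommRingCat.of k))] [AlgebraicGeometry.IsIntegral X]
    [IsProper (X ↘ Spec (CommRingCat.of k))] (hproj : ∃ A : X.Modules, CohB1.IsAmple A)
    (n : ℕ) (hn : topologicalKrullDim ↥X = n)
    (A : X.Modules) (hA : PicF.IsInvertible A) (hAva : RelAmple.IsRelVeryAmplePn (X ↘ Spec (CommRingCat.of k)) A)
    (hAP : ∀ P' : X.Modules, PicF.IsInvertible P' → Pic13.IsNumEquivZero k X P' →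
      RelAmple.IsRelVeryAmplePn (X ↘ Spec (CommRingCat.of k)) (CohB1.tensorMod A P'))
    (D : X.Modules) (hD : PicF.IsInvertible D) (kk : ℕ) (hk1 : 1 ≤ kk) (hkn : kk ≤ n) :
    ∃ C : ℝ, 0 < C ∧ ∀ (P : X.Modules), PicF.IsInvertible P → Pic13.IsNumEquivZero k X P →
      ∀ (s : Fin kk → (Coh.structureModule X ⟶ CohB1.tensorMod A P))
        (Z : Scheme.{u}) [Z.Over (Spec (CommRingCat.of k))] (ι : Z ⟶ X) [IsClosedImmersion ι],
        ι ≫ (X ↘ Spec (CommRingCat.of k)) = Z ↘ Spec (CommRingCat.of k) →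
        (∀ U : X.affineOpens, ι.ker.ideal U = ⨆ j, (PicF2.zeroScheme (CohB1.tensorMod A P) (s j)).ideal U) →
        AlgebraicGeometry.IsReduced Z →
        (∀ W ∈ irreducibleComponents ↥Z, topologicalKrullDim ↥W = ((n - kk : ℕ) : WithBot ℕ∞)) →
        ∀ (m : ℕ), 1 ≤ m → ∀ i : ℕ,
          (Module.finrank k (Coh.HH Z ((pullback ι).obj (CohB1.tensorPow D m)) i) : ℝ) ≤ C * (m : ℝ) ^ (n - kk) := by
  classical
  haveI := EulerChar.isNoetherian k (X := X)
  haveI : Infinite k := IsAlgClosed.instInfinite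
  obtain ⟨H₀, hH₀⟩ := hproj
  obtain ⟨N, i, hi, hw⟩ := NumTriv.exists_closedImmersion_of_ample (k := k) hH₀
  haveI := hi
  haveI := ProjTwist.Pn.isLocallyNoetherian_projSpace N k
  obtain ⟨A', hA', ⟨eA⟩⟩ := PicLaw.exists_inverse hA
  have cA' : Coh.IsCoh A' := BigVol.isCoh_of_isInvertible hA'
  obtain ⟨m₀, hm₀⟩ := NumTriv.FiniteField.exists_uniform_regular_any i hw cA'
  let p : ℕ := (Curv2.euler k X (Pic13.twistOn k i A' m₀)).toNat
  let A₀ : X.Modules := (Scheme.Modules.pullback i).obj (∐ fun _ : Fin p =>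
    Twist.twistProjSpace N k (-m₀))
  have cA₀ : Coh.IsCoh A₀ := ZClosLib.CohDescent.isCoh_pullback i _
    (ProjTwist.Pn.isCoh_sum _ fun _ => ProjTwist.Pn.isCoh_twistProjSpace N k _)
  have cP₀ : Coh.IsCoh (⨁ fun _ : Fin kk => A₀) := ShStabLib.BC.isCoh_biproduct _ fun _ => cA₀
  have hO := ProperFin.isCoh_structureModule X
  obtain ⟨N₁, hN₁⟩ := AmpleLib.eventually_globallyGenerated hH₀
    (ProjTwist.isQCoh_of_isInvertible hD) (BigVol.isCoh_of_isInvertible hD).2
  obtain ⟨N₂, hN₂⟩ := AmpleLib.eventually_globallyGenerated hH₀ hO.1 hO.2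
  let H := CohB1.tensorPow H₀ (max N₁ N₂)
  have hH : PicF.IsInvertible H := isInvertible_tensorPow hH₀.1 _
  have gH : Curv2.IsGloballyGenerated H := CMReg.isGloballyGenerated_iso (oneTens H) (hN₂ _ (le_max_right _ _))
  have gDH : Curv2.IsGloballyGenerated (CohB1.tensorMod D H) := hN₁ _ (le_max_left _ _)
  let d : ℕ := n - kk + 1
  choose c hc using fun q : ℕ => UnivBound.exists_univ k hD hH gH gDH d q
  have hT : ∀ a b : ℕ, PicF.IsInvertible (CohB1.tensorMod (CohB1.tensorPow D a) (CohB1.tensorPow H b)) :=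
    fun a b => isInvertible_tensorMod (isInvertible_tensorPow hD a) (isInvertible_tensorPow hH b)
  choose K hK using fun a b j : ℕ => UnivBound.exists_bound_ker_coker k hn.le (hT a b) (n + 1) j (by omega) cP₀ hO
  let B : ℕ → ℕ := fun q => ∑ a ∈ Finset.range (d + 1), ∑ b ∈ Finset.range (d + 1),
    ∑ j ∈ Finset.range (q + d + 1), K a b j
  let Ct : ℕ := 2 ^ (n - kk) * ∑ q ∈ Finset.range (n + 1), c q * B q
  refine ⟨(Ct : ℝ) + 1, by positivity, fun P hP hPn s Z _ ι _ hι hker _ hcomp m hm q => ?_⟩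
  haveI : IsProper (Z ↘ Spec (CommRingCat.of k)) := by rw [← hι]; infer_instance
  have hP1 := NumTriv.num1_of_isNumEquivZero k hP hPn
  obtain ⟨P', hP', ⟨eP⟩⟩ := NumTriv.num1_exists_inverse k hP1
  have hF : Coh.IsCoh (CohB1.tensorMod A' P') := NumTriv.isCoh_tens k hP'.1 cA'
  haveI := hF.1
  obtain ⟨φ₀, ⟨ψ⟩⟩ := EulerFam.exists_iso_cokernel i hF (hm₀ P' hP') (p := p) (by
    have h1 := EulerFam.h0Tw_eq_chi (NumTriv.isCoh_G i hP'.1 cA') (CMReg.isMRegular_push i (hm₀ P' hP'))
    have h2 : ProjTwist.Pn.chi (NumTriv.G i A' P') m₀ = Curv2.euler k X (Pic13.twistOn k i A' m₀) := by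
      rw [NumTriv.chi_G i hw hP'.1 cA',
        NumTriv.AnyField.euler_tens_eq_proj i hw (NumTriv.isCoh_twistOn i cA' m₀) hP']
    have h3 : ((ProjTwist.Pn.h0Tw (NumTriv.G i A' P') m₀ : ℕ) : ℤ) =
        Curv2.euler k X (Pic13.twistOn k i A' m₀) := h1.trans h2
    refine Eq.trans ?_ h2.symm
    simp only [p]
    omega)
  let π₀ : A₀ ⟶ CohB1.tensorMod A' P' := Limits.cokernel.π φ₀ ≫ ψ.hom
  haveI : Epi π₀ := epi_comp _ _
  obtain ⟨e⟩ : Nonempty (CohB1.tensorMod (CohB1.tensorMod A' P') (CohB1.tensorMod A P) ≅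
      Coh.structureModule X) := by
    obtain ⟨e₁⟩ := NumEquiv.nonempty_middleFour A' P' A P
    exact ⟨e₁ ≪≫ tensCongr (tensComm A' A ≪≫ eA) eP ≪≫ tensOne _⟩
  obtain ⟨φ, ⟨eQ⟩⟩ := ZeroCoker.exists_presentation (isInvertible_tensorMod hA hP) e π₀ s ι.ker hker
  have cQ : Coh.IsCoh (ClSub.quotMod ι.ker) := EulerChar.isCoh_quotMod k ι.ker
  let eZ := HilbLoc.quotModIso ι
  have hdZ : topologicalKrullDim Z ≤ ((n - kk : ℕ) : WithBot ℕ∞) :=
    DualAbs.dim_le_of_components hcomp
  have hsupp : topologicalKrullDim (CohB1.support (ClSub.quotMod ι.ker)) < (d : WithBot ℕ∞) := by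
    rw [support_congr eZ]
    refine lt_of_le_of_lt ?_ (Nat.cast_lt.mpr (Nat.lt_succ_self (n - kk)))
    exact (NumTriv.dim_support_push_le ι _).trans
      ((Topology.IsEmbedding.subtypeVal).isInducing.topologicalKrullDim_le.trans hdZ)
  haveI : (CohB1.tensorPow D m).IsQuasicoherent :=
    ProjTwist.isQCoh_of_isInvertible (isInvertible_tensorPow hD m)
  have hHH : h k ((Scheme.Modules.pullback ι).obj (CohB1.tensorPow D m)) q = hh k (ClSub.quotMod ι.ker) D m q := by
    obtain ⟨eq⟩ := EulerChar.nonempty_pushEquiv ι hι ((Scheme.Modules.pullback ι).obj (CohB1.tensorPow D m))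
      inferInstance q
    refine eq.finrank_eq.symm.trans (Pn.finrank_hh_iso ?_ q)
    exact (EulerChar.tensQuotIso ι (CohB1.tensorPow D m)).symm ≪≫ tensCongr (Iso.refl _) eZ.symm ≪≫ tensComm _ _
  have key : hh k (ClSub.quotMod ι.ker) D m q ≤ Ct * m ^ (n - kk) := by
    rcases Nat.lt_or_ge n q with hq | hq
    · exact (UnivBound.h_eq_zero_of_dim k hn.le _ hq).le.trans (Nat.zero_le _)
    have hΦ : UnivBound.Phi k D H (ClSub.quotMod ι.ker) d q ≤ B q :=
      Finset.sum_le_sum fun a _ => Finset.sum_le_sum fun b _ => Finset.sum_le_sum fun j _ =>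
        le_of_eq_of_le (Pn.finrank_hh_iso (tensCongr eQ.symm (Iso.refl _)) j) (hK a b j φ).2
    refine ((hc q _ cQ hsupp m).trans (Nat.mul_le_mul_right _ (Nat.mul_le_mul_left _ hΦ))).trans ?_
    have h1 : c q * B q ≤ ∑ q ∈ Finset.range (n + 1), c q * B q :=
      Finset.single_le_sum (f := fun q => c q * B q) (fun _ _ => Nat.zero_le _)
        (Finset.mem_range.2 (Nat.lt_succ_of_le hq))
    refine (Nat.mul_le_mul_right _ h1).trans ?_
    have h2 : g d m ≤ 2 ^ (n - kk) * m ^ (n - kk) := by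
      show (m + 1) ^ (n - kk) ≤ _
      rw [← mul_pow]
      exact Nat.pow_le_pow_left (by omega) _
    refine (Nat.mul_le_mul_left _ h2).trans (le_of_eq ?_)
    simp only [Ct]
    ring
  calc (Module.finrank k (Coh.HH Z ((Scheme.Modules.pullback ι).obj (CohB1.tensorPow D m)) q) : ℝ)
      ≤ ((Ct * m ^ (n - kk) : ℕ) : ℝ) := Nat.cast_le.2 (hHH.trans_le key)
    _ ≤ ((Ct : ℝ) + 1) * (m : ℝ) ^ (n - kk) := by
      push_cast
      exact mul_le_mul_of_nonneg_right (by linarith) (by positivity)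

end Groth.Agent.S19712
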