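import Groth.Statements.S19715
import Groth.Agent.StModLib.FlatInj
import Groth.Agent.StFib.Grpd

set_option autoImplicit false
set_option backward.isDefEq.respectTransparency false
set_option backward.isDefEq.respectTransparency.types false
universe u
open TwSh

namespace Groth.Agent.S19715

open CategoryTheory AlgebraicGeometry Opposite

/-- The inertial action commutes with comparison maps. -/
theorem map_inert {S : Scheme.{u}} {𝒳 : AlgSt.Cat S} (F : StMod.Mod 𝒳) {ξ' ξ : 𝒳.obj} (ψ : ξ' ⟶ ξ)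
    (α' : Gerb.AutO ξ') (α : Gerb.AutO ξ) (h : α'.hom.1 ≫ ψ = ψ ≫ α.hom.1)
    (U : (StMod.sch 𝒳 ξ).Opens) (s : Γ(F.obj ξ, U)) :
    (TwSh.inert F ξ' α').app (StMod.bmap 𝒳 ψ ⁻¹ᵁ U) ((F.map ψ rfl).app U s) =
      (F.map ψ rfl).app U ((TwSh.inert F ξ α).app U s) := by
  rw [TwSh.inert_app_apply, TwSh.inert_app_apply]
  have k1 := congrArg (fun f => (ConcreteCategory.hom f) s)
    (StMod.Mod.map_comp_app F α'.hom.1 ψ (TwSh.bmap_autO ξ' α') rfl U)
  have k2 := congrArg (fun f => (ConcreteCategory.hom f) s)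
    (StMod.Mod.map_comp_app F ψ α.hom.1 rfl (TwSh.bmap_autO ξ α) U)
  simp only at k1 k2
  rw [StMod.Mod.map_congr F h] at k1
  have t := TwSh.map_app_heq F (ψ ≫ α.hom.1) (g := 𝟙 _ ≫ StMod.bmap 𝒳 ψ)
    (g' := StMod.bmap 𝒳 ψ ≫ 𝟙 _) (by rw [StMod.bmap_comp, TwSh.bmap_autO, Category.comp_id, Category.id_comp])
    (by rw [StMod.bmap_comp, TwSh.bmap_autO]) U s
  exact k1.symm.trans ((eq_of_heq t).trans k2)

theorem charUnit_map {S : Scheme.{u}} {𝒳 : AlgSt.Cat S} {A : (Over S)ᵒᵖ ⥤ GrpCat.{u}} (χ : A ⟶ TwSh.GmPsh S)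
    {ξ' ξ : 𝒳.obj} (ψ : ξ' ⟶ ξ) (a : A.obj (op (𝒳.p.obj ξ))) (d : ℤ) :
    (StMod.bmap 𝒳 ψ).appTop ((TwSh.charUnit χ ξ a ^ d)⁻¹).val =
      ((TwSh.charUnit χ ξ' (A.map (𝒳.p.map ψ).op a) ^ d)⁻¹).val := by
  have h1 : TwSh.charUnit χ ξ' (A.map (𝒳.p.map ψ).op a) =
      Units.map ((StMod.bmap 𝒳 ψ).appTop.hom.toMonoidHom) (TwSh.charUnit χ ξ a) :=
    ConcreteCategory.congr_hom (χ.naturality (𝒳.p.map ψ).op) a
  rw [h1, ← map_zpow, ← map_inv]
  rfl

/-- Being twisted is local on the base. Let 𝒳 → X be an fppf A-gerbe over a scheme X, χ a character of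
A, d an integer and F a quasi-coherent module on 𝒳. If {T_i → X} is a family of flat morphisms
locally of finite presentation whose images cover X, and for every i the restriction of F to the
gerbe restricted over T_i is d-fold χ-twisted for the restricted action, then F is d-fold χ-twisted.
(The published statement is an equivalence, for arbitrary modules on an A-gerbe over a locally
ringed site and a covering of it; the converse implication holds by construction and is not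
asserted, and this row is the quasi-coherent form over the big fppf site of a scheme.) -/
theorem result (S : Scheme.{u}) (X : Over S) (𝒳 : AlgSt.Cat S) (h𝒳 : AlgSt.IsAlgStack Scheme.fppfPrecoverage 𝒳) (A : (Over S)ᵒᵖ ⥤ GrpCat.{u}) (χ : A ⟶ TwSh.GmPsh S) (d : ℤ) (π : 𝒳 ⥤ᵇ AlgSt.ofSch X) (ι : TwSh.BandHom 𝒳 A) (hπ : TwSh.IsBandedGerbe (QuotSh.J Scheme.fppfPrecoverage S) π ι) (I : Type u) (η : I → (AlgSt.ofSch X).obj) (hfl : ∀ i, Flat (η i).sec.down.left) (hfp : ∀ i, LocallyOfFinitePresentation (η i).sec.down.left) (hcov : ∀ x : X.left, ∃ i, x ∈ Set.range (η i).sec.down.left.base) (F : StMod.QCoh 𝒳) (h : ∀ i, TwSh.IsTwisted (StMod.Mod.comap (StMod.fibFst π (η i)) F.obj) (TwSh.BandHom.fib π (η i) ι (TwSh.IsBandedGerbe.map_hom_eq_id π hπ)) χ d) : TwSh.IsTwisted F.obj ι χ d := by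
  intro ξ a U s
  rw [← sub_eq_zero]
  refine Groth.Agent.StModLib.eq_zero_of_flat_family F.property.1 U _ fun y _ => ?_
  let t : 𝒳.p.obj ξ ⟶ X := eqToHom (π.w_obj ξ).symm ≫ (π.obj ξ).sec.down
  obtain ⟨i, hi⟩ := hcov (t.left y)
  let b : (η i).base ⟶ X := (η i).sec.down
  let c := Limits.pullback.fst t.left b.left
  let T' : Over S := Over.mk (c ≫ (𝒳.p.obj ξ).hom)
  obtain ⟨ξ', e', ψ, hψ⟩ := Groth.Agent.StFib.grpd_exists_lift h𝒳.isStack.1 ξ
    (Over.homMk c rfl : T' ⟶ 𝒳.p.obj ξ)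
  have hflc : Flat c := by
    have : Flat b.left := hfl i
    infer_instance
  have hb : StMod.bmap 𝒳 ψ = eqToHom (congrArg (fun o : Over S => o.left) e') ≫ c := by
    show (𝒳.p.map ψ).left = _
    rw [hψ, Over.comp_left, Over.eqToHom_left]
    rfl
  refine ⟨ξ', ψ, by rw [hb]; infer_instance, ?_, ?_⟩
  · obtain ⟨z, hz⟩ := hi
    obtain ⟨w, hw, -⟩ := Scheme.Pullback.exists_preimage_pullback (f := t.left) (g := b.left) y z hz.symm
    have : Surjective (eqToHom (congrArg (fun o : Over S => o.left) e')) := inferInstance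
    obtain ⟨v, hv⟩ := this.surj w
    exact ⟨v, by rw [hb, Scheme.Hom.comp_apply]; exact (congrArg c hv).trans hw⟩
  -- the restricted object maps to `η i`
  let l : T' ⟶ (η i).base := Over.homMk (Limits.pullback.snd t.left b.left) (by
    show Limits.pullback.snd t.left b.left ≫ (η i).base.hom = c ≫ (𝒳.p.obj ξ).hom
    rw [← Over.w b, ← Over.w t, ← Category.assoc, ← Category.assoc]
    exact congrArg (· ≫ X.hom) Limits.pullback.condition.symm)
  have hl : (Over.homMk c rfl : T' ⟶ 𝒳.p.obj ξ) ≫ t = l ≫ b := Over.OverMorphism.ext Limits.pullback.condition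
  let α : π.obj ξ' ⟶ η i := ⟨eqToHom ((π.w_obj ξ').trans e') ≫ l, by
    apply ULift.ext
    show (eqToHom ((π.w_obj ξ').trans e') ≫ l) ≫ (η i).sec.down = (π.obj ξ').sec.down
    have h2 : (π.map ψ).hom ≫ (π.obj ξ).sec.down = (π.obj ξ').sec.down :=
      congrArg ULift.down (π.map ψ).map_sec
    have h3 : (π.map ψ).hom = eqToHom (π.w_obj ξ') ≫ 𝒳.p.map ψ ≫ eqToHom (π.w_obj ξ).symm :=
      Groth.Agent.StFib.w_map π ψ
    rw [← h2, h3, hψ]
    simp only [Category.assoc, eqToHom_trans_assoc]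
    exact congrArg (eqToHom _ ≫ ·) hl.symm⟩
  let x : (StMod.fibCat π (η i)).obj := CostructuredArrow.mk (Y := ξ') α
  let a' : A.obj (op (𝒳.p.obj ξ')) := A.map (𝒳.p.map ψ).op a
  have key := h i x a' (StMod.bmap 𝒳 ψ ⁻¹ᵁ U) ((F.obj.map ψ rfl).app U s)
  change (TwSh.inert _ x (TwSh.autOFib π (η i) x (ι.hom ξ' a')
    (TwSh.IsBandedGerbe.map_hom_eq_id π hπ ξ' a'))).app _ _ = _ at key
  rw [TwSh.inert_comap_fibFst] at key
  rw [map_sub, sub_eq_zero]
  refine (map_inert F.obj ψ (ι.hom ξ' a') (ι.hom ξ a) (ι.natural ψ a) U s).symm.trans (key.trans ?_)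
  refine Eq.trans ?_ (Scheme.Modules.Hom.app_smul (F.obj.map ψ rfl) _ s).symm
  refine congrArg (fun r : Γ(StMod.sch 𝒳 ξ', StMod.bmap 𝒳 ψ ⁻¹ᵁ U) =>
    r • (show Γ(F.obj.obj ξ', StMod.bmap 𝒳 ψ ⁻¹ᵁ U) from (F.obj.map ψ rfl).app U s)) ?_
  rw [show TwSh.charUnit χ x a' = TwSh.charUnit χ ξ' a' from rfl, ← charUnit_map χ ψ a d]
  exact (ConcreteCategory.congr_hom ((StMod.bmap 𝒳 ψ).naturality (homOfLE (le_top : U ≤ ⊤)).op) _).symm

end Groth.Agent.S19715
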