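import Groth.Statements.S19717
import Groth.Agent.StModLib.FinDesc
import Groth.Agent.AlgSp.Basic
-- import your own Groth.Agent.* helpers here

set_option autoImplicit false
set_option linter.style.haveILetI false
universe u
open TwSh

namespace Groth.Agent.S19717

open CategoryTheory AlgebraicGeometry

theorem castMod_transfer {X T : Scheme.{u}} (h : X = T) (M : X.Modules)
    (P : ∀ Z : Scheme.{u}, Z.Modules → Prop) : P T (StMod.castMod h M) ↔ P X M := by
  subst h; rfl

/-- Every object of the base of a gerbe has a flat locally finitely presented jointly surjective family of objects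
coming from the gerbe mapping to it. -/
theorem exists_family {S : Scheme.{u}} {𝒳 𝒴 : AlgSt.Cat S} (π : 𝒳 ⥤ᵇ 𝒴)
    (hπ : Gerb.LocSurjObj (QuotSh.J Scheme.fppfPrecoverage S) π) (y : 𝒴.obj) :
    ∃ (κ : Type (u + 1)) (x : κ → 𝒳.obj) (g : ∀ j, π.obj (x j) ⟶ y),
      (∀ j, Flat (StMod.bmap 𝒴 (g j))) ∧ (∀ j, LocallyOfFinitePresentation (StMod.bmap 𝒴 (g j))) ∧
        ∀ t : StMod.sch 𝒴 y, ∃ j, t ∈ Set.range (StMod.bmap 𝒴 (g j)) := by
  obtain ⟨R, hR, hlift⟩ := hπ y
  obtain ⟨R₀, hR₀, hsub⟩ := Groth.Agent.AlgSp.exists_cover_of_mem hR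
  obtain ⟨κ, W, c, rfl⟩ := R₀.exists_eq_ofArrows
  obtain ⟨hs, hc⟩ := (Scheme.ofArrows_mem_precoverage_iff _).1 hR₀
  choose x g hg using fun j => hlift _ (hsub (c j) (Presieve.ofArrows.mk j))
  have key : ∀ j, ∃ e : StMod.sch 𝒴 (π.obj (x j)) ≅ W j,
      StMod.bmap 𝒴 (g j) = e.hom ≫ c j := by
    intro j
    haveI := hg j
    have ha := IsHomLift.domain_eq 𝒴.p (Over.homMk (c j) rfl : Over.mk (c j ≫ (𝒴.p.obj y).hom) ⟶ _) (g j)
    have hf := IsHomLift.fac' 𝒴.p (Over.homMk (c j) rfl : Over.mk (c j ≫ (𝒴.p.obj y).hom) ⟶ _) (g j)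
    refine ⟨(Over.forget S).mapIso (eqToIso ha), ?_⟩
    have := congrArg CommaMorphism.left hf
    simp only [Over.comp_left, Over.homMk_left, eqToHom_refl, Category.comp_id] at this
    exact this
  refine ⟨κ, x, g, fun j => ?_, fun j => ?_, fun t => ?_⟩
  · obtain ⟨e, h⟩ := key j
    rw [h]; exact (@MorphismProperty.cancel_left_of_respectsIso _ _ @Flat MorphismProperty.IsStableUnderBaseChange.respectsIso _ _ _ e.hom (c j) _).2 (hc j).1
  · obtain ⟨e, h⟩ := key j
    rw [h]
    exact (@MorphismProperty.cancel_left_of_respectsIso _ _ @LocallyOfFinitePresentation MorphismProperty.IsStableUnderBaseChange.respectsIso _ _ _ e.hom (c j) _).2 (hc j).2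
  · obtain ⟨j, w, hw⟩ := hs t
    obtain ⟨e, h⟩ := key j
    obtain ⟨w', rfl⟩ := e.hom.surjective w
    exact ⟨j, w', by rw [h]; exact hw⟩

open CategoryTheory AlgebraicGeometry in
/-- Second assertion: let π : 𝒳 → 𝒴 be an fppf A-gerbe of algebraic stacks, for a presheaf of groups A
on schemes over S acting through the inertia of 𝒳, and let G be a quasi-coherent module on 𝒴. Then G
is of finite type if and only if its inverse image along π is; likewise for finite presentation, and
for being locally free of finite type. (The published statement is for all modules on a gerbe over a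
locally ringed site and for any property preserved by pullback along morphisms of sites, naming also
quasi-coherence, flatness and local freeness; this row is its quasi-coherent form for the three
properties named, local freeness being taken together with finite type.) -/
theorem result (S : Scheme.{u}) (𝒳 𝒴 : AlgSt.Cat S) (h𝒳 : AlgSt.IsAlgStack Scheme.fppfPrecoverage 𝒳) (h𝒴 : AlgSt.IsAlgStack Scheme.fppfPrecoverage 𝒴) (A : (Over S)ᵒᵖ ⥤ GrpCat.{u}) (π : 𝒳 ⥤ᵇ 𝒴) (ι : TwSh.BandHom 𝒳 A) (hπ : TwSh.IsBandedGerbe (QuotSh.J Scheme.fppfPrecoverage S) π ι) (G : StMod.QCoh 𝒴) : (G.obj.IsFinType ↔ ((StMod.comapQ π).obj G).obj.IsFinType) ∧ (G.obj.IsFinPres ↔ ((StMod.comapQ π).obj G).obj.IsFinPres) ∧ ((G.obj.IsLocFree ∧ G.obj.IsFinType) ↔ (((StMod.comapQ π).obj G).obj.IsLocFree ∧ ((StMod.comapQ π).obj G).obj.IsFinType)) := by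
  have hQ : ∀ η : 𝒴.obj, (G.obj.obj η).IsQuasicoherent := G.property.2
  have hobj : ∀ ξ : 𝒳.obj, ((StMod.comapQ π).obj G).obj.obj ξ =
      StMod.castMod (StMod.sch_obj_eq π ξ) (G.obj.obj (π.obj ξ)) := fun _ => rfl
  -- the three properties, object by object
  let PT : ∀ Z : Scheme.{u}, Z.Modules → Prop := fun Z M => SheafOfModules.IsFiniteType.{u} (R := Z.ringCatSheaf) M
  let PP : ∀ Z : Scheme.{u}, Z.Modules → Prop :=
    fun Z M => SheafOfModules.IsFinitePresentation.{u} (R := Z.ringCatSheaf) M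
  let PL : ∀ Z : Scheme.{u}, Z.Modules → Prop := fun Z M => SheafOfModules.IsLocallyFree (R := Z.ringCatSheaf) M
  have hT : G.obj.IsFinType ↔ ((StMod.comapQ π).obj G).obj.IsFinType := by
    refine ⟨fun h ξ => (hobj ξ).symm ▸ (castMod_transfer _ _ PT).2 (h _), fun h η => ?_⟩
    obtain ⟨κ, x, g, hfl, hfp, hs⟩ := exists_family π hπ.1.1 η
    haveI := hQ η
    haveI := fun j => hQ (π.obj (x j))
    exact StModLib.isFiniteType_of_family _ hfl hfp hs _ _
      (fun j => @asIso _ _ _ _ _ (G.property.1 (g j) rfl))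
      fun j => (castMod_transfer _ _ PT).1 (hobj (x j) ▸ h (x j))
  have hP : G.obj.IsFinPres ↔ ((StMod.comapQ π).obj G).obj.IsFinPres := by
    refine ⟨fun h ξ => (hobj ξ).symm ▸ (castMod_transfer _ _ PP).2 (h _), fun h η => ?_⟩
    obtain ⟨κ, x, g, hfl, hfp, hs⟩ := exists_family π hπ.1.1 η
    haveI := hQ η
    haveI := fun j => hQ (π.obj (x j))
    exact StModLib.isFP_of_family _ hfl hfp hs _ _
      (fun j => @asIso _ _ _ _ _ (G.property.1 (g j) rfl))
      fun j => (castMod_transfer _ _ PP).1 (hobj (x j) ▸ h (x j))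
  refine ⟨hT, hP, fun h => ⟨fun ξ => (hobj ξ).symm ▸ (castMod_transfer _ _ PL).2 (h.1 _), hT.1 h.2⟩,
    fun h => ⟨fun η => ?_, hT.2 h.2⟩⟩
  obtain ⟨κ, x, g, hfl, hfp, hs⟩ := exists_family π hπ.1.1 η
  haveI := hQ η
  haveI := fun j => hQ (π.obj (x j))
  refine StModLib.isLocallyFree_of_isFinLocFree _ (StModLib.isFinLocFree_of_family _ hfl hfp hs _ _
      (fun j => @asIso _ _ _ _ _ (G.property.1 (g j) rfl)) fun j => ?_)
  haveI : SheafOfModules.IsFiniteType.{u} (G.obj.obj (π.obj (x j))) :=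
    (castMod_transfer _ _ PT).1 (hobj (x j) ▸ h.2 (x j))
  exact StModLib.isFinLocFree_of_isLocallyFree _ ((castMod_transfer _ _ PL).1 (hobj (x j) ▸ h.1 (x j)))

end Groth.Agent.S19717
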