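import Groth.Statements.S1972
import Groth.Agent.S7179
import Groth.Agent.Hens.IndEtale

set_option autoImplicit false
universe u
open EtAlg

open scoped TensorProduct

namespace Groth.Agent.S1972

/-- Let R be a local ring and S a henselization or a strict henselization of R. Then the nilradical of S
is the extension of the nilradical of R. -/
theorem result (R S : Type u) [CommRing R] [IsLocalRing R] [CommRing S] [IsLocalRing S]
    [Algebra R S] [IsLocalHom (algebraMap R S)]
    (h : Hensel.IsHenselization R S ∨ Hensel.IsStrictHenselization R S) :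
    (nilradical R).map (algebraMap R S) = nilradical S := by
  haveI : Algebra.WeaklyEtale R S := by
    rcases h with h | h
    · exact Groth.Agent.IndAlg.Etale.weaklyEtale
        (Groth.Agent.IndAlg.fac_algEquiv (Groth.Agent.Hens.henselizationEquiv (R := R) S) Groth.Agent.Hens.fac_etLoc)
    · exact Groth.Agent.IndAlg.Etale.weaklyEtale
        (Groth.Agent.IndAlg.fac_algEquiv (Groth.Agent.Hens.strictHenselizationEquiv (R := R) S) Groth.Agent.Hens.fac_etLoc)
  haveI : IsReduced (R ⧸ nilradical R) :=
    (Ideal.isRadical_iff_quotient_reduced _).mp (Ideal.radical_isRadical ⊥)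
  haveI : IsReduced ((R ⧸ nilradical R) ⊗[R] S) :=
    Groth.Agent.S7179.isReduced_of_weaklyEtale (R ⧸ nilradical R) ((R ⧸ nilradical R) ⊗[R] S)
  haveI : IsReduced (S ⊗[R] (R ⧸ nilradical R)) :=
    isReduced_of_injective (Algebra.TensorProduct.comm R S (R ⧸ nilradical R))
      (Algebra.TensorProduct.comm R S (R ⧸ nilradical R)).injective
  haveI : IsReduced (S ⧸ (nilradical R).map (algebraMap R S)) :=
    isReduced_of_injective (Algebra.TensorProduct.quotIdealMapEquivTensorQuot S (nilradical R))
      (Algebra.TensorProduct.quotIdealMapEquivTensorQuot S (nilradical R)).injective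
  refine le_antisymm ?_ ?_
  · rw [Ideal.map_le_iff_le_comap]
    exact fun x hx => IsNilpotent.map hx (algebraMap R S)
  · intro x hx
    rw [← Ideal.Quotient.eq_zero_iff_mem]
    exact (IsNilpotent.map (mem_nilradical.mp hx) (Ideal.Quotient.mk _)).eq_zero

end Groth.Agent.S1972
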