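import Groth.Statements.S1973
import Mathlib

set_option autoImplicit false
universe u
open EtAlg

namespace Groth.Agent.S1973

/-- A Noetherian local ring whose maximal ideal is generated by a nonzerodivisor is a DVR. -/
lemma dvr_of_regular_generator {R : Type u} [CommRing R] [IsNoetherianRing R] [IsLocalRing R] (π : R)
    (hπ : IsLocalRing.maximalIdeal R = Ideal.span {π}) (hreg : ∀ x, π * x = 0 → x = 0) :
    ∃ _ : IsDomain R, IsDiscreteValuationRing R := by
  have hrep : ∀ x : R, x ≠ 0 → ∃ (n : ℕ) (u : Rˣ), x = u * π ^ n := fun x hx => by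
    have hex : ∃ n, ¬ π ^ n ∣ x := by
      by_contra h
      push Not at h
      refine hx ?_
      have : x ∈ ⨅ n : ℕ, (IsLocalRing.maximalIdeal R) ^ n := Submodule.mem_iInf _ |>.mpr fun n => by
        rw [hπ, Ideal.span_singleton_pow, Ideal.mem_span_singleton]; exact h n
      rwa [Ideal.iInf_pow_eq_bot_of_isLocalRing _ (IsLocalRing.maximalIdeal.isMaximal R).ne_top] at this
    classical
    obtain ⟨n, hn⟩ : ∃ n, Nat.find hex = n + 1 :=
      ⟨Nat.find hex - 1, (Nat.succ_pred_eq_of_ne_zero fun h0 => Nat.find_spec hex (by rw [h0, pow_zero]; exact one_dvd x)).symm⟩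
    obtain ⟨c, hc⟩ := not_not.mp (Nat.find_min hex (show n < Nat.find hex by omega))
    have hcu : IsUnit c := by
      by_contra h
      have : c ∈ IsLocalRing.maximalIdeal R := (IsLocalRing.mem_maximalIdeal c).mpr h
      rw [hπ, Ideal.mem_span_singleton] at this
      obtain ⟨d, rfl⟩ := this
      exact Nat.find_spec hex ((congrArg (π ^ ·) hn).symm ▸ (⟨d, hc.trans (by rw [pow_succ, mul_assoc])⟩ : π ^ (n + 1) ∣ x))
    exact ⟨n, hcu.unit, by rw [hc, IsUnit.unit_spec, mul_comm]⟩
  have hpow : ∀ (n : ℕ) (x : R), π ^ n * x = 0 → x = 0 := fun n => by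
    induction n with
    | zero => intro x h; simpa using h
    | succ n ih => intro x h; exact hreg x (ih _ (by rw [← mul_assoc, ← pow_succ]; exact h))
  haveI : NoZeroDivisors R := ⟨fun {a b} hab => by
    by_cases ha : a = 0
    · exact Or.inl ha
    · obtain ⟨n, u, rfl⟩ := hrep a ha
      exact Or.inr (hpow n b ((Units.mul_right_eq_zero u).mp (by rw [← mul_assoc]; exact hab)))⟩
  haveI hd : IsDomain R := NoZeroDivisors.to_isDomain R
  refine ⟨hd, ?_⟩
  have hnf : ¬ IsField R := fun h => by
    rw [IsLocalRing.isField_iff_maximalIdeal_eq, hπ, Ideal.span_singleton_eq_bot] at h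
    exact one_ne_zero (hreg 1 (by rw [h, zero_mul]))
  exact ((IsDiscreteValuationRing.TFAE R hnf).out 0 4 rfl rfl).mpr ⟨π, hπ⟩

/-- The stalks of an étale algebra over a Dedekind domain. -/
lemma stalk (A B : Type u) [CommRing A] [IsDedekindDomain A] [CommRing B] [Algebra A B]
    [Algebra.Etale A B] (q : Ideal B) [q.IsPrime] :
    ∃ _ : IsDomain (Localization.AtPrime q),
      IsField (Localization.AtPrime q) ∨ IsDiscreteValuationRing (Localization.AtPrime q) := by
  haveI : IsNoetherianRing B := Algebra.FiniteType.isNoetherianRing A B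
  haveI : IsNoetherianRing (Localization.AtPrime q) := IsLocalization.isNoetherianRing q.primeCompl _ inferInstance
  set p := q.under A
  haveI : q.LiesOver p := ⟨rfl⟩
  haveI : Algebra.IsUnramifiedAt A q := Algebra.FormallyUnramified.comp A B (Localization.AtPrime q)
  letI := Localization.AtPrime.algebraOfLiesOver p q
  have hmap : p.map (algebraMap A (Localization.AtPrime q)) = IsLocalRing.maximalIdeal _ :=
    ((Algebra.isUnramifiedAt_iff_map_eq A p q).mp ‹_›).2
  by_cases hp : p = ⊥
  · rw [hp, Ideal.map_bot] at hmap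
    have hf : IsField (Localization.AtPrime q) := IsLocalRing.isField_iff_maximalIdeal_eq.mpr hmap.symm
    exact ⟨hf.isDomain, Or.inl hf⟩
  haveI := IsLocalization.AtPrime.isDiscreteValuationRing_of_dedekind_domain A hp (Localization.AtPrime p)
  obtain ⟨ϖ, hϖ⟩ := IsDiscreteValuationRing.exists_irreducible (Localization.AtPrime p)
  obtain ⟨⟨a, s⟩, has⟩ := IsLocalization.surj p.primeCompl ϖ
  have hgen : IsLocalRing.maximalIdeal (Localization.AtPrime p) = Ideal.span {algebraMap A _ a} := by
    rw [← has, Ideal.span_singleton_mul_right_unit (IsLocalization.map_units _ s)]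
    exact (IsDiscreteValuationRing.irreducible_iff_uniformizer ϖ).mp hϖ
  have hap : a ∈ p := (IsLocalization.AtPrime.to_map_mem_maximal_iff (Localization.AtPrime p) p a).mp
    (hgen ▸ Ideal.mem_span_singleton_self _)
  have ha0 : a ≠ 0 := fun h => IsDiscreteValuationRing.not_a_field (Localization.AtPrime p) (by
    rw [hgen, h, map_zero, Ideal.span_singleton_eq_bot])
  have heq : IsLocalRing.maximalIdeal (Localization.AtPrime q) = Ideal.span {algebraMap A _ a} := by
    rw [← hmap]
    refine le_antisymm (Ideal.map_le_iff_le_comap.mpr fun y hy => ?_) ((Ideal.span_singleton_le_iff_mem _).mpr (Ideal.mem_map_of_mem _ hap))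
    have h1 : algebraMap A (Localization.AtPrime p) y ∈ Ideal.span {algebraMap A _ a} :=
      hgen ▸ (IsLocalization.AtPrime.to_map_mem_maximal_iff (Localization.AtPrime p) p y).mpr hy
    obtain ⟨c, hc⟩ := Ideal.mem_span_singleton.mp h1
    obtain ⟨⟨r, t⟩, hrt⟩ := IsLocalization.surj p.primeCompl c
    have h2 : algebraMap A (Localization.AtPrime p) (y * t) = algebraMap A _ (a * r) := by
      rw [map_mul, map_mul, hc, mul_assoc, hrt]
    obtain ⟨w, hw⟩ := IsLocalization.exists_of_eq (M := p.primeCompl) h2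
    have hu : ∀ z : p.primeCompl, IsUnit (algebraMap A (Localization.AtPrime q) z) := fun z => by
      rw [IsScalarTower.algebraMap_apply A B (Localization.AtPrime q)]
      exact IsLocalization.map_units _ (⟨algebraMap A B z, z.2⟩ : q.primeCompl)
    rw [Ideal.mem_comap, ← Ideal.mul_unit_mem_iff_mem _ ((hu w).mul (hu t)), Ideal.mem_span_singleton]
    refine ⟨algebraMap A _ (r * w), ?_⟩
    rw [← map_mul, ← map_mul, ← map_mul]
    exact congrArg _ (by linear_combination hw)
  obtain ⟨hd, hdvr⟩ := dvr_of_regular_generator _ heq fun x hx => by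
    haveI : Module.Flat B (Localization.AtPrime q) := IsLocalization.flat _ q.primeCompl
    haveI : Module.Flat A (Localization.AtPrime q) := Module.Flat.trans A B _
    refine (Module.Flat.isSMulRegular_of_nonZeroDivisors (R := A) (M := Localization.AtPrime q) (mem_nonZeroDivisors_of_ne_zero ha0)) ?_
    show a • x = a • 0
    rw [Algebra.smul_def, hx, smul_zero]
  exact ⟨hd, Or.inr hdvr⟩

/-- Let A be a Dedekind domain and B an etale A-algebra. Then B is isomorphic as a ring to a finite
product of Dedekind domains, and for every maximal ideal q of B whose localization is not a field,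
the localization B_q is a discrete valuation ring. (The source states the last claim for all maximal
ideals; it fails for field factors, e.g. A a DVR with uniformizer π and B = A[1/π], so the guard is
needed.) -/
theorem result (A B : Type u) [CommRing A] [IsDedekindDomain A] [CommRing B] [Algebra A B]
    [Algebra.Etale A B] :
    (∃ (n : ℕ) (D : Fin n → Type u) (_ : ∀ i, CommRing (D i)) (_ : ∀ i, IsDedekindDomain (D i)),
      Nonempty (B ≃+* ∀ i, D i)) ∧
    ∀ (q : Ideal B) [q.IsMaximal], ¬ IsField (Localization.AtPrime q) →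
      ∃ _ : IsDomain (Localization.AtPrime q), IsDiscreteValuationRing (Localization.AtPrime q) := by
  classical
  refine ⟨?_, fun q hq hnf => ?_⟩
  swap
  · obtain ⟨hd, h | h⟩ := stalk A B q
    · exact absurd h hnf
    · exact ⟨hd, h⟩
  haveI : IsNoetherianRing B := Algebra.FiniteType.isNoetherianRing A B
  have hdom : ∀ q : Ideal B, ∀ _ : q.IsPrime, IsDomain (Localization.AtPrime q) := fun q _ => (stalk A B q).1
  haveI : IsReduced B := isReduced_ofLocalizationMaximal B fun J hJ => by
    haveI := hdom J hJ.isPrime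
    infer_instance
  have hfin := minimalPrimes.finite_of_isNoetherianRing B
  let n := hfin.toFinset.card
  let e := hfin.toFinset.equivFin.symm
  let P : Fin n → Ideal B := fun i => (e i).1
  have hP : ∀ i, P i ∈ minimalPrimes B := fun i => hfin.mem_toFinset.mp (e i).2
  haveI hPp : ∀ i, (P i).IsPrime := fun i => (hP i).1.1
  have huniq : ∀ (J Q Q' : Ideal B) (_ : J.IsPrime), Q ∈ minimalPrimes B → Q' ∈ minimalPrimes B → Q ≤ J → Q' ≤ J → Q = Q' := by
    intro J Q Q' hJ hQ hQ' hle hle'
    haveI := hdom J hJ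
    have key : ∀ Q ∈ minimalPrimes B, Q ≤ J → Q = RingHom.ker (algebraMap B (Localization.AtPrime J)) := fun Q hQ hle => by
      have hsub : RingHom.ker (algebraMap B (Localization.AtPrime J)) ≤ Q := fun x hx => by
        obtain ⟨t, ht⟩ := (IsLocalization.map_eq_zero_iff J.primeCompl _ x).mp hx
        exact (hQ.1.1.mem_or_mem (ht ▸ Q.zero_mem)).resolve_left fun h => t.2 (hle h)
      exact le_antisymm (hQ.2 ⟨RingHom.ker_isPrime _, bot_le⟩ hsub) hsub
    rw [key Q hQ hle, key Q' hQ' hle']
  have hcop : Pairwise fun i j => IsCoprime (P i) (P j) := fun i j hij => by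
    show IsCoprime (P i) (P j)
    rw [Ideal.isCoprime_iff_sup_eq]
    by_contra h
    obtain ⟨J, hJ, hle⟩ := Ideal.exists_le_maximal _ h
    exact hij (e.injective (Subtype.ext (huniq J _ _ hJ.isPrime (hP i) (hP j) (le_sup_left.trans hle) (le_sup_right.trans hle))))
  have hbot : ⨅ i, P i = ⊥ := by
    refine eq_bot_iff.mpr fun x hx => ?_
    have : x ∈ sInf (minimalPrimes B) := Submodule.mem_sInf.mpr fun Q hQ => by
      have := (Submodule.mem_iInf _).mp hx (e.symm ⟨Q, hfin.mem_toFinset.mpr hQ⟩)
      simpa [P] using this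
    have h2 : x ∈ (⊥ : Ideal B).radical := by rw [← Ideal.sInf_minimalPrimes]; exact this
    obtain ⟨k, hk⟩ := h2
    exact IsReduced.eq_zero x ⟨k, hk⟩
  refine ⟨n, fun i => B ⧸ P i, fun i => inferInstance, fun i => ?_, ⟨((RingEquiv.quotientBot B).symm.trans (Ideal.quotEquivOfEq hbot.symm)).trans (Ideal.quotientInfRingEquivPiQuotient P hcop)⟩⟩
  haveI : IsDomain (B ⧸ P i) := inferInstance
  suffices IsDedekindDomainDvr (B ⧸ P i) from inferInstance
  haveI : IsNoetherianRing (B ⧸ P i) := inferInstance
  refine { is_dvr_at_nonzero_prime := fun Q hQ hQp => ?_ }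
  set q := Q.comap (Ideal.Quotient.mk (P i))
  haveI : q.IsPrime := Ideal.IsPrime.comap _
  have hPq : P i ≤ q := fun x hx => by rw [Ideal.mem_comap, Ideal.Quotient.eq_zero_iff_mem.mpr hx]; exact Q.zero_mem
  obtain ⟨hd, hcase⟩ := stalk A B q
  let S := Localization.AtPrime q
  have hker : ∀ x ∈ P i, algebraMap B S x = 0 := by
    have hprime : (RingHom.ker (algebraMap B S)).IsPrime := RingHom.ker_isPrime _
    have hsub : RingHom.ker (algebraMap B S) ≤ P i := fun x hx => by
      obtain ⟨t, ht⟩ := (IsLocalization.map_eq_zero_iff q.primeCompl _ x).mp hx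
      exact ((hPp i).mem_or_mem (ht ▸ (P i).zero_mem)).resolve_left fun h => t.2 (hPq h)
    exact fun x hx => (hP i).2 ⟨hprime, bot_le⟩ hsub hx
  letI : Algebra (B ⧸ P i) S := (Ideal.Quotient.lift (P i) (algebraMap B S) hker).toAlgebra
  haveI : IsLocalization Q.primeCompl S :=
    { map_units := fun ⟨y, hy⟩ => by
        obtain ⟨y, rfl⟩ := Ideal.Quotient.mk_surjective y
        exact IsLocalization.map_units S (⟨y, hy⟩ : q.primeCompl)
      surj := fun z => by
        obtain ⟨⟨b, t⟩, hbt⟩ := IsLocalization.surj q.primeCompl z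
        exact ⟨(Ideal.Quotient.mk _ b, ⟨Ideal.Quotient.mk _ (t : B), t.2⟩), hbt⟩
      exists_of_eq := fun {x y} hxy => by
        obtain ⟨x, rfl⟩ := Ideal.Quotient.mk_surjective x
        obtain ⟨y, rfl⟩ := Ideal.Quotient.mk_surjective y
        obtain ⟨t, ht⟩ := IsLocalization.exists_of_eq (M := q.primeCompl) (S := S) hxy
        exact ⟨⟨Ideal.Quotient.mk _ (t : B), t.2⟩, by simp only [← map_mul, ht]⟩ }
  let e' : Localization.AtPrime Q ≃+* S := (IsLocalization.algEquiv Q.primeCompl (Localization.AtPrime Q) S).toRingEquiv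
  rcases hcase with h | h
  · exfalso
    obtain ⟨y, hy, hy0⟩ := (Submodule.ne_bot_iff Q).mp hQ
    obtain ⟨y, rfl⟩ := Ideal.Quotient.mk_surjective y
    have h1 : algebraMap B S y ∈ IsLocalRing.maximalIdeal S := (IsLocalization.AtPrime.to_map_mem_maximal_iff S q y).mpr hy
    rw [IsLocalRing.isField_iff_maximalIdeal_eq.mp h, Ideal.mem_bot] at h1
    obtain ⟨t, ht⟩ := (IsLocalization.map_eq_zero_iff q.primeCompl S y).mp h1
    exact hy0 (Ideal.Quotient.eq_zero_iff_mem.mpr (((hPp i).mem_or_mem (ht ▸ (P i).zero_mem)).resolve_left fun h => t.2 (hPq h)))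
  · haveI : IsDiscreteValuationRing S := h
    exact IsDiscreteValuationRing.RingEquivClass.isDiscreteValuationRing e'.symm

end Groth.Agent.S1973
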