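import Groth.Statements.S19733
import Groth.Agent.HodgeIdx81.RealNakai
import Mathlib.LinearAlgebra.Basis.VectorSpace


set_option autoImplicit false
universe u
open CategoryTheory CategoryTheory.Limits AlgebraicGeometry TopologicalSpace
open Surf

namespace Groth.Agent.S19733

open Groth.Agent.HodgeIdx81

set_option linter.style.haveILetI false

/-- A finite family of rationals has a common denominator. -/
theorem exists_denom {ι : Type*} (s : Finset ι) (q : ι → ℚ) :
    ∃ M : ℤ, 0 < M ∧ ∀ i ∈ s, ∃ z : ℤ, (z : ℚ) = (M : ℚ) * q i := by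
  classical
  refine ⟨∏ i ∈ s, ((q i).den : ℤ), Finset.prod_pos fun i _ => Int.natCast_pos.2 (q i).pos, fun i hi =>
    ⟨(q i).num * ∏ j ∈ s.erase i, ((q j).den : ℤ), ?_⟩⟩
  rw [← Finset.mul_prod_erase s _ hi]
  push_cast
  rw [← Rat.mul_den_eq_num (q i)]
  ring

/-- Let k be an algebraically closed field of characteristic zero and X a smooth projective surface over
k (integral, proper and smooth over k, of dimension 2, with an ample invertible module); the notes
work over the complex numbers. Fix a group law on the Picard set of X, and let B be the intersection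
form on N¹(X)_ℝ = ℝ ⊗ (Pic X modulo numerical equivalence), the real bilinear form whose value on
the classes of invertible modules L, M is (L·M) = χ(O_X) − χ(L) − χ(M) + χ(L ⊗ M). Real divisors are
finite real combinations of integral curves on X (quasi-coherent ideals with integral closed
subscheme of one-dimensional support and invertible ideal module); such a real divisor is ample when
it is a combination with positive real coefficients of integral divisors E_i whose Picard classes
[O_X(E_i)] are classes of ample invertible modules, and numerically trivial when its class pairs to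
zero under B with the class of every integral divisor. If D is an ample real divisor and D′ is a
real divisor with D′ − D numerically trivial, then D′ is ample. -/
theorem result (k : Type u) [Field k] [IsAlgClosed k] [CharZero k]
    (X : Scheme.{u}) [X.Over (Spec (CommRingCat.of k))] [IsProper (X ↘ (Spec (CommRingCat.of k)))]
    [Smooth (X ↘ (Spec (CommRingCat.of k)))] [AlgebraicGeometry.IsIntegral X] (hdim : topologicalKrullDim X = 2)
    (hproj : ∃ H : X.Modules, CohB1.IsAmple H) [PicGrp.Law X]
    (B : NumR.N1R k X →ₗ[ℝ] NumR.N1R k X →ₗ[ℝ] ℝ) (hB : NumR.IsIntForm₂ k X B)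
    (D D' : NumR.CDivR X) (hD : NumR.IsAmpleRDiv X D) (h : NumR.IsNumTrivialRDiv k X B (D' - D)) :
    NumR.IsAmpleRDiv X D' := by
  classical
  have hd : topologicalKrullDim X = ((2 : ℕ) : WithBot ℕ∞) := by rw [hdim]; norm_num
  have hreg : ∀ x : X, IsRegularLocalRing (X.presheaf.stalk x) :=
    CurveDVR.isRegularLocalRing_stalk (X ↘ (Spec (CommRingCat.of k)))
  have hBs := fun x y => RealIndex.B_symm k hd hB x y
  -- pairing of a real divisor with a curve
  let a : NumR.Curve X → NumR.Curve X → ℤ := fun C C' =>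
    pr k (ClSub.idealMod C.1) (ClSub.idealMod C'.1)
  have hBa : ∀ (R : NumR.CDivR X) (C' : NumR.Curve X),
      B (NumR.divClR k X R) (NumR.curveCl k X C'.1 C'.2.2.2) = ∑ C ∈ R.support, R C * (a C C' : ℝ) := by
    intro R C'
    rw [NumR.divClR, Finsupp.linearCombination_apply, Finsupp.sum, map_sum, LinearMap.sum_apply]
    refine Finset.sum_congr rfl fun C _ => ?_
    rw [map_smul, LinearMap.smul_apply, smul_eq_mul]
    congr 1
    simp only [NumR.curveCl, map_neg, LinearMap.neg_apply, neg_neg, RealIndex.B_eq k hd hB C.2.2.2 C'.2.2.2, a]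
  set R := D' - D
  -- integral numerically trivial pieces
  let bs := Module.Basis.ofVectorSpace ℚ ℝ
  let J := R.support.biUnion fun C => (bs.repr (R C)).support
  have hkill : ∀ j (C' : NumR.Curve X), ∑ C ∈ R.support, bs.repr (R C) j * (a C C' : ℚ) = 0 := by
    intro j C'
    have h0 : ∑ C ∈ R.support, ((a C C' : ℚ)) • R C = 0 := by
      have h1 := h (Finsupp.single C' 1)
      have e : NumR.divClR k X (NumR.CDiv.toR X (Finsupp.single C' 1)) = NumR.curveCl k X C'.1 C'.2.2.2 := by
        simp [NumR.CDiv.toR, NumR.divClR]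
      rw [e, hBa] at h1
      refine Eq.trans (Finset.sum_congr rfl fun C _ => ?_) h1
      rw [Rat.smul_def, Rat.cast_intCast, mul_comm]
    have h2 := congrArg (fun x : ℝ => bs.repr x j) h0
    simp only [map_sum, map_smul, map_zero, Finsupp.coe_zero, Pi.zero_apply, Finsupp.coe_finsetSum,
      Finset.sum_apply, Finsupp.smul_apply, smul_eq_mul] at h2
    exact Eq.trans (Finset.sum_congr rfl fun C _ => mul_comm _ _) h2
  choose M hM z hz using fun j => exists_denom R.support fun C => bs.repr (R C) j
  let N : _ → NumR.CDiv X := fun j => ∑ C ∈ R.support.attach, Finsupp.single C.1 (z j C.1 C.2)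
  have hN : ∀ j, NumR.CDiv.toR X (N j) =
      ∑ C ∈ R.support, Finsupp.single C ((M j : ℝ) * (bs.repr (R C) j : ℝ)) := by
    intro j
    simp only [N, map_sum]
    rw [← Finset.sum_attach R.support fun C => Finsupp.single C ((M j : ℝ) * (bs.repr (R C) j : ℝ))]
    refine Finset.sum_congr rfl fun C _ => ?_
    have e : ((z j C.1 C.2 : ℤ) : ℝ) = (M j : ℝ) * (bs.repr (R C.1) j : ℝ) := by
      have := congrArg (fun q : ℚ => (q : ℝ)) (hz j C.1 C.2)
      push_cast at this
      exact this
    simp [NumR.CDiv.toR, e]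
  have hNtriv : ∀ j (C' : NumR.Curve X),
      B (NumR.divClR k X (NumR.CDiv.toR X (N j))) (NumR.curveCl k X C'.1 C'.2.2.2) = 0 := by
    intro j C'
    rw [hN, map_sum, map_sum, LinearMap.sum_apply]
    calc _ = ∑ C ∈ R.support, (((M j : ℝ) * (bs.repr (R C) j : ℝ)) * (a C C' : ℝ)) := by
          refine Finset.sum_congr rfl fun C _ => ?_
          simp only [NumR.divClR, Finsupp.linearCombination_single, map_smul, LinearMap.smul_apply,
            smul_eq_mul, NumR.curveCl, map_neg, LinearMap.neg_apply, neg_neg,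
            RealIndex.B_eq k hd hB C.2.2.2 C'.2.2.2, a]
          ring
      _ = (((M j : ℚ) * ∑ C ∈ R.support, bs.repr (R C) j * (a C C' : ℚ) : ℚ) : ℝ) := by
          push_cast
          rw [Finset.mul_sum]
          exact Finset.sum_congr rfl fun C _ => mul_assoc _ _ _
      _ = 0 := by rw [hkill, mul_zero, Rat.cast_zero]
  have hNB : ∀ j (S : NumR.CDivR X),
      B (NumR.divClR k X (NumR.CDiv.toR X (N j))) (NumR.divClR k X S) = 0 := by
    intro j S
    induction S using Finsupp.induction_linear with
    | zero => simp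
    | add f g hf hg => rw [map_add, map_add, hf, hg, add_zero]
    | single C t =>
      rw [show NumR.divClR k X (Finsupp.single C t) = t • NumR.curveCl k X C.1 C.2.2.2 from
        Finsupp.linearCombination_single _ _ _, map_smul, hNtriv j C, smul_zero]
  have hR : R = ∑ j ∈ J, ((bs j) / (M j : ℝ)) • NumR.CDiv.toR X (N j) := by
    ext C
    simp only [Finsupp.finsetSum_apply, Finsupp.smul_apply, hN, smul_eq_mul]
    have hj : ∀ j, ∑ C' ∈ R.support, Finsupp.single C' ((M j : ℝ) * (bs.repr (R C') j : ℝ)) C =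
        (M j : ℝ) * (bs.repr (R C) j : ℝ) := by
      intro j
      rw [Finset.sum_eq_single C (fun C' _ hne => Finsupp.single_eq_of_ne hne.symm)
        (fun hC => by simp [Finsupp.notMem_support_iff.1 hC]), Finsupp.single_eq_same]
    have hb := bs.linearCombination_repr (R C)
    have hsub : (bs.repr (R C)).support ⊆ J := fun j hj' => by
      by_cases hC : C ∈ R.support
      · exact Finset.mem_biUnion.2 ⟨C, hC, hj'⟩
      · simp [Finsupp.notMem_support_iff.1 hC] at hj'
    rw [Finsupp.linearCombination_apply,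
      Finsupp.sum_of_support_subset _ hsub (fun i c => c • bs i) (fun i _ => zero_smul ℚ (bs i))] at hb
    refine hb.symm.trans (Finset.sum_congr rfl fun j _ => ?_)
    have hM0 : (M j : ℝ) ≠ 0 := Int.cast_ne_zero.2 (hM j).ne'
    rw [hj, Rat.smul_def]
    field_simp
  -- absorb the pieces into one ample summand
  obtain ⟨n, E, t, hn, ht, hE, hDE⟩ := hD
  let i₀ : Fin n := ⟨0, hn⟩
  have hpert : ∀ (m : ℤ) j, ∃ (L : X.Modules) (hL : PicF.IsInvertible L), CohB1.IsAmple L ∧
      Additive.ofMul (PicGrp.cls L hL) = NumR.divCl X (E i₀ + m • N j) := by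
    intro m j
    obtain ⟨L₀, hL₀, hA₀, hcl₀⟩ := hE i₀
    obtain ⟨L, hL, hcl⟩ := PicGrp.exists_eq_cls (Additive.toMul (NumR.divCl X (E i₀ + m • N j)))
    have hcl' : Additive.ofMul (PicGrp.cls L hL) = NumR.divCl X (E i₀ + m • N j) := by
      rw [← hcl]
      rfl
    have hc : ∀ {F : NumR.CDiv X} {P : X.Modules} (hP : PicF.IsInvertible P),
        Additive.ofMul (PicGrp.cls P hP) = NumR.divCl X F →
        NumR.clR k X P hP = NumR.divClR k X (NumR.CDiv.toR X F) := fun hP e => by
      rw [NumR.divClR_toR, ← e]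
      rfl
    have eL := hc hL hcl'
    rw [map_add, map_zsmul, map_add, map_zsmul] at eL
    rw [← hc hL₀ hcl₀] at eL
    refine ⟨L, hL, RealNakai.isAmple_of_pr k hreg hd hL ?_ fun C hC hC1 hI => ?_, hcl'⟩
    · have h1 : (pr k L L : ℝ) = (pr k L₀ L₀ : ℝ) := by
        rw [← RealIndex.B_eq k hd hB hL hL, ← RealIndex.B_eq k hd hB hL₀ hL₀, eL]
        simp only [map_add, map_zsmul, LinearMap.add_apply, LinearMap.smul_apply]
        rw [hBs (NumR.clR k X L₀ hL₀) (NumR.divClR k X (NumR.CDiv.toR X (N j))), hc hL₀ hcl₀, hNB, hNB]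
        simp
      rw [Int.cast_inj.1 h1]
      exact pr_self_pos k hd hA₀
    · have h1 : (pr k L (ClSub.idealMod C) : ℝ) = (pr k L₀ (ClSub.idealMod C) : ℝ) := by
        rw [← RealIndex.B_eq k hd hB hL hI, ← RealIndex.B_eq k hd hB hL₀ hI, eL]
        simp only [map_add, map_zsmul, LinearMap.add_apply, LinearMap.smul_apply]
        have h2 := hNtriv j ⟨C, hC, hC1.trans rfl, hI⟩
        simp only [NumR.curveCl, map_neg, neg_eq_zero] at h2
        rw [h2, smul_zero, add_zero]
      rw [Int.cast_inj.1 h1]
      haveI := hC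
      exact RealNakai.pr_ample_curve k hA₀ C hC1 hI
  let s : _ → ℝ := fun j => bs j / (M j : ℝ)
  obtain ⟨m, hm⟩ := exists_nat_gt ((∑ j ∈ J, (|s j| + 1)) / t i₀)
  have hS0 : 0 ≤ ∑ j ∈ J, (|s j| + 1) := Finset.sum_nonneg fun j _ => by positivity
  have hm0 : (0 : ℝ) < m := lt_of_le_of_lt (div_nonneg hS0 (ht i₀).le) hm
  have hlt : ∑ j ∈ J, (|s j| + 1) / (m : ℝ) < t i₀ := by
    rw [← Finset.sum_div, div_lt_iff₀ hm0, mul_comm]
    exact (div_lt_iff₀ (ht i₀)).1 hm
  let ι := Fin n ⊕ (↥J × Bool)
  let E' : ι → NumR.CDiv X := Sum.elim E fun p =>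
    E i₀ + (if p.2 then (m : ℤ) else -(m : ℤ)) • N p.1.1
  let t' : ι → ℝ := Sum.elim (fun i => if i = i₀ then t i - ∑ j ∈ J, (|s j| + 1) / (m : ℝ) else t i)
    fun p => (|s p.1.1| + 1 + if p.2 then s p.1.1 else -s p.1.1) / (2 * m)
  let eq := Fintype.equivFin ι
  refine ⟨Fintype.card ι, E' ∘ eq.symm, t' ∘ eq.symm, Fintype.card_pos_iff.2 ⟨Sum.inl i₀⟩, fun i => ?_,
    fun i => ?_, ?_⟩
  · show 0 < t' (eq.symm i)
    rcases eq.symm i with i | ⟨j, b⟩
    · show 0 < ite _ _ _
      split_ifs with hi
      · subst hi; exact sub_pos.2 hlt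
      · exact ht i
    · refine div_pos ?_ (by positivity)
      have h1 := le_abs_self (s j.1)
      have h2 := neg_abs_le (s j.1)
      cases b <;> simp <;> linarith
  · show ∃ L, ∃ hL, _ ∧ _ = NumR.divCl X (E' (eq.symm i))
    rcases eq.symm i with i | ⟨j, b⟩
    · exact hE i
    · exact hpert _ j.1
  · show D' = _
    rw [← eq.sum_comp fun i => (t' ∘ eq.symm) i • NumR.CDiv.toR X ((E' ∘ eq.symm) i)]
    simp only [Function.comp_apply, Equiv.symm_apply_apply]
    rw [Fintype.sum_sum_type]
    have hleft : ∑ i, t' (Sum.inl i) • NumR.CDiv.toR X (E' (Sum.inl i)) =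
        D - (∑ j ∈ J, (|s j| + 1) / (m : ℝ)) • NumR.CDiv.toR X (E i₀) := by
      rw [eq_sub_iff_add_eq, hDE, ← Finset.add_sum_erase _ _ (Finset.mem_univ i₀),
        ← Finset.add_sum_erase _ _ (Finset.mem_univ i₀), add_right_comm]
      congr 1
      · simp only [t', E', Sum.elim_inl, if_true, ← add_smul, sub_add_cancel]
      · refine Finset.sum_congr rfl fun i hi => ?_
        simp only [t', E', Sum.elim_inl, if_neg (Finset.ne_of_mem_erase hi)]
    have hright : ∑ p : ↥J × Bool, t' (Sum.inr p) • NumR.CDiv.toR X (E' (Sum.inr p)) =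
        (∑ j ∈ J, (|s j| + 1) / (m : ℝ)) • NumR.CDiv.toR X (E i₀) + R := by
      rw [hR, Finset.sum_smul, ← Finset.sum_add_distrib, ← Finset.sum_attach J, Fintype.sum_prod_type]
      refine Finset.sum_congr rfl fun j _ => ?_
      simp only [t', E', Sum.elim_inr, Fintype.sum_bool, if_true, Bool.false_eq_true, if_false, map_add,
        map_zsmul, smul_add]
      ext C
      simp only [Finsupp.add_apply, Finsupp.smul_apply, smul_eq_mul, zsmul_eq_mul, Int.cast_neg,
        Int.cast_natCast, neg_mul, s]
      field_simp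
      ring
    rw [hleft, hright]
    show D' = _
    simp only [R]
    abel

end Groth.Agent.S19733
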