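import Groth.Statements.S19735
import Groth.Agent.HodgeIdx81.RealNakai


set_option autoImplicit false
universe u
open CategoryTheory CategoryTheory.Limits AlgebraicGeometry TopologicalSpace
open Surf

namespace Groth.Agent.S19735

open Groth.Agent.HodgeIdx81

set_option linter.style.haveILetI false

/-- Let k be an algebraically closed field of characteristic zero and X a smooth projective surface over
k (integral, proper and smooth over k, of dimension 2, with an ample invertible module); the notes
work over the complex numbers. Fix a group law on the Picard set of X, and let B be the intersection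
form on N¹(X)_ℝ = ℝ ⊗ (Pic X modulo numerical equivalence), the real bilinear form whose value on
the classes of invertible modules L, M is (L·M) = χ(O_X) − χ(L) − χ(M) + χ(L ⊗ M); assume N¹(X)_ℝ is
finite-dimensional. Let H be an ample invertible module, C₊ = {x : B(x, x) > 0, B(x, [H]) > 0} the
positive cone and Ā(X) the closure of the ample cone taken inside C₊ (the closure in N¹(X)_ℝ of the
cone spanned by ample classes, intersected with C₊). Let C_1, …, C_r be pairwise distinct integral
curves on X (quasi-coherent ideals I_i with integral closed subscheme of one-dimensional support and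
invertible ideal module) with walls W^{C_i} = {x : B(x, [C_i]) = 0}. Then Ā(X) ∩ W^{C_1} ∩ ⋯ ∩
W^{C_r} is non-empty if and only if the curves C_i generate a negative definite sublattice: Σ_{i,j}
a_i a_j (I_i·I_j) < 0 for every nonzero integer vector a, where (I_i·I_j) = χ(O_X) − χ(I_i) − χ(I_j)
+ χ(I_i ⊗ I_j). (The published statement adds that, when non-empty, this intersection is open in
W^{C_1} ∩ ⋯ ∩ W^{C_r}; that is not correct as published: on the plane blown up in two points, with
C_1 one exceptional curve, the class of a line lies in Ā(X) ∩ W^{C_1} but adding a small positive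
multiple of the other exceptional curve leaves Ā(X) while staying in W^{C_1}. What the argument
there yields is a non-empty open subset of the intersection of the walls contained in Ā(X), and that
clause is not restated.) -/
theorem result (k : Type u) [Field k] [IsAlgClosed k] [CharZero k]
    (X : Scheme.{u}) [X.Over (Spec (CommRingCat.of k))] [IsProper (X ↘ (Spec (CommRingCat.of k)))]
    [Smooth (X ↘ (Spec (CommRingCat.of k)))] [AlgebraicGeometry.IsIntegral X] (hdim : topologicalKrullDim X = 2)
    (hproj : ∃ H : X.Modules, CohB1.IsAmple H) [PicGrp.Law X] [Module.Finite ℝ (NumR.N1R k X)]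
    (B : NumR.N1R k X →ₗ[ℝ] NumR.N1R k X →ₗ[ℝ] ℝ) (hB : NumR.IsIntForm₂ k X B) (H : X.Modules) (hH : CohB1.IsAmple H)
    (r : ℕ) (C : Fin r → X.IdealSheafData) (hC : Function.Injective C)
    (hCi : ∀ i, AlgebraicGeometry.IsIntegral (C i).subscheme) (hCd : ∀ i, topologicalKrullDim ((C i).support : Set X) = 1)
    (hCinv : ∀ i, PicF.IsInvertible (ClSub.idealMod (C i))) :
    (∃ x : NumR.N1R k X, x ∈ closure (NumR.ampleCone k X : Set (NumR.N1R k X)) ∧ x ∈ NumR.posCone k X B H hH.1 ∧
        ∀ i, x ∈ NumR.wall k X B (C i) (hCinv i)) ↔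
      (∀ a : Fin r → ℤ, a ≠ 0 →
      ∑ i, ∑ j, a i * a j * FGA.intNum k X 2 ![(ClSub.idealMod (C i)), (ClSub.idealMod (C j))] (Coh.structureModule X) < 0) := by
  have hd : topologicalKrullDim X = ((2 : ℕ) : WithBot ℕ∞) := by rw [hdim]; norm_num
  have hreg : ∀ x : X, IsRegularLocalRing (X.presheaf.stalk x) :=
    CurveDVR.isRegularLocalRing_stalk (X ↘ (Spec (CommRingCat.of k)))
  classical
  have hC1 : ∀ i, topologicalKrullDim ↥((C i).support : Set X) = ((1 : ℕ) : WithBot ℕ∞) :=
    fun i => (hCd i).trans rfl
  let cC : Fin r → NumR.N1R k X := fun i => NumR.curveCl k X (C i) (hCinv i)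
  let G : Matrix (Fin r) (Fin r) ℤ :=
    Matrix.of fun i j => pr k (ClSub.idealMod (C i)) (ClSub.idealMod (C j))
  let c : Fin r → ℤ := fun i => -pr k H (ClSub.idealMod (C i))
  have hc0 : ∀ i, 0 < c i := fun i => by
    haveI := hCi i
    exact neg_pos.2 (RealNakai.pr_ample_curve k hH (C i) (hC1 i) (hCinv i))
  have hG : ∀ i j, B (cC i) (cC j) = (G i j : ℝ) := fun i j => by
    simp only [cC, NumR.curveCl, map_neg, LinearMap.neg_apply, neg_neg,
      RealIndex.B_eq k hd hB (hCinv i) (hCinv j)]
    rfl
  have hc : ∀ i, B (cC i) (NumR.clR k X H hH.1) = (c i : ℝ) := fun i => by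
    rw [RealIndex.B_symm k hd hB, RealNakai.B_curve k hd hB hH.1 (C i) (hCinv i)]
    simp [c]
  have hG0 : ∀ i j, i ≠ j → 0 ≤ G i j := fun i j hij => by
    haveI := hCi i
    haveI := hCi j
    exact RealNakai.pr_curves_nonneg k (hC1 j) (hC1 i) (hCinv j) (hCinv i) fun h => hij (hC h).symm
  have hQ : ∀ a b : Fin r → ℤ, B (∑ i, (a i : ℝ) • cC i) (∑ j, (b j : ℝ) • cC j) =
      ((∑ i, ∑ j, a i * b j * G i j : ℤ) : ℝ) := fun a b => by
    simp only [map_sum, map_smul, LinearMap.sum_apply, LinearMap.smul_apply, smul_eq_mul, hG]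
    push_cast
    rw [Finset.sum_comm]
    exact Finset.sum_congr rfl fun i _ =>
      (Finset.mul_sum _ _ _).trans (Finset.sum_congr rfl fun j _ => by ring)
  have hpn : ∀ a b : Fin r → ℤ, (∀ i, 0 ≤ a i) → (∀ i, 0 ≤ b i) → (∀ i, a i * b i = 0) →
      0 ≤ ∑ i, ∑ j, a i * b j * G i j := fun a b ha hb hab =>
    Finset.sum_nonneg fun i _ => Finset.sum_nonneg fun j _ => by
      rcases eq_or_ne i j with rfl | h
      · rw [hab, zero_mul]
      · exact mul_nonneg (mul_nonneg (ha i) (hb j)) (hG0 i j h)
  constructor
  · rintro ⟨x, -, hxp, hxw⟩ a ha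
    rw [Finset.sum_congr rfl fun i _ => Finset.sum_congr rfl fun j _ => by
      rw [intNum_eq_pr k hd (hCinv i) (hCinv j)]]
    have hperp : ∀ b : Fin r → ℤ, B x (∑ i, (b i : ℝ) • cC i) = 0 := fun b => by
      rw [map_sum]
      exact Finset.sum_eq_zero fun i _ => by
        rw [map_smul, show B x (cC i) = 0 from hxw i, smul_zero]
    by_contra hnn
    push Not at hnn
    have hv : ∑ i, (a i : ℝ) • cC i = 0 := RealIndex.eq_zero_of_posCone k hd hB hH hreg hxp
      (by rw [hQ]; exact Int.cast_nonneg hnn) (hperp a)
    let p : Fin r → ℤ := fun i => max (a i) 0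
    let n : Fin r → ℤ := fun i => max (-a i) 0
    have hP : ∑ i, (p i : ℝ) • cC i = ∑ i, (n i : ℝ) • cC i := by
      rw [← sub_eq_zero, ← Finset.sum_sub_distrib, ← hv]
      refine Finset.sum_congr rfl fun i _ => ?_
      rw [← sub_smul, ← Int.cast_sub, show p i - n i = a i by simp only [p, n]; omega]
    have hab : ∀ i, p i * n i = 0 := fun i => by
      rcases le_total (a i) 0 with h | h <;> simp [p, n, h]
    have h0 : ∑ i, (p i : ℝ) • cC i = 0 := RealIndex.eq_zero_of_posCone k hd hB hH hreg hxp (by
      conv_rhs => arg 2; rw [hP]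
      rw [hQ]
      exact Int.cast_nonneg (hpn p n (fun i => le_max_right _ _) (fun i => le_max_right _ _) hab))
      (hperp p)
    have hzero : ∀ b : Fin r → ℤ, (∀ i, 0 ≤ b i) → ∑ i, (b i : ℝ) • cC i = 0 → ∀ i, b i = 0 :=
      fun b hb hb0 i => by
        have h : ∑ i, (b i : ℝ) * (c i : ℝ) = 0 := by
          have h := congrArg (fun v => B v (NumR.clR k X H hH.1)) hb0
          simpa [map_sum, map_smul, LinearMap.sum_apply, hc] using h
        have hi : ∑ i, b i * c i = 0 := by exact_mod_cast h
        have := (Finset.sum_eq_zero_iff_of_nonneg fun j _ => mul_nonneg (hb j) (hc0 j).le).1 hi i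
          (Finset.mem_univ i)
        exact (mul_eq_zero.1 this).resolve_right (hc0 i).ne'
    refine ha (funext fun i => ?_)
    have h1 := hzero p (fun i => le_max_right _ _) h0 i
    have h2 := hzero n (fun i => le_max_right _ _) (hP ▸ h0) i
    simp only [p, n] at h1 h2
    show a i = 0
    omega
  · intro hneg
    have hneg' : ∀ a : Fin r → ℤ, a ≠ 0 → ∑ i, ∑ j, a i * a j * G i j < 0 := fun a ha =>
      lt_of_eq_of_lt (Finset.sum_congr rfl fun i _ => Finset.sum_congr rfl fun j _ => by
        rw [intNum_eq_pr k hd (hCinv i) (hCinv j)]; rfl) (hneg a ha)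
    have hdet : G.det ≠ 0 := fun h => by
      obtain ⟨v, hv0, hv⟩ := Matrix.exists_mulVec_eq_zero_iff.2 h
      refine (hneg' v hv0).ne (Finset.sum_eq_zero fun i _ => ?_)
      have h1 : ∑ j, G i j * v j = 0 := congrFun hv i
      rw [Finset.sum_congr rfl fun j _ => show v i * v j * G i j = v i * (G i j * v j) by ring,
        ← Finset.mul_sum, h1, mul_zero]
    let b : Fin r → ℤ := (-G.det) • G.adjugate.mulVec c
    have hb : ∀ i, ∑ j, G i j * b j = -(G.det * G.det) * c i := fun i => by
      have h : G.mulVec b = (-(G.det * G.det)) • c := by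
        simp only [b, Matrix.mulVec_smul, Matrix.mulVec_mulVec, Matrix.mul_adjugate, Matrix.smul_mulVec,
          Matrix.one_mulVec, smul_smul, neg_mul]
      exact congrFun h i
    let p : Fin r → ℤ := fun i => max (b i) 0
    let n : Fin r → ℤ := fun i => max (-b i) 0
    have hn : n = 0 := by
      by_contra hn
      have h1 := hneg' n hn
      have h2 := hpn n p (fun i => le_max_right _ _) (fun i => le_max_right _ _) fun i => by
        rcases le_total (b i) 0 with h | h <;> simp [p, n, h]
      have h3 : ∑ i, ∑ j, n i * p j * G i j - ∑ i, ∑ j, n i * n j * G i j =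
          ∑ i, n i * ∑ j, G i j * b j := by
        rw [← Finset.sum_sub_distrib]
        refine Finset.sum_congr rfl fun i _ => ?_
        rw [← Finset.sum_sub_distrib, Finset.mul_sum]
        refine Finset.sum_congr rfl fun j _ => ?_
        rw [show b j = p j - n j by simp only [p, n]; omega]
        ring
      have h4 : ∑ i, n i * ∑ j, G i j * b j ≤ 0 := Finset.sum_nonpos fun i _ => by
        rw [hb]
        exact mul_nonpos_of_nonneg_of_nonpos (le_max_right _ _)
          (mul_nonpos_of_nonpos_of_nonneg (neg_nonpos.2 (mul_self_nonneg _)) (hc0 i).le)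
      omega
    have hb0 : ∀ i, 0 ≤ b i := fun i => by
      have h := congrFun hn i
      simp only [n, Pi.zero_apply] at h
      omega
    let d : ℝ := (G.det : ℝ) * G.det
    have hd0 : 0 < d := mul_self_pos.2 (Int.cast_ne_zero.2 hdet)
    let x : NumR.N1R k X := d • NumR.clR k X H hH.1 + ∑ i, (b i : ℝ) • cC i
    have hxC : ∀ j, B x (cC j) = 0 := fun j => by
      simp only [x, map_add, map_sum, map_smul, LinearMap.add_apply, LinearMap.sum_apply,
        LinearMap.smul_apply, smul_eq_mul]
      rw [RealIndex.B_symm k hd hB (NumR.clR k X H hH.1), hc,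
        Finset.sum_congr rfl fun i _ => show (b i : ℝ) * B (cC i) (cC j) = ((G j i * b i : ℤ) : ℝ) by
          rw [RealIndex.B_symm k hd hB (cC i), hG]; push_cast; ring,
        ← Int.cast_sum, hb]
      simp only [d]
      push_cast
      ring
    have hxn : x ∈ NumR.nefCone₂ k X B := fun D hD hD1 hDI => by
      haveI := hD
      by_cases h : ∃ i, C i = D
      · obtain ⟨i, rfl⟩ := h
        exact (hxC i).ge
      push Not at h
      simp only [x, map_add, map_sum, map_smul, LinearMap.add_apply, LinearMap.sum_apply,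
        LinearMap.smul_apply, smul_eq_mul]
      refine add_nonneg (mul_nonneg hd0.le ?_) (Finset.sum_nonneg fun i _ => mul_nonneg
        (Int.cast_nonneg (hb0 i)) ?_)
      · rw [RealNakai.B_curve k hd hB hH.1 D hDI, neg_nonneg]
        exact Int.cast_nonpos.2 (RealNakai.pr_ample_curve k hH D (hD1.trans rfl) hDI).le
      · haveI := hCi i
        simp only [cC, NumR.curveCl, map_neg, LinearMap.neg_apply, neg_neg,
          RealIndex.B_eq k hd hB (hCinv i) hDI]
        exact Int.cast_nonneg
          (RealNakai.pr_curves_nonneg k (hD1.trans rfl) (hC1 i) hDI (hCinv i) (h i).symm)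
    have hxh : 0 < B x (NumR.clR k X H hH.1) := by
      simp only [x, map_add, map_sum, map_smul, LinearMap.add_apply, LinearMap.sum_apply,
        LinearMap.smul_apply, smul_eq_mul, hc]
      exact add_pos_of_pos_of_nonneg (mul_pos hd0 (RealIndex.hh_pos k hd hB hH))
        (Finset.sum_nonneg fun i _ => mul_nonneg (Int.cast_nonneg (hb0 i)) (Int.cast_nonneg (hc0 i).le))
    have hxx : 0 < B x x := by
      have h : B x x = d * B x (NumR.clR k X H hH.1) := by
        conv_lhs => arg 2; simp only [x]
        rw [map_add, map_smul, map_sum, Finset.sum_eq_zero fun i _ => by rw [map_smul, hxC, smul_zero],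
          add_zero, smul_eq_mul]
      rw [h]
      exact mul_pos hd0 hxh
    refine ⟨x, ?_, ⟨hxx, hxh⟩, hxC⟩
    rw [RealNakai.closure_ampleCone k hd hB hreg hH]
    exact ⟨hxx.le, hxn⟩

end Groth.Agent.S19735
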