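import Groth.Statements.S19736
import Groth.Agent.HodgeIdx81.RealIndex


set_option autoImplicit false
universe u
open CategoryTheory CategoryTheory.Limits AlgebraicGeometry TopologicalSpace
open Surf

namespace Groth.Agent.S19736

open Groth.Agent.HodgeIdx81

set_option linter.style.haveILetI false

/-- Let k be an algebraically closed field of characteristic zero and X a smooth projective surface over
k (integral, proper and smooth over k, of dimension 2, with an ample invertible module); the notes
work over the complex numbers. Fix a group law on the Picard set of X, and let B be the intersection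
form on N¹(X)_ℝ = ℝ ⊗ (Pic X modulo numerical equivalence), the real bilinear form whose value on
the classes of invertible modules L, M is (L·M) = χ(O_X) − χ(L) − χ(M) + χ(L ⊗ M); assume N¹(X)_ℝ is
finite-dimensional, of dimension the Picard number ρ. If C_1, …, C_r are pairwise distinct integral
curves on X (quasi-coherent ideals I_i with integral closed subscheme of one-dimensional support and
invertible ideal module) spanning a negative definite sublattice, Σ_{i,j} a_i a_j (I_i·I_j) < 0 for
every nonzero integer vector a with (I_i·I_j) = χ(O_X) − χ(I_i) − χ(I_j) + χ(I_i ⊗ I_j), then r ≤ ρ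
− 1. (The published corollary adds that the walls of curves of negative self-intersection form a
locally finite family along the closure of the ample cone in the positive cone; no argument is given
for that clause and it is not restated.) -/
theorem result (k : Type u) [Field k] [IsAlgClosed k] [CharZero k]
    (X : Scheme.{u}) [X.Over (Spec (CommRingCat.of k))] [IsProper (X ↘ (Spec (CommRingCat.of k)))]
    [Smooth (X ↘ (Spec (CommRingCat.of k)))] [AlgebraicGeometry.IsIntegral X] (hdim : topologicalKrullDim X = 2)
    (hproj : ∃ H : X.Modules, CohB1.IsAmple H) [PicGrp.Law X] [Module.Finite ℝ (NumR.N1R k X)]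
    (B : NumR.N1R k X →ₗ[ℝ] NumR.N1R k X →ₗ[ℝ] ℝ) (hB : NumR.IsIntForm₂ k X B)
    (r : ℕ) (C : Fin r → X.IdealSheafData) (hC : Function.Injective C)
    (hCi : ∀ i, AlgebraicGeometry.IsIntegral (C i).subscheme) (hCd : ∀ i, topologicalKrullDim ((C i).support : Set X) = 1)
    (hCinv : ∀ i, PicF.IsInvertible (ClSub.idealMod (C i)))
    (hneg : ∀ a : Fin r → ℤ, a ≠ 0 →
      ∑ i, ∑ j, a i * a j * FGA.intNum k X 2 ![(ClSub.idealMod (C i)), (ClSub.idealMod (C j))] (Coh.structureModule X) < 0) :
    r + 1 ≤ Module.finrank ℝ (NumR.N1R k X) := by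
  have hd : topologicalKrullDim X = ((2 : ℕ) : WithBot ℕ∞) := by rw [hdim]; norm_num
  obtain ⟨H, hH⟩ := hproj
  classical
  let L : Fin (r + 1) → X.Modules := Fin.cons H fun i => ClSub.idealMod (C i)
  have hL : ∀ i, PicF.IsInvertible (L i) := fun i => by
    induction i using Fin.cases with
    | zero => exact hH.1
    | succ i => exact hCinv i
  let G : Matrix (Fin (r + 1)) (Fin (r + 1)) ℤ := Matrix.of fun i j => pr k (L i) (L j)
  have hdet : G.det ≠ 0 := fun h => by
    obtain ⟨v, hv0, hv⟩ := Matrix.exists_mulVec_eq_zero_iff.2 h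
    have h0 : ∀ i, pr k (L i) (L 0) * v 0 + ∑ j, pr k (L i) (L (Fin.succ j)) * v j.succ = 0 := fun i => by
      have h1 := congrFun hv i
      rwa [Matrix.mulVec, dotProduct, Fin.sum_univ_succ] at h1
    by_cases ha : (fun j : Fin r => v j.succ) = 0
    · have h1 := h0 0
      rw [Finset.sum_eq_zero fun j _ => by rw [show v j.succ = 0 from congrFun ha j, mul_zero],
        add_zero] at h1
      refine hv0 (funext fun i => ?_)
      induction i using Fin.cases with
      | zero => exact (mul_eq_zero.1 h1).resolve_left (pr_self_pos k hd hH).ne'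
      | succ i => exact congrFun ha i
    · have hA := hneg _ ha
      rw [Finset.sum_congr rfl fun i _ => Finset.sum_congr rfl fun j _ => by
        rw [intNum_eq_pr k hd (hCinv i) (hCinv j)]] at hA
      have h2 : ∑ i : Fin r, v i.succ * (pr k (L i.succ) (L 0) * v 0 +
          ∑ j, pr k (L i.succ) (L (Fin.succ j)) * v j.succ) = 0 :=
        Finset.sum_eq_zero fun i _ => by rw [h0, mul_zero]
      simp only [mul_add, Finset.mul_sum, Finset.sum_add_distrib] at h2
      have h3 : ∑ i : Fin r, ∑ j : Fin r, v i.succ * (pr k (L i.succ) (L j.succ) * v j.succ) < 0 := by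
        refine lt_of_eq_of_lt (Finset.sum_congr rfl fun i _ => Finset.sum_congr rfl fun j _ => ?_) hA
        show _ = v i.succ * v j.succ * pr k (L i.succ) (L j.succ)
        ring
      have h4 : v 0 * (pr k (L 0) (L 0) * v 0 + ∑ j, pr k (L 0) (L (Fin.succ j)) * v j.succ) = 0 := by
        rw [h0, mul_zero]
      rw [mul_add, Finset.mul_sum] at h4
      have h5 : ∑ j, v 0 * (pr k (L 0) (L (Fin.succ j)) * v j.succ) =
          ∑ i : Fin r, v i.succ * (pr k (L i.succ) (L 0) * v 0) :=
        Finset.sum_congr rfl fun i _ => by rw [pr_comm k (L 0) (L i.succ)]; ring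
      have hpos : 0 ≤ v 0 * v 0 * pr k (L 0) (L 0) :=
        mul_nonneg (mul_self_nonneg (v 0)) (pr_self_pos k hd hH).le
      rw [h5] at h4
      have h6 : v 0 * (pr k (L 0) (L 0) * v 0) = v 0 * v 0 * pr k (L 0) (L 0) := by ring
      linarith
  have hli : LinearIndependent ℝ fun i => NumR.clR k X (L i) (hL i) := by
    rw [Fintype.linearIndependent_iff]
    intro g hg i
    have hM : (G.map (Int.cast : ℤ → ℝ)).det ≠ 0 := by
      rw [show (G.map (Int.cast : ℤ → ℝ)).det = (G.det : ℝ) from (RingHom.map_det (Int.castRingHom ℝ) G).symm]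
      exact_mod_cast hdet
    refine congrFun (Matrix.eq_zero_of_mulVec_eq_zero hM (funext fun i => ?_)) i
    have h1 : B (NumR.clR k X (L i) (hL i)) (∑ j, g j • NumR.clR k X (L j) (hL j)) = 0 := by
      rw [hg, map_zero]
    simp only [map_sum, map_smul, smul_eq_mul, RealIndex.B_eq k hd hB (hL _) (hL _)] at h1
    rw [Pi.zero_apply, ← h1, Matrix.mulVec, dotProduct]
    exact Finset.sum_congr rfl fun j _ => by simp [G, mul_comm]
  simpa using hli.fintype_card_le_finrank

end Groth.Agent.S19736
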