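import Groth.Statements.S19739
import Groth.Agent.BigVol.Basic

set_option autoImplicit false
open CategoryTheory CategoryTheory.Limits AlgebraicGeometry
open PosLin

namespace Groth.Agent.S19739

section

open CategoryTheory CategoryTheory.Limits AlgebraicGeometry Groth.Agent.BigVol
  Groth.Agent.ProjTwist Groth.Agent.AmpleLib

set_option linter.style.haveILetI false

variable {k : Type} [Field k] {X : Scheme.{0}} [X.Over (Spec (CommRingCat.of k))] [PicGrp.Law X]

theorem clR_tensor {L M : X.Modules} (hL : PicF.IsInvertible L) (hM : PicF.IsInvertible M) :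
    NumR.clR k X (CohB1.tensorMod L M) (isInvertible_tensorMod hL hM) =
      NumR.clR k X L hL + NumR.clR k X M hM := by
  have e : PicGrp.cls L hL * PicGrp.cls M hM =
      PicGrp.cls (CohB1.tensorMod L M) (isInvertible_tensorMod hL hM) :=
    Subtype.ext ((PicGrp.cls_mul_cls_val hL hM).trans rfl)
  simp only [NumR.clR, NumR.cl, ← e, ofMul_mul, map_add]

theorem clR_iso {L M : X.Modules} (hL : PicF.IsInvertible L) (hM : PicF.IsInvertible M) (e : L ≅ M) :
    NumR.clR k X L hL = NumR.clR k X M hM := by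
  rw [NumR.clR, NumR.cl, (PicGrp.cls_eq_cls_iff hL hM).mpr ⟨e⟩]
  rfl

theorem clR_structure :
    NumR.clR k X (Coh.structureModule X) (LFFrame.isInvertible_structureModule X) = 0 := by
  rw [NumR.clR, NumR.cl, (PicGrp.cls_eq_one_iff _).mpr ⟨Iso.refl _⟩, ofMul_one, map_zero, map_zero]

theorem clR_pow {L : X.Modules} (hL : PicF.IsInvertible L) : ∀ m : ℕ,
    NumR.clR k X (CohB1.tensorPow L m) (isInvertible_tensorPow hL m) = (m : ℝ) • NumR.clR k X L hL
  | 0 => by rw [Nat.cast_zero, zero_smul]; exact clR_structure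
  | m + 1 => by
    rw [Nat.cast_succ, add_smul, one_smul, ← clR_pow hL m]
    exact clR_tensor (isInvertible_tensorPow hL m) hL

variable [IsProper (X ↘ Spec (CommRingCat.of k))] [IsIntegral X]

omit [X.Over (Spec (CommRingCat.of k))] [PicGrp.Law X] [IsProper (X ↘ Spec (CommRingCat.of k))] in
theorem hasSection_of_sub {E : X.Modules} (h : Sub (Coh.structureModule X) E) : NumR.HasSection E := by
  obtain ⟨φ, hφ⟩ := h
  refine ⟨φ, fun h0 => not_isZero_of_isInvertible (LFFrame.isInvertible_structureModule X) ?_⟩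
  subst h0
  exact IsZero.of_mono_zero _ E

variable (k) in
include k in
omit [PicGrp.Law X] in
/-- An ample module plus an effective one is big. -/
theorem big_tensor {A E : X.Modules} (hA : CohB1.IsAmple A) (hE : PicF.IsInvertible E)
    (hEs : Sub (Coh.structureModule X) E) :
    ∀ B : X.Modules, CohB1.IsAmple B → ∃ (m : ℕ) (φ : B ⟶ CohB1.tensorPow (CohB1.tensorMod A E) m),
      0 < m ∧ Mono φ := by
  intro B hB
  obtain ⟨B', hB', ⟨e⟩⟩ := PicLaw.exists_inverse hB.1
  obtain ⟨n₀, hn, h⟩ := exists_sub_ample_pow k hA hB'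
  have h1 : Sub B (CohB1.tensorPow A n₀) :=
    ((Sub.of_iso (structure_tensor hB.1).some.symm).trans ((h n₀ le_rfl).tensor hB.1)).iso
      (tensAssoc _ _ _ ≪≫ tensCongr (Iso.refl _) ((PicLaw.tensor_comm hB' hB.1).some ≪≫ e) ≪≫ tensOne _)
  have h2 : Sub A (CohB1.tensorMod A E) :=
    ((Sub.of_iso (structure_tensor hA.1).some.symm).trans (hEs.tensor hA.1)).iso
      (PicLaw.tensor_comm hE hA.1).some
  obtain ⟨φ, hφ⟩ := h1.trans (sub_tensorPow hA.1 (isInvertible_tensorMod hA.1 hE) h2 n₀)
  exact ⟨n₀, φ, hn, hφ⟩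

/-- The bigness predicate. -/
abbrev IsBig (L : X.Modules) : Prop :=
  ∀ A : X.Modules, CohB1.IsAmple A → ∃ (m : ℕ) (φ : A ⟶ CohB1.tensorPow L m), 0 < m ∧ Mono φ

theorem big_eq_ample_add_eff {H : X.Modules} (hH : CohB1.IsAmple H) (x : NumR.N1R k X) :
    x ∈ (NumR.coneOf k X IsBig : Set (NumR.N1R k X)) ↔
      ∃ a ∈ (NumR.ampleCone k X : Set (NumR.N1R k X)),
        x - a ∈ (NumR.effCone k X : Set (NumR.N1R k X)) := by
  constructor
  · intro hx
    let S : ConvexCone ℝ (NumR.N1R k X) :=
      { carrier := {x | ∃ a ∈ NumR.ampleCone k X, x - a ∈ NumR.effCone k X}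
        smul_mem' := fun c hc x ⟨a, ha, hxa⟩ => ⟨c • a, (NumR.ampleCone k X).smul_mem hc ha, by
          rw [← smul_sub]; exact (NumR.effCone k X).smul_mem hc hxa⟩
        add_mem' := fun x ⟨a, ha, hxa⟩ y ⟨b, hb, hyb⟩ => ⟨a + b, (NumR.ampleCone k X).add_mem ha hb, by
          rw [add_sub_add_comm]; exact (NumR.effCone k X).add_mem hxa hyb⟩ }
    refine (ConvexCone.hull_min (C := S) ?_ : NumR.coneOf k X IsBig ≤ S) hx
    rintro _ ⟨L, hL, hbig, rfl⟩
    obtain ⟨m, φ, hm, hφ⟩ := hbig H hH
    obtain ⟨H', hH', ⟨e⟩⟩ := PicLaw.exists_inverse hH.1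
    have hsec : Sub (Coh.structureModule X) (CohB1.tensorMod (CohB1.tensorPow L m) H') :=
      (Sub.of_iso e.symm).trans (Sub.tensor hH' ⟨φ, hφ⟩)
    have hLm := isInvertible_tensorPow hL m
    have he : (m : ℝ) • NumR.clR k X L hL = NumR.clR k X H hH.1 +
        NumR.clR k X _ (isInvertible_tensorMod hLm hH') := by
      rw [clR_tensor hLm hH', ← add_assoc, add_comm (NumR.clR k X H hH.1), add_assoc,
        ← clR_tensor hH.1 hH', clR_iso _ (LFFrame.isInvertible_structureModule X) e, clR_structure,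
        add_zero, clR_pow hL m]
    have hm' : (0 : ℝ) < (m : ℝ)⁻¹ := inv_pos.mpr (by exact_mod_cast hm)
    refine ⟨(m : ℝ)⁻¹ • NumR.clR k X H hH.1, (NumR.ampleCone k X).smul_mem hm'
      (ConvexCone.subset_hull ⟨H, hH.1, hH, rfl⟩), ?_⟩
    have h : NumR.clR k X L hL - (m : ℝ)⁻¹ • NumR.clR k X H hH.1 =
        (m : ℝ)⁻¹ • NumR.clR k X _ (isInvertible_tensorMod hLm hH') := by
      rw [sub_eq_iff_eq_add', ← smul_add, ← he, inv_smul_smul₀ (by exact_mod_cast hm.ne')]
    rw [h]
    exact (NumR.effCone k X).smul_mem hm'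
      (ConvexCone.subset_hull ⟨_, isInvertible_tensorMod hLm hH', hasSection_of_sub hsec, rfl⟩)
  · rintro ⟨a, ha, he⟩
    let B := NumR.coneOf k X (IsBig (X := X))
    suffices h : ∀ e ∈ NumR.effCone k X, ∀ a ∈ NumR.ampleCone k X, a + e ∈ B by
      simpa using h _ he a ha
    intro e he'
    let S : ConvexCone ℝ (NumR.N1R k X) :=
      { carrier := {e | ∀ a ∈ NumR.ampleCone k X, a + e ∈ B}
        smul_mem' := fun c hc e he a ha => by
          have h := B.smul_mem hc (he (c⁻¹ • a) ((NumR.ampleCone k X).smul_mem (inv_pos.mpr hc) ha))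
          rwa [smul_add, smul_inv_smul₀ hc.ne'] at h
        add_mem' := fun e₁ h₁ e₂ h₂ a ha => by
          have hh := (NumR.ampleCone k X).smul_mem (show (0 : ℝ) < 1 / 2 by norm_num) ha
          have h := B.add_mem (h₁ _ hh) (h₂ _ hh)
          rwa [add_add_add_comm, ← add_smul, add_halves, one_smul] at h }
    refine (ConvexCone.hull_min (C := S) ?_ : NumR.effCone k X ≤ S) he'
    rintro _ ⟨E, hE, ⟨s, hs⟩, rfl⟩ a ha'
    let T : ConvexCone ℝ (NumR.N1R k X) :=
      { carrier := {a | ∀ t : ℝ, 0 < t → a + t • NumR.clR k X E hE ∈ B}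
        smul_mem' := fun c hc a ha t ht => by
          have h := B.smul_mem hc (ha (c⁻¹ * t) (mul_pos (inv_pos.mpr hc) ht))
          rwa [smul_add, smul_smul, ← mul_assoc, mul_inv_cancel₀ hc.ne', one_mul] at h
        add_mem' := fun a₁ h₁ a₂ h₂ t ht => by
          have h := B.add_mem (h₁ (t / 2) (by linarith)) (h₂ (t / 2) (by linarith))
          rwa [add_add_add_comm, ← add_smul, add_halves] at h }
    have hT : NumR.ampleCone k X ≤ T := by
      refine ConvexCone.hull_min ?_
      rintro _ ⟨A, hA, hAamp, rfl⟩ t ht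
      obtain ⟨N, hN⟩ := exists_nat_gt t
      have hN0 : (0 : ℝ) < N := ht.trans hN
      have hEs := sub_of_ne_zero (LFFrame.isInvertible_structureModule X) hE s hs
      have hEN : Sub (Coh.structureModule X) (CohB1.tensorPow E N) := by
        have h1 := sub_pow_mul hE (a := 1) (hEs.iso (structure_tensor hE).some.symm) N
        rwa [one_mul] at h1
      have g1 := big_tensor k hAamp (isInvertible_tensorPow hE N) hEN
      have g2 : IsBig A := by
        intro A₁ hA₁
        obtain ⟨m, φ, hm, hφ⟩ := big_tensor k hAamp (LFFrame.isInvertible_structureModule X)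
          (Sub.of_iso (Iso.refl _)) A₁ hA₁
        obtain ⟨ψ, hψ⟩ := Sub.trans ⟨φ, hφ⟩ (sub_tensorPow (isInvertible_tensorMod hA
          (LFFrame.isInvertible_structureModule X)) hA (Sub.of_iso (tensOne A)) m)
        exact ⟨m, ψ, hm, hψ⟩
      have hcl : NumR.clR k X A hA + t • NumR.clR k X E hE =
          (1 - t / N) • NumR.clR k X A hA + (t / N) •
            NumR.clR k X _ (isInvertible_tensorMod hA (isInvertible_tensorPow hE N)) := by
        rw [clR_tensor hA (isInvertible_tensorPow hE N), clR_pow hE N, smul_add, smul_smul, div_mul_cancel₀ _ hN0.ne', sub_smul, one_smul,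
          ← add_assoc, sub_add_cancel]
      show _ ∈ B
      rw [hcl]
      refine B.add_mem (B.smul_mem ?_ (ConvexCone.subset_hull ⟨A, hA, g2, rfl⟩))
        (B.smul_mem (div_pos ht hN0) (ConvexCone.subset_hull
          ⟨_, isInvertible_tensorMod hA (isInvertible_tensorPow hE N), g1, rfl⟩))
      rw [sub_pos, div_lt_one hN0]
      exact hN
    simpa using hT ha' 1 one_pos

end


/-- Let X be a projective variety over the complex numbers (an integral scheme, proper over ℂ, with an
ample invertible module), fix a group law on its Picard set and let N¹(X)_ℝ = ℝ ⊗ (Pic X modulo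
numerical equivalence). Call an invertible module L big when every ample invertible module A admits
a monomorphism A → L^⊗m for some m > 0 (the form of bigness of an integral divisor used in the
text's proofs), and let Big(X), Amp(X), Eff(X) ⊆ N¹(X)_ℝ be the convex cones generated by the
classes of big, of ample, and of invertible modules with a nonzero global section respectively
(positive real combinations; the class of O_X lies in Eff(X)). Then a class x lies in Big(X) if and
only if x = a + e with a ∈ Amp(X) and e ∈ Eff(X): a real divisor class is big exactly when it is the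
class of an ample plus an effective real divisor. -/
theorem result (X : Scheme.{0}) [X.Over (Spec (CommRingCat.of ℂ))]
    [AlgebraicGeometry.IsIntegral X] [IsProper (X ↘ Spec (CommRingCat.of ℂ))] (H : X.Modules) (hH : CohB1.IsAmple H)
    [PicGrp.Law X] (x : NumR.N1R ℂ X) :
    x ∈ (NumR.coneOf ℂ X (fun L : X.Modules => ∀ A : X.Modules, CohB1.IsAmple A → ∃ (m : ℕ) (φ : A ⟶ CohB1.tensorPow L m), 0 < m ∧ Mono φ) : Set (NumR.N1R ℂ X)) ↔
      ∃ a ∈ (NumR.ampleCone ℂ X : Set (NumR.N1R ℂ X)), x - a ∈ (NumR.effCone ℂ X : Set (NumR.N1R ℂ X)) := by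
  exact big_eq_ample_add_eff hH x

end Groth.Agent.S19739
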