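import Groth.Statements.S19740
import Groth.Agent.S19739

set_option autoImplicit false
open CategoryTheory CategoryTheory.Limits AlgebraicGeometry
open PosLin

namespace Groth.Agent.S19740

section

open CategoryTheory CategoryTheory.Limits AlgebraicGeometry Groth.Agent.BigVol
  Groth.Agent.ProjTwist Groth.Agent.AmpleLib Groth.Agent.S19739

set_option linter.style.haveILetI false
set_option linter.unusedSectionVars false

variable {k : Type} [Field k] {X : Scheme.{0}} [X.Over (Spec (CommRingCat.of k))] [PicGrp.Law X]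
  [IsProper (X ↘ Spec (CommRingCat.of k))] [IsIntegral X]

variable {H : X.Modules} (hH : CohB1.IsAmple H)

set_option quotPrecheck false in
local notation "hc" => NumR.clR k X H hH.1
local notation "Big" => NumR.coneOf k X (IsBig (X := X))

include hH in
theorem exists_nat_smul_add (M : X.Modules) (hM : PicF.IsInvertible M) :
    ∃ n : ℕ, (n : ℝ) • hc + NumR.clR k X M hM ∈ NumR.effCone k X := by
  obtain ⟨n, -, h⟩ := exists_sub_ample_pow k hH hM
  refine ⟨n, ?_⟩
  rw [← clR_pow hH.1 n, ← clR_tensor (isInvertible_tensorPow hH.1 n) hM]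
  exact ConvexCone.subset_hull ⟨_, isInvertible_tensorMod (isInvertible_tensorPow hH.1 n) hM,
    hasSection_of_sub (h n le_rfl), rfl⟩

include hH in
theorem ample_mem_big : hc ∈ Big :=
  ConvexCone.subset_hull ⟨H, hH.1, fun A hA => by
    obtain ⟨m, φ, hm, hφ⟩ := big_tensor k hH (LFFrame.isInvertible_structureModule X)
      (BigVol.Sub.of_iso (Iso.refl _)) A hA
    obtain ⟨ψ, hψ⟩ := BigVol.Sub.trans ⟨φ, hφ⟩ (sub_tensorPow (isInvertible_tensorMod hH.1
      (LFFrame.isInvertible_structureModule X)) hH.1 (BigVol.Sub.of_iso (tensOne H)) m)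
    exact ⟨m, ψ, hm, hψ⟩, rfl⟩

include hH in
theorem add_eff_mem_big {c : ℝ} (hc0 : 0 < c) {e : NumR.N1R k X} (he : e ∈ NumR.effCone k X) :
    c • hc + e ∈ Big := by
  refine (big_eq_ample_add_eff hH _).mpr ⟨c • hc, (NumR.ampleCone k X).smul_mem hc0
    (ConvexCone.subset_hull ⟨H, hH.1, hH, rfl⟩), ?_⟩
  rw [add_sub_cancel_left]
  exact he

include hH in
theorem ample_le_eff : NumR.ampleCone k X ≤ NumR.effCone k X := by
  refine ConvexCone.hull_min ?_
  rintro _ ⟨A, hA, hAa, rfl⟩
  obtain ⟨n, hn, h⟩ := exists_sub_ample_pow k hAa (LFFrame.isInvertible_structureModule X)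
  have h1 := (NumR.effCone k X).smul_mem (show (0 : ℝ) < (n : ℝ)⁻¹ by positivity)
    (ConvexCone.subset_hull (R := ℝ) ⟨_, isInvertible_tensorMod (isInvertible_tensorPow hA n)
      (LFFrame.isInvertible_structureModule X), hasSection_of_sub (h n le_rfl), rfl⟩)
  rwa [clR_tensor (isInvertible_tensorPow hA n) (LFFrame.isInvertible_structureModule X), clR_structure,
    add_zero, clR_pow hA n, inv_smul_smul₀ (by exact_mod_cast hn.ne')] at h1

include hH in
theorem big_le_eff : Big ≤ NumR.effCone k X := fun x hx => by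
  obtain ⟨a, ha, he⟩ := (big_eq_ample_add_eff hH x).mp hx
  simpa using (NumR.effCone k X).add_mem (ample_le_eff hH ha) he

include hH in
theorem radial {x : NumR.N1R k X} (hx : x ∈ Big) {M : X.Modules} (hM : PicF.IsInvertible M)
    (σ : ℝ) (hσ : σ = 1 ∨ σ = -1) : ∃ ε : ℝ, 0 < ε ∧ x + (ε * σ) • NumR.clR k X M hM ∈ Big := by
  obtain ⟨M₁, hM₁, hy⟩ : ∃ (M₁ : X.Modules) (h : PicF.IsInvertible M₁),
      NumR.clR k X M₁ h = σ • NumR.clR k X M hM := by
    rcases hσ with rfl | rfl
    · exact ⟨M, hM, (one_smul ℝ _).symm⟩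
    · obtain ⟨M', hM', ⟨e⟩⟩ := PicLaw.exists_inverse hM
      refine ⟨M', hM', ?_⟩
      rw [neg_one_smul, eq_neg_iff_add_eq_zero, add_comm, ← clR_tensor hM hM',
        clR_iso _ (LFFrame.isInvertible_structureModule X) e, clR_structure]
  let S : ConvexCone ℝ (NumR.N1R k X) :=
    { carrier := {x | ∃ ε : ℝ, 0 < ε ∧ x + ε • NumR.clR k X M₁ hM₁ ∈ Big}
      smul_mem' := fun c hc' x ⟨ε, hε, h⟩ => ⟨c * ε, mul_pos hc' hε, by
        have := (Big).smul_mem hc' h
        rwa [smul_add, smul_smul] at this⟩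
      add_mem' := fun x ⟨ε, hε, h⟩ y ⟨δ, hδ, h'⟩ => ⟨ε + δ, add_pos hε hδ, by
        have := (Big).add_mem h h'
        rwa [add_add_add_comm, ← add_smul] at this⟩ }
  suffices h : x ∈ S by
    obtain ⟨ε, hε, h⟩ := h
    exact ⟨ε, hε, by rwa [mul_smul, ← hy]⟩
  refine (ConvexCone.hull_min (C := S) ?_ : Big ≤ S) hx
  rintro _ ⟨L, hL, hbig, rfl⟩
  obtain ⟨m, φ, hm, hφ⟩ := hbig H hH
  obtain ⟨n, hn⟩ := exists_nat_smul_add (k := k) hH M₁ hM₁
  obtain ⟨H', hH', ⟨e⟩⟩ := PicLaw.exists_inverse hH.1
  have hsec : BigVol.Sub (Coh.structureModule X) (CohB1.tensorMod (CohB1.tensorPow L m) H') :=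
    (BigVol.Sub.of_iso e.symm).trans (BigVol.Sub.tensor hH' ⟨φ, hφ⟩)
  have hE := ConvexCone.subset_hull (R := ℝ) (s := {x : NumR.N1R k X | ∃ (L : X.Modules)
      (hL : PicF.IsInvertible L), NumR.HasSection L ∧ x = NumR.clR k X L hL})
    ⟨_, isInvertible_tensorMod (isInvertible_tensorPow hL m) hH', hasSection_of_sub hsec, rfl⟩
  have he : NumR.clR k X H' hH' = - hc := by
    rw [eq_neg_iff_add_eq_zero, add_comm, ← clR_tensor hH.1 hH',
      clR_iso _ (LFFrame.isInvertible_structureModule X) e, clR_structure]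
  rw [clR_tensor (isInvertible_tensorPow hL m) hH', clR_pow hL m, he] at hE
  have hm0 : (0 : ℝ) < m := by exact_mod_cast hm
  -- `(n + 1) m L + M₁ = h + (n+1)(m L - h) + (n h + M₁)`
  have h1 : (1 : ℝ) • hc + ((((n : ℝ) + 1) • ((m : ℝ) • NumR.clR k X L hL + -hc)) +
      ((n : ℝ) • hc + NumR.clR k X M₁ hM₁)) ∈ Big :=
    add_eff_mem_big hH one_pos ((NumR.effCone k X).add_mem
      ((NumR.effCone k X).smul_mem (by positivity) hE) hn)
  have hp : (0 : ℝ) < (((n : ℝ) + 1) * m)⁻¹ := by positivity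
  refine ⟨(((n : ℝ) + 1) * m)⁻¹, hp, ?_⟩
  have h2 := (Big).smul_mem hp h1
  have he2 : (1 : ℝ) • hc + ((((n : ℝ) + 1) • ((m : ℝ) • NumR.clR k X L hL + -hc)) +
      ((n : ℝ) • hc + NumR.clR k X M₁ hM₁)) =
      ((((n : ℝ) + 1) * m)) • NumR.clR k X L hL + NumR.clR k X M₁ hM₁ := by module
  rw [he2, smul_add, inv_smul_smul₀ (by positivity)] at h2
  exact h2

omit [IsProper (X ↘ Spec (CommRingCat.of k))] [IsIntegral X] in
theorem continuousSub_big : ContinuousSub (NumR.N1R k X) := by
  have : ContinuousNeg (NumR.N1R k X) := ⟨by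
    have h : Continuous fun v : NumR.N1R k X => (-1 : ℝ) • v := continuous_const_smul (-1 : ℝ)
    simpa [neg_one_smul] using h⟩
  refine ⟨?_⟩
  simp only [sub_eq_add_neg]
  exact continuous_fst.add continuous_snd.neg

include hH in
theorem isOpen_big [Module.Finite ℝ (NumR.N1R k X)] : IsOpen (Big : Set (NumR.N1R k X)) := by
  classical
  haveI := continuousSub_big (k := k) (X := X)
  rw [isOpen_iff_mem_nhds]
  intro x hx
  obtain ⟨T, hTs, hT⟩ := Submodule.fg_span_iff_fg_span_finset_subset _ |>.mp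
    (show (Submodule.span ℝ {x : NumR.N1R k X | ∃ (L : X.Modules) (hL : PicF.IsInvertible L),
      x = NumR.clR k X L hL}).FG by rw [NumR.span_clR]; exact Module.Finite.fg_top)
  let T' := insert hc T
  have hT' : ∀ t ∈ T', ∀ σ : ℝ, σ = 1 ∨ σ = -1 → ∃ ε : ℝ, 0 < ε ∧ x + (ε * σ) • t ∈ Big := by
    intro t ht σ hσ
    have : ∃ (L : X.Modules) (hL : PicF.IsInvertible L), t = NumR.clR k X L hL := by
      rcases Finset.mem_insert.mp ht with rfl | h
      exacts [⟨H, hH.1, rfl⟩, hTs h]
    obtain ⟨L, hL, rfl⟩ := this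
    exact radial hH hx hL σ hσ
  choose εp hεp hp using fun t : T' => hT' t t.2 1 (Or.inl rfl)
  choose εn hεn hn using fun t : T' => hT' t t.2 (-1) (Or.inr rfl)
  have hne : Nonempty T' := ⟨⟨hc, Finset.mem_insert_self _ _⟩⟩
  let f : (T' → ℝ) →ₗ[ℝ] NumR.N1R k X := Fintype.linearCombination ℝ fun t : T' => (t : NumR.N1R k X)
  have hf : LinearMap.range f = ⊤ := by
    rw [Fintype.range_linearCombination, eq_top_iff, ← NumR.span_clR (k := k) (X := X), hT]
    exact Submodule.span_mono fun t ht => ⟨⟨t, Finset.mem_insert_of_mem ht⟩, rfl⟩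
  obtain ⟨g, hg⟩ := f.exists_rightInverse_of_surjective hf
  have hgc : Continuous g := IsModuleTopology.continuous_of_linearMap g
  have hN : (0 : ℝ) < Fintype.card T' := by exact_mod_cast Fintype.card_pos
  let U : Set (T' → ℝ) := {c | ∀ t, (Fintype.card T' : ℝ) * c t ≤ εp t ∧ -εn t ≤ (Fintype.card T' : ℝ) * c t}
  have hU : U ∈ nhds (0 : T' → ℝ) := by
    have : U = ⋂ t, (fun c : T' → ℝ => (Fintype.card T' : ℝ) * c t) ⁻¹' Set.Icc (-εn t) (εp t) := by
      ext c
      simp [U, and_comm]
    rw [this]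
    refine Filter.iInter_mem.mpr fun t => (by fun_prop : Continuous fun c : T' → ℝ => (Fintype.card T' : ℝ) * c t).continuousAt ?_
    simp only [Pi.zero_apply, mul_zero]
    exact Icc_mem_nhds (neg_lt_zero.mpr (hεn t)) (hεp t)
  have hnhds : (fun v => g (v - x)) ⁻¹' U ∈ nhds x :=
    (hgc.comp (continuous_id.sub continuous_const)).continuousAt (by simpa using hU)
  refine Filter.mem_of_superset hnhds fun v hv => ?_
  have hterm : ∀ t : T', x + ((Fintype.card T' : ℝ) * g (v - x) t) • (t : NumR.N1R k X) ∈ Big := by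
    intro t
    obtain ⟨h1, h2⟩ := hv t
    set c := (Fintype.card T' : ℝ) * g (v - x) t
    have hp' := hp t
    have hn' := hn t
    simp only [mul_one, mul_neg] at hp' hn'
    have hmem := (Big).convex hn' hp' (a := (εp t - c) / (εp t + εn t)) (b := (c + εn t) / (εp t + εn t))
      (div_nonneg (by linarith) (by linarith [hεp t, hεn t]))
      (div_nonneg (by linarith) (by linarith [hεp t, hεn t]))
      (by rw [← add_div, div_eq_one_iff_eq (by linarith [hεp t, hεn t])]; ring)
    have h0 : εp t + εn t ≠ 0 := by linarith [hεp t, hεn t]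
    have e1 : (εp t - c) / (εp t + εn t) + (c + εn t) / (εp t + εn t) = 1 := by field_simp; ring
    have e2 : (εp t - c) / (εp t + εn t) * (-εn t) + (c + εn t) / (εp t + εn t) * εp t = c := by
      field_simp; ring
    have e3 : ((εp t - c) / (εp t + εn t)) • (x + (-εn t) • (t : NumR.N1R k X)) +
        ((c + εn t) / (εp t + εn t)) • (x + εp t • (t : NumR.N1R k X)) = x + c • (t : NumR.N1R k X) := by
      rw [smul_add, smul_add, add_add_add_comm, ← add_smul, e1, one_smul, smul_smul, smul_smul,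
        ← add_smul, e2]
    rw [← e3]
    exact hmem
  have hsum : v = (Fintype.card T' : ℝ)⁻¹ • ∑ t : T', (x + ((Fintype.card T' : ℝ) * g (v - x) t) • (t : NumR.N1R k X)) := by
    have hfg : f (g (v - x)) = v - x := LinearMap.congr_fun hg (v - x)
    rw [Finset.sum_add_distrib, Finset.sum_const, Finset.card_univ, ← Nat.cast_smul_eq_nsmul ℝ]
    simp only [mul_smul, ← Finset.smul_sum]
    rw [← smul_add, inv_smul_smul₀ hN.ne']
    rw [show (∑ t : T', g (v - x) t • (t : NumR.N1R k X)) = f (g (v - x)) from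
      (Fintype.linearCombination_apply ℝ _ _).symm, hfg, add_sub_cancel]
  rw [hsum]
  refine (Big).smul_mem (inv_pos.mpr hN) ?_
  exact Finset.sum_induction_nonempty _ (fun y => y ∈ Big) (fun _ _ h h' => (Big).add_mem h h')
    Finset.univ_nonempty fun t _ => hterm t

include hH in
theorem main [Module.Finite ℝ (NumR.N1R k X)] :
    (Big : Set (NumR.N1R k X)) = interior (NumR.psefCone k X) ∧
      NumR.psefCone k X = closure (Big : Set (NumR.N1R k X)) := by
  haveI := continuousSub_big (k := k) (X := X)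
  have hopen := isOpen_big (k := k) hH
  have hsub : (Big : Set (NumR.N1R k X)) ⊆ NumR.psefCone k X :=
    fun x hx => subset_closure (big_le_eff hH hx)
  have hcl : NumR.psefCone k X = closure (Big : Set (NumR.N1R k X)) := by
    refine Set.Subset.antisymm (closure_minimal (fun e he => ?_) isClosed_closure)
      (closure_minimal hsub isClosed_closure)
    have ht : Filter.Tendsto (fun c : ℝ => c • hc + e) (nhdsWithin 0 (Set.Ioi 0)) (nhds e) := by
      have : Continuous fun c : ℝ => c • hc + e := by fun_prop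
      simpa using (this.tendsto 0).mono_left nhdsWithin_le_nhds
    exact mem_closure_of_tendsto ht
      (Filter.eventually_of_mem self_mem_nhdsWithin fun c hc0 => add_eff_mem_big hH hc0 he)
  refine ⟨Set.Subset.antisymm (interior_maximal hsub hopen) fun x hx => ?_, hcl⟩
  have hsm : Continuous fun c : ℝ => x - c • hc := by fun_prop
  have hev : ∀ᶠ c : ℝ in nhdsWithin 0 (Set.Ioi 0), x - c • hc ∈ interior (NumR.psefCone k X) :=
    nhdsWithin_le_nhds (hsm.continuousAt.preimage_mem_nhds (by simpa using isOpen_interior.mem_nhds hx))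
  obtain ⟨ε, hεmem, hε⟩ := (hev.and self_mem_nhdsWithin).exists
  have hy : x - ε • hc ∈ closure (Big : Set (NumR.N1R k X)) := hcl ▸ interior_subset hεmem
  have hVopen : IsOpen {b : NumR.N1R k X | x - b ∈ (Big : Set (NumR.N1R k X))} :=
    hopen.preimage (by fun_prop)
  obtain ⟨b, hb1, hb2⟩ := mem_closure_iff.mp hy _ hVopen (by
    show x - (x - ε • hc) ∈ Big
    rw [sub_sub_cancel]
    exact (Big).smul_mem hε (ample_mem_big hH))
  simpa using (Big).add_mem hb1 hb2

end


/-- Let X be a projective variety over the complex numbers (an integral scheme, proper over ℂ, with an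
ample invertible module), fix a group law on its Picard set and let N¹(X)_ℝ = ℝ ⊗ (Pic X modulo
numerical equivalence) with its topology as a finite-dimensional real vector space
(finite-dimensionality is assumed here). Call an invertible module L big when every ample invertible
module A admits a monomorphism A → L^⊗m for some m > 0, let Big(X) ⊆ N¹(X)_ℝ be the convex cone
spanned by the classes of big invertible modules and Psef(X) the pseudo-effective cone, the closure
of the cone spanned by the classes of invertible modules with a nonzero global section. Then Big(X)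
is the interior of Psef(X), and Psef(X) is the closure of Big(X). -/
theorem result (X : Scheme.{0}) [X.Over (Spec (CommRingCat.of ℂ))]
    [AlgebraicGeometry.IsIntegral X] [IsProper (X ↘ Spec (CommRingCat.of ℂ))] (H : X.Modules) (hH : CohB1.IsAmple H)
    [PicGrp.Law X] [Module.Finite ℝ (NumR.N1R ℂ X)] :
    (NumR.coneOf ℂ X (fun L : X.Modules => ∀ A : X.Modules, CohB1.IsAmple A → ∃ (m : ℕ) (φ : A ⟶ CohB1.tensorPow L m), 0 < m ∧ Mono φ) : Set (NumR.N1R ℂ X)) = interior (NumR.psefCone ℂ X) ∧
      NumR.psefCone ℂ X = closure (NumR.coneOf ℂ X (fun L : X.Modules => ∀ A : X.Modules, CohB1.IsAmple A → ∃ (m : ℕ) (φ : A ⟶ CohB1.tensorPow L m), 0 < m ∧ Mono φ) : Set (NumR.N1R ℂ X)) := by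
  exact main hH

end Groth.Agent.S19740
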