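import Groth.Statements.S19741
import Mathlib.RingTheory.AlgebraicIndependent.TranscendenceBasis
import Mathlib.RingTheory.AlgebraicIndependent.AlgebraicClosure
import Mathlib.FieldTheory.AlgebraicClosure

set_option autoImplicit false
universe w u
open EssDim

namespace Groth.Agent.S19741
section Aux
open Cardinal

lemma trdeg_le_of_adjoin_range {k K E L : Type u} [Field k] [Field K] [Field E] [Field L]
    [Algebra k K] [Algebra k E] [Algebra k L] [Algebra K L] [IsScalarTower k K L]
    (f : E →ₐ[k] L) (h : IntermediateField.adjoin K (Set.range f) = ⊤) :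
    Algebra.trdeg K L ≤ Algebra.trdeg k E := by
  obtain ⟨t, ht⟩ := exists_isTranscendenceBasis k E
  have halgE := ht.isAlgebraic_field
  rw [Subtype.range_coe] at halgE
  have hA : ∀ a ∈ IntermediateField.adjoin k t, f a ∈ IntermediateField.adjoin K (f '' t) := by
    intro a ha
    have : IntermediateField.adjoin k t ≤
        ((IntermediateField.adjoin K (f '' t)).restrictScalars k).comap f :=
      IntermediateField.adjoin_le_iff.2 fun x hx =>
        IntermediateField.subset_adjoin K _ (Set.mem_image_of_mem f hx)
    exact this ha
  let g : IntermediateField.adjoin k t →+* IntermediateField.adjoin K (f '' t) :=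
    { toFun := fun a => ⟨f a, hA a a.2⟩
      map_one' := Subtype.ext (map_one f)
      map_mul' := fun a b => Subtype.ext (map_mul f _ _)
      map_zero' := Subtype.ext (map_zero f)
      map_add' := fun a b => Subtype.ext (map_add f _ _) }
  have halg : ∀ e : E, IsAlgebraic (IntermediateField.adjoin K (f '' t)) (f e) := fun e =>
    (halgE.isAlgebraic e).ringHom_of_comp_eq g f.toRingHom g.injective (RingHom.ext fun a => rfl)
  have htop : Algebra.IsAlgebraic (IntermediateField.adjoin K (f '' t)) L := by
    have hle : (⊤ : IntermediateField K L) ≤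
        (algebraicClosure (IntermediateField.adjoin K (f '' t)) L).restrictScalars K := by
      rw [← h, IntermediateField.adjoin_le_iff]
      rintro _ ⟨e, rfl⟩
      exact mem_algebraicClosure_iff.2 (halg e)
    exact ⟨fun x => mem_algebraicClosure_iff.1 (hle (IntermediateField.mem_top (x := x)))⟩
  have : Algebra.IsAlgebraic (Algebra.adjoin K (f '' t)) L :=
    IntermediateField.isAlgebraic_adjoin_iff_top.1 htop
  exact (Algebra.IsAlgebraic.trdeg_le_cardinalMk K (f '' t)).trans
    (Cardinal.mk_image_le.trans ht.cardinalMk_eq_trdeg.le)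

open CategoryTheory AlgebraicGeometry in
noncomputable def ptMapIso (k K L : Type u) [Field k] [Field K] [Field L] [Algebra k K] [Algebra K L]
    [Algebra k L] [IsScalarTower k K L] :
    (Over.map (Spec.map (CommRingCat.ofHom (algebraMap k K)))).obj (SGA7.pt (K := K) L) ≅
      SGA7.pt (K := k) L :=
  Over.isoMk (Iso.refl _) (by
    change 𝟙 _ ≫ Spec.map (CommRingCat.ofHom (algebraMap k L)) =
      Spec.map (CommRingCat.ofHom (algebraMap K L)) ≫ Spec.map (CommRingCat.ofHom (algebraMap k K))
    rw [Category.id_comp, ← Spec.map_comp, ← CommRingCat.ofHom_comp, IsScalarTower.algebraMap_eq k K L])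

open CategoryTheory AlgebraicGeometry in
lemma ptMapIso_left (k K L : Type u) [Field k] [Field K] [Field L] [Algebra k K] [Algebra K L]
    [Algebra k L] [IsScalarTower k K L] : (ptMapIso k K L).hom.left = 𝟙 _ := rfl

open CategoryTheory AlgebraicGeometry in
lemma resPt_ptMapIso (k K : Type u) [Field k] [Field K] [Algebra k K] {E E' L : Type u} [Field E]
    [Field E'] [Field L] [Algebra k E] [Algebra K E'] [Algebra k E'] [IsScalarTower k K E']
    [Algebra K L] [Algebra k L] [IsScalarTower k K L] (φ : E →ₐ[k] E') (v : E →ₐ[k] L) (v' : E' →ₐ[K] L)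
    (h : ∀ x, v' (φ x) = v x) :
    (Over.map (Spec.map (CommRingCat.ofHom (algebraMap k K)))).map (EssDim.resPt v') ≫
        (ptMapIso k K E').hom ≫ EssDim.resPt φ =
      (ptMapIso k K L).hom ≫ EssDim.resPt v := by
  ext : 1
  simp only [Over.comp_left, Over.map_map_left, EssDim.resPt_left, ptMapIso_left]
  rw [show (v : E →+* L) = (v' : E' →+* L).comp (φ : E →+* E') from RingHom.ext fun x => (h x).symm,
    CommRingCat.ofHom_comp, Spec.map_comp]
  erw [Category.id_comp]
  exact (Category.id_comp _).symm

end Aux

open CategoryTheory AlgebraicGeometry in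
/-- For a field extension `K` of `k` and a presheaf of sets `P` on schemes over `k`, restrict `P` to
schemes over `K` by viewing a scheme over `Spec K` as a scheme over `Spec k`; then the essential
dimension over `K` of the restricted presheaf is at most the essential dimension of `P` over `k`.
(The source states this for an algebraic stack over `k` and its base change to `K`, through the
presheaf of isomorphism classes of objects, whose restriction to schemes over `K` is the presheaf of
classes of the base-changed stack; the inequality is stated here for an arbitrary presheaf, which is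
what the argument with composita of fields of definition gives.) -/
theorem result (k : Type u) [Field k] (K : Type u) [Field K] [Algebra k K]
    (P : (Over (Spec (CommRingCat.of k)))ᵒᵖ ⥤ Type w) :
    EssDim.ed (k := K) ((Over.map (Spec.map (CommRingCat.ofHom (algebraMap k K)))).op ⋙ P) ≤ EssDim.ed P := by
  refine iSup_le fun L => iSup_le fun hL => iSup_le fun hKL => iSup_le fun ξ => ?_
  letI : Algebra k L := ((algebraMap K L).comp (algebraMap k K)).toAlgebra
  haveI : IsScalarTower k K L := IsScalarTower.of_algebraMap_eq fun _ => rfl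
  let iso := ptMapIso k K L
  let η : EssDim.FPt P L := P.map iso.inv.op ξ
  refine le_trans ?_ (EssDim.edAt_le_ed η)
  refine WithBot.coe_le_coe.2 (le_iInf fun E => ?_)
  obtain ⟨E, η₀, hη₀⟩ := E
  let E' : IntermediateField K L := IntermediateField.adjoin K (E : Set L)
  have hle : ∀ x : E, x.1 ∈ E' := fun x => IntermediateField.subset_adjoin K _ x.2
  refine le_trans (EssDim.edAt_le_of_descends (K := E') ?_) ?_
  · let φ : E →ₐ[k] E' :=
      { toFun := fun x => ⟨x.1, hle x⟩
        map_one' := rfl
        map_mul' := fun _ _ => rfl
        map_zero' := rfl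
        map_add' := fun _ _ => rfl
        commutes' := fun _ => rfl }
    let isoE := ptMapIso k K E'
    refine ⟨P.map (isoE.hom ≫ EssDim.resPt φ).op η₀, ?_⟩
    change P.map ((Over.map _).map (EssDim.resPt E'.val)).op (P.map (isoE.hom ≫ EssDim.resPt φ).op η₀) = ξ
    have hξ : ξ = P.map iso.hom.op η := by
      change ξ = P.map iso.hom.op (P.map iso.inv.op ξ)
      rw [← comp_apply, ← P.map_comp, ← op_comp, iso.hom_inv_id, op_id, P.map_id]
      rfl
    rw [hξ, ← hη₀]
    change (P.map (isoE.hom ≫ EssDim.resPt φ).op ≫
      P.map ((Over.map _).map (EssDim.resPt E'.val)).op) η₀ =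
      (P.map (EssDim.resPt E.val).op ≫ P.map iso.hom.op) η₀
    rw [← P.map_comp, ← P.map_comp, ← op_comp, ← op_comp]
    rw [resPt_ptMapIso k K φ E.val E'.val fun x => rfl]
  · refine OrderHomClass.mono Cardinal.toENat ?_
    let φ : E →ₐ[k] E' :=
      { toFun := fun x => ⟨x.1, hle x⟩
        map_one' := rfl
        map_mul' := fun _ _ => rfl
        map_zero' := rfl
        map_add' := fun _ _ => rfl
        commutes' := fun _ => rfl }
    refine trdeg_le_of_adjoin_range φ ?_
    apply IntermediateField.lift_injective
    rw [IntermediateField.lift_top, IntermediateField.lift_adjoin]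
    congr 1
    ext x
    exact ⟨fun ⟨_, ⟨e, he⟩, hx⟩ => hx ▸ he ▸ e.2, fun hx => ⟨φ ⟨x, hx⟩, ⟨_, rfl⟩, rfl⟩⟩

end Groth.Agent.S19741
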