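import Groth.Statements.S19742
import Groth.Agent.EssDim85.Bound
import Groth.Agent.FibC.Yoneda

set_option autoImplicit false
universe u
open EssDim

namespace Groth.Agent.S19742

set_option backward.isDefEq.respectTransparency false
set_option backward.isDefEq.respectTransparency.types false

open CategoryTheory CategoryTheory.Functor CategoryTheory.Limits AlgebraicGeometry Opposite

theorem isSC_of_isHomLift {C : Type*} [Category C] {X : Type*} [Category X] (p : X ⥤ C) (h : FibCat.IsFibGrpd p)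
    {R S : C} (f : R ⟶ S) {a b : X} (φ : a ⟶ b) [p.IsHomLift f φ] : p.IsStronglyCartesian f φ := by
  subst_hom_lift p f φ
  exact h.isStronglyCartesian φ

theorem fp_snd_lift {C : Type*} [Category C] {A : BasedCategory C} {B : BasedCategory C} {T : BasedCategory C}
    (F : A ⥤ᵇ T) (G : B ⥤ᵇ T) {R S : C} (f : R ⟶ S) {a b : (FibCat.fp F G).obj} (φ : a ⟶ b)
    [(FibCat.fp F G).p.IsHomLift f φ] : B.p.IsHomLift f φ.hom.snd := by
  subst_hom_lift (FibCat.fp F G).p f φ
  infer_instance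

theorem toENat_le {a b : Cardinal.{u}} {n : ℕ} (h : a ≤ b + (n : Cardinal.{u})) :
    Cardinal.toENat a ≤ Cardinal.toENat b + (n : ℕ∞) := by
  calc Cardinal.toENat a ≤ Cardinal.toENat (b + (n : Cardinal.{u})) := OrderHomClass.mono Cardinal.toENat h
    _ = _ := by rw [_root_.map_add, _root_.map_natCast]

open CategoryTheory AlgebraicGeometry in
/-- Let `𝒳` and `𝒴` be algebraic stacks over a field `k` and `F : 𝒳 ⟶ 𝒴` a morphism over `(Sch/k)` which
is representable by algebraic spaces, quasi-separated, locally of finite type and of fibre dimension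
at most `d`: for every scheme `U` over `k` and every `(Sch/U) ⟶ 𝒴` the 2-fibre product with `𝒳` is
an algebraic space whose morphism to `U` is quasi-separated, locally of finite type and of relative
dimension at most `d` (local dimension of the fibre at most `d` at every point). Then for a field
`L` over `k` and an object `x` of `𝒳` over `Spec L`, the essential dimension of `x` is at most the
essential dimension of its image `F(x)` plus `d`. (Quasi-separatedness of `F` is an added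
hypothesis: the published statement asks only representable, locally of finite type and of fibre
dimension at most `d`, in a framework where representable morphisms of algebraic stacks are
quasi-separated; the argument uses residue fields of points of the algebraic space `Spec K ×_𝒴 𝒳`,
which are available when that space is quasi-separated.) -/
theorem result (k : Type u) [Field k]
    (𝒳 𝒴 : AlgSt.Cat (Spec (CommRingCat.of k)))
    (h𝒳 : AlgSt.IsAlgStack Scheme.fppfPrecoverage 𝒳) (h𝒴 : AlgSt.IsAlgStack Scheme.fppfPrecoverage 𝒴)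
    [FibCat.IsFibGrpd 𝒳.p] [FibCat.IsFibGrpd 𝒴.p]
    (F : 𝒳 ⥤ᵇ 𝒴) (d : ℕ)
    (hF : AlgSt.RepByAlgSpWith
      (AlgSp.LocP @LocallyOfFiniteType ⊓ AlgSp.IsQuasiSeparatedMor ⊓ fun _ _ g => CurvSt.RelDimLE d g) F)
    (L : Type u) [Field L] [Algebra k L] (x : StkCnt.pts 𝒳 L) :
    EssDim.edStAt 𝒳 x ≤ EssDim.edStAt 𝒴 ⟨F.obj x.1, (F.w_obj x.1).trans x.2⟩ + d := by
  obtain ⟨⟨K, hK⟩, hmin⟩ := @ENat.exists_eq_iInf _ ⟨⟨⊤, EssDim.descends_top _⟩⟩
    (fun K : {K : IntermediateField k L // EssDim.Descends (Gerb.isoClPsh 𝒴)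
      (Quot.mk (Gerb.IsoRel 𝒴 (SGA7.pt (K := k) L)) ⟨F.obj x.1, (F.w_obj x.1).trans x.2⟩) K} =>
      Cardinal.toENat (Algebra.trdeg k K.1))
  have hKn : EssDim.edStAt 𝒴 ⟨F.obj x.1, (F.w_obj x.1).trans x.2⟩ = Cardinal.toENat (Algebra.trdeg k K) := hmin.symm
  obtain ⟨y0, φ, hφ⟩ := (EssDim.descends_isoCl_iff 𝒴 _ K).1 hK
  let U : Over (Spec (CommRingCat.of k)) := SGA7.pt (K := k) K
  let r : SGA7.pt (K := k) L ⟶ U := EssDim.resPt K.val
  obtain ⟨G, eG, heG⟩ := Groth.Agent.FibC.exists_overLift_fibGrpd (𝒳 := 𝒴) ‹_› y0.1 y0.2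
  obtain ⟨Sp, e, ⟨g, -, ⟨η⟩⟩, ⟨⟨hlft, hqs⟩, hdim⟩⟩ := hF U G
  -- the object of the fibre product defined by `x`
  obtain ⟨isoO, hisoO⟩ : ∃ i : G.obj (Over.mk r) ≅ F.obj x.1, 𝒴.p.IsHomLift (𝟙 (SGA7.pt (K := k) L)) i.hom := by
    let kk : (Over.mk r : (FibCat.overCat U).obj) ⟶ Groth.Agent.FibC.overTop U := Groth.Agent.FibC.toTop _
    have h1 : 𝒴.p.IsHomLift r (G.map kk) :=
      haveI : (FibCat.overCat U).p.IsHomLift r kk := IsHomLift.map (FibCat.overCat U).p kk
      G.preserves_isHomLift r kk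
    have h2 : 𝒴.p.IsHomLift r (G.map kk ≫ eG.hom) := by
      have h3 := @IsHomLift.comp _ _ _ _ 𝒴.p _ _ _ _ _ _ r (𝟙 U) (G.map kk) eG.hom h1 heG
      rwa [Category.comp_id] at h3
    haveI := isSC_of_isHomLift 𝒴.p ‹_› r (G.map kk ≫ eG.hom)
    haveI := hφ
    haveI : 𝒴.p.IsStronglyCartesian r φ := isSC_of_isHomLift 𝒴.p ‹_› r φ
    exact ⟨Functor.IsCartesian.domainUniqueUpToIso 𝒴.p r φ (G.map kk ≫ eG.hom), inferInstance⟩
  let o : (FibCat.fp G F).obj := ⟨⟨Over.mk r, x.1, isoO⟩, hisoO⟩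
  obtain ⟨a, ι, hι⟩ : ∃ (a : (AlgSt.ofSp Sp.obj).obj) (ι : e.obj a ≅ o),
      (FibCat.fp G F).p.IsHomLift (𝟙 (SGA7.pt (K := k) L)) ι.inv := by
    refine ⟨g.obj o, ⟨η.hom.toNatTrans.app o, η.inv.toNatTrans.app o, ?_, ?_⟩, BasedNatTrans.app_isHomLift η.inv o⟩
    · exact congrArg (fun t : BasedFunctor.comp g e ⟶ BasedFunctor.comp g e => t.toNatTrans.app o) η.hom_inv_id
    · exact congrArg (fun t : BasedFunctor.id (FibCat.fp G F) ⟶ BasedFunctor.id (FibCat.fp G F) =>
        t.toNatTrans.app o) η.inv_hom_id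
  have hbase : a.base = SGA7.pt (K := k) L := by
    rw [← IsHomLift.codomain_eq (FibCat.fp G F).p (𝟙 (SGA7.pt (K := k) L)) ι.inv]
    exact (e.w_obj a).symm
  obtain ⟨T, v⟩ := a
  dsimp at hbase
  subst hbase
  let π := AlgSt.spMapOfOver (BasedFunctor.comp e (FibCat.fpFst G F))
  have hπv : π.hom.app (op (SGA7.pt (K := k) L)) v = ⟨r⟩ := by
    rw [AlgSt.spMapOfOver_app]
    refine congrArg ULift.up ?_
    have hfac := IsHomLift.fac' (FibCat.fp G F).p (𝟙 (SGA7.pt (K := k) L)) ι.inv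
    have hw : ι.inv.hom.fst.left ≫ (e.obj ⟨SGA7.pt (K := k) L, v⟩).obj.fst.hom = r := Over.w ι.inv.hom.fst
    rw [← hw, show ι.inv.hom.fst.left = (FibCat.fp G F).p.map ι.inv from rfl, hfac]
    simp [AlgSt.secHom, FibCat.fpFst, o]
    rfl
  -- the monomorphic point
  let q : AlgSp.FieldPt Sp.obj := ⟨L, Spec.map (CommRingCat.ofHom (algebraMap k L)), v⟩
  haveI : IsAffine U.left := inferInstanceAs (IsAffine (Spec (CommRingCat.of K)))
  obtain ⟨p, hpq, hm, -⟩ := Groth.Agent.AlgSpD.isDecent_of_isQuasiSeparatedMor Sp π hqs (AlgSp.Points.mk q)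
  obtain ⟨c, hc⟩ := Groth.Agent.AlgSpD.exists_factor_of_mono Sp p q hm hpq.symm
  obtain ⟨θ, hθ⟩ := (AlgSp.yon (Spec (CommRingCat.of k))).map_surjective (p.toHom ≫ π)
  have hcθ : c ≫ θ = r := by
    have h1 : q.toHom ≫ π = (AlgSp.yon (Spec (CommRingCat.of k))).map r := by
      apply (AlgSp.J (Spec (CommRingCat.of k))).uliftYonedaEquiv.injective
      rw [GrothendieckTopology.uliftYonedaEquiv_comp, AlgSp.FieldPt.uliftYonedaEquiv_toHom]
      exact hπv.trans (GrothendieckTopology.uliftYonedaEquiv_uliftYoneda_map _ r).symm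
    apply (AlgSp.yon (Spec (CommRingCat.of k))).map_injective
    rw [Functor.map_comp, hθ, ← Category.assoc, hc, h1]
  have hv : Sp.obj.obj.map c.op p.val = v := by
    have h1 := congrArg (AlgSp.J (Spec (CommRingCat.of k))).uliftYonedaEquiv hc
    rw [← GrothendieckTopology.uliftYonedaEquiv_naturality, AlgSp.FieldPt.uliftYonedaEquiv_toHom,
      AlgSp.FieldPt.uliftYonedaEquiv_toHom] at h1
    exact h1
  -- the fields
  let γ : p.K →+* L := (Spec.preimage c.left).hom
  letI algKp : Algebra K p.K := (Spec.preimage θ.left).hom.toAlgebra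
  letI algkp : Algebra k p.K := ((algebraMap K p.K).comp (algebraMap k K)).toAlgebra
  haveI : IsScalarTower k K p.K := IsScalarTower.of_algebraMap_eq' rfl
  have hγK : ∀ z : K, γ (algebraMap K p.K z) = z := by
    have h1 : Spec.preimage θ.left ≫ Spec.preimage c.left = CommRingCat.ofHom (K.val : K →+* L) := by
      apply Spec.map_injective
      rw [Spec.map_comp, Spec.map_preimage, Spec.map_preimage]
      exact congrArg CommaMorphism.left hcθ
    intro z
    exact congrArg (fun f : CommRingCat.of K ⟶ CommRingCat.of L => f.hom z) h1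
  let γa : p.K →ₐ[k] L :=
    { γ with
      commutes' := fun z => by
        show γ (algebraMap K p.K (algebraMap k K z)) = _
        rw [hγK]; rfl }
  let M : IntermediateField k L := γa.fieldRange
  let eM : p.K ≃ₐ[k] M := AlgEquiv.ofInjectiveField γa
  have hstr : p.str = Spec.map (CommRingCat.ofHom (algebraMap k p.K)) := by
    have h1 : θ.left ≫ Spec.map (CommRingCat.ofHom (algebraMap k K)) = p.str := Over.w θ
    rw [← h1, show algebraMap k p.K = (Spec.preimage θ.left).hom.comp (algebraMap k K) from rfl]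
    rw [CommRingCat.ofHom_comp, Spec.map_comp]
    exact congrArg (· ≫ _) (Spec.map_preimage θ.left).symm
  let jM : SGA7.pt (K := k) M ⟶ p.pt := Over.homMk (Spec.map (CommRingCat.ofHom (eM.toAlgHom : p.K →+* M))) (by
    show _ ≫ p.str = Spec.map (CommRingCat.ofHom (algebraMap k M))
    rw [hstr, ← Spec.map_comp, ← CommRingCat.ofHom_comp, AlgHom.comp_algebraMap])
  have hjM : EssDim.resPt M.val ≫ jM = c := by
    ext : 1
    rw [← Spec.map_preimage c.left]
    show Spec.map _ ≫ Spec.map _ = _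
    rw [← Spec.map_comp]
    congr 1
  -- descent of `x`
  let v0 := Sp.obj.obj.map jM.op p.val
  let μ : (⟨SGA7.pt (K := k) L, v⟩ : (AlgSt.ofSp Sp.obj).obj) ⟶ ⟨SGA7.pt (K := k) M, v0⟩ :=
    ⟨EssDim.resPt M.val, by
      show Sp.obj.obj.map (EssDim.resPt M.val).op (Sp.obj.obj.map jM.op p.val) = v
      rw [← Functor.map_comp_apply, ← op_comp, hjM, hv]⟩
  haveI hμ : (AlgSt.ofSp Sp.obj).p.IsHomLift (EssDim.resPt M.val) μ := IsHomLift.map (AlgSt.ofSp Sp.obj).p μ
  haveI : (FibCat.fp G F).p.IsHomLift (EssDim.resPt M.val) (e.map μ) := e.preserves_isHomLift _ _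
  haveI := hι
  have hl1 := fp_snd_lift G F (𝟙 (SGA7.pt (K := k) L)) ι.inv
  have hl2 := fp_snd_lift G F (EssDim.resPt M.val) (e.map μ)
  have hM : EssDim.Descends (Gerb.isoClPsh 𝒳) (Quot.mk (Gerb.IsoRel 𝒳 (SGA7.pt (K := k) L)) x) M := by
    refine (EssDim.descends_isoCl_iff 𝒳 x M).2
      ⟨⟨_, IsHomLift.codomain_eq 𝒳.p (EssDim.resPt M.val) (e.map μ).hom.snd⟩,
        ι.inv.hom.snd ≫ (e.map μ).hom.snd, ?_⟩
    have h3 := @IsHomLift.comp _ _ _ _ 𝒳.p _ _ _ _ _ _ (𝟙 (SGA7.pt (K := k) L)) (EssDim.resPt M.val)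
      ι.inv.hom.snd (e.map μ).hom.snd hl1 hl2
    rwa [Category.id_comp] at h3
  have htr : Algebra.trdeg k M ≤ Algebra.trdeg k K + (d : Cardinal.{u}) := by
    rw [← eM.trdeg_eq]
    haveI : FaithfulSMul k K := (faithfulSMul_iff_algebraMap_injective _ _).2 (RingHom.injective _)
    haveI : FaithfulSMul K p.K := (faithfulSMul_iff_algebraMap_injective _ _).2 (RingHom.injective _)
    rw [← trdeg_add_eq k K (A := p.K)]
    gcongr
    exact Groth.Agent.EssDim85.trdeg_monoPoint_le (Spec.map (CommRingCat.ofHom (algebraMap k K))) Sp π hlft d hdim p hm θ hθ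
  rw [hKn]
  exact (EssDim.edAt_le_of_descends hM).trans (toENat_le htr)

end Groth.Agent.S19742
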