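import Groth.Statements.S19752
import Groth.Agent.GrDual.DualRows
import Groth.Agent.GrDual.Canonical
-- import your own Groth.Agent.* helpers here

set_option autoImplicit false
universe u
open GrDual

namespace Groth.Agent.S19752

/-- Let R = ⊕_{n ≥ 0} R_n be a Noetherian graded ring with R_0 = k a field, m = R_+ and k = R/m. Then
the graded k-dual R^* = ⊕_n Hom_k(R_{−n}, k) is the injective envelope of R/m in the category of
graded R-modules: for every injective homomorphism of graded R-modules e : R/m → R^*, the module R^*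
is an injective object of the graded category and every nonzero graded submodule of R^* meets the
image of e. Here a graded ring defined over k is a commutative k-algebra of finite type, graded in
nonnegative degrees by k-subspaces with degree-zero part k·1, and R_+ is the ideal spanned by the
R_n with n > 0 (a Noetherian such ring is the same as one of finite type over k); the graded k-dual
M^* = ⊕_n Hom_k(M_{−n}, k) of a graded R-module M (with r ∈ R acting by (r f)(x) = f(r x)) is
presented abstractly as a graded R-module D with a k-bilinear pairing β : D × M → k compatible with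
the R-actions, under which D_n pairs to zero with M_m for m ≠ −n and is identified with the full
dual space of M_{−n}. -/
theorem result (k : Type u) [Field k] (R : Type u) [CommRing R] [Algebra k R] (𝒜 : ℤ → Submodule k R) [GradedAlgebra 𝒜] (hposR : ∀ n : ℤ, n < 0 → 𝒜 n = ⊥) (h0R : 𝒜 0 = Submodule.span k {(1 : R)}) [Algebra.FiniteType k R] (mR : HomogeneousIdeal 𝒜) (hmR : mR.toIdeal = Ideal.span (⋃ n ∈ Set.Ioi (0 : ℤ), (𝒜 n : Set R))) (D : Type u) [AddCommGroup D] [Module R D] [Module k D] [IsScalarTower k R D] (𝒟 : ℤ → AddSubgroup D) [DirectSum.Decomposition 𝒟] [SetLike.GradedSMul 𝒜 𝒟] (β : D →ₗ[k] R →ₗ[k] k) (hD : GrSeg.IsGDual R 𝒜 𝒟 β) (e : (R ⧸ mR.toIdeal) →ₗ[R] D) (he : Function.Injective e) (hegr : GrLC.IsGrHom (GrLC.quotGr 𝒜 mR) 𝒟 e) : GrLC.IsStarInjHull 𝒜 (GrLC.quotGr 𝒜 mR) 𝒟 e := by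
  haveI := Algebra.FiniteType.isNoetherianRing k R
  rcases subsingleton_or_nontrivial R with hsub | hnt
  · haveI : Subsingleton D := Module.subsingleton R D
    refine ⟨⟨he, hegr, fun P _ hP => absurd (Subsingleton.elim P ⊥) hP⟩, fun A B f hf hinj g hg => ?_⟩
    exact ⟨0, fun i x _ => zero_mem _, LinearMap.ext fun x => Subsingleton.elim _ _⟩
  have hB := Groth.Agent.GrDual.base_of_span hposR h0R
  refine Groth.Agent.GrDual.isStarInjHull_dual hB hD (Groth.Agent.GrDual.irr_of_span hmR) (fun htop => ?_) he hegr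
  have h1 : (1 : R) ∈ mR.toIdeal := htop ▸ Submodule.mem_top
  rw [hmR] at h1
  suffices key : ∀ x ∈ Ideal.span (⋃ n ∈ Set.Ioi (0 : ℤ), (𝒜 n : Set R)), Groth.Agent.GrLC.cpt 𝒜 0 x = 0 by
    have h2 := key 1 h1
    rw [Groth.Agent.GrLC.cpt_of_mem 𝒜 SetLike.GradedOne.one_mem] at h2
    exact one_ne_zero h2
  intro x hx
  induction hx using Submodule.span_induction with
  | mem x hx =>
    obtain ⟨j, hj, hxj⟩ := Set.mem_iUnion₂.1 hx
    exact Groth.Agent.GrLC.cpt_of_mem_ne 𝒜 hxj (ne_of_gt hj)
  | zero => exact map_zero _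
  | add a b _ _ ha hb => rw [map_add, ha, hb, add_zero]
  | smul r a _ ha =>
    rw [smul_eq_mul]
    induction r using Groth.Agent.GrLC.homogeneous_induction 𝒜 with
    | zero => rw [zero_mul, map_zero]
    | add u v hu hv => rw [add_mul, map_add, hu, hv, add_zero]
    | hom i r hr =>
      rw [← smul_eq_mul, Groth.Agent.GrLC.cpt_smul_left' (𝒜 := 𝒜) 𝒜 hr]
      rcases lt_trichotomy i 0 with hi | rfl | hi
      · rw [hB.pos i hi r hr, zero_smul]
      · rw [sub_zero, ha, smul_zero]
      · have : Groth.Agent.GrLC.cpt 𝒜 (0 - i) a = 0 :=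
          hB.pos (0 - i) (by omega) _ (Groth.Agent.GrLC.cpt_mem 𝒜 _ a)
        rw [this, smul_zero]

end Groth.Agent.S19752
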