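import Groth.Statements.S19753
import Groth.Agent.GrSegre.Dim
-- import your own Groth.Agent.* helpers here

set_option autoImplicit false
universe u
open scoped TensorProduct
open GrSegre

namespace Groth.Agent.S19753

/-- Let R and S be graded rings defined over a field k, both generated over k by their degree-one parts
and of positive Krull dimension, T = R # S, and let M and N be finitely generated graded modules
over R and S respectively, neither of them Artinian. Then dim (M # N) = dim M + dim N − 1,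
dimensions being Krull dimensions of supports. Here a graded ring defined over k is a commutative
k-algebra of finite type, graded in nonnegative degrees by k-subspaces with degree-zero part k·1;
the Segre product T = R # S = ⊕_n R_n ⊗_k S_n is presented abstractly as a graded k-algebra T with
an injective k-algebra homomorphism ψ : T → R ⊗_k S carrying T_n onto the k-span of the elementary
tensors a ⊗ b with a ∈ R_n, b ∈ S_n; the Segre product M # N = ⊕_n M_n ⊗_k N_n of a graded R-module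
M and a graded S-module N is presented abstractly as a graded T-module P with an injective k-linear
map φ : P → M ⊗_k N carrying P_n onto the k-span of the tensors x ⊗ y with x ∈ M_n, y ∈ N_n and
turning the action of t ∈ T into that of ψ(t) (acting factorwise on M ⊗_k N). -/
theorem result (k : Type u) [Field k] (R : Type u) [CommRing R] [Algebra k R] (𝒜 : ℤ → Submodule k R) [GradedAlgebra 𝒜] (hposR : ∀ n : ℤ, n < 0 → 𝒜 n = ⊥) (h0R : 𝒜 0 = Submodule.span k {(1 : R)}) [Algebra.FiniteType k R] (S : Type u) [CommRing S] [Algebra k S] (ℬ : ℤ → Submodule k S) [GradedAlgebra ℬ] (hposS : ∀ n : ℤ, n < 0 → ℬ n = ⊥) (h0S : ℬ 0 = Submodule.span k {(1 : S)}) [Algebra.FiniteType k S] (T : Type u) [CommRing T] [Algebra k T] (𝒯 : ℤ → Submodule k T) [GradedAlgebra 𝒯] (ψ : T →ₐ[k] TensorProduct k R S) (hT : GrSeg.IsSegreRing 𝒜 ℬ 𝒯 ψ) (hstdR : Ideal.span (⋃ n ∈ Set.Ioi (0 : ℤ), (𝒜 n : Set R)) = Ideal.span ((𝒜 1 : Submodule k R) : Set R)) (hstdS : Ideal.span (⋃ n ∈ Set.Ioi (0 : ℤ), (ℬ n :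 Set S)) = Ideal.span ((ℬ 1 : Submodule k S) : Set S)) (hr1 : 1 ≤ ringKrullDim R) (hs1 : 1 ≤ ringKrullDim S) (M : Type u) [AddCommGroup M] [Module R M] [Module k M] [IsScalarTower k R M] (ℳ : ℤ → AddSubgroup M) [DirectSum.Decomposition ℳ] [SetLike.GradedSMul 𝒜 ℳ] [Module.Finite R M] (N : Type u) [AddCommGroup N] [Module S N] [Module k N] [IsScalarTower k S N] (𝒩 : ℤ → AddSubgroup N) [DirectSum.Decomposition 𝒩] [SetLike.GradedSMul ℬ 𝒩] [Module.Finite S N] (P : Type u) [AddCommGroup P] [Module T P] [Module k P] [IsScalarTower k T P] (𝒬 : ℤ → AddSubgroup P) [DirectSum.Decomposition 𝒬] (φ : P →ₗ[k] TensorProduct k M N) (hP : GrSeg.IsSegreMod ψ ℳ 𝒩 𝒬 φ) (dM dN : ℕ) (hdM : Module.supportDim R M = dM) (hdN : Module.supportDim S N = dN) (hMA : ¬ IsArtinian R M) (hNA : ¬ IsArtinian S N) : Module.supportDim T P = ((dM + dN - 1 : ℕ) : WithBot ℕ∞) := by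
  classical
  obtain ⟨dR, hdR, hfR⟩ := GrSegre.exists_sop 𝒜 hposR h0R ℳ hdM
  obtain ⟨dS, hdS, hgS⟩ := GrSegre.exists_sop ℬ hposS h0S 𝒩 hdN
  obtain ⟨f, hf, hfM, hfa⟩ := hfR dS hdS
  obtain ⟨g, hg, hgN, hga⟩ := hgS dR hdR
  obtain ⟨r', rfl⟩ : ∃ r', dM = r' + 1 := by
    refine ⟨dM - 1, ?_⟩
    by_contra h
    obtain rfl : dM = 0 := by omega
    refine hMA ?_
    let π : MvPolynomial (Fin 0) k →ₐ[k] R := MvPolynomial.aeval f
    letI := Module.compHom M π.toRingHom
    haveI : Module.Finite (MvPolynomial (Fin 0) k) M := hfM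
    haveI : IsArtinianRing (MvPolynomial (Fin 0) k) :=
      (MvPolynomial.isEmptyRingEquiv k (Fin 0)).symm.surjective.isArtinianRing
        (f := (MvPolynomial.isEmptyRingEquiv k (Fin 0)).symm.toRingHom)
    letI : Algebra (MvPolynomial (Fin 0) k) R := π.toRingHom.toAlgebra
    haveI : IsScalarTower (MvPolynomial (Fin 0) k) R M :=
      IsScalarTower.of_algebraMap_smul fun _ _ => rfl
    haveI : IsArtinian (MvPolynomial (Fin 0) k) M := inferInstance
    exact isArtinian_of_tower (MvPolynomial (Fin 0) k) this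
  obtain ⟨s', rfl⟩ : ∃ s', dN = s' + 1 := by
    refine ⟨dN - 1, ?_⟩
    by_contra h
    obtain rfl : dN = 0 := by omega
    refine hNA ?_
    let π : MvPolynomial (Fin 0) k →ₐ[k] S := MvPolynomial.aeval g
    letI := Module.compHom N π.toRingHom
    haveI : Module.Finite (MvPolynomial (Fin 0) k) N := hgN
    haveI : IsArtinianRing (MvPolynomial (Fin 0) k) :=
      (MvPolynomial.isEmptyRingEquiv k (Fin 0)).symm.surjective.isArtinianRing
        (f := (MvPolynomial.isEmptyRingEquiv k (Fin 0)).symm.toRingHom)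
    letI : Algebra (MvPolynomial (Fin 0) k) S := π.toRingHom.toAlgebra
    haveI : IsScalarTower (MvPolynomial (Fin 0) k) S N :=
      IsScalarTower.of_algebraMap_smul fun _ _ => rfl
    haveI : IsArtinian (MvPolynomial (Fin 0) k) N := inferInstance
    exact isArtinian_of_tower (MvPolynomial (Fin 0) k) this
  have hg' : ∀ j, g j ∈ ℬ ((dR * dS : ℕ) : ℤ) := fun j => by rw [mul_comm]; exact hg j
  obtain ⟨a, ha⟩ := GrSegre.exists_torsionFree 𝒜 ℳ hposR hstdR (Nat.succ_pos r')
    (Nat.mul_pos hdR hdS) f hf hfa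
  obtain ⟨b, hb⟩ := GrSegre.exists_torsionFree ℬ 𝒩 hposS hstdS (Nat.succ_pos s')
    (Nat.mul_pos hdR hdS) g hg' hga
  obtain ⟨m, hm, hmt⟩ := ha (max a b) (le_max_left _ _)
  obtain ⟨y, hy, hyt⟩ := hb (max a b) (le_max_right _ _)
  rw [GrSegre.supportDim_segre 𝒜 ℬ ℳ 𝒩 hT hP _ (Nat.mul_pos hdR hdS) f hf hfM g hg' hgN hm hmt hy hyt,
    show r' + (s' + 1) = r' + 1 + (s' + 1) - 1 by omega]

end Groth.Agent.S19753
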