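import Groth.Statements.S19757
import Groth.Agent.GrSegre.TopMap
import Groth.Agent.GrSegre.DualSegre
import Groth.Agent.GrSegre.Crit
import Groth.Agent.GrDual.Canonical

set_option autoImplicit false
universe u
open scoped TensorProduct
open GrSegre

namespace Groth.Agent.S19757
open Groth.Agent.GrSegre Groth.Agent.GrLC

theorem hgr_eq_bot_of_dim_lt {R : Type u} [CommRing R] [IsNoetherianRing R] {σ : Type u} [SetLike σ R]
    [AddSubgroupClass σ R] {𝒜 : ℤ → σ} [GradedRing 𝒜] (m : HomogeneousIdeal 𝒜) (I : _root_.GrLC.StarInjRes 𝒜 𝒜)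
    {r q : ℕ} (hr : ringKrullDim R ≤ r) (hq : r < q) (d : ℤ) : I.Hgr m q d = ⊥ := by
  haveI : Subsingleton (LocCoh.H m.toIdeal q R) :=
    LocCoh.subsingleton_H_of_supportDim_lt _ (r + 1) R (by
      rw [Module.supportDim_self_eq_ringKrullDim]
      exact hr.trans_lt (by exact_mod_cast Nat.lt_succ_self r)) q hq
  haveI : Subsingleton (I.H m q) := (Hequiv I m q).injective.subsingleton
  exact AddSubgroup.eq_bot_of_subsingleton _


/-- Let R and S be graded rings defined over a field k of dimensions r ≥ 2 and s ≥ 2 and T = R # S their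
Segre product (of dimension r + s − 1). Then K_T ≅ K_R # K_S: the Segre product of canonical modules
of R and S is a canonical module of T. Here a graded ring defined over k is a commutative k-algebra
of finite type, graded in nonnegative degrees by k-subspaces with degree-zero part k·1; the Segre
product T = R # S = ⊕_n R_n ⊗_k S_n is presented abstractly as a graded k-algebra T with an
injective k-algebra homomorphism ψ : T → R ⊗_k S carrying T_n onto the k-span of the elementary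
tensors a ⊗ b with a ∈ R_n, b ∈ S_n; the Segre product M # N = ⊕_n M_n ⊗_k N_n of a graded R-module
M and a graded S-module N is presented abstractly as a graded T-module P with an injective k-linear
map φ : P → M ⊗_k N carrying P_n onto the k-span of the tensors x ⊗ y with x ∈ M_n, y ∈ N_n and
turning the action of t ∈ T into that of ψ(t) (acting factorwise on M ⊗_k N); the canonical module
of a graded ring A defined over k with irrelevant ideal A_+ and dim A = d (the graded k-dual of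
H^d_{A_+}(A)) is represented by a finitely generated graded A-module C together with an A-linear
isomorphism from Hom_A(C, E) onto H^d_{A_+}(A) sending maps homogeneous of degree j to classes of
degree j, where E is a *injective envelope of A/A_+ in the graded category and H^d_{A_+}(A) is
computed from a *injective resolution of A in the graded category. (A degree-by-degree dimension
count of the same result is stated separately; this is the module form.) -/
theorem result (k : Type u) [Field k] (R : Type u) [CommRing R] [Algebra k R] (𝒜 : ℤ → Submodule k R) [GradedAlgebra 𝒜] (hposR : ∀ n : ℤ, n < 0 → 𝒜 n = ⊥) (h0R : 𝒜 0 = Submodule.span k {(1 : R)}) [Algebra.FiniteType k R] (S : Type u) [CommRing S] [Algebra k S] (ℬ : ℤ → Submodule k S) [GradedAlgebra ℬ] (hposS : ∀ n : ℤ, n < 0 → ℬ n = ⊥) (h0S : ℬ 0 = Submodule.span k {(1 : S)}) [Algebra.FiniteType k S] (T : Type u) [CommRing T] [Algebra k T] (𝒯 : ℤ → Submodule k T) [GradedAlgebra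 𝒯] (ψ : T →ₐ[k] TensorProduct k R S) (hT : GrSeg.IsSegreRing 𝒜 ℬ 𝒯 ψ) (mR : HomogeneousIdeal 𝒜) (hmR : mR.toIdeal = Ideal.span (⋃ n ∈ Set.Ioi (0 : ℤ), (𝒜 n : Set R))) (I : GrLC.StarInjRes 𝒜 𝒜) (mS : HomogeneousIdeal ℬ) (hmS : mS.toIdeal = Ideal.span (⋃ n ∈ Set.Ioi (0 : ℤ), (ℬ n : Set S))) (J : GrLC.StarInjRes ℬ ℬ) (mT : HomogeneousIdeal 𝒯) (hmT : mT.toIdeal = Ideal.span (⋃ n ∈ Set.Ioi (0 : ℤ), (𝒯 n : Set T))) (IT : GrLC.StarInjRes 𝒯 𝒯) (r s : ℕ) (hr : ringKrullDim R = r) (hs : ringKrullDim S = s) (h2r : 2 ≤ r) (h2s : 2 ≤ s) (ER : Type u) [AddCommGroup ER] [Module R ER] (𝓔R : ℤ → AddSubgroup ER) [DirectSum.Decomposition 𝓔R] [SetLike.GradedSMul 𝒜 𝓔R] (eR : (R ⧸ mR.toIdeal) →ₗ[R] ER) (heR : GrLC.IsStarInjHull 𝒜 (GrLC.quotGr 𝒜 mR) 𝓔R eR) (CR : Type u) [AddCommGroup CR] [Module R CR] [Module k CR] [IsScalarTower k R CR] (𝒞R : ℤ → AddSubgroup CR) [DirectSum.Decomposition 𝒞R] [SetLike.GradedSMul 𝒜 𝒞R] (hCR : GrLC.IsStarCanonical 𝒜 𝒞R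 𝓔R mR r I) (ES : Type u) [AddCommGroup ES] [Module S ES] (𝓔S : ℤ → AddSubgroup ES) [DirectSum.Decomposition 𝓔S] [SetLike.GradedSMul ℬ 𝓔S] (eS : (S ⧸ mS.toIdeal) →ₗ[S] ES) (heS : GrLC.IsStarInjHull ℬ (GrLC.quotGr ℬ mS) 𝓔S eS) (CS : Type u) [AddCommGroup CS] [Module S CS] [Module k CS] [IsScalarTower k S CS] (𝒞S : ℤ → AddSubgroup CS) [DirectSum.Decomposition 𝒞S] [SetLike.GradedSMul ℬ 𝒞S] (hCS : GrLC.IsStarCanonical ℬ 𝒞S 𝓔S mS s J) (ET : Type u) [AddCommGroup ET] [Module T ET] (𝓔T : ℤ → AddSubgroup ET) [DirectSum.Decomposition 𝓔T] [SetLike.GradedSMul 𝒯 𝓔T] (eT : (T ⧸ mT.toIdeal) →ₗ[T] ET) (heT : GrLC.IsStarInjHull 𝒯 (GrLC.quotGr 𝒯 mT) 𝓔T eT) (P : Type u) [AddCommGroup P] [Module T P] [Module k P] [IsScalarTower k T P] (𝒬 : ℤ → AddSubgroup P) [DirectSum.Decomposition 𝒬] [SetLike.GradedSMul 𝒯 𝒬] (φ : P →ₗ[k] TensorProduct k CR CS) (hP : GrSeg.IsSegreMod ψ 𝒞R 𝒞S 𝒬 φ) : GrLC.IsStarCanonical 𝒯 𝒬 𝓔T mT (r + s - 1) IT := by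
  haveI : Nontrivial R := not_subsingleton_iff_nontrivial.1 fun h => by
    simp [ringKrullDim_eq_bot_of_subsingleton] at hr
  haveI : Nontrivial S := not_subsingleton_iff_nontrivial.1 fun h => by
    simp [ringKrullDim_eq_bot_of_subsingleton] at hs
  haveI := Algebra.FiniteType.isNoetherianRing k R
  haveI := Algebra.FiniteType.isNoetherianRing k S
  haveI : IsNoetherianRing (R ⊗[k] S) := Algebra.FiniteType.isNoetherianRing R (R ⊗[k] S)
  haveI : IsNoetherianRing T := isNoetherian_segre 𝒜 ℬ 𝒜 ℬ hT (isSegreMod_self 𝒜 ℬ 𝒯 ψ hT)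
  haveI := nontrivial_segre ψ
  have hposT := segre_hpos 𝒜 ℬ hT hposR
  have h0T := segre_h0 𝒜 ℬ hT hposR h0R hposS h0S
  have hBR := Groth.Agent.GrDual.base_of_span hposR h0R
  have hBS := Groth.Agent.GrDual.base_of_span hposS h0S
  obtain ⟨a, rfl⟩ : ∃ a, r = a + 2 := ⟨r - 2, by omega⟩
  obtain ⟨b, rfl⟩ : ∃ b, s = b + 2 := ⟨s - 2, by omega⟩
  rw [show a + 2 + (b + 2) - 1 = a + b + 3 by omega]
  letI := Hdec I mR (a + 2)
  letI := Hdec J mS (b + 2)
  letI := Hdec IT mT (a + b + 3)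
  haveI := Hgr_gradedSMul I mR (a + 2)
  haveI := Hgr_gradedSMul J mS (b + 2)
  obtain ⟨βR, hβR⟩ := Groth.Agent.GrDual.exists_pairing hBR
    (Groth.Agent.GrDual.irr_of_span hmR) (hmR ▸ (irrI_isMaximal 𝒜 hposR h0R).ne_top) heR hCR
  obtain ⟨βS, hβS⟩ := Groth.Agent.GrDual.exists_pairing hBS
    (Groth.Agent.GrDual.irr_of_span hmS) (hmS ▸ (irrI_isMaximal ℬ hposS h0S).ne_top) heS hCS
  obtain ⟨φ', hφ'⟩ := exists_segreMod_H_top hT (isSegreMod_self 𝒜 ℬ 𝒯 ψ hT) mR hmR mS hmS mT hmT I J IT a b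
    (fun q d hq => hgr_eq_bot_of_dim_lt mR I hr.le hq d) (fun q d hq => hgr_eq_bot_of_dim_lt mS J hs.le hq d)
  haveI := hCR.1
  haveI := hCS.1
  haveI : Module.Finite T P := by
    haveI := isNoetherian_segre 𝒜 ℬ 𝒞R 𝒞S hT hP
    infer_instance
  obtain ⟨β, hβ⟩ := exists_gdual_segre 𝒜 ℬ hβR hβS hP hφ' (fun n => finite_kPc hBR n) (fun n => finite_kPc hBS n)
  exact Groth.Agent.GrDual.isStarCanonical_of_pairing (Groth.Agent.GrDual.base_of_span hposT h0T)
    (Groth.Agent.GrDual.irr_of_span hmT) (hmT ▸ (irrI_isMaximal 𝒯 hposT h0T).ne_top) heT hβ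

end Groth.Agent.S19757
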