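import Groth.Statements.S1976
import Groth.Agent.EtAlgPair.MaxWeak

set_option autoImplicit false
universe u
open CategoryTheory
open EtAlg

namespace Groth.Agent.S1976

/-- (2) ⇔ (3): a K-algebra B over a field K is weakly etale exactly when it can be written as a filtered
colimit of etale K-algebras, and in that case its finitely generated K-subalgebras are etale. -/
theorem result (K : Type u) [Field K] (B : Type u) [CommRing B] [Algebra K B] :
    (Algebra.WeaklyEtale K B ↔ EtPBC.IsIndEtale K B) ∧
    (Algebra.WeaklyEtale K B → ∀ S : Subalgebra K B, S.FG → Algebra.Etale K S) := by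
  refine ⟨⟨fun _ => ?_, fun h => ?_⟩, fun _ S hS => ?_⟩
  · exact Groth.Agent.IndAlg.Etale.isInd_of_fac (Groth.Agent.EtAlgPair.WeakField.fac_of_forall_separable
      (Groth.Agent.EtAlgPair.WeakField.exists_separable_aeval K))
  · exact Groth.Agent.IndAlg.Etale.weaklyEtale (Groth.Agent.IndAlg.fac_of_isInd h)
  · exact Groth.Agent.EtAlgPair.WeakField.etale_of_fg (Groth.Agent.EtAlgPair.WeakField.exists_separable_aeval K) S hS

end Groth.Agent.S1976
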