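import Groth.Statements.S19767
import Groth.Agent.PicLaw.Mumford

set_option autoImplicit false
universe u
open CategoryTheory MonoidalCategory CartesianMonoidalCategory MonObj GrpObj AlgebraicGeometry
open AbVar

namespace Groth.Agent.S19767

open scoped Groth.Agent.PicLaw

/-- Let X be an abelian variety over a field k (a proper, geometrically integral k-group scheme), L an
invertible O_X-module, T a k-scheme, x : T → X a T-valued point with translation t_x : X_T → X_T,
and L_T the inverse image of L on X_T = X ×_k T. If an O_T-module M satisfies L_T ⊗ pr_T^*M ≅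
t_x^*L_T (that is, t_x^*L_T ⊗ L_T⁻¹ ≅ pr_T^*M), then M ≅ x^*L (existence of an isomorphism). (The
published statement takes M invertible; invertibility is not needed.) -/
theorem result (k : Type u) [Field k] (X : Over (Spec (CommRingCat.of k)))
    [GrpObj X] [IsProper X.hom] [GeometricallyIntegral X.hom] (L : X.left.Modules) (hL : PicF.IsInvertible L)
    (T : Over (Spec (CommRingCat.of k))) (x : T ⟶ X) (M : T.left.Modules)
    (h : Nonempty (CohB1.tensorMod ((Scheme.Modules.pullback (fst X T).left).obj L)
          ((Scheme.Modules.pullback (snd X T).left).obj M) ≅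
        (Scheme.Modules.pullback (ThetaGrp.transl X x ≫ fst X T).left).obj L)) :
    Nonempty (M ≅ (Scheme.Modules.pullback x.left).obj L) := by
  obtain ⟨φ⟩ := h
  have hp := PicLoc.isInvertible_pullback (fst X T).left hL
  have hm := PicLoc.isInvertible_pullback (ThetaGrp.transl X x ≫ fst X T).left hL
  have hq : PicF.IsInvertible ((Scheme.Modules.pullback (snd X T).left).obj M) :=
    PicLaw.isInvertible_of_tensor_left hp (PicCl.isInvertible_of_iso φ.symm hm)
  have hM : PicF.IsInvertible M := by
    have h1 := PicLoc.isInvertible_pullback (lift (1 : T ⟶ X) (𝟙 T)).left hq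
    refine PicCl.isInvertible_of_iso ?_ h1
    exact (Scheme.Modules.pullbackComp _ _).app M ≪≫
      (Scheme.Modules.pullbackCongr (show (lift (1 : T ⟶ X) (𝟙 T)).left ≫ (snd X T).left = 𝟙 T.left by
        rw [← Over.comp_left, lift_snd]; rfl)).app M ≪≫ (Scheme.Modules.pullbackId T.left).app M
  rw [PicLaw.iso_iff hM (PicLoc.isInvertible_pullback x.left hL), PicLaw.cls_pullback x.left hL]
  have h' := (PicLaw.iso_iff (PicLaw.isInvertible_tensor hp hq) hm).mp ⟨φ⟩
  rw [PicLaw.cls_tensor hp hq, PicLaw.cls_pullback (fst X T).left hL,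
    PicLaw.cls_pullback (snd X T).left hM, PicLaw.cls_pullback (ThetaGrp.transl X x ≫ fst X T).left hL] at h'
  refine PicLaw.Mumford.eq_of_inK (l := PicGrp.cls L hL) (PicLaw.Mumford.op_unit_eq_one k _) ?_
  rw [← ThetaGrp.transl_fst]
  exact h'.symm

end Groth.Agent.S19767
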