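import Groth.Statements.S19770
import Groth.Agent.PicLaw.Mumford

set_option autoImplicit false
universe u
open CategoryTheory MonoidalCategory CartesianMonoidalCategory MonObj GrpObj AlgebraicGeometry
open AbVar

namespace Groth.Agent.S19770

open scoped Groth.Agent.PicLaw

/-- Let X be an abelian variety over a field k (a proper, geometrically integral k-group scheme), L an
invertible O_X-module, i : K → X a closed immersion exhibiting K as K(L) (the maximal closed
subscheme over which the Mumford bundle m^*L ⊗ p_1^*L⁻¹ ⊗ p_2^*L⁻¹, restricted to X ×_k K, is the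
inverse image of an invertible module on K, with its universal property), and B a k-group scheme
with a homomorphism j : B → X that factors through i. Write M = j^*L. Then M ⊗ [-1]^*M ≅ O_B, where
[-1] : B → B is the inversion (existence of an isomorphism). (The published statement assumes k
algebraically closed and takes for B the reduced identity component of K(L), an abelian subvariety;
the argument — restrict the Mumford bundle to B × B and pull back along (1, -1) — applies to any
group scheme over k mapping homomorphically into K(L).) -/
theorem result (k : Type u) [Field k] (X : Over (Spec (CommRingCat.of k)))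
    [GrpObj X] [IsProper X.hom] [GeometricallyIntegral X.hom] (L : X.left.Modules) (hL : PicF.IsInvertible L)
    (K : Over (Spec (CommRingCat.of k))) (i : K ⟶ X) (hK : ThetaGrp.IsKL X L i)
    (B : Over (Spec (CommRingCat.of k))) [GrpObj B] (j : B ⟶ X) [IsMonHom j] (hj : ∃ y : B ⟶ K, y ≫ i = j) :
    Nonempty (CohB1.tensorMod ((Scheme.Modules.pullback j.left).obj L)
        ((Scheme.Modules.pullback ((𝟙 B)⁻¹ ≫ j).left).obj L) ≅ Coh.structureModule B.left) := by
  have hj' : PicLaw.Mumford.InK X (PicGrp.cls L hL) j :=
    (PicLaw.Mumford.isMumfordTriv_iff X L hL j).mp ((hK.univ B j).mpr hj)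
  have h := PicLaw.Mumford.op_inv_mul_eq_one (PicLaw.Mumford.op_unit_eq_one k _) j hj'
  have h1 := PicLoc.isInvertible_pullback j.left hL
  have h2 := PicLoc.isInvertible_pullback ((𝟙 B)⁻¹ ≫ j).left hL
  rw [PicLaw.iso_iff (PicLaw.isInvertible_tensor h1 h2) (PicLoc.isInvertible_structureModule _),
    PicLaw.cls_tensor h1 h2, PicLaw.cls_pullback _ hL, PicLaw.cls_pullback _ hL, PicLaw.cls_one]
  exact h

end Groth.Agent.S19770
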