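import Groth.Statements.S19781
import Groth.Agent.ZarIsoLib.Alg
import Groth.Agent.ZarIsoLib.Tilde
import Groth.Agent.ParaFormal.Elkik.RankN

set_option autoImplicit false
universe u
open CategoryTheory AlgebraicGeometry
open Coherent
open scoped TensorProduct

namespace Groth.Agent.S19781

/-- Let A → A' be a homomorphism of Noetherian rings and J ⊂ A an ideal such that J and JA' lie in the
Jacobson radicals of A and A' (Zariski pairs) and A/J^n → A'/J^nA' is bijective for all n, and let U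
⊂ Spec A be an open containing Spec A ∖ V(J), with g : U_{A'} → U the base change of Spec A' → Spec
A. Then two finite locally free O_U-modules of rank n whose pullbacks along g are isomorphic are
isomorphic: H¹(U, GL_n) → H¹(U_{A'}, GL_n) is injective. -/
theorem result (A A' : Type u) [CommRing A] [CommRing A']
    [IsNoetherianRing A] [IsNoetherianRing A'] (φ : A →+* A') (J : Ideal A)
    (hJ : J ≤ (⊥ : Ideal A).jacobson) (hJ' : J.map φ ≤ (⊥ : Ideal A').jacobson)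
    (hq : ∀ n : ℕ, Function.Bijective (Ideal.quotientMap (Ideal.map φ (J ^ n)) φ Ideal.le_comap_map))
    (U : (Spec (CommRingCat.of A)).Opens)
    (hU : ∀ p : PrimeSpectrum A, ¬ J ≤ p.asIdeal → p ∈ U)
    (n : ℕ) (E₁ E₂ : (U : Scheme.{u}).Modules)
    (h₁ : FlatMod.IsFinLocFreeOfRank n E₁) (h₂ : FlatMod.IsFinLocFreeOfRank n E₂)
    (hiso : Nonempty ((Scheme.Modules.pullback ((Spec.map (CommRingCat.ofHom φ)) ∣_ U)).obj E₁ ≅ (Scheme.Modules.pullback ((Spec.map (CommRingCat.ofHom φ)) ∣_ U)).obj E₂)) :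
    Nonempty (E₁ ≅ E₂) := by
  letI := φ.toAlgebra
  haveI := Groth.Agent.ZarIsoLib.flat_of_bijective (A := A) (A' := A') J hJ' hq
  haveI := Groth.Agent.ZarIsoLib.faithfullyFlat_of_bijective (A := A) (A' := A') J hJ hJ' hq
  obtain ⟨I, hI⟩ := (PrimeSpectrum.isClosed_iff_zeroLocus_ideal _).1 U.2.isClosed_compl
  obtain ⟨m, a, ha⟩ := Submodule.fg_iff_exists_fin_generating_family.1 (IsNoetherian.noetherian I)
  have hmem : ∀ p : PrimeSpectrum A, p ∉ U ↔ ∀ k, a k ∈ p.asIdeal := fun p => by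
    have h1 : p ∉ U ↔ p ∈ PrimeSpectrum.zeroLocus (I : Set A) := by rw [← hI]; rfl
    rw [h1, PrimeSpectrum.mem_zeroLocus, SetLike.coe_subset_coe, ← ha, Submodule.span_le, Set.range_subset_iff]
    rfl
  have hJa : J ≤ (Ideal.span (Set.range a)).radical := by
    rw [Ideal.radical_eq_sInf]
    refine le_sInf fun p ⟨hp, hprime⟩ => ?_
    by_contra hJp
    exact (hmem ⟨p, hprime⟩).2 (fun k => hp (Ideal.subset_span ⟨k, rfl⟩)) (hU ⟨p, hprime⟩ hJp)
  obtain ⟨M₁, _, _, _, ⟨ν₁⟩⟩ := ParaFormal.Elkik.exists_module_of_isFinLocFree U E₁ h₁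
  obtain ⟨M₂, _, _, _, ⟨ν₂⟩⟩ := ParaFormal.Elkik.exists_module_of_isFinLocFree U E₂ h₂
  obtain ⟨ι⟩ := hiso
  let π := Spec.map (CommRingCat.ofHom φ)
  let P := π ⁻¹ᵁ U
  obtain ⟨φ₁⟩ := ParaFormal.Elkik.nonempty_pullback_algebraMap' (R := A) (A := A') M₁ _ (LinearEquiv.refl A' (A' ⊗[A] M₁))
  obtain ⟨φ₂⟩ := ParaFormal.Elkik.nonempty_pullback_algebraMap' (R := A) (A := A') M₂ _ (LinearEquiv.refl A' (A' ⊗[A] M₂))
  let T₁ : (Spec (CommRingCat.of A)).Modules := tilde (R := CommRingCat.of A) (ModuleCat.of A M₁)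
  let T₂ : (Spec (CommRingCat.of A)).Modules := tilde (R := CommRingCat.of A) (ModuleCat.of A M₂)
  let f := (Scheme.Modules.restrictFunctor P.ι).mapIso φ₁.symm ≪≫ PicCl.restrictPullbackIso π U T₁ ≪≫
    (Scheme.Modules.pullback (π ∣_ U)).mapIso ν₁ ≪≫ ι ≪≫
    (Scheme.Modules.pullback (π ∣_ U)).mapIso ν₂.symm ≪≫ (PicCl.restrictPullbackIso π U T₂).symm ≪≫
    (Scheme.Modules.restrictFunctor P.ι).mapIso φ₂
  have haU : ∀ k (p : PrimeSpectrum A), a k ∉ p.asIdeal → p ∈ U := fun k p hk => by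
    by_contra h
    exact hk ((hmem p).1 h k)
  haveI : IsNoetherianRing (CommRingCat.of A') := ‹IsNoetherianRing A'›
  obtain ⟨c, h, l, hh, hl, hlh, hhl⟩ := Groth.Agent.ZarIsoLib.exists_data (R := CommRingCat.of A')
    (ModuleCat.of A' (A' ⊗[A] M₁)) (ModuleCat.of A' (A' ⊗[A] M₂)) (P := P) f (fun k => φ (a k))
    (fun k x hx => haU k ⟨x.asIdeal.comap φ, inferInstance⟩ hx)
  obtain ⟨g, hgc, hg⟩ := Groth.Agent.ZarIsoLib.exists_approx (A := A) (A' := A') (M₁ := M₁) (M₂ := M₂) J hJ'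
    (Groth.Agent.ZarIsoLib.dense_of_bijective J hq) a hJa c h l hh hl hlh hhl
  have smul_one : ∀ (N : Type u) [AddCommGroup N] [Module A N] (r : A) (x : N),
      algebraMap A A' r • ((1 : A') ⊗ₜ[A] x) = (1 : A') ⊗ₜ[A] (r • x) := fun N _ _ r x => by
    rw [algebraMap_smul, TensorProduct.tmul_smul]
  have ginj : ∀ k x, g k x = 0 → a k ^ (2 * c) • x = 0 := fun k x hx => by
    apply Module.FaithfullyFlat.tensorProduct_mk_injective (A := A) (B := A') M₁
    have h1 := (hg k).1 ((1 : A') ⊗ₜ[A] x) (by rw [LinearMap.baseChange_tmul, hx, TensorProduct.tmul_zero])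
    rw [← map_pow, smul_one] at h1
    simpa using h1
  have gsurj : ∀ k y, ∃ x, g k x = a k ^ (4 * c) • y := fun k y => by
    obtain ⟨x', hx'⟩ := (hg k).2 ((1 : A') ⊗ₜ[A] y)
    let q := (LinearMap.range (g k)).mkQ
    have h0 : q ∘ₗ g k = 0 := LinearMap.ext fun x =>
      (Submodule.Quotient.mk_eq_zero _).2 ⟨x, rfl⟩
    have h1 := congrArg (q.baseChange A') hx'
    rw [← LinearMap.comp_apply, ← LinearMap.baseChange_comp, h0, LinearMap.baseChange_zero,
      LinearMap.zero_apply, ← map_pow, smul_one, LinearMap.baseChange_tmul] at h1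
    have h2 : q (a k ^ (4 * c) • y) = 0 := by
      apply Module.FaithfullyFlat.tensorProduct_mk_injective (A := A) (B := A') (M₂ ⧸ LinearMap.range (g k))
      simpa using h1.symm
    exact (Submodule.Quotient.mk_eq_zero _).1 h2
  -- the graph
  let K : Submodule A (M₁ × M₂) := ⨆ i, LinearMap.range ((a i ^ c • LinearMap.id).prod (g i))
  have hKmem : ∀ i x, (a i ^ c • x, g i x) ∈ K := fun i x =>
    Submodule.mem_iSup_of_mem i ⟨x, rfl⟩
  have hK : ∀ z ∈ K, ∀ k, g k z.1 = a k ^ c • z.2 := by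
    intro z hz k
    have h1 : K ≤ LinearMap.ker (g k ∘ₗ LinearMap.fst A M₁ M₂ - a k ^ c • LinearMap.snd A M₁ M₂) := by
      refine iSup_le fun i => ?_
      rintro _ ⟨x, rfl⟩
      simp [sub_eq_zero, hgc i k x]
    simpa [sub_eq_zero] using h1 hz
  let p₁ : ModuleCat.of A K ⟶ ModuleCat.of A M₁ := ModuleCat.ofHom (LinearMap.fst A M₁ M₂ ∘ₗ K.subtype)
  let p₂ : ModuleCat.of A K ⟶ ModuleCat.of A M₂ := ModuleCat.ofHom (LinearMap.snd A M₁ M₂ ∘ₗ K.subtype)
  have hcov : ∀ x ∈ U, ∃ k, x ∈ PrimeSpectrum.basicOpen (a k) := fun x hx => by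
    by_contra h
    push_neg at h
    exact (hmem x).2 (fun k => not_not.1 fun hk => h k hk) hx
  haveI i₁ := Groth.Agent.ZarIsoLib.isIso_restrict_map (R := CommRingCat.of A) p₁ a U hcov
    (fun k w hw => by
      refine ⟨c, Subtype.ext (Prod.ext ?_ ?_)⟩
      · show a k ^ c • w.1.1 = 0
        rw [show w.1.1 = 0 from hw, smul_zero]
      · show a k ^ c • w.1.2 = 0
        rw [← hK _ w.2, show w.1.1 = 0 from hw, map_zero])
    (fun k y => ⟨c, ⟨_, hKmem k y⟩, rfl⟩)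
  haveI i₂ := Groth.Agent.ZarIsoLib.isIso_restrict_map (R := CommRingCat.of A) p₂ a U hcov
    (fun k w hw => by
      have h1 : g k w.1.1 = 0 := by rw [hK _ w.2, show w.1.2 = 0 from hw, smul_zero]
      refine ⟨2 * c, Subtype.ext (Prod.ext ?_ ?_)⟩
      · exact ginj k _ h1
      · show a k ^ (2 * c) • w.1.2 = 0
        rw [show w.1.2 = 0 from hw, smul_zero])
    (fun k y => by
      obtain ⟨x, hx⟩ := gsurj k y
      exact ⟨4 * c, ⟨_, hKmem k x⟩, hx⟩)
  exact ⟨ν₁.symm ≪≫ (@asIso _ _ _ _ _ i₁).symm ≪≫ @asIso _ _ _ _ _ i₂ ≪≫ ν₂⟩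

end Groth.Agent.S19781
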