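import Groth.Statements.S19790
import Groth.Agent.GITLib.HMBound
-- import your own Groth.Agent.* helpers here

set_option autoImplicit false
set_option linter.style.haveILetI false
universe u
open CategoryTheory MonoidalCategory CartesianMonoidalCategory MonObj AlgebraicGeometry Opposite
open GIT

namespace Groth.Agent.S19790

/-- Let k be an algebraically closed field, G a connected reductive algebraic group over k, i : T → G a
maximal torus, X a scheme proper over k on which G acts by σ, and L an ample G-linearised line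
bundle on X in total-space form. Fix a norm on one-parameter subgroups as for the flag complex: a
symmetric biadditive form b on the one-parameter subgroups of T (a group under pointwise product)
with rational values, positive on every non-trivial one-parameter subgroup, and a real function ‖·‖
on the one-parameter subgroups of G such that for every one-parameter subgroup λ of T and every
k-point γ of G the conjugate u ↦ γ·i(λ(u))·γ⁻¹ has ‖γ·(i∘λ)·γ⁻¹‖ ≥ 0 and ‖γ·(i∘λ)·γ⁻¹‖² = b(λ, λ)
(every one-parameter subgroup of G is conjugate under G(k) to one of T, so this determines ‖·‖ on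
all of them; consistency forces b to be invariant under the Weyl group, and such forms exist). Then
there is a constant K such that |μ^L(x, λ)| ≤ K·‖λ‖ for every k-point x of X and every one-parameter
subgroup λ of G: whenever the numerical function of x at λ (the limit of λ(u)·x as u → 0 exists and
𝔾_m acts on the fibre of L over it with exponent m) takes the value m, |m| ≤ K·‖λ‖. In other words
the normalised function ν^L(x, λ) = μ^L(x, λ)/‖λ‖ is bounded in absolute value, uniformly in x and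
λ. (The published statement is for any reductive G; this row takes G connected.) -/
theorem result (k : Type u) [Field k] [IsAlgClosed k]
    (G X T : Over (Spec (CommRingCat.of k))) [GrpObj G] [GrpObj T] (hG : Red.IsReductive G)
    (i : T ⟶ G) [IsMonHom i] (hi : Red.IsMaximalTorus i) [IsProper X.hom]
    (a : AlgGrp.Action G X) (B : GLinSh.LinBun G a) (hB : HMNum.AmpleCover B)
    (b : (Red.Gm (Spec (CommRingCat.of k)) ⟶ T) → (Red.Gm (Spec (CommRingCat.of k)) ⟶ T) → ℚ)
    (hb_add : ∀ (l₁ l₂ l₃ : Red.Gm (Spec (CommRingCat.of k)) ⟶ T) [IsMonHom l₁] [IsMonHom l₂] [IsMonHom l₃],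
      b (l₁ * l₂) l₃ = b l₁ l₃ + b l₂ l₃)
    (hb_symm : ∀ (l₁ l₂ : Red.Gm (Spec (CommRingCat.of k)) ⟶ T) [IsMonHom l₁] [IsMonHom l₂], b l₁ l₂ = b l₂ l₁)
    (hb_pos : ∀ (l : Red.Gm (Spec (CommRingCat.of k)) ⟶ T) [IsMonHom l], l ≠ 1 → 0 < b l l)
    (nrm : (Red.Gm (Spec (CommRingCat.of k)) ⟶ G) → ℝ)
    (hnrm : ∀ (l : Red.Gm (Spec (CommRingCat.of k)) ⟶ T) [IsMonHom l] (g : 𝟙_ (Over (Spec (CommRingCat.of k))) ⟶ G),
      0 ≤ nrm ((toUnit _ ≫ g) * (l ≫ i) * (toUnit _ ≫ g)⁻¹) ∧
        nrm ((toUnit _ ≫ g) * (l ≫ i) * (toUnit _ ≫ g)⁻¹) ^ 2 = ((b l l : ℚ) : ℝ)) :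
    ∃ K : ℝ, ∀ (x : 𝟙_ (Over (Spec (CommRingCat.of k))) ⟶ X) (l : Red.Gm (Spec (CommRingCat.of k)) ⟶ G) [IsMonHom l] (m : ℤ),
      HMNum.IsMu B l x m → |(m : ℝ)| ≤ K * nrm l := by
  classical
  obtain ⟨n, ℓ, hadd, hmu⟩ := Groth.Agent.GITLib.HMTorusMax.exists_functionals i hi.2.2.1 B hB
  obtain ⟨σ, _, E, hEadd, hEinj⟩ := Groth.Agent.GITLib.HMBound.exists_exponents hi.2.2.1
  haveI := Groth.Agent.GITLib.HMBound.isCommMonObj_torus hi.2.2.1
  let Λ : Subgroup (Red.Gm (Spec (CommRingCat.of k)) ⟶ T) :=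
    { carrier := {l | IsMonHom l}
      one_mem' := show IsMonHom (1 : Red.Gm (Spec (CommRingCat.of k)) ⟶ T) from Groth.Agent.DiagRig.isMonHom_of_pts (A := Red.Gm (Spec (CommRingCat.of k))) (B := T) _ fun Y p q => by
        simp only [MonObj.comp_one, _root_.mul_one]
      mul_mem' := fun {l₁ l₂} (h₁ : IsMonHom l₁) (h₂ : IsMonHom l₂) =>
        show IsMonHom (l₁ * l₂) from Groth.Agent.DiagRig.isMonHom_of_pts (A := Red.Gm (Spec (CommRingCat.of k))) (B := T) _ fun Y p q => by
          simp only [MonObj.comp_mul, MonObj.mul_comp]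
          exact mul_mul_mul_comm _ _ _ _
      inv_mem' := fun {l} (h : IsMonHom l) => show IsMonHom l⁻¹ from Groth.Agent.DiagRig.isMonHom_of_pts (A := Red.Gm (Spec (CommRingCat.of k))) (B := T) _ fun Y p q => by
        simp only [GrpObj.comp_inv, MonObj.mul_comp]
        exact mul_inv _ _ }
  letI : CommGroup Λ :=
    { (inferInstance : Group Λ) with
      mul_comm := fun a b => Subtype.ext (mul_comm (a : Red.Gm (Spec (CommRingCat.of k)) ⟶ T) b) }
  let Φ : Additive Λ →+ (σ → ℤ) := AddMonoidHom.mk' (fun v => E v.toMul.1)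
    fun v w => hEadd v.toMul.1 w.toMul.1 v.toMul.2 w.toMul.2
  have hΦ : Function.Injective Φ := fun v w h =>
    Additive.toMul.injective (Subtype.ext (hEinj v.toMul.1 w.toMul.1 v.toMul.2 w.toMul.2 h))
  let f : Fin n → (Additive Λ →+ ℚ) := fun j => AddMonoidHom.mk' (fun v => ℓ j v.toMul.1)
    fun v w => by
      haveI : IsMonHom v.toMul.1 := v.toMul.2
      haveI : IsMonHom w.toMul.1 := w.toMul.2
      exact hadd j v.toMul.1 w.toMul.1
  have hb : ∀ j, ∃ C : ℝ, 0 ≤ C ∧ ∀ v : Additive Λ,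
      |((f j v : ℚ) : ℝ)| ≤ C * Real.sqrt ((b v.toMul.1 v.toMul.1 : ℚ) : ℝ) := fun j => by
    refine Groth.Agent.GITLib.HMBound.exists_bound Φ hΦ (fun v w => b v.toMul.1 w.toMul.1) ?_ ?_ ?_ (f j)
    · intro x y z
      haveI : IsMonHom x.toMul.1 := x.toMul.2
      haveI : IsMonHom y.toMul.1 := y.toMul.2
      haveI : IsMonHom z.toMul.1 := z.toMul.2
      exact hb_add x.toMul.1 y.toMul.1 z.toMul.1
    · intro x y
      haveI : IsMonHom x.toMul.1 := x.toMul.2
      haveI : IsMonHom y.toMul.1 := y.toMul.2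
      exact hb_symm x.toMul.1 y.toMul.1
    · intro x hx
      haveI : IsMonHom x.toMul.1 := x.toMul.2
      exact hb_pos x.toMul.1 fun e => hx (Additive.toMul.injective (Subtype.ext e))
  choose C hC0 hC using hb
  refine ⟨∑ j, C j, fun x l hl m hm => ?_⟩
  obtain ⟨g, l', hl', rfl⟩ := Groth.Agent.GITLib.HMBound.exists_conj_lift hG i hi l
  have h1 : HMNum.IsMu B (l' ≫ i) (lift g⁻¹ x ≫ a.act) m := by
    refine (Groth.Agent.GITLib.HM.isMu_translate_iff B g⁻¹ (l' ≫ i) _ ?_ x m).mpr hm
    rw [GrpObj.comp_inv]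
    group
  obtain ⟨I, hI⟩ := hmu (lift g⁻¹ x ≫ a.act)
  obtain ⟨j, -, hj, -⟩ := (hI l' (Or.inl hl') m).1 h1
  have h2 := hC j (Additive.ofMul (⟨l', hl'⟩ : Λ))
  simp only [f, AddMonoidHom.mk'_apply, toMul_ofMul] at h2
  rw [← hj, ← (hnrm l' g).2, Real.sqrt_sq (hnrm l' g).1] at h2
  rw [show ((m : ℚ) : ℝ) = (m : ℝ) from Rat.cast_intCast m] at h2
  refine h2.trans (mul_le_mul_of_nonneg_right ?_ (hnrm l' g).1)
  exact Finset.single_le_sum (fun i _ => hC0 i) (Finset.mem_univ j)

end Groth.Agent.S19790
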