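import Groth.Statements.S19791
import Groth.Agent.GITLib.HMWeight

set_option autoImplicit false
universe u
open CategoryTheory MonoidalCategory CartesianMonoidalCategory MonObj AlgebraicGeometry Opposite
open GIT

namespace Groth.Agent.S19791

/-- Let k be an algebraically closed field, G a connected reductive algebraic group over k acting by σ
on a scheme X proper over k, L an ample G-linearised line bundle on X in total-space form, and ‖·‖ a
real-valued function on the one-parameter subgroups of G invariant under conjugation by k-points of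
G (‖γ·λ·γ⁻¹‖ = ‖λ‖; nothing else is assumed of ‖·‖). For a k-point x of X consider the set of real
numbers μ^L(x, λ)/‖λ‖, where λ runs over the non-trivial one-parameter subgroups of G and μ^L(x, λ)
= m means that the limit of λ(u)·x as u → 0 exists and 𝔾_m acts on the fibre of L over it with
exponent m; its infimum is the number M^L(x). Then for every k-point g of G the sets attached to g·x
and to x coincide, so that M^L(g·x) = M^L(x). (The published statement is for any reductive G, not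
necessarily connected, acting on a projective variety; this row takes G connected and X any scheme
proper over k.) -/
theorem result (k : Type u) [Field k] [IsAlgClosed k]
    (G X : Over (Spec (CommRingCat.of k))) [GrpObj G] (hG : Red.IsReductive G) [IsProper X.hom]
    (a : AlgGrp.Action G X) (B : GLinSh.LinBun G a) (hB : HMNum.AmpleCover B)
    (nrm : (Red.Gm (Spec (CommRingCat.of k)) ⟶ G) → ℝ)
    (hnrm : ∀ (l : Red.Gm (Spec (CommRingCat.of k)) ⟶ G) [IsMonHom l] (g : 𝟙_ (Over (Spec (CommRingCat.of k))) ⟶ G),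
      nrm ((toUnit _ ≫ g) * l * (toUnit _ ≫ g)⁻¹) = nrm l)
    (x : 𝟙_ (Over (Spec (CommRingCat.of k))) ⟶ X) (g : 𝟙_ (Over (Spec (CommRingCat.of k))) ⟶ G) (q : ℝ) :
    (∃ (l : Red.Gm (Spec (CommRingCat.of k)) ⟶ G) (_ : IsMonHom l) (m : ℤ),
        l ≠ 1 ∧ HMNum.IsMu B l (lift g x ≫ a.act) m ∧ q = (m : ℝ) / nrm l) ↔
      ∃ (l : Red.Gm (Spec (CommRingCat.of k)) ⟶ G) (_ : IsMonHom l) (m : ℤ),
        l ≠ 1 ∧ HMNum.IsMu B l x m ∧ q = (m : ℝ) / nrm l := by
  have hconj : ∀ (l : Red.Gm (Spec (CommRingCat.of k)) ⟶ G) [IsMonHom l]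
      (g : 𝟙_ (Over (Spec (CommRingCat.of k))) ⟶ G),
      IsMonHom ((toUnit _ ≫ g)⁻¹ * l * (toUnit _ ≫ g)) := fun l _ g => by
    refine ⟨?_, ?_⟩
    · simp only [MonObj.comp_mul, GrpObj.comp_inv, ← Category.assoc, toUnit_unique (_ ≫ toUnit _) (𝟙 _),
        Category.id_comp, IsMonHom.one_hom]
      rw [← show (1 : 𝟙_ (Over (Spec (CommRingCat.of k))) ⟶ G) = η by
        rw [Hom.one_def, toUnit_unique (toUnit _) (𝟙 (𝟙_ (Over (Spec (CommRingCat.of k))))), Category.id_comp]]
      group
    · have hd : ∀ {P Q : Over (Spec (CommRingCat.of k))} (p : P ⟶ G) (p' : Q ⟶ G),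
          (p ⊗ₘ p') ≫ μ = (fst _ _ ≫ p) * (snd _ _ ≫ p') := fun p p' => by
        rw [Hom.mul_def, lift_fst_comp_snd_comp]
      simp only [hd, MonObj.comp_mul, GrpObj.comp_inv, IsMonHom.mul_hom, ← Category.assoc,
        toUnit_unique (_ ≫ toUnit _) (toUnit _)]
      group
  have key : ∀ (g : 𝟙_ (Over (Spec (CommRingCat.of k))) ⟶ G) (x : 𝟙_ (Over (Spec (CommRingCat.of k))) ⟶ X),
      (∃ (l : Red.Gm (Spec (CommRingCat.of k)) ⟶ G) (_ : IsMonHom l) (m : ℤ),
        l ≠ 1 ∧ HMNum.IsMu B l (lift g x ≫ a.act) m ∧ q = (m : ℝ) / nrm l) →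
      ∃ (l : Red.Gm (Spec (CommRingCat.of k)) ⟶ G) (_ : IsMonHom l) (m : ℤ),
        l ≠ 1 ∧ HMNum.IsMu B l x m ∧ q = (m : ℝ) / nrm l := by
    rintro g x ⟨l, hl, m, hne, hmu, rfl⟩
    have := hconj l g
    refine ⟨(toUnit _ ≫ g)⁻¹ * l * (toUnit _ ≫ g), this, m, fun e => hne ?_,
      (Groth.Agent.GITLib.HM.isMu_translate_iff B g l _ (by group) x m).mp hmu, ?_⟩
    · rwa [_root_.mul_assoc, inv_mul_eq_iff_eq_mul, _root_.mul_one, mul_eq_right] at e
    · congr 1
      have := hnrm l g⁻¹
      simpa [GrpObj.comp_inv] using this.symm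
  refine ⟨key g x, fun h => ?_⟩
  have := key g⁻¹ (lift g x ≫ a.act)
  rw [← a.lift_mul_act, inv_mul_cancel, a.lift_one_act] at this
  exact this h

end Groth.Agent.S19791
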