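import Groth.Statements.S19796
import Groth.Agent.FFCurve.Nondegenerate
import Groth.Agent.FFCurve.DoubleCover
import Groth.Agent.FFCurve.AlgClosed
import Groth.Agent.FF.Linear
import Groth.Agent.EulerChar.FiniteMap
-- import your own Groth.Agent.* helpers here

set_option autoImplicit false
set_option backward.isDefEq.respectTransparency false
set_option backward.isDefEq.respectTransparency.types false
set_option linter.style.haveILetI false
universe u
open CategoryTheory CategoryTheory.Limits AlgebraicGeometry Opposite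
open Curves

namespace Groth.Agent.S19796

/-- Let X be a smooth projective curve over an algebraically closed field k of characteristic 0
(integral, proper over k, of dimension one, all local rings regular) and ψ : X ⟶ P^r_k a k-morphism
which is non-degenerate (every nonzero global section of O(1) pulls back to a nonzero section of
ψ^*O(1)), with deg ψ^*O(1) = 2r + c for some 0 ≤ c ≤ r - 2; equivalently ψ is the map of a
base-point-free linear system of dimension r and degree 2r + c. Suppose ψ is not birational onto its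
image, in the following form: ψ = π ≫ η ≫ j where π : X ⟶ Γ is a k-morphism, finite and flat of
constant rank a ≥ 2, onto a smooth projective curve Γ over k, j : Y ⟶ P^r_k is an integral closed
subscheme and η : Γ ⟶ Y restricts to an isomorphism over a nonempty open subset of Y. Then a = 2 and
the genus γ of Γ satisfies 2γ ≤ c. Degrees are χ(·) - χ(O_X). -/
theorem result (k : Type u) [Field k] [IsAlgClosed k] [CharZero k] (X : Scheme.{u}) [X.Over (Spec (CommRingCat.of k))]
    [IsIntegral X] [IsProper (X ↘ (Spec (CommRingCat.of k)))] (hdim : topologicalKrullDim X = 1)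
    (hreg : ∀ x : X, IsRegularLocalRing (X.presheaf.stalk x))
    (r c : ℕ) (hc : c + 2 ≤ r)
    (Γ : Scheme.{u}) [Γ.Over (Spec (CommRingCat.of k))] [IsIntegral Γ] [IsProper (Γ ↘ (Spec (CommRingCat.of k)))]
    (hdimΓ : topologicalKrullDim Γ = 1) (hregΓ : ∀ y : Γ, IsRegularLocalRing (Γ.presheaf.stalk y))
    (π : X ⟶ Γ) (hπ : π ≫ (Γ ↘ Spec (CommRingCat.of k)) = X ↘ Spec (CommRingCat.of k))
    [IsFinite π] [Flat π] (a : ℕ) (ha2 : 2 ≤ a) (ha : ∀ y : Γ, Scheme.Hom.finrank π y = a)
    (Y : Scheme.{u}) [IsIntegral Y] (j : Y ⟶ CohB1.ProjSpace r k) [IsClosedImmersion j] (η : Γ ⟶ Y)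
    (hη : η ≫ j ≫ CohB1.ProjSpace.toSpec r k = Γ ↘ Spec (CommRingCat.of k))
    (hbir : ∃ U : Y.Opens, (U : Set Y).Nonempty ∧ IsIso (η ∣_ U))
    (hnd : ∀ s : LinSer.Sect (CohB1.ProjSpace r k) (Twist.twistProjSpace r k 1), s ≠ 0 → OmegaSh.pullSect (π ≫ η ≫ j) (Twist.twistProjSpace r k 1) ⊤ s ≠ 0)
    (hdeg : Curv2.deg k X ((Scheme.Modules.pullback (π ≫ η ≫ j)).obj (Twist.twistProjSpace r k 1)) 1 = 2 * r + c) :
    a = 2 ∧ 2 * Curv2.genus k Γ ≤ (c : ℤ) := by
  haveI := FFCurve.regCurve_of_regular k hdimΓ hregΓ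
  haveI : IsLocallyNoetherian Γ := LocallyOfFiniteType.isLocallyNoetherian (Γ ↘ Spec (CommRingCat.of k))
  have hK := FFCurve.isFunctionField_of_isAlgClosed (X := Γ) k hdimΓ
  set ψ := η ≫ j with hψ
  have hψs : ψ ≫ CohB1.ProjSpace.toSpec r k = Γ ↘ Spec (CommRingCat.of k) := by
    rw [hψ, Category.assoc]; exact hη
  set O1 := Twist.twistProjSpace r k (1 : ℤ) with hO1
  set M := (Scheme.Modules.pullback ψ).obj O1 with hM
  have hMi : PicF.IsInvertible M := PicLoc.isInvertible_pullback ψ (ProjTwist.isInvertible_twistProjSpace r k 1)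
  have hMc : Coh.IsCoh M := VBLib.isCoh_of_ofRank (VBLib.ofRank_one_of_invertible hMi)
  haveI := CurveCoh.finite_HH_zero (k := k) M (FFCurve.hv k hdimΓ) hdimΓ hMc
  have hr1 : r + 1 ≤ Module.finrank k (Coh.HH Γ M 0) := FFCurve.succ_le_h0_pullback k ψ hψs fun s hs =>
    FFCurve.pullSect_ne_zero_of_comp π ψ O1 s (hnd s hs)
  rw [FFCurve.finrank_zero k hdimΓ hK hMi] at hr1
  set D := FFCurve.divOf k hdimΓ hMi with hD
  have eξ := FFCurve.map_genericPoint k hdim hdimΓ π
  have hres : π.residueDegree (genericPoint X) = a :=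
    (FFCurve.GenericRank.finrank_genericPoint π eξ).symm.trans (ha _)
  have hdP := EulerChar.deg_pullback π hπ hdim hdimΓ eξ (ProjTwist.isFinLocFreeOfRank_one hMi)
  rw [hres, FFCurve.deg_eq k hdimΓ hK hMi] at hdP
  have hiso : Curv2.euler k X ((Scheme.Modules.pullback π).obj M) =
      Curv2.euler k X ((Scheme.Modules.pullback (π ≫ ψ)).obj O1) :=
    EulerChar.euler_iso k ((Scheme.Modules.pullbackComp π ψ).app O1)
  have hd2 : (a : ℤ) * D.deg = 2 * r + c := by
    rw [← hdP, Curv2.deg, hiso, ← Curv2.deg]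
    exact hdeg
  have hepos : 0 ≤ D.deg := by
    by_contra! hlt
    rw [FF.ell_eq_zero_of_deg_neg hK hlt] at hr1
    omega
  have h2e : 2 * D.deg ≤ (a : ℤ) * D.deg := mul_le_mul_of_nonneg_right (by exact_mod_cast ha2) hepos
  have hgt : 2 * (FunFld.genus k Γ.functionField : ℤ) < D.deg := by
    by_contra! hle
    obtain ⟨P, -⟩ := FFCurve.exists_place_not_mem hK (∅ : Finset (FunFld.Place k Γ.functionField))
    have := FF.clifford hK (FF.deg_eq_one hK P) hepos hle
    omega
  have hell := FF.ell_eq_of_deg_ge hK (D := D) (by omega)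
  rw [FFCurve.genus_eq_genus k hdimΓ hK]
  have ha3 : a = 2 := by
    by_contra hne
    have h3 : 3 * D.deg ≤ (a : ℤ) * D.deg :=
      mul_le_mul_of_nonneg_right (by exact_mod_cast (show 3 ≤ a by omega)) hepos
    omega
  subst ha3
  refine ⟨rfl, ?_⟩
  push_cast at hd2
  omega

end Groth.Agent.S19796
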