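import Mathlib
import Groth.Agent.CAlg.FiniteAlgClosed
import Groth.Statements.S19799
-- import your own Groth.Agent.* helpers here

set_option autoImplicit false
universe u v w
open scoped TensorProduct
open CAlg

namespace Groth.Agent.S19799

/-- Let k be an algebraically closed field and A, B commutative k-algebras, each finite-dimensional as a
k-vector space. Then reduction commutes with tensor products: the kernel of the canonical surjection
A ⊗_k B ⟶ (A/nilradical A) ⊗_k (B/nilradical B) equals the nilradical of A ⊗_k B, so that this
surjection induces an isomorphism (A ⊗_k B)_red ≅ A_red ⊗_k B_red and in particular A_red ⊗_k B_red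
is reduced. -/
theorem result (k : Type u) [Field k]
    [IsAlgClosed k] (A : Type v) [CommRing A] [Algebra k A] [Module.Finite k A]
    (B : Type w) [CommRing B] [Algebra k B] [Module.Finite k B] :
    RingHom.ker (Algebra.TensorProduct.map (Ideal.Quotient.mkₐ k (nilradical A))
      (Ideal.Quotient.mkₐ k (nilradical B))).toRingHom = nilradical (A ⊗[k] B) := by
  have hA : Algebra.FiniteType k A := inferInstance
  refine le_antisymm ?_ ?_
  · rw [show RingHom.ker (Algebra.TensorProduct.map (Ideal.Quotient.mkₐ k (nilradical A))
      (Ideal.Quotient.mkₐ k (nilradical B))).toRingHom = _ from Algebra.TensorProduct.map_ker _ _ (Ideal.Quotient.mkₐ_surjective k _) (Ideal.Quotient.mkₐ_surjective k _)]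
    refine sup_le (Ideal.map_le_iff_le_comap.mpr fun x hx => ?_) (Ideal.map_le_iff_le_comap.mpr fun x hx => ?_)
    · rw [RingHom.mem_ker] at hx
      exact mem_nilradical.mpr ((mem_nilradical.mp (Ideal.Quotient.eq_zero_iff_mem.mp hx)).map _)
    · rw [RingHom.mem_ker] at hx
      exact mem_nilradical.mpr ((mem_nilradical.mp (Ideal.Quotient.eq_zero_iff_mem.mp hx)).map _)
  · have : IsReduced (A ⧸ nilradical A) :=
      (Ideal.isRadical_iff_quotient_reduced _).mp (Ideal.radical_isRadical _)
    have : IsReduced (B ⧸ nilradical B) :=
      (Ideal.isRadical_iff_quotient_reduced _).mp (Ideal.radical_isRadical _)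
    have := CAlg.FiniteAlgClosed.formallyEtale_red k A
    have := CAlg.FiniteAlgClosed.formallyEtale_red k B
    have : Algebra.FormallyUnramified k ((A ⧸ nilradical A) ⊗[k] (B ⧸ nilradical B)) :=
      Algebra.FormallyUnramified.comp k (A ⧸ nilradical A) _
    have hred : IsReduced ((A ⧸ nilradical A) ⊗[k] (B ⧸ nilradical B)) :=
      Algebra.FormallyUnramified.isReduced_of_field k _
    intro x hx
    exact RingHom.mem_ker.mpr ((mem_nilradical.mp hx).map _).eq_zero

end Groth.Agent.S19799
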