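import Groth.Statements.S19802
import Groth.Agent.FFCurve.TwoCoversImmersion
-- import your own Groth.Agent.* helpers here

set_option autoImplicit false
universe u
open CategoryTheory CategoryTheory.Limits AlgebraicGeometry Opposite
open Curves

namespace Groth.Agent.S19802

/-- Let F be a smooth projective curve over an algebraically closed field k of characteristic 0
(integral, proper over k, of dimension one, all local rings regular) of genus g = 4γ + 1 with γ ≥ 1,
and let f_i : F ⟶ P_i (i = 1, 2) be two k-morphisms, finite and flat of constant rank 2, onto smooth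
projective curves P_i of genus γ_i ≤ γ (two involutions of F with quotients of genus at most γ)
which are not isomorphic as covers: there is no k-isomorphism e : P₁ ≅ P₂ with f₁ ≫ e = f₂ (the
involutions are distinct). Then γ₁ = γ₂ = γ and the morphism F ⟶ P₁ ×_k P₂ induced by f₁ and f₂ is a
closed immersion. (The published statement also says that both P_i are hyperelliptic and identifies
the linear system of the image; those clauses are not part of this row.) -/
theorem result (k : Type u) [Field k] [IsAlgClosed k] [CharZero k] (X : Scheme.{u}) [X.Over (Spec (CommRingCat.of k))]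
    [IsIntegral X] [IsProper (X ↘ (Spec (CommRingCat.of k)))] (hdim : topologicalKrullDim X = 1)
    (hreg : ∀ x : X, IsRegularLocalRing (X.presheaf.stalk x))
    (γ : ℕ) (hγ : 1 ≤ γ) (hg : Curv2.genus k X = 4 * γ + 1)
    (P₁ : Scheme.{u}) [P₁.Over (Spec (CommRingCat.of k))] [IsIntegral P₁] [IsProper (P₁ ↘ (Spec (CommRingCat.of k)))]
    (hdim₁ : topologicalKrullDim P₁ = 1) (hreg₁ : ∀ y : P₁, IsRegularLocalRing (P₁.presheaf.stalk y)) (hγ₁ : Curv2.genus k P₁ ≤ γ)
    (P₂ : Scheme.{u}) [P₂.Over (Spec (CommRingCat.of k))] [IsIntegral P₂] [IsProper (P₂ ↘ (Spec (CommRingCat.of k)))]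
    (hdim₂ : topologicalKrullDim P₂ = 1) (hreg₂ : ∀ y : P₂, IsRegularLocalRing (P₂.presheaf.stalk y)) (hγ₂ : Curv2.genus k P₂ ≤ γ)
    (f₁ : X ⟶ P₁) (hf₁ : f₁ ≫ (P₁ ↘ Spec (CommRingCat.of k)) = X ↘ Spec (CommRingCat.of k))
    [IsFinite f₁] [Flat f₁] (hr₁ : ∀ y : P₁, Scheme.Hom.finrank f₁ y = 2)
    (f₂ : X ⟶ P₂) (hf₂ : f₂ ≫ (P₂ ↘ Spec (CommRingCat.of k)) = X ↘ Spec (CommRingCat.of k))
    [IsFinite f₂] [Flat f₂] (hr₂ : ∀ y : P₂, Scheme.Hom.finrank f₂ y = 2)
    (hne : ¬ ∃ e : P₁ ≅ P₂, e.hom ≫ (P₂ ↘ Spec (CommRingCat.of k)) = (P₁ ↘ Spec (CommRingCat.of k)) ∧ f₁ ≫ e.hom = f₂) :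
    Curv2.genus k P₁ = γ ∧ Curv2.genus k P₂ = γ ∧
      IsClosedImmersion (pullback.lift f₁ f₂ (hf₁.trans hf₂.symm) :
        X ⟶ pullback (P₁ ↘ Spec (CommRingCat.of k)) (P₂ ↘ Spec (CommRingCat.of k))) := by
  haveI := FFCurve.regCurve_of_regular k hdim hreg
  haveI := FFCurve.regCurve_of_regular k hdim₁ hreg₁
  haveI := FFCurve.regCurve_of_regular k hdim₂ hreg₂
  have h := FFCurve.genus_le_of_two_doubleCovers k hdim hdim₁ hdim₂ f₁ hf₁ hr₁ f₂ hf₂ hr₂ hne
  exact ⟨by omega, by omega, FFCurve.TwoCovers.isClosedImmersion_lift k hdim hdim₁ hdim₂ f₁ hf₁ hr₁ f₂ hf₂ hr₂ hne (by omega)⟩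

end Groth.Agent.S19802
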