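import Groth.Statements.S19803
import Groth.Agent.FFCurve.TwoCoversG12
import Groth.Agent.FFCurve.DoubleCover
import Groth.Agent.FFCurve.Pic
-- import your own Groth.Agent.* helpers here

set_option linter.style.haveILetI false
set_option backward.isDefEq.respectTransparency false
set_option backward.isDefEq.respectTransparency.types false
set_option maxHeartbeats 1000000

set_option autoImplicit false
universe u
open CategoryTheory CategoryTheory.Limits AlgebraicGeometry Opposite
open Curves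

namespace Groth.Agent.S19803

open Groth.Agent FunFld

lemma exists_g12_of_divisor (k : Type u) [Field k] [IsAlgClosed k] (P : Scheme.{u}) [P.Over (Spec (CommRingCat.of k))]
    [IsIntegral P] [IsProper (P ↘ Spec (CommRingCat.of k))] [FFCurve.RegCurve P] (hdim : topologicalKrullDim P = 1)
    (h : ∃ M : Divisor k P.functionField, M.deg = 2 ∧ 2 ≤ ell M) :
    ∃ M : P.Modules, PicF.IsInvertible M ∧ Curv2.deg k P M 1 = 2 ∧ 2 ≤ Module.finrank k (Coh.HH P M 0) := by
  obtain ⟨D, hd, hl⟩ := h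
  have hK := FFCurve.isFunctionField_of_isAlgClosed (X := P) k hdim
  obtain ⟨M, hM, a, ha, hD⟩ := FFCurve.exists_divOf_eq k hdim D
  refine ⟨M, hM, ?_, ?_⟩
  · rw [FFCurve.deg_eq k hdim hK hM, hD, FF.deg_sub, FF.deg_div (FFCurve.isFF (X := P) k hdim), hd]; norm_num
  · rw [FFCurve.finrank_zero k hdim hK hM, hD, sub_eq_add_neg, ← FF.div_inv (FFCurve.isFF (X := P) k hdim),
      FF.Any.ell_add_div (FFCurve.isFF (X := P) k hdim) (inv_ne_zero ha)]
    exact hl

/-- Let F be a smooth projective curve over an algebraically closed field k of characteristic 0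
(integral, proper over k, of dimension one, all local rings regular) of genus g = 4γ + 1 with γ ≥ 1,
and let f_i : F ⟶ P_i (i = 1, 2) be two k-morphisms, finite and flat of constant rank 2, onto smooth
projective curves P_i of genus γ_i ≤ γ (two involutions of F with quotients of genus at most γ)
which are not isomorphic as covers: there is no k-isomorphism e : P₁ ≅ P₂ with f₁ ≫ e = f₂ (the
involutions are distinct). Then P₁ and P₂ are hyperelliptic in the sense that each carries an
invertible module of degree 2 with at least two linearly independent global sections (a g^1_2).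
Degrees are χ(·) - χ(O). -/
theorem result (k : Type u) [Field k] [IsAlgClosed k] [CharZero k] (X : Scheme.{u}) [X.Over (Spec (CommRingCat.of k))]
    [IsIntegral X] [IsProper (X ↘ (Spec (CommRingCat.of k)))] (hdim : topologicalKrullDim X = 1)
    (hreg : ∀ x : X, IsRegularLocalRing (X.presheaf.stalk x))
    (γ : ℕ) (hγ : 1 ≤ γ) (hg : Curv2.genus k X = 4 * γ + 1)
    (P₁ : Scheme.{u}) [P₁.Over (Spec (CommRingCat.of k))] [IsIntegral P₁] [IsProper (P₁ ↘ (Spec (CommRingCat.of k)))]
    (hdim₁ : topologicalKrullDim P₁ = 1) (hreg₁ : ∀ y : P₁, IsRegularLocalRing (P₁.presheaf.stalk y)) (hγ₁ : Curv2.genus k P₁ ≤ γ)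
    (P₂ : Scheme.{u}) [P₂.Over (Spec (CommRingCat.of k))] [IsIntegral P₂] [IsProper (P₂ ↘ (Spec (CommRingCat.of k)))]
    (hdim₂ : topologicalKrullDim P₂ = 1) (hreg₂ : ∀ y : P₂, IsRegularLocalRing (P₂.presheaf.stalk y)) (hγ₂ : Curv2.genus k P₂ ≤ γ)
    (f₁ : X ⟶ P₁) (hf₁ : f₁ ≫ (P₁ ↘ Spec (CommRingCat.of k)) = X ↘ Spec (CommRingCat.of k))
    [IsFinite f₁] [Flat f₁] (hr₁ : ∀ y : P₁, Scheme.Hom.finrank f₁ y = 2)
    (f₂ : X ⟶ P₂) (hf₂ : f₂ ≫ (P₂ ↘ Spec (CommRingCat.of k)) = X ↘ Spec (CommRingCat.of k))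
    [IsFinite f₂] [Flat f₂] (hr₂ : ∀ y : P₂, Scheme.Hom.finrank f₂ y = 2)
    (hne : ¬ ∃ e : P₁ ≅ P₂, e.hom ≫ (P₂ ↘ Spec (CommRingCat.of k)) = (P₁ ↘ Spec (CommRingCat.of k)) ∧ f₁ ≫ e.hom = f₂) :
    (∃ M₁ : P₁.Modules, PicF.IsInvertible M₁ ∧ Curv2.deg k P₁ M₁ 1 = 2 ∧ 2 ≤ Module.finrank k (Coh.HH P₁ M₁ 0)) ∧
      ∃ M₂ : P₂.Modules, PicF.IsInvertible M₂ ∧ Curv2.deg k P₂ M₂ 1 = 2 ∧ 2 ≤ Module.finrank k (Coh.HH P₂ M₂ 0) := by
  haveI := FFCurve.regCurve_of_regular k hdim hreg
  haveI := FFCurve.regCurve_of_regular k hdim₁ hreg₁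
  haveI := FFCurve.regCurve_of_regular k hdim₂ hreg₂
  haveI : IsLocallyNoetherian P₁ := LocallyOfFiniteType.isLocallyNoetherian (P₁ ↘ Spec (CommRingCat.of k))
  haveI : IsLocallyNoetherian P₂ := LocallyOfFiniteType.isLocallyNoetherian (P₂ ↘ Spec (CommRingCat.of k))
  have hle := FFCurve.genus_le_of_two_doubleCovers k hdim hdim₁ hdim₂ f₁ hf₁ hr₁ f₂ hf₂ hr₂ hne
  have e₁ := FFCurve.map_genericPoint k hdim hdim₁ f₁
  have e₂ := FFCurve.map_genericPoint k hdim hdim₂ f₂
  have hK := FFCurve.isFunctionField_of_isAlgClosed (X := X) k hdim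
  have hK₁ := FFCurve.isFunctionField_of_isAlgClosed (X := P₁) k hdim₁
  have hK₂ := FFCurve.isFunctionField_of_isAlgClosed (X := P₂) k hdim₂
  letI := (VBLib.PushTrace.genMap f₁ e₁).toAlgebra
  letI := (VBLib.PushTrace.genMap f₂ e₂).toAlgebra
  haveI : IsScalarTower k P₁.functionField X.functionField :=
    IsScalarTower.of_algebraMap_eq fun c => (FFCurve.genMap_algebraMap k f₁ e₁ hf₁ c).symm
  haveI : IsScalarTower k P₂.functionField X.functionField :=
    IsScalarTower.of_algebraMap_eq fun c => (FFCurve.genMap_algebraMap k f₂ e₂ hf₂ c).symm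
  have h₁ := (FFCurve.finrank_genMap f₁ e₁).trans (hr₁ _)
  have h₂ := (FFCurve.finrank_genMap f₂ e₂).trans (hr₂ _)
  haveI : CharZero P₁.functionField := charZero_of_injective_algebraMap (algebraMap k P₁.functionField).injective
  haveI : CharZero P₂.functionField := charZero_of_injective_algebraMap (algebraMap k P₂.functionField).injective
  haveI : FiniteDimensional P₁.functionField X.functionField := Module.finite_of_finrank_pos (by omega)
  haveI : FiniteDimensional P₂.functionField X.functionField := Module.finite_of_finrank_pos (by omega)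
  have hr : Set.range (algebraMap P₁.functionField X.functionField) ≠ Set.range (algebraMap P₂.functionField X.functionField) :=
    fun he => hne (FFCurve.exists_iso_of_range_eq k f₁ e₁ hf₁ f₂ e₂ hf₂ he)
  have hgg : Curv2.genus k X = 2 * Curv2.genus k P₁ + 2 * Curv2.genus k P₂ + 1 := by omega
  rw [FFCurve.genus_eq_genus k hdim hK, FFCurve.genus_eq_genus k hdim₁ hK₁, FFCurve.genus_eq_genus k hdim₂ hK₂] at hgg
  exact ⟨exists_g12_of_divisor k P₁ hdim₁
      (FFCurve.CS.exists_g12 hK hK₁ hK₂ h₁ h₂ hr two_ne_zero hgg),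
    exists_g12_of_divisor k P₂ hdim₂
      (FFCurve.CS.exists_g12 hK hK₂ hK₁ h₂ h₁ hr.symm two_ne_zero (by omega))⟩

end Groth.Agent.S19803
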