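import Groth.Statements.S19804
import Groth.Agent.Azu.Twist


set_option autoImplicit false
open scoped TensorProduct
universe u v w
open Brauer

namespace Groth.Agent.S19804

/-- Let R be a commutative ring with Spec R connected, A an Azumaya R-algebra and e an idempotent
element of A. If for some nonzero commutative R-algebra R' the element 1 ⊗ e of R' ⊗_R A is 0, then
e = 0; and if 1 ⊗ e = 1 in R' ⊗_R A, then e = 1. (The published statement is for an Azumaya algebra
over a connected scheme S and base change to an arbitrary nonempty S-scheme T; this row takes S and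
T affine.) -/
theorem result {R : Type u} [CommRing R]
    [ConnectedSpace (PrimeSpectrum R)] {A : Type v} [Ring A] [Algebra R A] [IsAzumaya R A]
    (e : A) (he : IsIdempotentElem e) (R' : Type w) [CommRing R'] [Nontrivial R'] [Algebra R R'] :
    ((1 : R') ⊗ₜ[R] e = (0 : R' ⊗[R] A) → e = 0) ∧ ((1 : R') ⊗ₜ[R] e = (1 : R' ⊗[R] A) → e = 1) := by
  classical
  haveI := Groth.Agent.Azu.faithfullyFlat (R := R) (A := A)
  haveI : Nontrivial (R' ⊗[R] A) := inferInstance
  have key : ∀ e : A, IsIdempotentElem e → (1 : R') ⊗ₜ[R] e = (0 : R' ⊗[R] A) → e = 0 := by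
    intro e he h0
    obtain ⟨n, φ, b, t, hsum, ht⟩ := Groth.Agent.Azu.exists_frame R A
    set J : Ideal R := Ideal.span (Set.range fun j => φ j e)
    have hT : ∀ t : A ⊗[R] Aᵐᵒᵖ, AlgHom.mulLeftRight R A t e ∈ (J * J) • (⊤ : Submodule R A) ∧
        (1 : R') ⊗ₜ[R] AlgHom.mulLeftRight R A t e = (0 : R' ⊗[R] A) := fun t => by
      induction t using TensorProduct.induction_on with
      | zero => simp
      | add a c ha hc =>
          rw [map_add, LinearMap.add_apply, TensorProduct.tmul_add, ha.2, hc.2, add_zero]
          exact ⟨add_mem ha.1 hc.1, rfl⟩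
      | tmul a c =>
          rw [AlgHom.mulLeftRight_apply]
          constructor
          · rw [show a * e * c.unop = a * ((∑ i, φ i e • b i) * ∑ j, φ j e • b j) * c.unop by rw [hsum, he.eq]]
            simp only [Finset.mul_sum, Finset.sum_mul, mul_smul_comm, smul_mul_assoc, Finset.smul_sum, smul_smul]
            exact sum_mem fun i _ => sum_mem fun j _ =>
              Submodule.smul_mem_smul (Ideal.mul_mem_mul (Ideal.subset_span ⟨_, rfl⟩) (Ideal.subset_span ⟨_, rfl⟩)) trivial
          · calc (1 : R') ⊗ₜ[R] (a * e * c.unop) = ((1 : R') ⊗ₜ[R] a) * ((1 : R') ⊗ₜ[R] e) * ((1 : R') ⊗ₜ[R] c.unop) := by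
                  simp
              _ = 0 := by rw [h0, mul_zero, zero_mul]
    have hJ : IsIdempotentElem J := by
      refine le_antisymm Ideal.mul_le_left (Ideal.span_le.2 ?_)
      rintro _ ⟨j, rfl⟩
      have h := (hT (t j)).1
      rw [ht] at h
      have hlin : ∀ z ∈ (J * J) • (⊤ : Submodule R A), Groth.Agent.Azu.τ R A z ∈ J * J := fun z hz => by
        refine Submodule.smul_induction_on hz (fun r hr m _ => ?_) (fun x y hx hy => by rw [map_add]; exact add_mem hx hy)
        rw [map_smul, smul_eq_mul]
        exact Ideal.mul_mem_right _ _ hr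
      simpa [Groth.Agent.Azu.τ_algebraMap] using hlin _ h
    obtain ⟨ε, hε, hJε⟩ := (Ideal.isIdempotentElem_iff_of_fg J ⟨Finset.univ.image fun j => φ j e, by simp [J]⟩).1 hJ
    have hε01 : ε = 0 ∨ ε = 1 := by
      have hc : IsClopen ((PrimeSpectrum.basicOpen ε : TopologicalSpace.Opens (PrimeSpectrum R)) : Set (PrimeSpectrum R)) :=
        PrimeSpectrum.isClopen_iff.2 ⟨ε, hε, rfl⟩
      rcases isClopen_iff.1 hc with h | h
      · left
        exact PrimeSpectrum.basicOpen_injOn_isIdempotentElem hε IsIdempotentElem.zero (SetLike.coe_injective (by simpa using h))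
      · right
        exact PrimeSpectrum.basicOpen_injOn_isIdempotentElem hε IsIdempotentElem.one (SetLike.coe_injective (by simpa using h))
    rcases hε01 with rfl | rfl
    · rw [← hsum e]
      refine Finset.sum_eq_zero fun j _ => ?_
      have hj : φ j e ∈ J := Ideal.subset_span ⟨j, rfl⟩
      rw [hJε, Ideal.submodule_span_eq, Ideal.span_singleton_eq_bot.2 rfl, Ideal.mem_bot] at hj
      rw [hj, zero_smul]
    · exfalso
      have h1 : (1 : R) ∈ J := hJε ▸ Ideal.subset_span (Set.mem_singleton _)
      obtain ⟨c, hc⟩ := (Submodule.mem_span_range_iff_exists_fun R).1 h1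
      refine one_ne_zero (α := R' ⊗[R] A) ?_
      have h2 : ∑ j, c j • AlgHom.mulLeftRight R A (t j) e = 1 := by
        simp only [ht, ← Algebra.algebraMap_eq_smul_one]
        rw [← map_one (algebraMap R A), ← hc, map_sum]
        exact Finset.sum_congr rfl fun j _ => by rw [smul_eq_mul, map_mul, Algebra.smul_def]
      rw [Algebra.TensorProduct.one_def, ← h2, TensorProduct.tmul_sum]
      exact Finset.sum_eq_zero fun j _ => by rw [TensorProduct.tmul_smul, (hT (t j)).2, smul_zero]
  refine ⟨key e he, fun h => ?_⟩
  have h' := key (1 - e) he.one_sub (by rw [TensorProduct.tmul_sub, h, ← Algebra.TensorProduct.one_def, sub_self])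
  exact (sub_eq_zero.1 h').symm

end Groth.Agent.S19804
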