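import Groth.Statements.S19814
import Groth.Agent.NoriLib.Pullback
-- import your own Groth.Agent.* helpers here

set_option autoImplicit false
universe u
open CategoryTheory CategoryTheory.Limits MonoidalCategory CartesianMonoidalCategory MonObj GrpObj AlgebraicGeometry
open NoriFGS

namespace Groth.Agent.S19814

open Groth.Agent.NoriLib MonoidalCategory

/-- Let X and Y be schemes over a field k with rational points x and y, each possessing a fundamental
group scheme with its universal pointed torsor, let f : X → Y be a k-morphism sending x to y, and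
let φ be the homomorphism of fundamental group schemes induced by f. Then φ is trivial if and only
if, for every finite group scheme H over k and every H-torsor U over Y (locally trivial for the fpqc
topology) pointed over y which is Nori-reduced, the pull-back of U to X is a trivial torsor, i.e. U
acquires a section over f. (The published statement quantifies over all Nori-reduced finite torsors
over Y; this row quantifies over those pointed over y, as the printed proof does: for unpointed
torsors the forward implication fails over a field that is not algebraically closed. The source's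
standing convention for that chapter assumes the base field has characteristic p > 0; the printed
proof uses no characteristic hypothesis, so the row states it for any field.) -/
theorem result
    (k : Type u) [Field k] (X Y : Scheme.{u})
    [X.Over (Spec (CommRingCat.of k))] [Y.Over (Spec (CommRingCat.of k))]
    (x : Spec (CommRingCat.of k) ⟶ X) (y : Spec (CommRingCat.of k) ⟶ Y)
    (hx : x ≫ (X ↘ Spec (CommRingCat.of k)) = 𝟙 _) (hy : y ≫ (Y ↘ Spec (CommRingCat.of k)) = 𝟙 _)
    (f : X ⟶ Y) (hf : f ≫ (Y ↘ Spec (CommRingCat.of k)) = X ↘ Spec (CommRingCat.of k)) (hfx : x ≫ f = y)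
    (πX πY : Over (Spec (CommRingCat.of k))) [GrpObj πX] [GrpObj πY] (PX : Over X) (PY : Over Y)
    (aX : AlgGrp.Action (Red.bc (X ↘ Spec (CommRingCat.of k)) πX) PX)
    (aY : AlgGrp.Action (Red.bc (Y ↘ Spec (CommRingCat.of k)) πY) PY)
    (pX : Spec (CommRingCat.of k) ⟶ PX.left) (pY : Spec (CommRingCat.of k) ⟶ PY.left)
    (hX : NoriFGS.IsFGS x πX aX pX) (hY : NoriFGS.IsFGS y πY aY pY)
    (φ : πX ⟶ πY) (hφ : NoriFGS.IsInducedHom f hf aX pX aY pY φ) :
    φ = toUnit πX ≫ η[πY] ↔
      ∀ (H : Over (Spec (CommRingCat.of k))) [GrpObj H] [IsFinite H.hom] (U : Over Y)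
        (c : AlgGrp.Action (Red.bc (Y ↘ Spec (CommRingCat.of k)) H) U) (u : Spec (CommRingCat.of k) ⟶ U.left),
        NonAbH1.IsTorsorFor Scheme.fpqcPrecoverage c → u ≫ U.hom = y →
        NoriFGS.IsNoriReduced Scheme.fpqcPrecoverage c → NonAbH1.HasSectionOver U f := by
  have hpX : pX ≫ PX.hom = x := hX.2.2.1
  have hone : (toUnit πX ≫ η[πY]) = (1 : πX ⟶ πY) := (Hom.one_def).symm
  rw [hone]
  constructor
  · intro hφ1 H _ _ U c u hc hu hred
    obtain ⟨ψ, _, h, hh, -⟩ := hY.2.2.2 H U c u hc hu
    obtain ⟨_, g, hg⟩ := exists_ptHom_pull f hf x y hfx hpX hφ u hu ψ h hh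
    have hinv : aX.act ≫ g = snd _ PX ≫ g := by
      have e := equiv_pt hg.1 (fst _ PX) (snd _ PX)
      rw [lift_fst_snd, Category.id_comp] at e
      rw [e]
      have h1 : φ ≫ ψ = 1 := by rw [hφ1, MonObj.one_comp]
      have h2 : fst (Red.bc (X ↘ Spec (CommRingCat.of k)) πX) PX ≫
          (Over.pullback (X ↘ Spec (CommRingCat.of k))).map (φ ≫ ψ) = 1 := by
        simp only [h1, map_one']
      rw [h2, AlgGrp.Action.lift_one_act]
    obtain ⟨σ, -, -⟩ := GITLib.existsUnique_section hX.2.1 g hinv
    refine ⟨σ.left ≫ Limits.pullback.fst U.hom f, ?_⟩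
    rw [Category.assoc, Limits.pullback.condition, ← Category.assoc]
    exact (congrArg (· ≫ f) (Over.w σ)).trans (Category.id_comp f)
  · intro hsec
    obtain ⟨R⟩ := hY.1
    letI := R.cat
    letI := R.cofiltered
    refine R.isLimit.hom_ext fun i => ?_
    letI := R.grp i
    haveI := R.finite i
    haveI := R.isMonHom_π i
    haveI : IsAffineHom πY.hom := isAffineHom_of_isProFinite hY.1
    let π₀ : πY ⟶ R.D.obj i := R.π.app i
    show φ ≫ π₀ = (1 : πX ⟶ πY) ≫ π₀
    rw [MonObj.one_comp]
    obtain ⟨K, _, _, e, _, jj, _, hcov, -, hfac⟩ := exists_finite_image π₀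
    obtain ⟨U, c, h, hc, hh⟩ := exists_pushforward_pt e aY hY.2.1 pY
    have hu : (pY ≫ h.left) ≫ U.hom = y := by rw [Category.assoc, Over.w, hY.2.2.1]
    have hred := isNoriReduced_of_ptHom y hy hY hc hu e hcov h hh
    obtain ⟨s, hs⟩ := hsec K U c _ hc hu hred
    obtain ⟨_, g, hg⟩ := exists_ptHom_pull f hf x y hfx hpX hφ (pY ≫ h.left) hu e h hh
    let s' : 𝟙_ (Over X) ⟶ Red.bc f U :=
      Over.homMk (Limits.pullback.lift s (𝟙 X) (hs.trans (Category.id_comp f).symm))
        (Limits.pullback.lift_snd _ _ _)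
    let ιx : Over.mk x ⟶ 𝟙_ (Over X) := Over.homMk x (Category.comp_id x)
    have ht := isTorsorFor_pullAct f hf hc
    obtain ⟨d, hd, -⟩ := GITLib.existsUnique_diff ht.1 (ιx ≫ s')
      (Over.homMk (pullPt f x y hfx (pY ≫ h.left) hu) (pullPt_hom f x y hfx _ hu))
    obtain ⟨z, rfl⟩ := exists_eq_cst (X ↘ Spec (CommRingCat.of k)) x hx d
    let s'' : 𝟙_ (Over X) ⟶ Red.bc f U :=
      lift (cst (X ↘ Spec (CommRingCat.of k)) z _) s' ≫ (pullAct f hf c).act
    have hs'' : ιx ≫ s'' = Over.homMk (pullPt f x y hfx (pY ≫ h.left) hu)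
        (pullPt_hom f x y hfx _ hu) := by
      rw [comp_lift_assoc, comp_cst, hd]
    haveI h1 : IsMonHom (1 : πX ⟶ K) :=
      WittLib.Basic.isMonHom_of_points _ fun T a b => by simp only [MonObj.comp_one, _root_.mul_one]
    have htriv : NoriFGS.IsPtTorsorHom aX pX (pullAct f hf c) (pullPt f x y hfx (pY ≫ h.left) hu)
        (1 : πX ⟶ K) (toUnit PX ≫ s'') := by
      refine ⟨equivariant_of_pt fun V e v => ?_, ?_⟩
      · rw [map_one', AlgGrp.Action.lift_one_act, comp_toUnit_assoc, comp_toUnit_assoc]
      · have := congrArg CommaMorphism.left hs''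
        rw [Over.comp_left, Over.toUnit_left, ← Category.assoc, hpX]
        exact this
    obtain ⟨ψ₀, _, f₀, -, huq⟩ := hX.2.2.2 K (Red.bc f U) (pullAct f hf c)
      (pullPt f x y hfx (pY ≫ h.left) hu) ht (pullPt_hom f x y hfx _ hu)
    have : φ ≫ e = 1 := (huq _ _ hg).1.trans (huq _ _ htriv).1.symm
    rw [← hfac, ← Category.assoc, this, MonObj.one_comp]

end Groth.Agent.S19814
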