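import Groth.Statements.S19815
import Groth.Agent.NoriLib.Pullback
import Groth.Agent.NoriLib.ProFin
-- import your own Groth.Agent.* helpers here

set_option autoImplicit false
universe u
open CategoryTheory CategoryTheory.Limits MonoidalCategory CartesianMonoidalCategory MonObj GrpObj AlgebraicGeometry
open NoriFGS

namespace Groth.Agent.S19815

open Groth.Agent.NoriLib

/-- Let X and Y be schemes over a field k with rational points x and y, each possessing a fundamental
group scheme with its universal pointed torsor, let f : X → Y be a k-morphism sending x to y, and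
let φ be the homomorphism of fundamental group schemes induced by f. Then φ is faithfully flat (flat
and surjective) if and only if, for every finite group scheme H over k and every H-torsor U over Y
(locally trivial for the fpqc topology) pointed over y which is Nori-reduced, the pull-back U ×_Y X,
with the base-changed action read as an action of the base change of H to X, is a Nori-reduced
torsor over X. (The published statement quantifies over all Nori-reduced finite torsors over Y; this
row quantifies over those pointed over y, as the printed proof does. The source's standing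
convention for that chapter assumes the base field has characteristic p > 0; the printed proof uses
no characteristic hypothesis, so the row states it for any field.) -/
theorem result
    (k : Type u) [Field k] (X Y : Scheme.{u})
    [X.Over (Spec (CommRingCat.of k))] [Y.Over (Spec (CommRingCat.of k))]
    (x : Spec (CommRingCat.of k) ⟶ X) (y : Spec (CommRingCat.of k) ⟶ Y)
    (hx : x ≫ (X ↘ Spec (CommRingCat.of k)) = 𝟙 _) (hy : y ≫ (Y ↘ Spec (CommRingCat.of k)) = 𝟙 _)
    (f : X ⟶ Y) (hf : f ≫ (Y ↘ Spec (CommRingCat.of k)) = X ↘ Spec (CommRingCat.of k)) (hfx : x ≫ f = y)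
    (πX πY : Over (Spec (CommRingCat.of k))) [GrpObj πX] [GrpObj πY] (PX : Over X) (PY : Over Y)
    (aX : AlgGrp.Action (Red.bc (X ↘ Spec (CommRingCat.of k)) πX) PX)
    (aY : AlgGrp.Action (Red.bc (Y ↘ Spec (CommRingCat.of k)) πY) PY)
    (pX : Spec (CommRingCat.of k) ⟶ PX.left) (pY : Spec (CommRingCat.of k) ⟶ PY.left)
    (hX : NoriFGS.IsFGS x πX aX pX) (hY : NoriFGS.IsFGS y πY aY pY)
    (φ : πX ⟶ πY) (hφ : NoriFGS.IsInducedHom f hf aX pX aY pY φ) :
    (Flat φ.left ∧ Surjective φ.left) ↔
      ∀ (H : Over (Spec (CommRingCat.of k))) [GrpObj H] [IsFinite H.hom] (U : Over Y)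
        (c : AlgGrp.Action (Red.bc (Y ↘ Spec (CommRingCat.of k)) H) U) (u : Spec (CommRingCat.of k) ⟶ U.left),
        NonAbH1.IsTorsorFor Scheme.fpqcPrecoverage c → u ≫ U.hom = y →
        NoriFGS.IsNoriReduced Scheme.fpqcPrecoverage c →
        NoriFGS.IsNoriReduced Scheme.fpqcPrecoverage
          ((c.bc f).restrict (ActBC.bcCompIso f (Y ↘ Spec (CommRingCat.of k)) H hf).inv) := by
  have hpX : pX ≫ PX.hom = x := hX.2.2.1
  haveI : IsAffineHom πX.hom := isAffineHom_of_isProFinite hX.1
  haveI : IsAffineHom πY.hom := isAffineHom_of_isProFinite hY.1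
  obtain ⟨hmon, -⟩ := id hφ
  constructor
  · rintro ⟨hfl, hsu⟩ H _ _ U c u hc hu hred
    obtain ⟨ψ, _, h, hh, -⟩ := hY.2.2.2 H U c u hc hu
    obtain ⟨_, g, hg⟩ := exists_ptHom_pull f hf x y hfx hpX hφ u hu ψ h hh
    have hqc : QuasiCompact φ.left :=
      haveI : IsAffine πY.left := isAffine_of_isAffineHom πY.hom
      haveI : QuasiCompact (φ.left ≫ πY.hom) := by rw [Over.w]; infer_instance
      QuasiCompact.of_comp φ.left πY.hom
    have hcov : UnipLib.Cover φ := ⟨hfl, hsu, hqc⟩
    exact isNoriReduced_of_ptHom x hx hX (isTorsorFor_pullAct f hf hc)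
      (pullPt_hom f x y hfx u hu) (φ ≫ ψ)
      (hcov.comp (cover_of_isNoriReduced y hy hY hc hred ψ h hh)) g hg
  · intro hsec
    obtain ⟨R⟩ := hY.1
    have hcov : UnipLib.Cover φ := cover_of_forall_quotient R φ fun K _ _ e _ he => by
      obtain ⟨U, c, h, hc, hh⟩ := exists_pushforward_pt e aY hY.2.1 pY
      have hu : (pY ≫ h.left) ≫ U.hom = y := by rw [Category.assoc, Over.w, hY.2.2.1]
      have hred := isNoriReduced_of_ptHom y hy hY hc hu e he h hh
      obtain ⟨_, g, hg⟩ := exists_ptHom_pull f hf x y hfx hpX hφ (pY ≫ h.left) hu e h hh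
      exact cover_of_isNoriReduced x hx hX (isTorsorFor_pullAct f hf hc)
        (hsec K U c _ hc hu hred) (φ ≫ e) g hg
    exact ⟨hcov.flat, hcov.surj⟩

end Groth.Agent.S19815
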