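import Groth.Statements.S19817
import Groth.Agent.NoriLib.Pullback
import Groth.Agent.NoriLib.ProFin
-- import your own Groth.Agent.* helpers here

set_option autoImplicit false
universe u
open CategoryTheory CategoryTheory.Limits MonoidalCategory CartesianMonoidalCategory MonObj GrpObj AlgebraicGeometry
open NoriFGS

namespace Groth.Agent.S19817

open Groth.Agent.NoriLib

/-- Let k be a field and X a scheme over k with a rational point x which possesses a fundamental group
scheme π with its universal pointed torsor. Suppose that there is a natural number M such that, for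
every finite group scheme G over k and every G-torsor over X (locally trivial for the fpqc topology)
pointed over x which is Nori-reduced, the order of G, namely the dimension over k of the coordinate
ring Γ(G, O_G) (a k-algebra through the structure morphism G → Spec k), is at most M. Then π is
finite over k. -/
theorem result
    (k : Type u) [Field k] (X : Scheme.{u}) [X.Over (Spec (CommRingCat.of k))]
    (x : Spec (CommRingCat.of k) ⟶ X) (hx : x ≫ (X ↘ Spec (CommRingCat.of k)) = 𝟙 _)
    (πN : Over (Spec (CommRingCat.of k))) [GrpObj πN] (P : Over X)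
    (a : AlgGrp.Action (Red.bc (X ↘ Spec (CommRingCat.of k)) πN) P) (p : Spec (CommRingCat.of k) ⟶ P.left)
    (hP : NoriFGS.IsFGS x πN a p) (M : ℕ)
    (hM : ∀ (G : Over (Spec (CommRingCat.of k))) [GrpObj G] [IsFinite G.hom] (T : Over X)
      (b : AlgGrp.Action (Red.bc (X ↘ Spec (CommRingCat.of k)) G) T) (t : Spec (CommRingCat.of k) ⟶ T.left),
      NonAbH1.IsTorsorFor Scheme.fpqcPrecoverage b → t ≫ T.hom = x →
      NoriFGS.IsNoriReduced Scheme.fpqcPrecoverage b →
      @Module.finrank k (Coh.Γtop G.left) _ _ (Module.compHom (Coh.Γtop G.left) (Coh.toGlobal G.hom)) ≤ M) :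
    IsFinite πN.hom := by
  haveI : IsAffineHom πN.hom := isAffineHom_of_isProFinite hP.1
  haveI : IsAffine πN.left := isAffine_of_isAffineHom πN.hom
  obtain ⟨R⟩ := hP.1
  letI := R.cat
  letI := R.cofiltered
  let cN : k →+* Γ(πN.left, ⊤) := Coh.toGlobal πN.hom
  letI : Algebra k Γ(πN.left, ⊤) := cN.toAlgebra
  have hrank : Module.rank k Γ(πN.left, ⊤) ≤ M := by
    refine rank_le fun s hs => ?_
    choose iN bN hbN using fun a : Γ(πN.left, ⊤) => exists_appTop_eq R a
    classical
    obtain ⟨i₀, hi₀⟩ := IsCofiltered.inf_objs_exists (s.image iN)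
    letI := R.grp i₀
    haveI := R.finite i₀
    haveI := R.isMonHom_π i₀
    let π₀ : πN ⟶ R.D.obj i₀ := R.π.app i₀
    obtain ⟨K, _, _, e, _, jj, _, hcov, -, hjj⟩ := exists_finite_image π₀
    obtain ⟨T, bT, q, hT, hq⟩ := exists_pushforward_pt e a hP.2.1 p
    have ht : (p ≫ q.left) ≫ T.hom = x := by rw [Category.assoc, Over.w, hP.2.2.1]
    have hle := hM K T bT _ hT ht (isNoriReduced_of_ptHom x hx hP hT ht e hcov q hq)
    have hrange : ∀ z : s, ∃ w : Γ(K.left, ⊤), e.left.appTop w = (z : Γ(πN.left, ⊤)) := by
      intro z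
      obtain ⟨l⟩ := hi₀ (Finset.mem_image_of_mem iN z.2)
      refine ⟨jj.left.appTop ((R.D.map l).left.appTop (bN z)), ?_⟩
      have h1 : e ≫ jj ≫ R.D.map l = R.π.app (iN z) := by
        rw [reassoc_of% hjj]
        exact ((R.π.naturality l).symm.trans (Category.id_comp _))
      conv_rhs => rw [← hbN z, ← h1, Over.comp_left, Over.comp_left, Scheme.Hom.comp_appTop,
        Scheme.Hom.comp_appTop]
      rfl
    choose w hw using hrange
    let cK : k →+* Γ(K.left, ⊤) := Coh.toGlobal K.hom
    letI : Algebra k Γ(K.left, ⊤) := cK.toAlgebra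
    haveI : Module.Finite k Γ(K.left, ⊤) := (K.hom.finite_appTop).comp
      (RingHom.Finite.of_surjective _
        (Scheme.ΓSpecIso (CommRingCat.of k)).commRingCatIsoToRingEquiv.symm.surjective)
    let L : Γ(K.left, ⊤) →ₐ[k] Γ(πN.left, ⊤) :=
      { e.left.appTop.hom with
        commutes' := fun r => by
          show e.left.appTop (K.hom.appTop _) = πN.hom.appTop _
          rw [← CommRingCat.comp_apply, ← Scheme.Hom.comp_appTop, Over.w] }
    have hli : LinearIndependent k w := LinearIndependent.of_comp L.toLinearMap (by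
      convert hs using 1
      funext z
      exact hw z)
    have hcard : s.card ≤ Module.finrank k Γ(K.left, ⊤) := by
      simpa using hli.fintype_card_le_finrank
    refine hcard.trans (le_of_eq_of_le ?_ hle)
    rfl
  haveI : Module.Finite k Γ(πN.left, ⊤) :=
    Module.rank_lt_aleph0_iff.mp (hrank.trans_lt (Cardinal.natCast_lt_aleph0))
  have hfin : cN.Finite := inferInstanceAs (Module.Finite k Γ(πN.left, ⊤))
  have happ : πN.hom.appTop.hom.Finite := RingHom.Finite.of_comp_finite hfin
  exact (HasAffineProperty.iff_of_isAffine (P := @IsFinite)).mpr ⟨inferInstance, happ⟩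

end Groth.Agent.S19817
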