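import Groth.Statements.S19818
import Groth.Agent.NoriLib.ProFin
import Groth.Agent.NoriLib.Basic
import Groth.Agent.GITLib.PushFactor
import Groth.Agent.PrincFP.Basic
import Groth.Agent.AlgSp.FTPoints
-- import your own Groth.Agent.* helpers here

set_option autoImplicit false
universe u
open CategoryTheory CategoryTheory.Limits MonoidalCategory CartesianMonoidalCategory MonObj GrpObj AlgebraicGeometry
open NoriFGS

namespace Groth.Agent.S19818

open CategoryTheory.Limits MonoidalCategory CartesianMonoidalCategory MonObj Groth.Agent.GITLib Groth.Agent.NoriLib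

set_option linter.style.haveILetI false
set_option backward.isDefEq.respectTransparency false

variable {k : Type u} [Field k]

attribute [local instance] IsCofiltered.isConnected NoriFGS.ProFinPres.cat NoriFGS.ProFinPres.cofiltered

/-- An algebraic quotient of a pro-finite group is finite. -/
theorem isFinite_of_profinite {π K : Over (Spec (CommRingCat.of k))} [GrpObj π] (R : NoriFGS.ProFinPres π)
    [IsAffine K.left] [LocallyOfFiniteType K.hom] (e : π ⟶ K) [Flat e.left] [Surjective e.left] :
    IsFinite K.hom := by
  haveI : IsAffineHom π.hom := isAffineHom_of_isProFinite ⟨R⟩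
  haveI : IsAffine π.left := isAffine_of_isAffineHom π.hom
  haveI : IsAffineHom K.hom := inferInstance
  have hinj : Function.Injective e.left.appTop := by
    exact ((AlgebraicGeometry.Flat.flat_and_surjective_iff_faithfullyFlat_of_isAffine e.left).1 ⟨‹_›, ‹_›⟩).injective
  have hft : K.hom.appTop.hom.FiniteType := HasRingHomProperty.appTop (P := @LocallyOfFiniteType) K.hom ‹_›
  have hint : K.hom.appTop.hom.IsIntegral := by
    intro a
    obtain ⟨i, b, hb⟩ := Groth.Agent.NoriLib.exists_appTop_eq R (e.left.appTop a)
    haveI := R.finite i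
    obtain ⟨q, hq, hqb⟩ := ((IsFinite.iff_isIntegralHom_and_locallyOfFiniteType _).1 (R.finite i)).1.isIntegral_app
      ⊤ (isAffineOpen_top _) b
    refine ⟨q, hq, hinj ?_⟩
    rw [Polynomial.hom_eval₂, map_zero]
    have h1 : e.left.appTop.hom.comp K.hom.appTop.hom = π.hom.appTop.hom := by
      rw [← CommRingCat.hom_comp, ← Scheme.Hom.comp_appTop, Over.w]
    have h2 : (R.π.app i).left.appTop.hom.comp (R.D.obj i).hom.appTop.hom = π.hom.appTop.hom := by
      rw [← CommRingCat.hom_comp, ← Scheme.Hom.comp_appTop, Over.w]
      rfl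
    rw [h1, ← h2, ← hb]
    erw [← Polynomial.hom_eval₂]
    exact (congrArg (R.π.app i).left.appTop.hom hqb).trans (map_zero _)
  haveI : IsAffine K.left := ‹_›
  exact (HasAffineProperty.iff_of_isAffine (P := @IsFinite)).2
    ⟨‹_›, RingHom.Finite.of_isIntegral_of_finiteType hint hft⟩

/-- Let k be an algebraically closed field, X a smooth, proper and integral curve over k (of dimension
one) with a rational point x, and let π be a fundamental group scheme of (X, x) with its universal
pointed torsor P. Let G be a connected reductive group over k and F a G-torsor over X (for the base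
change of G to X, locally trivial for the fppf topology). Then F is essentially finite, meaning that
it admits a reduction of structure group to a finite group scheme: there are a finite group scheme Γ
over k, a homomorphism ι : Γ → G and a Γ-torsor Q over X together with an ι-equivariant X-morphism Q
→ F (so that F is obtained from Q by extension of the structure group along ι), if and only if there
is a homomorphism ρ : π → G together with a ρ-equivariant X-morphism P → F (F is obtained from the
universal torsor by extension of the structure group along ρ). -/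
theorem result
    (k : Type u) [Field k] [IsAlgClosed k] (X : Scheme.{u}) [X.Over (Spec (CommRingCat.of k))]
    [AlgebraicGeometry.IsIntegral X] [IsProper (X ↘ Spec (CommRingCat.of k))] [Smooth (X ↘ Spec (CommRingCat.of k))]
    (hdim : topologicalKrullDim X = 1)
    (x : Spec (CommRingCat.of k) ⟶ X) (hx : x ≫ (X ↘ Spec (CommRingCat.of k)) = 𝟙 _)
    (πN : Over (Spec (CommRingCat.of k))) [GrpObj πN] (P : Over X)
    (a : AlgGrp.Action (Red.bc (X ↘ Spec (CommRingCat.of k)) πN) P) (p : Spec (CommRingCat.of k) ⟶ P.left)
    (hP : NoriFGS.IsFGS x πN a p)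
    (G : Over (Spec (CommRingCat.of k))) [GrpObj G] (hG : Red.IsReductiveOver k G)
    (F : Over X) (aF : AlgGrp.Action (Red.bc (X ↘ Spec (CommRingCat.of k)) G) F)
    (hF : NonAbH1.IsTorsorFor Scheme.fppfPrecoverage aF) :
    (∃ (Gf : Over (Spec (CommRingCat.of k))) (_ : GrpObj Gf) (_ : IsFinite Gf.hom) (i : Gf ⟶ G) (_ : IsMonHom i)
        (Q : Over X) (c : AlgGrp.Action (Red.bc (X ↘ Spec (CommRingCat.of k)) Gf) Q),
        NonAbH1.IsTorsorFor Scheme.fppfPrecoverage c ∧
          NonAbH1.IsPushforwardAlongSch ((Over.pullback (X ↘ Spec (CommRingCat.of k))).map i) c aF) ↔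
      ∃ (ρ : πN ⟶ G) (_ : IsMonHom ρ),
        NonAbH1.IsPushforwardAlongSch ((Over.pullback (X ↘ Spec (CommRingCat.of k))).map ρ) a aF := by
  haveI : IsAffine G.left := hG.1
  haveI : Smooth G.hom := hG.2.1
  haveI : IsAffineHom G.hom := inferInstance
  haveI : IsAffineHom πN.hom := isAffineHom_of_isProFinite hP.1
  haveI : IsAffine πN.left := isAffine_of_isAffineHom πN.hom
  constructor
  · rintro ⟨Gf, _, hfin, i, hi, Q, c, hc, g, hg⟩
    haveI := hfin; haveI := hi
    have hcq := isTorsorFor_mono Scheme.fppfPrecoverage_le_fpqcPrecoverage hc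
    haveI hQs : Surjective Q.hom := surjective_of_isLocallyTrivialFor hcq.2
    obtain ⟨hQfin, -, -⟩ := PrincFP.torsor_props _ hc
    haveI : Nonempty ↥(pullback Q.hom x : Scheme.{u}) := by
      haveI : Surjective (pullback.snd Q.hom x) := MorphismProperty.pullback_snd Q.hom x hQs
      obtain ⟨z, -⟩ := (pullback.snd Q.hom x).surjective (IsLocalRing.closedPoint k)
      exact ⟨z⟩
    haveI : IsFinite (pullback.snd Q.hom x) := MorphismProperty.pullback_snd Q.hom x hQfin
    obtain ⟨σ, hσ⟩ := AlgSp.FTPoints.exists_section_of_isAlgClosed (pullback.snd Q.hom x)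
    let t := σ ≫ pullback.fst Q.hom x
    have ht : t ≫ Q.hom = x := by
      simp only [t, Category.assoc]; rw [pullback.condition, reassoc_of% hσ]
    obtain ⟨φ, hφ, f, hf, -⟩ := hP.2.2.2 Gf Q c t hcq ht
    haveI := hφ
    refine ⟨φ ≫ i, inferInstance, f ≫ g, ?_⟩
    have h1 := equiv_pt hf.1 (fst (Red.bc (X ↘ Spec (CommRingCat.of k)) πN) P)
      (snd (Red.bc (X ↘ Spec (CommRingCat.of k)) πN) P)
    rw [lift_fst_snd, Category.id_comp] at h1
    rw [← Category.assoc, h1, Category.assoc, hg, comp_lift_assoc, lift_fst_assoc, lift_snd_assoc,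
      Category.assoc, Functor.map_comp, Category.assoc]
  · rintro ⟨ρ, hρ, h, hh⟩
    haveI := hρ
    obtain ⟨R⟩ := hP.1
    obtain ⟨K, _, e, j, he, hj, hK, hef, hes, hjc, hfac⟩ := UnipLib.exists_image ρ
    haveI := he; haveI := hj; haveI := hK; haveI := hef; haveI := hes; haveI := hjc
    haveI : LocallyOfFiniteType K.hom := by rw [← Over.w j]; infer_instance
    haveI : IsFinite K.hom := isFinite_of_profinite R e
    haveI : IsAffineHom (Red.bc (X ↘ Spec (CommRingCat.of k)) K).hom :=
      MorphismProperty.pullback_snd (P := @IsAffineHom) _ _ inferInstance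
    let u := (Over.pullback (X ↘ Spec (CommRingCat.of k))).map e
    obtain ⟨P', f, hf⟩ := exists_pushforward_affine (J' := Red.bc (X ↘ Spec (CommRingCat.of k)) K) u hP.2.1
    obtain ⟨g, hg⟩ := exists_factor_pushforward u ((Over.pullback (X ↘ Spec (CommRingCat.of k))).map j)
      hP.2.1 P'.isTorsor.1 f hf h (by rw [hh, ← Functor.map_comp, hfac])
    haveI := (PrincFP.finite_lfp_flat K).1
    haveI := (PrincFP.finite_lfp_flat K).2
    haveI : Flat P'.X.hom := property_of_torsor @Flat P'.isTorsor (MorphismProperty.pullback_snd _ _ inferInstance)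
    haveI : LocallyOfFinitePresentation P'.X.hom := property_of_torsor @LocallyOfFinitePresentation P'.isTorsor
      (MorphismProperty.pullback_snd _ _ inferInstance)
    haveI : Surjective P'.X.hom := surjective_of_isLocallyTrivialFor P'.isTorsor.2
    refine ⟨K, inferInstance, inferInstance, j, inferInstance, P'.X, P'.act, ⟨P'.isTorsor.1,
      Presieve.singleton P'.X.hom, P'.X.hom.singleton_mem_fppfPrecoverage, ?_⟩, g, hg⟩
    rintro S' q ⟨⟩
    exact ⟨𝟙 _, Category.id_comp _⟩


end Groth.Agent.S19818
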