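import Groth.Statements.S19819
import Groth.Agent.NoriLib.Pullback
import Groth.Agent.NoriLib.ProFin
-- import your own Groth.Agent.* helpers here

set_option autoImplicit false
universe u
open CategoryTheory CategoryTheory.Limits MonoidalCategory CartesianMonoidalCategory MonObj GrpObj AlgebraicGeometry
open NoriFGS

namespace Groth.Agent.S19819

open Groth.Agent.NoriLib

/-- Let X and Y be schemes over a field k with rational points x and y, each possessing a fundamental
group scheme with its universal pointed torsor, let f : X → Y be a k-morphism sending x to y, and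
let φ be the homomorphism of fundamental group schemes induced by f. Suppose that for every finite
group scheme G over k and every G-torsor T over X (locally trivial for the fpqc topology), pointed
over x and Nori-reduced, there are a finite group scheme H over k, an H-torsor U over Y pointed over
y and Nori-reduced, a homomorphism i : G → H which is a closed immersion and a closed immersion j :
T → U ×_Y X over X, equivariant along i for the base-changed action and sending the marked point of
T to the point of U ×_Y X lying over x and over the marked point of U (T is a pointed sub-torsor of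
the pull-back of U). Then φ is a closed immersion. (The published statement is an equivalence and
does not require the sub-torsor to pass through the marked points; the converse implication fails:
for a finite etale Galois situation with groups V ⊂ S, V the Klein four-group normal in the
symmetric group S on four letters, a subgroup of order two of V is not the intersection of V with
any normal subgroup of S, so the corresponding torsor of order two over X is not a sub-torsor of any
pull-back. The source's standing convention for that chapter assumes the base field has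
characteristic p > 0; the printed proof uses no characteristic hypothesis, so the row states it for
any field.) -/
theorem result
    (k : Type u) [Field k] (X Y : Scheme.{u})
    [X.Over (Spec (CommRingCat.of k))] [Y.Over (Spec (CommRingCat.of k))]
    (x : Spec (CommRingCat.of k) ⟶ X) (y : Spec (CommRingCat.of k) ⟶ Y)
    (hx : x ≫ (X ↘ Spec (CommRingCat.of k)) = 𝟙 _) (hy : y ≫ (Y ↘ Spec (CommRingCat.of k)) = 𝟙 _)
    (f : X ⟶ Y) (hf : f ≫ (Y ↘ Spec (CommRingCat.of k)) = X ↘ Spec (CommRingCat.of k)) (hfx : x ≫ f = y)
    (πX πY : Over (Spec (CommRingCat.of k))) [GrpObj πX] [GrpObj πY] (PX : Over X) (PY : Over Y)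
    (aX : AlgGrp.Action (Red.bc (X ↘ Spec (CommRingCat.of k)) πX) PX)
    (aY : AlgGrp.Action (Red.bc (Y ↘ Spec (CommRingCat.of k)) πY) PY)
    (pX : Spec (CommRingCat.of k) ⟶ PX.left) (pY : Spec (CommRingCat.of k) ⟶ PY.left)
    (hX : NoriFGS.IsFGS x πX aX pX) (hY : NoriFGS.IsFGS y πY aY pY)
    (φ : πX ⟶ πY) (hφ : NoriFGS.IsInducedHom f hf aX pX aY pY φ)
    (hsub : ∀ (G : Over (Spec (CommRingCat.of k))) [GrpObj G] [IsFinite G.hom] (T : Over X)
      (b : AlgGrp.Action (Red.bc (X ↘ Spec (CommRingCat.of k)) G) T) (t : Spec (CommRingCat.of k) ⟶ T.left),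
      NonAbH1.IsTorsorFor Scheme.fpqcPrecoverage b → t ≫ T.hom = x →
      NoriFGS.IsNoriReduced Scheme.fpqcPrecoverage b →
      ∃ (H : Over (Spec (CommRingCat.of k))) (_ : GrpObj H) (_ : IsFinite H.hom) (U : Over Y)
        (c : AlgGrp.Action (Red.bc (Y ↘ Spec (CommRingCat.of k)) H) U) (u : Spec (CommRingCat.of k) ⟶ U.left)
        (i : G ⟶ H) (_ : IsMonHom i) (_ : IsClosedImmersion i.left)
        (j : T ⟶ Red.bc f U) (_ : IsClosedImmersion j.left),
        NonAbH1.IsTorsorFor Scheme.fpqcPrecoverage c ∧ u ≫ U.hom = y ∧
        NoriFGS.IsNoriReduced Scheme.fpqcPrecoverage c ∧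
        AlgGrp.Action.IsEquivariant b
          (((c.bc f).restrict (ActBC.bcCompIso f (Y ↘ Spec (CommRingCat.of k)) H hf).inv).restrict
            ((Over.pullback (X ↘ Spec (CommRingCat.of k))).map i)) j ∧
        t ≫ j.left ≫ pullback.fst U.hom f = u) :
    IsClosedImmersion φ.left := by
  have hpX : pX ≫ PX.hom = x := hX.2.2.1
  haveI : IsAffineHom πX.hom := isAffineHom_of_isProFinite hX.1
  haveI : IsAffineHom πY.hom := isAffineHom_of_isProFinite hY.1
  haveI : IsAffine πX.left := isAffine_of_isAffineHom πX.hom
  haveI : IsAffine πY.left := isAffine_of_isAffineHom πY.hom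
  obtain ⟨R⟩ := hX.1
  letI := R.cat
  refine IsClosedImmersion.of_surjective_of_isAffine φ.left fun a => ?_
  obtain ⟨i₀, b₀, rfl⟩ := exists_appTop_eq R a
  letI := R.grp i₀
  haveI := R.finite i₀
  haveI := R.isMonHom_π i₀
  let π₀ : πX ⟶ R.D.obj i₀ := R.π.app i₀
  obtain ⟨K, _, _, e, _, jj, _, hcov, -, hjj⟩ := exists_finite_image π₀
  obtain ⟨T, bT, q, hT, hq⟩ := exists_pushforward_pt e aX hX.2.1 pX
  have ht : (pX ≫ q.left) ≫ T.hom = x := by rw [Category.assoc, Over.w, hpX]
  have hred := isNoriReduced_of_ptHom x hx hX hT ht e hcov q hq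
  obtain ⟨H, _, _, U, c, u, i, _, hi, j, _, hc, hu, -, hj, hju⟩ := hsub K T bT _ hT ht hred
  obtain ⟨ψ, _, h, hh, -⟩ := hY.2.2.2 H U c u hc hu
  obtain ⟨_, g, hg⟩ := exists_ptHom_pull f hf x y hfx hpX hφ u hu ψ h hh
  have hjpt : NoriFGS.IsPtTorsorHom bT (pX ≫ q.left) (pullAct f hf c)
      (pullPt f x y hfx u hu) i j := by
    refine ⟨hj, eq_pullPt f x y hfx u hu _ ((Category.assoc _ _ _).trans hju) ?_⟩
    rw [Category.assoc, Over.w j, ht]
  obtain ⟨ψ₀, _, f₀, -, huq⟩ := hX.2.2.2 H (Red.bc f U) (pullAct f hf c) (pullPt f x y hfx u hu)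
    (isTorsorFor_pullAct f hf hc) (pullPt_hom f x y hfx u hu)
  have heq : e ≫ i = φ ≫ ψ := (huq _ _ (ptHom_comp hq hjpt)).1.trans (huq _ _ hg).1.symm
  haveI : IsAffine H.left := isAffine_of_isAffineHom H.hom
  obtain ⟨c', hc'⟩ := (IsClosedImmersion.isAffine_surjective_of_isAffine i.left).2 (jj.left.appTop b₀)
  refine ⟨ψ.left.appTop c', ?_⟩
  have h1 : (φ ≫ ψ).left.appTop c' = (e ≫ i).left.appTop c' := by rw [heq]
  rw [Over.comp_left, Over.comp_left, Scheme.Hom.comp_appTop, Scheme.Hom.comp_appTop] at h1
  refine h1.trans ?_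
  show e.left.appTop (i.left.appTop c') = π₀.left.appTop b₀
  rw [hc', ← hjj, Over.comp_left, Scheme.Hom.comp_appTop]
  rfl

end Groth.Agent.S19819
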