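import Groth.Statements.S1984
import Groth.Agent.EtRamLib.Solution
import Groth.Agent.EtRamLib.TotRam
import Groth.Agent.S7158

set_option autoImplicit false
universe u
open EtAlg

namespace Groth.Agent.S1984

open TensorProduct in
/-- Let A -> B be a weakly unramified extension of discrete valuation rings with fraction fields K ⊂ L,
and K₁/K a finite separable extension which is totally ramified with respect to A. Then L ⊗_K K₁ is
a field and K₁ is a weak solution for A -> B (the valuation ring of L ⊗_K K₁ over B is weakly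
unramified over that of K₁ over A). -/
theorem result (A B K L : Type u) [CommRing A] [IsDomain A] [IsDiscreteValuationRing A]
    [CommRing B] [IsDomain B] [IsDiscreteValuationRing B] [Algebra A B] [IsLocalHom (algebraMap A B)]
    (hinj : Function.Injective (algebraMap A B))
    [Field K] [Field L] [Algebra A K] [IsFractionRing A K] [Algebra B L] [IsFractionRing B L]
    [Algebra K L] [Algebra A L] [IsScalarTower A K L] [IsScalarTower A B L]
    (hw : EtRam.IsWeaklyUnramified A B) (K₁ : Type u) [Field K₁] [Algebra K K₁] [FiniteDimensional K K₁]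
    [Algebra.IsSeparable K K₁] (ht : EtRam.IsTotallyRamified A ((algebraMap K K₁).comp (algebraMap A K))) :
    IsField (L ⊗[K] K₁) ∧ EtRam.IsWeakSolution B K L K₁ := by
  classical
  have hweak : EtRam.IsWeakSolution B K L K₁ := by
    intro M _ _ _ _ _ _ hgen W hW
    exact (Groth.Agent.EtRamLib.Solution.main A B K L K₁ M hw hgen W hW (Or.inr ht)).1
  refine ⟨?_, hweak⟩
  -- a compositum
  obtain ⟨I, hI⟩ := Ideal.exists_maximal (L ⊗[K] K₁)
  let M := (L ⊗[K] K₁) ⧸ I
  letI : Field M := Ideal.Quotient.field I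
  letI : Algebra K₁ M := ((Ideal.Quotient.mk I).comp
    (Algebra.TensorProduct.includeRight : K₁ →ₐ[K] L ⊗[K] K₁).toRingHom).toAlgebra
  haveI : IsScalarTower K K₁ M := IsScalarTower.of_algebraMap_eq fun c ↦ by
    change Ideal.Quotient.mk I (algebraMap K (L ⊗[K] K₁) c) =
      Ideal.Quotient.mk I ((Algebra.TensorProduct.includeRight : K₁ →ₐ[K] L ⊗[K] K₁) (algebraMap K K₁ c))
    rw [AlgHom.commutes]
  have hmk : ∀ (l : L) (x : K₁), Ideal.Quotient.mk I (l ⊗ₜ[K] x) = algebraMap L M l * algebraMap K₁ M x := by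
    intro l x
    change _ = Ideal.Quotient.mk I (l ⊗ₜ 1) * Ideal.Quotient.mk I (1 ⊗ₜ x)
    rw [← map_mul, Algebra.TensorProduct.tmul_mul_tmul, mul_one, one_mul]
  have hgen : Algebra.adjoin L (Set.range (algebraMap K₁ M)) = ⊤ := by
    rw [eq_top_iff]
    intro m _
    obtain ⟨q, rfl⟩ := Ideal.Quotient.mk_surjective m
    induction q using TensorProduct.induction_on with
    | zero => rw [map_zero]; exact zero_mem _
    | add a b ha hb => rw [map_add]; exact add_mem (ha Algebra.mem_top) (hb Algebra.mem_top)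
    | tmul l x =>
      rw [hmk]
      exact mul_mem (Subalgebra.algebraMap_mem _ l) (Algebra.subset_adjoin ⟨x, rfl⟩)
  obtain ⟨W, hW⟩ := Groth.Agent.S7158.exists_dominates (K := L) (L := M) B
  obtain ⟨hwu, -⟩ := Groth.Agent.EtRamLib.Solution.main A B K L K₁ M hw hgen W hW (Or.inr ht)
  have hAM : ∀ a : A, algebraMap L M (algebraMap B L (algebraMap A B a)) =
      algebraMap K₁ M (algebraMap K K₁ (algebraMap A K a)) := fun a ↦ by
    rw [← IsScalarTower.algebraMap_apply A B L, IsScalarTower.algebraMap_apply A K L,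
      ← IsScalarTower.algebraMap_apply K L M, IsScalarTower.algebraMap_apply K K₁ M]
  let V := W.comap (algebraMap K₁ M)
  have hV : EtRam.Dominates A ((algebraMap K K₁).comp (algebraMap A K)) V := by
    refine (Groth.Agent.EtRamLib.ValTower.dominates_tower A K K₁ M W ⟨fun a ↦ ?_, fun a ha ↦ ?_⟩).1
    · have := hW.1 (algebraMap A B a)
      simp only [RingHom.coe_comp, Function.comp_apply] at this ⊢
      rwa [IsScalarTower.algebraMap_apply K K₁ M, ← hAM]
    · have := hW.2 _ (map_nonunit (algebraMap A B) a ha)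
      simp only [RingHom.coe_comp, Function.comp_apply] at this ⊢
      rwa [IsScalarTower.algebraMap_apply K K₁ M, ← hAM]
  obtain ⟨π, hπ⟩ := IsDiscreteValuationRing.exists_irreducible A
  obtain ⟨π₁, e, u, hπ₁, heq, hspan⟩ := Groth.Agent.EtRamLib.TotRam.exists_spanning A K K₁ V hV ht hπ
  haveI : FiniteDimensional L M := Module.Finite.of_surjective (Algebra.TensorProduct.lift (Algebra.ofId L M)
    (IsScalarTower.toAlgHom K K₁ M) fun _ _ ↦ Commute.all _ _ : L ⊗[K] K₁ →ₐ[L] M).toLinearMap
    (Groth.Agent.EtRamLib.Solution.surjective_lift K L K₁ M hgen)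
  haveI : IsDiscreteValuationRing V := Groth.Agent.EtRamLib.Solution.isDVR A K K₁ V hV
  haveI : IsDiscreteValuationRing W := Groth.Agent.EtRamLib.Solution.isDVR B L M W hW
  let ι : V →+* W := EtRam.inclOfComap W (algebraMap K₁ M)
  let β : B →+* W := ((algebraMap L M).comp (algebraMap B L)).codRestrict W hW.1
  set q : W := ι π₁ with hq
  have hq0 : q ≠ 0 := fun h ↦ hπ₁.ne_zero (Subtype.ext ((algebraMap K₁ M).injective
    ((congrArg Subtype.val h).trans (map_zero _).symm)))
  have hqm : ¬ IsUnit q := fun h ↦ hπ₁.not_isUnit (isUnit_of_map_unit ι _ h)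
  have hπB : IsLocalRing.maximalIdeal B = Ideal.span {algebraMap A B π} := by
    rw [← hw, hπ.maximalIdeal_eq, Ideal.map_span, Set.image_singleton]
  have hπW : β (algebraMap A B π) = ι (u : V) * q ^ e := by
    apply Subtype.ext
    change algebraMap L M (algebraMap B L (algebraMap A B π)) =
      algebraMap K₁ M ((u : V) : K₁) * ((q ^ e : W) : M)
    rw [SubmonoidClass.coe_pow]
    change _ = _ * algebraMap K₁ M (π₁ : K₁) ^ e
    rw [hAM, heq, map_mul, map_pow]
  -- the powers of `π₁` are independent over `L`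
  have hindB : ∀ b : Fin e → B, ∑ i : Fin e, β (b i) * q ^ (i : ℕ) = 0 →
      ∀ i, algebraMap A B π ∣ b i := by
    intro b hb
    by_contra hcon
    push Not at hcon
    let T := Finset.univ.filter fun i : Fin e ↦ ¬ algebraMap A B π ∣ b i
    have hT : T.Nonempty := ⟨_, Finset.mem_filter.2 ⟨Finset.mem_univ _, hcon.choose_spec⟩⟩
    obtain ⟨i, hi, hmin⟩ := T.exists_min_image (fun i : Fin e ↦ (i : ℕ)) hT
    rw [Finset.mem_filter] at hi
    have hbu : IsUnit (β (b i)) := by
      refine RingHom.isUnit_map β (not_not.1 fun hnu ↦ hi.2 ?_)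
      rw [← Ideal.mem_span_singleton, ← hπB]
      exact (IsLocalRing.mem_maximalIdeal _).2 hnu
    have hdiv : q ^ ((i : ℕ) + 1) ∣ β (b i) * q ^ (i : ℕ) := by
      rw [← Finset.add_sum_erase _ _ (Finset.mem_univ i), add_eq_zero_iff_eq_neg] at hb
      rw [hb, dvd_neg]
      refine Finset.dvd_sum fun j hj ↦ ?_
      by_cases hbj : algebraMap A B π ∣ b j
      · obtain ⟨c, hc⟩ := hbj
        rw [hc, map_mul, hπW]
        refine ((dvd_mul_of_dvd_right (pow_dvd_pow q ?_) _).mul_right _).mul_right _
        exact i.2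
      · refine dvd_mul_of_dvd_right (pow_dvd_pow q ?_) _
        have h1 := hmin j (Finset.mem_filter.2 ⟨Finset.mem_univ _, hbj⟩)
        have h2 : (j : ℕ) ≠ i := fun h ↦ (Finset.mem_erase.1 hj).1 (Fin.ext h)
        change (i : ℕ) + 1 ≤ j
        omega
    rw [hbu.dvd_mul_left] at hdiv
    exact absurd ((pow_dvd_pow_iff hq0 hqm).1 hdiv) (by omega)
  have hind : ∀ l : Fin e → L, ∑ i : Fin e, algebraMap L M (l i) * algebraMap K₁ M (π₁ : K₁) ^ (i : ℕ) = 0 →
      l = 0 := by
    have hπB0 : algebraMap A B π ≠ 0 := (map_ne_zero_iff _ hinj).2 hπ.ne_zero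
    have hall : ∀ (n : ℕ) (b : Fin e → B), ∑ i : Fin e, β (b i) * q ^ (i : ℕ) = 0 →
        ∀ i, algebraMap A B π ^ n ∣ b i := by
      intro n
      induction n with
      | zero => exact fun b _ i ↦ by rw [pow_zero]; exact one_dvd _
      | succ n ih =>
        intro b hb i
        choose c hc using hindB b hb
        have hc0 : ∑ i : Fin e, β (c i) * q ^ (i : ℕ) = 0 := by
          have hne : β (algebraMap A B π) ≠ 0 := fun h ↦ hπB0 (IsFractionRing.injective B L
            ((algebraMap L M).injective ((congrArg Subtype.val h).trans (by simp))))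
          apply mul_left_cancel₀ hne
          rw [mul_zero, Finset.mul_sum, ← hb]
          exact Finset.sum_congr rfl fun i _ ↦ by rw [hc i, map_mul, mul_assoc]
        rw [hc i, pow_succ']
        exact mul_dvd_mul_left _ (ih c hc0 i)
    intro l hl
    obtain ⟨d, hd⟩ := IsLocalization.exist_integer_multiples_of_finite (nonZeroDivisors B) l
    choose b hb using hd
    have hb0 : ∑ i : Fin e, β (b i) * q ^ (i : ℕ) = 0 := by
      apply Subtype.ext
      rw [AddSubmonoidClass.coe_finsetSum, ZeroMemClass.coe_zero, ← mul_zero (algebraMap L M (algebraMap B L d)),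
        ← hl, Finset.mul_sum]
      refine Finset.sum_congr rfl fun i _ ↦ ?_
      rw [MulMemClass.coe_mul, SubmonoidClass.coe_pow]
      change algebraMap L M (algebraMap B L (b i)) * algebraMap K₁ M (π₁ : K₁) ^ (i : ℕ) = _
      rw [hb i, Algebra.smul_def, map_mul, mul_assoc]
    funext i
    have hbi : b i = 0 := by
      by_contra hne
      obtain ⟨n, hn⟩ := FiniteMultiplicity.of_not_isUnit
        (fun hu ↦ hπ.not_isUnit (isUnit_of_map_unit (algebraMap A B) _ hu)) hne
      exact hn (hall (n + 1) b hb0 i)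
    have := hb i
    rw [hbi, map_zero, Algebra.smul_def, eq_comm, mul_eq_zero] at this
    exact this.resolve_left ((map_ne_zero_iff _ (IsFractionRing.injective B L)).2 (nonZeroDivisors.coe_ne_zero d))
  -- every element of the tensor product is a combination of the powers
  have hrep : ∀ x : L ⊗[K] K₁, ∃ l : Fin e → L, x = ∑ i : Fin e, l i ⊗ₜ[K] ((π₁ : K₁) ^ (i : ℕ)) := by
    intro x
    induction x using TensorProduct.induction_on with
    | zero => exact ⟨0, by simp⟩
    | add a b ha hb =>
      obtain ⟨la, rfl⟩ := ha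
      obtain ⟨lb, rfl⟩ := hb
      exact ⟨la + lb, by simp [TensorProduct.add_tmul, Finset.sum_add_distrib]⟩
    | tmul l x =>
      obtain ⟨c, hc⟩ := (Submodule.mem_span_range_iff_exists_fun K).1 (hspan ▸ Submodule.mem_top : x ∈ _)
      refine ⟨fun i ↦ c i • l, ?_⟩
      rw [← hc, TensorProduct.tmul_sum]
      exact Finset.sum_congr rfl fun i _ ↦ by rw [TensorProduct.tmul_smul, TensorProduct.smul_tmul']
  have hIbot : I = ⊥ := by
    rw [eq_bot_iff]
    intro x hx
    obtain ⟨l, rfl⟩ := hrep x
    rw [← Ideal.Quotient.eq_zero_iff_mem, map_sum] at hx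
    simp only [hmk, map_pow] at hx
    rw [hind l hx]
    simp
  subst hIbot
  exact MulEquiv.isField (Field.toIsField M) (RingEquiv.quotientBot (L ⊗[K] K₁)).symm.toMulEquiv

end Groth.Agent.S1984
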