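import Groth.Statements.S19849
import Groth.Agent.HdRVan.FiniteGen
import Groth.Agent.CohTop.Basic
import Groth.Agent.ExtPowSt.Stalk
import Groth.Agent.Omega.DiagUniv
import Groth.Agent.Unram24.ExtPowPull
import Groth.Agent.S9387
import Groth.Agent.S0002

set_option autoImplicit false
set_option backward.isDefEq.respectTransparency.types false
set_option linter.style.haveILetI false
attribute [-instance] CategoryTheory.catToReflQuiver
universe u
open DeRhamSh

namespace Groth.Agent.S19849

open CategoryTheory CategoryTheory.Limits AlgebraicGeometry TopologicalSpace in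
/-- The terms of the de Rham complex of a morphism of finite type are coherent. -/
theorem isCoh_term {X S : Scheme.{u}} {f : X ⟶ S} [LocallyOfFiniteType f] [QuasiSeparated f]
    (D : DeRhamSh.OmegaCx f) (p : ℕ) : Coh.IsCoh (D.term p) := by
  haveI := Groth.Agent.Unram24.ExtPowPull.isQuasicoherent_omega f
  exact Groth.Agent.ExtPowSt.isCoh (i := p) (E := Omega.sheaf f) (L := D.term p) ⟨D.loc p, D.loc_res p⟩
    ⟨inferInstance, Groth.Agent.S9387.result f (Omega.sheaf f) _ (Groth.Agent.Omega.DiagUniv.isUniversal_dOmega f)⟩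

open CategoryTheory CategoryTheory.Limits AlgebraicGeometry TopologicalSpace DerivedCategory in
theorem finite_single (A : Type u) [CommRing A] [IsNoetherianRing A] (X : Scheme.{u})
    (f : X ⟶ Spec (CommRingCat.of A)) [IsProper f] (D : DeRhamSh.OmegaCx f)
    (h : KLinDR.TermwiseLinear (Coh.toGlobal f) D.K D.term D.iso)
    [HasDerivedCategory.{u} (Sheaf (Opens.grothendieckTopology X) AddCommGrpCat.{u})] (i : ℤ) (p : ℕ) (hp : (p : ℤ) ≤ i) :
    Module.Finite A (KLinDR.HTρ (CohCx.freeSheaf (Opens.grothendieckTopology X) (⊤ : X.Opens))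
      ((HomologicalComplex.single (Sheaf (Opens.grothendieckTopology X) AddCommGrpCat.{u}) (ComplexShape.up ℤ) (p : ℤ)).obj
        (D.KZ.X p)) (Groth.Agent.HdRVan.FiniteGen.ρsingle (KLinDR.scalar.{u, u} h) (p : ℤ)) i) := by
  letI : X.Over (Spec (CommRingCat.of A)) := ⟨f⟩
  haveI : IsProper (X ↘ Spec (CommRingCat.of A)) := ‹IsProper f›
  obtain ⟨k, hk⟩ := Int.le.dest hp
  haveI := Groth.Agent.S0002.result A X (D.term p) (isCoh_term D p) k
  let 𝒜 := Sheaf (Opens.grothendieckTopology X) AddCommGrpCat.{u}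
  let j : D.KZ.X (p : ℤ) ≅ Coh.toAb (D.term p) :=
    D.K.extendXIso ComplexShape.embeddingUpNat (ComplexShape.embeddingUpNat_f p) ≪≫ D.iso p
  let η : singleFunctor 𝒜 (p : ℤ) ⋙ shiftFunctor (DerivedCategory 𝒜) i ≅
      singleFunctor 𝒜 0 ⋙ shiftFunctor (DerivedCategory 𝒜) (k : ℤ) :=
    (DerivedCategory.singleFunctors 𝒜).shiftIso i ((p : ℤ) - i) (p : ℤ) (by omega) ≪≫
      ((DerivedCategory.singleFunctors 𝒜).shiftIso (k : ℤ) ((p : ℤ) - i) 0 (by omega)).symm
  let w : Coh.HH X (D.term p) k → Abelian.Ext (CohCx.freeSheaf (Opens.grothendieckTopology X) (⊤ : X.Opens))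
      (D.KZ.X (p : ℤ)) k := fun x =>
    Abelian.Ext.comp (Groth.Agent.CohTop.Basic.HEquivHUTop (X := X.toPresheafedSpace.carrier) (Coh.toAb (D.term p)) k x)
      (Abelian.Ext.mk₀ j.inv) (add_zero k)
  have hw : ∀ (a : A) (x : Coh.HH X (D.term p) k),
      w (a • x) = (w x).comp (Abelian.Ext.mk₀ ((KLinDR.scalar.{u, u} h a : D.KZ ⟶ D.KZ).f (p : ℤ))) (add_zero k) := fun a x => by
    show Abelian.Ext.comp (Groth.Agent.CohTop.Basic.HEquivHUTop (X := X.toPresheafedSpace.carrier) (Coh.toAb (D.term p)) k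
      (Sheaf.H.map (Coh.smulAb (D.term p) (Coh.toGlobal f a)) k x)) (Abelian.Ext.mk₀ j.inv) (add_zero k) = _
    rw [Groth.Agent.CohTop.Basic.HEquivHUTop_map]
    refine (Abelian.Ext.comp_assoc_of_second_deg_zero _ _ _ _).trans ?_
    refine Eq.trans ?_ (Abelian.Ext.comp_assoc_of_second_deg_zero _ _ _ _).symm
    rw [Abelian.Ext.mk₀_comp_mk₀, Abelian.Ext.mk₀_comp_mk₀, KLinDR.scalar_f]
    congr 2
    simp [j, KLinDR.scalarEnd]
  let G : Coh.HH X (D.term p) k →ₗ[A] KLinDR.HTρ (CohCx.freeSheaf (Opens.grothendieckTopology X) (⊤ : X.Opens))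
      ((HomologicalComplex.single 𝒜 (ComplexShape.up ℤ) (p : ℤ)).obj
        (D.KZ.X p)) (Groth.Agent.HdRVan.FiniteGen.ρsingle (KLinDR.scalar.{u, u} h) (p : ℤ)) i :=
    { toFun := fun x => KLinDR.HTρ.toHT.symm ((w x).hom ≫ η.inv.app (D.KZ.X (p : ℤ)))
      map_add' := fun x y => by
        show KLinDR.HTρ.toHT.symm _ = KLinDR.HTρ.toHT.symm _ + KLinDR.HTρ.toHT.symm _
        rw [← map_add]
        refine congrArg _ ?_
        have hadd : w (x + y) = w x + w y := by
          simp only [w, map_add]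
          exact Abelian.Ext.add_comp _ _ _ _
        rw [hadd, Abelian.Ext.add_hom]
        exact Preadditive.add_comp (C := DerivedCategory 𝒜) _ _ _ _ _ _
      map_smul' := fun a x => by
        show (w (a • x)).hom ≫ η.inv.app (D.KZ.X (p : ℤ)) = ((w x).hom ≫ η.inv.app (D.KZ.X (p : ℤ))) ≫
          (shiftFunctor (DerivedCategory 𝒜) i).map ((singleFunctor 𝒜 (p : ℤ)).map ((KLinDR.scalar.{u, u} h a : D.KZ ⟶ D.KZ).f (p : ℤ)))
        rw [hw, Abelian.Ext.comp_hom, Abelian.Ext.mk₀_hom, ShiftedHom.comp_mk₀, Category.assoc, Category.assoc]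
        exact congrArg ((w x).hom ≫ ·) (η.inv.naturality _) }
  refine Module.Finite.of_surjective G fun z => ?_
  let y := Abelian.Ext.homEquiv.symm (KLinDR.HTρ.toHT z ≫ η.hom.app (D.KZ.X (p : ℤ)))
  refine ⟨(Groth.Agent.CohTop.Basic.HEquivHUTop (X := X.toPresheafedSpace.carrier) (Coh.toAb (D.term p)) k).symm
    (y.comp (Abelian.Ext.mk₀ j.hom) (add_zero k)), ?_⟩
  show KLinDR.HTρ.toHT.symm _ = z
  rw [AddEquiv.symm_apply_eq]
  simp only [w, AddEquiv.apply_symm_apply]
  rw [Abelian.Ext.comp_assoc_of_second_deg_zero, Abelian.Ext.mk₀_comp_mk₀, j.hom_inv_id, Abelian.Ext.comp_mk₀_id]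
  show Abelian.Ext.homEquiv y ≫ _ = _
  rw [Equiv.apply_symm_apply]
  exact (Category.assoc _ _ _).trans
    ((congrArg (KLinDR.HTρ.toHT z ≫ ·) (η.hom_inv_id_app _)).trans (Category.comp_id _))

open CategoryTheory AlgebraicGeometry TopologicalSpace in
/-- Let A be a Noetherian ring and f : X → Spec A a proper morphism; let D be a de Rham complex of the
sheaf of differentials of f whose differentials are A-linear for the action of A through f. Then for
every integer i the algebraic de Rham cohomology H^i_dR(X/A) = H^i(X, D), as an A-module, is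
finitely generated. (The A-linearity of the differentials holds for the de Rham complex and is
carried as a hypothesis because the complex is given by its characterising data.) -/
theorem result (A : Type u) [CommRing A] [IsNoetherianRing A] (X : Scheme.{u})
    (f : X ⟶ Spec (CommRingCat.of A)) [IsProper f]
    (D : DeRhamSh.OmegaCx f)
    (h : KLinDR.TermwiseLinear (Coh.toGlobal f) D.K D.term D.iso)
    [HasDerivedCategory.{u} (Sheaf (Opens.grothendieckTopology X) AddCommGrpCat.{u})] (i : ℤ) :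
    Module.Finite A (KLinDR.HdR (Coh.toGlobal f) D h i) := by
  refine Groth.Agent.HdRVan.FiniteGen.finite_HTρ _ (KLinDR.scalar.{u, u} h) (fun q hq => ?_) i
    fun p hp => finite_single A X f D h i p hp
  exact D.K.isZero_extend_X ComplexShape.embeddingUpNat q fun p hp => by
    simp only [ComplexShape.embeddingUpNat_f] at hp
    omega

end Groth.Agent.S19849
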