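import Groth.Statements.S1985
import Groth.Agent.Nagata.Criteria
import Groth.Agent.CAlgA.VNR
-- import your own Groth.Agent.* helpers here

set_option autoImplicit false
universe u
open EtAlg

namespace Groth.Agent.S1985

/-- Let A -> B be an extension of discrete valuation rings whose extension of fraction fields L/K is
separable. If B is a Nagata ring then so is A. -/
theorem result (A B K L : Type u) [CommRing A] [IsDomain A] [IsDiscreteValuationRing A]
    [CommRing B] [IsDomain B] [IsDiscreteValuationRing B] [Algebra A B] [IsLocalHom (algebraMap A B)]
    (hinj : Function.Injective (algebraMap A B))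
    [Field K] [Field L] [Algebra A K] [IsFractionRing A K] [Algebra B L] [IsFractionRing B L]
    [Algebra K L] [Algebra A L] [IsScalarTower A K L] [IsScalarTower A B L] [Algebra.IsSeparable K L] (hB : CAlg.IsNagata B) :
    CAlg.IsNagata A := by
  classical
  have hA : CAlg.IsN2 A := by
    refine Groth.Agent.Nagata.Criteria.isN2_of_purelyInseparable A ?_
    intro M _ _ _ _ _ _
    let K' := FractionRing A
    let e : K' ≃ₐ[A] K := FractionRing.algEquiv A K
    let _ : Algebra K M := ((algebraMap K' M).comp e.symm.toRingEquiv.toRingHom).toAlgebra
    have : IsScalarTower A K M := IsScalarTower.of_algebraMap_eq fun a => by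
      change _ = algebraMap K' M (e.symm (algebraMap A K a))
      rw [e.symm.commutes, ← IsScalarTower.algebraMap_apply]
    have : FiniteDimensional K M := Module.Finite.of_equiv_equiv (A₁ := K') (B₁ := M) (A₂ := K) (B₂ := M)
      e.toRingEquiv (RingEquiv.refl M) (RingHom.ext fun x => congrArg (algebraMap K' M) (e.symm_apply_apply x))
    obtain ⟨p, hp⟩ := ExpChar.exists K'
    set n := IsPurelyInseparable.exponent K' M
    have hrad : ∀ z : M, ∃ k : K, algebraMap K M k = z ^ p ^ n := fun z => by
      obtain ⟨k, hk⟩ := IsPurelyInseparable.exponent_def' K' p z
      exact ⟨e k, (congrArg (algebraMap K' M) (e.symm_apply_apply k)).trans hk⟩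
    let F := TensorProduct K L M
    have : ExpChar L p :=
      expChar_of_injective_ringHom ((algebraMap K L).comp e.toRingEquiv.toRingHom).injective p
    have : Nontrivial F :=
      (Algebra.TensorProduct.includeLeft_injective (S := K) (A := L) (algebraMap K M).injective).nontrivial
    have : ExpChar F p :=
      expChar_of_injective_algebraMap (A := F) (algebraMap L F).injective p
    have hF : ∀ w : F, ∃ l : L, algebraMap L F l = w ^ p ^ n := by
      intro w
      induction w using TensorProduct.induction_on with
      | zero => exact ⟨0, by rw [map_zero, zero_pow (pow_ne_zero _ (expChar_pos K' p).ne')]⟩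
      | tmul l m =>
        obtain ⟨k, hk⟩ := hrad m
        refine ⟨l ^ p ^ n * algebraMap K L k, ?_⟩
        rw [Algebra.TensorProduct.tmul_pow, ← hk, Algebra.TensorProduct.algebraMap_apply,
          Algebra.algebraMap_eq_smul_one k (A := M), TensorProduct.tmul_smul, TensorProduct.smul_tmul',
          Algebra.smul_def k, mul_comm]
        rfl
      | add a b ha hb =>
        obtain ⟨la, hla⟩ := ha
        obtain ⟨lb, hlb⟩ := hb
        exact ⟨la + lb, by rw [map_add, hla, hlb, add_pow_expChar_pow]⟩
    have : IsReduced (TensorProduct K M L) := Groth.Agent.CAlgA.VNR.isReduced_tensor_separable M L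
    have : IsReduced F :=
      isReduced_of_injective (Algebra.TensorProduct.comm K L M) (AlgEquiv.injective _)
    have hfield : IsField F := by
      refine ⟨exists_pair_ne F, mul_comm, fun {w} hw => ?_⟩
      obtain ⟨l, hl⟩ := hF w
      have hl0 : l ≠ 0 := fun h0 => hw (IsReduced.eq_zero w ⟨p ^ n, by rw [← hl, h0, map_zero]⟩)
      have hu : IsUnit (w ^ p ^ n) := hl ▸ (IsUnit.mk0 l hl0).map (algebraMap L F)
      exact ((isUnit_pow_iff (pow_ne_zero _ (expChar_pos K' p).ne')).mp hu).exists_right_inv
    let _ : Field F := hfield.toField
    have hB2 : CAlg.IsN2 B :=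
      Groth.Agent.Props.N2Local.isN2_of_ringEquiv (RingEquiv.quotientBot B) (hB.2 ⊥)
    have hfinB : Module.Finite B (integralClosure B F) :=
      Groth.Agent.Props.N2Local.finite_integralClosure hB2 L F
    let C := integralClosure A M
    have : FaithfulSMul A M := (faithfulSMul_iff_algebraMap_injective A M).mpr (by
      rw [IsScalarTower.algebraMap_eq A K M]
      exact (algebraMap K M).injective.comp (IsFractionRing.injective A K))
    have : FaithfulSMul A L := (faithfulSMul_iff_algebraMap_injective A L).mpr (by
      rw [IsScalarTower.algebraMap_eq A K L]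
      exact (algebraMap K L).injective.comp (IsFractionRing.injective A K))
    have hAB : Module.Flat A B := by
      rw [IsDedekindDomain.flat_iff_torsion_eq_bot, ← Submodule.isTorsionFree_iff_torsion_eq_bot]
      have := (faithfulSMul_iff_algebraMap_injective A B).mpr hinj
      infer_instance
    have : Module.FaithfullyFlat A B := Module.FaithfullyFlat.of_flat_of_isLocalHom
    have : Module.Flat A M := by
      rw [IsDedekindDomain.flat_iff_torsion_eq_bot, ← Submodule.isTorsionFree_iff_torsion_eq_bot]
      infer_instance
    let Φ : TensorProduct A B C →ₐ[B] F :=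
      Algebra.TensorProduct.lift (Algebra.ofId B F)
        ((Algebra.TensorProduct.includeRight.restrictScalars A).comp C.val) fun _ _ => Commute.all _ _
    have h1 : ∀ z, Φ z ∈ integralClosure B F := by
      intro z
      induction z using TensorProduct.induction_on with
      | zero => rw [map_zero]; exact Subalgebra.zero_mem _
      | add u v hu hv => rw [map_add]; exact Subalgebra.add_mem _ hu hv
      | tmul b c =>
        rw [Algebra.TensorProduct.lift_tmul]
        exact Subalgebra.mul_mem _ (Subalgebra.algebraMap_mem _ _)
          (((c.2 : IsIntegral A (c : M)).map (Algebra.TensorProduct.includeRight.restrictScalars A :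
            M →ₐ[A] F)).tower_top)
    have hΦ : Function.Injective Φ := by
      let j : TensorProduct A B C →ₐ[A] TensorProduct A L M :=
        Algebra.TensorProduct.map (IsScalarTower.toAlgHom A B L) C.val
      have : Module.Flat A C := by
        rw [IsDedekindDomain.flat_iff_torsion_eq_bot, ← Submodule.isTorsionFree_iff_torsion_eq_bot]
        infer_instance
      have : Module.Flat A L := by
        rw [IsDedekindDomain.flat_iff_torsion_eq_bot, ← Submodule.isTorsionFree_iff_torsion_eq_bot]
        infer_instance
      have hj : Function.Injective j := by
        have h2 : j.toLinearMap = ((C.val.toLinearMap).lTensor L) ∘ₗ ((IsScalarTower.toAlgHom A B L).toLinearMap.rTensor C) :=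
          TensorProduct.ext' fun b c => rfl
        change Function.Injective j.toLinearMap
        rw [h2, LinearMap.coe_comp]
        exact (Module.Flat.lTensor_preserves_injective_linearMap _ Subtype.val_injective).comp
          (Module.Flat.rTensor_preserves_injective_linearMap _ (IsFractionRing.injective B L))
      let e' : F ≃ₐ[K] TensorProduct A L M := IsLocalization.algebraTensorEquiv (nonZeroDivisors A) K L M
      have hcomp : ∀ z, j z = e' (Φ z) := by
        intro z
        induction z using TensorProduct.induction_on with
        | zero => simp
        | add u v hu hv => rw [map_add, map_add, map_add, hu, hv]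
        | tmul b c =>
          simp [j, e', Φ, F, Algebra.ofId_apply, Algebra.TensorProduct.algebraMap_apply,
            Algebra.TensorProduct.tmul_mul_tmul]
          rfl
      intro u v huv
      exact hj (by rw [hcomp, hcomp, huv])
    have : IsNoetherian B (integralClosure B F) := isNoetherian_of_isNoetherianRing_of_finite B _
    have : Module.Finite B (TensorProduct A B C) :=
      Module.Finite.of_injective (LinearMap.codRestrict (Subalgebra.toSubmodule (integralClosure B F))
        Φ.toLinearMap h1) fun a b h => hΦ (congrArg Subtype.val h)
    exact Module.Finite.of_finite_tensorProduct_of_faithfullyFlat B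
  refine ⟨inferInstance, fun q hq => ?_⟩
  rcases eq_or_ne q ⊥ with rfl | hne
  · exact Groth.Agent.Props.N2Local.isN2_of_ringEquiv (RingEquiv.quotientBot A).symm hA
  · have := hq.isMaximal hne
    intro M _ _ _ _ hM
    let F := FractionRing (A ⧸ q)
    have : Module.Finite (A ⧸ q) F := Module.Finite.of_surjective (Algebra.linearMap (A ⧸ q) F) fun z => by
      obtain ⟨a, b, hb, rfl⟩ := IsFractionRing.div_surjective (A ⧸ q) z
      let _ : Field (A ⧸ q) := Ideal.Quotient.field q
      exact ⟨a / b, by simp⟩
    have : Module.Finite (A ⧸ q) M := Module.Finite.trans F M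
    have : IsNoetherian (A ⧸ q) M := isNoetherian_of_isNoetherianRing_of_finite (A ⧸ q) M
    exact Module.Finite.iff_fg.mpr
      (IsNoetherian.noetherian (Subalgebra.toSubmodule (integralClosure (A ⧸ q) M)))

end Groth.Agent.S1985
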