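import Mathlib
import Groth.Statements.S19856
-- import your own Groth.Agent.* helpers here

set_option autoImplicit false
universe u v
open CAlg

namespace Groth.Agent.S19856

/-- Ring-level form: let O be a discrete valuation ring and G a finite group acting faithfully on O by
ring automorphisms, such that every element of G acts trivially on the residue field of O (that is,
g • a - a lies in the maximal ideal for all a) and such that the order of G is nonzero in the
residue field of O. Then G is cyclic. (The source states this for a finite group of order invertible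
in an algebraically closed field k acting faithfully on a smooth connected k-variety and the
subgroup of elements fixing pointwise a codimension-one irreducible component of the ramification
locus, applied to the local ring at the generic point of that component; it is stated here for an
arbitrary discrete valuation ring with a faithful action. The source also shows that this subgroup
is nontrivial; that geometric part is not stated.) -/
theorem result
    (O : Type u) [CommRing O] [IsDomain O] [IsDiscreteValuationRing O]
    (G : Type v) [Group G] [Finite G] [MulSemiringAction G O] [FaithfulSMul G O]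
    (htriv : ∀ (g : G) (a : O), g • a - a ∈ IsLocalRing.maximalIdeal O)
    (hcard : ((Nat.card G : ℕ) : IsLocalRing.ResidueField O) ≠ 0) :
    IsCyclic G := by
  classical
  obtain ⟨ϖ, hϖ⟩ := IsDiscreteValuationRing.exists_irreducible O
  have hm : IsLocalRing.maximalIdeal O = Ideal.span {ϖ} := hϖ.maximalIdeal_eq
  let res := IsLocalRing.residue O
  have hdvd : ∀ g : G, ϖ ∣ g • ϖ := fun g => by
    have h := htriv g ϖ
    rw [hm, Ideal.mem_span_singleton] at h
    exact (dvd_sub_left dvd_rfl).mp h
  choose q hq using hdvd
  let χ : G →* IsLocalRing.ResidueField O :=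
    { toFun := fun g => res (q g)
      map_one' := by
        have : q 1 = 1 := mul_left_cancel₀ hϖ.ne_zero (by rw [mul_one, ← hq, one_smul])
        simp [this]
      map_mul' := fun g h => by
        have h1 : q (g * h) = q g * g • q h := mul_left_cancel₀ hϖ.ne_zero (by
          rw [← hq, mul_smul, hq h, smul_mul', hq g, mul_assoc])
        have h2 : res (g • q h) = res (q h) := by
          rw [← sub_eq_zero, ← map_sub]
          exact (IsLocalRing.residue_eq_zero_iff _).mpr (htriv g _)
        rw [h1, map_mul, h2] }
  refine isCyclic_of_subgroup_isDomain (R := IsLocalRing.ResidueField O) χ ?_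
  rw [injective_iff_map_eq_one]
  intro g hg
  let δ : O → O := fun a => g • a - a
  have hδmul : ∀ a b, δ (a * b) = δ a * g • b + a * δ b := fun a b => by
    simp only [δ, smul_mul']; ring
  have hδ1 : δ ϖ ∈ IsLocalRing.maximalIdeal O ^ 2 := by
    have h1 : q g - 1 ∈ IsLocalRing.maximalIdeal O := by
      rw [← IsLocalRing.residue_eq_zero_iff, map_sub, map_one, sub_eq_zero]
      exact hg
    have h2 : δ ϖ = ϖ * (q g - 1) := by simp only [δ, hq, mul_sub, mul_one]
    rw [h2, pow_two]
    exact Ideal.mul_mem_mul (hm ▸ Ideal.mem_span_singleton_self ϖ) h1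
  let M := IsLocalRing.maximalIdeal O
  have hgM : ∀ a ∈ M, g • a ∈ M := fun a ha => sub_add_cancel (g • a) a ▸ add_mem (htriv g a) ha
  have hϖM : ϖ ∈ M := by
    show ϖ ∈ IsLocalRing.maximalIdeal O
    rw [hm]; exact Ideal.mem_span_singleton_self ϖ
  have hcast : ∀ (k : ℕ) (z : O), (orderOf g : O) * z ∈ M ^ k → z ∈ M ^ k := by
    intro k z hz
    have hu : IsUnit (orderOf g : O) := by
      rw [← IsLocalRing.residue_ne_zero_iff_isUnit, map_natCast]
      intro h0
      obtain ⟨c, hc⟩ := orderOf_dvd_natCard g
      exact hcard (by rw [hc, Nat.cast_mul, h0, zero_mul])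
    exact (Ideal.unit_mul_mem_iff_mem _ hu).mp hz
  have hiter : ∀ (I : Ideal O) (a : O), (∀ k : ℕ, g ^ k • δ a - δ a ∈ I) →
      ∀ n : ℕ, g ^ n • a - a - (n : O) * δ a ∈ I := by
    intro I a h n
    induction n with
    | zero => simp
    | succ n ih =>
      have h1 : g ^ (n + 1) • a - a - ((n + 1 : ℕ) : O) * δ a =
          (g ^ n • δ a - δ a) + (g ^ n • a - a - (n : O) * δ a) := by
        simp only [δ, pow_succ, mul_smul, smul_sub, Nat.cast_succ]
        ring
      rw [h1]
      exact add_mem (h n) ih
  have hkill : ∀ (I : Ideal O) (a : O), (∀ k : ℕ, g ^ k • δ a - δ a ∈ I) → (orderOf g : O) * δ a ∈ I := by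
    intro I a h
    have := hiter I a h (orderOf g)
    rw [pow_orderOf_eq_one, one_smul, sub_self, zero_sub] at this
    exact neg_mem_iff.mp this
  have main : ∀ j, 1 ≤ j → (∀ a, δ a ∈ M ^ j) ∧ δ ϖ ∈ M ^ (j + 1) := by
    intro j hj
    induction j, hj using Nat.le_induction with
    | base => exact ⟨fun a => by simpa [M] using htriv g a, hδ1⟩
    | succ j hj ih =>
      obtain ⟨h1, h2⟩ := ih
      have hmul : ∀ (I : Ideal O), (∀ x ∈ I, δ x ∈ I) → ∀ (k : ℕ) (x : O), x ∈ I → g ^ k • x - x ∈ I := by
        intro I hI k
        induction k with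
        | zero => intro x _; simp
        | succ k ihk =>
          intro x hx
          have : g ^ (k + 1) • x - x = (g ^ k • (g • x) - g • x) + δ x := by
            simp only [δ, pow_succ, mul_smul]; ring
          rw [this]
          exact add_mem (ihk _ (by simpa [δ] using add_mem (hI x hx) hx)) (hI x hx)
      have hM1 : ∀ x ∈ M, δ x ∈ M ^ (j + 1) := by
        intro x hx
        rw [show M = Ideal.span {ϖ} from hm, Ideal.mem_span_singleton] at hx
        obtain ⟨y, rfl⟩ := hx
        rw [hδmul]
        refine add_mem (Ideal.mul_mem_right _ _ h2) ?_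
        rw [pow_succ']
        exact Ideal.mul_mem_mul hϖM (h1 y)
      have hA : ∀ a, δ a ∈ M ^ (j + 1) := by
        intro a
        refine hcast _ _ (hkill _ a fun k => ?_)
        induction k with
        | zero => simp
        | succ k ihk =>
          have hd : δ a ∈ M := Ideal.pow_le_self (by omega) (h1 a)
          have h3 : g ^ (k + 1) • δ a - δ a = g ^ k • δ (δ a) + (g ^ k • δ a - δ a) := by
            simp only [δ, pow_succ, mul_smul, smul_sub]; ring
          rw [h3]
          refine add_mem ?_ ihk
          have h4 := hmul (M ^ (j + 1)) (fun x hx => hM1 x (Ideal.pow_le_self (by omega) hx)) k _ (hM1 _ hd)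
          simpa using add_mem h4 (hM1 _ hd)
      refine ⟨hA, hcast _ _ (hkill _ ϖ fun k => ?_)⟩
      have hM2 : ∀ x ∈ M ^ (j + 1), δ x ∈ M ^ (j + 1 + 1) := by
        intro x hx
        rw [pow_succ', show M = Ideal.span {ϖ} from hm] at hx
        obtain ⟨y, hy, rfl⟩ := Ideal.mem_span_singleton_mul.mp hx
        rw [hδmul]
        refine add_mem ?_ ?_
        · rw [pow_succ]
          refine Ideal.mul_mem_mul h2 (hgM y ?_)
          rw [← show M = Ideal.span {ϖ} from hm] at hy
          exact Ideal.pow_le_self (n := j) (by omega) hy
        · rw [pow_succ']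
          exact Ideal.mul_mem_mul hϖM (hA y)
      induction k with
      | zero => simp
      | succ k ihk =>
        have h3 : g ^ (k + 1) • δ ϖ - δ ϖ = g ^ k • δ (δ ϖ) + (g ^ k • δ ϖ - δ ϖ) := by
          simp only [δ, pow_succ, mul_smul, smul_sub]; ring
        rw [h3]
        refine add_mem ?_ ihk
        have h4 := hmul (M ^ (j + 1 + 1)) (fun x hx => hM2 x (Ideal.pow_le_pow_right (by omega) hx)) k _ (hM2 _ h2)
        simpa using add_mem h4 (hM2 _ h2)
  refine FaithfulSMul.eq_of_smul_eq_smul (α := O) fun a => ?_
  rw [one_smul, ← sub_eq_zero]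
  have hbot := Ideal.iInf_pow_eq_bot_of_isLocalRing M (IsLocalRing.maximalIdeal.isMaximal O).ne_top
  rw [← Ideal.mem_bot, ← hbot, Submodule.mem_iInf]
  intro j
  rcases Nat.eq_zero_or_pos j with rfl | hj
  · simp
  · exact (main j hj).1 a

end Groth.Agent.S19856
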