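import Groth.Statements.S19857
import Groth.Agent.Synt44.Mor
import Groth.Agent.Synt44.FlatLCI
import Groth.Agent.FlatMor.LCIChart
import Groth.Agent.RegImm44.Local
import Mathlib.AlgebraicGeometry.Morphisms.Smooth
import Mathlib.AlgebraicGeometry.Morphisms.Flat

set_option autoImplicit false
universe u

namespace Groth.Agent.S19857

open CategoryTheory AlgebraicGeometry CategoryTheory.Limits

open CategoryTheory AlgebraicGeometry in
/-- Let S be a scheme, p : X ⟶ S and q : Y ⟶ S smooth morphisms and f : X ⟶ Y a morphism over S (f ≫ q =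
p) which is flat. Then f is syntomic (affine-locally given by flat ring maps of finite presentation
whose fibres are local complete intersections). -/
theorem result {X Y S : Scheme.{u}}
    (p : X ⟶ S) (q : Y ⟶ S) [Smooth p] [Smooth q] (f : X ⟶ Y) (hf : f ≫ q = p) [Flat f] :
    Synt.IsSyntomicMor f := by
  have hid : ∀ x : X, Synt.IsKoszulAt (𝟙 X) x := fun x => by
    refine ⟨⊤, X, (⊤ : X.Opens).ι, 𝟙 X, trivial, inferInstance, ?_, inferInstance, rfl⟩
    haveI : IsIso (⊤ : X.Opens).ι := by rw [← Scheme.topIso_hom]; infer_instance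
    refine ⟨inferInstance, fun z => ?_⟩
    obtain ⟨W, hW, hzW, -⟩ := exists_isAffineOpen_mem_and_subset (show (⊤ : X.Opens).ι z ∈ (⊤ : X.Opens) from trivial)
    refine ⟨⟨W, hW⟩, hzW, inferInstance, [], ?_, ?_⟩
    · exact Groth.Agent.KReg44.isKoszulRegularSeq_nil
    · rw [Ideal.ofList_nil, RingHom.ker_eq_bot_iff_eq_zero]
      exact fun a ha => (ConcreteCategory.bijective_of_isIso ((⊤ : X.Opens).ι.app W)).1 (ha.trans (map_zero _).symm)
  let Γ := pullback.lift (𝟙 X) f (by rw [Category.id_comp, hf]) (f := p) (g := q)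
  haveI hft : LocallyOfFiniteType f :=
    haveI : LocallyOfFiniteType (f ≫ q) := by rw [hf]; infer_instance
    locallyOfFiniteType_of_comp f q
  haveI : IsImmersion (Γ ≫ pullback.fst p q) := by rw [pullback.lift_fst]; infer_instance
  haveI : IsImmersion Γ := IsImmersion.of_comp Γ (pullback.fst p q)
  have hΓ : RegImm.IsRegularImmersion .koszul Γ :=
    Groth.Agent.RegImm44.isRegularImmersion_of_isKoszulAt hid (pullback.fst p q) Γ (pullback.lift_fst _ _ _)
  have hk : ∀ x : X, Synt.IsKoszulAt f x := fun x =>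
    ⟨⊤, _, (⊤ : X.Opens).ι ≫ Γ, pullback.snd p q, trivial, inferInstance,
      Groth.Agent.RegImm44.isRegularImmersion_open_comp _ _ hΓ, inferInstance,
      by rw [Category.assoc, pullback.lift_snd]⟩
  rw [Groth.Agent.Synt44.isSyntomicMor_iff_appLE]
  rintro ⟨V, hV⟩ ⟨U, hU⟩ e
  letI := (f.appLE V U e).hom.toAlgebra
  haveI : Module.Flat Γ(Y, V) Γ(X, U) := HasRingHomProperty.appLE @Flat f inferInstance ⟨V, hV⟩ ⟨U, hU⟩ e
  exact Groth.Agent.Synt44.isSyntomic_of_isLCI (Groth.Agent.FlatMor.LCIChart.isLCI_of_isKoszulAt f hk U V hU hV e)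

end Groth.Agent.S19857
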