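import Groth.Statements.S1986
import Groth.Agent.EtRamLib.SepDescentSolution
import Groth.Agent.S1985

set_option autoImplicit false
universe u
open EtAlg

namespace Groth.Agent.S1986

open IsLocalRing in
/-- residue fields of algebraic extensions are algebraic -/
theorem algebraic_residue (A K L : Type u) [CommRing A] [IsDomain A] [IsDiscreteValuationRing A] [Field K]
    [Algebra A K] [IsFractionRing A K] [Field L] [Algebra K L] [Algebra.IsAlgebraic K L]
    [Algebra A L] [IsScalarTower A K L] (V : ValuationSubring L) [Algebra A V] [IsScalarTower A V L]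
    [IsLocalHom (algebraMap A V)] : Algebra.IsAlgebraic (ResidueField A) (ResidueField V) := by
  constructor
  intro x
  obtain ⟨v, rfl⟩ := IsLocalRing.residue_surjective x
  obtain ⟨q, hq, hqv⟩ : IsAlgebraic A (v : L) :=
    (IsFractionRing.isAlgebraic_iff A K L).2 (Algebra.IsAlgebraic.isAlgebraic _)
  obtain ⟨π, hπ⟩ := IsDiscreteValuationRing.exists_irreducible A
  have hCπ : Irreducible (Polynomial.C π) := (Polynomial.prime_C_iff.2 hπ.prime).irreducible
  obtain ⟨n, r, hr, rfl⟩ := WfDvdMonoid.max_power_factor hq hCπ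
  refine ⟨r.map (IsLocalRing.residue A), fun h ↦ hr ((Polynomial.C_dvd_iff_dvd_coeff _ _).2 fun i ↦ ?_), ?_⟩
  · rw [← Ideal.mem_span_singleton, ← hπ.maximalIdeal_eq, ← residue_eq_zero_iff, ← Polynomial.coeff_map, h,
      Polynomial.coeff_zero]
  · have hinj : Function.Injective (algebraMap A L) := by
      rw [IsScalarTower.algebraMap_eq A K L]
      exact (algebraMap K L).injective.comp (IsFractionRing.injective A K)
    have h0 : Polynomial.aeval v r = 0 := by
      apply Subtype.ext
      rw [map_mul, map_pow, Polynomial.aeval_C, mul_eq_zero,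
        pow_eq_zero_iff'] at hqv
      rcases hqv with ⟨h, -⟩ | h
      · exact absurd (hinj (h.trans (map_zero _).symm)) hπ.ne_zero
      · change algebraMap V L (Polynomial.aeval v r) = 0
        rw [← Polynomial.aeval_algebraMap_apply]
        exact h
    rw [Polynomial.aeval_def, Polynomial.eval₂_map, show (algebraMap (ResidueField A) (ResidueField V)).comp (residue A) = (residue V).comp (algebraMap A V) from rfl,
      ← Polynomial.hom_eval₂, ← Polynomial.aeval_def, h0, map_zero]

open IsLocalRing Groth.Agent.EtRamLib in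
theorem descend (A B K L : Type u) [CommRing A] [IsDomain A] [IsDiscreteValuationRing A]
    [CommRing B] [IsDomain B] [IsDiscreteValuationRing B] [Algebra A B] [IsLocalHom (algebraMap A B)]
    [Field K] [Field L] [Algebra A K] [IsFractionRing A K] [Algebra B L] [IsFractionRing B L]
    [Algebra K L] [Algebra A L] [IsScalarTower A K L] [IsScalarTower A B L] [Algebra.IsSeparable K L]
    (hNB : CAlg.IsN2 B) (hNA : CAlg.IsN2 A) (K₂ : Type u) [Field K₂] [Algebra K K₂] [FiniteDimensional K K₂]
    (h₂ : EtRam.IsSolution B K L K₂)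
    (K₃ : Type u) [Field K₃] [Algebra K K₃] [Algebra K₃ K₂] [IsScalarTower K K₃ K₂] [FiniteDimensional K K₃]
    [Algebra.IsSeparable K K₃] [IsPurelyInseparable K₃ K₂]
    (M : Type u) [Field M] [Algebra K M] [Algebra L M] [Algebra K₃ M] [IsScalarTower K L M] [IsScalarTower K K₃ M]
    (hgen : Algebra.adjoin L (Set.range (algebraMap K₃ M)) = ⊤) (W : ValuationSubring M)
    (hW : EtRam.Dominates B ((algebraMap L M).comp (algebraMap B L)) W) :
    letI : Algebra (W.comap (algebraMap K₃ M)) W := (EtRam.inclOfComap W (algebraMap K₃ M)).toAlgebra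
    EtRam.IsWeaklyUnramified (W.comap (algebraMap K₃ M)) W ∧
      @Algebra.IsGeometricallyReduced (ResidueField (W.comap (algebraMap K₃ M))) (ResidueField W) _ _
        (IsLocalRing.ResidueField.map (EtRam.inclOfComap W (algebraMap K₃ M))).toAlgebra := by
  classical
  haveI : FiniteDimensional K₃ K₂ := Module.Finite.of_restrictScalars_finite K K₃ K₂
  haveI : FiniteDimensional L M := Module.Finite.of_surjective (Algebra.TensorProduct.lift (Algebra.ofId L M)
    (IsScalarTower.toAlgHom K K₃ M) fun _ _ ↦ Commute.all _ _ : TensorProduct K L K₃ →ₐ[L] M).toLinearMap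
    (Solution.surjective_lift K L K₃ M hgen)
  haveI : Algebra.IsSeparable L M := by
    have hs : ∀ x ∈ Set.range (algebraMap K₃ M), IsSeparable L x := by
      rintro _ ⟨x, rfl⟩
      have : IsSeparable K (algebraMap K₃ M x) := by
        rw [IsSeparable, minpoly.algebraMap_eq (algebraMap K₃ M).injective]
        exact Algebra.IsSeparable.isSeparable K x
      exact this.tower_top L
    have h : Algebra.IsSeparable L (IntermediateField.adjoin L (Set.range (algebraMap K₃ M))) :=
      (IntermediateField.isSeparable_adjoin_iff_isSeparable L M).2 hs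
    have htop : IntermediateField.adjoin L (Set.range (algebraMap K₃ M)) = ⊤ := by
      rw [eq_top_iff]
      intro y _
      exact IntermediateField.algebra_adjoin_le_adjoin L _ (hgen ▸ Algebra.mem_top)
    rw [htop] at h
    exact Algebra.IsSeparable.of_algHom L _ IntermediateField.topEquiv.symm.toAlgHom
  haveI : Algebra.IsSeparable K M := Algebra.IsSeparable.trans K L M
  haveI : Algebra.IsSeparable K₃ M := Algebra.isSeparable_tower_top_of_isSeparable K K₃ M
  -- the field `M₂ = M ⊗ K₂`
  obtain ⟨p, hp⟩ := ExpChar.exists K₃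
  haveI : ExpChar M p := expChar_of_injective_ringHom (algebraMap K₃ M).injective p
  have hfield : IsField (TensorProduct K₃ M K₂) := by
    haveI : IsReduced (TensorProduct K₃ K₂ M) := Groth.Agent.CAlgA.VNR.isReduced_tensor_separable K₂ M
    haveI : IsReduced (TensorProduct K₃ M K₂) :=
      isReduced_of_injective (Algebra.TensorProduct.comm K₃ M K₂) (AlgEquiv.injective _)
    haveI : Nontrivial (TensorProduct K₃ M K₂) :=
      (Algebra.TensorProduct.includeLeft_injective (S := K₃) (A := M) (algebraMap K₃ K₂).injective).nontrivial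
    haveI : ExpChar (TensorProduct K₃ M K₂) p :=
      expChar_of_injective_algebraMap (algebraMap M (TensorProduct K₃ M K₂)).injective p
    have hpw : ∀ w : TensorProduct K₃ M K₂, ∃ (n : ℕ) (m : M), algebraMap M _ m = w ^ p ^ n := by
      intro w
      induction w using TensorProduct.induction_on with
      | zero => exact ⟨0, 0, by simp⟩
      | tmul m x =>
        obtain ⟨n, c, hc⟩ := IsPurelyInseparable.pow_mem K₃ p x
        refine ⟨n, m ^ p ^ n * algebraMap K₃ M c, ?_⟩
        rw [Algebra.TensorProduct.tmul_pow, ← hc, Algebra.TensorProduct.algebraMap_apply,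
          Algebra.algebraMap_eq_smul_one c (A := K₂), TensorProduct.tmul_smul, TensorProduct.smul_tmul',
          Algebra.smul_def c, mul_comm]
        rfl
      | add a b ha hb =>
        obtain ⟨i, x, hx⟩ := ha
        obtain ⟨j, y, hy⟩ := hb
        refine ⟨i + j, x ^ p ^ j + y ^ p ^ i, ?_⟩
        rw [add_pow_expChar_pow, map_add, map_pow, map_pow, hx, hy, ← pow_mul, ← pow_mul, ← pow_add, ← pow_add, add_comm j i]
    refine ⟨exists_pair_ne _, mul_comm, fun {w} hw => ?_⟩
    obtain ⟨n, m, hm⟩ := hpw w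
    have hm0 : m ≠ 0 := fun h0 => hw (IsReduced.eq_zero w ⟨p ^ n, by rw [← hm, h0, map_zero]⟩)
    have hu : IsUnit (w ^ p ^ n) := hm ▸ (IsUnit.mk0 m hm0).map (algebraMap M _)
    exact ((isUnit_pow_iff (pow_ne_zero _ (expChar_pos K₃ p).ne')).mp hu).exists_right_inv
  let M₂ := TensorProduct K₃ M K₂
  letI : Field M₂ := hfield.toField
  haveI : FiniteDimensional M M₂ := Module.Finite.base_change K₃ M K₂
  have hrank : Module.finrank M M₂ = Module.finrank K₃ K₂ := Module.finrank_baseChange
  haveI : IsPurelyInseparable M M₂ := by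
    haveI : ExpChar M₂ p := expChar_of_injective_algebraMap (algebraMap M M₂).injective p
    rw [isPurelyInseparable_iff_pow_mem M p]
    intro w
    induction w using TensorProduct.induction_on with
    | zero => exact ⟨0, by simp⟩
    | tmul m x =>
      obtain ⟨n, c, hc⟩ := IsPurelyInseparable.pow_mem K₃ p x
      refine ⟨n, m ^ p ^ n * algebraMap K₃ M c, ?_⟩
      rw [Algebra.TensorProduct.tmul_pow, ← hc, Algebra.TensorProduct.algebraMap_apply,
        Algebra.algebraMap_eq_smul_one c (A := K₂), TensorProduct.tmul_smul, TensorProduct.smul_tmul',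
        Algebra.smul_def c, mul_comm]
      rfl
    | add a b ha hb =>
      obtain ⟨i, x, hx⟩ := ha
      obtain ⟨j, y, hy⟩ := hb
      refine ⟨i + j, x ^ p ^ j + y ^ p ^ i, ?_⟩
      rw [add_pow_expChar_pow, map_add, map_pow, map_pow, hx, hy, ← pow_mul, ← pow_mul, ← pow_add, ← pow_add, add_comm j i]
  letI : Algebra K₂ M₂ := (Algebra.TensorProduct.includeRight : K₂ →ₐ[K₃] M₂).toRingHom.toAlgebra
  have hK₃ : ∀ c : K₃, algebraMap M M₂ (algebraMap K₃ M c) = algebraMap K₂ M₂ (algebraMap K₃ K₂ c) := fun c ↦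
    ((Algebra.TensorProduct.includeLeft : M →ₐ[K₃] M₂).commutes c).trans
      ((Algebra.TensorProduct.includeRight : K₂ →ₐ[K₃] M₂).commutes c).symm
  haveI : IsScalarTower L M M₂ := IsScalarTower.of_algebraMap_eq fun _ ↦ rfl
  haveI : IsScalarTower K M M₂ := IsScalarTower.of_algebraMap_eq fun _ ↦ rfl
  haveI : IsScalarTower K L M₂ := IsScalarTower.of_algebraMap_eq fun c ↦ by
    rw [IsScalarTower.algebraMap_apply K M M₂, IsScalarTower.algebraMap_apply L M M₂, ← IsScalarTower.algebraMap_apply K L M]
  haveI : IsScalarTower K K₂ M₂ := IsScalarTower.of_algebraMap_eq fun c ↦ by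
    rw [IsScalarTower.algebraMap_apply K M M₂, IsScalarTower.algebraMap_apply K K₃ K₂, ← hK₃, ← IsScalarTower.algebraMap_apply K K₃ M]
  have hgen₂ : Algebra.adjoin L (Set.range (algebraMap K₂ M₂)) = ⊤ := by
    rw [eq_top_iff]
    intro w hw0
    clear hw0
    have hM : ∀ m : M, algebraMap M M₂ m ∈ Algebra.adjoin L (Set.range (algebraMap K₂ M₂)) := by
      intro m
      have hm : m ∈ Algebra.adjoin L (Set.range (algebraMap K₃ M)) := hgen ▸ Algebra.mem_top
      induction hm using Algebra.adjoin_induction with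
      | mem x hx =>
        obtain ⟨x, rfl⟩ := hx
        exact Algebra.subset_adjoin ⟨_, (hK₃ x).symm⟩
      | algebraMap r => exact Subalgebra.algebraMap_mem _ r
      | add x y _ _ hx hy => rw [map_add]; exact add_mem hx hy
      | mul x y _ _ hx hy => rw [map_mul]; exact mul_mem hx hy
    induction w using TensorProduct.induction_on with
    | zero => exact zero_mem _
    | add a b ha hb => exact add_mem ha hb
    | tmul m x =>
      have : m ⊗ₜ[K₃] x = algebraMap M M₂ m * algebraMap K₂ M₂ x := by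
        change m ⊗ₜ[K₃] x = (m ⊗ₜ[K₃] (1 : K₂)) * ((1 : M) ⊗ₜ[K₃] x)
        rw [Algebra.TensorProduct.tmul_mul_tmul, mul_one, one_mul]
      rw [this]
      exact mul_mem (hM m) (Algebra.subset_adjoin ⟨x, rfl⟩)
  obtain ⟨W₂, hW₂, hcW₂⟩ := ValTower.exists_extension (M := M₂) B _ W hW
  have hW₂' : EtRam.Dominates B ((algebraMap L M₂).comp (algebraMap B L)) W₂ := hW₂
  obtain ⟨hwu, hgr⟩ := h₂ M₂ hgen₂ W₂ hW₂'
  -- the four valuation rings
  let A₁ := W.comap (algebraMap K₃ M)
  let A₂ := W₂.comap (algebraMap K₂ M₂)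
  have hcA : ∀ c : K₃, c ∈ A₁ ↔ algebraMap K₃ K₂ c ∈ A₂ := fun c ↦ by
    rw [ValuationSubring.mem_comap, ValuationSubring.mem_comap, ← hK₃, ← hcW₂, ValuationSubring.mem_comap]
  letI : Algebra A₁ W := (EtRam.inclOfComap W (algebraMap K₃ M)).toAlgebra
  letI : Algebra A₂ W₂ := (EtRam.inclOfComap W₂ (algebraMap K₂ M₂)).toAlgebra
  have hmemW : ∀ {m : M}, m ∈ W → algebraMap M M₂ m ∈ W₂ := fun {m} hm ↦ by
    rw [← ValuationSubring.mem_comap, hcW₂]; exact hm
  have hmemW' : ∀ m : M, algebraMap M M₂ m ∈ W₂ → m ∈ W := fun m hm ↦ by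
    rw [← hcW₂]; exact hm
  letI : Algebra W W₂ := (((algebraMap M M₂).comp W.subtype).codRestrict W₂
    (fun w ↦ hmemW w.2)).toAlgebra
  letI : Algebra A₁ A₂ := (((algebraMap K₃ K₂).comp A₁.subtype).codRestrict A₂ (fun c ↦ (hcA c).1 c.2)).toAlgebra
  letI : Algebra A₁ W₂ := ((algebraMap W W₂).comp (algebraMap A₁ W)).toAlgebra
  haveI : IsScalarTower A₁ W W₂ := IsScalarTower.of_algebraMap_eq fun _ ↦ rfl
  haveI : IsScalarTower A₁ A₂ W₂ := IsScalarTower.of_algebraMap_eq fun c ↦ Subtype.ext (hK₃ c)
  haveI : IsLocalHom (algebraMap A₁ W) := inferInstanceAs (IsLocalHom (EtRam.inclOfComap W (algebraMap K₃ M)))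
  haveI : IsLocalHom (algebraMap A₂ W₂) := inferInstanceAs (IsLocalHom (EtRam.inclOfComap W₂ (algebraMap K₂ M₂)))
  haveI : IsLocalHom (algebraMap W W₂) := ⟨fun w hu ↦ by
    obtain ⟨v, hv⟩ := hu.exists_right_inv
    have hv' : algebraMap M M₂ (w : M) * (v : M₂) = 1 := congrArg Subtype.val hv
    have hw0 : (w : M) ≠ 0 := fun h ↦ by rw [h, map_zero, zero_mul] at hv'; exact zero_ne_one hv'
    have hwinv : (w : M)⁻¹ ∈ W := by
      refine hmemW' _ ?_
      rw [map_inv₀, ← eq_inv_of_mul_eq_one_right hv']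
      exact v.2
    exact IsUnit.of_mul_eq_one ⟨_, hwinv⟩ (Subtype.ext (mul_inv_cancel₀ hw0))⟩
  haveI : IsLocalHom (algebraMap A₁ A₂) := ⟨fun c hu ↦ by
    obtain ⟨v, hv⟩ := hu.exists_right_inv
    have hv' : algebraMap K₃ K₂ (c : K₃) * (v : K₂) = 1 := congrArg Subtype.val hv
    have hc0 : (c : K₃) ≠ 0 := fun h ↦ by rw [h, map_zero, zero_mul] at hv'; exact zero_ne_one hv'
    have hcinv : (c : K₃)⁻¹ ∈ A₁ := by
      rw [hcA, map_inv₀, ← eq_inv_of_mul_eq_one_right hv']
      exact v.2
    exact IsUnit.of_mul_eq_one ⟨_, hcinv⟩ (Subtype.ext (mul_inv_cancel₀ hc0))⟩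
  have hAM : ∀ a : A, algebraMap L M (algebraMap B L (algebraMap A B a)) =
      algebraMap K₃ M (algebraMap K K₃ (algebraMap A K a)) := fun a ↦ by
    rw [← IsScalarTower.algebraMap_apply A B L, IsScalarTower.algebraMap_apply A K L,
      ← IsScalarTower.algebraMap_apply K L M, IsScalarTower.algebraMap_apply K K₃ M]
  have hdA : EtRam.Dominates A ((algebraMap K K₃).comp (algebraMap A K)) A₁ := by
    refine (ValTower.dominates_tower A K K₃ M W ⟨fun a ↦ ?_, fun a ha ↦ ?_⟩).1
    · have := hW.1 (algebraMap A B a)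
      simp only [RingHom.coe_comp, Function.comp_apply] at this ⊢
      rwa [IsScalarTower.algebraMap_apply K K₃ M, ← hAM]
    · have := hW.2 _ (map_nonunit (algebraMap A B) a ha)
      simp only [RingHom.coe_comp, Function.comp_apply] at this ⊢
      rwa [IsScalarTower.algebraMap_apply K K₃ M, ← hAM]
  have hdA₂ : EtRam.Dominates A ((algebraMap K K₂).comp (algebraMap A K)) A₂ := by
    have heq : ∀ a : A, (algebraMap K K₂).comp (algebraMap A K) a =
        (algebraMap A₁ A₂ ⟨_, hdA.1 a⟩ : K₂) := fun a ↦ IsScalarTower.algebraMap_apply K K₃ K₂ _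
    refine ⟨fun a ↦ (heq a).symm ▸ SetLike.coe_mem _, fun a ha ↦ ?_⟩
    rw [heq a, ← A₂.valuation_lt_one_iff]
    exact map_nonunit (algebraMap A₁ A₂) _ ((A₁.valuation_lt_one_iff _).2 (hdA.2 a ha))
  haveI : FiniteDimensional L M₂ := Module.Finite.trans M M₂
  haveI : IsDiscreteValuationRing W := Solution.isDVR B L M W hW
  haveI : IsDiscreteValuationRing W₂ := Solution.isDVR B L M₂ W₂ hW₂'
  haveI : IsDiscreteValuationRing A₁ := Solution.isDVR A K K₃ A₁ hdA
  haveI : IsDiscreteValuationRing A₂ := Solution.isDVR A K K₂ A₂ hdA₂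
  haveI : Module.Finite W W₂ := SepDescentSolution.finite_purelyInseparable B L hNB W hW W₂ (fun _ ↦ rfl)
    hmemW'
  haveI : Module.Finite A₁ A₂ := SepDescentSolution.finite_purelyInseparable A K hNA A₁ hdA A₂ (fun _ ↦ rfl)
    fun m hm ↦ (hcA m).2 hm
  haveI : IsLocalHom (algebraMap A₁ W₂) := RingHom.isLocalHom_comp (algebraMap W W₂) (algebraMap A₁ W)
  haveI := ValTower.residue_tower A₁ A₂ W₂
  haveI := ValTower.residue_tower A₁ W W₂
  haveI := SepDescentSolution.residue_purelyInseparable W W₂ (fun _ ↦ rfl) hmemW'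
  haveI := SepDescentSolution.residue_purelyInseparable A₁ A₂ (fun _ ↦ rfl) fun m hm ↦ (hcA m).2 hm
  -- residue fields are algebraic
  haveI : Algebra.IsAlgebraic (ResidueField A₁) (ResidueField W) := by
    letI : Algebra A₁ M := ((algebraMap K₃ M).comp A₁.subtype).toAlgebra
    haveI : IsScalarTower A₁ K₃ M := IsScalarTower.of_algebraMap_eq fun _ ↦ rfl
    haveI : IsScalarTower A₁ W M := IsScalarTower.of_algebraMap_eq fun _ ↦ rfl
    exact algebraic_residue A₁ K₃ M W
  haveI : Algebra.IsAlgebraic (ResidueField A₂) (ResidueField W₂) := by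
    haveI : Algebra.IsAlgebraic (ResidueField A₁) (ResidueField W₂) :=
      Algebra.IsAlgebraic.trans _ (ResidueField W) _
    exact Algebra.IsAlgebraic.tower_top (K := ResidueField A₁) (ResidueField A₂)
  haveI hgr₂ : Algebra.IsGeometricallyReduced (ResidueField A₂) (ResidueField W₂) := by
    convert hgr using 1
    refine Algebra.algebra_ext _ _ fun x ↦ ?_
    obtain ⟨x, rfl⟩ := IsLocalRing.residue_surjective x
    rfl
  haveI := SepDescentSolution.isSeparable_of_geometricallyReduced (k := ResidueField A₂) (K := ResidueField W₂)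
  obtain ⟨hf, hsep⟩ := SepDescentSolution.residue_lemma (k := ResidueField A₁) (k₂ := ResidueField A₂)
    (kW := ResidueField W) (kW₂ := ResidueField W₂)
  have e1 := SepDescentSolution.e_mul_f W W₂ fun _ ↦ rfl
  have e2 := SepDescentSolution.e_mul_f A₁ A₂ fun _ ↦ rfl
  have hi : ∀ {X Y : Type u} [Field X] [Field Y] (g : X →+* Y) {S : ValuationSubring X} {T : ValuationSubring Y}
      (j : S →+* T), (∀ x, (j x : Y) = g x) → Function.Injective j := fun g S T j hj a b h ↦
    Subtype.ext (g.injective (by rw [← hj, ← hj, h]))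
  have hi₁ : Function.Injective (algebraMap A₁ A₂) := hi (algebraMap K₃ K₂) _ fun _ ↦ rfl
  have hi₂ : Function.Injective (algebraMap A₂ W₂) := hi (algebraMap K₂ M₂) _ fun _ ↦ rfl
  have hi₃ : Function.Injective (algebraMap A₁ W) := hi (algebraMap K₃ M) _ fun _ ↦ rfl
  have hi₄ : Function.Injective (algebraMap W W₂) := hi (algebraMap M M₂) _ fun _ ↦ rfl
  have e3 := ValTower.ramificationIdx'_tower A₁ A₂ W₂ hi₁ hi₂
  have e4 := ValTower.ramificationIdx'_tower A₁ W W₂ hi₃ hi₄
  rw [(ValTower.isWeaklyUnramified_iff A₂ W₂ hi₂).1 hwu, mul_one] at e3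
  have hq : 0 < Module.finrank K₃ K₂ := Module.finrank_pos
  rw [hrank] at e1
  rw [e3] at e4
  have key : Module.finrank (ResidueField W) (ResidueField W₂) =
      Ideal.ramificationIdx' (maximalIdeal A₁) (maximalIdeal W) * Module.finrank (ResidueField A₁) (ResidueField A₂) := by
    have h0 : 0 < Ideal.ramificationIdx' (maximalIdeal W) (maximalIdeal W₂) :=
      Nat.pos_of_ne_zero fun h ↦ by rw [h, zero_mul] at e1; omega
    apply Nat.eq_of_mul_eq_mul_left h0
    rw [e1, ← e2, e4]
    ring
  have hf₂ : 0 < Module.finrank (ResidueField A₁) (ResidueField A₂) :=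
    Nat.pos_of_ne_zero fun h ↦ by rw [h, mul_zero] at e2; omega
  have he : Ideal.ramificationIdx' (maximalIdeal A₁) (maximalIdeal W) = 1 := by
    have h1 : Ideal.ramificationIdx' (maximalIdeal A₁) (maximalIdeal W) ≤ 1 := by
      by_contra h
      have h2 : 2 * Module.finrank (ResidueField A₁) (ResidueField A₂) ≤
          Ideal.ramificationIdx' (maximalIdeal A₁) (maximalIdeal W) * Module.finrank (ResidueField A₁) (ResidueField A₂) :=
        Nat.mul_le_mul_right _ (by omega)
      omega
    have h3 : Ideal.ramificationIdx' (maximalIdeal A₁) (maximalIdeal W) ≠ 0 := fun h ↦ by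
      rw [e4, h, zero_mul, zero_mul] at e2; omega
    omega
  refine ⟨(ValTower.isWeaklyUnramified_iff A₁ W hi₃).2 he, ?_⟩
  haveI := hsep (by rw [key, he, one_mul])
  haveI : Algebra.IsGeometricallyReduced (ResidueField A₁) (ResidueField W) :=
    (Algebra.isGeometricallyReduced_field_iff _ _).2 (Groth.Agent.CAlgA.VNR.isReduced_tensor_separable _ _)
  convert (inferInstance : Algebra.IsGeometricallyReduced (ResidueField A₁) (ResidueField W)) using 1
  refine Algebra.algebra_ext _ _ fun x ↦ ?_
  obtain ⟨x, rfl⟩ := IsLocalRing.residue_surjective x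
  rfl

/-- Let A -> B be an extension of discrete valuation rings with separable extension of fraction fields
L/K and B a Nagata ring. If some finite extension of K is a solution for A -> B, then some finite
separable extension of K is a solution as well. -/
theorem result (A B K L : Type u) [CommRing A] [IsDomain A] [IsDiscreteValuationRing A]
    [CommRing B] [IsDomain B] [IsDiscreteValuationRing B] [Algebra A B] [IsLocalHom (algebraMap A B)]
    (hinj : Function.Injective (algebraMap A B))
    [Field K] [Field L] [Algebra A K] [IsFractionRing A K] [Algebra B L] [IsFractionRing B L]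
    [Algebra K L] [Algebra A L] [IsScalarTower A K L] [IsScalarTower A B L] [Algebra.IsSeparable K L] (hB : CAlg.IsNagata B)
    (K₂ : Type u) [Field K₂] [Algebra K K₂] [FiniteDimensional K K₂] (h₂ : EtRam.IsSolution B K L K₂) :
    ∃ (K₃ : Type u) (_ : Field K₃) (_ : Algebra K K₃) (_ : FiniteDimensional K K₃) (_ : Algebra.IsSeparable K K₃),
      EtRam.IsSolution B K L K₃ := by
  classical
  obtain ⟨h1, h2⟩ : CAlg.IsN2 B ∧ CAlg.IsN2 A := by
    refine ⟨Groth.Agent.Props.N2Local.isN2_of_ringEquiv (RingEquiv.quotientBot B) (hB.2 ⊥), ?_⟩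
    exact Groth.Agent.Props.N2Local.isN2_of_ringEquiv (RingEquiv.quotientBot A)
      ((Groth.Agent.S1985.result A B K L hinj hB).2 ⊥)
  refine ⟨separableClosure K K₂, inferInstance, inferInstance, inferInstance, inferInstance, ?_⟩
  intro M _ _ _ _ _ _ hgen W hW
  exact descend A B K L h1 h2 K₂ h₂ (separableClosure K K₂) M hgen W hW

end Groth.Agent.S1986
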