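import Groth.Statements.S19860
import Groth.Agent.TwistFlat.Hilb
-- import your own Groth.Agent.* helpers here

set_option autoImplicit false
set_option linter.style.haveILetI false
universe u
open CategoryTheory CategoryTheory.Limits AlgebraicGeometry
open Variety

namespace Groth.Agent.S19860

open Groth.Agent TopologicalSpace in
theorem flat_of_euler_eq {A : Type u} [CommRing A] [IsDomain A] [IsNoetherianRing A] [IsLocalRing A]
    {X : Scheme.{u}} (f : X ⟶ Spec (CommRingCat.of A)) [IsProper f] (L F : X.Modules)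
    (hL : RelAmple.IsRelAmple f L) (hF : Coh.IsCoh F)
    (h : ∀ n, TwistFlat.chiFib f L F (⊥ : PrimeSpectrum A) n =
      TwistFlat.chiFib f L F (IsLocalRing.closedPoint A) n) :
    FlatMod.IsFlatOver f F := by
  let S := Spec (CommRingCat.of A)
  have hspec : ∀ s : S, s ⤳ (IsLocalRing.closedPoint A : S) := fun s => IsLocalRing.specializes_closedPoint s
  intro x
  let V : S.Opens := ⊤
  have hV : IsAffineOpen V := isAffineOpen_top _
  haveI : IsAffine (V : Scheme.{u}) := hV
  have hW : IsAffineOpen (V.ι ''ᵁ ⊤) := (isAffineOpen_top _).image_of_isOpenImmersion V.ι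
  have htop : ∀ s : S, s ∈ V.ι ''ᵁ ⊤ := fun s => (Scheme.Opens.ι_image_top V).ge trivial
  haveI : IsNoetherianRing Γ(S, V.ι ''ᵁ ⊤) := IsLocallyNoetherian.component_noetherian ⟨_, hW⟩
  set c := hW.primeIdealOf ⟨IsLocalRing.closedPoint A, htop _⟩
  have hc : TwistFlat.pt hW c = (IsLocalRing.closedPoint A : S) :=
    hW.fromSpec_primeIdealOf ⟨IsLocalRing.closedPoint A, htop _⟩
  set b := hW.primeIdealOf ⟨(⊥ : PrimeSpectrum A), htop _⟩
  have hb : TwistFlat.pt hW b = ((⊥ : PrimeSpectrum A) : S) :=
    hW.fromSpec_primeIdealOf ⟨(⊥ : PrimeSpectrum A), htop _⟩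
  have hind := hW.isOpenImmersion_fromSpec.base_open.isInducing
  have hle : ∀ q : PrimeSpectrum Γ(S, V.ι ''ᵁ ⊤), q.asIdeal ≤ c.asIdeal := fun q =>
    (PrimeSpectrum.le_iff_specializes q c).2 (hind.specializes_iff.1 (by
      show TwistFlat.pt hW q ⤳ TwistFlat.pt hW c
      rw [hc]; exact hspec _))
  have hmin : ∀ m : PrimeSpectrum Γ(S, V.ι ''ᵁ ⊤), m.asIdeal ∈ minimalPrimes Γ(S, V.ι ''ᵁ ⊤) → m = b :=
    fun m hm => by
    have hbm : b.asIdeal ≤ m.asIdeal :=
      (PrimeSpectrum.le_iff_specializes b m).2 (hind.specializes_iff.1 (by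
        show TwistFlat.pt hW b ⤳ TwistFlat.pt hW m
        rw [hb]
        exact (PrimeSpectrum.le_iff_specializes _ _).1 (show (⊥ : PrimeSpectrum A) ≤ (TwistFlat.pt hW m : PrimeSpectrum A) from bot_le)))
    exact PrimeSpectrum.ext (le_antisymm (hm.2 ⟨b.2, bot_le⟩ hbm) hbm)
  obtain ⟨Nb, hNb⟩ := TwistFlat.exists_forall_chiFib_eq_fib f L F hL hF hW b
  obtain ⟨Nc, hNc⟩ := TwistFlat.exists_forall_chiFib_eq_fib f L F hL hF hW c
  refine TwistFlat.isFlatOverAt_of_flat_localized f L F V hL hF hV hW x (htop _) (N := max Nb Nc) fun k hk => ?_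
  haveI := (TwistFlat.finite_and_flat_push f L F (V.ι ''ᵁ ⊤) hL hF hW).1 k
  let M := Γ((Coh.push f).obj (CohB1.tensorMod F (CohB1.tensorPow L k)), V.ι ''ᵁ ⊤)
  haveI hflc : Module.Flat Γ(S, V.ι ''ᵁ ⊤) (LocalizedModule c.asIdeal.primeCompl M) := by
    refine TwistFlat.flat_localized_of_fib _ c fun m hm _ => ?_
    have e1 := hNb k ((le_max_left _ _).trans hk)
    have e2 := hNc k ((le_max_right _ _).trans hk)
    rw [hb, h k, ← hc, e2] at e1
    rw [hmin m hm]
    exact_mod_cast e1.symm
  have hu : ∀ s : c.asIdeal.primeCompl, IsUnit (s : Γ(S, V.ι ''ᵁ ⊤)) := fun s => by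
    by_contra hs
    obtain ⟨q, hq, hsq⟩ := exists_max_ideal_of_mem_nonunits hs
    exact s.2 (hle ⟨q, hq.isPrime⟩ hsq)
  haveI : IsLocalizedModule c.asIdeal.primeCompl (LinearMap.id : M →ₗ[Γ(S, V.ι ''ᵁ ⊤)] M) := by
    haveI : IsLocalization c.asIdeal.primeCompl Γ(S, V.ι ''ᵁ ⊤) :=
      IsLocalization.self fun s hs => hu ⟨s, hs⟩
    exact isLocalizedModule_id c.asIdeal.primeCompl M Γ(S, V.ι ''ᵁ ⊤)
  haveI : Module.Flat Γ(S, V.ι ''ᵁ ⊤) M :=
    Module.Flat.of_linearEquiv (IsLocalizedModule.iso c.asIdeal.primeCompl LinearMap.id).symm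
  let p := (hW.primeIdealOf ⟨f x, htop _⟩).asIdeal
  haveI := IsLocalization.flat (Localization.AtPrime p) p.primeCompl
  exact Module.Flat.of_linearEquiv
    ((LocalizedModule.equivTensorProduct p.primeCompl M).restrictScalars Γ(S, V.ι ''ᵁ ⊤))


/-- Let A be a Noetherian local integral domain, f : X ⟶ Spec A a proper morphism, L an invertible
O_X-module ample relative to f and F a coherent O_X-module. Then F is flat over Spec A if and only
if the Hilbert polynomials of F on the generic fibre and on the closed fibre coincide: for every n ≥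
0 the Euler characteristic, over the fraction field, of the pullback of F ⊗ L^{⊗n} to the fibre over
the generic point equals the Euler characteristic, over the residue field, of its pullback to the
fibre over the closed point. (The source works with k-schemes of finite type over an algebraically
closed field of characteristic zero, A a local integral k-algebra and f projective with a relatively
very ample O(1); the argument uses only that A is a Noetherian local domain and that some power of L
is relatively very ample, so it is stated here for proper f with an f-ample L and no base field.) -/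
theorem result
    (A : Type u) [CommRing A] [IsDomain A] [IsNoetherianRing A] [IsLocalRing A]
    (X : Scheme.{u}) (f : X ⟶ Spec (CommRingCat.of A)) [IsProper f]
    (L : X.Modules) (hL : RelAmple.IsRelAmple f L) (F : X.Modules) (hF : Coh.IsCoh F) :
    FlatMod.IsFlatOver f F ↔
      ∀ n : ℕ,
        @Curv2.euler ((Spec (CommRingCat.of A)).residueField (⊥ : PrimeSpectrum A)) _ (f.fiber (⊥ : PrimeSpectrum A))
          ⟨f.fiberToSpecResidueField (⊥ : PrimeSpectrum A)⟩
          ((Scheme.Modules.pullback (f.fiberι (⊥ : PrimeSpectrum A))).obj (CohB1.tensorMod F (CohB1.tensorPow L n))) =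
        @Curv2.euler ((Spec (CommRingCat.of A)).residueField (IsLocalRing.closedPoint A)) _ (f.fiber (IsLocalRing.closedPoint A))
          ⟨f.fiberToSpecResidueField (IsLocalRing.closedPoint A)⟩
          ((Scheme.Modules.pullback (f.fiberι (IsLocalRing.closedPoint A))).obj (CohB1.tensorMod F (CohB1.tensorPow L n))) := by
  refine ⟨fun hfl n => ?_, fun h => flat_of_euler_eq f L F hL hF h⟩
  obtain ⟨U, hU, hUe⟩ := Groth.Agent.TwistFlat.exists_nhd_chiFib_eq f L F hL hF hfl (IsLocalRing.closedPoint A)
  exact hUe _ ((IsLocalRing.specializes_closedPoint (⊥ : PrimeSpectrum A)).mem_open U.2 hU) n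

end Groth.Agent.S19860
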