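import Groth.Statements.S19863
import Groth.Agent.EGA4Lib.FibreLoc
import Groth.Agent.EGA4Lib.FibreComp
import Groth.Agent.S2611

set_option linter.style.haveILetI false

set_option autoImplicit false
universe u
open EGA4

namespace Groth.Agent.S19863

/-- Let A be a Noetherian ring, J a proper ideal of A, Â the J-adic completion and A_T the localization
of A at T = 1 + J. If the canonical map A → Â is a regular homomorphism (flat, with Noetherian
geometrically regular fibres), then A_T is a regular ring if and only if Â is a regular ring
(Noetherian, with regular local rings at all primes). (The cases of the henselization of the pair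
and of the weak completion are not stated here.) -/
theorem result
    (A : Type u) [CommRing A] [IsNoetherianRing A] (J : Ideal A) (hJ : J ≠ ⊤)
    (hf : CAlg.IsRegularHom A (AdicCompletion J A))
    (T : Submonoid A) (hT : T = MonoidHom.mker (Ideal.Quotient.mk J)) :
    IsRegularRing (Localization T) ↔ IsRegularRing (AdicCompletion J A) := by
  haveI : IsNoetherianRing (AdicCompletion J A) := RegLoc.Completion.isNoetherianRing_adicCompletion' J
  obtain ⟨_, _, _⟩ := EGA4Lib.exists_oneAdd_algebra J T hT
  haveI : IsNoetherianRing (Localization T) := IsLocalization.isNoetherianRing T _ inferInstance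
  constructor
  · intro h
    rw [isRegularRing_iff]
    intro q _
    haveI := hf.1
    obtain ⟨P, _, ⟨e⟩⟩ := EGA4Lib.nonempty_localization_disjoint (T := T) (q.comap (algebraMap A _))
      (hT ▸ EGA4Lib.disjoint_oneAdd J q)
    haveI := IsRegularRing.isRegularLocalRing_localization P
    haveI : IsRegularLocalRing (Localization.AtPrime (q.comap (algebraMap A (AdicCompletion J A)))) :=
      IsRegularLocalRing.of_ringEquiv (R := Localization.AtPrime P) e.symm
    haveI := EGA4Lib.isRegularLocalRing_fibLocRing A (fun p _ => (hf.2 p).2) q
    exact EGA4Lib.isRegularLocalRing_of_regular_fibre (A := A) q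
  · intro h
    rw [isRegularRing_iff]
    intro P hP
    obtain ⟨q, hq⟩ := PrimeSpectrum.comap_surjective_of_faithfullyFlat
      (A := Localization T) (B := AdicCompletion J A) ⟨P, hP⟩
    have hPq : P = q.asIdeal.comap (algebraMap (Localization T) (AdicCompletion J A)) :=
      (congrArg PrimeSpectrum.asIdeal hq).symm
    subst hPq
    haveI := IsRegularRing.isRegularLocalRing_localization q.asIdeal
    letI : Algebra (Localization.AtPrime (q.asIdeal.comap (algebraMap (Localization T) (AdicCompletion J A))))
        (Localization.AtPrime q.asIdeal) :=
      (Localization.localRingHom _ q.asIdeal (algebraMap (Localization T) (AdicCompletion J A)) rfl).toAlgebra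
    haveI : IsLocalHom (algebraMap (Localization.AtPrime (q.asIdeal.comap (algebraMap (Localization T)
        (AdicCompletion J A)))) (Localization.AtPrime q.asIdeal)) :=
      Localization.isLocalHom_localRingHom _ _ _ rfl
    haveI : Module.Flat (Localization.AtPrime (q.asIdeal.comap (algebraMap (Localization T)
        (AdicCompletion J A)))) (Localization.AtPrime q.asIdeal) :=
      RingHom.flat_algebraMap_iff.1 (RingHom.Flat.localRingHom
        (RingHom.flat_algebraMap_iff.2 inferInstance) q.asIdeal _ rfl)
    exact RegLoc.Homological.isRegularLocalRing_of_flat (Localization.AtPrime q.asIdeal)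

end Groth.Agent.S19863
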