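import Groth.Statements.S1987
import Mathlib

set_option autoImplicit false
universe u
open Polynomial
open EtAlg

namespace Groth.Agent.S1987

/-- Let A be a discrete valuation ring with uniformizer π and n ≥ 2, and let A' = A[x]/(x^n - π). Then
x^n - π is irreducible over A, A' is an integrally closed discrete valuation ring (so it is the
integral closure of A in its fraction field K₁ = K(π^{1/n}), of degree n over K), the maximal ideal
of A generates the n-th power of the maximal ideal of A' (ramification index n), and K₁ is totally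
ramified with respect to A. -/
theorem result (A : Type u) [CommRing A] [IsDomain A] [IsDiscreteValuationRing A] (π : A)
    (hπ : Irreducible π) (n : ℕ) (hn : 2 ≤ n) :
    Irreducible (X ^ n - C π : A[X]) ∧
    ∃ (_ : IsDomain (AdjoinRoot (X ^ n - C π : A[X]))) (_ : IsDiscreteValuationRing (AdjoinRoot (X ^ n - C π : A[X]))),
      IsIntegrallyClosed (AdjoinRoot (X ^ n - C π : A[X])) ∧
      (IsLocalRing.maximalIdeal A).map (algebraMap A (AdjoinRoot (X ^ n - C π : A[X]))) = IsLocalRing.maximalIdeal (AdjoinRoot (X ^ n - C π : A[X])) ^ n ∧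
      ∀ (K₁ : Type u) [Field K₁] [Algebra (AdjoinRoot (X ^ n - C π : A[X])) K₁] [IsFractionRing (AdjoinRoot (X ^ n - C π : A[X])) K₁],
        EtRam.IsTotallyRamified A ((algebraMap (AdjoinRoot (X ^ n - C π : A[X])) K₁).comp (algebraMap A (AdjoinRoot (X ^ n - C π : A[X])))) := by
  classical
  set f : A[X] := X ^ n - C π with hf
  have hfm : f.Monic := monic_X_pow_sub_C π (by omega)
  have hdeg : f.natDegree = n := natDegree_X_pow_sub_C
  have hmax : IsLocalRing.maximalIdeal A = Ideal.span {π} := (IsDiscreteValuationRing.irreducible_iff_uniformizer π).mp hπ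
  have hprime : (Ideal.span {π}).IsPrime := by rw [← hmax]; infer_instance
  have hE : f.IsEisensteinAt (Ideal.span {π}) := by
    refine hfm.isEisensteinAt_of_mem_of_notMem hprime.ne_top (fun {i} hi => ?_) ?_
    · rw [hdeg] at hi
      simp only [hf, coeff_sub, coeff_X_pow, coeff_C]
      rw [if_neg (by omega), zero_sub, Ideal.neg_mem_iff]
      split
      · exact Ideal.mem_span_singleton_self π
      · exact zero_mem _
    · simp only [hf, coeff_sub, coeff_X_pow, coeff_C]
      rw [if_neg (by omega), zero_sub, if_true, Ideal.neg_mem_iff, Ideal.span_singleton_pow, Ideal.mem_span_singleton]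
      rintro ⟨c, hc⟩
      have hc' : π * 1 = π * (π * c) := by linear_combination hc
      exact hπ.not_isUnit (IsUnit.of_mul_eq_one _ (mul_left_cancel₀ hπ.ne_zero hc').symm)
  have hirr : Irreducible f := hE.irreducible hprime hfm.isPrimitive (by omega)
  refine ⟨hirr, ?_⟩
  haveI hdom : IsDomain (AdjoinRoot f) := AdjoinRoot.isDomain_of_prime (UniqueFactorizationMonoid.irreducible_iff_prime.mp hirr)
  set D := AdjoinRoot f
  set x : D := AdjoinRoot.root f with hx
  haveI : Module.Finite A D := hfm.finite_adjoinRoot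
  haveI : IsNoetherianRing D := IsNoetherianRing.of_finite A D
  have hxn : x ^ n = algebraMap A D π := by
    have := AdjoinRoot.eval₂_root f
    rw [hf, eval₂_sub, eval₂_X_pow, eval₂_C, sub_eq_zero] at this
    exact this
  have hinj : Function.Injective (algebraMap A D) := AdjoinRoot.of.injective_of_degree_ne_zero (by
    rw [degree_eq_natDegree hfm.ne_zero, hdeg]; exact_mod_cast (by omega : n ≠ 0))
  have hdec : ∀ y : D, ∃ a : A, ∃ z : D, y = algebraMap A D a + x * z := fun y => by
    induction y using AdjoinRoot.induction_on with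
    | _ p => exact ⟨p.coeff 0, AdjoinRoot.mk f p.divX, by
        conv_lhs => rw [← p.X_mul_divX_add]
        rw [map_add, map_mul, AdjoinRoot.mk_X, AdjoinRoot.mk_C, add_comm]; rfl⟩
  have hmem : ∀ J : Ideal D, J.IsMaximal → x ∈ J := fun J hJ => by
    haveI := hJ
    have h1 : (J.under A).IsMaximal := Ideal.IsMaximal.under A J
    have h2 : π ∈ J.under A := by rw [IsLocalRing.eq_maximalIdeal h1, hmax]; exact Ideal.mem_span_singleton_self π
    exact hJ.isPrime.mem_of_pow_mem n (by rw [hxn]; exact h2)
  obtain ⟨J0, hJ0⟩ := Ideal.exists_maximal D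
  have hJ0x : J0 = Ideal.span {x} := by
    refine le_antisymm (fun y hy => ?_) ((Ideal.span_singleton_le_iff_mem _).mpr (hmem J0 hJ0))
    obtain ⟨a, z, rfl⟩ := hdec y
    haveI := hJ0
    have h1 : (J0.under A).IsMaximal := Ideal.IsMaximal.under A J0
    have ha : a ∈ J0.under A := by
      have := Ideal.sub_mem _ hy (Ideal.mul_mem_right z _ (hmem J0 hJ0))
      rw [Ideal.mem_comap]; simpa using this
    rw [IsLocalRing.eq_maximalIdeal h1, hmax, Ideal.mem_span_singleton] at ha
    obtain ⟨b, rfl⟩ := ha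
    rw [Ideal.mem_span_singleton, map_mul, ← hxn]
    exact dvd_add (Dvd.dvd.mul_right (dvd_pow_self x (by omega)) _) (dvd_mul_right x z)
  haveI hloc : IsLocalRing D := IsLocalRing.of_unique_max_ideal ⟨J0, hJ0, fun J hJ =>
    (hJ0.eq_of_le hJ.ne_top (hJ0x ▸ (Ideal.span_singleton_le_iff_mem _).mpr (hmem J hJ))).symm⟩
  have hmaxD : IsLocalRing.maximalIdeal D = Ideal.span {x} := (IsLocalRing.eq_maximalIdeal hJ0) ▸ hJ0x
  have hx0 : x ≠ 0 := fun h => hπ.ne_zero (hinj (by rw [map_zero, ← hxn, h, zero_pow (by omega)]))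
  have hnf : ¬ IsField D := fun h => by
    rw [IsLocalRing.isField_iff_maximalIdeal_eq, hmaxD, Ideal.span_singleton_eq_bot] at h
    exact hx0 h
  haveI hdvr : IsDiscreteValuationRing D :=
    ((IsDiscreteValuationRing.TFAE D hnf).out 0 4 rfl rfl).mpr ⟨x, hmaxD⟩
  refine ⟨hdom, hdvr, inferInstance, ?_, ?_⟩
  · rw [hmax, hmaxD, Ideal.map_span, Set.image_singleton, Ideal.span_singleton_pow, hxn]
  intro K₁ _ _ _
  set g := (algebraMap D K₁).comp (algebraMap A D)
  let V0 : ValuationSubring K₁ :=
    { (algebraMap D K₁).range with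
      mem_or_inv_mem' := fun z => by
        rcases ValuationRing.isInteger_or_isInteger D z with ⟨d, hd⟩ | ⟨d, hd⟩
        · exact Or.inl ⟨d, hd⟩
        · exact Or.inr ⟨d, hd⟩ }
  have hint : ∀ (V : ValuationSubring K₁), EtRam.Dominates A g V → ∀ d : D, algebraMap D K₁ d ∈ V := by
    intro V hV d
    induction d using AdjoinRoot.induction_on with
    | _ p =>
      induction p using Polynomial.induction_on' with
      | add p q hp hq => rw [map_add, map_add]; exact add_mem hp hq
      | monomial i a =>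
        rw [← C_mul_X_pow_eq_monomial, map_mul, map_pow, AdjoinRoot.mk_C, AdjoinRoot.mk_X, map_mul, map_pow]
        refine mul_mem (hV.1 a) (pow_mem ?_ i)
        rcases V.mem_or_inv_mem (algebraMap D K₁ x) with h | h
        · exact h
        · exfalso
          have h1 : V.valuation (g π) < 1 := hV.2 π (by rw [hmax]; exact Ideal.mem_span_singleton_self π)
          have hxV : V.valuation (algebraMap D K₁ x) ≥ 1 := by
            have h2 := (V.valuation_le_one_iff _).mpr h
            rw [map_inv₀] at h2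
            exact (inv_le_one₀ (zero_lt_iff.mpr ((_root_.map_ne_zero _).mpr ((map_ne_zero_iff _ (IsFractionRing.injective D K₁)).mpr hx0)))).mp h2
          refine absurd h1 (not_lt.mpr ?_)
          simp only [g, RingHom.comp_apply, ← hxn, map_pow]
          exact one_le_pow₀ hxV
  have hlt : ∀ (V : ValuationSubring K₁), EtRam.Dominates A g V → V.valuation (algebraMap D K₁ x) < 1 := by
    intro V hV
    rcases lt_or_eq_of_le ((V.valuation_le_one_iff _).mpr (hint V hV x)) with h | h
    · exact h
    · have h1 : V.valuation (g π) < 1 := hV.2 π (by rw [hmax]; exact Ideal.mem_span_singleton_self π)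
      simp [g, ← hxn, h] at h1
  have hV : ∀ V : ValuationSubring K₁, EtRam.Dominates A g V → V = V0 := by
    intro V hV
    ext z
    refine ⟨fun hz => ?_, fun ⟨d, hd⟩ => hd ▸ hint V hV d⟩
    rcases eq_or_ne z 0 with hz0' | hzne
    · exact ⟨0, by rw [map_zero, hz0']⟩
    rcases ValuationRing.isInteger_or_isInteger D z with ⟨d, hd⟩ | ⟨d, hd⟩
    · exact ⟨d, hd⟩
    rcases em (IsUnit d) with hdu | hdu
    · obtain ⟨d, rfl⟩ := hdu
      exact ⟨(↑d⁻¹ : D), by rw [map_units_inv, hd, inv_inv]⟩
    · exfalso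
      obtain ⟨e, rfl⟩ : x ∣ d := Ideal.mem_span_singleton.mp (hmaxD ▸ (IsLocalRing.mem_maximalIdeal d).mpr hdu)
      have hz0 : z ≠ 0 := fun hz0 => hzne hz0
      have h1 : V.valuation (z * z⁻¹) < 1 := by
        rw [← hd, map_mul (algebraMap D K₁), map_mul, map_mul, ← mul_assoc]
        exact mul_lt_one_of_lt_of_le (lt_of_le_of_lt (mul_le_of_le_one_left' ((V.valuation_le_one_iff _).mpr hz)) (hlt V hV)) ((V.valuation_le_one_iff _).mpr (hint V hV e))
      simp [mul_inv_cancel₀ hz0] at h1
  have hunit : ∀ (d : D), algebraMap D K₁ d ∈ V0 := fun d => ⟨d, rfl⟩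
  refine ⟨⟨V0, fun a => ⟨_, rfl⟩, fun a ha => ?_⟩, fun V V' h h' => (hV V h).trans (hV V' h').symm, ?_⟩
  · rw [hmax, Ideal.mem_span_singleton] at ha
    obtain ⟨b, rfl⟩ := ha
    rcases lt_or_eq_of_le ((V0.valuation_le_one_iff _).mpr (show g (π * b) ∈ V0 from ⟨_, rfl⟩)) with h | h
    · exact h
    · exfalso
      obtain ⟨d, hd⟩ : (g (π * b))⁻¹ ∈ V0 := (V0.valuation_le_one_iff _).mp (by rw [map_inv₀, h, inv_one])
      have hne : g (π * b) ≠ 0 := fun h0 => by simp [h0] at h
      have h2 : algebraMap D K₁ (x * (x ^ (n - 1) * algebraMap A D b * d)) = algebraMap D K₁ 1 := by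
        have h3 : algebraMap D K₁ d * g (π * b) = 1 := by rw [hd]; exact inv_mul_cancel₀ hne
        rw [map_one, ← h3, ← mul_assoc, ← mul_assoc, ← pow_succ', show n - 1 + 1 = n by omega, hxn]
        simp only [g, RingHom.comp_apply, map_mul]; ring
      exact (IsLocalRing.mem_maximalIdeal x).mp (hmaxD ▸ Ideal.mem_span_singleton_self x) (IsUnit.of_mul_eq_one _ (IsFractionRing.injective D K₁ h2))
  · intro V h r
    obtain ⟨⟨z, hz⟩, rfl⟩ := IsLocalRing.residue_surjective r
    obtain ⟨d, rfl⟩ : z ∈ V0 := hV V h ▸ hz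
    obtain ⟨a, e, rfl⟩ := hdec d
    refine ⟨a, ?_⟩
    rw [← sub_eq_zero]
    simp only [← map_sub]
    rw [IsLocalRing.residue_eq_zero_iff]
    refine (ValuationSubring.valuation_lt_one_iff V _).mpr ?_
    simp only [AddSubgroupClass.coe_sub]
    rw [show (RingHom.codRestrict g V h.1 a : K₁) - algebraMap D K₁ (algebraMap A D a + x * e) = -(algebraMap D K₁ x * algebraMap D K₁ e) by
      rw [map_add, map_mul]; simp [g, RingHom.codRestrict]]
    rw [Valuation.map_neg, map_mul]
    exact mul_lt_one_of_lt_of_le (hlt V h) ((V.valuation_le_one_iff _).mpr (hint V h e))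

end Groth.Agent.S1987
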