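import Groth.Statements.S19876
import Groth.Agent.FlatDVR.Main
import Mathlib.RingTheory.Flat.Localization
import Mathlib.RingTheory.Flat.TorsionFree
import Mathlib.RingTheory.Localization.BaseChange

set_option autoImplicit false
universe u
open scoped TensorProduct
open FlatMor

namespace Groth.Agent.S19876

/-- Injective base changes survive localization. -/
theorem torsionFree_tensor_localization {A B : Type u} [CommRing A] [CommRing B] [Algebra A B]
    (M : Type u) [AddCommGroup M] [Module A M] [Module B M] [IsScalarTower A B M]
    (L : Type u) [CommRing L] [Algebra A L] [Algebra B L] [IsScalarTower A B L] [Module.Flat B L]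
    (V : Type u) [CommRing V] [IsDomain V] [IsBezout V] [Algebra A V] (h : Module.Flat V (V ⊗[A] M)) :
    Module.Flat V (V ⊗[A] (L ⊗[B] M)) := by
  rw [Module.Flat.flat_iff_torsion_eq_bot_of_isBezout, eq_bot_iff]
  rintro z ⟨⟨b, hb⟩, hbz⟩
  have hb0 : b ≠ 0 := nonZeroDivisors.ne_zero hb
  let μ : V →ₗ[A] V := (LinearMap.lsmul V V b).restrictScalars A
  let α : M ⊗[A] V →ₗ[B] M ⊗[A] V := TensorProduct.AlgebraTensorModule.lTensor B M μ
  have hα : Function.Injective α := by
    intro x y hxy
    apply (TensorProduct.comm A M V).injective
    have key : ∀ w, TensorProduct.comm A M V (α w) = b • TensorProduct.comm A M V w := by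
      intro w
      induction w using TensorProduct.induction_on with
      | zero => simp
      | tmul m v => simp [α, μ, TensorProduct.smul_tmul']
      | add p q hp hq => rw [map_add, map_add, map_add, hp, hq, smul_add]
    have := congrArg (TensorProduct.comm A M V) hxy
    rw [key, key] at this
    haveI : Module.IsTorsionFree V (V ⊗[A] M) := inferInstance
    exact smul_right_injective (V ⊗[A] M) hb0 ‹b • _ = b • _›
  have hinj : Function.Injective (LinearMap.lTensor L α) := Module.Flat.lTensor_preserves_injective_linearMap α hα
  let e : V ⊗[A] (L ⊗[B] M) → L ⊗[B] (M ⊗[A] V) := fun w =>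
    TensorProduct.AlgebraTensorModule.assoc A B B L M V (TensorProduct.comm A V (L ⊗[B] M) w)
  have he : Function.Injective e :=
    (TensorProduct.AlgebraTensorModule.assoc A B B L M V).injective.comp (TensorProduct.comm A V (L ⊗[B] M)).injective
  have key : ∀ w, e (b • w) = LinearMap.lTensor L α (e w) := by
    intro w
    simp only [e]
    induction w using TensorProduct.induction_on with
    | zero => simp
    | tmul v n =>
      induction n using TensorProduct.induction_on with
      | zero => simp
      | tmul l m => simp [α, μ, TensorProduct.smul_tmul']
      | add p q hp hq => simp only [TensorProduct.tmul_add, smul_add, map_add] at hp hq ⊢; rw [hp, hq]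
    | add p q hp hq => simp only [smul_add, map_add] at hp hq ⊢; rw [hp, hq]
  rw [Submodule.mem_bot]
  apply he
  apply hinj
  rw [← key z, show b • z = 0 from hbz]
  simp [e]


/-- Affine form. Suppose A is a Noetherian ring that is reduced, B is a finitely generated A-algebra
(finite type), and M is a B-module that is finitely generated over B. Then flatness of M over A
holds exactly when, for each discrete valuation ring R together with any ring homomorphism A → R,
the base change R ⊗_A M is a flat R-module. (In the source the statement concerns a coherent module
on a scheme of finite type over a reduced Noetherian scheme, with base changes to spectra of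
discrete valuation rings; since flatness is local on both source and target, what is recorded here
is the affine version, and the discrete valuation rings are taken in the universe of A.) -/
theorem result (A : Type u) [CommRing A] [IsReduced A]
    [IsNoetherianRing A] (B : Type u) [CommRing B] [Algebra A B] [Algebra.FiniteType A B]
    (M : Type u) [AddCommGroup M] [Module A M] [Module B M] [IsScalarTower A B M] [Module.Finite B M] :
    Module.Flat A M ↔
      ∀ (R : Type u) [CommRing R] [IsDomain R] [IsDiscreteValuationRing R] [Algebra A R],
        Module.Flat R (R ⊗[A] M) := by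
  refine ⟨fun _ R _ _ _ _ => inferInstance, fun h => ?_⟩
  haveI : IsNoetherianRing B := Algebra.FiniteType.isNoetherianRing A B
  refine Module.flat_of_isLocalized_maximal (R := A) (S := B) M
    (fun Q _ => Localization.AtPrime Q ⊗[B] M)
    (fun Q _ => TensorProduct.mk B (Localization.AtPrime Q) M 1) fun Q _ => ?_
  let BQ := Localization.AtPrime Q
  let N := BQ ⊗[B] M
  let p := Q.comap (algebraMap A B)
  let Ap := Localization.AtPrime p
  let φ : Ap →+* BQ := Localization.localRingHom p Q (algebraMap A B) rfl
  letI : Algebra Ap BQ := φ.toAlgebra
  haveI : IsScalarTower A Ap BQ := IsScalarTower.of_algebraMap_eq fun a =>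
    ((Localization.localRingHom_to_map _ _ _ rfl a).trans
      (IsScalarTower.algebraMap_apply A B BQ a).symm).symm
  haveI : IsLocalHom (algebraMap Ap BQ) := inferInstanceAs (IsLocalHom (Localization.localRingHom p Q (algebraMap A B) rfl))
  haveI : IsScalarTower Ap BQ N := TensorProduct.isScalarTower_left
  haveI : IsScalarTower A Ap N := TensorProduct.isScalarTower_left
  haveI : Algebra.EssFiniteType A BQ := Algebra.EssFiniteType.comp A B BQ
  haveI : Algebra.EssFiniteType Ap BQ := Algebra.EssFiniteType.of_comp A Ap BQ
  haveI : _root_.IsReduced Ap := inferInstance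
  have hflat : Module.Flat Ap N := Groth.Agent.FlatDVR.flat_of_artinTest (B := BQ) N (by
    intro V _ _ _ _ _ _ k
    letI : Algebra A V := ((algebraMap Ap V).comp (algebraMap A Ap)).toAlgebra
    haveI : IsScalarTower A Ap V := IsScalarTower.of_algebraMap_eq' rfl
    haveI := @torsionFree_tensor_localization A B _ _ _ M _ _ _ _ BQ _ _ _ _ (IsLocalization.flat BQ Q.primeCompl) V _ _ _ _ (h V)
    haveI : TensorProduct.CompatibleSMul A Ap V N := IsLocalization.tensorProduct_compatibleSMul p.primeCompl Ap V N
    haveI : Module.Flat V (V ⊗[Ap] N) :=
      Module.Flat.of_linearEquiv (TensorProduct.equivOfCompatibleSMul A Ap V V N)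
    exact Module.Flat.of_linearEquiv
      (TensorProduct.AlgebraTensorModule.cancelBaseChange Ap V (V ⧸ IsLocalRing.maximalIdeal V ^ k)
        (V ⧸ IsLocalRing.maximalIdeal V ^ k) N).symm)
  exact Module.Flat.trans A Ap N

end Groth.Agent.S19876
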