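import Groth.Statements.S19879
import Groth.Agent.LVCorr.Contract
import Mathlib.Topology.Separation.Connected

set_option autoImplicit false
universe u
open LVCorr

open CategoryTheory CategoryTheory.Limits AlgebraicGeometry

set_option backward.isDefEq.respectTransparency.types false
set_option backward.isDefEq.respectTransparency false

namespace Groth.Agent.S19879

open AlgebraicGeometry CategoryTheory CategoryTheory.Limits in
/-- Let k₀ be a finite field with p^e elements, K an algebraic closure of k₀, C₀ a scheme of finite type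
over k₀, C = C₀ ×_{k₀} Spec K with its projections, and Fr : C → C the n-th power of the geometric
Frobenius (over K, compatible with the (e·n)-th power of the absolute p-Frobenius of C₀). Let X be
locally of finite type over K and c₁, c₂ : C → X morphisms over K with c₂ locally quasi-finite, and
let d < p^(e n) be such that for every closed point x of X, with J_x the inverse image under c₂ of
the ideal sheaf of the reduced point x, one has (√J_x)^d ⊂ J_x (so p^(e n) exceeds the ramification
degree of c₂). Then the scheme of fixed points of the twisted correspondence (c₁ ∘ Fr, c₂), namely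
the pullback of (c₁ ∘ Fr, c₂) : C → X ×_K X along the diagonal of X, has finite and discrete
underlying topological space. (In the source X, c₁ and c₂ are also defined over k₀ and all schemes
are separated; neither is needed here.) -/
theorem result {C C₀ X Fx : Scheme.{u}}
    (p : ℕ) [Fact p.Prime] (k₀ : Type u) [Field k₀] [Fintype k₀] [CharP k₀ p] (e : ℕ)
    (hq : Fintype.card k₀ = p ^ e) (K : Type u) [Field K] [Algebra k₀ K] [IsAlgClosure k₀ K]
    (f₀ : C₀ ⟶ Spec (CommRingCat.of k₀)) [LocallyOfFiniteType f₀] [QuasiCompact f₀] [FrobSch.IsCharP C₀ p]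
    (πC₀ : C ⟶ C₀) (πK : C ⟶ Spec (CommRingCat.of K))
    (hC : IsPullback πC₀ πK f₀ (Spec.map (CommRingCat.ofHom (algebraMap k₀ K))))
    (n : ℕ) (Fr : C ⟶ C)
    (hFr₀ : Fr ≫ πC₀ = πC₀ ≫ End.asHom (End.of (FrobSch.frob C₀ p) ^ (e * n)))
    (hFrK : Fr ≫ πK = πK)
    (pX : X ⟶ Spec (CommRingCat.of K)) [LocallyOfFiniteType pX]
    (c₁ c₂ : C ⟶ X) (hc₁ : c₁ ≫ pX = πK) (hc₂ : c₂ ≫ pX = πK)
    [LocallyQuasiFinite c₂] [LocallyOfFiniteType c₂]
    (hcomm : (Fr ≫ c₁) ≫ pX = c₂ ≫ pX) (d : ℕ) (hn : d < p ^ (e * n))
    (hd : ∀ (x : X) (hx : IsClosed ({x} : Set X)),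
      ((Scheme.IdealSheafData.vanishingIdeal ⟨{x}, hx⟩).comap c₂).radical ^ d ≤
        (Scheme.IdealSheafData.vanishingIdeal ⟨{x}, hx⟩).comap c₂)
    (i : Fx ⟶ C) (δ : Fx ⟶ X) (hF : IsPullback i δ (pullback.lift (Fr ≫ c₁) c₂ hcomm) (pullback.diagonal pX)) :
    Finite Fx ∧ DiscreteTopology Fx := by
  have := Groth.Agent.LVCorr.Contract.locallyOfFiniteType_of_isPullback hF
  have : LocallyOfFiniteType πK :=
    MorphismProperty.of_isPullback hC (inferInstanceAs (LocallyOfFiniteType f₀))
  have : QuasiCompact πK := MorphismProperty.of_isPullback hC (inferInstanceAs (QuasiCompact f₀))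
  obtain ⟨h₁, h₂⟩ := Groth.Agent.LVCorr.Contract.fixed_fac hF
  have : IsLocallyNoetherian C := LocallyOfFiniteType.isLocallyNoetherian πK
  have : IsLocallyNoetherian Fx := LocallyOfFiniteType.isLocallyNoetherian (i ≫ πK)
  have : CompactSpace C := QuasiCompact.compactSpace_of_compactSpace πK
  have : IsNoetherian C := { }
  have hi : IsImmersion i := MorphismProperty.of_isPullback hF.flip
    (inferInstanceAs (IsImmersion (pullback.diagonal pX)))
  have : TopologicalSpace.NoetherianSpace Fx := i.isEmbedding.isInducing.noetherianSpace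
  have : JacobsonSpace Fx := LocallyOfFiniteType.jacobsonSpace (i ≫ πK)
  have : JacobsonSpace X := LocallyOfFiniteType.jacobsonSpace pX
  have : LocallyOfFiniteType δ := by
    have : LocallyOfFiniteType (δ ≫ pX) := by
      rw [← h₂, Category.assoc, hc₂]; infer_instance
    exact locallyOfFiniteType_of_comp δ pX
  refine Groth.Agent.LVCorr.Contract.finite_discrete fun z hz => ?_
  have hx : IsClosed ({δ z} : Set X) := δ.closePoints_subset_preimage_closedPoints hz
  obtain ⟨W, hW, -, h3⟩ := Groth.Agent.LVCorr.Contract.exists_open_contracting k₀ e hq K f₀ πC₀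
    πK hC n Fr hFr₀ hFrK pX c₁ c₂ hcomm (δ z) hx d hn (hd (δ z) hx)
  have hWi : Set.range i ⊆ (W : Set C) := by
    rintro _ ⟨t, rfl⟩
    refine hW ⟨δ t, ?_⟩
    rw [← Scheme.Hom.comp_apply, ← Scheme.Hom.comp_apply, hF.w]
  have hsub := Groth.Agent.LVCorr.Contract.subset_preimage_support i δ (Fr ≫ c₁) c₂ h₁ h₂
    (Scheme.IdealSheafData.vanishingIdeal ⟨{δ z}, hx⟩) W hWi d h3 (connectedComponent z)
    isPreconnected_connectedComponent
    ⟨δ z, ⟨z, mem_connectedComponent, rfl⟩, by
      rw [Scheme.IdealSheafData.coe_support_vanishingIdeal]; exact rfl⟩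
  rw [Scheme.IdealSheafData.coe_support_vanishingIdeal] at hsub
  have hdisc : _root_.IsDiscrete (connectedComponent z) := by
    refine (_root_.IsDiscrete.preimage (c₂.isDiscrete_preimage_singleton (δ z)) i.continuous.continuousOn
      i.isEmbedding.injective).mono fun t ht => ?_
    change c₂ (i t) = δ z
    rw [← Scheme.Hom.comp_apply, h₂]
    exact hsub ht
  have : DiscreteTopology (connectedComponent z) := isDiscrete_iff_discreteTopology.1 hdisc
  have : PreconnectedSpace (connectedComponent z) :=
    isPreconnected_iff_preconnectedSpace.1 isPreconnected_connectedComponent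
  have hss : Subsingleton (connectedComponent z) := PreconnectedSpace.trivial_of_discrete
  exact Set.eq_singleton_iff_unique_mem.2 ⟨mem_connectedComponent, fun t ht =>
    congrArg Subtype.val (Subsingleton.elim (⟨t, ht⟩ : connectedComponent z) ⟨z, mem_connectedComponent⟩)⟩

end Groth.Agent.S19879
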