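import Groth.Statements.S1988
import Mathlib
-- import your own Groth.Agent.* helpers here

set_option autoImplicit false
universe u
open EtAlg

open scoped TensorProduct

namespace Groth.Agent.S1988

lemma weaklyUnramified_comap {K₁ M M' : Type u} [Field K₁] [Field M] [Field M']
    (W' : ValuationSubring M') (g : M →+* M') (f : K₁ →+* M) (f' : K₁ →+* M') (hf : f' = g.comp f)
    (h : letI := (EtRam.inclOfComap W' f').toAlgebra
      EtRam.IsWeaklyUnramified (W'.comap f') W') :
    letI := (EtRam.inclOfComap (W'.comap g) f).toAlgebra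
    EtRam.IsWeaklyUnramified ((W'.comap g).comap f) (W'.comap g) := by
  subst hf
  letI := (EtRam.inclOfComap W' (g.comp f)).toAlgebra
  letI := (EtRam.inclOfComap (W'.comap g) f).toAlgebra
  have hall : ∀ x : W', x ∈ IsLocalRing.maximalIdeal W' →
      ∃ a : W'.comap (g.comp f), a ∈ IsLocalRing.maximalIdeal _ ∧
        EtRam.inclOfComap W' (g.comp f) a ∣ x := by
    intro x hx
    have hx' : x ∈ (IsLocalRing.maximalIdeal (W'.comap (g.comp f))).map
        (EtRam.inclOfComap W' (g.comp f)) := by
      rw [← RingHom.algebraMap_toAlgebra (EtRam.inclOfComap W' (g.comp f)), h]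
      exact hx
    rw [Ideal.map] at hx'
    clear hx
    induction hx' using Submodule.span_induction with
    | mem y hy =>
      obtain ⟨a, ha, rfl⟩ := hy
      exact ⟨a, ha, dvd_rfl⟩
    | zero => exact ⟨0, zero_mem _, dvd_zero _⟩
    | add y z _ _ hy hz =>
      obtain ⟨a, ha, hay⟩ := hy
      obtain ⟨b, hb, hbz⟩ := hz
      rcases ValuationRing.dvd_total (EtRam.inclOfComap W' (g.comp f) a)
          (EtRam.inclOfComap W' (g.comp f) b) with hab | hba
      · exact ⟨a, ha, dvd_add hay (hab.trans hbz)⟩
      · exact ⟨b, hb, dvd_add (hba.trans hay) hbz⟩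
    | smul c y _ hy =>
      obtain ⟨a, ha, hay⟩ := hy
      exact ⟨a, ha, hay.mul_left c⟩
  refine le_antisymm ?_ fun x hx ↦ ?_
  · rw [Ideal.map_le_iff_le_comap]
    exact fun a ha hu ↦ ha (isUnit_of_map_unit (EtRam.inclOfComap (W'.comap g) f) a hu)
  · have hx' : EtRam.inclOfComap W' g x ∈ IsLocalRing.maximalIdeal W' := fun hu ↦
      hx (isUnit_of_map_unit (EtRam.inclOfComap W' g) x hu)
    obtain ⟨a, ha, c, hc⟩ := hall _ hx'
    let a' : (W'.comap g).comap f := ⟨(a : K₁), a.2⟩
    have ha' : a' ∈ IsLocalRing.maximalIdeal ((W'.comap g).comap f) := fun hu ↦ by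
      apply ha
      refine isUnit_of_map_unit (EtRam.inclOfComap W' (g.comp f)) a ?_
      exact (hu.map (EtRam.inclOfComap (W'.comap g) f)).map (EtRam.inclOfComap W' g)
    by_cases ha0 : f (a : K₁) = 0
    · have : x = 0 := by
        apply Subtype.ext
        apply g.injective
        have := congrArg Subtype.val hc
        simp only [EtRam.inclOfComap_apply_coe, MulMemClass.coe_mul, RingHom.comp_apply, ha0,
          map_zero, zero_mul] at this
        simpa using this
      rw [this]
      exact zero_mem _
    have hga : g (f (a : K₁)) ≠ 0 := (map_ne_zero g).2 ha0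
    have hc' := congrArg Subtype.val hc
    simp only [EtRam.inclOfComap_apply_coe, MulMemClass.coe_mul, RingHom.comp_apply] at hc'
    let q : W'.comap g := ⟨(x : M) / f (a : K₁), by
      change g _ ∈ W'
      rw [map_div₀, hc', mul_div_cancel_left₀ _ hga]
      exact c.2⟩
    have hxq : x = EtRam.inclOfComap (W'.comap g) f a' * q := by
      apply Subtype.ext
      change (x : M) = f (a : K₁) * ((x : M) / f (a : K₁))
      rw [mul_div_cancel₀ _ ha0]
    rw [hxq]
    exact Ideal.mul_mem_right _ _ (Ideal.mem_map_of_mem _ ha')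

lemma geometricallyReduced_comap {K₁ M M' : Type u} [Field K₁] [Field M] [Field M']
    (W' : ValuationSubring M') (g : M →+* M') (f : K₁ →+* M) (f' : K₁ →+* M') (hf : f' = g.comp f)
    (h : @Algebra.IsGeometricallyReduced (IsLocalRing.ResidueField (W'.comap f'))
      (IsLocalRing.ResidueField W') _ _ (IsLocalRing.ResidueField.map (EtRam.inclOfComap W' f')).toAlgebra) :
    @Algebra.IsGeometricallyReduced (IsLocalRing.ResidueField ((W'.comap g).comap f))
      (IsLocalRing.ResidueField (W'.comap g)) _ _
      (IsLocalRing.ResidueField.map (EtRam.inclOfComap (W'.comap g) f)).toAlgebra := by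
  subst hf
  letI := (IsLocalRing.ResidueField.map (EtRam.inclOfComap W' (g.comp f))).toAlgebra
  letI := (IsLocalRing.ResidueField.map (EtRam.inclOfComap (W'.comap g) f)).toAlgebra
  letI : Algebra (IsLocalRing.ResidueField ((W'.comap g).comap f)) (IsLocalRing.ResidueField W') :=
    (IsLocalRing.ResidueField.map (EtRam.inclOfComap W' (g.comp f))).toAlgebra
  haveI : Algebra.IsGeometricallyReduced (IsLocalRing.ResidueField ((W'.comap g).comap f))
      (IsLocalRing.ResidueField W') := h
  let ψ : IsLocalRing.ResidueField (W'.comap g) →ₐ[IsLocalRing.ResidueField ((W'.comap g).comap f)]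
      IsLocalRing.ResidueField W' :=
    { IsLocalRing.ResidueField.map (EtRam.inclOfComap W' g) with
      commutes' := fun r ↦ by
        obtain ⟨r, rfl⟩ := IsLocalRing.residue_surjective r
        rfl }
  exact Algebra.IsGeometricallyReduced.of_injective ψ (RingHom.injective _)

set_option backward.isDefEq.respectTransparency false in
lemma exists_extension (B C K L M₀ K₁ : Type u) [CommRing B] [IsDomain B] [IsDiscreteValuationRing B]
    [CommRing C] [IsDomain C] [IsDiscreteValuationRing C] [Algebra B C] [IsLocalHom (algebraMap B C)]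
    [Module.FaithfullyFlat B C] [FaithfulSMul B C]
    [Field K] [Field L] [Field M₀] [Field K₁] [Algebra K L] [Algebra K M₀] [Algebra L M₀] [IsScalarTower K L M₀]
    [Algebra K K₁] [FiniteDimensional K K₁]
    [Algebra B L] [IsFractionRing B L] [Algebra C M₀] [IsFractionRing C M₀] [Algebra B M₀]
    [IsScalarTower B C M₀] [IsScalarTower B L M₀]
    (M : Type u) [Field M] [Algebra K M] [Algebra L M] [Algebra K₁ M] [IsScalarTower K L M]
    [IsScalarTower K K₁ M] (hgen : Algebra.adjoin L (Set.range (algebraMap K₁ M)) = ⊤)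
    (W : ValuationSubring M) (hW : EtRam.Dominates B ((algebraMap L M).comp (algebraMap B L)) W) :
    ∃ (M' : Type u) (_ : Field M') (_ : Algebra K M') (_ : Algebra M₀ M') (_ : Algebra K₁ M')
        (_ : IsScalarTower K M₀ M') (_ : IsScalarTower K K₁ M') (g : M →+* M') (W' : ValuationSubring M'),
        Algebra.adjoin M₀ (Set.range (algebraMap K₁ M')) = ⊤ ∧
        EtRam.Dominates C ((algebraMap M₀ M').comp (algebraMap C M₀)) W' ∧
        W = W'.comap g ∧ algebraMap K₁ M' = g.comp (algebraMap K₁ M) := by
  classical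
  letI : Algebra B W := (RingHom.codRestrict ((algebraMap L M).comp (algebraMap B L)) W hW.1).toAlgebra
  have hBW : ∀ b : B, ((algebraMap B W b : W) : M) = algebraMap L M (algebraMap B L b) := fun b ↦ rfl
  haveI : FaithfulSMul B W := (faithfulSMul_iff_algebraMap_injective B W).2 fun a b hab ↦
    IsFractionRing.injective B L ((algebraMap L M).injective (by rw [← hBW, ← hBW, hab]))
  haveI : Module.Flat B W := inferInstance
  -- a prime over the closed points and a minimal prime below it
  obtain ⟨⟨q, hqp⟩, hq⟩ := PrimeSpectrum.comap_surjective_of_faithfullyFlat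
    (A := W) (B := W ⊗[B] C) ⟨IsLocalRing.maximalIdeal W, inferInstance⟩
  haveI := hqp
  replace hq : q.comap (algebraMap W (W ⊗[B] C)) = IsLocalRing.maximalIdeal W :=
    congrArg PrimeSpectrum.asIdeal hq
  obtain ⟨q₀, hq₀, hq₀q⟩ := Ideal.exists_minimalPrimes_le (I := (⊥ : Ideal (W ⊗[B] C))) (bot_le : ⊥ ≤ q)
  haveI : q₀.IsPrime := hq₀.1.1
  let M' := q₀.ResidueField
  let j : (W ⊗[B] C) →+* M' := algebraMap _ q₀.ResidueField
  have hjker : ∀ t, j t = 0 ↔ t ∈ q₀ := fun t ↦ Ideal.algebraMap_residueField_eq_zero
  have hreg : ∀ t, t ∈ nonZeroDivisors (W ⊗[B] C) → j t ≠ 0 := fun t ht h0 ↦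
    Set.disjoint_left.1 (Ideal.disjoint_nonZeroDivisors_of_mem_minimalPrimes hq₀) ((hjker t).1 h0) ht
  let jW : W →+* M' := j.comp Algebra.TensorProduct.includeLeftRingHom
  let jC : C →+* M' := j.comp (Algebra.TensorProduct.includeRight (R := B) (A := W) (B := C)).toRingHom
  have hjW : Function.Injective jW := by
    rw [injective_iff_map_eq_zero]
    intro w hw
    by_contra h0
    refine hreg (w ⊗ₜ 1) (mem_nonZeroDivisors_iff.2 ⟨fun t ht ↦ ?_, fun t ht ↦ ?_⟩) hw
    all_goals
      have hinj' := Module.Flat.rTensor_preserves_injective_linearMap (M := C)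
        (LinearMap.mulLeft B w) (fun a b hab ↦ mul_left_cancel₀ h0 hab)
      have heq : ∀ t : W ⊗[B] C, (LinearMap.mulLeft B w).rTensor C t = (w ⊗ₜ 1) * t := fun t ↦ by
        induction t with
        | zero => simp
        | tmul a c => simp
        | add a c ha hc => simp [mul_add, ha, hc]
      apply hinj'
      rw [map_zero, heq]
    · exact ht
    · rw [mul_comm]; exact ht
  have hjC : Function.Injective jC := by
    rw [injective_iff_map_eq_zero]
    intro c hc
    by_contra h0
    refine hreg (1 ⊗ₜ c) (mem_nonZeroDivisors_iff.2 ⟨fun t ht ↦ ?_, fun t ht ↦ ?_⟩) hc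
    all_goals
      have hinj' := Module.Flat.lTensor_preserves_injective_linearMap (M := W)
        (LinearMap.mulLeft B c) (fun a b hab ↦ mul_left_cancel₀ h0 hab)
      have heq : ∀ t : W ⊗[B] C, (LinearMap.mulLeft B c).lTensor W t = (1 ⊗ₜ c) * t := fun t ↦ by
        induction t with
        | zero => simp
        | tmul a b => simp
        | add a b ha hb => simp [mul_add, ha, hb]
      apply hinj'
      rw [map_zero, heq]
    · exact ht
    · rw [mul_comm]; exact ht
  let g : M →+* M' := IsFractionRing.lift hjW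
  let κ : M₀ →+* M' := IsFractionRing.lift hjC
  have hgW : ∀ w : W, g (w : M) = jW w := fun w ↦ IsFractionRing.lift_algebraMap hjW w
  have hκC : ∀ c : C, κ (algebraMap C M₀ c) = jC c := fun c ↦ IsFractionRing.lift_algebraMap hjC c
  have hL : g.comp (algebraMap L M) = κ.comp (algebraMap L M₀) := by
    refine IsLocalization.ringHom_ext (nonZeroDivisors B) (RingHom.ext fun b ↦ ?_)
    simp only [RingHom.comp_apply]
    rw [← hBW b, hgW, ← IsScalarTower.algebraMap_apply B L M₀, IsScalarTower.algebraMap_apply B C M₀, hκC]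
    change j (algebraMap B W b ⊗ₜ 1) = j (1 ⊗ₜ algebraMap B C b)
    rw [Algebra.TensorProduct.tmul_one_eq_one_tmul]
  letI : Algebra M₀ M' := κ.toAlgebra
  letI : Algebra K₁ M' := (g.comp (algebraMap K₁ M)).toAlgebra
  letI : Algebra K M' := (κ.comp (algebraMap K M₀)).toAlgebra
  haveI : IsScalarTower K M₀ M' := IsScalarTower.of_algebraMap_eq fun _ ↦ rfl
  haveI : IsScalarTower K K₁ M' := IsScalarTower.of_algebraMap_eq fun x ↦ by
    change κ (algebraMap K M₀ x) = g (algebraMap K₁ M (algebraMap K K₁ x))
    rw [← IsScalarTower.algebraMap_apply K K₁ M, IsScalarTower.algebraMap_apply K L M,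
      IsScalarTower.algebraMap_apply K L M₀]
    exact (RingHom.congr_fun hL _).symm
  -- the valuation ring at `q`
  obtain ⟨W', hle, hnu⟩ := Ideal.image_subset_nonunits_valuationSubring
    (A := j.range) (q.map j.rangeRestrict) (by
      intro htop
      refine hqp.ne_top ?_
      have h := Ideal.comap_map_of_surjective j.rangeRestrict j.rangeRestrict_surjective q
      rw [htop, Ideal.comap_top] at h
      rw [eq_top_iff, h]
      refine sup_le le_rfl fun t ht ↦ hq₀q ((hjker t).1 ?_)
      exact congrArg Subtype.val ((Ideal.mem_bot).1 ht))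
  have hjmem : ∀ t, j t ∈ W' := fun t ↦ hle ⟨t, rfl⟩
  have hjlt : ∀ t ∈ q, W'.valuation (j t) < 1 := fun t ht ↦
    (ValuationSubring.mem_nonunits_iff W').1 (hnu ⟨j.rangeRestrict t, Ideal.mem_map_of_mem _ ht, rfl⟩)
  refine ⟨M', inferInstance, inferInstance, inferInstance, inferInstance, inferInstance, inferInstance,
    g, W', ?_, ⟨fun c ↦ ?_, fun c hc ↦ ?_⟩, ?_, rfl⟩
  · have halg : ∀ x ∈ Set.range (algebraMap K₁ M'), IsAlgebraic M₀ x := by
      rintro _ ⟨x, rfl⟩
      exact (((IsIntegral.of_finite K x).map (IsScalarTower.toAlgHom K K₁ M')).tower_top).isAlgebraic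
    have htop : IntermediateField.adjoin M₀ (Set.range (algebraMap K₁ M')) = ⊤ := by
      set T := IntermediateField.adjoin M₀ (Set.range (algebraMap K₁ M'))
      have hgT : ∀ m : M, g m ∈ T := by
        intro m
        have hm : m ∈ Algebra.adjoin L (Set.range (algebraMap K₁ M)) := hgen ▸ Algebra.mem_top
        induction hm using Algebra.adjoin_induction with
        | mem x hx =>
          obtain ⟨x, rfl⟩ := hx
          exact IntermediateField.subset_adjoin M₀ _ ⟨x, rfl⟩
        | algebraMap l =>
          rw [← RingHom.comp_apply, hL]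
          exact IntermediateField.algebraMap_mem T (algebraMap L M₀ l)
        | add x y _ _ hx hy => rw [map_add]; exact add_mem hx hy
        | mul x y _ _ hx hy => rw [map_mul]; exact mul_mem hx hy
      have hjT : ∀ t, j t ∈ T := by
        intro t
        induction t with
        | zero => rw [map_zero]; exact zero_mem _
        | tmul w c =>
          rw [← mul_one w, ← one_mul c, ← Algebra.TensorProduct.tmul_mul_tmul, map_mul]
          refine mul_mem ?_ ?_
          · have := hgT w
            rwa [hgW] at this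
          · have := IntermediateField.algebraMap_mem T (algebraMap C M₀ c)
            rwa [RingHom.algebraMap_toAlgebra, hκC] at this
        | add x y hx hy => rw [map_add]; exact add_mem hx hy
      rw [eq_top_iff]
      intro x _
      obtain ⟨a, b, _, rfl⟩ := IsFractionRing.div_surjective ((W ⊗[B] C) ⧸ q₀) x
      obtain ⟨a, rfl⟩ := Ideal.Quotient.mk_surjective a
      obtain ⟨b, rfl⟩ := Ideal.Quotient.mk_surjective b
      rw [Ideal.algebraMap_quotient_residueField_mk, Ideal.algebraMap_quotient_residueField_mk]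
      exact div_mem (hjT a) (hjT b)
    rw [← IntermediateField.adjoin_toSubalgebra_of_isAlgebraic halg, htop, IntermediateField.top_toSubalgebra]
  · rw [RingHom.comp_apply, RingHom.algebraMap_toAlgebra, hκC]
    exact hjmem _
  · rw [RingHom.comp_apply, RingHom.algebraMap_toAlgebra, hκC]
    refine hjlt _ ?_
    let ρ : C →+* W ⊗[B] C := (Algebra.TensorProduct.includeRight (R := B) (A := W) (B := C)).toRingHom
    have : q.comap ρ = IsLocalRing.maximalIdeal C := by
      obtain ⟨ϖ, hϖ⟩ := IsDiscreteValuationRing.exists_irreducible B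
      have hmem : algebraMap B C ϖ ∈ q.comap ρ := by
        rw [Ideal.mem_comap]
        change (1 : W) ⊗ₜ[B] algebraMap B C ϖ ∈ q
        rw [Algebra.algebraMap_eq_smul_one, ← TensorProduct.smul_tmul,
          ← Algebra.algebraMap_eq_smul_one]
        have : algebraMap B W ϖ ∈ q.comap (algebraMap W (W ⊗[B] C)) := by
          rw [hq]
          exact (ValuationSubring.valuation_lt_one_iff W _).2 (hW.2 ϖ (hϖ.maximalIdeal_eq ▸ Ideal.mem_span_singleton_self ϖ))
        exact this
      refine IsLocalRing.eq_maximalIdeal (Ideal.IsPrime.isMaximal inferInstance fun h0 ↦ ?_)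
      rw [h0, Ideal.mem_bot] at hmem
      exact (map_ne_zero_iff _ (FaithfulSMul.algebraMap_injective B C)).2 hϖ.ne_zero hmem
    exact (this ▸ hc : c ∈ q.comap ρ)
  · have h1 : W ≤ W'.comap g := fun m hm ↦ by
      change g m ∈ W'
      rw [show m = ((⟨m, hm⟩ : W) : M) from rfl, hgW]
      exact hjmem _
    have h2 : ∀ w ∈ IsLocalRing.maximalIdeal W, W'.valuation (g (w : M)) < 1 := fun w hw ↦ by
      rw [hgW]
      refine hjlt _ ?_
      rw [← hq] at hw
      exact hw
    refine le_antisymm h1 fun m hm ↦ ?_
    by_contra hmW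
    have hinv : m⁻¹ ∈ W := (W.mem_or_inv_mem m).resolve_left hmW
    have hm0 : m ≠ 0 := fun h0 ↦ hmW (h0 ▸ zero_mem _)
    have hlt := h2 ⟨m⁻¹, hinv⟩ (fun hu ↦ hmW (by
      obtain ⟨u, hu⟩ := hu
      have := congrArg Subtype.val u.mul_inv
      rw [MulMemClass.coe_mul, hu] at this
      have h3 : ((↑u⁻¹ : W) : M) = m := by
        have := eq_inv_of_mul_eq_one_right (this : m⁻¹ * _ = 1)
        rwa [inv_inv] at this
      exact h3 ▸ (↑u⁻¹ : W).2))
    have hle1 : W'.valuation (g m) ≤ 1 := (W'.valuation_le_one_iff _).2 hm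
    have : W'.valuation (g m) * W'.valuation (g m⁻¹) = 1 := by
      rw [← map_mul, ← map_mul, mul_inv_cancel₀ hm0, map_one, map_one]
    exact absurd this (ne_of_lt ((mul_le_of_le_one_left' hle1).trans_lt hlt))

/-- Let A -> B -> C be extensions of discrete valuation rings (local injective maps) with fraction
fields K ⊂ L ⊂ M₀ and K₁/K a finite extension. (The solution predicates mention only B, C and the
fields: in them the bottom ring is recovered as B ∩ K, which the hypotheses on A force to be A.) If
K₁ is a weak solution (resp. a solution) for A -> C then it is a weak solution (resp. a solution)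
for A -> B. -/
theorem result (A B C K L M₀ K₁ : Type u) [CommRing A] [IsDomain A] [IsDiscreteValuationRing A]
    [CommRing B] [IsDomain B] [IsDiscreteValuationRing B] [Algebra A B] [IsLocalHom (algebraMap A B)]
    (hinjA : Function.Injective (algebraMap A B))
    [CommRing C] [IsDomain C] [IsDiscreteValuationRing C] [Algebra B C] [IsLocalHom (algebraMap B C)]
    (hinj : Function.Injective (algebraMap B C))
    [Field K] [Field L] [Field M₀] [Field K₁] [Algebra K L] [Algebra K M₀] [Algebra L M₀] [IsScalarTower K L M₀]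
    [Algebra K K₁] [FiniteDimensional K K₁] [Algebra A K] [IsFractionRing A K]
    [Algebra B L] [IsFractionRing B L] [Algebra A L] [IsScalarTower A K L] [IsScalarTower A B L]
    [Algebra C M₀] [IsFractionRing C M₀] [Algebra B M₀]
    [IsScalarTower B C M₀] [IsScalarTower B L M₀] :
    (EtRam.IsWeakSolution C K M₀ K₁ → EtRam.IsWeakSolution B K L K₁) ∧
    (EtRam.IsSolution C K M₀ K₁ → EtRam.IsSolution B K L K₁) := by
  classical
  haveI : FaithfulSMul B C := (faithfulSMul_iff_algebraMap_injective B C).2 hinj
  haveI : Module.Flat B C := inferInstance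
  haveI : Module.FaithfullyFlat B C := Module.FaithfullyFlat.of_flat_of_isLocalHom
  -- extend a local extension over `B` to one over `C`
  have key : ∀ (M : Type u) [Field M] [Algebra K M] [Algebra L M] [Algebra K₁ M]
      [IsScalarTower K L M] [IsScalarTower K K₁ M],
      Algebra.adjoin L (Set.range (algebraMap K₁ M)) = ⊤ →
      ∀ (W : ValuationSubring M), EtRam.Dominates B ((algebraMap L M).comp (algebraMap B L)) W →
      ∃ (M' : Type u) (_ : Field M') (_ : Algebra K M') (_ : Algebra M₀ M') (_ : Algebra K₁ M')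
        (_ : IsScalarTower K M₀ M') (_ : IsScalarTower K K₁ M') (g : M →+* M') (W' : ValuationSubring M'),
        Algebra.adjoin M₀ (Set.range (algebraMap K₁ M')) = ⊤ ∧
        EtRam.Dominates C ((algebraMap M₀ M').comp (algebraMap C M₀)) W' ∧
        W = W'.comap g ∧ algebraMap K₁ M' = g.comp (algebraMap K₁ M) := by
    intro M _ _ _ _ _ _ hgen W hW
    exact exists_extension B C K L M₀ K₁ M hgen W hW
  refine ⟨fun h ↦ ?_, fun h ↦ ?_⟩
  · intro M _ _ _ _ _ _ hgen W hW
    obtain ⟨M', _, _, _, _, _, _, g, W', hgen', hW', rfl, hf⟩ := key M hgen W hW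
    exact weaklyUnramified_comap W' g _ _ hf (h M' hgen' W' hW')
  · intro M _ _ _ _ _ _ hgen W hW
    obtain ⟨M', _, _, _, _, _, _, g, W', hgen', hW', rfl, hf⟩ := key M hgen W hW
    obtain ⟨h1, h2⟩ := h M' hgen' W' hW'
    exact ⟨weaklyUnramified_comap W' g _ _ hf h1, geometricallyReduced_comap W' g _ _ hf h2⟩

end Groth.Agent.S1988
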