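import Groth.Statements.S19880
import Groth.Agent.JacPts.Det
-- import your own Groth.Agent.* helpers here

set_option autoImplicit false
universe u
open CategoryTheory CategoryTheory.Limits AlgebraicGeometry
open JacVar

namespace Groth.Agent.S19880

open FunFld Groth.Agent.FFCurve Groth.Agent.JacPts in
theorem exists_drop {X : Scheme.{u}} [IsIntegral X] (k : Type u) [Field k] [IsSepClosed k]
    [X.Over (Spec (CommRingCat.of k))] [IsProper (X ↘ Spec (CommRingCat.of k))]
    [Smooth (X ↘ Spec (CommRingCat.of k))] [RegCurve X] (hdim : topologicalKrullDim X = 1)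
    (hK : IsFunctionField k X.functionField) (D : Divisor k X.functionField) :
    ∀ n : ℕ, n ≤ ell D → ∃ (σ : Fin n → (Spec (CommRingCat.of k) ⟶ X))
      (h : ∀ i, σ i ≫ (X ↘ Spec (CommRingCat.of k)) = 𝟙 _),
      ell (D - ∑ i, Finsupp.single (plc k hdim (h i)) 1) + n = ell D := by
  classical
  intro n
  induction n with
  | zero => exact fun _ => ⟨Fin.elim0, fun i => i.elim0, by simp⟩
  | succ n ih =>
    intro hn
    obtain ⟨σ, h, he⟩ := ih (Nat.le_of_succ_le hn)
    set E := D - ∑ i, Finsupp.single (plc k hdim (h i)) 1 with hE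
    haveI := FF.finiteDimensional_L hK E
    obtain ⟨x, hx, hx0⟩ := (L E).exists_mem_ne_zero_of_ne_bot fun e => by
      simp only [ell] at he
      rw [e, finrank_bot] at he
      simp only [ell] at hn
      omega
    obtain ⟨p, hp, hav⟩ := exists_ratPt_avoid X k hdim
      ((E.support ∪ (FF.finite_support_ord hK.1 x).toFinset).map (placeEquiv k hdim).symm.toEmbedding)
    have hP : E (plc k hdim hp) = 0 ∧ (plc k hdim hp).ord x = 0 := by
      have hn' : plc k hdim hp ∉ E.support ∪ (FF.finite_support_ord hK.1 x).toFinset := fun hm =>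
        hav (cpt k hp) (Finset.mem_map.2 ⟨_, hm, (placeEquiv k hdim).symm_apply_apply _⟩) rfl
      simpa using hn'
    have h1 : ell (E - Finsupp.single (plc k hdim hp) 1) < ell E :=
      (FF.ell_lt_iff_exists hK E _).2 ⟨x, hx, by
        rw [hP.1, WithZero.exp_zero, FF.val_eq_one_iff _ hx0]; exact hP.2⟩
    have h2 := (FF.ell_sub_single_le hK E (plc k hdim hp)).2
    rw [deg_plc k hdim hp] at h2
    refine ⟨Fin.cons p σ, Fin.cases hp h, ?_⟩
    rw [Fin.sum_univ_succ, ← sub_sub, sub_right_comm]
    show ell (E - Finsupp.single (plc k hdim hp) 1) + (n + 1) = ell D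
    omega


/-- Let k be a separably closed field, C a smooth proper geometrically connected curve of genus g > 0
over k with a k-rational point, and r > 2g an integer. Then for every effective divisor D of degree
r on C there is an (r − g)-tuple γ = (P_1, …, P_{r−g}) of k-rational points of C with h⁰(D − P_1 − ⋯
− P_{r−g}) = 1; since every invertible module L of degree r > 2g − 2 is of the form O(D) with D
effective, this is stated as: for every invertible module L of degree r on C there are k-rational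
points P_1, …, P_{r−g} with h⁰(C, L ⊗ I_{P_1} ⊗ ⋯ ⊗ I_{P_{r−g}}) = 1. (In the source this is the
statement that the symmetric power C^(r) is the union of the open pieces C^γ.) -/
theorem result (k : Type u) [Field k] [IsSepClosed k]
    (C : Scheme.{u}) [C.Over (Spec (CommRingCat.of k))]
    [IsProper (C ↘ Spec (CommRingCat.of k))] [Smooth (C ↘ Spec (CommRingCat.of k))] [GeometricallyConnected (C ↘ Spec (CommRingCat.of k))]
    (hdim : topologicalKrullDim ↥C = 1)
    (g : ℕ) (hg : Curv2.genus k C = g) (hg0 : 0 < g)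
    (σ₀ : Spec (CommRingCat.of k) ⟶ C) (hσ₀ : σ₀ ≫ (C ↘ Spec (CommRingCat.of k)) = 𝟙 _)
    (r : ℕ) (hr : 2 * g < r)
    (L : C.Modules) (hL : PicF.IsInvertible L) (hLdeg : Curv2.deg k C L 1 = (r : ℤ)) :
    ∃ σ : Fin (r - g) → (Spec (CommRingCat.of k) ⟶ C), (∀ t, σ t ≫ (C ↘ Spec (CommRingCat.of k)) = 𝟙 _) ∧
      Module.finrank k (Coh.HH C (CohB1.tensorMod L (FGA.tensorList (List.ofFn fun t : Fin (r - g) =>
        ClSub.idealMod (σ t).ker))) 0) = 1 := by
  classical
  obtain ⟨_, _⟩ := JacPts.integral_reg k C hdim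
  have hK := JacPts.isFunctionField k hdim hσ₀
  rw [JacPts.genus_eq k hdim hσ₀] at hg
  rw [FFCurve.deg_eq k hdim hK hL] at hLdeg
  set D := FFCurve.divOf k hdim hL
  have hell : (FunFld.ell D : ℤ) = r + 1 - g := by
    rw [FF.ell_eq_of_deg_ge hK (by omega), hLdeg, hg]
  obtain ⟨σ, h, he⟩ := exists_drop k hdim hK D (r - g) (by omega)
  refine ⟨σ, h, ?_⟩
  obtain ⟨hI, e⟩ := JacPts.divEq_tensorList k hdim σ h
  rw [FFCurve.finrank_zero k hdim hK (AmpleLib.isInvertible_tensorMod hL hI)]
  have e' := FFCurve.DivEq.trans' k hdim (FFCurve.divEq_tensor k hdim hL hI)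
    (FFCurve.DivEq.add' k hdim (FFCurve.divEq_refl k hdim D) e)
  rw [FFCurve.DivEq.ell_eq k hdim e', ← sub_eq_add_neg]
  omega

end Groth.Agent.S19880
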