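import Groth.Statements.S19881
import Groth.Agent.GrLC.LinearSOP
import Groth.Agent.GrSyz.Regularity
-- import your own Groth.Agent.* helpers here

set_option autoImplicit false
set_option maxRecDepth 20000
universe u
open GrLC

namespace Groth.Agent.S19881

/-- Let R = ⊕_{n ≥ 0} R_n be a (Noetherian) positively ℤ-graded ring which is standard graded
(irrelevant ideal generated by R_1), with R_0 Artinian, *local with unique homogeneous maximal ideal
m, Cohen–Macaulay of Krull dimension d, and with infinite residue field R/m. If the a-invariant of R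
equals −d, i.e. the end (largest nonzero degree) of the graded local cohomology module H^d_m(R),
computed from any *injective resolution of R in the graded category, is −d, then R is a polynomial
ring over R_0 in d variables of degree one: there is an R_0-algebra isomorphism R_0[T_1, …, T_d] ≅ R
mapping every variable into R_1. (The published statement asserts the equivalence of a(R) = −d with
R ≅ R_0[T_1, …, T_d] without the residue-field hypothesis; its argument treats the case of an
infinite residue field, which is the case stated here, and only the forward implication is stated.) -/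
theorem result (R : Type u) [CommRing R]
    [LocCoh.IsCohenMacaulayRing R] (𝒜 : ℤ → AddSubgroup R) [GradedRing 𝒜]
    (hpos : ∀ n : ℤ, n < 0 → 𝒜 n = ⊥)
    (hstd : Ideal.span (⋃ n ∈ Set.Ioi (0 : ℤ), (𝒜 n : Set R)) = Ideal.span ((𝒜 1 : AddSubgroup R) : Set R))
    [IsArtinianRing (GrLC.deg0 𝒜)] (m : HomogeneousIdeal 𝒜) (hm : GrLC.IsStarLocal 𝒜 m)
    (hinf : Infinite (R ⧸ m.toIdeal)) (d : ℕ) (hd : ringKrullDim R = d) (I : GrLC.StarInjRes 𝒜 𝒜)
    (ha : GrLC.endDeg (I.Hgr m d) = (((-(d : ℤ) : ℤ) : WithTop ℤ) : WithBot (WithTop ℤ))) :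
    ∃ e : MvPolynomial (Fin d) (GrLC.deg0 𝒜) ≃ₐ[GrLC.deg0 𝒜] R, ∀ t : Fin d, e (MvPolynomial.X t) ∈ 𝒜 1 := by
  have hp : ∀ e : ℤ, e < 0 → ∀ y ∈ 𝒜 e, y = 0 := fun e he y hy => by rw [hpos e he] at hy; exact hy
  haveI := hinf
  refine Groth.Agent.GrLC.exists_algEquiv hp m hm hd (Groth.Agent.GrLC.irrel_eq_span_one hstd)
    (fun x => ⟨fun hx => ⟨⟨x, hx⟩, rfl⟩, ?_⟩) Subtype.val_injective fun n hn => ?_
  · rintro ⟨c, rfl⟩
    exact c.2
  · exact ((Submodule.toAddSubgroup_inj (I.Hcomp m d n) ⊥).trans
      (Groth.Agent.GrLC.LC.Hcomp_eq_bot_iff m d I n)).1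
      ((Groth.Agent.GrSyz.endDeg_le_iff _ _).1 ha.le n hn)

end Groth.Agent.S19881
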