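import Groth.Statements.S19884
import Groth.Agent.H13.GalTorsor
import Groth.Agent.H13.Split


set_option autoImplicit false
open CategoryTheory CategoryTheory.Limits MonoidalCategory CartesianMonoidalCategory MonObj GrpObj AlgebraicGeometry
universe u
open scoped TensorProduct
open Brauer

namespace Groth.Agent.S19884

/-- Let k be an algebraically closed field of characteristic zero and K a field extension of k. If the
solvable form of the algebraic Hilbert 13th problem has an affirmative answer over K — for every
finite group S and every α ∈ H¹(K, S) there is a solvable extension L of K (Galois over K, every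
element lying in an intermediate field finite Galois over K with solvable Galois group, i.e. L
inside the maximal solvable extension K_sol) such that α_L has essential dimension at most 1, i.e.
comes from H¹(L₀, S) for a subfield k ⊆ L₀ ⊆ L of transcendence degree at most 1 over k — then K_sol
has cohomological dimension at most 1. As for part (i), the conclusion is stated in the equivalent
Brauer-group form that its proof establishes, unfolded without naming K_sol: for every finite
separable extension E of K and every finite-dimensional central division algebra D over E there is a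
solvable extension L of K in the above sense such that M ⊗_E D is a matrix algebra over M for every
field M containing E and L compatibly over K (so Br(E) → Br(E ⊗_K K_sol) is trivial, from which
cd(K_sol) ≤ 1 follows). H¹(K, S) is rendered by torsor schemes over Spec K under finite k-group
schemes S (constant groups, k being algebraically closed), locally trivial for the etale topology,
and the hypothesis compares the base changes of α and of the torsor over L₀ to Spec L as actions of
the base change of S through the canonical identifications of iterated base changes. -/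
theorem result
    (k K : Type u) [Field k] [IsAlgClosed k] [CharZero k] [Field K] [Algebra k K]
    (h13 : ∀ (S : Over (Spec (CommRingCat.of k))) [GrpObj S] [IsFinite S.hom]
      (β : NonAbH1.TorsorSch (Red.bc (Spec.map (CommRingCat.ofHom (algebraMap k K))) S) Scheme.etalePrecoverage),
      ∃ (L : Type u) (_ : Field L) (_ : Algebra K L) (_ : IsGalois K L),
        (∀ x : L, ∃ L' : IntermediateField K L, x ∈ L' ∧ FiniteDimensional K L' ∧ IsGalois K L' ∧ Group.IsSolvable (L' ≃ₐ[K] L')) ∧
        ∃ (L₀ : Type u) (_ : Field L₀) (_ : Algebra k L₀) (_ : Algebra L₀ L)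
          (hc : Spec.map (CommRingCat.ofHom (algebraMap L₀ L)) ≫ Spec.map (CommRingCat.ofHom (algebraMap k L₀)) = Spec.map (CommRingCat.ofHom (algebraMap K L)) ≫ Spec.map (CommRingCat.ofHom (algebraMap k K)))
          (c₀ : NonAbH1.TorsorSch (Red.bc (Spec.map (CommRingCat.ofHom (algebraMap k L₀))) S) Scheme.etalePrecoverage),
          Algebra.trdeg k L₀ ≤ 1 ∧
          Nonempty (NonAbH1.EquivIso
            ((c₀.act.bc (Spec.map (CommRingCat.ofHom (algebraMap L₀ L)))).restrict
              (ActBC.bcCompIso (Spec.map (CommRingCat.ofHom (algebraMap L₀ L))) (Spec.map (CommRingCat.ofHom (algebraMap k L₀))) S hc).inv)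
            ((β.act.bc (Spec.map (CommRingCat.ofHom (algebraMap K L)))).restrict
              (ActBC.bcCompIso (Spec.map (CommRingCat.ofHom (algebraMap K L))) (Spec.map (CommRingCat.ofHom (algebraMap k K))) S rfl).inv)))
    (E : Type u) [Field E] [Algebra K E] [FiniteDimensional K E] [Algebra.IsSeparable K E]
    (D : Type u) [DivisionRing D] [Algebra E D] [Algebra.IsCentral E D] [FiniteDimensional E D] :
    ∃ (L : Type u) (_ : Field L) (_ : Algebra K L) (_ : IsGalois K L),
      (∀ x : L, ∃ L' : IntermediateField K L, x ∈ L' ∧ FiniteDimensional K L' ∧ IsGalois K L' ∧ Group.IsSolvable (L' ≃ₐ[K] L')) ∧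
      ∀ (M : Type u) [Field M] [Algebra K M] [Algebra E M] [Algebra L M] [IsScalarTower K E M]
        [IsScalarTower K L M],
        ∃ n : ℕ, Nonempty ((M ⊗[E] D) ≃ₐ[M] Matrix (Fin n) (Fin n) M) := by
  classical
  haveI : CharZero K := charZero_of_injective_algebraMap (algebraMap k K).injective
  obtain ⟨M, iMf, iMK, hfin, hgal, hsplit⟩ := Groth.Agent.H13.exists_galois_splitting_data k K E D
  haveI := Groth.Agent.H13.isFinite_galGrp k K M
  obtain ⟨L, iL, iKL, hL, hQ, L₀, iL₀, ikL₀, iL₀L, hc, c₀, htr, ⟨eqv⟩⟩ :=
    h13 (CoactBr.sp k (Groth.Agent.H13.GalF k K M)) (Groth.Agent.H13.galTorsor k K M)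
  refine ⟨L, iL, iKL, hL, hQ, ?_⟩
  intro N _ _ _ _ _ _
  obtain ⟨n, -, hn⟩ := hsplit L L₀ htr
    (Groth.Agent.H13.exists_surjective_of_iso K M L L₀ c₀.X eqv.iso) N
  exact ⟨n, hn⟩

end Groth.Agent.S19884
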