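import Groth.Statements.S19887
import Groth.Agent.Nagata.PairGen
import Groth.Agent.Nagata.Boundary
-- import your own Groth.Agent.* helpers here

set_option autoImplicit false
universe u
open LVCorr

namespace Groth.Agent.S19887

open AlgebraicGeometry CategoryTheory CategoryTheory.Limits in
/-- An open immersion which is a section of a separated morphism and has dense range is an iso. -/
theorem isIso_of_section_dense {A B : Scheme.{u}} (s : A ⟶ B) (p : B ⟶ A) [IsSeparated p]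
    [IsOpenImmersion s] (h : s ≫ p = 𝟙 A) (hd : DenseRange s) : IsIso s := by
  have : IsClosedImmersion (s ≫ p) := h ▸ inferInstance
  have : IsClosedImmersion s := IsClosedImmersion.of_comp s p
  refine (isIso_iff_isOpenImmersion_and_epi_base s).mpr ⟨inferInstance, ?_⟩
  rw [TopCat.epi_iff_surjective, ← Set.range_eq_univ]
  rw [← s.isClosedEmbedding.isClosed_range.closure_eq]
  exact hd.closure_range

open AlgebraicGeometry CategoryTheory CategoryTheory.Limits in
/-- Let k be a field and R a discrete valuation ring with a k-algebra structure, with generic point η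
(an open point of Spec R). Let X be a separated k-scheme of finite type, X_R = X ×_k Spec R, and let
(X̃, φ) be a lift of X over R: X̃ is a separated R-scheme of finite type (locally of finite type and
quasi-compact over R) and φ : X̃ → X_R an R-morphism inducing an isomorphism over η. Then there
exist a scheme Ỹ and a proper morphism ψ : Ỹ → X̃ such that (1) (Ỹ, ψ ∘ φ) is a lift of X, i.e. ψ ∘
φ is an isomorphism over η, (2) Ỹ is proper over X̃, and (3) for every compactification of X, i.e.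
every open immersion of X over k into a proper k-scheme X̄ (with X̄_R = X̄ ×_k Spec R and the
induced morphism X_R → X̄_R), Ỹ embeds by an open immersion into a scheme Ỹ(X̄) proper over R and
lifting X̄ (an R-morphism Ỹ(X̄) → X̄_R that is an isomorphism over η) such that Ỹ → Ỹ(X̄) → X̄_R
equals Ỹ → X̃ → X_R → X̄_R. (The source works over an algebraically closed field k and a discrete
valuation ring over k with residue field k, and its compactifications are dense open immersions;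
none of this is used.) -/
theorem result
    (k : Type u) [Field k] (R : Type u) [CommRing R] [IsDomain R] [IsDiscreteValuationRing R] [Algebra k R]
    (η : (Spec (CommRingCat.of R)).Opens) (hη : (η : Set ↥(Spec (CommRingCat.of R))) = {genericPoint ↥(Spec (CommRingCat.of R))})
    (X : Scheme.{u}) (pX : X ⟶ Spec (CommRingCat.of k)) [IsSeparated pX] [LocallyOfFiniteType pX] [QuasiCompact pX]
    (XR : Scheme.{u}) (a : XR ⟶ X) (b : XR ⟶ Spec (CommRingCat.of R)) (hXR : IsPullback a b pX (Spec.map (CommRingCat.ofHom (algebraMap k R))))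
    (Xt : Scheme.{u}) (q : Xt ⟶ Spec (CommRingCat.of R)) [IsSeparated q] [LocallyOfFiniteType q] [QuasiCompact q]
    (φ : Xt ⟶ XR) (hφ : φ ≫ b = q) (hφη : IsIso (φ ∣_ (b ⁻¹ᵁ η))) :
    ∃ (Y : Scheme.{u}) (ψ : Y ⟶ Xt), IsProper ψ ∧ IsIso ((ψ ≫ φ) ∣_ (b ⁻¹ᵁ η)) ∧
      ∀ (Xb : Scheme.{u}) (pXb : Xb ⟶ Spec (CommRingCat.of k)) [IsProper pXb] (jX : X ⟶ Xb) [IsOpenImmersion jX]
        (hj : jX ≫ pXb = pX)
        (XbR : Scheme.{u}) (ab : XbR ⟶ Xb) (bb : XbR ⟶ Spec (CommRingCat.of R)) (hXbR : IsPullback ab bb pXb (Spec.map (CommRingCat.ofHom (algebraMap k R))))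
        (jR : XR ⟶ XbR) (hjR₁ : jR ≫ ab = a ≫ jX) (hjR₂ : jR ≫ bb = b),
        ∃ (Yb : Scheme.{u}) (qb : Yb ⟶ Spec (CommRingCat.of R)) (_ : IsProper qb) (φb : Yb ⟶ XbR) (_ : φb ≫ bb = qb)
          (_ : IsIso (φb ∣_ (bb ⁻¹ᵁ η))) (e : Y ⟶ Yb) (_ : IsOpenImmersion e),
          e ≫ φb = ψ ≫ φ ≫ jR := by
  haveI : IsSeparated b := MorphismProperty.of_isPullback (P := @IsSeparated) hXR inferInstance
  haveI : IsSeparated (φ ≫ b) := hφ ▸ inferInstance
  haveI : QuasiCompact (φ ≫ b) := hφ ▸ inferInstance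
  haveI : LocallyOfFiniteType (φ ≫ b) := hφ ▸ inferInstance
  refine ⟨Xt, 𝟙 Xt, inferInstance, by rw [Category.id_comp]; exact hφη, ?_⟩
  intro Xb pXb _ jX _ hj XbR ab bb hXbR jR hjR₁ hjR₂
  haveI : IsProper bb := MorphismProperty.of_isPullback (P := @IsProper) hXbR inferInstance
  haveI : IsLocallyNoetherian XbR := LocallyOfFiniteType.isLocallyNoetherian bb
  haveI : CompactSpace XbR := QuasiCompact.compactSpace_of_compactSpace bb
  haveI : QuasiSeparatedSpace XbR := quasiSeparatedSpace_of_quasiSeparated bb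
  haveI : IsOpenImmersion jR := by
    have hsq : IsPullback a jR jX ab := by
      refine IsPullback.of_bot ?_ hjR₁.symm hXbR
      rw [hjR₂, hj]
      exact hXR
    exact MorphismProperty.of_isPullback (P := @IsOpenImmersion) hsq inferInstance
  have hq' : (φ ≫ jR) ≫ bb = q := by rw [Category.assoc, hjR₂, hφ]
  haveI : IsSeparated ((φ ≫ jR) ≫ bb) := hq' ▸ inferInstance
  haveI : QuasiCompact ((φ ≫ jR) ≫ bb) := hq' ▸ inferInstance
  haveI : LocallyOfFiniteType ((φ ≫ jR) ≫ bb) := hq' ▸ inferInstance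
  haveI : IsSeparated (φ ≫ jR) := IsSeparated.of_comp (φ ≫ jR) bb
  haveI : QuasiCompact (φ ≫ jR) := QuasiCompact.of_comp (φ ≫ jR) bb
  haveI : LocallyOfFiniteType (φ ≫ jR) := locallyOfFiniteType_of_comp (φ ≫ jR) bb
  haveI : CompactSpace Xt := QuasiCompact.compactSpace_of_compactSpace q
  let N : XbR.Opens := bb ⁻¹ᵁ η
  let M : XR.Opens := b ⁻¹ᵁ η
  let O : Xt.Opens := φ ⁻¹ᵁ M
  have hMN : M = jR ⁻¹ᵁ N := by
    show b ⁻¹ᵁ η = jR ⁻¹ᵁ (bb ⁻¹ᵁ η)
    rw [← Scheme.Hom.comp_preimage, hjR₂]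
  have hηc : ∀ {Z : Scheme.{u}} (g : Z ⟶ Spec (CommRingCat.of R)) [QuasiCompact g],
      CompactSpace (g ⁻¹ᵁ η).toScheme := fun g _ => isCompact_iff_compactSpace.mp
    (g.isCompact_preimage (show IsCompact (η : Set ↥(Spec (CommRingCat.of R))) from hη ▸ isCompact_singleton))
  haveI : CompactSpace N.toScheme := hηc bb
  haveI : CompactSpace O.toScheme := by
    have : O = q ⁻¹ᵁ η := by
      show φ ⁻¹ᵁ (b ⁻¹ᵁ η) = _
      rw [← Scheme.Hom.comp_preimage, hφ]
    rw [this]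
    exact hηc q
  let l : M.toScheme ⟶ N.toScheme := IsOpenImmersion.lift N.ι (M.ι ≫ jR) (by
    rw [Scheme.Opens.range_ι]
    rintro _ ⟨z, rfl⟩
    show jR z.1 ∈ N
    exact (hMN ▸ (le_refl M) : M ≤ jR ⁻¹ᵁ N) z.2)
  have hl : l ≫ N.ι = M.ι ≫ jR := IsOpenImmersion.lift_fac _ _ _
  haveI : IsOpenImmersion (l ≫ N.ι) := by rw [hl]; infer_instance
  haveI : IsOpenImmersion l := IsOpenImmersion.of_comp l N.ι
  haveI : IsIso (φ ∣_ M) := hφη
  let i₂ : O.toScheme ⟶ N.toScheme := (φ ∣_ M) ≫ l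
  have hi₂ : i₂ ≫ N.ι = O.ι ≫ φ ≫ jR := by
    simp only [i₂, Category.assoc, hl, morphismRestrict_ι_assoc, O]
  have h : (O.ι ≫ 𝟙 Xt) ≫ (φ ≫ jR) = (i₂ ≫ 𝟙 N.toScheme) ≫ N.ι := by
    simp only [Category.comp_id, hi₂]
  have hsurj : ∀ z, z ∈ Set.range (pullback.lift (O.ι ≫ 𝟙 Xt) (i₂ ≫ 𝟙 N.toScheme) h) := by
    intro z
    have hz : pullback.fst (φ ≫ jR) N.ι z ∈ O := by
      show φ (pullback.fst (φ ≫ jR) N.ι z) ∈ M
      rw [hMN]
      show jR (φ (pullback.fst (φ ≫ jR) N.ι z)) ∈ N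
      have hc : jR (φ (pullback.fst (φ ≫ jR) N.ι z)) = N.ι (pullback.snd (φ ≫ jR) N.ι z) :=
        congr(($(pullback.condition (f := φ ≫ jR) (g := N.ι))) z)
      rw [hc]
      exact (pullback.snd (φ ≫ jR) N.ι z).2
    refine ⟨⟨_, hz⟩, (pullback.fst (φ ≫ jR) N.ι).isOpenEmbedding.injective ?_⟩
    have hf : pullback.lift (O.ι ≫ 𝟙 Xt) (i₂ ≫ 𝟙 N.toScheme) h ≫ pullback.fst (φ ≫ jR) N.ι = O.ι :=
      (pullback.lift_fst _ _ _).trans (Category.comp_id _)
    exact congr(($hf) ⟨_, hz⟩)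
  obtain ⟨W, qW, _, _, _, A, aA, B, bB, iA, iB, uA, uB, -, -, haA, hbB, _, _, hcov, _, _, hdA, hdB,
      huA, huB, hiA, hiB, hglue, -⟩ :=
    Groth.Agent.Nagata.exists_glue (φ ≫ jR) N.ι O.ι i₂ (𝟙 Xt) (𝟙 N.toScheme) h
      (fun z _ _ => hsurj z) (fun z _ _ => hsurj z)
  haveI := haA
  haveI := hbB
  haveI : IsIso uA := isIso_of_section_dense uA aA huA hdA
  haveI : IsIso uB := isIso_of_section_dense uB bB huB hdB
  let e₁ := uA ≫ iA
  let e₂ := uB ≫ iB
  have he₁ : e₁ ≫ qW = φ ≫ jR := by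
    simp only [e₁, Category.assoc, hiA, reassoc_of% huA]
  have he₂ : e₂ ≫ qW = N.ι := by
    simp only [e₂, Category.assoc, hiB, reassoc_of% huB]
  have hqN : ∀ w, qW w ∈ N → w ∈ Set.range e₂ := by
    intro w hw
    rcases (hcov.symm ▸ trivial : w ∈ Set.range iA ∪ Set.range iB) with ⟨t, rfl⟩ | ⟨t, rfl⟩
    · obtain ⟨x, rfl⟩ : ∃ x, uA x = t := uA.homeomorph.surjective t
      have hx : x ∈ O := by
        show φ x ∈ M
        rw [hMN]
        show jR (φ x) ∈ N
        rwa [← Scheme.Hom.comp_apply, ← he₁]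
      refine ⟨i₂ ⟨x, hx⟩, ?_⟩
      show (i₂ ≫ uB ≫ iB) ⟨x, hx⟩ = _
      rw [← hglue]
      rfl
    · obtain ⟨x, rfl⟩ : ∃ x, uB x = t := uB.homeomorph.surjective t
      exact ⟨x, rfl⟩
  haveI : CompactSpace W := QuasiCompact.compactSpace_of_compactSpace qW
  obtain ⟨Yb, jW, pY, -, _, _, _, hpY, hjpY, -, -⟩ := Groth.Agent.Nagata.exists_compactification_boundary qW
  haveI := hpY
  refine ⟨Yb, pY ≫ bb, inferInstance, pY, rfl, ?_, e₁ ≫ jW, inferInstance, ?_⟩
  · let s : N.toScheme ⟶ (pY ⁻¹ᵁ N).toScheme := IsOpenImmersion.lift (pY ⁻¹ᵁ N).ι (e₂ ≫ jW) (by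
      rw [Scheme.Opens.range_ι]
      rintro _ ⟨z, rfl⟩
      show pY ((e₂ ≫ jW) z) ∈ N
      rw [← Scheme.Hom.comp_apply, Category.assoc, hjpY, he₂]
      exact z.2)
    have hs : s ≫ (pY ⁻¹ᵁ N).ι = e₂ ≫ jW := IsOpenImmersion.lift_fac _ _ _
    haveI : IsOpenImmersion (s ≫ (pY ⁻¹ᵁ N).ι) := by rw [hs]; infer_instance
    haveI : IsOpenImmersion s := IsOpenImmersion.of_comp s (pY ⁻¹ᵁ N).ι
    have hsp : s ≫ (pY ∣_ N) = 𝟙 _ := by
      rw [← cancel_mono N.ι, Category.assoc, morphismRestrict_ι, reassoc_of% hs, hjpY, he₂,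
        Category.id_comp]
    have hd : DenseRange s := by
      have hdj : Dense (Set.range jW) := jW.denseRange
      intro z
      refine closure_subtype.mpr ?_
      refine closure_mono ?_ (hdj.open_subset_closure_inter (pY ⁻¹ᵁ N).2 z.2)
      rintro y ⟨hy, ⟨w, rfl⟩⟩
      obtain ⟨x, rfl⟩ := hqN w (by rw [← hjpY]; exact hy)
      exact ⟨s x, ⟨x, rfl⟩, congr(($hs) x)⟩
    haveI := isIso_of_section_dense s (pY ∣_ N) hsp hd
    exact IsIso.of_isIso_fac_left hsp
  · rw [Category.id_comp, Category.assoc, hjpY, he₁]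

end Groth.Agent.S19887
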