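import Groth.Statements.S19889
import Groth.Agent.GrpScheme.ClosedImage
import Groth.Agent.GrpScheme.EtaleEndo
import Groth.Agent.GrpScheme.IdComponent
import Groth.Agent.AbVarLib.Basics
import Groth.Agent.FBase.BC
import Mathlib.AlgebraicGeometry.AlgClosed.Basic
-- import your own Groth.Agent.* helpers here

set_option autoImplicit false
universe u
open CategoryTheory CategoryTheory.Limits MonoidalCategory CartesianMonoidalCategory MonObj GrpObj AlgebraicGeometry
open GrpSch Groth.Agent.GrpScheme TopologicalSpace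

namespace Groth.Agent.S19889

/-- Let k be an algebraically closed field, G a commutative group scheme locally of finite type over k,
and i : G⁰ → G its identity component (a homomorphism that is an open immersion onto the connected
component of the unit point). Then the natural map from the torsion subgroup of G(k) to the torsion
subgroup of G(k)/G⁰(k) is surjective: if g is a k-point of G and gⁿ lies in G⁰(k) for some n ≥ 1,
then there is a k-point t of G of finite order such that t⁻¹ g lies in G⁰(k). -/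
theorem result (k : Type u) [Field k] [IsAlgClosed k]
    {G G0 : Over (Spec (CommRingCat.of k))} [GrpObj G] [IsCommMonObj G] [GrpObj G0]
    [LocallyOfFiniteType G.hom] (i : G0 ⟶ G) [IsMonHom i] (hi : AutSch.IsIdComp i)
    (g : 𝟙_ (Over (Spec (CommRingCat.of k))) ⟶ G) (n : ℕ) (hn : 0 < n)
    (hg : g ^ n ∈ AutSch.ptsRange i) :
    ∃ t : 𝟙_ (Over (Spec (CommRingCat.of k))) ⟶ G, IsOfFinOrder t ∧ t⁻¹ * g ∈ AutSch.ptsRange i := by
  obtain ⟨-, hopen, hrange⟩ := hi
  have : IsOpenImmersion i.left := hopen
  have : Mono i.left := inferInstance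
  have hmono : Mono i := Over.mono_of_mono_left i
  have : IsCommMonObj G0 := ⟨by
    rw [← cancel_mono i, Category.assoc, IsMonHom.mul_hom, ← BraidedCategory.braiding_naturality_assoc,
      IsCommMonObj.mul_comm]⟩
  have : LocallyOfFiniteType G0.hom := by
    rw [← Over.w i]; infer_instance
  have : ConnectedSpace G0.left := by
    have hc : _root_.IsConnected (Set.range i.left) := by
      rw [show Set.range i.left = connectedComponent (AutSch.unitPt G) from
        hrange.trans (AutSch.neutralSet_eq_connectedComponent G)]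
      exact isConnected_connectedComponent
    have : ConnectedSpace (Set.range i.left) := Subtype.connectedSpace hc
    exact i.left.isOpenEmbedding.isEmbedding.toHomeomorph.symm.surjective.connectedSpace
      i.left.isOpenEmbedding.isEmbedding.toHomeomorph.symm.continuous
  have := Groth.Agent.AbVarLib.Basics.irreducibleSpace_of_connectedSpace G0
  have : GeometricallyIrreducible G0.hom := FBase.BC.geometricallyIrreducible_of_isSepClosed G0.hom
  have : CompactSpace G0.left := Points.compactSpace_of_geometricallyIrreducible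
  have : IsLocallyNoetherian G0.left := LocallyOfFiniteType.isLocallyNoetherian G0.hom
  have : AlgebraicGeometry.IsNoetherian G0.left := { }
  have : JacobsonSpace G0.left := LocallyOfFiniteType.jacobsonSpace G0.hom
  have hsep := IdComponent.isSeparated G0
  let P : ℕ → (G0 ⟶ G0) := fun j => 𝟙 G0 ^ (((n ^ j : ℕ)) : ℤ)
  have hPcomp : ∀ (j : ℕ) (y : 𝟙_ (Over (Spec (CommRingCat.of k))) ⟶ G0), y ≫ P j = y ^ (n ^ j) := by
    intro j y
    rw [GrpObj.comp_zpow, Category.comp_id, zpow_natCast]
  have hPsucc : ∀ j, P (j + 1) = (𝟙 G0 ^ (n : ℤ)) ≫ P j := by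
    intro j
    simp only [P, GrpObj.comp_zpow, Category.comp_id]
    rw [← zpow_mul, pow_succ, Nat.cast_mul, mul_comm ((n ^ j : ℕ) : ℤ)]
  have hQC : ∀ j, QuasiCompact (P j).left := fun j => by
    have : QuasiCompact ((P j).left ≫ G0.hom) := by
      rw [Over.w (P j)]
      exact (quasiCompact_iff_compactSpace G0.hom).2 inferInstance
    exact QuasiCompact.of_comp (P j).left G0.hom
  let C : ℕ → Closeds G0.left := fun j => ⟨Set.range (P j).left, by
    have := EtaleEndo.isMonHom_zpow G0 (((n ^ j : ℕ)) : ℤ)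
    have : QuasiCompact (P j).left := hQC j
    exact ClosedImage.isClosed_range (P j)⟩
  obtain ⟨N, hN⟩ : ∃ N, C (N + 1) = C N := by
    have hanti : Antitone C := antitone_nat_of_succ_le fun j => by
      show Set.range (P (j + 1)).left ⊆ Set.range (P j).left
      rw [hPsucc, Over.comp_left]
      rintro _ ⟨x, rfl⟩
      exact ⟨_, (Scheme.Hom.comp_apply _ _ x).symm⟩
    obtain ⟨_, ⟨N, rfl⟩, hN⟩ := (wellFounded_lt (α := Closeds G0.left)).has_min (Set.range C) ⟨_, 0, rfl⟩
    exact ⟨N, (hanti (Nat.le_succ N)).eq_of_not_lt (hN _ ⟨N + 1, rfl⟩)⟩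
  obtain ⟨g₀, hg₀⟩ := (AutSch.mem_ptsRange_iff i (g ^ n)).1 hg
  let h := g₀ ≫ P N
  have hmem : h.left (IsLocalRing.closedPoint k) ∈ C (N + 1) := by
    rw [hN]
    exact ⟨_, (Scheme.Hom.comp_apply g₀.left (P N).left _).symm⟩
  have hhc : IsClosed ({h.left (IsLocalRing.closedPoint k)} : Set G0.left) :=
    ((pointEquivClosedPoint G0.hom) ⟨h.left, Over.w h⟩).2
  obtain ⟨z, hz, hzc⟩ := nonempty_inter_closedPoints
    (Z := (P (N + 1)).left ⁻¹' {h.left (IsLocalRing.closedPoint k)})
    (by obtain ⟨x, hx⟩ := hmem; exact ⟨x, hx⟩) (hhc.preimage (P (N + 1)).left.continuous).isLocallyClosed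
  let y : 𝟙_ (Over (Spec (CommRingCat.of k))) ⟶ G0 :=
    Over.homMk (pointOfClosedPoint G0.hom z hzc) (pointOfClosedPoint_comp G0.hom z hzc)
  have hy : y ≫ P (N + 1) = h := by
    apply Over.OverMorphism.ext
    refine ext_of_apply_closedPoint_eq G0.hom (Over.w (y ≫ P (N + 1))) (Over.w h) ?_
    show (P (N + 1)).left (pointOfClosedPoint G0.hom z hzc (IsLocalRing.closedPoint k)) = _
    refine (congrArg (P (N + 1)).left (pointOfClosedPoint_apply G0.hom z hzc _)).trans ?_
    exact hz
  let φ := IsMonHom.monoidHom i (𝟙_ (Over (Spec (CommRingCat.of k))))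
  have hkey : g ^ (n ^ (N + 1)) = φ y ^ (n ^ (N + 1)) := by
    rw [← map_pow, ← hPcomp, hy, show h = g₀ ^ (n ^ N) from hPcomp N g₀, map_pow,
      show φ g₀ = g ^ n from hg₀, ← pow_mul, ← pow_succ']
  let : CommGroup (𝟙_ (Over (Spec (CommRingCat.of k))) ⟶ G) := Hom.commGroup
  refine ⟨g * (φ y)⁻¹, ?_, ?_⟩
  · rw [isOfFinOrder_iff_pow_eq_one]
    refine ⟨n ^ (N + 1), pow_pos hn _, ?_⟩
    rw [mul_pow, inv_pow, ← hkey, mul_inv_cancel]
  · refine (AutSch.mem_ptsRange_iff i _).2 ⟨y, ?_⟩
    show φ y = _
    rw [_root_.mul_inv_rev, _root_.inv_inv, _root_.mul_assoc, inv_mul_cancel, _root_.mul_one]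


end Groth.Agent.S19889
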