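import Mathlib
import Groth.Agent.S17722
import Groth.Statements.S19890
-- import your own Groth.Agent.* helpers here

set_option autoImplicit false
universe u
open CAlg

namespace Groth.Agent.S19890

/-- Let R → R' be a faithfully flat ring map between Noetherian integrally closed local domains. Then
unique factorization descends along this map: when R' is a UFD, so is R. (The first assertion of the
lemma, descent of principality for an ideal whose extension to R' is principal, is a separate
statement.) -/
theorem result
    (R R' : Type u) [CommRing R] [CommRing R'] [IsDomain R] [IsDomain R']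
    [IsNoetherianRing R] [IsNoetherianRing R'] [IsLocalRing R] [IsLocalRing R']
    [IsIntegrallyClosed R] [IsIntegrallyClosed R']
    [Algebra R R'] [Module.FaithfullyFlat R R'] [UniqueFactorizationMonoid R'] :
    UniqueFactorizationMonoid R := by
  classical
  have key : ∀ a b : R, ∃ c : R, ∀ d : R, a ∣ d ∧ b ∣ d ↔ c ∣ d := by
    intro a b
    letI := UniqueFactorizationMonoid.toGCDMonoid R'
    set I : Ideal R := Ideal.span {a} ⊓ Ideal.span {b} with hI
    have hmap : I.map (algebraMap R R') = Ideal.span {lcm (algebraMap R R' a) (algebraMap R R' b)} := by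
      refine le_antisymm (Ideal.map_le_iff_le_comap.mpr fun x hx => ?_) ?_
      · rw [Ideal.mem_comap, Ideal.mem_span_singleton]
        obtain ⟨hxa, hxb⟩ := hx
        exact lcm_dvd (map_dvd _ (Ideal.mem_span_singleton.mp hxa))
          (map_dvd _ (Ideal.mem_span_singleton.mp hxb))
      · rw [Ideal.span_singleton_le_iff_mem]
        set z := lcm (algebraMap R R' a) (algebraMap R R' b) with hz
        obtain ⟨x, hx⟩ : algebraMap R R' a ∣ z := dvd_lcm_left _ _
        obtain ⟨y, hy⟩ : algebraMap R R' b ∣ z := dvd_lcm_right _ _
        have hrel : ∑ i, ![a, -b] i • ![x, y] i = 0 := by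
          simp [Fin.sum_univ_two, Algebra.smul_def, ← hx, ← hy]
        obtain ⟨k, c, w, hc, hc'⟩ :=
          Module.Flat.isTrivialRelation_of_sum_smul_eq_zero (R := R) (M := R') (f := ![a, -b]) (x := ![x, y]) hrel
        rw [hx, show x = ∑ j, c 0 j • w j from hc 0, Finset.mul_sum]
        refine Ideal.sum_mem _ fun j _ => ?_
        rw [Algebra.smul_def, ← mul_assoc, ← map_mul]
        refine Ideal.mul_mem_right _ _ (Ideal.mem_map_of_mem _ ⟨?_, ?_⟩)
        · exact Ideal.mem_span_singleton.mpr ⟨c 0 j, rfl⟩
        · have := hc' j
          simp [Fin.sum_univ_two] at this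
          exact Ideal.mem_span_singleton.mpr ⟨c 1 j, by linear_combination this⟩
    obtain ⟨c, hc⟩ := (S17722.result R R' I ⟨_, hmap⟩)
    refine ⟨c, fun d => ?_⟩
    have hc' : I = Ideal.span {c} := hc
    have h := SetLike.ext_iff.mp hc' d
    rw [hI, Submodule.mem_inf, Ideal.mem_span_singleton, Ideal.mem_span_singleton,
      Ideal.mem_span_singleton] at h
    exact h
  letI : GCDMonoid R := gcdMonoidOfExistsLCM key
  exact ufm_of_decomposition_of_wfDvdMonoid

end Groth.Agent.S19890
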