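import Groth.Statements.S19892
import Groth.Agent.ValCritLib.Refined

set_option autoImplicit false
universe u
open CategoryTheory AlgebraicGeometry
open ValCrit

namespace Groth.Agent.S19892

/-- Let h : Z → Y and f : Y → X be morphisms of quasi-compact quasi-separated schemes, with h dominant
and f locally of finite type. Then f is proper if and only if the following refined valuative
criterion holds: for every point z of Z, every valuation ring R of the residue field κ(z) and every
morphism φ : Spec R → X whose restriction to Spec κ(z) is the canonical morphism Spec κ(z) → Z → Y →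
X, there is exactly one morphism Spec R → Y lying over φ and restricting to Spec κ(z) → Z → Y on the
generic point. (The published statement does not require h to be dominant; its proof uses that every
point of Y generalises to a point of h(Z), and for Z empty the criterion holds whatever f is, so
dominance of h is assumed here.) -/
theorem result {X Y Z : Scheme.{u}} (h : Z ⟶ Y) (f : Y ⟶ X)
    [CompactSpace ↥Z] [QuasiSeparatedSpace ↥Z] [CompactSpace ↥Y] [QuasiSeparatedSpace ↥Y]
    [CompactSpace ↥X] [QuasiSeparatedSpace ↥X] (hd : DenseRange h.base)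
    [LocallyOfFiniteType f] :
    IsProper f ↔
      ∀ (z : ↥Z) (R : ValuationSubring ↑(Z.residueField z)) (φ : Spec (CommRingCat.of ↥R) ⟶ X),
        Spec.map (CommRingCat.ofHom R.subtype) ≫ φ = Z.fromSpecResidueField z ≫ h ≫ f →
        ∃! φ' : Spec (CommRingCat.of ↥R) ⟶ Y,
          Spec.map (CommRingCat.ofHom R.subtype) ≫ φ' = Z.fromSpecResidueField z ≫ h ∧ φ' ≫ f = φ := by
  haveI : QuasiCompact h := inferInstance
  haveI : QuasiCompact f := inferInstance
  haveI : QuasiSeparated f := inferInstance
  constructor
  · intro hp z R φ w
    have H : ValuativeCriterion f := by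
      rw [IsProper.eq_valuativeCriterion] at hp
      exact hp.1.1.1
    have hU := Groth.Agent.ValCritLib.refUniq_of_uniqueness h f H.uniqueness
    obtain ⟨l, hl1, hl2⟩ := Groth.Agent.ValCritLib.refExist_of_existence h f H.existence z R φ w
    exact ⟨l, ⟨hl1, hl2⟩, fun l' hl' => hU z R φ w l' l hl'.1 hl'.2 hl1 hl2⟩
  · intro H
    have hU : Groth.Agent.ValCritLib.RefUniq h f := fun z R φ w φ₁ φ₂ a1 b1 a2 b2 =>
      (H z R φ w).unique ⟨a1, b1⟩ ⟨a2, b2⟩
    have hE : Groth.Agent.ValCritLib.RefExist h f := fun z R φ w => (H z R φ w).exists
    exact IsProper.of_valuativeCriterion f (ValuativeCriterion.iff.2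
      ⟨Groth.Agent.ValCritLib.existence h f hd hU hE, Groth.Agent.ValCritLib.uniqueness h f hd hU⟩)

end Groth.Agent.S19892
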