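import Groth.Statements.S19895
import Groth.Agent.Verlinde.Schur

set_option autoImplicit false
open Complex
open VerlindeComb

namespace Groth.Agent.S19895

open Groth.Agent.Verlinde Finset Matrix Complex

theorem algebra_step {ph Z c c' A B Δ Δ' : ℂ} (hΔ : Δ ≠ 0) (hΔ' : Δ' ≠ 0)
    (h : ph * Z = c * c') :
    ph * (A / Δ) * (Z * (B / Δ')) * (Δ * Δ') = c * A * (c' * B) := by
  field_simp
  linear_combination (A * B) * h

/-- One summand. -/
theorem summand (r k : ℕ) (hr : 1 ≤ r) (lam lam' : Fin r → ℕ)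
    (hlam'k : ∀ i, lam' i ≤ k) (v : Fin r → ℕ) (hv : Function.Injective v)
    (hvlt : ∀ i, v i < r + k) :
    Exp.ep (r * (r + k)) (-(((∑ i, lam i) + (∑ i, lam' i) : ℕ) : ℤ) * ((∑ j, v j : ℕ) : ℤ)) *
      (Basic.alt (fun j => Exp.ep (r + k) (v j : ℤ)) (fun i => lam i + Basic.rho r i) /
        Basic.alt (fun j => Exp.ep (r + k) (v j : ℤ)) (Basic.rho r)) *
      (Basic.alt (fun j => Exp.ep (r + k) (v j : ℤ)) (fun i => lam' i + Basic.rho r i) /
        Basic.alt (fun j => Exp.ep (r + k) (v j : ℤ)) (Basic.rho r)) *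
      (Basic.alt (fun j => Exp.ep (r + k) (v j : ℤ)) (Basic.rho r) *
        Basic.alt (fun j => (Exp.ep (r + k) (v j : ℤ))⁻¹) (Basic.rho r)) =
    Basic.alt (Exp.pt (r + k) r (fun i => lam i + Basic.rho r i)) v *
      Basic.alt (fun j => (Exp.pt (r + k) r (fun i => k - lam' (Fin.rev i) + Basic.rho r i) j)⁻¹) v := by
  have hN : 0 < r + k := by omega
  have hinj := Exp.ep_injective hN hv hvlt
  have hd := Basic.schur_dual hr _ hinj (fun j => Exp.ep_pow_self hN _)
    (fun i => k - lam' (Fin.rev i)) (fun i => Nat.sub_le _ _)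
  have hrev : (fun i => k - (k - lam' (Fin.rev (Fin.rev i))) + Basic.rho r i) =
      fun i => lam' i + Basic.rho r i := by
    funext i
    rw [Fin.rev_rev, Nat.sub_sub_self (hlam'k i)]
  rw [hrev] at hd
  rw [hd, show Exp.pt (r + k) r (fun i => lam i + Basic.rho r i) = fun j =>
      Exp.ep (r * (r + k)) (-((∑ i, (lam i + Basic.rho r i) : ℕ) : ℤ)) *
        Exp.ep (r + k) ((lam j + Basic.rho r j : ℕ) : ℤ) from funext fun j => Schur.pt_eq (by omega) _ j,
    show (fun j => (Exp.pt (r + k) r (fun i => k - lam' (Fin.rev i) + Basic.rho r i) j)⁻¹) = fun j =>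
      Exp.ep (r * (r + k)) ((∑ i, (k - lam' (Fin.rev i) + Basic.rho r i) : ℕ) : ℤ) *
        (Exp.ep (r + k) ((k - lam' (Fin.rev j) + Basic.rho r j : ℕ) : ℤ))⁻¹ from
      funext fun j => Schur.pt_inv_eq (by omega) _ j,
    Basic.alt_smul, Basic.alt_smul, Schur.alt_swap (r + k) (fun i => lam i + Basic.rho r i) v,
    Schur.alt_swap_inv (r + k) (fun i => k - lam' (Fin.rev i) + Basic.rho r i) v]
  have h1 := Basic.alt_rho_ne_zero hinj
  have h2 := Basic.alt_rho_ne_zero
    (show Function.Injective (fun j => (Exp.ep (r + k) (v j : ℤ))⁻¹) from inv_injective.comp hinj)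
  have hphase : Exp.ep (r * (r + k)) (-(((∑ i, lam i) + (∑ i, lam' i) : ℕ) : ℤ) * ((∑ j, v j : ℕ) : ℤ)) *
      (∏ j, Exp.ep (r + k) (v j : ℤ)) ^ k =
      Exp.ep (r * (r + k)) (-((∑ i, (lam i + Basic.rho r i) : ℕ) : ℤ)) ^ (∑ j, v j) *
        Exp.ep (r * (r + k)) ((∑ i, (k - lam' (Fin.rev i) + Basic.rho r i) : ℕ) : ℤ) ^ (∑ j, v j) := by
    have hW := congrArg (Nat.cast (R := ℂ)) (Schur.sum_rev_sub lam' hlam'k)
    rw [Schur.prod_ep, Exp.ep_pow, Exp.ep_pow, Exp.ep_pow, Exp.ep, Exp.ep, Exp.ep, Exp.ep,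
      ← Complex.exp_add, ← Complex.exp_add]
    congr 1
    simp only [Finset.sum_add_distrib] at hW ⊢
    generalize (∑ i, (k - lam' (Fin.rev i))) = W at hW ⊢
    generalize (∑ i, Basic.rho r i) = P at hW ⊢
    generalize (∑ i, lam i) = L at hW ⊢
    generalize (∑ i, lam' i) = L' at hW ⊢
    generalize (∑ j, v j) = V at hW ⊢
    have h1 : ((r : ℂ)) ≠ 0 := by exact_mod_cast (show r ≠ 0 by omega)
    have h2 : ((r : ℂ) + k) ≠ 0 := by exact_mod_cast hN.ne'
    push_cast at hW ⊢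
    field_simp
    linear_combination -(V : ℂ) * hW
  exact algebra_step h1 h2 hphase

/-- Fix integers r ≥ 2 and k ≥ 1, and two partitions λ, λ' with k ≥ λ_1 ≥ ⋯ ≥ λ_{r-1} ≥ λ_r = 0 and k ≥
λ'_1 ≥ ⋯ ≥ λ'_{r-1} ≥ λ'_r = 0 such that λ is not equivalent to the dual partition λ'* = (k − λ'_r,
…, k − λ'_1), two integer vectors being equivalent when their difference is a constant vector (a, …,
a). For an integer vector v with r + k > v_1 > ⋯ > v_{r-1} > v_r = 0 put z(v)_j = exp(2πi v_j / (r +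
k)), let S_μ(v) = det(z(v)_j^{μ_i + r − i}) / det(z(v)_j^{r − i}) be the Schur value and P(v) =
∏_{i<j} (2 sin(π (v_i − v_j)/(r + k)))². Then the sum over all such v of exp(−2πi (|λ| + |λ'|) (v_1
+ ⋯ + v_r) / (r (r + k))) · S_λ(v) · S_{λ'}(v) · P(v) vanishes; that is, the genus-zero Verlinde
number of rank r, degree 0 and level k with two parabolic points of types λ, λ' is zero. (Only the
vanishing case is stated; the complementary case, where the number equals 1, is not part of this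
statement. The source allows r = 1, where the non-equivalence hypothesis cannot hold.) Indices are
0-based below: lam i stands for λ_{i+1}. -/
theorem result (r k : ℕ) (hr : 2 ≤ r)
    (hk : 1 ≤ k) (lam lam' : Fin r → ℕ) (hlam : Antitone lam) (hlamk : ∀ i, lam i ≤ k)
    (hlam0 : ∀ i : Fin r, (i : ℕ) = r - 1 → lam i = 0)
    (hlam' : Antitone lam') (hlam'k : ∀ i, lam' i ≤ k) (hlam'0 : ∀ i : Fin r, (i : ℕ) = r - 1 → lam' i = 0)
    (hne : ¬ ∃ a : ℤ, ∀ i, (lam i : ℤ) - ((k - lam' (Fin.rev i) : ℕ) : ℤ) = a)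
    (z : (Fin r → ℕ) → Fin r → ℂ)
    (hz : ∀ v j, z v j = Complex.exp (2 * Real.pi * Complex.I * (v j : ℂ) / ((r : ℂ) + k)))
    (S : (Fin r → ℕ) → (Fin r → ℕ) → ℂ)
    (hS : ∀ μ v, S μ v = (Matrix.of fun i j : Fin r => z v j ^ (μ i + (r - 1 - (i : ℕ)))).det /
        (Matrix.of fun i j : Fin r => z v j ^ (r - 1 - (i : ℕ))).det)
    (P : (Fin r → ℕ) → ℝ)
    (hP : ∀ v, P v = ∏ p ∈ (Finset.univ : Finset (Fin r × Fin r)).filter (fun p => p.1 < p.2),
        ((2 : ℝ) * Real.sin (Real.pi * ((v p.1 : ℝ) - (v p.2 : ℝ)) / ((r : ℝ) + k))) ^ 2) :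
    (∑ v ∈ (Finset.univ : Finset (Fin r → Fin (r + k))).filter
        (fun v : Fin r → Fin (r + k) => StrictAnti v ∧ ∀ i : Fin r, (i : ℕ) = r - 1 → (v i : ℕ) = 0),
      Complex.exp (-(2 * Real.pi * Complex.I * (((∑ i, lam i) + (∑ i, lam' i) : ℕ) : ℂ) *
          ((∑ j, (v j : ℕ) : ℕ) : ℂ) / ((r : ℂ) * ((r : ℂ) + k)))) *
        S lam (fun j => (v j : ℕ)) * S lam' (fun j => (v j : ℕ)) * (P (fun j => (v j : ℕ)) : ℂ)) = 0 := by
  have hN : 0 < r + k := by omega
  set l := fun i => lam i + Basic.rho r i with hl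
  set l' := fun i => k - lam' (Fin.rev i) + Basic.rho r i with hl'
  have anti : ∀ μ : Fin r → ℕ, Antitone μ → StrictAnti fun i => μ i + Basic.rho r i := by
    intro μ hμ a b hab
    have := hμ hab.le
    rw [Fin.lt_def] at hab
    have := b.2
    simp [Basic.rho]
    omega
  have hl_anti : StrictAnti l := anti lam hlam
  have hl'_anti : StrictAnti l' := anti (fun i => k - lam' (Fin.rev i)) fun a b hab => by
    have := hlam' (Fin.rev_le_rev.mpr hab)
    simp only
    omega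
  have hkey := Exp.key (show 0 < r by omega) hN hl_anti
    (fun i => by have := hlamk i; simp [hl, Basic.rho]; omega) hl'_anti
    (fun i => by simp [hl', Basic.rho]; omega)
    (fun ⟨a, ha⟩ => hne ⟨a, fun i => by have := ha i; simp [hl, hl'] at this ⊢; omega⟩)
  rw [← hkey]
  refine sum_congr rfl fun v hv => ?_
  simp only [mem_filter, mem_univ, true_and] at hv
  have hvinj : Function.Injective fun j => (v j : ℕ) := Fin.val_injective.comp hv.1.injective
  rw [← summand r k (by omega) lam lam' hlam'k (fun j => (v j : ℕ)) hvinj (fun j => (v j).2),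
    Exp.alt_rho_mul_alt_rho_inv hN (fun j => (v j : ℕ)) _ (fun j => rfl)]
  have hzv : z (fun j => (v j : ℕ)) = fun j => Exp.ep (r + k) ((v j : ℕ) : ℤ) :=
    funext fun j => (hz _ j).trans (Schur.exp_eq_ep r k _)
  simp only [hS, hzv, hP]
  congr 1
  · congr 1
    congr 1
    rw [Exp.ep]
    congr 1
    push_cast
    ring
  · push_cast
    rfl

end Groth.Agent.S19895
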