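import Groth.Statements.S19898
import Groth.Agent.PLaw.Span
import Mathlib.LinearAlgebra.Determinant

set_option autoImplicit false
universe u
open scoped TensorProduct
open SymTen

namespace Groth.Agent.S19898

open Groth.Agent

variable {R : Type u} [CommRing R]

lemma tpowAct_tprod (A : Type u) [CommRing A] [Algebra R A] {P : Type u} [AddCommGroup P] [Module R P]
    [Module A P] [IsScalarTower R A P] {d : ℕ} (a : Fin d → A) (p : Fin d → P) :
    SymTen.tpowAct R A P d (PiTensorProduct.tprod R a) (PiTensorProduct.tprod R p) =
      PiTensorProduct.tprod R fun i => a i • p i := by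
  simp [SymTen.tpowAct]

variable {M : Type u} [AddCommGroup M] [Module R M] {d : ℕ}

/-- The pure tensors modulo `altSpan`, as an alternating map. -/
noncomputable def altMk : M [⋀^Fin d]→ₗ[R] ((⨂[R] _ : Fin d, M) ⧸ SymTen.altSpan R M d) :=
  { (SymTen.altSpan R M d).mkQ.compMultilinearMap (PiTensorProduct.tprod R) with
    map_eq_zero_of_eq' := fun v i j h hij =>
      (Submodule.Quotient.mk_eq_zero _).mpr (Submodule.subset_span ⟨v, i, j, hij, h, rfl⟩) }

variable [DecidableEq (Fin d)] (e : Module.Basis (Fin d) R M)

/-- The determinant form as a functional on the tensor power. -/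
noncomputable def detT : (⨂[R] _ : Fin d, M) →ₗ[R] R := PiTensorProduct.lift e.det.toMultilinearMap

lemma mem_altSpan_of_detT {z : ⨂[R] _ : Fin d, M} (h : detT e z = 0) :
    z ∈ SymTen.altSpan R M d := by
  have hq : (SymTen.altSpan R M d).mkQ =
      (LinearMap.toSpanSingleton R _ ((altMk (R := R) (M := M) (d := d)) e)).comp (detT e) := by
    refine PiTensorProduct.ext (MultilinearMap.ext fun v => ?_)
    have : (altMk : M [⋀^Fin d]→ₗ[R] _) =
        (LinearMap.toSpanSingleton R _ ((altMk (R := R) (M := M) (d := d)) e)).compAlternatingMap e.det := by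
      refine Module.Basis.ext_alternating e fun c hc => ?_
      obtain ⟨σ, rfl⟩ : ∃ σ : Equiv.Perm (Fin d), ⇑σ = c :=
        ⟨Equiv.ofBijective c (Finite.injective_iff_bijective.mp hc), rfl⟩
      change (altMk (R := R) (M := M) (d := d)) (⇑e ∘ ⇑σ) = e.det (⇑e ∘ ⇑σ) •
        (altMk (R := R) (M := M) (d := d)) (⇑e)
      rw [AlternatingMap.map_perm, AlternatingMap.map_perm, e.det_self, Units.smul_def,
        Units.smul_def, zsmul_one, Int.cast_smul_eq_zsmul]
    exact (congrFun (congrArg DFunLike.coe this) v).trans (by simp [detT, altMk])
  rw [← (SymTen.altSpan R M d).ker_mkQ, LinearMap.mem_ker, hq, LinearMap.comp_apply, h, map_zero]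

lemma det_baseChange (S : Type u) [CommRing S] [Algebra R S] (v : Fin d → M) :
    (Algebra.TensorProduct.basis S e).det (fun i => (1 : S) ⊗ₜ[R] v i) = algebraMap R S (e.det v) := by
  rw [Module.Basis.det_apply, Module.Basis.det_apply, RingHom.map_det]
  congr 1
  ext i j
  simp [Module.Basis.toMatrix_apply, Algebra.TensorProduct.basis_repr_tmul,
    Algebra.algebraMap_eq_smul_one]

/-- Let R be a commutative ring and R' a commutative R-algebra that is free of rank d as an R-module.
Let (C, γ) be the degree-d divided power algebra of R' over R, given as an R-algebra C with a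
multiplicative homogeneous degree-d polynomial law γ : R' → C that is universal among such laws; let
φ : C → T^d_R(R') be the R-algebra homomorphism into the d-fold tensor power whose composite with γ
is the law x ↦ x ⊗ ⋯ ⊗ x, and π : C → R the R-algebra homomorphism whose composite with γ is the
norm law of R' over R. Let T^d_R(R') act on itself factor by factor and let I_d ⊂ T^d_R(R') be the
R-span of the pure tensors with two equal factors, so that T^d_R(R')/I_d is the top exterior power
Λ^d_R(R'), free of rank one. Then for every c ∈ C and every x ∈ T^d_R(R') the element φ(c)·x − π(c)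
x lies in I_d: the symmetric tensor φ(c) acts on Λ^d_R(R') as multiplication by the scalar π(c),
i.e. the homomorphism TS^d_R(R') → R given by the action on the top exterior power, composed with φ,
equals π. (The source states this for R' finite locally free of constant rank d; the free case is
the affine-local form.) -/
theorem result (R : Type u) [CommRing R] (R' : Type u) [CommRing R']
    [Algebra R R'] [Module.Free R R'] [Module.Finite R R'] (d : ℕ) (hd : Module.finrank R R' = d)
    {C : Type u} [CommRing C] [Algebra R C] (γ : PolLaw.MulLaw R R' C d) (hγ : PolLaw.IsGammaD γ)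
    (φ : C →ₐ[R] (⨂[R] _ : Fin d, R')) (hφ : PolLaw.MulLaw.postcomp φ γ = SymTen.tpowLaw R R' d)
    (π : C →ₐ[R] R) (hπ : PolLaw.MulLaw.postcomp π γ = PolLaw.normLaw R R' d hd)
    (c : C) (x : ⨂[R] _ : Fin d, R') :
    SymTen.tpowAct R R' R' d (φ c) x - π c • x ∈ SymTen.altSpan R R' d := by
  classical
  obtain ⟨e⟩ : Nonempty (Module.Basis (Fin d) R R') := by
    rcases subsingleton_or_nontrivial R with hR | hR
    · have := Module.subsingleton R R'
      exact ⟨{ repr := { toFun := fun _ => 0
                         map_add' := fun _ _ => Subsingleton.elim _ _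
                         map_smul' := fun _ _ => Subsingleton.elim _ _
                         invFun := fun _ => 0
                         left_inv := fun _ => Subsingleton.elim _ _
                         right_inv := fun _ => Subsingleton.elim _ _ } }⟩
    · exact ⟨(Module.finBasis R R').reindex (finCongr hd)⟩
  refine mem_altSpan_of_detT e ?_
  rw [map_sub, map_smul, sub_eq_zero, smul_eq_mul]
  induction x using PiTensorProduct.induction_on with
  | smul_tprod r p =>
    simp only [map_smul, smul_eq_mul, mul_left_comm (π c) r]
    congr 1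
    have hkey : ((detT e).comp ((SymTen.tpowAct R R' R' d).flip (PiTensorProduct.tprod R p))).comp
        φ.toLinearMap = (detT e (PiTensorProduct.tprod R p)) • π.toLinearMap := by
      refine PLaw.linearMap_ext_gamma hγ (PLaw.law_ext_gen fun n b => PLaw.cf_ext fun α => ?_)
      rw [PLaw.postcomp_apply, PLaw.postcomp_apply, PLaw.cf_lTensor, PLaw.cf_lTensor,
        LinearMap.comp_apply, LinearMap.comp_apply, LinearMap.smul_apply, ← PLaw.cf_lTensor φ.toLinearMap,
        ← PLaw.cf_lTensor π.toLinearMap, ← PLaw.postcomp_apply, ← PLaw.postcomp_apply,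
        LinearMap.flip_apply]
      have h1 := PLaw.law_congr (congrArg PolLaw.MulLaw.law hφ) (MvPolynomial (Fin n) R)
        (PLaw.gen R b Finset.univ)
      have h2 := PLaw.law_congr (congrArg PolLaw.MulLaw.law hπ) (MvPolynomial (Fin n) R)
        (PLaw.gen R b Finset.univ)
      refine Eq.trans (congrArg (fun z => detT e ((SymTen.tpowAct R R' R' d) (PLaw.cf α z)
        (PiTensorProduct.tprod R p))) h1) (Eq.trans ?_ (congrArg (fun z =>
          detT e (PiTensorProduct.tprod R p) • PLaw.cf α z) h2).symm)
      let S := MvPolynomial (Fin n) R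
      let u : S ⊗[R] R' := PLaw.gen R b Finset.univ
      let eS := Algebra.TensorProduct.basis S e
      have hnorm : eS.det (fun i => u * ((1 : S) ⊗ₜ[R] p i)) =
          Algebra.norm S u * algebraMap R S (e.det p) := by
        rw [← det_baseChange e S p, Algebra.norm_apply]
        exact eS.det_comp (Algebra.lmul S (S ⊗[R] R') u) _
      have hexp : eS.det (fun i => u * ((1 : S) ⊗ₜ[R] p i)) = ∑ k : Fin d → Fin n,
          (∏ i, MvPolynomial.X (k i)) * algebraMap R S (e.det fun i => b (k i) * p i) := by
        have hu : (fun i => u * ((1 : S) ⊗ₜ[R] p i)) = fun i => ∑ j,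
            (MvPolynomial.X j : S) • ((1 : S) ⊗ₜ[R] (b j * p i)) := by
          funext i
          simp [u, PLaw.gen, Finset.sum_mul, TensorProduct.smul_tmul', S]
        rw [hu, ← AlternatingMap.coe_multilinearMap, MultilinearMap.map_sum]
        refine Finset.sum_congr rfl fun k _ => ?_
        rw [MultilinearMap.map_smul_univ, AlternatingMap.coe_multilinearMap, det_baseChange,
          smul_eq_mul]
      rw [PolLaw.normLaw_apply, PLaw.gen, PLaw.tpowLaw_sum, Fintype.piFinset_univ, map_sum, map_sum,
        LinearMap.sum_apply, map_sum, PLaw.cf_tmul, smul_eq_mul, smul_eq_mul, mul_one,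
        ← MvPolynomial.coeff_C_mul]
      have := congrArg (MvPolynomial.coeff α) (hexp.symm.trans hnorm)
      simp only [S, MvPolynomial.coeff_sum] at this
      rw [show MvPolynomial.C (detT e (PiTensorProduct.tprod R p)) = algebraMap R S (e.det p) by
        simp [detT, S, MvPolynomial.algebraMap_eq], mul_comm]
      refine Eq.trans (Finset.sum_congr rfl fun k _ => ?_) this
      rw [PLaw.cf_tmul, map_smul, LinearMap.smul_apply, map_smul, smul_eq_mul, tpowAct_tprod,
        mul_comm (∏ i, MvPolynomial.X (k i)), MvPolynomial.algebraMap_eq, MvPolynomial.coeff_C_mul,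
        mul_comm]
      simp [detT]
    refine (LinearMap.congr_fun hkey c).trans ?_
    simp [mul_comm]
  | add x y hx hy => simp only [map_add, hx, hy, mul_add]

end Groth.Agent.S19898
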