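import Groth.Statements.S1990
import Mathlib
import Groth.Agent.EtRamLib.ValTower

set_option autoImplicit false
universe u
open EtAlg

namespace Groth.Agent.S1990

/-- Let K be the fraction field of a discrete valuation ring A, and K ⊂ L ⊂ M finite separable
extensions. If L/K is tamely ramified (resp. unramified) with respect to A and M/L is tamely
ramified (resp. unramified) with respect to every valuation subring of L dominating A, then M/K is
tamely ramified (resp. unramified) with respect to A. -/
theorem result (A K : Type u) [CommRing A] [IsDomain A] [IsDiscreteValuationRing A] [Field K] [Algebra A K] [IsFractionRing A K] (L M : Type u) [Field L] [Field M]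
    [Algebra K L] [Algebra K M] [Algebra L M] [IsScalarTower K L M] [FiniteDimensional K M] [Algebra.IsSeparable K M] :
    (EtRam.IsTamelyRamified A ((algebraMap K L).comp (algebraMap A K)) →
      (∀ (V : ValuationSubring L), EtRam.Dominates A ((algebraMap K L).comp (algebraMap A K)) V →
        EtRam.IsTamelyRamified V ((algebraMap L M).comp V.subtype)) →
      EtRam.IsTamelyRamified A ((algebraMap K M).comp (algebraMap A K))) ∧
    (EtRam.IsUnramifiedExt A ((algebraMap K L).comp (algebraMap A K)) →
      (∀ (V : ValuationSubring L), EtRam.Dominates A ((algebraMap K L).comp (algebraMap A K)) V →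
        EtRam.IsUnramifiedExt V ((algebraMap L M).comp V.subtype)) →
      EtRam.IsUnramifiedExt A ((algebraMap K M).comp (algebraMap A K))) := by
  have hL : FiniteDimensional K L := Module.Finite.of_injective (IsScalarTower.toAlgHom K L M).toLinearMap
    (algebraMap L M).injective
  have hLs : Algebra.IsSeparable K L := Algebra.isSeparable_tower_bot_of_isSeparable K L M
  refine ⟨?_, ?_⟩
  · intro h1 h2 W hW
    obtain ⟨hV, hVW⟩ := EtRamLib.ValTower.dominates_tower A K L M W hW
    generalize hVdef : W.comap (algebraMap L M) = V at hV hVW
    letI : Algebra A V := (RingHom.codRestrict ((algebraMap K L).comp (algebraMap A K)) V hV.1).toAlgebra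
    letI : Algebra A W := (RingHom.codRestrict ((algebraMap K M).comp (algebraMap A K)) W hW.1).toAlgebra
    letI : Algebra V W := (RingHom.codRestrict ((algebraMap L M).comp V.subtype) W hVW.1).toAlgebra
    haveI : IsScalarTower A V W := IsScalarTower.of_algebraMap_eq fun a ↦
      Subtype.ext (IsScalarTower.algebraMap_apply K L M (algebraMap A K a))
    haveI : IsDiscreteValuationRing V := EtRamLib.ValTower.isDiscreteValuationRing_of_dominates A K L V hV
    haveI : IsDiscreteValuationRing W := EtRamLib.ValTower.isDiscreteValuationRing_of_dominates A K M W hW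
    haveI : IsLocalHom (algebraMap A V) := EtRamLib.ValTower.isLocalHom_of_dominates V hV
    haveI : IsLocalHom (algebraMap A W) := EtRamLib.ValTower.isLocalHom_of_dominates W hW
    haveI : IsLocalHom (algebraMap V W) := EtRamLib.ValTower.isLocalHom_of_dominates W hVW
    haveI := EtRamLib.ValTower.residue_tower A V W
    have hAV : Function.Injective (algebraMap A V) := EtRamLib.ValTower.algebraMap_injective_of_dominates V hV
    have hVW' : Function.Injective (algebraMap V W) := fun x y h ↦
      Subtype.ext ((algebraMap L M).injective (congrArg Subtype.val h))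
    have hAW : Function.Injective (algebraMap A W) := EtRamLib.ValTower.algebraMap_injective_of_dominates W hW
    intro _
    obtain ⟨hs1, hp1⟩ := h1 V hV
    obtain ⟨hs2, hp2⟩ := h2 V hV W hVW
    refine ⟨Algebra.IsSeparable.trans (IsLocalRing.ResidueField A) (IsLocalRing.ResidueField V)
      (IsLocalRing.ResidueField W), fun p hp hc hd ↦ ?_⟩
    rw [EtRamLib.ValTower.ramificationIdx'_tower A V W hAV hVW'] at hd
    haveI : CharP (IsLocalRing.ResidueField V) p :=
      charP_of_injective_algebraMap (algebraMap (IsLocalRing.ResidueField A) (IsLocalRing.ResidueField V)).injective p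
    rcases hp.dvd_mul.1 hd with h | h
    · exact hp1 p hp hc h
    · exact hp2 p hp inferInstance h
  · intro h1 h2 W hW
    obtain ⟨hV, hVW⟩ := EtRamLib.ValTower.dominates_tower A K L M W hW
    generalize hVdef : W.comap (algebraMap L M) = V at hV hVW
    letI : Algebra A V := (RingHom.codRestrict ((algebraMap K L).comp (algebraMap A K)) V hV.1).toAlgebra
    letI : Algebra A W := (RingHom.codRestrict ((algebraMap K M).comp (algebraMap A K)) W hW.1).toAlgebra
    letI : Algebra V W := (RingHom.codRestrict ((algebraMap L M).comp V.subtype) W hVW.1).toAlgebra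
    haveI : IsScalarTower A V W := IsScalarTower.of_algebraMap_eq fun a ↦
      Subtype.ext (IsScalarTower.algebraMap_apply K L M (algebraMap A K a))
    haveI : IsDiscreteValuationRing V := EtRamLib.ValTower.isDiscreteValuationRing_of_dominates A K L V hV
    haveI : IsDiscreteValuationRing W := EtRamLib.ValTower.isDiscreteValuationRing_of_dominates A K M W hW
    haveI : IsLocalHom (algebraMap A V) := EtRamLib.ValTower.isLocalHom_of_dominates V hV
    haveI : IsLocalHom (algebraMap A W) := EtRamLib.ValTower.isLocalHom_of_dominates W hW
    haveI : IsLocalHom (algebraMap V W) := EtRamLib.ValTower.isLocalHom_of_dominates W hVW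
    haveI := EtRamLib.ValTower.residue_tower A V W
    have hAV : Function.Injective (algebraMap A V) := EtRamLib.ValTower.algebraMap_injective_of_dominates V hV
    have hVW' : Function.Injective (algebraMap V W) := fun x y h ↦
      Subtype.ext ((algebraMap L M).injective (congrArg Subtype.val h))
    have hAW : Function.Injective (algebraMap A W) := EtRamLib.ValTower.algebraMap_injective_of_dominates W hW
    intro _
    obtain ⟨hw1, hs1⟩ := h1 V hV
    obtain ⟨hw2, hs2⟩ := h2 V hV W hVW
    refine ⟨?_, Algebra.IsSeparable.trans (IsLocalRing.ResidueField A) (IsLocalRing.ResidueField V)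
      (IsLocalRing.ResidueField W)⟩
    rw [EtRamLib.ValTower.isWeaklyUnramified_iff A V hAV] at hw1
    rw [EtRamLib.ValTower.isWeaklyUnramified_iff V W hVW'] at hw2
    rw [EtRamLib.ValTower.isWeaklyUnramified_iff A W hAW,
      EtRamLib.ValTower.ramificationIdx'_tower A V W hAV hVW', hw1, hw2]

end Groth.Agent.S1990
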