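import Groth.Statements.S19904
import Groth.Agent.ArtFunLib.Tangent
import Groth.Agent.ArtFunLib.Pullback

set_option autoImplicit false
universe u v
open CategoryTheory
open ArtFun

namespace Groth.Agent.S19904

open Groth.Agent.ArtFunLib

/-- For functors F, G, G' on Artinian local Λ-algebras with residue field k and morphisms φ : F → G, ψ :
G' → G: if φ is smooth then the base change F ×_G G' → G' (second projection of the fibre product of
functors) is smooth. -/
theorem result {Λ : Type u} {k : Type u} [CommRing Λ] [Field k] [Algebra Λ k]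
    [IsNoetherianRing Λ] [Module.Finite Λ k]
    {F G G' : ArtFun.Art Λ k ⥤ Type v} (φ : F ⟶ G) (ψ : G' ⟶ G) (hφ : ArtFun.IsSmooth φ) :
    ArtFun.IsSmooth (Limits.pullback.snd φ ψ) := by
  rw [isSmooth_iff_lifts] at *
  intro B A μ hμ x y e
  obtain ⟨a, ha, hb⟩ := hφ μ hμ ((Limits.pullback.fst φ ψ).app A x) (ψ.app B y) (by
    change _ = _
    rw [← NatTrans.naturality_apply ψ]
    exact (congrArg (ψ.app A) e).trans (pullback_elt_cond φ ψ A x).symm)
  obtain ⟨z, hz₁, hz₂⟩ := pullback_elt φ ψ B a y hb
  refine ⟨z, pullback_elt_ext φ ψ A ?_ ?_, hz₂⟩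
  · rw [NatTrans.naturality_apply (Limits.pullback.fst φ ψ), hz₁, ha]
  · rw [NatTrans.naturality_apply (Limits.pullback.snd φ ψ), hz₂, e]
    rfl

end Groth.Agent.S19904
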