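import Groth.Statements.S19907
import Groth.Agent.Omega.H1Etale

set_option autoImplicit false
universe u
open CategoryTheory TensorProduct
open ArtFun

namespace Groth.Agent.S19907

/-- Let Λ be a Noetherian ring with a finite ring map to a field k, let k' ⊂ k be the image of Λ and m_Λ
the kernel, so that m_Λ/m_Λ² = H₁(L_{k'/Λ}) (Λ → k' being surjective with kernel m_Λ). If k is
separable over k', the canonical map m_Λ/m_Λ² ⊗_{k'} k → H₁(L_{k/Λ}) is an isomorphism. Stated for
H₁(L_{k'/Λ}) in place of m_Λ/m_Λ²: the k-linear base change of the functoriality map H₁(L_{k'/Λ}) →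
H₁(L_{k/Λ}) is bijective. (The general construction of the map and the case k = k' are the other
assertions of the source; only the separable case is stated here.) -/
theorem result {Λ : Type u} {k : Type u} [CommRing Λ] [Field k] [Algebra Λ k]
    [IsNoetherianRing Λ] [Module.Finite Λ k]
    [Algebra.IsSeparable (↥(algebraMap Λ k).range) k] :
    letI : Algebra Λ (↥(algebraMap Λ k).range) := (algebraMap Λ k).rangeRestrict.toAlgebra
    letI : IsScalarTower Λ (↥(algebraMap Λ k).range) k := IsScalarTower.of_algebraMap_eq (fun _ ↦ rfl)
    Function.Bijective ((Algebra.H1Cotangent.map Λ Λ (↥(algebraMap Λ k).range) k).liftBaseChange k) := by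
  letI iA : Algebra Λ (↥(algebraMap Λ k).range) := (algebraMap Λ k).rangeRestrict.toAlgebra
  letI iT : IsScalarTower Λ (↥(algebraMap Λ k).range) k := IsScalarTower.of_algebraMap_eq (fun _ ↦ rfl)
  haveI : Module.Finite (↥(algebraMap Λ k).range) k :=
    Module.Finite.of_restrictScalars_finite Λ (↥(algebraMap Λ k).range) k
  have hF : IsField (↥(algebraMap Λ k).range) :=
    isField_of_isIntegral_of_isField (S := k) Subtype.coe_injective (Field.toIsField k)
  letI := hF.toField
  haveI : Algebra.FormallyEtale (↥(algebraMap Λ k).range) k :=
    Algebra.FormallyEtale.of_isSeparable _ _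
  haveI : Algebra.FinitePresentation (↥(algebraMap Λ k).range) k :=
    Algebra.FinitePresentation.of_finiteType.mp inferInstance
  haveI : Algebra.Etale (↥(algebraMap Λ k).range) k := ⟨inferInstance, inferInstance⟩
  exact Groth.Agent.Omega.H1Etale.bijective_liftBaseChange Λ (↥(algebraMap Λ k).range) k

end Groth.Agent.S19907
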