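import Groth.Statements.S1991
import Mathlib
import Groth.Agent.EtRamLib.WildFixField

set_option autoImplicit false
universe u
open EtAlg

namespace Groth.Agent.S1991

/-- the field fixed by a normal set of automorphisms, receiving the extensions fixed by it -/
lemma exists_fixed {K N : Type u} [Field K] [Field N] [Algebra K N] [FiniteDimensional K N] [IsGalois K N]
    (S : Set (N ≃ₐ[K] N)) :
    ∃ M : IntermediateField K N, IsGalois K M ∧ (∀ σ ∈ S, ∀ x : M, σ (x : N) = x) ∧
      ∀ (L : Type u) [Field L] [Algebra K L], (∀ i : L →ₐ[K] N, ∀ σ ∈ S, ∀ x : L, σ (i x) = i x) →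
        ∀ i : L →ₐ[K] N, Nonempty (L →ₐ[K] M) := by
  refine ⟨IntermediateField.fixedField (Subgroup.normalClosure S), inferInstance,
    fun σ hσ x ↦ x.2 ⟨σ, Subgroup.subset_normalClosure hσ⟩, fun L _ _ hL i ↦ ?_⟩
  refine ⟨AlgHom.codRestrict i (IntermediateField.fixedField (Subgroup.normalClosure S)).toSubalgebra fun x σ ↦ ?_⟩
  obtain ⟨σ, hσ⟩ := σ
  change σ (i x) = i x
  induction hσ using Subgroup.closure_induction generalizing x with
  | mem τ hτ =>
    obtain ⟨ρ, hρ, g, rfl⟩ := by simpa [Group.conjugatesOfSet, conjugatesOf, isConj_iff] using hτ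
    have h := hL ((g.symm : N ≃ₐ[K] N).toAlgHom.comp i) ρ hρ x
    change g (ρ (g.symm (i x))) = i x
    rw [show ρ (g.symm (i x)) = g.symm (i x) from h, AlgEquiv.apply_symm_apply]
  | one => rfl
  | mul a b _ _ ha hb => rw [AlgEquiv.mul_apply, hb, ha]
  | inv a _ ha =>
    conv_lhs => rw [← ha x]
    exact AlgEquiv.symm_apply_apply a _

open EtRamLib.WildFixField in
/-- two extensions and a common Galois extension -/
lemma compositum (A K : Type u) [CommRing A] [IsDomain A] [IsDiscreteValuationRing A] [Field K] [Algebra A K]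
    [IsFractionRing A K] (L₁ L₂ : Type u) [Field L₁] [Field L₂] [Algebra K L₁] [Algebra K L₂]
    [FiniteDimensional K L₁] [FiniteDimensional K L₂] [Algebra.IsSeparable K L₁] [Algebra.IsSeparable K L₂] :
    (EtRam.IsUnramifiedExt A ((algebraMap K L₁).comp (algebraMap A K)) →
      EtRam.IsUnramifiedExt A ((algebraMap K L₂).comp (algebraMap A K)) →
      ∃ (M : Type u) (_ : Field M) (_ : Algebra K M) (_ : FiniteDimensional K M) (_ : IsGalois K M)
        (_ : L₁ →ₐ[K] M) (_ : L₂ →ₐ[K] M), EtRam.IsUnramifiedExt A ((algebraMap K M).comp (algebraMap A K))) ∧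
    (EtRam.IsTamelyRamified A ((algebraMap K L₁).comp (algebraMap A K)) →
      EtRam.IsTamelyRamified A ((algebraMap K L₂).comp (algebraMap A K)) →
      ∃ (M : Type u) (_ : Field M) (_ : Algebra K M) (_ : FiniteDimensional K M) (_ : IsGalois K M)
        (_ : L₁ →ₐ[K] M) (_ : L₂ →ₐ[K] M), EtRam.IsTamelyRamified A ((algebraMap K M).comp (algebraMap A K))) := by
  classical
  let Ω := SeparableClosure K
  let i₁ : L₁ →ₐ[K] Ω := IsSepClosed.lift
  let i₂ : L₂ →ₐ[K] Ω := IsSepClosed.lift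
  haveI : FiniteDimensional K i₁.fieldRange := Module.Finite.equiv (AlgEquiv.ofInjectiveField i₁).toLinearEquiv
  haveI : FiniteDimensional K i₂.fieldRange := Module.Finite.equiv (AlgEquiv.ofInjectiveField i₂).toLinearEquiv
  let E : IntermediateField K Ω := i₁.fieldRange ⊔ i₂.fieldRange
  let N : IntermediateField K Ω := IntermediateField.normalClosure K E Ω
  haveI : FiniteDimensional K E := IntermediateField.finiteDimensional_sup _ _
  haveI : IsGalois K N := { }
  have hEN : E ≤ N := E.le_normalClosure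
  let j₁ : L₁ →ₐ[K] N := AlgHom.codRestrict i₁ N.toSubalgebra
    fun x ↦ hEN (le_sup_left (b := i₂.fieldRange) ⟨x, rfl⟩)
  let j₂ : L₂ →ₐ[K] N := AlgHom.codRestrict i₂ N.toSubalgebra
    fun x ↦ hEN (le_sup_right (a := i₁.fieldRange) ⟨x, rfl⟩)
  refine ⟨fun h₁ h₂ ↦ ?_, fun h₁ h₂ ↦ ?_⟩
  · obtain ⟨M, hM, hfix, hemb⟩ := exists_fixed (K := K) (N := N)
      {σ | ∃ W : ValuationSubring N, EtRam.Dominates A ((algebraMap K N).comp (algebraMap A K)) W ∧ Inert K N W σ}
    have hfixL : ∀ (L : Type u) [Field L] [Algebra K L],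
        EtRam.IsUnramifiedExt A ((algebraMap K L).comp (algebraMap A K)) → ∀ i : L →ₐ[K] N,
        ∀ σ ∈ {σ : N ≃ₐ[K] N | ∃ W : ValuationSubring N,
          EtRam.Dominates A ((algebraMap K N).comp (algebraMap A K)) W ∧ Inert K N W σ}, ∀ x : L, σ (i x) = i x := by
      intro L _ _ hL i σ hσ x
      obtain ⟨W, hW, hI⟩ := hσ
      letI : Algebra L N := i.toRingHom.toAlgebra
      haveI : IsScalarTower K L N := IsScalarTower.of_algebraMap_eq fun a ↦ (i.commutes a).symm
      exact fix_of_isUnramifiedExt L hL W hW σ hI x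
    obtain ⟨f₁⟩ := hemb L₁ (hfixL L₁ h₁) j₁
    obtain ⟨f₂⟩ := hemb L₂ (hfixL L₂ h₂) j₂
    exact ⟨M, inferInstance, inferInstance, inferInstance, hM, f₁, f₂,
      isUnramifiedExt_of_fixed M fun W hW σ hσ x ↦ hfix σ ⟨W, hW, hσ⟩ x⟩
  · obtain ⟨M, hM, hfix, hemb⟩ := exists_fixed (K := K) (N := N)
      {σ | ∃ W : ValuationSubring N, EtRam.Dominates A ((algebraMap K N).comp (algebraMap A K)) W ∧ Wild K N W σ}
    have hfixL : ∀ (L : Type u) [Field L] [Algebra K L],
        EtRam.IsTamelyRamified A ((algebraMap K L).comp (algebraMap A K)) → ∀ i : L →ₐ[K] N,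
        ∀ σ ∈ {σ : N ≃ₐ[K] N | ∃ W : ValuationSubring N,
          EtRam.Dominates A ((algebraMap K N).comp (algebraMap A K)) W ∧ Wild K N W σ}, ∀ x : L, σ (i x) = i x := by
      intro L _ _ hL i σ hσ x
      obtain ⟨W, hW, hI⟩ := hσ
      letI : Algebra L N := i.toRingHom.toAlgebra
      haveI : IsScalarTower K L N := IsScalarTower.of_algebraMap_eq fun a ↦ (i.commutes a).symm
      exact fix_of_isTamelyRamified L hL W hW σ hI x
    obtain ⟨f₁⟩ := hemb L₁ (hfixL L₁ h₁) j₁
    obtain ⟨f₂⟩ := hemb L₂ (hfixL L₂ h₂) j₂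
    exact ⟨M, inferInstance, inferInstance, inferInstance, hM, f₁, f₂,
      isTamelyRamified_of_fixed M fun W hW σ hσ x ↦ hfix σ ⟨W, hW, hσ⟩ x⟩

/-- Let A be a discrete valuation ring with fraction field K. A finite separable extension L/K that is
unramified (resp. tamely ramified) with respect to A embeds over K into a finite Galois extension of
K that is unramified (resp. tamely ramified) with respect to A; and two finite separable extensions
of K that are unramified (resp. tamely ramified) with respect to A embed over K into a common finite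
separable extension with the same property. -/
theorem result (A K : Type u) [CommRing A] [IsDomain A] [IsDiscreteValuationRing A] [Field K] [Algebra A K] [IsFractionRing A K] :
    (∀ (L : Type u) [Field L] [Algebra K L] [FiniteDimensional K L] [Algebra.IsSeparable K L],
      (EtRam.IsUnramifiedExt A ((algebraMap K L).comp (algebraMap A K)) →
        ∃ (M : Type u) (_ : Field M) (_ : Algebra K M) (_ : FiniteDimensional K M) (_ : IsGalois K M) (_ : L →ₐ[K] M),
          EtRam.IsUnramifiedExt A ((algebraMap K M).comp (algebraMap A K))) ∧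
      (EtRam.IsTamelyRamified A ((algebraMap K L).comp (algebraMap A K)) →
        ∃ (M : Type u) (_ : Field M) (_ : Algebra K M) (_ : FiniteDimensional K M) (_ : IsGalois K M) (_ : L →ₐ[K] M),
          EtRam.IsTamelyRamified A ((algebraMap K M).comp (algebraMap A K)))) ∧
    (∀ (L₁ L₂ : Type u) [Field L₁] [Field L₂] [Algebra K L₁] [Algebra K L₂] [FiniteDimensional K L₁] [FiniteDimensional K L₂]
      [Algebra.IsSeparable K L₁] [Algebra.IsSeparable K L₂],
      (EtRam.IsUnramifiedExt A ((algebraMap K L₁).comp (algebraMap A K)) →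
        EtRam.IsUnramifiedExt A ((algebraMap K L₂).comp (algebraMap A K)) →
        ∃ (M : Type u) (_ : Field M) (_ : Algebra K M) (_ : FiniteDimensional K M) (_ : Algebra.IsSeparable K M)
          (_ : L₁ →ₐ[K] M) (_ : L₂ →ₐ[K] M), EtRam.IsUnramifiedExt A ((algebraMap K M).comp (algebraMap A K))) ∧
      (EtRam.IsTamelyRamified A ((algebraMap K L₁).comp (algebraMap A K)) →
        EtRam.IsTamelyRamified A ((algebraMap K L₂).comp (algebraMap A K)) →
        ∃ (M : Type u) (_ : Field M) (_ : Algebra K M) (_ : FiniteDimensional K M) (_ : Algebra.IsSeparable K M)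
          (_ : L₁ →ₐ[K] M) (_ : L₂ →ₐ[K] M), EtRam.IsTamelyRamified A ((algebraMap K M).comp (algebraMap A K)))) := by
  refine ⟨fun L _ _ _ _ ↦ ⟨fun h ↦ ?_, fun h ↦ ?_⟩, fun L₁ L₂ _ _ _ _ _ _ _ _ ↦ ⟨fun h₁ h₂ ↦ ?_, fun h₁ h₂ ↦ ?_⟩⟩
  · obtain ⟨M, i1, i2, i3, i4, f, -, hM⟩ := (compositum A K L L).1 h h
    exact ⟨M, i1, i2, i3, i4, f, hM⟩
  · obtain ⟨M, i1, i2, i3, i4, f, -, hM⟩ := (compositum A K L L).2 h h
    exact ⟨M, i1, i2, i3, i4, f, hM⟩
  · obtain ⟨M, i1, i2, i3, i4, f₁, f₂, hM⟩ := (compositum A K L₁ L₂).1 h₁ h₂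
    exact ⟨M, i1, i2, i3, i4.to_isSeparable, f₁, f₂, hM⟩
  · obtain ⟨M, i1, i2, i3, i4, f₁, f₂, hM⟩ := (compositum A K L₁ L₂).2 h₁ h₂
    exact ⟨M, i1, i2, i3, i4.to_isSeparable, f₁, f₂, hM⟩

end Groth.Agent.S1991
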