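import Groth.Statements.S19912
import Groth.Agent.RegLoc.Basic

set_option autoImplicit false
universe u
open CategoryTheory CategoryTheory.Limits AlgebraicGeometry
open Models

namespace Groth.Agent.S19912

lemma germ_stalkClosedPointTo_congr {S : CommRingCat.{u}} [IsLocalRing S] {X : Scheme.{u}}
    (f g : Spec S ⟶ X) (h : f = g) :
    X.presheaf.germ ⊤ _ trivial ≫ Scheme.stalkClosedPointTo f =
      X.presheaf.germ ⊤ _ trivial ≫ Scheme.stalkClosedPointTo g := by
  subst h; rfl

lemma stalkClosedPointTo_stalkHom {R : Type u} [CommRing R] [IsDomain R] [IsDiscreteValuationRing R]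
    (YR : Over (Spec (CommRingCat.of R))) (V : Type u) [CommRing V] [IsLocalRing V] [Algebra R V]
    (σ : Spec (CommRingCat.of V) ⟶ YR.left)
    (hσ : σ ≫ YR.hom = Spec.map (CommRingCat.ofHom (algebraMap R V))) (r : R) :
    (Scheme.stalkClosedPointTo σ).hom
      (Models.stalkHom R YR (σ.base (IsLocalRing.closedPoint V)) r) = algebraMap R V r := by
  have h1 := germ_stalkClosedPointTo_congr _ _ hσ
  rw [Scheme.germ_stalkClosedPointTo_Spec, Scheme.stalkClosedPointTo_comp] at h1
  replace h1 := (YR.hom.germ_stalkMap_assoc (U := ⊤) (σ.base (IsLocalRing.closedPoint V)) trivial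
    (Scheme.stalkClosedPointTo σ)).symm.trans h1
  have h2 := congrArg
    (fun m => (ConcreteCategory.hom ((Scheme.ΓSpecIso (CommRingCat.of R)).inv ≫ m)) r) h1
  simp only [Iso.inv_hom_id_assoc] at h2
  exact h2

/-- Let R be a discrete valuation ring with fraction field K and YR a scheme over Spec R. Let V be a
discrete valuation ring which is an R-algebra in such a way that the maximal ideal of R generates
the maximal ideal of V (ramification index one), and let σ : Spec V -> YR be a morphism over Spec R
sending the closed point of Spec V to y. If the local ring of YR at y is regular, then the local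
ring at y of the special fibre of YR, namely O_{YR,y}/𝔪_R O_{YR,y}, is regular. (The published
statement takes YR a normal projective flat model of a smooth projective geometrically connected
curve Y over K and phrases the hypothesis through a point Q of Y rational over an extension L of K
unramified over K with y in the closure of Q: by the valuative criterion such a point yields a
morphism as above from the spectrum of the localization of the integral closure of R in L at a
maximal ideal over y, which is the form used here.) -/
theorem result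
    (R : Type u) [CommRing R] [IsDomain R] [IsDiscreteValuationRing R]
    (YR : Over (Spec (CommRingCat.of R)))
    (V : Type u) [CommRing V] [IsDomain V] [IsDiscreteValuationRing V] [Algebra R V]
    (hV : Ideal.map (algebraMap R V) (IsLocalRing.maximalIdeal R) = IsLocalRing.maximalIdeal V)
    (σ : Spec (CommRingCat.of V) ⟶ YR.left)
    (hσ : σ ≫ YR.hom = Spec.map (CommRingCat.ofHom (algebraMap R V)))
    (y : YR.left) (hy : σ.base (IsLocalRing.closedPoint V) = y)
    (hreg : IsRegularLocalRing (YR.left.presheaf.stalk y)) :
    IsRegularLocalRing (YR.left.presheaf.stalk y ⧸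
      Ideal.map (Models.stalkHom R YR y) (IsLocalRing.maximalIdeal R)) := by
  subst hy
  obtain ⟨ϖ, hϖ⟩ := IsDiscreteValuationRing.exists_irreducible R
  rw [hϖ.maximalIdeal_eq, Ideal.map_span, Set.image_singleton]
  rw [hϖ.maximalIdeal_eq, Ideal.map_span, Set.image_singleton] at hV
  set π := Models.stalkHom R YR (σ.base (IsLocalRing.closedPoint V)) ϖ with hπ
  set g := (Scheme.stalkClosedPointTo σ).hom with hg
  have hgπ : g π = algebraMap R V ϖ := stalkClosedPointTo_stalkHom YR V σ hσ ϖ
  have hirr : Irreducible (algebraMap R V ϖ) :=
    (IsDiscreteValuationRing.irreducible_iff_uniformizer _).mpr hV.symm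
  have : IsLocalHom g := Scheme.isLocalHom_stalkClosedPointTo' σ
  have hmap : Ideal.map g (IsLocalRing.maximalIdeal _) ≤ IsLocalRing.maximalIdeal V := by
    rw [Ideal.map_le_iff_le_comap]
    intro a ha
    simp only [Ideal.mem_comap, IsLocalRing.mem_maximalIdeal, mem_nonunits_iff] at ha ⊢
    exact fun hu => ha (IsUnit.of_map g a hu)
  have hπm : π ∈ IsLocalRing.maximalIdeal _ := by
    rw [IsLocalRing.mem_maximalIdeal, mem_nonunits_iff]
    intro hu
    exact hirr.not_isUnit (hgπ ▸ hu.map g)
  have hπ2 : π ∉ IsLocalRing.maximalIdeal _ ^ 2 := by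
    intro h2
    have h3 : g π ∈ IsLocalRing.maximalIdeal V ^ 2 := by
      have := Ideal.mem_map_of_mem g h2
      rw [Ideal.map_pow] at this
      exact Ideal.pow_right_mono hmap 2 this
    rw [hgπ, hirr.maximalIdeal_eq, Ideal.span_singleton_pow, Ideal.mem_span_singleton] at h3
    obtain ⟨c, hc⟩ := h3
    apply hirr.not_isUnit
    refine IsUnit.of_mul_eq_one c ?_
    apply mul_left_cancel₀ hirr.ne_zero
    rw [mul_one, ← mul_assoc, ← sq, ← hc]
  obtain ⟨n, hn, -⟩ := Groth.Agent.RegLoc.exists_natCast_eq_ringKrullDim
    (YR.left.presheaf.stalk (σ.base (IsLocalRing.closedPoint V)))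
  exact (Groth.Agent.RegLoc.isRegularLocalRing_quotient_span_singleton hπm hπ2 hn).1

end Groth.Agent.S19912
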