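import Groth.Statements.S19917
import Groth.Agent.TameGal67.Basic
import Mathlib.RingTheory.Polynomial.Eisenstein.Basic
import Mathlib.RingTheory.Polynomial.GaussLemma
import Mathlib.FieldTheory.IntermediateField.Adjoin.Basic
-- import your own Groth.Agent.* helpers here

set_option autoImplicit false
universe u
open CategoryTheory CategoryTheory.Limits AlgebraicGeometry MonObj
open SGA7

namespace Groth.Agent.S19917

/-- Let R be a discrete valuation ring with fraction field K and residue field k, Ω a separable closure
of K and W a valuation subring of Ω lying over R. Assume that every K-automorphism of Ω belongs to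
the inertia group at W, i.e. K coincides with its maximal extension inside Ω at which the
restriction of W is unramified over R. Let r ≥ 1 be an integer whose image in k is non-zero. Then
there is exactly one intermediate field L of Ω over K with [L : K] = r and L Galois over K; moreover
every such L is totally (and tamely) ramified over R: every maximal ideal of the integral closure of
R in L has ramification index r over R. -/
theorem result (R K Ω : Type u) [CommRing R] [IsDomain R]
    [IsDiscreteValuationRing R] [Field K] [Algebra R K] [IsFractionRing R K] [Field Ω] [Algebra K Ω]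
    [IsSepClosure K Ω] [Algebra R Ω] [IsScalarTower R K Ω]
    (W : ValuationSubring Ω) (hW : SGA7.LiesOver K R W)
    (hI : ∀ σ : Ω ≃ₐ[K] Ω, SGA7.IsInertia W σ)
    (r : ℕ) (hr : 0 < r) (hrk : (r : IsLocalRing.ResidueField R) ≠ 0) :
    (∃! L : IntermediateField K Ω, Module.finrank K L = r ∧ IsGalois K L) ∧
      ∀ L : IntermediateField K Ω, Module.finrank K L = r → IsGalois K L →
        ∀ P : Ideal (integralClosure R L), P.IsMaximal → P.ramificationIdx R = r := by
  haveI : IsGalois K Ω :=
    { to_isSeparable := IsSepClosure.separable, to_normal := inferInstance }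
  haveI : IsSepClosed Ω := IsSepClosure.sep_closed K
  haveI : NeZero (r : Ω) := ⟨Groth.Agent.TameGal67.ne_zero_cast (K := K) hW hrk⟩
  obtain ⟨p, hp⟩ := IsDiscreteValuationRing.exists_irreducible R
  obtain ⟨ϖ, hϖ⟩ := IsSepClosed.exists_pow_nat_eq (algebraMap R Ω p) r
  have hp0 : algebraMap R Ω p ≠ 0 := by
    rw [IsScalarTower.algebraMap_apply R K Ω]
    exact (map_ne_zero_iff _ (algebraMap K Ω).injective).2
      ((map_ne_zero_iff _ (IsFractionRing.injective R K)).2 hp.ne_zero)
  let L₀ := IntermediateField.adjoin K {ϖ}
  have hint : IsIntegral K ϖ := Algebra.IsIntegral.isIntegral ϖ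
  haveI : FiniteDimensional K L₀ := IntermediateField.adjoin.finiteDimensional hint
  have hdeg : Module.finrank K L₀ = r := by
    rw [IntermediateField.adjoin.finrank hint]
    let q : Polynomial R := Polynomial.X ^ r - Polynomial.C p
    have hm : q.Monic := Polynomial.monic_X_pow_sub_C p hr.ne'
    have hd : q.natDegree = r := Polynomial.natDegree_X_pow_sub_C
    have hirr : Irreducible q := by
      refine Polynomial.IsEisensteinAt.irreducible (𝓟 := IsLocalRing.maximalIdeal R) ⟨?_, fun {n} hn => ?_, ?_⟩
        inferInstance hm.isPrimitive (hd.symm ▸ hr)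
      · rw [hm.leadingCoeff]
        exact fun h => (IsLocalRing.maximalIdeal.isMaximal R).ne_top ((Ideal.eq_top_iff_one _).2 h)
      · rw [hd] at hn
        rw [Polynomial.coeff_sub, Polynomial.coeff_X_pow, if_neg hn.ne, zero_sub, Ideal.neg_mem_iff,
          Polynomial.coeff_C]
        split_ifs
        · exact hp.not_isUnit
        · exact zero_mem _
      · rw [Polynomial.coeff_sub, Polynomial.coeff_X_pow, if_neg hr.ne, zero_sub, Ideal.neg_mem_iff,
          Polynomial.coeff_C_zero, hp.maximalIdeal_eq, Ideal.span_singleton_pow,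
          Ideal.mem_span_singleton]
        rintro ⟨c, hc⟩
        apply hp.not_isUnit
        refine IsUnit.of_mul_eq_one c (mul_left_cancel₀ hp.ne_zero ?_)
        linear_combination -hc
    have hirr' : Irreducible (q.map (algebraMap R K)) :=
      (hm.irreducible_iff_irreducible_map_fraction_map).1 hirr
    have h2 := minpoly.eq_of_irreducible_of_monic hirr' (x := ϖ) (by
      rw [Polynomial.aeval_map_algebraMap, map_sub, map_pow, Polynomial.aeval_X, Polynomial.aeval_C, hϖ,
        sub_self]) (hm.map _)
    rw [← h2, hm.natDegree_map, hd]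
  haveI : IsGalois K L₀ := by
    haveI : Algebra.IsSeparable K L₀ := Algebra.isSeparable_tower_bot_of_isSeparable K L₀ Ω
    haveI : Normal K L₀ := IntermediateField.normal_iff_forall_map_le'.2 fun σ => by
      rw [IntermediateField.adjoin_map, Set.image_singleton, IntermediateField.adjoin_simple_le_iff]
      have hϖ0 : ϖ ≠ 0 := fun h => hp0 (by rw [← hϖ, h, zero_pow hr.ne'])
      have h1 : ((σ : Ω →ₐ[K] Ω) ϖ / ϖ) ^ r = 1 := by
        rw [div_pow, ← map_pow, hϖ, IsScalarTower.algebraMap_apply R K Ω, AlgHom.commutes,
          div_self (by rwa [← IsScalarTower.algebraMap_apply])]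
      rw [← div_mul_cancel₀ ((σ : Ω →ₐ[K] Ω) ϖ) hϖ0]
      exact mul_mem (Groth.Agent.TameGal67.rootOfUnity_mem hW hI hr.ne' hrk L₀ h1)
        (IntermediateField.mem_adjoin_simple_self K ϖ)
    exact { }
  refine ⟨⟨L₀, ⟨hdeg, inferInstance⟩, ?_⟩, ?_⟩
  · rintro L ⟨hL, hG⟩
    haveI : FiniteDimensional K L := Module.finite_of_finrank_pos (hL ▸ hr)
    obtain ⟨y, hy, hyr⟩ := (Groth.Agent.TameGal67.layer hW hI L hr.ne' hrk hL hp).2
    have hy0 : y ≠ 0 := fun h => hp0 (by rw [← hyr, h, zero_pow hr.ne'])
    have h1 : (ϖ / y) ^ r = 1 := by rw [div_pow, hϖ, hyr, div_self hp0]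
    have hle : L₀ ≤ L := by
      rw [IntermediateField.adjoin_simple_le_iff, ← div_mul_cancel₀ ϖ hy0]
      exact mul_mem (Groth.Agent.TameGal67.rootOfUnity_mem hW hI hr.ne' hrk L h1) hy
    exact (IntermediateField.eq_of_le_of_finrank_eq hle (hdeg.trans hL.symm)).symm
  · intro L hL hG
    haveI : FiniteDimensional K L := Module.finite_of_finrank_pos (hL ▸ hr)
    exact (Groth.Agent.TameGal67.layer hW hI L hr.ne' hrk hL hp).1

end Groth.Agent.S19917
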