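import Groth.Statements.S19918
import Groth.Agent.VertInter.Kernel

set_option autoImplicit false
universe u
open CategoryTheory CategoryTheory.Limits AlgebraicGeometry
open Models

namespace Groth.Agent.S19918

attribute [local instance] Groth.Agent.PicLaw.law

/-- Kernel of Pic(X)[n] → Pic(C)[n]: let R be a discrete valuation ring with fraction field K, C a
smooth proper curve over K with H^0(C, O_C) = K, X a regular proper model of C with generic-fibre
inclusion g : C → X, Γ_1, …, Γ_n the irreducible components of the closed fibre with multiplicities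
m_1, …, m_n, d = gcd(m_1, …, m_n), and L_i invertible O_X-modules with L_i ⊗ I(Γ_i) ≅ O_X (that is,
L_i = O_X(Γ_i)). Let h ≥ 1 and put e = gcd(h, d). If M is an invertible O_X-module with M^{⊗h} ≅ O_X
whose pullback to C is trivial, then there is exactly one natural number k < e with M ≅ L_1^{k
m_1/e} ⊗ ⋯ ⊗ L_n^{k m_n/e} = O_X(k·(1/e)·X_s). In other words the kernel of Pic(X)[h] → Pic(C)[h] is
cyclic of order gcd(h, d), generated by the class of O_X((1/e)·X_s). -/
theorem result (R : Type u) [CommRing R] [IsDomain R] [IsDiscreteValuationRing R]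
    (C X : Scheme.{u}) (f : C ⟶ Spec (CommRingCat.of (FractionRing R))) (p : X ⟶ Spec (CommRingCat.of R))
    (hC : Curve.IsSmoothProperCurve (FractionRing R) C f) (hH0 : IsIso f.appTop)
    (hX : Models.IsRegularProperModel R X p C f)
    {n : ℕ} (Γ : Fin n → ArSurf.VertComp R (Over.mk p)) (hΓ : Models.IsComponentList R (Over.mk p) Γ)
    (g : C ⟶ X) (hg : IsPullback g f p (Spec.map (CommRingCat.ofHom (algebraMap R (FractionRing R)))))
    (L : Fin n → X.Modules) (hL : ∀ i, ClSub.IsInverseOf (L i) (ClSub.idealMod (Γ i).ι.ker))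
    (h : ℕ) (hh : 0 < h)
    (M : X.Modules) (hM : PicF.IsInvertible M)
    (htors : Nonempty (CohB1.tensorPow M h ≅ Coh.structureModule X))
    (htriv : Nonempty ((Scheme.Modules.pullback g).obj M ≅ Coh.structureModule C)) :
    ∃! k : ℕ, k < Nat.gcd h (Models.multGcd R (Over.mk p) Γ) ∧
      Nonempty (M ≅ FGA.multiTwist L (fun i => k * (Models.mult R (Over.mk p) (Γ i) / Nat.gcd h (Models.multGcd R (Over.mk p) Γ)))) := by
  have hLi := VertInter.model_invertible hX hΓ L hL
  have hone := VertInter.E_eq_one_iff hC hH0 hX hΓ L hL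
  haveI : Flat p := hX.1.1
  haveI : IsProper p := hX.2.1
  haveI : IsProper (Over.mk p).hom := hX.2.1
  have hm1 := VertInter.one_le_mult hΓ hX.2.2
  haveI : IsIntegral C := hC.2.2.1
  set d := Models.multGcd R (Over.mk p) Γ with hd
  set m := fun i => Models.mult R (Over.mk p) (Γ i) with hm
  set e := Nat.gcd h d with he
  have he0 : 0 < e := Nat.gcd_pos_of_pos_left d hh
  have hem : ∀ i, e ∣ m i := fun i => (Nat.gcd_dvd_right h d).trans (Finset.gcd_dvd (Finset.mem_univ i))
  obtain ⟨v, hv⟩ := VertInter.exists_E_of_trivial hC hH0 hX hΓ hg L hL hM htriv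
  have h1 : VertInter.E L hLi (fun i => (h : ℤ) * v i) = 1 := by
    rw [VertInter.E_mul, ← hv, zpow_natCast, ← VertInter.cls_pow hM h]
    exact (PicGrp.cls_eq_one_iff _).mpr htors
  obtain ⟨c, hc⟩ := (hone _).mp h1
  have h2 : h ∣ c.natAbs * d := by
    have e1 : Finset.univ.gcd (fun i => c.natAbs * m i) = c.natAbs * d := by
      rw [Finset.gcd_mul_left, normalize_eq]; rfl
    rw [← e1]
    refine Finset.dvd_gcd fun i _ => ⟨(v i).natAbs, ?_⟩
    have := congrArg Int.natAbs (hc i)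
    simp only [Int.natAbs_mul, Int.natAbs_natCast] at this
    exact this.symm
  have h3 : h / e ∣ c.natAbs := by
    refine (Nat.coprime_div_gcd_div_gcd he0).dvd_of_dvd_mul_right ?_
    have h4 : h / e ∣ c.natAbs * d / e := Nat.div_dvd_div (Nat.gcd_dvd_left h d) h2
    rwa [Nat.mul_div_assoc _ (Nat.gcd_dvd_right h d)] at h4
  obtain ⟨j, hj⟩ : ((h / e : ℕ) : ℤ) ∣ c := Int.natCast_dvd.mpr h3
  have hvj : ∀ i, v i = j * ((m i / e : ℕ) : ℤ) := fun i => by
    have hh' : ((h : ℕ) : ℤ) = ((h / e : ℕ) : ℤ) * (e : ℤ) := by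
      rw [← Nat.cast_mul, Nat.div_mul_cancel (Nat.gcd_dvd_left h d)]
    have hmi : ((m i : ℕ) : ℤ) = (e : ℤ) * ((m i / e : ℕ) : ℤ) := by
      rw [← Nat.cast_mul, Nat.mul_div_cancel' (hem i)]
    have h5 := hc i
    rw [show (Models.mult R (Over.mk p) (Γ i) : ℤ) = ((m i : ℕ) : ℤ) from rfl, hmi, hj, hh'] at h5
    have hne : ((h / e : ℕ) : ℤ) * (e : ℤ) ≠ 0 := by rw [← hh']; exact_mod_cast hh.ne'
    refine mul_left_cancel₀ hne ?_
    linear_combination h5
  have key : ∀ k : ℕ, Nonempty (M ≅ FGA.multiTwist L (fun i => k * (m i / e))) ↔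
      ∃ q : ℤ, ∀ i, (j - k) * ((m i / e : ℕ) : ℤ) = q * (m i : ℤ) := fun k => by
    obtain ⟨hk, ek⟩ := VertInter.exists_cls_multiTwist L hLi fun i => k * (m i / e)
    rw [← PicGrp.cls_eq_cls_iff hM hk, hv, ek, ← div_eq_one, ← VertInter.E_sub, hone]
    refine exists_congr fun q => forall_congr' fun i => ?_
    simp only [Pi.sub_apply, hvj i, Nat.cast_mul, sub_mul]
    exact Iff.rfl
  have hjm : (j % (e : ℤ)).toNat < e ∧ (((j % (e : ℤ)).toNat : ℕ) : ℤ) = j % (e : ℤ) :=
    ⟨(Int.toNat_lt (Int.emod_nonneg _ (by exact_mod_cast he0.ne'))).mpr (Int.emod_lt_of_pos _ (by exact_mod_cast he0)),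
      Int.toNat_of_nonneg (Int.emod_nonneg _ (by exact_mod_cast he0.ne'))⟩
  refine ⟨(j % (e : ℤ)).toNat, ⟨hjm.1, (key _).mpr ⟨j / (e : ℤ), fun i => ?_⟩⟩, fun k hk => ?_⟩
  · rw [hjm.2, show (m i : ℤ) = (e : ℤ) * ((m i / e : ℕ) : ℤ) from by
      rw [← Nat.cast_mul, Nat.mul_div_cancel' (hem i)]]
    linear_combination (-((m i / e : ℕ) : ℤ)) * Int.mul_ediv_add_emod j (e : ℤ)
  · obtain ⟨hk1, hk2⟩ := hk
    obtain ⟨q, hq⟩ := (key k).mp hk2
    obtain ⟨i⟩ := VertInter.nonempty_fin hX hΓ inferInstance hg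
    have hpos : 0 < m i / e := Nat.div_pos (Nat.le_of_dvd (hm1 i) (hem i)) he0
    have hjk : j - k = q * (e : ℤ) := by
      refine mul_right_cancel₀ (show ((m i / e : ℕ) : ℤ) ≠ 0 from by exact_mod_cast hpos.ne') ?_
      rw [hq i, mul_assoc, ← Nat.cast_mul, Nat.mul_div_cancel' (hem i)]
    have : j % (e : ℤ) = (k : ℤ) := by
      rw [show j = (k : ℤ) + q * (e : ℤ) from by linear_combination hjk, Int.add_mul_emod_self_right,
        Int.emod_eq_of_lt (by positivity) (by exact_mod_cast hk1)]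
    omega

end Groth.Agent.S19918
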