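import Groth.Statements.S19920
import Groth.Agent.IndexMult.Core
import Mathlib.AlgebraicGeometry.Morphisms.Finite

set_option autoImplicit false
universe u
open CategoryTheory CategoryTheory.Limits AlgebraicGeometry
open Models

namespace Groth.Agent.S19920

open IsLocalRing

/-- The ring map `R → O_{X,x}` of a morphism to `Spec R`. -/
noncomputable def pointHom {R : Type u} [CommRing R] {X : Scheme.{u}}
    (f : X ⟶ Spec (CommRingCat.of R)) (x : X) : R →+* X.presheaf.stalk x :=
  ((Scheme.ΓSpecIso (CommRingCat.of R)).inv ≫ f.appTop ≫ X.presheaf.germ ⊤ x trivial).hom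

lemma fromSpecStalk_comp {R : Type u} [CommRing R] {X : Scheme.{u}}
    (f : X ⟶ Spec (CommRingCat.of R)) (x : X) :
    X.fromSpecStalk x ≫ f = Spec.map (CommRingCat.ofHom (pointHom f x)) := by
  have h1 : f = X.toSpecΓ ≫ Spec.map ((Scheme.ΓSpecIso (CommRingCat.of R)).inv ≫ f.appTop) := by
    rw [Spec.map_comp, ← Scheme.toSpecΓ_naturality_assoc, toSpecΓ_SpecMap_ΓSpecIso_inv,
      Category.comp_id]
  conv_lhs => rw [h1, Scheme.fromSpecStalk_toSpecΓ_assoc, ← Spec.map_comp, Category.assoc]
  rfl

lemma factor_through_stalk {Y : Scheme.{u}} {Q : CommRingCat.{u}} [IsLocalRing Q] (l : Spec Q ⟶ Y)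
    (ξ : Y) (h : l (IsLocalRing.closedPoint Q) = ξ) :
    ∃ t : Y.presheaf.stalk ξ ⟶ Q, l = Spec.map t ≫ Y.fromSpecStalk ξ := by
  subst h
  exact ⟨_, (Scheme.Spec_stalkClosedPointTo_fromSpecStalk l).symm⟩

/-- The local ring of the special fibre is the quotient by the maximal ideal of the base. -/
lemma ker_stalkMap_eq (R : Type u) [CommRing R] [IsLocalRing R]
    {X Xs : Scheme.{u}} (f : X ⟶ Spec (CommRingCat.of R))
    (gs : Xs ⟶ X) (fs : Xs ⟶ Spec (CommRingCat.of (IsLocalRing.ResidueField R)))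
    (hs : IsPullback gs fs f (Spec.map (CommRingCat.ofHom (IsLocalRing.residue R)))) (ξ : Xs) :
    RingHom.ker (gs.stalkMap ξ).hom =
      Ideal.map (pointHom f (gs.base ξ)) (IsLocalRing.maximalIdeal R) := by
  have hinj : Function.Injective gs := by
    have : IsClosedImmersion gs := MorphismProperty.of_isPullback hs.flip
      (IsClosedImmersion.spec_of_surjective _ IsLocalRing.residue_surjective)
    exact gs.isClosedEmbedding.injective
  set ψ := pointHom f (gs.base ξ) with hψ
  set σ := gs.stalkMap ξ with hσ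
  have hle : Ideal.map ψ (IsLocalRing.maximalIdeal R) ≤ RingHom.ker σ.hom := by
    have h1 : Spec.map σ ≫ Spec.map (CommRingCat.ofHom ψ) =
        Spec.map (CommRingCat.ofHom (pointHom fs ξ)) ≫
          Spec.map (CommRingCat.ofHom (IsLocalRing.residue R)) := by
      have a := fromSpecStalk_comp f (gs.base ξ)
      have b := fromSpecStalk_comp fs ξ
      have c : Spec.map σ ≫ X.fromSpecStalk (gs.base ξ) = Xs.fromSpecStalk ξ ≫ gs :=
        Scheme.SpecMap_stalkMap_fromSpecStalk gs
      calc _ = Spec.map σ ≫ X.fromSpecStalk (gs.base ξ) ≫ f :=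
            congrArg (Spec.map σ ≫ ·) a.symm
        _ = (Spec.map σ ≫ X.fromSpecStalk (gs.base ξ)) ≫ f := (Category.assoc _ _ _).symm
        _ = (Xs.fromSpecStalk ξ ≫ gs) ≫ f := congrArg (· ≫ f) c
        _ = Xs.fromSpecStalk ξ ≫ fs ≫ Spec.map (CommRingCat.ofHom (IsLocalRing.residue R)) :=
            (Category.assoc _ _ _).trans (congrArg (Xs.fromSpecStalk ξ ≫ ·) hs.w)
        _ = (Xs.fromSpecStalk ξ ≫ fs) ≫ Spec.map (CommRingCat.ofHom (IsLocalRing.residue R)) :=
            (Category.assoc _ _ _).symm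
        _ = _ := congrArg (· ≫ Spec.map (CommRingCat.ofHom (IsLocalRing.residue R))) b
    have h2 := Spec.map_injective ((Spec.map_comp _ _).trans (h1.trans (Spec.map_comp _ _).symm))
    rw [Ideal.map_le_iff_le_comap]
    intro r hr
    have h3 : σ.hom (ψ r) = (CommRingCat.ofHom (pointHom fs ξ)).hom (IsLocalRing.residue R r) :=
      congrArg (fun m => (ConcreteCategory.hom m) r) h2
    rw [Ideal.mem_comap, RingHom.mem_ker, h3, (IsLocalRing.residue_eq_zero_iff r).mpr hr, map_zero]
  refine le_antisymm ?_ hle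
  set I := Ideal.map ψ (IsLocalRing.maximalIdeal R) with hI
  have hI1 : I ≤ IsLocalRing.maximalIdeal _ :=
    hle.trans (IsLocalRing.le_maximalIdeal (RingHom.ker_ne_top σ.hom))
  have : Nontrivial (X.presheaf.stalk (gs.base ξ) ⧸ I) :=
    Ideal.Quotient.nontrivial_iff.mpr (ne_top_of_le_ne_top Ideal.IsPrime.ne_top' hI1)
  let Q : CommRingCat.{u} := CommRingCat.of (X.presheaf.stalk (gs.base ξ) ⧸ I)
  have : IsLocalRing Q :=
    IsLocalRing.of_surjective' (Ideal.Quotient.mk I) Ideal.Quotient.mk_surjective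
  let q : X.presheaf.stalk (gs.base ξ) ⟶ Q := CommRingCat.ofHom (Ideal.Quotient.mk I)
  let ψb : IsLocalRing.ResidueField R →+* Q :=
    Ideal.Quotient.lift _ (q.hom.comp ψ) fun r hr =>
      Ideal.Quotient.eq_zero_iff_mem.mpr (Ideal.mem_map_of_mem ψ hr)
  have hfac : CommRingCat.ofHom ψ ≫ q =
      CommRingCat.ofHom (IsLocalRing.residue R) ≫ CommRingCat.ofHom ψb := by
    ext r
    rfl
  have hw : (Spec.map q ≫ X.fromSpecStalk (gs.base ξ)) ≫ f =
      Spec.map (CommRingCat.ofHom ψb) ≫ Spec.map (CommRingCat.ofHom (IsLocalRing.residue R)) := by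
    rw [Category.assoc, fromSpecStalk_comp, ← Spec.map_comp, ← Spec.map_comp, hfac]
  obtain ⟨l, hl, -⟩ := hs.exists_lift _ _ hw
  have hql : IsLocalHom q.hom :=
    IsLocalHom.of_surjective (Ideal.Quotient.mk I) Ideal.Quotient.mk_surjective
  have hlc : l (IsLocalRing.closedPoint Q) = ξ := by
    apply hinj
    change (l ≫ gs) (IsLocalRing.closedPoint Q) = _
    rw [hl]
    change X.fromSpecStalk (gs.base ξ) (Spec.map q (IsLocalRing.closedPoint Q)) = _
    exact (congrArg _ (IsLocalRing.comap_closedPoint q.hom)).trans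
      Scheme.fromSpecStalk_closedPoint
  obtain ⟨t, rfl⟩ := factor_through_stalk l ξ hlc
  rw [Category.assoc, ← Scheme.SpecMap_stalkMap_fromSpecStalk, ← Spec.map_comp_assoc,
    cancel_mono] at hl
  have h4 := Spec.map_injective hl
  intro x hx
  have h5 : Ideal.Quotient.mk I x = t.hom (σ.hom x) :=
    (congrArg (fun m => (ConcreteCategory.hom m) x) h4).symm
  rw [RingHom.mem_ker.mp hx, map_zero] at h5
  exact Ideal.Quotient.eq_zero_iff_mem.mp h5

/-- A surjective ring map of rings preserves the length of the quotient by its kernel. -/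
lemma length_self_eq {B C : Type u} [CommRing B] [CommRing C] (g : B →+* C)
    (hg : Function.Surjective g) :
    Module.length C C = Module.length B (B ⧸ RingHom.ker g) := by
  let _ : Algebra B C := g.toAlgebra
  rw [← Module.length_eq_of_surjective (R := C) (S := B) (M := C) hg]
  exact ((Ideal.quotientKerAlgEquivOfSurjective (f := Algebra.ofId B C) hg).toLinearEquiv.length_eq).symm

/-- A finite extension generated by the coordinates of a point is the residue field of a closed
point. -/
lemma finrank_mem_indexSubgroup {R : Type u} [CommRing R] [IsDomain R] {X 𝒳 : Scheme.{u}}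
    (f : X ⟶ Spec (CommRingCat.of (FractionRing R))) (p : 𝒳 ⟶ Spec (CommRingCat.of R))
    [LocallyOfFiniteType f] (gK : X ⟶ 𝒳)
    (hgK : IsPullback gK f p (Spec.map (CommRingCat.ofHom (algebraMap R (FractionRing R)))))
    {U : 𝒳.Opens} (hU : IsAffineOpen U) (φ0 : R →+* Γ(𝒳, U))
    (hφ0 : hU.fromSpec ≫ p = Spec.map (CommRingCat.ofHom φ0))
    (L : Type u) [Field L] [Algebra (FractionRing R) L] [Module.Finite (FractionRing R) L]
    (φ : Γ(𝒳, U) →+* L)
    (hφ : ∀ r, φ (φ0 r) = algebraMap (FractionRing R) L (algebraMap R (FractionRing R) r))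
    (hgen : ∀ F : Subfield L, (∀ a, φ a ∈ F) → (∀ c, algebraMap (FractionRing R) L c ∈ F) → F = ⊤) :
    (Module.finrank (FractionRing R) L : ℤ) ∈ Curv2.indexSubgroup f := by
  obtain ⟨b, hb1, hb2⟩ := hgK.exists_lift (Spec.map (CommRingCat.ofHom φ) ≫ hU.fromSpec)
    (Spec.map (CommRingCat.ofHom (algebraMap (FractionRing R) L))) (by
      rw [Category.assoc, hφ0, ← Spec.map_comp, ← Spec.map_comp]
      congr 1
      ext r
      exact hφ r)
  set z := b (closedPoint L) with hz
  -- `z` is a closed point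
  have : LocallyOfFiniteType (b ≫ f) := by
    rw [hb2, HasRingHomProperty.Spec_iff (P := @LocallyOfFiniteType)]
    exact RingHom.finiteType_algebraMap.mpr inferInstance
  have : LocallyOfFiniteType b := locallyOfFiniteType_of_comp b f
  have : JacobsonSpace X := LocallyOfFiniteType.jacobsonSpace f
  have hclosed : IsClosed ({z} : Set X) :=
    b.closePoints_subset_preimage_closedPoints (IsLocalRing.isClosed_singleton_closedPoint L)
  -- the embedding of the residue field
  set χ := Scheme.descResidueField (Scheme.stalkClosedPointTo b) with hχ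
  have hbχ : Spec.map χ ≫ X.fromSpecResidueField z = b :=
    Scheme.descResidueField_stalkClosedPointTo_fromSpecResidueField L X b
  -- everything factors through `κ(z)`
  have key : ∀ {W : Scheme.{u}} (e : X ⟶ W) {V : W.Opens} (hV : ⊤ ≤ (b ≫ e) ⁻¹ᵁ V) (a : Γ(W, V)),
      ((b ≫ e).appLE V ⊤ hV ≫ (Scheme.ΓSpecIso (CommRingCat.of L)).hom) a ∈ Set.range χ.hom := by
    intro W e V hV a
    have hpt : (Spec (X.residueField z)).presheaf.obj (Opposite.op ⊤) = _ := rfl
    have hV' : (⊤ : (Spec (X.residueField z)).Opens) ≤ (X.fromSpecResidueField z ≫ e) ⁻¹ᵁ V := by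
      intro y _
      have h1 : y = Spec.map χ (closedPoint L) := Subsingleton.elim _ _
      rw [h1]
      change (Spec.map χ ≫ X.fromSpecResidueField z ≫ e) (closedPoint L) ∈ V
      rw [← Category.assoc, hbχ]
      exact hV (show closedPoint L ∈ ⊤ from trivial)
    have h2 : (b ≫ e).appLE V ⊤ hV = (X.fromSpecResidueField z ≫ e).appLE V ⊤ hV' ≫
        (Spec.map χ).appTop := by
      have h3 := Scheme.Hom.appLE_comp_appLE (Spec.map χ) (X.fromSpecResidueField z ≫ e) V ⊤ ⊤
        hV' le_top
      have h4 : (Spec.map χ).appLE ⊤ ⊤ le_top = (Spec.map χ).appTop := Scheme.Hom.appLE_eq_app _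
      rw [h4] at h3
      rw [h3]
      have congrHom : ∀ (g g' : Spec (CommRingCat.of L) ⟶ W) (h : ⊤ ≤ g ⁻¹ᵁ V) (h' : ⊤ ≤ g' ⁻¹ᵁ V),
          g = g' → g.appLE V ⊤ h = g'.appLE V ⊤ h' := by
        rintro g g' h h' rfl; rfl
      exact congrHom _ _ _ _ (by rw [← Category.assoc, hbχ])
    refine ⟨((X.fromSpecResidueField z ≫ e).appLE V ⊤ hV' ≫ (Scheme.ΓSpecIso _).hom) a, ?_⟩
    rw [h2, Category.assoc, Scheme.ΓSpecIso_naturality, ← Category.assoc]
    rfl
  have hA : ∀ a, φ a ∈ χ.hom.fieldRange := by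
    intro a
    have hV : ⊤ ≤ (Spec.map (CommRingCat.ofHom φ) ≫ hU.fromSpec) ⁻¹ᵁ U := by
      rw [Scheme.Hom.comp_preimage, hU.fromSpec_preimage_self]
      exact le_rfl
    have h1 : (Spec.map (CommRingCat.ofHom φ) ≫ hU.fromSpec).appLE U ⊤ hV =
        CommRingCat.ofHom φ ≫ (Scheme.ΓSpecIso _).inv := by
      have h8 : hU.fromSpec.appLE U ⊤ hU.fromSpec_preimage_self.ge =
          (Scheme.ΓSpecIso Γ(𝒳, U)).inv := by
        rw [Scheme.Hom.appLE, hU.fromSpec_app_self, Category.assoc, ← Functor.map_comp]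
        convert Category.comp_id _
        exact CategoryTheory.Functor.map_id _ _
      have h9 := Scheme.Hom.appLE_comp_appLE (Spec.map (CommRingCat.ofHom φ)) hU.fromSpec U ⊤ ⊤
        hU.fromSpec_preimage_self.ge le_top
      rw [← h9, h8, Scheme.ΓSpecIso_inv_naturality]
      congr 1
    have := key gK (V := U) (by rw [hb1]; exact hV) a
    simp only [hb1, h1, Category.assoc, Iso.inv_hom_id, Category.comp_id] at this
    exact this
  have hK : ∀ c, algebraMap (FractionRing R) L c ∈ χ.hom.fieldRange := by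
    intro c
    have := key f (V := ⊤) le_top ((Scheme.ΓSpecIso _).inv c)
    have h1 : (b ≫ f).appLE ⊤ ⊤ le_top =
        (Spec.map (CommRingCat.ofHom (algebraMap (FractionRing R) L))).appTop := by
      simp only [hb2]
      exact Scheme.Hom.appLE_eq_app _
    rw [h1, ← ConcreteCategory.comp_apply, ← Category.assoc, ← Scheme.ΓSpecIso_inv_naturality,
      Category.assoc, Iso.inv_hom_id, Category.comp_id] at this
    exact this
  have hsurj : Function.Surjective χ.hom := fun l =>
    RingHom.mem_fieldRange.mp ((hgen _ hA hK).symm ▸ Subfield.mem_top l)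
  -- compare degrees
  let P0 : PrimeSpectrum (FractionRing R) := f z
  let ιK : FractionRing R →+* (Spec (CommRingCat.of (FractionRing R))).residueField (f z) :=
    (CommRingCat.ofHom (algebraMap (FractionRing R) P0.asIdeal.ResidueField) ≫
      (Scheme.Spec.residueFieldIso (CommRingCat.of (FractionRing R)) (f z)).inv).hom
  have hιK : Function.Bijective ιK := by
    refine ⟨ιK.injective, ?_⟩
    have h1 : Function.Surjective (algebraMap (FractionRing R)
        P0.asIdeal.ResidueField) := by
      have : P0.asIdeal.IsMaximal :=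
        Ideal.IsPrime.isMaximal' (PrimeSpectrum.isPrime _)
      intro y
      obtain ⟨y', rfl⟩ := (Ideal.bijective_algebraMap_quotient_residueField _).2 y
      obtain ⟨c, rfl⟩ := Ideal.Quotient.mk_surjective y'
      exact ⟨c, rfl⟩
    exact (ConcreteCategory.bijective_of_isIso
      (Scheme.Spec.residueFieldIso (CommRingCat.of (FractionRing R)) (f z)).inv).2.comp h1
  have hιKspec : Spec.map (CommRingCat.ofHom ιK) =
      (Spec (CommRingCat.of (FractionRing R))).fromSpecResidueField (f z) := by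
    rw [CommRingCat.ofHom_hom, Spec.map_comp, Scheme.Spec.map_residueFieldIso_inv_eq_fromSpecResidueField]
  have hcomp : (algebraMap (FractionRing R) L) =
      (χ.hom.comp (f.residueFieldMap z).hom).comp ιK := by
    have h1 : Spec.map (CommRingCat.ofHom (algebraMap (FractionRing R) L)) =
        Spec.map (CommRingCat.ofHom ιK ≫ f.residueFieldMap z ≫ χ) := by
      rw [Spec.map_comp, Spec.map_comp, hιKspec, Category.assoc,
        Scheme.Hom.SpecMap_residueFieldMap_fromSpecResidueField, ← Category.assoc, hbχ, hb2]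
    exact congrArg CommRingCat.Hom.hom (Spec.map_injective h1)
  let i : FractionRing R ≃+* (Spec (CommRingCat.of (FractionRing R))).residueField (f z) :=
    RingEquiv.ofBijective ιK hιK
  let j : L ≃+* X.residueField z := (RingEquiv.ofBijective χ.hom ⟨χ.hom.injective, hsurj⟩).symm
  have hdeg : f.residueDegree z = Module.finrank (FractionRing R) L := by
    let _ := (f.residueFieldMap z).hom.toAlgebra
    refine (Algebra.finrank_eq_of_equiv_equiv i j ?_).symm
    ext c
    apply χ.hom.injective
    have h1 : χ.hom (j (algebraMap (FractionRing R) L c)) = algebraMap (FractionRing R) L c :=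
      (RingEquiv.ofBijective χ.hom ⟨χ.hom.injective, hsurj⟩).apply_symm_apply _
    refine Eq.trans ?_ h1.symm
    exact (RingHom.congr_fun hcomp c).symm
  rw [← hdeg]
  exact AddSubgroup.subset_closure ⟨z, hclosed, rfl⟩

/-- Let R be a discrete valuation ring that is Henselian, whose residue field k is algebraically closed,
with fraction field K, and let 𝒳 be an R-scheme of finite type, flat over R, whose generic fibre is
X (𝒳 is a model of the K-scheme X) and special fibre Y = 𝒳 ⊗_R k. Then the index of X over K (the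
greatest common divisor of the degrees of its closed points) divides the multiplicity of Y (the
greatest common divisor of the lengths of the local rings of Y at its points of codimension 0): for
every point η of Y which is maximal for specialization, the local ring O_{Y,η} has finite length ℓ
and ℓ lies in the subgroup of ℤ generated by the degrees of the closed points of X. -/
theorem result (R : Type u) [CommRing R]
    [IsDomain R] [IsDiscreteValuationRing R] [HenselianLocalRing R] (hk : IsAlgClosed (IsLocalRing.ResidueField R))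
    (X : Scheme.{u}) (f : X ⟶ Spec (CommRingCat.of (FractionRing R)))
    (𝒳 : Scheme.{u}) (p : 𝒳 ⟶ Spec (CommRingCat.of R)) (h𝒳 : Models.IsModel R 𝒳 p X f)
    (η : ↥(Models.specialFibre R 𝒳 p)) (hη : ∀ y : ↥(Models.specialFibre R 𝒳 p), y ⤳ η → y = η) :
    ∃ ℓ : ℕ, Module.length ((Models.specialFibre R 𝒳 p).presheaf.stalk η) ((Models.specialFibre R 𝒳 p).presheaf.stalk η) = ℓ ∧
      (ℓ : ℤ) ∈ Curv2.indexSubgroup f := by
  obtain ⟨hflat, hlft, hqc, gK, hgK⟩ := h𝒳
  have : LocallyOfFiniteType f := MorphismProperty.of_isPullback hgK hlft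
  obtain ⟨ϖ, hϖ⟩ := IsDiscreteValuationRing.exists_irreducible R
  have hs : IsPullback
      (pullback.fst p (Spec.map (CommRingCat.ofHom (algebraMap R (ResidueField R)))))
      (pullback.snd p (Spec.map (CommRingCat.ofHom (algebraMap R (ResidueField R))))) p
      (Spec.map (CommRingCat.ofHom (IsLocalRing.residue R))) := IsPullback.of_hasPullback _ _
  set gs : Models.specialFibre R 𝒳 p ⟶ 𝒳 :=
    pullback.fst p (Spec.map (CommRingCat.ofHom (algebraMap R (ResidueField R)))) with hgs
  have : IsClosedImmersion gs := MorphismProperty.of_isPullback hs.flip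
    (IsClosedImmersion.spec_of_surjective _ IsLocalRing.residue_surjective)
  set x := gs η with hx
  obtain ⟨_, ⟨U, hU, rfl⟩, hxU, -⟩ :=
    𝒳.isBasis_affineOpens.exists_subset_of_mem_open (Set.mem_univ x) isOpen_univ
  set φ0 : R →+* Γ(𝒳, U) :=
    ((Scheme.ΓSpecIso (CommRingCat.of R)).inv ≫ p.appLE ⊤ U le_top).hom with hφ0
  let _ : Algebra R Γ(𝒳, U) := φ0.toAlgebra
  have hφ0spec : hU.fromSpec ≫ p = Spec.map (CommRingCat.ofHom φ0) := by
    have h2 := IsAffineOpen.SpecMap_appLE_fromSpec p (isAffineOpen_top _) hU (i := le_top)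
    rw [IsAffineOpen.fromSpec_top] at h2
    rw [← h2, hφ0, CommRingCat.ofHom_hom, Spec.map_comp]
    congr 1
    simp [Scheme.isoSpec_Spec_inv]
  have hbij := (Scheme.ΓSpecIso (CommRingCat.of R)).symm.commRingCatIsoToRingEquiv.bijective
  have hAfl : φ0.Flat := RingHom.Flat.comp (RingHom.Flat.of_bijective hbij)
    (hflat.flat_appLE (isAffineOpen_top _) hU le_top)
  have : Algebra.FiniteType R Γ(𝒳, U) :=
    RingHom.FiniteType.comp (p.finiteType_appLE (isAffineOpen_top _) hU le_top)
      (RingHom.FiniteType.of_surjective _ hbij.2)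
  have : Module.Flat R Γ(𝒳, U) := hAfl
  have hreg : IsSMulRegular Γ(𝒳, U) (algebraMap R Γ(𝒳, U) ϖ) :=
    IsSMulRegular.of_flat (S := Γ(𝒳, U)) (fun a b h => mul_left_cancel₀ hϖ.ne_zero h)
  set P := (hU.primeIdealOf ⟨x, hxU⟩).asIdeal with hP
  have hxspec : hU.fromSpec (hU.primeIdealOf ⟨x, hxU⟩) = x := hU.fromSpec_primeIdealOf ⟨x, hxU⟩
  have : IsLocalHom (algebraMap R (ResidueField R)) :=
    inferInstanceAs (IsLocalHom (IsLocalRing.residue R))
  have hclosed : ∀ y : 𝒳, y ∈ Set.range gs ↔ p y = closedPoint R := by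
    intro y
    rw [hgs]
    erw [Scheme.Pullback.range_fst, Set.mem_preimage]
    constructor
    · rintro ⟨t, ht⟩
      have : t = closedPoint (ResidueField R) := Subsingleton.elim _ _
      rw [← ht, this]
      exact IsLocalRing.comap_closedPoint (algebraMap R (ResidueField R))
    · intro hy
      exact ⟨closedPoint (ResidueField R),
        (IsLocalRing.comap_closedPoint (algebraMap R (ResidueField R))).trans hy.symm⟩
  have hpQ : ∀ Q : PrimeSpectrum Γ(𝒳, U),
      p (hU.fromSpec Q) = closedPoint R ↔ algebraMap R Γ(𝒳, U) ϖ ∈ Q.asIdeal := by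
    intro Q
    change (hU.fromSpec ≫ p) Q = _ ↔ _
    rw [hφ0spec]
    constructor
    · intro h
      have := congrArg PrimeSpectrum.asIdeal h
      exact this.ge (hϖ.maximalIdeal_eq.ge (Ideal.mem_span_singleton_self ϖ))
    · intro h
      apply PrimeSpectrum.ext
      refine ((IsLocalRing.maximalIdeal.isMaximal R).eq_of_le
        (Ideal.IsPrime.ne_top (PrimeSpectrum.isPrime _)) ?_).symm
      rw [hϖ.maximalIdeal_eq, Ideal.span_singleton_le_iff_mem]
      exact h
  have hmin : P ∈ (Ideal.span {algebraMap R Γ(𝒳, U) ϖ}).minimalPrimes := by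
    refine ⟨⟨(hU.primeIdealOf ⟨x, hxU⟩).isPrime, ?_⟩, ?_⟩
    · rw [Ideal.span_singleton_le_iff_mem]
      exact (hpQ _).mp (by rw [hxspec]; exact (hclosed x).mp ⟨η, rfl⟩)
    · rintro Q ⟨hQ, hQϖ⟩ hQP
      obtain ⟨y, hy⟩ := (hclosed _).mpr
        ((hpQ ⟨Q, hQ⟩).mpr (hQϖ (Ideal.mem_span_singleton_self _)))
      have h1 : hU.fromSpec ⟨Q, hQ⟩ ⤳ x := by
        rw [← hxspec]
        exact ((PrimeSpectrum.le_iff_specializes _ _).mp
          (show (⟨Q, hQ⟩ : PrimeSpectrum Γ(𝒳, U)) ≤ hU.primeIdealOf ⟨x, hxU⟩ from hQP)).map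
            hU.fromSpec.continuous
      rw [← hy, hx] at h1
      have h2 := hη y (gs.isEmbedding.toIsInducing.specializes_iff.mp h1)
      subst h2
      have := hU.isOpenImmersion_fromSpec
      have h3 : (⟨Q, hQ⟩ : PrimeSpectrum Γ(𝒳, U)) = hU.primeIdealOf ⟨x, hxU⟩ :=
        hU.fromSpec.isOpenEmbedding.injective (hy.symm.trans hxspec.symm)
      exact (congrArg PrimeSpectrum.asIdeal h3).ge
  obtain ⟨ℓ, hℓ, hmem⟩ := Groth.Agent.IndexMult.multiplicity_mem hϖ hreg P hmin
    (Curv2.indexSubgroup f) (fun L _ _ _ φ h1 h2 =>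
      finrank_mem_indexSubgroup f p gK hgK hU φ0 hφ0spec L φ h1 h2)
  refine ⟨ℓ, ?_, hmem⟩
  let _ : Algebra Γ(𝒳, U) (𝒳.presheaf.stalk x) :=
    (𝒳.presheaf.germ U x hxU).hom.toAlgebra
  have : IsLocalization.AtPrime (𝒳.presheaf.stalk x) P := hU.isLocalization_stalk ⟨x, hxU⟩
  let e := IsLocalization.algEquiv P.primeCompl (Localization.AtPrime P) (𝒳.presheaf.stalk x)
  have hker := ker_stalkMap_eq R p gs _ hs η
  let g : Localization.AtPrime P →+* (Models.specialFibre R 𝒳 p).presheaf.stalk η :=
    (gs.stalkMap η).hom.comp e.toRingEquiv.toRingHom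
  have hgsurj : Function.Surjective g := (gs.stalkMap_surjective η).comp e.surjective
  have hgker : RingHom.ker g = (Ideal.span {algebraMap R Γ(𝒳, U) ϖ}).map
      (algebraMap Γ(𝒳, U) (Localization.AtPrime P)) := by
    rw [← RingHom.comap_ker, hker, hϖ.maximalIdeal_eq, Ideal.map_span, Set.image_singleton,
      Ideal.map_span, Set.image_singleton]
    have h1 : pointHom p x ϖ = e.toRingEquiv.toRingHom
        (algebraMap Γ(𝒳, U) (Localization.AtPrime P) (algebraMap R Γ(𝒳, U) ϖ)) := by
      change _ = e (algebraMap Γ(𝒳, U) (Localization.AtPrime P) _)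
      rw [e.commutes]
      have h2 : 𝒳.presheaf.map (homOfLE (le_top : U ≤ ⊤)).op ≫ 𝒳.presheaf.germ U x hxU =
          𝒳.presheaf.germ ⊤ x trivial := 𝒳.presheaf.germ_res _ _ _
      change (𝒳.presheaf.germ ⊤ x trivial).hom _ = (𝒳.presheaf.germ U x hxU).hom _
      rw [← h2]
      rfl
    ext y
    rw [Ideal.mem_comap]
    change e.toRingEquiv.toRingHom y ∈ Ideal.span {pointHom p x ϖ} ↔ _
    rw [h1, Ideal.mem_span_singleton, Ideal.mem_span_singleton]
    exact map_dvd_iff e.toRingEquiv.toMulEquiv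
  rw [length_self_eq g hgsurj, hgker]
  exact hℓ

end Groth.Agent.S19920
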