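import Groth.Statements.S19923
import Groth.Agent.AbDualLib.Symm
import Groth.Agent.AbVarLib.Basics
import Groth.Agent.AbVarLib.TransInv
-- import your own Groth.Agent.* helpers here

set_option autoImplicit false
universe u
open CategoryTheory CategoryTheory.Limits MonoidalCategory CartesianMonoidalCategory MonObj GrpObj AlgebraicGeometry
open AbVar

namespace Groth.Agent.S19923

/-- Let A be an abelian variety over a field k (a proper, geometrically integral commutative k-group
scheme; k arbitrary), given with a dual (Â, φ_A) and a dual (Â̂, φ_Â) of Â — each represents the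
fppf-sheafified functor of invertible classes algebraically equivalent to zero on geometric fibres,
with φ multiplicative — and with a Poincaré class ξ on A ×_k Â whose transpose ξ' on Â ×_k A lies in
Pic⁰ on the fibres over A; put ι_A = φ_Â(ξ') : A → Â̂ (the double-duality morphism). Let L be an
invertible O_A-module with an inverse L⁻¹, and let Λ be a module on A ×_k A isomorphic to m^*L ⊗
p₁^*L⁻¹ ⊗ p₂^*L⁻¹ (m the group law, p₁, p₂ the projections) whose class lies in Pic⁰ on the fibres
over the second factor, so that φ_L := φ_A(Λ) : A → Â is the homomorphism a ↦ t_a^*L ⊗ L⁻¹. If φ̂_L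
: Â̂ → Â is a transpose of φ_L (φ_A of the pull-back of a Pic⁰ class c along (φ_L)_T equals φ_Â(c)
followed by φ̂_L), then φ_L = ι_A followed by φ̂_L: the homomorphism φ_L is symmetric. -/
theorem result (K : Type u) [Field K]
    (A At Att : Over (Spec (CommRingCat.of K)))
    [GrpObj A] [IsCommMonObj A] [IsProper A.hom] [GeometricallyIntegral A.hom]
    [GrpObj At] [IsCommMonObj At] [IsProper At.hom] [GeometricallyIntegral At.hom]
    [GrpObj Att] [IsCommMonObj Att] [IsProper Att.hom] [GeometricallyIntegral Att.hom]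
    (φA : ∀ T : Over (Spec (CommRingCat.of K)), PicF.Cl (PicF.XT A.hom T) → (T ⟶ At))
    (hAt : AbDual.IsDualAV Scheme.fppfPrecoverage A At φA)
    (φAt : ∀ T : Over (Spec (CommRingCat.of K)), PicF.Cl (PicF.XT At.hom T) → (T ⟶ Att))
    (hAtt : AbDual.IsDualAV Scheme.fppfPrecoverage At Att φAt)
    (ξ : PicF.Cl (PicF.XT A.hom At)) (hξ : AbDual.IsPoincareCl A At φA ξ)
    (hξ' : AbDual.IsPicZeroCl At.hom A (PicF.pullCl (pullbackSymmetry At.hom A.hom).hom ξ))
    (L Linv : A.left.Modules) (hL : PicF.IsInvertible L)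
    (hLinv : Nonempty (CohB1.tensorMod L Linv ≅ Coh.structureModule A.left))
    (Λ : (PicF.XT A.hom A).Modules)
    (hΛ : Nonempty (Λ ≅ CohB1.tensorMod (CohB1.tensorMod ((Scheme.Modules.pullback (μ[A]).left).obj L)
      ((Scheme.Modules.pullback (fst A A).left).obj Linv)) ((Scheme.Modules.pullback (snd A A).left).obj Linv)))
    (hΛ0 : AbDual.IsPicZeroCl A.hom A (PicF.cl Λ))
    (tl : Att ⟶ At) [IsMonHom tl]
    (htl : AbDual.IsTranspose (φA A (PicF.cl Λ)) φA φAt tl) :
    φA A (PicF.cl Λ) = φAt A (PicF.pullCl (pullbackSymmetry At.hom A.hom).hom ξ) ≫ tl := by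
  open Groth.Agent in
  open scoped Groth.Agent.PicLaw in
  exact (by
    have := AbVarLib.Basics.smooth A
    have := FBase.BC.geometricallyConnected_of_geometricallyIrreducible A.hom
    have := AbVarLib.Basics.smooth At
    have := FBase.BC.geometricallyConnected_of_geometricallyIrreducible At.hom
    obtain ⟨x, rfl, hxz⟩ := AbDualLib.Transpose.exists_class ξ hξ.1
    have hOinv := PicLoc.isInvertible_structureModule A.left
    have hLi : PicF.IsInvertible Linv :=
      PicLaw.isInvertible_of_tensor_left hL (PicCl.isInvertible_of_iso hLinv.some.symm hOinv)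
    have hli : PicGrp.cls Linv hLi = (PicGrp.cls L hL)⁻¹ := by
      refine eq_inv_of_mul_eq_one_right ?_
      rw [← PicLaw.cls_tensor hL hLi, ← PicLaw.cls_one, PicGrp.cls_eq_cls_iff]
      exact hLinv
    have hμ := PicLoc.isInvertible_pullback (μ[A]).left hL
    have hf := PicLoc.isInvertible_pullback (fst A A).left hLi
    have hs := PicLoc.isInvertible_pullback (snd A A).left hLi
    have hR := PicLaw.isInvertible_tensor (PicLaw.isInvertible_tensor hμ hf) hs
    have hΛi : PicF.IsInvertible Λ := PicCl.isInvertible_of_iso hΛ.some.symm hR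
    set l := PicGrp.cls L hL with hl
    have e : PicGrp.cls Λ hΛi = PicLaw.Mumford.op μ[A] l / (PicLaw.Mumford.op (fst A A) l * PicLaw.Mumford.op (snd A A) l) := by
      rw [div_eq_mul_inv, _root_.mul_inv, ← map_inv, ← map_inv, ← hli, ← _root_.mul_assoc, PicLaw.Mumford.op,
        PicLaw.Mumford.op, PicLaw.Mumford.op, hl, ← PicLaw.cls_pullback _ hL, ← PicLaw.cls_pullback _ hLi,
        ← PicLaw.cls_pullback _ hLi, ← PicLaw.cls_tensor hμ hf, ← PicLaw.cls_tensor _ hs, PicGrp.cls_eq_cls_iff]
      exact hΛ
    have hμe : μ[A] = fst A A * snd A A := by rw [Hom.mul_def, lift_fst_snd, Category.id_comp]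
    have hrig : PicLaw.Mumford.op (AbDualLib.Rigid.sec A A) (PicGrp.cls Λ hΛi) = 1 := by
      have h1 : PicLaw.Mumford.op (1 : A ⟶ A) l = 1 := by
        rw [Hom.one_def, PicLaw.Mumford.op_comp, AbDualLib.Primitive.pic_field rfl (PicLaw.Mumford.op η[A] l), map_one]
      rw [e, hμe, map_div, map_mul]
      simp only [← PicLaw.Mumford.op_comp, MonObj.comp_mul, lift_fst, lift_snd, _root_.one_mul, h1, div_self']
    have hsw : PicLaw.Mumford.op (AbDualLib.Symm.sw A A) (PicGrp.cls Λ hΛi) = PicGrp.cls Λ hΛi := by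
      rw [e, hμe, map_div, map_mul]
      simp only [← PicLaw.Mumford.op_comp, MonObj.comp_mul, lift_fst, lift_snd]
      rw [_root_.mul_comm (snd A A) (fst A A), _root_.mul_comm (PicLaw.Mumford.op (snd A A) l)]
    rw [AbDualLib.Symm.pullbackSymmetry_eq At A] at hξ' ⊢
    have h := AbDualLib.Symm.pt_swap hAt hξ (φAt := φAt) hξ' (PicGrp.cls Λ hΛi) hΛ0 hrig htl
    rw [hsw] at h
    exact h)

end Groth.Agent.S19923
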