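import Groth.Statements.S19924
import Groth.Agent.VertInter.Kernel

set_option autoImplicit false
universe u
open CategoryTheory CategoryTheory.Limits AlgebraicGeometry
open Models

namespace Groth.Agent.S19924

attribute [local instance] Groth.Agent.PicLaw.law

/-- Let R be a discrete valuation ring with fraction field K, C a smooth proper curve over K with H^0(C,
O_C) = K, X a regular proper model of C with generic-fibre inclusion g : C → X, Γ_1, …, Γ_n the
irreducible components of the closed fibre with multiplicities m_1, …, m_n, and L_i invertible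
O_X-modules with L_i ⊗ I(Γ_i) ≅ O_X. Let h ≥ 1, let N be an invertible O_C-module with N^{⊗h} ≅ O_C,
let M be an invertible O_X-module whose pullback to C is N, and let a, b be exponent vectors with
M^{⊗h} ⊗ L_1^{a_1} ⊗ ⋯ ⊗ L_n^{a_n} ≅ L_1^{b_1} ⊗ ⋯ ⊗ L_n^{b_n}, i.e. M^{⊗h} ≅ O_X(Σ (b_i − a_i)
Γ_i). Then N is the pullback of some invertible O_X-module M' with M'^{⊗h} ≅ O_X if and only if
there are integers c_1, …, c_n and e with b_i − a_i = h c_i + e m_i for all i: the class of Σ (b_i −
a_i) Γ_i modulo h ℤ^n + ℤ·(m_1, …, m_n) is the obstruction to lifting the h-torsion class N to an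
h-torsion class on X. -/
theorem result (R : Type u) [CommRing R] [IsDomain R] [IsDiscreteValuationRing R]
    (C X : Scheme.{u}) (f : C ⟶ Spec (CommRingCat.of (FractionRing R))) (p : X ⟶ Spec (CommRingCat.of R))
    (hC : Curve.IsSmoothProperCurve (FractionRing R) C f) (hH0 : IsIso f.appTop)
    (hX : Models.IsRegularProperModel R X p C f)
    {n : ℕ} (Γ : Fin n → ArSurf.VertComp R (Over.mk p)) (hΓ : Models.IsComponentList R (Over.mk p) Γ)
    (g : C ⟶ X) (hg : IsPullback g f p (Spec.map (CommRingCat.ofHom (algebraMap R (FractionRing R)))))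
    (L : Fin n → X.Modules) (hL : ∀ i, ClSub.IsInverseOf (L i) (ClSub.idealMod (Γ i).ι.ker))
    (h : ℕ) (hh : 0 < h)
    (N : C.Modules) (hN : PicF.IsInvertible N) (hNt : Nonempty (CohB1.tensorPow N h ≅ Coh.structureModule C))
    (M : X.Modules) (hM : PicF.IsInvertible M) (hMN : Nonempty ((Scheme.Modules.pullback g).obj M ≅ N))
    (a b : Fin n → ℕ)
    (hab : Nonempty (CohB1.tensorMod (CohB1.tensorPow M h) (FGA.multiTwist L a) ≅ FGA.multiTwist L b)) :
    (∃ M' : X.Modules, PicF.IsInvertible M' ∧ Nonempty (CohB1.tensorPow M' h ≅ Coh.structureModule X) ∧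
        Nonempty ((Scheme.Modules.pullback g).obj M' ≅ N)) ↔
      ∃ (c : Fin n → ℤ) (e : ℤ), ∀ i, ((b i : ℤ) - (a i : ℤ)) = (h : ℤ) * c i + e * (Models.mult R (Over.mk p) (Γ i) : ℤ) := by
  have hLi := VertInter.model_invertible hX hΓ L hL
  have hone := VertInter.E_eq_one_iff hC hH0 hX hΓ L hL
  haveI : Flat p := hX.1.1
  haveI : IsProper p := hX.2.1
  haveI : IsProper (Over.mk p).hom := hX.2.1
  have hm1 := VertInter.one_le_mult hΓ hX.2.2
  obtain ⟨ha, ea⟩ := VertInter.exists_cls_multiTwist L hLi a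
  obtain ⟨hb, eb⟩ := VertInter.exists_cls_multiTwist L hLi b
  have hMh : PicGrp.cls M hM ^ h = VertInter.E L hLi (fun i => (b i : ℤ) - (a i : ℤ)) := by
    have e1 := (PicGrp.cls_eq_cls_iff (AmpleLib.isInvertible_tensorMod (AmpleLib.isInvertible_tensorPow hM h) ha) hb).mpr hab
    rw [VertInter.cls_tensor (AmpleLib.isInvertible_tensorPow hM h) ha, VertInter.cls_pow hM h, ea, eb,
      ← eq_div_iff_mul_eq', ← VertInter.E_sub] at e1
    exact e1
  have hrestrM : VertInter.restr g (PicGrp.cls M hM) = PicGrp.cls N hN := by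
    rw [VertInter.restr_cls, PicGrp.cls_eq_cls_iff]; exact hMN
  constructor
  · rintro ⟨M', hM', htors, hM'N⟩
    obtain ⟨u, hu⟩ := VertInter.exists_E_of_restr_eq hC hH0 hX hΓ hg L hL
      (x := PicGrp.cls M hM) (y := PicGrp.cls M' hM')
      (by rw [hrestrM, VertInter.restr_cls, eq_comm, PicGrp.cls_eq_cls_iff]; exact hM'N)
    rw [hu, mul_pow, ← VertInter.cls_pow hM' h, (PicGrp.cls_eq_one_iff _).mpr htors, one_mul,
      ← zpow_natCast, ← VertInter.E_mul, eq_comm, ← div_eq_one, ← VertInter.E_sub, hone] at hMh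
    obtain ⟨e, he⟩ := hMh
    refine ⟨u, e, fun i => ?_⟩
    have := he i
    simp only [Pi.sub_apply] at this
    linear_combination this
  · rintro ⟨c, e, hce⟩
    obtain ⟨M', hM', hM'c⟩ := VertInter.exists_rep (PicGrp.cls M hM / VertInter.E L hLi c)
    refine ⟨M', hM', (PicGrp.cls_eq_one_iff (AmpleLib.isInvertible_tensorPow hM' h)).mp ?_, ?_⟩
    · rw [VertInter.cls_pow hM' h, hM'c, div_pow, hMh, ← zpow_natCast (VertInter.E L hLi c), ← VertInter.E_mul,
        ← VertInter.E_sub, hone]
      exact ⟨e, fun i => by simp only [Pi.sub_apply]; linear_combination hce i⟩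
    · refine (PicGrp.cls_eq_cls_iff (PicLoc.isInvertible_pullback g hM') hN).mp ?_
      rw [← VertInter.restr_cls g hM', hM'c, map_div, hrestrM, VertInter.restr_E hX hΓ hg L hL, div_one]

end Groth.Agent.S19924
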