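import Groth.Statements.S1993
import Groth.Agent.Hens.PairHfp
import Groth.Agent.Hens.Unique
import Groth.Agent.Hensel.Pair

set_option autoImplicit false
universe u
open EtAlg

namespace Groth.Agent.S1993

/-- Let A be a local ring with maximal ideal m and B a local A-algebra with local structure map. Then B
is a henselization of the pair (A, m) if and only if B is a henselization of the local ring A (both
in the sense of the universal properties). -/
theorem result (A B : Type u) [CommRing A] [IsLocalRing A] [CommRing B]
    [IsLocalRing B] [Algebra A B] [IsLocalHom (algebraMap A B)] :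
    Hens2.IsPairHenselization A (IsLocalRing.maximalIdeal A) B ↔ Hensel.IsHenselization A B := by
  let P := Groth.Agent.Hens.PairHenselization A (IsLocalRing.maximalIdeal A)
  have key : ∀ (C : Type u) [CommRing C] [Algebra A C], Hens2.IsPairHenselization A (IsLocalRing.maximalIdeal A) C →
      ∃ _ : IsLocalRing C, IsLocalRing.maximalIdeal C = (IsLocalRing.maximalIdeal A).map (algebraMap A C) ∧
        HenselianLocalRing C ∧ IsLocalHom (algebraMap A C) := by
    intro C _ _ hC
    haveI := hC.1
    have hb := Groth.Agent.Hens.bijective_quotientMap_of_isPairHenselization hC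
    have hmax : ((IsLocalRing.maximalIdeal A).map (algebraMap A C)).IsMaximal :=
      Ideal.Quotient.maximal_of_isField _ <|
        MulEquiv.isField (Ideal.Quotient.field (IsLocalRing.maximalIdeal A)).toIsField
          (RingEquiv.ofBijective _ hb).symm.toMulEquiv
    haveI : IsLocalRing C := by
      refine IsLocalRing.of_unique_max_ideal ⟨_, hmax, fun m hm => ?_⟩
      refine (hmax.eq_of_le hm.ne_top (hC.1.jac.trans ?_)).symm
      exact sInf_le ⟨bot_le, hm⟩
    have heq := (IsLocalRing.eq_maximalIdeal hmax).symm
    haveI : HenselianRing C (IsLocalRing.maximalIdeal C) := by rw [heq]; exact hC.1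
    refine ⟨inferInstance, heq, Groth.Agent.Hensel.henselianLocalRing_of_henselianRing ‹_›, ⟨fun a ha => ?_⟩⟩
    by_contra hna
    have := heq.symm.le (Ideal.mem_map_of_mem (algebraMap A C) (hna : a ∈ IsLocalRing.maximalIdeal A))
    exact this ha
  have hloc : ∀ (T : Type u) [CommRing T] [HenselianLocalRing T] (f : A →+* T), IsLocalHom f →
      (IsLocalRing.maximalIdeal A).map f ≤ IsLocalRing.maximalIdeal T := by
    intro T _ _ f hf
    rw [Ideal.map_le_iff_le_comap]
    exact fun a ha hu => ha (isUnit_of_map_unit f a hu)
  have fwd : ∀ (C : Type u) [CommRing C] [IsLocalRing C] [Algebra A C] [IsLocalHom (algebraMap A C)],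
      Hens2.IsPairHenselization A (IsLocalRing.maximalIdeal A) C → Hensel.IsHenselization A C := by
    intro C _ _ _ _ hC
    obtain ⟨_, -, hh, -⟩ := key C hC
    exact ⟨hh, fun T _ _ f hf => hC.2 T _ f inferInstance (hloc T f hf)⟩
  refine ⟨fwd B, fun hB => ?_⟩
  have hP := Groth.Agent.Hens.isPairHenselization_pairHenselization (A := A) (I := IsLocalRing.maximalIdeal A)
  obtain ⟨_, -, -, hloc'⟩ := key P hP
  haveI := hloc'
  haveI := fwd P hP
  let e : P ≃ₐ[A] B := (Groth.Agent.Hens.henselizationEquiv (R := A) P).symm.trans (Groth.Agent.Hens.henselizationEquiv (R := A) B)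
  haveI := hB.henselian
  refine ⟨?_, fun C _ J f hC hJ => ?_⟩
  · rw [Groth.Agent.Hens.map_maximalIdeal_of_isHenselization]
    infer_instance
  · obtain ⟨g, hg, huniq⟩ := hP.2 C J f hC hJ
    refine ⟨g.comp e.symm.toRingEquiv.toRingHom, ?_, fun g' hg' => ?_⟩
    · show (g.comp e.symm.toRingEquiv.toRingHom).comp (algebraMap A B) = f
      rw [RingHom.comp_assoc]
      exact (congrArg g.comp e.symm.toAlgHom.comp_algebraMap).trans hg
    · have h := huniq (g'.comp e.toRingEquiv.toRingHom)
        (show (g'.comp e.toRingEquiv.toRingHom).comp (algebraMap A P) = f by rw [RingHom.comp_assoc]; exact (congrArg g'.comp e.toAlgHom.comp_algebraMap).trans hg')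
      refine RingHom.ext fun b => ?_
      rw [← h]
      show g' b = g' (e (e.symm b))
      rw [e.apply_symm_apply]

end Groth.Agent.S1993
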