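import Groth.Statements.S19945
import Groth.Agent.PicLaw.Mumford
import Mathlib.CategoryTheory.Bicategory.Grothendieck

set_option autoImplicit false
universe u
open CategoryTheory MonoidalCategory CartesianMonoidalCategory MonObj GrpObj AlgebraicGeometry
open ThetaGrp

namespace Groth.Agent.S19945

section CoGroth
open Opposite Pseudofunctor Bicategory

variable {𝒮 : Type*} [Category 𝒮] {F : Pseudofunctor (LocallyDiscrete 𝒮ᵒᵖ) Cat}

/-- The transition functor along an isomorphism, composed with the one along its inverse, is the identity. -/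
noncomputable def mapIsoComp {X Y : 𝒮} (f : X ⟶ Y) [IsIso f] :
    (F.map (inv f).op.toLoc).toFunctor ⋙ (F.map f.op.toLoc).toFunctor ≅ 𝟭 _ :=
  (Cat.Hom.toNatIso (F.mapComp (inv f).op.toLoc f.op.toLoc)).symm ≪≫
    eqToIso (by rw [← Quiver.Hom.comp_toLoc, ← op_comp, IsIso.hom_inv_id, op_id]; rfl) ≪≫
    Cat.Hom.toNatIso (F.mapId ⟨op X⟩)

instance isIso_mapId_app (x : LocallyDiscrete 𝒮ᵒᵖ) (y : F.obj x) :
    IsIso ((F.mapId x).inv.toNatTrans.app y) :=
  ((Cat.Hom.toNatIso (F.mapId x)).app y).isIso_inv

instance isIso_mapComp_app {x y z : LocallyDiscrete 𝒮ᵒᵖ} (f : x ⟶ y) (g : y ⟶ z) (t : F.obj x) :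
    IsIso ((F.mapComp f g).inv.toNatTrans.app t) :=
  ((Cat.Hom.toNatIso (F.mapComp f g)).app t).isIso_inv

theorem faithful_map {X Y : 𝒮} (f : X ⟶ Y) [IsIso f] : (F.map f.op.toLoc).toFunctor.Faithful := by
  have h := mapIsoComp (F := F) (inv f)
  rw [IsIso.inv_inv] at h
  exact Functor.Faithful.of_comp_iso h

theorem full_map {X Y : 𝒮} (f : X ⟶ Y) [IsIso f] : (F.map f.op.toLoc).toFunctor.Full := by
  have h := mapIsoComp (F := F) (inv f)
  rw [IsIso.inv_inv] at h
  have := faithful_map (F := F) (inv f)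
  exact Functor.Full.of_comp_faithful_iso h

theorem aux_eq {C : Type*} [Category C] {x y z w v : C} (h : x ⟶ y) [IsIso h] (m₀ : z ≅ x) (p : z = w)
    (m : w ≅ v) : h ≫ ((asIso h).symm ≪≫ m₀.symm ≪≫ eqToIso p ≪≫ m).hom ≫ m.inv = m₀.inv ≫ eqToHom p := by
  simp

theorem isIso_comp_eqToHom {C : Type*} [Category C] {x y z : C} (m : x ⟶ y) [IsIso m] (p : y = z) :
    IsIso (m ≫ eqToHom p) := inferInstance

/-- A morphism with iso base and iso fibre has a left inverse of the same kind. -/
theorem exists_retraction {a b : CoGrothendieck F} (f : a ⟶ b) [IsIso f.base] [IsIso f.fiber] :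
    ∃ g : b ⟶ a, IsIso g.base ∧ IsIso g.fiber ∧ f ≫ g = 𝟙 a := by
  have := full_map (F := F) f.base
  have := faithful_map (F := F) f.base
  let e : (F.map f.base.op.toLoc).toFunctor.obj b.fiber ≅
      (F.map f.base.op.toLoc).toFunctor.obj ((F.map (inv f.base).op.toLoc).toFunctor.obj a.fiber) :=
    (asIso f.fiber).symm ≪≫ ((Cat.Hom.toNatIso (F.mapId ⟨op a.base⟩)).app a.fiber).symm ≪≫
      eqToIso (show (F.map (𝟙 _)).toFunctor.obj a.fiber = (F.map (f.base ≫ inv f.base).op.toLoc).toFunctor.obj a.fiber by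
        rw [IsIso.hom_inv_id]; rfl) ≪≫
      (Cat.Hom.toNatIso (F.mapComp (inv f.base).op.toLoc f.base.op.toLoc)).app a.fiber
  let i := (Functor.FullyFaithful.ofFullyFaithful (F.map f.base.op.toLoc).toFunctor).preimageIso e
  let g : b ⟶ a := ⟨inv f.base, i.hom⟩
  have hi : (F.map f.base.op.toLoc).toFunctor.map i.hom = e.hom := by simp [i]
  refine ⟨g, inferInstanceAs (IsIso (inv f.base)), inferInstanceAs (IsIso i.hom),
    CoGrothendieck.Hom.ext _ _ (IsIso.hom_inv_id f.base) ?_⟩
  rw [CoGrothendieck.categoryStruct_comp_fiber, CoGrothendieck.categoryStruct_id_fiber]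
  show f.fiber ≫ (F.map f.base.op.toLoc).toFunctor.map i.hom ≫ _ = _
  rw [hi]
  exact aux_eq f.fiber ((Cat.Hom.toNatIso (F.mapId ⟨op a.base⟩)).app a.fiber) _
    ((Cat.Hom.toNatIso (F.mapComp (inv f.base).op.toLoc f.base.op.toLoc)).app a.fiber)

theorem isIso_of {a b : CoGrothendieck F} (f : a ⟶ b) [IsIso f.base] [IsIso f.fiber] : IsIso f := by
  obtain ⟨g, hg1, hg2, hg⟩ := exists_retraction f
  obtain ⟨f', -, -, hf⟩ := exists_retraction g
  have e : f = f' := by rw [← Category.comp_id f, ← hf, ← Category.assoc, hg, Category.id_comp]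
  exact ⟨g, hg, e ▸ hf⟩

theorem split_of_comp {C : Type*} [Category C] {x y z : C} (h : x ⟶ y) (r : y ⟶ z) [IsIso (h ≫ r)] :
    IsSplitMono h :=
  IsSplitMono.mk' ⟨r ≫ inv (h ≫ r), by rw [← Category.assoc, IsIso.hom_inv_id]⟩

theorem isIso_fiber {a b : CoGrothendieck F} (f : a ≅ b) : IsIso f.hom.fiber := by
  have : IsIso f.hom.base := ((CoGrothendieck.forget F).mapIso f).isIso_hom
  have : IsIso f.inv.base := ((CoGrothendieck.forget F).mapIso f).isIso_inv
  have h1 := CoGrothendieck.Hom.congr f.hom_inv_id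
  rw [CoGrothendieck.categoryStruct_comp_fiber, CoGrothendieck.categoryStruct_id_fiber] at h1
  have h2 := CoGrothendieck.Hom.congr f.inv_hom_id
  rw [CoGrothendieck.categoryStruct_comp_fiber, CoGrothendieck.categoryStruct_id_fiber] at h2
  let r₁ := (F.map f.hom.base.op.toLoc).toFunctor.map f.inv.fiber ≫
    (F.mapComp f.inv.base.op.toLoc f.hom.base.op.toLoc).inv.toNatTrans.app a.fiber
  have : IsIso (f.hom.fiber ≫ r₁) := by
    rw [show f.hom.fiber ≫ r₁ = _ from h1]
    exact @isIso_comp_eqToHom _ _ _ _ _ _ (isIso_mapId_app (F := F) ⟨op a.base⟩ a.fiber) _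
  have := split_of_comp f.hom.fiber r₁
  let r₂ := (F.map f.inv.base.op.toLoc).toFunctor.map f.hom.fiber ≫
    (F.mapComp f.hom.base.op.toLoc f.inv.base.op.toLoc).inv.toNatTrans.app b.fiber
  have : IsIso (f.inv.fiber ≫ r₂) := by
    rw [show f.inv.fiber ≫ r₂ = _ from h2]
    exact @isIso_comp_eqToHom _ _ _ _ _ _ (isIso_mapId_app (F := F) ⟨op b.base⟩ b.fiber) _
  have : Epi r₂ := epi_of_epi f.inv.fiber r₂
  have : Epi ((F.map f.inv.base.op.toLoc).toFunctor.map f.hom.fiber) := by
    have e : (F.map f.inv.base.op.toLoc).toFunctor.map f.hom.fiber =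
        r₂ ≫ inv ((F.mapComp f.hom.base.op.toLoc f.inv.base.op.toLoc).inv.toNatTrans.app b.fiber) := by
      simp only [r₂, Category.assoc, IsIso.hom_inv_id, Category.comp_id]
    rw [e]; infer_instance
  have hfaith := faithful_map (F := F) f.inv.base
  have : Epi f.hom.fiber := (F.map f.inv.base.op.toLoc).toFunctor.epi_of_epi_map this
  exact isIso_of_epi_of_isSplitMono _

end CoGroth

/-- Let X be an abelian variety over a field k (a proper, geometrically integral, commutative k-group
scheme), L an invertible O_X-module and i : K → X a closed immersion exhibiting K as K(L), the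
maximal closed subscheme of X over which the Mumford bundle m^*L ⊗ p_1^*L⁻¹ ⊗ p_2^*L⁻¹, restricted
to X ×_k K, is the inverse image of an invertible module on K, with its universal property for
morphisms T → X. For a k-scheme T and a T-valued point x of X, the following are equivalent: x
factors through i; every point of T has an open neighbourhood U over which some point of the theta
group G(L)(U) lies over the restriction of x, that is, there is an isomorphism L_U ≅ t_x^*L_U of
modules on X ×_k U. In other words the map G(L) → X, (x, φ) ↦ x, has image the subfunctor K(L),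
surjectively for the Zariski topology. -/
theorem result (k : Type u) [Field k]
    (A : Over (Spec (CommRingCat.of k))) [GrpObj A] [IsCommMonObj A] [IsProper A.hom] [GeometricallyIntegral A.hom]
    (L : A.left.Modules) (hL : PicF.IsInvertible L)
    (K : Over (Spec (CommRingCat.of k))) (iK : K ⟶ A) (hK : ThetaGrp.IsKL A L iK)
    (T : Over (Spec (CommRingCat.of k))) (x : T ⟶ A) :
    (∃ y : T ⟶ K, y ≫ iK = x) ↔
      ∀ t : ↥T.left, ∃ U : T.left.Opens, t ∈ U ∧
        ∃ β : ThetaGrp.thetaPts A L (Over.mk (U.ι ≫ T.hom)),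
          ThetaGrp.IsOverPt β ((Over.homMk U.ι rfl : Over.mk (U.ι ≫ T.hom) ⟶ T) ≫ x) := by
  open Groth.Agent Groth.Agent.PicLaw Limits in
  open scoped Groth.Agent.PicLaw in
  exact by
    let l := PicGrp.cls L hL
    have key : ∀ (U : Over (Spec (CommRingCat.of k))) (z : U ⟶ A),
        (∃ y : U ⟶ K, y ≫ iK = z) ↔ Mumford.InK A l z :=
      fun U z => (hK.univ U z).symm.trans (Mumford.isMumfordTriv_iff A L hL z)
    have hLf : ∀ U : Over (Spec (CommRingCat.of k)),
        PicF.IsInvertible ((Scheme.Modules.pullback (fst A U).left).obj L) :=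
      fun U => PicLoc.isInvertible_pullback _ hL
    have hiff : ∀ (U : Over (Spec (CommRingCat.of k))) (z : U ⟶ A),
        (∃ β : ThetaGrp.thetaPts A L U, ThetaGrp.IsOverPt β z) ↔
          Mumford.op (fst A U * (snd A U ≫ z)) l = Mumford.op (fst A U) l := by
      intro U z
      have hiso : IsIso (ThetaGrp.transl A z).left := by
        have : IsIso (ThetaGrp.transl A z) := ⟨ThetaGrp.transl A z⁻¹,
          by rw [← ThetaGrp.transl_mul, mul_inv_cancel, ThetaGrp.transl_one],
          by rw [← ThetaGrp.transl_mul, inv_mul_cancel, ThetaGrp.transl_one]⟩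
        exact inferInstanceAs (IsIso ((Over.forget _).map (ThetaGrp.transl A z)))
      have hcls : (Nonempty ((Scheme.Modules.pullback (fst A U).left).obj L ≅
          (Scheme.Modules.pullback (ThetaGrp.transl A z).left).obj
            ((Scheme.Modules.pullback (fst A U).left).obj L))) ↔
          Mumford.op (fst A U * (snd A U ≫ z)) l = Mumford.op (fst A U) l := by
        rw [iso_iff (hLf U) (PicLoc.isInvertible_pullback _ (hLf U)), cls_pullback _ (hLf U), cls_pullback _ hL,
          ← ThetaGrp.transl_fst, Mumford.op_comp]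
        exact eq_comm
      rw [← hcls]
      constructor
      · rintro ⟨β, hβ⟩
        have := isIso_fiber β.1
        exact ⟨@asIso _ _ _ _ β.1.hom.fiber this ≪≫
          eqToIso (congrArg (fun b => (Scheme.Modules.pullback b).obj
            ((Scheme.Modules.pullback (fst A U).left).obj L)) hβ)⟩
      · rintro ⟨e⟩
        let f : ThetaGrp.thetaObj A L U ⟶ ThetaGrp.thetaObj A L U := ⟨(ThetaGrp.transl A z).left, e.hom⟩
        have : IsIso f := @isIso_of _ _ _ _ _ f hiso e.isIso_hom
        exact ⟨⟨asIso f, z, rfl⟩, rfl⟩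
    constructor
    · intro hx t
      obtain ⟨c, hc⟩ := (key T x).mp hx
      obtain ⟨M, hM, hMc⟩ := PicGrp.exists_eq_cls c
      obtain ⟨V, htV, ⟨e⟩⟩ := hM t
      refine ⟨V, htV, (hiff _ _).mpr ?_⟩
      let j : Over.mk (V.ι ≫ T.hom) ⟶ T := Over.homMk V.ι rfl
      have h1 : Mumford.op j c = 1 := by
        rw [hMc, ← cls_pullback _ hM]
        exact (PicGrp.cls_eq_one_iff _).mpr ⟨((Scheme.Modules.restrictFunctorIsoPullback V.ι).app M).symm ≪≫ e⟩
      have h2 := congrArg (Mumford.op (A ◁ j)) hc
      rw [map_mul, ← Mumford.op_comp, ← Mumford.op_comp, ← Mumford.op_comp, MonObj.comp_mul, ← Category.assoc,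
        whiskerLeft_snd, whiskerLeft_fst, Category.assoc, Mumford.op_comp, h1, map_one, _root_.mul_one] at h2
      exact h2
    · intro h
      choose V hV hβ using h
      have hfac : ∀ t, ∃ y : Over.mk ((V t).ι ≫ T.hom) ⟶ K,
          y ≫ iK = (Over.homMk (V t).ι rfl : Over.mk ((V t).ι ≫ T.hom) ⟶ T) ≫ x := fun t =>
        (key _ _).mpr ⟨1, by rw [(hiff _ _).mp (hβ t), map_one, _root_.mul_one]⟩
      choose y hy using hfac
      have := hK.closed
      have hcov : TopologicalSpace.IsOpenCover V :=
        top_unique fun t _ => TopologicalSpace.Opens.mem_iSup.mpr ⟨t, hV t⟩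
      let 𝒰 := T.left.openCoverOfIsOpenCover V hcov
      have hy' : ∀ a : ↥T.left, (y a).left ≫ iK.left = (V a).ι ≫ x.left := fun a =>
        congrArg CommaMorphism.left (hy a)
      have hc : ∀ a b : ↥T.left, pullback.fst (V a).ι (V b).ι ≫ (y a).left =
          pullback.snd (V a).ι (V b).ι ≫ (y b).left := fun a b => by
        rw [← cancel_mono iK.left]
        refine (Category.assoc _ _ _).trans ?_
        refine (congrArg (pullback.fst (V a).ι (V b).ι ≫ ·) (hy' a)).trans ?_
        refine Eq.trans ?_ (Category.assoc _ _ _).symm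
        refine Eq.trans ?_ (congrArg (pullback.snd (V a).ι (V b).ι ≫ ·) (hy' b)).symm
        exact (Category.assoc _ _ _).symm.trans
          ((congrArg (· ≫ x.left) pullback.condition).trans (Category.assoc _ _ _))
      let g : T.left ⟶ K.left := 𝒰.glueMorphisms (fun a => (y a).left) hc
      have hg : g ≫ iK.left = x.left := 𝒰.hom_ext _ _ fun a => by
        refine (Category.assoc _ _ _).symm.trans ?_
        refine (congrArg (· ≫ iK.left) (Scheme.Cover.ι_glueMorphisms 𝒰 (fun a => (y a).left) hc a)).trans ?_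
        exact hy' a
      exact ⟨Over.homMk g (by rw [← Over.w iK, ← Category.assoc, hg, Over.w x]), Over.OverMorphism.ext hg⟩

end Groth.Agent.S19945
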