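import Groth.Statements.S1995
import Mathlib
import Groth.Agent.Hensel.Pair

set_option autoImplicit false
universe u
open EtAlg

namespace Groth.Agent.S1995

/-- Let I_1, …, I_n be pairwise comaximal ideals of a ring A, B a henselization of the pair (A, I_1 ∩ …
∩ I_n) and B_i a henselization of (A, I_i) for each i. Then B is isomorphic as an A-algebra to the
product of the B_i (any such isomorphism is the natural comparison map, by the universal property). -/
theorem result (A : Type u) [CommRing A] {n : ℕ} (I : Fin n → Ideal A)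
    (hI : Pairwise fun i j => I i ⊔ I j = ⊤) (B : Type u) [CommRing B] [Algebra A B]
    (hB : Hens2.IsPairHenselization A (⨅ i, I i) B) (Bi : Fin n → Type u) [∀ i, CommRing (Bi i)] [∀ i, Algebra A (Bi i)]
    (hBi : ∀ i, Hens2.IsPairHenselization A (I i) (Bi i)) :
    Nonempty (B ≃ₐ[A] ∀ i, Bi i) := by
  classical
  set K := ⨅ i, I i with hK
  haveI := hB.1
  set KB := K.map (algebraMap A B) with hKB
  have ha' : ∀ i, ∃ a : A, ∀ j, a - (if j = i then 1 else 0) ∈ I j := fun i =>
    Ideal.exists_forall_sub_mem_ideal (fun x y hxy => Ideal.isCoprime_iff_sup_eq.mpr (hI hxy)) fun j => if j = i then 1 else 0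
  choose a ha using ha'
  have ha1 : ∀ i, a i - 1 ∈ I i := fun i => by simpa using ha i i
  have ha0 : ∀ i j, j ≠ i → a i ∈ I j := fun i j hji => by simpa [hji] using ha i j
  have hmul : ∀ i y, y ∈ I i → y * a i ∈ K := fun i y hy => Submodule.mem_iInf _ |>.mpr fun j => by
    rcases eq_or_ne j i with rfl | hji
    · exact Ideal.mul_mem_right _ _ hy
    · exact Ideal.mul_mem_left _ _ (ha0 i j hji)
  have hid : ∀ i, a i * a i - a i ∈ K := fun i => by
    rw [show a i * a i - a i = (a i - 1) * a i by ring]; exact hmul i _ (ha1 i)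
  have hjac : KB ≤ Ideal.jacobson ⊥ := HenselianRing.jac
  have he' : ∀ i, ∃ e : B, IsIdempotentElem e ∧ e - algebraMap A B (a i) ∈ KB := fun i => by
    obtain ⟨e, he, h⟩ := Groth.Agent.Hensel.exists_isIdempotentElem_lift' (I := KB) (B := B)
      (e := algebraMap A B (a i)) (by
        rw [Algebra.algebraMap_self, Ideal.map_id, ← map_mul, ← map_sub]; exact Ideal.mem_map_of_mem _ (hid i))
    exact ⟨e, he, by simpa using h⟩
  choose e he hea using he'
  have heo : OrthogonalIdempotents e := ⟨he, fun i j hij =>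
    Groth.Agent.Hensel.eq_zero_of_mem_jacobson_of_isIdempotentElem ((he i).mul (he j)) (hjac (by
      rw [show e i * e j = (e i - algebraMap A B (a i)) * e j + algebraMap A B (a i) * (e j - algebraMap A B (a j)) + algebraMap A B (a i * a j) by
        rw [map_mul]; ring]
      refine add_mem (add_mem (Ideal.mul_mem_right _ _ (hea i)) (Ideal.mul_mem_left _ _ (hea j))) (Ideal.mem_map_of_mem _ ?_)
      exact hmul j _ (ha0 i j (Ne.symm hij))))⟩
  have hsum : (∑ i, a i) - 1 ∈ K := (Submodule.mem_iInf _).mpr fun j => by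
    rw [show (∑ i, a i) - 1 = ∑ i, (a i - if j = i then 1 else 0) by simp [Finset.sum_sub_distrib]]
    exact Ideal.sum_mem _ fun i _ => ha i j
  have hec : CompleteOrthogonalIdempotents e := ⟨heo, Groth.Agent.Hensel.isIdempotentElem_eq_of_sub_mem hjac
    (heo.isIdempotentElem_sum (s := Finset.univ)) IsIdempotentElem.one (by
      rw [show ∑ i, e i - 1 = ∑ i, (e i - algebraMap A B (a i)) + algebraMap A B ((∑ i, a i) - 1) by
        rw [map_sub, map_sum, map_one, Finset.sum_sub_distrib]; ring]
      exact add_mem (Ideal.sum_mem _ fun i _ => hea i) (Ideal.mem_map_of_mem _ hsum))⟩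
  -- quotient pieces
  let L : Fin n → Ideal B := fun i => Ideal.span {1 - e i}
  have hC : ∀ i, ∃ h : Bi i →+* B ⧸ L i, h.comp (algebraMap A (Bi i)) = algebraMap A (B ⧸ L i) := fun i => by
    haveI hq : HenselianRing (B ⧸ L i) (KB.map (Ideal.Quotient.mk (L i))) := Groth.Agent.Hensel.henselianRing_quotient (L i)
    refine ((hBi i).2 (B ⧸ L i) _ (algebraMap A (B ⧸ L i)) hq (Ideal.map_le_iff_le_comap.mpr fun y hy => ?_)).exists
    rw [Ideal.mem_comap, IsScalarTower.algebraMap_apply A B (B ⧸ L i), Ideal.Quotient.algebraMap_eq]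
    have h1 : Ideal.Quotient.mk (L i) (e i) = 1 := by
      rw [← map_one (Ideal.Quotient.mk (L i)), Ideal.Quotient.eq, ← neg_sub]
      exact neg_mem (Ideal.mem_span_singleton_self _)
    rw [show algebraMap A B y = algebraMap A B y * (1 - e i) + algebraMap A B y * (e i - algebraMap A B (a i)) + algebraMap A B (y * a i) by
      rw [map_mul]; ring, map_add, map_add]
    refine add_mem (add_mem ?_ (Ideal.mem_map_of_mem _ (Ideal.mul_mem_left _ _ (hea i)))) (Ideal.mem_map_of_mem _ (Ideal.mem_map_of_mem _ (hmul i y hy)))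
    rw [map_mul, map_sub, map_one, h1, sub_self, mul_zero]
    exact zero_mem _
  choose h hh using hC
  have hψ : ∀ j, ∃ ψ : B →+* Bi j, ψ.comp (algebraMap A B) = algebraMap A (Bi j) := fun j =>
    (hB.2 (Bi j) _ (algebraMap A (Bi j)) (hBi j).1 (Ideal.map_mono (iInf_le I j))).exists
  choose ψ hψ using hψ
  have hψe : ∀ j, ψ j (e j) = 1 := fun j => by
    haveI := (hBi j).1
    refine Groth.Agent.Hensel.isIdempotentElem_eq_of_sub_mem (J := (I j).map (algebraMap A (Bi j)))
      HenselianRing.jac ((he j).map _) IsIdempotentElem.one ?_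
    have h1 : ψ j (e j - algebraMap A B (a j)) ∈ (I j).map (algebraMap A (Bi j)) := by
      have := Ideal.mem_map_of_mem (ψ j) (hea j)
      rw [hKB, Ideal.map_map, hψ] at this
      exact Ideal.map_mono (iInf_le I j) this
    have h2 := add_mem h1 (Ideal.mem_map_of_mem (algebraMap A (Bi j)) (ha1 j))
    rw [map_sub, map_sub, map_one, ← RingHom.comp_apply, hψ] at h2
    convert h2 using 1; ring
  have hψh : ∀ j (z : Bi j) (b : B), Ideal.Quotient.mk (L j) b = h j z → ψ j b = z := fun j => by
    let φ : B ⧸ L j →+* Bi j := Ideal.Quotient.lift (L j) (ψ j) fun x hx => by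
      obtain ⟨c, rfl⟩ := Ideal.mem_span_singleton.mp hx
      rw [map_mul, map_sub, map_one, hψe, sub_self, zero_mul]
    have hφ : φ.comp (h j) = RingHom.id _ := by
      refine ((hBi j).2 (Bi j) _ (algebraMap A (Bi j)) (hBi j).1 le_rfl).unique ?_ (RingHom.id_comp _)
      rw [RingHom.comp_assoc, hh, IsScalarTower.algebraMap_eq A B (B ⧸ L j), Ideal.Quotient.algebraMap_eq, ← RingHom.comp_assoc, Ideal.Quotient.lift_comp_mk, hψ]
    intro z b hb
    exact (congrArg φ hb).trans (DFunLike.congr_fun hφ z)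
  have hhψ : ∀ j b, h j (ψ j b) = Ideal.Quotient.mk (L j) b := fun j => by
    have hq : HenselianRing (B ⧸ L j) (KB.map (Ideal.Quotient.mk (L j))) := Groth.Agent.Hensel.henselianRing_quotient (L j)
    have : (h j).comp (ψ j) = Ideal.Quotient.mk (L j) := by
      refine (hB.2 (B ⧸ L j) _ (algebraMap A (B ⧸ L j)) hq (by rw [hKB, Ideal.map_map, IsScalarTower.algebraMap_eq A B (B ⧸ L j), Ideal.Quotient.algebraMap_eq])).unique ?_ ?_
      · rw [RingHom.comp_assoc, hψ, hh]
      · rw [IsScalarTower.algebraMap_eq A B (B ⧸ L j), Ideal.Quotient.algebraMap_eq]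
    exact DFunLike.congr_fun this
  let g : B →ₐ[A] ∀ i, Bi i := AlgHom.mk (RingHom.pi ψ) fun x => funext fun j => DFunLike.congr_fun (hψ j) x
  refine ⟨AlgEquiv.ofBijective g ⟨fun b b' hbb' => hec.bijective_pi.injective (funext fun j => ?_), fun z => ?_⟩⟩
  · have : ψ j b = ψ j b' := congrFun hbb' j
    simpa [L, hhψ] using congrArg (h j) this
  · obtain ⟨b, hb⟩ := hec.bijective_pi.surjective (fun j => h j (z j))
    exact ⟨b, funext fun j => hψh j _ b (congrFun hb j)⟩

end Groth.Agent.S1995
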