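import Groth.Statements.S1996
import Mathlib

set_option autoImplicit false
universe u
open EtAlg

open scoped TensorProduct

namespace Groth.Agent.S1996

/-- Injectivity after tensoring descends along a faithfully flat map. -/
theorem lTensor_descend (R S T : Type u) [CommRing R] [CommRing S] [CommRing T] [Algebra R S] [Algebra R T]
    [Algebra S T] [IsScalarTower R S T] [Module.FaithfullyFlat S T] {N N' : Type*} [AddCommGroup N]
    [AddCommGroup N'] [Module R N] [Module R N'] (f : N →ₗ[R] N') (hf : Function.Injective (f.lTensor T)) :
    Function.Injective (f.lTensor S) := by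
  have h : Function.Injective ((f.baseChange S).lTensor T) := by
    have hc : ∀ z, f.lTensor T (TensorProduct.AlgebraTensorModule.cancelBaseChange R S S T N z) =
        TensorProduct.AlgebraTensorModule.cancelBaseChange R S S T N' ((f.baseChange S).lTensor T z) := by
      intro z
      induction z with
      | zero => simp
      | tmul t w =>
        induction w with
        | zero => simp
        | tmul s n => simp
        | add x y hx hy => simp only [TensorProduct.tmul_add, map_add, hx, hy]
      | add x y hx hy => simp only [map_add, hx, hy]
    intro x y hxy
    apply (TensorProduct.AlgebraTensorModule.cancelBaseChange R S S T N).injective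
    apply hf
    rw [hc, hc, hxy]
  exact (Module.FaithfullyFlat.lTensor_injective_iff_injective S T (f.baseChange S)).mp h

/-- Let A -> B -> C be ring maps with B -> C faithfully flat. Weak etaleness of A -> C then implies weak
etaleness of A -> B. -/
theorem result (A B C : Type u) [CommRing A] [CommRing B] [CommRing C] [Algebra A B]
    [Algebra B C] [Algebra A C] [IsScalarTower A B C] [Module.FaithfullyFlat B C] [Algebra.WeaklyEtale A C] :
    Algebra.WeaklyEtale A B := by
  haveI : Module.Flat A B := by
    rw [Module.Flat.iff_lTensor_preserves_injective_linearMap]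
    intro N N' _ _ _ _ f hf
    exact lTensor_descend A B C f (Module.Flat.lTensor_preserves_injective_linearMap f hf)
  refine ⟨inferInstance, ?_⟩
  let μB := (Algebra.TensorProduct.lmul' A (S := B)).toRingHom
  let μC := (Algebra.TensorProduct.lmul' A (S := C)).toRingHom
  let ι := Algebra.TensorProduct.map (IsScalarTower.toAlgHom A B C) (IsScalarTower.toAlgHom A B C)
  have hι : ι.toRingHom.Flat := RingHom.Flat.tensorProductMap
    (show (algebraMap B C).Flat from RingHom.flat_algebraMap_iff.mpr inferInstance)
    (show (algebraMap B C).Flat from RingHom.flat_algebraMap_iff.mpr inferInstance)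
  have hcomp : (algebraMap B C).comp μB = μC.comp ι.toRingHom := by
    refine RingHom.ext fun z => ?_
    induction z with
    | zero => simp only [map_zero]
    | tmul b b' => simp [μB, μC, ι]
    | add x y hx hy => simp only [map_add, hx, hy]
  have hflat : ((algebraMap B C).comp μB).Flat := by
    rw [hcomp]; exact RingHom.Flat.comp hι (Algebra.WeaklyEtale.flat_lmul' A C)
  show μB.Flat
  letI := μB.toAlgebra
  letI : Algebra (B ⊗[A] B) C := ((algebraMap B C).comp μB).toAlgebra
  haveI : IsScalarTower (B ⊗[A] B) B C := IsScalarTower.of_algebraMap_eq' rfl
  haveI : Module.Flat (B ⊗[A] B) C := hflat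
  show Module.Flat (B ⊗[A] B) B
  rw [Module.Flat.iff_lTensor_preserves_injective_linearMap]
  intro N N' _ _ _ _ f hf
  exact lTensor_descend (B ⊗[A] B) B C f (Module.Flat.lTensor_preserves_injective_linearMap f hf)

end Groth.Agent.S1996
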