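import Mathlib
import Groth.Agent.CAlg99.Acyclicity
import Groth.Statements.S19962
-- import your own Groth.Agent.* helpers here

set_option autoImplicit false
universe u
open CAlg
open Matrix

namespace Groth.Agent.S19962

theorem exists_minor {R : Type u} [CommRing R] {p : Ideal R} {a b : ℕ} (M : Matrix (Fin a) (Fin b) R)
    (h : ¬ CAlgX.detIdeal M ≤ p) :
    ∃ (f : Fin (CAlgX.matrixRank M) → Fin a) (g : Fin (CAlgX.matrixRank M) → Fin b), (M.submatrix f g).det ∉ p := by
  by_contra hcon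
  simp only [not_exists, not_not] at hcon
  exact h (Ideal.span_le.mpr fun x ⟨fg, hfg⟩ => hfg ▸ hcon fg.1 fg.2)


/-- Let R be a Noetherian commutative ring, not assumed local, and 0 → R^(n_e) → ⋯ → R^(n_1) → R^(n_0) a
complex of finite free modules with 1 ≤ e, the map R^(n_(i+1)) → R^(n_i) being given by the matrix A
i. Suppose that for every 1 ≤ j ≤ e the matrix of R^(n_j) → R^(n_(j-1)) has rank n_j - n_(j+1) + ⋯ ±
n_e, the rank of a matrix being the largest size of a nonzero minor, and that its ideal of minors of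
that size is either the unit ideal or contains an R-regular sequence of length j. Then the complex
is exact at R^(n_e), …, R^(n_1). -/
theorem result {R : Type u} [CommRing R] [IsNoetherianRing R]
    (e : ℕ) (he : 1 ≤ e) (n : ℕ → ℕ) (A : (i : ℕ) → Matrix (Fin (n i)) (Fin (n (i + 1))) R)
    (hA : ∀ i, i + 2 ≤ e → A i * A (i + 1) = 0)
    (hrank : ∀ j, 1 ≤ j → j ≤ e →
      (CAlgX.matrixRank (A (j - 1)) : ℤ) = ∑ t ∈ Finset.Icc j e, (-1 : ℤ) ^ (t - j) * (n t : ℤ))
    (hdet : ∀ j, 1 ≤ j → j ≤ e →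
      CAlgX.detIdeal (A (j - 1)) = ⊤ ∨
        ∃ rs : List R, rs.length = j ∧ (∀ r ∈ rs, r ∈ CAlgX.detIdeal (A (j - 1))) ∧
          RingTheory.Sequence.IsRegular R rs) :
    LinearMap.ker (A (e - 1)).mulVecLin = ⊥ ∧
      ∀ i, i + 2 ≤ e → LinearMap.ker (A i).mulVecLin = LinearMap.range (A (i + 1)).mulVecLin := by
  classical
  open Groth.Agent.CAlg99.Acyclicity in
  refine conclude e A he hA fun q hq v hv => ?_
  let r : ℕ → ℕ := fun q => if q < e then CAlgX.matrixRank (A q) else 0
  have hr : ∀ q, q < e → r q + r (q + 1) = n (q + 1) := by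
    intro q hq
    have h1 := hrank (q + 1) (by omega) (by omega)
    rw [Nat.add_sub_cancel] at h1
    rw [← Finset.insert_Icc_add_one_left_eq_Icc (show q + 1 ≤ e by omega), Finset.sum_insert (by simp)] at h1
    by_cases hq1 : q + 1 < e
    · have h2 := hrank (q + 1 + 1) (by omega) (by omega)
      rw [Nat.add_sub_cancel] at h2
      have h3 : ∑ t ∈ Finset.Icc (q + 1 + 1) e, (-1 : ℤ) ^ (t - (q + 1)) * (n t : ℤ) =
          - ∑ t ∈ Finset.Icc (q + 1 + 1) e, (-1 : ℤ) ^ (t - (q + 1 + 1)) * (n t : ℤ) := by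
        rw [← Finset.sum_neg_distrib]
        refine Finset.sum_congr rfl fun t ht => ?_
        have : t - (q + 1) = t - (q + 1 + 1) + 1 := by have := (Finset.mem_Icc.mp ht).1; omega
        rw [this, pow_succ]; ring
      rw [h3, ← h2, Nat.sub_self, pow_zero, one_mul] at h1
      simp only [r, hq, hq1, if_true]
      omega
    · have : q + 1 = e := by omega
      subst this
      simp only [Nat.sub_self, pow_zero, one_mul, Finset.Icc_eq_empty (show ¬ q + 1 + 1 ≤ q + 1 by omega),
        Finset.sum_empty, add_zero] at h1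
      simp only [r, hq, if_true, lt_irrefl, if_false]
      omega
  have main : ∀ (H : ℕ) (p : Ideal R), p.IsPrime → p.height ≤ H →
      ∀ q, q < e → Groth.Agent.CAlg99.Acyclicity.Ex p ⊥ (Groth.Agent.CAlg99.Acyclicity.F e A q)
        (Groth.Agent.CAlg99.Acyclicity.F e A (q + 1)) := by
    intro H
    induction H using Nat.strong_induction_on with
    | _ H ih =>
      intro p hp hH
      haveI := hp
      let S : Finset ℕ := (Finset.Icc 1 e).filter fun j => CAlgX.detIdeal (A (j - 1)) ≤ p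
      have htop : ∀ j0, (∀ j ∈ S, j ≤ j0) → ∀ q, j0 ≤ q → q ≤ e →
          ∃ (f : Fin (r q) → Fin (n q)) (g : Fin (r q) → Fin (n (q + 1))),
            ((Groth.Agent.CAlg99.Acyclicity.F e A q).submatrix f g).det ∉ p := by
        intro j0 hj0 q hq0 hqe
        by_cases hqlt : q < e
        · have hns : ¬ CAlgX.detIdeal (A q) ≤ p := fun hle => by
            have := hj0 (q + 1) (Finset.mem_filter.mpr ⟨Finset.mem_Icc.mpr ⟨by omega, by omega⟩, by
              rwa [Nat.add_sub_cancel]⟩)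
            omega
          rw [Groth.Agent.CAlg99.Acyclicity.F_of_lt e A hqlt, show r q = CAlgX.matrixRank (A q) from if_pos hqlt]
          exact exists_minor (A q) hns
        · rw [show r q = 0 from if_neg hqlt]
          exact ⟨Fin.elim0, Fin.elim0, by simpa using (Ideal.ne_top_iff_one p).mp hp.ne_top⟩
      obtain ⟨j0, hj0, rs, hlen, hmem, hreg⟩ : ∃ j0, (∀ j ∈ S, j ≤ j0) ∧ ∃ rs : List R,
          rs.length = j0 ∧ (∀ x ∈ rs, x ∈ p) ∧ RingTheory.Sequence.IsWeaklyRegular R rs := by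
        rcases S.eq_empty_or_nonempty with hS | hS
        · exact ⟨0, fun j hj => by simp [hS] at hj, [], rfl, by simp, RingTheory.Sequence.IsWeaklyRegular.nil R R⟩
        · obtain ⟨hj, hle⟩ := Finset.mem_filter.mp (S.max'_mem hS)
          obtain ⟨h1, h2⟩ := Finset.mem_Icc.mp hj
          rcases hdet _ h1 h2 with htop | ⟨rs, hlen, hmem, hreg⟩
          · exact absurd (top_le_iff.mp (htop ▸ hle)) hp.ne_top
          · exact ⟨S.max' hS, fun j hj => S.le_max' j hj, rs, hlen, fun x hx => hle (hmem x hx), hreg.1⟩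
      refine Groth.Agent.CAlg99.Acyclicity.acyclic e A hA p rs hmem hreg (fun J q hq0 hqe => ?_) ?_
      · obtain ⟨f, g, hfg⟩ := htop j0 hj0 q (hlen ▸ hq0) hqe.le
        obtain ⟨f', g', hfg'⟩ := htop j0 hj0 (q + 1) (le_trans (hlen ▸ hq0) (Nat.le_succ q)) hqe
        exact Groth.Agent.CAlg99.Acyclicity.ex_of_minors J _ _
          (Groth.Agent.CAlg99.Acyclicity.F_mul_F e A hA q) (hr q hqe) f g f' g' hfg hfg'
      · intro p' hp' hlt
        haveI := hp'
        obtain ⟨h, hh⟩ := ENat.ne_top_iff_exists.mp (Ideal.height_ne_top hp'.ne_top : p'.height ≠ ⊤)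
        refine ih h ?_ p' hp' hh.ge
        have := (Ideal.height_strict_mono_of_isPrime hlt).trans_le hH
        rw [← hh] at this
        exact_mod_cast this
  by_contra hcon
  let T : Ideal R :=
    { carrier := {s | ∃ w, s • v = Groth.Agent.CAlg99.Acyclicity.F e A (q + 1) *ᵥ w}
      add_mem' := fun {a b} ⟨w, hw⟩ ⟨w', hw'⟩ => ⟨w + w', by rw [Matrix.mulVec_add, add_smul, hw, hw']⟩
      zero_mem' := ⟨0, by rw [Matrix.mulVec_zero, zero_smul]⟩
      smul_mem' := fun c a ⟨w, hw⟩ => ⟨c • w, by rw [Matrix.mulVec_smul, smul_eq_mul, mul_smul, hw]⟩ }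
  obtain ⟨m, hm, hle⟩ := Ideal.exists_le_maximal T fun htop => hcon (by
    obtain ⟨w, hw⟩ : (1 : R) ∈ T := htop ▸ Submodule.mem_top
    exact ⟨w, by simpa using hw⟩)
  obtain ⟨h, hh⟩ := ENat.ne_top_iff_exists.mp (Ideal.height_ne_top hm.ne_top : m.height ≠ ⊤)
  obtain ⟨s, hs, w, hw⟩ := (Groth.Agent.CAlg99.Acyclicity.ex_bot_iff _ _).mp (main h m hm.isPrime hh.ge q hq) v hv
  exact hs (hle ⟨w, hw⟩)

end Groth.Agent.S19962
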