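import Groth.Statements.S19963
import Groth.Agent.CAlg.Horrocks.Core

set_option autoImplicit false
open Polynomial TensorProduct
universe u
open CAlg

namespace Groth.Agent.S19963

/-- Let A be a commutative ring and let A(t) denote the localization of the polynomial ring A[t] at the
multiplicative subset of monic polynomials, viewed as an A-algebra. If P and P' are finitely
generated projective A-modules such that A(t) ⊗_A P and A(t) ⊗_A P' are isomorphic A(t)-modules,
then P and P' are isomorphic A-modules: non-isomorphic finite projective modules stay non-isomorphic
over A(t). (The published statement also covers base change to the ring A((t)) of Laurent power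
series, and modules over A(t) itself; only the A(t) assertion for modules over A is stated.) -/
theorem result
    (A : Type u) [CommRing A] (M : Submonoid A[X]) (hM : ∀ f : A[X], f ∈ M ↔ f.Monic)
    (At : Type u) [CommRing At] [Algebra A[X] At] [IsLocalization M At]
    [Algebra A At] [IsScalarTower A A[X] At]
    (P P' : Type u) [AddCommGroup P] [Module A P] [Module.Finite A P] [Module.Projective A P]
    [AddCommGroup P'] [Module A P'] [Module.Finite A P'] [Module.Projective A P']
    (h : Nonempty ((At ⊗[A] P) ≃ₗ[At] (At ⊗[A] P'))) :
    Nonempty (P ≃ₗ[A] P') := by
  classical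
  let S : Submonoid A[X] := Submonoid.closure ({f : A[X] | f.coeff 0 = 1} ∪ {Polynomial.X})
  obtain ⟨φ⟩ := h
  have hX : IsUnit (algebraMap A[X] (Localization S) X) :=
    IsLocalization.map_units (Localization S)
      (⟨X, Submonoid.subset_closure (Or.inr rfl)⟩ : S)
  let iX := hX.invertible
  let iX' := invertibleInvOf (a := algebraMap A[X] (Localization S) X)
  let ρ : A[X] →+* Localization S := Polynomial.eval₂RingHom (algebraMap A (Localization S))
    (⅟(algebraMap A[X] (Localization S) X))
  have hu : ∀ f : M, IsUnit (ρ f) := by
    rintro ⟨f, hf⟩
    have hm : f.Monic := (hM f).1 hf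
    have key := Polynomial.eval₂_reverse_mul_pow (algebraMap A (Localization S))
      (⅟(algebraMap A[X] (Localization S) X)) f
    rw [invOf_invOf] at key
    show IsUnit (f.eval₂ (algebraMap A (Localization S)) (⅟(algebraMap A[X] (Localization S) X)))
    rw [← key]
    refine IsUnit.mul ?_ ((isUnit_of_invertible _).pow _)
    have he : ∀ g : A[X], g.eval₂ (algebraMap A (Localization S))
        (algebraMap A[X] (Localization S) X) = algebraMap A[X] (Localization S) g := fun g => by
      rw [← Polynomial.aeval_def, Polynomial.aeval_algebraMap_apply, Polynomial.aeval_X_left_apply]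
    rw [he]
    exact IsLocalization.map_units (Localization S)
      (⟨f.reverse, Submonoid.subset_closure (Or.inl (by
        show f.reverse.coeff 0 = 1
        rw [Polynomial.coeff_zero_reverse, hm.leadingCoeff]))⟩ : S)
  let lift : At →+* Localization S := IsLocalization.lift hu
  let := lift.toAlgebra
  have : IsScalarTower A At (Localization S) := IsScalarTower.of_algebraMap_eq fun r => by
    rw [IsScalarTower.algebraMap_apply A A[X] At, RingHom.algebraMap_toAlgebra,
      IsLocalization.lift_eq]
    simp [ρ]
  let cP := TensorProduct.AlgebraTensorModule.cancelBaseChange A At (Localization S) (Localization S) P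
  let cP' := TensorProduct.AlgebraTensorModule.cancelBaseChange A At (Localization S) (Localization S) P'
  exact Groth.Agent.CAlg.Horrocks.nonempty_linearEquiv_of_localization (Localization S) P P'
    (cP.symm ≪≫ₗ LinearEquiv.baseChange At (Localization S) _ _ φ ≪≫ₗ cP')

end Groth.Agent.S19963
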