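import Groth.Statements.S19965
import Mathlib.CategoryTheory.MorphismProperty.Local
-- import your own Groth.Agent.* helpers here

set_option autoImplicit false
universe u
open CategoryTheory MonoidalCategory CartesianMonoidalCategory MonObj AlgebraicGeometry
open ChGrp

namespace Groth.Agent.S19965

/-- In the case of group schemes with the quotient given as a scheme, let S be a scheme, G a group
scheme over S, i : H → G a homomorphism from a group scheme H, and let the S-scheme Q with its
G-action and base point q₀ be the quotient G/H for the fppf topology: i is a homomorphism, the
square exhibiting G ×_S H as G ×_Q G through (g, h) ↦ (g, g·i(h)) and the orbit map of q₀ is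
cartesian, and the orbit map G → Q acquires sections on the members of an fppf covering family of Q.
Let P be a property of morphisms of schemes which is stable under base change and local on the
target for the fppf topology. If H → S has P, then the orbit map G → Q has P. (In the source G and H
are group algebraic spaces, H is flat and locally of finite presentation over S so that G/H exists
as an algebraic space, and P is a property of morphisms of algebraic spaces; here all three are
schemes, the quotient is part of the data, and flatness of H plays no part.) -/
theorem result (S : Scheme.{u})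
    (G H : Over S) [GrpObj G] [GrpObj H] (i : H ⟶ G)
    (Q : Over S) (aQ : AlgGrp.Action G Q) (q₀ : 𝟙_ (Over S) ⟶ Q)
    (hQ : ChGrp.IsHomog Scheme.fppfPrecoverage i aQ q₀)
    (P : MorphismProperty Scheme.{u}) [P.IsStableUnderBaseChange]
    [P.IsLocalAtTarget Scheme.fppfPrecoverage]
    (hP : P H.hom) : P (aQ.orbitMap q₀).left := by
  obtain ⟨-, hsq, R, hR, hsec⟩ := hQ
  have hsq' := hsq.map (Over.forget S)
  have hfst : P (fst G H).left := MorphismProperty.pullback_fst (P := P) _ _ hP
  refine MorphismProperty.IsLocalAtTarget.of_forall_pullbackSnd hR fun {W g} _ hg => ?_
  obtain ⟨σ, hσ⟩ := hsec g hg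
  change σ ≫ (aQ.orbitMap q₀).left = g at hσ
  have e : IsPullback (Limits.pullback.snd σ (fst G H).left ≫ ((G ◁ i) ≫ MonObj.mul).left)
      (Limits.pullback.fst σ (fst G H).left) (aQ.orbitMap q₀).left g := by
    rw [← hσ]
    exact (IsPullback.of_hasPullback σ (fst G H).left).flip.paste_horiz hsq'.flip
  rw [show Limits.pullback.snd (aQ.orbitMap q₀).left g = (e.isoPullback).inv ≫ Limits.pullback.fst σ (fst G H).left from
    (e.isoPullback_inv_snd).symm]
  exact (P.cancel_left_of_respectsIso _ _).2 (MorphismProperty.pullback_fst (P := P) _ _ hfst)

end Groth.Agent.S19965
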