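import Groth.Statements.S19967
import Mathlib.AlgebraicGeometry.Morphisms.SchemeTheoreticallyDominant
import Mathlib.AlgebraicGeometry.Morphisms.ClosedImmersion

set_option autoImplicit false
universe u
open CategoryTheory CategoryTheory.Limits AlgebraicGeometry
open FlatMor

namespace Groth.Agent.S19967

/-- Let f : S' → S be a flat morphism of locally Noetherian schemes, i : C → S and i' : C' → S' closed
immersions with C and C' integral, and g : C' → C with g ≫ i = i' ≫ f. Let φ : C' → C ×_S S' be the
induced morphism and η ∈ S the image of the generic point of C. If φ becomes an isomorphism after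
base change along the canonical morphism Spec O_{S,η} → S (that is, after pulling back to (C ×_S S')
×_S Spec O_{S,η}), then φ is an isomorphism. (In the source S and S' are excellent surfaces over an
algebraically closed field, C and C' regular curves not inside the singular loci, and the
isomorphism over Spec O_{S,η} is part of the definition of a morphism of surface-curve pairs; those
extra hypotheses play no part.) -/
theorem result
    {S S' C C' : Scheme.{u}} [IsLocallyNoetherian S] [IsLocallyNoetherian S']
    (f : S' ⟶ S) [Flat f] (i : C ⟶ S) [IsClosedImmersion i] [IsIntegral C]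
    (i' : C' ⟶ S') [IsClosedImmersion i'] [IsIntegral C']
    (g : C' ⟶ C) (hsq : g ≫ i = i' ≫ f)
    (hgen : IsIso (pullback.snd (pullback.lift g i' hsq)
      (pullback.fst (pullback.fst i f ≫ i) (S.fromSpecStalk (i.base (genericPoint C)))))) :
    IsIso (pullback.lift g i' hsq) := by
  let Z := pullback i f
  let φ : C' ⟶ Z := pullback.lift g i' hsq
  haveI : IsClosedImmersion (φ ≫ pullback.snd i f) := by
    rw [pullback.lift_snd]; infer_instance
  haveI : IsClosedImmersion φ := IsClosedImmersion.of_comp φ (pullback.snd i f)
  haveI : Flat (pullback.fst i f) := inferInstance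
  haveI : IsLocallyNoetherian C := LocallyOfFiniteType.isLocallyNoetherian i
  let gen := C.fromSpecStalk (genericPoint C)
  haveI : QuasiCompact gen := quasiCompact_of_compactSpace gen
  haveI : IsDominant gen := ⟨dense_iff_inter_open.2 fun U hU hne => ⟨genericPoint C,
    ((genericPoint_spec C).mem_open_set_iff hU).2 (by simpa using hne),
      ⟨_, Scheme.fromSpecStalk_closedPoint⟩⟩⟩
  haveI := IsSchemeTheoreticallyDominant.of_isDominant gen
  let G := pullback (pullback.fst i f) gen
  let π := pullback.fst (pullback.fst i f ≫ i) (S.fromSpecStalk (i.base (genericPoint C)))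
  let k : G ⟶ pullback (pullback.fst i f ≫ i) (S.fromSpecStalk (i.base (genericPoint C))) :=
    pullback.lift (pullback.fst _ _) (pullback.snd _ _ ≫ Spec.map (i.stalkMap (genericPoint C))) (by
      rw [Category.assoc, Scheme.SpecMap_stalkMap_fromSpecStalk, ← Category.assoc, pullback.condition,
        Category.assoc])
  have hk : k ≫ π = pullback.fst (pullback.fst i f) gen := pullback.lift_fst _ _ _
  haveI := hgen
  have hfac : (k ≫ inv (pullback.snd φ π) ≫ pullback.fst φ π) ≫ φ = pullback.fst (pullback.fst i f) gen := by
    refine (Category.assoc _ _ _).trans ((congrArg (fun w => k ≫ w) ((Category.assoc _ _ _).trans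
      ((congrArg (fun w => inv (pullback.snd φ π) ≫ w) pullback.condition).trans
        (IsIso.inv_hom_id_assoc _ _)))).trans hk)
  show IsIso φ
  rw [IsClosedImmersion.isIso_iff_ker_eq_bot, ← le_bot_iff]
  calc φ.ker ≤ (pullback.fst (pullback.fst i f) gen).ker := by
        rw [← hfac]; exact Scheme.Hom.le_ker_comp _ _
    _ ≤ ⊥ := (Scheme.Hom.ker_eq_bot _).le

end Groth.Agent.S19967
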