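import Groth.Statements.S19969
import Groth.Agent.GrpScheme.ClosedRepProd
import Groth.Agent.GrpScheme.StableEq

set_option autoImplicit false
universe u
open CategoryTheory MonoidalCategory CartesianMonoidalCategory AlgebraicGeometry
open AlgGrp

namespace Groth.Agent.S19969

/-- Let k be a field, X and Y arbitrary k-schemes and a : Y ×_k X → X a k-morphism such that every open
subscheme U of X is stable under a, in the sense that the preimage of U under the projection Y ×_k X
→ X is contained in the preimage of U under a. Consider the subfunctor X^a of X whose T-valued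
points, for a k-scheme T, are the k-morphisms x : T → X with a ∘ (id_Y × x) = x ∘ pr_T as morphisms
Y ×_k T → X. Then X^a is represented by a closed subscheme of X: there is a closed immersion j : Z →
X over k lying in X^a(Z) through which every element of X^a(T) factors. Neither separatedness of X
nor any finiteness condition on X or Y is assumed. -/
theorem result (k : Type u) [Field k]
    (X Y : Over (Spec (CommRingCat.of k))) (a : Y ⊗ X ⟶ X)
    (hstab : ∀ U : X.left.Opens, (CartesianMonoidalCategory.snd Y X).left ⁻¹ᵁ U ≤ a.left ⁻¹ᵁ U) :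
    ∃ (Z : Over (Spec (CommRingCat.of k))) (j : Z ⟶ X), IsClosedImmersion j.left ∧
      (Y ◁ j) ≫ a = CartesianMonoidalCategory.snd Y Z ≫ j ∧
      ∀ (T : Over (Spec (CommRingCat.of k))) (x : T ⟶ X),
        (Y ◁ x) ≫ a = CartesianMonoidalCategory.snd Y T ≫ x → ∃ z : T ⟶ Z, z ≫ j = x := by
  have : IsClosedImmersion (Limits.equalizer.ι ((β_ X Y).hom ≫ a) (fst X Y)).left := by
    refine GrpScheme.StableEq.isClosedImmersion_equalizer _ _ fun U => ?_
    intro p hp
    have h2 : (β_ X Y).hom ≫ snd Y X = fst X Y := by simp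
    rw [← h2] at hp
    exact hstab U hp
  obtain ⟨Z, i, hi, hZ⟩ := GrpScheme.ClosedRepProd.exists_equalizer_rep (X := X) (Y := Y)
    ((β_ X Y).hom ≫ a) (fst X Y) (GrpScheme.ClosedRepProd.locallyFree_of_field _)
  have key : ∀ (T : Over (Spec (CommRingCat.of k))) (x : T ⟶ X),
      (Y ◁ x) ≫ a = snd Y T ≫ x ↔ ∃ z : T ⟶ Z, z ≫ i = x := by
    intro T x
    rw [← hZ T x]
    have e : (x ▷ Y) ≫ (β_ X Y).hom ≫ a = (β_ T Y).hom ≫ (Y ◁ x) ≫ a :=
      BraidedCategory.braiding_naturality_left_assoc x Y a
    rw [e, whiskerRight_fst]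
    have e2 : fst T Y ≫ x = (β_ T Y).hom ≫ snd Y T ≫ x := by simp
    rw [e2, cancel_epi]
  exact ⟨Z, i, hi, (key Z i).mpr ⟨𝟙 _, Category.id_comp _⟩, fun T x hx => (key T x).mp hx⟩

end Groth.Agent.S19969
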