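import Groth.Statements.S1997
import Mathlib

set_option autoImplicit false
universe u
open CategoryTheory
open EtAlg

open scoped TensorProduct
namespace Groth.Agent.S1997

/-- Let A be a ring all of whose ideals are flat (weak dimension at most one) and A -> B a flat,
injective ring map which is an epimorphism in the category of commutative rings. Then A is
integrally closed in B. -/
theorem result (A B : Type u) [CommRing A] [CommRing B] [Algebra A B]
    (hA : ∀ I : Ideal A, Module.Flat A I) [Module.Flat A B] (hinj : Function.Injective (algebraMap A B))
    (hepi : Epi (CommRingCat.ofHom (algebraMap A B))) : IsIntegrallyClosedIn A B := by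
  have hsub : ∀ (N : Submodule A B), Module.Flat A N := fun N => by
    rw [Module.Flat.iff_lTensor_injective']
    intro I
    have := hA I
    have h1 : Function.Injective (N.subtype.rTensor I) :=
      Module.Flat.rTensor_preserves_injective_linearMap N.subtype N.injective_subtype
    have h2 : Function.Injective (I.subtype.lTensor B) :=
      Module.Flat.lTensor_preserves_injective_linearMap I.subtype I.injective_subtype
    have h3 : (N.subtype.rTensor A).comp (I.subtype.lTensor N) = (I.subtype.lTensor B).comp (N.subtype.rTensor I) := by
      rw [LinearMap.rTensor_comp_lTensor, LinearMap.lTensor_comp_rTensor]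
    refine Function.Injective.of_comp (f := N.subtype.rTensor A) ?_
    rw [← LinearMap.coe_comp, h3, LinearMap.coe_comp]
    exact h2.comp h1
  have hB : Algebra.IsEpi A B := CommRingCat.epi_iff_epi.mp hepi
  refine isIntegrallyClosedIn_iff.mpr ⟨hinj, fun {b} hb => ?_⟩
  let C := Algebra.adjoin A {b}
  haveI : Module.Finite A C := ⟨(Submodule.fg_top C.toSubmodule).mpr hb.fg_adjoin_singleton⟩
  have : Module.Flat A C := hsub C.toSubmodule
  have hCC : Function.Injective (TensorProduct.map C.val.toLinearMap C.val.toLinearMap) := by
    rw [show TensorProduct.map C.val.toLinearMap C.val.toLinearMap =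
      (C.val.toLinearMap.rTensor B).comp (C.val.toLinearMap.lTensor C) from (LinearMap.rTensor_comp_lTensor _ _ _).symm]
    exact (Module.Flat.rTensor_preserves_injective_linearMap _ Subtype.val_injective).comp
      (Module.Flat.lTensor_preserves_injective_linearMap _ Subtype.val_injective)
  have hC : Algebra.IsEpi A C := (Algebra.isEpi_iff_forall_one_tmul_eq A C).mpr fun c => hCC (by
    rw [TensorProduct.map_tmul, TensorProduct.map_tmul]
    exact (Algebra.isEpi_iff_forall_one_tmul_eq A B).mp hB (c : B))
  obtain ⟨a, ha⟩ := Algebra.isEpi_iff_surjective_algebraMap_of_finite.mp hC ⟨b, Algebra.subset_adjoin rfl⟩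
  exact ⟨a, congrArg Subtype.val ha⟩

end Groth.Agent.S1997
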