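import Groth.Statements.S19972
import Groth.Agent.StPush.CohAffMain
import Groth.Agent.StPush.PresExist
import Groth.Agent.StFib.QC
import Groth.Agent.StFib.QC2

set_option autoImplicit false
set_option backward.isDefEq.respectTransparency false
set_option backward.isDefEq.respectTransparency.types false
universe u
open CategoryTheory AlgebraicGeometry
open StMod

namespace Groth.Agent.S19972

open Groth.Agent.StPush

theorem isQuasiCompactMor_of_affine {S : Scheme.{u}} {𝒳 𝒴 : AlgSt.Cat S}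
    (h𝒳 : AlgSt.IsAlgStack Scheme.fppfPrecoverage 𝒳) (h𝒴 : AlgSt.IsAlgStack Scheme.fppfPrecoverage 𝒴)
    (π : 𝒳 ⥤ᵇ 𝒴) (hπ : AlgSt.RepByAlgSpWith AlgSp.IsAffineMor π) :
    AlgSt.IsQuasiCompactMor Scheme.fppfPrecoverage π := by
  refine Groth.Agent.StFib.isQuasiCompactMor_of_rep h𝒳 h𝒴 (fun U y => ?_)
  obtain ⟨F, e, he, hF⟩ := hπ U y
  exact ⟨F, e, he, Groth.Agent.AlgSp.isQuasiCompactMor_of_affine F.property
    (Groth.Agent.StFib.isAlgSpace_yon U) _ (fun Z hZ g P fst snd sq => by
      obtain ⟨W, i, fst', sq', hW⟩ := hF hZ g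
      have : IsAffine W.left := hW
      have : CompactSpace W.left := inferInstance
      have := Groth.Agent.AlgSp.compactSpace_yon W
      have j := sq'.isoIsPullback _ _ sq
      exact Groth.Agent.AlgSp.compactSpace_of_surjective j.hom (fun x => ⟨AlgSp.Points.map j.inv x, by
        rw [← AlgSp.Points.map_comp, j.inv_hom_id, AlgSp.Points.map_id]⟩))⟩

/-- Functors into the category of the base are unique. -/
theorem eq_of_top {S : Scheme.{u}} {𝒳 : AlgSt.Cat S} (f g : 𝒳 ⥤ᵇ AlgSt.ofSch (Over.mk (𝟙 S))) : f = g := by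
  have hobj : ∀ x, f.obj x = g.obj x := fun x => by
    have hb : (f.obj x).base = (g.obj x).base := (f.w_obj x).trans (g.w_obj x).symm
    generalize f.obj x = a, g.obj x = b at hb
    obtain ⟨a₁, a₂⟩ := a
    obtain ⟨b₁, b₂⟩ := b
    obtain rfl : a₁ = b₁ := hb
    rw [Subsingleton.elim a₂ b₂]
  suffices h : f.toFunctor = g.toFunctor by cases f; cases g; cases h; rfl
  refine CategoryTheory.Functor.ext hobj fun x y k => ?_
  refine Stk.EltObj.hom_ext ?_
  have hf := Functor.congr_hom f.w k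
  have hg := Functor.congr_hom g.w k
  have he : ∀ {a b : (AlgSt.ofSch (Over.mk (𝟙 S))).obj} (h : a = b), (eqToHom h).hom = eqToHom (congrArg Stk.EltObj.base h) := by
    intro a b h; subst h; rfl
  have hf' : (f.map k).hom = _ := hf
  have hg' : (g.map k).hom = _ := hg
  simp [hf', hg', he]

/-- Let `S` be an affine scheme and `𝒳` a locally Noetherian algebraic stack over `(Sch/S)` for the fppf
topology which is cohomologically affine over `S`: its structure functor `τ : 𝒳 ⟶ (Sch/S)` is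
quasi-compact, quasi-separated and pushforward along it takes surjections of quasi-coherent modules
to maps surjective on sections over every affine scheme etale over `S`. Let `ξ` be a point of `|𝒳|`
and `𝒢 ⊆ 𝒳` the residual gerbe at `ξ` (the strictly full substack cut out by `Q`: algebraic,
reduced, locally Noetherian, with a single point, mapping to `ξ`), and suppose the inclusion `𝒢 ⟶ 𝒳`
is affine (representable by algebraic spaces with affine base changes). Then `ξ` has linearly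
reductive stabilizer, rendered as: the structure functor `σ : 𝒢 ⟶ (Sch/S)` over the affine base is
cohomologically affine and quasi-compact. (The base is taken affine so that cohomological affineness
of `𝒳` and of `𝒢` can be expressed over it; standing conventions of the source: quasi-separated
schemes and spaces, stacks with quasi-compact separated diagonal.) -/
theorem result
    (S : Scheme.{u}) [IsAffine S]
    (𝒳 : AlgSt.Cat S) (h𝒳 : AlgSt.IsAlgStack Scheme.fppfPrecoverage 𝒳)
    (hN : AlgSt.SmoothLocally (fun T => IsLocallyNoetherian T) 𝒳)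
    (τ : 𝒳 ⥤ᵇ AlgSt.ofSch (Over.mk (𝟙 S)))
    (hτqc : AlgSt.IsQuasiCompactMor Scheme.fppfPrecoverage τ) (hτqs : AlgSt.IsQuasiSeparatedMor τ)
    (hτ : StMod.IsCohAffine τ)
    (ξ : AlgSt.Points 𝒳) (Q : 𝒳.obj → Prop) (hQ : Gerb.IsResGerbe Scheme.fppfPrecoverage 𝒳 ξ Q)
    (hι : AlgSt.RepByAlgSpWith AlgSp.IsAffineMor (AlgSt.subIncl 𝒳 Q))
    (σ : AlgSt.fullSub 𝒳 Q ⥤ᵇ AlgSt.ofSch (Over.mk (𝟙 S))) :
    StMod.IsCohAffine σ ∧ AlgSt.IsQuasiCompactMor Scheme.fppfPrecoverage σ := by
  have hS := StFib.isAlgStack_ofSp (F := (AlgSp.yon S).obj (Over.mk (𝟙 S))) (AlgSp.IsAlgSpace.yon_obj _)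
  have h𝒢 : AlgSt.IsAlgStack Scheme.fppfPrecoverage (AlgSt.fullSub 𝒳 Q) := hQ.2.1
  obtain rfl : σ = BasedFunctor.comp (AlgSt.subIncl 𝒳 Q) τ := eq_of_top _ _
  refine ⟨?_, StFib.isQuasiCompactMor_comp h𝒳 hS (isQuasiCompactMor_of_affine h𝒢 h𝒳 _ hι) hτqc⟩
  let η₀ : (AlgSt.ofSch (Over.mk (𝟙 S))).obj := ⟨Over.mk (𝟙 S), ⟨𝟙 _⟩⟩
  obtain ⟨R₀⟩ := exists_pres h𝒳 hS τ hτqc hτqs η₀ ‹IsAffine S›
  obtain ⟨R⟩ := (fullEquiv_fibFst_ofSch h𝒳.isStack.1 τ η₀ rfl).exists_pres R₀
  exact isCohAffine_of_affine h𝒢.isStack.1 h𝒳.isStack.1 _ hι R τ hτ _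

end Groth.Agent.S19972
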