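import Groth.Statements.S19974
import Mathlib.Tactic.Abel
import Mathlib.Algebra.Algebra.Bilinear
import Mathlib.LinearAlgebra.Finsupp.LSum

set_option autoImplicit false
universe u v w x
open scoped BigOperators
open DefMod

namespace Groth.Agent.S19974

/-- Let K be a field of characteristic 0, O a commutative K-algebra with a K-linear derivation δ, and D
the ring of differential operators O[∂], presented abstractly as a K-algebra D with an algebra map ι
: O → D and an element ∂ of D such that ∂ ι(f) = ι(f) ∂ + ι(δ f) for every f in O and such that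
every element of D is in a unique way a finite sum of terms ι(f_i) ∂^i. Let E be a left D-module,
given as a K-vector space with a K-algebra map ρ : D → End_K(E), which is finite free as an
O-module. A K-derivation of D with values in the D-bimodule End_K(E) is a K-linear map s with s(PQ)
= s(P) ρ(Q) + ρ(P) s(Q); a K-derivation of O with values in End_K(E) is a K-linear map r with r(fg)
= r(f) ρ(ι g) + ρ(ι f) r(g). Then: (a) for every K-derivation s of D into End_K(E), the pair (r, v)
= (s ∘ ι, s(∂)) satisfies the identity [r(f), ρ(∂)] + [ρ(ι f), v] + r(δ f) = 0 for all f in O; (b)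
conversely, for every K-derivation r of O into End_K(E) and every v in End_K(E) satisfying that
identity for all f, there is exactly one K-derivation s of D into End_K(E) with s ∘ ι = r and s(∂) =
v. In other words s ↦ (s ∘ ι, s(∂)) maps the K-derivations of D injectively onto the pairs
satisfying the identity. -/
theorem result
    (K : Type u) [Field K] [CharZero K]
    (O : Type v) [CommRing O] [Algebra K O] (δ : Derivation K O O)
    (D : Type w) [Ring D] [Algebra K D] (ι : O →ₐ[K] D) (d : D)
    (hd : ∀ f : O, d * ι f = ι f * d + ι (δ f))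
    (hbasis : Function.Bijective (fun c : ℕ →₀ O => c.sum (fun i f => ι f * d ^ i)))
    (E : Type x) [AddCommGroup E] [Module K E] (ρ : D →ₐ[K] Module.End K E)
    (hE : ∃ (n : ℕ) (b : Fin n → E), Function.Bijective (fun c : Fin n → O => ∑ i, ρ (ι (c i)) (b i))) :
    (∀ s : D →ₗ[K] Module.End K E, (∀ P Q : D, s (P * Q) = s P * ρ Q + ρ P * s Q) →
      ∀ f : O, (s (ι f) * ρ d - ρ d * s (ι f)) + (ρ (ι f) * s d - s d * ρ (ι f)) + s (ι (δ f)) = 0) ∧
    ∀ (r : O →ₗ[K] Module.End K E) (v : Module.End K E),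
      (∀ f g : O, r (f * g) = r f * ρ (ι g) + ρ (ι f) * r g) →
      (∀ f : O, (r f * ρ d - ρ d * r f) + (ρ (ι f) * v - v * ρ (ι f)) + r (δ f) = 0) →
      ∃! s : D →ₗ[K] Module.End K E,
        (∀ P Q : D, s (P * Q) = s P * ρ Q + ρ P * s Q) ∧ s ∘ₗ ι.toLinearMap = r ∧ s d = v := by
  refine ⟨fun s hs f => ?_, fun r v hr hrv => ?_⟩
  · have h := congrArg s (hd f)
    rw [map_add, hs, hs] at h
    have h' : s (ι f) * ρ d + ρ (ι f) * s d + s (ι (δ f)) = s d * ρ (ι f) + ρ d * s (ι f) := by
      exact h.symm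
    rw [← sub_eq_zero] at h'
    rw [← h']
    abel
  obtain ⟨W, hW0, hW⟩ : ∃ W : ℕ → Module.End K E, W 0 = 0 ∧ ∀ i, W (i + 1) = v * ρ d ^ i + ρ d * W i :=
    ⟨fun n => Nat.rec 0 (fun i w => v * ρ d ^ i + ρ d * w) n, rfl, fun _ => rfl⟩
  let e₀ : (ℕ →₀ O) →ₗ[K] D := Finsupp.lsum K fun i => LinearMap.mulRight K (d ^ i) ∘ₗ ι.toLinearMap
  have he₀ : Function.Bijective e₀ := by
    have h0 : ⇑e₀ = fun c : ℕ →₀ O => c.sum fun i f => ι f * d ^ i := rfl
    rw [h0]; exact hbasis
  let e := LinearEquiv.ofBijective e₀ he₀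
  have he : ∀ i f, e (Finsupp.single i f) = ι f * d ^ i := fun i f => by
    simp [e, e₀, Finsupp.lsum_single]
  have hind : ∀ (C : D → Prop), (∀ a b, C a → C b → C (a + b)) → (∀ i f, C (ι f * d ^ i)) → ∀ P, C P := by
    intro C hadd hmon P
    obtain ⟨c, rfl⟩ := e.surjective P
    induction c using Finsupp.induction_linear with
    | zero => simpa using hmon 0 0
    | add a b ha hb => rw [map_add]; exact hadd _ _ ha hb
    | single i f => rw [he]; exact hmon i f
  let s₀ : (ℕ →₀ O) →ₗ[K] Module.End K E := Finsupp.lsum K fun i =>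
    LinearMap.mulRight K (ρ d ^ i) ∘ₗ r + LinearMap.mulRight K (W i) ∘ₗ (ρ.comp ι).toLinearMap
  let s : D →ₗ[K] Module.End K E := s₀ ∘ₗ e.symm.toLinearMap
  have hs : ∀ i f, s (ι f * d ^ i) = r f * ρ d ^ i + ρ (ι f) * W i := fun i f => by
    rw [← he]
    simp [s, s₀, Finsupp.lsum_single]
  have L2 : ∀ g P, s (ι g * P) = r g * ρ P + ρ (ι g) * s P := by
    intro g
    refine hind _ (fun a b ha hb => by simp only [mul_add, map_add, ha, hb]; abel) fun i f => ?_
    rw [← mul_assoc, ← map_mul, hs, hs, hr, map_mul ι, map_mul ρ, map_mul, map_pow]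
    simp only [add_mul, mul_add, mul_assoc, add_assoc]
  have L1 : ∀ P, s (d * P) = v * ρ P + ρ d * s P := by
    refine hind _ (fun a b ha hb => by simp only [mul_add, map_add, ha, hb]; abel) fun i f => ?_
    rw [← mul_assoc, hd, add_mul, mul_assoc, ← pow_succ', map_add, hs, hs, hs, hW, map_mul, map_pow,
      pow_succ']
    have hc : ρ d * ρ (ι f) = ρ (ι f) * ρ d + ρ (ι (δ f)) := by rw [← map_mul, hd, map_add, map_mul]
    have h0 : r f * ρ d + ρ (ι f) * v + r (δ f) = ρ d * r f + v * ρ (ι f) := by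
      rw [← sub_eq_zero, ← hrv f]; abel
    calc r f * (ρ d * ρ d ^ i) + ρ (ι f) * (v * ρ d ^ i + ρ d * W i) +
          (r (δ f) * ρ d ^ i + ρ (ι (δ f)) * W i)
        = (r f * ρ d + ρ (ι f) * v + r (δ f)) * ρ d ^ i +
            (ρ (ι f) * ρ d + ρ (ι (δ f))) * W i := by simp only [add_mul, mul_add, mul_assoc]; abel
      _ = (ρ d * r f + v * ρ (ι f)) * ρ d ^ i + ρ d * ρ (ι f) * W i := by rw [h0, hc]
      _ = v * (ρ (ι f) * ρ d ^ i) + ρ d * (r f * ρ d ^ i + ρ (ι f) * W i) := by
        simp only [add_mul, mul_add, mul_assoc]; abel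
  have Lpow : ∀ i Q, s (d ^ i * Q) = W i * ρ Q + ρ d ^ i * s Q := by
    intro i
    induction i with
    | zero => intro Q; simp [hW0]
    | succ i ih =>
      intro Q
      rw [pow_succ', mul_assoc, L1, ih, map_mul, map_pow, hW, pow_succ']
      simp only [add_mul, mul_add, mul_assoc]; abel
  have hder : ∀ P Q : D, s (P * Q) = s P * ρ Q + ρ P * s Q := by
    intro P Q
    revert P
    refine hind _ (fun a b ha hb => by simp only [add_mul, map_add, ha, hb]; abel) fun i f => ?_
    rw [mul_assoc, L2, Lpow, hs, map_mul, map_mul, map_pow]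
    simp only [add_mul, mul_add, mul_assoc, add_assoc]
  have hr1 : r 1 = 0 := by
    have := hr 1 1
    simpa using this
  have hsι : s ∘ₗ ι.toLinearMap = r := LinearMap.ext fun f => by
    have := hs 0 f
    simpa [hW0] using this
  have hsd : s d = v := by
    have := hs 1 1
    simpa [hW, hW0, hr1] using this
  refine ⟨s, ⟨hder, hsι, hsd⟩, fun s' ⟨h1, h2, h3⟩ => LinearMap.ext ?_⟩
  refine hind _ (fun a b ha hb => by rw [map_add, map_add, ha, hb]) fun i f => ?_
  have hf : ∀ g, s' (ι g) = r g := fun g => LinearMap.congr_fun h2 g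
  have hpow : ∀ j, s' (d ^ j) = s (d ^ j) := by
    intro j
    induction j with
    | zero =>
      rw [pow_zero, ← map_one ι, hf, show s (ι 1) = r 1 from LinearMap.congr_fun hsι 1]
    | succ j ih => rw [pow_succ', h1, hder, h3, hsd, ih]
  rw [h1, hder, hf, hpow, show s (ι f) = r f from LinearMap.congr_fun hsι f]

end Groth.Agent.S19974
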