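import Groth.Statements.S19975
import Groth.Agent.EtLocalize.Basic
-- import your own Groth.Agent.* helpers here

set_option autoImplicit false
set_option linter.style.haveILetI false
universe u
open CategoryTheory CategoryTheory.Limits Opposite AlgebraicGeometry
open EtCoh

namespace Groth.Agent.S19975

/-- In the case of the small etale topos of a quasi-compact quasi-separated scheme X (X is then a
coherent object of it), let R = S⁻¹ℤ be a localization of the ring of integers at a multiplicative
subset S, and let φ : F ⟶ G be a morphism of abelian etale sheaves on X which exhibits G as F ⊗ R: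
over every affine scheme U etale over X, the map on sections F(U) → G(U) is a localization of
ℤ-modules at S. Then for every i the induced map on etale cohomology Hⁱ(X, F) → Hⁱ(X, G) is a
localization at S, i.e. the natural map Hⁱ(X, F) ⊗ R → Hⁱ(X, F ⊗ R) is invertible. (The source
states this for a coherent object of an arbitrary topos; the tensor product F ⊗ R is rendered
through its characterisation on affine etale schemes over X.) -/
theorem result (X : Scheme.{u})
    [CompactSpace X] [QuasiSeparatedSpace X] (S : Submonoid ℤ)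
    (F G : EtCoh.Ab X) (φ : F ⟶ G)
    (hφ : ∀ U : X.Etale, IsAffine U.left →
      IsLocalizedModule S (φ.hom.app (op U)).hom.toIntLinearMap)
    (i : ℕ) : IsLocalizedModule S ((EtCoh.HF X i).map φ).hom.toIntLinearMap := by
  haveI : (EtCoh.HF X i).Additive := by unfold EtCoh.HF; infer_instance
  obtain ⟨e, he⟩ := exists_surjective_nat S
  let s : ℕ → S := fun n => e (Nat.unpair n).1
  have hs : ∀ a n, ∃ k, n ≤ k ∧ s k = a := fun a n => by
    obtain ⟨m, rfl⟩ := he a
    exact ⟨Nat.pair m n, Nat.right_le_pair m n, by simp [s]⟩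
  obtain ⟨hc⟩ := Groth.Agent.EtLocalize.nonempty_isColimit_seqCocone S φ hφ s hs
  haveI : PreservesFilteredColimitsOfSize.{u, u} (EtCoh.HF X i) :=
    ⟨fun J _ _ => Groth.Agent.S0099.result X i J⟩
  haveI : PreservesFilteredColimitsOfSize.{0, 0} (EtCoh.HF X i) :=
    preservesFilteredColimitsOfSize_shrink _
  haveI : PreservesFilteredColimitsOfSize.{0, 0} (forget AddCommGrpCat.{u + 1}) :=
    preservesFilteredColimitsOfSize_shrink _
  let c := Groth.Agent.EtLocalize.seqCocone S φ hφ s
  have hT := isColimitOfPreserves (EtCoh.HF X i) hc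
  let H := EtCoh.HF X i
  have hmul : ∀ (A : EtCoh.Ab X) (a : ℤ) (y : H.obj A), H.map (a • 𝟙 A) y = a • y := fun A a y => by
    rw [Functor.map_zsmul, CategoryTheory.Functor.map_id]
    exact map_zsmul (AddMonoidHom.mk' (fun f : H.obj A ⟶ H.obj A => f y) fun _ _ => rfl) a (𝟙 _)
  refine ⟨fun a => ?_, fun y => ?_, fun {x₁ x₂} hx => ?_⟩
  · rw [Module.End.isUnit_iff]
    haveI := Groth.Agent.EtLocalize.isIso_zsmul S φ hφ a
    have hb := ConcreteCategory.bijective_of_isIso (H.map ((a : ℤ) • 𝟙 G))
    rw [show ⇑(H.map ((a : ℤ) • 𝟙 G)) = fun y : H.obj G => (a : ℤ) • y from funext (hmul G a)] at hb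
    exact hb
  · obtain ⟨n, z, rfl⟩ := Concrete.isColimit_exists_rep _ hT y
    refine ⟨(z, Groth.Agent.EtLocalize.prodSeq S s n), ?_⟩
    show ((Groth.Agent.EtLocalize.prodSeq S s n : S) : ℤ) •
      (H.map (Groth.Agent.EtLocalize.seqComp S φ hφ s n) z) = H.map φ z
    rw [← hmul]
    exact (ConcreteCategory.congr_hom
      ((H.map_comp _ _).symm.trans (congrArg H.map
        (Groth.Agent.EtLocalize.seqComp_comp S φ hφ s n))) z)
  · have h0 : (H.mapCocone c).ι.app 0 x₁ = (H.mapCocone c).ι.app 0 x₂ := by
      show H.map (Groth.Agent.EtLocalize.seqComp S φ hφ s 0) x₁ =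
        H.map (Groth.Agent.EtLocalize.seqComp S φ hφ s 0) x₂
      rw [Groth.Agent.EtLocalize.seqComp_zero]
      exact hx
    obtain ⟨N, f, g, hfg⟩ := Concrete.isColimit_exists_of_rep_eq _ hT x₁ x₂ h0
    obtain rfl : f = g := Subsingleton.elim _ _
    obtain ⟨a, ha⟩ := Groth.Agent.EtLocalize.exists_seqDiagram_map S s F (leOfHom f)
    refine ⟨a, ?_⟩
    show (a : ℤ) • x₁ = (a : ℤ) • x₂
    have h1 : ∀ x : H.obj F, H.map ((Groth.Agent.EtLocalize.seqDiagram S s F).map f) x = (a : ℤ) • x :=
      fun x => (congrArg (fun q : F ⟶ F => H.map q x) ha).trans (hmul F a x)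
    exact (h1 x₁).symm.trans (hfg.trans (h1 x₂))

end Groth.Agent.S19975
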