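import Groth.Statements.S19976
import Groth.Agent.NFApprox.Cone
import Groth.Agent.NFApprox.Master
-- import your own Groth.Agent.* helpers here

set_option autoImplicit false
universe u
open NumberField

namespace Groth.Agent.S19976
open IsDedekindDomain IsDedekindDomain.HeightOneSpectrum WithZero
open scoped Classical

universe v
variable {k : Type v} [Field k] [NumberField k] {n : ℕ}

/-- The polynomial over `k`. -/
noncomputable abbrev mp (f : MvPolynomial (Fin n) (RingOfIntegers k)) : MvPolynomial (Fin n) k :=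
  MvPolynomial.map (algebraMap (RingOfIntegers k) k) f

lemma aeval_algebraMap (A : Type v) [CommRing A] [Algebra k A] (g : MvPolynomial (Fin n) k) (P : Fin n → k) :
    MvPolynomial.aeval (fun i => algebraMap k A (P i)) g = algebraMap k A (MvPolynomial.aeval P g) := by
  exact MvPolynomial.aeval_algebraMap_apply A P g

/-- Residues of values only depend on residues of the arguments. -/
lemma congr_local (v : HeightOneSpectrum (RingOfIntegers k)) (f : MvPolynomial (Fin n) (RingOfIntegers k))
    (x y : Fin n → v.adicCompletion k) (hy : ∀ i, y i ∈ v.adicCompletionIntegers k)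
    (h : ∀ i, Valued.v (x i - y i) < 1) :
    Valued.v (MvPolynomial.aeval x (mp f)) ≤ 1 ∧
      (Valued.v (MvPolynomial.aeval y (mp f)) = 1 → Valued.v (MvPolynomial.aeval x (mp f)) = 1) := by
  set A := v.adicCompletionIntegers k
  have hx : ∀ i, x i ∈ A := fun i => by
    rw [mem_adicCompletionIntegers, show x i = (x i - y i) + y i by ring]
    exact Valuation.map_add_le _ (h i).le ((mem_adicCompletionIntegers _ _ v).1 (hy i))
  have he : ∀ (z : Fin n → v.adicCompletion k) (hz : ∀ i, z i ∈ A),
      MvPolynomial.aeval z (mp f) =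
        ((MvPolynomial.aeval (fun i => (⟨z i, hz i⟩ : A)) f : A) : v.adicCompletion k) := by
    intro z hz
    rw [MvPolynomial.aeval_map_algebraMap]
    show _ = A.subtype _
    rw [MvPolynomial.aeval_def, MvPolynomial.aeval_def, MvPolynomial.eval₂_comp_left A.subtype]
    congr 1
  refine ⟨by rw [he x hx]; exact (mem_adicCompletionIntegers _ _ v).1 (SetLike.coe_mem _), fun h1 => ?_⟩
  rw [he x hx]
  rw [he y hy] at h1
  have hres : IsLocalRing.residue A (MvPolynomial.aeval (fun i => (⟨x i, hx i⟩ : A)) f) =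
      IsLocalRing.residue A (MvPolynomial.aeval (fun i => (⟨y i, hy i⟩ : A)) f) := by
    have hp : (fun i => IsLocalRing.residue A (⟨x i, hx i⟩ : A)) = fun i => IsLocalRing.residue A (⟨y i, hy i⟩ : A) := by
      funext i
      rw [← sub_eq_zero, ← map_sub, IsLocalRing.residue_eq_zero_iff, IsLocalRing.mem_maximalIdeal, mem_nonunits_iff,
        adicCompletionIntegers.isUnit_iff_valued_eq_one]
      exact ne_of_lt (h i)
    simp only [MvPolynomial.aeval_def, MvPolynomial.eval₂_comp_left (IsLocalRing.residue A), Function.comp_def, hp]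
  rw [← adicCompletionIntegers.isUnit_iff_valued_eq_one] at h1 ⊢
  have h2 : IsLocalRing.residue A (MvPolynomial.aeval (fun i => (⟨y i, hy i⟩ : A)) f) ≠ 0 := (h1.map _).ne_zero
  rw [← hres, ne_eq, IsLocalRing.residue_eq_zero_iff, IsLocalRing.mem_maximalIdeal, mem_nonunits_iff, not_not] at h2
  exact h2

lemma congr_global (v : HeightOneSpectrum (RingOfIntegers k)) (f : MvPolynomial (Fin n) (RingOfIntegers k))
    (x : Fin n → k) (y : Fin n → v.adicCompletion k) (hy : ∀ i, y i ∈ v.adicCompletionIntegers k)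
    (h : ∀ i, Valued.v (algebraMap k (v.adicCompletion k) (x i) - y i) < 1) :
    v.valuation k (MvPolynomial.aeval x (mp f)) ≤ 1 ∧
      (Valued.v (MvPolynomial.aeval y (mp f)) = 1 → v.valuation k (MvPolynomial.aeval x (mp f)) = 1) := by
  have := congr_local v f _ y hy h
  rw [aeval_algebraMap] at this
  rw [← v.valuedAdicCompletion_eq_valuation' (MvPolynomial.aeval x (mp f))]
  exact this

lemma isOpen_lt_one (v : HeightOneSpectrum (RingOfIntegers k)) (a : v.adicCompletion k) :
    IsOpen {x : v.adicCompletion k | Valued.v (x - a) < 1} := by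
  have := (Valued.isOpen_ball (R := v.adicCompletion k) 1).preimage
    (show Continuous fun x => x - a by fun_prop)
  convert this using 1
  ext x
  simp [Valuation.restrict_lt_one_iff]

lemma continuous_line {A : Type v} [CommRing A] [TopologicalSpace A] [IsTopologicalRing A] (p d : Fin n → A) :
    Continuous fun c : A => fun i => p i + c * d i := by fun_prop


/-- Strong approximation off a place v₀ for the complement of a closed subset of codimension at least 2
in affine n-space over a number field, here in the following explicit form for a finite place v₀ and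
the standard integral model. Let k be a number field with ring of integers O_k, n ≥ 1, and f_1, …,
f_m polynomials in n variables with coefficients in O_k whose common zero locus F in 𝔸ⁿ_k has
codimension at least 2, i.e. the k-algebra k[x_1, …, x_n]/(f_1, …, f_m) has Krull dimension at most
n − 2 (dimension −∞ when F is empty). Put U = 𝔸ⁿ_k ∖ F and 𝒰 = 𝔸ⁿ_{O_k} ∖ V(f_1, …, f_m), so that
for a finite place v the O_v-points of 𝒰 are the P ∈ O_vⁿ with some f_j(P) a unit. Let S_f be a
finite set of finite places containing v₀ (the set S of the source is S_f together with all infinite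
places). Suppose given, for every v ∈ S_f other than v₀, a point P_v ∈ U(k_v) with an open
neighbourhood N_v ⊆ k_vⁿ; for every infinite place w, a point P_w ∈ U(k_w) with an open
neighbourhood N_w ⊆ k_wⁿ; for every v in a finite set T of finite places disjoint from S_f, a point
Q_v ∈ 𝒰(O_v) with an open neighbourhood W_v ⊆ k_vⁿ; and suppose 𝒰(O_v) is nonempty for every finite
place v ∉ S_f. Then there is a point P ∈ kⁿ whose coordinates are v-integral and some f_j(P) is a
v-unit at every finite place v ∉ S_f (so P ∈ 𝒰(O_S)), and whose image lies in N_v for v ∈ S_f ∖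
{v₀}, in N_w for every infinite w, and in W_v for v ∈ T. (The source states strong approximation off
an arbitrary place v₀ and for every model over O_S; this row is the case of a finite v₀ and of the
standard model, approximation at a basic open set of the restricted product.) -/
theorem result
    (k : Type u) [Field k] [NumberField k] (n : ℕ) (hn : 1 ≤ n) (m : ℕ)
    (f : Fin m → MvPolynomial (Fin n) (NumberField.RingOfIntegers k))
    (hcodim : ringKrullDim (MvPolynomial (Fin n) k ⧸ Ideal.span (Set.range fun j =>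
        MvPolynomial.map (algebraMap (NumberField.RingOfIntegers k) k) (f j))) + 2 ≤ (n : WithBot ℕ∞))
    (v₀ : IsDedekindDomain.HeightOneSpectrum (NumberField.RingOfIntegers k)) (Sf : Finset (IsDedekindDomain.HeightOneSpectrum (NumberField.RingOfIntegers k))) (hv₀ : v₀ ∈ Sf)
    (Pf : (v : IsDedekindDomain.HeightOneSpectrum (NumberField.RingOfIntegers k)) → (Fin n → v.adicCompletion k))
    (hPf : ∀ v ∈ Sf, v ≠ v₀ → ∃ j, MvPolynomial.aeval (Pf v)
      (MvPolynomial.map (algebraMap (NumberField.RingOfIntegers k) k) (f j)) ≠ 0)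
    (Nf : (v : IsDedekindDomain.HeightOneSpectrum (NumberField.RingOfIntegers k)) → Set (Fin n → v.adicCompletion k))
    (hNf : ∀ v ∈ Sf, v ≠ v₀ → IsOpen (Nf v) ∧ Pf v ∈ Nf v)
    (Pi : (w : NumberField.InfinitePlace k) → (Fin n → w.Completion))
    (hPi : ∀ w, ∃ j, MvPolynomial.aeval (Pi w)
      (MvPolynomial.map (algebraMap (NumberField.RingOfIntegers k) k) (f j)) ≠ 0)
    (Ni : (w : NumberField.InfinitePlace k) → Set (Fin n → w.Completion))
    (hNi : ∀ w, IsOpen (Ni w) ∧ Pi w ∈ Ni w)
    (T : Finset (IsDedekindDomain.HeightOneSpectrum (NumberField.RingOfIntegers k))) (hT : Disjoint T Sf)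
    (Q : (v : IsDedekindDomain.HeightOneSpectrum (NumberField.RingOfIntegers k)) → (Fin n → v.adicCompletion k))
    (hQ : ∀ v ∈ T, (∀ i, Q v i ∈ v.adicCompletionIntegers k) ∧ ∃ j, Valued.v (MvPolynomial.aeval (Q v)
      (MvPolynomial.map (algebraMap (NumberField.RingOfIntegers k) k) (f j))) = 1)
    (W : (v : IsDedekindDomain.HeightOneSpectrum (NumberField.RingOfIntegers k)) → Set (Fin n → v.adicCompletion k))
    (hW : ∀ v ∈ T, IsOpen (W v) ∧ Q v ∈ W v)
    (hne : ∀ v : IsDedekindDomain.HeightOneSpectrum (NumberField.RingOfIntegers k), v ∉ Sf → ∃ R : Fin n → v.adicCompletion k,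
      (∀ i, R i ∈ v.adicCompletionIntegers k) ∧ ∃ j, Valued.v (MvPolynomial.aeval R
        (MvPolynomial.map (algebraMap (NumberField.RingOfIntegers k) k) (f j))) = 1) :
    ∃ P : Fin n → k,
      (∀ v : IsDedekindDomain.HeightOneSpectrum (NumberField.RingOfIntegers k), v ∉ Sf → (∀ i, v.valuation k (P i) ≤ 1) ∧
        ∃ j, v.valuation k (MvPolynomial.aeval P
          (MvPolynomial.map (algebraMap (NumberField.RingOfIntegers k) k) (f j))) = 1) ∧
      (∀ v ∈ Sf, v ≠ v₀ → (fun i => algebraMap k (v.adicCompletion k) (P i)) ∈ Nf v) ∧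
      (∀ w : NumberField.InfinitePlace k, (fun i => algebraMap k w.Completion (P i)) ∈ Ni w) ∧
      (∀ v ∈ T, (fun i => algebraMap k (v.adicCompletion k) (P i)) ∈ W v) := by
  set g : Fin m → MvPolynomial (Fin n) k := fun j => mp (f j)
  -- some `f j` is nonzero
  obtain ⟨j₀, hj₀⟩ : ∃ j, g j ≠ 0 := by
    by_contra hall
    push Not at hall
    have hspan : Ideal.span (Set.range g) = ⊥ := Ideal.span_eq_bot.2 (by rintro _ ⟨j, rfl⟩; exact hall j)
    change ringKrullDim (MvPolynomial (Fin n) k ⧸ Ideal.span (Set.range g)) + 2 ≤ _ at hcodim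
    rw [hspan, (ringKrullDim_eq_of_ringEquiv (RingEquiv.quotientBot (MvPolynomial (Fin n) k))),
      MvPolynomial.ringKrullDim_of_isNoetherianRing, ringKrullDim_eq_zero_of_field, zero_add, Nat.card_fin] at hcodim
    have : ((n + 2 : ℕ) : WithBot ℕ∞) ≤ (n : WithBot ℕ∞) := by exact_mod_cast hcodim
    have : n + 2 ≤ n := by exact_mod_cast this
    omega
  set S₀ := (Sf.erase v₀) ∪ T
  have hv₀S : v₀ ∉ S₀ := by
    simp only [S₀, Finset.mem_union, Finset.mem_erase, ne_eq, not_true, false_and, false_or]
    exact fun h => Finset.disjoint_left.1 hT h hv₀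
  -- the conditions at `S₀`
  set G : (v : HeightOneSpectrum (RingOfIntegers k)) → Set (Fin n → v.adicCompletion k) := fun v =>
    if v ∈ T then W v ∩ {x | ∀ i, Valued.v (x i - Q v i) < 1} else Nf v
  have hG : ∀ v ∈ S₀, IsOpen (G v) ∧ (G v).Nonempty := fun v hv => by
    simp only [G]
    split_ifs with h
    · refine ⟨(hW v h).1.inter ?_, Q v, (hW v h).2, fun i => by simp⟩
      rw [Set.setOf_forall]
      exact isOpen_iInter_of_finite fun i =>
        IsOpen.preimage (continuous_apply (A := fun _ : Fin n => v.adicCompletion k) i) (isOpen_lt_one v (Q v i))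
    · rcases Finset.mem_union.1 hv with h' | h'
      · obtain ⟨h1, h2⟩ := Finset.mem_erase.1 h'
        exact ⟨(hNf v h2 h1).1, _, (hNf v h2 h1).2⟩
      · exact absurd h' h
  have hboxf : ∀ v, ∃ O : Fin n → Set (v.adicCompletion k), (∀ i, IsOpen (O i) ∧ (O i).Nonempty) ∧
      (v ∈ S₀ → Set.pi Set.univ O ⊆ G v) := fun v => by
    by_cases hv : v ∈ S₀
    · obtain ⟨x, hx⟩ := (hG v hv).2
      obtain ⟨O, h1, h2⟩ := isOpen_pi_iff'.1 (hG v hv).1 x hx
      exact ⟨O, fun i => ⟨(h1 i).1, _, (h1 i).2⟩, fun _ => h2⟩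
    · exact ⟨fun _ => Set.univ, fun _ => ⟨isOpen_univ, Set.univ_nonempty⟩, fun h => absurd h hv⟩
  choose Of hOf hOfG using hboxf
  have hboxi : ∀ w, ∃ O : Fin n → Set (InfinitePlace.Completion w), (∀ i, IsOpen (O i) ∧ (O i).Nonempty) ∧
      Set.pi Set.univ O ⊆ Ni w := fun w => by
    obtain ⟨O, h1, h2⟩ := isOpen_pi_iff'.1 (hNi w).1 (Pi w) (hNi w).2
    exact ⟨O, fun i => ⟨(h1 i).1, _, (h1 i).2⟩, h2⟩
  choose Oi hOi hOiN using hboxi
  -- a first point
  obtain ⟨P₀, hP₀int, hP₀f, hP₀i, hP₀g⟩ : ∃ P₀ : Fin n → k, (∀ i v, v ∉ S₀ → v ≠ v₀ → v.valuation k (P₀ i) ≤ 1) ∧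
      (∀ v ∈ S₀, (fun i => algebraMap k (v.adicCompletion k) (P₀ i)) ∈ G v) ∧
      (∀ w, (fun i => algebraMap k (InfinitePlace.Completion w) (P₀ i)) ∈ Ni w) ∧
      MvPolynomial.aeval P₀ (g j₀) ≠ 0 := by
    set A : Fin n → Set k := fun i => {c | (∀ v, v ∉ S₀ → v ≠ v₀ → v.valuation k c ≤ 1) ∧
      (∀ v ∈ S₀, algebraMap k (v.adicCompletion k) c ∈ Of v i) ∧ ∀ w, algebraMap k (InfinitePlace.Completion w) c ∈ Oi w i}
    have hinf : ∀ i, (A i).Infinite := fun i hfin => by
      obtain ⟨c, hc, h1, h2, h3⟩ := Groth.Agent.NFApprox.exists_near_not_mem v₀ S₀ hv₀S (fun v => Of v i)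
        (fun v _ => hOf v i) (fun w => Oi w i) (fun w => hOi w i) hfin.toFinset
      exact hc (hfin.mem_toFinset.2 ⟨h1, h2, h3⟩)
    by_contra hcon
    push Not at hcon
    refine hj₀ (MvPolynomial.funext_set A hinf fun x hx => ?_)
    rw [map_zero, ← MvPolynomial.coe_aeval_eq_eval]
    exact hcon x (fun i v h1 h2 => (hx i (Set.mem_univ i)).1 v h1 h2)
      (fun v hv => hOfG v hv fun i _ => (hx i (Set.mem_univ i)).2.1 v hv)
      (fun w => hOiN w fun i _ => (hx i (Set.mem_univ i)).2.2 w)
  -- the bad places of the first point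
  set B₀ := ((Groth.Agent.NFApprox.finite_valuation_ne_one hP₀g).toFinset.filter fun v =>
    ∀ j, v.valuation k (MvPolynomial.aeval P₀ (g j)) ≠ 1).filter fun v => v ∉ Sf ∧ v ∉ T
  have hB₀ : ∀ v, v ∉ Sf → v ∉ T → v ∉ B₀ → ∃ j, v.valuation k (MvPolynomial.aeval P₀ (g j)) = 1 := by
    intro v h1 h2 h3
    simp only [B₀, Finset.mem_filter, Set.Finite.mem_toFinset, Set.mem_ofPred_eq, h1, h2, not_false_iff, and_true] at h3
    by_cases h : v.valuation k (MvPolynomial.aeval P₀ (g j₀)) = 1
    · exact ⟨j₀, h⟩
    · by_contra hcon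
      push Not at hcon
      exact h3 ⟨h, hcon⟩
  have hB₀' : ∀ v ∈ B₀, v ∉ Sf ∧ v ∉ T := fun v hv => (Finset.mem_filter.1 hv).2
  have hv₀B : v₀ ∉ B₀ := fun h => (hB₀' v₀ h).1 hv₀
  -- the direction
  obtain ⟨G₁, hG₁, hcone⟩ := Groth.Agent.NFApprox.exists_cone_poly g hcodim P₀
    ⟨j₀, by rwa [← MvPolynomial.coe_aeval_eq_eval]⟩
  set R : (v : HeightOneSpectrum (RingOfIntegers k)) → Fin n → v.adicCompletion k := fun v =>
    if h : v ∈ B₀ then (hne v (hB₀' v h).1).choose else 0
  have hR : ∀ v ∈ B₀, (∀ i, R v i ∈ v.adicCompletionIntegers k) ∧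
      ∃ j, Valued.v (MvPolynomial.aeval (R v) (g j)) = 1 := fun v hv => by
    simp only [R, dif_pos hv]; exact (hne v (hB₀' v hv).1).choose_spec
  obtain ⟨d, hdint, hdR, hdG⟩ : ∃ d : Fin n → k, (∀ i v, v ∉ B₀ → v ≠ v₀ → v.valuation k (d i) ≤ 1) ∧
      (∀ v ∈ B₀, ∀ i, Valued.v (algebraMap k (v.adicCompletion k) (d i) -
        (R v i - algebraMap k (v.adicCompletion k) (P₀ i))) < 1) ∧ MvPolynomial.eval d G₁ ≠ 0 := by
    set A : Fin n → Set k := fun i => {c | (∀ v, v ∉ B₀ → v ≠ v₀ → v.valuation k c ≤ 1) ∧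
      (∀ v ∈ B₀, algebraMap k (v.adicCompletion k) c ∈
        {x : v.adicCompletion k | Valued.v (x - (R v i - algebraMap k (v.adicCompletion k) (P₀ i))) < 1})}
    have hinf : ∀ i, (A i).Infinite := fun i hfin => by
      obtain ⟨c, hc, h1, h2, -⟩ := Groth.Agent.NFApprox.exists_near_not_mem v₀ B₀ hv₀B
        (fun v => {x : v.adicCompletion k | Valued.v (x - (R v i - algebraMap k (v.adicCompletion k) (P₀ i))) < 1})
        (fun v _ => ⟨isOpen_lt_one v _, _, show Valued.v ((R v i - algebraMap k (v.adicCompletion k) (P₀ i)) - _) < 1 by simp⟩)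
        (fun _ => Set.univ) (fun _ => ⟨isOpen_univ, Set.univ_nonempty⟩) hfin.toFinset
      exact hc (hfin.mem_toFinset.2 ⟨h1, h2⟩)
    by_contra hcon
    push Not at hcon
    refine hG₁ (MvPolynomial.funext_set A hinf fun x hx => ?_)
    rw [map_zero]
    exact hcon x (fun i v h1 h2 => (hx i (Set.mem_univ i)).1 v h1 h2) (fun v hv i => (hx i (Set.mem_univ i)).2 v hv)
  -- the bad places of the line
  set gl : Fin m → Polynomial k := fun j =>
    MvPolynomial.aeval (fun i => Polynomial.C (P₀ i) + Polynomial.C (d i) * Polynomial.X) (g j)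
  obtain ⟨a, ha⟩ := (Submodule.mem_span_range_iff_exists_fun (Polynomial k)).1
    (show (1 : Polynomial k) ∈ Ideal.span (Set.range gl) by rw [hcone d hdG]; trivial)
  set B₁ := ((Finset.univ.biUnion fun j => (Groth.Agent.NFApprox.finite_coeff_bad (a j)).toFinset).filter fun v => v ∉ Sf ∧ v ∉ T) \ B₀
  set F := S₀ ∪ B₀ ∪ B₁
  have hv₀F : v₀ ∉ F := by simp [F, hv₀S, hv₀B, B₁, hv₀]
  set U : (v : HeightOneSpectrum (RingOfIntegers k)) → Set (v.adicCompletion k) := fun v =>
    if v ∈ B₀ then {x | Valued.v (x - 1) < 1} else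
      if v ∈ S₀ then (fun c => fun i => algebraMap k (v.adicCompletion k) (P₀ i) + c * algebraMap k _ (d i)) ⁻¹' G v
      else {x | Valued.v (x - 0) < 1}
  obtain ⟨c, hc₁, hc₂, hc₃⟩ := Groth.Agent.NFApprox.exists_near v₀ F hv₀F U (fun v hv => by
      simp only [U]
      split_ifs with h1 h2
      · exact ⟨isOpen_lt_one v 1, 1, by simp⟩
      · exact ⟨(hG v h2).1.preimage (continuous_line _ _), 0, by simpa using hP₀f v h2⟩
      · exact ⟨isOpen_lt_one v 0, 0, by simp⟩)
    (fun w => (fun c => fun i => algebraMap k (InfinitePlace.Completion w) (P₀ i) + c * algebraMap k _ (d i)) ⁻¹' Ni w)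
    (fun w => ⟨(hNi w).1.preimage (continuous_line _ _), 0, by simpa using hP₀i w⟩)
  set P : Fin n → k := fun i => P₀ i + c * d i with hP
  have hPG : ∀ v ∈ S₀, (fun i => algebraMap k (v.adicCompletion k) (P i)) ∈ G v := by
    intro v hv
    have h1 : v ∉ B₀ := fun h => by
      rcases Finset.mem_union.1 hv with h' | h'
      · exact (hB₀' v h).1 (Finset.mem_of_mem_erase h')
      · exact (hB₀' v h).2 h'
    have := hc₂ v (Finset.mem_union_left _ (Finset.mem_union_left _ hv))
    simp only [U, if_neg h1, if_pos hv, Set.mem_preimage] at this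
    simpa [hP] using this
  refine ⟨P, fun v hv => ?_, fun v hv hv' => ?_, fun w => ?_, fun v hv => ?_⟩
  · have hvne : v ≠ v₀ := fun h => hv (h ▸ hv₀)
    by_cases hvT : v ∈ T
    · have := hPG v (Finset.mem_union_right _ hvT)
      simp only [G, if_pos hvT] at this
      obtain ⟨hQi, j, hQj⟩ := hQ v hvT
      refine ⟨fun i => ?_, j, (congr_global v (f j) P (Q v) hQi this.2).2 hQj⟩
      rw [← v.valuedAdicCompletion_eq_valuation' (P i),
        show ((P i : k) : v.adicCompletion k) = (algebraMap k (v.adicCompletion k) (P i) - Q v i) + Q v i by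
          rw [sub_add_cancel]; rfl]
      exact Valuation.map_add_le _ (this.2 i).le ((mem_adicCompletionIntegers _ _ v).1 (hQi i))
    have hvS : v ∉ S₀ := by
      simp only [S₀, Finset.mem_union, Finset.mem_erase]
      exact fun h => h.elim (fun h => hv h.2) hvT
    by_cases hvB : v ∈ B₀
    · obtain ⟨hRi, j, hRj⟩ := hR v hvB
      have hc' := hc₂ v (Finset.mem_union_left _ (Finset.mem_union_right _ hvB))
      simp only [U, if_pos hvB, Set.mem_ofPred_eq] at hc'
      have hdiff : ∀ i, Valued.v (algebraMap k (v.adicCompletion k) (P i) - R v i) < 1 := fun i => by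
        have hdi := hdR v hvB i
        have hP0i : Valued.v (algebraMap k (v.adicCompletion k) (P₀ i)) ≤ 1 :=
          (v.valuedAdicCompletion_eq_valuation' (P₀ i)).trans_le (hP₀int i v hvS hvne)
        have hd1 : Valued.v (algebraMap k (v.adicCompletion k) (d i)) ≤ 1 := by
          rw [show algebraMap k (v.adicCompletion k) (d i) =
            (algebraMap k (v.adicCompletion k) (d i) - (R v i - algebraMap k (v.adicCompletion k) (P₀ i))) +
              (R v i - algebraMap k (v.adicCompletion k) (P₀ i)) by ring]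
          exact Valuation.map_add_le _ hdi.le (Valuation.map_sub_le _ ((mem_adicCompletionIntegers _ _ v).1 (hRi i)) hP0i)
        rw [show algebraMap k (v.adicCompletion k) (P i) - R v i =
          (algebraMap k (v.adicCompletion k) c - 1) * algebraMap k (v.adicCompletion k) (d i) +
            (algebraMap k (v.adicCompletion k) (d i) - (R v i - algebraMap k (v.adicCompletion k) (P₀ i))) by
            simp only [hP, map_add, map_mul]; ring]
        refine Valuation.map_add_lt _ ?_ hdi
        rw [map_mul]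
        exact lt_of_le_of_lt (mul_le_of_le_one_right' hd1) hc'
      refine ⟨fun i => ?_, j, (congr_global v (f j) P (R v) hRi hdiff).2 hRj⟩
      rw [← v.valuedAdicCompletion_eq_valuation' (P i),
        show ((P i : k) : v.adicCompletion k) = (algebraMap k (v.adicCompletion k) (P i) - R v i) + R v i by
          rw [sub_add_cancel]; rfl]
      exact Valuation.map_add_le _ (hdiff i).le ((mem_adicCompletionIntegers _ _ v).1 (hRi i))
    have hP0int : ∀ i, v.valuation k (P₀ i) ≤ 1 := fun i => hP₀int i v hvS hvne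
    have hd1 : ∀ i, v.valuation k (d i) ≤ 1 := fun i => hdint i v hvB hvne
    by_cases hvB₁ : v ∈ B₁
    · obtain ⟨j, hj⟩ := hB₀ v hv hvT hvB
      have hc' := hc₂ v (Finset.mem_union_right _ hvB₁)
      simp only [U, if_neg hvB, if_neg hvS, Set.mem_ofPred_eq, sub_zero] at hc'
      have hc1 : v.valuation k c < 1 := (v.valuedAdicCompletion_eq_valuation' c).symm.trans_lt hc'
      have hcd : ∀ i, v.valuation k (c * d i) < 1 := fun i => by
        rw [map_mul]; exact lt_of_le_of_lt (mul_le_of_le_one_right' (hd1 i)) hc1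
      refine ⟨fun i => Valuation.map_add_le _ (hP0int i) (hcd i).le, j,
        (congr_global v (f j) P (fun i => algebraMap k _ (P₀ i)) (fun i => ?_) (fun i => ?_)).2 ?_⟩
      · rw [mem_adicCompletionIntegers]
        exact (v.valuedAdicCompletion_eq_valuation' (P₀ i)).trans_le (hP0int i)
      · rw [← map_sub, show P i - P₀ i = c * d i by simp [hP]]
        exact (v.valuedAdicCompletion_eq_valuation' (c * d i)).trans_lt (hcd i)
      · rw [aeval_algebraMap]
        exact (v.valuedAdicCompletion_eq_valuation' (MvPolynomial.aeval P₀ (mp (f j)))).trans hj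
    · have hvF : v ∉ F := by simp [F, hvS, hvB, hvB₁]
      have hc1 : v.valuation k c ≤ 1 := hc₁ v hvF hvne
      have hPint : ∀ i, v.valuation k (P i) ≤ 1 := fun i =>
        Valuation.map_add_le _ (hP0int i) (by rw [map_mul]; exact mul_le_one' hc1 (hd1 i))
      refine ⟨hPint, ?_⟩
      by_contra hall
      push Not at hall
      have hev : ∀ j, (gl j).eval c = MvPolynomial.aeval P (g j) := fun j => by
        have := congrFun (congrArg DFunLike.coe (MvPolynomial.comp_aeval
          (fun i => Polynomial.C (P₀ i) + Polynomial.C (d i) * Polynomial.X) (Polynomial.aeval c))) (g j)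
        simp only [AlgHom.comp_apply] at this
        rw [← Polynomial.coe_aeval_eq_eval]
        refine this.trans ?_
        congr 2
        ext i
        simp [hP]
        ring
      have hlt : ∀ j, v.valuation k (MvPolynomial.aeval P (g j)) < 1 := fun j =>
        lt_of_le_of_ne (congr_global v (f j) P (fun i => algebraMap k _ (P i))
          (fun i => (mem_adicCompletionIntegers _ _ v).2 ((v.valuedAdicCompletion_eq_valuation' (P i)).trans_le (hPint i)))
          (fun i => by simp)).1 (hall j)
      have h1 := congrArg (Polynomial.eval c) ha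
      rw [Polynomial.eval_finsetSum, Polynomial.eval_one] at h1
      have h2 : v.valuation k (∑ j, (a j • gl j).eval c) < 1 := by
        refine Valuation.map_sum_lt _ one_ne_zero fun j _ => ?_
        rw [smul_eq_mul, Polynomial.eval_mul, map_mul, hev]
        refine lt_of_le_of_lt (mul_le_of_le_one_left' (Groth.Agent.NFApprox.valuation_eval_le v (fun i => ?_) hc1)) (hlt j)
        by_contra hbad
        push Not at hbad
        apply hvB₁
        simp only [B₁, Finset.mem_sdiff, Finset.mem_filter, Finset.mem_biUnion, Finset.mem_univ, true_and,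
          Set.Finite.mem_toFinset]
        exact ⟨⟨⟨j, i, hbad⟩, hv, hvT⟩, hvB⟩
      rw [h1, map_one] at h2
      exact lt_irrefl _ h2
  · have := hPG v (Finset.mem_union_left _ (Finset.mem_erase.2 ⟨hv', hv⟩))
    simpa only [G, if_neg (fun h => Finset.disjoint_left.1 hT h hv)] using this
  · have := hc₃ w
    simpa only [hP, map_add, map_mul, Set.mem_preimage] using this
  · have := hPG v (Finset.mem_union_right _ hv)
    simp only [G, if_pos hv] at this
    exact this.1

end Groth.Agent.S19976
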