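import Groth.Statements.S19977
import Groth.Agent.LimGrp.ActStage
import Groth.Agent.GITLib.Pushforward
import Groth.Agent.LimTors.Basic
import Groth.Agent.LimLib.Props
import Groth.Agent.PrincFP.Basic
import Groth.Agent.S6092
-- import your own Groth.Agent.* helpers here

set_option autoImplicit false
universe u
open CategoryTheory CategoryTheory.Limits MonoidalCategory CartesianMonoidalCategory MonObj AlgebraicGeometry
open NonAbH1

namespace Groth.Agent.S19977

open CategoryTheory.Limits MonoidalCategory CartesianMonoidalCategory MonObj Groth.Agent.LimGrp Groth.Agent.GITLib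

set_option linter.style.haveILetI false
set_option backward.isDefEq.respectTransparency false
set_option synthInstance.maxHeartbeats 400000

/-- The comparisons along two composable transition maps agree with the direct one. -/
theorem cmp_triangle {S₀ K J M T : Scheme.{u}} (G : Over S₀) (gk : K ⟶ S₀) (gj : J ⟶ S₀) (gm : M ⟶ S₀)
    (gT : T ⟶ S₀) (u : J ⟶ K) (q : M ⟶ J) (πk : T ⟶ K) (πj : T ⟶ J) (πm : T ⟶ M) (wu : πj ≫ u = πk)
    (wq : πm ≫ q = πj) (hu : u ≫ gk = gj) (hq : q ≫ gj = gm) (wk : πk ≫ gk = gT) (hh : πm ≫ gm = gT) :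
    (cmp wq (Red.bc u (Red.bc gk G))).hom ≫ (cmp wu (Red.bc gk G)).hom ≫ (cmp wk G).hom =
      (Over.pullback πm).map ((Over.pullback q).map (cmp hu G).hom ≫ (cmp hq G).hom) ≫
        (ActBC.bcCompIso πm gm G hh).hom := by
  refine bc_hom_ext ?_
  simp only [Over.comp_left, Category.assoc]
  rw [cmp_fst wk G, reassoc_of% cmp_fst wu (Red.bc gk G), reassoc_of% cmp_fst wq (Red.bc u (Red.bc gk G)),
    ActBC.bcCompIso_hom_left_fst, reassoc_of% bc_map_fst πm
      ((Over.pullback q).map (cmp hu G).hom ≫ (cmp hq G).hom)]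
  rw [Over.comp_left, Category.assoc, cmp_fst hq G, reassoc_of% bc_map_fst q (cmp hu G).hom, cmp_fst hu G]

/-- Let k be a field and X a quasi-compact and quasi-separated k-scheme. Let (T_i)_{i ∈ I} be a
cofiltered inverse system of X-schemes that are affine over X, with limit T over X (in the source
the T_i are torsors over X under affine k-group schemes of finite type, forming a projective system
of torsors; only their being affine over the quasi-compact quasi-separated X enters). Let G be a
finite k-group scheme and V → T a finite T-scheme with an action of G ×_k T for which it is a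
G-torsor over T for the fpqc topology. Then there exist an index i, a finite T_i-scheme V_i with an
action of G ×_k T_i making it an fpqc G-torsor over T_i, and a G-equivariant isomorphism of
T-schemes between V_i ×_{T_i} T and V; the two base changes of G to T are compared through the
canonical isomorphism (G ×_k T_i) ×_{T_i} T ≅ G ×_k T. (The further assertions — V_i Nori-reduced
when V is, descent of morphisms of torsors, pointed versions — are not stated.) -/
theorem result (k : Type u) [Field k]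
    (X : Scheme.{u}) [X.Over (Spec (CommRingCat.of k))] [CompactSpace X] [QuasiSeparatedSpace X]
    {I : Type u} [SmallCategory I] [IsCofiltered I]
    (DT : I ⥤ Over X) [∀ i, IsAffineHom (DT.obj i).hom]
    (cT : Cone DT) (hcT : IsLimit cT)
    (G : Over (Spec (CommRingCat.of k))) [GrpObj G] [IsFinite G.hom]
    (V : Over cT.pt.left) [IsFinite V.hom]
    (a : AlgGrp.Action (Red.bc (cT.pt.hom ≫ (X ↘ Spec (CommRingCat.of k))) G) V)
    (hV : NonAbH1.IsTorsorFor Scheme.fpqcPrecoverage a) :
    ∃ (i : I) (h : (cT.π.app i).left ≫ ((DT.obj i).hom ≫ (X ↘ Spec (CommRingCat.of k))) = cT.pt.hom ≫ (X ↘ Spec (CommRingCat.of k)))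
      (Vi : Over (DT.obj i).left) (ai : AlgGrp.Action (Red.bc ((DT.obj i).hom ≫ (X ↘ Spec (CommRingCat.of k))) G) Vi),
      IsFinite Vi.hom ∧ NonAbH1.IsTorsorFor Scheme.fpqcPrecoverage ai ∧
      Nonempty (NonAbH1.EquivIso (ai.bc (cT.π.app i).left)
        (a.restrict (ActBC.bcCompIso (cT.π.app i).left ((DT.obj i).hom ≫ (X ↘ Spec (CommRingCat.of k))) G h).hom)) := by
  let pX := X ↘ Spec (CommRingCat.of k)
  let D : I ⥤ Scheme.{u} := DT ⋙ Over.forget X
  let c : Cone D := (Over.forget X).mapCone cT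
  have hc : IsLimit c := LimTors.isLimitForget DT hcT
  haveI : ∀ (i i' : I) (f : i ⟶ i'), IsAffineHom (D.map f) := fun i i' f => LimTors.isAffineHom_map DT f
  haveI : ∀ i, CompactSpace (D.obj i) := fun i => QuasiCompact.compactSpace_of_compactSpace (DT.obj i).hom
  haveI : ∀ i, QuasiSeparatedSpace (D.obj i) := fun i => quasiSeparatedSpace_of_quasiSeparated (DT.obj i).hom
  haveI : IsAffineHom cT.pt.hom := LimTors.isAffineHom_pt DT hcT
  haveI : CompactSpace cT.pt.left := QuasiCompact.compactSpace_of_compactSpace cT.pt.hom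
  haveI : QuasiSeparatedSpace cT.pt.left := quasiSeparatedSpace_of_quasiSeparated cT.pt.hom
  haveI := (PrincFP.finite_lfp_flat G).1
  haveI := (PrincFP.finite_lfp_flat G).2
  haveI : LocallyOfFinitePresentation V.hom := property_of_torsor @LocallyOfFinitePresentation hV
    (MorphismProperty.pullback_snd _ _ inferInstance)
  haveI : Flat V.hom := property_of_torsor @Flat hV (MorphismProperty.pullback_snd _ _ inferInstance)
  haveI : Surjective V.hom := surjective_of_isLocallyTrivialFor hV.2
  let v : V.left ⟶ c.pt := V.hom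
  haveI : LocallyOfFinitePresentation v := inferInstanceAs (LocallyOfFinitePresentation V.hom)
  haveI : CompactSpace V.left := QuasiCompact.compactSpace_of_compactSpace V.hom
  haveI : QuasiSeparatedSpace V.left := quasiSeparatedSpace_of_quasiSeparated V.hom
  obtain ⟨i₀, X₀, f₀, g₀, g1, g2, g3, hsq⟩ := LimLib.hasModel hc v
  obtain ⟨k₀, φ₀, hfin₀⟩ := LimLib.descends_isFinite D c hc inferInstance inferInstance inferInstance i₀ X₀ f₀
    g2 g3 (inferInstanceAs (LocallyOfFiniteType f₀)) V.left g₀ v hsq (inferInstanceAs (IsFinite V.hom))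
  obtain ⟨f1, f2, f3, hk⟩ := LimLib.HasModel.at_finer g1 g2 g3 hsq φ₀
  let Vk : Over (D.obj k₀) := Over.mk (pullback.snd f₀ (D.map φ₀))
  haveI : LocallyOfFinitePresentation Vk.hom := f1
  haveI : IsFinite Vk.hom := hfin₀
  let Gk := Red.bc ((DT.obj k₀).hom ≫ pX) G
  haveI : IsFinite Gk.hom := MorphismProperty.pullback_snd _ _ inferInstance
  haveI : LocallyOfFinitePresentation Gk.hom := MorphismProperty.pullback_snd _ _ inferInstance
  let e0 : V ≅ Red.bc (c.π.app k₀) Vk := Over.isoMk hk.isoPullback hk.isoPullback_hom_snd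
  have wk : c.π.app k₀ ≫ (DT.obj k₀).hom ≫ pX = cT.pt.hom ≫ pX := by
    rw [← Category.assoc]
    exact congrArg (· ≫ pX) (Over.w (cT.π.app k₀))
  haveI := isMonHom_cmp wk G
  obtain ⟨b, hb⟩ := exists_transport a (cmp wk G) e0.symm
  obtain ⟨j, u, act, hact⟩ := exists_stage_action hc b
  haveI : IsFinite (Red.bc (D.map u) Gk).hom := MorphismProperty.pullback_snd _ _ inferInstance
  haveI : IsFinite (Red.bc (D.map u) Vk).hom := MorphismProperty.pullback_snd _ _ inferInstance
  have hkey := hact.comp hb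
  haveI := isMonHom_cmp (c.w u) Gk
  let Φ := cmp (c.w u) Gk ≪≫ cmp wk G
  let Ψ := cmp (c.w u) Vk ≪≫ e0.symm
  have hT : NonAbH1.IsPseudoTorsorSch (act.bc (c.π.app j)) := isPseudoTorsor_of_tw Φ Ψ hkey hV.1
  let Z := Red.bc (c.π.app j) (Red.bc (D.map u) Vk)
  have hcov : ∃ (Z' : Scheme.{u}) (q : Z' ⟶ c.pt) (w : Z' ⟶ Z.left), w ≫ Z.hom = q ∧ Flat q ∧ Surjective q ∧
      LocallyOfFinitePresentation q ∧ QuasiCompact q ∧ QuasiSeparated q :=
    ⟨V.left, V.hom, Ψ.inv.left, Over.w Ψ.inv, inferInstance, inferInstance, inferInstance, inferInstance,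
      inferInstance⟩
  obtain ⟨m, q, hps, Z', q', w', hw', q1, q2, q3, q4, q5⟩ :=
    (Groth.Agent.S6092.result D c hc j (Red.bc (D.map u) Gk) (Red.bc (D.map u) Vk) act).1 ⟨hT, hcov⟩
  let Vm := Red.bc (D.map q) (Red.bc (D.map u) Vk)
  haveI : IsFinite Vm.hom := MorphismProperty.pullback_snd _ _ inferInstance
  have hu' : D.map u ≫ (DT.obj k₀).hom ≫ pX = (DT.obj j).hom ≫ pX := by
    rw [← Category.assoc]; exact congrArg (· ≫ pX) (Over.w (DT.map u))
  have hq' : D.map q ≫ (DT.obj j).hom ≫ pX = (DT.obj m).hom ≫ pX := by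
    rw [← Category.assoc]; exact congrArg (· ≫ pX) (Over.w (DT.map q))
  haveI := isMonHom_cmp hu' G
  haveI := isMonHom_cmp hq' G
  let θ : Red.bc (D.map q) (Red.bc (D.map u) Gk) ≅ Red.bc ((DT.obj m).hom ≫ pX) G :=
    (Over.pullback (D.map q)).mapIso (cmp hu' G) ≪≫ cmp hq' G
  haveI : IsMonHom θ.hom := inferInstanceAs
    (IsMonHom ((Over.pullback (D.map q)).map (cmp hu' G).hom ≫ (cmp hq' G).hom))
  let am := act.bc (D.map q)
  let ai := am.restrict θ.inv
  have hai : Tw ai am θ.inv (Iso.refl Vm).hom := Tw.restrict am θ.inv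
  have hh : (c.π.app m) ≫ (DT.obj m).hom ≫ pX = cT.pt.hom ≫ pX := by
    rw [← Category.assoc]; exact congrArg (· ≫ pX) (Over.w (cT.π.app m))
  refine ⟨m, hh, Vm, ai, inferInstance, ⟨isPseudoTorsor_of_tw θ.symm (Iso.refl Vm) hai hps,
    Presieve.singleton q', Scheme.fppfPrecoverage_le_fpqcPrecoverage _ q'.singleton_mem_fppfPrecoverage, ?_⟩, ?_⟩
  · rintro S' g ⟨⟩
    exact ⟨w', hw'⟩
  have htot := ((Tw.bc (c.π.app m) hai).comp (Tw.bc_bc (c.w q) act)).comp hkey
  let E : Red.bc (c.π.app m) Vm ≅ V :=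
    ((Over.pullback (c.π.app m)).mapIso (Iso.refl Vm) ≪≫ cmp (c.w q) (Red.bc (D.map u) Vk)) ≪≫ Ψ
  have hiso : ((Over.pullback (c.π.app m)).map θ.inv ≫ (cmp (c.w q) (Red.bc (D.map u) Gk)).hom) ≫ Φ.hom =
      (ActBC.bcCompIso (c.π.app m) ((DT.obj m).hom ≫ pX) G hh).hom := by
    rw [Category.assoc, ← cancel_epi ((Over.pullback (c.π.app m)).map θ.hom), ← Functor.map_comp_assoc,
      Iso.hom_inv_id, CategoryTheory.Functor.map_id, Category.id_comp]
    exact (cmp_triangle G _ _ _ _ (D.map u) (D.map q) (c.π.app k₀) (c.π.app j) (c.π.app m) (c.w u) (c.w q)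
      hu' hq' wk hh :)
  exact ⟨Tw.equivIso E (htot.congr hiso)⟩


end Groth.Agent.S19977
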