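import Groth.Statements.S1998
import Mathlib

set_option autoImplicit false
universe u
open EtAlg
open Polynomial

namespace Groth.Agent.S1998

/-- Let (A_j, I_j) be a directed system of henselian pairs (ring maps A_j -> A_k for j ≤ k carrying I_j
into I_k). Then the direct limit A of the A_j together with the ideal generated by the images of the
I_j is a henselian pair. -/
theorem result {ι : Type u} [Preorder ι] [IsDirected ι (· ≤ ·)] [Nonempty ι]
    (G : ι → Type u) [∀ i, CommRing (G i)] (f : ∀ i j, i ≤ j → G i →+* G j)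
    [DirectedSystem G fun i j h => f i j h] (I : ∀ i, Ideal (G i))
    (hI : ∀ i j (h : i ≤ j), (I i).map (f i j h) ≤ I j) (hh : ∀ i, HenselianRing (G i) (I i)) :
    HenselianRing (Ring.DirectLimit G fun i j h => f i j h)
      (⨆ i, (I i).map (Ring.DirectLimit.of G (fun i j h => f i j h) i)) := by
  classical
  set of := Ring.DirectLimit.of G (fun i j h => f i j h) with hof
  set A := Ring.DirectLimit G fun i j h => f i j h
  set J := ⨆ i, (I i).map (of i) with hJ
  have hofc : ∀ i j (h : i ≤ j), (of j).comp (f i j h) = of i := fun i j h => RingHom.ext fun x => Ring.DirectLimit.of_f h x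
  have hdir : Directed (· ≤ ·) fun i => (I i).map (of i) := fun i j => by
    obtain ⟨l, hil, hjl⟩ := exists_ge_ge i j
    refine ⟨l, ?_, ?_⟩
    · simp only; rw [← hofc i l hil, ← Ideal.map_map]; exact Ideal.map_mono (hI i l hil)
    · simp only; rw [← hofc j l hjl, ← Ideal.map_map]; exact Ideal.map_mono (hI j l hjl)
  have hle : ∀ i j, i ≤ j → ∀ x ∈ I i, ∀ h, f i j h x ∈ I j := fun i j _ x hx h => hI i j h (Ideal.mem_map_of_mem _ hx)
  -- elements of `J` come from a stage
  have hmem : ∀ x ∈ J, ∃ i, ∃ y ∈ I i, of i y = x := by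
    intro x hx
    obtain ⟨i, hi⟩ := (Submodule.mem_iSup_of_directed _ hdir).mp hx
    clear hx
    induction hi using Submodule.span_induction with
    | mem x hx => obtain ⟨y, hy, rfl⟩ := hx; exact ⟨i, y, hy, rfl⟩
    | zero => exact ⟨i, 0, zero_mem _, map_zero _⟩
    | add x y _ _ ihx ihy =>
      obtain ⟨i₁, a, ha, rfl⟩ := ihx; obtain ⟨i₂, b, hb, rfl⟩ := ihy
      obtain ⟨l, h1, h2⟩ := exists_ge_ge i₁ i₂
      exact ⟨l, f _ _ h1 a + f _ _ h2 b, add_mem (hle _ _ h1 _ ha _) (hle _ _ h2 _ hb _), by rw [map_add]; simp [of]⟩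
    | smul c x _ ih =>
      obtain ⟨i₁, a, ha, rfl⟩ := ih
      obtain ⟨i₂, c, rfl⟩ := Ring.DirectLimit.exists_of c
      obtain ⟨l, h1, h2⟩ := exists_ge_ge i₁ i₂
      exact ⟨l, f _ _ h2 c * f _ _ h1 a, Ideal.mul_mem_left _ _ (hle _ _ h1 _ ha _), by rw [map_mul]; simp [of]⟩
  -- membership in `J` is witnessed at a later stage
  have hmem' : ∀ i (z : G i), of i z ∈ J → ∃ l, ∃ h : i ≤ l, f i l h z ∈ I l := by
    intro i z hz
    obtain ⟨j, y, hy, hyz⟩ := hmem _ hz
    obtain ⟨m, him, hjm⟩ := exists_ge_ge i j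
    have h0 : of m (f i m him z - f j m hjm y) = 0 := by
      rw [map_sub, ← RingHom.comp_apply, ← RingHom.comp_apply, hofc, hofc, hyz, sub_self]
    obtain ⟨l, hml, hl⟩ := Ring.DirectLimit.of.zero_exact h0
    refine ⟨l, him.trans hml, ?_⟩
    rw [map_sub, DirectedSystem.map_map' (f := fun i j h => f i j h), DirectedSystem.map_map' (f := fun i j h => f i j h), sub_eq_zero] at hl
    rw [hl]
    exact hle _ _ (hjm.trans hml) _ hy _
  refine ⟨fun x hx => ?_, fun P hP a₀ h0 hd => ?_⟩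
  · rw [Ideal.mem_jacobson_bot]
    intro y
    obtain ⟨i, z, hz, hzx⟩ := hmem _ (Ideal.mul_mem_right y J hx)
    rw [← hzx, ← map_one (of i), ← map_add]
    exact ((by simpa using Ideal.mem_jacobson_bot.mp ((hh i).jac hz) 1 : IsUnit (z + 1))).map _
  obtain ⟨i₁, Q₁, hQ₁⟩ := Ring.DirectLimit.Polynomial.exists_of P
  obtain ⟨i₂, x₂, hx₂⟩ := Ring.DirectLimit.exists_of a₀
  obtain ⟨b, hb⟩ := hd.exists_right_inv
  obtain ⟨b, rfl⟩ := Ideal.Quotient.mk_surjective b
  rw [← map_mul, ← map_one (Ideal.Quotient.mk J), Ideal.Quotient.eq] at hb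
  obtain ⟨i₃, b₃, rfl⟩ := Ring.DirectLimit.exists_of b
  obtain ⟨i₀, h1, h2⟩ := exists_ge_ge i₁ i₂
  obtain ⟨i, hi0, h3⟩ := exists_ge_ge i₀ i₃
  -- make the lift monic
  obtain ⟨R, hR, -, hRm⟩ := Polynomial.lifts_and_natDegree_eq_and_monic (f := of i) (p := P)
    ⟨Q₁.map (f i₁ i (h1.trans hi0)), by rw [Polynomial.coe_mapRingHom, Polynomial.map_map, hofc]; exact hQ₁⟩ hP
  set x := f i₂ i (h2.trans hi0) x₂
  set b' := f i₃ i h3 b₃
  have hx : of i x = a₀ := by rw [← hx₂]; exact Ring.DirectLimit.of_f (G := G) (f := fun i j h => f i j h) _ _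
  have hb' : of i b' = of i₃ b₃ := Ring.DirectLimit.of_f (G := G) (f := fun i j h => f i j h) _ _
  rw [← hR, ← hx, Polynomial.eval_map_apply] at h0
  rw [← hR, ← hx, derivative_map, Polynomial.eval_map_apply, ← hb', ← map_mul, ← map_one (of i), ← map_sub] at hb
  obtain ⟨l₁, hl₁, hA⟩ := hmem' i _ h0
  obtain ⟨l₂, hl₂, hB⟩ := hmem' i _ hb
  obtain ⟨l, hl1, hl2⟩ := exists_ge_ge l₁ l₂
  have hil : i ≤ l := hl₁.trans hl1
  have hA' : f i l hil (R.eval x) ∈ I l := by
    rw [← DirectedSystem.map_map' (f := fun i j h => f i j h) hl₁ hl1]; exact hle _ _ hl1 _ hA _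
  have hB' : f i l hil (R.derivative.eval x * b' - 1) ∈ I l := by
    rw [← DirectedSystem.map_map' (f := fun i j h => f i j h) hl₂ hl2]; exact hle _ _ hl2 _ hB _
  obtain ⟨r, hr, hr'⟩ := (hh l).is_henselian (R.map (f i l hil)) (hRm.map _) (f i l hil x)
    (by rw [Polynomial.eval_map_apply]; exact hA')
    (IsUnit.of_mul_eq_one (Ideal.Quotient.mk (I l) (f i l hil b')) (by
      rw [← map_mul, ← map_one (Ideal.Quotient.mk (I l)), Ideal.Quotient.eq, derivative_map, Polynomial.eval_map_apply, ← map_mul, ← map_one (f i l hil), ← map_sub]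
      exact hB'))
  refine ⟨of l r, ?_, ?_⟩
  · rw [Polynomial.IsRoot, ← hR, ← hofc i l hil, ← Polynomial.map_map, Polynomial.eval_map_apply, hr, map_zero]
  · rw [← hx, show of i x = of l (f i l hil x) from (DFunLike.congr_fun (hofc i l hil) x).symm, ← map_sub]
    exact Submodule.mem_iSup_of_mem l (Ideal.mem_map_of_mem _ hr')

end Groth.Agent.S1998
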