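import Groth.Statements.S19985
import Groth.Agent.RelConeLib.Retraction

set_option autoImplicit false
universe u
open CategoryTheory CategoryTheory.Limits AlgebraicGeometry Opposite TopologicalSpace
open scoped HomogeneousIdeal
noncomputable section
open EGA2

namespace Groth.Agent.S19985

/-- Let 𝒮 be a quasi-coherent positively graded O_Y-algebra with 𝒮_0 = O_Y which is generated by 𝒮_1
(over every affine open U the ring 𝒮(U) is generated by its degree-0 and degree-1 parts), Ŝ = 𝒮[z]
(graded homomorphism ι : 𝒮 → Ŝ and a degree-one global section z, polynomial over affine opens), C =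
Spec(𝒮), X = Proj(𝒮) and Ĉ = Proj(Ŝ) with their charts, E ⊆ C and Ê ⊆ Ĉ the pointed cones, i : C → Ĉ
the canonical open immersion and p : Ê → X the canonical retraction (the morphism which on each
affine piece Spec Ŝ(U)_(ι f), f ∈ 𝒮(U) homogeneous of positive degree, is Spec of 𝒮(U)_(f) → Ŝ(U)_(ι
f) followed by the chart of X). Then p is of finite type (locally of finite type and quasi-compact)
and for every point x of X the fibre p⁻¹(x) = Ê ×_X Spec k(x) is isomorphic over k(x) to the affine
line Spec k(x)[T]; and for every factorisation i' : E → Ê of i restricted to E, the composite π = p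
∘ i' : E → X is of finite type and its fibre at every x is isomorphic over k(x) to Spec k(x)[T,
T⁻¹]. -/
theorem result {Y PC P : Scheme.{u}} (𝒮 𝒮h : RelProj.QCGrAlg Y) (h0 : RelCone.StrZeroBij 𝒮)
    (hgen : 𝒮.IsGenDegOne)
    (ι : 𝒮.toQCAlg ⟶ 𝒮h.toQCAlg) (z : 𝒮h.presheaf.obj (op ⊤)) (hz : RelCone.IsPolyOver 𝒮 𝒮h ι z)
    (pC : PC ⟶ Y)
    (chartC : ∀ (U : Y.Opens) (hU : IsAffineOpen U), (((pC ⁻¹ᵁ U : PC.Opens) : Scheme.{u}) ≅ Proj (𝒮h.deg U hU)))
    (hPC : RelProj.IsRelProj 𝒮h pC chartC)
    (p : P ⟶ Y)
    (chart : ∀ (U : Y.Opens) (hU : IsAffineOpen U), (((p ⁻¹ᵁ U : P.Opens) : Scheme.{u}) ≅ Proj (𝒮.deg U hU)))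
    (hP : RelProj.IsRelProj 𝒮 p chart)
    (i : 𝒮.toQCAlg.spec ⟶ PC) (hi : RelCone.IsConeImm 𝒮 hz pC chartC i)
    (r : ((RelCone.pointedProjCone 𝒮 hz pC chartC : PC.Opens) : Scheme.{u}) ⟶ P)
    (hr : (∀ (U : Y.Opens) (hU : IsAffineOpen U) (d : ℕ) (hd : 0 < d) (f : 𝒮.presheaf.obj (op U)) (hf : f ∈ 𝒮.deg U hU d)
        (g : Spec (CommRingCat.of (HomogeneousLocalization.Away (𝒮h.deg U hU) ((RelProj.gradedHomAt ι hz.graded U hU) f))) ⟶
          ((RelCone.pointedProjCone 𝒮 hz pC chartC : PC.Opens) : Scheme.{u})),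
        g ≫ (RelCone.pointedProjCone 𝒮 hz pC chartC).ι =
            Proj.awayι (𝒮h.deg U hU) ((RelProj.gradedHomAt ι hz.graded U hU) f) ((RelProj.gradedHomAt ι hz.graded U hU).2 hf) hd ≫
              RelProj.emb pC chartC U hU →
          g ≫ r =
            Spec.map (CommRingCat.ofHom (HomogeneousLocalization.Away.map (RelProj.gradedHomAt ι hz.graded U hU) f)) ≫
              Proj.awayι (𝒮.deg U hU) f hf hd ≫ RelProj.emb p chart U hU)) :
    (LocallyOfFiniteType r ∧ QuasiCompact r ∧
        ∀ x : ↥P, ∃ e : pullback r (P.fromSpecResidueField x) ≅ Spec (CommRingCat.of (Polynomial (P.residueField x))),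
          e.hom ≫ Spec.map (CommRingCat.ofHom (algebraMap (P.residueField x) (Polynomial (P.residueField x)))) =
            pullback.snd r (P.fromSpecResidueField x)) ∧
      ∀ i' : ((RelCone.pointedCone 𝒮 : 𝒮.toQCAlg.spec.Opens) : Scheme.{u}) ⟶
          ((RelCone.pointedProjCone 𝒮 hz pC chartC : PC.Opens) : Scheme.{u}),
        i' ≫ (RelCone.pointedProjCone 𝒮 hz pC chartC).ι = (RelCone.pointedCone 𝒮).ι ≫ i →
          LocallyOfFiniteType (i' ≫ r) ∧ QuasiCompact (i' ≫ r) ∧
        ∀ x : ↥P, ∃ e : pullback (i' ≫ r) (P.fromSpecResidueField x) ≅ Spec (CommRingCat.of (LaurentPolynomial (P.residueField x))),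
          e.hom ≫ Spec.map (CommRingCat.ofHom (algebraMap (P.residueField x) (LaurentPolynomial (P.residueField x)))) =
            pullback.snd (i' ≫ r) (P.fromSpecResidueField x) := by
  classical
  revert r hr
  rw [RelConeLib.pointedProjCone_eq_domQ hz pC chartC]
  intro r hr
  have haff := RelConeLib.retr_isAffineHom hP hPC hr
  refine ⟨?_, fun i' hi' => ?_⟩
  · obtain ⟨h1, h2⟩ := RelConeLib.finiteType_fibre (p := p) (chart := chart) hgen r (fun K => CommRingCat.of (Polynomial K))
      (fun K => CommRingCat.ofHom (algebraMap K (Polynomial K))) fun U hU f hf => by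
      obtain ⟨e, he⟩ := RelConeLib.exists_polynomial_equiv (φ := RelProj.gradedHomAt ι hz.graded U hU) (hz.bij U hU) hf
      refine ⟨_, CommRingCat.ofHom (HomogeneousLocalization.Away.map (RelProj.gradedHomAt ι hz.graded U hU) f),
        RelConeLib.retrChart U hU one_pos hf, inferInstance, hr U hU 1 one_pos f hf _ (IsOpenImmersion.lift_fac _ _ _),
        ?_, ?_, fun K θ => Groth.Agent.ProjSpec.exists_isPushout_polynomial _ e he θ⟩
      · rw [RelConeLib.retr_preimage hP hPC hr U hU one_pos hf]
        exact Scheme.Hom.image_top_eq_opensRange _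
      · have h : HomogeneousLocalization.Away.map (RelProj.gradedHomAt ι hz.graded U hU) f =
            e.toRingHom.comp (Polynomial.C : HomogeneousLocalization.Away (𝒮.deg U hU) f →+* _) :=
          RingHom.ext fun c => (he c).symm
        rw [CommRingCat.hom_ofHom, h]
        exact (RingHom.FiniteType.of_surjective _ e.surjective).comp
          (RingHom.finiteType_algebraMap.2 inferInstance :
            (algebraMap (HomogeneousLocalization.Away (𝒮.deg U hU) f)
              (Polynomial (HomogeneousLocalization.Away (𝒮.deg U hU) f))).FiniteType)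
    exact ⟨h1, inferInstance, h2⟩
  · have haff' := RelConeLib.cone_isAffineHom hPC hP hi hr i' hi'
    obtain ⟨h1, h2⟩ := RelConeLib.finiteType_fibre (p := p) (chart := chart) hgen (i' ≫ r)
      (fun K => CommRingCat.of (LaurentPolynomial K))
      (fun K => CommRingCat.ofHom (algebraMap K (LaurentPolynomial K))) fun U hU f hf => by
      obtain ⟨e, he⟩ := RelConeLib.exists_laurent_equiv hf
      refine ⟨_, CommRingCat.ofHom (algebraMap (HomogeneousLocalization.Away (𝒮.deg U hU) f) (Localization.Away f)),
        RelConeLib.coneLift 𝒮 U hU one_pos hf, inferInstance, RelConeLib.coneLift_comp hi hr i' hi' U hU one_pos hf,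
        ?_, ?_, fun K θ => Groth.Agent.ProjSpec.exists_isPushout_laurent _ e he θ⟩
      · rw [RelConeLib.cone_preimage hPC hP hi hr i' hi' U hU one_pos hf]
        exact RelConeLib.opensRange_coneLift U hU one_pos hf
      · have h : algebraMap (HomogeneousLocalization.Away (𝒮.deg U hU) f) (Localization.Away f) =
            e.toRingHom.comp (LaurentPolynomial.C : HomogeneousLocalization.Away (𝒮.deg U hU) f →+* _) :=
          RingHom.ext fun c => (he c).symm
        rw [CommRingCat.hom_ofHom, h]
        exact (RingHom.FiniteType.of_surjective _ e.surjective).comp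
          (RingHom.finiteType_algebraMap.2 inferInstance :
            (algebraMap (HomogeneousLocalization.Away (𝒮.deg U hU) f)
              (LaurentPolynomial (HomogeneousLocalization.Away (𝒮.deg U hU) f))).FiniteType)
    exact ⟨h1, inferInstance, h2⟩

end Groth.Agent.S19985
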