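import Groth.Statements.S1999
import Groth.Agent.EtRamLib.Inertia

set_option autoImplicit false
universe u
open scoped Pointwise
open EtAlg

namespace Groth.Agent.S1999

/-- Parts (2)–(5) in the case of part (6): let A be a discrete valuation ring with fraction field K, L/K
a finite Galois extension with group G, B the integral closure of A in L, m a maximal ideal of B
whose residue field is separable over that of A, and e the ramification index of m over A. Let D be
the decomposition group (stabilizer of m), I the inertia group (elements acting trivially on B/m)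
and P the wild inertia group, here the elements of D acting trivially on B/m² (the description valid
in the separable residue field case). Then P ≤ I, P is normal in D, P is a p-group if the residue
characteristic is p > 0 and trivial if it is 0, and I/P is cyclic of order the prime-to-p part of e
and isomorphic to a subgroup of the e-th roots of unity of B/m — more precisely to the full group of
e-th roots of unity of B/m. -/
theorem result (A K L B : Type u) [CommRing A] [IsDomain A] [IsDiscreteValuationRing A]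
    [CommRing B] [IsDomain B] [Field K] [Field L] [Algebra A K] [Algebra B L] [IsFractionRing A K] [IsFractionRing B L]
    [Algebra A B] [Algebra K L] [Algebra A L] [IsScalarTower A K L] [IsScalarTower A B L] [IsIntegralClosure B A L]
    [FiniteDimensional K L] [IsGalois K L] (m : Ideal B) [m.IsMaximal]
    [Algebra.IsSeparable (A ⧸ m.comap (algebraMap A B)) (B ⧸ m)] :
    letI := IsIntegralClosure.MulSemiringAction A K L B
    let D : Subgroup (L ≃ₐ[K] L) := MulAction.stabilizer (L ≃ₐ[K] L) m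
    let I : Subgroup (L ≃ₐ[K] L) := m.inertia (L ≃ₐ[K] L)
    let P : Subgroup (L ≃ₐ[K] L) := D ⊓ (m ^ 2).inertia (L ≃ₐ[K] L)
    let e : ℕ := Ideal.ramificationIdx' (IsLocalRing.maximalIdeal A) m
    P ≤ I ∧ I ≤ D ∧ (P.subgroupOf D).Normal ∧
    (∀ p : ℕ, p.Prime → CharP (A ⧸ m.comap (algebraMap A B)) p → IsPGroup p P) ∧
    (CharZero (A ⧸ m.comap (algebraMap A B)) → P = ⊥) ∧
    (∀ [(P.subgroupOf I).Normal],
      IsCyclic (I ⧸ P.subgroupOf I) ∧
      (∀ p : ℕ, p.Prime → CharP (A ⧸ m.comap (algebraMap A B)) p → Nat.card (I ⧸ P.subgroupOf I) = e / p ^ e.factorization p) ∧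
      (CharZero (A ⧸ m.comap (algebraMap A B)) → Nat.card (I ⧸ P.subgroupOf I) = e) ∧
      Nonempty (I ⧸ P.subgroupOf I ≃* ↥(rootsOfUnity e (B ⧸ m)))) := by
  classical
  letI : MulSemiringAction (L ≃ₐ[K] L) B := IsIntegralClosure.MulSemiringAction A K L B
  intro D I P e
  haveI : Module.Finite A B := IsIntegralClosure.finite A K L B
  haveI : IsDedekindDomain B := IsIntegralClosure.isDedekindDomain A K L B
  haveI : Algebra.IsIntegral A B := IsIntegralClosure.isIntegral_algebra A L
  haveI : FaithfulSMul A B := by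
    refine (faithfulSMul_iff_algebraMap_injective A B).mpr fun a b h => ?_
    have := congrArg (algebraMap B L) h
    rw [← IsScalarTower.algebraMap_apply, ← IsScalarTower.algebraMap_apply,
      IsScalarTower.algebraMap_apply A K L, IsScalarTower.algebraMap_apply A K L] at this
    exact IsFractionRing.injective A K ((algebraMap K L).injective this)
  haveI : Module.IsTorsionFree A B := inferInstance
  haveI : Module.Flat A B := inferInstance
  haveI : IsGaloisGroup (L ≃ₐ[K] L) A B := IsGaloisGroup.of_isFractionRing (L ≃ₐ[K] L) A B K L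
  have hcomap : m.comap (algebraMap A B) = IsLocalRing.maximalIdeal A :=
    IsLocalRing.eq_maximalIdeal (Ideal.isMaximal_comap_of_isIntegral_of_isMaximal m)
  let p₀ := m.comap (algebraMap A B)
  haveI : p₀.IsMaximal := Ideal.isMaximal_comap_of_isIntegral_of_isMaximal m
  haveI : m.LiesOver p₀ := ⟨rfl⟩
  haveI : FaithfulSMul (L ≃ₐ[K] L) B := IsGaloisGroup.faithful A
  -- a uniformizer at `m`
  have hm0 : m ≠ ⊥ := by
    intro h
    apply IsDiscreteValuationRing.not_a_field A
    rw [← hcomap, h]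
    exact Ideal.comap_bot_of_injective _ (FaithfulSMul.algebraMap_injective A B)
  have hlt : m ^ 2 < m := by simpa using Ideal.pow_succ_lt_pow hm0 1
  obtain ⟨π, hπ, hπ2⟩ := SetLike.exists_of_lt hlt
  have hm : m ≤ Ideal.span {π} ⊔ m ^ 2 := by
    have hlo : m ^ (1 + 1) < Ideal.span {π} ⊔ m ^ 2 :=
      lt_of_le_of_ne le_sup_right fun h =>
        hπ2 (by rw [show m ^ 2 = Ideal.span {π} ⊔ m ^ 2 from h]; exact Ideal.mem_sup_left (Ideal.mem_span_singleton_self π))
    have hhi : Ideal.span {π} ⊔ m ^ 2 ≤ m ^ 1 := by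
      rw [pow_one]; exact sup_le ((Ideal.span_singleton_le_iff_mem _).mpr hπ) (Ideal.pow_le_self two_ne_zero)
    rw [Ideal.eq_prime_pow_of_succ_lt_of_le hm0 hlo hhi, pow_one]
  have hPI : P ≤ I := inf_le_right.trans (Groth.Agent.EtRamLib.Inertia.inertia_mono (Ideal.pow_le_self two_ne_zero))
  have hID : I ≤ D := Ideal.inertia_le_stabilizer m
  letI : Field (A ⧸ p₀) := Ideal.Quotient.field p₀
  letI : Field (B ⧸ m) := Ideal.Quotient.field m
  have hsep : ∀ x : B, ∃ F : Polynomial A, Polynomial.aeval x F ∈ m ∧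
      Polynomial.aeval x (Polynomial.derivative F) ∉ m := by
    intro x
    have hs := Algebra.IsSeparable.isSeparable (A ⧸ p₀) (Ideal.Quotient.mk m x)
    obtain ⟨F, hF⟩ := Polynomial.map_surjective (algebraMap A (A ⧸ p₀)) Ideal.Quotient.mk_surjective
      (minpoly (A ⧸ p₀) (Ideal.Quotient.mk m x))
    have key : ∀ G : Polynomial A, Ideal.Quotient.mk m (Polynomial.aeval x G) =
        Polynomial.aeval (Ideal.Quotient.mk m x) (G.map (algebraMap A (A ⧸ p₀))) := fun G => by
      rw [Polynomial.aeval_map_algebraMap]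
      exact (Polynomial.aeval_algHom_apply (Ideal.Quotient.mkₐ A m) x G).symm
    refine ⟨F, ?_, ?_⟩
    · rw [← Ideal.Quotient.eq_zero_iff_mem, key, hF, minpoly.aeval]
    · rw [← Ideal.Quotient.eq_zero_iff_mem, key, ← Polynomial.derivative_map, hF]
      exact hs.aeval_derivative_ne_zero (minpoly.aeval _ _)
  have hPsq : ∀ σ ∈ P, σ ∈ (m ^ 2).inertia (L ≃ₐ[K] L) := fun σ h => h.2
  -- the filtration is separated
  obtain ⟨N, hN⟩ : ∃ N : ℕ, ∀ σ : L ≃ₐ[K] L, σ ∈ (m ^ N).inertia (L ≃ₐ[K] L) → σ = 1 := by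
    have h1 : ∀ σ : L ≃ₐ[K] L, ∃ n : ℕ, σ ∈ (m ^ n).inertia (L ≃ₐ[K] L) → σ = 1 := by
      intro σ
      by_contra hne
      push Not at hne
      refine (hne 0).2 (FaithfulSMul.eq_of_smul_eq_smul (α := B) fun x => ?_)
      rw [one_smul, ← sub_eq_zero, ← Submodule.mem_bot B,
        ← Ideal.iInf_pow_eq_bot_of_isDomain m (Ideal.IsMaximal.ne_top ‹_›), Submodule.mem_iInf]
      exact fun n => (hne n).1 x
    choose n hn using h1
    have : Fintype (L ≃ₐ[K] L) := Fintype.ofFinite _
    exact ⟨Finset.univ.sup n, fun σ hσ => hn σ (Groth.Agent.EtRamLib.Inertia.inertia_mono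
      (Ideal.pow_le_pow_right (Finset.le_sup (Finset.mem_univ σ))) hσ)⟩
  have hpgroup : ∀ p : ℕ, p.Prime → CharP (A ⧸ p₀) p → IsPGroup p P := by
    intro p hp hchar
    rintro ⟨σ, hσ⟩
    refine ⟨N, Subtype.ext (hN _ ?_)⟩
    have hpm : ((p : ℕ) : B) ∈ m := by
      rw [← Ideal.Quotient.eq_zero_iff_mem, map_natCast, ← map_natCast (algebraMap (A ⧸ p₀) (B ⧸ m)),
        CharP.cast_eq_zero, map_zero]
    exact Groth.Agent.EtRamLib.Inertia.inertia_mono (Ideal.pow_le_pow_right (by omega))
      (Groth.Agent.EtRamLib.Inertia.iterate_pow_mem_inertia (hPsq σ hσ) hpm N)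
  have hchar0 : CharZero (A ⧸ p₀) → P = ⊥ := by
    intro hc
    rw [Subgroup.eq_bot_iff_forall]
    intro σ hσ
    haveI : CharZero (B ⧸ m) := charZero_of_injective_algebraMap (algebraMap (A ⧸ p₀) (B ⧸ m)).injective
    refine hN σ (Groth.Agent.EtRamLib.Inertia.inertia_mono (Ideal.pow_le_pow_right (by omega))
      (Groth.Agent.EtRamLib.Inertia.mem_inertia_pow_of_pow_eq_one (hPsq σ hσ) (r := orderOf σ) ?_
        (pow_orderOf_eq_one σ) N))
    rw [← Ideal.Quotient.eq_zero_iff_mem, map_natCast, Nat.cast_eq_zero]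
    exact (orderOf_pos σ).ne'
  refine ⟨hPI, hID, Groth.Agent.EtRamLib.Inertia.normal_subgroupOf 2, hpgroup, hchar0, ?_⟩
  intro _
  obtain ⟨θ, hθ⟩ := Groth.Agent.EtRamLib.Inertia.exists_tameHom (G := L ≃ₐ[K] L) hπ hπ2 hm
  have hker : θ.ker = P.subgroupOf I := by
    ext σ
    rw [MonoidHom.mem_ker, hθ, Subgroup.mem_subgroupOf]
    exact ⟨fun h => ⟨hID σ.2, Groth.Agent.EtRamLib.Inertia.mem_inertia_sq_of_separable (A := A) σ.2 hπ hm h hsep⟩,
      fun h => h.2 π⟩
  let φ : (I ⧸ P.subgroupOf I) ≃* θ.range :=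
    (QuotientGroup.quotientMulEquivOfEq hker.symm).trans (QuotientGroup.quotientKerEquivRange θ)
  have hIcard : Nat.card I = e := by
    rw [Groth.Agent.EtRamLib.Inertia.card_inertia_eq_ramificationIdxIn p₀ m,
      Ideal.ramificationIdxIn_eq_ramificationIdx p₀ m (L ≃ₐ[K] L)]
    haveI : m.LiesOver (IsLocalRing.maximalIdeal A) := ⟨hcomap.symm⟩
    exact (Ideal.ramificationIdx'_eq_ramificationIdx (IsLocalRing.maximalIdeal A) m
      (IsDiscreteValuationRing.not_a_field A)).symm
  have hnc : Nat.card θ.range * Nat.card P = e := by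
    rw [← hIcard, ← Nat.card_congr φ.toEquiv, ← Nat.card_congr (Subgroup.subgroupOfEquivOfLe hPI).toEquiv]
    exact (Subgroup.card_eq_card_quotient_mul_card_subgroup (P.subgroupOf I)).symm
  have hcast : ∀ z : B ⧸ m, z ^ Nat.card P = 1 → z = 1 := by
    intro z hz
    obtain ⟨p, hp⟩ := CharP.exists (A ⧸ p₀)
    rcases CharP.char_is_prime_or_zero (A ⧸ p₀) p with hpp | hp0
    · haveI := Fact.mk hpp
      haveI : CharP (B ⧸ m) p := charP_of_injective_algebraMap (algebraMap (A ⧸ p₀) (B ⧸ m)).injective p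
      obtain ⟨a, ha⟩ := IsPGroup.iff_card.mp (hpgroup p hpp hp)
      rw [ha] at hz
      have : (z - 1) ^ p ^ a = 0 := by rw [sub_pow_char_pow, hz, one_pow, sub_self]
      exact sub_eq_zero.mp (eq_zero_of_pow_eq_zero this)
    · subst hp0
      haveI : CharZero (A ⧸ p₀) := CharP.charP_to_charZero _
      rwa [hchar0 ‹_›, Subgroup.card_bot, pow_one] at hz
  refine ⟨isCyclic_of_surjective φ.symm.toMonoidHom φ.symm.surjective, ?_, ?_, ?_⟩
  · intro p hp hchar
    haveI := Fact.mk hp
    haveI : CharP (B ⧸ m) p := charP_of_injective_algebraMap (algebraMap (A ⧸ p₀) (B ⧸ m)).injective p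
    obtain ⟨a, ha⟩ := IsPGroup.iff_card.mp (hpgroup p hp hchar)
    have hndvd : ¬ p ∣ Nat.card θ.range := by
      intro hdvd
      obtain ⟨x, hx⟩ := exists_prime_orderOf_dvd_card' p hdvd
      have h1 : ((x : (B ⧸ m)ˣ) : B ⧸ m) ^ p = 1 := by
        rw [← Units.val_pow_eq_pow_val, ← SubgroupClass.coe_pow, ← hx, pow_orderOf_eq_one]
        rfl
      have h2 : (((x : (B ⧸ m)ˣ) : B ⧸ m) - 1) ^ p = 0 := by rw [sub_pow_char, h1, one_pow, sub_self]
      have h3 : x = 1 := Subtype.ext (Units.ext (sub_eq_zero.mp (eq_zero_of_pow_eq_zero h2)))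
      rw [h3, orderOf_one] at hx
      exact hp.one_lt.ne hx
    rw [Nat.card_congr φ.toEquiv, ← hnc, ha, Nat.factorization_mul Nat.card_pos.ne' (pow_ne_zero _ hp.ne_zero),
      Finsupp.add_apply, Nat.factorization_eq_zero_of_not_dvd hndvd, zero_add, hp.factorization_pow,
      Finsupp.single_eq_same, Nat.mul_div_cancel _ (pow_pos hp.pos a)]
  · intro hc
    rw [Nat.card_congr φ.toEquiv, ← hnc, hchar0 hc, Subgroup.card_bot, mul_one]
  · exact ⟨φ.trans (MulEquiv.subgroupCongr (Groth.Agent.EtRamLib.Inertia.eq_rootsOfUnity θ.range hnc hcast))⟩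

end Groth.Agent.S1999
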