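import Groth.Statements.S19992
import Groth.Agent.GmFppf.Kummer
import Groth.Agent.StkLib.Top
import Groth.Agent.StFib.BGMono
import Groth.Prelude.Def_GmPts2
import Mathlib.CategoryTheory.Sites.EpiMono

set_option autoImplicit false
universe u
open CategoryTheory CategoryTheory.Limits AlgebraicGeometry
open StCoh

namespace Groth.Agent.S19992

set_option backward.isDefEq.respectTransparency false
set_option backward.isDefEq.respectTransparency.types false

open Opposite Abelian

section general

universe v u'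

/-- Multiplication by `n` transports along an isomorphism. -/
theorem epi_nsmul_of_iso {C : Type*} [Category C] [Preadditive C] {A B : C} (e : A ≅ B) (n : ℕ)
    (h : Epi (n • 𝟙 B)) : Epi (n • 𝟙 A) := by
  have : n • 𝟙 A = e.hom ≫ (n • 𝟙 B) ≫ e.inv := by
    simp [Linear.smul_comp, Linear.comp_smul]
  rw [this]
  haveI := h
  infer_instance

/-- Restriction along a category fibred in groupoids preserves epimorphisms of abelian sheaves. -/
theorem isLocallySurjective_restrict {C : Type (u + 1)} [Category.{u} C] {𝒳 : Type (u + 1)}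
    [Category.{u} 𝒳] {p : 𝒳 ⥤ C} (hp : FibCat.IsFibGrpd p) (J : GrothendieckTopology C)
    [p.IsContinuous (p.restrictedTopology J) J]
    {F G : Sheaf J AddCommGrpCat.{u + 1}} (φ : F ⟶ G) [Sheaf.IsLocallySurjective φ] :
    Sheaf.IsLocallySurjective
      ((p.sheafPushforwardContinuous AddCommGrpCat.{u + 1} (p.restrictedTopology J) J).map φ) := by
  constructor
  intro x a
  rw [Groth.Agent.StkLib.mem_restricted_iff hp]
  refine J.superset_covering ?_ (Presheaf.imageSieve_mem J φ.hom (U := op (p.obj x)) a)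
  intro V g hg
  obtain ⟨w, ν, hν⟩ := Groth.Agent.FibC.exists_lift' hp (x := x) rfl g
  rw [Groth.Agent.StkLib.push_iff hp _ g ν]
  have hw := IsHomLift.domain_eq p g ν
  subst hw
  obtain ⟨b, hb⟩ := hg
  refine ⟨b, ?_⟩
  rw [IsHomLift.eq_of_isHomLift p g ν] at hb
  exact hb

set_option synthInstance.maxHeartbeats 200000 in
theorem epi_restrict {C : Type (u + 1)} [Category.{u} C] {𝒳 : Type (u + 1)}
    [Category.{u} 𝒳] {p : 𝒳 ⥤ C} (hp : FibCat.IsFibGrpd p) (J : GrothendieckTopology C)
    [p.IsContinuous (p.restrictedTopology J) J]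
    {F G : Sheaf J AddCommGrpCat.{u + 1}} (φ : F ⟶ G) (h : Epi φ) :
    Epi ((p.sheafPushforwardContinuous AddCommGrpCat.{u + 1} (p.restrictedTopology J) J).map φ) := by
  haveI : Sheaf.IsLocallySurjective φ := (Sheaf.isLocallySurjective_iff_epi' AddCommGrpCat.{u + 1} φ).2 h
  exact (Sheaf.isLocallySurjective_iff_epi' AddCommGrpCat.{u + 1} _).1 (isLocallySurjective_restrict hp J φ)

theorem comp_mk₀_nsmul {C : Type*} [Category C] [Abelian C] [HasExt C] {P Y : C} {i : ℕ}
    (x : Ext P Y i) (n : ℕ) : x.comp (Ext.mk₀ (n • 𝟙 Y)) (add_zero i) = n • x := by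
  induction n with
  | zero => simp [Ext.mk₀_zero]
  | succ k ih => simp only [succ_nsmul, Ext.mk₀_add, Ext.comp_add, ih, Ext.comp_mk₀_id]

/-- The piece of the long exact sequence of multiplication by `n`. -/
theorem range_and_ker {C : Type*} [Category C] [Abelian C] [HasExt C] (X G : C) (n : ℕ)
    (h : Epi (n • 𝟙 G)) {i j : ℕ} (hij : i + 1 = j) :
    ((Ext.mk₀ (kernel.ι (n • 𝟙 G))).postcomp X (add_zero j)).range =
        (DistribSMul.toAddMonoidHom (Ext X G j) n).ker ∧
      Nonempty (((Ext.mk₀ (kernel.ι (n • 𝟙 G))).postcomp X (add_zero j)).ker ≃+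
        Ext X G i ⧸ (DistribSMul.toAddMonoidHom (Ext X G i) n).range) := by
  let S := ShortComplex.mk (kernel.ι (n • 𝟙 G)) (n • 𝟙 G) (kernel.condition _)
  have hS : S.ShortExact :=
    { exact := ShortComplex.exact_of_f_is_kernel _ (kernelIsKernel _)
      mono_f := (equalizer.ι_mono : Mono (kernel.ι (n • 𝟙 G)))
      epi_g := h }
  let δ : Ext X G i →+ Ext X (kernel (n • 𝟙 G)) j := hS.extClass.postcomp X hij
  refine ⟨le_antisymm ?_ ?_, ?_⟩
  · rintro _ ⟨η, rfl⟩
    show n • η.comp (Ext.mk₀ S.f) (add_zero j) = 0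
    rw [← comp_mk₀_nsmul]
    show (η.comp (Ext.mk₀ S.f) (add_zero j)).comp (Ext.mk₀ S.g) (add_zero j) = 0
    rw [Ext.comp_assoc_of_second_deg_zero, Ext.mk₀_comp_mk₀, S.zero, Ext.mk₀_zero, Ext.comp_zero]
  · intro ξ hξ
    obtain ⟨η, hη⟩ := Ext.covariant_sequence_exact₂ X hS ξ ((comp_mk₀_nsmul ξ n).trans hξ)
    exact ⟨η, hη⟩
  · have h1 : δ.range = ((Ext.mk₀ (kernel.ι (n • 𝟙 G))).postcomp X (add_zero j)).ker := by
      refine le_antisymm ?_ ?_
      · rintro _ ⟨x, rfl⟩
        show (x.comp hS.extClass hij).comp (Ext.mk₀ S.f) (add_zero j) = 0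
        rw [Ext.comp_assoc_of_third_deg_zero, hS.extClass_comp, Ext.comp_zero]
      · intro η hη
        exact Ext.covariant_sequence_exact₁ X hS η hη hij
    have h2 : δ.ker = (DistribSMul.toAddMonoidHom (Ext X G i) n).range := by
      refine le_antisymm ?_ ?_
      · intro x hx
        obtain ⟨y, hy⟩ := Ext.covariant_sequence_exact₃ X hS x hij hx
        exact ⟨y, (comp_mk₀_nsmul y n).symm.trans hy⟩
      · rintro _ ⟨y, rfl⟩
        show (n • y).comp hS.extClass hij = 0
        rw [← comp_mk₀_nsmul]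
        show (y.comp (Ext.mk₀ S.g) (add_zero i)).comp hS.extClass hij = 0
        rw [Ext.comp_assoc_of_second_deg_zero, hS.comp_extClass, Ext.comp_zero]
    exact ⟨(AddEquiv.addSubgroupCongr h1).symm.trans ((QuotientAddGroup.quotientKerEquivRange δ).symm.trans
      (QuotientAddGroup.quotientAddEquivOfEq h2))⟩

/-- The piece of the long exact sequence of multiplication by `n`, for sheaf cohomology. -/
theorem H_range_and_ker {D : Type (u + 1)} [Category.{u} D] {J : GrothendieckTopology D}
    [HasSheafify J AddCommGrpCat.{u + 1}] [HasExt.{u + 1} (Sheaf J AddCommGrpCat.{u + 1})]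
    (G : Sheaf J AddCommGrpCat.{u + 1}) (n : ℕ) (h : Epi (n • 𝟙 G)) :
    (Sheaf.H.map (kernel.ι (n • 𝟙 G)) 2).range =
        (DistribSMul.toAddMonoidHom (Sheaf.H G 2) n).ker ∧
      Nonempty ((Sheaf.H.map (kernel.ι (n • 𝟙 G)) 2).ker ≃+
        Sheaf.H G 1 ⧸ (DistribSMul.toAddMonoidHom (Sheaf.H G 1) n).range) :=
  range_and_ker _ G n h (i := 1) (j := 2) rfl

end general

theorem epi_powMap (k : Type u) [Field k] (G : Over (Spec (CommRingCat.of k))) [GrpObj G]
    [IsAffineHom G.hom]
    [StCoh.BaseCont Scheme.fppfPrecoverage (AlgSt.BG Scheme.fppfPrecoverage G)] (n : ℕ) (hn : n ≠ 0) :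
    Epi (StCoh.powMap Scheme.fppfPrecoverage (AlgSt.BG Scheme.fppfPrecoverage G) n) := by
  have hB : FibCat.IsFibGrpd (AlgSt.BG Scheme.fppfPrecoverage G).p :=
    (Groth.Agent.StFib.BGMono.isStack_BG G).1
  have h0 : Epi (n • 𝟙 (CGrpSh2.Gm Scheme.fppfPrecoverage (Spec (CommRingCat.of k)))) :=
    epi_nsmul_of_iso (GmPts.gmFIso _) n (Groth.Agent.GmFppf.epi_nsmul_GmF _ n hn)
  have h2 := epi_restrict hB (QuotSh.J Scheme.fppfPrecoverage (Spec (CommRingCat.of k)))
    (n • 𝟙 (CGrpSh2.Gm Scheme.fppfPrecoverage (Spec (CommRingCat.of k)))) h0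
  rw [Functor.map_nsmul, CategoryTheory.Functor.map_id] at h2
  exact h2

/-- Let k be a field, G a finite étale group scheme over k, BG its classifying stack of fppf torsors and
n ≥ 1. The Kummer sequence gives a short exact sequence 0 → Pic(BG)/n → H²(BG, μ_n) → H²(BG, G_m)[n]
→ 0 in the cohomology of the big fppf site of BG: the map H²(BG, μ_n) → H²(BG, G_m) induced by the
inclusion of the n-th roots of unity has image the subgroup of classes killed by n, and its kernel
is isomorphic to the quotient of H¹(BG, G_m) by the multiples of n (existence of an isomorphism for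
the kernel; in the source it is induced by the connecting homomorphism). The description of the
central extension attached to a character, in the second sentence of the source, is not stated. -/
theorem result (k : Type u) [Field k]
    (G : Over (Spec (CommRingCat.of k))) [GrpObj G] (hG : IsFinite G.hom ∧ Etale G.hom)
    [StCoh.BaseCont Scheme.fppfPrecoverage (AlgSt.BG Scheme.fppfPrecoverage G)] (n : ℕ) (hn : 0 < n) :
    (Sheaf.H.map (StCoh.muι Scheme.fppfPrecoverage (AlgSt.BG Scheme.fppfPrecoverage G) n) 2).range =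
        (DistribSMul.toAddMonoidHom (StCoh.BrCoh Scheme.fppfPrecoverage (AlgSt.BG Scheme.fppfPrecoverage G)) n).ker ∧
      Nonempty ((Sheaf.H.map (StCoh.muι Scheme.fppfPrecoverage (AlgSt.BG Scheme.fppfPrecoverage G) n) 2).ker ≃+
        StCoh.H Scheme.fppfPrecoverage (StCoh.Gm Scheme.fppfPrecoverage (AlgSt.BG Scheme.fppfPrecoverage G)) 1 ⧸
          (DistribSMul.toAddMonoidHom
            (StCoh.H Scheme.fppfPrecoverage (StCoh.Gm Scheme.fppfPrecoverage (AlgSt.BG Scheme.fppfPrecoverage G)) 1) n).range) :=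
  haveI : IsFinite G.hom := hG.1
  H_range_and_ker (StCoh.Gm Scheme.fppfPrecoverage (AlgSt.BG Scheme.fppfPrecoverage G)) n
    (epi_powMap k G n hn.ne')

end Groth.Agent.S19992
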