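import Groth.Statements.S19996
import Groth.Agent.ASPurity.Break

set_option autoImplicit false
universe u
open WildQuot

namespace Groth.Agent.S19996

open PowerSeries Groth.Agent.ASPurity in
theorem forward (p : ℕ) [Fact p.Prime] (k : Type u) [Field k] [CharP k p]
    (σ : PowerSeries k ≃ₐ[k] PowerSeries k) (hσp : σ ^ p = 1)
    (m : ℕ) (hm : (σ X - X).order = ((m + 1 : ℕ) : ℕ∞)) (hdiv : p ∣ m + 1) :
    ∃ s a : PowerSeries k, s.order = 1 ∧ σ a = a ∧ σ s = s + a := by
  have hp := Fact.out (p := p.Prime)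
  have hp2 := hp.two_le
  have hm1 := Break.one_le_break σ p hσp hm
  have hpm : ¬ p ∣ m := fun h => hp.one_lt.ne' (Nat.dvd_one.mp ((Nat.dvd_add_right h).mp hdiv))
  haveI : CharP (Module.End k (PowerSeries k)) p :=
    charP_of_injective_algebraMap (FaithfulSMul.algebraMap_injective k _) p
  set D : Module.End k (PowerSeries k) := σ.toLinearMap - 1 with hD
  have hDapp : ∀ w, D w = σ w - w := fun w => rfl
  have hpowσ : ∀ n : ℕ, (σ.toLinearMap : Module.End k (PowerSeries k)) ^ n =
      (σ ^ n).toLinearMap := by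
    intro n
    induction n with
    | zero => rfl
    | succ n ih => rw [pow_succ, ih, pow_succ]; rfl
  have hDp : D ^ p = 0 := by
    rw [hD, sub_pow_char_of_commute _ (Commute.one_right _), one_pow, hpowσ, hσp]
    exact sub_self _
  have horb : ∀ j, j ≤ p - 2 → ∃ q : PowerSeries k, (D ^ j) (X ^ m) = X ^ ((j + 1) * m) * q ∧
      constantCoeff q ≠ 0 := by
    intro j
    induction j with
    | zero => intro _; exact ⟨1, by simp, by simp⟩
    | succ j ih =>
      intro hj
      obtain ⟨q, hq, hq0⟩ := ih (by omega)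
      have he : ¬ p ∣ (j + 1) * m := by
        rw [hp.dvd_mul]
        rintro (h | h)
        · exact absurd (Nat.le_of_dvd (by omega) h) (by omega)
        · exact hpm h
      obtain ⟨q', hq', hq0'⟩ := Break.map_sub_eq σ p hσp hm he hq0
      refine ⟨q', ?_, hq0'⟩
      rw [pow_succ', Module.End.mul_apply, hq, hDapp, hq', show (j + 1 + 1) * m = (j + 1) * m + m by ring]
  obtain ⟨q, hq, hq0⟩ := horb (p - 2) le_rfl
  have hp21 : p - 2 + 1 = p - 1 := by omega
  rw [hp21] at hq
  obtain ⟨c, hc⟩ := hdiv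
  have hexp : ∃ r, (p - 1) * m = 1 + p * r := by
    refine ⟨m - c, ?_⟩
    have h2 : 2 * c ≤ p * c := Nat.mul_le_mul_right c hp2
    rw [Nat.sub_mul, one_mul, Nat.mul_sub]
    have h3 : p * c ≤ p * m := Nat.mul_le_mul_left p (by omega)
    have h4 : 2 * m ≤ p * m := Nat.mul_le_mul_right m hp2
    omega
  obtain ⟨r, hr⟩ := hexp
  obtain ⟨hxσ, ξ, hx, hξ⟩ := Break.norm_X σ p hσp
  generalize (∏ i ∈ Finset.range p, (σ ^ i) X) = x at hxσ hx
  obtain ⟨u, hu⟩ := isUnit_iff_exists_inv.mp (isUnit_iff_constantCoeff.mpr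
    (isUnit_iff_ne_zero.mpr (show constantCoeff (ξ ^ r) ≠ 0 by
      rw [map_pow]; exact pow_ne_zero _ hξ)))
  have hu0 : constantCoeff u ≠ 0 := fun h => by
    have := congrArg constantCoeff hu
    rw [map_mul, h, mul_zero, map_one] at this
    exact zero_ne_one this
  have hxne : x ^ r ≠ 0 := by
    rw [hx]
    exact pow_ne_zero _ (mul_ne_zero (pow_ne_zero _ X_ne_zero) fun h => hξ (by rw [h, map_zero]))
  obtain ⟨s, hs⟩ : ∃ s, s = X ^ 1 * (q * u) := ⟨_, rfl⟩
  have hvs : (D ^ (p - 2)) (X ^ m) = x ^ r * s := by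
    rw [hq, hr, hx, hs, mul_pow, ← pow_mul, pow_add]
    linear_combination -(X : PowerSeries k) ^ 1 * X ^ (p * r) * q * hu
  have hzero : σ ((D ^ (p - 1)) (X ^ m)) = (D ^ (p - 1)) (X ^ m) := by
    rw [← sub_eq_zero, ← hDapp, ← Module.End.mul_apply, ← pow_succ',
      show p - 1 + 1 = p by omega, hDp]
    rfl
  have hD1 : (D ^ (p - 1)) (X ^ m) = x ^ r * (σ s - s) := by
    rw [← hp21, pow_succ', Module.End.mul_apply, hvs, hDapp, map_mul, map_pow, hxσ, mul_sub]
  refine ⟨s, σ s - s, ?_, ?_, by ring⟩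
  · rw [hs, Break.order_X_pow_mul 1 (by rw [map_mul]; exact mul_ne_zero hq0 hu0), Nat.cast_one]
  · refine mul_left_cancel₀ hxne ?_
    rw [hD1, map_mul, map_pow, hxσ] at hzero
    exact hzero

/-- Let `k` be a field of characteristic `p > 0`, `A = k[[u]]`, and `σ` a `k`-algebra automorphism of
`A` of order exactly `p` with ramification break `m`, i.e. `σ u - u` has order `m + 1`. Then `p`
divides `m + 1` if and only if there are a uniformizer `s` of `A` (a power series of order `1`) and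
a `σ`-invariant power series `a` with `σ s = s + a`. (The published statement has a third equivalent
condition, that `Spec A` is a torsor under the effective model of the action; this row omits it.) -/
theorem result
    (p : ℕ) [Fact p.Prime] (k : Type u) [Field k] [CharP k p]
    (σ : PowerSeries k ≃ₐ[k] PowerSeries k) (hσp : σ ^ p = 1) (hσ1 : σ ≠ 1)
    (m : ℕ) (hm : (σ PowerSeries.X - PowerSeries.X).order = ((m + 1 : ℕ) : ℕ∞)) :
    p ∣ m + 1 ↔
      ∃ s a : PowerSeries k, s.order = 1 ∧ σ a = a ∧ σ s = s + a := by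
  refine ⟨forward p k σ hσp m hm, ?_⟩
  rintro ⟨s, a, hs, ha, hsa⟩
  have hp := Fact.out (p := p.Prime)
  obtain ⟨v, hv, hv0⟩ := Groth.Agent.ASPurity.Break.exists_eq_of_order_eq (e := 1) (w := s)
    (by simpa using hs)
  obtain ⟨q, hq, hq0⟩ := Groth.Agent.ASPurity.Break.map_sub_eq σ p hσp hm (e := 1)
    (by rw [Nat.dvd_one]; exact hp.ne_one) hv0
  rw [← hv, hsa, add_sub_cancel_left] at hq
  rw [add_comm]
  exact Groth.Agent.ASPurity.Break.dvd_of_fixed σ p hσp hm hq0 (by rw [← hq]; exact ha)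

end Groth.Agent.S19996
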