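import Groth.Statements.S19997
import Groth.Agent.ASPurity.PSFamily
import Groth.Agent.ASPurity.Minor

set_option autoImplicit false
universe u
open WildQuot

namespace Groth.Agent.S19997

open IsLocalRing ASPurity.Family

theorem ne_zero_of_coprime {k : Type u} [Field k] {n : ℕ} (hn : 2 ≤ n) {a : Fin n → MvPowerSeries (Fin n) k}
    (ham : ∀ i, MvPowerSeries.constantCoeff (a i) = 0) (hcop : ∀ i j, i ≠ j → IsRelPrime (a i) (a j)) (i : Fin n) :
    a i ≠ 0 := by
  intro h
  haveI : Nontrivial (Fin n) := Fin.nontrivial_iff_two_le.2 hn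
  obtain ⟨j, hj⟩ := exists_ne i
  have := hcop j i hj (dvd_refl (a j)) (h ▸ dvd_zero _)
  exact (mem_max_of_constantCoeff (ham j)) this

open MvPolynomial in
/-- Let `k` be a field of characteristic `p > 0`, `n ≥ 2`, `R = k[[x_1, …, x_n]]`, `a_1, …, a_n ∈ R`
with zero constant term and pairwise coprime, `μ ∈ R` nonzero and coprime to each `a_i`, `A = R[u_1,
…, u_n] / (u_i ^ p - (μ a_i) ^ (p-1) u_i - x_i : i = 1..n)`, and `σ` the `R`-algebra automorphism of
`A` with `σ u_i = u_i + μ a_i` for every `i` (it generates a group `G` of order `p`). Fix an index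
`i₀` and let `A_ci ⊆ A` be the `R`-subalgebra generated by the minor elements `z_j = a_{i₀} u_j -
a_j u_{i₀}`, `j ≠ i₀` (these are `σ`-invariant). Then `A_ci[1/(μ a_{i₀})] = A^G[1/(μ a_{i₀})]`: for
every `σ`-invariant `t ∈ A` some power `(μ a_{i₀}) ^ N t` lies in `A_ci`. (The published statement
uses the first index for `i₀`.) -/
theorem result
    (p : ℕ) [Fact p.Prime] (k : Type u) [Field k] [CharP k p] (n : ℕ) (hn : 2 ≤ n)
    (a : Fin n → MvPowerSeries (Fin n) k) (μ : MvPowerSeries (Fin n) k)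
    (ham : ∀ i, MvPowerSeries.constantCoeff (a i) = 0) (hcop : ∀ i j, i ≠ j → IsRelPrime (a i) (a j))
    (hμ : μ ≠ 0) (hμa : ∀ i, IsRelPrime μ (a i)) (i₀ : Fin n) :
    let R := MvPowerSeries (Fin n) k
    let I : Ideal (MvPolynomial (Fin n) R) :=
      Ideal.span (Set.range fun i : Fin n =>
        X i ^ p - C ((μ * a i) ^ (p - 1)) * X i - C (MvPowerSeries.X i))
    let A := MvPolynomial (Fin n) R ⧸ I
    let u : Fin n → A := fun i => Ideal.Quotient.mk I (X i)
    let z : {j : Fin n // j ≠ i₀} → A := fun j =>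
      algebraMap R A (a i₀) * u j.1 - algebraMap R A (a j.1) * u i₀
    ∀ σ : A ≃ₐ[R] A, (∀ i, σ (u i) = u i + algebraMap R A (μ * a i)) →
      ∀ t : A, σ t = t →
        ∃ N : ℕ, algebraMap R A (μ * a i₀) ^ N * t ∈ Algebra.adjoin R (Set.range z) := by
  intro R I A u z σ hσ t ht
  haveI : CharP R p := charP_ps (p := p) (k := k) (n := n)
  haveI : IsRegularLocalRing R := PSLoc.isRegularLocalRing k n
  haveI : IsDomain R := RegLoc.isDomain R
  haveI : IsDomain A := isDomain (p := p) (fun i => μ * a i) (fun i => by rw [map_mul, ham i, mul_zero])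
  exact exists_pow_mul_mem_adjoin_of (A := A) μ a (MvPowerSeries.X : Fin n → R) i₀ hμ
    (ne_zero_of_coprime hn ham hcop i₀) (algebraMap_injective (p := p) (fun i => μ * a i) _) u
    (adjoin_var (p := p) _ _) (var_pow (p := p) _ _ i₀) σ.toAlgHom hσ ht

end Groth.Agent.S19997
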