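import Groth.Statements.S19998
import Groth.Agent.ASPurity.PSFamily

set_option autoImplicit false
universe u
open WildQuot

namespace Groth.Agent.S19998

open IsLocalRing ASPurity.Family

theorem length_eq_of_residue {R : Type u} [CommRing R] {A : Type u} [CommRing A] [IsLocalRing A] [Algebra R A]
    (hres : Function.Surjective (algebraMap R (A ⧸ maximalIdeal A)))
    (M : Type u) [AddCommGroup M] [Module A M] [Module R M] [IsScalarTower R A M] :
    Module.length A M = Module.length R M := by
  refine le_antisymm ?_ ?_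
  · rw [← WithBot.coe_le_coe, Module.coe_length, Module.coe_length]
    exact Order.krullDim_le_of_strictMono (Submodule.restrictScalars R)
      (fun p q h => lt_of_le_of_ne (fun x hx => h.le hx) fun h' => h.ne (SetLike.ext fun x => SetLike.ext_iff.1 h' x))
  · by_cases h : IsFiniteLength A M
    · have aux : ∀ {N : Type u} [AddCommGroup N] [Module A N], IsFiniteLength A N →
          ∀ [Module R N] [IsScalarTower R A N], Module.length R N ≤ Module.length A N := by
        intro N _ _ hN
        induction hN with
        | of_subsingleton => intro _ _; simp [Module.length_eq_zero]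
        | @of_simple_quotient N _ _ P hs hP ih =>
          intro _ _
          rw [Module.length_eq_add_of_exact P.subtype P.mkQ Subtype.val_injective (Submodule.mkQ_surjective P)
              (LinearMap.exact_subtype_mkQ P),
            Module.length_eq_add_of_exact (R := R) (P.subtype.restrictScalars R) (P.mkQ.restrictScalars R)
              Subtype.val_injective (Submodule.mkQ_surjective P) (LinearMap.exact_subtype_mkQ P)]
          refine add_le_add ih (le_of_eq ?_)
          obtain ⟨I, hI, ⟨e⟩⟩ := isSimpleModule_iff_quot_maximal.1 hs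
          obtain rfl := IsLocalRing.eq_maximalIdeal hI
          rw [e.length_eq, (e.restrictScalars R).length_eq,
            Module.length_eq_of_surjective (R := A ⧸ maximalIdeal A) (S := R) hres,
            Module.length_eq_of_surjective (R := A ⧸ maximalIdeal A) (S := A) Ideal.Quotient.mk_surjective]
      exact aux h
    · rw [← Module.length_ne_top_iff, ne_eq, not_not] at h
      rw [h]; exact le_top


set_option maxHeartbeats 1000000 in
theorem main {k : Type u} [Field k] {p : ℕ} [Fact p.Prime] [CharP k p] {n : ℕ} (a : Fin n → MvPowerSeries (Fin n) k)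
    (ham : ∀ i, MvPowerSeries.constantCoeff (a i) = 0)
    (σ : Ring p (fun i => a i ^ (p - 1)) ≃ₐ[MvPowerSeries (Fin n) k] Ring p (fun i => a i ^ (p - 1)))
    (hσ : ∀ i, σ (var p (fun i => a i ^ (p - 1)) MvPowerSeries.X i) =
      var p (fun i => a i ^ (p - 1)) MvPowerSeries.X i + algebraMap _ _ (a i)) :
    Ideal.span (Set.range fun t => σ t - t) ≤ Ideal.span (Set.range (var p (fun i => a i ^ (p - 1)) MvPowerSeries.X)) ^ p ∧
      Module.length (Ring p (fun i => a i ^ (p - 1))) (Ring p (fun i => a i ^ (p - 1)) ⧸ Ideal.span (Set.range fun t => σ t - t)) =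
        (p ^ n : ℕ∞) * Module.length (MvPowerSeries (Fin n) k) (MvPowerSeries (Fin n) k ⧸ Ideal.span (Set.range a)) := by
  classical
  haveI : CharP (MvPowerSeries (Fin n) k) p := charP_ps (p := p) (k := k) (n := n)
  obtain ⟨hloc, hmax⟩ := maximal_eq (p := p) (fun i => a i ^ (p - 1)) fun i => pow_mem_max (ham i)
  set J := Ideal.span (Set.range a) with hJ
  have hgen : Algebra.adjoin (MvPowerSeries (Fin n) k) (Set.range (var p (fun i => a i ^ (p - 1)) MvPowerSeries.X)) = ⊤ := adjoin_var _ _
  have hI : Ideal.span (Set.range fun t : (Ring p (fun i => a i ^ (p - 1))) => σ t - t) = J.map (algebraMap (MvPowerSeries (Fin n) k) (Ring p (fun i => a i ^ (p - 1)))) := by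
    refine le_antisymm (Ideal.span_le.2 ?_) (Ideal.map_le_iff_le_comap.2 (Ideal.span_le.2 ?_))
    · rintro _ ⟨t, rfl⟩
      have h : (Ideal.Quotient.mkₐ (MvPowerSeries (Fin n) k) (J.map (algebraMap (MvPowerSeries (Fin n) k) (Ring p (fun i => a i ^ (p - 1)))))).comp σ.toAlgHom = Ideal.Quotient.mkₐ (MvPowerSeries (Fin n) k) _ :=
        AlgHom.ext_of_adjoin_eq_top hgen (by
          rintro _ ⟨i, rfl⟩
          change Ideal.Quotient.mk (J.map (algebraMap (MvPowerSeries (Fin n) k) (Ring p (fun i => a i ^ (p - 1))))) (σ ((var p (fun i => a i ^ (p - 1)) MvPowerSeries.X) i)) = Ideal.Quotient.mk _ ((var p (fun i => a i ^ (p - 1)) MvPowerSeries.X) i)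
          rw [hσ, Ideal.Quotient.eq, add_sub_cancel_left]
          exact Ideal.mem_map_of_mem _ (Ideal.subset_span (Set.mem_range_self i)))
      exact (Ideal.Quotient.eq (I := J.map (algebraMap (MvPowerSeries (Fin n) k) (Ring p (fun i => a i ^ (p - 1)))))).1 (DFunLike.congr_fun h t)
    · rintro _ ⟨i, rfl⟩
      refine Ideal.subset_span ⟨(var p (fun i => a i ^ (p - 1)) MvPowerSeries.X) i, ?_⟩
      change σ ((var p (fun i => a i ^ (p - 1)) MvPowerSeries.X) i) - (var p (fun i => a i ^ (p - 1)) MvPowerSeries.X) i = _
      rw [hσ, add_sub_cancel_left]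
  rw [hI]
  refine ⟨?_, ?_⟩
  · -- inclusion in the power of the maximal ideal
    set M : Ideal (Ring p (fun i => a i ^ (p - 1))) := Ideal.span (Set.range (var p (fun i => a i ^ (p - 1)) MvPowerSeries.X))
    set mA : Ideal (Ring p (fun i => a i ^ (p - 1))) := (IsLocalRing.maximalIdeal (MvPowerSeries (Fin n) k)).map (algebraMap (MvPowerSeries (Fin n) k) (Ring p (fun i => a i ^ (p - 1))))
    have h1 : mA ≤ M := map_max_le _
    have h2 : mA ^ (p - 1) ≤ M ^ (p - 1) := Ideal.pow_right_mono h1 _
    have hx : ∀ i, algebraMap (MvPowerSeries (Fin n) k) (Ring p (fun i => a i ^ (p - 1))) (MvPowerSeries.X i) ∈ M ^ p := fun i => by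
      have h := var_pow (p := p) (fun i => a i ^ (p - 1)) MvPowerSeries.X i
      change (var p (fun i => a i ^ (p - 1)) MvPowerSeries.X) i ^ p = algebraMap (MvPowerSeries (Fin n) k) (Ring p (fun i => a i ^ (p - 1))) (a i ^ (p - 1)) * (var p (fun i => a i ^ (p - 1)) MvPowerSeries.X) i + algebraMap (MvPowerSeries (Fin n) k) (Ring p (fun i => a i ^ (p - 1))) (MvPowerSeries.X i) at h
      rw [← sub_eq_iff_eq_add'] at h
      rw [← h]
      refine sub_mem (Ideal.pow_mem_pow (Ideal.subset_span (Set.mem_range_self i)) p) ?_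
      have : M ^ p = M ^ (p - 1) * M := by
        exact (pow_sub_one_mul (Fact.out : p.Prime).ne_zero M).symm
      rw [this, map_pow]
      exact Ideal.mul_mem_mul (h2 (Ideal.pow_mem_pow (Ideal.mem_map_of_mem _ (mem_max_of_constantCoeff (ham i))) _))
        (Ideal.subset_span (Set.mem_range_self i))
    refine le_trans (Ideal.map_mono (Ideal.span_le.2 ?_)) (?_ : mA ≤ M ^ p)
    · rintro _ ⟨i, rfl⟩; exact mem_max_of_constantCoeff (ham i)
    · simp only [mA, PSLoc.maximalIdeal_eq, Ideal.map_span, Ideal.span_le]
      rintro _ ⟨_, ⟨i, rfl⟩, rfl⟩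
      exact hx i
  · -- the length
    have hres : Function.Surjective (algebraMap (MvPowerSeries (Fin n) k) ((Ring p (fun i => a i ^ (p - 1))) ⧸ IsLocalRing.maximalIdeal (Ring p (fun i => a i ^ (p - 1))))) := by
      intro y
      obtain ⟨t, rfl⟩ := Ideal.Quotient.mk_surjective y
      obtain ⟨c, rfl⟩ := (lc_bijective a MvPowerSeries.X).2 t
      haveI : NeZero p := ⟨(Fact.out : p.Prime).ne_zero⟩
      refine ⟨c 0, (Ideal.Quotient.eq.2 ?_ : Ideal.Quotient.mk _ (algebraMap (MvPowerSeries (Fin n) k) (Ring p (fun i => a i ^ (p - 1))) (c 0)) = _)⟩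
      rw [lc_apply, ← Finset.add_sum_erase _ _ (Finset.mem_univ (0 : Fin n → Fin p)), mon_zero, mul_one,
        sub_add_cancel_left, hmax]
      refine neg_mem (Ideal.sum_mem _ fun e he => ?_)
      obtain ⟨i, hi⟩ : ∃ i, e i ≠ 0 := Function.ne_iff.1 (Finset.ne_of_mem_erase he)
      rw [mon_eq _ e i]
      exact Ideal.mul_mem_left _ _ (Ideal.mul_mem_right _ _ (Ideal.pow_mem_of_mem _
        (Ideal.subset_span (Set.mem_range_self i)) _ (Nat.pos_of_ne_zero fun h => hi (Fin.ext h))))
    rw [length_eq_of_residue (R := (MvPowerSeries (Fin n) k)) hres]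
    let φ : (Ring p (fun i => a i ^ (p - 1))) ≃ₗ[(MvPowerSeries (Fin n) k)] ((Fin n → Fin p) → (MvPowerSeries (Fin n) k)) := (LinearEquiv.ofBijective _ (lc_bijective a MvPowerSeries.X)).symm
    let L : (Ring p (fun i => a i ^ (p - 1))) →ₗ[(MvPowerSeries (Fin n) k)] ((Fin n → Fin p) → (MvPowerSeries (Fin n) k) ⧸ J) := (LinearMap.pi fun e => (Submodule.mkQ J) ∘ₗ LinearMap.proj e) ∘ₗ φ.toLinearMap
    have hLs : Function.Surjective L := fun y => by
      choose r hr using fun e => Submodule.Quotient.mk_surjective J (y e)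
      exact ⟨φ.symm r, funext fun e => by simp [L]; exact hr e⟩
    have hker : LinearMap.ker L = (J.map (algebraMap (MvPowerSeries (Fin n) k) (Ring p (fun i => a i ^ (p - 1))))).restrictScalars (MvPowerSeries (Fin n) k) := by
      ext t
      rw [LinearMap.mem_ker, Submodule.restrictScalars_mem]
      constructor
      · intro h
        have hc : ∀ e, φ t e ∈ J := fun e => (Submodule.Quotient.mk_eq_zero J).1 (congrFun h e)
        rw [← φ.symm_apply_apply t]
        change lc _ (φ t) ∈ _
        rw [lc_apply]
        exact Ideal.sum_mem _ fun e _ => Ideal.mul_mem_right _ _ (Ideal.mem_map_of_mem _ (hc e))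
      · intro h
        rw [← Submodule.restrictScalars_mem (MvPowerSeries (Fin n) k), ← Ideal.smul_top_eq_map] at h
        refine Submodule.smul_induction_on h (fun r hr z _ => funext fun e => ?_) (fun x y hx hy => by rw [map_add, hx, hy, add_zero])
        simp only [L, LinearMap.comp_apply, map_smul, LinearMap.pi_apply, LinearMap.proj_apply, Pi.smul_apply,
          LinearEquiv.coe_coe, Pi.zero_apply, Submodule.mkQ_apply]
        rw [← Submodule.Quotient.mk_smul, Submodule.Quotient.mk_eq_zero, smul_eq_mul]
        exact Ideal.mul_mem_right _ _ hr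
    rw [← (Submodule.Quotient.restrictScalarsEquiv (MvPowerSeries (Fin n) k) (J.map (algebraMap (MvPowerSeries (Fin n) k) (Ring p (fun i => a i ^ (p - 1)))))).length_eq,
      ((Submodule.quotEquivOfEq _ _ hker.symm).trans (L.quotKerEquivOfSurjective hLs)).length_eq,
      Module.length_pi_of_fintype, Finset.sum_const, Finset.card_univ, Fintype.card_fun, Fintype.card_fin,
      Fintype.card_fin, nsmul_eq_mul]
    push_cast
    rfl


open MvPolynomial in
/-- Let `k` be a field of characteristic `p > 0`, `n ≥ 2`, `R = k[[x_1, …, x_n]]`, `a_1, …, a_n ∈ R`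
with zero constant term, `A = R[u_1, …, u_n] / (u_i ^ p - a_i ^ (p-1) u_i - x_i : i = 1..n)`, and
`σ` the `R`-algebra automorphism of `A` with `σ u_i = u_i + a_i` for every `i` (when some `a_i` is
non-zero it generates a group `G` of order `p`). Let `I ⊆ A` be the ideal generated by the elements
`σ t - t`, `t ∈ A`, which defines the fixed-point scheme of `G`. Then `I ⊆ (u_1, …, u_n) ^ p` (the
`p`-th power of the maximal ideal of `A`), and the length of `A / I` over `A` equals `p ^ n` times
the length of `R / (a_1, …, a_n)` over `R`; in particular it is a multiple of `p ^ n`. (The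
published statement is for an arbitrary moderately ramified action, which has this normal form with
`a_1, …, a_n` a system of parameters of `R`, and records only divisibility by `p ^ n`; here the
`a_i` are arbitrary non-units, both lengths being infinite when `(a_1, …, a_n)` is not primary to
the maximal ideal of `R`.) -/
theorem result
    (p : ℕ) [Fact p.Prime] (k : Type u) [Field k] [CharP k p] (n : ℕ) (hn : 2 ≤ n)
    (a : Fin n → MvPowerSeries (Fin n) k)
    (ham : ∀ i, MvPowerSeries.constantCoeff (a i) = 0) :
    let R := MvPowerSeries (Fin n) k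
    let I : Ideal (MvPolynomial (Fin n) R) :=
      Ideal.span (Set.range fun i : Fin n =>
        X i ^ p - C (a i ^ (p - 1)) * X i - C (MvPowerSeries.X i))
    let A := MvPolynomial (Fin n) R ⧸ I
    let u : Fin n → A := fun i => Ideal.Quotient.mk I (X i)
    ∀ σ : A ≃ₐ[R] A, (∀ i, σ (u i) = u i + algebraMap R A (a i)) →
      Ideal.span (Set.range fun t : A => σ t - t) ≤ Ideal.span (Set.range u) ^ p ∧
        Module.length A (A ⧸ Ideal.span (Set.range fun t : A => σ t - t)) =
          (p ^ n : ℕ∞) * Module.length R (R ⧸ Ideal.span (Set.range a)) := by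
  intro R I A u σ hσ
  exact main a ham σ hσ

end Groth.Agent.S19998
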