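import Groth.Statements.S2000
import Groth.Agent.EtGlueLib.Beauville

set_option autoImplicit false
universe u
open TensorProduct
open EtAlg

namespace Groth.Agent.S2000

/-- Beauville–Laszlo, essential surjectivity with glueability: take a glueing pair (R -> R', f). Fix an
R'-module M', an R-module M₁ on which multiplication by f is bijective (i.e. an R_f-module), and α
an R'-linear isomorphism from the localization of M' at f to R' ⊗_R M₁ (an isomorphism of
R'_f-modules). Then there is an R-module M, glueable for (R -> R', f), with an R'-isomorphism R' ⊗_R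
M ≅ M' and an R-isomorphism M_f ≅ M₁ under which α becomes the canonical identification (R' ⊗_R M)_f
= R' ⊗_R M_f. -/
theorem result (R R' : Type u) [CommRing R] [CommRing R'] [Algebra R R'] (f : R)
    (hRR : EtGlue.IsGlueingPair R R' f) (M' : Type u) [AddCommGroup M'] [Module R' M'] (M₁ : Type u) [AddCommGroup M₁]
    [Module R M₁] (hf : Function.Bijective fun x : M₁ => f • x)
    (α : LocalizedModule (Submonoid.powers (algebraMap R R' f)) M' ≃ₗ[R'] R' ⊗[R] M₁) :
    ∃ (M : Type u) (_ : AddCommGroup M) (_ : Module R M) (_ : EtGlue.IsGlueable R R' f M)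
      (e' : R' ⊗[R] M ≃ₗ[R'] M') (e₁ : LocalizedModule (Submonoid.powers f) M ≃ₗ[R] M₁),
      ∀ m : M, α (LocalizedModule.mkLinearMap (Submonoid.powers (algebraMap R R' f)) M' (e' ((1 : R') ⊗ₜ[R] m))) =
        (1 : R') ⊗ₜ[R] e₁ (LocalizedModule.mkLinearMap (Submonoid.powers f) M m) := by
  letI : Module R M' := Module.compHom M' (algebraMap R R')
  haveI : IsScalarTower R R' M' := IsScalarTower.of_algebraMap_smul fun r x => rfl
  haveI := Groth.Agent.EtGlueLib.isLocalizedModule_gluedSnd hf α
  let e' := LinearEquiv.ofBijective _ (Groth.Agent.EtGlueLib.liftBaseChange_gluedFst_bijective hRR hf α)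
  let e₁ := IsLocalizedModule.iso (Submonoid.powers f) (Groth.Agent.EtGlueLib.gluedSnd α)
  refine ⟨Groth.Agent.EtGlueLib.glued α, inferInstance, inferInstance,
    Groth.Agent.EtGlueLib.isGlueable_glued hRR hf α, e', e₁, fun m => ?_⟩
  have h1 : e' ((1 : R') ⊗ₜ[R] m) = (m : M' × M₁).1 := by
    show LinearMap.liftBaseChange R' (Groth.Agent.EtGlueLib.gluedFst α) _ = _
    rw [LinearMap.liftBaseChange_tmul, one_smul]
    rfl
  have h2 : e₁ (LocalizedModule.mkLinearMap (Submonoid.powers f) _ m) = (m : M' × M₁).2 := by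
    show e₁ (LocalizedModule.mk m 1) = _
    exact IsLocalizedModule.iso_mk_one _ _ m
  rw [h1, h2]
  exact (Groth.Agent.EtGlueLib.mem_glued α).mp m.2

end Groth.Agent.S2000
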