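import Groth.Statements.S20000
import Groth.Agent.SGA1Torsor.Basic
import Groth.Agent.GrpScheme.KernelPair
import Groth.Agent.GrpScheme.HomFlat
import Groth.Agent.AbVarLib.Basics
import Mathlib.AlgebraicGeometry.SpreadingOut

set_option autoImplicit false
universe u
open CategoryTheory CategoryTheory.Limits MonoidalCategory CartesianMonoidalCategory MonObj AlgebraicGeometry
open Neron
open scoped TensorProduct

noncomputable section

namespace Groth.Agent.S20000

variable {κ : Type u} [Field κ] {G H : Over (Spec (CommRingCat.of κ))} [GrpObj G] [GrpObj H]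
  (q : G ⟶ H) [IsMonHom q] (i : Red.Ga (Spec (CommRingCat.of κ)) ⟶ G) [IsMonHom i]

/-- a section of an extension by the additive group over the generic point -/
theorem exists_generic_section (hker : AlgGrp.IsKernel i q) (η₀ : H.left) [hF : Fact (IsField (H.left.presheaf.stalk η₀))]
    (hη : η₀ ∈ Set.range q.left.base) :
    ∃ y : Spec (H.left.presheaf.stalk η₀) ⟶ G.left, y ≫ q.left = H.left.fromSpecStalk η₀ := by
  let A := H.left.presheaf.stalk η₀
  letI : Field A := hF.out.toField
  let c : Spec (CommRingCat.of A) ⟶ H.left := H.left.fromSpecStalk η₀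
  obtain ⟨x₀, hx₀⟩ := hη
  obtain ⟨w, -⟩ := Scheme.Pullback.exists_preimage_pullback (f := q.left) (g := c) x₀ (IsLocalRing.closedPoint A)
    (hx₀.trans (Scheme.fromSpecStalk_closedPoint).symm)
  let F := pullback q.left c
  let B : Type u := F.residueField w
  let r := F.fromSpecResidueField w
  obtain ⟨φ, hφ⟩ := Spec.map_surjective (r ≫ pullback.snd q.left c)
  letI : Algebra A B := φ.hom.toAlgebra
  have : Nontrivial B := inferInstance
  have : Module.FaithfullyFlat A B := inferInstance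
  let j : Spec (CommRingCat.of A) ⟶ Spec (CommRingCat.of κ) := c ≫ H.hom
  let bB : Spec (CommRingCat.of B) ⟶ Spec (CommRingCat.of A) := Spec.map (CommRingCat.ofHom (algebraMap A B))
  have hbB : bB = r ≫ pullback.snd q.left c := hφ
  let x : SGA1Torsor.QA j B ⟶ G := Over.homMk (r ≫ pullback.fst q.left c) (by
    show (r ≫ pullback.fst q.left c) ≫ G.hom = bB ≫ c ≫ H.hom
    rw [← Over.w q, hbB, Category.assoc, Category.assoc, pullback.condition_assoc])
  let cA : Over.mk j ⟶ H := Over.homMk c rfl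
  have hxq : x.left ≫ q.left = bB ≫ c := by
    show (r ≫ pullback.fst q.left c) ≫ q.left = _
    rw [hbB, Category.assoc, pullback.condition, Category.assoc]
  let pl := SGA1Torsor.qmap j (Algebra.TensorProduct.includeLeft : B →ₐ[A] B ⊗[A] B)
  let pr := SGA1Torsor.qmap j (Algebra.TensorProduct.includeRight : B →ₐ[A] B ⊗[A] B)
  have hlr : pl.left ≫ bB = pr.left ≫ bB := by
    show Spec.map _ ≫ Spec.map _ = Spec.map _ ≫ Spec.map _
    rw [← Spec.map_comp, ← Spec.map_comp, ← CommRingCat.ofHom_comp, ← CommRingCat.ofHom_comp]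
    congr 2
    exact (Algebra.TensorProduct.includeLeft : B →ₐ[A] B ⊗[A] B).comp_algebraMap.trans
      (Algebra.TensorProduct.includeRight : B →ₐ[A] B ⊗[A] B).comp_algebraMap.symm
  have hq0 : ((pl ≫ x)⁻¹ * (pr ≫ x)) ≫ q = 1 := by
    rw [MonObj.mul_comp, GrpObj.inv_comp, inv_mul_eq_one]
    apply Over.OverMorphism.ext
    show (pl.left ≫ x.left) ≫ q.left = (pr.left ≫ x.left) ≫ q.left
    rw [Category.assoc, Category.assoc, hxq, reassoc_of% hlr]
  let g := hker.lift ((pl ≫ x)⁻¹ * (pr ≫ x)) (toUnit _) (hq0.trans Hom.one_def)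
  have hg : g ≫ i = (pl ≫ x)⁻¹ * (pr ≫ x) := hker.lift_fst _ _ _
  have hi_inj : ∀ {T : Over (Spec (CommRingCat.of κ))} (a b : T ⟶ Red.Ga _), a ≫ i = b ≫ i → a = b :=
    fun a b h => hker.hom_ext h (toUnit_unique _ _)
  obtain ⟨t, ht'⟩ := SGA1Torsor.exists_gaQ j g
  rw [← ht'] at hg
  have hco : SGA1Torsor.gaQ j (SGA1Torsor.a13 (A := A) (B := B) t) =
      SGA1Torsor.gaQ j (SGA1Torsor.a12 (A := A) (B := B) t) * SGA1Torsor.gaQ j (SGA1Torsor.a23 (A := A) (B := B) t) := by
    have hk : ∀ f : B ⊗[A] B →ₐ[A] B ⊗[A] (B ⊗[A] B), SGA1Torsor.gaQ j (f t) ≫ i =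
        (SGA1Torsor.qmap j (f.comp Algebra.TensorProduct.includeLeft) ≫ x)⁻¹ *
          (SGA1Torsor.qmap j (f.comp Algebra.TensorProduct.includeRight) ≫ x) := fun f => by
      rw [← SGA1Torsor.comp_gaQ, Category.assoc, hg, MonObj.comp_mul, GrpObj.comp_inv, SGA1Torsor.qmap_comp',
        SGA1Torsor.qmap_comp']
    apply hi_inj
    rw [MonObj.mul_comp, hk, hk, hk]
    have e₁ : (SGA1Torsor.a12 (A := A) (B := B)).comp Algebra.TensorProduct.includeLeft =
        (SGA1Torsor.a13 (A := A) (B := B)).comp Algebra.TensorProduct.includeLeft := by ext b; simp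
    have e₂ : (SGA1Torsor.a12 (A := A) (B := B)).comp Algebra.TensorProduct.includeRight =
        (SGA1Torsor.a23 (A := A) (B := B)).comp Algebra.TensorProduct.includeLeft := by ext b; simp
    have e₃ : (SGA1Torsor.a13 (A := A) (B := B)).comp Algebra.TensorProduct.includeRight =
        (SGA1Torsor.a23 (A := A) (B := B)).comp Algebra.TensorProduct.includeRight := by ext b; simp
    rw [e₁, e₂, e₃, _root_.mul_assoc, mul_inv_cancel_left]
  rw [← SGA1Torsor.gaQ_mul] at hco
  have ht : WittExt.Amitsur.d2 A B t = 0 := by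
    have hd : ∀ z : B ⊗[A] B, WittExt.Amitsur.d2 A B z =
        SGA1Torsor.a23 (A := A) (B := B) z - SGA1Torsor.a13 (A := A) (B := B) z + SGA1Torsor.a12 (A := A) (B := B) z := fun z => by
      induction z using TensorProduct.induction_on with
      | zero => simp
      | tmul b d => simp [WittExt.Amitsur.d2]
      | add z w hz hw => rw [map_add, hz, hw, map_add, map_add, map_add]; abel
    rw [hd, SGA1Torsor.gaQ_injective j hco]; abel
  obtain ⟨b, hb⟩ := WittExt.Amitsur.exists_of_cocycle ht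
  let x' := x * (SGA1Torsor.gaQ j (-b) ≫ i)
  have hx' : pl ≫ x' = pr ≫ x' := by
    simp only [x', pl, pr, MonObj.comp_mul, ← Category.assoc, SGA1Torsor.comp_gaQ]
    rw [show SGA1Torsor.qmap j (Algebra.TensorProduct.includeRight : B →ₐ[A] B ⊗[A] B) ≫ x =
      (pl ≫ x) * (SGA1Torsor.gaQ j t ≫ i) by rw [hg, mul_inv_cancel_left],
      _root_.mul_assoc (pl ≫ x), ← MonObj.mul_comp (g := i), ← SGA1Torsor.gaQ_mul]
    congr 3
    simp [hb, TensorProduct.neg_tmul, TensorProduct.tmul_neg]
    abel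
  have : Flat bB := HasRingHomProperty.Spec_iff.2 (RingHom.flat_algebraMap_iff.2 inferInstance)
  have : Surjective bB := ⟨PrimeSpectrum.comap_surjective_of_faithfullyFlat⟩
  have key : ∀ {Z : Scheme.{u}} (g₁ g₂ : Z ⟶ Spec (CommRingCat.of B)), g₁ ≫ bB = g₂ ≫ bB →
      g₁ ≫ x'.left = g₂ ≫ x'.left := by
    intro Z g₁ g₂ h
    let l := pullback.lift g₁ g₂ h ≫ (pullbackSpecIso A B B).hom
    have h₁ : l ≫ pl.left = g₁ := by
      rw [Category.assoc]
      erw [pullbackSpecIso_hom_fst]
      exact pullback.lift_fst _ _ _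
    have h₂ : l ≫ pr.left = g₂ := by
      rw [Category.assoc]
      erw [pullbackSpecIso_hom_snd]
      exact pullback.lift_snd _ _ _
    rw [← h₁, ← h₂, Category.assoc, Category.assoc]
    exact congrArg (l ≫ ·) (congrArg CommaMorphism.left hx')
  refine ⟨EffectiveEpi.desc bB x'.left key, ?_⟩
  rw [← cancel_epi bB, EffectiveEpi.fac_assoc]
  have hx'q : x' ≫ q = x ≫ q := by
    rw [MonObj.mul_comp, Category.assoc, show i ≫ q = 1 by rw [Hom.one_def, hker.w], MonObj.comp_one, _root_.mul_one]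
  exact (congrArg CommaMorphism.left hx'q).trans hxq

theorem unirational (hker : AlgGrp.IsKernel i q) [IsIntegral H.left] [LocallyOfFiniteType G.hom]
    [LocallyOfFiniteType H.hom] [Flat q.left] (hq : Function.Surjective q.left.base) [IrreducibleSpace G.left] (n : ℕ)
    (V : (AffineSpace (ULift.{u} (Fin n)) (Spec (CommRingCat.of κ))).Opens) (ψ : (V : Scheme.{u}) ⟶ H.left)
    (hV : (V : Set (AffineSpace (ULift.{u} (Fin n)) (Spec (CommRingCat.of κ)))).Nonempty) (hψ : DenseRange ψ.base)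
    (hψk : ψ ≫ H.hom = V.ι ≫ (AffineSpace (ULift.{u} (Fin n)) (Spec (CommRingCat.of κ)) ↘ Spec (CommRingCat.of κ))) :
    ∃ (m : ℕ) (W : (AffineSpace (ULift.{u} (Fin m)) (Spec (CommRingCat.of κ))).Opens) (φ : (W : Scheme.{u}) ⟶ G.left),
      (W : Set (AffineSpace (ULift.{u} (Fin m)) (Spec (CommRingCat.of κ)))).Nonempty ∧ DenseRange φ.base ∧
      φ ≫ G.hom = W.ι ≫ (AffineSpace (ULift.{u} (Fin m)) (Spec (CommRingCat.of κ)) ↘ Spec (CommRingCat.of κ)) := by
  let S := Spec (CommRingCat.of κ)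
  have : IsLocallyNoetherian H.left := LocallyOfFiniteType.isLocallyNoetherian H.hom
  have : LocallyOfFiniteType q.left := by
    have : LocallyOfFiniteType (q.left ≫ H.hom) := by rw [Over.w]; infer_instance
    exact locallyOfFiniteType_of_comp q.left H.hom
  let η₀ := genericPoint H.left
  have : Fact (IsField (H.left.presheaf.stalk η₀)) := ⟨(inferInstance : Field H.left.functionField).toIsField⟩
  obtain ⟨y, hy⟩ := exists_generic_section q i hker η₀ (hq η₀)
  obtain ⟨U, hηU, s, -, hs⟩ := spread_out_of_isGermInjective' (𝟙 H.left) q.left y (hy.trans (Category.comp_id _).symm)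
  rw [Category.comp_id] at hs
  let Nn := ULift.{u} (Fin n)
  let Nm := ULift.{u} (Fin (n + 1))
  let p : AffineSpace Nm S ⟶ AffineSpace Nn S :=
    AffineSpace.homOfVector (AffineSpace Nm S ↘ S) fun k => AffineSpace.coord S (ULift.up k.down.castSucc)
  let W' : (V : Scheme.{u}).Opens := ψ ⁻¹ᵁ U
  let W₁ := V.ι ''ᵁ W'
  let W := p ⁻¹ᵁ W₁
  let l : (W : Scheme.{u}) ⟶ (W' : Scheme.{u}) := IsOpenImmersion.lift (W'.ι ≫ V.ι) (W.ι ≫ p) (by
    rintro _ ⟨a, rfl⟩
    obtain ⟨v, hv, hv'⟩ := a.2
    exact ⟨⟨v, hv⟩, hv'⟩)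
  have hl : l ≫ W'.ι ≫ V.ι = W.ι ≫ p := IsOpenImmersion.lift_fac _ _ _
  let gsec := (ψ ∣_ U) ≫ s
  have hgs : gsec ≫ G.hom = W'.ι ≫ V.ι ≫ (AffineSpace Nn S ↘ S) := by
    rw [← Over.w q]
    simp only [gsec, Category.assoc, reassoc_of% hs]
    rw [morphismRestrict_ι_assoc, hψk]
  let T : Over S := Over.mk (W.ι ≫ (AffineSpace Nm S ↘ S))
  let a₁ : T ⟶ G := Over.homMk (l ≫ gsec) (by
    show (l ≫ gsec) ≫ G.hom = W.ι ≫ _
    rw [Category.assoc, hgs, reassoc_of% hl, AffineSpace.homOfVector_over])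
  let lastc : Nm := ULift.up (Fin.last n)
  let a₂ : T ⟶ Red.Ga S := RedPts.gaPt (X := T) (W.ι.appTop (AffineSpace.coord S lastc))
  let φ : T ⟶ G := a₁ * (a₂ ≫ i)
  have hiq : i ≫ q = 1 := by rw [Hom.one_def, hker.w]
  -- lifting points
  have hlift : ∀ z : G.left, q.left.base z ∈ ψ.base '' (W' : Set (V : Scheme.{u})) → z ∈ Set.range φ.left.base := by
    rintro z ⟨v, hv, hvz⟩
    obtain ⟨c, hcz, hcv⟩ := Scheme.Pullback.exists_preimage_pullback (f := q.left) (g := ψ ∣_ U ≫ U.ι) z
      ⟨v, hv⟩ (by rw [morphismRestrict_ι]; exact hvz.symm)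
    let P := pullback q.left (ψ ∣_ U ≫ U.ι)
    let r := P.fromSpecResidueField c
    let rW := r ≫ pullback.snd q.left (ψ ∣_ U ≫ U.ι)
    let zL := r ≫ pullback.fst q.left (ψ ∣_ U ≫ U.ι)
    have hzW : zL ≫ q.left = rW ≫ ψ ∣_ U ≫ U.ι := by
      simp only [zL, rW, Category.assoc, pullback.condition]
    let L : Over S := Over.mk (zL ≫ G.hom)
    let zp : L ⟶ G := Over.homMk zL rfl
    let sp : L ⟶ G := Over.homMk (rW ≫ gsec) (by
      show (rW ≫ gsec) ≫ G.hom = zL ≫ G.hom
      rw [← Over.w q, reassoc_of% hzW]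
      simp only [gsec, Category.assoc, reassoc_of% hs])
    have h0 : (sp⁻¹ * zp) ≫ q = 1 := by
      rw [MonObj.mul_comp, GrpObj.inv_comp, inv_mul_eq_one]
      apply Over.OverMorphism.ext
      show (rW ≫ gsec) ≫ q.left = zL ≫ q.left
      rw [hzW]
      simp only [gsec, Category.assoc, hs]
    let τ := hker.lift (sp⁻¹ * zp) (toUnit _) (h0.trans Hom.one_def)
    let wv : L.left ⟶ AffineSpace Nn S := rW ≫ W'.ι ≫ V.ι
    have hwv : wv ≫ (AffineSpace Nn S ↘ S) = L.hom := by
      show _ = zL ≫ G.hom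
      rw [← Over.w q, reassoc_of% hzW, morphismRestrict_ι_assoc, hψk]
      simp only [wv, Category.assoc]
      rfl
    let vec : Nm → Γ(L.left, ⊤) := fun k =>
      Fin.snoc (α := fun _ => Γ(L.left, ⊤)) (fun m : Fin n => wv.appTop (AffineSpace.coord S (ULift.up m))) (Red.gaFn τ) k.down
    let pt : L.left ⟶ AffineSpace Nm S := AffineSpace.homOfVector L.hom vec
    have hp : pt ≫ p = wv := by
      apply AffineSpace.hom_ext
      · rw [Category.assoc, AffineSpace.homOfVector_over, AffineSpace.homOfVector_over, hwv]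
      · rintro ⟨k⟩
        rw [Scheme.Hom.comp_appTop, CommRingCat.comp_apply, AffineSpace.homOfVector_appTop_coord,
          AffineSpace.homOfVector_appTop_coord]
        exact Fin.snoc_castSucc _ _ _
    let ptW : L.left ⟶ (W : Scheme.{u}) := IsOpenImmersion.lift W.ι pt (by
      rintro _ ⟨e, rfl⟩
      rw [Scheme.Opens.range_ι]
      show p.base (pt.base e) ∈ W₁
      rw [← Scheme.Hom.comp_apply, hp]
      exact ⟨(rW ≫ W'.ι).base e, (rW.base e).2, rfl⟩)
    have hptW : ptW ≫ W.ι = pt := IsOpenImmersion.lift_fac _ _ _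
    let ptT : L ⟶ T := Over.homMk ptW (by
      show ptW ≫ W.ι ≫ _ = L.hom
      rw [reassoc_of% hptW, AffineSpace.homOfVector_over])
    have e1 : ptT ≫ a₁ = sp := by
      apply Over.OverMorphism.ext
      show ptW ≫ l ≫ gsec = rW ≫ gsec
      rw [← Category.assoc]
      congr 1
      rw [← cancel_mono (W'.ι ≫ V.ι), Category.assoc, hl, reassoc_of% hptW, hp]
    have e2 : ptT ≫ a₂ = τ := RedPts.ga_injective (by
      rw [RedPts.ga_comp, RedPts.gaFn_gaPt]
      show (ptW ≫ W.ι).appTop _ = _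
      rw [hptW, AffineSpace.homOfVector_appTop_coord]
      exact Fin.snoc_last _ _)
    have e : ptT ≫ φ = zp := by
      simp only [φ, MonObj.comp_mul, ← Category.assoc, e1, e2]
      rw [hker.lift_fst, mul_inv_cancel_left]
    refine ⟨ptW.base (IsLocalRing.closedPoint _), ?_⟩
    have := congrArg (fun k : L ⟶ G => k.left.base (IsLocalRing.closedPoint _)) e
    refine this.trans ?_
    show zL.base _ = z
    rw [show zL.base (IsLocalRing.closedPoint _) = (pullback.fst q.left (ψ ∣_ U ≫ U.ι)).base (r.base _) from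
      Scheme.Hom.comp_apply _ _ _]
    show (pullback.fst q.left (ψ ∣_ U ≫ U.ι)).base ((P.fromSpecResidueField c).base _) = z
    erw [Scheme.fromSpecResidueField_apply]
    exact hcz
  have hdense : Dense (ψ.base '' (W' : Set (V : Scheme.{u}))) := by
    have : ψ.base '' (W' : Set (V : Scheme.{u})) = Set.range ψ.base ∩ U := Set.image_preimage_eq_range_inter
    rw [this]
    exact Dense.inter_of_isOpen_right hψ (U.isOpen.dense ⟨η₀, hηU⟩) U.isOpen
  have hφ : DenseRange φ.left.base :=
    (hdense.preimage q.left.isOpenMap).mono fun z hz => hlift z hz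
  refine ⟨n + 1, W, φ.left, ?_, hφ, Over.w φ⟩
  obtain ⟨z⟩ : Nonempty G.left := inferInstance
  obtain ⟨w, -⟩ := hφ.exists_mem_open isOpen_univ ⟨z, trivial⟩
  exact ⟨W.ι.base w, w.2⟩

/-- Let `κ` be an arbitrary field and `G`, `G''` smooth connected commutative group schemes of finite
type over `κ`. Let `q : G → G''` be a homomorphism which is flat and surjective, and `i : 𝔾_a → G` a
homomorphism exhibiting the additive group as the kernel of `q` (so `0 → 𝔾_a → G → G'' → 0` is exact
in the fppf topology). If `G''` is unirational, i.e. admits a dominant `κ`-morphism from a nonempty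
open subscheme of an affine space over `κ`, then so does `G`. (The published statement allows the
kernel to be any repeated extension of copies of `𝔾_a`; this row is the case of a single copy, from
which the general case follows by induction on the length.) -/
theorem result
    (κ : Type u) [Field κ]
    (G G'' : Over (Spec (CommRingCat.of κ))) [GrpObj G] [IsCommMonObj G] [GrpObj G''] [IsCommMonObj G'']
    [Smooth G.hom] [LocallyOfFiniteType G.hom] [QuasiCompact G.hom] [ConnectedSpace G.left]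
    [Smooth G''.hom] [LocallyOfFiniteType G''.hom] [QuasiCompact G''.hom] [ConnectedSpace G''.left]
    (q : G ⟶ G'') [IsMonHom q] [Flat q.left] (hq : Function.Surjective q.left.base)
    (i : Red.Ga (Spec (CommRingCat.of κ)) ⟶ G) [IsMonHom i] (hker : AlgGrp.IsKernel i q)
    (huni : ∃ (n : ℕ) (V : (AffineSpace (ULift.{u} (Fin n)) (Spec (CommRingCat.of κ))).Opens)
        (ψ : (V : Scheme.{u}) ⟶ G''.left),
      (V : Set (AffineSpace (ULift.{u} (Fin n)) (Spec (CommRingCat.of κ)))).Nonempty ∧ DenseRange ψ.base ∧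
      ψ ≫ G''.hom = V.ι ≫ (AffineSpace (ULift.{u} (Fin n)) (Spec (CommRingCat.of κ)) ↘ Spec (CommRingCat.of κ))) :
    ∃ (n : ℕ) (V : (AffineSpace (ULift.{u} (Fin n)) (Spec (CommRingCat.of κ))).Opens)
        (ψ : (V : Scheme.{u}) ⟶ G.left),
      (V : Set (AffineSpace (ULift.{u} (Fin n)) (Spec (CommRingCat.of κ)))).Nonempty ∧ DenseRange ψ.base ∧
      ψ ≫ G.hom = V.ι ≫ (AffineSpace (ULift.{u} (Fin n)) (Spec (CommRingCat.of κ)) ↘ Spec (CommRingCat.of κ)) := by
  obtain ⟨n, V, ψ, hV, hψ, hψk⟩ := huni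
  have := AbVarLib.Basics.irreducibleSpace_of_connectedSpace G
  have : IsIntegral G''.left := by
    have := AbVarLib.Basics.irreducibleSpace_of_connectedSpace G''
    have := GrpScheme.HomFlat.isReduced_of_smooth (K := κ) G''.hom
    exact isIntegral_of_irreducibleSpace_of_isReduced _
  exact unirational q i hker hq n V ψ hV hψ hψk

end Groth.Agent.S20000
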