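import Groth.Statements.S20004
import Groth.Agent.S15800

set_option autoImplicit false
universe u v w
open WildQuot

namespace Groth.Agent.S20004

/-- Let `A` be a complete regular local ring of Krull dimension at least `2` and prime characteristic
`p`; let `k` be a field with `k → A` mapping onto the residue field, such that `k` has no Galois
extension of degree `p`; let `G` be a group of order `p` acting on `A` by `k`-algebra automorphisms,
ramified precisely at the origin (for every non-maximal prime `P`, the inertia subgroup of `P` is
trivial). Let `R` be a `k`-algebra with an injective structure map `R → A` whose image is fixed by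
`G` (so `R ⊆ A^G`), with `A` finite over `R`. Galois extensions of fraction fields are expressed
through automorphism counts: since `A` and `A^G` are normal domains finite over `R`,
`Frac(A^G)/Frac(R)` is Galois exactly when `p` times the number of `k`-algebra automorphisms of
`A^G` fixing the image of `R` equals the rank `[Frac A : Frac R]` of `A` over `R`, and
`Frac(A)/Frac(R)` is Galois exactly when the number of `R`-algebra automorphisms of `A` equals that
rank. The row: the first equality implies the second. (The published statement assumes `R ⊆ A^G`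
finite with `Frac(A^G)/Frac(R)` Galois and concludes that `Frac(A)/Frac(R)` is Galois; here `R` is
taken to contain `k`, as the norm subrings of the source do.) -/
theorem result
    (p : ℕ) [Fact p.Prime] (A : Type u) [CommRing A] [IsRegularLocalRing A] [CharP A p]
    [IsAdicComplete (IsLocalRing.maximalIdeal A) A] (hdim : 2 ≤ ringKrullDim A)
    (k : Type v) [Field k] [Algebra k A]
    (hk : Function.Surjective (IsLocalRing.residue A ∘ algebraMap k A))
    (hkp : ∀ (L : Type v) [Field L] [Algebra k L], IsGalois k L → Module.finrank k L ≠ p)
    (G : Type w) [Group G] [Finite G] [MulSemiringAction G A] (hcard : Nat.card G = p)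
    [SMulCommClass G k A]
    (hram : ∀ P : Ideal A, P.IsPrime → P ≠ IsLocalRing.maximalIdeal A → P.inertia G = ⊥)
    (R : Type v) [CommRing R] [Algebra k R] [Algebra R A] [IsScalarTower k R A] [Module.Finite R A]
    (hRinj : Function.Injective (algebraMap R A))
    (hRG : ∀ (σ : G) (r : R), σ • algebraMap R A r = algebraMap R A r)
    (hgal : p * Nat.card {φ : FixedPoints.subalgebra k A G ≃ₐ[k] FixedPoints.subalgebra k A G //
        ∀ b : FixedPoints.subalgebra k A G, (b : A) ∈ Set.range (algebraMap R A) → (φ b : A) = b} =
      Module.finrank R A) :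
    Nat.card (A ≃ₐ[R] A) = Module.finrank R A := by
  classical
  have : IsDomain A := RegLoc.isDomain A
  have : IsDomain R := hRinj.isDomain
  have : Fintype G := Fintype.ofFinite G
  have : FaithfulSMul R A := (faithfulSMul_iff_algebraMap_injective R A).2 hRinj
  letI : Algebra (FractionRing R) (FractionRing A) := FractionRing.liftAlgebra R (FractionRing A)
  have hne : (⊥ : Ideal A) ≠ IsLocalRing.maximalIdeal A := by
    intro h
    have hF : IsField A := (IsLocalRing.isField_iff_maximalIdeal_eq (R := A)).2 h.symm
    rw [ringKrullDim_eq_zero_of_isField hF] at hdim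
    exact absurd hdim (by norm_num)
  have hfaith : ∀ σ τ : G, (∀ a : A, σ • a = τ • a) → σ = τ := by
    intro σ τ h
    have hmem : τ⁻¹ * σ ∈ (⊥ : Ideal A).inertia G := fun a => by
      rw [Submodule.mem_toAddSubgroup, Ideal.mem_bot, mul_smul, h a, inv_smul_smul, sub_self]
    rw [hram ⊥ Ideal.isPrime_bot hne, Subgroup.mem_bot, inv_mul_eq_one] at hmem
    exact hmem.symm
  -- the upper bound
  let L := FractionRing A
  let K := FractionRing R
  have hfr : Module.finrank K L = Module.finrank R A := IsFractionRing.finrank_eq R K A L
  have hpos : 0 < Module.finrank R A := by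
    rw [Module.finrank]
    exact Cardinal.toNat_pos.2 ⟨(rank_pos (R := R) (M := A)).ne', Module.rank_lt_aleph0 R A⟩
  have : FiniteDimensional K L := Module.finite_of_finrank_pos (hfr ▸ hpos)
  have hinj := IsFractionRing.fieldEquivOfAlgEquivHom_injective R A K L
  have : Finite (A ≃ₐ[R] A) := Finite.of_injective _ hinj
  have hle : Nat.card (A ≃ₐ[R] A) ≤ Module.finrank R A := by
    rw [← hfr]
    refine (Nat.card_le_card_of_injective _ hinj).trans ?_
    rw [Nat.card_eq_fintype_card]
    exact AlgEquiv.card_le
  refine le_antisymm hle ?_
  -- the lower bound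
  let B := FixedPoints.subalgebra k A G
  let Φ := {φ : B ≃ₐ[k] B // ∀ b : B, (b : A) ∈ Set.range (algebraMap R A) → (φ b : A) = b}
  choose ψ hψ using fun φ : Φ => S15800.result p A hdim k hk hkp G hcard hram φ.1
  let E : Φ × G → (A ≃ₐ[R] A) := fun x =>
    AlgEquiv.ofRingEquiv (f := (MulSemiringAction.toRingEquiv G A x.2).trans (ψ x.1).toRingEquiv) fun r => by
      change ψ x.1 (x.2 • algebraMap R A r) = algebraMap R A r
      rw [hRG]
      exact (hψ x.1 ⟨algebraMap R A r, fun σ => hRG σ r⟩).trans (x.1.2 _ ⟨r, rfl⟩)
  have hE : Function.Injective E := by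
    rintro ⟨φ, σ⟩ ⟨φ', τ⟩ h
    have h' : ∀ a : A, ψ φ (σ • a) = ψ φ' (τ • a) := fun a => DFunLike.congr_fun h a
    have hφ : φ = φ' := Subtype.ext <| AlgEquiv.ext fun b => Subtype.ext <| by
      rw [← hψ φ b, ← hψ φ' b]
      have := h' (b : A)
      rwa [show σ • (b : A) = b from b.2 σ, show τ • (b : A) = b from b.2 τ] at this
    subst hφ
    rw [hfaith σ τ fun a => (ψ φ).injective (h' a)]
  have := Nat.card_le_card_of_injective E hE
  rw [Nat.card_prod, hcard, mul_comm] at this
  exact hgal.ge.trans this

end Groth.Agent.S20004
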