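import Groth.Statements.S20007
import Groth.Agent.GLDescent.Special
import Groth.Agent.GLDescent.GLnFlat
-- import your own Groth.Agent.* helpers here

set_option autoImplicit false
universe u
open CategoryTheory MonoidalCategory CartesianMonoidalCategory MonObj AlgebraicGeometry
open GIT

namespace Groth.Agent.S20007

/-- The general linear group is special. Over an algebraically closed field k of characteristic zero,
let n be a natural number and let the group scheme GL_{n,k} (the general linear group over Spec k)
act on a k-scheme X; let φ : X → Y be a GL_{n,k}-torsor over the k-scheme Y: the square formed by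
the action, the second projection GL_{n,k} ×_k X → X and φ twice is cartesian, and φ acquires
sections on the members of some fpqc covering family of Y. Then φ is locally trivial: it acquires
sections on the members of some Zariski open covering of Y. (The statement holds over any base; the
ground field is the standing one of the text.) -/
theorem result
    (k : Type u) [Field k] [IsAlgClosed k] [CharZero k] (n : ℕ)
    (X Y : Over (Spec (CommRingCat.of k)))
    (a : AlgGrp.Action (FrB.GLn n (Spec (CommRingCat.of k))) X) (φ : X ⟶ Y)
    (hcart : IsPullback a.act (snd (FrB.GLn n (Spec (CommRingCat.of k))) X) φ φ)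
    (hloc : NonAbH1.IsLocallyTrivialFor Scheme.fpqcPrecoverage (Over.mk φ.left : Over Y.left)) :
    NonAbH1.IsLocallyTrivialFor Scheme.zariskiPrecoverage (Over.mk φ.left : Over Y.left) := by
  obtain ⟨b, hb⟩ := Groth.Agent.GLDescent.exists_action_over a φ hcart
  have htor : NonAbH1.IsTorsorFor Scheme.fpqcPrecoverage b := ⟨hb, hloc⟩
  let adj := Over.mapPullbackAdj Y.hom
  refine (Groth.Agent.GLDescent.exists_zariski_section htor
    (fun {T} g => Groth.Agent.GrpScheme.GLnPts.mat (S := Spec (CommRingCat.of k)) (T := (Over.map Y.hom).obj T)
      ((adj.homEquiv T _).symm g)) ?_ ?_ ?_ ?_ ?_).2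
  · intro T g h
    have e : (adj.homEquiv T _).symm (g * h) = (adj.homEquiv T _).symm g * (adj.homEquiv T _).symm h := by
      apply (adj.homEquiv T _).injective
      rw [Equiv.apply_symm_apply, Adjunction.homEquiv_unit, Functor.map_mul, MonObj.comp_mul,
        ← Adjunction.homEquiv_unit, ← Adjunction.homEquiv_unit, Equiv.apply_symm_apply, Equiv.apply_symm_apply]
    simp only [e]
    exact Groth.Agent.GrpScheme.GLnPts.mat_mul _ _
  · exact fun g => Groth.Agent.GrpScheme.GLnPts.isUnit_det_mat _
  · intro T T' j g
    simp only [Adjunction.homEquiv_naturality_left_symm, Groth.Agent.GrpScheme.GLnPts.mat_comp]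
    rfl
  · intro T g h e
    exact (adj.homEquiv T _).symm.injective (Groth.Agent.GrpScheme.GLnPts.mat_injective e)
  · intro T M hM
    obtain ⟨z, hz⟩ := Groth.Agent.GrpScheme.GLnPts.exists_mat_eq (T := (Over.map Y.hom).obj T) M hM
    exact ⟨adj.homEquiv T _ z, by simp only [Equiv.symm_apply_apply]; exact hz⟩

end Groth.Agent.S20007
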