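import Groth.Statements.S20008
import Groth.Agent.GLDescent.Extension
import Groth.Agent.GrpScheme.HomFlat
import Groth.Agent.GrpScheme.Cartier
-- import your own Groth.Agent.* helpers here

set_option autoImplicit false
universe u
open CategoryTheory MonoidalCategory CartesianMonoidalCategory MonObj AlgebraicGeometry
open GIT

namespace Groth.Agent.S20008

open Groth.Agent Groth.Agent.GLDescent Groth.Agent.GITLib MonObj CategoryTheory.Limits

/-- An extension of special groups is special. Over an algebraically closed field k of characteristic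
zero, let G be an affine group scheme of finite type over k with a closed normal subgroup scheme N,
the kernel of a surjective homomorphism q : G → Q onto an affine group scheme Q of finite type over
k (the factor group G/N). Call an affine group scheme H of finite type over k special when for every
action of H on a k-scheme X and every morphism ψ : X → Y of k-schemes which is an H-torsor over Y —
the square formed by the action, the second projection H ×_k X → X and ψ twice is cartesian, and ψ
acquires sections on the members of some fpqc covering family of Y — the morphism ψ acquires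
sections on the members of some Zariski open covering of Y. If N and Q are special, then G is
special. -/
theorem mem_zariski {S : Scheme.{u}} {R : Presieve S} (hR : R ∈ Scheme.zariskiPrecoverage S) (x : S) :
    ∃ (W : Scheme.{u}) (f : W ⟶ S) (_ : R f) (w : W), f w = x ∧ IsOpenImmersion f := by
  obtain ⟨W, f, hf, w, hw⟩ := hR.1 x
  rcases hf with @⟨W', f, hf⟩
  exact ⟨W', f, hf, w, hw, hR.2 hf⟩

theorem result
    (k : Type u) [Field k] [IsAlgClosed k] [CharZero k]
    (G N Q : Over (Spec (CommRingCat.of k))) [GrpObj G] [GrpObj N] [GrpObj Q]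
    [IsAffine G.left] [LocallyOfFiniteType G.hom]
    (iN : N ⟶ G) [IsMonHom iN] [IsClosedImmersion iN.left] (hnorm : AlgGrp.IsNormalHom iN)
    (q : G ⟶ Q) [IsMonHom q] [Surjective q.left] [IsAffine Q.left] [LocallyOfFiniteType Q.hom]
    (hker : AlgGrp.IsKernel iN q)
    (hN : ∀ (X Y : Over (Spec (CommRingCat.of k))) (b : AlgGrp.Action N X) (ψ : X ⟶ Y),
      IsPullback b.act (snd N X) ψ ψ →
      NonAbH1.IsLocallyTrivialFor Scheme.fpqcPrecoverage (Over.mk ψ.left : Over Y.left) →
      NonAbH1.IsLocallyTrivialFor Scheme.zariskiPrecoverage (Over.mk ψ.left : Over Y.left))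
    (hQ : ∀ (X Y : Over (Spec (CommRingCat.of k))) (b : AlgGrp.Action Q X) (ψ : X ⟶ Y),
      IsPullback b.act (snd Q X) ψ ψ →
      NonAbH1.IsLocallyTrivialFor Scheme.fpqcPrecoverage (Over.mk ψ.left : Over Y.left) →
      NonAbH1.IsLocallyTrivialFor Scheme.zariskiPrecoverage (Over.mk ψ.left : Over Y.left))
    (X Y : Over (Spec (CommRingCat.of k))) (a : AlgGrp.Action G X) (φ : X ⟶ Y)
    (hcart : IsPullback a.act (snd G X) φ φ)
    (hloc : NonAbH1.IsLocallyTrivialFor Scheme.fpqcPrecoverage (Over.mk φ.left : Over Y.left)) :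
    NonAbH1.IsLocallyTrivialFor Scheme.zariskiPrecoverage (Over.mk φ.left : Over Y.left) := by
  obtain ⟨a', ha'⟩ := exists_action_over a φ hcart
  let S := Y.left
  let P : Over S := Over.mk φ.left
  let F := Over.pullback Y.hom
  let J := Red.bc Y.hom G
  let J' := Red.bc Y.hom Q
  let N' := Red.bc Y.hom N
  let adj := Over.mapPullbackAdj Y.hom
  let u : J ⟶ J' := F.map q
  let i : N' ⟶ J := F.map iN
  haveI : IsMonHom u := inferInstanceAs (IsMonHom (F.map q))
  haveI : IsMonHom i := inferInstanceAs (IsMonHom (F.map iN))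
  haveI : IsReduced Q.left := by
    haveI : Smooth Q.hom := GrpScheme.Cartier.smooth_of_charZero Q
    exact GrpScheme.HomFlat.isReduced_of_smooth Q.hom
  haveI : Flat q.left := GrpScheme.HomFlat.flat_of_surjective q
  haveI : IsAffineHom q.left := inferInstance
  haveI : Flat J.hom := MorphismProperty.pullback_snd (P := @Flat) G.hom Y.hom inferInstance
  haveI : IsAffineHom J.hom := MorphismProperty.pullback_snd (P := @IsAffineHom) G.hom Y.hom inferInstance
  haveI : IsAffineHom J'.hom := MorphismProperty.pullback_snd (P := @IsAffineHom) Q.hom Y.hom inferInstance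
  haveI : Mono iN := Over.mono_of_mono_left iN
  haveI : PreservesLimitsOfSize.{0, 0} F := adj.rightAdjoint_preservesLimits
  haveI : Mono i := inferInstanceAs (Mono (F.map iN))
  obtain ⟨P', π, hπ⟩ := exists_pushforward u (le_refl Scheme.fpqcPrecoverage) ⟨ha', hloc⟩
  -- the kernel
  have hsymm : ∀ {T : Over S} (g : T ⟶ J), (adj.homEquiv T Q).symm (g ≫ u) = (adj.homEquiv T G).symm g ≫ q :=
    fun g => Adjunction.homEquiv_naturality_right_symm adj g q
  have hnq : iN ≫ q = 1 := by rw [hker.w, Hom.one_def]
  have hi : i ≫ u = 1 := by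
    show F.map iN ≫ F.map q = 1
    rw [← F.map_comp, hnq, Functor.map_one]
  have hN' : ∀ {T : Over S} (g : T ⟶ J), g ≫ u = 1 → ∃ n : T ⟶ N', n ≫ i = g := by
    intro T g hg
    have h0 : (adj.homEquiv T G).symm g ≫ q = 1 := by
      rw [← hsymm, hg, Equiv.symm_apply_eq]
      exact (homEquiv_one T).symm
    refine ⟨adj.homEquiv T N (hker.lift ((adj.homEquiv T G).symm g) (toUnit _) (by rw [h0, Hom.one_def])), ?_⟩
    show _ ≫ F.map iN = g
    rw [← Adjunction.homEquiv_naturality_right, hker.lift_fst, Equiv.apply_symm_apply]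
  have hlift : ∀ {T : Over S} (h : T ⟶ J'), ∃ (T' : Over S) (f : T' ⟶ T),
      Flat f.left ∧ Surjective f.left ∧ QuasiCompact f.left ∧ ∃ g : T' ⟶ J, g ≫ u = f ≫ h := by
    intro T h
    let h₀ := (adj.homEquiv T Q).symm h
    let T' : Over S := Over.mk (pullback.fst h₀.left q.left ≫ T.hom)
    let f : T' ⟶ T := Over.homMk (pullback.fst h₀.left q.left) rfl
    refine ⟨T', f, inferInstanceAs (Flat (pullback.fst h₀.left q.left)),
      inferInstanceAs (Surjective (pullback.fst h₀.left q.left)),
      inferInstanceAs (QuasiCompact (pullback.fst h₀.left q.left)), ?_⟩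
    let g₀ : (Over.map Y.hom).obj T' ⟶ G := Over.homMk (pullback.snd h₀.left q.left) (by
      show pullback.snd h₀.left q.left ≫ G.hom = (pullback.fst h₀.left q.left ≫ T.hom) ≫ Y.hom
      rw [← Over.w q, ← Category.assoc, ← pullback.condition, Category.assoc, Over.w h₀, Category.assoc]
      rfl)
    refine ⟨adj.homEquiv T' G g₀, ?_⟩
    show adj.homEquiv T' G g₀ ≫ F.map q = f ≫ h
    rw [← Adjunction.homEquiv_naturality_right, ← Equiv.eq_symm_apply, Adjunction.homEquiv_naturality_left_symm]
    exact Over.OverMorphism.ext pullback.condition.symm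
  -- the torsor under the kernel
  obtain ⟨aN, hcN⟩ := exists_action_down (a'.restrict i) π
    (isPullback_restrict u hπ P'.isTorsor.1 ha' i hi hN')
  have hlN := hN _ _ aN ((Over.map Y.hom).map π) hcN
    (isLocallyTrivialFor_map u hπ P'.isTorsor.1 hloc hlift)
  -- the pushed forward torsor
  have hcQ : IsPullback P'.act.act (snd J' P'.X) (toUnit P'.X) (toUnit P'.X) := by
    haveI : IsIso (lift P'.act.act (snd J' P'.X)) := P'.isTorsor.1
    refine IsPullback.of_isLimit' ⟨toUnit_unique _ _⟩ (PullbackCone.IsLimit.mk _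
      (fun c => lift c.fst c.snd ≫ inv (lift P'.act.act (snd J' P'.X))) (fun c => ?_) (fun c => ?_)
      (fun c m h₁ h₂ => ?_))
    · have := congrArg (· ≫ fst P'.X P'.X) (IsIso.inv_hom_id (lift P'.act.act (snd J' P'.X)))
      simp only [Category.assoc, lift_fst, Category.id_comp] at this
      rw [Category.assoc, this, lift_fst]
    · have := congrArg (· ≫ snd P'.X P'.X) (IsIso.inv_hom_id (lift P'.act.act (snd J' P'.X)))
      simp only [Category.assoc, lift_snd, Category.id_comp] at this
      rw [Category.assoc, this, lift_snd]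
    rw [IsIso.eq_comp_inv]
    exact CartesianMonoidalCategory.hom_ext _ _ (by simpa using h₁) (by simpa using h₂)
  obtain ⟨aQ, hcQ'⟩ := exists_action_down P'.act (toUnit P'.X) hcQ
  have hlQ := hQ _ _ aQ ((Over.map Y.hom).map (toUnit P'.X)) hcQ' P'.isTorsor.2
  -- sections
  obtain ⟨R₁, hR₁, hs₁⟩ := hlQ
  obtain ⟨R₂, hR₂, hs₂⟩ := hlN
  refine isLocallyTrivialFor_zariski fun x => ?_
  obtain ⟨W, f, hf, w, hw, hopen⟩ := mem_zariski hR₁ x
  haveI : IsOpenImmersion f := hopen
  obtain ⟨s, hs⟩ := hs₁ f hf
  obtain ⟨W', f', hf', w', hw', hopen'⟩ := mem_zariski hR₂ (s w)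
  haveI : IsOpenImmersion f' := hopen'
  obtain ⟨t, ht⟩ := hs₂ f' hf'
  let V : Scheme.{u} := pullback s f'
  haveI : IsOpenImmersion (pullback.fst s f' ≫ f) := inferInstance
  let j : V ⟶ S := pullback.fst s f' ≫ f
  obtain ⟨v, hv, -⟩ := Scheme.Pullback.exists_preimage_pullback (f := s) (g := f') w w' hw'.symm
  refine ⟨j.opensRange, ⟨v, ?_⟩, j.isoOpensRange.inv ≫ pullback.snd s f' ≫ t, ?_⟩
  · show f (pullback.fst s f' v) = x
    rw [hv, hw]
  · show (j.isoOpensRange.inv ≫ pullback.snd s f' ≫ t) ≫ P.hom = j.opensRange.ι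
    rw [← j.isoOpensRange_inv_comp, Category.assoc, Category.assoc, ← Over.w π]
    show _ ≫ _ ≫ t ≫ π.left ≫ P'.X.hom = _
    rw [← Category.assoc t, show t ≫ π.left = f' from ht, ← Category.assoc (pullback.snd s f'),
      ← pullback.condition, Category.assoc, show s ≫ P'.X.hom = f from hs]
end Groth.Agent.S20008
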