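import Groth.Statements.S20010
import Groth.Agent.ModPairLib.LimitCover
-- import your own Groth.Agent.* helpers here

set_option autoImplicit false
universe u
open CategoryTheory CategoryTheory.Limits AlgebraicGeometry TopologicalSpace
open ModPair

namespace Groth.Agent.S20010

/-- Let (X_i) be a cofiltered system of schemes with affine transition morphisms such that X_{i₀} is
quasi-compact and quasi-separated for some index i₀, let X be its limit, and let {U_a ⟶ X} be a
family of quasi-compact open immersions (open immersions of finite presentation) which is jointly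
surjective (a covering family for the Zariski class). Then the covering descends: for some index i
there is a finite jointly surjective family {V_j ⟶ X_i}_{j < n} of quasi-compact open immersions
such that every V_j ×_{X_i} X is one of the U_a, i.e. for each j some U_{a_j} ⟶ X is the base change
of V_j ⟶ X_i along X ⟶ X_i. -/
theorem result {I : Type u} [SmallCategory I] [IsCofiltered I]
    (D : I ⥤ Scheme.{u}) (c : Cone D) (hc : IsLimit c)
    [∀ (i j : I) (t : i ⟶ j), IsAffineHom (D.map t)] (i₀ : I) [CompactSpace (D.obj i₀)]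
    [QuasiSeparatedSpace (D.obj i₀)] {ι : Type u} (U : ι → Scheme.{u}) (u : ∀ a, U a ⟶ c.pt)
    [∀ a, IsOpenImmersion (u a)] [∀ a, QuasiCompact (u a)] (hcov : ∀ x : c.pt, ∃ (a : ι) (y : U a), (u a).base y = x) :
    ∃ (i : I) (n : ℕ) (V : Fin n → Scheme.{u}) (v : ∀ j, V j ⟶ D.obj i) (a : Fin n → ι)
      (e : ∀ j, U (a j) ⟶ V j),
      (∀ j, IsOpenImmersion (v j) ∧ QuasiCompact (v j)) ∧
      (∀ x : D.obj i, ∃ (j : Fin n) (y : V j), (v j).base y = x) ∧
      ∀ j, IsPullback (e j) (u (a j)) (v j) (c.π.app i) := by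
  classical
  have hc' : IsLimit (c.whisker (Over.forget i₀)) :=
    (Functor.Initial.isLimitWhiskerEquiv (Over.forget i₀) c).symm hc
  have : ∀ j : Over i₀, CompactSpace ((Over.forget i₀ ⋙ D).obj j) := fun j =>
    QuasiCompact.compactSpace_of_compactSpace (D.map j.hom)
  have : ∀ j : Over i₀, QuasiSeparatedSpace ((Over.forget i₀ ⋙ D).obj j) := fun j =>
    quasiSeparatedSpace_of_quasiSeparated (D.map j.hom)
  have : ∀ (j k : Over i₀) (t : j ⟶ k), IsAffineHom ((Over.forget i₀ ⋙ D).map t) := fun j k t =>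
    inferInstanceAs (IsAffineHom (D.map t.left))
  have : CompactSpace c.pt :=
    Scheme.compactSpace_of_isLimit (Over.forget i₀ ⋙ D) (c.whisker (Over.forget i₀)) hc'
  obtain ⟨s, hs⟩ := isCompact_univ.elim_finite_subcover (fun a => Set.range (u a))
    (fun a => (u a).isOpenEmbedding.isOpen_range) (fun x _ => by
      obtain ⟨a, y, hy⟩ := hcov x
      exact Set.mem_iUnion.2 ⟨a, y, hy⟩)
  let b : Fin s.card → ι := fun j => (s.equivFin.symm j).1
  have hWc : ∀ j, IsCompact (((u (b j)).opensRange : c.pt.Opens) : Set c.pt) := fun j => by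
    have : CompactSpace (U (b j)) := QuasiCompact.compactSpace_of_compactSpace (u (b j))
    exact isCompact_range (u (b j)).continuous
  obtain ⟨i, V, hV, hVtop, hVW⟩ : ∃ (i : Over i₀) (V : Fin s.card → (D.obj i.left).Opens),
      (∀ j, IsCompact (V j : Set (D.obj i.left))) ∧ (⨆ j, V j = ⊤) ∧
      ∀ j, c.π.app i.left ⁻¹ᵁ V j = (u (b j)).opensRange := Groth.Agent.ModPairLib.LimitCover.exists_cover
    (Over.forget i₀ ⋙ D) (c.whisker (Over.forget i₀)) hc' (fun j => (u (b j)).opensRange) hWc
    (top_unique fun x _ => by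
      obtain ⟨a, ha, hx⟩ := Set.mem_iUnion₂.1 (hs (Set.mem_univ x))
      refine Opens.mem_iSup.2 ⟨s.equivFin ⟨a, ha⟩, ?_⟩
      show x ∈ Set.range (u ((s.equivFin.symm (s.equivFin ⟨a, ha⟩)).1))
      rw [Equiv.symm_apply_apply]
      exact hx)
  have : QuasiSeparatedSpace (D.obj i.left) := quasiSeparatedSpace_of_quasiSeparated (D.map i.hom)
  have : ∀ j, QuasiCompact (V j).ι := fun j =>
    ⟨fun W hW hW' => by
      rw [(V j).ι.isOpenEmbedding.isInducing.isCompact_iff, Set.image_preimage_eq_inter_range,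
        Scheme.Opens.range_ι]
      exact QuasiSeparatedSpace.inter_isCompact _ _ hW hW' (V j).2 (hV j)⟩
  refine ⟨i.left, s.card, fun j => (V j : Scheme.{u}), fun j => (V j).ι, b,
    fun j => IsOpenImmersion.lift (V j).ι (u (b j) ≫ c.π.app i.left) ?_,
    fun j => ⟨inferInstanceAs (IsOpenImmersion (V j).ι), this j⟩, fun x => ?_, fun j => ?_⟩
  · rw [Scheme.Opens.range_ι]
    rintro _ ⟨y, rfl⟩
    exact (hVW j).ge (show u (b j) y ∈ (u (b j)).opensRange from ⟨y, rfl⟩)
  · obtain ⟨j, hj⟩ := Opens.mem_iSup.1 (hVtop.ge (Set.mem_univ x))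
    exact ⟨j, ⟨x, hj⟩, rfl⟩
  · have : IsOpenImmersion (V j).ι := inferInstance
    refine @IsOpenImmersion.isPullback _ _ _ _ _ _ _ _ inferInstance this (IsOpenImmersion.lift_fac _ _ _).symm ?_
    rw [Scheme.Opens.opensRange_ι]
    exact hVW j

end Groth.Agent.S20010
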