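import Groth.Statements.S20012
import Groth.Agent.LimLib.RelApprox
import Groth.Agent.LimLib.FPSystem
import Groth.Agent.LimLib.Proper
import Groth.Agent.LimLib.FGIdeal
import Groth.Agent.ModPairLib.LimitLocPrinAff
import Groth.Agent.ModPairLib.LimitIdealLe
import Groth.Agent.ModPairLib.Divide
import Groth.Agent.FlatMor.SchDom
-- import your own Groth.Agent.* helpers here

set_option autoImplicit false
universe u
open CategoryTheory CategoryTheory.Limits AlgebraicGeometry TopologicalSpace
open ModPair

namespace Groth.Agent.S20012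

open Groth.Agent.LimLib in
/-- A locally principal ideal whose pullback along a scheme-theoretically dominant affine morphism
is effective Cartier is effective Cartier. -/
lemma isEffCartier_of_dominant {X Y : Scheme.{u}} (f : X ⟶ Y) [IsAffineHom f]
    [IsSchemeTheoreticallyDominant f] (J : Y.IdealSheafData)
    (hJ : ∀ y : Y, ∃ U : Y.affineOpens, y ∈ U.1 ∧ ∃ b, J.ideal U = Ideal.span {b})
    (h : BlowUp.IsEffCartierIdeal (J.comap f)) : BlowUp.IsEffCartierIdeal J := fun y => by
  obtain ⟨U, hyU, b, hb⟩ := hJ y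
  refine ⟨U, hyU, b, mem_nonZeroDivisors_iff_right.2 fun s hs => ?_, hb⟩
  have hnzd := Groth.Agent.ModPairLib.LimitCartier.mem_nonZeroDivisors_of_equation h
    (Groth.Agent.IdealSh.Comap.ideal_comap_span_singleton J f U
      ⟨f ⁻¹ᵁ U.1, U.2.preimage f⟩ le_rfl hb)
  refine f.app_injective U.1 ?_
  rw [map_zero]
  refine mem_nonZeroDivisors_iff_right.1 hnzd _ ?_
  rw [← Scheme.Hom.app_eq_appLE]
  exact (map_mul _ _ _).symm.trans ((congrArg _ hs).trans (map_zero _))

/-- Let (S, I_S) be a modulus pair — a scheme with the quasi-coherent ideal sheaf of an effective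
Cartier divisor — with S quasi-compact and quasi-separated, and let (X, I_X) be a modulus pair with
an ambient morphism f : X ⟶ S (modulus condition I_X ≤ I_S.comap f) which is quasi-compact and
separated. Then (X, I_X) is a limit of finite-type S-pairs along affine, minimal,
scheme-theoretically dominant transitions: there are a cofiltered system D of S-schemes with limit X
(as an S-scheme) and quasi-coherent ideal sheaves J_i of effective Cartier divisors on its members
such that every X_i ⟶ S is separated and of finite type and satisfies the modulus condition J_i ≥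
I_S pulled back, every transition morphism is affine, minimal (J_i is the pull-back of J_j) and
scheme-theoretically dominant, and I_X is the pull-back of J_i along the projection for every i.
(The full faithfulness half of the published statement is the hom formula for such systems and is
not part of this row.) -/
theorem result
    {X S : Scheme.{u}} [CompactSpace S] [QuasiSeparatedSpace S]
    (IS : S.IdealSheafData) (hS : BlowUp.IsEffCartierIdeal IS)
    (IX : X.IdealSheafData) (hX : BlowUp.IsEffCartierIdeal IX)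
    (f : X ⟶ S) [QuasiCompact f] [IsSeparated f] (hf : ModPair.IsAmbient IX IS f) :
    ∃ (I : Type u) (_ : SmallCategory I) (_ : IsCofiltered I) (D : I ⥤ Over S) (c : Cone D)
      (_ : IsLimit c) (e : c.pt ≅ Over.mk f) (J : ∀ i, (D.obj i).left.IdealSheafData),
      (∀ i, BlowUp.IsEffCartierIdeal (J i)) ∧
      (∀ i, LocallyOfFiniteType (D.obj i).hom ∧ QuasiCompact (D.obj i).hom ∧ IsSeparated (D.obj i).hom) ∧
      (∀ i, ModPair.IsAmbient (J i) IS (D.obj i).hom) ∧
      (∀ (i j : I) (t : i ⟶ j), IsAffineHom (D.map t).left ∧ ModPair.IsMinimal (J i) (J j) (D.map t).left ∧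
          IsSchemeTheoreticallyDominant (D.map t).left) ∧
      (∀ i, IX = (J i).comap (e.inv.left ≫ (c.π.app i).left)) := by
  classical
  have : CompactSpace X := QuasiCompact.compactSpace_of_compactSpace f
  have : QuasiSeparatedSpace X := quasiSeparatedSpace_of_quasiSeparated f
  obtain ⟨P⟩ := Groth.Agent.LimLib.nonempty_fpSystem f
  let c := P.cone
  obtain ⟨hl⟩ := P.isLimit_cone
  let ι : X ⟶ c.pt := 𝟙 X
  have : IsClosedImmersion ι := inferInstanceAs (IsClosedImmersion (𝟙 X))
  let G := Groth.Agent.LimLib.imageDiag (c := c) ι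
  let K := Groth.Agent.LimLib.imageCone (c := c) ι
  obtain ⟨hK⟩ := Groth.Agent.LimLib.nonempty_isLimit_imageCone (c := c) ι hl
  let g : G ⟶ P.sch := Groth.Agent.LimLib.imageDiagι (c := c) ι
  have hgc : ∀ i, IsClosedImmersion (g.app i) := fun i =>
    inferInstanceAs (IsClosedImmersion ((Groth.Agent.LimLib.imageDiagι (c := c) ι).app i))
  have : ∀ i, CompactSpace (G.obj i) := fun i =>
    QuasiCompact.compactSpace_of_compactSpace (g.app i)
  have : ∀ i, QuasiSeparatedSpace (G.obj i) := fun i =>
    quasiSeparatedSpace_of_quasiSeparated (g.app i)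
  have haff : ∀ (i j : P.Jᵒᵖ) (a : i ⟶ j), IsAffineHom (G.map a) := fun i j a => inferInstance
  have hπaff : ∀ i, IsAffineHom (K.π.app i) := fun i => isAffineHom_π_app G K hK i
  have hπ : ∀ i, IsSchemeTheoreticallyDominant (K.π.app i) := fun i =>
    Groth.Agent.FlatMor.SchDom.toImage_dominant (ι ≫ c.π.app i) (Or.inl
      (by have := P.isAffineHom_π i; exact inferInstanceAs (QuasiCompact (𝟙 X ≫ (P.π.app i).left))))
  have hdom : ∀ (i j : P.Jᵒᵖ) (a : i ⟶ j), IsSchemeTheoreticallyDominant (G.map a) := fun i j a =>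
    ⟨le_bot_iff.1 (by
      calc (G.map a).ker ≤ (K.π.app i ≫ G.map a).ker := Scheme.Hom.le_ker_comp _ _
        _ = (K.π.app j).ker := congrArg Scheme.Hom.ker (K.w a)
        _ = ⊥ := (hπ j).ker_eq_bot)⟩
  let s : G ⟶ (Functor.const P.Jᵒᵖ).obj S := g ≫ P.str
  have hs : ∀ i, K.π.app i ≫ s.app i = f := fun i => by
    show K.π.app i ≫ g.app i ≫ P.str.app i = f
    rw [← Category.assoc]
    refine (congrArg (· ≫ P.str.app i) (Groth.Agent.LimLib.imageCone_fac (c := c) ι i)).trans ?_
    show (𝟙 X ≫ c.π.app i) ≫ P.str.app i = f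
    rw [Category.id_comp]
    exact P.π_str i
  have htr : ∀ {i j : P.Jᵒᵖ} (a : i ⟶ j), G.map a ≫ s.app j = s.app i := fun a =>
    Groth.Agent.LimLib.map_comp_app s a
  obtain ⟨i₀, J₀, hJ₀, hJ₀c⟩ := Groth.Agent.LimLib.exists_fg_descend (c := K) hK IX
    (Groth.Agent.ModPairLib.Divide.isFiniteTypeIdeal_of_effCartier hX)
  have hcomap : ∀ {i : P.Jᵒᵖ} (a : i ⟶ i₀), (J₀.comap (G.map a)).comap (K.π.app i) = IX := by
    intro i a
    rw [← Scheme.IdealSheafData.comap_comp, ← hJ₀c]
    exact congrArg J₀.comap (K.w a)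
  obtain ⟨i₁, t₁, h₁⟩ := Groth.Agent.ModPairLib.LimitLocPrinAff.exists_stage_locPrincipal G K hK
    J₀ hJ₀ (i := i₀) (fun x => by
      obtain ⟨U, hxU, a, -, ha⟩ := hX x
      exact ⟨U, hxU, a, hJ₀c ▸ ha⟩)
  obtain ⟨i₂, t₂, h₂⟩ := Groth.Agent.ModPairLib.LimitIdealLe.exists_comap_le G K hK i₁
    (J₀.comap (G.map t₁)) (IS.comap (s.app i₁)) (Groth.Agent.LimLib.fg_comap hJ₀ _) (by
      rw [hcomap, ← Scheme.IdealSheafData.comap_comp, hs]
      exact hf)
  obtain ⟨i', hsep⟩ := P.eventually_isSeparated
  obtain ⟨i₃, p, q, -⟩ := IsCofilteredOrEmpty.cone_objs i₂ i'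
  let t : i₃ ⟶ i₀ := p ≫ t₂ ≫ t₁
  let J : ∀ i : Over i₃, (G.obj i.left).IdealSheafData := fun i => J₀.comap (G.map (i.hom ≫ t))
  have hcc : ∀ {a b : P.Jᵒᵖ} (r : a ⟶ b) (r' : b ⟶ i₀),
      (J₀.comap (G.map r')).comap (G.map r) = J₀.comap (G.map (r ≫ r')) := fun r r' => by
    rw [← Scheme.IdealSheafData.comap_comp, ← Functor.map_comp]
  have hJc : ∀ i : Over i₃, BlowUp.IsEffCartierIdeal (J i) := fun i => by
    have := hπ i.left
    have := hπaff i.left
    refine isEffCartier_of_dominant (K.π.app i.left) (J i) (fun x => ?_) ?_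
    · let r : i.left ⟶ i₁ := i.hom ≫ p ≫ t₂
      have : IsAffineHom (G.map r) := haff _ _ r
      obtain ⟨U, hxU, b, hb⟩ := h₁ (G.map r x)
      refine ⟨⟨G.map r ⁻¹ᵁ U.1, U.2.preimage (G.map r)⟩, hxU, ?_⟩
      have e : J i = (J₀.comap (G.map t₁)).comap (G.map r) := by
        rw [hcc]
        have e0 : i.hom ≫ t = r ≫ t₁ := by simp [t, r]
        exact congrArg (fun z => J₀.comap (G.map z)) e0
      rw [e]
      exact ⟨_, Groth.Agent.IdealSh.Comap.ideal_comap_span_singleton _ (G.map r) U _ le_rfl hb⟩
    · exact (hcomap (i.hom ≫ t)).symm ▸ hX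
  have hJamb : ∀ i : Over i₃, J i ≤ IS.comap (s.app i.left) := fun i => by
    have r : (i.hom ≫ t) = (i.hom ≫ p) ≫ t₂ ≫ t₁ := by simp [t]
    have e : ((J₀.comap (G.map t₁)).comap (G.map t₂)).comap (G.map (i.hom ≫ p)) ≤
        ((IS.comap (s.app i₁)).comap (G.map t₂)).comap (G.map (i.hom ≫ p)) :=
      Scheme.IdealSheafData.comap_mono _ h₂
    rw [hcc, hcc, ← r, ← Scheme.IdealSheafData.comap_comp, ← Scheme.IdealSheafData.comap_comp,
      Category.assoc, htr, htr] at e
    exact e
  let E : Over i₃ ⥤ Over S :=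
    { obj := fun i => Over.mk (s.app i.left)
      map := fun {i j} a => Over.homMk (G.map a.left) (htr a.left)
      map_id := fun i => by
        ext1
        exact G.map_id _
      map_comp := fun a b => by
        ext1
        exact G.map_comp _ _ }
  let cE : Cone E :=
    { pt := Over.mk f
      π :=
        { app := fun i => Over.homMk (K.π.app i.left) (hs i.left)
          naturality := fun i j a => by
            ext1
            exact (Category.id_comp _).trans (K.w a.left).symm } }
  have : IsConnected (Over i₃) := IsCofiltered.isConnected _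
  have hlE : IsLimit ((Over.forget S).mapCone cE) :=
    IsLimit.ofIsoLimit ((Functor.Initial.isLimitWhiskerEquiv (Over.forget i₃) K).symm hK)
      (Cone.ext (Iso.refl _) fun i => (Category.id_comp _).symm)
  refine ⟨Over i₃, inferInstance, inferInstance, E, cE, isLimitOfReflects (Over.forget S) hlE,
    Iso.refl _, J, hJc, fun i => ?_, hJamb, fun i j a => ⟨haff _ _ a.left, ?_, hdom _ _ a.left⟩,
    fun i => ?_⟩
  · have := hgc i.left
    have : IsSeparated (P.str.app i.left) := hsep i.left (i.hom ≫ q)
    have : LocallyOfFiniteType (P.str.app i.left) := inferInstance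
    exact ⟨inferInstanceAs (LocallyOfFiniteType (g.app i.left ≫ P.str.app i.left)),
      quasiCompact_of_compactSpace (X := G.obj i.left) (s.app i.left),
      inferInstanceAs (IsSeparated (g.app i.left ≫ P.str.app i.left))⟩
  · show J i = (J j).comap (G.map a.left)
    show J₀.comap (G.map (i.hom ≫ t)) = (J₀.comap (G.map (j.hom ≫ t))).comap (G.map a.left)
    rw [hcc, ← Category.assoc]
    exact congrArg (fun z => J₀.comap (G.map (z ≫ t))) (Over.w a).symm
  · show IX = (J i).comap (𝟙 _ ≫ K.π.app i.left)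
    rw [Category.id_comp]
    exact (hcomap (i.hom ≫ t)).symm

end Groth.Agent.S20012
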