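import Groth.Statements.S20013
import Groth.Agent.KRRReg49.Counit
import Groth.Agent.ResK0.PushPull
import Groth.Agent.ResK0.Syz

set_option autoImplicit false
set_option linter.style.haveILetI false
universe u
open KRR

namespace Groth.Agent.S20013

open CategoryTheory CategoryTheory.Limits AlgebraicGeometry

open Groth.Agent.ProjTwist Groth.Agent.ProjTwist.Pn

noncomputable section Aux

variable {n : ℕ} {T : Scheme.{u}}

local notation "R" => Coh.RpushAb (KRR.pr n T)

/-- The vanishing of the twisted pullbacks. -/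
theorem isZero_twF_pullback (G : T.Modules) (hG : Coh.IsQCoh G) (i : ℕ) (hi : 1 ≤ i) (d : ℤ)
    (hd : -(n : ℤ) ≤ d) :
    IsZero ((R i).obj (Coh.toAb (KRR.twF n T d ((Scheme.Modules.pullback (KRR.pr n T)).obj G)))) := by
  haveI : G.IsQuasicoherent := hG
  have hP : Coh.IsQCoh ((Scheme.Modules.pullback (KRR.pr n T)).obj G) :=
    QCoh.isQuasicoherent_pullback _ G
  haveI : (KRR.twF n T d ((Scheme.Modules.pullback (KRR.pr n T)).obj G)).IsQuasicoherent :=
    KRRReg49.isQCoh_twF hP _
  refine GrModLib.isZero_RpushAb_of_charts _ _ i fun V hV => ?_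
  letI := TwistFlat.isOpenImmersion_chart n hV
  refine ⟨_, TwistFlat.chart n hV, inferInstance, GrModLib.opensRange_chart n hV, ?_⟩
  obtain ⟨e⟩ := KRRReg49.nonempty_restrict_twF hV ((Scheme.Modules.pullback (KRR.pr n T)).obj G) d
  haveI : ((Scheme.Modules.pullback hV.fromSpec).obj G).IsQuasicoherent :=
    QCoh.isQuasicoherent_pullback _ G
  let e' : ((Scheme.Modules.pullback (KRR.pr n T)).obj G).restrict (TwistFlat.chart n hV) ≅
      (GrModLib.NegTwist.pb n Γ(T, V)).obj ((Scheme.Modules.pullback hV.fromSpec).obj G) :=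
    (Scheme.Modules.restrictFunctorIsoPullback _).app _ ≪≫
      (Scheme.Modules.pullbackComp _ _).app _ ≪≫
      (Scheme.Modules.pullbackCongr (TwistFlat.isPullback_chart n hV).w.symm).app _ ≪≫
      ((Scheme.Modules.pullbackComp _ _).app _).symm
  have h : Subsingleton (Coh.HH (CohB1.ProjSpace n Γ(T, V))
      (Pn.twF ((GrModLib.NegTwist.pb n Γ(T, V)).obj ((Scheme.Modules.pullback hV.fromSpec).obj G)) d) i) :=
    GrModLib.NegTwist.subsingleton_of_ge (n + 1) i (by omega) hi _ _ hd
  exact (CohLin.hIso (e ≪≫ tensCongr e' (Iso.refl _)) i).injective.subsingleton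

/-- Vanishing above the relative dimension. -/
theorem isZero_twF_above {F : (KRR.PY n T).Modules} (hF : Coh.IsQCoh F) (i : ℕ) (hi : n < i) (d : ℤ) :
    IsZero ((R i).obj (Coh.toAb (KRR.twF n T d F))) := by
  haveI : (KRR.twF n T d F).IsQuasicoherent := KRRReg49.isQCoh_twF hF d
  refine GrModLib.isZero_RpushAb_of_charts _ _ i fun V hV => ?_
  letI := TwistFlat.isOpenImmersion_chart n hV
  refine ⟨_, TwistFlat.chart n hV, inferInstance, GrModLib.opensRange_chart n hV, ?_⟩
  exact Pn.subsingleton_above _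
    (Scheme.Modules.isQuasicoherent_restrictFunctor (TwistFlat.chart n hV) _) i (by omega)

/-- The regular quasi-coherent modules. -/
structure RegQ (n : ℕ) (T : Scheme.{u}) where
  Z : (KRR.PY n T).Modules
  qc : Coh.IsQCoh Z
  reg : KRR.IsRegSheaf n T Z

/-- The counit `p^* p_* Z ⟶ Z`. -/
abbrev co (A : RegQ n T) :=
  (Scheme.Modules.pullbackPushforwardAdjunction (KRR.pr n T)).counit.app A.Z

/-- The kernel of the counit. -/
abbrev ker (A : RegQ n T) : (KRR.PY n T).Modules := kernel (co A)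

/-- The next regular module. -/
def nx (A : RegQ n T) : RegQ n T where
  Z := KRR.twF n T 1 (ker A)
  qc := KRRReg49.isQCoh_twF (KRRReg49.isQCoh_kernel_counit A.qc) 1
  reg := KRRReg49.isRegSheaf_twF_one_kernel_counit A.qc A.reg

theorem isQCoh_push (A : RegQ n T) : Coh.IsQCoh ((Scheme.Modules.pushforward (KRR.pr n T)).obj A.Z) :=
  haveI := TwistFlat.isProper_toBase n T
  haveI : A.Z.IsQuasicoherent := A.qc
  QCoh.isQuasicoherent_pushforward _ _

/-- `0 ⟶ K ⟶ p^* p_* Z ⟶ Z ⟶ 0`. -/
abbrev seq (A : RegQ n T) : ShortComplex (KRR.PY n T).Modules :=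
  ShortComplex.mk (kernel.ι (co A)) (co A) (kernel.condition _)

theorem shortExact_seq (A : RegQ n T) : (seq A).ShortExact :=
  ShortComplex.ShortExact.mk' (ShortComplex.exact_of_f_is_kernel _ (kernelIsKernel _))
    inferInstance (S19429.result n T A.Z A.qc A.reg)

/-- `p_* K = 0`. -/
theorem isZero_push_ker (A : RegQ n T) :
    IsZero ((Scheme.Modules.pushforward (KRR.pr n T)).obj (ker A)) := by
  let P := Scheme.Modules.pushforward (KRR.pr n T)
  let adj := Scheme.Modules.pullbackPushforwardAdjunction (KRR.pr n T)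
  haveI := TwistFlat.isProper_toBase n T
  haveI : (P.obj A.Z).IsQuasicoherent := isQCoh_push A
  haveI : ((Scheme.Modules.pullback (KRR.pr n T)).obj (P.obj A.Z)).IsQuasicoherent :=
    QCoh.isQuasicoherent_pullback _ _
  haveI : ((Scheme.Modules.pullback (KRR.pr n T) ⋙ P).obj (P.obj A.Z)).IsQuasicoherent :=
    QCoh.isQuasicoherent_pushforward _ _
  haveI : ((𝟭 T.Modules).obj (P.obj A.Z)).IsQuasicoherent := isQCoh_push A
  have htri : adj.unit.app (P.obj A.Z) ≫ P.map (adj.counit.app A.Z) = 𝟙 (P.obj A.Z) :=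
    adj.right_triangle_components A.Z
  haveI : IsIso (adj.unit.app (P.obj A.Z)) := by
    refine FormalFun.isIso_of_affine_bijective _ fun U hU =>
      ⟨fun a b hab => ?_, ResK0.PushPull.surjective_unit_app _ hU⟩
    have h : ∀ a, (P.map (adj.counit.app A.Z)).app U ((adj.unit.app (P.obj A.Z)).app U a) = a :=
      fun a => congr(Scheme.Modules.Hom.app $htri U a)
    rw [← h a, ← h b, hab]
  haveI : Mono (P.map (adj.counit.app A.Z)) := by
    rw [show P.map (adj.counit.app A.Z) = inv (adj.unit.app (P.obj A.Z)) from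
      IsIso.eq_inv_of_hom_inv_id htri]
    infer_instance
  haveI : P.IsRightAdjoint := adj.isRightAdjoint
  haveI : Mono (P.map (kernel.ι (co A))) := inferInstance
  refine IsZero.of_mono_eq_zero (P.map (kernel.ι (co A))) ?_
  rw [← cancel_mono (P.map (adj.counit.app A.Z)), ← P.map_comp, zero_comp]
  exact (congrArg P.map (kernel.condition (co A))).trans (P.map_zero _ _)

theorem isZero_R_zero (A : RegQ n T) :
    IsZero ((R 0).obj (Coh.toAb (KRR.twF n T (-((0 : ℕ) : ℤ)) (ker A)))) := by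
  refine KRRLib.isZero_congr ((eqToIso (by simp) :
    KRR.twF n T (0 : ℤ) (ker A) ≅ _)) 0 ?_
  refine KRRLib.isZero_congr (KRRLib.twFunZero.app (ker A)).symm 0 ?_
  exact ((ModShf.toAbFunctor T).map_isZero (isZero_push_ker A)).of_iso
    ((Coh.pushAb (KRR.pr n T)).rightDerivedZeroIsoSelf.app (Coh.toAb (ker A)))

/-- The sequence of regular modules. -/
def RegQ.it (A : RegQ n T) : ℕ → RegQ n T
  | 0 => A
  | j + 1 => nx (A.it j)

theorem isZero_R_ker (A : RegQ n T) : ∀ (i j : ℕ), i ≤ j → i ≤ n →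
    IsZero ((R i).obj (Coh.toAb (KRR.twF n T (-(i : ℤ)) (ker (A.it j))))) := by
  intro i
  induction i with
  | zero => exact fun j _ _ => isZero_R_zero _
  | succ i ih =>
    intro j hij hin
    obtain ⟨k, rfl⟩ : ∃ k, j = k + 1 := ⟨j - 1, by omega⟩
    refine ((KRRLib.les n T).exact₁ _ (KRRLib.shortExact_ab (shortExact_seq (A.it (k + 1)))
      (-((i + 1 : ℕ) : ℤ))) i (i + 1) rfl).isZero_of_both_zeros ?_
      ((isZero_twF_pullback _ (isQCoh_push _) (i + 1) (by omega) _ (by omega)).eq_of_tgt _ _)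
    exact (KRRLib.isZero_congr
      (KRRLib.twTw (ker (A.it k)) 1 (-((i + 1 : ℕ) : ℤ)) (-(i : ℤ)) (by push_cast; ring)).symm i
      (ih k (by omega) (by omega))).eq_of_src _ _

theorem isZero_ker_top (A : RegQ n T) : IsZero (ker (A.it n)) := by
  have hK := KRRReg49.isQCoh_kernel_counit (A.it n).qc
  have hreg : KRR.IsRegSheaf n T (ker (A.it n)) := by
    intro i hi
    by_cases hin : i ≤ n
    · exact isZero_R_ker A i n hin hin
    · exact isZero_twF_above hK i (by omega) _
  haveI := S19429.result n T _ hK hreg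
  haveI : (Scheme.Modules.pullback (KRR.pr n T)).IsLeftAdjoint :=
    (Scheme.Modules.pullbackPushforwardAdjunction (KRR.pr n T)).isLeftAdjoint
  exact IsZero.of_epi ((Scheme.Modules.pullbackPushforwardAdjunction (KRR.pr n T)).counit.app (ker (A.it n)))
    ((Scheme.Modules.pullback (KRR.pr n T)).map_isZero (isZero_push_ker _))

theorem isZero_it (A : RegQ n T) : ∀ i, n < i → IsZero (A.it i).Z := by
  intro i hi
  induction i with
  | zero => omega
  | succ i ih =>
    refine (KRRLib.twFun n T 1).map_isZero ?_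
    rcases Nat.lt_or_ge n i with h | h
    · haveI : (Scheme.Modules.pullback (KRR.pr n T)).IsLeftAdjoint :=
        (Scheme.Modules.pullbackPushforwardAdjunction (KRR.pr n T)).isLeftAdjoint
      haveI : (Scheme.Modules.pushforward (KRR.pr n T)).IsRightAdjoint :=
        (Scheme.Modules.pullbackPushforwardAdjunction (KRR.pr n T)).isRightAdjoint
      exact IsZero.of_mono (kernel.ι (co (A.it i)))
        ((Scheme.Modules.pullback (KRR.pr n T)).map_isZero
          ((Scheme.Modules.pushforward (KRR.pr n T)).map_isZero (ih h)))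
    · obtain rfl : i = n := by omega
      exact isZero_ker_top A

/-- The terms. -/
def term (A : RegQ n T) (i : ℕ) : (KRR.PY n T).Modules :=
  KRR.twF n T (-(i : ℤ)) ((Scheme.Modules.pullback (KRR.pr n T)).obj
    ((Scheme.Modules.pushforward (KRR.pr n T)).obj (A.it i).Z))

/-- Short exact sequences making up the resolution. -/
abbrev sh (A : RegQ n T) (i : ℕ) : ShortComplex (KRR.PY n T).Modules :=
  (seq (A.it i)).map (KRRLib.twFun n T (-(i : ℤ)))

/-- `Z_{i+1}(-(i+1)) ≅ K_i(-i)`. -/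
def glue (A : RegQ n T) (i : ℕ) : (sh A (i + 1)).X₃ ≅ (sh A i).X₁ :=
  KRRLib.twTw (ker (A.it i)) 1 (-((i + 1 : ℕ) : ℤ)) (-(i : ℤ)) (by push_cast; ring)

/-- The differential. -/
def diff (A : RegQ n T) (i : ℕ) : term A (i + 1) ⟶ term A i :=
  (sh A (i + 1)).g ≫ (glue A i).hom ≫ (sh A i).f

theorem diff_sq (A : RegQ n T) (i : ℕ) : diff A (i + 1) ≫ diff A i = 0 := by
  have hz : (sh A (i + 1)).f ≫ (sh A (i + 1)).g = 0 := (sh A (i + 1)).zero
  unfold diff
  simp only [Category.assoc]
  erw [reassoc_of% hz]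
  simp

/-- The resolution. -/
def cx (A : RegQ n T) : ChainComplex (KRR.PY n T).Modules ℕ :=
  ChainComplex.of (term A) (diff A) (diff_sq A)

theorem cx_d (A : RegQ n T) (i : ℕ) : (cx A).d (i + 1) i = diff A i :=
  ChainComplex.of_d (term A) (diff A) i

theorem exactAt_cx (A : RegQ n T) (m : ℕ) : (cx A).ExactAt (m + 1) := by
  rw [(cx A).exactAt_iff' (m + 2) (m + 1) m (by simp) (by simp)]
  haveI : Epi (sh A (m + 2)).g := (KRRLib.shortExact_tw (shortExact_seq _) _).epi_g
  haveI : Mono (sh A m).f := (KRRLib.shortExact_tw (shortExact_seq _) _).mono_f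
  let S₂ : ShortComplex (KRR.PY n T).Modules :=
    ShortComplex.mk (sh A (m + 1)).f (diff A m)
      (by unfold diff; erw [reassoc_of% (sh A (m + 1)).zero]; simp)
  have hS₂ : S₂.Exact := by
    let φ : sh A (m + 1) ⟶ S₂ :=
      { τ₁ := 𝟙 _, τ₂ := 𝟙 _, τ₃ := (glue A m).hom ≫ (sh A m).f
        comm₁₂ := (Category.id_comp _).trans (Category.comp_id _).symm
        comm₂₃ := Category.id_comp _ }
    haveI : Epi φ.τ₁ := inferInstanceAs (Epi (𝟙 _))
    haveI : IsIso φ.τ₂ := inferInstanceAs (IsIso (𝟙 _))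
    haveI : Mono φ.τ₃ := inferInstanceAs (Mono ((glue A m).hom ≫ (sh A m).f))
    exact (ShortComplex.exact_iff_of_epi_of_isIso_of_mono φ).1
      (KRRLib.shortExact_tw (shortExact_seq _) _).exact
  let ψ : (cx A).sc' (m + 2) (m + 1) m ⟶ S₂ :=
    { τ₁ := (sh A (m + 2)).g ≫ (glue A (m + 1)).hom, τ₂ := 𝟙 _, τ₃ := 𝟙 _
      comm₁₂ := (Category.assoc _ _ _).trans ((cx_d A (m + 1)).symm.trans (Category.comp_id _).symm)
      comm₂₃ := (Category.id_comp _).trans ((cx_d A m).symm.trans (Category.comp_id _).symm) }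
  haveI : Epi ψ.τ₁ := inferInstanceAs (Epi ((sh A (m + 2)).g ≫ (glue A (m + 1)).hom))
  haveI : IsIso ψ.τ₂ := inferInstanceAs (IsIso (𝟙 _))
  haveI : Mono ψ.τ₃ := inferInstanceAs (Mono (𝟙 _))
  exact (ShortComplex.exact_iff_of_epi_of_isIso_of_mono ψ).2 hS₂

/-- The augmentation. -/
def aug (A : RegQ n T) : (cx A).X 0 ⟶ A.Z :=
  (sh A 0).g ≫ ((eqToIso (by simp) : KRR.twF n T (-((0 : ℕ) : ℤ)) A.Z ≅ KRR.twF n T 0 A.Z) ≪≫
    KRRLib.twFunZero.app A.Z).hom

theorem exists_res (A : RegQ n T) : ∃ (π : cx A ⟶ (ChainComplex.single₀ _).obj A.Z), QuasiIso π := by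
  haveI : Epi (sh A 1).g := (KRRLib.shortExact_tw (shortExact_seq _) _).epi_g
  haveI : Epi (sh A 0).g := (KRRLib.shortExact_tw (shortExact_seq _) _).epi_g
  let a := (eqToIso (by simp) : KRR.twF n T (-((0 : ℕ) : ℤ)) A.Z ≅ KRR.twF n T 0 A.Z) ≪≫
    KRRLib.twFunZero.app A.Z
  let S₀ : ShortComplex (KRR.PY n T).Modules := ShortComplex.mk (sh A 0).f (aug A)
    (by unfold aug; erw [reassoc_of% (sh A 0).zero]; simp)
  have hS₀ : S₀.Exact := (ShortComplex.exact_iff_of_iso
    (ShortComplex.isoMk (Iso.refl (sh A 0).X₁) (Iso.refl (sh A 0).X₂) a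
      ((Category.id_comp _).trans (Category.comp_id _).symm)
      (Category.id_comp _) : sh A 0 ≅ S₀)).1 (KRRLib.shortExact_tw (shortExact_seq _) _).exact
  have w : (cx A).d 1 0 ≫ aug A = 0 := by
    rw [cx_d]
    exact (Category.assoc _ _ _).trans ((congrArg ((sh A 1).g ≫ ·) ((Category.assoc _ _ _).trans
      ((congrArg ((glue A 0).hom ≫ ·) S₀.zero).trans comp_zero))).trans comp_zero)
  haveI : Epi (aug A) := inferInstanceAs (Epi ((sh A 0).g ≫ a.hom))
  refine ⟨_, ResK0.Syz.quasiIso_of_exact (cx A) (aug A) w ?_ (exactAt_cx A)⟩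
  let φ : ShortComplex.mk _ _ w ⟶ S₀ :=
    { τ₁ := (sh A 1).g ≫ (glue A 0).hom, τ₂ := 𝟙 _, τ₃ := 𝟙 _
      comm₁₂ := (Category.assoc _ _ _).trans ((cx_d A 0).symm.trans (Category.comp_id _).symm)
      comm₂₃ := (Category.id_comp _).trans (Category.comp_id _).symm }
  haveI : Epi φ.τ₁ := inferInstanceAs (Epi ((sh A 1).g ≫ (glue A 0).hom))
  haveI : IsIso φ.τ₂ := inferInstanceAs (IsIso (𝟙 _))
  haveI : Mono φ.τ₃ := inferInstanceAs (Mono (𝟙 _))
  exact (ShortComplex.exact_iff_of_epi_of_isIso_of_mono φ).2 hS₀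

end Aux

open CategoryTheory CategoryTheory.Limits AlgebraicGeometry in
/-- Let T be any scheme, p : P^n_T ⟶ T the projection, and F a quasi-coherent O-module on P^n_T which is
regular relative to p, i.e. R^i p_*(F(-i)) = 0 for every i ≥ 1 (higher direct images of the
underlying abelian sheaves). Then F has a resolution 0 ⟶ p^*(T_n)(-n) ⟶ … ⟶ p^*(T_1)(-1) ⟶ p^*(T_0)
⟶ F ⟶ 0 with T_0, …, T_n quasi-coherent O_T-modules: there are such modules, a chain complex L of
O-modules on P^n_T whose i-th term is isomorphic to p^*(T_i)(-i) for i ≤ n and is zero for i > n,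
and a quasi-isomorphism from L to F placed in degree 0. (Stated for P^n_T rather than for the
projective bundle of a vector bundle of rank n + 1, and for quasi-coherent modules, the generality
in which regularity is defined in the text; only the existence of the resolution is asserted, not
that the T_i are canonically determined by F or exact in F.) -/
theorem result (n : ℕ) (T : Scheme.{u})
    (F : (KRR.PY n T).Modules) (hF : Coh.IsQCoh F) (hreg : KRR.IsRegSheaf n T F) :
    ∃ (Tm : ℕ → T.Modules) (L : ChainComplex (KRR.PY n T).Modules ℕ)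
      (π : L ⟶ (ChainComplex.single₀ (KRR.PY n T).Modules).obj F),
      (∀ i, Coh.IsQCoh (Tm i)) ∧
      (∀ i, i ≤ n → Nonempty (L.X i ≅
        KRR.twF n T (-(i : ℤ)) ((Scheme.Modules.pullback (KRR.pr n T)).obj (Tm i)))) ∧
      (∀ i, n < i → IsZero (L.X i)) ∧ QuasiIso π := by
  let A : RegQ n T := ⟨F, hF, hreg⟩
  obtain ⟨π, hπ⟩ := exists_res A
  refine ⟨fun i => (Scheme.Modules.pushforward (KRR.pr n T)).obj (A.it i).Z, cx A, π,
    fun i => isQCoh_push _, fun i _ => ⟨Iso.refl _⟩, fun i hi => ?_, hπ⟩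
  haveI : (Scheme.Modules.pullback (KRR.pr n T)).IsLeftAdjoint :=
    (Scheme.Modules.pullbackPushforwardAdjunction (KRR.pr n T)).isLeftAdjoint
  haveI : (Scheme.Modules.pushforward (KRR.pr n T)).IsRightAdjoint :=
    (Scheme.Modules.pullbackPushforwardAdjunction (KRR.pr n T)).isRightAdjoint
  exact (KRRLib.twFun n T (-(i : ℤ))).map_isZero ((Scheme.Modules.pullback (KRR.pr n T)).map_isZero
    ((Scheme.Modules.pushforward (KRR.pr n T)).map_isZero (isZero_it A i hi)))

end Groth.Agent.S20013
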