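import Groth.Statements.S20014
import Groth.Agent.NormalSec.Basic
import Mathlib.AlgebraicGeometry.SpreadingOut
import Mathlib.AlgebraicGeometry.Morphisms.Proper
import Mathlib.AlgebraicGeometry.FunctionField
import Mathlib.AlgebraicGeometry.Noetherian
-- import your own Groth.Agent.* helpers here

set_option autoImplicit false
universe u
open CategoryTheory CategoryTheory.Limits AlgebraicGeometry
open RatSing

namespace Groth.Agent.S20014
/-- On a locally Noetherian scheme with domain stalks, a nonzero element of a domain of sections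
has nonzero germ everywhere. -/
lemma germ_ne_zero {Y : Scheme.{u}} [IsLocallyNoetherian Y] (U : Y.Opens) [IsDomain Γ(Y, U)]
    (hdom : ∀ y ∈ U, IsDomain (Y.presheaf.stalk y)) (b : Γ(Y, U)) (hb : b ≠ 0) (y : Y) (hy : y ∈ U) :
    Y.presheaf.germ U y hy b ≠ 0 := by
  intro hby
  -- the zero locus of the germs of `b` is clopen in `U`
  let Z : Y.Opens := ⟨{z | ∃ hz : z ∈ U, Y.presheaf.germ U z hz b = 0}, by
    refine isOpen_iff_forall_mem_open.mpr fun z ⟨hz, hz0⟩ => ?_
    obtain ⟨W, hzW, i₁, i₂, hW⟩ := Y.presheaf.germ_eq z hz hz b 0 (hz0.trans (map_zero _).symm)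
    refine ⟨W, fun w hw => ⟨i₁.le hw, ?_⟩, W.2, hzW⟩
    rw [← Y.presheaf.germ_res_apply i₁ w hw b, hW, map_zero, map_zero]⟩
  let N : Y.Opens := ⟨{z | ∃ hz : z ∈ U, Y.presheaf.germ U z hz b ≠ 0}, by
    refine isOpen_iff_forall_mem_open.mpr fun z ⟨hz, hz0⟩ => ?_
    obtain ⟨W, hzW, hWaff, hWU, hinj⟩ := Y.exists_le_and_germ_injective z U hz
    have := hdom z hz
    haveI : IsDomain Γ(Y, W) := Function.Injective.isDomain _ hinj
    have hc : Y.presheaf.map (homOfLE hWU).op b ≠ 0 := fun h => hz0 (by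
      rw [← Y.presheaf.germ_res_apply (homOfLE hWU) z hzW b, h, map_zero])
    refine ⟨W, fun w hw => ⟨hWU hw, fun h => hc ?_⟩, W.2, hzW⟩
    let := Y.presheaf.algebra_section_stalk (U := W) ⟨w, hw⟩
    have := hWaff.isLocalization_stalk ⟨w, hw⟩
    apply IsLocalization.injective (Y.presheaf.stalk w)
      (Ideal.primeCompl_le_nonZeroDivisors (hWaff.primeIdealOf ⟨w, hw⟩).asIdeal)
    rw [map_zero]
    exact (Y.presheaf.germ_res_apply (homOfLE hWU) w hw b).trans h⟩
  have hdisj : Z ⊓ N = ⊥ := by
    refine le_bot_iff.mp fun z ⟨⟨_, h1⟩, ⟨_, h2⟩⟩ => absurd h1 h2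
  have hcov : U ≤ Z ⊔ N := fun z hz => by
    by_cases h : Y.presheaf.germ U z hz b = 0
    · exact Or.inl ⟨hz, h⟩
    · exact Or.inr ⟨hz, h⟩
  have hZU : Z ≤ U := fun z hz => hz.1
  have hNU : N ≤ U := fun z hz => hz.1
  let W : Bool → Y.Opens := fun i => if i then Z else N
  let s : ∀ i, Γ(Y, W i) := fun i => if i then 1 else 0
  have hle : ∀ i, W i ≤ U := fun i => by cases i <;> simp [W, hZU, hNU]
  obtain ⟨e, he, -⟩ := TopCat.Sheaf.existsUnique_gluing' Y.sheaf W U (fun i => homOfLE (hle i))
    (fun z hz => by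
      rcases hcov hz with h | h
      · exact TopologicalSpace.Opens.mem_iSup.mpr ⟨true, h⟩
      · exact TopologicalSpace.Opens.mem_iSup.mpr ⟨false, h⟩) s (by
    intro i j
    refine TopCat.Presheaf.section_ext Y.sheaf _ _ _ fun z hz => ?_
    cases i <;> cases j <;> first
      | rfl
      | exact absurd (show z ∈ Z ⊓ N from ⟨hz.1, hz.2⟩) (by rw [hdisj]; exact id)
      | exact absurd (show z ∈ Z ⊓ N from ⟨hz.2, hz.1⟩) (by rw [hdisj]; exact id))
  let e' : Γ(Y, U) := e
  have heb : e' * b = 0 := by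
    refine TopCat.Presheaf.section_ext Y.sheaf _ _ _ fun z hz => ?_
    show Y.presheaf.germ U z hz (e' * b) = Y.presheaf.germ U z hz 0
    rw [map_mul, map_zero]
    rcases hcov hz with h | h
    · rw [h.2, mul_zero]
    · have : Y.presheaf.germ U z hz e' = 0 := by
        rw [← Y.presheaf.germ_res_apply (homOfLE (hle false)) z h e']
        exact (congrArg (Y.presheaf.germ (W false) z h) (he false)).trans (map_zero _)
      rw [this, zero_mul]
  have he0 : e' = 0 := (mul_eq_zero.mp heb).resolve_right hb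
  have h1 : Y.presheaf.germ U y hy e' = 1 := by
    have hyZ : y ∈ W true := ⟨hy, hby⟩
    rw [← Y.presheaf.germ_res_apply (homOfLE (hle true)) y hyZ e']
    exact (congrArg (Y.presheaf.germ (W true) y hyZ) (he true)).trans (map_one _)
  have := hdom y hy
  exact one_ne_zero (h1.symm.trans (by rw [he0, map_zero]))


/-- Let k be a field, X an integral k-scheme which is separated and of finite type over k, and f : X̃ →
X a proper morphism of k-schemes which is birational — an isomorphism over some nonempty open subset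
of X — and for which O_X → f_*O_X̃ is an isomorphism (Γ(V, O_X) → Γ(f⁻¹V, O_X̃) bijective for every
open V of X). If X̃ is normal (every local ring an integrally closed domain), then X is normal. (In
the text this is the last clause of a lemma whose other hypotheses — X̃ Cohen–Macaulay, vanishing of
the higher direct images of O_X̃ and of the dualizing sheaf — and whose standing assumption that k
is perfect of positive characteristic play no role in this clause; they are omitted here.) -/
theorem result (k : Type u) [Field k]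
    (X Xt : Scheme.{u}) [X.Over (Spec (CommRingCat.of k))] [Xt.Over (Spec (CommRingCat.of k))]
    [IsIntegral X] [IsSeparated (X ↘ Spec (CommRingCat.of k))]
    [LocallyOfFiniteType (X ↘ Spec (CommRingCat.of k))] [QuasiCompact (X ↘ Spec (CommRingCat.of k))]
    (f : Xt ⟶ X) (hf : f ≫ (X ↘ Spec (CommRingCat.of k)) = Xt ↘ Spec (CommRingCat.of k)) [IsProper f]
    (U : X.Opens) (hU : (U : Set X).Nonempty) (hbir : IsIso (f ∣_ U))
    (hfib : ∀ V : X.Opens, IsIso (f.app V))
    (hXt : Pi1.IsNormalScheme Xt) : Pi1.IsNormalScheme X := by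
  intro x
  refine ⟨inferInstance, ?_⟩
  haveI : LocallyOfFiniteType f := inferInstance
  haveI : IsLocallyNoetherian X :=
    LocallyOfFiniteType.isLocallyNoetherian (X ↘ Spec (CommRingCat.of k))
  haveI : IsLocallyNoetherian Xt := LocallyOfFiniteType.isLocallyNoetherian f
  obtain ⟨_, ⟨V, hV, rfl⟩, hxV, -⟩ := X.isBasis_affineOpens.exists_subset_of_mem_open
    (Set.mem_univ x) isOpen_univ
  haveI : Nonempty V := ⟨⟨x, hxV⟩⟩
  haveI := hfib V
  let e : Γ(X, V) ≃+* Γ(Xt, f ⁻¹ᵁ V) := (asIso (f.app V)).commRingCatIsoToRingEquiv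
  haveI : IsDomain Γ(Xt, f ⁻¹ᵁ V) := MulEquiv.isDomain Γ(X, V) e.symm.toMulEquiv
  haveI : IsIntegrallyClosed Γ(Xt, f ⁻¹ᵁ V) :=
    Groth.Agent.NormalSec.isIntegrallyClosed_sections _ (fun y _ => (hXt y).1) (fun y _ => (hXt y).2)
      (germ_ne_zero _ fun y _ => (hXt y).1)
  haveI : IsIntegrallyClosed Γ(X, V) := IsIntegrallyClosed.of_equiv e.symm
  have := hV.isLocalization_stalk ⟨x, hxV⟩
  letI := X.presheaf.algebra_section_stalk (U := V) ⟨x, hxV⟩
  exact isIntegrallyClosed_of_isLocalization (R := Γ(X, V)) (S := X.presheaf.stalk x)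
    (hV.primeIdealOf ⟨x, hxV⟩).asIdeal.primeCompl (Ideal.primeCompl_le_nonZeroDivisors _)

end Groth.Agent.S20014
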