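import Groth.Statements.S20016
import Groth.Agent.ModPairLib.Dense
import Groth.Agent.IdealSh.Regular
import Mathlib.RingTheory.Smooth.IntegralClosure
import Mathlib.RingTheory.Localization.BaseChange
import Mathlib.AlgebraicGeometry.Morphisms.Etale
-- import your own Groth.Agent.* helpers here

set_option autoImplicit false
universe u
open CategoryTheory AlgebraicGeometry TopologicalSpace Opposite
open ModPair

namespace Groth.Agent.S20016

open scoped TensorProduct in
/-- Being integrally closed in an extension is preserved by smooth base change. -/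
lemma tensor_mem_range {A B A' : Type u} [CommRing A] [CommRing B] [CommRing A'] [Algebra A B]
    [Algebra A A'] [Algebra.Smooth A B]
    (h : ∀ y : A', IsIntegral A y → y ∈ (algebraMap A A').range) (x : B ⊗[A] A')
    (hx : IsIntegral B x) : x ∈ (algebraMap B (B ⊗[A] A')).range := by
  obtain ⟨y, hy⟩ :=
    (TensorProduct.toIntegralClosure_bijective_of_smooth (R := A) (S := B) (B := A')).2 ⟨x, hx⟩
  have e : ((TensorProduct.toIntegralClosure A B A' y : integralClosure B (B ⊗[A] A')) : B ⊗[A] A')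
      = x := congrArg Subtype.val hy
  rw [← e]
  clear e hy
  induction y with
  | zero => exact ⟨0, by simp⟩
  | add a b ha hb => rw [map_add, Subalgebra.coe_add]; exact add_mem ha hb
  | tmul b z =>
    obtain ⟨a, ha⟩ := h z.1 z.2
    refine ⟨a • b, ?_⟩
    show (a • b) ⊗ₜ[A] (1 : A') = b ⊗ₜ[A] z.1
    rw [TensorProduct.smul_tmul, ← ha, Algebra.smul_def, mul_one]

open scoped TensorProduct in
lemma mem_range_of_smooth {A B A' B' : Type u} [CommRing A] [CommRing B] [CommRing A'] [CommRing B']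
    [Algebra A B] [Algebra A A'] [Algebra B B'] [Algebra.Smooth A B] (a : A)
    [IsLocalization.Away a A'] [IsLocalization.Away (algebraMap A B a) B']
    (h : ∀ y : A', IsIntegral A y → y ∈ (algebraMap A A').range) (x : B') (hx : IsIntegral B x) :
    x ∈ (algebraMap B B').range := by
  have e0 : Algebra.algebraMapSubmonoid B (Submonoid.powers a) =
      Submonoid.powers (algebraMap A B a) := Submonoid.map_powers _ _
  have : IsLocalization (Submonoid.powers (algebraMap A B a)) (B ⊗[A] A') := e0 ▸ inferInstance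
  let e : B' ≃ₐ[B] B ⊗[A] A' := IsLocalization.algEquiv (Submonoid.powers (algebraMap A B a)) _ _
  obtain ⟨b, hb⟩ := tensor_mem_range h (e x) (hx.map e.toAlgHom)
  exact ⟨b, e.injective ((e.commutes b).trans hb)⟩

/-- The local statement. -/
lemma exists_extension {X Y : Scheme.{u}} {IX : X.IdealSheafData}
    (hint : ∀ U ∈ X.affineOpens, ∀ s : Γ(X, U ⊓ ModPair.interior IX),
      (X.presheaf.map (homOfLE (inf_le_left : U ⊓ ModPair.interior IX ≤ U)).op).hom.IsIntegralElem s →
        s ∈ Set.range (X.presheaf.map (homOfLE (inf_le_left : U ⊓ ModPair.interior IX ≤ U)).op).hom)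
    (g : Y ⟶ X) [Etale g] (U : X.affineOpens) (a : Γ(X, U.1)) (he : IX.ideal U = Ideal.span {a})
    (W : Y.affineOpens) (hle : W.1 ≤ g ⁻¹ᵁ U.1) (O : Y.Opens)
    (hO : O = W.1 ⊓ g ⁻¹ᵁ ModPair.interior IX) (hOW : O ≤ W.1) (t : Γ(Y, O))
    (ht : (Y.presheaf.map (homOfLE hOW).op).hom.IsIntegralElem t) :
    t ∈ Set.range (Y.presheaf.map (homOfLE hOW).op).hom := by
  let b := (g.appLE U.1 W.1 hle).hom a
  have hA : U.1 ⊓ ModPair.interior IX = X.basicOpen a := Opens.ext (by
    rw [Groth.Agent.IdealSh.Regular.basicOpen_eq_compl_support he, Opens.coe_inf]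
    rfl)
  have hB : O = Y.basicOpen b := by
    rw [Scheme.basicOpen_appLE, hO, ← hA]
    refine le_antisymm (le_inf inf_le_left fun y hy => ⟨hle hy.1, hy.2⟩) ?_
    exact le_inf inf_le_left fun y hy => hy.2.2
  subst hB
  letI := (g.appLE U.1 W.1 hle).hom.toAlgebra
  have : Algebra.Smooth Γ(X, U.1) Γ(Y, W.1) := Scheme.Hom.smooth_appLE g U.2 W.2 hle
  have := U.2.isLocalization_basicOpen a
  have : IsLocalization.Away (algebraMap Γ(X, U.1) Γ(Y, W.1) a) Γ(Y, Y.basicOpen b) :=
    W.2.isLocalization_basicOpen b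
  refine mem_range_of_smooth (A := Γ(X, U.1)) (B := Γ(Y, W.1)) (A' := Γ(X, X.basicOpen a)) a
    (fun y hy => ?_) t ht
  have key : ∀ (O' : X.Opens) (_ : O' = U.1 ⊓ ModPair.interior IX) (h' : O' ≤ U.1) (y : Γ(X, O')),
      (X.presheaf.map (homOfLE h').op).hom.IsIntegralElem y →
        y ∈ Set.range (X.presheaf.map (homOfLE h').op).hom := by
    rintro O' rfl h' y hy
    exact hint U.1 U.2 y hy
  exact key _ hA.symm (X.basicOpen_le a) y hy

open TopologicalSpace in
lemma res_eq {Y : Scheme.{u}} {P Q R : Y.Opens} (h : Q ≤ P) (h' : R ≤ Q) (y : Γ(Y, P)) :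
    (Y.presheaf.map (homOfLE h').op).hom ((Y.presheaf.map (homOfLE h).op).hom y) =
      (Y.presheaf.map (homOfLE (h'.trans h)).op).hom y := by
  rw [← RingHom.comp_apply, ← CommRingCat.hom_comp, ← Functor.map_comp, ← op_comp, homOfLE_comp]

/-- Let (X, I_X) be a modulus pair — a scheme X with the quasi-coherent ideal sheaf I_X of an effective
Cartier divisor — with interior X° (the open complement of the support of I_X), and suppose O_X is
integrally closed in O_{X°}: for every affine open U of X, every section of O_X over U ∩ X° which is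
integral over Γ(U, O_X) along the restriction map is the restriction of a section over U. Let g : Y
⟶ X be an étale morphism and Y° = g⁻¹(X°). Then O_Y is integrally closed in O_{Y°}: for every affine
open V of Y, every section of O_Y over V ∩ Y° which is integral over Γ(V, O_Y) along the restriction
map is the restriction of a section over V. (The text does not spell out the phrase integrally
closed for sheaves; it is rendered here affine-locally through restriction maps.) -/
theorem result {X Y : Scheme.{u}}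
    (IX : X.IdealSheafData) (hX : BlowUp.IsEffCartierIdeal IX)
    (hint : ∀ U ∈ X.affineOpens, ∀ s : Γ(X, U ⊓ ModPair.interior IX),
      (X.presheaf.map (homOfLE (inf_le_left : U ⊓ ModPair.interior IX ≤ U)).op).hom.IsIntegralElem s →
        s ∈ Set.range (X.presheaf.map (homOfLE (inf_le_left : U ⊓ ModPair.interior IX ≤ U)).op).hom)
    (g : Y ⟶ X) [Etale g] :
    ∀ V ∈ Y.affineOpens, ∀ t : Γ(Y, V ⊓ g ⁻¹ᵁ ModPair.interior IX),
      (Y.presheaf.map (homOfLE (inf_le_left : V ⊓ g ⁻¹ᵁ ModPair.interior IX ≤ V)).op).hom.IsIntegralElem t →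
        t ∈ Set.range (Y.presheaf.map (homOfLE (inf_le_left : V ⊓ g ⁻¹ᵁ ModPair.interior IX ≤ V)).op).hom := by
  intro V hV t ht
  let U' := g ⁻¹ᵁ ModPair.interior IX
  have hc : BlowUp.IsEffCartierIdeal (IX.comap g) :=
    Groth.Agent.IdealSh.EffCartier.comap_of_flat g hX
  have hd : IsSchemeTheoreticallyDominant U'.ι := by
    have := Groth.Agent.ModPairLib.Dense.isSchemeTheoreticallyDominant_interior hc
    rwa [Groth.Agent.ModPairLib.Dense.interior_comap] at this
  have hqc : IsAffineHom U'.ι := Groth.Agent.ModPairLib.Dense.isAffineHom_preimage hX g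
  have hinj : ∀ (P : Y.Opens) (s s' : Γ(Y, P)),
      (Y.presheaf.map (homOfLE (inf_le_left : P ⊓ U' ≤ P)).op).hom s =
        (Y.presheaf.map (homOfLE (inf_le_left : P ⊓ U' ≤ P)).op).hom s' → s = s' := by
    intro P s s' hss
    refine U'.ι.app_injective P ?_
    rw [Scheme.Opens.ι_app]
    have h1 : U'.ι ''ᵁ (U'.ι ⁻¹ᵁ P) ≤ P ⊓ U' := by
      rw [Scheme.Hom.image_preimage_eq_opensRange_inf, Scheme.Opens.opensRange_ι, inf_comm]
    have h2 := congrArg (Y.presheaf.map (homOfLE h1).op).hom hss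
    rw [res_eq, res_eq] at h2
    exact h2
  -- cover
  have hloc : ∀ y : V, ∃ W : Y.affineOpens, y.1 ∈ W.1 ∧ ∃ hWV : W.1 ≤ V,
      ∃ s : Γ(Y, W.1), (Y.presheaf.map (homOfLE (inf_le_left : W.1 ⊓ U' ≤ W.1)).op).hom s =
        (Y.presheaf.map (homOfLE (inf_le_inf_right U' hWV)).op).hom t := by
    intro y
    obtain ⟨U, hxU, a, -, he⟩ := hX (g y.1)
    obtain ⟨_, ⟨W, hW, rfl⟩, hyW, hWle⟩ := Y.isBasis_affineOpens.exists_subset_of_mem_open
      (a := y.1) (show y.1 ∈ ((V ⊓ g ⁻¹ᵁ U.1 : Y.Opens) : Set Y) from ⟨y.2, hxU⟩)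
      (V ⊓ g ⁻¹ᵁ U.1).2
    have hWV : W ≤ V := fun z hz => (hWle hz).1
    have hWU : W ≤ g ⁻¹ᵁ U.1 := fun z hz => (hWle hz).2
    refine ⟨⟨W, hW⟩, hyW, hWV, ?_⟩
    refine exists_extension hint g U a he ⟨W, hW⟩ hWU (W ⊓ U') rfl inf_le_left _ ?_
    obtain ⟨p, hp, hp'⟩ := ht
    refine ⟨p.map (Y.presheaf.map (homOfLE hWV).op).hom, hp.map _, ?_⟩
    have e : (Y.presheaf.map (homOfLE (inf_le_left : W ⊓ U' ≤ W)).op).hom.comp
        (Y.presheaf.map (homOfLE hWV).op).hom =
        (Y.presheaf.map (homOfLE (inf_le_inf_right U' hWV)).op).hom.comp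
          (Y.presheaf.map (homOfLE (inf_le_left : V ⊓ U' ≤ V)).op).hom := RingHom.ext fun z => by
      simp only [RingHom.comp_apply]
      exact (res_eq hWV inf_le_left z).trans (res_eq inf_le_left (inf_le_inf_right U' hWV) z).symm
    rw [Polynomial.eval₂_map, e, ← Polynomial.hom_eval₂, hp', map_zero]
  choose W hyW hWV s hs using hloc
  have hcov : V ≤ ⨆ y : V, (W y).1 := fun y hy => Opens.mem_iSup.2 ⟨⟨y, hy⟩, hyW ⟨y, hy⟩⟩
  have hcomp : TopCat.Presheaf.IsCompatible Y.presheaf (fun y : V => (W y).1) s := by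
    intro y z
    refine hinj _ _ _ ?_
    show (Y.presheaf.map _).hom ((Y.presheaf.map (homOfLE inf_le_left).op).hom (s y)) =
      (Y.presheaf.map _).hom ((Y.presheaf.map (homOfLE inf_le_right).op).hom (s z))
    rw [res_eq, res_eq]
    have h1 : (W y).1 ⊓ (W z).1 ⊓ U' ≤ (W y).1 ⊓ U' := inf_le_inf_right _ inf_le_left
    have h2 : (W y).1 ⊓ (W z).1 ⊓ U' ≤ (W z).1 ⊓ U' := inf_le_inf_right _ inf_le_right
    have e1 := congrArg (Y.presheaf.map (homOfLE h1).op).hom (hs y)
    have e2 := congrArg (Y.presheaf.map (homOfLE h2).op).hom (hs z)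
    rw [res_eq, res_eq] at e1 e2
    exact e1.trans e2.symm
  obtain ⟨r, hr, -⟩ := TopCat.Sheaf.existsUnique_gluing' Y.sheaf (fun y : V => (W y).1) V
    (fun y => homOfLE (hWV y)) hcov s hcomp
  refine ⟨r, ?_⟩
  refine TopCat.Sheaf.eq_of_locally_eq' Y.sheaf (fun y : V => (W y).1 ⊓ U') (V ⊓ U')
    (fun y => homOfLE (inf_le_inf_right U' (hWV y)))
    (fun z hz => Opens.mem_iSup.2 ⟨⟨z, hz.1⟩, hyW ⟨z, hz.1⟩, hz.2⟩) _ _ fun y => ?_
  refine Eq.trans ?_ (hs y)
  show (Y.presheaf.map _).hom ((Y.presheaf.map _).hom r) = _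
  rw [res_eq, ← hr y]
  exact (res_eq (hWV y) inf_le_left r).symm

end Groth.Agent.S20016
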