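import Groth.Statements.S20017
import Groth.Agent.TorsorClos.Main
import Groth.Agent.GITLib.TorsorSchMore
import Groth.Agent.GITLib.DedekindTorsor
import Groth.Agent.GrpScheme.HomFlat
import Groth.Agent.LimTors.Basic
import Groth.Agent.FlatMor.SchDom
import Groth.Agent.S9821
import Groth.Agent.S0406
import Groth.Prelude.Def_ChGrp
import Mathlib.AlgebraicGeometry.FunctionField

set_option autoImplicit false
universe u
open CategoryTheory AlgebraicGeometry
open NonAbH1

namespace Groth.Agent.S20017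

open CategoryTheory CategoryTheory.Limits MonoidalCategory CartesianMonoidalCategory MonObj AlgebraicGeometry Groth.Agent.GITLib Groth.Agent.TorsorClos

set_option linter.style.haveILetI false
set_option maxHeartbeats 1000000

theorem flatLFP_of_finite {W X : Scheme.{u}} (f : W ⟶ X) [IsFinite f] [Flat f] [IsIntegral X] :
    LocallyOfFinitePresentation f := by
  rw [IsZariskiLocalAtTarget.iff_of_openCover (P := @LocallyOfFinitePresentation) X.affineCover]
  intro i
  rcases isEmpty_or_nonempty (X.affineCover.X i) with he | hne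
  · haveI : IsEmpty ↥(pullback f (X.affineCover.f i)) :=
      Function.isEmpty (pullback.snd f (X.affineCover.f i)).base
    show LocallyOfFinitePresentation (pullback.snd f (X.affineCover.f i))
    infer_instance
  haveI : IsIntegral (X.affineCover.X i) := isIntegral_of_isOpenImmersion (X.affineCover.f i)
  show LocallyOfFinitePresentation (pullback.snd f (X.affineCover.f i))
  let q := pullback.snd f (X.affineCover.f i)
  haveI : IsFinite q := MorphismProperty.pullback_snd _ _ inferInstance
  haveI : Flat q := MorphismProperty.pullback_snd _ _ inferInstance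
  haveI : IsAffine (X.affineCover.X i) := inferInstance
  haveI : IsAffine (pullback f (X.affineCover.f i)) := isAffine_of_isAffineHom q
  rw [HasRingHomProperty.iff_of_isAffine (P := @LocallyOfFinitePresentation)]
  have h1 := q.finite_appTop
  have h2 := q.flat_appTop
  haveI : IsDomain Γ(X.affineCover.X i, ⊤) := inferInstance
  algebraize [q.appTop.hom]
  haveI : Algebra.FiniteType Γ(X.affineCover.X i, ⊤) Γ(pullback f (X.affineCover.f i), ⊤) :=
    Module.Finite.finiteType _
  exact S0406.result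

/-- The generic point sees an integrally closed subring of its functions. -/
theorem generic_injective_and_closed {X : Scheme.{u}} [IsIntegral X] (hX : Pi1.IsNormalScheme X)
    (V : X.Opens) (hV : IsAffineOpen V) :
    Function.Injective (X.fromSpecStalk (genericPoint X) ∣_ V).appTop.hom ∧
      ∀ y, (X.fromSpecStalk (genericPoint X) ∣_ V).appTop.hom.IsIntegralElem y →
        y ∈ Set.range (X.fromSpecStalk (genericPoint X) ∣_ V).appTop.hom := by
  let ρ := X.fromSpecStalk (genericPoint X)
  suffices h : Function.Injective (ρ.app V).hom ∧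
      ∀ y, (ρ.app V).hom.IsIntegralElem y → y ∈ Set.range (ρ.app V).hom by
    let i₁ := V.topIso
    let i₂ := (ρ ⁻¹ᵁ V).topIso
    have hcomm : (ρ ∣_ V).appTop = i₁.hom ≫ ρ.app V ≫ i₂.inv := by
      rw [← cancel_mono i₂.hom, Category.assoc, Category.assoc, Iso.inv_hom_id, Category.comp_id]
      simp [i₁, i₂, morphismRestrict_appTop, Scheme.Hom.app_eq_appLE]
      erw [Scheme.Hom.appLE_map, Scheme.Hom.map_appLE]
    have hb₁ := ConcreteCategory.bijective_of_isIso i₁.hom
    have hb₂ := ConcreteCategory.bijective_of_isIso i₂.inv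
    rw [hcomm]
    refine ⟨hb₂.1.comp (h.1.comp hb₁.1), fun y hy => ?_⟩
    obtain ⟨y', rfl⟩ := hb₂.2 y
    obtain ⟨P, hPm, hP⟩ := hy
    obtain ⟨x, hx⟩ := h.2 y' ⟨P.map i₁.hom.hom, hPm.map _, hb₂.1 (by
      rw [map_zero, ← hP, Polynomial.eval₂_map, Polynomial.hom_eval₂]
      rfl)⟩
    obtain ⟨x', rfl⟩ := hb₁.2 x
    exact ⟨x', congrArg i₂.inv.hom hx⟩
  rcases isEmpty_or_nonempty V with he | hne
  · haveI : Subsingleton Γ(X, V) := by
      have h : V = ⊥ := TopologicalSpace.Opens.ext (Set.eq_empty_of_forall_notMem fun x hx =>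
        he.false ⟨x, hx⟩)
      rw [h]
      infer_instance
    haveI : Subsingleton Γ(Spec (X.presheaf.stalk (genericPoint X)), ρ ⁻¹ᵁ V) := by
      constructor
      intro a b
      have h : ∀ z : Γ(Spec (X.presheaf.stalk (genericPoint X)), ρ ⁻¹ᵁ V), z = 0 := fun z => by
        rw [← _root_.mul_one z, ← map_one (ρ.app V).hom,
          Subsingleton.elim (1 : Γ(X, V)) 0, map_zero, MulZeroClass.mul_zero]
      rw [h a, h b]
    exact ⟨fun a b _ => Subsingleton.elim a b, fun y _ => ⟨0, Subsingleton.elim _ _⟩⟩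
  obtain ⟨v⟩ := hne
  have hη : genericPoint X ∈ V :=
    ((genericPoint_spec X).mem_open_set_iff V.isOpen).mpr ⟨v.1, trivial, v.2⟩
  haveI : Nonempty V := ⟨v⟩
  haveI : IsFractionRing Γ(X, V) X.functionField :=
    functionField_isFractionRing_of_isAffineOpen X V hV
  haveI : IsDomain Γ(X, V) := IsIntegral.component_integral V
  haveI : IsIntegrallyClosed Γ(X, V) := (S9821.result X).mp hX V hV
  have hρV : ρ ⁻¹ᵁ V = ⊤ := by
    ext z
    simp only [TopologicalSpace.Opens.coe_top, Set.mem_univ, iff_true]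
    have hz : ρ.base z ⤳ genericPoint X := by
      have : ρ.base z ∈ Set.range ρ.base := ⟨z, rfl⟩
      rw [Scheme.range_fromSpecStalk] at this
      exact this
    exact hz.mem_open V.isOpen hη
  let w := (Scheme.ΓSpecIso (X.presheaf.stalk (genericPoint X))).inv ≫
    (Spec (X.presheaf.stalk (genericPoint X))).presheaf.map
      (homOfLE (le_top : ρ ⁻¹ᵁ V ≤ ⊤)).op
  haveI : IsIso ((Spec (X.presheaf.stalk (genericPoint X))).presheaf.map
      (homOfLE (le_top : ρ ⁻¹ᵁ V ≤ ⊤)).op) := by
    haveI : IsIso (homOfLE (le_top : ρ ⁻¹ᵁ V ≤ ⊤)) := ⟨homOfLE hρV.ge, rfl, rfl⟩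
    infer_instance
  have happ : ρ.app V = X.presheaf.germ V (genericPoint X) hη ≫ w :=
    Scheme.fromSpecStalk_app hη
  have hb := ConcreteCategory.bijective_of_isIso w
  have hg : (X.presheaf.germ V (genericPoint X) hη).hom = algebraMap Γ(X, V) X.functionField := rfl
  rw [happ, CommRingCat.hom_comp]
  refine ⟨hb.1.comp (hg ▸ IsFractionRing.injective Γ(X, V) X.functionField), fun y hy => ?_⟩
  obtain ⟨y', rfl⟩ := hb.2 y
  obtain ⟨P, hPm, hP⟩ := hy
  have hint : IsIntegral Γ(X, V) (y' : X.functionField) := ⟨P, hPm, hb.1 (by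
    rw [map_zero, ← hP, Polynomial.hom_eval₂, ← hg])⟩
  obtain ⟨x, hx⟩ := IsIntegrallyClosed.isIntegral_iff.mp hint
  exact ⟨x, congrArg w.hom hx⟩

theorem body (X : Scheme.{u}) [AlgebraicGeometry.IsIntegral X] (hX : Pi1.IsNormalScheme X)
    (G : Over X) [GrpObj G] [IsFinite G.hom] [Flat G.hom]
    (U : X.Opens) (hU : Dense (U : Set X)) (P₁ P₂ : Over X) (a₁ : AlgGrp.Action G P₁)
    (a₂ : AlgGrp.Action G P₂) (h₁ : NonAbH1.IsTorsorFor Scheme.fppfPrecoverage a₁)
    (h₂ : NonAbH1.IsTorsorFor Scheme.fppfPrecoverage a₂)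
    (e : NonAbH1.EquivIso (a₁.bc U.ι) (a₂.bc U.ι)) : Nonempty (NonAbH1.EquivIso a₁ a₂) := by
  haveI : LocallyOfFinitePresentation G.hom := flatLFP_of_finite G.hom
  have h₁q := isTorsorFor_mono Scheme.fppfPrecoverage_le_fpqcPrecoverage h₁
  have h₂q := isTorsorFor_mono Scheme.fppfPrecoverage_le_fpqcPrecoverage h₂
  haveI : MorphismProperty.DescendsAlong @IsFinite.{u} AlgSpCov.Fpqc :=
    FpqcDesc.descendsAlong_isFinite
  haveI hf₁ : IsFinite P₁.hom := property_of_torsor @IsFinite h₁q inferInstance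
  haveI hf₂ : IsFinite P₂.hom := property_of_torsor @IsFinite h₂q inferInstance
  haveI hl₁ : Flat P₁.hom := property_of_torsor @Flat h₁q inferInstance
  let ρ := X.fromSpecStalk (genericPoint X)
  haveI : Flat ρ := GrpScheme.HomFlat.flat_fromSpecStalk _
  haveI : IsAffineHom ρ := ⟨fun V hV => by
    by_cases h : genericPoint X ∈ V
    · have : ρ ⁻¹ᵁ V = ⊤ := by
        ext z
        simp only [TopologicalSpace.Opens.coe_top, Set.mem_univ, iff_true]
        have : ρ.base z ∈ Set.range ρ.base := ⟨z, rfl⟩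
        rw [Scheme.range_fromSpecStalk] at this
        exact (show ρ.base z ⤳ genericPoint X from this).mem_open V.isOpen h
      rw [this]
      exact isAffineOpen_top _
    · have : ρ ⁻¹ᵁ V = ⊥ := by
        ext z
        simp only [TopologicalSpace.Opens.coe_bot, Set.mem_empty_iff_false, iff_false]
        intro hz
        exact h (((genericPoint_spec X).mem_open_set_iff V.isOpen).mpr ⟨_, trivial, hz⟩)
      rw [this]
      exact isAffineOpen_bot _⟩
  have hηU : genericPoint X ∈ U := by
    obtain ⟨x, hx⟩ := hU.nonempty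
    exact ((genericPoint_spec X).mem_open_set_iff U.isOpen).mpr ⟨x, trivial, hx⟩
  have hlU : Set.range ρ.base ⊆ Set.range U.ι.base := by
    rw [Scheme.Opens.range_ι]
    rintro _ ⟨z, rfl⟩
    have : ρ.base z ∈ Set.range ρ.base := ⟨z, rfl⟩
    rw [Scheme.range_fromSpecStalk] at this
    exact (show ρ.base z ⤳ genericPoint X from this).mem_open U.isOpen hηU
  let l := IsOpenImmersion.lift U.ι ρ hlU
  have hl : l ≫ U.ι = ρ := IsOpenImmersion.lift_fac _ _ _
  -- the generic fibre of the first torsor and the graph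
  let T₁ := pullback P₁.hom ρ
  let V₀ : Over (U : Scheme.{u}) := Over.mk (pullback.snd P₁.hom ρ ≫ l)
  let T₀ : Over X := (Over.map U.ι).obj V₀
  let x₀ : T₀ ⟶ P₁ := Over.homMk (pullback.fst P₁.hom ρ) (by
    show pullback.fst P₁.hom ρ ≫ P₁.hom = (pullback.snd P₁.hom ρ ≫ l) ≫ U.ι
    rw [Category.assoc, hl, pullback.condition])
  let z : T₀ ⟶ P₁ ⊗ P₂ := lift x₀ (genMap U.ι e x₀)
  haveI : IsAffineHom (pullback.fst P₁.hom ρ) :=
    MorphismProperty.pullback_fst _ _ ‹IsAffineHom ρ›
  haveI : IsFinite (P₁ ⊗ P₂).hom := by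
    show IsFinite (pullback.fst P₁.hom P₂.hom ≫ P₁.hom)
    infer_instance
  haveI : QuasiCompact (fst P₁ P₂).left := inferInstanceAs (QuasiCompact (pullback.fst P₁.hom P₂.hom))
  haveI : QuasiCompact z.left := by
    haveI : QuasiCompact (z.left ≫ (fst P₁ P₂).left) := by
      rw [← Over.comp_left, lift_fst]
      exact inferInstanceAs (QuasiCompact (pullback.fst P₁.hom ρ))
    haveI : IsSeparated (fst P₁ P₂).left := inferInstanceAs (IsSeparated (pullback.fst P₁.hom P₂.hom))
    exact QuasiCompact.of_comp z.left (fst P₁ P₂).left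
  let Z : Over X := Over.mk (z.left.imageι ≫ (P₁ ⊗ P₂).hom)
  let j : Z ⟶ P₁ ⊗ P₂ := Over.homMk z.left.imageι rfl
  haveI : IsClosedImmersion j.left := inferInstanceAs (IsClosedImmersion z.left.imageι)
  haveI : Mono j := Over.mono_of_mono_left j
  haveI : IsFinite Z.hom := by rw [← Over.w j]; infer_instance
  let toZ : T₀ ⟶ Z := Over.homMk z.left.toImage (by
    show z.left.toImage ≫ z.left.imageι ≫ (P₁ ⊗ P₂).hom = T₀.hom
    rw [Scheme.Hom.toImage_imageι_assoc, Over.w])
  have htoZ : toZ ≫ j = z := Over.OverMorphism.ext z.left.toImage_imageι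
  haveI : IsSchemeTheoreticallyDominant toZ.left :=
    FlatMor.SchDom.toImage_dominant z.left (Or.inl inferInstance)
  haveI : QuasiCompact toZ.left := by
    haveI : QuasiCompact (toZ.left ≫ j.left) := by
      rw [← Over.comp_left, htoZ]; infer_instance
    exact QuasiCompact.of_comp toZ.left j.left
  let ad := a₁.prod a₂
  -- stability
  have hst : ∃ b : AlgGrp.Action G Z, ∀ {W : Over X} (g : W ⟶ G) (v : W ⟶ Z),
      (lift g v ≫ b.act) ≫ j = lift g (v ≫ j) ≫ ad.act := by
    let M : G ⊗ Z ⟶ P₁ ⊗ P₂ := (G ◁ j) ≫ ad.act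
    let V' : Over (U : Scheme.{u}) := Over.mk ((snd G T₀).left ≫ V₀.hom)
    let i : (Over.map U.ι).obj V' ⟶ G ⊗ T₀ := Over.homMk (𝟙 _) (by
      show 𝟙 _ ≫ (G ⊗ T₀).hom = ((snd G T₀).left ≫ V₀.hom) ≫ U.ι
      rw [Category.id_comp, Category.assoc]
      exact (Over.w (snd G T₀)).symm)
    let y := lift (i ≫ fst G T₀) ((i ≫ snd G T₀) ≫ x₀) ≫ a₁.act
    let m : V' ⟶ V₀ := Over.homMk (pullback.lift y.left ((snd G T₀).left ≫ pullback.snd P₁.hom ρ) (by
        rw [Over.w y, Category.assoc]
        show ((snd G T₀).left ≫ pullback.snd P₁.hom ρ ≫ l) ≫ U.ι = _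
        simp only [Category.assoc, hl]))
      (by
        show pullback.lift _ _ _ ≫ pullback.snd P₁.hom ρ ≫ l = (snd G T₀).left ≫ V₀.hom
        rw [pullback.lift_snd_assoc, Category.assoc]
        rfl)
    have hm : (Over.map U.ι).map m ≫ x₀ = y :=
      Over.OverMorphism.ext (pullback.lift_fst _ _ _)
    let k : V' ⟶ V₀ := Over.homMk (snd G T₀).left rfl
    have hk : (Over.map U.ι).map k = i ≫ snd G T₀ :=
      Over.OverMorphism.ext (Category.id_comp _).symm
    have key : i ≫ (G ◁ z) ≫ ad.act = (Over.map U.ι).map m ≫ z := by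
      have e1 : i ≫ (G ◁ z) = lift (i ≫ fst G T₀)
          (lift ((i ≫ snd G T₀) ≫ x₀) ((i ≫ snd G T₀) ≫ genMap U.ι e x₀)) := by
        apply CartesianMonoidalCategory.hom_ext
        · simp
        · apply CartesianMonoidalCategory.hom_ext <;> simp [z]
      rw [← Category.assoc, e1, AlgGrp.Action.lift_prod_act, comp_lift, ← genMap_comp, hm]
      congr 1
      rw [← hk, ← genMap_comp, ← genMap_act, hk]
    haveI : IsSchemeTheoreticallyDominant (G ◁ toZ).left := by
      haveI : Flat (snd G Z).left := inferInstanceAs (Flat (pullback.snd G.hom Z.hom))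
      have hsq : IsPullback (snd G T₀).left (G ◁ toZ).left toZ.left (snd G Z).left := by
        refine IsPullback.of_bot ?_ (congrArg CommaMorphism.left (whiskerLeft_snd G toZ)).symm
          (IsPullback.of_hasPullback G.hom Z.hom).flip
        rw [show (G ◁ toZ).left ≫ pullback.fst G.hom Z.hom = (fst G T₀).left from
            (congrArg CommaMorphism.left (whiskerLeft_fst G toZ) :), Over.w toZ]
        exact (IsPullback.of_hasPullback G.hom T₀.hom).flip
      exact IsSchemeTheoreticallyDominant.of_isPullback hsq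
    haveI hi : IsIso (pullback.fst M j) := by
      have hsq := (IsPullback.of_hasPullback M j).map (Over.forget X)
      haveI : IsClosedImmersion (pullback.fst M j).left :=
        MorphismProperty.of_isPullback hsq.flip ‹IsClosedImmersion j.left›
      have hcond : (i ≫ (G ◁ toZ)) ≫ M = ((Over.map U.ι).map m ≫ toZ) ≫ j := by
        show (i ≫ (G ◁ toZ)) ≫ (G ◁ j) ≫ ad.act = _
        rw [Category.assoc, ← whiskerLeft_comp_assoc, htoZ, key, Category.assoc, htoZ]
      let lf := pullback.lift (i ≫ (G ◁ toZ)) ((Over.map U.ι).map m ≫ toZ) hcond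
      have hlf : lf.left ≫ (pullback.fst M j).left = (G ◁ toZ).left := by
        rw [← Over.comp_left, pullback.lift_fst, Over.comp_left]
        exact Category.id_comp _
      haveI : IsIso (pullback.fst M j).left := by
        rw [IsClosedImmersion.isIso_iff_ker_eq_bot, ← le_bot_iff,
          ← (G ◁ toZ).left.ker_eq_bot, ← hlf]
        exact Scheme.Hom.le_ker_comp _ _
      haveI : IsIso ((Over.forget X).map (pullback.fst M j)) := ‹IsIso (pullback.fst M j).left›
      exact isIso_of_reflects_iso _ (Over.forget X)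
    obtain ⟨b, hb⟩ := NoriLib.exists_action_of_mono ad (𝟙 G) j (fun {W} g v =>
      ⟨lift g v ≫ inv (pullback.fst M j) ≫ pullback.snd M j, by
        rw [Category.assoc, Category.assoc, ← pullback.condition, IsIso.inv_hom_id_assoc,
          Category.comp_id]
        show lift g v ≫ (G ◁ j) ≫ ad.act = _
        rw [lift_whiskerLeft_assoc]⟩)
    exact ⟨b, fun g v => by rw [hb, Category.comp_id]⟩
  obtain ⟨b, hb⟩ := hst
  let p₁ : Z ⟶ P₁ := j ≫ fst P₁ P₂
  have hp₁ : b.act ≫ p₁ = (G ◁ p₁) ≫ a₁.act := AlgGrp.Action.hom_ext_lift₂ fun W g v => by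
    have h := congrArg (· ≫ fst P₁ P₂) (hb g v)
    rw [show v ≫ j = lift (v ≫ p₁) (v ≫ j ≫ snd P₁ P₂) from by
      apply CartesianMonoidalCategory.hom_ext <;> simp [p₁], AlgGrp.Action.lift_prod_act,
      lift_fst] at h
    rw [lift_whiskerLeft_assoc, ← h]
    simp [p₁]
  haveI : Mono (lift b.act (snd G Z)) := ⟨fun {W} u v huv => by
    have e1 : u ≫ snd _ _ = v ≫ snd _ _ := by
      have := congrArg (· ≫ snd Z Z) huv
      simpa using this
    have e2 : u ≫ b.act = v ≫ b.act := by
      have := congrArg (· ≫ fst Z Z) huv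
      simpa using this
    have key : ∀ w : W ⟶ G ⊗ Z,
        (w ≫ b.act) ≫ p₁ = lift (w ≫ fst _ _) ((w ≫ snd _ _) ≫ p₁) ≫ a₁.act := fun w => by
      rw [Category.assoc, hp₁, ← Category.assoc]
      congr 1
      apply CartesianMonoidalCategory.hom_ext <;> simp
    apply CartesianMonoidalCategory.hom_ext _ _ ?_ e1
    exact (existsUnique_diff h₁.1 ((v ≫ snd _ _) ≫ p₁) ((v ≫ b.act) ≫ p₁)).unique
      (by rw [← e1, ← e2]; exact (key u).symm) (key v).symm⟩
  -- the closure has the generic fibre of the first torsor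
  let l' : T₁ ⟶ pullback Z.hom ρ := pullback.lift toZ.left (pullback.snd P₁.hom ρ) (by
    rw [Over.w toZ]
    show (pullback.snd P₁.hom ρ ≫ l) ≫ U.ι = _
    rw [Category.assoc, hl])
  haveI : IsAffineHom (pullback.fst Z.hom ρ) := MorphismProperty.pullback_fst _ _ ‹IsAffineHom ρ›
  haveI : IsSchemeTheoreticallyDominant (pullback.fst Z.hom ρ) := by
    rw [isSchemeTheoreticallyDominant_iff, ← le_bot_iff, ← toZ.left.ker_eq_bot]
    conv_rhs => rw [show toZ.left = l' ≫ pullback.fst Z.hom ρ from (pullback.lift_fst _ _ _).symm]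
    exact Scheme.Hom.le_ker_comp _ _
  haveI : Mono (pullback.fst Z.hom ρ) := inferInstance
  have hl'sq : IsPullback (𝟙 T₁) l' toZ.left (pullback.fst Z.hom ρ) :=
    IsPullback.mk ⟨by rw [Category.id_comp, pullback.lift_fst]⟩
      ⟨PullbackCone.IsLimit.mk _ (fun c => c.fst) (fun c => Category.comp_id _)
        (fun c => by
          rw [← cancel_mono (pullback.fst Z.hom ρ), Category.assoc, pullback.lift_fst]
          exact c.condition)
        (fun c m h1 _ => by rw [← h1]; exact (Category.comp_id m).symm)⟩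
  haveI : Flat (pullback.fst Z.hom ρ) := inferInstance
  haveI : IsSchemeTheoreticallyDominant l' := IsSchemeTheoreticallyDominant.of_isPullback hl'sq
  let φ : Red.bc ρ Z ⟶ Red.bc ρ P₁ := (Over.pullback ρ).map p₁
  have hlφ : l' ≫ φ.left = 𝟙 T₁ := by
    apply pullback.hom_ext
    · rw [Category.assoc, Category.id_comp]
      show l' ≫ pullback.lift _ _ _ ≫ _ = _
      rw [pullback.lift_fst, pullback.lift_fst_assoc, ← Over.comp_left, ← Category.assoc, htoZ,
        lift_fst]
      rfl
    · rw [Category.assoc, Category.id_comp]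
      show l' ≫ pullback.lift _ _ _ ≫ _ = _
      rw [pullback.lift_snd, pullback.lift_snd]
  haveI : IsIso l' := by
    haveI : IsSeparated φ.left := by
      haveI : IsSeparated (φ.left ≫ (Red.bc ρ P₁).hom) := by
        rw [Over.w]
        exact MorphismProperty.pullback_snd _ _ (inferInstance : IsSeparated Z.hom)
      exact IsSeparated.of_comp φ.left (Red.bc ρ P₁).hom
    haveI : IsClosedImmersion (l' ≫ φ.left) := by rw [hlφ]; infer_instance
    haveI : IsClosedImmersion l' := IsClosedImmersion.of_comp l' φ.left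
    rw [IsClosedImmersion.isIso_iff_ker_eq_bot]
    exact l'.ker_eq_bot
  haveI : IsIso φ.left := by
    rw [show φ.left = inv l' from IsIso.eq_inv_of_hom_inv_id hlφ]
    infer_instance
  haveI : IsIso φ := by
    haveI : IsIso ((Over.forget _).map φ) := ‹IsIso φ.left›
    exact isIso_of_reflects_iso φ (Over.forget _)
  have hφ : ∀ {W : Over (Spec (X.presheaf.stalk (genericPoint X)))} (g : W ⟶ Red.bc ρ G)
      (v : W ⟶ Red.bc ρ Z),
      (lift g v ≫ (b.bc ρ).act) ≫ φ = lift g (v ≫ φ) ≫ (a₁.bc ρ).act := by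
    intro W g v
    obtain ⟨g₀, rfl⟩ := ((Over.mapPullbackAdj ρ).homEquiv W G).surjective g
    obtain ⟨v₀, rfl⟩ := ((Over.mapPullbackAdj ρ).homEquiv W Z).surjective v
    rw [AlgGrp.Action.lift_homEquiv_bc_act, ← Adjunction.homEquiv_naturality_right,
      ← Adjunction.homEquiv_naturality_right, AlgGrp.Action.lift_homEquiv_bc_act]
    congr 1
    rw [Category.assoc, hp₁, lift_whiskerLeft_assoc]
  have h₁ρ : NonAbH1.IsTorsorFor Scheme.fpqcPrecoverage (a₁.bc ρ) :=
    NonAbH1.isTorsorFor_bc ρ _ h₁q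
  have hgen : NonAbH1.IsTorsorFor Scheme.fpqcPrecoverage (b.bc ρ) := by
    refine ⟨LimTors.isPseudoTorsor_of_existsUnique _ fun {W} v w => ?_, ?_⟩
    · obtain ⟨g, hg, hu⟩ := existsUnique_diff h₁ρ.1 (v ≫ φ) (w ≫ φ)
      refine ⟨g, ?_, fun g' hg' => hu g' ?_⟩
      · show lift g v ≫ (b.bc ρ).act = w
        rw [← cancel_mono φ, hφ, hg]
      · show lift g' (v ≫ φ) ≫ (a₁.bc ρ).act = w ≫ φ
        rw [← hφ, hg']
    · obtain ⟨R, hR, hs⟩ := h₁ρ.2
      refine ⟨R, hR, fun S' f hf => ?_⟩
      obtain ⟨σ, hσ⟩ := hs f hf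
      exact ⟨σ ≫ (inv φ).left, by rw [Category.assoc, Over.w, hσ]⟩
  haveI : Flat (Red.bc ρ Z).hom := by
    haveI : Flat (Red.bc ρ P₁).hom := MorphismProperty.pullback_snd _ _ inferInstance
    rw [← Over.w φ]; infer_instance
  have hbt := isTorsorFor_of_dense ρ (fun V hV => (generic_injective_and_closed hX V hV).1)
    (fun V hV => (generic_injective_and_closed hX V hV).2) b hgen
  haveI : IsIso p₁ := isIso_of_equivariant
    (isTorsorFor_mono Scheme.fppfPrecoverage_le_fpqcPrecoverage hbt) h₁.1 p₁ hp₁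
  let h := inv p₁ ≫ j ≫ snd P₁ P₂
  have hh : a₁.act ≫ h = (G ◁ h) ≫ a₂.act := AlgGrp.Action.hom_ext_lift₂ fun W g x => by
    rw [lift_whiskerLeft_assoc]
    obtain ⟨v, rfl⟩ : ∃ v, v ≫ p₁ = x := ⟨x ≫ inv p₁, by simp⟩
    have h' := congrArg (· ≫ snd P₁ P₂) (hb g v)
    rw [show v ≫ j = lift (v ≫ p₁) (v ≫ j ≫ snd P₁ P₂) from by
      apply CartesianMonoidalCategory.hom_ext <;> simp [p₁], AlgGrp.Action.lift_prod_act,
      lift_snd] at h'
    rw [← Category.assoc, ← lift_whiskerLeft_assoc, ← hp₁]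
    simpa [h, Category.assoc] using h'
  haveI : IsIso h := isIso_of_equivariant h₁q h₂.1 h hh
  exact ⟨⟨asIso h, hh⟩⟩

/-- Let X be a normal integral scheme (integral, with every local ring integrally closed), G a group
scheme over X whose structure morphism is finite and flat, and U ⊆ X a dense open subscheme. Then
the restriction map H¹(X, G) → H¹(U, G|_U) on classes of fppf G-torsors — X-schemes with a G-action
which are pseudo-torsors and acquire sections on the members of some fppf covering family, up to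
equivariant isomorphism — given by base change along the open immersion U → X, is injective. (G is
not assumed commutative; injectivity is that of a map of pointed sets.) -/
theorem result
    (X : Scheme.{u}) [AlgebraicGeometry.IsIntegral X] (hX : Pi1.IsNormalScheme X)
    (G : Over X) [GrpObj G] [IsFinite G.hom] [Flat G.hom]
    (U : X.Opens) (hU : Dense (U : Set X)) :
    Function.Injective (NonAbH1.H1Sch.bcMap U.ι G Scheme.fppfPrecoverage) := by
  intro c₁ c₂ h
  induction c₁ using Quot.ind with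
  | mk P => ?_
  induction c₂ using Quot.ind with
  | mk Q => ?_
  have hPQ := h
  have hrel := Quot.eqvGen_exact hPQ
  obtain ⟨e⟩ : Nonempty (NonAbH1.EquivIso (P.act.bc U.ι) (Q.act.bc U.ι)) := by
    have : ∀ P' Q', Relation.EqvGen (fun P Q : NonAbH1.TorsorSch (Red.bc U.ι G) Scheme.fppfPrecoverage =>
        Nonempty (NonAbH1.EquivIso P.act Q.act)) P' Q' → Nonempty (NonAbH1.EquivIso P'.act Q'.act) := by
      intro P' Q' h
      induction h with
      | rel _ _ h => exact h
      | refl x => exact ⟨⟨Iso.refl _, by simp⟩⟩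
      | symm x y _ ih =>
        obtain ⟨⟨i, hi⟩⟩ := ih
        exact ⟨⟨i.symm, by
          rw [Iso.symm_hom, ← cancel_mono i.hom, Category.assoc, Iso.inv_hom_id, Category.comp_id,
            Category.assoc, hi, ← whiskerLeft_comp_assoc, Iso.inv_hom_id, whiskerLeft_id,
            Category.id_comp]⟩⟩
      | trans x y z _ _ ih₁ ih₂ =>
        obtain ⟨⟨i₁, h₁⟩⟩ := ih₁
        obtain ⟨⟨i₂, h₂⟩⟩ := ih₂
        exact ⟨⟨i₁ ≪≫ i₂, by
          rw [Iso.trans_hom, ← Category.assoc, h₁, Category.assoc, h₂, ← whiskerLeft_comp_assoc]⟩⟩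
    exact this _ _ hrel
  exact Quot.sound (body X hX G U hU P.X Q.X P.act Q.act P.isTorsor Q.isTorsor e)

end Groth.Agent.S20017
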