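import Mathlib
import Groth.Statements.S20018
-- import your own Groth.Agent.* helpers here

set_option autoImplicit false
open CAlg

namespace Groth.Agent.S20018

open PowerSeries in
/-- Product expansion of big Witt vectors: let R be a commutative ring and x ∈ 1 + tR[[t]] a formal
power series with constant term 1. Then x can be written uniquely as an infinite product ∏_{i ≥ 1}
(1 - α_i t^i) with α_i ∈ R. The infinite product is expressed through its truncations: there is a
unique sequence α : ℕ → R (α i standing for the coefficient attached to t^{i+1}) such that for every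
N the series x and the finite product ∏_{i=0}^{N} (1 - α_i t^{i+1}) agree modulo t^{N+2}. -/
theorem result
    (R : Type*) [CommRing R] (x : PowerSeries R) (hx : PowerSeries.constantCoeff x = 1) :
    ∃! α : ℕ → R, ∀ N : ℕ,
      PowerSeries.trunc (N + 2) x =
        PowerSeries.trunc (N + 2) (∏ i ∈ Finset.range (N + 1),
          (1 - PowerSeries.C (α i) * PowerSeries.X ^ (i + 1) : PowerSeries R)) := by
  classical
  let P : ℕ → PowerSeries R := fun n => Nat.rec 1 (fun k Q => Q * (1 - C (PowerSeries.coeff (k + 1) Q - PowerSeries.coeff (k + 1) x) * X ^ (k + 1))) n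
  let α : ℕ → R := fun k => PowerSeries.coeff (k + 1) (P k) - PowerSeries.coeff (k + 1) x
  have hstep : ∀ (Q : PowerSeries R) (a : R) (k j : ℕ),
      PowerSeries.coeff j (Q * (1 - C a * X ^ (k + 1))) =
        PowerSeries.coeff j Q - if k + 1 ≤ j then a * PowerSeries.coeff (j - (k + 1)) Q else 0 := by
    intro Q a k j
    rw [mul_sub, mul_one, map_sub, ← mul_assoc, mul_comm Q, PowerSeries.coeff_mul_X_pow',
      PowerSeries.coeff_C_mul]
  have hP : ∀ n, P n = ∏ i ∈ Finset.range n, (1 - C (α i) * X ^ (i + 1) : PowerSeries R) := by
    intro n
    induction n with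
    | zero => rfl
    | succ n ih => rw [Finset.prod_range_succ, ← ih]
  have h0 : ∀ n, PowerSeries.coeff 0 (P n) = 1 := by
    intro n
    induction n with
    | zero => simp [P]
    | succ n ih => show PowerSeries.coeff 0 (P n * _) = 1; rw [hstep, ih]; simp
  have hco : ∀ n j, j ≤ n → PowerSeries.coeff j (P n) = PowerSeries.coeff j x := by
    intro n
    induction n with
    | zero =>
      intro j hj
      rw [Nat.le_zero.mp hj, h0, ← PowerSeries.coeff_zero_eq_constantCoeff_apply] at *
      exact hx.symm
    | succ n ih =>
      intro j hj
      show PowerSeries.coeff j (P n * _) = _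
      rw [hstep]
      by_cases h : n + 1 ≤ j
      · obtain rfl : j = n + 1 := le_antisymm hj h
        rw [if_pos le_rfl, Nat.sub_self, h0]; ring
      · rw [if_neg h, sub_zero, ih j (by omega)]
  refine ⟨α, fun N => ?_, fun β hβ => ?_⟩
  · ext j
    rw [PowerSeries.coeff_trunc, PowerSeries.coeff_trunc]
    split_ifs with h
    · rw [← hP, hco (N + 1) j (by omega)]
    · rfl
  · funext k
    induction k using Nat.strongRecOn with
    | ind k ih =>
      have h1 := congrArg (fun p => Polynomial.coeff p (k + 1)) (hβ k)
      simp only [PowerSeries.coeff_trunc, show k + 1 < k + 2 by omega, if_true] at h1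
      rw [Finset.prod_range_succ, Finset.prod_congr rfl (g := fun i => 1 - C (α i) * X ^ (i + 1))
        (fun i hi => by rw [ih i (Finset.mem_range.mp hi)]), ← hP, hstep, if_pos le_rfl, Nat.sub_self,
        h0, mul_one] at h1
      show β k = α k
      simp only [α]
      rw [h1]; ring

end Groth.Agent.S20018
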