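import Groth.Statements.S20019
import Groth.Agent.Comod.CharFinite
import Groth.Agent.Comod.CartierRed
import Groth.Agent.S16480
import Groth.Prelude.Def_GLin4

set_option autoImplicit false
open scoped TensorProduct
open HopfRep

namespace Groth.Agent.S20019

open TensorProduct

theorem char_eq {C : Type} [CommRing C] [HopfAlgebra ℂ C] {r : ℕ} (c : HopfRep.Comod ℂ C (Fin r → ℂ)) :
    (∑ i : Fin r, TensorProduct.lid ℂ C (LinearMap.rTensor C (LinearMap.proj i)
      (@HopfRep.Comod.coact ℂ C _ _ _ _ (Fin r → ℂ) _ _ c (Pi.single i 1)))) =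
      ∑ i, (letI := c; Comod.mat C (Pi.basisFun ℂ (Fin r)) i i) := by
  letI := c
  refine Finset.sum_congr rfl fun i _ => ?_
  rw [Comod.mat]
  simp only [Pi.basisFun_apply]
  have : (Pi.basisFun ℂ (Fin r)).coord i = LinearMap.proj i := LinearMap.ext fun x => by simp
  rw [this]
  rfl

theorem range_eq_charSet (C : Type) [CommRing C] [HopfAlgebra ℂ C] :
    Set.range (fun p : (Σ d : ℕ, HopfRep.Comod ℂ C (Fin d → ℂ)) =>
        ∑ i : Fin p.1, TensorProduct.lid ℂ C (LinearMap.rTensor C (LinearMap.proj i)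
          (@HopfRep.Comod.coact ℂ C _ _ _ _ (Fin p.1 → ℂ) _ _ p.2 (Pi.single i 1)))) =
      Comod.charSet ℂ C := by
  ext x
  constructor
  · rintro ⟨⟨r, c⟩, rfl⟩
    letI := c
    exact ⟨r, _, Comod.isMat_mat (Pi.basisFun ℂ (Fin r)), char_eq c⟩
  · rintro ⟨r, N, hN, rfl⟩
    refine ⟨⟨r, Comod.ofMatrix (Pi.basisFun ℂ (Fin r)) N hN⟩, (char_eq _).trans (Finset.sum_congr rfl fun i _ => ?_)⟩
    letI := Comod.ofMatrix (Pi.basisFun ℂ (Fin r)) N hN
    change Comod.sliceL _ ((Comod.ofMatrix (Pi.basisFun ℂ (Fin r)) N hN).coact (Pi.basisFun ℂ (Fin r) i)) = _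
    rw [Comod.ofMatrix_coact, Comod.sliceL_sum]



/-- Let A → B be a surjective homomorphism of finitely generated commutative Hopf algebras over the
complex numbers, that is a closed embedding H ↪ G of complex linear algebraic groups with G = Spec A
and H = Spec B. For a comodule structure on the coordinate space ℂ^d with coaction e_i ↦ Σ_j e_j ⊗
a_ji, its character is Σ_i a_ii. Then R(H) is a finite R(G)-module, with the complexified
representation rings realised inside the coordinate rings by characters: there are finitely many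
characters f_1, …, f_r of H-comodule structures such that every ℂ-linear combination of characters
of H-comodule structures on coordinate spaces is of the form Σ_j s_j f_j with each s_j in the
ℂ-subalgebra of B generated by the images of the characters of G-comodule structures on coordinate
spaces. (The representation rings of the published statement are rendered through characters; over
the complex numbers the characters of pairwise non-isomorphic simple comodules are linearly
independent, so the span of characters is the complexified representation ring.) -/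
theorem result
    (A B : Type) [CommRing A] [HopfAlgebra ℂ A] [Algebra.FiniteType ℂ A]
    [CommRing B] [HopfAlgebra ℂ B] [Algebra.FiniteType ℂ B]
    (π : A →ₐc[ℂ] B) (hπ : Function.Surjective π) :
    ∃ F : Finset B,
      (↑F : Set B) ⊆ Set.range (fun p : (Σ d : ℕ, HopfRep.Comod ℂ B (Fin d → ℂ)) =>
          ∑ i : Fin p.1, TensorProduct.lid ℂ B (LinearMap.rTensor B (LinearMap.proj i)
            (@HopfRep.Comod.coact ℂ B _ _ _ _ (Fin p.1 → ℂ) _ _ p.2 (Pi.single i 1)))) ∧
      (↑(Submodule.span ℂ (Set.range (fun p : (Σ d : ℕ, HopfRep.Comod ℂ B (Fin d → ℂ)) =>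
          ∑ i : Fin p.1, TensorProduct.lid ℂ B (LinearMap.rTensor B (LinearMap.proj i)
            (@HopfRep.Comod.coact ℂ B _ _ _ _ (Fin p.1 → ℂ) _ _ p.2 (Pi.single i 1)))))) : Set B) ⊆
        ↑(Submodule.span (Algebra.adjoin ℂ (π '' Set.range (fun p : (Σ d : ℕ, HopfRep.Comod ℂ A (Fin d → ℂ)) =>
          ∑ i : Fin p.1, TensorProduct.lid ℂ A (LinearMap.rTensor A (LinearMap.proj i)
            (@HopfRep.Comod.coact ℂ A _ _ _ _ (Fin p.1 → ℂ) _ _ p.2 (Pi.single i 1))))))
          (↑F : Set B)) := by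
  classical
  haveI : IsReduced B := Comod.isReduced_of_charZero ℂ B
  haveI : Nontrivial B := (Bialgebra.counitAlgHom ℂ B).toRingHom.domain_nontrivial
  obtain ⟨n, ρ, hρ⟩ := S16480.result ℂ A
  let MA : Fin n → Fin n → A := fun i j => ρ (CoordGrp.GLn.X i j)
  have hMA : Comod.IsMat ℂ MA := by
    refine ⟨fun i j => ?_, fun i j => ?_⟩
    · refine (CoalgHomClass.map_comp_comul_apply ρ (CoordGrp.GLn.X i j)).symm.trans ?_
      rw [CoordGrp.GLn.comul_X, map_sum]
      rfl
    · exact (CoalgHomClass.counit_comp_apply ρ (CoordGrp.GLn.X i j)).trans (CoordGrp.GLn.counit_X i j)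
  have hdA : Coalgebra.comul (R := ℂ) (ρ CoordGrp.GLn.Dinv) = ρ CoordGrp.GLn.Dinv ⊗ₜ[ℂ] ρ CoordGrp.GLn.Dinv := by
    refine (CoalgHomClass.map_comp_comul_apply ρ CoordGrp.GLn.Dinv).symm.trans ?_
    rw [CoordGrp.GLn.comul_Dinv]
    rfl
  let M : Fin n → Fin n → B := fun i j => π (MA i j)
  let d : B := π (ρ CoordGrp.GLn.Dinv)
  have hM : Comod.IsMat ℂ M := by
    refine ⟨fun i j => ?_, fun i j => ?_⟩
    · refine (CoalgHomClass.map_comp_comul_apply π (MA i j)).symm.trans ?_
      rw [hMA.comul, map_sum]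
      rfl
    · exact (CoalgHomClass.counit_comp_apply π (MA i j)).trans (hMA.counit i j)
  have hd : Coalgebra.comul (R := ℂ) d = d ⊗ₜ[ℂ] d := by
    refine (CoalgHomClass.map_comp_comul_apply π _).symm.trans ?_
    rw [hdA]
    rfl
  have hgen : Algebra.adjoin ℂ (Set.range (fun p : Fin n × Fin n => M p.1 p.2) ∪ {d}) = ⊤ := by
    refine Algebra.eq_top_iff.2 fun x => ?_
    obtain ⟨y, rfl⟩ := hπ x
    obtain ⟨y, rfl⟩ := hρ y
    obtain ⟨y, rfl⟩ := (Ideal.Quotient.mk_surjective : Function.Surjective (CoordGrp.GLn.mk n ℂ)) y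
    let f : MvPolynomial (CoordGrp.GLPoly.Idx n) ℂ →ₐ[ℂ] B :=
      (π : A →ₐ[ℂ] B).comp ((ρ : CoordGrp.GLn n ℂ →ₐ[ℂ] A).comp (CoordGrp.GLn.mk n ℂ))
    change f y ∈ _
    induction (y : MvPolynomial (CoordGrp.GLPoly.Idx n) ℂ) using MvPolynomial.induction_on with
    | C r => rw [show f (MvPolynomial.C r) = algebraMap ℂ B r from f.commutes r]; exact Subalgebra.algebraMap_mem _ r
    | add p q hp hq => rw [map_add]; exact Subalgebra.add_mem _ hp hq
    | mul_X p s hp =>
      rw [map_mul]
      refine Subalgebra.mul_mem _ hp (Algebra.subset_adjoin ?_)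
      rcases s with ⟨i, j⟩ | ⟨⟩
      · exact Or.inl ⟨(i, j), rfl⟩
      · exact Or.inr rfl
  rw [range_eq_charSet A, range_eq_charSet B]
  let 𝒜 := Algebra.adjoin ℂ (π '' Comod.charSet ℂ A)
  let R₀ := Algebra.adjoin ℂ (insert d (Set.range fun i : Fin (n + 1) => (Matrix.of M).charpoly.coeff i))
  have hd𝒜 : d ∈ 𝒜 := by
    refine Algebra.subset_adjoin ⟨ρ CoordGrp.GLn.Dinv, ⟨1, fun _ _ => ρ CoordGrp.GLn.Dinv, ⟨fun i j => by simp [hdA],
      fun i j => ?_⟩, by simp⟩, rfl⟩
    rw [if_pos (Subsingleton.elim i j)]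
    exact (CoalgHomClass.counit_comp_apply ρ _).trans CoordGrp.GLn.counit_Dinv
  have hc𝒜 : ∀ i : ℕ, i ≤ n → (Matrix.of M).charpoly.coeff i ∈ 𝒜 := by
    intro i hi
    obtain ⟨r, N, hN, hsum⟩ := Comod.exists_isMat_minors hMA (n - i)
    have hmap : (Matrix.of M).charpoly = (Matrix.of MA).charpoly.map (π : A →ₐ[ℂ] B).toRingHom :=
      Matrix.charpoly_map (Matrix.of MA) (π : A →ₐ[ℂ] B).toRingHom
    have hco := Matrix.charpoly_coeff_eq_sum_minors (Matrix.of MA) (n - i) (by simp)
    rw [Fintype.card_fin, Nat.sub_sub_self hi, ← hsum] at hco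
    rw [hmap, Polynomial.coeff_map, hco, map_mul, map_pow, map_neg, map_one]
    exact Subalgebra.mul_mem _ (Subalgebra.pow_mem _ (Subalgebra.neg_mem _ (Subalgebra.one_mem _)) _)
      (Algebra.subset_adjoin ⟨_, ⟨r, N, hN, rfl⟩, rfl⟩)
  have hle : R₀ ≤ 𝒜 := Algebra.adjoin_le (Set.insert_subset hd𝒜
    (Set.range_subset_iff.2 fun i => hc𝒜 i (Nat.le_of_lt_succ i.2)))
  obtain ⟨F, hF, hspan⟩ := Comod.charSet_span_finite hM hd hgen R₀
    (Subalgebra.fg_def.2 ⟨_, (Set.finite_range _).insert d, rfl⟩) (Algebra.subset_adjoin (Set.mem_insert _ _))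
    (fun i => by
      by_cases hi : i ≤ n
      · exact Algebra.subset_adjoin (Set.mem_insert_of_mem _ ⟨⟨i, Nat.lt_succ_of_le hi⟩, rfl⟩)
      · rw [Polynomial.coeff_eq_zero_of_natDegree_lt (lt_of_le_of_lt (le_of_eq (Matrix.charpoly_natDegree_eq_dim _)) (by simp; omega))]
        exact Subalgebra.zero_mem _)
  refine ⟨F, hF, fun x hx => ?_⟩
  induction hx using Submodule.span_induction with
  | mem y hy =>
    have := hspan hy
    clear hy
    induction this using Submodule.span_induction with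
    | mem z hz => exact Submodule.subset_span hz
    | zero => exact Submodule.zero_mem _
    | add a b _ _ ha hb => exact Submodule.add_mem _ ha hb
    | smul r z _ hz => exact Submodule.smul_mem _ (⟨r.1, hle r.2⟩ : 𝒜) hz
  | zero => exact Submodule.zero_mem _
  | add a b _ _ ha hb => exact Submodule.add_mem _ ha hb
  | smul r z _ hz => exact Submodule.smul_of_tower_mem _ r hz

end Groth.Agent.S20019
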