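import Groth.Statements.S20021
import Groth.Agent.InvQLib.StableLocus
import Groth.Agent.GITLib.AffineQuot
import Groth.Agent.H85.LimitStable
import Groth.Agent.H85.OrbitOpen

set_option autoImplicit false
universe u
open GIT

namespace Groth.Agent.S20021

open Groth.Agent.InvQLib in
/-- stable points: all fibres of the quotient have finite stabilisers -/
theorem stable_iff {k : Type u} [Field k] [IsAlgClosed k] {A : Type u} [CommRing A] [HopfAlgebra k A]
    [Algebra.FiniteType k A] (hG : HopfRep.IsLinearlyReductive k A) {R : Type u} [CommRing R] [Algebra k R]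
    [HopfRep.Comod k A R] [GLin.IsCoactAlg k A R] [Algebra.FiniteType k R] (x : R →ₐ[k] k) :
    GLin.IsStablePt k A x ↔
      ∀ z : R →ₐ[k] k, (∀ f ∈ HopfRep.fixedPts k A R, z f = x f) → (stab (A := A) z).Finite := by
  have hker : ∀ w : R →ₐ[k] k, orbitIdeal k A w ≤ RingHom.ker w := fun w => by
    conv_rhs => rw [← move_counit (A := A) w]
    exact orbitIdeal_le_move _ w
  constructor
  · rintro ⟨hcl, hfin⟩ z hz
    have hfin' := H85.LimitStable.finite_stab hfin
    obtain ⟨w, hwz, hwx⟩ := exists_common_of_forall_eq hG z x hz
    obtain ⟨g, hg⟩ := GITLib.exists_actPt_eq hcl ((GITLib.inOrbitClosure_iff x w).mpr hwx)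
    obtain rfl : w = move g x := hg
    have hle : orbitIdeal k A z ≤ orbitIdeal k A x := orbitIdeal_move g x ▸ orbitIdeal_le_of_le_ker hwz
    obtain ⟨g', rfl⟩ := mem_orbit_of_le
      (fun v hv => GITLib.exists_actPt_eq hcl ((GITLib.inOrbitClosure_iff x v).mpr hv)) hfin' hle
    exact finite_stab_move g' hfin'
  · intro h
    refine ⟨Comod.isClosedOrbit_of_points x fun z hz' => ?_,
      H85.OrbitOpen.hasFiniteStab_of_finite_stab x (h x fun f _ => rfl)⟩
    have hz : orbitIdeal k A x ≤ RingHom.ker z := (GITLib.inOrbitClosure_iff x z).mp hz'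
    have hxz := orbitIdeal_le_of_le_ker hz
    have hzfin : (stab (A := A) z).Finite := h z fun f hf => eq_of_common (hker z) hz hf
    obtain ⟨g, hg⟩ := exists_move_le z x hzfin hxz
    refine exists_move_eq (le_antisymm hxz ?_)
    exact orbitIdeal_move g x ▸ orbitIdeal_le_of_le_ker hg

/-- Let k be an algebraically closed field of arbitrary characteristic, A a reduced commutative Hopf
algebra of finite type over k all of whose finite-dimensional comodules are semisimple (a linearly
reductive affine algebraic group G = Spec A, an affine variety), and R a reduced commutative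
k-algebra of finite type carrying an A-comodule structure whose coaction is an algebra map (an
action of G on the affine variety X = Spec R, which may be reducible). Call a k-point x of X stable
when the image of its orbit morphism Spec A → Spec R is closed and A modulo the stabiliser ideal of
x is a finite k-module (closed orbit and zero-dimensional stabiliser). Then there is a set S of
invariant elements of R such that x is stable if and only if some member of S does not vanish at x;
in particular the stable locus is a union of basic open sets X_f with f invariant, hence open. (The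
further assertion that the quotient map restricted to the stable locus is a geometric quotient onto
an open subset of Spec R^G is not part of this row. No hypothesis on the characteristic of k.) -/
theorem result (k : Type u) [Field k]
    [IsAlgClosed k] (A : Type u) [CommRing A] [HopfAlgebra k A] [Algebra.FiniteType k A] [IsReduced A]
    (hG : HopfRep.IsLinearlyReductive k A)
    (R : Type u) [CommRing R] [IsReduced R] [Algebra k R] [Algebra.FiniteType k R]
    [HopfRep.Comod k A R] [GLin.IsCoactAlg k A R] :
    ∃ S : Set R, S ⊆ (GLin.invariants k A R : Set R) ∧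
      ∀ x : R →ₐ[k] k, GLin.IsStablePt k A x ↔ ∃ f ∈ S, x f ≠ 0 := by
  classical
  have : IsNoetherianRing A := Algebra.FiniteType.isNoetherianRing k A
  let B : Set (R →ₐ[k] k) := {z | ¬ (InvQLib.stab (A := A) z).Finite}
  let I : Ideal R := ⨅ z ∈ B, RingHom.ker (GLin.orbitHom k A z)
  have hI : HopfRep.IsSubcomod (k := k) (A := A) (I.restrictScalars k) := by
    refine Comod.isSubcomod_iff.2 fun φ f hf => ?_
    simp only [I, Submodule.restrictScalars_mem, Submodule.mem_iInf] at hf ⊢
    exact fun z hz => Comod.isSubcomod_iff.1 (InvQLib.isSubcomod_ker z) φ f (hf z hz)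
  have hle : ∀ z ∈ B, ∀ f ∈ I, z f = 0 := by
    intro z hz f hf
    simp only [I, Submodule.mem_iInf, RingHom.mem_ker] at hf
    rw [← InvQLib.counit_orbitHom (A := A) z f, hf z hz, map_zero]
  have hzero : ∀ y : R →ₐ[k] k, (∀ f ∈ I, y f = 0) → y ∈ B := by
    intro y hy hfin
    obtain ⟨f, hf0, hf⟩ := InvQLib.exists_ne_zero_forall_finite_stab y hfin
    refine hf0 (hy f ?_)
    simp only [I, Submodule.mem_iInf, RingHom.mem_ker]
    intro z hz
    refine (InvQLib.isNilpotent_of_forall_point (k := k) fun g => ?_).eq_zero
    by_contra hne
    have := InvQLib.finite_stab_move (InvQLib.pinv g) (hf (InvQLib.move g z) hne)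
    rw [InvQLib.move_move, InvQLib.pmul_pinv_self, InvQLib.move_counit] at this
    exact hz this
  refine ⟨(GLin.invariants k A R : Set R) ∩ I, Set.inter_subset_left, fun x => ?_⟩
  rw [stable_iff hG x]
  constructor
  · intro h
    by_contra hc
    push Not at hc
    obtain ⟨z, hzI, hzx⟩ := InvQLib.exists_point_over hG I hI (InvQLib.invAlg k A R) (fun f => InvQLib.mem_invAlg k A R)
      (x.comp (InvQLib.invAlg k A R).val) fun f hf => hc _ ⟨(InvQLib.mem_invAlg k A R).1 f.2, hf⟩
    exact hzero z hzI (h z fun f hf => hzx ⟨f, (InvQLib.mem_invAlg k A R).2 hf⟩)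
  · rintro ⟨f, ⟨hfix, hfI⟩, hfx⟩ z hz
    by_contra hzB
    exact hfx ((hz f hfix).symm.trans (hle z hzB f hfI))

end Groth.Agent.S20021
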