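import Groth.Statements.S20022
import Groth.Agent.GrBass.Free

set_option autoImplicit false
universe u
open GrLC

namespace Groth.Agent.S20022

/-- Let R be a commutative ℤ-graded ring whose degree-zero subring R_0 is a field k and which is the
Laurent polynomial ring k[T, T⁻¹] on a homogeneous invertible element T of positive degree d, in the
following intrinsic sense: T is a unit lying in R_d, and every nonzero homogeneous element of degree
n equals a·T^j for some a ∈ R_0 and some integer j with j·d = n (so R_n = 0 unless d divides n, and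
R_{jd} = k·T^j). Then every graded R-module M is free in the graded sense: M has an R-basis
consisting of homogeneous elements. (The other case of condition (2), R = k concentrated in degree
zero, is not included.) -/
theorem result (R : Type u) [CommRing R]
    (𝒜 : ℤ → AddSubgroup R) [GradedRing 𝒜] (h0 : IsField (GrLC.deg0 𝒜))
    (d : ℤ) (hd : 0 < d) (T : Rˣ) (hT : (T : R) ∈ 𝒜 d)
    (hA : ∀ (n : ℤ) (x : R), x ∈ 𝒜 n → x ≠ 0 →
      ∃ j : ℤ, ∃ a ∈ 𝒜 0, j * d = n ∧ x = a * ((T ^ j : Rˣ) : R))
    (M : Type u) [AddCommGroup M] [Module R M] (ℳ : ℤ → AddSubgroup M)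
    [DirectSum.Decomposition ℳ] [SetLike.GradedSMul 𝒜 ℳ] :
    ∃ (κ : Type u) (b : Module.Basis κ R M), ∀ i : κ, SetLike.IsHomogeneousElem ℳ (b i) := by
  classical
  have hne : Nontrivial (GrLC.deg0 𝒜) := ⟨h0.exists_pair_ne⟩
  have : Nontrivial R := Function.Injective.nontrivial (f := ((↑) : GrLC.deg0 𝒜 → R)) Subtype.val_injective
  obtain ⟨κ, e, he, hindep, hspan⟩ := GrBass.exists_homogeneous_free 𝒜 (⊥ : Ideal R) ℳ
    (fun h => one_ne_zero ((Ideal.mem_bot).1 h)) (fun r hr m => by rw [(Ideal.mem_bot).1 hr, zero_smul])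
  have hunit : ∀ h, ∀ a ∈ 𝒜 h, a ∉ (⊥ : Ideal R) → IsUnit a := fun h a ha hne => by
    have hne' : a ≠ 0 := fun h => hne (Ideal.mem_bot.2 h)
    obtain ⟨j, c, hc, -, hac⟩ := hA h a ha hne'
    rw [hac]
    refine IsUnit.mul ?_ (Units.isUnit _)
    have hc0 : (⟨c, hc⟩ : GrLC.deg0 𝒜) ≠ 0 := fun h => hne' (by
      rw [hac, show c = 0 from congrArg Subtype.val h, zero_mul])
    obtain ⟨w, hw⟩ := h0.mul_inv_cancel hc0
    exact IsUnit.of_mul_eq_one (w : R) (congrArg Subtype.val hw)
  refine ⟨κ, Module.Basis.mk (v := e) ?_ ?_, fun i => ?_⟩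
  · rw [linearIndependent_iff]
    exact fun c hc => Finsupp.ext fun i => Ideal.mem_bot.1 (hindep c hc i)
  · intro m _
    induction m using DirectSum.Decomposition.inductionOn ℳ with
    | zero => exact zero_mem _
    | add a b ha hb => exact add_mem (ha trivial) (hb trivial)
    | @homogeneous g x =>
      obtain ⟨h, a, ha, haP, ham⟩ := hspan g x x.2
      obtain ⟨u, rfl⟩ := hunit h a ha haP
      have := Submodule.smul_mem _ ((u⁻¹ : Rˣ) : R) ham
      rwa [smul_smul, Units.inv_mul, one_smul] at this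
  · rw [Module.Basis.mk_apply]
    exact he i

end Groth.Agent.S20022
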