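import Groth.Statements.S20025
import Mathlib

set_option autoImplicit false
universe u
open InvQ

namespace Groth.Agent.S20025

theorem exists_smul {k : Type u} [Field k] (a b c d : k) (hab : a ≠ 0 ∨ b ≠ 0) (h : a * d = c * b) :
    ∃ t, c = t * a ∧ d = t * b := by
  rcases hab with ha | hb
  · exact ⟨c / a, by field_simp, by field_simp; linear_combination h⟩
  · exact ⟨d / b, by field_simp; linear_combination -h, by field_simp⟩

open MvPolynomial in
theorem no_both {k : Type u} [Field k] (f : MvPolynomial (Fin 2) k) (M N : Matrix (Fin 2) (Fin 2) k) (c e : k)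
    (hM : IsUnit M.det) (hc : c ≠ 0)
    (h1 : f = C c * W4c6intromoduli.subst M (X 0 ^ 2 * X 1 * (X 0 - X 1)))
    (h2 : f = C e * W4c6intromoduli.subst N (X 0 ^ 2 * X 1 ^ 2)) : False := by
  let Mi := M⁻¹
  let x : Fin 2 → Polynomial k := fun j => Polynomial.C (Mi j 0) + Polynomial.C (Mi j 1) * Polynomial.X
  have hev : ∀ i, ∑ j, Polynomial.C (M i j) * x j =
      Polynomial.C ((M * Mi) i 0) + Polynomial.C ((M * Mi) i 1) * Polynomial.X := by
    intro i
    simp [x, Matrix.mul_apply, Fin.sum_univ_two]; ring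
  have hsub : ∀ (A : Matrix (Fin 2) (Fin 2) k) (g : MvPolynomial (Fin 2) k),
      aeval x (W4c6intromoduli.subst A g) = aeval (fun i => ∑ j, Polynomial.C (A i j) * x j) g := by
    intro A g
    rw [W4c6intromoduli.subst, comp_aeval_apply]
    simp [Polynomial.algebraMap_eq]
  have hMi : M * Mi = 1 := Matrix.mul_nonsing_inv M hM
  have e1 := congrArg (aeval x) h1
  have e2 := congrArg (aeval x) h2
  simp only [map_mul, aeval_C, hsub] at e1 e2
  simp only [hev, hMi, map_pow, map_sub, map_mul, aeval_X] at e1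
  simp at e1
  simp only [map_pow, map_mul, aeval_X] at e2
  set q := (∑ j, Polynomial.C (N 0 j) * x j) * (∑ j, Polynomial.C (N 1 j) * x j) with hq
  rw [← mul_pow, ← hq, e1, Polynomial.algebraMap_eq] at e2
  have h0 : e * (q.eval 0) ^ 2 = 0 := by
    simpa [eq_comm] using congrArg (Polynomial.eval 0) e2
  have h1' := congrArg (fun p => (Polynomial.derivative p).eval 0) e2
  simp [Polynomial.derivative_pow, Polynomial.derivative_mul] at h1'
  rcases mul_eq_zero.mp h0 with he | hq0
  · exact hc (by simp [he] at h1'; exact h1')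
  · exact hc (by simp [pow_eq_zero_iff two_ne_zero |>.mp hq0] at h1'; exact h1')

/-- For the special fibre of the invariant map, over a field in which 2 and 3 are nonzero, consider a
split binary quartic f = ∏_i (μ_i X₀ − λ_i X₁) given by four root points (λ_i, μ_i) ≠ (0, 0), with a
double zero (vanishing discriminant ∏_{i<j} (λ_j μ_i − λ_i μ_j)²) and no triple zero (no three root
points pairwise proportional); these are the forms of the fibre over the special point P³/Q² = 6 of
the invariant map. Then exactly one of the two alternatives holds: f is a nonzero constant times the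
form X₀² X₁ (X₀ − X₁) after an invertible linear substitution of the variables, or f is a nonzero
constant times X₀² X₁² after such a substitution. So this fibre consists of exactly two classes
under substitutions and scalars (one double zero and two simple zeros; two double zeros). (The
dimensions of the two orbits and which of them is open or closed in the fibre are not part of this
row; stated for split forms over any such field.) -/
theorem result (k : Type u) [Field k]
    (h2 : (2 : k) ≠ 0) (h3 : (3 : k) ≠ 0) (la mu : Fin 4 → k)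
    (hne : ∀ i, la i ≠ 0 ∨ mu i ≠ 0) (hd : W4c6intromoduli.disc la mu = 0)
    (h3z : ∀ i j l : Fin 4, i ≠ j → j ≠ l → i ≠ l →
      ¬ (la i * mu j = la j * mu i ∧ la j * mu l = la l * mu j)) :
    Xor
      (∃ (M : Matrix (Fin 2) (Fin 2) k) (c : k), IsUnit M.det ∧ c ≠ 0 ∧
        W4c6intromoduli.binForm la mu =
          MvPolynomial.C c * W4c6intromoduli.subst M
            (MvPolynomial.X 0 ^ 2 * MvPolynomial.X 1 * (MvPolynomial.X 0 - MvPolynomial.X 1)))
      (∃ (M : Matrix (Fin 2) (Fin 2) k) (c : k), IsUnit M.det ∧ c ≠ 0 ∧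
        W4c6intromoduli.binForm la mu =
          MvPolynomial.C c * W4c6intromoduli.subst M
            (MvPolynomial.X 0 ^ 2 * MvPolynomial.X 1 ^ 2)) := by
  classical
  have hex : ∀ i j : Fin 4, i ≠ j → ∃ π : Equiv.Perm (Fin 4), π 0 = i ∧ π 1 = j := by decide
  obtain ⟨⟨i, j⟩, hij, h0⟩ := Finset.prod_eq_zero_iff.mp hd
  have hij' : i ≠ j := ne_of_lt (Finset.mem_filter.mp hij).2
  have h0' : la i * mu j = la j * mu i := (sub_eq_zero.mp (pow_eq_zero_iff two_ne_zero |>.mp h0)).symm
  obtain ⟨π, p0, p1⟩ := hex i j hij'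
  obtain ⟨t, ht1, ht2⟩ := exists_smul (la i) (mu i) (la j) (mu j) (hne i) h0'
  have ht : t ≠ 0 := by
    rintro rfl
    simp at ht1 ht2
    exact (hne j).elim (fun h => h ht1) (fun h => h ht2)
  rw [← p0, ← p1] at ht1 ht2
  let d : Fin 4 → Fin 4 → k := fun a b => la (π a) * mu (π b) - la (π b) * mu (π a)
  have key : ∀ l : Fin 4, l ≠ 0 → l ≠ 1 → d 0 l ≠ 0 := by
    intro l l0 l1 hz
    have := h3z (π 1) (π 0) (π l) (π.injective.ne (by decide)) (π.injective.ne (Ne.symm l0))
      (π.injective.ne (Ne.symm l1))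
    exact this ⟨by rw [ht1, ht2]; ring, sub_eq_zero.mp hz⟩
  have d2 := key 2 (by decide) (by decide)
  have d3 := key 3 (by decide) (by decide)
  -- L₃ = a L₀ + b L₂
  let a : k := d 3 2 / d 0 2
  let b : k := d 0 3 / d 0 2
  have hb : b ≠ 0 := div_ne_zero d3 d2
  have hla : la (π 3) = a * la (π 0) + b * la (π 2) := by
    simp only [a, b]; field_simp; simp only [d]; ring
  have hmu : mu (π 3) = a * mu (π 0) + b * mu (π 2) := by
    simp only [a, b]; field_simp; simp only [d]; ring
  have hform : W4c6intromoduli.binForm la mu =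
      MvPolynomial.C t * (MvPolynomial.C (mu (π 0)) * MvPolynomial.X 0 - MvPolynomial.C (la (π 0)) * MvPolynomial.X 1) ^ 2 *
        (MvPolynomial.C (mu (π 2)) * MvPolynomial.X 0 - MvPolynomial.C (la (π 2)) * MvPolynomial.X 1) *
        (MvPolynomial.C (mu (π 3)) * MvPolynomial.X 0 - MvPolynomial.C (la (π 3)) * MvPolynomial.X 1) := by
    rw [W4c6intromoduli.binForm, ← Equiv.prod_comp π, Fin.prod_univ_four, ht1, ht2]
    simp only [map_mul]; ring
  by_cases ha : a = 0
  · have hB : ∃ (M : Matrix (Fin 2) (Fin 2) k) (c : k), IsUnit M.det ∧ c ≠ 0 ∧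
        W4c6intromoduli.binForm la mu = MvPolynomial.C c * W4c6intromoduli.subst M
            (MvPolynomial.X 0 ^ 2 * MvPolynomial.X 1 ^ 2) := by
      refine ⟨!![mu (π 0), -la (π 0); mu (π 2), -la (π 2)], t * b, ?_, mul_ne_zero ht hb, ?_⟩
      · rw [Matrix.det_fin_two_of, isUnit_iff_ne_zero]
        exact fun h => d2 (by simp only [d]; linear_combination h)
      · rw [hform, hla, hmu, ha]
        simp [W4c6intromoduli.subst, Fin.sum_univ_two]
        ring
    refine Or.inr ⟨hB, ?_⟩
    rintro ⟨M, c, hM, hc, e1⟩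
    obtain ⟨N, e, -, -, e2⟩ := hB
    exact no_both _ M N c e hM hc e1 e2
  · have hA : ∃ (M : Matrix (Fin 2) (Fin 2) k) (c : k), IsUnit M.det ∧ c ≠ 0 ∧
        W4c6intromoduli.binForm la mu = MvPolynomial.C c * W4c6intromoduli.subst M
            (MvPolynomial.X 0 ^ 2 * MvPolynomial.X 1 * (MvPolynomial.X 0 - MvPolynomial.X 1)) := by
      refine ⟨!![mu (π 0), -la (π 0); -(b / a) * mu (π 2), (b / a) * la (π 2)], -(t * a * (a / b)), ?_,
        neg_ne_zero.mpr (mul_ne_zero (mul_ne_zero ht ha) (div_ne_zero ha hb)), ?_⟩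
      · rw [Matrix.det_fin_two_of, isUnit_iff_ne_zero]
        have : mu (π 0) * (b / a * la (π 2)) - -la (π 0) * (-(b / a) * mu (π 2)) = -(b / a) * d 0 2 := by
          simp only [d]; ring
        rw [this]
        exact mul_ne_zero (neg_ne_zero.mpr (div_ne_zero hb ha)) d2
      · obtain ⟨r, hr, hbr⟩ : ∃ r, r = b / a ∧ b = a * r := ⟨b / a, rfl, by field_simp⟩
        have hr' : a / b = r⁻¹ := by rw [hr, inv_div]
        have hr0 : r ≠ 0 := hr ▸ div_ne_zero hb ha
        rw [hform, hla, hmu, ← hr, hr', hbr]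
        simp [W4c6intromoduli.subst, Fin.sum_univ_two]
        have hC : (MvPolynomial.C r : MvPolynomial (Fin 2) k) * MvPolynomial.C r⁻¹ = 1 := by
          rw [← map_mul, mul_inv_cancel₀ hr0, map_one]
        grind
    refine Or.inl ⟨hA, ?_⟩
    rintro ⟨N, e, -, -, e2⟩
    obtain ⟨M, c, hM, hc, e1⟩ := hA
    exact no_both _ M N c e hM hc e1 e2

end Groth.Agent.S20025
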