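import Groth.Statements.S20026
import Groth.Agent.S18770
import Groth.Agent.LimTop.StalkHom

set_option autoImplicit false
universe u
open CategoryTheory CategoryTheory.Limits AlgebraicGeometry
open TFNodal

namespace Groth.Agent.S20026

open Groth.Agent.PullStalk.Sky Groth.Agent.PullStalk.Exact TopologicalSpace

/-- Let k be algebraically closed of characteristic zero, X a connected proper curve over k (dimension
one) whose closed points are smooth points or nodes, and π : Y → X its normalization, given as a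
finite morphism from a smooth k-scheme that is an isomorphism over the complement U of the nodes
with dense preimage of U; let F be a coherent O_X-module, torsion free of rank r with type a(x) at
each node x (stalk free of rank r off the nodes, isomorphic to O_x^{a(x)} ⊕ m_x^{r − a(x)} at a node
x). Let p : π^*F → E₀ be an epimorphism onto a locally free O_Y-module of rank r, β : F → π_*E₀ the
composite of the unit with π_*p, and let i : F → π_*E be a monomorphism into the direct image of a
locally free O_Y-module E of rank r, factored as i = β ≫ π_*λ with λ : E₀ → E. Then at every node x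
the stalk of coker(i) has length a(x) plus the length of the stalk of coker(π_*λ), and at every
other point the two stalks have the same length (lengths over the local ring O_{X,x}, valued in ℕ∞).
The published statement compares only the total lengths (that of coker(i) exceeds that of
coker(π_*λ) by the sum of the types a(x) over the nodes); the statement here gives the comparison at
each point. -/
theorem result (k : Type u) [Field k] [IsAlgClosed k] [CharZero k]
    (X : Scheme.{u}) [X.Over (Spec (CommRingCat.of k))] [IsProper (X ↘ Spec (CommRingCat.of k))]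
    [ConnectedSpace X] (hdim : topologicalKrullDim X = 1) (hnod : Curv2.AtWorstNodal k X)
    (Y : Scheme.{u}) (π : Y ⟶ X) [IsFinite π] [Smooth (π ≫ (X ↘ Spec (CommRingCat.of k)))]
    (U : X.Opens) (hU : ∀ x : X, x ∈ U ↔ ¬ Curv2.IsNode k X x) (hUiso : IsIso (π ∣_ U))
    (hUd : Dense ((π ⁻¹ᵁ U : Y.Opens) : Set Y))
    (r : ℕ) (F : X.Modules) (hF : Coh.IsCoh F) (a : X → ℕ)
    (hfree : ∀ x : X, ¬ Curv2.IsNode k X x →
      Nonempty (F.presheaf.stalk x ≃ₗ[X.presheaf.stalk x] (Fin r → X.presheaf.stalk x)))
    (htype : ∀ x : X, Curv2.IsNode k X x → a x ≤ r ∧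
      Nonempty (F.presheaf.stalk x ≃ₗ[X.presheaf.stalk x]
        ((Fin (a x) → X.presheaf.stalk x) × (Fin (r - a x) → IsLocalRing.maximalIdeal (X.presheaf.stalk x)))))
    (E₀ : Y.Modules) (hE₀ : FlatMod.IsFinLocFreeOfRank r E₀)
    (p : (Scheme.Modules.pullback π).obj F ⟶ E₀) [Epi p]
    (E : Y.Modules) (hE : FlatMod.IsFinLocFreeOfRank r E)
    (i : F ⟶ (Scheme.Modules.pushforward π).obj E) [Mono i]
    (lam : E₀ ⟶ E) (hlam : (Scheme.Modules.pullbackPushforwardAdjunction π).unit.app F ≫
      (Scheme.Modules.pushforward π).map p ≫ (Scheme.Modules.pushforward π).map lam = i) :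
    (∀ x : X, Curv2.IsNode k X x →
      Module.length (X.presheaf.stalk x) ((cokernel i).presheaf.stalk x) =
        (a x : ℕ∞) + Module.length (X.presheaf.stalk x)
          ((cokernel ((Scheme.Modules.pushforward π).map lam)).presheaf.stalk x)) ∧
    (∀ x : X, ¬ Curv2.IsNode k X x →
      Module.length (X.presheaf.stalk x) ((cokernel i).presheaf.stalk x) =
        Module.length (X.presheaf.stalk x)
          ((cokernel ((Scheme.Modules.pushforward π).map lam)).presheaf.stalk x)) := by
  haveI := hUiso
  let M₀ := (Scheme.Modules.pushforward π).obj E₀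
  let M := (Scheme.Modules.pushforward π).obj E
  let β : F ⟶ M₀ :=
    (Scheme.Modules.pullbackPushforwardAdjunction π).unit.app F ≫ (Scheme.Modules.pushforward π).map p
  let lp : M₀ ⟶ M := (Scheme.Modules.pushforward π).map lam
  have hi : β ≫ lp = i := (Category.assoc _ _ _).trans hlam
  obtain ⟨hβ, hnode, hsub⟩ := S18770.result k X hdim hnod Y π U hU hUiso hUd r F hF a hfree htype E₀ hE₀ p
  haveI : Mono β := hβ
  haveI : IsReduced Y := @isReduced_of_isReduced_stalk Y fun y => by
    haveI := CurveDVR.isRegularLocalRing_stalk (π ≫ X ↘ Spec (CommRingCat.of k)) y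
    haveI := RegLoc.isDomain (Y.presheaf.stalk y)
    infer_instance
  letI : Y.Over (Spec (CommRingCat.of k)) := ⟨π ≫ (X ↘ (Spec (CommRingCat.of k)))⟩
  haveI : IsProper (Y ↘ Spec (CommRingCat.of k)) :=
    inferInstanceAs (IsProper (π ≫ (X ↘ (Spec (CommRingCat.of k)))))
  haveI := EulerChar.isNoetherian k (X := Y)
  have hS₀ := ShortComplex.ShortExact.mk' (ShortComplex.exact_of_g_is_cokernel
    (ShortComplex.mk β (cokernel.π β) (cokernel.condition β)) (cokernelIsCokernel β)) inferInstance inferInstance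
  have hsurj : ∀ x, ¬ Curv2.IsNode k X x → Function.Surjective (stalkLin β x) := fun x hx t => by
    obtain ⟨-, hex, -⟩ := stalk_exact hS₀ x
    haveI := hsub x hx
    exact (hex t).1 (Subsingleton.elim _ _)
  have hinjU : ∀ x, x ∈ U → Function.Injective (stalkLin lp x) := by
    intro x hx
    refine (injective_iff_map_eq_zero _).2 fun t ht => ?_
    obtain ⟨f, rfl⟩ := hsurj x ((hU x).1 hx) t
    rw [← LimTop.stalkLin_comp, hi] at ht
    rw [VBLib.stalkLin_injective i x (ht.trans (map_zero _).symm), map_zero]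
  have hlp : ∀ (W : X.Opens) (e : Γ(M₀, W)), lp.app W e = 0 → e = 0 := by
    intro W e he
    have h1 : QCoh.res M₀ (inf_le_left : W ⊓ U ≤ W) e = 0 := HomShQC.sec_ext M₀ fun x hx => by
      apply hinjU x hx.2
      rw [stalkLin_germ, QCoh.app_res lp, he, map_zero, show germM M₀ (W ⊓ U) x hx 0 = 0 from map_zero _, map_zero]
      exact map_zero _
    let e₁ : Γ(E₀, π ⁻¹ᵁ W) := e
    refine HomShQC.sec_ext E₀ (U := π ⁻¹ᵁ W) fun y hy => ?_
    show germM E₀ (π ⁻¹ᵁ W) y hy e₁ = germM E₀ (π ⁻¹ᵁ W) y hy 0
    obtain ⟨G, hyG, ⟨ψ⟩⟩ := hE₀ y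
    obtain ⟨b, hb⟩ := VBLib.exists_isFrame_of_iso ψ
    let V : Y.Opens := π ⁻¹ᵁ W ⊓ G
    obtain ⟨c, hc⟩ := (hb V inf_le_right).2 (QCoh.res E₀ (inf_le_left : V ≤ π ⁻¹ᵁ W) e₁)
    let V' : Y.Opens := V ⊓ π ⁻¹ᵁ (W ⊓ U)
    have hV' : V' ≤ V := inf_le_left
    have h2 : QCoh.res E₀ hV' (QCoh.res E₀ (inf_le_left : V ≤ π ⁻¹ᵁ W) e₁) = 0 := by
      rw [QCoh.res_res, ← QCoh.res_res E₀ (π.preimage_mono (inf_le_left : W ⊓ U ≤ W)) (inf_le_right : V' ≤ π ⁻¹ᵁ (W ⊓ U))]
      exact (congrArg _ (show QCoh.res E₀ (π.preimage_mono (inf_le_left : W ⊓ U ≤ W)) e₁ = 0 from h1)).trans (map_zero _)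
    have h3 : (fun j => QCoh.rres hV' (c j)) = 0 := (hb V' (hV'.trans inf_le_right)).1 (by
      refine (LFFrame.res_comb E₀ b inf_le_right hV' c).symm.trans ?_
      refine (congrArg (QCoh.res E₀ hV') hc).trans ?_
      rw [h2]
      simp [LFFrame.comb])
    have h4 : c = 0 := funext fun j => NodalLib.zero_of_generic hV' (c j) (congrFun h3 j) fun η hη hηV =>
      ⟨hηV, hηV.1, FlatMor.GenericPts.mem_of_dense_of_finite NoetherianSpace.finite_irreducibleComponents (π ⁻¹ᵁ U).2 hUd hη⟩
    have h5 : QCoh.res E₀ (inf_le_left : V ≤ π ⁻¹ᵁ W) e₁ = 0 := by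
      rw [← hc, h4]
      simp [LFFrame.comb]
    rw [← GGDesc.germM_res_eq E₀ (inf_le_left : V ≤ π ⁻¹ᵁ W) y ⟨hy, hyG⟩ e₁, h5]
    exact (map_zero _).trans (map_zero _).symm
  haveI : Mono lp := Omega.Stalks.mono_of_stalk fun x => TopCat.Presheaf.stalkFunctor_map_injective_of_app_injective
    (F := M₀.presheaf) (G := M.presheaf) (f := lp.mapPresheaf)
    (fun W => (injective_iff_map_eq_zero _).2 fun e he => hlp W e he) x
  have hSl := ShortComplex.ShortExact.mk' (ShortComplex.exact_of_g_is_cokernel
    (ShortComplex.mk lp (cokernel.π lp) (cokernel.condition lp)) (cokernelIsCokernel lp)) inferInstance inferInstance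
  have hSi := ShortComplex.ShortExact.mk' (ShortComplex.exact_of_g_is_cokernel
    (ShortComplex.mk i (cokernel.π i) (cokernel.condition i)) (cokernelIsCokernel i)) inferInstance inferInstance
  have key : ∀ x, Module.length (X.presheaf.stalk x) ((cokernel i).presheaf.stalk x) =
      Module.length (X.presheaf.stalk x) ((cokernel β).presheaf.stalk x) +
        Module.length (X.presheaf.stalk x) ((cokernel lp).presheaf.stalk x) := by
    intro x
    obtain ⟨-, hex₀, hπ₀⟩ := stalk_exact hS₀ x
    obtain ⟨hl, hexl, hπl⟩ := stalk_exact hSl x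
    obtain ⟨-, hexi, hπi⟩ := stalk_exact hSi x
    let L := stalkLin lp x
    let B := LinearMap.range (stalkLin β x)
    let I := LinearMap.range (stalkLin i x)
    have hcomp : ∀ f, L (stalkLin β x f) = stalkLin i x f := fun f => by rw [← LimTop.stalkLin_comp, hi]
    have hBI : B ≤ I.comap L := by
      rintro _ ⟨f, rfl⟩
      exact ⟨f, (hcomp f).symm⟩
    have hIL : I ≤ LinearMap.range L := by
      rintro _ ⟨f, rfl⟩
      exact ⟨_, hcomp f⟩
    rw [← (hexi.linearEquivOfSurjective hπi).length_eq, ← (hex₀.linearEquivOfSurjective hπ₀).length_eq,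
      ← (hexl.linearEquivOfSurjective hπl).length_eq]
    refine Module.length_eq_add_of_exact (B.mapQ I L hBI) (I.mapQ (LinearMap.range L) LinearMap.id hIL) ?_ ?_ ?_
    · refine (injective_iff_map_eq_zero _).2 fun q hq => ?_
      obtain ⟨t, rfl⟩ := Submodule.Quotient.mk_surjective _ q
      rw [Submodule.mapQ_apply, Submodule.Quotient.mk_eq_zero] at hq
      obtain ⟨f, hf⟩ := hq
      exact (Submodule.Quotient.mk_eq_zero _).2 ⟨f, hl ((hcomp f).trans hf)⟩
    · intro q
      obtain ⟨m, rfl⟩ := Submodule.Quotient.mk_surjective _ q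
      exact ⟨Submodule.Quotient.mk m, rfl⟩
    · intro q
      obtain ⟨m, rfl⟩ := Submodule.Quotient.mk_surjective _ q
      rw [Submodule.mapQ_apply, Submodule.Quotient.mk_eq_zero]
      constructor
      · rintro ⟨t, ht⟩
        exact ⟨Submodule.Quotient.mk t, by rw [Submodule.mapQ_apply]; exact congrArg _ ht⟩
      · rintro ⟨q, hq⟩
        obtain ⟨t, rfl⟩ := Submodule.Quotient.mk_surjective _ q
        rw [Submodule.mapQ_apply, Submodule.Quotient.eq] at hq
        obtain ⟨f, hf⟩ := hq
        exact ⟨t - stalkLin β x f, by rw [map_sub, hcomp, hf, sub_sub_cancel]; rfl⟩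
  refine ⟨fun x hx => ?_, fun x hx => ?_⟩
  · exact (key x).trans (congrArg (· + _) (hnode x hx))
  · haveI := hsub x hx
    have h0 : Module.length (X.presheaf.stalk x) ((cokernel β).presheaf.stalk x) = 0 := Module.length_eq_zero
    rw [key x, h0, zero_add]

end Groth.Agent.S20026
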