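import Groth.Statements.S20027
import Groth.Agent.S18655
import Groth.Agent.GrSegre.Poly1
import Groth.Agent.GrSegre.AddBridge
import Groth.Agent.GrDual.PolyCanon
import Groth.Agent.GrDual.DualRows
import Groth.Agent.GrSyz.Hilbert
import Groth.Agent.Gor.Ring

set_option autoImplicit false
universe u
open GrLC

namespace Groth.Agent.S20027
open MvPolynomial Groth.Agent.GrLC Groth.Agent.GrSegre

attribute [local instance] MvPolynomial.weightedGradedAlgebra

theorem endDeg_eq_of {M : Type u} [AddCommGroup M] (ℳ : ℤ → AddSubgroup M) {a : ℤ} (h : ℳ a ≠ ⊥)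
    (habove : ∀ d, a < d → ℳ d = ⊥) :
    _root_.GrLC.endDeg ℳ = ((a : WithTop ℤ) : WithBot (WithTop ℤ)) := by
  refine le_antisymm (iSup₂_le fun j hj => ?_) (le_iSup₂_of_le a h le_rfl)
  rw [WithBot.coe_le_coe, WithTop.coe_le_coe]
  exact not_lt.1 fun hlt => hj (habove j hlt)

variable {k : Type u} [Field k] {s : ℕ}

theorem mem_W_natCast {p : MvPolynomial (Fin s) k} {n : ℕ} : p ∈ W k s (n : ℤ) ↔ p.IsHomogeneous n := by
  have hw : ∀ e : Fin s →₀ ℕ,
      Finsupp.weight (fun _ : Fin s => (1 : ℤ)) e = ((Finsupp.weight (1 : Fin s → ℕ) e : ℕ) : ℤ) := fun e => by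
    simp [Finsupp.weight_apply, Finsupp.sum]
  refine ⟨fun h e he => ?_, fun h e he => ?_⟩
  · have := h he
    rw [hw] at this
    exact_mod_cast this
  · rw [hw]
    exact_mod_cast h he

theorem cpt_W (p : MvPolynomial (Fin s) k) (n : ℕ) :
    cpt (W k s) (n : ℤ) p = homogeneousComponent n p := by
  classical
  induction p using homogeneous_induction (W k s) with
  | zero => simp
  | add a b ha hb => rw [map_add, map_add, ha, hb]
  | hom g a ha =>
    rcases lt_or_ge g 0 with hg | hg
    · rw [W_pos k s g hg, Submodule.mem_bot] at ha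
      subst ha; simp
    · obtain ⟨i, rfl⟩ : ∃ i : ℕ, g = i := ⟨g.toNat, (Int.toNat_of_nonneg hg).symm⟩
      rw [homogeneousComponent_of_mem ((mem_homogeneousSubmodule i a).2 (mem_W_natCast.1 ha))]
      by_cases h : i = n
      · subst h; rw [cpt_of_mem (W k s) ha, if_pos rfl]
      · rw [cpt_of_mem_ne (W k s) ha (by omega), if_neg (Ne.symm h)]

/-- Let k be a field, s ≥ 1, d ≥ 1, and R = k[X_1, …, X_s] graded with every variable in degree 1.
Present the Veronese subring R^(d) = ⊕_j R_{jd} as a commutative ring R' with an injective ring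
homomorphism φ : R' → R whose image is the set of polynomials whose homogeneous components in all
degrees not divisible by d are zero, and let m' be the maximal ideal of R' that is the preimage of
the ideal of polynomials with zero constant term (the irrelevant ideal of R^(d)). Let n be the least
integer such that n ≥ s and d divides n. Then the type of R^(d), namely the Bass number μ_s(m', R')
= dim over the residue field of Ext^s over the local ring R'_{m'} from its residue field to R'_{m'}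
(here s = dim R'), equals the binomial coefficient (n − 1 choose s − 1). -/
theorem result (k : Type u) [Field k] (s d : ℕ) (hs : 1 ≤ s)
    (hd : 1 ≤ d) (R' : Type u) [CommRing R'] (φ : R' →+* MvPolynomial (Fin s) k)
    (hφ : Function.Injective φ)
    (hrange : ∀ p : MvPolynomial (Fin s) k, p ∈ φ.range ↔
      ∀ j : ℕ, ¬ d ∣ j → MvPolynomial.homogeneousComponent j p = 0)
    (m' : Ideal R') [m'.IsMaximal]
    (hm' : m' = Ideal.comap φ (RingHom.ker (MvPolynomial.constantCoeff : MvPolynomial (Fin s) k →+* k)))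
    (n : ℕ) (hsn : s ≤ n) (hdn : d ∣ n) (hmin : ∀ n' : ℕ, s ≤ n' → d ∣ n' → n ≤ n') :
    GrLC.bassNum m' R' s = (Nat.choose (n - 1) (s - 1) : ℕ∞) := by
  classical
  let 𝒜 := addGr (W k s)
  have hposW := W_pos k s
  have h0W := W_zero k s
  -- the Veronese pieces
  let 𝒜' : ℤ → AddSubgroup R' := fun j => (𝒜 (j * d)).comap φ.toAddMonoidHom
  have hmem' : ∀ (j : ℤ) (x : R'), x ∈ 𝒜' j ↔ φ x ∈ W k s (j * d) := fun j x => Iff.rfl
  have hin : ∀ (j : ℤ) (p : MvPolynomial (Fin s) k), p ∈ W k s (j * d) → p ∈ φ.range := by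
    intro j p hp
    rw [hrange]
    intro i hi
    rcases lt_or_ge (j * (d : ℤ)) 0 with hneg | hge
    · rw [hposW _ hneg, Submodule.mem_bot] at hp; subst hp; simp
    · obtain ⟨N, hN⟩ : ∃ N : ℕ, j * (d : ℤ) = N := ⟨_, (Int.toNat_of_nonneg hge).symm⟩
      rw [hN] at hp
      rw [homogeneousComponent_of_mem ((mem_homogeneousSubmodule N p).2 (mem_W_natCast.1 hp)),
        if_neg fun e => hi ?_]
      subst e
      exact Int.natCast_dvd_natCast.1 ⟨j, by rw [← hN, mul_comm]⟩
  have hπ : ∀ (j : ℤ) (x : R'), ∃ y : R', φ y = cpt (W k s) (j * d) (φ x) :=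
    fun j x => hin j _ (cpt_mem _ _ _)
  choose π hπ using hπ
  have hd0 : (d : ℤ) ≠ 0 := by omega
  have hint : DirectSum.IsInternal 𝒜' := by
    refine isInternal_of_proj 𝒜' (fun j => AddMonoidHom.mk' (π j) fun x y => hφ (by
      rw [map_add, hπ, hπ, hπ, map_add, map_add])) (fun j x hx => hφ ?_) (fun j i x hx hne => hφ ?_)
      fun x => ?_
    · change φ (π j x) = φ x
      rw [hπ, cpt_of_mem (W k s) ((hmem' j x).1 hx)]
    · change φ (π i x) = φ 0
      rw [hπ, map_zero, cpt_of_mem_ne (W k s) ((hmem' j x).1 hx) fun e => hne (mul_right_cancel₀ hd0 e)]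
    · have hx : φ x ∈ φ.range := ⟨x, rfl⟩
      have key : ∀ g ∈ degs (W k s) (φ x), ∃ j : ℤ, g = j * d := by
        intro g hg
        rcases lt_or_ge g 0 with hneg | hge
        · exact absurd (by rw [← Submodule.mem_bot k, ← hposW g hneg]; exact cpt_mem _ _ _) ((mem_degs _).1 hg)
        · obtain ⟨i, rfl⟩ : ∃ i : ℕ, g = i := ⟨g.toNat, (Int.toNat_of_nonneg hge).symm⟩
          by_cases hdi : d ∣ i
          · obtain ⟨c, rfl⟩ := hdi
            exact ⟨c, by push_cast; ring⟩
          · exact absurd (by rw [cpt_W]; exact (hrange _).1 hx i hdi) ((mem_degs _).1 hg)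
      choose J hJ using key
      have hsum : x = ∑ g ∈ (degs (W k s) (φ x)).attach, π (J g.1 g.2) x := by
        refine hφ ?_
        rw [map_sum]
        conv_lhs => rw [← sum_cpt (W k s) (φ x), ← Finset.sum_attach]
        exact Finset.sum_congr rfl fun g _ => by rw [hπ, ← hJ]
      rw [hsum]
      exact sum_mem fun g _ => AddSubgroup.mem_iSup_of_mem (J g.1 g.2)
        ((hmem' _ _).2 (by rw [hπ]; exact cpt_mem _ _ _))
  haveI : SetLike.GradedMonoid 𝒜' :=
    { one_mem := by
        rw [hmem', map_one, zero_mul]; exact SetLike.GradedOne.one_mem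
      mul_mem := fun i j a b ha hb => by
        rw [hmem', map_mul, add_mul]; exact SetLike.GradedMul.mul_mem ((hmem' i a).1 ha) ((hmem' j b).1 hb) }
  letI : GradedRing 𝒜' := { toDecomposition := hint.chooseDecomposition }
  have hdeg : ∀ j : ℤ, (𝒜' j).map (φ : R' →+ MvPolynomial (Fin s) k) = 𝒜 (j * d) := fun j => by
    refine le_antisymm ?_ fun p hp => ?_
    · rintro _ ⟨x, hx, rfl⟩; exact hx
    · obtain ⟨x, rfl⟩ := hin j p hp
      exact ⟨x, hp, rfl⟩
  -- the polynomial ring
  haveI hGor : LocCoh.IsGorensteinRing (MvPolynomial (Fin s) k) :=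
    Groth.Agent.Gor.Ring.isGorensteinRing_of_isRegularRing _
  let m : HomogeneousIdeal (W k s) := irrH k s
  have hB := Groth.Agent.GrDual.base_of_span hposW h0W
  have hpos : ∀ i : ℤ, i < 0 → 𝒜 i = ⊥ := fun i hi =>
    (AddSubgroup.eq_bot_iff_forall _).2 fun x hx => hB.pos i hi x hx
  have h0 : IsField (_root_.GrLC.deg0 𝒜) :=
    MulEquiv.isField (Field.toIsField k)
      (RingEquiv.ofBijective (Groth.Agent.GrDual.toDeg0 (base_addGr hB))
        (Groth.Agent.GrDual.toDeg0_bijective (base_addGr hB))).symm.toMulEquiv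
  have hm := isStarLocal_addGr hposW h0W m rfl
  have hstd : Ideal.span (⋃ i ∈ Set.Ioi (0 : ℤ), (𝒜 i : Set (MvPolynomial (Fin s) k))) =
      Ideal.span ((𝒜 1 : AddSubgroup _) : Set (MvPolynomial (Fin s) k)) := by
    change irrI (W k s) = _
    refine le_antisymm ?_ (Ideal.span_le.2 fun x hx => irr_irrI (W k s) 1 one_pos x hx)
    rw [irrI_W]
    exact Ideal.span_mono (Set.range_subset_iff.2 fun i => X_mem_W k i)
  have hdim := ringKrullDim_W k s
  obtain ⟨I⟩ := exists_res (W k s) (W k s)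
  obtain ⟨h₀, hh₀, hne, -, habove, -⟩ := Groth.Agent.GrDual.PolyTop.exists_top
    (w := fun _ : Fin s => (1 : ℤ)) (fun _ => one_pos) (m := m) rfl I
  rw [show -∑ _i : Fin s, (1 : ℤ) = -(s : ℤ) by simp] at hh₀ habove
  have hend : _root_.GrLC.endDeg ((upRes I).Hgr (addIdeal (W k s) m) s) =
      (((-(s : ℤ)) : WithTop ℤ) : WithBot (WithTop ℤ)) := by
    refine endDeg_eq_of _ ?_ fun j hj => (AddSubgroup.eq_bot_iff_forall _).2 fun x hx =>
      habove j hj x hx
    intro h
    exact hne ((AddSubgroup.eq_bot_iff_forall _).1 h h₀ hh₀)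
  -- the ideal
  have hm'sp : m' = Ideal.span (⋃ j ∈ Set.Ioi (0 : ℤ), (𝒜' j : Set R')) := by
    letI := hint.chooseDecomposition
    have hc0 : ∀ x, φ (cpt 𝒜' 0 x) = cpt (W k s) 0 (φ x) := fun x => by
      induction x using homogeneous_induction 𝒜' with
      | zero => simp
      | add a b ha hb => simp only [map_add, ha, hb]
      | hom i a ha =>
        by_cases h : i = 0
        · subst h
          rw [cpt_of_mem 𝒜' ha, cpt_of_mem (W k s) (by simpa using (hmem' 0 a).1 ha)]
        · rw [cpt_of_mem_ne 𝒜' ha h, map_zero,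
            cpt_of_mem_ne (W k s) ((hmem' i a).1 ha) (mul_ne_zero h hd0)]
    refine le_antisymm (fun x hx => ?_) (Ideal.span_le.2 fun x hx => ?_)
    · rw [← sum_cpt 𝒜' x]
      refine sum_mem fun j _ => ?_
      rcases lt_trichotomy j 0 with hj | rfl | hj
      · have : cpt 𝒜' j x = 0 := hφ (by
          rw [map_zero, ← Submodule.mem_bot k, ← hposW (j * d) (mul_neg_of_neg_of_pos hj (by omega))]
          exact cpt_mem 𝒜' j x)
        rw [this]; exact zero_mem _
      · have hc := hc0 x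
        have : cpt 𝒜' 0 x = 0 := hφ (by
          rw [hm', Ideal.mem_comap, RingHom.mem_ker, constantCoeff_eq] at hx
          rw [hc, map_zero, ← Nat.cast_zero, cpt_W, homogeneousComponent_zero, hx, map_zero])
        rw [this]; exact zero_mem _
      · exact Ideal.subset_span (Set.mem_biUnion (x := j) hj (cpt_mem 𝒜' j x))
    · obtain ⟨j, hj, hxj⟩ := Set.mem_iUnion₂.1 hx
      rw [hm', SetLike.mem_coe, Ideal.mem_comap]
      have h1 : φ x ∈ irrI (W k s) :=
        irr_irrI (W k s) (j * d) (mul_pos hj (by omega)) _ ((hmem' j x).1 hxj)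
      rwa [irrI_W, span_X_eq_ker] at h1
  let M' : HomogeneousIdeal 𝒜' := ⟨m', hm'sp ▸ Ideal.homogeneous_span _ _ fun x hx => by
    obtain ⟨j, -, hj⟩ := Set.mem_iUnion₂.1 hx
    exact ⟨j, hj⟩⟩
  haveI : M'.toIdeal.IsMaximal := ‹m'.IsMaximal›
  have hsn : (n : ℤ) - s < d := by
    by_contra hc
    obtain ⟨c, rfl⟩ := hdn
    rcases Nat.eq_zero_or_pos c with rfl | hc0
    · simp at hsn; omega
    · obtain ⟨c, rfl⟩ := Nat.exists_eq_succ_of_ne_zero hc0.ne'
      have h1 : s ≤ d * c := by
        push_cast [Nat.mul_succ] at hc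
        omega
      have := hmin (d * c) h1 (dvd_mul_right _ _)
      rw [Nat.mul_succ] at this
      omega
  refine Eq.trans (Groth.Agent.S18655.result (MvPolynomial (Fin s) k) 𝒜 hpos h0
    (addIdeal (W k s) m) hm rfl hstd s hdim (upRes I) (-(s : ℤ)) hend d (by omega) R' 𝒜' φ hφ hdeg M' hm'sp
    ((n : ℤ) - s) (by omega) hsn (by
      obtain ⟨c, hc⟩ := hdn
      exact ⟨-(c : ℤ), by rw [hc]; push_cast; ring⟩)) ?_
  congr 1
  haveI : Nontrivial (MvPolynomial (Fin s) k) := inferInstance
  rw [Groth.Agent.GrDual.finrank_comp_eq (base_addGr hB) 𝒜 ((n : ℤ) - s)]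
  have hp : Groth.Agent.GrDual.pieceK (base_addGr hB) 𝒜 ((n : ℤ) - s) = W k s ((n : ℤ) - s) :=
    SetLike.ext fun x => Iff.rfl
  rw [hp]
  obtain ⟨r, rfl⟩ : ∃ r, s = r + 1 := ⟨s - 1, by omega⟩
  have h := (Groth.Agent.GrSyz.finrank_stdGr (k := k) (r := r) ((n : ℤ) - ((r + 1 : ℕ) : ℤ))).2
  rw [if_pos (by omega)] at h
  have h2 : r + ((n : ℤ) - ((r + 1 : ℕ) : ℤ)).toNat = n - 1 := by omega
  rw [h2] at h
  rw [Nat.add_sub_cancel]
  exact (Nat.cast_inj (R := ℤ)).1 h

end Groth.Agent.S20027
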