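import Groth.Statements.S2007
import Groth.Agent.EtGlueLib.FlatTorsion

set_option autoImplicit false
universe u
open TensorProduct
open EtAlg

namespace Groth.Agent.S2007

/-- Let R -> S be a flat ring map and I a finitely generated ideal of R such that R/I -> S/IS is
bijective. Let N be an R-module, M' an S-module and φ : M' -> S ⊗_R N an S-linear map whose kernel
and cokernel are I-power torsion (every element of the kernel, resp. of the target modulo the image,
is killed by some power of I). Then there are an R-module M, an R-linear map ψ : M -> N and an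
S-isomorphism S ⊗_R M ≅ M' identifying φ with the base change of ψ. -/
theorem result (R S : Type u) [CommRing R] [CommRing S] [Algebra R S] [Module.Flat R S] (I : Ideal R)
    (hI : I.FG) (hq : Function.Bijective (Ideal.quotientMap (I.map (algebraMap R S)) (algebraMap R S) Ideal.le_comap_map))
    (N : Type u) [AddCommGroup N] [Module R N] (M' : Type u) [AddCommGroup M'] [Module S M'] (φ : M' →ₗ[S] S ⊗[R] N)
    (hker : ∀ x : M', φ x = 0 → ∃ n : ℕ, ∀ a ∈ I ^ n, algebraMap R S a • x = 0)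
    (hcoker : ∀ y : S ⊗[R] N, ∃ n : ℕ, ∀ a ∈ I ^ n, algebraMap R S a • y ∈ LinearMap.range φ) :
    ∃ (M : Type u) (_ : AddCommGroup M) (_ : Module R M) (ψ : M →ₗ[R] N) (e : S ⊗[R] M ≃ₗ[S] M'),
      φ ∘ₗ e.toLinearMap = ψ.baseChange S := by
  letI : Module R M' := Module.compHom M' (algebraMap R S)
  haveI : IsScalarTower R S M' := IsScalarTower.of_algebraMap_smul fun r x => rfl
  let φR : M' →ₗ[R] S ⊗[R] N := φ.restrictScalars R
  let P : Submodule R (M' × N) :=
    LinearMap.ker (φR ∘ₗ LinearMap.fst R M' N - (TensorProduct.mk R S N 1) ∘ₗ LinearMap.snd R M' N)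
  have hP : ∀ {z : M' × N}, z ∈ P ↔ φ z.1 = (1 : S) ⊗ₜ[R] z.2 := fun {z} => by simp [P, φR, sub_eq_zero]
  let ψ : P →ₗ[R] N := LinearMap.snd R M' N ∘ₗ P.subtype
  let fstP : P →ₗ[R] M' := LinearMap.fst R M' N ∘ₗ P.subtype
  let ε : S ⊗[R] P →ₗ[S] M' := LinearMap.liftBaseChange S fstP
  have hcomp : φ ∘ₗ ε = ψ.baseChange S := by
    refine TensorProduct.AlgebraTensorModule.ext fun s p => ?_
    rw [LinearMap.comp_apply, LinearMap.liftBaseChange_tmul, map_smul, LinearMap.baseChange_tmul,
      show φ (fstP p) = (1 : S) ⊗ₜ[R] ψ p from hP.mp p.2, TensorProduct.smul_tmul', smul_eq_mul, mul_one]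
  have hkerψ : Function.Bijective (TensorProduct.mk R S (LinearMap.ker ψ) 1) := by
    refine Groth.Agent.EtGlueLib.FlatTorsion.mk_bijective_of_torsion (T := LinearMap.ker ψ) hq fun p => ?_
    have h0 : (p : P).1.2 = 0 := p.2
    obtain ⟨n, hn⟩ := hker (p : P).1.1 (by rw [hP.mp (p : P).2, h0, TensorProduct.tmul_zero])
    refine ⟨n, fun a ha => Subtype.ext (Subtype.ext (Prod.ext ?_ ?_))⟩
    · exact (IsScalarTower.algebraMap_smul S a _).symm.trans (hn a ha)
    · show a • (p : P).1.2 = 0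
      rw [h0, smul_zero]
  let Q := N ⧸ LinearMap.range ψ
  have hQ : Function.Bijective (TensorProduct.mk R S Q 1) := by
    refine Groth.Agent.EtGlueLib.FlatTorsion.mk_bijective_of_torsion (T := Q) hq fun c => ?_
    obtain ⟨m, rfl⟩ := Submodule.Quotient.mk_surjective _ c
    obtain ⟨n, hn⟩ := hcoker ((1 : S) ⊗ₜ m)
    refine ⟨n, fun a ha => ?_⟩
    obtain ⟨x, hx⟩ := hn a ha
    rw [← Submodule.Quotient.mk_smul, Submodule.Quotient.mk_eq_zero]
    exact ⟨⟨(x, a • m), hP.mpr (by rw [hx, algebraMap_smul, TensorProduct.tmul_smul])⟩, rfl⟩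
  have hrangeφ : ∀ x : M', ∃ z : S ⊗[R] P, ψ.lTensor S z = φ x := by
    intro x
    refine ((lTensor_exact (M := P) (N := N) (P := Q) S (LinearMap.exact_map_mkQ_range ψ)
      (LinearMap.range ψ).mkQ_surjective) _).mp ?_
    obtain ⟨c, hc⟩ := hQ.2 ((LinearMap.range ψ).mkQ.lTensor S (φ x))
    obtain ⟨m, rfl⟩ := Submodule.Quotient.mk_surjective _ c
    have h1 : (LinearMap.range ψ).mkQ.lTensor S (φ x - (1 : S) ⊗ₜ m) = 0 := by
      rw [map_sub, LinearMap.lTensor_tmul, ← hc, TensorProduct.mk_apply, Submodule.mkQ_apply, sub_self]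
    obtain ⟨z, hz⟩ := ((lTensor_exact (M := P) (N := N) (P := Q) S (LinearMap.exact_map_mkQ_range ψ)
      (LinearMap.range ψ).mkQ_surjective) _).mp h1
    have hz' : φ (ε z) = φ x - (1 : S) ⊗ₜ[R] m := by
      rw [← hz, ← LinearMap.baseChange_eq_ltensor (A := S), ← hcomp]
      rfl
    have hm : (Submodule.Quotient.mk m : Q) = 0 := by
      rw [Submodule.Quotient.mk_eq_zero]
      exact ⟨⟨(x - ε z, m), hP.mpr (by rw [map_sub, hz', sub_sub_cancel])⟩, rfl⟩
    rw [← hc, hm, map_zero]
  have hbij : Function.Bijective ε := by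
    refine ⟨?_, fun x => ?_⟩
    · rw [injective_iff_map_eq_zero]
      intro z hz
      have h1 : ψ.lTensor S z = 0 := by
        rw [← LinearMap.baseChange_eq_ltensor (A := S), ← hcomp, LinearMap.comp_apply, hz, map_zero]
      obtain ⟨w, hw⟩ := (Module.Flat.lTensor_exact (N := LinearMap.ker ψ) (N' := P) (N'' := N) S (f := (LinearMap.ker ψ).subtype) (g := ψ) (LinearMap.exact_subtype_ker_map ψ) _).mp h1
      obtain ⟨p, rfl⟩ := hkerψ.2 w
      rw [← hw, TensorProduct.mk_apply, LinearMap.lTensor_tmul, Submodule.subtype_apply]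
      rw [← hw, TensorProduct.mk_apply, LinearMap.lTensor_tmul, Submodule.subtype_apply,
        LinearMap.liftBaseChange_tmul, one_smul] at hz
      have : (p : P) = 0 := Subtype.ext (Prod.ext hz p.2)
      rw [this, TensorProduct.tmul_zero]
    · obtain ⟨z, hz⟩ := hrangeφ x
      have h0 : φ (x - ε z) = 0 := by
        rw [map_sub, ← hz, ← LinearMap.baseChange_eq_ltensor (A := S), ← hcomp, LinearMap.comp_apply, sub_self]
      refine ⟨z + (1 : S) ⊗ₜ[R] ⟨(x - ε z, 0), hP.mpr (by rw [h0, TensorProduct.tmul_zero])⟩, ?_⟩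
      rw [map_add, LinearMap.liftBaseChange_tmul, one_smul]
      show ε z + (x - ε z) = x
      rw [add_sub_cancel]
  exact ⟨P, inferInstance, inferInstance, ψ, LinearEquiv.ofBijective ε hbij, hcomp⟩

end Groth.Agent.S2007
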