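import Groth.Statements.S2008
import Mathlib

set_option autoImplicit false
universe u
open TensorProduct
open EtAlg

namespace Groth.Agent.S2008

/-- For a ring map R -> S and an ideal I of R the following are equivalent: (1) S is flat over R and
S/IS is faithfully flat over R/I; (2) S is flat over R and Spec(S/IS) -> Spec(R/I) is surjective;
(3) S is flat over R and S ⊗_R M is nonzero for every nonzero R-module M killed by I; (4) S is flat
over R and S ⊗_R M is nonzero for every nonzero I-power torsion R-module M. (Faithfulness of base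
change on these subcategories is stated as detection of nonzero objects, which is equivalent for an
exact functor.) -/
theorem result (R S : Type u) [CommRing R] [CommRing S] [Algebra R S] (I : Ideal R) :
    List.TFAE [
      Module.Flat R S ∧ Module.FaithfullyFlat (R ⧸ I) (S ⧸ I.map (algebraMap R S)),
      Module.Flat R S ∧ Function.Surjective (PrimeSpectrum.comap (Ideal.quotientMap (I.map (algebraMap R S)) (algebraMap R S) Ideal.le_comap_map)),
      Module.Flat R S ∧ ∀ (M : Type u) [AddCommGroup M] [Module R M], (∀ (a : R) (m : M), a ∈ I → a • m = 0) →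
        Nontrivial M → Nontrivial (S ⊗[R] M),
      Module.Flat R S ∧ ∀ (M : Type u) [AddCommGroup M] [Module R M], (∀ m : M, ∃ n : ℕ, ∀ a ∈ I ^ n, a • m = 0) →
        Nontrivial M → Nontrivial (S ⊗[R] M)] := by
  classical
  set IS := I.map (algebraMap R S) with hIS
  tfae_have 1 → 2 := fun ⟨hf, hff⟩ ↦ ⟨hf, PrimeSpectrum.comap_surjective_of_faithfullyFlat (A := R ⧸ I) (B := S ⧸ IS)⟩
  tfae_have 2 → 4 := fun ⟨hf, hsurj⟩ ↦ ⟨hf, fun M _ _ hM hnt ↦ by
    haveI := hf
    obtain ⟨m, hm⟩ := exists_ne (0 : M)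
    set J : Ideal R := LinearMap.ker (LinearMap.toSpanSingleton R M m) with hJ
    obtain ⟨n, hn⟩ := hM m
    obtain ⟨P, hP, hJP⟩ := Ideal.exists_le_maximal J (fun h ↦ hm (by
      have : (1 : R) ∈ J := h ▸ Submodule.mem_top
      simpa [hJ] using this))
    have hIP : I ≤ P := hP.isPrime.le_of_pow_le (n := n) fun a ha ↦ hJP (hn a ha)
    haveI : (P.map (Ideal.Quotient.mk I)).IsPrime :=
      Ideal.map_isPrime_of_surjective Ideal.Quotient.mk_surjective (by rwa [Ideal.mk_ker])
    obtain ⟨q, hq⟩ := hsurj ⟨P.map (Ideal.Quotient.mk I), inferInstance⟩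
    have hle : J.map (algebraMap R S) ≤ q.asIdeal.comap (Ideal.Quotient.mk IS) := Ideal.map_le_iff_le_comap.2 fun a ha ↦ by
      have h1 : Ideal.Quotient.mk I a ∈ (PrimeSpectrum.comap (Ideal.quotientMap IS (algebraMap R S) Ideal.le_comap_map) q).asIdeal := by
        rw [hq]; exact Ideal.mem_map_of_mem _ (hJP ha)
      exact h1
    haveI : Nontrivial (S ⧸ J.map (algebraMap R S)) := Ideal.Quotient.nontrivial_iff.2 fun h ↦
      (q.2.comap (Ideal.Quotient.mk IS)).ne_top (top_le_iff.1 (h ▸ hle))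
    haveI : Nontrivial (S ⊗[R] (R ⧸ J)) :=
      (Algebra.TensorProduct.quotIdealMapEquivTensorQuot S J).symm.toEquiv.nontrivial
    let f : R ⧸ J →ₗ[R] M := J.liftQ (LinearMap.toSpanSingleton R M m) le_rfl
    have hfinj : Function.Injective f := LinearMap.ker_eq_bot.1 (Submodule.ker_liftQ_eq_bot _ _ _ le_rfl)
    exact (Module.Flat.lTensor_preserves_injective_linearMap (M := S) f hfinj).nontrivial⟩
  tfae_have 4 → 3 := fun ⟨hf, h⟩ ↦ ⟨hf, fun M _ _ hM hnt ↦
    h M (fun m ↦ ⟨1, fun a ha ↦ hM a m (by rwa [pow_one] at ha)⟩) hnt⟩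
  tfae_have 3 → 1 := fun ⟨hf, h⟩ ↦ by
    refine ⟨hf, ?_⟩
    haveI := hf
    haveI : Module.Flat (R ⧸ I) (S ⧸ IS) :=
      Module.Flat.of_linearEquiv (Algebra.TensorProduct.quotIdealMapEquivQuotTensor S I).toLinearEquiv
    refine ⟨fun 𝔪 h𝔪 htop ↦ ?_⟩
    set P := 𝔪.comap (Ideal.Quotient.mk I) with hP
    haveI : P.IsMaximal := Ideal.comap_isMaximal_of_surjective _ Ideal.Quotient.mk_surjective
    have hIP : I ≤ P := fun a ha ↦ by
      rw [hP, Ideal.mem_comap, Ideal.Quotient.eq_zero_iff_mem.2 ha]; exact zero_mem _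
    haveI : Nontrivial (R ⧸ P) := Ideal.Quotient.nontrivial_iff.2 (Ideal.IsMaximal.ne_top inferInstance)
    have hnt := h (R ⧸ P) (fun a x ha ↦ by
      obtain ⟨x, rfl⟩ := Ideal.Quotient.mk_surjective x
      rw [Algebra.smul_def, Ideal.Quotient.algebraMap_eq, Ideal.Quotient.eq_zero_iff_mem.2 (hIP ha), zero_mul]) inferInstance
    haveI : Nontrivial (S ⧸ P.map (algebraMap R S)) :=
      (Algebra.TensorProduct.quotIdealMapEquivTensorQuot S P).toEquiv.nontrivial
    refine (Ideal.Quotient.nontrivial_iff.1 this : P.map (algebraMap R S) ≠ ⊤) ?_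
    rw [Ideal.smul_top_eq_map, Submodule.restrictScalars_eq_top_iff] at htop
    rw [← Ideal.map_comap_of_surjective _ Ideal.Quotient.mk_surjective 𝔪, ← hP, Ideal.map_map] at htop
    have h2 : (P.map (algebraMap R S)).map (Ideal.Quotient.mk IS) = ⊤ := by
      rw [Ideal.map_map, ← htop]
      rfl
    have h3 := Ideal.comap_map_of_surjective (Ideal.Quotient.mk IS) Ideal.Quotient.mk_surjective (P.map (algebraMap R S))
    rw [h2, Ideal.comap_top, ← RingHom.ker_eq_comap_bot, Ideal.mk_ker, sup_eq_left.2 (Ideal.map_mono hIP)] at h3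
    exact h3.symm
  tfae_finish

end Groth.Agent.S2008
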