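import Groth.Statements.S2009
import Groth.Agent.EtGlueLib.FlatTorsion

set_option autoImplicit false
universe u
open TensorProduct
open EtAlg

open scoped TensorProduct

namespace Groth.Agent.S2009

/-- Let R -> S be flat with S/IS faithfully flat over R/I. Then the natural map M -> S ⊗_R M is
bijective for every I-power torsion R-module M if and only if R/I -> S/IS is bijective. -/
theorem result (R S : Type u) [CommRing R] [CommRing S] [Algebra R S] (I : Ideal R)
    [Module.Flat R S] [Module.FaithfullyFlat (R ⧸ I) (S ⧸ I.map (algebraMap R S))] :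
    (∀ (M : Type u) [AddCommGroup M] [Module R M], (∀ m : M, ∃ n : ℕ, ∀ a ∈ I ^ n, a • m = 0) →
      Function.Bijective (TensorProduct.mk R S M 1)) ↔
    Function.Bijective (Ideal.quotientMap (I.map (algebraMap R S)) (algebraMap R S) Ideal.le_comap_map) := by
  constructor
  · intro H
    have hb := H (R ⧸ I) fun m => ⟨1, fun a ha => ?_⟩
    swap
    · obtain ⟨r, rfl⟩ := Ideal.Quotient.mk_surjective m
      rw [pow_one] at ha
      rw [Algebra.smul_def, Ideal.Quotient.algebraMap_eq, Ideal.Quotient.eq_zero_iff_mem.mpr ha, zero_mul]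
    let e := Algebra.TensorProduct.quotIdealMapEquivTensorQuot S I
    have heq : ∀ x : R ⧸ I, Ideal.quotientMap (I.map (algebraMap R S)) (algebraMap R S) Ideal.le_comap_map x =
        e.symm (TensorProduct.mk R S (R ⧸ I) 1 x) := by
      intro x
      obtain ⟨r, rfl⟩ := Ideal.Quotient.mk_surjective x
      rw [Ideal.quotientMap_mk, eq_comm, AlgEquiv.symm_apply_eq, Algebra.TensorProduct.quotIdealMapEquivTensorQuot_mk]
      show (1 : S) ⊗ₜ[R] algebraMap R (R ⧸ I) r = algebraMap R S r ⊗ₜ[R] (1 : R ⧸ I)
      rw [Algebra.algebraMap_eq_smul_one (A := R ⧸ I), Algebra.algebraMap_eq_smul_one (A := S), TensorProduct.smul_tmul]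
    rw [show ⇑(Ideal.quotientMap (I.map (algebraMap R S)) (algebraMap R S) Ideal.le_comap_map) =
      e.symm ∘ TensorProduct.mk R S (R ⧸ I) 1 from funext heq]
    exact e.symm.bijective.comp hb
  · intro hq M _ _ hM
    exact Groth.Agent.EtGlueLib.FlatTorsion.mk_bijective_of_torsion hq hM

end Groth.Agent.S2009
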