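import Groth.Statements.S2010
import Groth.Agent.EtGlueLib.FlatTorsion
import Groth.Agent.EtGlueLib.Basic

set_option autoImplicit false
universe u
open TensorProduct
open EtAlg

namespace Groth.Agent.S2010

/-- Let R -> S be flat and I a finitely generated ideal with R/I -> S/IS bijective; let N be an R-module
and M an I-power torsion R-module. For every short exact sequence 0 -> S ⊗_R N -> E' -> S ⊗_R M -> 0
of S-modules there are a short exact sequence 0 -> N -> E -> M -> 0 of R-modules and an R-linear map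
E -> E' making the two squares with the maps n ↦ 1 ⊗ n and m ↦ 1 ⊗ m commute. -/
theorem result (R S : Type u) [CommRing R] [CommRing S] [Algebra R S] [Module.Flat R S] (I : Ideal R)
    (hI : I.FG) (hq : Function.Bijective (Ideal.quotientMap (I.map (algebraMap R S)) (algebraMap R S) Ideal.le_comap_map))
    (N M : Type u) [AddCommGroup N] [Module R N] [AddCommGroup M] [Module R M]
    (hM : ∀ m : M, ∃ n : ℕ, ∀ a ∈ I ^ n, a • m = 0)
    (E' : Type u) [AddCommGroup E'] [Module S E'] [Module R E'] [IsScalarTower R S E'] (i' : S ⊗[R] N →ₗ[S] E') (p' : E' →ₗ[S] S ⊗[R] M)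
    (hi' : Function.Injective i') (hp' : Function.Surjective p') (hex' : LinearMap.range i' = LinearMap.ker p') :
    ∃ (E : Type u) (_ : AddCommGroup E) (_ : Module R E) (i : N →ₗ[R] E) (p : E →ₗ[R] M) (g : E →ₗ[R] E'),
      Function.Injective i ∧ Function.Surjective p ∧ LinearMap.range i = LinearMap.ker p ∧
      (∀ n : N, g (i n) = i' ((1 : S) ⊗ₜ[R] n)) ∧ (∀ e : E, p' (g e) = (1 : S) ⊗ₜ[R] p e) := by
  classical
  obtain ⟨s, hs⟩ := hI
  -- torsion modules are their own base change
  have htors : ∀ {T : Type u} [AddCommGroup T] [Module R T], (∀ (x : T) (i : s), ∃ n : ℕ, (i : R) ^ n • x = 0) →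
      Function.Bijective (TensorProduct.mk R S T 1) := by
    intro T _ _ hT
    refine Groth.Agent.EtGlueLib.FlatTorsion.mk_bijective_of_torsion hq fun x => ?_
    have hrad : I ≤ Ideal.radical (LinearMap.ker (LinearMap.toSpanSingleton R T x)) := by
      rw [← hs]
      refine Ideal.span_le.mpr fun a ha => ?_
      obtain ⟨n, hn⟩ := hT x ⟨a, ha⟩
      exact ⟨n, hn⟩
    obtain ⟨K, hK⟩ := Ideal.exists_pow_le_of_le_radical_of_fg hrad ⟨s, hs⟩
    exact ⟨K, fun a ha => hK ha⟩
  let L : s → Type u := fun i => LocalizedModule (Submonoid.powers (i : R)) N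
  let δi : ∀ i : s, N →ₗ[R] L i := fun i => LocalizedModule.mkLinearMap _ N
  let δ : N →ₗ[R] (∀ i : s, L i) := LinearMap.pi δi
  have hδker : Function.Bijective (TensorProduct.mk R S (LinearMap.ker δ) 1) := by
    refine htors (T := LinearMap.ker δ) fun x i => ?_
    obtain ⟨n, hn⟩ := (Groth.Agent.EtGlueLib.localized_eq_zero_iff (f := (i : R)) (X := N) (x : N)).mp (congrFun x.2 i)
    exact ⟨n, Subtype.ext hn⟩
  let iR : S ⊗[R] N →ₗ[R] E' := i'.restrictScalars R
  let pR : E' →ₗ[R] S ⊗[R] M := p'.restrictScalars R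
  have hMbij : Function.Bijective (TensorProduct.mk R S M 1) :=
    Groth.Agent.EtGlueLib.FlatTorsion.mk_bijective_of_torsion hq hM
  -- the cokernel of `i'` is torsion
  have hcok : ∀ (e : E') (i : s), ∃ (k : ℕ) (z : S ⊗[R] N), (i : R) ^ k • e = iR z := by
    intro e i
    obtain ⟨m, hm⟩ := hMbij.2 (pR e)
    obtain ⟨n, hn⟩ := hM m
    have h0 : pR ((i : R) ^ n • e) = 0 := by
      rw [map_smul, ← hm, ← map_smul, hn _ (Ideal.pow_mem_pow (hs ▸ Ideal.subset_span i.2) n), map_zero]
    have : (i : R) ^ n • e ∈ LinearMap.range i' := by rw [hex']; exact h0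
    obtain ⟨z, hz⟩ := this
    exact ⟨n, z, hz.symm⟩
  have hunit : ∀ (i : s) (k : ℕ), Function.Bijective fun w : S ⊗[R] L i => (i : R) ^ k • w := by
    intro i k
    have hu : IsUnit (algebraMap R (Module.End R (L i)) ((i : R) ^ k)) :=
      IsLocalizedModule.map_units (LocalizedModule.mkLinearMap (Submonoid.powers (i : R)) N) (⟨(i : R) ^ k, k, rfl⟩ : Submonoid.powers (i : R))
    obtain ⟨v, hv⟩ := hu
    have e : ∀ w : S ⊗[R] L i, (i : R) ^ k • w = LinearMap.lTensor S (v : Module.End R (L i)) w := by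
      intro w
      rw [hv]
      induction w with
      | zero => simp
      | tmul a b => rw [LinearMap.lTensor_tmul, Module.algebraMap_end_apply, TensorProduct.tmul_smul]
      | add x y hx hy => rw [smul_add, map_add, hx, hy]
    simp_rw [e]
    exact Function.bijective_iff_has_inverse.mpr ⟨LinearMap.lTensor S ((v⁻¹ : (Module.End R (L i))ˣ) : Module.End R (L i)),
      fun w => by simp only; rw [← LinearMap.lTensor_comp_apply, ← Module.End.mul_eq_comp, Units.inv_mul, Module.End.one_eq_id,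
        LinearMap.lTensor_id_apply],
      fun w => by simp only; rw [← LinearMap.lTensor_comp_apply, ← Module.End.mul_eq_comp, Units.mul_inv, Module.End.one_eq_id,
        LinearMap.lTensor_id_apply]⟩
  let rel : ∀ i : s, E' → S ⊗[R] L i → Prop := fun i e w =>
    ∃ (k : ℕ) (z : S ⊗[R] N), (i : R) ^ k • e = iR z ∧ (i : R) ^ k • w = (δi i).lTensor S z
  have huniq : ∀ i e w w', rel i e w → rel i e w' → w = w' := by
    rintro i e w w' ⟨k, z, h1, h2⟩ ⟨k', z', h1', h2'⟩
    have hz : (i : R) ^ k' • z = (i : R) ^ k • z' := hi' (show iR _ = iR _ by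
      rw [map_smul, map_smul, ← h1, ← h1', smul_comm])
    refine (hunit i (k + k')).1 ?_
    show (i : R) ^ (k + k') • w = (i : R) ^ (k + k') • w'
    conv_lhs => rw [add_comm, pow_add, mul_smul, h2, ← map_smul, hz, map_smul, ← h2', ← mul_smul, ← pow_add]
  have hexi : ∀ i e, ∃ w, rel i e w := fun i e => by
    obtain ⟨k, z, hz⟩ := hcok e i
    obtain ⟨w, hw⟩ := (hunit i k).2 ((δi i).lTensor S z)
    exact ⟨w, k, z, hz, hw⟩
  choose θ hθ using hexi
  let Θi : ∀ i : s, E' →ₗ[R] S ⊗[R] L i := fun i =>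
    { toFun := θ i
      map_add' := fun e e' => by
        refine huniq i _ _ _ (hθ i (e + e')) ?_
        obtain ⟨k, z, h1, h2⟩ := hθ i e
        obtain ⟨k', z', h1', h2'⟩ := hθ i e'
        refine ⟨k + k', (i : R) ^ k' • z + (i : R) ^ k • z', ?_, ?_⟩
        · rw [map_add, map_smul, map_smul, ← h1, ← h1', smul_smul, smul_smul, ← pow_add, ← pow_add, add_comm k' k,
            smul_add]
        · rw [map_add, map_smul, map_smul, ← h2, ← h2', smul_smul, smul_smul, ← pow_add, ← pow_add, add_comm k' k,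
            smul_add]
      map_smul' := fun c e => by
        refine huniq i _ _ _ (hθ i (c • e)) ?_
        obtain ⟨k, z, h1, h2⟩ := hθ i e
        refine ⟨k, c • z, ?_, ?_⟩
        · rw [map_smul, ← h1, smul_comm]
        · rw [map_smul, RingHom.id_apply, ← h2, smul_comm] }
  let Φ := TensorProduct.piRight R R S L
  let Θ : E' →ₗ[R] S ⊗[R] (∀ i : s, L i) := Φ.symm.toLinearMap ∘ₗ LinearMap.pi Θi
  have hΦ : ∀ z i, Φ (δ.lTensor S z) i = (δi i).lTensor S z := by
    intro z i
    induction z with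
    | zero => simp
    | tmul a n =>
      rw [LinearMap.lTensor_tmul, TensorProduct.piRight_apply, TensorProduct.piRightHom_tmul, LinearMap.lTensor_tmul]
      rfl
    | add u v hu hv => rw [map_add, map_add, Pi.add_apply, hu, hv, map_add]
  have hΘ : ∀ z, Θ (iR z) = δ.lTensor S z := by
    intro z
    apply Φ.injective
    show Φ (Φ.symm _) = _
    rw [LinearEquiv.apply_symm_apply]
    funext i
    rw [LinearMap.pi_apply, hΦ]
    exact huniq i _ _ _ (hθ i (iR z)) ⟨0, z, by simp, by simp⟩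
  let C := (∀ i : s, L i) ⧸ LinearMap.range δ
  let q : (∀ i : s, L i) →ₗ[R] C := (LinearMap.range δ).mkQ
  let Tt : Submodule R (∀ i : s, L i) :=
    { carrier := {γ | ∀ i : s, ∃ k : ℕ, (i : R) ^ k • q γ = 0}
      zero_mem' := fun i => ⟨0, by simp⟩
      add_mem' := fun {a b} ha hb i => by
        obtain ⟨k, hk⟩ := ha i; obtain ⟨k', hk'⟩ := hb i
        refine ⟨k + k', ?_⟩
        rw [map_add, smul_add]
        nth_rw 1 [add_comm k k']
        rw [pow_add, mul_smul, hk, smul_zero, pow_add, mul_smul, hk', smul_zero, add_zero]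
      smul_mem' := fun c a ha i => by
        obtain ⟨k, hk⟩ := ha i
        exact ⟨k, by rw [map_smul, smul_comm, hk, smul_zero]⟩ }
  let E : Submodule R (E' × (∀ i : s, L i)) :=
    LinearMap.ker (Θ ∘ₗ LinearMap.fst R _ _ - (TensorProduct.mk R S _ 1) ∘ₗ LinearMap.snd R _ _) ⊓
      Tt.comap (LinearMap.snd R _ _)
  have hE : ∀ {z : E' × (∀ i : s, L i)}, z ∈ E ↔ Θ z.1 = (1 : S) ⊗ₜ[R] z.2 ∧ z.2 ∈ Tt := fun {z} => by
    simp [E, sub_eq_zero]
  have himem : ∀ n : N, (iR ((1 : S) ⊗ₜ n), δ n) ∈ E := fun n => hE.mpr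
    ⟨by rw [hΘ, LinearMap.lTensor_tmul], fun i => ⟨0, by
      rw [pow_zero, one_smul, Submodule.mkQ_apply, Submodule.Quotient.mk_eq_zero]; exact ⟨n, rfl⟩⟩⟩
  let ι : N →ₗ[R] E := LinearMap.codRestrict E (LinearMap.prod (iR ∘ₗ TensorProduct.mk R S N 1) δ) himem
  let eM := LinearEquiv.ofBijective _ hMbij
  let π : E →ₗ[R] M := eM.symm.toLinearMap ∘ₗ pR ∘ₗ LinearMap.fst R E' (∀ i : s, L i) ∘ₗ E.subtype
  have hπ : ∀ x : E, (1 : S) ⊗ₜ[R] π x = pR (x : E' × (∀ i : s, L i)).1 := fun x => eM.apply_symm_apply _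
  refine ⟨E, inferInstance, inferInstance, ι, π, LinearMap.fst R E' (∀ i : s, L i) ∘ₗ E.subtype, ?_, ?_, ?_,
    fun n => rfl, fun x => (hπ x).symm⟩
  · rw [injective_iff_map_eq_zero]
    intro n hn
    have h1 : iR ((1 : S) ⊗ₜ n) = 0 := congrArg (fun z : E => (z : E' × (∀ i : s, L i)).1) hn
    have h2 : δ n = 0 := congrArg (fun z : E => (z : E' × (∀ i : s, L i)).2) hn
    have h3 : (1 : S) ⊗ₜ[R] n = 0 := hi' (h1.trans (map_zero i').symm)
    have : (⟨n, h2⟩ : LinearMap.ker δ) = 0 := hδker.1 (by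
      rw [map_zero, TensorProduct.mk_apply]
      refine Module.Flat.lTensor_preserves_injective_linearMap (M := S) (LinearMap.ker δ).subtype
        Subtype.val_injective ?_
      rw [map_zero, LinearMap.lTensor_tmul]
      exact h3)
    simpa using congrArg Subtype.val this
  · intro m
    obtain ⟨e, he⟩ := hp' ((1 : S) ⊗ₜ m)
    let c : S ⊗[R] C := q.lTensor S (Θ e)
    have hc : ∀ i : s, ∃ k : ℕ, (i : R) ^ k • c = 0 := by
      intro i
      obtain ⟨k, z, hz⟩ := hcok e i
      refine ⟨k, ?_⟩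
      show (i : R) ^ k • q.lTensor S (Θ e) = 0
      rw [← map_smul, ← map_smul, hz, hΘ, ← LinearMap.lTensor_comp_apply]
      rw [show q ∘ₗ δ = 0 from LinearMap.ext fun n => (Submodule.Quotient.mk_eq_zero _).mpr ⟨n, rfl⟩,
        LinearMap.lTensor_zero, LinearMap.zero_apply]
    choose k hk using hc
    let μ : C →ₗ[R] (s → C) := LinearMap.pi fun i => (i : R) ^ k i • LinearMap.id
    let Ψ := TensorProduct.piRight R R S (fun _ : s => C)
    have hΨ : ∀ z i, Ψ (μ.lTensor S z) i = (i : R) ^ k i • z := by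
      intro z i
      induction z with
      | zero => simp
      | tmul a b =>
        rw [LinearMap.lTensor_tmul, TensorProduct.piRight_apply, TensorProduct.piRightHom_tmul]
        show a ⊗ₜ[R] ((i : R) ^ k i • b) = _
        rw [TensorProduct.tmul_smul]
      | add u v hu hv => rw [map_add, map_add, Pi.add_apply, hu, hv, smul_add]
    have hμc : μ.lTensor S c = 0 := by
      apply Ψ.injective
      funext i
      rw [hΨ, hk, map_zero, Pi.zero_apply]
    obtain ⟨w, hw⟩ := (Module.Flat.lTensor_exact (N := LinearMap.ker μ) (N' := C) (N'' := s → C) S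
      (f := (LinearMap.ker μ).subtype) (g := μ) (LinearMap.exact_subtype_ker_map μ) _).mp hμc
    have bμ : Function.Bijective (TensorProduct.mk R S (LinearMap.ker μ) 1) :=
      htors (T := LinearMap.ker μ) fun x i => ⟨k i, Subtype.ext (congrFun x.2 i)⟩
    obtain ⟨τ, rfl⟩ := bμ.2 w
    obtain ⟨γ, hγ⟩ := Submodule.Quotient.mk_surjective _ (τ : C)
    have hγT : γ ∈ Tt := fun i => ⟨k i, by rw [Submodule.mkQ_apply, hγ]; exact congrFun τ.2 i⟩
    have h1 : q.lTensor S (Θ e - (1 : S) ⊗ₜ γ) = 0 := by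
      rw [map_sub, LinearMap.lTensor_tmul, Submodule.mkQ_apply, hγ]
      rw [TensorProduct.mk_apply, LinearMap.lTensor_tmul, Submodule.subtype_apply] at hw
      rw [hw, sub_self]
    obtain ⟨z, hz⟩ := ((lTensor_exact (M := N) (N := ∀ i : s, L i) (P := C) S (LinearMap.exact_map_mkQ_range δ)
      (LinearMap.range δ).mkQ_surjective) _).mp h1
    refine ⟨⟨(e - iR z, γ), hE.mpr ⟨by rw [map_sub, hΘ, hz, sub_sub_cancel], hγT⟩⟩, ?_⟩
    show eM.symm (pR (e - iR z)) = m
    rw [LinearEquiv.symm_apply_eq, map_sub]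
    show p' e - p' (i' z) = (1 : S) ⊗ₜ m
    rw [he, show p' (i' z) = 0 from LinearMap.mem_ker.mp (hex' ▸ LinearMap.mem_range_self i' z), sub_zero]
  · ext ⟨⟨e, γ⟩, hx⟩
    constructor
    · rintro ⟨n, hn⟩
      rw [LinearMap.mem_ker, ← hn]
      refine eM.injective ?_
      show eM (eM.symm (p' (i' ((1 : S) ⊗ₜ n)))) = _
      rw [LinearEquiv.apply_symm_apply, map_zero]
      exact LinearMap.mem_ker.mp (hex' ▸ LinearMap.mem_range_self i' ((1 : S) ⊗ₜ[R] n))
    · intro hx'
      obtain ⟨h1, h2⟩ := hE.mp hx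
      have h3 : pR e = 0 := by
        have := hπ ⟨(e, γ), hx⟩
        rw [LinearMap.mem_ker.mp hx', TensorProduct.tmul_zero] at this
        exact this.symm
      obtain ⟨z, hz⟩ : e ∈ LinearMap.range i' := by rw [hex']; exact h3
      have h4 : δ.lTensor S z = (1 : S) ⊗ₜ γ := by rw [← hΘ]; exact (congrArg Θ hz).trans h1
      have h5 : q γ = 0 := by
        have b : Function.Bijective (TensorProduct.mk R S (Submodule.span R {q γ}) 1) := by
          refine htors (T := Submodule.span R {q γ}) fun x i => ?_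
          obtain ⟨r, hr⟩ := Submodule.mem_span_singleton.mp x.2
          obtain ⟨k, hk⟩ := h2 i
          exact ⟨k, Subtype.ext (show (i : R) ^ k • (x : C) = 0 by rw [← hr, smul_comm, hk, smul_zero])⟩
        have h6 : (⟨q γ, Submodule.mem_span_singleton_self _⟩ : Submodule.span R {q γ}) = 0 := b.1 (by
          rw [map_zero, TensorProduct.mk_apply]
          refine Module.Flat.lTensor_preserves_injective_linearMap (M := S) (Submodule.span R {q γ}).subtype
            Subtype.val_injective ?_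
          rw [map_zero, LinearMap.lTensor_tmul, Submodule.subtype_apply, ← LinearMap.lTensor_tmul, ← h4,
            ← LinearMap.comp_apply, ← LinearMap.lTensor_comp,
            show q ∘ₗ δ = 0 from LinearMap.ext fun n => (Submodule.Quotient.mk_eq_zero _).mpr ⟨n, rfl⟩,
            LinearMap.lTensor_zero, LinearMap.zero_apply])
        exact congrArg Subtype.val h6
      obtain ⟨n₀, rfl⟩ := (Submodule.Quotient.mk_eq_zero _).mp h5
      have h7 : δ.lTensor S (z - (1 : S) ⊗ₜ n₀) = 0 := by rw [map_sub, h4, LinearMap.lTensor_tmul, sub_self]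
      obtain ⟨w, hw⟩ := (Module.Flat.lTensor_exact (N := LinearMap.ker δ) (N' := N) (N'' := ∀ i : s, L i) S
        (f := (LinearMap.ker δ).subtype) (g := δ) (LinearMap.exact_subtype_ker_map δ) _).mp h7
      obtain ⟨τ, rfl⟩ := hδker.2 w
      rw [TensorProduct.mk_apply, LinearMap.lTensor_tmul, Submodule.subtype_apply] at hw
      refine ⟨n₀ + τ, Subtype.ext (Prod.ext ?_ ?_)⟩
      · show iR ((1 : S) ⊗ₜ[R] (n₀ + (τ : N))) = e
        rw [TensorProduct.tmul_add, hw, add_sub_cancel]
        exact hz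
      · show δ (n₀ + (τ : N)) = δ n₀
        rw [map_add, show δ (τ : N) = 0 from τ.2, add_zero]

end Groth.Agent.S2010
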