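import Groth.Statements.S2011
import Mathlib

set_option autoImplicit false
universe u
open EtAlg

namespace Groth.Agent.S2011

/-- if a nonzero element of a Noetherian domain lies in all nonzero primes, they are all maximal -/
lemma no_chain {D : Type u} [CommRing D] [IsDomain D] [IsNoetherianRing D] {h : D}
    (hall : ∀ P : Ideal D, P.IsPrime → P ≠ ⊥ → h ∈ P) (h0 : h ≠ 0) {P Q : Ideal D}
    [P.IsPrime] [Q.IsPrime] (hP : P ≠ ⊥) (hPQ : P < Q) : False := by
  have key : ∀ {P' R : Ideal D} [P'.IsPrime] [R.IsPrime], P' ≠ ⊥ → P' < R → R.height ≤ 1 → False := by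
    intro P' R _ _ hP' hlt hR
    haveI : R.FiniteHeight := R.finiteHeight_iff.2 (Or.inr (hR.trans_lt ENat.one_lt_top).ne)
    have h1 : P'.height < R.height := Ideal.height_strict_mono_of_isPrime_of_isPrime hlt
    have h2 : (⊥ : Ideal D).height < P'.height := by
      haveI : P'.FiniteHeight := P'.finiteHeight_iff.2
        (Or.inr ((h1.trans_le hR).trans ENat.one_lt_top).ne)
      haveI : (⊥ : Ideal D).IsPrime := Ideal.isPrime_bot
      exact Ideal.height_strict_mono_of_isPrime_of_isPrime (bot_lt_iff_ne_bot.2 hP')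
    rw [Ideal.height_bot] at h2
    exact absurd ((ENat.add_one_le_iff (by simp)).2 h2 |>.trans_lt (h1.trans_le hR))
      (by simp)
  -- minimal primes of `h`
  set S := (Ideal.span {h}).minimalPrimes
  have hfin : S.Finite := Ideal.finite_minimalPrimes_of_isNoetherianRing D _
  have hQS : ¬ ((Q : Set D) ⊆ ⋃ R ∈ S, (R : Set D)) := by
    intro hsub
    obtain ⟨R, hR, hQR⟩ := (Ideal.subset_union_prime_finite hfin (f := id) ⊥ ⊥
      (fun R hR _ _ ↦ hR.isPrime)).1 hsub
    haveI := hR.isPrime
    exact key (R := R) hP (hPQ.trans_le hQR) (Ideal.height_le_one_of_isPrincipal_of_mem_minimalPrimes _ _ hR)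
  obtain ⟨x, hxQ, hx⟩ := Set.not_subset.1 hQS
  simp only [Set.mem_iUnion, SetLike.mem_coe, exists_prop, not_exists, not_and] at hx
  obtain ⟨R, hR, hRQ⟩ := Ideal.exists_minimalPrimes_le (I := Ideal.span {x}) (J := Q)
    ((Ideal.span_singleton_le_iff_mem _).2 hxQ)
  haveI := hR.isPrime
  have hxR : x ∈ R := hR.le (Ideal.mem_span_singleton_self x)
  have hR0 : R ≠ ⊥ := by
    rintro rfl
    obtain rfl : x = 0 := Ideal.mem_bot.1 hxR
    obtain ⟨R', hR', -⟩ := Ideal.exists_minimalPrimes_le (I := Ideal.span {h}) (J := Q)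
      ((Ideal.span_singleton_le_iff_mem _).2 (hall Q inferInstance (ne_bot_of_gt hPQ)))
    exact hx R' hR' (zero_mem _)
  obtain ⟨R', hR', hle⟩ := Ideal.exists_minimalPrimes_le (I := Ideal.span {h}) (J := R)
    ((Ideal.span_singleton_le_iff_mem _).2 (hall R inferInstance hR0))
  haveI := hR'.isPrime
  have hR'0 : R' ≠ ⊥ := by
    rintro rfl
    exact h0 (Ideal.mem_bot.1 (hR'.le (Ideal.mem_span_singleton_self h)))
  refine key hR'0 (lt_of_le_of_ne hle ?_) (Ideal.height_le_one_of_isPrincipal_of_mem_minimalPrimes _ _ hR)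
  rintro rfl
  exact hx R' hR' hxR

/-- Let A be a Noetherian ring and I an ideal contained in the Jacobson radical of A (a Zariski pair).
Then for every f in I the localization A_f is a Jacobson ring. -/
theorem result (A : Type u) [CommRing A] [IsNoetherianRing A] (I : Ideal A)
    (hI : I ≤ (⊥ : Ideal A).jacobson) (f : A) (hf : f ∈ I) : IsJacobsonRing (Localization.Away f) := by
  classical
  let S := Localization.Away f
  rw [isJacobsonRing_iff_prime_eq]
  intro P hP
  refine le_antisymm ?_ Ideal.le_jacobson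
  intro y hy
  by_contra hyP
  obtain ⟨g, ⟨_, m, rfl⟩, rfl⟩ := IsLocalization.exists_mk'_eq (Submonoid.powers f) y
  set p := P.under A with hp
  have hgP : algebraMap A S g ∉ P := fun h ↦ hyP (by
    rw [← Ideal.mul_unit_mem_iff_mem _ (IsLocalization.map_units S (⟨f ^ m, m, rfl⟩ : Submonoid.powers f)),
      IsLocalization.mk'_spec]
    exact h)
  have hg : g ∉ p := hgP
  have hfp : f ∉ p := fun h ↦ hP.ne_top (Ideal.eq_top_of_isUnit_mem _ h (IsLocalization.Away.algebraMap_isUnit f))
  -- a maximal prime over `p` avoiding `f * g`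
  obtain ⟨q, ⟨hqp, hpq, hfgq⟩, hmax⟩ :=
    IsWellFounded.wf (r := ((· > ·) : Ideal A → Ideal A → Prop)).has_min
      {q | q.IsPrime ∧ p ≤ q ∧ f * g ∉ q} ⟨p, inferInstance, le_rfl, fun h ↦
        ((Ideal.IsPrime.mem_or_mem inferInstance h).elim hfp hg)⟩
  haveI := hqp
  have hfq : f ∉ q := fun h ↦ hfgq (q.mul_mem_right g h)
  -- `q` gives a maximal ideal of `A_f`
  have hdisj : Disjoint (Submonoid.powers f : Set A) (q : Set A) :=
    (Ideal.disjoint_powers_iff_notMem f hqp.isRadical).2 hfq
  haveI hq' : (q.map (algebraMap A S)).IsPrime :=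
    IsLocalization.isPrime_of_isPrime_disjoint (Submonoid.powers f) S q hqp hdisj
  have hmaxS : (q.map (algebraMap A S)).IsMaximal := by
    obtain ⟨M, hM, hle⟩ := Ideal.exists_le_maximal _ hq'.ne_top
    suffices M.under A = q by
      have h := IsLocalization.map_comap (Submonoid.powers f) S M
      rw [this] at h
      rwa [h]
    by_contra hne
    have hqM : q < M.under A := lt_of_le_of_ne (Ideal.map_le_iff_le_comap.1 hle) (Ne.symm hne)
    obtain ⟨N, hN, hMN⟩ := Ideal.exists_le_maximal (M.under A) (Ideal.IsPrime.ne_top inferInstance)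
    have hfN : f ∈ N := by
      have := hI hf
      rw [Ideal.jacobson] at this
      exact Ideal.mem_sInf.1 this ⟨bot_le, hN⟩
    have hfM : f ∉ M.under A := fun h ↦ hM.ne_top (Ideal.eq_top_of_isUnit_mem _ h (IsLocalization.Away.algebraMap_isUnit f))
    have hMN' : M.under A < N := lt_of_le_of_ne hMN fun h ↦ hfM (h ▸ hfN)
    -- pass to the domain `A ⧸ q`
    have hk : RingHom.ker (Ideal.Quotient.mk q) = q := Ideal.mk_ker
    have hmapLt : ∀ {I J : Ideal A}, q ≤ I → q ≤ J → I < J → I.map (Ideal.Quotient.mk q) < J.map (Ideal.Quotient.mk q) := by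
      intro I J hI' hJ' hlt
      refine lt_of_le_of_ne (Ideal.map_mono hlt.le) fun h ↦ hlt.ne ?_
      have := congrArg (Ideal.comap (Ideal.Quotient.mk q)) h
      rwa [Ideal.comap_map_of_surjective _ Ideal.Quotient.mk_surjective, Ideal.comap_map_of_surjective _ Ideal.Quotient.mk_surjective,
        ← RingHom.ker_eq_comap_bot, hk, sup_eq_left.2 hI', sup_eq_left.2 hJ'] at this
    haveI : ((M.under A).map (Ideal.Quotient.mk q)).IsPrime :=
      Ideal.map_isPrime_of_surjective Ideal.Quotient.mk_surjective (hk.le.trans hqM.le)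
    haveI : (N.map (Ideal.Quotient.mk q)).IsPrime :=
      Ideal.map_isPrime_of_surjective Ideal.Quotient.mk_surjective (hk.le.trans (hqM.le.trans hMN))
    refine no_chain (h := Ideal.Quotient.mk q (f * g)) (fun P' hP' hP'0 ↦ ?_)
      (fun h ↦ hfgq (Ideal.Quotient.eq_zero_iff_mem.1 h))
      (P := (M.under A).map (Ideal.Quotient.mk q)) (Q := N.map (Ideal.Quotient.mk q)) ?_
      (hmapLt hqM.le (hqM.le.trans hMN) hMN')
    · by_contra hnot
      have hle' : q ≤ P'.comap (Ideal.Quotient.mk q) := fun a ha ↦ by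
        rw [Ideal.mem_comap, Ideal.Quotient.eq_zero_iff_mem.2 ha]; exact zero_mem _
      have hlt : q < P'.comap (Ideal.Quotient.mk q) := lt_of_le_of_ne hle' fun h ↦ hP'0 (by
        rw [← Ideal.map_comap_of_surjective _ Ideal.Quotient.mk_surjective P', ← h, Ideal.map_quotient_self])
      exact hmax _ ⟨hP'.comap _, hpq.trans hle', hnot⟩ hlt
    · intro h0
      have := hmapLt le_rfl hqM.le hqM
      rw [Ideal.map_quotient_self, h0] at this
      exact lt_irrefl _ this
  have hle : P ≤ q.map (algebraMap A S) := by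
    rw [← IsLocalization.map_comap (Submonoid.powers f) S P]
    exact Ideal.map_mono hpq
  rw [Ideal.jacobson] at hy
  have hyq := Ideal.mem_sInf.1 hy ⟨hle, hmaxS⟩
  have : algebraMap A S g ∈ q.map (algebraMap A S) := by
    rw [← IsLocalization.mk'_spec S g (⟨f ^ m, m, rfl⟩ : Submonoid.powers f)]
    exact Ideal.mul_mem_right _ _ hyq
  change g ∈ (q.map (algebraMap A S)).under A at this
  rw [IsLocalization.under_map_of_isPrime_disjoint (Submonoid.powers f) S hqp hdisj] at this
  exact hfgq (q.mul_mem_left f this)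

end Groth.Agent.S2011
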