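import Groth.Statements.S2012
import Groth.Agent.Hensel.Basic
import Mathlib

set_option autoImplicit false
universe u
open EtAlg

namespace Groth.Agent.S2012

/-- Let A be a ring and I an ideal contained in its Jacobson radical. Let B be an A-algebra which is
flat, integral and of finite presentation over A and such that A/I -> B/IB is bijective. Then A -> B
is bijective. -/
theorem result (A B : Type u) [CommRing A] [CommRing B] [Algebra A B]
    (I : Ideal A) (hI : I ≤ (⊥ : Ideal A).jacobson) [Module.Flat A B] [Algebra.IsIntegral A B] [Algebra.FinitePresentation A B]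
    (hq : Function.Bijective (Ideal.quotientMap (I.map (algebraMap A B)) (algebraMap A B) Ideal.le_comap_map)) :
    Function.Bijective (algebraMap A B) := by
  haveI : Algebra.FiniteType A B := inferInstance
  haveI : Module.Finite A B := Algebra.IsIntegral.finite
  haveI : Module.FinitePresentation A B := (Module.FinitePresentation.iff_finitePresentation_of_finite A B).mpr inferInstance
  haveI : Module.Projective A B := Module.Flat.projective_of_finitePresentation
  have hsurj : Function.Surjective (Algebra.linearMap A B) := by
    rw [← LinearMap.range_eq_top, eq_top_iff]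
    refine Submodule.le_of_le_smul_of_le_jacobson_bot Module.Finite.fg_top hI fun b _ => ?_
    obtain ⟨x, hx⟩ := hq.2 (Ideal.Quotient.mk _ b)
    obtain ⟨a, rfl⟩ := Ideal.Quotient.mk_surjective x
    rw [Ideal.quotientMap_mk, eq_comm, Ideal.Quotient.eq] at hx
    rw [← add_sub_cancel (algebraMap A B a) b]
    refine Submodule.add_mem_sup ⟨a, rfl⟩ ?_
    rw [Ideal.smul_top_eq_map]
    exact hx
  obtain ⟨σ, hσ⟩ := Module.projective_lifting_property (Algebra.linearMap A B) LinearMap.id hsurj
  have hσ' : ∀ b : B, algebraMap A B (σ b) = b := fun b => LinearMap.congr_fun hσ b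
  refine ⟨?_, hsurj⟩
  rw [injective_iff_map_eq_zero]
  intro a ha
  have he0 : (1 : A) - σ 1 = 0 := by
    have hidem : IsIdempotentElem (1 - σ 1) := by
      have h : (1 - σ 1) * σ 1 = 0 := by
        rw [← smul_eq_mul, ← map_smul, Algebra.smul_def, mul_one, map_sub, map_one, hσ', sub_self, map_zero]
      show _ * _ = _
      rw [mul_sub, mul_one, h, sub_zero]
    have hmem : 1 - σ 1 ∈ I := by
      rw [← Ideal.Quotient.eq_zero_iff_mem]
      refine hq.1 ?_
      rw [map_zero, Ideal.quotientMap_mk, map_sub, map_one, hσ', sub_self, map_zero]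
    exact Groth.Agent.Hensel.eq_zero_of_mem_jacobson_of_isIdempotentElem hidem (hI hmem)
  have h : a * σ 1 = 0 := by
    rw [← smul_eq_mul, ← map_smul, Algebra.smul_def, mul_one, ha, map_zero]
  rw [sub_eq_zero.mp he0.symm.symm |>.symm, mul_one] at h
  exact h

end Groth.Agent.S2012
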