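import Groth.Statements.S2013
import Groth.Agent.RedQuot2013.Basic

set_option autoImplicit false
universe u
open EtAlg

namespace Groth.Agent.S2013

/-- Let R be a catenary Noetherian local normal domain and J a nonzero radical ideal of R. Then J
contains a nonzero element f such that R/fR is reduced. (The source does not say 'nonzero ideal' but
its conclusion requires it.) -/
theorem result (R : Type u) [CommRing R] [IsDomain R] [IsNoetherianRing R]
    [IsLocalRing R] [IsIntegrallyClosed R] (hc : CAlg.IsCatenary R) (J : Ideal R) (hJ : J.IsRadical) (hJ0 : J ≠ ⊥) :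
    ∃ f ∈ J, f ≠ 0 ∧ IsReduced (R ⧸ Ideal.span {f}) := by
  classical
  obtain ⟨f₀, hf₀J, hf₀⟩ := Submodule.exists_mem_ne_zero_of_ne_bot hJ0
  have hP₀ := (Ideal.span {f₀}).finite_minimalPrimes_of_isNoetherianRing
  by_cases hx : ∃ x ∈ IsLocalRing.maximalIdeal R, ∀ p ∈ (Ideal.span {f₀}).minimalPrimes, x ∉ p
  · obtain ⟨x, hx, hxP⟩ := hx
    have h2 : ∀ r : Ideal R, r.IsPrime → Ideal.span {f₀} ⊔ Ideal.span {x} ≤ r → 1 < r.height := by
      intro r hr hle
      by_contra hlt
      have hfr : f₀ ∈ r := hle (Ideal.mem_sup_left (Ideal.mem_span_singleton_self f₀))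
      have hxr : x ∈ r := hle (Ideal.mem_sup_right (Ideal.mem_span_singleton_self x))
      obtain ⟨p, hp, hpr⟩ := Ideal.exists_minimalPrimes_le ((Ideal.span_singleton_le_iff_mem _).2 hfr)
      rcases eq_or_lt_of_le hpr with rfl | hlt'
      · exact hxP p hp hxr
      · haveI := hp.1.1
        haveI := hr
        have := (Ideal.height_strict_mono_of_isPrime hlt').trans_le (le_of_not_gt hlt)
        rw [RedQuot2013.height_eq_one_of_mem_minimalPrimes hf₀ hp] at this
        exact lt_irrefl _ this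
    obtain ⟨N, hN⟩ := RedQuot2013.ncard_le hc hx _ h2
    let T : Set ℕ := {m | ∃ f ∈ J, f ≠ 0 ∧
      Ideal.span {f} ⊔ Ideal.span {x} = Ideal.span {f₀} ⊔ Ideal.span {x} ∧
      (Ideal.span {f}).minimalPrimes.ncard = m}
    have hT : T.Nonempty := ⟨_, f₀, hf₀J, hf₀, rfl, rfl⟩
    have hb : BddAbove T := ⟨N, fun m ⟨f, _, hf, hK, hm⟩ => hm ▸ hN f hf hK⟩
    obtain ⟨f, hfJ, hf, hK, hm⟩ := Nat.sSup_mem hT hb
    refine ⟨f, hfJ, hf, RedQuot2013.isReduced_of_forall hf fun p hp h1 hfp => ?_⟩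
    by_contra hbad
    obtain ⟨f', hf'J, hf', hK', hss⟩ := RedQuot2013.exists_more hJ hfJ hf hx
      (fun r hr h1 h1' => h2 r hr (hK ▸ sup_le ((Ideal.span_singleton_le_iff_mem _).2 h1)
        ((Ideal.span_singleton_le_iff_mem _).2 h1'))) p h1 hfp hbad
    have hle : (Ideal.span {f'}).minimalPrimes.ncard ≤ sSup T :=
      le_csSup hb ⟨f', hf'J, hf', hK'.trans hK, rfl⟩
    rw [← hm] at hle
    exact hle.not_gt (Set.ncard_lt_ncard hss (Ideal.span {f'}).finite_minimalPrimes_of_isNoetherianRing)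
  · push Not at hx
    obtain ⟨p, hp, hmp⟩ : ∃ p ∈ hP₀.toFinset, IsLocalRing.maximalIdeal R ≤ p := by
      refine (Ideal.subset_union_prime (f := id) ⊥ ⊥ fun i hi _ _ => (hP₀.mem_toFinset.1 hi).1.1).1 ?_
      intro x hxm
      obtain ⟨p, hp, hxp⟩ := hx x hxm
      exact Set.mem_biUnion (hP₀.mem_toFinset.2 hp) hxp
    rw [hP₀.mem_toFinset] at hp
    haveI := hp.1.1
    obtain rfl : p = IsLocalRing.maximalIdeal R :=
      le_antisymm (IsLocalRing.le_maximalIdeal hp.1.1.ne_top) hmp
    have h1 := RedQuot2013.height_eq_one_of_mem_minimalPrimes hf₀ hp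
    have hne : IsLocalRing.maximalIdeal R ≠ ⊥ := Ideal.ne_bot_of_height_eq_one h1
    have hnf : ¬ IsField R := fun h => hne (IsLocalRing.isField_iff_maximalIdeal_eq.1 h)
    have key : IsDiscreteValuationRing R ↔ IsIntegrallyClosed R ∧ ∃! P : Ideal R, P ≠ ⊥ ∧ P.IsPrime :=
      (IsDiscreteValuationRing.TFAE R hnf).out 0 3
    haveI : IsDiscreteValuationRing R := key.2 ⟨inferInstance, IsLocalRing.maximalIdeal R,
      ⟨hne, inferInstance⟩, fun P hP => by
        by_contra hPne
        haveI := hP.2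
        have hlt := Ideal.height_strict_mono_of_isPrime
          (lt_of_le_of_ne (IsLocalRing.le_maximalIdeal hP.2.ne_top) hPne)
        rw [h1, Order.lt_one_iff, Ideal.height_eq_zero_iff,
          IsDomain.minimalPrimes_eq_singleton_bot] at hlt
        exact hP.1 hlt⟩
    obtain ⟨π, hπ⟩ := IsDiscreteValuationRing.exists_irreducible R
    obtain ⟨n, hn⟩ := IsDiscreteValuationRing.ideal_eq_span_pow_irreducible hJ0 hπ
    refine ⟨π, hJ ⟨n, hn ▸ Ideal.mem_span_singleton_self _⟩, hπ.ne_zero, ?_⟩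
    rw [← Ideal.isRadical_iff_quotient_reduced, ← hπ.maximalIdeal_eq]
    exact Ideal.IsPrime.isRadical inferInstance

end Groth.Agent.S2013
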