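import Groth.Statements.S2014
import Mathlib
import Groth.Agent.MultBound.OneDim

set_option autoImplicit false
universe u
open EtAlg

namespace Groth.Agent.S2014

/-- Let R be a Noetherian local ring of Krull dimension 1 and x an element of the maximal ideal
contained in no minimal prime of R. Then the number of minimal prime ideals of R is at most the
length of R/xR as an R-module. -/
theorem result (R : Type u) [CommRing R] [IsNoetherianRing R] [IsLocalRing R]
    (hdim : ringKrullDim R = 1) (x : R) (hx : x ∈ IsLocalRing.maximalIdeal R) (hmin : ∀ p ∈ minimalPrimes R, x ∉ p) :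
    (Set.ncard (minimalPrimes R) : ℕ∞) ≤ Module.length R (R ⧸ Ideal.span {x}) := by
  classical
  have hfin : (minimalPrimes R).Finite := minimalPrimes.finite_of_isNoetherianRing R
  have hk : Ring.KrullDimLE 1 R := Ring.krullDimLE_iff.mpr hdim.le
  have hmax : ∀ Q : Ideal R, Q.IsPrime → x ∈ Q → Q = IsLocalRing.maximalIdeal R := by
    intro Q hQ hxQ
    rcases Ring.krullDimLE_one_iff.mp hk Q hQ with h | h
    · exact absurd hxQ (hmin Q h)
    · exact IsLocalRing.eq_maximalIdeal h
  let S : Finset (PrimeSpectrum R) := hfin.toFinset.attach.map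
    ⟨fun p => ⟨p.1, (hfin.mem_toFinset.mp p.2).1.1⟩, fun p q h => Subtype.ext (congrArg PrimeSpectrum.asIdeal h)⟩
  have hS : ∀ P ∈ S, P.asIdeal ≠ IsLocalRing.maximalIdeal R := by
    intro P hP h
    obtain ⟨p, -, rfl⟩ := Finset.mem_map.mp hP
    exact hmin p.1 (hfin.mem_toFinset.mp p.2) (by rw [show p.1 = IsLocalRing.maximalIdeal R from h]; exact hx)
  refine le_trans ?_ (Groth.Agent.MultBound.sum_length_le hx hmax S hS)
  calc ((minimalPrimes R).ncard : ℕ∞) = ∑ _P ∈ S, (1 : ℕ∞) := by
        rw [Finset.sum_const, Finset.card_map, Finset.card_attach, Set.ncard_eq_toFinset_card _ hfin, nsmul_one]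
    _ ≤ _ := Finset.sum_le_sum fun P _ => Order.one_le_iff_pos.mpr Module.length_pos

end Groth.Agent.S2014
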