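import Groth.Statements.S2016
import Mathlib
import Groth.Agent.ChainRing.Basic

set_option autoImplicit false
universe u
open EtAlg

namespace Groth.Agent.S2016

/-- The map `R/(f) → R_p/(f)` is a localisation. -/
lemma isLocalizedModule_quot {R : Type u} [CommRing R] (p : Ideal R) [p.IsPrime] (a : R) :
    IsLocalizedModule p.primeCompl ((Ideal.span {a}).liftQ
      (((Ideal.span {algebraMap R (Localization.AtPrime p) a}).mkQ.restrictScalars R) ∘ₗ Algebra.linearMap R (Localization.AtPrime p))
      ((Ideal.span_singleton_le_iff_mem _).mpr (by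
        simp only [LinearMap.mem_ker, LinearMap.comp_apply, Algebra.linearMap_apply, LinearMap.restrictScalars_apply,
          Submodule.mkQ_apply, Submodule.Quotient.mk_eq_zero]
        exact Ideal.mem_span_singleton_self _))) where
  map_units s := by
    obtain ⟨u, hu⟩ := IsLocalization.map_units (Localization.AtPrime p) s
    rw [Module.End.isUnit_iff]
    refine ⟨fun x y hxy => ?_, fun y => ⟨(↑u⁻¹ : Localization.AtPrime p) • y, ?_⟩⟩
    · simp only [Module.algebraMap_end_apply, ← algebraMap_smul (Localization.AtPrime p) (s : R), ← hu] at hxy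
      exact (smul_left_cancel_iff u).mp hxy
    · simp only [Module.algebraMap_end_apply, ← algebraMap_smul (Localization.AtPrime p) (s : R), ← hu, smul_smul, Units.mul_inv, one_smul]
  surj y := by
    obtain ⟨z, rfl⟩ := Submodule.Quotient.mk_surjective _ y
    obtain ⟨⟨r, s⟩, hrs⟩ := IsLocalization.surj p.primeCompl z
    refine ⟨(Submodule.Quotient.mk r, s), ?_⟩
    simp only [Submodule.liftQ_apply, LinearMap.comp_apply, Algebra.linearMap_apply, LinearMap.restrictScalars_apply, Submodule.mkQ_apply]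
    rw [Submonoid.smul_def, ← Submodule.Quotient.mk_smul, Algebra.smul_def, mul_comm, hrs]
  exists_of_eq {x y} hxy := by
    obtain ⟨r₁, rfl⟩ := Submodule.Quotient.mk_surjective _ x
    obtain ⟨r₂, rfl⟩ := Submodule.Quotient.mk_surjective _ y
    simp only [Submodule.liftQ_apply, LinearMap.comp_apply, Algebra.linearMap_apply, LinearMap.restrictScalars_apply, Submodule.mkQ_apply,
      Submodule.Quotient.eq, Ideal.mem_span_singleton] at hxy
    obtain ⟨z, hz⟩ := hxy
    obtain ⟨⟨r, s⟩, hrs⟩ := IsLocalization.surj p.primeCompl z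
    have : algebraMap R (Localization.AtPrime p) ((r₁ - r₂) * s) = algebraMap R (Localization.AtPrime p) (a * r) := by
      rw [map_mul, map_mul, map_sub, hz, mul_assoc, hrs]
    obtain ⟨t, ht⟩ := IsLocalization.exists_of_eq (M := p.primeCompl) this
    refine ⟨t * s, ?_⟩
    rw [Submonoid.smul_def, Submonoid.smul_def, ← Submodule.Quotient.mk_smul, ← Submodule.Quotient.mk_smul,
      Submodule.Quotient.eq, Ideal.mem_span_singleton]
    exact ⟨(t : R) * r, by simp only [smul_eq_mul, Submonoid.coe_mul]; linear_combination ht⟩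

/-- Around a maximal ideal a finitely presented module is a summand of a sum of cyclic modules. -/
lemma exists_near {R : Type u} [CommRing R]
    (h : ∀ (m : Ideal R) [m.IsMaximal], ∀ a b : Localization.AtPrime m, a ∣ b ∨ b ∣ a)
    (M : Type u) [AddCommGroup M] [Module R M] [Module.FinitePresentation R M] (m : Ideal R) [m.IsMaximal] :
    ∃ r ∉ m, ∃ (n : ℕ) (f : Fin n → R) (π : ((i : Fin n) → R ⧸ Ideal.span {f i}) →ₗ[R] M)
      (σ : M →ₗ[R] ((i : Fin n) → R ⧸ Ideal.span {f i})), π ∘ₗ σ = r • LinearMap.id := by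
  classical
  let S := m.primeCompl
  let Rm := Localization.AtPrime m
  let Mm := LocalizedModule S M
  let mk := LocalizedModule.mkLinearMap S M
  obtain ⟨n, F, ⟨e⟩⟩ := ChainRing.exists_equiv_of_finitePresentation (h m) Mm
  have hF : ∀ i, ∃ a : R, Ideal.span {F i} = Ideal.span {algebraMap R Rm a} := fun i => by
    obtain ⟨⟨a, s⟩, has⟩ := IsLocalization.surj S (F i)
    exact ⟨a, by rw [← has, Ideal.span_singleton_mul_right_unit (IsLocalization.map_units Rm s)]⟩
  choose a ha using hF
  let e' : Mm ≃ₗ[Rm] ((i : Fin n) → Rm ⧸ Ideal.span {algebraMap R Rm (a i)}) :=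
    e.trans (LinearEquiv.piCongrRight fun i => Submodule.quotEquivOfEq _ _ (ha i))
  have hy : ∀ i, ∃ (z : M) (w : S), mk z = (w : R) • e'.symm (Pi.single i (Submodule.Quotient.mk 1)) ∧ a i • z = 0 := fun i => by
    obtain ⟨⟨x, s⟩, hxs⟩ := IsLocalizedModule.surj S mk (e'.symm (Pi.single i (Submodule.Quotient.mk 1)))
    have h0 : mk (a i • x) = mk 0 := by
      rw [map_smul, ← hxs, map_zero, Submonoid.smul_def, smul_comm, ← algebraMap_smul Rm (a i), ← map_smul e'.symm, ← Pi.single_smul,
        ← Submodule.Quotient.mk_smul, smul_eq_mul, mul_one, (Submodule.Quotient.mk_eq_zero _).mpr (Ideal.mem_span_singleton_self _),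
        Pi.single_zero, map_zero, smul_zero]
    obtain ⟨t, ht⟩ := IsLocalizedModule.exists_of_eq (S := S) (f := mk) h0
    refine ⟨(t : R) • x, t * s, ?_, ?_⟩
    · rw [map_smul, ← hxs, Submonoid.smul_def, smul_smul]; rfl
    · rw [smul_comm]; simpa [Submonoid.smul_def] using ht
  choose z w hz hz0 using hy
  let q : ∀ i, (R ⧸ Ideal.span {a i}) →ₗ[R] (Rm ⧸ Ideal.span {algebraMap R Rm (a i)}) := fun i =>
    (Ideal.span {a i}).liftQ
      (((Ideal.span {algebraMap R Rm (a i)}).mkQ.restrictScalars R) ∘ₗ Algebra.linearMap R Rm)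
      ((Ideal.span_singleton_le_iff_mem _).mpr (by
        simp only [LinearMap.mem_ker, LinearMap.comp_apply, Algebra.linearMap_apply, LinearMap.restrictScalars_apply,
          Submodule.mkQ_apply, Submodule.Quotient.mk_eq_zero]
        exact Ideal.mem_span_singleton_self _))
  let g : ∀ i, M →ₗ[R] (Rm ⧸ Ideal.span {algebraMap R Rm (a i)}) := fun i =>
    ((LinearMap.proj (R := Rm) (φ := fun i => Rm ⧸ Ideal.span {algebraMap R Rm (a i)}) i).restrictScalars R) ∘ₗ (e'.toLinearMap.restrictScalars R) ∘ₗ mk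
  have hσ : ∀ i, ∃ (σ : M →ₗ[R] R ⧸ Ideal.span {a i}) (s : S), q i ∘ₗ σ = s • g i := fun i => by
    have := isLocalizedModule_quot m (a i)
    exact Module.FinitePresentation.exists_lift_of_isLocalizedModule S (q i) (g i)
  choose σ s hσ using hσ
  let τ : ∀ i, (R ⧸ Ideal.span {a i}) →ₗ[R] M := fun i =>
    (Ideal.span {a i}).liftQ (LinearMap.toSpanSingleton R M (z i))
      ((Ideal.span_singleton_le_iff_mem _).mpr (hz0 i))
  have key : ∀ i x, mk (τ i (σ i x)) = ((w i : R) * (s i : R)) • e'.symm (Pi.single i (e' (mk x) i)) := fun i x => by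
    obtain ⟨r, hr⟩ := Submodule.Quotient.mk_surjective _ (σ i x)
    have h1 : (Submodule.Quotient.mk (algebraMap R Rm r) : Rm ⧸ Ideal.span {algebraMap R Rm (a i)}) = (s i : R) • e' (mk x) i := by
      have := LinearMap.congr_fun (hσ i) x
      rw [LinearMap.comp_apply, ← hr] at this
      exact this
    rw [← hr]
    simp only [τ, Submodule.liftQ_apply, LinearMap.toSpanSingleton_apply, map_smul, hz]
    rw [smul_comm, mul_smul]
    refine congrArg ((w i : R) • ·) ?_
    rw [← algebraMap_smul Rm r, ← algebraMap_smul Rm (s i : R), ← map_smul, ← map_smul, ← Pi.single_smul, ← Pi.single_smul,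
      ← Submodule.Quotient.mk_smul, smul_eq_mul, mul_one, algebraMap_smul, h1]
  let c : Fin n → R := fun i => ∏ l ∈ Finset.univ.erase i, ((w l : R) * (s l : R))
  let W : R := ∏ l, ((w l : R) * (s l : R))
  let π : ((i : Fin n) → R ⧸ Ideal.span {a i}) →ₗ[R] M := ∑ i, c i • (τ i ∘ₗ LinearMap.proj i)
  let σ' : M →ₗ[R] ((i : Fin n) → R ⧸ Ideal.span {a i}) := LinearMap.pi σ
  have hcomp : mk ∘ₗ (π ∘ₗ σ') = mk ∘ₗ (W • LinearMap.id) := LinearMap.ext fun x => by
    simp only [LinearMap.comp_apply, π, σ', LinearMap.sum_apply, map_sum, LinearMap.smul_apply, map_smul, LinearMap.proj_apply, LinearMap.pi_apply, key, LinearMap.id_apply, smul_smul, c, W]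
    rw [Finset.sum_congr rfl (fun i hi => by rw [Finset.prod_erase_mul _ _ hi]), ← Finset.smul_sum, ← map_sum, Finset.univ_sum_single, LinearEquiv.symm_apply_apply]
  obtain ⟨t, ht⟩ := Module.Finite.exists_smul_of_comp_eq_of_isLocalizedModule S mk _ _ hcomp
  refine ⟨(t : R) * W, fun hmem => ?_, n, a, (t : R) • π, σ', ?_⟩
  · exact (m.primeCompl.mul_mem t.2 (prod_mem fun l _ => m.primeCompl.mul_mem (w l).2 (s l).2)) hmem
  · rw [LinearMap.smul_comp, mul_smul]; exact ht

/-- Let R be a ring such that for every maximal ideal m and all a, b in R_m, either a divides b or b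
divides a in R_m. Then each finitely presented R-module is a direct summand of a direct sum of
finitely many cyclic modules R/fR. -/
theorem result (R : Type u) [CommRing R]
    (h : ∀ (m : Ideal R) [m.IsMaximal], ∀ a b : Localization.AtPrime m, a ∣ b ∨ b ∣ a)
    (M : Type u) [AddCommGroup M] [Module R M] [Module.FinitePresentation R M] :
    ∃ (n : ℕ) (f : Fin n → R) (N : Type u) (_ : AddCommGroup N) (_ : Module R N),
      Nonempty ((M × N) ≃ₗ[R] ((i : Fin n) → R ⧸ Ideal.span {f i})) := by
  classical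
  choose r hr n f π σ hπσ using fun m : MaximalSpectrum R => exists_near h M m.asIdeal
  have htop : Ideal.span (Set.range r) = ⊤ := by
    by_contra hne
    obtain ⟨m, hm, hle⟩ := Ideal.exists_le_maximal _ hne
    exact hr ⟨m, hm⟩ (hle (Ideal.subset_span ⟨⟨m, hm⟩, rfl⟩))
  obtain ⟨c, hc⟩ := (Finsupp.mem_span_range_iff_exists_finsupp).mp (htop.symm ▸ Submodule.mem_top : (1 : R) ∈ Ideal.span (Set.range r))
  let ε := Fintype.equivFin (Σ m : c.support, Fin (n m.1))
  let P := (i : Fin (Fintype.card (Σ m : c.support, Fin (n m.1)))) → R ⧸ Ideal.span {f (ε.symm i).1.1 (ε.symm i).2}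
  let Q := (p : Σ m : c.support, Fin (n m.1)) → R ⧸ Ideal.span {f p.1.1 p.2}
  let eQ : P ≃ₗ[R] Q := LinearEquiv.piCongrLeft R (fun p : (Σ m : c.support, Fin (n m.1)) => R ⧸ Ideal.span {f p.1.1 p.2}) ε.symm
  let Pr : Q →ₗ[R] M := ∑ m : c.support, c m.1 • (π m.1 ∘ₗ LinearMap.pi fun i => LinearMap.proj (R := R) (φ := fun p : (Σ m : c.support, Fin (n m.1)) => R ⧸ Ideal.span {f p.1.1 p.2}) ⟨m, i⟩)
  let S' : M →ₗ[R] Q := LinearMap.pi fun p => LinearMap.proj (R := R) (φ := fun i => R ⧸ Ideal.span {f p.1.1 i}) p.2 ∘ₗ σ p.1.1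
  have hid : ∀ x, Pr (S' x) = x := fun x => by
    simp only [Pr, LinearMap.sum_apply, LinearMap.smul_apply, LinearMap.comp_apply]
    have h1 : ∀ m : c.support, (LinearMap.pi fun i => LinearMap.proj (R := R) (φ := fun p : (Σ m : c.support, Fin (n m.1)) => R ⧸ Ideal.span {f p.1.1 p.2}) ⟨m, i⟩) (S' x) = σ m.1 x := fun m => rfl
    simp only [h1]
    have h2 : ∀ m : MaximalSpectrum R, π m (σ m x) = r m • x := fun m => LinearMap.congr_fun (hπσ m) x
    simp only [h2, smul_smul]
    rw [← Finset.sum_smul, Finset.sum_coe_sort c.support (fun m => c m * r m)]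
    rw [show ∑ m ∈ c.support, c m * r m = 1 from hc, one_smul]
  let e : (M × LinearMap.ker Pr) ≃ₗ[R] Q :=
    { toFun := fun p => S' p.1 + p.2
      map_add' := fun p q => by simp only [Prod.fst_add, Prod.snd_add, map_add, Submodule.coe_add]; abel
      map_smul' := fun a p => by simp [smul_add]
      invFun := fun q => (Pr q, ⟨q - S' (Pr q), by rw [LinearMap.mem_ker, map_sub, hid, sub_self]⟩)
      left_inv := fun ⟨x, k, hk⟩ => by
        have hk' : Pr k = 0 := hk
        simp [map_add, hid, hk']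
      right_inv := fun q => by simp }
  exact ⟨_, fun i => f (ε.symm i).1.1 (ε.symm i).2, LinearMap.ker Pr, inferInstance, inferInstance, ⟨e.trans eQ.symm⟩⟩

end Groth.Agent.S2016
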