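import Groth.Statements.S2018
-- import your own Groth.Agent.* helpers here

set_option autoImplicit false
universe u
open EtAlg

namespace Groth.Agent.S2018

/-- Let g : A' -> A be a surjective ring map and f : B -> A an integral ring map. Then the projection
from the fibre product B ×_A A' (the equalizer of f ∘ pr₁ and g ∘ pr₂ in B × A') to A' is integral. -/
theorem result (A A' B : Type u) [CommRing A] [CommRing A'] [CommRing B] (g : A' →+* A)
    (hg : Function.Surjective g) (f : B →+* A) (hf : f.IsIntegral) :
    ((RingHom.snd B A').comp ((f.comp (RingHom.fst B A')).eqLocus (g.comp (RingHom.snd B A'))).subtype).IsIntegral := by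
  rintro a'
  obtain ⟨P, hP, hP0⟩ := hf (g a')
  -- lift the coefficients of `P` to the fibre product
  let S := (f.comp (RingHom.fst B A')).eqLocus (g.comp (RingHom.snd B A'))
  choose l hl using hg
  let c : ℕ → S := fun i => ⟨(P.coeff i, l (f (P.coeff i))), by
    show f (P.coeff i) = g (l (f (P.coeff i))); rw [hl]⟩
  let n := P.natDegree
  let π : S →+* A' := (RingHom.snd B A').comp S.subtype
  let Q : Polynomial S := Polynomial.X ^ n + ∑ i ∈ Finset.range n, Polynomial.C (c i) * Polynomial.X ^ i
  set v := Q.eval₂ π a' with hv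
  have hgv : g v = 0 := by
    have h1 : P.eval₂ f (g a') = g v := by
      conv_lhs => rw [hP.as_sum]
      simp only [hv, Q, Polynomial.eval₂_add, Polynomial.eval₂_X_pow, Polynomial.eval₂_finsetSum,
        Polynomial.eval₂_mul, Polynomial.eval₂_C, map_add, map_sum, map_mul, map_pow, n]
      congr 1
      refine Finset.sum_congr rfl fun i _ => ?_
      show f (P.coeff i) * _ = g (l (f (P.coeff i))) * _
      rw [hl]
    rw [← h1, hP0]
  let s : S := ⟨(0, v), by show f 0 = g v; rw [map_zero, hgv]⟩
  by_cases hn : n = 0
  · -- then `A` is trivial, and everything is in the image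
    have h0 : f 0 = g a' := by
      have h10 : (1 : A) = 0 := by
        rwa [show P = 1 from Polynomial.eq_one_of_monic_natDegree_zero hP hn, Polynomial.eval₂_one] at hP0
      rw [← mul_one (f 0), ← mul_one (g a'), h10, mul_zero, mul_zero]
    refine ⟨Polynomial.X - Polynomial.C (⟨(0, a'), h0⟩ : S), Polynomial.monic_X_sub_C _, ?_⟩
    rw [Polynomial.eval₂_sub, Polynomial.eval₂_X, Polynomial.eval₂_C]; exact sub_self a'
  refine ⟨Q - Polynomial.C s, ?_, ?_⟩
  · simp only [Q, add_sub_assoc]
    refine Polynomial.monic_X_pow_add ((Polynomial.degree_sub_le _ _).trans_lt (max_lt ?_ ?_))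
    · exact (Polynomial.degree_sum_le _ _).trans_lt ((Finset.sup_lt_iff (WithBot.bot_lt_coe n)).mpr fun i hi =>
        (Polynomial.degree_C_mul_X_pow_le _ _).trans_lt (WithBot.coe_lt_coe.mpr (Finset.mem_range.mp hi)))
    · exact Polynomial.degree_C_le.trans_lt (WithBot.coe_lt_coe.mpr (Nat.pos_of_ne_zero hn))
  · rw [Polynomial.eval₂_sub, Polynomial.eval₂_C]
    show Q.eval₂ π a' - π s = 0
    exact sub_eq_zero.mpr rfl

end Groth.Agent.S2018
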