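import Groth.Statements.S2023
import Groth.Agent.SmoothingLib.IndNilp

set_option autoImplicit false
universe u
open Smoothing

namespace Groth.Agent.S2023

open MvPolynomial Groth.Agent.SmoothingLib.IndNilp

/-- Let `I` be an ideal of square zero in `R` and `Λ` an `R`-algebra with `Λ/IΛ` ind-smooth over `R/I`.
Any `R`-algebra map `A → Λ` with `A` finitely presented factors through a quotient `B/J`, where `B`
is a smooth `R`-algebra and `J` is a finitely generated ideal contained in `IB`. -/
theorem result {R Λ A : Type u} [CommRing R] [CommRing Λ] [Algebra R Λ] (I : Ideal R)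
    (hI : I ^ 2 = ⊥) (h : Smoothing.IndSmooth (R ⧸ I) (Λ ⧸ I.map (algebraMap R Λ)))
    [CommRing A] [Algebra R A] [Algebra.FinitePresentation R A] (φ : A →ₐ[R] Λ) :
    ∃ (B : Type u) (_ : CommRing B) (_ : Algebra R B), Algebra.Smooth R B ∧
      ∃ J : Ideal B, J ≤ I.map (algebraMap R B) ∧ J.FG ∧
        ∃ (g : A →ₐ[R] B ⧸ J) (k : (B ⧸ J) →ₐ[R] Λ), k.comp g = φ := by
  classical
  have hnil : IsNilpotent I := ⟨2, by rw [hI]; rfl⟩
  obtain ⟨n, π, hπ, hfg⟩ := ‹Algebra.FinitePresentation R A›.out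
  obtain ⟨m, F, hF⟩ := Submodule.fg_iff_exists_fin_generating_family.1 hfg
  have hker : RingHom.ker π.toRingHom = Ideal.span (Set.range F) := hF.symm
  have hev : ∀ p, aeval (fun i => φ (π (X i))) p = φ (π p) := fun p =>
    DFunLike.congr_fun (show (aeval fun i => φ (π (X i))) = φ.comp π from
      algHom_ext fun i => by simp) p
  have hF0 : ∀ j, π (F j) = 0 := fun j => by
    have h1 : F j ∈ Ideal.span (Set.range F) := Ideal.subset_span ⟨j, rfl⟩
    rw [← hker] at h1; exact h1
  obtain ⟨B, _, _, hB, k, b, hb, hkb⟩ := exists_exact (solvable_of_indSmooth I hnil h) _ _ F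
    (fun i => φ (π (X i))) fun j => by rw [hev, hF0, map_zero]; exact zero_mem _
  have hkev : ∀ p, k (aeval b p) = φ (π p) := fun p => by
    rw [← hev, show k (aeval b p) = aeval (fun i => k (b i)) p from
      DFunLike.congr_fun (MvPolynomial.comp_aeval b k) p]
    simp only [hkb]
  let J : Ideal B := Ideal.span (Set.range fun j => aeval b (F j))
  have hle : RingHom.ker π.toRingHom ≤
      RingHom.ker ((Ideal.Quotient.mkₐ R J).comp (aeval b)).toRingHom := by
    rw [hker, Ideal.span_le]
    rintro _ ⟨j, rfl⟩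
    exact Ideal.Quotient.eq_zero_iff_mem.2 (Ideal.subset_span ⟨j, rfl⟩)
  have hkJ : ∀ x ∈ J, k x = 0 := by
    have hJ : J ≤ RingHom.ker k.toRingHom := by
      refine Ideal.span_le.2 ?_
      rintro _ ⟨j, rfl⟩
      show k (aeval b (F j)) = 0
      rw [hkev, hF0, map_zero]
    exact fun x hx => hJ hx
  refine ⟨B, inferInstance, inferInstance, hB, J, Ideal.span_le.2 ?_,
    Submodule.fg_def.2 ⟨_, Set.finite_range _, rfl⟩, AlgHom.liftOfSurjective π hπ _ hle,
    Ideal.Quotient.liftₐ J k hkJ, ?_⟩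
  · rintro _ ⟨j, rfl⟩
    exact hb j
  · refine AlgHom.ext fun a => ?_
    obtain ⟨p, rfl⟩ := hπ a
    rw [AlgHom.comp_apply, AlgHom.liftOfSurjective_apply, ← hkev]
    rfl

end Groth.Agent.S2023
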