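import Groth.Statements.S2035
import Groth.Agent.S4573
import Groth.Agent.S4512
import Groth.Agent.RegLoc.Homological
-- import your own Groth.Agent.* helpers here

set_option autoImplicit false
universe u
open CAlg TensorProduct

namespace Groth.Agent.S2035

/-- Let `k` be a field of characteristic zero and `A` a Noetherian local `k`-algebra. Then `A` is a
regular local ring if and only if `k → A` is formally smooth for the adic topology of the maximal
ideal. -/
theorem result {k A : Type u} [Field k] [CharZero k]
    [CommRing A] [IsLocalRing A] [IsNoetherianRing A] [Algebra k A] :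
    IsRegularLocalRing A ↔ CAlgX.IsAdicFormallySmooth k A (IsLocalRing.maximalIdeal A) := by
  constructor
  · intro h
    haveI : ExpChar k 1 := ExpChar.zero
    refine (Groth.Agent.S4573.result 1).mpr fun k' _ _ _ hk' => ?_
    haveI : IsRegularRing A := Groth.Agent.RegLoc.Homological.isRegularRing
    have hsurj : Function.Surjective (algebraMap k k') := fun x => by
      obtain ⟨c, hc⟩ := hk' x
      exact ⟨c, by simpa using hc⟩
    let e : k ≃ₐ[k] k' := AlgEquiv.ofBijective (Algebra.ofId k k') ⟨(algebraMap k k').injective, hsurj⟩
    exact IsRegularRing.of_ringEquiv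
      ((Algebra.TensorProduct.lid k A).symm.trans (Algebra.TensorProduct.congr e AlgEquiv.refl)).toRingEquiv
  · intro h
    haveI : IsRegularRing (k ⊗[k] A) := (Groth.Agent.S4512.result h).1 k inferInstance
    haveI : IsRegularRing A := IsRegularRing.of_ringEquiv (Algebra.TensorProduct.lid k A).toRingEquiv
    haveI := IsRegularRing.isRegularLocalRing_localization (R := A) (IsLocalRing.maximalIdeal A)
    exact IsRegularLocalRing.of_ringEquiv
      (IsLocalization.atUnits A (IsLocalRing.maximalIdeal A).primeCompl
        (S := Localization.AtPrime (IsLocalRing.maximalIdeal A)) fun x hx => IsLocalRing.notMem_maximalIdeal.mp hx).symm.toRingEquiv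

end Groth.Agent.S2035
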