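import Groth.Statements.S2040
import Groth.Agent.AdicFlat.Fibre
-- import your own Groth.Agent.* helpers here

set_option autoImplicit false
universe u
open CAlg

namespace Groth.Agent.S2040

/-- For a complete Noetherian local ring `A` with residue field `k`, and a complete Noetherian local
`k`-algebra `B` which is formally smooth over `k` for the adic topology of its maximal ideal, there
is a Noetherian complete local ring `C` with a local homomorphism `A → C`, formally smooth for the
adic topology of the maximal ideal of `C`, whose special fibre `C ⊗ k` is isomorphic to `B` over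
`k`. -/
theorem result {A B : Type u} [CommRing A] [IsLocalRing A]
    [IsNoetherianRing A] [IsAdicComplete (IsLocalRing.maximalIdeal A) A] [CommRing B] [IsLocalRing B]
    [IsNoetherianRing B] [IsAdicComplete (IsLocalRing.maximalIdeal B) B]
    [Algebra (IsLocalRing.maximalIdeal A).ResidueField B]
    (hB : CAlgX.IsAdicFormallySmooth (IsLocalRing.maximalIdeal A).ResidueField B (IsLocalRing.maximalIdeal B)) :
    ∃ (C : Type u) (_ : CommRing C) (_ : IsLocalRing C) (_ : Algebra A C),
      IsNoetherianRing C ∧ IsAdicComplete (IsLocalRing.maximalIdeal C) C ∧ IsLocalHom (algebraMap A C) ∧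
        CAlgX.IsAdicFormallySmooth A C (IsLocalRing.maximalIdeal C) ∧
        Nonempty ((IsLocalRing.maximalIdeal A).Fiber C ≃ₐ[(IsLocalRing.maximalIdeal A).ResidueField] B) := by
  classical
  let m := IsLocalRing.maximalIdeal A
  letI : Algebra A B := ((algebraMap m.ResidueField B).comp (algebraMap A m.ResidueField)).toAlgebra
  haveI : IsScalarTower A m.ResidueField B := .of_algebraMap_eq fun _ => rfl
  have hAB : ∀ a ∈ m, algebraMap A B a = 0 := fun a ha => by
    rw [IsScalarTower.algebraMap_apply A m.ResidueField B,
      Ideal.algebraMap_residueField_eq_zero.mpr ha, map_zero]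
  haveI : IsLocalHom (algebraMap A B) := by
    refine ⟨fun a ha => ?_⟩
    by_contra hu
    rw [hAB a hu] at ha
    exact not_isUnit_zero ha
  haveI := (Groth.Agent.S2471.result.mp hB).1
  obtain ⟨C, _, _, _, _, hloc, hC, hflat, π, hπ, hker⟩ :=
    Groth.Agent.AdicFlat.exists_flat_lift (A := A) (B := B) hAB
  haveI := hloc
  haveI := hflat
  have hker' : RingHom.ker π = m.map (algebraMap A C) := hker
  let F : m.Fiber C ≃ₐ[A] B := (Groth.Agent.AdicFlat.quotientEquivFiber A C).symm.trans
    ((Ideal.quotientEquivAlgOfEq A hker'.symm).trans (Ideal.quotientKerAlgEquivOfSurjective hπ))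
  have hF : ∀ c : m.ResidueField, F (algebraMap m.ResidueField (m.Fiber C) c) = algebraMap m.ResidueField B c := by
    intro c
    obtain ⟨x, rfl⟩ := (Ideal.bijective_algebraMap_quotient_residueField m).2 c
    obtain ⟨a, rfl⟩ := Ideal.Quotient.mk_surjective x
    rw [← Ideal.Quotient.algebraMap_eq, ← IsScalarTower.algebraMap_apply A (A ⧸ m) m.ResidueField,
      ← IsScalarTower.algebraMap_apply A m.ResidueField (m.Fiber C),
      ← IsScalarTower.algebraMap_apply A m.ResidueField B]
    exact F.commutes a
  refine ⟨C, inferInstance, inferInstance, inferInstance, inferInstance, hC, hloc, ?_,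
    ⟨AlgEquiv.ofRingEquiv (f := F.toRingEquiv) hF⟩⟩
  refine Groth.Agent.AdicFlat.isAdicFormallySmooth_of_flat
    ((Groth.Agent.AdicFlat.fiber_iff A C).mp ?_)
  have h1 := Groth.Agent.AdicFlat.isAdicFormallySmooth_of_ringEquiv
    (RingEquiv.refl m.ResidueField) F.toRingEquiv.symm (fun c => by
      rw [RingEquiv.symm_apply_eq]
      exact (hF c).symm) _ hB
  rwa [IsLocalRing.map_maximalIdeal_of_surjective F.toRingEquiv.symm.toRingHom
    F.toRingEquiv.symm.surjective] at h1

end Groth.Agent.S2040
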