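import Groth.Statements.S2041
import Groth.Agent.Hens.PairEtNhd
import Groth.Agent.Hensel.Pair
-- import your own Groth.Agent.* helpers here

set_option autoImplicit false
universe u
open CAlg

namespace Groth.Agent.S2041

open Groth.Agent TensorProduct

/-- Elements of `A^h ⊗ B` in `I (A^h ⊗ B)` come from large stages, in `I (S ⊗ B)`. -/
theorem exists_descent {A B : Type u} [CommRing A] [CommRing B] [Algebra A B] {I : Ideal A}
    (x : Hens.PairHenselization A I ⊗[A] B)
    (hx : x ∈ I.map (algebraMap A (Hens.PairHenselization A I ⊗[A] B))) :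
    ∃ F : Finset (Hens.PairHenselization A I), ∀ (S : Type u) [CommRing S] [Algebra A S]
      (θ : S →ₐ[A] Hens.PairHenselization A I), (∀ a ∈ F, a ∈ θ.range) →
        ∃ w ∈ I.map (algebraMap A (S ⊗[A] B)), Algebra.TensorProduct.map θ (AlgHom.id A B) w = x := by
  classical
  have hrange : ∀ y : Hens.PairHenselization A I ⊗[A] B, ∃ F : Finset (Hens.PairHenselization A I),
      ∀ (S : Type u) [CommRing S] [Algebra A S] (θ : S →ₐ[A] Hens.PairHenselization A I),
        (∀ a ∈ F, a ∈ θ.range) → ∃ w, Algebra.TensorProduct.map θ (AlgHom.id A B) w = y := by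
    intro y
    induction y using TensorProduct.induction_on with
    | zero => exact ⟨∅, fun S _ _ θ _ => ⟨0, map_zero _⟩⟩
    | tmul a b =>
      refine ⟨{a}, fun S _ _ θ h => ?_⟩
      obtain ⟨s, hs⟩ := h a (Finset.mem_singleton_self a)
      exact ⟨s ⊗ₜ b, by rw [Algebra.TensorProduct.map_tmul, AlgHom.id_apply]; exact hs ▸ rfl⟩
    | add u v hu hv =>
      obtain ⟨F, hF⟩ := hu
      obtain ⟨G, hG⟩ := hv
      refine ⟨F ∪ G, fun S _ _ θ h => ?_⟩
      obtain ⟨p, hp⟩ := hF S θ fun a ha => h a (Finset.mem_union_left _ ha)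
      obtain ⟨q, hq⟩ := hG S θ fun a ha => h a (Finset.mem_union_right _ ha)
      exact ⟨p + q, by rw [map_add, hp, hq]⟩
  induction hx using Submodule.span_induction with
  | mem y hy =>
    obtain ⟨a, ha, rfl⟩ := hy
    exact ⟨∅, fun S _ _ θ _ => ⟨algebraMap A _ a, Ideal.mem_map_of_mem _ ha, AlgHom.commutes _ a⟩⟩
  | zero => exact ⟨∅, fun S _ _ θ _ => ⟨0, zero_mem _, map_zero _⟩⟩
  | add u v _ _ hu hv =>
    obtain ⟨F, hF⟩ := hu
    obtain ⟨G, hG⟩ := hv
    refine ⟨F ∪ G, fun S _ _ θ h => ?_⟩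
    obtain ⟨p, hp, hpu⟩ := hF S θ fun a ha => h a (Finset.mem_union_left _ ha)
    obtain ⟨q, hq, hqv⟩ := hG S θ fun a ha => h a (Finset.mem_union_right _ ha)
    exact ⟨p + q, add_mem hp hq, by rw [map_add, hpu, hqv]⟩
  | smul c u _ hu =>
    obtain ⟨F, hF⟩ := hu
    obtain ⟨G, hG⟩ := hrange c
    refine ⟨F ∪ G, fun S _ _ θ h => ?_⟩
    obtain ⟨p, hp, hpu⟩ := hF S θ fun a ha => h a (Finset.mem_union_left _ ha)
    obtain ⟨q, hq⟩ := hG S θ fun a ha => h a (Finset.mem_union_right _ ha)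
    exact ⟨q * p, Ideal.mul_mem_left _ _ hp, by rw [map_mul, hpu, hq, smul_eq_mul]⟩


open TensorProduct in
/-- Let `I ⊆ A` be an ideal, `A → B` integral and `ē` an idempotent of `B/IB`. Then there is an étale
`A`-algebra `A'` with `A/I → A'/IA'` bijective and an idempotent of `A' ⊗ B` whose class modulo `I`
agrees with that of any lift of `ē`. -/
theorem result {A B : Type u} [CommRing A] [CommRing B] [Algebra A B]
    [Algebra.IsIntegral A B] (I : Ideal A) (e : B ⧸ I.map (algebraMap A B)) (he : IsIdempotentElem e) :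
    ∃ (A' : Type u) (_ : CommRing A') (_ : Algebra A A'), Algebra.Etale A A' ∧
      Function.Bijective (algebraMap (A ⧸ I) (A' ⧸ I.map (algebraMap A A'))) ∧
      ∃ e' : A' ⊗[A] B, IsIdempotentElem e' ∧
        ∀ b : B, Ideal.Quotient.mk (I.map (algebraMap A B)) b = e →
          e' - 1 ⊗ₜ b ∈ I.map (algebraMap A (A' ⊗[A] B)) := by
  classical
  let Ah := Hens.PairHenselization A I
  let J : Ideal Ah := I.map (algebraMap A Ah)
  obtain ⟨b₀, rfl⟩ := Ideal.Quotient.mk_surjective e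
  have hb : b₀ * b₀ - b₀ ∈ I.map (algebraMap A B) := by
    rw [← Ideal.Quotient.eq, map_mul]
    exact he
  have hJB : J.map (algebraMap Ah (Ah ⊗[A] B)) = I.map (algebraMap A (Ah ⊗[A] B)) := by
    rw [Ideal.map_map, ← IsScalarTower.algebraMap_eq]
  obtain ⟨e₁, he₁, he₁m⟩ := Hensel.exists_isIdempotentElem_lift' (A := Ah) (I := J)
    (B := Ah ⊗[A] B) (e := (1 : Ah) ⊗ₜ b₀) (by
      have := Ideal.mem_map_of_mem
        (Algebra.TensorProduct.includeRight : B →ₐ[A] Ah ⊗[A] B).toRingHom hb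
      rw [Ideal.map_map, AlgHom.toRingHom_eq_coe, AlgHom.comp_algebraMap] at this
      rw [hJB]
      convert this using 1
      simp [TensorProduct.tmul_sub])
  rw [hJB] at he₁m
  obtain ⟨F, hF⟩ := exists_descent _ he₁m
  obtain ⟨S, _, _, hS, θ, hθ⟩ := Hens.exists_pairStage_finset F
  obtain ⟨w, hw, hwm⟩ := hF S θ hθ
  let ι : Algebra S Ah := θ.toRingHom.toAlgebra
  have : IsScalarTower A S Ah := .of_algebraMap_eq fun a => (θ.commutes a).symm
  let z : S ⊗[A] B := (1 ⊗ₜ b₀ + w) * (1 ⊗ₜ b₀ + w) - (1 ⊗ₜ b₀ + w)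
  have hz : Algebra.TensorProduct.map θ (AlgHom.id A B) z = 0 := by
    have h1 : Algebra.TensorProduct.map θ (AlgHom.id A B) (1 ⊗ₜ b₀ + w) = e₁ := by
      rw [map_add, hwm, Algebra.TensorProduct.map_tmul, map_one, AlgHom.id_apply, add_sub_cancel]
    rw [map_sub, map_mul, h1, he₁.eq, sub_self]
  obtain ⟨t, ht, htz⟩ := Hens.PairEtNhd.exists_smul_eq_zero_of_pair (I := I) (S := S) (x := z) (by
    have key : ∀ y : S ⊗[A] B,
        TensorProduct.AlgebraTensorModule.cancelBaseChange A S S Ah B ((1 : Ah) ⊗ₜ[S] y) =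
          Algebra.TensorProduct.map θ (AlgHom.id A B) y := by
      intro y
      induction y using TensorProduct.induction_on with
      | zero => simp
      | tmul s b =>
        rw [TensorProduct.AlgebraTensorModule.cancelBaseChange_tmul, Algebra.TensorProduct.map_tmul,
          Algebra.smul_def, mul_one]
        rfl
      | add u v hu hv => rw [TensorProduct.tmul_add, map_add, map_add, hu, hv]
    apply (TensorProduct.AlgebraTensorModule.cancelBaseChange A S S Ah B).injective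
    rw [key, map_zero, hz])
  obtain ⟨A', _, _, hA', φ, π, -, hu, hker⟩ :=
    Hens.PairEtNhd.exists_etaleNhd ((Hens.pairPoint A I).comp θ) t ht
  let Φ := Algebra.TensorProduct.map φ (AlgHom.id A B)
  refine ⟨A', _, _, hA', Hens.PairEtNhd.bijective_of_point π hker, Φ (1 ⊗ₜ b₀ + w), ?_, fun b hb' => ?_⟩
  · rw [IsIdempotentElem, ← sub_eq_zero, ← map_mul, ← map_sub]
    have h2 : Φ (t ⊗ₜ 1) * Φ z = 0 := by
      rw [← map_mul, show t ⊗ₜ (1 : B) * z = t • z from (Algebra.smul_def t z).symm, htz, map_zero]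
    refine (IsUnit.mul_right_eq_zero ?_).1 h2
    rw [Algebra.TensorProduct.map_tmul, map_one]
    exact hu.map (Algebra.TensorProduct.includeLeft : A' →ₐ[A] A' ⊗[A] B)
  · have hmono : ∀ {T : Type u} [CommRing T] [Algebra A T] (g : T →ₐ[A] A' ⊗[A] B) (x : T),
        x ∈ I.map (algebraMap A T) → g x ∈ I.map (algebraMap A (A' ⊗[A] B)) := by
      intro T _ _ g x hx
      have := Ideal.mem_map_of_mem g.toRingHom hx
      rwa [Ideal.map_map, AlgHom.toRingHom_eq_coe, AlgHom.comp_algebraMap] at this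
    have hd : Φ (1 ⊗ₜ b₀ + w) - 1 ⊗ₜ b = 1 ⊗ₜ (b₀ - b) + Φ w := by
      rw [map_add, TensorProduct.tmul_sub, Algebra.TensorProduct.map_tmul, map_one, AlgHom.id_apply]
      ring
    rw [hd]
    exact add_mem (hmono Algebra.TensorProduct.includeRight _ (Ideal.Quotient.eq.mp hb'.symm))
      (hmono Φ _ hw)

end Groth.Agent.S2041
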