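import Groth.Statements.S2042
import Groth.Agent.Hens.PairEtNhd
import Groth.Agent.Hensel.Factor
import Groth.Agent.Hensel.Pair
-- import your own Groth.Agent.* helpers here

set_option autoImplicit false
universe u
open CAlg

namespace Groth.Agent.S2042

open Groth.Agent


open Polynomial in
/-- Let `I ⊆ A` be an ideal and `f ∈ A[X]` monic whose image in `(A/I)[X]` factors as a product of two
monic polynomials generating the unit ideal. Then over some étale `A`-algebra `A'` with `A/I →
A'/IA'` bijective, `f` factors as a product of two monic polynomials lifting the given factors. -/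
theorem result {A : Type u} [CommRing A] (I : Ideal A) (f : A[X])
    (hf : f.Monic) (g h : (A ⧸ I)[X]) (hg : g.Monic) (hh : h.Monic) (hcop : IsCoprime g h)
    (hfgh : f.map (Ideal.Quotient.mk I) = g * h) :
    ∃ (A' : Type u) (_ : CommRing A') (_ : Algebra A A'), Algebra.Etale A A' ∧
      Function.Bijective (algebraMap (A ⧸ I) (A' ⧸ I.map (algebraMap A A'))) ∧
      ∃ g' h' : A'[X], g'.Monic ∧ h'.Monic ∧ f.map (algebraMap A A') = g' * h' ∧
        g'.map (Ideal.Quotient.mk (I.map (algebraMap A A'))) =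
          g.map (algebraMap (A ⧸ I) (A' ⧸ I.map (algebraMap A A'))) ∧
        h'.map (Ideal.Quotient.mk (I.map (algebraMap A A'))) =
          h.map (algebraMap (A ⧸ I) (A' ⧸ I.map (algebraMap A A'))) := by
  classical
  let Ah := Hens.PairHenselization A I
  let J : Ideal Ah := I.map (algebraMap A Ah)
  let κ : A ⧸ I →+* Ah ⧸ J := Ideal.quotientMap J (algebraMap A Ah) Ideal.le_comap_map
  obtain ⟨G, H, hG, hH, hGH, -, hGm, hHm⟩ := Hensel.exists_factorization_lift
    (Hensel.gabberRoots_of_henselianRing (I := J)) (Hens.map_le_jacobson_pair (A := A) (I := I))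
    (hf.map (algebraMap A Ah)) (hg.map κ) (hh.map κ) (hcop.map (Polynomial.mapRingHom κ)) (by
      rw [← Polynomial.map_mul, ← hfgh, Polynomial.map_map, Polynomial.map_map]
      rfl)
  obtain ⟨S, _, _, hS, θ, hθ⟩ := Hens.exists_pairStage_finset (G.coeffs ∪ H.coeffs)
  have hlift : ∀ P : Ah[X], P.coeffs ⊆ G.coeffs ∪ H.coeffs → P.Monic →
      ∃ P' : S[X], P'.Monic ∧ P'.map θ.toRingHom = P := by
    intro P hP hPm
    have h1 : P ∈ Polynomial.lifts θ.toRingHom := by
      rw [Polynomial.lifts_iff_coeff_lifts]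
      intro n
      by_cases hn : P.coeff n = 0
      · exact ⟨0, by simp [hn]⟩
      · exact hθ _ (hP (Polynomial.coeff_mem_coeffs hn))
    rcases subsingleton_or_nontrivial Ah with hAh | hAh
    · exact ⟨1, Polynomial.monic_one, Subsingleton.elim _ _⟩
    obtain ⟨P', h2, -, h3⟩ := Polynomial.lifts_and_degree_eq_and_monic h1 hPm
    exact ⟨P', h3, h2⟩
  obtain ⟨G', hG'm, hG'⟩ := hlift G Finset.subset_union_left hG
  obtain ⟨H', hH'm, hH'⟩ := hlift H Finset.subset_union_right hH
  let D := f.map (algebraMap A S) - G' * H'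
  have hD : D.map θ.toRingHom = 0 := by
    rw [Polynomial.map_sub, Polynomial.map_mul, hG', hH', Polynomial.map_map,
      show θ.toRingHom.comp (algebraMap A S) = algebraMap A Ah from θ.comp_algebraMap, hGH, sub_self]
  obtain ⟨A', _, _, hA', φ, π, hπθ, hZ, hker, hbij⟩ := Hens.PairEtNhd.exists_etaleNhd_of_eq_zero θ
    (D.coeffs : Set S) (Finset.finite_toSet _) fun z hz => by
      obtain ⟨n, -, rfl⟩ := Polynomial.mem_coeffs_iff.mp hz
      have := congrArg (fun P => Polynomial.coeff P n) hD
      simpa [Polynomial.coeff_map] using this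
  have hcong : ∀ (P : S[X]) (p : (A ⧸ I)[X]),
      (P.map θ.toRingHom).map (Ideal.Quotient.mk J) = p.map κ →
        (P.map φ.toRingHom).map (Ideal.Quotient.mk (I.map (algebraMap A A'))) =
          p.map (algebraMap (A ⧸ I) (A' ⧸ I.map (algebraMap A A'))) := by
    intro P p h
    ext n
    have hn := congrArg (fun P => Polynomial.coeff P n) h
    simp only [Polynomial.coeff_map] at hn ⊢
    obtain ⟨a, ha⟩ := Ideal.Quotient.mk_surjective (p.coeff n)
    rw [← ha] at hn ⊢
    refine Ideal.Quotient.eq.mpr (hker _ ?_)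
    have h1 : θ (P.coeff n) - algebraMap A Ah a ∈ J := Ideal.Quotient.eq.mp hn
    have h2 : Hens.pairPoint A I (θ (P.coeff n) - algebraMap A Ah a) = 0 :=
      (Hens.ker_pairPoint (A := A) (I := I)).ge h1
    rw [map_sub, AlgHom.commutes] at h2
    rw [map_sub, AlgHom.commutes]
    exact (congrArg (· - algebraMap A (A ⧸ I) a) (hπθ _)).trans h2
  refine ⟨A', _, _, hA', hbij, G'.map φ.toRingHom, H'.map φ.toRingHom, hG'm.map _, hH'm.map _,
    ?_, hcong G' g (by rw [hG', hGm]), hcong H' h (by rw [hH', hHm])⟩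
  have hD' : D.map φ.toRingHom = 0 := by
    ext n
    rw [Polynomial.coeff_map, Polynomial.coeff_zero]
    by_cases hn : D.coeff n = 0
    · rw [hn, map_zero]
    · exact hZ _ (Polynomial.coeff_mem_coeffs hn)
  rw [Polynomial.map_sub, Polynomial.map_mul, Polynomial.map_map,
    show φ.toRingHom.comp (algebraMap A S) = algebraMap A A' from φ.comp_algebraMap, sub_eq_zero] at hD'
  exact hD'

end Groth.Agent.S2042
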