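import Groth.Statements.S2043
import Groth.Agent.Hens.PairEtNhd
import Groth.Agent.Hensel.SmoothLift
-- import your own Groth.Agent.* helpers here

set_option autoImplicit false
universe u
open CAlg

namespace Groth.Agent.S2043

open Groth.Agent TensorProduct


/-- Let `I ⊆ A` be an ideal, `B` a smooth `A`-algebra and `B → A/I` an `A`-algebra map. Then there is an
étale `A`-algebra `A'` with `A/I → A'/IA'` bijective and an `A`-algebra map `B → A'` lifting the
given map. -/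
theorem result {A B : Type u} [CommRing A] [CommRing B] [Algebra A B]
    [Algebra.Smooth A B] (I : Ideal A) (σ : B →ₐ[A] A ⧸ I) :
    ∃ (A' : Type u) (_ : CommRing A') (_ : Algebra A A'), Algebra.Etale A A' ∧
      Function.Bijective (algebraMap (A ⧸ I) (A' ⧸ I.map (algebraMap A A'))) ∧
      ∃ τ : B →ₐ[A] A', ∀ b : B,
        Ideal.Quotient.mk (I.map (algebraMap A A')) (τ b) =
          algebraMap (A ⧸ I) (A' ⧸ I.map (algebraMap A A')) (σ b) := by
  classical
  let Ah := Hens.PairHenselization A I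
  let J : Ideal Ah := I.map (algebraMap A Ah)
  let q : (A ⧸ I) →ₐ[A] Ah ⧸ J :=
    Ideal.quotientMapₐ J (Algebra.ofId A Ah) Ideal.le_comap_map
  let σT : Ah ⊗[A] B →ₐ[Ah] Ah ⧸ J :=
    Algebra.TensorProduct.lift (Algebra.ofId Ah (Ah ⧸ J)) (q.comp σ) (fun _ _ => Commute.all _ _)
  obtain ⟨τT, hτT⟩ := Hensel.exists_algHom_lift_smooth (A := Ah) (I := J) (Ah ⊗[A] B) σT
  let τ₀ : B →ₐ[A] Ah := (τT.restrictScalars A).comp Algebra.TensorProduct.includeRight
  have hpt : ∀ b, Hens.pairPoint A I (τ₀ b) = σ b := by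
    intro b
    obtain ⟨a, ha⟩ := Ideal.Quotient.mk_surjective (σ b)
    have h1 : Ideal.Quotient.mk J (τ₀ b) = q (σ b) := by
      refine (AlgHom.congr_fun hτT ((1 : Ah) ⊗ₜ b)).trans ?_
      simp [σT]
    rw [← ha] at h1
    have h2 : τ₀ b - algebraMap A Ah a ∈ J := Ideal.Quotient.eq.mp h1
    have h3 : Hens.pairPoint A I (τ₀ b - algebraMap A Ah a) = 0 :=
      (Hens.ker_pairPoint (A := A) (I := I)).ge h2
    rw [map_sub, AlgHom.commutes, sub_eq_zero] at h3
    exact h3.trans ha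
  obtain ⟨n, f, hf, hker⟩ := ‹Algebra.Smooth A B›.finitePresentation.out
  obtain ⟨r, hr⟩ := hker
  obtain ⟨S, _, _, hS, θ, s, hs⟩ := Hens.PairEtNhd.exists_stage_fun fun k => τ₀ (f (MvPolynomial.X k))
  let ev : MvPolynomial (Fin n) A →ₐ[A] S := MvPolynomial.aeval s
  have hev : θ.comp ev = τ₀.comp f := MvPolynomial.algHom_ext fun k => by simp [ev, hs]
  obtain ⟨A', _, _, hA', φ, π, hπθ, hZ, hkerπ, hbij⟩ := Hens.PairEtNhd.exists_etaleNhd_of_eq_zero θ
    (ev '' (r : Set _)) ((Finset.finite_toSet _).image _) (by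
      rintro _ ⟨p, hp, rfl⟩
      have hp0 : f p = 0 := RingHom.mem_ker.mp (hr ▸ Submodule.subset_span hp)
      rw [← AlgHom.comp_apply, hev, AlgHom.comp_apply, hp0, map_zero])
  have hle : RingHom.ker f ≤ RingHom.ker (φ.comp ev) := by
    refine hr.ge.trans ?_
    exact Ideal.span_le.mpr fun p hp => hZ _ ⟨p, hp, rfl⟩
  let τ : B →ₐ[A] A' := AlgHom.liftOfSurjective f hf (φ.comp ev) hle
  have hτ : ∀ p, τ (f p) = φ (ev p) := fun p => AlgHom.liftOfSurjective_apply f hf _ hle p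
  refine ⟨A', _, _, hA', hbij, τ, fun b => ?_⟩
  obtain ⟨p, rfl⟩ := hf b
  obtain ⟨a, ha⟩ := Ideal.Quotient.mk_surjective (σ (f p))
  have h1 : θ (ev p) = τ₀ (f p) := AlgHom.congr_fun hev p
  rw [← ha, hτ]
  refine Ideal.Quotient.eq.mpr (hkerπ _ ?_)
  rw [map_sub, AlgHom.commutes, hπθ, h1, hpt, ← ha]
  exact sub_self _

end Groth.Agent.S2043
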