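import Groth.Statements.S2044
import Groth.Agent.Hens.PairEtNhd
import Groth.Agent.Hensel.SmoothLift
import Groth.Agent.DispLib.Summand
-- import your own Groth.Agent.* helpers here

set_option autoImplicit false
universe u
open CAlg

namespace Groth.Agent.S2044

open Groth.Agent TensorProduct

/-- The range of an idempotent matrix lifting that of a finite projective module lifts the module. -/
theorem exists_module {A A' : Type u} [CommRing A] (I : Ideal A) (P : Type u) [AddCommGroup P]
    [Module (A ⧸ I) P] [CommRing A'] [Algebra A A'] (π : A' →ₐ[A] A ⧸ I)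
    (hker : ∀ x, π x = 0 → x ∈ I.map (algebraMap A A'))
    (hbij : Function.Bijective (algebraMap (A ⧸ I) (A' ⧸ I.map (algebraMap A A'))))
    {n : ℕ} (π₀ : (Fin n → A ⧸ I) →ₗ[A ⧸ I] P) (s₀ : P →ₗ[A ⧸ I] (Fin n → A ⧸ I))
    (hs : ∀ x, π₀ (s₀ x) = x) (e : Matrix (Fin n) (Fin n) A') (hee : e * e = e)
    (m : Matrix (Fin n) (Fin n) (A ⧸ I)) (hmv : ∀ v, m.mulVec v = s₀ (π₀ v)) (hem : e.map π = m) :
    ∃ (P' : Type u) (_ : AddCommGroup P') (_ : Module A' P'), Module.Finite A' P' ∧
        Module.Projective A' P' ∧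
        Nonempty (((A' ⧸ I.map (algebraMap A A')) ⊗[A'] P') ≃ₗ[A' ⧸ I.map (algebraMap A A')]
          ((A' ⧸ I.map (algebraMap A A')) ⊗[A ⧸ I] P)) := by
  classical
  let C := A' ⧸ I.map (algebraMap A A')
  let ρ : A ⧸ I →+* C := algebraMap (A ⧸ I) C
  have hπI : ∀ x ∈ I.map (algebraMap A A'), π x = 0 := fun x hx => by
    refine (Ideal.map_le_iff_le_comap.mpr (fun a ha => ?_) :
      I.map (algebraMap A A') ≤ RingHom.ker π.toRingHom) hx
    show π (algebraMap A A' a) = 0
    rw [AlgHom.commutes]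
    exact Ideal.Quotient.eq_zero_iff_mem.mpr ha
  have hρπ : ∀ x, ρ (π x) = Ideal.Quotient.mk _ x := fun x => by
    obtain ⟨a, ha⟩ := Ideal.Quotient.mk_surjective (π x)
    rw [← ha]
    refine Ideal.Quotient.eq.mpr (hker _ ?_)
    rw [map_sub, AlgHom.commutes, ← ha]
    exact sub_self _
  let P' : Submodule A' (Fin n → A') := LinearMap.range e.mulVecLin
  have hfix : ∀ x : P', e.mulVec (x : Fin n → A') = x := by
    rintro ⟨_, v, rfl⟩
    simp [Matrix.mulVec_mulVec, hee]
  let pr : (Fin n → A') →ₗ[A'] P' := e.mulVecLin.rangeRestrict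
  have hpr : pr.comp P'.subtype = LinearMap.id := LinearMap.ext fun x => Subtype.ext (hfix x)
  let χ : P' → P := fun x => π₀ fun i => π ((x : Fin n → A') i)
  have hχadd : ∀ x y, χ (x + y) = χ x + χ y := fun x y => by
    refine (congrArg π₀ (funext fun i => ?_)).trans (map_add π₀ _ _)
    simp
  have hχsmul : ∀ (c : A') (x : P'), χ (c • x) = π c • χ x := fun c x => by
    refine (congrArg π₀ (funext fun i => ?_)).trans (map_smul π₀ _ _)
    simp
  let T := C ⊗[A ⧸ I] P
  let f₀ : P' →ₗ[A'] T :=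
    { toFun := fun x => (1 : C) ⊗ₜ[A ⧸ I] χ x
      map_add' := fun x y => by rw [hχadd, TensorProduct.tmul_add]
      map_smul' := fun c x => by
        rw [hχsmul, ← TensorProduct.smul_tmul, RingHom.id_apply, ← algebraMap_smul C c,
          TensorProduct.smul_tmul', Algebra.smul_def (π c) (1 : C), mul_one, smul_eq_mul, mul_one]
        exact congrArg (fun t : C => t ⊗ₜ[A ⧸ I] χ x) (hρπ c) }
  let F : C ⊗[A'] P' →ₗ[C] T := f₀.liftBaseChange C
  have hF : ∀ x, F ((1 : C) ⊗ₜ x) = (1 : C) ⊗ₜ χ x := fun x => by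
    rw [LinearMap.liftBaseChange_tmul, one_smul]
    rfl
  have hone : ∀ z : C ⊗[A'] P', ∃ x, z = (1 : C) ⊗ₜ x := by
    intro z
    induction z using TensorProduct.induction_on with
    | zero => exact ⟨0, (TensorProduct.tmul_zero _ _).symm⟩
    | tmul c x =>
      obtain ⟨c, rfl⟩ := Ideal.Quotient.mk_surjective c
      exact ⟨c • x, by rw [← TensorProduct.smul_tmul, Algebra.smul_def, mul_one]; rfl⟩
    | add u v hu hv =>
      obtain ⟨x, rfl⟩ := hu; obtain ⟨y, rfl⟩ := hv
      exact ⟨x + y, (TensorProduct.tmul_add _ _ _).symm⟩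
  have hπs : Function.Surjective π := fun y => by
    obtain ⟨a, rfl⟩ := Ideal.Quotient.mk_surjective y
    exact ⟨algebraMap A A' a, π.commutes a⟩
  have hsurjχ : Function.Surjective χ := fun p => by
    choose v hv using fun i => hπs (s₀ p i)
    refine ⟨pr v, ?_⟩
    show π₀ (fun i => π (e.mulVec v i)) = p
    have h1 : (fun i => π (e.mulVec v i)) = m.mulVec (s₀ p) := by
      funext i
      have := RingHom.map_mulVec (π : A' →+* A ⧸ I) e v i
      rw [← hem]
      refine this.trans ?_
      simp [Function.comp_def, hv]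
    rw [h1, hmv, hs, hs]
  refine ⟨P', inferInstance, inferInstance, Module.Finite.of_surjective pr e.mulVecLin.surjective_rangeRestrict,
    Module.Projective.of_split P'.subtype pr hpr, ⟨LinearEquiv.ofBijective F
      ⟨(injective_iff_map_eq_zero F).mpr fun z hz => ?_, fun y => ?_⟩⟩⟩
  · obtain ⟨x, rfl⟩ := hone z
    rw [hF] at hz
    let back : C ⊗[A ⧸ I] P →ₗ[A ⧸ I] P := (TensorProduct.lid (A ⧸ I) P).toLinearMap ∘ₗ
      (LinearEquiv.ofBijective (Algebra.linearMap (A ⧸ I) C) hbij).symm.toLinearMap.rTensor P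
    have hχ0 : χ x = 0 := by
      have := congrArg back hz
      have h1 : (LinearEquiv.ofBijective (Algebra.linearMap (A ⧸ I) C) hbij).symm 1 = 1 := by
        rw [LinearEquiv.symm_apply_eq]
        exact (map_one ρ).symm
      simpa [back, h1] using this
    have hw : ∀ i, π ((x : Fin n → A') i) = 0 := fun i => by
      have h2 : (fun i => π ((x : Fin n → A') i)) = m.mulVec fun i => π ((x : Fin n → A') i) := by
        funext i
        rw [← hem]
        conv_lhs => rw [← hfix x]
        exact RingHom.map_mulVec (π : A' →+* A ⧸ I) e _ i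
      rw [hmv, show π₀ (fun i => π ((x : Fin n → A') i)) = 0 from hχ0, map_zero] at h2
      exact congrFun h2 i
    have hx : x ∈ I.map (algebraMap A A') • (⊤ : Submodule A' P') := by
      rw [show x = pr (x : Fin n → A') from (LinearMap.congr_fun hpr x).symm, DispLib.pi_apply_eq_sum pr]
      exact Submodule.sum_mem _ fun i _ => Submodule.smul_mem_smul (hker _ (hw i)) Submodule.mem_top
    refine Submodule.smul_induction_on hx (fun a ha y _ => ?_) fun u v hu hv => by
      rw [TensorProduct.tmul_add, hu, hv, add_zero]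
    rw [← TensorProduct.smul_tmul, Algebra.smul_def, mul_one, Ideal.Quotient.algebraMap_eq,
      Ideal.Quotient.eq_zero_iff_mem.mpr ha, TensorProduct.zero_tmul]
  · induction y using TensorProduct.induction_on with
    | zero => exact ⟨0, map_zero F⟩
    | tmul c p =>
      obtain ⟨x, rfl⟩ := hsurjχ p
      exact ⟨c ⊗ₜ x, by rw [LinearMap.liftBaseChange_tmul]; show c • ((1 : C) ⊗ₜ[A ⧸ I] χ x) = _; rw [TensorProduct.smul_tmul', smul_eq_mul, mul_one]⟩
    | add u v hu hv =>
      obtain ⟨a, rfl⟩ := hu; obtain ⟨b, rfl⟩ := hv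
      exact ⟨a + b, map_add F a b⟩


open TensorProduct in
/-- Let `I ⊆ A` be an ideal and `P` a finite projective `A/I`-module. Then there is an étale `A`-algebra
`A'` with `A/I → A'/IA'` bijective and a finite projective `A'`-module whose reduction modulo `IA'`
is the base change of `P`. -/
theorem result {A : Type u} [CommRing A] (I : Ideal A) (P : Type u)
    [AddCommGroup P] [Module (A ⧸ I) P] [Module.Finite (A ⧸ I) P] [Module.Projective (A ⧸ I) P] :
    ∃ (A' : Type u) (_ : CommRing A') (_ : Algebra A A'), Algebra.Etale A A' ∧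
      Function.Bijective (algebraMap (A ⧸ I) (A' ⧸ I.map (algebraMap A A'))) ∧
      ∃ (P' : Type u) (_ : AddCommGroup P') (_ : Module A' P'), Module.Finite A' P' ∧
        Module.Projective A' P' ∧
        Nonempty (((A' ⧸ I.map (algebraMap A A')) ⊗[A'] P') ≃ₗ[A' ⧸ I.map (algebraMap A A')]
          ((A' ⧸ I.map (algebraMap A A')) ⊗[A ⧸ I] P)) := by
  classical
  obtain ⟨n, π₀, s₀, hs⟩ := DispLib.exists_retraction (A := A ⧸ I) (M := P)
  have hs' : ∀ x, π₀ (s₀ x) = x := LinearMap.congr_fun hs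
  let Ah := Hens.PairHenselization A I
  let J : Ideal Ah := I.map (algebraMap A Ah)
  let κ : A ⧸ I →+* Ah ⧸ J := Ideal.quotientMap J (algebraMap A Ah) Ideal.le_comap_map
  let m := LinearMap.toMatrix' (s₀.comp π₀)
  have hmv : ∀ v, m.mulVec v = s₀ (π₀ v) := fun v => by
    rw [← Matrix.toLin'_apply, Matrix.toLin'_toMatrix']; rfl
  have hmm : m * m = m := by
    rw [← LinearMap.toMatrix'_comp]
    congr 1
    exact LinearMap.ext fun v => congrArg s₀ (hs' (π₀ v))
  choose N hN using fun i j => Ideal.Quotient.mk_surjective (m i j)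
  let m' : Matrix (ULift.{u} (Fin n)) (ULift.{u} (Fin n)) Ah :=
    Matrix.of fun i j => algebraMap A Ah (N i.down j.down)
  have hm' : m'.map (Ideal.Quotient.mk J) = (m.map κ).submatrix Equiv.ulift Equiv.ulift := by
    ext i j
    show Ideal.Quotient.mk J (algebraMap A Ah (N i.down j.down)) = κ (m i.down j.down)
    rw [← hN]
    rfl
  obtain ⟨M, hM, hMN⟩ := Hensel.exists_isIdempotentElem_matrix (I := J) m' (by
    rw [IsIdempotentElem, hm', Matrix.submatrix_mul_equiv, ← Matrix.map_mul, hmm])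
  obtain ⟨S, _, _, hS, θ, s, hsM⟩ := Hens.PairEtNhd.exists_stage_fun
    fun ij : Fin n × Fin n => M ⟨ij.1⟩ ⟨ij.2⟩
  let E : Matrix (Fin n) (Fin n) S := Matrix.of fun i j => s (i, j)
  have hE : E.map θ = M.submatrix Equiv.ulift.symm Equiv.ulift.symm := by
    ext i j
    exact hsM (i, j)
  have hEE : ∀ i j, θ ((E * E - E) i j) = 0 := fun i j => by
    have h1 : (E * E - E).map θ = 0 := by
      rw [Matrix.map_sub _ (map_sub θ), Matrix.map_mul, hE, Matrix.submatrix_mul_equiv, hM.eq, sub_self]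
    exact congrFun (congrFun h1 i) j
  obtain ⟨A', _, _, hA', φ, π, hπθ, hZ, hker, hbij⟩ := Hens.PairEtNhd.exists_etaleNhd_of_eq_zero θ
    (Set.range fun ij : Fin n × Fin n => (E * E - E) ij.1 ij.2) (Set.finite_range _) (by
      rintro _ ⟨⟨i, j⟩, rfl⟩
      exact hEE i j)
  let e : Matrix (Fin n) (Fin n) A' := E.map φ
  have hee : e * e = e := by
    rw [← sub_eq_zero, ← Matrix.map_mul, ← Matrix.map_sub _ (map_sub φ)]
    ext i j
    exact hZ _ ⟨(i, j), rfl⟩
  have hem : e.map π = m := by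
    ext i j
    show π (φ (s (i, j))) = m i j
    rw [hπθ, hsM]
    have h1 : M ⟨i⟩ ⟨j⟩ - algebraMap A Ah (N i j) ∈ J :=
      Ideal.Quotient.eq.mp (congrFun (congrFun hMN ⟨i⟩) ⟨j⟩)
    have h2 : Hens.pairPoint A I (M ⟨i⟩ ⟨j⟩ - algebraMap A Ah (N i j)) = 0 :=
      (Hens.ker_pairPoint (A := A) (I := I)).ge h1
    rw [map_sub, AlgHom.commutes, sub_eq_zero] at h2
    exact h2.trans (hN i j)
  exact ⟨A', _, _, hA', hbij, exists_module I P π hker hbij π₀ s₀ hs' e hee m hmv hem⟩

end Groth.Agent.S2044
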