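import Groth.Statements.S2046
import Groth.Agent.AdicFlat.Andre
import Groth.Agent.Hensel.ExcellentHens
import Groth.Agent.Hensel.RegularHom
import Groth.Agent.Hensel.EtLike
import Groth.Agent.S1962
-- import your own Groth.Agent.* helpers here

set_option autoImplicit false
universe u
open CAlg

namespace Groth.Agent.S2046

/-- If `R` is a Noetherian local G-ring then its strict henselization is a G-ring. -/
theorem result {R S : Type u} [CommRing R] [IsLocalRing R] [IsNoetherianRing R]
    (hR : CAlg.IsGRing R) [CommRing S] [IsLocalRing S] [Algebra R S] [IsLocalHom (algebraMap R S)]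
    [Hensel.IsStrictHenselization R S] : CAlg.IsGRing S := by
  have h := Groth.Agent.Hensel.isEtLike_of_isStrictHenselization R S
  haveI := h.isNoetherianRing_of_base
  haveI := h.flat
  haveI : Algebra.FormallyEtale R S := Groth.Agent.S1962.result R S
  haveI := Groth.Agent.RegLoc.Completion.isNoetherianRing_adicCompletion' (IsLocalRing.maximalIdeal S)
  haveI : IsLocalHom (algebraMap R (EGA4.Cpl S)) :=
    ((IsLocalRing.local_hom_TFAE (algebraMap R (EGA4.Cpl S))).out 0 2 rfl rfl).mpr
      (Groth.Agent.EGA4Lib.map_maximalIdeal_cpl_le R S)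
  refine (Groth.Agent.Hensel.isGRing_iff_isRegularHom_cpl S).2 ((h.isRegularHom_iff (EGA4.Cpl S)).2 ?_)
  refine Groth.Agent.AdicFlat.isRegularHom_of_isAdicFormallySmooth
    ((Groth.Agent.Hensel.isGRing_iff_isRegularHom_cpl R).1 hR) ?_
  rw [AdicCompletion.maximalIdeal_eq_map (R := S)]
  exact (Groth.Agent.CAlg48.CompletionFS.iff_completion (IsLocalRing.maximalIdeal S)
    (IsNoetherian.noetherian _)).mp (Groth.Agent.AdicFS.Basic.of_formallySmooth _)

end Groth.Agent.S2046
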