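import Groth.Statements.S2049
import Groth.Agent.FlatMisc.ValuationEFT

set_option autoImplicit false
universe u
open CAlg

namespace Groth.Agent.S2049

/-- Let `A` be a valuation ring, `A → B` a local homomorphism of local rings essentially of finite type,
and `M` a finite `B`-module which is flat over `A`. Then `M` is finitely presented over `B`. -/
theorem result {A B M : Type u} [CommRing A] [IsDomain A]
    [ValuationRing A] [CommRing B] [IsLocalRing B] [Algebra A B] [IsLocalHom (algebraMap A B)]
    [Algebra.EssFiniteType A B] [AddCommGroup M] [Module B M] [Module A M] [IsScalarTower A B M]
    [Module.Finite B M] [Module.Flat A M] : Module.FinitePresentation B M := by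
  have := Module.Flat.isTorsionFree (R := A) (M := M)
  exact Groth.Agent.FlatMisc.ValuationEFT.finitePresentation (A := A) M fun a m hm =>
    smul_eq_zero.mp hm

end Groth.Agent.S2049
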