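import Groth.Statements.S2050
import Groth.Agent.FlatOpen.API
import Groth.Agent.FlatOpen.GenericFlat
-- import your own Groth.Agent.* helpers here

set_option autoImplicit false
universe u
open CAlg

namespace Groth.Agent.S2050

open TensorProduct in
/-- In a flat module, an element killed by elements with zero common annihilator vanishes. -/
theorem eq_zero_of_flat {R N ι : Type u} [CommRing R] [AddCommGroup N] [Module R N] [Module.Flat R N]
    [Fintype ι] (t : ι → R) (ht : ∀ r : R, (∀ i, t i * r = 0) → r = 0) (y : N) (hy : ∀ i, t i • y = 0) :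
    y = 0 := by
  classical
  let f : R →ₗ[R] ι → R := LinearMap.pi fun i => t i • LinearMap.id
  have hf : Function.Injective f := (injective_iff_map_eq_zero f).mpr fun r hr =>
    ht r fun i => by simpa [f] using congrFun hr i
  have h1 := Module.Flat.lTensor_preserves_injective_linearMap (M := N) f hf
  have h0 : LinearMap.lTensor N f (y ⊗ₜ[R] 1) = 0 := by
    refine (TensorProduct.piScalarRight R R N ι).injective (funext fun i => ?_)
    simp [f, hy]
  have := congrArg (TensorProduct.rid R N) (h1 (h0.trans (map_zero _).symm))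
  simpa using this

/-- A surjection whose kernel dies at `T` composes to a localization. -/
theorem isLocalizedModule_comp {S A B C : Type u} [CommRing S] [AddCommGroup A] [Module S A]
    [AddCommGroup B] [Module S B] [AddCommGroup C] [Module S C] (T : Submonoid S)
    (π : A →ₗ[S] B) (hπ : Function.Surjective π) (hker : ∀ x, π x = 0 → ∃ u : T, u • x = 0)
    (g : B →ₗ[S] C) [IsLocalizedModule T g] : IsLocalizedModule T (g.comp π) := by
  refine ⟨IsLocalizedModule.map_units g, fun y => ?_, fun {a b} h => ?_⟩
  · obtain ⟨⟨m, u⟩, hm⟩ := IsLocalizedModule.surj T g y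
    obtain ⟨a, rfl⟩ := hπ m
    exact ⟨⟨a, u⟩, hm⟩
  · obtain ⟨u, hu⟩ := IsLocalizedModule.exists_of_eq (S := T) (f := g) (show g (π a) = g (π b) from h)
    obtain ⟨v, hv⟩ := hker (u • a - u • b) (by
      rw [map_sub, LinearMap.map_smul_of_tower, LinearMap.map_smul_of_tower, hu, sub_self])
    exact ⟨v * u, by rwa [smul_sub, sub_eq_zero, ← mul_smul, ← mul_smul] at hv⟩

/-- Let `S = R[x_1, …, x_n]` and `M` a finite `S`-module, flat over `R`, such that for every prime `𝔭`
of `R` the localization `M_𝔭` is finitely presented over `S_𝔭`. If `R` embeds into the product of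
finitely many of its local rings, then `M` is finitely presented over `S`. -/
theorem result {R : Type u} [CommRing R] (n : ℕ)
    {M : Type u} [AddCommGroup M] [Module (MvPolynomial (Fin n) R) M] [Module R M]
    [IsScalarTower R (MvPolynomial (Fin n) R) M] [Module.Finite (MvPolynomial (Fin n) R) M] [Module.Flat R M]
    (s : Finset (PrimeSpectrum R))
    (hs : Function.Injective fun r : R => fun p : s => algebraMap R (Localization.AtPrime p.1.asIdeal) r)
    (hloc : ∀ (p : Ideal R) [p.IsPrime],
      Module.FinitePresentation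
        (Localization (Algebra.algebraMapSubmonoid (MvPolynomial (Fin n) R) p.primeCompl))
        (LocalizedModule (Algebra.algebraMapSubmonoid (MvPolynomial (Fin n) R) p.primeCompl) M)) :
    Module.FinitePresentation (MvPolynomial (Fin n) R) M := by
  classical
  let S := MvPolynomial (Fin n) R
  let T : PrimeSpectrum R → Submonoid S := fun p => Algebra.algebraMapSubmonoid S p.asIdeal.primeCompl
  obtain ⟨r, π, hπ⟩ := Module.Finite.exists_fin' S M
  let K := LinearMap.ker π
  have key : ∀ p : PrimeSpectrum R, ∃ L : Submodule S (Fin r → S), L.FG ∧ L ≤ K ∧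
      ∀ x ∈ K, ∃ t ∈ T p, t • x ∈ L := by
    intro p
    haveI := hloc p.asIdeal
    let A := Localization (T p)
    let f := LocalizedModule.mkLinearMap (T p) (Fin r → S)
    let g := LocalizedModule.mkLinearMap (T p) M
    let πA := IsLocalizedModule.mapExtendScalars (T p) f g A π
    have hπA : Function.Surjective πA := IsLocalizedModule.map_surjective (T p) f g π hπ
    haveI : Module.Finite A (LocalizedModule (T p) (Fin r → S)) :=
      Module.Finite.of_isLocalizedModule (T p) (Rₚ := A) f
    have hfg : (K.localized' A (T p) f).FG := by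
      rw [LinearMap.localized'_ker_eq_ker_localizedMap A (T p) f g π]
      exact Module.FinitePresentation.fg_ker πA hπA
    obtain ⟨G, hG⟩ := hfg
    have hmem : ∀ y ∈ G, ∃ k ∈ K, ∃ u : T p, IsLocalizedModule.mk' f k u = y := fun y hy => by
      have : y ∈ K.localized' A (T p) f := hG ▸ Submodule.subset_span hy
      exact this
    choose! k hkK u hku using hmem
    refine ⟨Submodule.span S (G.image k), ⟨G.image k, rfl⟩, Submodule.span_le.mpr ?_, fun x hx => ?_⟩
    · intro z hz
      obtain ⟨y, hy, rfl⟩ := Finset.mem_image.mp hz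
      exact hkK y hy
    · have h1 : f x ∈ (Submodule.span S ((G.image k : Finset _) : Set (Fin r → S))).localized' A (T p) f := by
        have h2 : Submodule.span A (G : Set _) ≤
            (Submodule.span S ((G.image k : Finset _) : Set (Fin r → S))).localized' A (T p) f :=
          Submodule.span_le.mpr fun y hy =>
            ⟨k y, Submodule.subset_span (Finset.mem_image_of_mem k hy), u y, hku y hy⟩
        exact h2 (hG.ge ⟨x, hx, 1, IsLocalizedModule.mk'_one _ _ _⟩)
      obtain ⟨z, hz, t, ht⟩ := h1
      rw [IsLocalizedModule.mk'_eq_iff, Submonoid.smul_def, ← map_smul] at ht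
      obtain ⟨v, hv⟩ := IsLocalizedModule.exists_of_eq (S := T p) (f := f) ht
      refine ⟨(v : S) * t, mul_mem v.2 t.2, ?_⟩
      have hv' : (v : S) • z = (v : S) • ((t : S) • x) := hv
      rw [mul_smul, ← hv']
      exact Submodule.smul_mem _ _ hz
  choose L hLfg hLK hL using key
  let pq : PrimeSpectrum S → PrimeSpectrum R := PrimeSpectrum.comap (algebraMap R S)
  let L' : PrimeSpectrum S → Submodule S (Fin r → S) := fun q =>
    L (pq q) ⊔ s.sup L
  have hL'fg : ∀ q, (L' q).FG := fun q => (hLfg _).sup
    (Finset.sup_induction Submodule.fg_bot (fun a ha b hb => ha.sup hb) fun i _ => hLfg i)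
  have hL'K : ∀ q, L' q ≤ K := fun q => sup_le (hLK _) (Finset.sup_le fun i _ => hLK i)
  have hflat : ∀ q : PrimeSpectrum S, FlatCA.FlatAt R q.asIdeal M := fun q => by
    haveI : Module.Flat S (Localization.AtPrime q.asIdeal) := IsLocalization.flat _ q.asIdeal.primeCompl
    haveI := Groth.Agent.FlatMor.FlatAtBC.flat_tensor R S (Localization.AtPrime q.asIdeal) M
    exact Module.Flat.of_linearEquiv
      ((LocalizedModule.equivTensorProduct q.asIdeal.primeCompl M).restrictScalars R)
  let U : PrimeSpectrum S → Set (PrimeSpectrum S) := fun q =>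
    {q' | FlatCA.FlatAt R q'.asIdeal ((Fin r → S) ⧸ L' q)}
  have hUopen : ∀ q, IsOpen (U q) := fun q => by
    haveI : Module.FinitePresentation S ((Fin r → S) ⧸ L' q) :=
      Module.finitePresentation_of_surjective (L' q).mkQ (L' q).mkQ_surjective
        (by rw [Submodule.ker_mkQ]; exact hL'fg q)
    exact Groth.Agent.FlatOpen.isOpen_flatLocus R S _
  have hUmem : ∀ q, q ∈ U q := fun q => by
    let π' : ((Fin r → S) ⧸ L' q) →ₗ[S] M := (L' q).liftQ π (hL'K q)
    haveI : IsLocalizedModule q.asIdeal.primeCompl
        ((LocalizedModule.mkLinearMap q.asIdeal.primeCompl M).comp π') := by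
      refine isLocalizedModule_comp _ π' (fun m => ?_) (fun y hy => ?_) _
      · obtain ⟨v, rfl⟩ := hπ m
        exact ⟨(L' q).mkQ v, rfl⟩
      · obtain ⟨x, rfl⟩ := (L' q).mkQ_surjective y
        obtain ⟨_, ⟨c, hc, rfl⟩, hcx⟩ := hL (pq q) x hy
        refine ⟨⟨algebraMap R S c, hc⟩, ?_⟩
        rw [Submonoid.smul_def, ← map_smul, Submodule.mkQ_apply, Submodule.Quotient.mk_eq_zero]
        exact (le_sup_left : L (pq q) ≤ L' q) hcx
    haveI : Module.Flat R (LocalizedModule q.asIdeal.primeCompl M) := hflat q
    exact Module.Flat.of_linearEquiv ((IsLocalizedModule.iso q.asIdeal.primeCompl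
      ((LocalizedModule.mkLinearMap q.asIdeal.primeCompl M).comp π')).restrictScalars R)
  have hUK : ∀ q, ∀ q' ∈ U q, ∀ x ∈ K, ∃ v ∉ q'.asIdeal, v • x ∈ L' q := by
    intro q q' hq' x hx
    have ht : ∀ i : s, ∃ c ∉ i.1.asIdeal, algebraMap R S c • x ∈ L' q := fun i => by
      obtain ⟨_, ⟨c, hc, rfl⟩, hcx⟩ := hL i.1 x hx
      exact ⟨c, hc, (le_sup_of_le_right (Finset.le_sup (f := L) i.2) : L i.1 ≤ L' q) hcx⟩
    choose c hc hcx using ht
    let y := LocalizedModule.mkLinearMap q'.asIdeal.primeCompl _ ((L' q).mkQ x)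
    haveI : Module.Flat R (LocalizedModule q'.asIdeal.primeCompl ((Fin r → S) ⧸ L' q)) := hq'
    have hy : y = 0 := eq_zero_of_flat c (fun a ha => hs (funext fun i => by
      show algebraMap R (Localization.AtPrime i.1.asIdeal) a = algebraMap R _ 0
      rw [map_zero]
      exact (IsLocalization.map_eq_zero_iff i.1.asIdeal.primeCompl _ a).mpr ⟨⟨c i, hc i⟩, ha i⟩)) y fun i => by
        rw [← algebraMap_smul S (c i) y, ← map_smul, ← map_smul,
          show (L' q).mkQ (algebraMap R S (c i) • x) = 0 from
            (Submodule.Quotient.mk_eq_zero _).mpr (hcx i), map_zero]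
    obtain ⟨v, hv⟩ := (IsLocalizedModule.eq_zero_iff q'.asIdeal.primeCompl _).mp hy
    rw [Submonoid.smul_def, ← map_smul, Submodule.mkQ_apply, Submodule.Quotient.mk_eq_zero] at hv
    exact ⟨v, v.2, hv⟩
  obtain ⟨F, hF⟩ := isCompact_univ.elim_finite_subcover U hUopen
    (fun q _ => Set.mem_iUnion.mpr ⟨q, hUmem q⟩)
  have hKfg : K.FG := by
    have hK : K = F.sup L' := by
      refine le_antisymm (fun x hx => ?_) (Finset.sup_le fun q _ => hL'K q)
      let I := (F.sup L').colon ({x} : Set (Fin r → S))
      have hI : I = ⊤ := by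
        by_contra hne
        obtain ⟨m, hm, hIm⟩ := I.exists_le_maximal hne
        obtain ⟨q, hq⟩ := Set.mem_iUnion.mp (hF (Set.mem_univ ⟨m, hm.isPrime⟩))
        obtain ⟨hqF, hq⟩ := Set.mem_iUnion.mp hq
        obtain ⟨v, hv, hvx⟩ := hUK q _ hq x hx
        exact hv (hIm (Submodule.mem_colon_singleton.mpr
          ((Finset.le_sup (f := L') hqF : L' q ≤ _) hvx)))
      have h1 : (1 : S) ∈ I := hI ▸ Submodule.mem_top
      simpa [I] using (Submodule.mem_colon_singleton.mp h1)
    rw [hK]
    exact Finset.sup_induction Submodule.fg_bot (fun a ha b hb => ha.sup hb) fun q _ => hL'fg q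
  exact Module.finitePresentation_of_surjective π hπ hKfg

end Groth.Agent.S2050
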