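import Groth.Statements.S2054
import Groth.Agent.QGorLib.ReflOff
import Groth.Agent.RegLoc.Serre
import Groth.Agent.DomMod.Reflexive
import Groth.Agent.CMCat.Basic
import Groth.Agent.S18702
import Mathlib.RingTheory.DiscreteValuationRing.TFAE
import Mathlib.LinearAlgebra.FreeModule.PID
import Mathlib.RingTheory.Spectrum.Prime.FreeLocus
-- import your own Groth.Agent.* helpers here

set_option autoImplicit false
universe u
open CAlg

namespace Groth.Agent.S2054

/-- Let `R` be a Noetherian normal domain and `M` a finite `R`-module. Then `M` is reflexive (the map to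
its double dual is bijective) if and only if `M` is torsion free and satisfies Serre's condition
`(S_2)`. -/
theorem result {R M : Type u} [CommRing R] [IsDomain R] [IsNoetherianRing R]
    [IsIntegrallyClosed R] [AddCommGroup M] [Module R M] [Module.Finite R M] :
    Module.IsReflexive R M ↔ NoZeroSMulDivisors R M ∧ LocCoh.HasSk 2 R M := by
  classical
  have hnorm : ∀ (p : Ideal R) [p.IsPrime], IsDomain (Localization.AtPrime p) ∧
      IsIntegrallyClosed (Localization.AtPrime p) := fun p _ =>
    ⟨inferInstance, isIntegrallyClosed_of_isLocalization _ p.primeCompl p.primeCompl_le_nonZeroDivisors⟩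
  have hR2 : LocCoh.HasSk 2 R R := (Groth.Agent.RegLoc.Serre.serre_criterion.mp hnorm).2
  constructor
  · intro h
    refine ⟨⟨fun {c x} hcx => or_iff_not_imp_left.mpr fun hc => ?_⟩, (Groth.Agent.S18702.result R ⊥ M).2.2.2 hR2⟩
    apply (Module.bijective_dual_eval R M).1
    rw [map_zero]
    refine LinearMap.ext fun φ => ?_
    have h1 : c * φ x = 0 := by rw [← smul_eq_mul, ← map_smul, hcx, map_zero]
    exact (mul_eq_zero.mp h1).resolve_left hc
  · rintro ⟨hns, hS2⟩
    haveI : Module.IsTorsionFree R M := ⟨fun c hc x y (hxy : c • x = c • y) => by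
      have h1 : c • (x - y) = 0 := by rw [smul_sub, hxy, sub_self]
      exact sub_eq_zero.mp ((hns.eq_zero_or_eq_zero_of_smul_eq_zero h1).resolve_left hc.ne_zero)⟩
    rcases subsingleton_or_nontrivial M with hM | hM
    · haveI : Module.Free R M := Module.Free.of_subsingleton R M
      infer_instance
    haveI : Module.FinitePresentation R M := Module.finitePresentation_of_finite R M
    have hsupp : Module.support R M = Set.univ := Set.eq_univ_of_forall fun x => by
      obtain ⟨m, hm⟩ := exists_ne (0 : M)
      exact Module.mem_support_iff'.mpr ⟨m, fun r hr he => hr (by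
        rcases hns.eq_zero_or_eq_zero_of_smul_eq_zero he with h | h
        · rw [h]; exact zero_mem _
        · exact absurd h hm)⟩
    obtain ⟨I, hI⟩ : ∃ I : Ideal R, PrimeSpectrum.zeroLocus (I : Set R) = (Module.freeLocus R M)ᶜ := by
      obtain ⟨I, hI⟩ := (PrimeSpectrum.isClosed_iff_zeroLocus_ideal _).mp (Module.isOpen_freeLocus (R := R) (M := M)).isClosed_compl
      exact ⟨I, hI.symm⟩
    have hlow : ∀ p : PrimeSpectrum R, p.asIdeal.height ≤ 1 → p ∈ Module.freeLocus R M := fun p hp => by
      let A := Localization.AtPrime p.asIdeal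
      have hd : ringKrullDim A ≤ 1 := by
        rw [IsLocalization.AtPrime.ringKrullDim_eq_height p.asIdeal A]; exact_mod_cast hp
      haveI := (hnorm p.asIdeal).2
      haveI : IsPrincipalIdealRing A := by
        haveI : Ring.KrullDimLE 1 A := Ring.krullDimLE_iff.mpr (by exact_mod_cast hd)
        haveI : Ring.DimensionLEOne A := ⟨fun hp hp' => hp'.isMaximal_of_ne_bot hp⟩
        have hD : IsDedekindDomain A := { }
        exact ((tfae_of_isNoetherianRing_of_isLocalRing_of_isDomain A).out 0 2).mpr hD
      rw [Module.mem_freeLocus]
      exact Module.free_of_finite_type_torsion_free'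
    refine Groth.Agent.QGorLib.ReflOff.isReflexive_of_depth M I ?_ (fun p hp => ?_) ?_
    · rw [Groth.Agent.Depth.idealDepth_eq_iInf_depth]
      refine le_iInf₂ fun p hp => ?_
      have hht : 2 ≤ p.asIdeal.height := by
        by_contra hlt
        have : p ∈ (Module.freeLocus R M)ᶜ := hI ▸ hp
        exact this (hlow p (Order.le_of_lt_succ (by simpa [ENat.succ_def] using (not_le.mp hlt : p.asIdeal.height < 1 + 1))))
      have h := hR2 p.asIdeal
      rw [Groth.Agent.CMCat.supportDim_eq_of_support_univ (Groth.Agent.CMCat.support_localizedModule_eq_univ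
          (Set.eq_univ_of_forall fun x => Module.mem_support_iff'.mpr ⟨1, fun r hr he => hr (by
            rw [smul_eq_mul, mul_one] at he; rw [he]; exact zero_mem _)⟩) p.asIdeal),
        IsLocalization.AtPrime.ringKrullDim_eq_height p.asIdeal (Localization.AtPrime p.asIdeal)] at h
      replace h : min (2 : ℕ∞) p.asIdeal.height ≤ LocCoh.depth (Localization.AtPrime p.asIdeal) (LocalizedModule p.asIdeal.primeCompl R) := by
        rw [← WithBot.coe_le_coe, WithBot.coe_min]; exact h
      exact le_trans (le_trans one_le_two (le_min le_rfl hht)) h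
    · haveI : Module.Free (Localization.AtPrime p.asIdeal) (LocalizedModule p.asIdeal.primeCompl M) := by
        have : p ∈ Module.freeLocus R M := by
          by_contra hn
          exact hp (hI ▸ hn : p ∈ PrimeSpectrum.zeroLocus (I : Set R))
        exact this
      infer_instance
    · rw [Groth.Agent.Depth.idealDepth_eq_iInf_depth]
      refine le_iInf₂ fun p hp => ?_
      have hht : 2 ≤ p.asIdeal.height := by
        by_contra hlt
        have : p ∈ (Module.freeLocus R M)ᶜ := hI ▸ hp
        exact this (hlow p (Order.le_of_lt_succ (by simpa [ENat.succ_def] using (not_le.mp hlt : p.asIdeal.height < 1 + 1))))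
      have h := hS2 p.asIdeal
      rw [Groth.Agent.CMCat.supportDim_eq_of_support_univ (Groth.Agent.CMCat.support_localizedModule_eq_univ
          hsupp p.asIdeal),
        IsLocalization.AtPrime.ringKrullDim_eq_height p.asIdeal (Localization.AtPrime p.asIdeal)] at h
      replace h : min (2 : ℕ∞) p.asIdeal.height ≤ LocCoh.depth (Localization.AtPrime p.asIdeal) (LocalizedModule p.asIdeal.primeCompl M) := by
        rw [← WithBot.coe_le_coe, WithBot.coe_min]; exact h
      exact le_trans (le_min le_rfl hht) h

end Groth.Agent.S2054
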