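import Groth.Statements.S2055
import Groth.Agent.Hens.PairStage
-- import your own Groth.Agent.* helpers here

set_option autoImplicit false
universe u
open CAlg

namespace Groth.Agent.S2055

open TensorProduct in
open TensorProduct Groth.Agent in
theorem existsUnique_of_killed {R S : Type u} [CommRing R] [CommRing S]
    [Algebra R S] [Module.Flat R S] (I : Ideal R) (hI : I.FG)
    (hq : Function.Bijective (Ideal.quotientMap (I.map (algebraMap R S)) (algebraMap R S)
      Ideal.le_comap_map))
    (N : Type u) [AddCommGroup N] [Module R N] (n : ℕ) :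
    (∀ z : S ⊗[R] N, (∀ a ∈ I ^ n, a • z = 0) → ∃ y : N, (∀ a ∈ I ^ n, a • y = 0) ∧ 1 ⊗ₜ[R] y = z) ∧
    (∀ y : N, (∀ a ∈ I ^ n, a • y = 0) → (1 : S) ⊗ₜ[R] y = 0 → y = 0) := by
  classical
  obtain ⟨t, ht⟩ := Ideal.FG.pow (n := n) hI
  let φ : N →ₗ[R] t → N := LinearMap.pi fun a => (a : R) • LinearMap.id
  have hK : ∀ y : N, y ∈ LinearMap.ker φ ↔ ∀ a ∈ I ^ n, a • y = 0 := by
    intro y
    rw [LinearMap.mem_ker]
    refine ⟨fun h a ha => ?_, fun h => funext fun a => h a (ht ▸ Ideal.subset_span a.2)⟩
    rw [← ht] at ha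
    induction ha using Submodule.span_induction with
    | mem x hx => exact congrFun h ⟨x, hx⟩
    | zero => exact zero_smul R y
    | add x x' _ _ hx hx' => rw [add_smul, hx, hx', add_zero]
    | smul c x _ hx => rw [smul_eq_mul, mul_smul, hx, smul_zero]
  have hbij := Hens.bijective_rTensor_of_quotient (R := R) (Algebra.ofId R S)
    (J := fun _ => I ^ n) antitone_const
    (fun _ b => Hens.exists_sub_mem_map_pow hq.2 n b)
    (fun _ s hs => by
      rw [Algebra.algebraMap_self, Ideal.map_id]
      exact Hens.mem_pow_of_mem_map_pow hq n s hs)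
    (LinearMap.ker φ) (fun e => ⟨0, fun r hr => Subtype.ext ((hK e).mp e.2 r hr)⟩)
  constructor
  · intro z hz
    have hex := Module.Flat.lTensor_exact S (LinearMap.exact_subtype_ker_map φ)
    have hz0 : LinearMap.lTensor S φ z = 0 := by
      refine (TensorProduct.piRight R R S (fun _ : t => N)).injective (funext fun a => ?_)
      rw [map_zero, Pi.zero_apply]
      have key : ((LinearMap.proj a).comp
          ((TensorProduct.piRight R R S (fun _ : t => N)).toLinearMap.comp (LinearMap.lTensor S φ))) =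
          (a : R) • LinearMap.id := TensorProduct.ext' fun s y => by simp [φ]
      exact (LinearMap.congr_fun key z).trans (hz a (ht ▸ Ideal.subset_span a.2))
    obtain ⟨w, rfl⟩ := (hex z).mp hz0
    obtain ⟨u, rfl⟩ := hbij.2 w
    obtain ⟨e, rfl⟩ := (TensorProduct.lid R _).symm.surjective u
    refine ⟨e, (hK e).mp e.2, ?_⟩
    simp [Algebra.ofId_apply]
  · intro y hy h0
    let e : LinearMap.ker φ := ⟨y, (hK y).mpr hy⟩
    have h1 : LinearMap.rTensor _ (Algebra.ofId R S).toLinearMap ((1 : R) ⊗ₜ[R] e) = 0 := by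
      refine Module.Flat.lTensor_preserves_injective_linearMap (M := S) (LinearMap.ker φ).subtype
        (LinearMap.ker φ).injective_subtype ?_
      simpa [Algebra.ofId_apply, e] using h0
    have h2 : (1 : R) ⊗ₜ[R] e = 0 := hbij.1 (by rw [h1, map_zero])
    simpa [e] using congrArg (fun w => ((TensorProduct.lid R _ w : LinearMap.ker φ) : N)) h2

/-- Let `R → S` be flat and `I ⊆ R` a finitely generated ideal with `R/I → S/IS` bijective. If one of
the `R`-modules `M`, `N` has every element killed by a power of `I`, then base change of linear maps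
`Hom_R(M, N) → Hom_S(S ⊗ M, S ⊗ N)` is bijective. -/
theorem result {R S M N : Type u} [CommRing R] [CommRing S]
    [Algebra R S] [Module.Flat R S] (I : Ideal R) (hI : I.FG)
    (hq : Function.Bijective (algebraMap (R ⧸ I) (S ⧸ I.map (algebraMap R S))))
    [AddCommGroup M] [Module R M] [AddCommGroup N] [Module R N]
    (hMN : (∀ x : M, ∃ n : ℕ, ∀ a ∈ I ^ n, a • x = 0) ∨ (∀ y : N, ∃ n : ℕ, ∀ a ∈ I ^ n, a • y = 0)) :
    Function.Bijective (fun f : M →ₗ[R] N => LinearMap.baseChange S f) := by
  classical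
  open TensorProduct in
  have key := fun n => existsUnique_of_killed (S := S) I hI hq N n
  have tors : ∀ (g : M →ₗ[R] S ⊗[R] N) (x : M), ∃ n : ℕ, ∀ a ∈ I ^ n, a • g x = 0 := by
    intro g x
    rcases hMN with h | h
    · obtain ⟨n, hn⟩ := h x
      exact ⟨n, fun a ha => by rw [← map_smul, hn a ha, map_zero]⟩
    · induction g x using TensorProduct.induction_on with
      | zero => exact ⟨0, fun a _ => smul_zero a⟩
      | tmul s y =>
        obtain ⟨n, hn⟩ := h y
        exact ⟨n, fun a ha => by rw [← TensorProduct.tmul_smul, hn a ha, TensorProduct.tmul_zero]⟩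
      | add z z' hz hz' =>
        obtain ⟨m, hm⟩ := hz
        obtain ⟨k, hk⟩ := hz'
        exact ⟨m + k, fun a ha => by
          rw [smul_add, hm a (Ideal.pow_le_pow_right (Nat.le_add_right _ _) ha),
            hk a (Ideal.pow_le_pow_right (Nat.le_add_left _ _) ha), add_zero]⟩
  have uniq : ∀ (m k : ℕ) (y y' : N), (∀ a ∈ I ^ m, a • y = 0) → (∀ a ∈ I ^ k, a • y' = 0) →
      (1 : S) ⊗ₜ[R] y = 1 ⊗ₜ[R] y' → y = y' := by
    intro m k y y' hy hy' h
    refine sub_eq_zero.mp ((key (m + k)).2 _ (fun a ha => ?_) (by rw [TensorProduct.tmul_sub, h, sub_self]))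
    rw [smul_sub, hy a (Ideal.pow_le_pow_right (Nat.le_add_right _ _) ha),
      hy' a (Ideal.pow_le_pow_right (Nat.le_add_left _ _) ha), sub_self]
  constructor
  · intro f g hfg
    ext x
    have h1 : (1 : S) ⊗ₜ[R] f x = 1 ⊗ₜ[R] g x := by
      simpa using LinearMap.congr_fun hfg ((1 : S) ⊗ₜ[R] x)
    rcases hMN with h | h
    · obtain ⟨n, hn⟩ := h x
      exact uniq n n _ _ (fun a ha => by rw [← map_smul, hn a ha, map_zero])
        (fun a ha => by rw [← map_smul, hn a ha, map_zero]) h1
    · obtain ⟨m, hm⟩ := h (f x)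
      obtain ⟨k, hk⟩ := h (g x)
      exact uniq m k _ _ hm hk h1
  · intro G
    let g : M →ₗ[R] S ⊗[R] N := (G.restrictScalars R).comp (TensorProduct.mk R S M 1)
    have hex : ∀ x : M, ∃ n y, (∀ a ∈ I ^ n, a • y = 0) ∧ (1 : S) ⊗ₜ[R] y = g x := fun x => by
      obtain ⟨n, hn⟩ := tors g x
      exact ⟨n, (key n).1 _ hn⟩
    choose ν f hf hf' using hex
    let F : M →ₗ[R] N :=
      { toFun := f
        map_add' := fun x x' => uniq _ (ν x + ν x') _ _ (hf _)
          (fun a ha => by
            rw [smul_add, hf x a (Ideal.pow_le_pow_right (Nat.le_add_right _ _) ha),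
              hf x' a (Ideal.pow_le_pow_right (Nat.le_add_left _ _) ha), add_zero])
          (by rw [TensorProduct.tmul_add, hf', hf', hf', map_add])
        map_smul' := fun c x => uniq _ (ν x) _ _ (hf _)
          (fun a ha => by rw [RingHom.id_apply, smul_comm, hf x a ha, smul_zero])
          (by rw [RingHom.id_apply, TensorProduct.tmul_smul, hf', hf', map_smul]) }
    refine ⟨F, ?_⟩
    ext x
    simpa [F, g] using hf' x

end Groth.Agent.S2055
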