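import Groth.Statements.S2057
import Groth.Agent.MLMod.Basic
import Mathlib.LinearAlgebra.TensorProduct.RightExactness
-- import your own Groth.Agent.* helpers here

set_option autoImplicit false
universe u
open CAlg
open scoped TensorProduct

namespace Groth.Agent.S2057

/-- An injective linear map `f : M₁ → M₂` is universally injective if and only if: whenever elements
`x_i` of `M₁` satisfy `f(x_i) = Σ_j a_{ij} y_j` for some `y_j ∈ M₂` and scalars `a_{ij}`, there are
`z_j ∈ M₁` with `x_i = Σ_j a_{ij} z_j`. -/
theorem result {R M₁ M₂ : Type u} [CommRing R] [AddCommGroup M₁]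
    [Module R M₁] [AddCommGroup M₂] [Module R M₂] (f : M₁ →ₗ[R] M₂) (hf : Function.Injective f) :
    CAlgX.UniversallyInjective R f ↔
      ∀ (n m : ℕ) (x : Fin n → M₁) (y : Fin m → M₂) (a : Fin n → Fin m → R),
        (∀ i, f (x i) = ∑ j, a i j • y j) → ∃ z : Fin m → M₁, ∀ i, x i = ∑ j, a i j • z j := by
  classical
  constructor
  · intro h n m x y a hxy
    let φ : (Fin m → R) →ₗ[R] (Fin n → R) := ∑ j, (LinearMap.proj j).smulRight fun i => a i j
    let π := (LinearMap.range φ).mkQ
    let e : ∀ (P : Type u) [AddCommGroup P] [Module R P] (k : ℕ), (Fin k → P) → P ⊗[R] (Fin k → R) :=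
      fun P _ _ k v => ∑ i, v i ⊗ₜ Pi.single i 1
    have hφ : ∀ j : Fin m, φ (Pi.single j 1) = ∑ i, a i j • (Pi.single i (1 : R) : Fin n → R) := by
      intro j
      funext i
      simp [φ, Pi.single_apply, ite_apply, Finset.sum_apply]
    have key : ∀ (P : Type u) [AddCommGroup P] [Module R P] (v : Fin m → P),
        φ.lTensor P (e P m v) = e P n (fun i => ∑ j, a i j • v j) := by
      intro P _ _ v
      simp only [e, map_sum, LinearMap.lTensor_tmul, hφ, TensorProduct.tmul_sum, TensorProduct.sum_tmul,
        TensorProduct.tmul_smul, TensorProduct.smul_tmul']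
      rw [Finset.sum_comm]
    have h0 : π.lTensor M₁ (e M₁ n x) = 0 := by
      apply h _
      have h1 : f.rTensor _ (π.lTensor M₁ (e M₁ n x)) = π.lTensor M₂ (e M₂ n fun i => f (x i)) := by
        simp only [e, map_sum, LinearMap.lTensor_tmul, LinearMap.rTensor_tmul]
      rw [h1, map_zero, funext hxy, ← key M₂ y, ← LinearMap.lTensor_comp_apply, LinearMap.range_mkQ_comp]
      simp
    obtain ⟨w, hw⟩ := (lTensor_exact M₁ (LinearMap.exact_map_mkQ_range φ) (Submodule.mkQ_surjective _) _).mp h0
    let z : Fin m → M₁ := fun j => TensorProduct.rid R M₁ ((LinearMap.proj j : (Fin m → R) →ₗ[R] R).lTensor M₁ w)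
    have hwz : ∀ i, TensorProduct.rid R M₁ ((LinearMap.proj i : (Fin n → R) →ₗ[R] R).lTensor M₁ (φ.lTensor M₁ w)) =
        ∑ j, a i j • z j := by
      intro i
      simp only [z]
      generalize w = u
      induction u using TensorProduct.induction_on with
      | zero => simp
      | tmul p c => simp [φ, Finset.sum_smul, mul_comm, mul_smul]
      | add p c hp hc => simp only [map_add, hp, hc, smul_add, Finset.sum_add_distrib]
    refine ⟨z, fun i => ?_⟩
    rw [← hwz i, hw]
    simp only [e, map_sum, LinearMap.lTensor_tmul, TensorProduct.rid_tmul, LinearMap.proj_apply]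
    rw [Finset.sum_eq_single i]
    · simp
    · intro j _ hj; simp [hj]
    · simp
  · intro h
    have hfp : ∀ (Q : Type u) [AddCommGroup Q] [Module R Q], Module.FinitePresentation R Q →
        Function.Injective (f.rTensor Q) := by
      intro Q _ _ hQ
      obtain ⟨n, K, e, hK⟩ := Module.FinitePresentation.exists_fin R Q
      obtain ⟨m, g, hg⟩ := Submodule.fg_iff_exists_fin_generating_family.mp hK
      let φ : (Fin m → R) →ₗ[R] (Fin n → R) := ∑ j, (LinearMap.proj j).smulRight (g j)
      let π : (Fin n → R) →ₗ[R] Q := e.symm.toLinearMap ∘ₗ K.mkQ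
      have hπ : Function.Surjective π := e.symm.surjective.comp K.mkQ_surjective
      rw [injective_iff_map_eq_zero]
      intro w hw
      obtain ⟨w, rfl⟩ := LinearMap.lTensor_surjective M₁ hπ w
      have hrange : LinearMap.range φ = K := by
        rw [← hg]
        refine le_antisymm ?_ (Submodule.span_le.mpr ?_)
        · rintro _ ⟨v, rfl⟩
          simp only [φ, LinearMap.sum_apply, LinearMap.smulRight_apply, LinearMap.proj_apply]
          exact Submodule.sum_mem _ fun j _ => Submodule.smul_mem _ _ (Submodule.subset_span ⟨j, rfl⟩)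
        · rintro _ ⟨j, rfl⟩
          exact ⟨Pi.single j 1, by simp [φ, Pi.single_apply]⟩
      have hex : Function.Exact φ π := by
        intro v
        simp only [π, LinearMap.comp_apply, LinearEquiv.coe_coe, LinearEquiv.map_eq_zero_iff, Submodule.mkQ_apply,
          Submodule.Quotient.mk_eq_zero]
        rw [← hrange]
        rfl
      rw [← LinearMap.comp_apply, LinearMap.rTensor_comp_lTensor, ← LinearMap.lTensor_comp_rTensor,
        LinearMap.comp_apply] at hw
      obtain ⟨u, hu⟩ := (lTensor_exact M₂ hex hπ _).mp hw
      let cx : Fin n → M₁ := fun i => TensorProduct.rid R M₁ ((LinearMap.proj i : (Fin n → R) →ₗ[R] R).lTensor M₁ w)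
      let cy : Fin m → M₂ := fun j => TensorProduct.rid R M₂ ((LinearMap.proj j : (Fin m → R) →ₗ[R] R).lTensor M₂ u)
      have hcy : ∀ (P : Type u) [AddCommGroup P] [Module R P] (u : P ⊗[R] (Fin m → R)) (i : Fin n),
          TensorProduct.rid R P ((LinearMap.proj i : (Fin n → R) →ₗ[R] R).lTensor P (φ.lTensor P u)) =
            ∑ j, g j i • TensorProduct.rid R P ((LinearMap.proj j : (Fin m → R) →ₗ[R] R).lTensor P u) := by
        intro P _ _ u i
        induction u using TensorProduct.induction_on with
        | zero => simp
        | tmul p c => simp [φ, Finset.sum_smul, mul_comm, mul_smul]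
        | add p c hp hc => simp only [map_add, hp, hc, smul_add, Finset.sum_add_distrib]
      have hcx : ∀ i, f (cx i) = ∑ j, g j i • cy j := by
        intro i
        rw [← hcy M₂ u i, hu]
        simp only [cx]
        generalize w = v
        induction v using TensorProduct.induction_on with
        | zero => simp
        | tmul p c => simp
        | add p c hp hc => simp only [map_add, hp, hc]
      obtain ⟨z, hz⟩ := h n m cx cy (fun i j => g j i) hcx
      have : w = φ.lTensor M₁ (∑ j, z j ⊗ₜ Pi.single j 1) := by
        apply (TensorProduct.piRight R R M₁ (fun _ : Fin n => R)).injective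
        funext i
        apply (TensorProduct.rid R M₁).injective
        have hp : ∀ v : M₁ ⊗[R] (Fin n → R), TensorProduct.piRight R R M₁ (fun _ : Fin n => R) v i =
            (LinearMap.proj i : (Fin n → R) →ₗ[R] R).lTensor M₁ v := by
          intro v
          induction v using TensorProduct.induction_on with
          | zero => simp
          | tmul p c => simp
          | add p c hp hc => simp only [map_add, Pi.add_apply, hp, hc]
        rw [hp, hp, hcy]
        refine (hz i).trans (Finset.sum_congr rfl fun j _ => ?_)
        congr 1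
        simp [map_sum, Pi.single_apply]
      rw [this, ← LinearMap.comp_apply, ← LinearMap.lTensor_comp, hex.linearMap_comp_eq_zero]
      simp
    intro Q _ _
    have hd : Groth.Agent.MLMod.Dominates R f (LinearMap.id : M₁ →ₗ[R] M₁) :=
      Groth.Agent.MLMod.dominates_of_forall_fp fun Q _ _ hQ => by
        rw [LinearMap.ker_eq_bot.mpr (hfp Q hQ)]
        exact bot_le
    rw [← LinearMap.ker_eq_bot, eq_bot_iff]
    intro x hx
    have := hd Q hx
    rw [LinearMap.rTensor_id] at this
    exact this

end Groth.Agent.S2057
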