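import Groth.Statements.S2058
import Mathlib.RingTheory.Ideal.AssociatedPrime.Finiteness
import Mathlib.RingTheory.RegularLocalRing.Defs
import Mathlib.RingTheory.Localization.Away.Basic

set_option autoImplicit false
universe u
open CAlg
open scoped Pointwise

namespace Groth.Agent.S2058

open IsLocalRing in
/-- If all elements of the maximal ideal are zero divisors on a finite module `M`, then some
nonzero element of `M` is killed by the maximal ideal. -/
lemma exists_socle {R : Type u} [CommRing R] [IsLocalRing R] [IsNoetherianRing R]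
    {M : Type u} [AddCommGroup M] [Module R M] [Module.Finite R M]
    (h : ∀ a ∈ maximalIdeal R, ¬ IsSMulRegular M a) :
    ∃ x : M, x ≠ 0 ∧ ∀ a ∈ maximalIdeal R, a • x = 0 := by
  have hsub : (maximalIdeal R : Set R) ⊆ ⋃ p ∈ associatedPrimes R M, (p : Set R) := by
    rw [biUnion_associatedPrimes_eq_zero_divisors]
    intro a ha
    have := h a ha
    rw [IsSMulRegular, Function.Injective] at this
    push Not at this
    obtain ⟨x, y, hxy, hne⟩ := this
    exact ⟨x - y, sub_ne_zero.mpr hne, by simpa [smul_sub, sub_eq_zero] using hxy⟩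
  obtain ⟨p, hp, hle⟩ := (Ideal.subset_union_prime_finite (associatedPrimes.finite R M)
    (f := id) ⊥ ⊥ (fun i hi _ _ => hi.1)).mp hsub
  have heq : p = maximalIdeal R :=
    le_antisymm (le_maximalIdeal hp.1.ne_top) hle
  subst heq
  obtain ⟨-, x, hx⟩ := isAssociatedPrime_iff.mp hp
  refine ⟨x, ?_, ?_⟩
  · rintro rfl
    exact (maximalIdeal.isMaximal R).ne_top (by simpa [Submodule.colon_singleton_zero] using hx)
  · intro a ha
    rw [hx] at ha
    simpa [Submodule.mem_colon_singleton] using ha

open IsLocalRing in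
/-- The depth `0` case. -/
lemma case_zero {R : Type u} [CommRing R] [IsLocalRing R] [IsNoetherianRing R]
    (h1 : ¬ IsArtinianRing R) (s : R) (hs : s ≠ 0) (hsm : ∀ a ∈ maximalIdeal R, a * s = 0) :
    ∃ (R' : Type u) (_ : CommRing R') (_ : Algebra R R'), Nontrivial R' ∧ Module.Finite R R' ∧
      ¬ Function.Bijective (algebraMap R R') ∧
      (∃ n : ℕ, (∀ x : R, algebraMap R R' x = 0 → ∀ a ∈ maximalIdeal R ^ n, a * x = 0) ∧
        (∀ y : R', ∀ a ∈ maximalIdeal R ^ n, a • y ∈ Set.range (algebraMap R R'))) ∧
      maximalIdeal R ∉ associatedPrimes R R' := by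
  set m := maximalIdeal R
  let F : ℕ →o Ideal R :=
    { toFun := fun n => (⊥ : Ideal R).colon ((m ^ n : Ideal R) : Set R)
      monotone' := fun i j hij => Submodule.colon_mono le_rfl
        (fun x hx => Ideal.pow_le_pow_right hij hx) }
  obtain ⟨N, hN⟩ := monotone_stabilizes_iff_noetherian.mpr inferInstance F
  have hmem : ∀ (n : ℕ) (x : R), x ∈ F n ↔ ∀ a ∈ m ^ n, x * a = 0 := by
    intro n x
    show x ∈ (⊥ : Ideal R).colon _ ↔ _
    simp [Submodule.mem_colon, Submodule.mem_annihilator, smul_eq_mul]
  let Γ := F (N + 1)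
  have hΓ : ∀ n, F n ≤ Γ := by
    intro n
    rcases le_total n (N + 1) with h | h
    · exact F.monotone h
    · show F n ≤ F (N + 1)
      rw [← hN n (by omega), ← hN (N + 1) (by omega)]
  have hne : Γ ≠ ⊤ := by
    intro h
    apply h1
    have h0 : m ^ (N + 1) = ⊥ := by
      ext a
      constructor
      · intro ha
        have := (hmem (N + 1) 1).mp (by rw [show F (N + 1) = ⊤ from h]; exact Submodule.mem_top) a ha
        simpa using this
      · intro ha
        simp only [Ideal.mem_bot] at ha
        simp [ha]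
    exact (isArtinianRing_iff_isNilpotent_maximalIdeal R).mpr ⟨N + 1, h0⟩
  refine ⟨R ⧸ Γ, inferInstance, inferInstance, Ideal.Quotient.nontrivial_iff.mpr hne,
    inferInstance, ?_, ⟨N + 1, ?_, ?_⟩, ?_⟩
  · intro hbij
    apply hs
    apply hbij.1
    rw [map_zero, Ideal.Quotient.algebraMap_eq, Ideal.Quotient.eq_zero_iff_mem]
    exact hΓ 1 ((hmem 1 s).mpr fun a ha => by
      rw [pow_one] at ha; rw [mul_comm]; exact hsm a ha)
  · intro x hx a ha
    rw [Ideal.Quotient.algebraMap_eq, Ideal.Quotient.eq_zero_iff_mem] at hx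
    rw [mul_comm]
    exact (hmem _ x).mp hx a ha
  · intro y a _
    obtain ⟨r, rfl⟩ := Ideal.Quotient.mk_surjective y
    exact ⟨a * r, rfl⟩
  · intro hass
    obtain ⟨hp, y, hy⟩ := isAssociatedPrime_iff.mp hass
    obtain ⟨x, rfl⟩ := Ideal.Quotient.mk_surjective y
    have hx : x ∈ F (N + 1 + 1) := by
      rw [hmem]
      intro a ha
      rw [pow_succ'] at ha
      induction ha using Submodule.mul_induction_on' with
      | mem_mul_mem b hb c hc =>
        have hb' : b * x ∈ Γ := by
          rw [hy, Submodule.mem_colon_singleton] at hb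
          rw [← Ideal.Quotient.eq_zero_iff_mem]
          simpa [Algebra.smul_def] using hb
        have := (hmem (N + 1) _).mp hb' c hc
        rw [← this]; ring
      | add b _ c _ hb hc => rw [mul_add, hb, hc, add_zero]
    have : x ∈ Γ := hΓ _ hx
    apply hp.ne_top
    rw [hy, Ideal.Quotient.eq_zero_iff_mem.mpr this]
    simp

open IsLocalRing in
/-- If the maximal ideal is generated by one regular element and `R` is not Artinian then `R` is
regular of dimension one. -/
lemma regular_dim_one {R : Type u} [CommRing R] [IsLocalRing R] [IsNoetherianRing R]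
    (h1 : ¬ IsArtinianRing R) (t : R) (hm : maximalIdeal R = Ideal.span {t}) :
    IsRegularLocalRing R ∧ ringKrullDim R = 1 := by
  have hle : (maximalIdeal R).spanFinrank ≤ 1 := by
    rw [hm]
    simpa using Submodule.spanFinrank_span_le_ncard_of_finite (R := R) (Set.finite_singleton t)
  have hdim : ringKrullDim R ≤ 1 :=
    (ringKrullDim_le_spanFinrank_maximalIdeal R).trans (by exact_mod_cast hle)
  have hdim' : ¬ ringKrullDim R ≤ 0 := by
    intro h
    exact h1 (isArtinianRing_iff_krullDimLE_zero.mpr ((Ring.krullDimLE_iff).mpr (by simpa using h)))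
  have heq : ringKrullDim R = 1 := by
    obtain ⟨d, hd⟩ : ∃ d : ℕ∞, ringKrullDim R = (d : WithBot ℕ∞) := by
      cases h : ringKrullDim R with
      | bot => exact absurd (h ▸ bot_le) hdim'
      | coe a => exact ⟨a, rfl⟩
    rw [hd] at hdim hdim' ⊢
    have a1 : d ≤ 1 := by exact_mod_cast hdim
    have a2 : ¬ d ≤ 0 := fun h => hdim' (by exact_mod_cast h)
    have : d = 1 := le_antisymm a1 (ENat.one_le_iff_ne_zero.mpr fun h => a2 h.le)
    exact_mod_cast congrArg (WithBot.some) this
  exact ⟨IsRegularLocalRing.of_spanFinrank_maximalIdeal_le R (by rw [heq]; exact_mod_cast hle), heq⟩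

open IsLocalRing in
/-- The depth `1` case. -/
lemma case_one {R : Type u} [CommRing R] [IsLocalRing R] [IsNoetherianRing R]
    (h1 : ¬ IsArtinianRing R) (h2 : ¬ (IsRegularLocalRing R ∧ ringKrullDim R = 1))
    (x : R) (hxm : x ∈ maximalIdeal R) (hx : IsSMulRegular R x)
    (y : R) (hy : y ∉ Ideal.span {x}) (hmy : ∀ a ∈ maximalIdeal R, a * y ∈ Ideal.span {x}) :
    ∃ (R' : Type u) (_ : CommRing R') (_ : Algebra R R'), Nontrivial R' ∧ Module.Finite R R' ∧
      ¬ Function.Bijective (algebraMap R R') ∧
      (∃ n : ℕ, (∀ x : R, algebraMap R R' x = 0 → ∀ a ∈ maximalIdeal R ^ n, a * x = 0) ∧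
        (∀ y : R', ∀ a ∈ maximalIdeal R ^ n, a • y ∈ Set.range (algebraMap R R'))) ∧
      maximalIdeal R ∉ associatedPrimes R R' := by
  set m := maximalIdeal R
  have hcancel : ∀ a b : R, a * x = b * x → a = b := by
    intro a b h
    exact hx (by simpa [smul_eq_mul, mul_comm x] using h)
  have hb : ∀ a ∈ m, ∃ b ∈ m, a * y = b * x := by
    intro a ha
    obtain ⟨b, hb⟩ := Ideal.mem_span_singleton'.mp (hmy a ha)
    refine ⟨b, ?_, hb.symm⟩
    by_contra hbu
    have hu : IsUnit b := by
      rwa [IsLocalRing.notMem_maximalIdeal] at hbu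
    obtain ⟨u, rfl⟩ := hu
    refine h2 (regular_dim_one h1 a (le_antisymm ?_ ?_))
    · intro c hc
      obtain ⟨d, hd⟩ := Ideal.mem_span_singleton'.mp (hmy c hc)
      rw [Ideal.mem_span_singleton']
      refine ⟨d * ↑u⁻¹, hcancel _ _ ?_⟩
      have : x = ↑u⁻¹ * (a * y) := by rw [← hb, ← mul_assoc, u.inv_mul, one_mul]
      calc d * ↑u⁻¹ * a * x = ↑u⁻¹ * a * (d * x) := by ring
        _ = ↑u⁻¹ * a * (c * y) := by rw [hd]
        _ = c * (↑u⁻¹ * (a * y)) := by ring
        _ = c * x := by rw [← this]
    · rw [Ideal.span_le, Set.singleton_subset_iff]; exact ha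
  let L := Localization.Away x
  have hnz : Submonoid.powers x ≤ nonZeroDivisors R := by
    rw [Submonoid.powers_le, mem_nonZeroDivisors_iff_right]
    intro z hz
    exact hcancel z 0 (by rw [hz, zero_mul])
  have hinj : Function.Injective (algebraMap R L) := IsLocalization.injective L hnz
  have hux : IsUnit (algebraMap R L x) := IsLocalization.Away.algebraMap_isUnit x
  let S : Subalgebra R L :=
    { carrier := {w | ∀ a ∈ m, ∃ b ∈ m, algebraMap R L a * w = algebraMap R L b}
      mul_mem' := by
        intro w w' hw hw' a ha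
        obtain ⟨b, hb, e⟩ := hw a ha
        obtain ⟨c, hc, e'⟩ := hw' b hb
        exact ⟨c, hc, by rw [← mul_assoc, e, e']⟩
      add_mem' := by
        intro w w' hw hw' a ha
        obtain ⟨b, hb, e⟩ := hw a ha
        obtain ⟨c, hc, e'⟩ := hw' a ha
        exact ⟨b + c, add_mem hb hc, by rw [mul_add, e, e', map_add]⟩
      algebraMap_mem' := fun r a ha => ⟨a * r, Ideal.mul_mem_right r m ha, by rw [map_mul]⟩ }
  have hfin : Module.Finite R S := by
    have : (Subalgebra.toSubmodule S).FG := by
      apply Submodule.fg_of_fg_map_injective (LinearMap.mulLeft R (algebraMap R L x))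
      · exact fun p q h => hux.mul_left_cancel (by simpa using h)
      · have hr : (LinearMap.range (Algebra.linearMap R L)).FG := by
          rw [LinearMap.range_eq_map]
          exact Submodule.FG.map _ Module.Finite.fg_top
        exact Submodule.FG.of_le hr (by
          rintro _ ⟨w, hw, rfl⟩
          obtain ⟨b, -, e⟩ := hw x hxm
          exact ⟨b, by simpa using e.symm⟩)
    exact Module.Finite.iff_fg.mpr this
  refine ⟨S, inferInstance, inferInstance, ?_, hfin, ?_, ⟨1, ?_, ?_⟩, ?_⟩
  · have : Nontrivial L := hinj.nontrivial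
    infer_instance
  · intro hbij
    let z : L := IsLocalization.mk' L y ⟨x, Submonoid.mem_powers x⟩
    have hz : z ∈ S := by
      intro a ha
      obtain ⟨b, hbm, e⟩ := hb a ha
      refine ⟨b, hbm, ?_⟩
      show algebraMap R L a * IsLocalization.mk' L y _ = _
      rw [IsLocalization.mul_mk'_eq_mk'_of_mul, IsLocalization.mk'_eq_iff_eq_mul, ← map_mul, e]
    obtain ⟨r, hr⟩ := hbij.2 ⟨z, hz⟩
    apply hy
    rw [Ideal.mem_span_singleton']
    refine ⟨r, hinj ?_⟩
    have : algebraMap R L r = z := congrArg Subtype.val hr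
    rw [map_mul, this]
    exact IsLocalization.mk'_spec L y ⟨x, Submonoid.mem_powers x⟩
  · intro r hr a _
    have : r = 0 := hinj (by simpa using congrArg Subtype.val hr)
    simp [this]
  · intro w a ha
    rw [pow_one] at ha
    obtain ⟨b, -, e⟩ := w.2 a ha
    exact ⟨b, Subtype.ext (by simpa [Algebra.smul_def] using e.symm)⟩
  · intro hass
    obtain ⟨hp, w, hw⟩ := isAssociatedPrime_iff.mp hass
    have hxw := hxm
    rw [hw, Submodule.mem_colon_singleton] at hxw
    have h0 : (w : L) = 0 := by
      have := congrArg Subtype.val (by simpa using hxw : x • w = 0)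
      exact hux.mul_right_eq_zero.mp (by simpa [Algebra.smul_def] using this)
    apply hp.ne_top
    rw [hw, show w = 0 from Subtype.ext (by simpa using h0)]
    simp

/-- Let R be a Noetherian local ring which is not Artinian, is not a regular local ring of dimension
one, and has depth at most one. Then there is a finite ring map R → R' with R' ≠ 0, not bijective,
whose kernel and cokernel are killed by a power of the maximal ideal of R, such that the maximal
ideal of R is not an associated prime of the R-module R'. (This says that the four cases for a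
Noetherian local ring — Artinian, regular of dimension one, depth at least two, or admitting such a
map — cover everything; that they are mutually exclusive is not asserted.) -/
theorem result {R : Type u} [CommRing R] [IsLocalRing R] [IsNoetherianRing R]
    (h1 : ¬ IsArtinianRing R) (h2 : ¬ (IsRegularLocalRing R ∧ ringKrullDim R = 1))
    (h3 : LocCoh.depth R R ≤ 1) :
    ∃ (R' : Type u) (_ : CommRing R') (_ : Algebra R R'), Nontrivial R' ∧ Module.Finite R R' ∧
      ¬ Function.Bijective (algebraMap R R') ∧
      (∃ n : ℕ, (∀ x : R, algebraMap R R' x = 0 → ∀ a ∈ IsLocalRing.maximalIdeal R ^ n, a * x = 0) ∧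
        (∀ y : R', ∀ a ∈ IsLocalRing.maximalIdeal R ^ n, a • y ∈ Set.range (algebraMap R R'))) ∧
      IsLocalRing.maximalIdeal R ∉ associatedPrimes R R' := by
  by_cases h : ∀ a ∈ IsLocalRing.maximalIdeal R, ¬ IsSMulRegular R a
  · obtain ⟨s, hs, hsm⟩ := exists_socle h
    exact case_zero h1 s hs hsm
  · push Not at h
    obtain ⟨x, hxm, hx⟩ := h
    have hq : ∀ a ∈ IsLocalRing.maximalIdeal R, ¬ IsSMulRegular (QuotSMulTop x R) a := by
      intro a ha hreg
      have hne : IsLocalRing.maximalIdeal R • (⊤ : Submodule R R) ≠ ⊤ := by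
        simpa [Ideal.mul_top] using (IsLocalRing.maximalIdeal.isMaximal R).ne_top
      have hw : RingTheory.Sequence.IsWeaklyRegular R [x, a] :=
        RingTheory.Sequence.IsWeaklyRegular.cons hx
          (RingTheory.Sequence.IsWeaklyRegular.cons hreg (RingTheory.Sequence.IsWeaklyRegular.nil R _))
      have h2le : (2 : ℕ∞) ≤ LocCoh.depth R R := by
        rw [LocCoh.depth, LocCoh.idealDepth, if_neg hne]
        exact le_iSup₂_of_le [x, a] ⟨hw, fun r hr => by
          rcases List.mem_cons.mp hr with rfl | hr
          · exact hxm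
          · rw [List.mem_singleton.mp hr]; exact ha⟩ le_rfl
      exact absurd (h2le.trans h3) (by decide)
    obtain ⟨q, hq0, hqm⟩ := exists_socle hq
    obtain ⟨y, rfl⟩ := Submodule.mkQ_surjective _ q
    have hiff : ∀ z : R, (x • (⊤ : Submodule R R)).mkQ z = 0 ↔ z ∈ Ideal.span {x} := by
      intro z
      rw [Submodule.mkQ_apply, Submodule.Quotient.mk_eq_zero, Ideal.mem_span_singleton',
        Submodule.mem_smul_pointwise_iff_exists]
      simp [mul_comm x, eq_comm]
    refine case_one h1 h2 x hxm hx y (fun hy => hq0 ((hiff y).mpr hy)) fun a ha => ?_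
    rw [← hiff, ← smul_eq_mul, map_smul]
    exact hqm a ha

end Groth.Agent.S2058
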