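import Groth.Statements.S2059
import Mathlib.RingTheory.Algebraic.LinearIndependent
-- import your own Groth.Agent.* helpers here

set_option autoImplicit false
universe u
open CAlg

namespace Groth.Agent.S2059

theorem isAlgebraic_of_small {k K : Type u} [Field k] [Field K] [Algebra k K] (t : Set K)
    (ht : Algebra.adjoin k t = ⊤) (h : t.Finite ∨ Cardinal.mk t < Cardinal.mk k) :
    Algebra.IsAlgebraic k K := by
  rcases t.finite_or_infinite with hf | hinf
  · haveI : Algebra.FiniteType k K := ⟨⟨hf.toFinset, by rwa [Set.Finite.coe_toFinset]⟩⟩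
    haveI : Module.Finite k K := finite_of_finite_type_of_isJacobsonRing k K
    exact Algebra.IsAlgebraic.of_finite k K
  · have hlt := h.resolve_left hinf
    haveI := hinf.to_subtype
    refine ⟨fun x => by_contra fun hx => ?_⟩
    have h1 : Cardinal.mk k ≤ Module.rank k K := by
      simpa using (Transcendental.linearIndependent_sub_inv hx).cardinal_lift_le_rank
    have hsub : (Submonoid.closure t : Set K) ⊆ Set.range fun l : List t => (l.map (↑)).prod := by
      intro y hy
      obtain ⟨l, hl, rfl⟩ := Submonoid.exists_list_of_mem_closure hy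
      exact ⟨l.attach.map fun z => ⟨z.1, hl _ z.2⟩, by simp⟩
    have h2 : Cardinal.mk (Submonoid.closure t : Set K) ≤ Cardinal.mk t :=
      ((Cardinal.mk_le_mk_of_subset hsub).trans Cardinal.mk_range_le).trans
        ((Cardinal.mk_list_le_max t).trans (max_le (Cardinal.aleph0_le_mk t) le_rfl))
    have h3 : Module.rank k K ≤ Cardinal.mk t := by
      rw [← rank_top k K, ← Algebra.top_toSubmodule, ← ht, Algebra.adjoin_eq_span]
      exact (rank_span_le _).trans h2
    exact not_lt_of_ge (h1.trans h3) hlt

theorem adjoin_insert_eq_top_of_away {k B L : Type u} [CommRing k] [CommRing B] [CommRing L]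
    [Algebra k B] [Algebra k L] [Algebra B L] [IsScalarTower k B L] (g : B) [IsLocalization.Away g L]
    (t : Set B) (ht : Algebra.adjoin k t = ⊤) :
    Algebra.adjoin k (insert (IsLocalization.Away.invSelf g : L) (algebraMap B L '' t)) = ⊤ := by
  refine eq_top_iff.mpr fun z _ => ?_
  obtain ⟨⟨b, ⟨_, n, rfl⟩⟩, hz⟩ := IsLocalization.surj (Submonoid.powers g) z
  have hb : algebraMap B L b ∈ Algebra.adjoin k (algebraMap B L '' t) := by
    rw [show algebraMap B L '' t = IsScalarTower.toAlgHom k B L '' t from rfl, Algebra.adjoin_image]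
    exact ⟨b, by rw [ht]; exact Algebra.mem_top, rfl⟩
  have : z = algebraMap B L b * (IsLocalization.Away.invSelf g : L) ^ n := by
    rw [← hz, map_pow, mul_assoc, ← mul_pow, IsLocalization.Away.mul_invSelf, one_pow, mul_one]
  rw [this]
  exact Subalgebra.mul_mem _ (Algebra.adjoin_mono (Set.subset_insert _ _) hb)
    (Subalgebra.pow_mem _ (Algebra.subset_adjoin (Set.mem_insert _ _)) n)

/-- Let `k` be a field and `S` a `k`-algebra generated by a set of cardinality smaller than that of `k`.
Then for every maximal ideal `𝔪` of `S` the residue field `S/𝔪` is algebraic over `k`, and `S` is a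
Jacobson ring. -/
theorem result {k S : Type u} [Field k] [CommRing S] [Algebra k S]
    (s : Set S) (hs : Algebra.adjoin k s = ⊤) (hcard : Cardinal.mk s < Cardinal.mk k) :
    (∀ (m : Ideal S) [m.IsMaximal], Algebra.IsAlgebraic k (S ⧸ m)) ∧ IsJacobsonRing S := by
  classical
  constructor
  · intro m _
    letI := Ideal.Quotient.field m
    refine isAlgebraic_of_small ((Ideal.Quotient.mkₐ k m) '' s) ?_ (.inr (Cardinal.mk_image_le.trans_lt hcard))
    rw [Algebra.adjoin_image, hs, Algebra.map_top, AlgHom.range_eq_top]
    exact Ideal.Quotient.mkₐ_surjective k m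
  · refine isJacobsonRing_iff_prime_eq.mpr fun P hP => le_antisymm (fun g hg => ?_) Ideal.le_jacobson
    by_contra hgP
    let π := Ideal.Quotient.mkₐ k P
    let L := Localization.Away (π g)
    haveI : Nontrivial L := by
      refine not_subsingleton_iff_nontrivial.mp fun hsub => ?_
      obtain ⟨n, hn⟩ := (IsLocalization.subsingleton_iff (S := L) (M := Submonoid.powers (π g))).mp hsub
      exact hgP (hP.mem_of_pow_mem n (Ideal.Quotient.eq_zero_iff_mem.mp (by
        simpa [π, ← map_pow] using hn)))
    obtain ⟨m, hm⟩ := Ideal.exists_maximal L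
    letI := Ideal.Quotient.field m
    let T : Set (L ⧸ m) := (Ideal.Quotient.mkₐ k m) ''
      insert (IsLocalization.Away.invSelf (π g) : L) (algebraMap (S ⧸ P) L '' (π '' s))
    have hT : Algebra.adjoin k T = ⊤ := by
      rw [Algebra.adjoin_image, adjoin_insert_eq_top_of_away (π g) (π '' s) (by
        rw [Algebra.adjoin_image, hs, Algebra.map_top, AlgHom.range_eq_top]
        exact Ideal.Quotient.mkₐ_surjective k P), Algebra.map_top, AlgHom.range_eq_top]
      exact Ideal.Quotient.mkₐ_surjective k m
    have hsmall : T.Finite ∨ Cardinal.mk T < Cardinal.mk k := by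
      rcases s.finite_or_infinite with hf | hinf
      · exact .inl ((((hf.image _).image _).insert _).image _)
      · haveI := hinf.to_subtype
        refine .inr ((Cardinal.mk_image_le.trans Cardinal.mk_insert_le).trans_lt ?_)
        exact Cardinal.add_lt_of_lt ((Cardinal.aleph0_le_mk s).trans hcard.le)
          ((Cardinal.mk_image_le.trans Cardinal.mk_image_le).trans_lt hcard)
          (Cardinal.one_lt_aleph0.trans_le ((Cardinal.aleph0_le_mk s).trans hcard.le))
    haveI := isAlgebraic_of_small T hT hsmall
    let ψ : S →ₐ[k] L ⧸ m := (Ideal.Quotient.mkₐ k m).comp ((IsScalarTower.toAlgHom k (S ⧸ P) L).comp π)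
    haveI : Algebra.IsIntegral k (L ⧸ m) := Algebra.IsAlgebraic.isIntegral
    haveI : Algebra.IsIntegral S (L ⧸ m) := Algebra.IsIntegral.tower_top k
    have hmax : (RingHom.ker ψ.toRingHom).IsMaximal :=
      Ideal.isMaximal_comap_of_isIntegral_of_isMaximal (R := S) (⊥ : Ideal (L ⧸ m))
    have hle : P ≤ RingHom.ker ψ.toRingHom := fun x hx => by
      show ψ x = 0
      simp [ψ, π, Ideal.Quotient.eq_zero_iff_mem.mpr hx]
    have h0 : ψ g = 0 := (Ideal.mem_sInf.mp hg) ⟨hle, hmax⟩
    have hu : IsUnit (ψ g) :=
      (IsLocalization.Away.algebraMap_isUnit (S := L) (π g)).map (Ideal.Quotient.mk m)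
    exact hu.ne_zero h0

end Groth.Agent.S2059
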