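import Groth.Statements.S2060
import Groth.Agent.AlgSpCov.SmallExtSmooth
-- import your own Groth.Agent.* helpers here

set_option autoImplicit false
universe u
open CAlg

namespace Groth.Agent.S2060

/-- Let `R` be Noetherian, `S` of finite type over `R` and `𝔮` a prime of `S`. Then `R → S` is smooth at
`𝔮` if and only if for every surjection `B' → B` of Artinian local `R`-algebras whose kernel is
principal and killed by the maximal ideal of `B'`, every `R`-algebra map `S → B` under which the
maximal ideal pulls back to `𝔮` lifts to `B'`. -/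
theorem result {R S : Type u} [CommRing R] [IsNoetherianRing R]
    [CommRing S] [Algebra R S] [Algebra.FiniteType R S] (q : Ideal S) [q.IsPrime] :
    Algebra.IsSmoothAt R q ↔
      ∀ (B' B : Type u) [CommRing B'] [CommRing B] [IsLocalRing B'] [IsLocalRing B]
        [IsArtinianRing B'] [IsArtinianRing B] [Algebra R B'] [Algebra R B] (π : B' →ₐ[R] B),
        Function.Surjective π →
        (∃ t : B', RingHom.ker π.toRingHom = Ideal.span {t} ∧
          ∀ a ∈ IsLocalRing.maximalIdeal B', a * t = 0) →
        ∀ g : S →ₐ[R] B, (IsLocalRing.maximalIdeal B).comap g = q →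
          ∃ g' : S →ₐ[R] B', π.comp g' = g := by
  constructor
  · intro hsm B' B _ _ _ _ _ _ _ _ π hπ ht g hg
    obtain ⟨t, ht, hann⟩ := ht
    have hu : ∀ y : q.primeCompl, IsUnit (g y) := fun y => by
      by_contra h
      exact y.2 (hg ▸ (IsLocalRing.mem_maximalIdeal (g y)).mpr h)
    let gq : Localization.AtPrime q →ₐ[R] B := IsLocalization.liftAlgHom (M := q.primeCompl) (f := g) hu
    have hgq : ∀ s, gq (algebraMap S _ s) = g s := fun s => IsLocalization.lift_eq _ s
    have : Algebra.FormallySmooth R (Localization.AtPrime q) := hsm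
    have hnil : IsNilpotent (RingHom.ker π.toRingHom) := by
      have htm : t ∈ IsLocalRing.maximalIdeal B' := IsLocalRing.le_maximalIdeal (RingHom.ker_ne_top π.toRingHom) (ht ▸ Ideal.mem_span_singleton_self t)
      refine ⟨2, ?_⟩
      rw [ht, Ideal.span_singleton_pow, Ideal.zero_eq_bot, Ideal.span_singleton_eq_bot, sq]
      exact hann t htm
    let v := Algebra.FormallySmooth.liftOfSurjective gq π hπ hnil
    refine ⟨v.comp (IsScalarTower.toAlgHom R S _), AlgHom.ext fun s => ?_⟩
    exact (AlgHom.congr_fun (Algebra.FormallySmooth.comp_liftOfSurjective gq π hπ hnil) _).trans (hgq s)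
  · intro H
    refine Groth.Agent.AlgSpCov.SmallExtSmooth.isSmoothAt_of_smallLifts q ?_
    intro B' B _ _ _ _ _ _ π hπ ht χ u hu huq _
    let _ : Algebra R B' := χ.toAlgebra
    let _ : Algebra R B := (π.comp χ).toAlgebra
    let π' : B' →ₐ[R] B := { π with commutes' := fun _ => rfl }
    let g : S →ₐ[R] B := { u with commutes' := RingHom.congr_fun hu }
    obtain ⟨g', hg'⟩ := H B' B π' hπ ht g huq
    exact ⟨g'.toRingHom, g'.comp_algebraMap, congrArg AlgHom.toRingHom hg'⟩

end Groth.Agent.S2060
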