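import Groth.Statements.S2064
import Groth.Agent.Depth.Local
-- import your own Groth.Agent.* helpers here

set_option autoImplicit false
universe u
open CategoryTheory
open CAlg CategoryTheory

namespace Groth.Agent.S2064

/-- Let `R` be a Noetherian local ring and `0 → M_e → M_{e-1} → … → M_0` a complex of finite `R`-modules
with `depth(M_j) ≥ j`. If `i > 0` is the largest index at which the complex is not exact, then the
homology at `M_i` has depth at least one. -/
theorem result {R : Type u} [CommRing R] [IsLocalRing R] [IsNoetherianRing R]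
    (C : ChainComplex (ModuleCat.{u} R) ℕ) (e : ℕ) (hzero : ∀ j, e < j → Limits.IsZero (C.X j))
    (hfin : ∀ j, Module.Finite R (C.X j)) (hdepth : ∀ j, j ≤ e → (j : ℕ∞) ≤ LocCoh.depth R (C.X j))
    (i : ℕ) (hi : 0 < i) (hnot : ¬ C.ExactAt i) (habove : ∀ j, i < j → C.ExactAt j) :
    1 ≤ LocCoh.depth R (C.homology i) := by
  classical
  haveI := hfin
  have eqd : ∀ (M : Type u) [AddCommGroup M] [Module R M],
      LocCoh.depth R M = LocCoh.idealDepth (IsLocalRing.maximalIdeal R) M := fun M _ _ => rfl
  let B : (j : ℕ) → Submodule R (C.X j) := fun j => LinearMap.range (C.d (j + 1) j).hom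
  have hker : ∀ j, i ≤ j → LinearMap.ker (C.d (j + 1) j).hom = B (j + 1) := by
    intro j hj
    have h := habove (j + 1) (by omega)
    rw [C.exactAt_iff' (j + 2) (j + 1) j (by simp) (by simp),
      ShortComplex.moduleCat_exact_iff_range_eq_ker] at h
    exact h.symm
  have hB : ∀ n j, i ≤ j → e ≤ j + n →
      ((j + 1 : ℕ) : ℕ∞) ≤ LocCoh.idealDepth (IsLocalRing.maximalIdeal R) (B j) := by
    intro n
    induction n with
    | zero =>
      intro j _ hje
      haveI := ModuleCat.subsingleton_of_isZero (hzero (j + 1) (by omega))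
      haveI : Subsingleton (B j) := ⟨by
        rintro ⟨_, a, rfl⟩ ⟨_, b, rfl⟩
        exact Subtype.ext (by rw [Subsingleton.elim a b])⟩
      rw [Groth.Agent.Depth.idealDepth_eq_top_of_subsingleton]
      exact le_top
    | succ n ih =>
      intro j hj hje
      rcases Nat.lt_or_ge j e with hlt | hge
      · refine le_trans (le_min ?_ ?_) (Groth.Agent.Depth.min_le_idealDepth_X₃
          (f := (B (j + 1)).subtype) (g := (C.d (j + 1) j).hom.rangeRestrict)
          (B (j + 1)).injective_subtype (LinearMap.surjective_rangeRestrict _)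
          (LinearMap.exact_iff.mpr (by rw [LinearMap.ker_rangeRestrict, Submodule.range_subtype]; exact hker j hj)))
        · exact eqd (C.X (j + 1)) ▸ hdepth (j + 1) (by omega)
        · have h := ih (j + 1) (by omega) (by omega)
          push_cast at h ⊢
          exact ENat.le_sub_of_add_le_left ENat.one_ne_top (by rwa [add_comm])
      · haveI := ModuleCat.subsingleton_of_isZero (hzero (j + 1) (by omega))
        haveI : Subsingleton (B j) := ⟨by
          rintro ⟨_, a, rfl⟩ ⟨_, b, rfl⟩
          exact Subtype.ext (by rw [Subsingleton.elim a b])⟩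
        rw [Groth.Agent.Depth.idealDepth_eq_top_of_subsingleton]
        exact le_top
  obtain ⟨k, rfl⟩ : ∃ k, i = k + 1 := ⟨i - 1, by omega⟩
  have hie : k + 1 ≤ e := by
    by_contra hc
    refine hnot ?_
    rw [HomologicalComplex.exactAt_iff]
    exact ShortComplex.exact_of_isZero_X₂ _ (hzero (k + 1) (by omega))
  let S := C.sc' (k + 2) (k + 1) k
  let eH : C.homology (k + 1) ≅ S.moduleCatLeftHomologyData.H :=
    C.homologyIsoSc' (k + 2) (k + 1) k (by simp) (by simp) ≪≫ S.moduleCatHomologyIso
  let L := eH.toLinearEquiv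
  let g : LinearMap.ker S.g.hom →ₗ[R] (C.homology (k + 1) : Type u) :=
    (L.symm.toLinearMap).comp (LinearMap.range S.moduleCatToCycles).mkQ
  haveI : Module.Finite R S.X₂ := hfin (k + 1)
  haveI : IsNoetherian R S.X₂ := isNoetherian_of_isNoetherianRing_of_finite R _
  haveI : Module.Finite R (LinearMap.ker S.g.hom) := inferInstance
  haveI : Module.Finite R (LinearMap.range S.moduleCatToCycles) := inferInstance
  haveI : Module.Finite R (C.homology (k + 1) : Type u) :=
    Module.Finite.of_surjective g (L.symm.surjective.comp (Submodule.mkQ_surjective _))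
  rw [eqd]
  refine le_trans (le_min ?_ ?_) (Groth.Agent.Depth.min_le_idealDepth_X₃
    (f := (LinearMap.range S.moduleCatToCycles).subtype) (g := g) (Submodule.injective_subtype _)
    (L.symm.surjective.comp (Submodule.mkQ_surjective _))
    (fun z => ((LinearEquiv.map_eq_zero_iff L.symm).trans (Submodule.Quotient.mk_eq_zero _)).trans
      ⟨fun h => ⟨⟨z, h⟩, rfl⟩, fun ⟨w, hw⟩ => hw ▸ w.2⟩))
  · rw [Groth.Agent.Depth.one_le_idealDepth_iff]
    intro p hp
    refine (Groth.Agent.Depth.one_le_idealDepth_iff.mp ?_) p
      (associatedPrimes.subset_of_injective (LinearMap.ker S.g.hom).injective_subtype hp)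
    refine le_trans ?_ ((eqd (C.X (k + 1))) ▸ hdepth (k + 1) hie)
    exact_mod_cast Nat.succ_le_succ (Nat.zero_le k)
  · have h := hB e (k + 1) le_rfl (by omega)
    let eB : LinearMap.range S.moduleCatToCycles ≃ₗ[R] B (k + 1) :=
      (Submodule.equivMapOfInjective _ (LinearMap.ker S.g.hom).injective_subtype _).trans
        (LinearEquiv.ofEq _ _ (by rw [← LinearMap.range_comp]; rfl))
    rw [Groth.Agent.Depth.idealDepth_congr eB]
    refine ENat.le_sub_of_add_le_left ENat.one_ne_top (le_trans ?_ h)
    exact_mod_cast (show 1 + 1 ≤ k + 1 + 1 by omega)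

end Groth.Agent.S2064
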