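import Groth.Statements.S2065
import Groth.Agent.CAlgMisc.BEConverse
import Groth.Agent.S19962

set_option autoImplicit false
universe u
open CAlg

namespace Groth.Agent.S2065

/-- Let `R` be a Noetherian local ring and `0 → R^{n_e} → … → R^{n_1} → R^{n_0}` a complex of finite
free modules, the map `R^{n_{i+1}} → R^{n_i}` being given by the matrix `A i`. The complex is exact
at `R^{n_e}, …, R^{n_1}` if and only if for each `1 ≤ j ≤ e` the matrix of `R^{n_j} → R^{n_{j-1}}`
has rank `n_j - n_{j+1} + … ± n_e` and its ideal of minors of that size is the unit ideal or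
contains a regular sequence of length `j`. -/
theorem result {R : Type u} [CommRing R] [IsLocalRing R] [IsNoetherianRing R]
    (e : ℕ) (he : 1 ≤ e) (n : ℕ → ℕ) (A : (i : ℕ) → Matrix (Fin (n i)) (Fin (n (i + 1))) R)
    (hA : ∀ i, i + 2 ≤ e → A i * A (i + 1) = 0) :
    (LinearMap.ker (A (e - 1)).mulVecLin = ⊥ ∧
        ∀ i, i + 2 ≤ e → LinearMap.ker (A i).mulVecLin = LinearMap.range (A (i + 1)).mulVecLin) ↔
      ∀ j, 1 ≤ j → j ≤ e →
        (CAlgX.matrixRank (A (j - 1)) : ℤ) = ∑ t ∈ Finset.Icc j e, (-1 : ℤ) ^ (t - j) * (n t : ℤ) ∧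
          (CAlgX.detIdeal (A (j - 1)) = ⊤ ∨
            ∃ rs : List R, rs.length = j ∧ (∀ r ∈ rs, r ∈ CAlgX.detIdeal (A (j - 1))) ∧
              RingTheory.Sequence.IsRegular R rs) := by
  classical
  constructor
  · intro hex
    let M : ∀ q, Matrix (Fin (n q)) (Fin (n (q + 1))) R :=
      Groth.Agent.CAlg99.Acyclicity.F e A
    have hM : ∀ q, q < e → M q = A q := fun q hq =>
      Groth.Agent.CAlg99.Acyclicity.F_of_lt e A hq
    have hM' : ∀ q, e ≤ q → M q = 0 := fun q hq =>
      Groth.Agent.CAlg99.Acyclicity.F_of_le e A hq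
    have hcx : Groth.Agent.CAlgMisc.BEConverse.Cx e n M := by
      refine ⟨Groth.Agent.CAlg99.Acyclicity.F_mul_F e A hA, fun q hq v hv => ?_, hM'⟩
      rw [hM q hq] at hv
      rcases (show q + 1 = e ∨ q + 2 ≤ e by omega) with hqe | hqe
      · subst hqe
        have : v ∈ LinearMap.ker (A q).mulVecLin := by simpa using hv
        refine ⟨0, ?_⟩
        rw [Matrix.mulVec_zero]
        have h1 : LinearMap.ker (A q).mulVecLin = ⊥ := hex.1
        rwa [h1, Submodule.mem_bot] at this
      · have : v ∈ LinearMap.ker (A q).mulVecLin := by simpa using hv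
        rw [hex.2 q hqe] at this
        obtain ⟨w, hw⟩ := this
        refine ⟨w, ?_⟩
        rw [hM (q + 1) (by omega), ← hw]
        rfl
    intro j hj1 hje
    obtain ⟨q, rfl⟩ : ∃ q, j = q + 1 := ⟨j - 1, by omega⟩
    rw [Nat.add_sub_cancel]
    have hq : q < e := by omega
    have hrank : CAlgX.matrixRank (A q) = Groth.Agent.CAlgMisc.BEConverse.rk e n q := by
      rw [← hM q hq]
      exact Groth.Agent.CAlgMisc.BEConverse.matrixRank_eq hcx q
    refine ⟨?_, ?_⟩
    · rw [hrank]
      clear hrank hj1 hje
      induction hk : e - (q + 1) generalizing q with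
      | zero =>
        obtain rfl : e = q + 1 := by omega
        rw [Groth.Agent.CAlgMisc.BEConverse.rk_of_lt n hq,
          Groth.Agent.CAlgMisc.BEConverse.rk_of_le n le_rfl]
        simp
      | succ k ih =>
        have hle := Groth.Agent.CAlgMisc.BEConverse.rk_le hcx hq
        rw [Groth.Agent.CAlgMisc.BEConverse.rk_of_lt n hq, Nat.cast_sub hle,
          ih (q + 1) (by omega) (by omega),
          ← Finset.insert_Icc_add_one_left_eq_Icc (show q + 1 ≤ e by omega),
          Finset.sum_insert (by simp), Nat.sub_self, pow_zero, one_mul, sub_eq_add_neg,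
          ← Finset.sum_neg_distrib]
        congr 1
        refine Finset.sum_congr rfl fun t ht => ?_
        have : t - (q + 1) = t - (q + 1 + 1) + 1 := by
          have := (Finset.mem_Icc.mp ht).1; omega
        rw [this, pow_succ]
        ring
    · have := Groth.Agent.CAlgMisc.BEConverse.exists_regular q hcx hq
      rw [hM q hq, ← hrank] at this
      exact this
  · intro h
    exact Groth.Agent.S19962.result e he n A hA (fun j h1 h2 => (h j h1 h2).1)
      (fun j h1 h2 => (h j h1 h2).2)

end Groth.Agent.S2065
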