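import Groth.Statements.S2071
import Mathlib
-- import your own Groth.Agent.* helpers here

set_option autoImplicit false
universe u
open CAlg

namespace Groth.Agent.S2071

/-- For a field extension `k'/k`, every element of `k'` has a positive power in `k` if and only if
either `k' = k`, or the characteristic is a prime `p` and either `k'/k` is purely inseparable or
`k'` is algebraic over its prime field. -/
theorem result {k k' : Type u} [Field k] [Field k'] [Algebra k k'] :
    (∀ x : k', ∃ n : ℕ, 0 < n ∧ x ^ n ∈ Set.range (algebraMap k k')) ↔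
      Function.Surjective (algebraMap k k') ∨
        ∃ p : ℕ, p.Prime ∧ CharP k' p ∧
          (IsPurelyInseparable k k' ∨ Algebra.IsAlgebraic (⊥ : Subfield k') k') := by
  classical
  constructor
  · intro h
    by_cases hs : Function.Surjective (algebraMap k k')
    · exact Or.inl hs
    refine Or.inr ?_
    have halg : Algebra.IsAlgebraic k k' := ⟨fun x => by
      obtain ⟨n, hn, a, ha⟩ := h x
      refine IsIntegral.isAlgebraic (IsIntegral.of_pow hn ?_)
      rw [← ha]; exact isIntegral_algebraMap⟩
    by_cases hpi : IsPurelyInseparable k k'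
    · obtain ⟨q, hq⟩ := CharP.exists k'
      rcases CharP.char_is_prime_or_zero k' q with hp | rfl
      · exact ⟨q, hp, hq, Or.inl hpi⟩
      · exfalso
        have : CharZero k' := CharP.charP_to_charZero k'
        have : CharZero k := (RingHom.charZero_iff (algebraMap k k').injective).mpr inferInstance
        exact hs (IsPurelyInseparable.surjective_algebraMap_of_isSeparable k k')
    obtain ⟨x, hxsep, hx⟩ : ∃ x : k', IsSeparable k x ∧ x ∉ Set.range (algebraMap k k') := by
      by_contra hne
      exact hpi ⟨inferInstance, fun x hx => by_contra fun hx' => hne ⟨x, hx, hx'⟩⟩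
    let Ω := AlgebraicClosure k'
    let ι := algebraMap k' Ω
    obtain ⟨σ, hσ⟩ : ∃ σ : k' →ₐ[k] Ω, σ x ≠ ι x := by
      by_contra hne
      push_neg at hne
      have hall : ∀ y ∈ ((minpoly k x).map (algebraMap k Ω)).roots, y = ι x := fun y hy => by
        rw [Polynomial.mem_roots', Polynomial.IsRoot, Polynomial.eval_map, ← Polynomial.aeval_def] at hy
        obtain ⟨σ, hσ⟩ : ∃ σ : k' →ₐ[k] Ω, σ x = y := by
          have : y ∈ (minpoly k x).rootSet Ω := Polynomial.mem_rootSet.mpr ⟨minpoly.ne_zero hxsep.isIntegral, hy.2⟩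
          rw [← Algebra.IsAlgebraic.range_eval_eq_rootSet_minpoly] at this
          exact this
        exact hσ ▸ hne σ
      have hnd : ((minpoly k x).map (algebraMap k Ω)).roots.Nodup :=
        Polynomial.nodup_roots (Polynomial.Separable.map hxsep)
      have hle : Multiset.card ((minpoly k x).map (algebraMap k Ω)).roots ≤ 1 := by
        refine le_trans (Multiset.card_le_card (?_ : _ ≤ ({ι x} : Multiset Ω))) (by simp)
        exact (Multiset.le_iff_subset hnd).mpr fun y hy => Multiset.mem_singleton.mpr (hall y hy)
      rw [← Polynomial.Splits.natDegree_eq_card_roots (IsAlgClosed.splits _), Polynomial.natDegree_map] at hle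
      exact hx (minpoly.mem_range_of_degree_eq_one k x (by
        rw [Polynomial.degree_eq_natDegree (minpoly.ne_zero hxsep.isIntegral)]
        exact_mod_cast le_antisymm hle (minpoly.natDegree_pos hxsep.isIntegral)))
    have hfin : ∀ y : k', ∃ z : Ω, σ y = z * ι y ∧ ∃ n : ℕ, 0 < n ∧ z ^ n = 1 := by
      intro y
      by_cases hy : y = 0
      · exact ⟨1, by simp [hy], 1, one_pos, one_pow 1⟩
      obtain ⟨n, hn, a, ha⟩ := h y
      refine ⟨σ y / ι y, (div_mul_cancel₀ _ (by simpa [ι] using hy)).symm, n, hn, ?_⟩
      rw [div_pow, ← map_pow, ← map_pow, ← ha, AlgHom.commutes, ← IsScalarTower.algebraMap_apply]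
      exact div_self (by
        intro h0
        rw [map_eq_zero] at h0
        exact pow_ne_zero n hy (by rw [← ha, h0, map_zero]))
    obtain ⟨ζ, hζ, nζ, hnζ, hζn⟩ := hfin x
    have hζ1 : ζ ≠ 1 := fun h1 => hσ (by rw [hζ, h1, one_mul])
    choose z hz hzn using fun c : k => hfin (x + algebraMap k k' c)
    have hrel : ∀ c : k, ι x * (ζ - z c) = algebraMap k Ω c * (z c - 1) := fun c => by
      have := hz c
      rw [map_add, map_add, hζ, AlgHom.commutes, ← IsScalarTower.algebraMap_apply] at this
      linear_combination this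
    have hx0 : ι x ≠ 0 := fun h0 => hσ (by rw [hζ, h0, mul_zero])
    have hne : ∀ c : k, c ≠ 0 → ζ ≠ z c ∧ z c ≠ 1 := fun c hc => by
      constructor
      · intro he
        have := hrel c
        rw [← he, sub_self, mul_zero, eq_comm, mul_eq_zero, map_eq_zero, sub_eq_zero] at this
        exact hζ1 (this.resolve_left hc)
      · intro he
        have := hrel c
        rw [he, sub_self, mul_zero, mul_eq_zero, sub_eq_zero] at this
        exact hζ1 (this.resolve_left hx0)
    have hint : ∀ (P : Type u) [Field P] [Algebra P Ω] {w : Ω}, (∃ n : ℕ, 0 < n ∧ w ^ n = 1) →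
        IsAlgebraic P w := fun P _ _ w ⟨n, hn, hw⟩ =>
      (IsIntegral.of_pow hn (hw ▸ isIntegral_one)).isAlgebraic
    let P := (⊥ : Subfield k')
    let E := algebraicClosure P Ω
    have hzE : ∀ c, z c ∈ E := fun c => mem_algebraicClosure_iff.mpr (hint P (hzn c))
    have hζE : ζ ∈ E := mem_algebraicClosure_iff.mpr (hint P ⟨nζ, hnζ, hζn⟩)
    have hxE : ι x ∈ E := by
      have h1 := hrel 1
      rw [map_one, one_mul] at h1
      rw [eq_div_of_mul_eq (sub_ne_zero.mpr (hne 1 one_ne_zero).1) h1]
      exact E.div_mem (E.sub_mem (hzE 1) E.one_mem) (E.sub_mem hζE (hzE 1))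
    obtain ⟨q, hq⟩ := CharP.exists k'
    rcases CharP.char_is_prime_or_zero k' q with hp | rfl
    · refine ⟨q, hp, hq, Or.inr ?_⟩
      have hkE : ∀ c : k, algebraMap k Ω c ∈ E := fun c => by
        by_cases hc : c = 0
        · rw [hc, map_zero]; exact E.zero_mem
        rw [eq_div_of_mul_eq (sub_ne_zero.mpr (hne c hc).2) (hrel c).symm]
        exact E.div_mem (E.mul_mem hxE (E.sub_mem hζE (hzE c))) (E.sub_mem (hzE c) E.one_mem)
      refine ⟨fun y => (isAlgebraic_algebraMap_iff (R := P) ι.injective).mp ?_⟩
      by_cases hy : y = 0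
      · rw [hy, map_zero]; exact isAlgebraic_zero
      obtain ⟨n, hn, a, ha⟩ := h y
      refine IsIntegral.isAlgebraic (IsIntegral.of_pow hn ?_)
      rw [← map_pow, ← ha, ← IsScalarTower.algebraMap_apply]
      exact (mem_algebraicClosure_iff.mp (hkE a)).isIntegral
    · exfalso
      have : CharZero k' := CharP.charP_to_charZero k'
      have : CharZero Ω := charZero_of_injective_ringHom ι.injective
      have hxQ : IsAlgebraic ℚ (ι x) := by
        have h1 := hrel 1
        rw [map_one, one_mul] at h1
        rw [eq_div_of_mul_eq (sub_ne_zero.mpr (hne 1 one_ne_zero).1) h1, div_eq_mul_inv]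
        have hq : ∀ {w : Ω}, (∃ n : ℕ, 0 < n ∧ w ^ n = 1) → IsAlgebraic ℚ w := fun {w} ⟨n, hn, hw⟩ =>
          (IsIntegral.of_pow hn (hw ▸ isIntegral_one)).isAlgebraic
        exact ((hq (hzn 1)).sub isAlgebraic_one).mul (((hq ⟨nζ, hnζ, hζn⟩).sub (hq (hzn 1))).inv)
      let L := IntermediateField.adjoin ℚ ({ι x, σ x} : Set Ω)
      have : FiniteDimensional ℚ L := IntermediateField.finiteDimensional_adjoin fun w hw => by
        rcases hw with rfl | rfl
        · exact hxQ.isIntegral
        · rw [hζ]
          exact (IsIntegral.of_pow hnζ (hζn ▸ isIntegral_one)).mul hxQ.isIntegral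
      have : NumberField L := ⟨⟩
      let S : Set L := {w | IsIntegral ℤ w ∧ ∀ φ : L →+* ℂ, ‖φ w‖ ≤ 1}
      have hS : S.Finite := NumberField.Embeddings.finite_of_norm_le L ℂ 1
      have hzL : ∀ m : ℕ, z ((m + 1 : ℕ) : k) ∈ L := fun m => by
        have e1 : ι (x + algebraMap k k' ((m + 1 : ℕ) : k)) ≠ 0 := fun h0 => by
          rw [map_eq_zero] at h0
          exact hx ⟨-((m + 1 : ℕ) : k), by rw [map_neg]; linear_combination -h0⟩
        have := hz ((m + 1 : ℕ) : k)
        rw [eq_comm, ← eq_div_iff e1] at this
        rw [this, map_add, map_add, map_natCast, map_natCast, map_natCast]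
        exact L.div_mem (L.add_mem (IntermediateField.subset_adjoin _ _ (Or.inr rfl)) (natCast_mem L _))
          (L.add_mem (IntermediateField.subset_adjoin _ _ (Or.inl rfl)) (natCast_mem L _))
      let g : ℕ → L := fun m => ⟨_, hzL m⟩
      have hgS : ∀ m, g m ∈ S := fun m => by
        obtain ⟨n, hn, hw⟩ := hzn ((m + 1 : ℕ) : k)
        have hw' : g m ^ n = 1 := Subtype.ext hw
        refine ⟨IsIntegral.of_pow hn (hw' ▸ isIntegral_one), fun φ => le_of_eq ?_⟩
        exact Complex.norm_eq_one_of_pow_eq_one (by rw [← map_pow, hw', map_one]) hn.ne'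
      have hginj : Function.Injective g := fun a b hab => by
        have hzz : z ((a + 1 : ℕ) : k) = z ((b + 1 : ℕ) : k) := congrArg Subtype.val hab
        have : CharZero k := (RingHom.charZero_iff (algebraMap k k').injective).mpr inferInstance
        have h1 := hrel ((a + 1 : ℕ) : k)
        have h2 := hrel ((b + 1 : ℕ) : k)
        rw [hzz, h2] at h1
        have := mul_right_cancel₀ (sub_ne_zero.mpr (hne _ (Nat.cast_ne_zero.mpr b.succ_ne_zero)).2) h1
        exact Nat.succ_injective (Nat.cast_injective ((algebraMap k Ω).injective this)).symm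
      exact Set.infinite_range_of_injective hginj (hS.subset (Set.range_subset_iff.mpr hgS))
  · rintro (hs | ⟨p, hp, hc, hpi | halg⟩) x
    · exact ⟨1, one_pos, hs _⟩
    · have := Fact.mk hp
      have : ExpChar k' p := ExpChar.prime hp
      have : CharP k p := (RingHom.charP_iff (algebraMap k k') (algebraMap k k').injective p).mpr hc
      have : ExpChar k p := ExpChar.prime hp
      obtain ⟨n, hn⟩ := IsPurelyInseparable.pow_mem k p x
      exact ⟨p ^ n, pow_pos hp.pos n, hn⟩
    · by_cases hx : x = 0
      · exact ⟨1, one_pos, 0, by simp [hx]⟩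
      have := Fact.mk hp
      let P := (⊥ : Subfield k')
      have : Finite P := by
        have hb : P = (ZMod.castHom (dvd_refl p) k').fieldRange :=
          le_antisymm bot_le (by
            rintro _ ⟨a, rfl⟩
            obtain ⟨a, rfl⟩ := ZMod.natCast_zmod_surjective a
            rw [map_natCast]
            exact natCast_mem _ a)
        rw [hb]
        exact (Set.finite_range (ZMod.castHom (dvd_refl p) k')).to_subtype
      have hfd : FiniteDimensional P (IntermediateField.adjoin P ({x} : Set k')) :=
        IntermediateField.adjoin.finiteDimensional (halg.isAlgebraic x).isIntegral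
      have : Finite (IntermediateField.adjoin P ({x} : Set k')) := Module.finite_of_finite P
      let u : (IntermediateField.adjoin P ({x} : Set k'))ˣ :=
        Units.mk0 ⟨x, IntermediateField.mem_adjoin_simple_self P x⟩ fun h0 => hx (congrArg Subtype.val h0)
      refine ⟨orderOf u, orderOf_pos u, 1, ?_⟩
      rw [map_one]
      have h1 := congrArg Units.val (pow_orderOf_eq_one u)
      rw [Units.val_pow_eq_pow_val, Units.val_one] at h1
      exact (congrArg Subtype.val h1).symm

end Groth.Agent.S2071
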