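import Groth.Statements.S2088
import Groth.Agent.CAlgLib.ResidueExtGen
-- import your own Groth.Agent.* helpers here

set_option autoImplicit false
universe u
open CAlg

namespace Groth.Agent.S2088

/-- Let `(R, 𝔪, k)` be a local ring and `K/k` a field extension. Then there is a flat local homomorphism
of local rings `R → R'` with `𝔪R' = 𝔪_{R'}` whose residue field is isomorphic to `K` over `k`. -/
theorem result {R K : Type u} [CommRing R] [IsLocalRing R] [Field K]
    [Algebra (IsLocalRing.ResidueField R) K] :
    ∃ (R' : Type u) (_ : CommRing R') (_ : IsLocalRing R') (_ : Algebra R R') (_ : IsLocalHom (algebraMap R R')),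
      Module.Flat R R' ∧ (IsLocalRing.maximalIdeal R).map (algebraMap R R') = IsLocalRing.maximalIdeal R' ∧
      Nonempty (IsLocalRing.ResidueField R' ≃ₐ[IsLocalRing.ResidueField R] K) := by
  letI : Algebra R K := ((algebraMap (IsLocalRing.ResidueField R) K).comp (IsLocalRing.residue R)).toAlgebra
  have hA : RingHom.ker (algebraMap R K) = IsLocalRing.maximalIdeal R := by
    ext x
    rw [RingHom.mem_ker]
    change algebraMap (IsLocalRing.ResidueField R) K (IsLocalRing.residue R x) = 0 ↔ _
    rw [map_eq_zero, IsLocalRing.residue_eq_zero_iff]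
  obtain ⟨B, _, _, _, hloc, hflat, ψ, hψ, hker⟩ := Groth.Agent.CAlgLib.ResidueExtGen.exists_flat_extension R K hA
  have hmax : RingHom.ker ψ.toRingHom = IsLocalRing.maximalIdeal B :=
    IsLocalRing.eq_maximalIdeal (RingHom.ker_isMaximal_of_surjective ψ.toRingHom hψ)
  refine ⟨B, inferInstance, inferInstance, inferInstance, hloc, hflat, hker.symm.trans hmax, ⟨?_⟩⟩
  let e₀ : IsLocalRing.ResidueField B ≃+* K :=
    (Ideal.quotEquivOfEq hmax.symm).trans (RingHom.quotientKerEquivOfSurjective hψ)
  refine AlgEquiv.ofRingEquiv (f := e₀) fun c => ?_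
  obtain ⟨r, rfl⟩ := IsLocalRing.residue_surjective c
  exact ψ.commutes r

end Groth.Agent.S2088
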