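import Groth.Statements.S2090
import Groth.Agent.RegLoc.SupportDim
-- import your own Groth.Agent.* helpers here

set_option autoImplicit false
universe u
open CAlg

namespace Groth.Agent.S2090

/-- The key step: depth at least two forbids a nontrivial extension supported at `q`. -/
lemma exists_ann {R M N : Type u} [CommRing R] [IsNoetherianRing R] [AddCommGroup M]
    [Module R M] [Module.Finite R M] [AddCommGroup N] [Module R N] (φ : M →ₗ[R] N)
    (hinj : Function.Injective φ) (q : Ideal R) [q.IsPrime] (y : N)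
    (hmem : ∀ r, r ∈ q ↔ r • y ∈ LinearMap.range φ)
    (hd : 2 ≤ LocCoh.depth (Localization.AtPrime q) (LocalizedModule q.primeCompl M)) :
    q ∈ associatedPrimes R N := by
  let Rq := Localization.AtPrime q
  let Mq := LocalizedModule q.primeCompl M
  rw [Depth.depth_eq_idealDepth] at hd
  have hm : ∀ a ∈ IsLocalRing.maximalIdeal Rq, IsSMulRegular Mq a →
      ∃ a' ∈ q, IsSMulRegular Mq (algebraMap R Rq a') ∧ a ∈ Ideal.span {algebraMap R Rq a'} := by
    intro a ha hreg
    obtain ⟨⟨a', s⟩, rfl⟩ := IsLocalization.mk'_surjective q.primeCompl a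
    refine ⟨a', (IsLocalization.AtPrime.mk'_mem_maximal_iff Rq q a' s).mp ha, ?_, ?_⟩
    · intro v w hvw
      refine hreg ?_
      have e : IsLocalization.mk' Rq a' s = IsLocalization.mk' Rq 1 s * algebraMap R Rq a' := by
        rw [← IsLocalization.mk'_one (M := q.primeCompl) Rq a', ← IsLocalization.mk'_mul, one_mul, mul_one]
      show IsLocalization.mk' Rq a' s • v = IsLocalization.mk' Rq a' s • w
      rw [e, mul_smul, mul_smul]
      exact congrArg _ hvw
    · exact Ideal.mem_span_singleton'.mpr ⟨IsLocalization.mk' Rq 1 s, by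
        rw [← IsLocalization.mk'_one (M := q.primeCompl) Rq a', ← IsLocalization.mk'_mul, one_mul, mul_one]⟩
  obtain ⟨a₀, ha₀, hreg₀⟩ := Depth.exists_isSMulRegular_of_one_le_idealDepth
    (le_trans (by exact_mod_cast one_le_two) hd)
  obtain ⟨a, haq, hareg, -⟩ := hm a₀ ha₀ hreg₀
  have haM : algebraMap R Rq a ∈ IsLocalRing.maximalIdeal Rq :=
    (IsLocalization.AtPrime.to_map_mem_maximal_iff Rq q a).mpr haq
  have h1 : (1 : ℕ∞) ≤ LocCoh.idealDepth (IsLocalRing.maximalIdeal Rq) (QuotSMulTop (algebraMap R Rq a) Mq) :=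
    by exact_mod_cast (Depth.le_idealDepth_quotSMulTop_iff haM hareg 1).mpr (by exact_mod_cast hd)
  obtain ⟨b₀, hb₀, hregb₀⟩ := Depth.exists_isSMulRegular_of_one_le_idealDepth h1
  obtain ⟨⟨b, s⟩, rfl⟩ := IsLocalization.mk'_surjective q.primeCompl b₀
  have hbq : b ∈ q := (IsLocalization.AtPrime.mk'_mem_maximal_iff Rq q b s).mp hb₀
  obtain ⟨ma, hma⟩ := (hmem a).mp haq
  obtain ⟨mb, hmb⟩ := (hmem b).mp hbq
  have hab : b • ma = a • mb := hinj (by rw [map_smul, map_smul, hma, hmb, smul_comm])
  let ι := LocalizedModule.mkLinearMap q.primeCompl M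
  have hz : (Submodule.Quotient.mk (ι ma) : QuotSMulTop (algebraMap R Rq a) Mq) = 0 := by
    apply hregb₀
    show IsLocalization.mk' Rq b s • (Submodule.Quotient.mk (ι ma) :
      QuotSMulTop (algebraMap R Rq a) Mq) = IsLocalization.mk' Rq b s • 0
    rw [smul_zero, ← Submodule.Quotient.mk_smul, Submodule.Quotient.mk_eq_zero]
    have e : IsLocalization.mk' Rq b s = IsLocalization.mk' Rq 1 s * algebraMap R Rq b := by
      rw [← IsLocalization.mk'_one (M := q.primeCompl) Rq b, ← IsLocalization.mk'_mul, one_mul, mul_one]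
    rw [e, mul_smul, algebraMap_smul, ← map_smul, hab, map_smul, ← algebraMap_smul Rq a, smul_comm]
    exact Submodule.smul_mem_pointwise_smul _ _ _ trivial
  rw [Submodule.Quotient.mk_eq_zero, Submodule.mem_smul_pointwise_iff_exists] at hz
  obtain ⟨w, -, hw⟩ := hz
  induction w using LocalizedModule.induction_on with
  | _ m t =>
    rw [algebraMap_smul, LocalizedModule.smul'_mk,
      show ι ma = LocalizedModule.mk ma 1 from rfl, LocalizedModule.mk_eq] at hw
    obtain ⟨u, hu⟩ := hw
    simp only [Submonoid.smul_def, one_smul, smul_smul] at hu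
    -- `a • z = 0` for `z = (u t) • y - φ (u • m)`
    set z : N := ((u : R) * t) • y - φ ((u : R) • m) with hz
    have haz : a • z = 0 := by
      rw [hz, smul_sub, smul_comm, ← hma, ← map_smul, ← map_smul, ← hu, sub_eq_zero, smul_smul,
        mul_comm a]
    have hzC : ∀ r, r • z ∈ LinearMap.range φ → r ∈ q := by
      intro r hr
      have : (r * ((u : R) * t)) • y ∈ LinearMap.range φ := by
        have h2 := add_mem hr (LinearMap.mem_range_self φ (r • (u : R) • m))
        rwa [hz, smul_sub, map_smul φ r, sub_add_cancel, smul_smul] at h2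
      exact ((inferInstance : q.IsPrime).mem_or_mem ((hmem _).mpr this)).resolve_right
        (q.primeCompl.mul_mem u.2 t.2)
    have hcz : ∀ c ∈ q, ∃ v ∈ q.primeCompl, v • c • z = 0 := by
      intro c hcq
      obtain ⟨mc, hmc⟩ := (hmem c).mp hcq
      set w := ((u : R) * t) • mc - c • (u : R) • m with hw'
      have hφw : φ w = c • z := by
        rw [hw', map_sub, map_smul, hmc, hz, smul_sub, smul_comm, map_smul φ c]
      have haw : a • w = 0 := hinj (by rw [map_smul, hφw, smul_comm, haz, smul_zero, map_zero])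
      have h0 : ι w = 0 := by
        refine hareg ?_
        show algebraMap R Rq a • ι w = algebraMap R Rq a • 0
        rw [smul_zero, algebraMap_smul, ← map_smul, haw, map_zero]
      obtain ⟨v, hv⟩ := (IsLocalizedModule.eq_iff_exists q.primeCompl ι).mp (h0.trans (map_zero ι).symm)
      refine ⟨v, v.2, ?_⟩
      rw [← hφw, ← map_smul]
      simp only [Submonoid.smul_def, smul_zero] at hv
      rw [hv, map_zero]
    classical
    obtain ⟨S, hS⟩ := IsNoetherian.noetherian q
    choose! v hv hvz using hcz
    let V := ∏ c ∈ S, v c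
    have hV : V ∈ q.primeCompl := prod_mem fun c hc => hv c (hS ▸ Ideal.subset_span hc)
    refine isAssociatedPrime_iff.mpr ⟨inferInstance, V • z, le_antisymm ?_ ?_⟩
    · refine le_of_eq_of_le hS.symm (Ideal.span_le.mpr ?_)
      intro c hc
      obtain ⟨k, hk⟩ : v c ∣ V := Finset.dvd_prod_of_mem v hc
      rw [SetLike.mem_coe, Submodule.mem_colon_singleton, Submodule.mem_bot, hk, smul_smul,
        show c * (v c * k) = k * (v c * c) by ring, mul_smul, mul_smul,
        hvz c (hS ▸ Ideal.subset_span hc), smul_zero]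
    · intro r hr
      rw [Submodule.mem_colon_singleton, Submodule.mem_bot, smul_smul] at hr
      exact ((inferInstance : q.IsPrime).mem_or_mem (hzC (r * V) (hr ▸ zero_mem _))).resolve_right hV

/-- Let `R` be Noetherian and `φ : M → N` a map of `R`-modules with `M` finite. Suppose that for every
prime `𝔭` either `φ_𝔭` is bijective, or `M_𝔭` has depth at least two and `𝔭` is not an associated
prime of `N`. Then `φ` is bijective. -/
theorem result {R M N : Type u} [CommRing R] [IsNoetherianRing R] [AddCommGroup M]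
    [Module R M] [Module.Finite R M] [AddCommGroup N] [Module R N] (φ : M →ₗ[R] N)
    (h : ∀ (p : Ideal R) [p.IsPrime],
      Function.Bijective (LocalizedModule.map p.primeCompl φ) ∨
        (2 ≤ LocCoh.depth (Localization.AtPrime p) (LocalizedModule p.primeCompl M) ∧
          p ∉ associatedPrimes R N)) :
    Function.Bijective φ := by
  have hinj : Function.Injective φ := by
    rw [← LinearMap.ker_eq_bot]
    by_contra hK
    have : Nontrivial (LinearMap.ker φ) := Submodule.nontrivial_iff_ne_bot.mpr hK
    obtain ⟨p, hp⟩ := associatedPrimes.nonempty R (LinearMap.ker φ)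
    have := Depth.isPrime_of_mem_associatedPrimes hp
    obtain ⟨-, x, hx⟩ := isAssociatedPrime_iff.mp hp
    have hpM : p ∈ associatedPrimes R M :=
      associatedPrimes.subset_of_injective (Submodule.injective_subtype _) hp
    rcases h p with hb | ⟨hd, -⟩
    · have h0 : LocalizedModule.map p.primeCompl φ (LocalizedModule.mk (x : M) 1) = 0 := by
        rw [LocalizedModule.map_mk, LinearMap.mem_ker.mp x.2, LocalizedModule.zero_mk]
      have h1 := hb.1 (h0.trans (map_zero _).symm)
      rw [← LocalizedModule.zero_mk 1, LocalizedModule.mk_eq] at h1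
      obtain ⟨u, hu⟩ := h1
      simp only [Submonoid.smul_def, one_smul, smul_zero] at hu
      exact u.2 (hx.ge (by rw [Submodule.mem_colon_singleton, Submodule.mem_bot]; exact Subtype.ext hu))
    · rw [RegLoc.SupportDim.depth_localized_eq_zero_iff.mpr hpM] at hd
      simp at hd
  refine ⟨hinj, LinearMap.range_eq_top.mp ?_⟩
  by_contra hC
  have : Nontrivial (N ⧸ LinearMap.range φ) := Submodule.Quotient.nontrivial_iff.mpr hC
  obtain ⟨q, hq⟩ := associatedPrimes.nonempty R (N ⧸ LinearMap.range φ)
  have := Depth.isPrime_of_mem_associatedPrimes hq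
  obtain ⟨-, c, hc⟩ := isAssociatedPrime_iff.mp hq
  obtain ⟨y, rfl⟩ := Submodule.Quotient.mk_surjective _ c
  have hmem : ∀ r, r ∈ q ↔ r • y ∈ LinearMap.range φ := fun r => by
    rw [hc, Submodule.mem_colon_singleton, Submodule.mem_bot, ← Submodule.Quotient.mk_smul,
      Submodule.Quotient.mk_eq_zero]
  rcases h q with hb | ⟨hd, hqN⟩
  · obtain ⟨z, hz⟩ := hb.2 (LocalizedModule.mk y 1)
    induction z using LocalizedModule.induction_on with
    | _ m t =>
      rw [LocalizedModule.map_mk, LocalizedModule.mk_eq] at hz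
      obtain ⟨u, hu⟩ := hz
      simp only [Submonoid.smul_def, one_smul, smul_smul] at hu
      exact (q.primeCompl.mul_mem u.2 t.2) ((hmem _).mpr ⟨(u : R) • m, by rw [map_smul, hu]⟩)
  · exact absurd hqN (not_not.mpr (exists_ann φ hinj q y hmem hd))

end Groth.Agent.S2090
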