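import Groth.Statements.S2093
import Groth.Agent.Nagata.ReducedCore
import Groth.Agent.RegLoc.Completion
import Mathlib.RingTheory.AdicCompletion.LocalRing
import Mathlib.RingTheory.Ideal.KrullsHeightTheorem
-- import your own Groth.Agent.* helpers here

set_option autoImplicit false
universe u
open CAlg

namespace Groth.Agent.S2093

/-- Let `(R, 𝔪)` be a Noetherian local domain and `x ∈ 𝔪` nonzero such that `R/xR` has no embedded
associated primes, and for every associated prime `𝔭` of `R/xR` the local ring `R_𝔭` is regular and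
the completion of `R/𝔭` is reduced. Then the completion of `R` is reduced. -/
theorem result {R : Type u} [CommRing R] [IsDomain R] [IsLocalRing R]
    [IsNoetherianRing R] (x : R) (hx : x ≠ 0) (hxm : x ∈ IsLocalRing.maximalIdeal R)
    (hemb : ∀ p ∈ associatedPrimes R (R ⧸ Ideal.span {x}), p ∈ (Ideal.span {x}).minimalPrimes)
    (hreg : ∀ p ∈ associatedPrimes R (R ⧸ Ideal.span {x}), ∀ (_ : p.IsPrime),
      IsRegularLocalRing (Localization.AtPrime p) ∧
        IsReduced (AdicCompletion ((IsLocalRing.maximalIdeal R).map (Ideal.Quotient.mk p)) (R ⧸ p))) :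
    IsReduced (AdicCompletion (IsLocalRing.maximalIdeal R) R) := by
  classical
  haveI : IsNoetherianRing (AdicCompletion (IsLocalRing.maximalIdeal R) R) :=
    Groth.Agent.RegLoc.Completion.isNoetherianRing_adicCompletion' _
  refine Groth.Agent.Nagata.isReduced_of_divisor (A := R) x
    (fun a b hab => mul_left_cancel₀ hx hab) ?_ fun p hp => ?_
  · rw [IsLocalRing.jacobson_eq_maximalIdeal _ bot_ne_top, AdicCompletion.maximalIdeal_eq_map]
    exact Ideal.mem_map_of_mem _ hxm
  · have hmin := hemb p hp
    haveI := hmin.1.1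
    obtain ⟨hr, hred⟩ := hreg p hp inferInstance
    refine ⟨hmin, Groth.Agent.Nagata.locPrincipal_of_isPrincipal p ?_, ?_⟩
    · have hdim : ringKrullDim (Localization.AtPrime p) ≤ 1 := by
        rw [IsLocalization.AtPrime.ringKrullDim_eq_height p]
        haveI : (Ideal.span {x}).IsPrincipal := ⟨⟨x, rfl⟩⟩
        exact WithBot.coe_le_coe.mpr (Ideal.height_le_one_of_isPrincipal_of_mem_minimalPrimes _ p hmin)
      have hrk : (IsLocalRing.maximalIdeal (Localization.AtPrime p)).spanFinrank ≤ 1 := by
        have h := hr.spanFinrank_maximalIdeal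
        rw [← h] at hdim
        exact_mod_cast hdim
      obtain ⟨G, hG, hGs⟩ := Submodule.FG.exists_span_finset_card_eq_spanFinrank
        (IsNoetherian.noetherian (IsLocalRing.maximalIdeal (Localization.AtPrime p)))
      rcases Finset.card_le_one_iff_subset_singleton.mp (hG.trans_le hrk) with ⟨g, hg⟩
      rcases Finset.subset_singleton_iff.mp hg with rfl | rfl
      · refine ⟨⟨0, ?_⟩⟩
        rw [← hGs]; simp
      · refine ⟨⟨g, ?_⟩⟩
        rw [← hGs]; simp
    · haveI := hred
      exact Groth.Agent.Nagata.isReduced_completion_quotient _ p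

end Groth.Agent.S2093
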