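import Groth.Statements.S2094
import Groth.Agent.SymGr.Basic
-- import your own Groth.Agent.* helpers here

set_option autoImplicit false
universe u
open CAlg

namespace Groth.Agent.S2094

/-- The symmetric algebra of an `A`-module is a smooth `A`-algebra exactly when the module is finite
projective. -/
theorem result {A M : Type u} [CommRing A] [AddCommGroup M] [Module A M] :
    Algebra.Smooth A (SymmetricAlgebra A M) ↔ Module.Finite A M ∧ Module.Projective A M := by
  classical
  constructor
  · intro h
    have hfs : Algebra.FormallySmooth A (SymmetricAlgebra A M) := h.formallySmooth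
    have hft : Algebra.FiniteType A (SymmetricAlgebra A M) :=
      have := h.finitePresentation
      inferInstance
    have hfin : Module.Finite A M := by
      obtain ⟨t, ht⟩ := hft.out
      have hsup : ∀ z : SymmetricAlgebra A M, ∃ s : Finset M,
          z ∈ Algebra.adjoin A (SymmetricAlgebra.ι A M '' (s : Set M)) := by
        intro z
        induction z using SymmetricAlgebra.induction with
        | algebraMap r => exact ⟨∅, Subalgebra.algebraMap_mem _ r⟩
        | ι m => exact ⟨{m}, Algebra.subset_adjoin ⟨m, by simp, rfl⟩⟩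
        | mul a b ha hb =>
          obtain ⟨s, hs⟩ := ha
          obtain ⟨s', hs'⟩ := hb
          exact ⟨s ∪ s', mul_mem (Algebra.adjoin_mono (Set.image_mono (by simp)) hs)
            (Algebra.adjoin_mono (Set.image_mono (by simp)) hs')⟩
        | add a b ha hb =>
          obtain ⟨s, hs⟩ := ha
          obtain ⟨s', hs'⟩ := hb
          exact ⟨s ∪ s', add_mem (Algebra.adjoin_mono (Set.image_mono (by simp)) hs)
            (Algebra.adjoin_mono (Set.image_mono (by simp)) hs')⟩
      choose S hS using hsup
      refine ⟨⟨t.biUnion S, eq_top_iff.mpr fun m _ => ?_⟩⟩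
      let M' := Submodule.span A ((t.biUnion S : Finset M) : Set M)
      let _ : Module Aᵐᵒᵖ (M ⧸ M') := Module.compHom _ (RingEquiv.toOpposite A).symm.toRingHom
      have : IsCentralScalar A (M ⧸ M') := ⟨fun _ _ => rfl⟩
      let Φ : SymmetricAlgebra A M →ₐ[A] TrivSqZeroExt A (M ⧸ M') :=
        SymmetricAlgebra.lift ((TrivSqZeroExt.inrHom A (M ⧸ M')).comp M'.mkQ)
      have h0 : ∀ z, (Φ z).snd = 0 := by
        intro z
        have hz : z ∈ Algebra.adjoin A (t : Set (SymmetricAlgebra A M)) := ht ▸ Algebra.mem_top
        have hle : Algebra.adjoin A (t : Set (SymmetricAlgebra A M)) ≤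
            ((Algebra.ofId A (TrivSqZeroExt A (M ⧸ M'))).range).comap Φ := by
          refine Algebra.adjoin_le fun x hx => ?_
          refine (Algebra.adjoin_le ?_ : Algebra.adjoin A (SymmetricAlgebra.ι A M '' (S x : Set M)) ≤ _) (hS x)
          rintro _ ⟨y, hy, rfl⟩
          refine ⟨0, ?_⟩
          show algebraMap A _ 0 = Φ (SymmetricAlgebra.ι A M y)
          have : M'.mkQ y = 0 := (Submodule.Quotient.mk_eq_zero _).mpr
            (Submodule.subset_span (Finset.mem_biUnion.mpr ⟨x, hx, hy⟩))
          rw [map_zero, SymmetricAlgebra.lift_ι_apply, LinearMap.comp_apply, this, map_zero]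
        obtain ⟨a, ha⟩ := hle hz
        exact (congrArg TrivSqZeroExt.snd ha).symm.trans (TrivSqZeroExt.snd_inl _ a)
      have := h0 (SymmetricAlgebra.ι A M m)
      rw [SymmetricAlgebra.lift_ι_apply] at this
      exact (Submodule.Quotient.mk_eq_zero M').mp this
    refine ⟨hfin, ?_⟩
    let N := M →₀ A
    let p : N →ₗ[A] M := Finsupp.linearCombination A (id : M → M)
    let _ : Module Aᵐᵒᵖ M := Module.compHom _ (RingEquiv.toOpposite A).symm.toRingHom
    have : IsCentralScalar A M := ⟨fun _ _ => rfl⟩
    let g : SymmetricAlgebra A M →ₐ[A] TrivSqZeroExt A M :=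
      SymmetricAlgebra.lift (TrivSqZeroExt.inrHom A M)
    let π : TrivSqZeroExt A N →ₐ[A] TrivSqZeroExt A M := TrivSqZeroExt.map p
    have hπ : Function.Surjective π := fun x =>
      ⟨TrivSqZeroExt.inl x.fst + TrivSqZeroExt.inr (Finsupp.single x.snd 1), by
        ext
        · simp [π]
        · simp [π, p]
          exact (Finsupp.linearCombination_single A 1 x.snd).trans (one_smul A x.snd)⟩
    have hnil : IsNilpotent (RingHom.ker π.toRingHom) := by
      refine ⟨2, ?_⟩
      rw [Ideal.zero_eq_bot, eq_bot_iff, Submodule.pow_succ, Submodule.pow_one, Ideal.mul_le]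
      intro a ha b hb
      have h1 : a.fst = 0 := by simpa [π] using congrArg TrivSqZeroExt.fst (RingHom.mem_ker.mp ha)
      have h2 : b.fst = 0 := by simpa [π] using congrArg TrivSqZeroExt.fst (RingHom.mem_ker.mp hb)
      rw [Ideal.mem_bot]
      ext
      · simp [h1]
      · simp [h1, h2]
    let v := Algebra.FormallySmooth.liftOfSurjective g π hπ hnil
    let σ : M →ₗ[A] N :=
      { toFun := fun m => (v (SymmetricAlgebra.ι A M m)).snd
        map_add' := fun a b => by simp
        map_smul' := fun c a => by simp }
    refine Module.Projective.of_split σ p (LinearMap.ext fun m => ?_)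
    have h1 := AlgHom.congr_fun (Algebra.FormallySmooth.comp_liftOfSurjective g π hπ hnil) (SymmetricAlgebra.ι A M m)
    have h2 := congrArg TrivSqZeroExt.snd h1
    rw [AlgHom.comp_apply, TrivSqZeroExt.snd_map, SymmetricAlgebra.lift_ι_apply] at h2
    exact h2.trans (TrivSqZeroExt.snd_inr A m)
  · rintro ⟨hfin, hproj⟩
    obtain ⟨n, q, hq⟩ := Module.Finite.exists_fin' A M
    obtain ⟨s, hs⟩ := Module.projective_lifting_property q LinearMap.id hq
    let F : MvPolynomial (Fin n) A →ₐ[A] SymmetricAlgebra A M :=
      MvPolynomial.aeval fun i => SymmetricAlgebra.ι A M (q (Pi.single i 1))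
    let G : SymmetricAlgebra A M →ₐ[A] MvPolynomial (Fin n) A :=
      SymmetricAlgebra.lift ((Fintype.linearCombination A (MvPolynomial.X (R := A))).comp s)
    have hFG : F.comp G = AlgHom.id A _ := SymmetricAlgebra.algHom_ext (LinearMap.ext fun m => by
      show F (G (SymmetricAlgebra.ι A M m)) = SymmetricAlgebra.ι A M m
      rw [SymmetricAlgebra.lift_ι_apply, LinearMap.comp_apply, Fintype.linearCombination_apply, map_sum]
      conv_rhs => rw [show m = q (s m) from (LinearMap.congr_fun hs m).symm, pi_eq_sum_univ' (s m), map_sum, map_sum]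
      refine Finset.sum_congr rfl fun i _ => ?_
      rw [map_smul, map_smul, map_smul, MvPolynomial.aeval_X])
    have hF : Function.Surjective F := fun z => ⟨G z, AlgHom.congr_fun hFG z⟩
    let T : Ideal (MvPolynomial (Fin n) A) :=
      Ideal.span (Set.range fun i => MvPolynomial.X i - G (F (MvPolynomial.X i)))
    have hfg : (RingHom.ker F.toRingHom).FG := by
      refine ⟨Finset.univ.image fun i => MvPolynomial.X i - G (F (MvPolynomial.X i)), ?_⟩
      rw [Finset.coe_image, Finset.coe_univ, Set.image_univ]
      refine le_antisymm (Ideal.span_le.mpr ?_) fun p hp => ?_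
      · rintro _ ⟨i, rfl⟩
        show F (MvPolynomial.X i - G (F (MvPolynomial.X i))) = 0
        rw [map_sub, ← AlgHom.comp_apply F G, hFG, AlgHom.id_apply, sub_self]
      · have hp' : p - G (F p) ∈ T := by
          clear hp
          induction p using MvPolynomial.induction_on with
          | C a => simp [← MvPolynomial.algebraMap_eq]
          | add a b ha hb =>
            rw [map_add, map_add, show a + b - (G (F a) + G (F b)) = (a - G (F a)) + (b - G (F b)) by ring]
            exact add_mem ha hb
          | mul_X a i ha =>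
            rw [map_mul, map_mul, show a * MvPolynomial.X i - G (F a) * G (F (MvPolynomial.X i)) =
              (a - G (F a)) * MvPolynomial.X i + G (F a) * (MvPolynomial.X i - G (F (MvPolynomial.X i))) by ring]
            exact add_mem (T.mul_mem_right _ ha) (T.mul_mem_left _ (Ideal.subset_span ⟨i, rfl⟩))
        rw [show F p = 0 from hp, map_zero, sub_zero] at hp'
        exact hp'
    exact ⟨Groth.Agent.SymGr.Basic.formallySmooth_symmetricAlgebra A M,
      Algebra.FinitePresentation.of_surjective hF hfg⟩

end Groth.Agent.S2094
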