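import Groth.Statements.S2095
import Mathlib.RingTheory.TensorProduct.Maps
import Mathlib.RingTheory.Ideal.Quotient.Operations
-- import your own Groth.Agent.* helpers here

set_option autoImplicit false
universe u
open CAlg

namespace Groth.Agent.S2095

open TensorProduct in
/-- Let `R → S` be a ring map, `𝔫 ⊆ S` an ideal and `R → R'` a ring map admitting an `R`-linear
retraction. If `R' → R' ⊗ S` is formally smooth for the adic topology of the extension of `𝔫`, then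
`R → S` is formally smooth for the `𝔫`-adic topology. -/
theorem result {R S R' : Type u} [CommRing R] [CommRing S] [Algebra R S]
    (𝔫 : Ideal S) [CommRing R'] [Algebra R R'] (ρ : R' →ₗ[R] R) (hρ : ∀ r : R, ρ (algebraMap R R' r) = r)
    (h : CAlgX.IsAdicFormallySmooth R' (R' ⊗[R] S)
      (𝔫.map (Algebra.TensorProduct.includeRight : S →ₐ[R] R' ⊗[R] S))) :
    CAlgX.IsAdicFormallySmooth R S 𝔫 := by
  classical
  intro A _ _ J hJ ψ hψ
  obtain ⟨k, hk⟩ := hψ
  let ι : A →ₐ[R] R' ⊗[R] A := Algebra.TensorProduct.includeRight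
  let J' : Ideal (R' ⊗[R] A) := J.map ι
  have hJ' : J' ^ 2 = ⊥ := by rw [← Ideal.map_pow, hJ, Ideal.map_bot]
  let g : S →ₐ[R] (R' ⊗[R] A) ⧸ J' := (Ideal.quotientMapₐ J' ι Ideal.le_comap_map).comp ψ
  let ψ' : R' ⊗[R] S →ₐ[R'] (R' ⊗[R] A) ⧸ J' :=
    Algebra.TensorProduct.lift (Algebra.ofId R' _) g (fun _ _ => Commute.all _ _)
  have hψ' : ∀ s, ψ' (1 ⊗ₜ[R] s) = g s := fun s => by simp [ψ']
  obtain ⟨χ', hχ'⟩ := h (R' ⊗[R] A) J' hJ' ψ' ⟨k, by
    intro x hx
    rw [← Ideal.map_pow] at hx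
    have hle : (𝔫 ^ k).map (Algebra.TensorProduct.includeRight : S →ₐ[R] R' ⊗[R] S) ≤
        RingHom.ker ψ'.toRingHom := by
      rw [Ideal.map_le_iff_le_comap]
      intro s hs
      show ψ' (1 ⊗ₜ[R] s) = 0
      rw [hψ', AlgHom.comp_apply, hk s hs, map_zero]
    exact hle hx⟩
  let ρA : R' ⊗[R] A →ₗ[R] A := (TensorProduct.lid R A).toLinearMap.comp (ρ.rTensor A)
  have hρ1 : ρ 1 = 1 := by simpa using hρ 1
  have hρι : ∀ a, ρA (ι a) = a := fun a => by simp [ρA, ι, hρ1]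
  have hlin : ∀ a w, ρA (ι a * w) = a * ρA w := by
    intro a w
    induction w using TensorProduct.induction_on with
    | zero => simp
    | tmul r b => simp [ρA, ι]
    | add x y hx hy => simp only [mul_add, map_add, hx, hy]
  have hJmem : ∀ z ∈ J', ∀ w, ρA (w * z) ∈ J := by
    intro z hz
    induction hz using Submodule.span_induction with
    | mem x hx =>
      obtain ⟨j, hj, rfl⟩ := hx
      intro w
      rw [mul_comm w]
      exact (hlin j w).symm ▸ J.mul_mem_right _ hj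
    | zero => intro w; simp
    | add x y _ _ hx hy => intro w; rw [mul_add, map_add]; exact J.add_mem (hx w) (hy w)
    | smul r x _ hx => intro w; rw [smul_eq_mul, ← mul_assoc]; exact hx _
  have hsq : ∀ x ∈ J, ∀ y ∈ J, x * y = 0 := fun x hx y hy => by
    have := Ideal.mul_mem_mul hx hy
    rwa [← pow_two, hJ, Ideal.mem_bot] at this
  have hsq' : ∀ x ∈ J', ∀ y ∈ J', x * y = 0 := fun x hx y hy => by
    have := Ideal.mul_mem_mul hx hy
    rwa [← pow_two, hJ', Ideal.mem_bot] at this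
  have hdec : ∀ s : S, ∃ a : A, Ideal.Quotient.mk J a = ψ s ∧ χ' (1 ⊗ₜ[R] s) - ι a ∈ J' := by
    intro s
    obtain ⟨a, ha⟩ := Ideal.Quotient.mk_surjective (ψ s)
    refine ⟨a, ha, Ideal.Quotient.eq.mp ?_⟩
    have h1 := AlgHom.congr_fun hχ' (1 ⊗ₜ[R] s)
    rw [AlgHom.comp_apply, Ideal.Quotient.mkₐ_eq_mk] at h1
    rw [h1, hψ', AlgHom.comp_apply, ← ha]
    rfl
  let χ₀ : S →ₗ[R] A :=
    ρA.comp ((χ'.toLinearMap.restrictScalars R).comp
      (Algebra.TensorProduct.includeRight : S →ₐ[R] R' ⊗[R] S).toLinearMap)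
  have hχ₀ : ∀ s, χ₀ s = ρA (χ' (1 ⊗ₜ[R] s)) := fun s => rfl
  have hone : χ₀ 1 = 1 := by
    rw [hχ₀, ← Algebra.TensorProduct.one_def, map_one, ← map_one ι, hρι]
  have hmul : ∀ s t, χ₀ (s * t) = χ₀ s * χ₀ t := by
    intro s t
    obtain ⟨a, -, he⟩ := hdec s
    obtain ⟨b, -, hf⟩ := hdec t
    generalize hx : χ' (1 ⊗ₜ[R] s) = x at he
    generalize hy : χ' (1 ⊗ₜ[R] t) = y at hf
    have hxy : χ' (1 ⊗ₜ[R] (s * t)) = x * y := by
      rw [← hx, ← hy, ← map_mul, Algebra.TensorProduct.tmul_mul_tmul, one_mul]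
    rw [hχ₀, hχ₀, hχ₀, hxy, hx, hy]
    obtain ⟨e, rfl⟩ : ∃ e, x = ι a + e := ⟨x - ι a, by abel⟩
    obtain ⟨f, rfl⟩ : ∃ f, y = ι b + f := ⟨y - ι b, by abel⟩
    rw [add_sub_cancel_left] at he hf
    have hpe : ρA e ∈ J := by simpa using hJmem e he 1
    have hpf : ρA f ∈ J := by simpa using hJmem f hf 1
    have h2 : (ι a + e) * (ι b + f) = ι (a * b) + ι a * f + ι b * e := by
      rw [map_mul]
      linear_combination hsq' e he f hf
    rw [h2, map_add, map_add, map_add, map_add, hlin, hlin, hρι, hρι, hρι]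
    linear_combination -(hsq _ hpe _ hpf)
  refine ⟨AlgHom.ofLinearMap χ₀ hone hmul, AlgHom.ext fun s => ?_⟩
  obtain ⟨a, ha, he⟩ := hdec s
  show Ideal.Quotient.mk J (χ₀ s) = ψ s
  rw [← ha, Ideal.Quotient.eq, hχ₀]
  have := hJmem _ he 1
  rwa [one_mul, map_sub, hρι] at this

end Groth.Agent.S2095
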