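import Groth.Statements.S2096
import Groth.Agent.IndAlg.Etale
import Mathlib.RingTheory.Unramified.Field
import Mathlib.RingTheory.LocalRing.ResidueField.Fiber
import Mathlib.RingTheory.HopkinsLevitzki
-- import your own Groth.Agent.* helpers here

set_option autoImplicit false
universe u
open CAlg TensorProduct

namespace Groth.Agent.S2096

open Groth.Agent.IndAlg Groth.Agent.IndAlg.Etale Polynomial in
theorem isReduced_of_fac {K C : Type u} [Field K] [CommRing C] [Algebra K C] (h : Fac (Et K) C) :
    IsReduced C := by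
  refine ⟨fun x ⟨n, hn⟩ => ?_⟩
  let I : Ideal K[X] := Ideal.span {X ^ n}
  have hfp : Algebra.FinitePresentation K (K[X] ⧸ I) :=
    Algebra.FinitePresentation.quotient (Submodule.fg_span_singleton _)
  obtain ⟨E, _, _, hE, v, w, hw⟩ := h (K[X] ⧸ I) hfp (Ideal.Quotient.liftₐ I (aeval x) fun z hz => by
    obtain ⟨c, rfl⟩ := Ideal.mem_span_singleton'.mp hz
    simp [hn])
  haveI : Algebra.Etale K E := hE
  haveI := Algebra.FormallyUnramified.isReduced_of_field K E
  have h0 : v (Ideal.Quotient.mk I X) = 0 := by
    refine IsReduced.eq_zero _ ⟨n, ?_⟩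
    rw [← map_pow, ← map_pow, Ideal.Quotient.eq_zero_iff_mem.mpr (Ideal.mem_span_singleton_self _), map_zero]
  have := AlgHom.congr_fun hw (Ideal.Quotient.mk I X)
  rw [AlgHom.comp_apply, h0, map_zero, Ideal.Quotient.liftₐ_apply] at this
  simpa using this.symm

theorem isSeparable_of_etale {K E L : Type u} [Field K] [CommRing E] [Algebra K E] [Algebra.Etale K E]
    [Field L] [Algebra K L] (f : E →ₐ[K] L) (e : E) : IsSeparable K (f e) := by
  haveI : Module.Finite K E := Algebra.FormallyUnramified.finite_of_free K E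
  haveI : IsArtinianRing E := IsArtinianRing.of_finite K E
  haveI : (RingHom.ker f.toRingHom).IsPrime := RingHom.ker_isPrime _
  haveI : (RingHom.ker f.toRingHom).IsMaximal := IsArtinianRing.isMaximal_of_isPrime _
  letI := Ideal.Quotient.field (RingHom.ker f.toRingHom)
  haveI : Algebra.FormallyUnramified K (E ⧸ RingHom.ker f.toRingHom) :=
    Algebra.FormallyUnramified.of_surjective (Ideal.Quotient.mkₐ K _) (Ideal.Quotient.mkₐ_surjective K _)
  haveI := Algebra.FormallyUnramified.isSeparable K (E ⧸ RingHom.ker f.toRingHom)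
  let g : (E ⧸ RingHom.ker f.toRingHom) →ₐ[K] L :=
    Ideal.Quotient.liftₐ _ f fun x hx => hx
  exact IsSeparable.map (x := (Ideal.Quotient.mk (RingHom.ker f.toRingHom) e)) g g.toRingHom.injective
    (Algebra.IsSeparable.isSeparable K _)

open Groth.Agent.IndAlg Groth.Agent.IndAlg.Etale Polynomial in
theorem isSeparable_map {K C L : Type u} [Field K] [CommRing C] [Algebra K C] [Field L] [Algebra K L]
    (h : Fac (Et K) C) (g : C →ₐ[K] L) (x : C) : IsSeparable K (g x) := by
  obtain ⟨E, _, _, hE, v, w, hw⟩ := h K[X] inferInstance (aeval x)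
  haveI : Algebra.Etale K E := hE
  have := isSeparable_of_etale (g.comp w) (v X)
  rwa [AlgHom.comp_apply, ← AlgHom.comp_apply w v, hw, aeval_X] at this

open Groth.Agent.IndAlg Groth.Agent.IndAlg.Etale in
theorem krullDimLE_zero_of_fac {K C : Type u} [Field K] [CommRing C] [Algebra K C] (h : Fac (Et K) C) :
    Ring.KrullDimLE 0 C := by
  haveI : Algebra.IsIntegral K C := ⟨fun x => by
    obtain ⟨E, _, _, hE, v, w, hw⟩ := h (Polynomial K) inferInstance (Polynomial.aeval x)
    haveI : Algebra.Etale K E := hE
    haveI : Module.Finite K E := Algebra.FormallyUnramified.finite_of_free K E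
    have := (Algebra.IsIntegral.isIntegral (R := K) (v Polynomial.X)).map w
    rwa [← AlgHom.comp_apply w v, hw, Polynomial.aeval_X] at this⟩
  refine Ring.krullDimLE_zero_iff.mpr fun P hP => ?_
  haveI : Algebra.IsIntegral K (C ⧸ P) := Algebra.IsIntegral.of_surjective (Ideal.Quotient.mkₐ K P) (Ideal.Quotient.mkₐ_surjective K P)
  exact Ideal.Quotient.maximal_of_isField _ (isField_of_isIntegral_of_isField' (R := K) (Field.toIsField K))

/-- Let `B` be a Noetherian ind-étale `A`-algebra (a filtered colimit of étale algebras) and `𝔭` a prime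
of `A`. Then only finitely many primes of `B` lie over `𝔭`, the fibre ring `B ⊗ κ(𝔭)` is reduced of
dimension zero, and each residue field extension `κ(𝔮)/κ(𝔭)` is separable algebraic. -/
theorem result {A B : Type u} [CommRing A] [CommRing B] [Algebra A B] (hB : EtPBC.IsIndEtale A B)
    [IsNoetherianRing B] (p : Ideal A) [p.IsPrime] :
    {q : PrimeSpectrum B | q.asIdeal.LiesOver p}.Finite ∧ IsReduced (p.Fiber B) ∧ ringKrullDim (p.Fiber B) ≤ 0 ∧
      ∀ (q : Ideal B) [q.IsPrime] [q.LiesOver p],
        @Algebra.IsSeparable p.ResidueField q.ResidueField _ _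
          (Ideal.ResidueField.mapₐ p q (Algebra.ofId A B) (q.over_def p)).toRingHom.toAlgebra := by
  have hfac : Groth.Agent.IndAlg.Fac (Groth.Agent.IndAlg.Etale.Et p.ResidueField) (p.Fiber B) :=
    Groth.Agent.IndAlg.Etale.fac_baseChange (Groth.Agent.IndAlg.fac_of_isInd hB)
  haveI hK := krullDimLE_zero_of_fac hfac
  letI : Algebra B (p.Fiber B) := Algebra.TensorProduct.rightAlgebra
  haveI : IsNoetherianRing (Localization (Algebra.algebraMapSubmonoid B p.primeCompl)) :=
    IsLocalization.isNoetherianRing (Algebra.algebraMapSubmonoid B p.primeCompl) _ inferInstance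
  haveI : IsNoetherianRing (p.Fiber B) :=
    isNoetherianRing_of_ringEquiv _ (Ideal.Fiber.algEquivQuotient (S := B) p).symm.toRingEquiv
  haveI : IsArtinianRing (p.Fiber B) := IsNoetherianRing.isArtinianRing_of_krullDimLE_zero
  refine ⟨?_, isReduced_of_fac hfac, Ring.krullDimLE_iff.mp hK, fun q _ _ => ?_⟩
  · haveI : Finite (PrimeSpectrum.comap (algebraMap A B) ⁻¹' {⟨p, inferInstance⟩}) :=
      Finite.of_equiv _ (PrimeSpectrum.preimageEquivFiber A B ⟨p, inferInstance⟩).symm
    refine Set.Finite.subset (Set.toFinite (PrimeSpectrum.comap (algebraMap A B) ⁻¹' {⟨p, inferInstance⟩})) ?_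
    intro q hq
    exact PrimeSpectrum.ext hq.over.symm
  · letI := (Ideal.ResidueField.mapₐ p q (Algebra.ofId A B) (q.over_def p)).toRingHom.toAlgebra
    haveI : IsScalarTower A p.ResidueField q.ResidueField := IsScalarTower.of_algebraMap_eq fun a =>
      ((Ideal.ResidueField.mapₐ p q (Algebra.ofId A B) (q.over_def p)).commutes a).symm
    let g : p.Fiber B →ₐ[p.ResidueField] q.ResidueField :=
      Algebra.TensorProduct.lift (Algebra.ofId _ _) (IsScalarTower.toAlgHom A B q.ResidueField)
        fun _ _ => .all _ _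
    refine ⟨fun z => ?_⟩
    obtain ⟨⟨b, s, hs⟩, rfl⟩ : ∃ bs : B × q.primeCompl,
        algebraMap B q.ResidueField bs.1 * (algebraMap B q.ResidueField bs.2)⁻¹ = z := by
      obtain ⟨w, rfl⟩ := IsLocalRing.residue_surjective z
      obtain ⟨b, s, rfl⟩ := IsLocalization.exists_mk'_eq q.primeCompl w
      refine ⟨(b, s), ?_⟩
      rw [← div_eq_mul_inv, div_eq_iff (by
        rw [Ne, Ideal.algebraMap_residueField_eq_zero]; exact s.2)]
      rw [IsScalarTower.algebraMap_apply B (Localization.AtPrime q) q.ResidueField,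
        IsScalarTower.algebraMap_apply B (Localization.AtPrime q) q.ResidueField,
        IsLocalRing.ResidueField.algebraMap_eq, ← map_mul, IsLocalization.mk'_spec]
    have hsep : ∀ c : B, algebraMap B q.ResidueField c ∈ separableClosure p.ResidueField q.ResidueField := fun c => by
      rw [mem_separableClosure_iff]
      convert isSeparable_map hfac g (1 ⊗ₜ c) using 1
      simp [g]
    rw [← mem_separableClosure_iff]
    exact mul_mem (hsep b) (inv_mem (hsep s))

end Groth.Agent.S2096
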