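import Groth.Statements.S2097
import Mathlib.RingTheory.Smooth.Basic
import Mathlib.RingTheory.Noetherian.Nilpotent
-- import your own Groth.Agent.* helpers here

set_option autoImplicit false
universe u
open CAlg

namespace Groth.Agent.S2097

/-- Let `R → S` be smooth, `A` an `R`-algebra and `I ⊆ A` an ideal all of whose elements are nilpotent.
Every `R`-algebra map `S → A/I` lifts to an `R`-algebra map `S → A`. -/
theorem result {R S A : Type u} [CommRing R] [CommRing S] [Algebra R S] [Algebra.Smooth R S]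
    [CommRing A] [Algebra R A] (I : Ideal A) (hI : ∀ x ∈ I, IsNilpotent x) (g : S →ₐ[R] A ⧸ I) :
    ∃ f : S →ₐ[R] A, (Ideal.Quotient.mkₐ R I).comp f = g := by
  obtain ⟨n, π, hπ, hker⟩ := Algebra.FinitePresentation.out (R := R) (A := S)
  choose a ha using fun i => Ideal.Quotient.mk_surjective (g (π (MvPolynomial.X i)))
  let φ : MvPolynomial (Fin n) R →ₐ[R] A := MvPolynomial.aeval a
  have hφ : (Ideal.Quotient.mkₐ R I).comp φ = g.comp π := MvPolynomial.algHom_ext fun i => by
    simp [φ, ha]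
  let J : Ideal A := (RingHom.ker π.toRingHom).map φ.toRingHom
  have hJI : J ≤ I := Ideal.map_le_iff_le_comap.mpr fun x hx => by
    rw [Ideal.mem_comap, ← Ideal.Quotient.eq_zero_iff_mem]
    have h1 := AlgHom.congr_fun hφ x
    simp only [AlgHom.comp_apply, Ideal.Quotient.mkₐ_eq_mk, show π x = 0 from hx, map_zero] at h1
    exact h1
  have hJnil : IsNilpotent J := (Ideal.FG.isNilpotent_iff_le_nilradical (hker.map _)).mpr
    fun x hx => mem_nilradical.mpr (hI x (hJI hx))
  let h0 : (MvPolynomial (Fin n) R ⧸ RingHom.ker π.toRingHom) →ₐ[R] A ⧸ J :=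
    Ideal.Quotient.liftₐ (RingHom.ker π.toRingHom) ((Ideal.Quotient.mkₐ R J).comp φ)
      fun x hx => Ideal.Quotient.eq_zero_iff_mem.mpr (Ideal.mem_map_of_mem _ hx)
  let g0 : S →ₐ[R] A ⧸ J := h0.comp (Ideal.quotientKerAlgEquivOfSurjective hπ).symm.toAlgHom
  obtain ⟨f, hf⟩ := Algebra.FormallySmooth.exists_lift J hJnil g0
  refine ⟨f, AlgHom.ext fun s => ?_⟩
  obtain ⟨x, rfl⟩ := hπ s
  have hg0 : g0 (π x) = Ideal.Quotient.mk J (φ x) := by
    have e : (Ideal.quotientKerAlgEquivOfSurjective hπ).symm (π x) = Ideal.Quotient.mk _ x := by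
      rw [AlgEquiv.symm_apply_eq]; rfl
    change h0 ((Ideal.quotientKerAlgEquivOfSurjective hπ).symm (π x)) = _
    erw [e]
    rfl
  have h1 := congrArg (Ideal.Quotient.factor hJI) ((AlgHom.congr_fun hf (π x)).trans hg0)
  simp only [AlgHom.comp_apply, Ideal.Quotient.mkₐ_eq_mk, Ideal.Quotient.factor_mk] at h1 ⊢
  rw [h1]
  exact AlgHom.congr_fun hφ x

end Groth.Agent.S2097
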