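import Groth.Statements.S2100
import Groth.Agent.CAlg48.RefinedNoether
-- import your own Groth.Agent.* helpers here

set_option autoImplicit false
universe u
open CAlg

namespace Groth.Agent.S2100

/-- Let `k` be a field, `𝔮` a prime of `k[x_1, …, x_n]` and `r` the transcendence degree of `κ(𝔮)` over
`k`. Then there is a finite `k`-algebra map `φ : k[y_1, …, y_n] → k[x_1, …, x_n]` with `φ⁻¹(𝔮) =
(y_{r+1}, …, y_n)`. -/
theorem result {k : Type u} [Field k] (n r : ℕ) (q : Ideal (MvPolynomial (Fin n) k))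
    [q.IsPrime] (hr : Algebra.trdeg k q.ResidueField = r) :
    ∃ φ : MvPolynomial (Fin n) k →ₐ[k] MvPolynomial (Fin n) k, φ.toRingHom.Finite ∧
      q.comap φ = Ideal.span (Set.range fun i : {i : Fin n // r ≤ (i : ℕ)} => MvPolynomial.X (i : Fin n)) := by
  rw [← Groth.Agent.CAlg48.RefinedNoether.trdeg_residueField] at hr
  obtain ⟨-, φ, hφ, hq⟩ := Groth.Agent.CAlg48.RefinedNoether.exists_normalization n r q hr
  refine ⟨φ, hφ.to_finite (RingHom.FiniteType.of_comp_finiteType
    (f := algebraMap k (MvPolynomial (Fin n) k)) ?_), hq⟩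
  rw [AlgHom.toRingHom_eq_coe, φ.comp_algebraMap]
  exact RingHom.finiteType_algebraMap.2 inferInstance

end Groth.Agent.S2100
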