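import Groth.Statements.S2109
import Groth.Agent.RegLoc.Basic
import Groth.Agent.S5776

set_option autoImplicit false
universe u
open Smoothing

namespace Groth.Agent.S2109

theorem mul_mem_of_reg {R : Type u} [CommRing R] [IsRegularLocalRing R] {d : ℕ}
    (hd : ringKrullDim R = d) (r : Fin d → R)
    (hr : Ideal.span (Set.range r) = IsLocalRing.maximalIdeal R) (e : ℕ) (he : 0 < e) (i : Fin d) (x : R)
    (hx : r i * x ∈ Ideal.span (Set.range fun j : {j : Fin d // (j : ℕ) < (i : ℕ)} => r j ^ e)) :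
    x ∈ Ideal.span (Set.range fun j : {j : Fin d // (j : ℕ) < (i : ℕ)} => r j ^ e) := by
  classical
  let v : Fin d → ℕ := fun j => if (j : ℕ) < (i : ℕ) then e else 1
  have h := Groth.Agent.S5776.result R R d r v (fun j => by simp only [v]; split_ifs <;> omega)
    (Groth.Agent.RegLoc.isRegular_ofFn hd r hr).toIsWeaklyRegular
  have h' := h.regular_mod_prev (i : ℕ) (by rw [List.length_ofFn]; exact i.2)
  simp only [List.getElem_ofFn, Fin.eta] at h'
  set J := Ideal.span (Set.range fun j : {j : Fin d // (j : ℕ) < (i : ℕ)} => r j ^ e) with hJ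
  have hI : Ideal.ofList ((List.ofFn fun j => r j ^ v j).take (i : ℕ)) = J := by
    rw [Ideal.ofList, hJ]
    congr 1
    ext z
    simp only [List.mem_take_iff_getElem, List.getElem_ofFn, List.length_ofFn, Set.mem_range,
      Set.mem_setOf_eq]
    constructor
    · rintro ⟨j, hj, rfl⟩
      exact ⟨⟨⟨j, (lt_min_iff.mp hj).2⟩, (lt_min_iff.mp hj).1⟩, by
        dsimp only [v]; rw [if_pos (lt_min_iff.mp hj).1]⟩
    · rintro ⟨⟨⟨j, hjn⟩, hj⟩, rfl⟩
      exact ⟨j, lt_min hj hjn, by dsimp only [v]; rw [if_pos (show j < (i : ℕ) from hj)]⟩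
  have hvi : v i = 1 := by simp [v]
  rw [hI, hvi, pow_one, smul_eq_mul, Ideal.mul_top,
    isSMulRegular_quotient_iff_mem_of_smul_mem] at h'
  exact h' x hx

theorem exists_stable {A : Type u} [CommRing A] [IsNoetherianRing A] (J : Ideal A) (s : A) :
    ∃ c : ℕ, ∀ (m : ℕ) (x : A), s ^ m * x ∈ J → s ^ c * x ∈ J := by
  let L : ℕ →o Ideal A :=
    { toFun := fun m => Submodule.comap (LinearMap.mulLeft A (s ^ m)) J
      monotone' := fun a b hab x hx => by
        obtain ⟨k, rfl⟩ := Nat.exists_eq_add_of_le hab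
        change s ^ (a + k) * x ∈ J
        have hx' : s ^ a * x ∈ J := hx
        rw [pow_add, mul_comm (s ^ a), mul_assoc]
        exact J.mul_mem_left _ hx' }
  obtain ⟨c, hc⟩ := monotone_stabilizes_iff_noetherian.mpr inferInstance L
  refine ⟨c, fun m x hx => ?_⟩
  rcases le_total m c with h | h
  · exact L.monotone h hx
  · exact (hc m h).ge hx

/-- Let `Λ` be Noetherian, `I ⊆ 𝔮` with `𝔮` prime, `n, e > 0`, such that `𝔮ⁿΛ_𝔮 ⊆ IΛ_𝔮` and `Λ_𝔮` is a
regular local ring of dimension `d`. Then there are `N > 0` and `π_1, …, π_d ∈ Λ` generating `𝔮Λ_𝔮`,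
with `π_i^N ∈ I`, such that for each `i` the annihilators of `π_i` and `π_i²` in `Λ/(π_1^e, …,
π_{i-1}^e)` coincide. -/
theorem result {Λ : Type u} [CommRing Λ] [IsNoetherianRing Λ] (I q : Ideal Λ)
    [q.IsPrime] (hIq : I ≤ q) (n e d : ℕ) (hn : 0 < n) (he : 0 < e)
    (hpow : (q ^ n).map (algebraMap Λ (Localization.AtPrime q)) ≤ I.map (algebraMap Λ (Localization.AtPrime q)))
    [IsRegularLocalRing (Localization.AtPrime q)] (hd : ringKrullDim (Localization.AtPrime q) = d) :
    ∃ (N : ℕ) (π : Fin d → Λ), 0 < N ∧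
      Ideal.span (Set.range fun i => algebraMap Λ (Localization.AtPrime q) (π i)) =
        q.map (algebraMap Λ (Localization.AtPrime q)) ∧
      (∀ i, π i ^ N ∈ I) ∧
      ∀ i : Fin d, ∀ x : Λ ⧸ Ideal.span (Set.range fun j : {j : Fin d // (j : ℕ) < (i : ℕ)} => π j ^ e),
        Ideal.Quotient.mk _ (π i) ^ 2 * x = 0 → Ideal.Quotient.mk _ (π i) * x = 0 := by
  classical
  set R := Localization.AtPrime q
  set f := algebraMap Λ R
  have hm : q.map f = IsLocalRing.maximalIdeal R := Localization.AtPrime.map_eq_maximalIdeal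
  have hcard : (IsLocalRing.maximalIdeal R).spanFinrank = d :=
    Groth.Agent.RegLoc.spanFinrank_eq_dim hd
  obtain ⟨gs, hgs, hspan⟩ := Submodule.FG.exists_span_set_encard_eq_spanFinrank
    (IsNoetherian.noetherian (IsLocalRing.maximalIdeal R))
  rw [hcard] at hgs
  have hfin : gs.Finite := Set.finite_of_encard_eq_coe hgs
  obtain ⟨σ⟩ : Nonempty (Fin d ≃ gs) := by
    have := hfin.to_subtype
    refine ⟨(Finite.equivFinOfCardEq ?_).symm⟩
    rw [Nat.card_coe_set_eq, Set.ncard, hgs]; rfl
  have hgen : ∀ j, ∃ a ∈ q, ∃ s, s ∉ q ∧ (σ j : R) * f s = f a := by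
    intro j
    obtain ⟨⟨a, s⟩, has⟩ := IsLocalization.surj q.primeCompl (σ j : R)
    refine ⟨a, ?_, s, s.2, has⟩
    have h1 : f a ∈ IsLocalRing.maximalIdeal R := by
      rw [← has]
      exact Ideal.mul_mem_right _ _ (hspan ▸ Submodule.subset_span (σ j).2)
    exact (IsLocalization.AtPrime.to_map_mem_maximal_iff R q a).mp h1
  choose a ha s hs has using hgen
  have hpow' : ∀ j, ∃ t, t ∉ q ∧ t * a j ^ n ∈ I := by
    intro j
    have h1 : f (a j ^ n) ∈ I.map f := hpow (Ideal.mem_map_of_mem _ (Ideal.pow_mem_pow (ha j) n))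
    obtain ⟨t, ht, h2⟩ :=
      (IsLocalization.algebraMap_mem_map_algebraMap_iff q.primeCompl R I (a j ^ n)).mp h1
    exact ⟨t, ht, h2⟩
  choose t ht hta using hpow'
  have main : ∀ k, k ≤ d → ∃ π : Fin d → Λ,
      (∀ j, ∃ c, c ∉ q ∧ π j = c * (t j * a j)) ∧
      ∀ i : Fin d, (i : ℕ) < k → ∀ x : Λ,
        π i ^ 2 * x ∈ Ideal.span (Set.range fun j : {j : Fin d // (j : ℕ) < (i : ℕ)} => π j ^ e) →
          π i * x ∈ Ideal.span (Set.range fun j : {j : Fin d // (j : ℕ) < (i : ℕ)} => π j ^ e) := by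
    intro k
    induction k with
    | zero =>
      exact fun _ => ⟨fun j => t j * a j,
        fun j => ⟨1, fun h => Ideal.IsPrime.ne_top ‹_› ((Ideal.eq_top_iff_one q).mpr h),
          (one_mul _).symm⟩, fun i hi => absurd hi (Nat.not_lt_zero _)⟩
    | succ k ih =>
      intro hk
      obtain ⟨π, hπ, hcond⟩ := ih (Nat.le_of_succ_le hk)
      let i₀ : Fin d := ⟨k, hk⟩
      set J := Ideal.span (Set.range fun j : {j : Fin d // (j : ℕ) < (i₀ : ℕ)} => π j ^ e) with hJ
      have hspanπ : Ideal.span (Set.range fun j => f (π j)) = IsLocalRing.maximalIdeal R := by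
        rw [← hspan]
        refine le_antisymm (Ideal.span_le.mpr ?_) (Submodule.span_le.mpr ?_)
        · rintro _ ⟨j, rfl⟩
          obtain ⟨c, hc, h⟩ := hπ j
          change f (π j) ∈ Ideal.span gs
          rw [h, map_mul, map_mul, ← has]
          exact Ideal.mul_mem_left _ _ (Ideal.mul_mem_left _ _
            (Ideal.mul_mem_right _ _ (Ideal.subset_span (σ j).2)))
        · intro g hg
          obtain ⟨j, hj⟩ := σ.surjective ⟨g, hg⟩
          obtain ⟨c, hc, h⟩ := hπ j
          have hu : IsUnit (f (c * t j * s j)) :=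
            IsLocalization.map_units R (⟨c * t j * s j, fun hmem => (Ideal.IsPrime.mem_or_mem ‹_› hmem).elim
              (fun h' => (Ideal.IsPrime.mem_or_mem ‹_› h').elim hc (ht j)) (hs j)⟩ : q.primeCompl)
          obtain ⟨u, hu⟩ := hu
          have hmem : f (π j) ∈ Ideal.span (Set.range fun j => f (π j)) :=
            Ideal.subset_span ⟨j, rfl⟩
          have hg' : g = (↑u⁻¹ : R) * f (π j) := by
            rw [← Units.mul_left_inj u, mul_comm (↑u⁻¹ : R), mul_assoc, Units.inv_mul, mul_one, h,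
              hu, show g = (σ j : R) from (congrArg Subtype.val hj).symm]
            simp only [map_mul, ← has]
            ring
          rw [hg']
          exact Ideal.mul_mem_left _ _ hmem
      let K : Ideal Λ := Submodule.comap (LinearMap.mulLeft Λ (π i₀)) J
      have hK : ∀ x ∈ K, ∃ s, s ∉ q ∧ s * x ∈ J := by
        intro x hx
        have hmap : J.map f = Ideal.span
            (Set.range fun j : {j : Fin d // (j : ℕ) < (i₀ : ℕ)} => (f (π j)) ^ e) := by
          rw [hJ, Ideal.map_span, ← Set.range_comp]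
          simp [Function.comp_def]
        have h1 : f x ∈ J.map f := by
          rw [hmap]
          refine mul_mem_of_reg hd (fun j => f (π j)) hspanπ e he i₀ _ ?_
          rw [← hmap, ← map_mul]
          exact Ideal.mem_map_of_mem _ hx
        obtain ⟨s, hs, h2⟩ :=
          (IsLocalization.algebraMap_mem_map_algebraMap_iff q.primeCompl R J x).mp h1
        exact ⟨s, hs, h2⟩
      obtain ⟨G, hG⟩ := IsNoetherian.noetherian K
      choose sK hsK hsKx using fun x : (G : Set Λ) => hK x (hG ▸ Submodule.subset_span x.2)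
      let S : Λ := ∏ x ∈ G.attach, sK ⟨x.1, x.2⟩
      have hS : S ∉ q := by
        intro hmem
        obtain ⟨x, -, hx⟩ := (Ideal.IsPrime.prod_mem_iff).mp hmem
        exact hsK _ hx
      have hSK : ∀ x ∈ K, S * x ∈ J := by
        have : K ≤ Submodule.comap (LinearMap.mulLeft Λ S) J := by
          rw [← hG, Submodule.span_le]
          intro x hx
          obtain ⟨r, hr⟩ : sK ⟨x, hx⟩ ∣ S :=
            Finset.dvd_prod_of_mem (fun x => sK ⟨x.1, x.2⟩) (Finset.mem_attach G ⟨x, hx⟩)
          change S * x ∈ J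
          rw [hr, mul_comm _ r, mul_assoc]
          exact J.mul_mem_left _ (hsKx ⟨x, hx⟩)
        exact fun x hx => this hx
      obtain ⟨c, hc⟩ := exists_stable J S
      refine ⟨Function.update π i₀ (S ^ c * π i₀), fun j => ?_, fun i hi x hx => ?_⟩
      · obtain ⟨c', hc', h⟩ := hπ j
        by_cases hj : j = i₀
        · subst hj
          refine ⟨S ^ c * c', fun hmem => (Ideal.IsPrime.mem_or_mem ‹_› hmem).elim
            (fun h' => hS (Ideal.IsPrime.mem_of_pow_mem ‹_› c h')) hc', ?_⟩
          rw [Function.update_self, h, mul_assoc]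
        · exact ⟨c', hc', by rw [Function.update_of_ne hj, h]⟩
      · have hrange : (fun j : {j : Fin d // (j : ℕ) < (i : ℕ)} =>
            Function.update π i₀ (S ^ c * π i₀) j ^ e) = fun j : {j : Fin d // (j : ℕ) < (i : ℕ)} => π j ^ e := by
          funext j
          rw [Function.update_of_ne]
          intro h
          have := j.2
          rw [h] at this
          simp [i₀] at this
          omega
        rw [hrange] at hx ⊢
        by_cases hii : i = i₀
        · subst hii
          rw [Function.update_self] at hx ⊢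
          have h1 : π i₀ * (π i₀ * (S ^ (2 * c) * x)) ∈ J := by
            rw [show π i₀ * (π i₀ * (S ^ (2 * c) * x)) = (S ^ c * π i₀) ^ 2 * x by ring]
            exact hx
          have h2 : π i₀ * (S * (S ^ (2 * c) * x)) ∈ J := by
            rw [show π i₀ * (S * (S ^ (2 * c) * x)) = S * (π i₀ * (S ^ (2 * c) * x)) by ring]
            exact hSK _ h1
          have h3 : S ^ (2 * c + 2) * x ∈ J := by
            rw [show S ^ (2 * c + 2) * x = S * (S * (S ^ (2 * c) * x)) by ring]
            exact hSK _ h2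
          change S ^ c * π i₀ * x ∈ J
          rw [show S ^ c * π i₀ * x = π i₀ * (S ^ c * x) by ring]
          exact J.mul_mem_left _ (hc _ x h3)
        · rw [Function.update_of_ne hii] at hx ⊢
          refine hcond i ?_ x hx
          have : (i : ℕ) ≠ k := fun h => hii (Fin.ext h)
          omega
  obtain ⟨π, hπ, hcond⟩ := main d le_rfl
  refine ⟨n, π, hn, ?_, fun i => ?_, fun i x => ?_⟩
  · rw [hm, ← hspan]
    refine le_antisymm (Ideal.span_le.mpr ?_) (Submodule.span_le.mpr ?_)
    · rintro _ ⟨j, rfl⟩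
      obtain ⟨c, hc, h⟩ := hπ j
      change f (π j) ∈ Ideal.span gs
      rw [h, map_mul, map_mul, ← has]
      exact Ideal.mul_mem_left _ _ (Ideal.mul_mem_left _ _
        (Ideal.mul_mem_right _ _ (Ideal.subset_span (σ j).2)))
    · intro g hg
      obtain ⟨j, hj⟩ := σ.surjective ⟨g, hg⟩
      obtain ⟨c, hc, h⟩ := hπ j
      have hu : IsUnit (f (c * t j * s j)) :=
        IsLocalization.map_units R (⟨c * t j * s j, fun hmem => (Ideal.IsPrime.mem_or_mem ‹_› hmem).elim
          (fun h' => (Ideal.IsPrime.mem_or_mem ‹_› h').elim hc (ht j)) (hs j)⟩ : q.primeCompl)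
      obtain ⟨u, hu⟩ := hu
      have hmem : f (π j) ∈ Ideal.span (Set.range fun i => f (π i)) :=
        Ideal.subset_span ⟨j, rfl⟩
      have hg' : g = (↑u⁻¹ : R) * f (π j) := by
        rw [← Units.mul_left_inj u, mul_comm (↑u⁻¹ : R), mul_assoc, Units.inv_mul, mul_one, h, hu,
          show g = (σ j : R) from (congrArg Subtype.val hj).symm]
        simp only [map_mul, ← has]
        ring
      rw [hg']
      exact Ideal.mul_mem_left _ _ hmem
  · obtain ⟨c, -, h⟩ := hπ i
    obtain ⟨m, rfl⟩ := Nat.exists_eq_add_one.mpr hn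
    rw [h, show (c * (t i * a i)) ^ (m + 1) = c ^ (m + 1) * t i ^ m * (t i * a i ^ (m + 1)) by ring]
    exact I.mul_mem_left _ (hta i)
  · obtain ⟨x, rfl⟩ := Ideal.Quotient.mk_surjective x
    rw [← map_pow, ← map_mul, ← map_mul, Ideal.Quotient.eq_zero_iff_mem,
      Ideal.Quotient.eq_zero_iff_mem]
    exact hcond i i.2 x

end Groth.Agent.S2109
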