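import Groth.Statements.S2112
import Groth.Agent.CAlgA.GeomTensor
import Groth.Agent.FBase.TensorAlgClosed
-- import your own Groth.Agent.* helpers here

set_option autoImplicit false
universe u
open CAlg

namespace Groth.Agent.S2112

open TensorProduct in
/-- Let `k` be a separably closed field and `R`, `S` two `k`-algebras each having exactly one minimal
prime ideal. Then `R ⊗_k S` has exactly one minimal prime ideal. -/
theorem result {k R S : Type u} [Field k] [IsSepClosed k] [CommRing R] [CommRing S]
    [Algebra k R] [Algebra k S] (hR : CAlgX.HasUniqueMinimalPrime R) (hS : CAlgX.HasUniqueMinimalPrime S) :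
    CAlgX.HasUniqueMinimalPrime (R ⊗[k] S) := by
  classical
  have h1 : ∀ {A : Type u} [CommRing A], CAlgX.HasUniqueMinimalPrime A → (nilradical A).IsPrime := by
    intro A _ hA
    obtain ⟨P, hP, huniq⟩ := hA
    have : nilradical A = P := by
      have h : sInf (⊥ : Ideal A).minimalPrimes = (⊥ : Ideal A).radical := Ideal.sInf_minimalPrimes
      have h' : (⊥ : Ideal A).minimalPrimes = {P} := Set.eq_singleton_iff_unique_mem.mpr ⟨hP, huniq⟩
      rw [h', sInf_singleton] at h
      exact h.symm
    rw [this]
    exact hP.1.1
  haveI := PrimeSpectrum.irreducibleSpace_iff_isPrime_nilradical.2 (h1 hR)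
  haveI := h1 hS
  haveI : IrreducibleSpace (PrimeSpectrum (R ⊗[k] S)) := by
    refine Groth.Agent.CAlgA.GeomTensor.irreducibleSpace_tensor fun p => ?_
    apply PrimeSpectrum.irreducibleSpace_iff_isPrime_nilradical.2
    have := Groth.Agent.FBase.TensorAlgClosed.isPrime_nilradical_tensor_of_isSepClosed (k := k) (A := S)
      (K := p.asIdeal.ResidueField)
    exact Groth.Agent.FBase.TensorAlgClosed.isPrime_nilradical_of_injective
      (Algebra.TensorProduct.comm k p.asIdeal.ResidueField S).toRingHom
      (Algebra.TensorProduct.comm k p.asIdeal.ResidueField S).injective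
  have hp := PrimeSpectrum.irreducibleSpace_iff_isPrime_nilradical.1 this
  refine ⟨nilradical (R ⊗[k] S), ⟨⟨hp, bot_le⟩, fun q hq _ => nilradical_le_prime (H := hq.1) q⟩, ?_⟩
  intro q hq
  exact le_antisymm (hq.2 ⟨hp, bot_le⟩ (nilradical_le_prime (H := hq.1.1) q)) (nilradical_le_prime (H := hq.1.1) q)

end Groth.Agent.S2112
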