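import Groth.Statements.S2113
import Mathlib.RingTheory.Jacobson.Ring
import Mathlib.RingTheory.Ideal.KrullsHeightTheorem
import Mathlib.RingTheory.Ideal.MinimalPrime.Noetherian
-- import your own Groth.Agent.* helpers here

set_option autoImplicit false
universe u
open CAlg

namespace Groth.Agent.S2113

/-- A Noetherian ring in which each prime is maximal or else lies below infinitely many primes is a
Jacobson ring. -/
theorem result {R : Type u} [CommRing R] [IsNoetherianRing R]
    (h : ∀ (p : Ideal R) [p.IsPrime], p.IsMaximal ∨ {q : PrimeSpectrum R | p ≤ q.asIdeal}.Infinite) :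
    IsJacobsonRing R := by
  classical
  have key : ∀ (D : Type u) [CommRing D] [IsDomain D] [IsNoetherianRing D] (f : D), f ≠ 0 →
      (∀ Q : PrimeSpectrum D, Q.asIdeal ≠ ⊥ → f ∈ Q.asIdeal) → (Set.univ : Set (PrimeSpectrum D)).Finite := by
    intro D _ _ _ f hf hall
    let S := (Ideal.span {f}).minimalPrimes
    have hS : S.Finite := Ideal.finite_minimalPrimes_of_isNoetherianRing D _
    refine Set.Finite.of_finite_image ((hS.insert ⊥).subset ?_) (fun a _ b _ h => PrimeSpectrum.ext h : Set.InjOn PrimeSpectrum.asIdeal Set.univ)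
    rintro _ ⟨Q, -, rfl⟩
    rcases eq_or_ne Q.asIdeal ⊥ with h0 | h0
    · exact Or.inl h0
    right
    obtain ⟨q₀, hq₀S, hq₀⟩ : ∃ q ∈ hS.toFinset, Q.asIdeal ≤ q := by
      by_contra hcon
      have hns : ¬ ((Q.asIdeal : Set D) ⊆ ⋃ i ∈ (↑hS.toFinset : Set (Ideal D)), ((id i : Ideal D) : Set D)) :=
        fun h' => hcon ((Ideal.subset_union_prime (f := id) ⊥ ⊥ fun i hi _ _ =>
          (hS.mem_toFinset.mp hi).1.1).mp h')
      obtain ⟨g, hgQ, hg⟩ := Set.not_subset.mp hns
      simp only [Set.mem_iUnion, Finset.mem_coe, id, SetLike.mem_coe, not_exists] at hg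
      obtain ⟨q', hq', hq'Q⟩ := Ideal.exists_minimalPrimes_le (I := Ideal.span {g}) (J := Q.asIdeal)
        ((Ideal.span_singleton_le_iff_mem _).mpr hgQ)
      haveI := hq'.1.1
      haveI : (Ideal.span {g}).IsPrincipal := ⟨⟨g, rfl⟩⟩
      have hgq' : g ∈ q' := hq'.1.2 (Ideal.mem_span_singleton_self g)
      have hne : q' ≠ ⊥ := by
        rintro rfl
        obtain ⟨q, hq, -⟩ := Ideal.exists_minimalPrimes_le (I := Ideal.span {f}) (J := Q.asIdeal)
          ((Ideal.span_singleton_le_iff_mem _).mpr (hall Q h0))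
        exact hg q (hS.mem_toFinset.mpr hq) (by rw [Ideal.mem_bot] at hgq'; rw [hgq']; exact q.zero_mem)
      obtain ⟨q, hq, hqq'⟩ := Ideal.exists_minimalPrimes_le (I := Ideal.span {f}) (J := q')
        ((Ideal.span_singleton_le_iff_mem _).mpr (hall ⟨q', hq'.1.1⟩ hne))
      haveI := hq.1.1
      rcases eq_or_lt_of_le hqq' with rfl | hlt
      · exact hg q (hS.mem_toFinset.mpr hq) hgq'
      · have hqne : (⊥ : Ideal D) < q := by
          refine bot_lt_iff_ne_bot.mpr fun h' => hf ?_
          have := hq.1.2 (Ideal.mem_span_singleton_self f)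
          rwa [h', Ideal.mem_bot] at this
        have h1 := Ideal.height_strict_mono_of_isPrime_of_isPrime hqne
        have h2 := Ideal.height_strict_mono_of_isPrime_of_isPrime hlt
        have h3 := Ideal.height_le_one_of_isPrincipal_of_mem_minimalPrimes (Ideal.span {g}) q' hq'
        have h4 : q.height < 1 := h2.trans_le h3
        rw [ENat.lt_one_iff_eq_zero] at h4
        rw [h4] at h1
        exact not_lt_bot h1
    rw [hS.mem_toFinset] at hq₀S
    have : Q.asIdeal = q₀ := le_antisymm hq₀
      (hq₀S.2 ⟨Q.isPrime, (Ideal.span_singleton_le_iff_mem _).mpr (hall Q h0)⟩ hq₀)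
    show Q.asIdeal ∈ S
    rw [this]
    exact hq₀S
  rw [isJacobsonRing_iff_prime_eq]
  intro P hP
  induction P using (IsWellFounded.induction (α := Ideal R) (· > ·)) with
  | ind P ih =>
    rcases h P with hmax | hinf
    · exact Ideal.jacobson_eq_self_of_isMaximal
    refine le_antisymm (fun f hf => ?_) Ideal.le_jacobson
    by_contra hfP
    refine hinf ?_
    have hall : ∀ Q : PrimeSpectrum R, P < Q.asIdeal → f ∈ Q.asIdeal := fun Q hQ => by
      rw [← ih Q.asIdeal hQ Q.isPrime]
      exact Ideal.jacobson_mono hQ.le hf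
    have := key (R ⧸ P) (Ideal.Quotient.mk P f) (fun h0 => hfP (Ideal.Quotient.eq_zero_iff_mem.mp h0))
      (fun Q hQ => by
        refine hall ⟨Q.asIdeal.comap (Ideal.Quotient.mk P), inferInstance⟩ ?_
        refine lt_of_le_of_ne (fun a ha => ?_) fun he => hQ ?_
        · rw [Ideal.mem_comap, Ideal.Quotient.eq_zero_iff_mem.mpr ha]; exact Q.asIdeal.zero_mem
        · rw [← Ideal.map_comap_of_surjective _ Ideal.Quotient.mk_surjective Q.asIdeal]
          show (Q.asIdeal.comap (Ideal.Quotient.mk P)).map (Ideal.Quotient.mk P) = ⊥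
          rw [← show P = Q.asIdeal.comap (Ideal.Quotient.mk P) from he, Ideal.map_quotient_self])
    refine (this.image (PrimeSpectrum.comap (Ideal.Quotient.mk P))).subset fun q hq => ?_
    have hker : RingHom.ker (Ideal.Quotient.mk P) ≤ q.asIdeal := by rw [Ideal.mk_ker]; exact hq
    refine ⟨⟨q.asIdeal.map (Ideal.Quotient.mk P),
      Ideal.map_isPrime_of_surjective Ideal.Quotient.mk_surjective hker⟩, Set.mem_univ _, PrimeSpectrum.ext ?_⟩
    show (q.asIdeal.map (Ideal.Quotient.mk P)).comap (Ideal.Quotient.mk P) = q.asIdeal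
    rw [Ideal.comap_map_of_surjective _ Ideal.Quotient.mk_surjective, ← RingHom.ker_eq_comap_bot,
      sup_eq_left.mpr hker]

end Groth.Agent.S2113
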