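import Groth.Statements.S2114
import Groth.Agent.Nagata.FiniteType
-- import your own Groth.Agent.* helpers here

set_option autoImplicit false
universe u
open CAlg

namespace Groth.Agent.S2114

/-- Let `R ⊆ S` be an extension of domains which is of finite type and quasi-finite, with `R` Noetherian
and N-2 (integral closures in finite extensions of the fraction field are finite). Then `S` is N-2. -/
theorem result {R S : Type u} [CommRing R] [IsDomain R] [IsNoetherianRing R] [CommRing S]
    [IsDomain S] [Algebra R S] (hinj : Function.Injective (algebraMap R S)) [Algebra.FiniteType R S]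
    [Algebra.QuasiFinite R S] (hR : CAlg.IsN2 R) : CAlg.IsN2 S := by
  classical
  intro L _ _ _ _ hL
  let K := FractionRing R
  let KS := FractionRing S
  have : FaithfulSMul R S := (faithfulSMul_iff_algebraMap_injective R S).mpr hinj
  let _ : Algebra K KS := FractionRing.liftAlgebra R KS
  have : Algebra.QuasiFinite R KS := Algebra.QuasiFinite.of_isLocalization (nonZeroDivisors S)
  have : Algebra.QuasiFinite K KS := Algebra.QuasiFinite.of_restrictScalars R K KS
  have : FiniteDimensional K KS := Module.Finite.of_quasiFinite
  let _ : Algebra K L := ((algebraMap KS L).comp (algebraMap K KS)).toAlgebra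
  have : IsScalarTower K KS L := IsScalarTower.of_algebraMap_eq fun _ => rfl
  have : FiniteDimensional K L := Module.Finite.trans KS L
  let _ : Algebra R L := ((algebraMap S L).comp (algebraMap R S)).toAlgebra
  have : IsScalarTower R S L := IsScalarTower.of_algebraMap_eq fun _ => rfl
  have : IsScalarTower R K L := IsScalarTower.of_algebraMap_eq fun r => by
    change algebraMap S L (algebraMap R S r) = algebraMap KS L (algebraMap K KS (algebraMap R K r))
    rw [IsScalarTower.algebraMap_apply S KS L, ← IsScalarTower.algebraMap_apply R K KS,
      IsScalarTower.algebraMap_apply R S KS]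
  let R' := integralClosure R L
  have : Module.Finite R R' := Groth.Agent.Props.N2Local.finite_integralClosure hR K L
  have : IsFractionRing R' L := integralClosure.isFractionRing_of_finite_extension K L
  have : IsIntegrallyClosed R' := integralClosure.isIntegrallyClosedOfFiniteExtension K
  obtain ⟨G, hG⟩ := Module.Finite.fg_top (R := R) (M := R')
  let D := Algebra.adjoin S ((fun g : R' => (g : L)) '' (G : Set R'))
  have : Module.Finite S D := Algebra.finite_adjoin_of_finite_of_isIntegral (G.finite_toSet.image _) (by
    rintro _ ⟨g, -, rfl⟩
    exact (g.2 : IsIntegral R (g : L)).tower_top)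
  have hRD : ∀ r : R', (r : L) ∈ D := by
    intro r
    have hr : r ∈ Submodule.span R (G : Set R') := hG ▸ Submodule.mem_top
    induction hr using Submodule.span_induction with
    | mem g hg => exact Algebra.subset_adjoin ⟨g, hg, rfl⟩
    | zero => exact D.zero_mem
    | add a b _ _ ha hb => exact D.add_mem ha hb
    | smul c a _ ha =>
      change ((c • a : R') : L) ∈ D
      rw [SetLike.val_smul, Algebra.smul_def, IsScalarTower.algebraMap_apply R S L]
      exact D.mul_mem (D.algebraMap_mem _) ha
  let _ : Algebra R' D := (R'.val.toRingHom.codRestrict D.toSubring hRD).toAlgebra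
  have : IsScalarTower R' D L := IsScalarTower.of_algebraMap_eq fun _ => rfl
  have : IsScalarTower R R' D := IsScalarTower.of_algebraMap_eq fun _ => rfl
  have : Algebra.FiniteType R D := Algebra.FiniteType.trans (S := S) inferInstance inferInstance
  have : Algebra.FiniteType R' D := Algebra.FiniteType.of_restrictScalars_finiteType R R' D
  have : Algebra.QuasiFinite R D := Algebra.QuasiFinite.trans R S D
  have : Algebra.QuasiFinite R' D := Algebra.QuasiFinite.of_restrictScalars R R' D
  have : FaithfulSMul D L := (faithfulSMul_iff_algebraMap_injective D L).mpr Subtype.val_injective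
  have : IsFractionRing D L := by
    refine IsFractionRing.of_field (R := D) (K := L) fun z => ?_
    obtain ⟨a, b, -, rfl⟩ := IsFractionRing.div_surjective R' z
    exact ⟨algebraMap R' D a, algebraMap R' D b, rfl⟩
  have hnorm : IsIntegrallyClosed D := by
    refine (isIntegrallyClosed_iff (FractionRing D)).mpr fun {z} hz => ?_
    let J : Ideal D := (LinearMap.range (Algebra.linearMap D (FractionRing D))).comap
      (LinearMap.toSpanSingleton D (FractionRing D) z)
    have hJ : J = ⊤ := by
      by_contra hJ
      obtain ⟨m, hm, hJm⟩ := Ideal.exists_le_maximal _ hJ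
      obtain ⟨r, hrm, hrint, hr⟩ := Algebra.zariskisMainProperty_iff.mp
        (Algebra.ZariskisMainProperty.of_finiteType (R := R') (S := D) m)
      have hin : ∀ x : D, IsIntegral R' x → ∃ a : R', algebraMap R' D a = x := fun x hx => by
        obtain ⟨a, ha⟩ := IsIntegrallyClosed.isIntegral_iff.mp (hx.map (IsScalarTower.toAlgHom R' D L))
        exact ⟨a, Subtype.ext ha⟩
      obtain ⟨r0, rfl⟩ := hin r hrint
      obtain ⟨n, hn⟩ := Groth.Agent.Nagata.FiniteType.exists_pow_smul_mem_range (K' := L) (s' := r0)
        Subtype.val_injective (fun x => by
          obtain ⟨k, hk⟩ := hr x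
          obtain ⟨a, ha⟩ := hin _ hk
          exact ⟨k, a, ha.symm⟩) z hz
      exact hrm (Ideal.IsPrime.mem_of_pow_mem hm.isPrime n (hJm hn))
    have h1 : (1 : D) ∈ J := hJ ▸ Submodule.mem_top
    obtain ⟨y, hy⟩ := h1
    exact ⟨y, by simpa using hy⟩
  have hle : (integralClosure S L).toSubmodule ≤ D.toSubmodule := by
    intro z hz
    obtain ⟨d, rfl⟩ := IsIntegrallyClosed.isIntegral_iff.mp
      ((show IsIntegral S z from hz).tower_top (A := D))
    exact d.2
  have hSN : IsNoetherianRing S := Algebra.FiniteType.isNoetherianRing R S
  have : IsNoetherian S D := isNoetherian_of_isNoetherianRing_of_finite S D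
  exact Module.Finite.of_injective (Submodule.inclusion hle) (Submodule.inclusion_injective hle)

end Groth.Agent.S2114
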