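import Groth.Statements.S2118
import Mathlib
-- import your own Groth.Agent.* helpers here

set_option autoImplicit false
universe u
open CategoryTheory
open CAlg

namespace Groth.Agent.S2118

open CategoryTheory CategoryTheory.Limits

variable (R : Type u) [CommRing R] (M : Type u) [AddCommGroup M] [Module R M]

/-- Finite free modules over `M`. -/
structure Lz : Type u where
  n : ℕ
  map : (Fin n → R) →ₗ[R] M

instance : Category.{u} (Lz R M) where
  Hom X Y := {f : (Fin X.n → R) →ₗ[R] (Fin Y.n → R) // Y.map.comp f = X.map}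
  id X := ⟨LinearMap.id, LinearMap.comp_id _⟩
  comp f g := ⟨g.1.comp f.1, by rw [← LinearMap.comp_assoc, g.2, f.2]⟩

/-- The tautological diagram. -/
noncomputable def lzDiag : Lz R M ⥤ ModuleCat.{u} R where
  obj X := ModuleCat.of R (Fin X.n → R)
  map f := ModuleCat.ofHom f.1
  map_id _ := rfl
  map_comp _ _ := rfl

/-- The tautological cocone. -/
noncomputable def lzCocone : Cocone (lzDiag R M) where
  pt := ModuleCat.of R M
  ι :=
    { app := fun X => ModuleCat.ofHom X.map
      naturality := fun X Y f => by ext1; exact f.2 }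

theorem exists_upper (X Y : Lz R M) : ∃ Z : Lz R M, Nonempty (X ⟶ Z) ∧ Nonempty (Y ⟶ Z) := by
  let e : ((Fin X.n → R) × (Fin Y.n → R)) ≃ₗ[R] (Fin (X.n + Y.n) → R) :=
    (LinearEquiv.sumArrowLequivProdArrow (Fin X.n) (Fin Y.n) R R).symm.trans
      (LinearEquiv.funCongrLeft R R finSumFinEquiv.symm)
  refine ⟨⟨X.n + Y.n, (X.map.coprod Y.map).comp e.symm.toLinearMap⟩,
    ⟨⟨e.toLinearMap.comp (LinearMap.inl R _ _), ?_⟩⟩, ⟨⟨e.toLinearMap.comp (LinearMap.inr R _ _), ?_⟩⟩⟩
  · refine LinearMap.ext fun v => ?_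
    simp
  · refine LinearMap.ext fun v => ?_
    simp

instance isFiltered_lz [Module.Flat R M] : IsFiltered (Lz R M) where
  nonempty := ⟨⟨0, 0⟩⟩
  cocone_objs X Y := by
    obtain ⟨Z, ⟨f⟩, ⟨g⟩⟩ := exists_upper R M X Y
    exact ⟨Z, f, g, trivial⟩
  cocone_maps := fun X Y f g => by
    have h0 : Y.map.comp (f.1 - g.1) = 0 := by rw [LinearMap.comp_sub, f.2, g.2, sub_self]
    obtain ⟨k, a, y, hy, ha⟩ := Module.Flat.exists_factorization_of_comp_eq_zero_of_free h0
    let e : (Fin k →₀ R) ≃ₗ[R] (Fin k → R) := Finsupp.linearEquivFunOnFinite R R (Fin k)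
    let Z : Lz R M := ⟨k, y.comp e.symm.toLinearMap⟩
    refine ⟨Z, ⟨e.toLinearMap.comp a, ?_⟩, Subtype.ext ?_⟩
    · refine LinearMap.ext fun v => ?_
      show y (e.symm (e (a v))) = Y.map v
      rw [e.symm_apply_apply, hy]
      rfl
    · refine LinearMap.ext fun v => ?_
      show e (a (f.1 v)) = e (a (g.1 v))
      have := LinearMap.congr_fun ha v
      rw [LinearMap.comp_apply, LinearMap.sub_apply, map_sub, LinearMap.zero_apply, sub_eq_zero] at this
      rw [this]

/-- Lazard's colimit. -/
noncomputable def lzIsColimit [Module.Flat R M] : IsColimit (lzCocone R M) :=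
  isColimitOfReflects (forget (ModuleCat.{u} R)) <|
    Types.FilteredColimit.isColimitOf _ _
      (fun (x : M) => ⟨⟨1, LinearMap.toSpanSingleton R M x ∘ₗ LinearMap.proj 0⟩, (1 : Fin 1 → R), by
        show x = (LinearMap.toSpanSingleton R M x) ((1 : Fin 1 → R) 0)
        simp⟩)
      (fun i j (xi : Fin i.n → R) (xj : Fin j.n → R) (h : i.map xi = j.map xj) => by
        obtain ⟨Z, ⟨f⟩, ⟨g⟩⟩ := exists_upper R M i j
        have h0 : Z.map (f.1 xi - g.1 xj) = 0 := by
          rw [map_sub, show Z.map (f.1 xi) = i.map xi from LinearMap.congr_fun f.2 xi,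
            show Z.map (g.1 xj) = j.map xj from LinearMap.congr_fun g.2 xj, h, sub_self]
        obtain ⟨k, a, y, hy, ha⟩ := Module.Flat.exists_factorization_of_apply_eq_zero_of_free h0
        let e : (Fin k →₀ R) ≃ₗ[R] (Fin k → R) := Finsupp.linearEquivFunOnFinite R R (Fin k)
        let W : Lz R M := ⟨k, y.comp e.symm.toLinearMap⟩
        let q : Z ⟶ W := ⟨e.toLinearMap.comp a, LinearMap.ext fun v => by
          show y (e.symm (e (a v))) = Z.map v
          rw [e.symm_apply_apply, hy]
          rfl⟩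
        refine ⟨W, f ≫ q, g ≫ q, ?_⟩
        show e (a (f.1 xi)) = e (a (g.1 xj))
        rw [map_sub, sub_eq_zero] at ha
        rw [ha])

variable {R}

/-- A filtered colimit of finite free modules is flat. -/
theorem flat_colimit {J : Type u} [SmallCategory J] [IsFiltered J] (F : J ⥤ ModuleCat.{u} R)
    (hF : ∀ j, Module.Finite R (F.obj j) ∧ Module.Free R (F.obj j)) :
    Module.Flat R (colimit F : ModuleCat.{u} R) := by
  classical
  refine Module.Flat.of_forall_exists_factorization fun {l f x} hxf => ?_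
  have hc := isColimitOfPreserves (forget (ModuleCat.{u} R)) (colimit.isColimit F)
  choose j t ht using fun i : Fin l =>
    Types.jointly_surjective_of_isColimit hc (x (Finsupp.single i 1))
  obtain ⟨j₀, hj₀⟩ := IsFiltered.sup_objs_exists (Finset.univ.image j)
  let a₀ : (Fin l →₀ R) →ₗ[R] F.obj j₀ :=
    Finsupp.linearCombination R fun i => F.map (hj₀ (Finset.mem_image_of_mem j (Finset.mem_univ i))).some (t i)
  have ha₀ : (colimit.ι F j₀).hom.comp a₀ = x := by
    refine Finsupp.lhom_ext' fun i => LinearMap.ext_ring ?_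
    show colimit.ι F j₀ (a₀ (Finsupp.single i 1)) = x (Finsupp.single i 1)
    rw [← ht i, Finsupp.linearCombination_single, one_smul, ← ModuleCat.comp_apply, colimit.w]
    rfl
  have h0 : colimit.ι F j₀ (a₀ f) = colimit.ι F j₀ 0 := by
    rw [map_zero]
    exact (LinearMap.congr_fun ha₀ f).trans hxf
  obtain ⟨j₁, v, w, hvw⟩ := (Types.FilteredColimit.isColimit_eq_iff _ hc).mp h0
  obtain ⟨_, _⟩ := hF j₁
  let e : (F.obj j₁) ≃ₗ[R] (Fin (Fintype.card (Module.Free.ChooseBasisIndex R (F.obj j₁))) →₀ R) :=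
    ((Module.Free.chooseBasis R (F.obj j₁)).reindex (Fintype.equivFin _)).repr
  refine ⟨_, e.toLinearMap.comp ((F.map v).hom.comp a₀), (colimit.ι F j₁).hom.comp e.symm.toLinearMap, ?_, ?_⟩
  · refine LinearMap.ext fun q => ?_
    show x q = colimit.ι F j₁ (e.symm (e (F.map v (a₀ q))))
    rw [e.symm_apply_apply, ← ModuleCat.comp_apply, colimit.w]
    exact (LinearMap.congr_fun ha₀ q).symm
  · show e (F.map v (a₀ f)) = 0
    rw [show F.map v (a₀ f) = F.map w 0 from hvw, map_zero, map_zero]

/-- An `R`-module `M` is flat if and only if it is isomorphic to the colimit of a diagram of finite free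
`R`-modules indexed by a nonempty directed preorder (in the same universe). -/
theorem result {R : Type u} [CommRing R] (M : Type u) [AddCommGroup M] [Module R M] :
    Module.Flat R M ↔
      ∃ (J : Type u) (_ : Preorder J) (_ : IsDirected J (fun a b => a ≤ b)) (_ : Nonempty J)
        (F : J ⥤ ModuleCat.{u} R), (∀ j, Module.Finite R (F.obj j) ∧ Module.Free R (F.obj j)) ∧
        Nonempty (Limits.colimit F ≅ ModuleCat.of R M) := by
  classical
  constructor
  · intro hM
    obtain ⟨α, _, _, _, G, hG⟩ := IsFiltered.exists_directed (Lz R M)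
    refine ⟨α, inferInstance, inferInstance, inferInstance, G ⋙ lzDiag R M, fun j => ⟨?_, ?_⟩, ⟨?_⟩⟩
    · show Module.Finite R (Fin (G.obj j).n → R)
      infer_instance
    · show Module.Free R (Fin (G.obj j).n → R)
      infer_instance
    · exact Functor.Final.colimitIso G (lzDiag R M) ≪≫
        (colimit.isColimit (lzDiag R M)).coconePointUniqueUpToIso (lzIsColimit R M)
  · rintro ⟨J, _, _, _, F, hF, ⟨e⟩⟩
    have : IsFiltered J := inferInstance
    suffices Module.Flat R (colimit F : ModuleCat.{u} R) from Module.Flat.of_linearEquiv e.symm.toLinearEquiv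
    exact flat_colimit F hF

end Groth.Agent.S2118
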