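import Groth.Statements.S2119
import Mathlib
-- import your own Groth.Agent.* helpers here

set_option autoImplicit false
universe u
open CAlg

namespace Groth.Agent.S2119

/-- Nagata's criterion for factoriality, final assertion: let `A` be a domain in which every nonzero
nonunit factors into irreducibles, and `S` the multiplicative subset generated by a set of prime
elements. If the localization `S⁻¹A` is a unique factorization domain, then so is `A`. -/
theorem result {A : Type u} [CommRing A] [IsDomain A]
    (hfac : ∀ a : A, a ≠ 0 → ¬ IsUnit a → ∃ f : Multiset A, (∀ b ∈ f, Irreducible b) ∧ Associated f.prod a) (P : Set A)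
    (hP : ∀ p ∈ P, Prime p) [IsDomain (Localization (Submonoid.closure P))]
    (hS : UniqueFactorizationMonoid (Localization (Submonoid.closure P))) : UniqueFactorizationMonoid A := by
  classical
  let M := Submonoid.closure P
  let L := Localization M
  have h0 : (0 : A) ∉ M := by
    intro h
    have : ∀ s ∈ M, s ≠ 0 := fun s hs => by
      induction hs using Submonoid.closure_induction with
      | mem x hx => exact (hP x hx).ne_zero
      | one => exact one_ne_zero
      | mul x y _ _ hx hy => exact mul_ne_zero hx hy
    exact this 0 h rfl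
  have hinj : Function.Injective (algebraMap A L) :=
    IsLocalization.injective L (le_nonZeroDivisors_of_noZeroDivisors h0)
  have hu : ∀ s ∈ M, IsUnit (algebraMap A L s) := fun s hs => IsLocalization.map_units L (⟨s, hs⟩ : M)
  refine UniqueFactorizationMonoid.of_exists_prime_factors fun a ha => ?_
  by_cases hau : IsUnit a
  · exact ⟨0, by simp, by simpa using (associated_one_iff_isUnit.mpr hau).symm⟩
  obtain ⟨f, hf, hfa⟩ := hfac a ha hau
  refine ⟨f, fun q hq => ?_, hfa⟩
  have hirr := hf q hq
  by_cases hdiv : ∃ p ∈ P, p ∣ q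
  · obtain ⟨p, hp, hpq⟩ := hdiv
    exact (((hP p hp).irreducible.associated_of_dvd hirr hpq)).prime_iff.mp (hP p hp)
  push_neg at hdiv
  have hcancel : ∀ s ∈ M, ∀ y, q ∣ s * y → q ∣ y := fun s hs => by
    induction hs using Submonoid.closure_induction with
    | mem p hp =>
      rintro y ⟨x, hx⟩
      obtain ⟨z, rfl⟩ := ((hP p hp).dvd_or_dvd (Dvd.intro y hx)).resolve_left (hdiv p hp)
      exact ⟨z, mul_left_cancel₀ (hP p hp).ne_zero (by rw [hx]; ring)⟩
    | one => simp
    | mul x y _ _ hx hy => exact fun z hz => hy z (hx _ (by rwa [← mul_assoc]))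
  have hnu : ¬ IsUnit (algebraMap A L q) := fun h => by
    obtain ⟨v, hv⟩ := h.exists_right_inv
    obtain ⟨x, s, rfl⟩ := IsLocalization.exists_mk'_eq M v
    rw [IsLocalization.mul_mk'_eq_mk'_of_mul, IsLocalization.mk'_eq_iff_eq_mul, one_mul] at hv
    exact hirr.not_isUnit (isUnit_of_dvd_one (hcancel s s.2 1 (by rw [mul_one, ← hinj hv]; exact dvd_mul_right _ _)))
  have hsplit : ∀ s ∈ M, ∀ b c, q * s = b * c →
      IsUnit (algebraMap A L b) ∨ IsUnit (algebraMap A L c) := fun s hs => by
    induction hs using Submonoid.closure_induction_left with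
    | one =>
      intro b c h
      rw [mul_one] at h
      exact (hirr.isUnit_or_isUnit h).imp (fun h => h.map _) (fun h => h.map _)
    | mul_left p hp x hx ih =>
      intro b c h
      have hpu := hu p (Submonoid.subset_closure hp)
      have hdvd : p ∣ b * c := ⟨q * x, by rw [← h]; ring⟩
      rcases (hP p hp).dvd_or_dvd hdvd with ⟨b', rfl⟩ | ⟨c', rfl⟩
      · rcases ih b' c (mul_left_cancel₀ (hP p hp).ne_zero (by linear_combination h)) with h' | h'
        · exact Or.inl (by rw [map_mul]; exact hpu.mul h')
        · exact Or.inr h'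
      · rcases ih b c' (mul_left_cancel₀ (hP p hp).ne_zero (by linear_combination h)) with h' | h'
        · exact Or.inl h'
        · exact Or.inr (by rw [map_mul]; exact hpu.mul h')
  have hLirr : Irreducible (algebraMap A L q) := by
    refine ⟨hnu, fun u v huv => ?_⟩
    obtain ⟨b, s, rfl⟩ := IsLocalization.exists_mk'_eq M u
    obtain ⟨c, t, rfl⟩ := IsLocalization.exists_mk'_eq M v
    rw [← IsLocalization.mk'_mul, eq_comm, IsLocalization.mk'_eq_iff_eq_mul, ← map_mul] at huv
    have hi : ∀ (b : A) (s : M), IsUnit (algebraMap A L b) → IsUnit (IsLocalization.mk' L b s) := fun b s h => by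
      rw [← IsLocalization.mk'_spec L b s] at h
      exact (IsUnit.mul_iff.mp h).1
    exact (hsplit _ (s * t).2 b c (hinj huv).symm).imp (hi b s) (hi c t)
  have hLp : Prime (algebraMap A L q) := UniqueFactorizationMonoid.irreducible_iff_prime.mp hLirr
  refine ⟨hirr.ne_zero, hirr.not_isUnit, fun b c hbc => ?_⟩
  have key : ∀ b, algebraMap A L q ∣ algebraMap A L b → q ∣ b := fun b ⟨v, hv⟩ => by
    obtain ⟨x, s, rfl⟩ := IsLocalization.exists_mk'_eq M v
    rw [IsLocalization.mul_mk'_eq_mk'_of_mul, eq_comm, IsLocalization.mk'_eq_iff_eq_mul, ← map_mul] at hv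
    exact hcancel s s.2 b ⟨x, by linear_combination -(hinj hv)⟩
  exact (hLp.dvd_or_dvd (by rw [← map_mul]; exact map_dvd _ hbc)).imp (key b) (key c)

end Groth.Agent.S2119
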