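import Groth.Statements.S2120
import Mathlib.AlgebraicGeometry.Morphisms.Separated
import Mathlib.AlgebraicGeometry.Morphisms.QuasiSeparated
import Mathlib.AlgebraicGeometry.Morphisms.Proper
import Mathlib.AlgebraicGeometry.Morphisms.Immersion
-- import your own Groth.Agent.* helpers here

set_option autoImplicit false
universe u
open CategoryTheory AlgebraicGeometry
open CategoryTheory.Limits
open Mor

namespace Groth.Agent.S2120
set_option backward.isDefEq.respectTransparency.types false

lemma factor {S X Y : Scheme.{u}} (π : X ⟶ Y) (q : Y ⟶ S) :
    π ≫ pullback.diagonal q = pullback.diagonal (π ≫ q) ≫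
      pullback.map (π ≫ q) (π ≫ q) q q π π (𝟙 S) (by simp) (by simp) := by
  apply pullback.hom_ext <;>
    simp [pullback.map, pullback.diagonal, pullback.lift_fst, pullback.lift_snd,
      pullback.lift_fst_assoc, pullback.lift_snd_assoc]

instance {S X Y : Scheme.{u}} (π : X ⟶ Y) (q : Y ⟶ S) [UniversallyClosed π] :
    UniversallyClosed (pullback.map (π ≫ q) (π ≫ q) q q π π (𝟙 S) (by simp) (by simp)) :=
  MorphismProperty.pullbackMap (P := @UniversallyClosed.{u}) (i₁ := π) (i₂ := π)
    inferInstance inferInstance rfl rfl


/-- Let `f : X → Y` be surjective and universally closed. If `X` is quasi-separated then so is `Y`; if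
`X` is separated then so is `Y`. -/
theorem result {X Y : Scheme.{u}} (f : X ⟶ Y) [Surjective f] [UniversallyClosed f] :
    (QuasiSeparatedSpace X → QuasiSeparatedSpace Y) ∧ (X.IsSeparated → Y.IsSeparated) := by
  have e : f ≫ terminal.from Y = terminal.from X := terminal.hom_ext _ _
  refine ⟨fun h => ?_, fun h => ⟨?_⟩⟩
  · rw [quasiSeparatedSpace_iff_quasiSeparated] at h ⊢
    have : QuasiSeparated (f ≫ terminal.from Y) := e ▸ h
    have hd := factor f (terminal.from Y)
    have : QuasiCompact (f ≫ pullback.diagonal (terminal.from Y)) := by
      rw [hd]; infer_instance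
    constructor
    constructor
    intro K hKo hKc
    rw [← Set.image_preimage_eq ((pullback.diagonal (terminal.from Y)).base ⁻¹' K) f.surjective,
      ← Set.preimage_comp]
    exact (QuasiCompact.isCompact_preimage (f := f ≫ pullback.diagonal (terminal.from Y)) K hKo
      hKc).image f.continuous
  · have : IsSeparated (f ≫ terminal.from Y) := e ▸ h.isSeparated_terminal_from
    have hd := factor f (terminal.from Y)
    have : UniversallyClosed (f ≫ pullback.diagonal (terminal.from Y)) := by
      rw [hd]; infer_instance
    have : UniversallyClosed (pullback.diagonal (terminal.from Y)) := .of_comp_surjective f _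
    exact ⟨.of_isPreimmersion _ (pullback.diagonal (terminal.from Y)).isClosedMap.isClosed_range⟩

end Groth.Agent.S2120
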