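import Groth.Statements.S2123
import Mathlib.AlgebraicGeometry.FunctionField
import Mathlib.AlgebraicGeometry.Morphisms.Separated
-- import your own Groth.Agent.* helpers here

set_option autoImplicit false
universe u
open CategoryTheory AlgebraicGeometry
open Mor

namespace Groth.Agent.S2123
set_option backward.isDefEq.respectTransparency.types false

lemma exists_factor {A B C : CommRingCat.{u}} (a : A ⟶ C) (b : B ⟶ C) (hb : Function.Injective b)
    (h : Set.range a ⊆ Set.range b) : ∃ φ : A ⟶ B, φ ≫ b = a := by
  choose φ hφ using fun s => h ⟨s, rfl⟩
  refine ⟨CommRingCat.ofHom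
    { toFun := φ
      map_one' := hb (by rw [hφ, map_one, map_one])
      map_mul' := fun s t => hb (by rw [hφ, map_mul, map_mul, hφ, hφ])
      map_zero' := hb (by rw [hφ, map_zero, map_zero])
      map_add' := fun s t => hb (by rw [hφ, map_add, map_add, hφ, hφ]) }, ?_⟩
  ext s
  exact hφ s

/-- Let `X` be an integral separated scheme and `x, y` points such that the closure of `x` is not
contained in the closure of `y`. Then, inside the function field of `X`, the local ring at `x` is
not contained in the local ring at `y`. -/
theorem result (X : Scheme.{u}) [IsIntegral X] [X.IsSeparated] (x y : X)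
    (h : ¬ closure ({x} : Set X) ⊆ closure {y}) :
    ¬ Set.range (X.presheaf.stalkSpecializes (genericPoint_specializes x)) ⊆
        Set.range (X.presheaf.stalkSpecializes (genericPoint_specializes y)) := by
  intro hsub
  apply h
  set a := X.presheaf.stalkSpecializes (genericPoint_specializes x) with ha
  set b := X.presheaf.stalkSpecializes (genericPoint_specializes y) with hb
  have hbinj : Function.Injective b :=
    IsFractionRing.injective (X.presheaf.stalk y) X.functionField
  obtain ⟨φ, hφ⟩ := exists_factor a b hbinj hsub
  have : IsDominant (Spec.map b) := ⟨by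
    apply (PrimeSpectrum.denseRange_comap_iff_ker_le_nilRadical b.hom).mpr
    rw [(RingHom.injective_iff_ker_eq_bot b.hom).mp hbinj]
    exact bot_le⟩
  have heq : X.fromSpecStalk y = Spec.map φ ≫ X.fromSpecStalk x := by
    refine ext_of_isDominant (Spec.map b) ?_
    rw [← Category.assoc, ← Spec.map_comp, hφ, ha, hb,
      Scheme.SpecMap_stalkSpecializes_fromSpecStalk, Scheme.SpecMap_stalkSpecializes_fromSpecStalk]
  have h1 : y ∈ Set.range (X.fromSpecStalk x) := by
    refine ⟨Spec.map φ (IsLocalRing.closedPoint _), ?_⟩
    rw [← Scheme.Hom.comp_apply, ← heq]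
    exact Scheme.fromSpecStalk_closedPoint
  rw [Scheme.range_fromSpecStalk] at h1
  exact specializes_iff_closure_subset.mp h1

end Groth.Agent.S2123
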