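import Groth.Statements.S2125
import Groth.Agent.Hens.BranchBij
import Groth.Agent.Hensel.EtLike
-- import your own Groth.Agent.* helpers here

set_option autoImplicit false
universe u
open CAlg

namespace Groth.Agent.S2125

open TensorProduct in
/-- Let `A` be a local ring with finitely many minimal primes, `A'` the integral closure of `A_red` in
its total ring of fractions and `A^h` the henselization of `A`. Then contraction along `A^h → A' ⊗_A
A^h` is a bijection from the minimal primes of `A' ⊗_A A^h` onto the minimal primes of `A^h`. -/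
theorem result {A Ah : Type u} [CommRing A] [IsLocalRing A]
    (hfin : (minimalPrimes A).Finite) [CommRing Ah] [IsLocalRing Ah] [Algebra A Ah] [IsLocalHom (algebraMap A Ah)]
    [Hensel.IsHenselization A Ah] :
    Set.BijOn (fun P : Ideal ((CAlg2.normRed A) ⊗[A] Ah) =>
        P.comap (Algebra.TensorProduct.includeRight.toRingHom :
          Ah →+* (CAlg2.normRed A) ⊗[A] Ah))
      (minimalPrimes ((CAlg2.normRed A) ⊗[A] Ah))
      (minimalPrimes Ah) := by
  haveI := (Groth.Agent.Hensel.isEtLike_of_isHenselization A Ah).flat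
  obtain ⟨e, he⟩ := Groth.Agent.Hens.exists_minimalPrimes_normRed_tensor_equiv (A := A) (S := Ah)
  refine ⟨fun P hP => ?_, fun P hP Q hQ hPQ => ?_, fun q hq => ?_⟩
  · have := (e ⟨P, hP⟩).2
    rwa [he] at this
  · exact congrArg Subtype.val (e.injective (Subtype.ext ((he ⟨P, hP⟩).trans (hPQ.trans (he ⟨Q, hQ⟩).symm))))
  · exact ⟨(e.symm ⟨q, hq⟩).1, (e.symm ⟨q, hq⟩).2, ((he _).symm.trans (congrArg Subtype.val (e.apply_symm_apply _)))⟩

end Groth.Agent.S2125
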