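import Groth.Statements.S2126
import Mathlib.AlgebraicGeometry.Morphisms.Affine
import Groth.Agent.Props.GenExt
-- import your own Groth.Agent.* helpers here

set_option autoImplicit false
universe u
open CategoryTheory AlgebraicGeometry
open Mor

namespace Groth.Agent.S2126
set_option backward.isDefEq.respectTransparency.types false
open Groth.Agent.Props

lemma isAffineHom_genLocus {X : Scheme.{u}} {L : X.Modules} (hL : PicF.IsInvertible L) (k : ℕ)
    (s : Coh.structureModule X ⟶ CohB1.tensorPow L k) :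
    IsAffineHom (CohB1.genLocus _ s).ι := by
  refine isAffineHom_of_forall_exists_isAffineOpen _ fun x => ?_
  obtain ⟨U, e, hxU, he⟩ := GenLocus.exists_isGen hL x
  obtain ⟨W, hW, hxW, hWU⟩ := exists_isAffineOpen_mem_and_subset hxU
  have he' := (GenTensor.isGen_pw he k).restrict hWU
  obtain ⟨φ, hφ, -⟩ := he'.exists_eq le_rfl (GenLocus.sec s W)
  rw [Groth.Agent.QCoh.res_self] at hφ
  refine ⟨W, hxW, hW, ?_⟩
  rw [← Scheme.Hom.isAffineOpen_iff_of_isOpenImmersion (CohB1.genLocus _ s).ι,
    Scheme.Hom.image_preimage_eq_opensRange_inf, Scheme.Opens.opensRange_ι,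
    GenLocus.genLocus_inf he' s hφ]
  exact hW.basicOpen φ

/-- Let `X` be a quasi-compact scheme and `L` an invertible `O_X`-module. Then `L` is ample if and only
if the opens `X_s`, for `s` a global section of some positive tensor power of `L`, form a basis for
the topology of `X`. -/
theorem result {X : Scheme.{u}} [CompactSpace X] (L : X.Modules) (hL : PicF.IsInvertible L) :
    CohB1.IsAmple L ↔
      TopologicalSpace.Opens.IsBasis
        {U : X.Opens | ∃ (n : ℕ) (s : Coh.structureModule X ⟶ CohB1.tensorPow L (n + 1)), U = CohB1.genLocus _ s} := by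
  refine ⟨GenExt.isBasis_of_isAmple, fun h => ⟨hL, inferInstance, fun x => ?_⟩⟩
  obtain ⟨U, hU, hxU, -⟩ := exists_isAffineOpen_mem_and_subset (U := ⊤) (Set.mem_univ x)
  obtain ⟨_, ⟨n, s, rfl⟩, hxs, hsU⟩ := TopologicalSpace.Opens.isBasis_iff_nbhd.mp h hxU
  refine ⟨n, s, hxs, ?_⟩
  have := isAffineHom_genLocus hL (n + 1) s
  have h2 := hU.preimage (CohB1.genLocus _ s).ι
  rwa [← Scheme.Hom.isAffineOpen_iff_of_isOpenImmersion (CohB1.genLocus _ s).ι,
    Scheme.Hom.image_preimage_eq_opensRange_inf, Scheme.Opens.opensRange_ι,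
    inf_eq_left.mpr hsU] at h2

end Groth.Agent.S2126
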