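import Groth.Statements.S2129
import Groth.Agent.SmoothBr.Basic

set_option autoImplicit false
universe u
open CAlg

namespace Groth.Agent.S2129

set_option linter.style.haveILetI false
set_option backward.isDefEq.respectTransparency false
set_option backward.isDefEq.respectTransparency.types false

open TensorProduct IsLocalRing

/-- Let `R → S` be a smooth ring map, `𝔮` a prime of `S` over `𝔭`, and `A = R_𝔭 → B = S_𝔮` the induced
local homomorphism. Then strict henselizations of `A` and `B` have the same number of minimal prime
ideals (the same number of geometric branches, counted in ℕ∞, infinite counting as ∞). -/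
theorem result {R S Ash Bsh : Type u} [CommRing R] [CommRing S] [Algebra R S]
    [Algebra.Smooth R S] (q : Ideal S) [q.IsPrime] (p : Ideal R) [p.IsPrime] [q.LiesOver p]
    [CommRing Ash] [IsLocalRing Ash] [Algebra (Localization.AtPrime p) Ash]
    [IsLocalHom (algebraMap (Localization.AtPrime p) Ash)] [Hensel.IsStrictHenselization (Localization.AtPrime p) Ash]
    [CommRing Bsh] [IsLocalRing Bsh] [Algebra (Localization.AtPrime q) Bsh]
    [IsLocalHom (algebraMap (Localization.AtPrime q) Bsh)] [Hensel.IsStrictHenselization (Localization.AtPrime q) Bsh] :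
    (minimalPrimes Ash).encard = (minimalPrimes Bsh).encard := by
  letI : Algebra R Ash := ((algebraMap (Localization.AtPrime p) Ash).comp (algebraMap R (Localization.AtPrime p))).toAlgebra
  haveI : IsScalarTower R (Localization.AtPrime p) Ash := .of_algebraMap_eq' rfl
  letI : Algebra S Bsh := ((algebraMap (Localization.AtPrime q) Bsh).comp (algebraMap S (Localization.AtPrime q))).toAlgebra
  haveI : IsScalarTower S (Localization.AtPrime q) Bsh := .of_algebraMap_eq' rfl
  letI : Algebra R Bsh := ((algebraMap S Bsh).comp (algebraMap R S)).toAlgebra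
  haveI : IsScalarTower R S Bsh := .of_algebraMap_eq' rfl
  haveI hA := ‹Hensel.IsStrictHenselization (Localization.AtPrime p) Ash›.henselian
  haveI hB := ‹Hensel.IsStrictHenselization (Localization.AtPrime q) Bsh›.henselian
  haveI : IsSepClosed (ResidueField Ash) := ‹Hensel.IsStrictHenselization (Localization.AtPrime p) Ash›.isSepClosure.sep_closed
  let f : Localization.AtPrime p →+* Bsh :=
    (algebraMap (Localization.AtPrime q) Bsh).comp (Localization.localRingHom p q (algebraMap R S) (Ideal.LiesOver.over))
  haveI : IsLocalHom (Localization.localRingHom p q (algebraMap R S) (Ideal.LiesOver.over)) :=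
    Localization.isLocalHom_localRingHom _ _ _ _
  haveI : IsLocalHom f := RingHom.isLocalHom_comp _ _
  letI : Algebra (ResidueField (Localization.AtPrime p)) (ResidueField Bsh) := (ResidueField.map f).toAlgebra
  haveI : Algebra.IsSeparable (ResidueField (Localization.AtPrime p)) (ResidueField Ash) :=
    ‹Hensel.IsStrictHenselization (Localization.AtPrime p) Ash›.isSepClosure.separable
  haveI : IsSepClosed (ResidueField Bsh) := ‹Hensel.IsStrictHenselization (Localization.AtPrime q) Bsh›.isSepClosure.sep_closed
  let τ : ResidueField Ash →ₐ[ResidueField (Localization.AtPrime p)] ResidueField Bsh := IsSepClosed.lift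
  obtain ⟨g, ⟨hg, hgr⟩, -⟩ := ‹Hensel.IsStrictHenselization (Localization.AtPrime p) Ash›.universal Bsh f τ.toRingHom
    (RingHom.ext fun z => τ.commutes z)
  letI : Algebra Ash Bsh := g.toAlgebra
  haveI : IsScalarTower R Ash Bsh := .of_algebraMap_eq fun r => by
    show algebraMap S Bsh (algebraMap R S r) = g (algebraMap (Localization.AtPrime p) Ash (algebraMap R _ r))
    rw [← RingHom.comp_apply g, hg]
    show _ = algebraMap (Localization.AtPrime q) Bsh (Localization.localRingHom p q _ _ (algebraMap R _ r))
    rw [Localization.localRingHom_to_map]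
    rfl
  have hgl : ∀ a ∈ maximalIdeal Ash, g a ∈ maximalIdeal Bsh := fun a ha => by
    rw [← residue_eq_zero_iff, hgr, (residue_eq_zero_iff a).2 ha, map_zero]
  let μ := Algebra.TensorProduct.lift (IsScalarTower.toAlgHom R Ash Bsh) (IsScalarTower.toAlgHom R S Bsh)
    (fun _ _ => Commute.all _ _)
  let L := Localization.AtPrime (Ideal.comap μ (maximalIdeal Bsh))
  let E := Hens.StrictHenselization L
  obtain ⟨e, -⟩ := Groth.Agent.S9460.result R S p q Ash Bsh E
  letI : Algebra Ash E := ((algebraMap L E).comp (algebraMap Ash L)).toAlgebra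
  haveI : IsScalarTower Ash L E := .of_algebraMap_eq' rfl
  have hq : (maximalIdeal Ash).map (algebraMap Ash (Ash ⊗[R] S)) ≤ Ideal.comap μ (maximalIdeal Bsh) := by
    rw [Ideal.map_le_iff_le_comap]
    intro a ha
    show μ (a ⊗ₜ[R] (1 : S)) ∈ maximalIdeal Bsh
    rw [Algebra.TensorProduct.lift_tmul, map_one, mul_one]
    exact hgl a ha
  rw [SmoothBr.encard_minimalPrimes (T := E) (Ideal.comap μ (maximalIdeal Bsh)) hq]
  obtain ⟨φ, -⟩ := Hens.exists_minimalPrimes_surjective_equiv e.toRingHom e.surjective (by
    rw [(RingHom.injective_iff_ker_eq_bot e.toRingHom).1 e.injective]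
    exact bot_le)
  exact (Set.encard_congr φ).symm

end Groth.Agent.S2129
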