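import Groth.Statements.S9459
import Groth.Agent.Hens.Unique

set_option linter.style.haveILetI false
set_option autoImplicit false
universe u
open Hensel

namespace Groth.Agent.S9459

open scoped TensorProduct in
/-- A henselization of `S_q` receiving one of `R_p` is a henselization of the localized tensor product. -/
theorem exists_equiv {R S : Type u} [CommRing R] [CommRing S] [Algebra R S] (p : Ideal R) [p.IsPrime]
    (q : Ideal S) [q.IsPrime] [q.LiesOver p]
    (Rh : Type u) [CommRing Rh] [IsLocalRing Rh] [Algebra (Localization.AtPrime p) Rh]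
    [IsLocalHom (algebraMap (Localization.AtPrime p) Rh)]
    [Hensel.IsHenselization (Localization.AtPrime p) Rh] [Algebra R Rh]
    [IsScalarTower R (Localization.AtPrime p) Rh]
    (Sh : Type u) [CommRing Sh] [IsLocalRing Sh] [Algebra (Localization.AtPrime q) Sh]
    [IsLocalHom (algebraMap (Localization.AtPrime q) Sh)]
    [hSh : Hensel.IsHenselization (Localization.AtPrime q) Sh] [Algebra S Sh]
    [IsScalarTower S (Localization.AtPrime q) Sh] [Algebra R Sh] [IsScalarTower R S Sh]
    [Algebra Rh Sh] [IsScalarTower R Rh Sh] (Q : Ideal (Rh ⊗[R] S)) [Q.IsPrime]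
    (hQ : Q = Ideal.comap (Algebra.TensorProduct.lift (IsScalarTower.toAlgHom R Rh Sh)
      (IsScalarTower.toAlgHom R S Sh) (fun _ _ => Commute.all _ _)) (IsLocalRing.maximalIdeal Sh))
    (E : Type u) [CommRing E] [IsLocalRing E] [Algebra (Localization.AtPrime Q) E]
    [IsLocalHom (algebraMap (Localization.AtPrime Q) E)]
    [Hensel.IsHenselization (Localization.AtPrime Q) E] :
    ∃ e : E ≃+* Sh, ∀ d : Rh ⊗[R] S,
      e (algebraMap (Localization.AtPrime Q) E (algebraMap (Rh ⊗[R] S) _ d)) =
        (Algebra.TensorProduct.lift (IsScalarTower.toAlgHom R Rh Sh) (IsScalarTower.toAlgHom R S Sh)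
          (fun _ _ => Commute.all _ _)) d := by
  haveI := hSh.henselian
  let μ := Algebra.TensorProduct.lift (IsScalarTower.toAlgHom R Rh Sh) (IsScalarTower.toAlgHom R S Sh)
    (fun _ _ => Commute.all _ _)
  have hμS : ∀ s, μ (1 ⊗ₜ s) = algebraMap S Sh s := fun s => by simp [μ]
  have hμR : ∀ x, μ (x ⊗ₜ 1) = algebraMap Rh Sh x := fun x => by simp [μ]
  -- `S → S^h` contracts the maximal ideal to `q`
  have hcS : (IsLocalRing.maximalIdeal Sh).comap (algebraMap S Sh) = q := by
    have hl : (IsLocalRing.maximalIdeal Sh).comap (algebraMap (Localization.AtPrime q) Sh) =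
        IsLocalRing.maximalIdeal (Localization.AtPrime q) :=
      ((IsLocalRing.local_hom_TFAE (algebraMap (Localization.AtPrime q) Sh)).out 0 4).1 ‹_›
    rw [IsScalarTower.algebraMap_eq S (Localization.AtPrime q) Sh, ← Ideal.comap_comap, hl]
    exact IsLocalization.AtPrime.comap_maximalIdeal (Localization.AtPrime q) q
  have hcR : ∀ r : R, r ∈ p ↔ algebraMap R Sh r ∈ IsLocalRing.maximalIdeal Sh := fun r => by
    rw [Ideal.mem_of_liesOver q p, ← hcS, Ideal.mem_comap, ← IsScalarTower.algebraMap_apply]
  have hRh : ∀ x ∈ IsLocalRing.maximalIdeal Rh, algebraMap Rh Sh x ∈ IsLocalRing.maximalIdeal Sh := by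
    intro x hx
    rw [← Groth.Agent.Hens.map_maximalIdeal_of_isHenselization (R := Localization.AtPrime p) Rh,
      ← Localization.AtPrime.map_eq_maximalIdeal, Ideal.map_map, ← IsScalarTower.algebraMap_eq] at hx
    refine (Ideal.map_le_iff_le_comap (K := (IsLocalRing.maximalIdeal Sh).comap (algebraMap Rh Sh))).2
      (fun r hr => ?_) hx
    rw [Ideal.mem_comap, Ideal.mem_comap, ← IsScalarTower.algebraMap_apply]
    exact (hcR r).1 hr
  haveI hlocR : IsLocalHom (algebraMap Rh Sh) := ⟨fun x hx => by
    by_contra hn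
    exact hRh x hn hx⟩
  have hu : ∀ y : Q.primeCompl, IsUnit (μ y) := fun y => by
    by_contra hy
    exact y.2 (hQ.symm ▸ hy)
  let D := Localization.AtPrime Q
  letI : Algebra D Sh := (IsLocalization.lift (M := Q.primeCompl) (g := μ.toRingHom) hu).toAlgebra
  have hD : ∀ d, algebraMap D Sh (algebraMap (Rh ⊗[R] S) D d) = μ d := fun d => IsLocalization.lift_eq _ d
  haveI : IsLocalHom (algebraMap D Sh) := by
    refine ((IsLocalRing.local_hom_TFAE (algebraMap D Sh)).out 0 2).2 ?_
    rw [← Localization.AtPrime.map_eq_maximalIdeal, Ideal.map_map]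
    refine Ideal.map_le_iff_le_comap.2 fun d hd => ?_
    rw [Ideal.mem_comap, RingHom.comp_apply, hD]
    exact (hQ ▸ hd : d ∈ _)
  haveI : Hensel.IsHenselization D Sh := by
    refine ⟨inferInstance, fun T _ _ f hf => ?_⟩
    haveI := hf
    let jS : S →+* D := (algebraMap (Rh ⊗[R] S) D).comp
      (Algebra.TensorProduct.includeRight : S →ₐ[R] Rh ⊗[R] S).toRingHom
    let jR : Rh →+* D := (algebraMap (Rh ⊗[R] S) D).comp
      (Algebra.TensorProduct.includeLeftRingHom : Rh →+* Rh ⊗[R] S)
    have hjS : ∀ s, algebraMap D Sh (jS s) = algebraMap S Sh s := fun s => (hD _).trans (hμS s)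
    have hjR : ∀ x, algebraMap D Sh (jR x) = algebraMap Rh Sh x := fun x => (hD _).trans (hμR x)
    have huS : ∀ y : q.primeCompl, IsUnit (f (jS y)) := fun y => by
      refine (isUnit_of_map_unit (algebraMap D Sh) _ ?_).map f
      rw [hjS]
      by_contra hn
      exact y.2 (hcS ▸ hn)
    let fq : Localization.AtPrime q →+* T :=
      IsLocalization.lift (M := q.primeCompl) (g := f.comp jS) huS
    have hfq : ∀ s, fq (algebraMap S _ s) = f (jS s) := fun s => IsLocalization.lift_eq _ s
    haveI : IsLocalHom fq := ⟨fun z hz => by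
      obtain ⟨s, t, rfl⟩ := IsLocalization.exists_mk'_eq q.primeCompl z
      rw [IsLocalization.AtPrime.isUnit_mk'_iff (Localization.AtPrime q) q]
      have h1 : fq (IsLocalization.mk' _ s t) * f (jS t) = f (jS s) := by
        rw [← hfq, ← map_mul, IsLocalization.mk'_spec, hfq]
      have h2 : IsUnit (f (jS s)) := h1 ▸ hz.mul (huS t)
      have h3 := (isUnit_of_map_unit f _ h2).map (algebraMap D Sh)
      rw [hjS] at h3
      intro hs
      rw [← hcS] at hs
      exact hs h3⟩
    obtain ⟨g, hg, hguniq⟩ := hSh.universal T fq inferInstance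
    have hgS : ∀ s, g (algebraMap S Sh s) = f (jS s) := fun s => by
      rw [IsScalarTower.algebraMap_apply S (Localization.AtPrime q) Sh, ← RingHom.comp_apply, hg, hfq]
    haveI : IsLocalHom jR := ⟨fun x hx => isUnit_of_map_unit (algebraMap Rh Sh) _ (hjR x ▸ hx.map _)⟩
    let ψ : Localization.AtPrime p →+* T := (f.comp jR).comp (algebraMap (Localization.AtPrime p) Rh)
    haveI : IsLocalHom (f.comp jR) := RingHom.isLocalHom_comp _ _
    haveI : IsLocalHom ψ := RingHom.isLocalHom_comp _ _
    obtain ⟨w, -, hw⟩ := (‹Hensel.IsHenselization (Localization.AtPrime p) Rh›).universal T ψ inferInstance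
    have key : g.comp (algebraMap Rh Sh) = f.comp jR := by
      have hb : f.comp jR = w := hw (f.comp jR) rfl
      rw [hb]
      refine hw _ ?_
      refine IsLocalization.ringHom_ext p.primeCompl (RingHom.ext fun r => ?_)
      show g (algebraMap Rh Sh (algebraMap (Localization.AtPrime p) Rh (algebraMap R _ r))) =
        f (jR (algebraMap (Localization.AtPrime p) Rh (algebraMap R _ r)))
      rw [← IsScalarTower.algebraMap_apply R (Localization.AtPrime p) Rh, ← IsScalarTower.algebraMap_apply R Rh Sh,
        IsScalarTower.algebraMap_apply R S Sh, hgS]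
      refine congrArg (fun d => f (algebraMap (Rh ⊗[R] S) D d)) ?_
      show (1 : Rh) ⊗ₜ[R] algebraMap R S r = algebraMap R Rh r ⊗ₜ[R] (1 : S)
      rw [Algebra.algebraMap_eq_smul_one, Algebra.algebraMap_eq_smul_one, TensorProduct.smul_tmul]
    refine ⟨g, IsLocalization.ringHom_ext Q.primeCompl (RingHom.ext fun d => ?_), fun g' hg' => ?_⟩
    · show g (algebraMap D Sh (algebraMap _ D d)) = f (algebraMap _ D d)
      rw [hD]
      induction d with
      | zero => simp
      | add x y hx hy => simp only [map_add, hx, hy]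
      | tmul x s =>
        have hd : x ⊗ₜ[R] s = (x ⊗ₜ[R] (1 : S)) * ((1 : Rh) ⊗ₜ[R] s) := by
          rw [Algebra.TensorProduct.tmul_mul_tmul, mul_one, one_mul]
        rw [hd, map_mul, map_mul, map_mul, map_mul, hμR, hμS, hgS]
        exact congrArg (· * _) (RingHom.congr_fun key x)
    · refine hguniq g' (IsLocalization.ringHom_ext q.primeCompl (RingHom.ext fun s => ?_))
      show g' (algebraMap _ Sh (algebraMap S _ s)) = fq (algebraMap S _ s)
      rw [← IsScalarTower.algebraMap_apply, hfq, ← hjS, ← RingHom.comp_apply, hg']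
  let e : E ≃ₐ[D] Sh :=
    (Groth.Agent.Hens.henselizationEquiv (R := D) E).symm.trans (Groth.Agent.Hens.henselizationEquiv (R := D) Sh)
  exact ⟨e.toRingEquiv, fun d => (e.commutes _).trans (hD d)⟩

open TensorProduct in
/-- Let R → S be a ring map, q a prime of S over p, and R^h, S^h henselizations of R_p and S_q, S^h
carrying the compatible R^h-algebra structure (the canonical map R^h → S^h). Let φ : R^h ⊗_R S → S^h
be the induced map and Q the preimage under φ of the maximal ideal (a prime lying over the maximal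
ideal of R^h and over q). Then S^h is a henselization of the local ring (R^h ⊗_R S)_Q: for every
henselization E of (R^h ⊗_R S)_Q there is a ring isomorphism E ≅ S^h compatible with the two maps
from R^h ⊗_R S. -/
theorem result (R : Type u) [CommRing R] (S : Type u)
    [CommRing S] [Algebra R S] (p : Ideal R) [p.IsPrime] (q : Ideal S) [q.IsPrime] [q.LiesOver p]
    (Rh : Type u) [CommRing Rh] [IsLocalRing Rh] [Algebra (Localization.AtPrime p) Rh]
    [IsLocalHom (algebraMap (Localization.AtPrime p) Rh)]
    [Hensel.IsHenselization (Localization.AtPrime p) Rh] [Algebra R Rh]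
    [IsScalarTower R (Localization.AtPrime p) Rh]
    (Sh : Type u) [CommRing Sh] [IsLocalRing Sh] [Algebra (Localization.AtPrime q) Sh]
    [IsLocalHom (algebraMap (Localization.AtPrime q) Sh)]
    [Hensel.IsHenselization (Localization.AtPrime q) Sh] [Algebra S Sh]
    [IsScalarTower S (Localization.AtPrime q) Sh] [Algebra R Sh] [IsScalarTower R S Sh]
    [Algebra Rh Sh] [IsScalarTower R Rh Sh]
    (E : Type u) [CommRing E] [IsLocalRing E]
    [Algebra (Localization.AtPrime (Ideal.comap (Algebra.TensorProduct.lift (IsScalarTower.toAlgHom R Rh Sh) (IsScalarTower.toAlgHom R S Sh)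
          (fun _ _ => Commute.all _ _)) (IsLocalRing.maximalIdeal Sh))) E]
    [IsLocalHom (algebraMap (Localization.AtPrime
      (Ideal.comap (Algebra.TensorProduct.lift (IsScalarTower.toAlgHom R Rh Sh) (IsScalarTower.toAlgHom R S Sh)
          (fun _ _ => Commute.all _ _)) (IsLocalRing.maximalIdeal Sh))) E)]
    [Hensel.IsHenselization (Localization.AtPrime
      (Ideal.comap (Algebra.TensorProduct.lift (IsScalarTower.toAlgHom R Rh Sh) (IsScalarTower.toAlgHom R S Sh)
          (fun _ _ => Commute.all _ _)) (IsLocalRing.maximalIdeal Sh))) E] :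
    ∃ e : E ≃+* Sh, ∀ d : Rh ⊗[R] S,
      e (algebraMap (Localization.AtPrime
        (Ideal.comap (Algebra.TensorProduct.lift (IsScalarTower.toAlgHom R Rh Sh) (IsScalarTower.toAlgHom R S Sh)
          (fun _ _ => Commute.all _ _)) (IsLocalRing.maximalIdeal Sh))) E
        (algebraMap (Rh ⊗[R] S) _ d)) = (Algebra.TensorProduct.lift (IsScalarTower.toAlgHom R Rh Sh) (IsScalarTower.toAlgHom R S Sh)
          (fun _ _ => Commute.all _ _)) d := by
  exact exists_equiv p q Rh Sh _ rfl E

end Groth.Agent.S9459
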