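import Groth.Statements.S2130
import Groth.Agent.SmoothBrPI.Basic
import Groth.Agent.S9459
import Groth.Agent.S0507
import Groth.Agent.S0508

set_option autoImplicit false
universe u
open CAlg

namespace Groth.Agent.S2130

set_option linter.style.haveILetI false
set_option backward.isDefEq.respectTransparency false
set_option backward.isDefEq.respectTransparency.types false

open TensorProduct IsLocalRing

/-- Let `R → S` be smooth, `𝔮` a prime of `S` over `𝔭` with `κ(𝔮)/κ(𝔭)` purely inseparable, and `A = R_𝔭
→ B = S_𝔮`. Then henselizations of `A` and `B` have the same number of minimal prime ideals (the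
same number of branches). -/
theorem result {R S Ah Bh : Type u} [CommRing R] [CommRing S]
    [Algebra R S] [Algebra.Smooth R S] (q : Ideal S) [q.IsPrime] (p : Ideal R) [p.IsPrime] [q.LiesOver p]
    (hpi : @IsPurelyInseparable p.ResidueField q.ResidueField _ _
      (Ideal.ResidueField.mapₐ p q (Algebra.ofId R S) (q.over_def p)).toRingHom.toAlgebra)
    [CommRing Ah] [IsLocalRing Ah] [Algebra (Localization.AtPrime p) Ah]
    [IsLocalHom (algebraMap (Localization.AtPrime p) Ah)] [Hensel.IsHenselization (Localization.AtPrime p) Ah]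
    [CommRing Bh] [IsLocalRing Bh] [Algebra (Localization.AtPrime q) Bh]
    [IsLocalHom (algebraMap (Localization.AtPrime q) Bh)] [Hensel.IsHenselization (Localization.AtPrime q) Bh] :
    (minimalPrimes Ah).encard = (minimalPrimes Bh).encard := by
  letI : Algebra R Ah := ((algebraMap (Localization.AtPrime p) Ah).comp (algebraMap R (Localization.AtPrime p))).toAlgebra
  haveI : IsScalarTower R (Localization.AtPrime p) Ah := .of_algebraMap_eq' rfl
  letI : Algebra S Bh := ((algebraMap (Localization.AtPrime q) Bh).comp (algebraMap S (Localization.AtPrime q))).toAlgebra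
  haveI : IsScalarTower S (Localization.AtPrime q) Bh := .of_algebraMap_eq' rfl
  letI : Algebra R Bh := ((algebraMap S Bh).comp (algebraMap R S)).toAlgebra
  haveI : IsScalarTower R S Bh := .of_algebraMap_eq' rfl
  haveI hA := ‹Hensel.IsHenselization (Localization.AtPrime p) Ah›.henselian
  haveI hB := ‹Hensel.IsHenselization (Localization.AtPrime q) Bh›.henselian
  let φ := Localization.localRingHom p q (algebraMap R S) (Ideal.LiesOver.over)
  haveI : IsLocalHom φ := Localization.isLocalHom_localRingHom _ _ _ _
  let f : Localization.AtPrime p →+* Bh := (algebraMap (Localization.AtPrime q) Bh).comp φ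
  haveI : IsLocalHom f := RingHom.isLocalHom_comp _ _
  obtain ⟨g, hg, -⟩ := ‹Hensel.IsHenselization (Localization.AtPrime p) Ah›.universal Bh f inferInstance
  letI : Algebra Ah Bh := g.toAlgebra
  haveI : IsScalarTower R Ah Bh := .of_algebraMap_eq fun r => by
    show algebraMap S Bh (algebraMap R S r) = g (algebraMap (Localization.AtPrime p) Ah (algebraMap R _ r))
    rw [← RingHom.comp_apply g, hg]
    show _ = algebraMap (Localization.AtPrime q) Bh (Localization.localRingHom p q _ _ (algebraMap R _ r))
    rw [Localization.localRingHom_to_map]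
    rfl
  have hgl : ∀ a ∈ maximalIdeal Ah, g a ∈ maximalIdeal Bh := by
    intro a ha
    rw [← S0507.result (Localization.AtPrime p) Ah] at ha
    have : (maximalIdeal (Localization.AtPrime p)).map (algebraMap _ Ah) ≤ (maximalIdeal Bh).comap g := by
      rw [Ideal.map_le_iff_le_comap, Ideal.comap_comap, hg]
      exact ((local_hom_TFAE f).out 0 3 rfl rfl).mp inferInstance
    exact this ha
  let μ := Algebra.TensorProduct.lift (IsScalarTower.toAlgHom R Ah Bh) (IsScalarTower.toAlgHom R S Bh)
    (fun _ _ => Commute.all _ _)
  let L := Localization.AtPrime (Ideal.comap μ (maximalIdeal Bh))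
  let E := Hens.Henselization L
  obtain ⟨e, -⟩ := Groth.Agent.S9459.result R S p q Ah Bh E
  letI : Algebra Ah E := ((algebraMap L E).comp (algebraMap Ah L)).toAlgebra
  haveI : IsScalarTower Ah L E := .of_algebraMap_eq' rfl
  have hq : (maximalIdeal Ah).map (algebraMap Ah (Ah ⊗[R] S)) ≤ Ideal.comap μ (maximalIdeal Bh) := by
    rw [Ideal.map_le_iff_le_comap]
    intro a ha
    show μ (a ⊗ₜ[R] (1 : S)) ∈ maximalIdeal Bh
    rw [Algebra.TensorProduct.lift_tmul, map_one, mul_one]
    exact hgl a ha
  let ν : L →+* Bh := IsLocalization.lift (M := (Ideal.comap μ (maximalIdeal Bh)).primeCompl)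
    (g := μ.toRingHom) fun y => by
      by_contra h
      exact y.2 ((mem_maximalIdeal _).mpr h)
  haveI : IsLocalHom ν := ⟨fun x hx => by
    obtain ⟨a, b, rfl⟩ := IsLocalization.exists_mk'_eq (Ideal.comap μ (maximalIdeal Bh)).primeCompl x
    rw [IsLocalization.AtPrime.isUnit_mk'_iff L]
    intro ha
    have h1 : IsUnit (ν (algebraMap _ L a)) := by
      rw [← IsLocalization.mk'_spec L a b, map_mul]
      exact hx.mul ((IsLocalization.map_units L b).map ν)
    rw [IsLocalization.lift_eq] at h1
    exact (mem_maximalIdeal _).mp ha h1⟩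
  have hν : ∀ a : Ah, ν (algebraMap Ah L a) = g a := fun a => by
    rw [IsScalarTower.algebraMap_apply Ah (Ah ⊗[R] S) L, IsLocalization.lift_eq]
    show μ (a ⊗ₜ[R] (1 : S)) = g a
    rw [Algebra.TensorProduct.lift_tmul, map_one, mul_one]
    rfl
  have hpi' : ∀ x : L, ∃ (n : ℕ) (a : Ah),
      residue L (algebraMap Ah L a) = residue L x ^ (ringExpChar (ResidueField L)) ^ n := by
    intro x
    let j := ResidueField.map ν
    obtain ⟨y, hy⟩ := (S0508.result (Localization.AtPrime q) Bh).2 (residue Bh (ν x))
    letI : Algebra p.ResidueField q.ResidueField :=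
      (Ideal.ResidueField.mapₐ p q (Algebra.ofId R S) (q.over_def p)).toRingHom.toAlgebra
    haveI : IsPurelyInseparable p.ResidueField q.ResidueField := hpi
    let c := ringExpChar (ResidueField L)
    haveI : ExpChar (ResidueField Bh) c := expChar_of_injective_ringHom j.injective c
    haveI : ExpChar q.ResidueField c :=
      RingHom.expChar (ResidueField.map (algebraMap (Localization.AtPrime q) Bh)) (RingHom.injective _) c
    haveI : ExpChar p.ResidueField c :=
      RingHom.expChar (algebraMap p.ResidueField q.ResidueField) (RingHom.injective _) c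
    obtain ⟨n, z, hz⟩ := IsPurelyInseparable.pow_mem p.ResidueField c (E := q.ResidueField) y
    obtain ⟨z, rfl⟩ := residue_surjective z
    refine ⟨n, algebraMap (Localization.AtPrime p) Ah z, j.injective ?_⟩
    rw [map_pow]
    show residue Bh (ν (algebraMap Ah L _)) = residue Bh (ν x) ^ _
    rw [hν, ← RingHom.comp_apply g, hg, ← hy, ← map_pow, ← hz]
    rfl
  rw [SmoothBrPI.encard_minimalPrimes (T := E) (Ideal.comap μ (maximalIdeal Bh)) hq hpi']
  obtain ⟨φ', -⟩ := Hens.exists_minimalPrimes_surjective_equiv e.toRingHom e.surjective (by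
    rw [(RingHom.injective_iff_ker_eq_bot e.toRingHom).1 e.injective]
    exact bot_le)
  exact (Set.encard_congr φ').symm

end Groth.Agent.S2130
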