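import Groth.Statements.S2131
import Mathlib.Algebra.Module.FinitePresentation
-- import your own Groth.Agent.* helpers here

set_option autoImplicit false
universe u
open CAlg

namespace Groth.Agent.S2131

lemma mk_eq_zero_iff {R M : Type*} [CommRing R] [AddCommGroup M] [Module R M] {S : Submonoid R}
    (m : M) (s : S) : LocalizedModule.mk m s = 0 ↔ ∃ u : S, u • m = 0 := by
  rw [← LocalizedModule.zero_mk 1, LocalizedModule.mk_eq]
  simp only [one_smul, smul_zero]

/-- For an `R`-linear map from a finite module to a finitely presented module, the primes at which its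
localization is bijective form an open subset of `Spec R`. -/
theorem result {R M N : Type u} [CommRing R] [AddCommGroup M] [Module R M] [Module.Finite R M]
    [AddCommGroup N] [Module R N] [Module.FinitePresentation R N] (φ : M →ₗ[R] N) :
    IsOpen {p : PrimeSpectrum R | Function.Bijective (LocalizedModule.map p.asIdeal.primeCompl φ)} := by
  rw [isOpen_iff_forall_mem_open]
  intro p hp
  obtain ⟨g, hg, hbij⟩ := Module.FinitePresentation.exists_notMem_bijective φ p.asIdeal
    (LocalizedModule.mkLinearMap p.asIdeal.primeCompl M) (LocalizedModule.mkLinearMap p.asIdeal.primeCompl N)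
    (by exact hp)
  refine ⟨PrimeSpectrum.basicOpen g, fun q hq => ?_, PrimeSpectrum.isOpen_basicOpen, hg⟩
  have hq' : g ∉ q.asIdeal := hq
  have hpow : ∀ k : ℕ, g ^ k ∈ q.asIdeal.primeCompl := fun k => pow_mem (S := q.asIdeal.primeCompl) hq' k
  constructor
  · rw [injective_iff_map_eq_zero]
    intro x
    induction x using LocalizedModule.induction_on with
    | _ m s =>
      intro hx
      rw [LocalizedModule.map_mk, mk_eq_zero_iff] at hx
      obtain ⟨u, hu⟩ := hx
      have h0 : LocalizedModule.map (Submonoid.powers g) φ (LocalizedModule.mk ((u : R) • m) 1) = 0 := by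
        rw [LocalizedModule.map_mk, map_smul]
        rw [← Submonoid.smul_def, hu, LocalizedModule.zero_mk]
      have h1 := hbij.1 (h0.trans (map_zero _).symm)
      rw [mk_eq_zero_iff] at h1
      obtain ⟨⟨_, k, rfl⟩, hk⟩ := h1
      rw [mk_eq_zero_iff]
      exact ⟨⟨g ^ k, hpow k⟩ * u, by rw [mul_smul]; exact hk⟩
  · intro y
    induction y using LocalizedModule.induction_on with
    | _ n s =>
      obtain ⟨x, hx⟩ := hbij.2 (LocalizedModule.mk n 1)
      induction x using LocalizedModule.induction_on with
      | _ m t =>
        obtain ⟨_, k, rfl⟩ := t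
        rw [LocalizedModule.map_mk, LocalizedModule.mk_eq] at hx
        obtain ⟨⟨_, j, rfl⟩, hj⟩ := hx
        simp only [Submonoid.smul_def, one_smul] at hj
        refine ⟨LocalizedModule.mk m (⟨g ^ k, hpow k⟩ * s), ?_⟩
        rw [LocalizedModule.map_mk, LocalizedModule.mk_eq]
        refine ⟨⟨g ^ j, hpow j⟩, ?_⟩
        simp only [Submonoid.smul_def, Submonoid.coe_mul]
        have := congrArg (fun w => (s : R) • w) hj
        simp only [smul_smul] at this ⊢
        convert this using 2 <;> ring

end Groth.Agent.S2131
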