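import Groth.Statements.S2132
import Mathlib
-- import your own Groth.Agent.* helpers here

set_option autoImplicit false
universe u
open CategoryTheory
open CAlg

namespace Groth.Agent.S2132

/-- Let `F : J ⥤ CommRingCat` be a filtered diagram of henselian local rings with local transition maps
and `c` a colimit cocone. Then the colimit is a henselian local ring. -/
theorem result {J : Type u} [SmallCategory J] [IsFiltered J] (F : J ⥤ CommRingCat.{u})
    (hF : ∀ j, HenselianLocalRing (F.obj j)) (hloc : ∀ (i j : J) (a : i ⟶ j), IsLocalHom (F.map a).hom)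
    (c : Limits.Cocone F) (hc : Limits.IsColimit c) : HenselianLocalRing c.pt := by
  classical
  have hc' := Limits.isColimitOfPreserves (forget CommRingCat.{u}) hc
  have hsurj : ∀ x : c.pt, ∃ (j : J) (y : F.obj j), c.ι.app j y = x := fun x => by
    obtain ⟨j, y, hy⟩ := Limits.Types.jointly_surjective_of_isColimit hc' x
    exact ⟨j, y, hy⟩
  have heq : ∀ (i j : J) (x : F.obj i) (y : F.obj j), c.ι.app i x = c.ι.app j y →
      ∃ (k : J) (a : i ⟶ k) (b : j ⟶ k), F.map a x = F.map b y := fun i j x y h =>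
    (Limits.Types.FilteredColimit.isColimit_eq_iff _ hc').mp h
  have hw : ∀ (i j : J) (a : i ⟶ j) (x : F.obj i), c.ι.app j (F.map a x) = c.ι.app i x := fun i j a x => by
    rw [← CommRingCat.comp_apply, c.w]
  have hlocι : ∀ (j : J) (x : F.obj j), IsUnit (c.ι.app j x) → IsUnit x := by
    intro j x hx
    obtain ⟨v, hv⟩ := hx.exists_right_inv
    obtain ⟨i, y, rfl⟩ := hsurj v
    obtain ⟨l, a, b, -⟩ := IsFilteredOrEmpty.cocone_objs j i
    have h1 : c.ι.app l (F.map a x * F.map b y) = c.ι.app l 1 := by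
      rw [map_mul, hw, hw, hv, map_one]
    obtain ⟨k, a', b', h2⟩ := heq l l _ _ h1
    rw [map_mul, map_one] at h2
    have hu : IsUnit (F.map a' (F.map a x)) := IsUnit.of_mul_eq_one _ h2
    have h3 : IsUnit ((F.map (a ≫ a')).hom x) := by rwa [F.map_comp, CommRingCat.hom_comp]
    have := hloc _ _ (a ≫ a')
    exact (isUnit_map_iff _ _).mp h3
  have : Nontrivial c.pt := by
    refine nontrivial_of_ne 0 1 fun h => ?_
    obtain ⟨j⟩ := IsFiltered.nonempty (C := J)
    obtain ⟨k, a, b, h'⟩ := heq j j 0 1 (by rw [map_zero, map_one]; exact h)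
    rw [map_zero, map_one] at h'
    have := hF k
    exact zero_ne_one h'
  have : IsLocalRing c.pt := IsLocalRing.of_isUnit_or_isUnit_one_sub_self fun x => by
    obtain ⟨j, y, rfl⟩ := hsurj x
    have := hF j
    exact (IsLocalRing.isUnit_or_isUnit_one_sub_self y).imp (fun h => h.map (c.ι.app j).hom) fun h => by
      have := h.map (c.ι.app j).hom
      rwa [map_sub, map_one] at this
  refine ⟨fun f hf a₀ h1 h2 => ?_⟩
  obtain ⟨ja, a, rfl⟩ := hsurj a₀
  choose jc yc hyc using fun i : ℕ => hsurj (f.coeff i)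
  obtain ⟨j, hj⟩ := IsFiltered.sup_objs_exists (insert ja ((Finset.range (f.natDegree + 1)).image jc))
  have hlift : f ∈ Polynomial.lifts (c.ι.app j).hom := by
    rw [Polynomial.lifts_iff_coeff_lifts]
    intro i
    by_cases hi : i ≤ f.natDegree
    · exact ⟨F.map (hj (Finset.mem_insert_of_mem
        (Finset.mem_image_of_mem jc (Finset.mem_range.mpr (Nat.lt_succ_iff.mpr hi))))).some (yc i),
        (hw (jc i) j _ (yc i)).trans (hyc i)⟩
    · exact ⟨0, by rw [map_zero, Polynomial.coeff_eq_zero_of_natDegree_lt (not_le.mp hi)]⟩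
  have : Nontrivial (((CategoryTheory.Functor.const J).obj c.pt).obj j) := inferInstanceAs (Nontrivial c.pt)
  obtain ⟨g, hgf, -, hg⟩ := Polynomial.lifts_and_degree_eq_and_monic hlift hf
  let e := (hj (Finset.mem_insert_self ja _)).some
  have hea : (c.ι.app j).hom (F.map e a) = c.ι.app ja a := hw _ _ e a
  have hev : ∀ p : Polynomial (F.obj j), (c.ι.app j).hom (p.eval (F.map e a)) =
      (p.map (c.ι.app j).hom).eval (c.ι.app ja a) := fun p => by
    rw [Polynomial.eval_map, ← Polynomial.eval₂_hom, hea]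
  have := hF j
  obtain ⟨r, hr, hra⟩ := HenselianLocalRing.is_henselian g hg (F.map e a) (by
    rw [IsLocalRing.mem_maximalIdeal, mem_nonunits_iff]
    intro hu
    have := hu.map (c.ι.app j).hom
    rw [hev, hgf] at this
    exact (IsLocalRing.mem_maximalIdeal _).mp h1 this) (hlocι j _ (by
      show IsUnit ((c.ι.app j).hom _)
      rw [hev, ← Polynomial.derivative_map, hgf]
      exact h2))
  refine ⟨c.ι.app j r, ?_, ?_⟩
  · show f.eval ((c.ι.app j).hom r) = 0
    rw [← hgf, Polynomial.eval_map, Polynomial.eval₂_hom, hr.eq_zero, map_zero]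
  · rw [IsLocalRing.mem_maximalIdeal, mem_nonunits_iff]
    intro hu
    refine (IsLocalRing.mem_maximalIdeal _).mp hra (hlocι j _ ?_)
    show IsUnit ((c.ι.app j).hom _)
    rw [map_sub, hea]
    exact hu

end Groth.Agent.S2132
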