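import Groth.Statements.S2133
import Mathlib
-- import your own Groth.Agent.* helpers here

set_option autoImplicit false
universe u
open CAlg

namespace Groth.Agent.S2133

/-- Let `R → R'` be an injective ring map of finite type and `g ∈ R` a nonzerodivisor on `R'` such that
every element of `R'` lands in `R` after multiplication by a power of `g` (so `R_g = R'_g`). Then
for every derivation `D` of `R` there is `N` such that `g^N D` extends to a derivation of `R'`. -/
theorem result {R R' : Type u} [CommRing R] [CommRing R'] [Algebra R R'] [Algebra.FiniteType R R']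
    (hinj : Function.Injective (algebraMap R R')) (g : R) (hg : IsSMulRegular R' (algebraMap R R' g))
    (hloc : ∀ x : R', ∃ n : ℕ, (algebraMap R R' g) ^ n * x ∈ Set.range (algebraMap R R')) (D : Derivation ℤ R R) :
    ∃ (N : ℕ) (D' : Derivation ℤ R' R'), ∀ r : R, D' (algebraMap R R' r) = algebraMap R R' (g ^ N * D r) := by
  classical
  let g' := algebraMap R R' g
  let L := Localization.Away g'
  have hj : Function.Injective (algebraMap R' L) := IsLocalization.injective L (M := Submonoid.powers g') (by
    rintro _ ⟨n, rfl⟩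
    refine mem_nonZeroDivisors_iff_right.mpr fun x hx => ?_
    exact (hg.pow n) (show g' ^ n * x = g' ^ n * 0 by rw [mul_zero, mul_comm]; exact hx))
  have : IsLocalization (Submonoid.powers g) L := by
    refine (isLocalization_iff _ _).mpr ⟨?_, fun z => ?_, fun {x y} h => ⟨1, ?_⟩⟩
    · rintro ⟨_, n, rfl⟩
      rw [IsScalarTower.algebraMap_apply R R' L, map_pow]
      exact IsLocalization.map_units L (⟨g' ^ n, n, rfl⟩ : Submonoid.powers g')
    · obtain ⟨x, ⟨_, m, rfl⟩, rfl⟩ := IsLocalization.exists_mk'_eq (Submonoid.powers g') z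
      obtain ⟨n, r, hr⟩ := hloc x
      refine ⟨(r, ⟨g ^ (m + n), m + n, rfl⟩), ?_⟩
      rw [IsScalarTower.algebraMap_apply R R' L, IsScalarTower.algebraMap_apply R R' L r, hr, map_pow,
        pow_add, map_mul, ← mul_assoc]
      erw [IsLocalization.mk'_spec]
      rw [← map_mul, mul_comm]
    · rw [IsScalarTower.algebraMap_apply R R' L, IsScalarTower.algebraMap_apply R R' L] at h
      simpa using hinj (hj h)
  let ψ : R →+* TrivSqZeroExt L L :=
    { toFun := fun r => ((algebraMap R L r, algebraMap R L (D r)) : L × L)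
      map_one' := TrivSqZeroExt.ext (map_one _) (by show algebraMap R L (D 1) = 0; rw [D.map_one_eq_zero, map_zero])
      map_zero' := TrivSqZeroExt.ext (map_zero _) (by show algebraMap R L (D 0) = 0; rw [map_zero, map_zero])
      map_add' := fun a b => TrivSqZeroExt.ext (map_add _ a b)
        (by show algebraMap R L (D (a + b)) = algebraMap R L (D a) + algebraMap R L (D b); rw [map_add, map_add])
      map_mul' := fun a b => TrivSqZeroExt.ext (map_mul _ a b)
        (by show algebraMap R L (D (a * b)) = algebraMap R L a * algebraMap R L (D b) + algebraMap R L (D a) * algebraMap R L b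
            rw [D.leibniz, map_add, smul_eq_mul, smul_eq_mul, map_mul, map_mul]; ring) }
  have hψ : ∀ y : Submonoid.powers g, IsUnit (ψ y) := fun y => by
    rw [TrivSqZeroExt.isUnit_iff_isUnit_fst]
    exact IsLocalization.map_units L y
  let Ψ : L →+* TrivSqZeroExt L L := IsLocalization.lift hψ
  have hΨr : ∀ r, Ψ (algebraMap R L r) = ψ r := fun r => IsLocalization.lift_eq hψ r
  have hfst : ∀ z, (Ψ z).fst = z := by
    have : (TrivSqZeroExt.fstHom L L L).toRingHom.comp Ψ = RingHom.id L :=
      IsLocalization.ringHom_ext (Submonoid.powers g) (RingHom.ext fun r => by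
        show (Ψ (algebraMap R L r)).fst = _
        rw [hΨr]
        rfl)
    exact fun z => RingHom.congr_fun this z
  let d : L → L := fun z => (Ψ z).snd
  have hd1 : ∀ a b, d (a + b) = d a + d b := fun a b => by simp [d]
  have hd2 : ∀ a b, d (a * b) = a * d b + b * d a := fun a b => by
    simp only [d, map_mul, TrivSqZeroExt.snd_mul, hfst, smul_eq_mul, MulOpposite.smul_eq_mul_unop,
      MulOpposite.unop_op]
    ring
  have hdr : ∀ r, d (algebraMap R L r) = algebraMap R L (D r) := fun r => by
    show (Ψ (algebraMap R L r)).snd = _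
    rw [hΨr]
    rfl
  let G := algebraMap R L g
  let S : ℕ → R' → Prop := fun N x => G ^ N * d (algebraMap R' L x) ∈ Set.range (algebraMap R' L)
  have hGr : ∀ N, G ^ N ∈ Set.range (algebraMap R' L) := fun N =>
    ⟨g' ^ N, by rw [map_pow, ← IsScalarTower.algebraMap_apply R R' L]⟩
  have hmonoS : ∀ N M x, N ≤ M → S N x → S M x := fun N M x hNM ⟨a, ha⟩ => by
    obtain ⟨b, hb⟩ := hGr (M - N)
    exact ⟨b * a, by rw [map_mul, ha, hb, ← mul_assoc, ← pow_add, Nat.sub_add_cancel hNM]⟩
  have hgen : ∀ x, ∃ N, S N x := fun x => by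
    obtain ⟨z, ⟨_, m, rfl⟩, hz⟩ := IsLocalization.exists_mk'_eq (Submonoid.powers g') (d (algebraMap R' L x))
    refine ⟨m, z, ?_⟩
    rw [← hz, show G ^ m = algebraMap R' L (g' ^ m) by
      rw [map_pow, ← IsScalarTower.algebraMap_apply R R' L], mul_comm]
    exact (IsLocalization.mk'_spec L z _).symm
  choose N₀ hN₀ using hgen
  obtain ⟨t, ht⟩ := ‹Algebra.FiniteType R R'›.out
  let N := t.sup N₀
  have hall : ∀ x, S N x := fun x => by
    have hx : x ∈ Algebra.adjoin R (t : Set R') := ht ▸ Algebra.mem_top
    induction hx using Algebra.adjoin_induction with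
    | mem x hx => exact hmonoS _ _ x (Finset.le_sup hx) (hN₀ x)
    | algebraMap r =>
      obtain ⟨b, hb⟩ := hGr N
      refine ⟨b * algebraMap R R' (D r), ?_⟩
      rw [map_mul, hb, ← IsScalarTower.algebraMap_apply, ← IsScalarTower.algebraMap_apply, hdr]
    | add a b _ _ ha hb =>
      obtain ⟨u, hu⟩ := ha
      obtain ⟨v, hv⟩ := hb
      exact ⟨u + v, by simp only [map_add, hd1, mul_add, hu, hv]⟩
    | mul a b _ _ ha hb =>
      obtain ⟨u, hu⟩ := ha
      obtain ⟨v, hv⟩ := hb
      exact ⟨a * v + b * u, by rw [map_add, map_mul, map_mul, hu, hv, map_mul, hd2]; ring⟩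
  choose D₀ hD₀ using hall
  let f : R' →+ R' :=
    { toFun := D₀
      map_zero' := hj (by rw [hD₀, map_zero]; simp [d])
      map_add' := fun a b => hj (by rw [hD₀, map_add, map_add, hD₀, hD₀, hd1, mul_add]) }
  refine ⟨N, Derivation.mk' f.toIntLinearMap fun a b => ?_, fun r => ?_⟩
  · show D₀ (a * b) = a • D₀ b + b • D₀ a
    apply hj
    rw [hD₀, map_add, smul_eq_mul, smul_eq_mul, map_mul, map_mul, map_mul, hD₀, hD₀, hd2]
    ring
  · show D₀ (algebraMap R R' r) = _
    apply hj
    rw [hD₀, ← IsScalarTower.algebraMap_apply, hdr, ← IsScalarTower.algebraMap_apply, map_mul, map_pow]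

end Groth.Agent.S2133
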