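import Groth.Statements.S2134
import Mathlib
-- import your own Groth.Agent.* helpers here

set_option autoImplicit false
universe u
open CAlg

namespace Groth.Agent.S2134

/-- Let `K/k` be a field extension and `(K_α)` a nonempty family of intermediate fields, directed
downwards, with intersection `k`. For a `K`-subspace `V` of `K^n` (`n ≥ 1`), `V` contains a nonzero
vector with all coordinates in `k` if and only if for every `α` it contains a nonzero vector with
all coordinates in `K_α`. -/
theorem result {k K : Type u} [Field k] [Field K] [Algebra k K] {ι : Type u} [Nonempty ι]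
    (F : ι → IntermediateField k K) (hdir : ∀ a b : ι, ∃ c, F c ≤ F a ⊓ F b) (hinf : ⨅ a, F a = ⊥) (n : ℕ) (hn : 1 ≤ n)
    (V : Submodule K (Fin n → K)) :
    (∃ v ∈ V, v ≠ 0 ∧ ∀ i, v i ∈ Set.range (algebraMap k K)) ↔
      ∀ a, ∃ v ∈ V, v ≠ 0 ∧ ∀ i, v i ∈ F a := by
  classical
  constructor
  · rintro ⟨v, hv, hv0, hk⟩ a
    exact ⟨v, hv, hv0, fun i => by obtain ⟨c, hc⟩ := hk i; exact hc ▸ (F a).algebraMap_mem c⟩
  intro h
  let W : ι → Submodule K (Fin n → K) := fun a =>
    Submodule.span K {v | v ∈ V ∧ ∀ i, v i ∈ F a}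
  have hmono : ∀ a b, F a ≤ F b → W a ≤ W b := fun a b hab =>
    Submodule.span_mono fun v hv => ⟨hv.1, fun i => hab (hv.2 i)⟩
  obtain ⟨a₀, ha₀⟩ : ∃ a₀, ∀ b, W b ≤ W a₀ → W a₀ ≤ W b := by
    obtain ⟨m, ⟨a₀, rfl⟩, hm⟩ := wellFounded_lt.has_min (Set.range W) (Set.range_nonempty W)
    exact ⟨a₀, fun b hb => le_of_eq (eq_of_le_of_not_lt hb (hm _ ⟨b, rfl⟩)).symm⟩
  have hWV : ∀ a, W a ≤ V := fun a => Submodule.span_le.mpr fun v hv => hv.1
  obtain ⟨v₀, hv₀, hne, hv₀F⟩ := h a₀
  have hex : ∃ N, ∃ v ∈ W a₀, v ≠ 0 ∧ (Finset.univ.filter fun i => v i ≠ 0).card = N :=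
    ⟨_, v₀, Submodule.subset_span ⟨hv₀, hv₀F⟩, hne, rfl⟩
  obtain ⟨v, hv, hv0, hN⟩ := Nat.find_spec hex
  obtain ⟨i₀, hi₀⟩ : ∃ i, v i ≠ 0 := Function.ne_iff.mp hv0
  let w := (v i₀)⁻¹ • v
  have hw : w ∈ W a₀ := Submodule.smul_mem _ _ hv
  have hw1 : w i₀ = 1 := by simp [w, hi₀]
  have huniq : ∀ u ∈ W a₀, u i₀ = 1 → (∀ i, v i = 0 → u i = 0) → u = w := by
    intro u hu hu1 hus
    by_contra hne'
    have hlt : (Finset.univ.filter fun i => (u - w) i ≠ 0).card <
        (Finset.univ.filter fun i => v i ≠ 0).card := by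
      refine Finset.card_lt_card ⟨fun i hi => ?_, fun hsub => ?_⟩
      · simp only [Finset.mem_filter, Finset.mem_univ, true_and] at hi ⊢
        exact fun hvi => hi (by simp [w, hvi, hus i hvi])
      · have := hsub (Finset.mem_filter.mpr ⟨Finset.mem_univ i₀, hi₀⟩)
        simp [hu1, hw1] at this
    exact Nat.find_min hex (hN ▸ hlt) ⟨u - w, sub_mem hu hw, sub_ne_zero.mpr hne', rfl⟩
  have hmem : ∀ b, F b ≤ F a₀ → ∀ i, w i ∈ F b := by
    intro b hb
    obtain ⟨r, hr⟩ := LinearMap.exists_leftInverse_of_injective (Algebra.linearMap (F b) K)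
      (LinearMap.ker_eq_bot.mpr (algebraMap (F b) K).injective)
    have hr1 : r 1 = 1 := by
      have := LinearMap.congr_fun hr 1
      simpa using this
    let R : (Fin n → K) →+ (Fin n → K) :=
      { toFun := fun u i => (r (u i) : K)
        map_zero' := by ext; simp
        map_add' := fun x y => by ext; simp }
    have hRW : ∀ u ∈ W b, ∀ c : K, R (c • u) ∈ W b := by
      intro u hu
      induction hu using Submodule.span_induction with
      | mem u hu =>
        intro c
        have : R (c • u) = (r c : K) • u := by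
          ext i
          show (r (c * u i) : K) = (r c : K) * u i
          rw [mul_comm c (u i), show u i * c = (⟨u i, hu.2 i⟩ : F b) • c from rfl, map_smul]
          simp [mul_comm]
        rw [this]
        exact Submodule.smul_mem _ _ (Submodule.subset_span hu)
      | zero => intro c; rw [smul_zero, map_zero]; exact zero_mem _
      | add x y _ _ hx hy => intro c; rw [smul_add, map_add]; exact add_mem (hx c) (hy c)
      | smul d x _ hx => intro c; rw [smul_smul]; exact hx _
    have hwb : w ∈ W b := ha₀ b (hmono _ _ hb) hw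
    have hRw : R w ∈ W a₀ := hmono _ _ hb (by simpa using hRW w hwb 1)
    have := huniq _ hRw (show ((r (w i₀) : F b) : K) = 1 by rw [hw1, hr1]; rfl)
      (fun i hi => show ((r (w i) : F b) : K) = 0 by simp [w, hi])
    exact fun i => (congrFun this i) ▸ (r (w i)).2
  refine ⟨w, hWV a₀ hw, fun h0 => by simp [h0] at hw1, fun i => ?_⟩
  have : w i ∈ (⨅ a, F a) := by
    change w i ∈ ((⨅ a, F a : IntermediateField k K) : Set K)
    rw [IntermediateField.coe_iInf, Set.mem_iInter]
    intro a
    obtain ⟨c, hc⟩ := hdir a a₀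
    exact (hc.trans inf_le_left) (hmem c (hc.trans inf_le_right) i)
  rw [hinf] at this
  exact IntermediateField.mem_bot.mp this

end Groth.Agent.S2134
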