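import Groth.Statements.S6278
import Mathlib
-- import your own Groth.Agent.* helpers here

set_option autoImplicit false
universe u
open CAlg

namespace Groth.Agent.S6278

theorem normal_isIntegrallyClosedIn {R : Type u} [CommRing R]
    (hR : ∀ (p : Ideal R) [p.IsPrime], IsDomain (Localization.AtPrime p) ∧ IsIntegrallyClosed (Localization.AtPrime p)) :
    IsIntegrallyClosedIn R (FractionRing R) := by
  rw [isIntegrallyClosedIn_iff]
  refine ⟨IsFractionRing.injective R _, fun {x} hx => ?_⟩
  obtain ⟨⟨a, s⟩, rfl⟩ := IsLocalization.mk'_surjective (nonZeroDivisors R) x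
  let J : Ideal R := Submodule.comap (LinearMap.mulRight R a) (Ideal.span {(s : R)})
  dsimp only at hx ⊢
  suffices h : J = ⊤ by
    have h1 : (1 : R) ∈ J := h ▸ Submodule.mem_top
    simp only [J, Submodule.mem_comap, LinearMap.mulRight_apply, one_mul, Ideal.mem_span_singleton'] at h1
    obtain ⟨y, hy⟩ := h1
    exact ⟨y, by rw [IsLocalization.eq_mk'_iff_mul_eq, ← map_mul, hy]⟩
  by_contra hne
  obtain ⟨p, hp, hJp⟩ := Ideal.exists_le_maximal J hne
  have := hp.isPrime
  let A := Localization.AtPrime p
  have : IsDomain A := (hR p).1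
  have : IsIntegrallyClosed A := (hR p).2
  let K := FractionRing A
  have hunit : ∀ t : nonZeroDivisors R, IsUnit (algebraMap R K t) := by
    intro t
    refine isUnit_iff_ne_zero.mpr fun h0 => ?_
    rw [IsScalarTower.algebraMap_apply R A K, map_eq_zero_iff _ (IsFractionRing.injective A K)] at h0
    obtain ⟨c, hc⟩ := (IsLocalization.map_eq_zero_iff p.primeCompl A _).mp h0
    exact c.2 (by rw [mem_nonZeroDivisors_iff_right.mp t.2 c hc]; exact p.zero_mem)
  let φ : FractionRing R →ₐ[R] K := IsLocalization.liftAlgHom (f := Algebra.ofId R K) hunit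
  obtain ⟨b, hb⟩ := IsIntegrallyClosed.isIntegral_iff.mp (show IsIntegral A (φ _) from (hx.map φ).tower_top)
  obtain ⟨⟨b', t⟩, rfl⟩ := IsLocalization.mk'_surjective p.primeCompl b
  have h1 : φ (IsLocalization.mk' (FractionRing R) a s) * algebraMap R K s = algebraMap R K a := by
    rw [← φ.commutes, ← map_mul, IsLocalization.mk'_spec, φ.commutes]
  rw [← hb, IsScalarTower.algebraMap_apply R A K, IsScalarTower.algebraMap_apply R A K, ← map_mul] at h1
  have h2 := IsFractionRing.injective A K h1
  rw [← IsLocalization.mk'_one (M := p.primeCompl) A (s : R), ← IsLocalization.mk'_mul, ← IsLocalization.mk'_one (M := p.primeCompl) A a,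
    IsLocalization.eq] at h2
  obtain ⟨c, hc⟩ := h2
  refine (mul_mem c.2 t.2 : (c : R) * t ∈ p.primeCompl) (hJp ?_)
  simp only [J, Submodule.mem_comap, LinearMap.mulRight_apply, Ideal.mem_span_singleton']
  refine ⟨(c : R) * b', ?_⟩
  simp only [Submonoid.coe_one, one_mul, mul_one, Submonoid.coe_mul] at hc
  linear_combination hc

/-- A normal ring R (all localizations at primes are integrally closed domains) is integrally closed in
its total ring of fractions. -/
theorem result (R : Type u) [CommRing R] (hR : EGA4.IsNormalRing R) : IsIntegrallyClosedIn R (FractionRing R) := by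
  exact normal_isIntegrallyClosedIn hR

end Groth.Agent.S6278
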