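import Groth.Statements.S6294
import Mathlib
-- import your own Groth.Agent.* helpers here

set_option autoImplicit false
universe u
open CAlg

namespace Groth.Agent.S6294

/-- Let R be a ring with finitely many minimal primes q₁, …, q_t, and assume that the zerodivisors of R
are precisely the elements of q₁ ∪ … ∪ q_t. Then Q(R), the total ring of fractions of R, equals
R_{q₁} × … × R_{q_t}: the diagonal map R → ∏ R_{q_i} is a localization of R at its non-zerodivisors. -/
theorem result {R : Type u} [CommRing R] {ι : Type} [Fintype ι] (q : ι → Ideal R) [∀ i, (q i).IsPrime] (hinj : Function.Injective q) (hmin : ∀ P : Ideal R, P ∈ minimalPrimes R ↔ P ∈ Set.range q) (hzd : ∀ x : R, x ∈ nonZeroDivisors R ↔ ∀ i, x ∉ q i) : IsLocalization (nonZeroDivisors R) (∀ i, Localization.AtPrime (q i)) := by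
  classical
  have avoid : ∀ J : Ideal R, (∀ i, ¬ J ≤ q i) → ∃ c ∈ J, c ∈ nonZeroDivisors R := by
    intro J hJ
    by_contra hne
    have hsub : (J : Set R) ⊆ ⋃ i ∈ (↑(Finset.univ : Finset ι) : Set ι), (q i : Set R) := by
      intro c hc
      by_contra hcu
      refine hne ⟨c, hc, (hzd c).mpr fun i hi => hcu ?_⟩
      exact Set.mem_biUnion (Finset.mem_univ i) hi
    rcases isEmpty_or_nonempty ι with hι | hι
    · have := hsub J.zero_mem; simp at this
    · obtain ⟨i, -, hi⟩ := (Ideal.subset_union_prime (Classical.arbitrary ι) (Classical.arbitrary ι) (fun i _ _ _ => inferInstance)).mp hsub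
      exact hJ i hi
  have hmin' : ∀ i j, q i ≤ q j → i = j := fun i j h => hinj <|
    le_antisymm h (((hmin (q j)).mpr ⟨j, rfl⟩).2 ⟨inferInstance, bot_le⟩ h)
  have hnil : ∀ (j : ι) (a : R), a ∈ q j → ∃ N : ℕ, algebraMap R (Localization.AtPrime (q j)) (a ^ N) = 0 := by
    intro j a ha
    have : IsNilpotent (algebraMap R (Localization.AtPrime (q j)) a) := by
      rw [← mem_nilradical, nilradical_eq_sInf, Submodule.mem_sInf]
      intro (P : Ideal (Localization.AtPrime (q j))) (hP : P.IsPrime)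
      have h1 : P.comap (algebraMap R (Localization.AtPrime (q j))) ≤ q j := by
        have h2 := Ideal.comap_mono (f := algebraMap R (Localization.AtPrime (q j))) (IsLocalRing.le_maximalIdeal hP.ne_top)
        exact h2.trans (IsLocalization.AtPrime.comap_maximalIdeal (Localization.AtPrime (q j)) (q j)).le
      exact ((hmin (q j)).mpr ⟨j, rfl⟩).2 ⟨inferInstance, bot_le⟩ h1 ha
    obtain ⟨N, hN⟩ := this
    exact ⟨N, by rw [map_pow, hN]⟩
  have hu : ∀ i, ∃ u : R, u ∉ q i ∧ ∀ j, j ≠ i → algebraMap R (Localization.AtPrime (q j)) u = 0 := by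
    intro i
    have h : ∀ j, j ≠ i → ∃ a : R, a ∉ q i ∧ algebraMap R (Localization.AtPrime (q j)) a = 0 := by
      intro j hj
      obtain ⟨a, ha, ha'⟩ := SetLike.not_le_iff_exists.mp (fun h => hj (hmin' j i h))
      obtain ⟨N, hN⟩ := hnil j a ha
      exact ⟨a ^ N, fun h => ha' (Ideal.IsPrime.mem_of_pow_mem inferInstance _ h), hN⟩
    choose a ha ha0 using h
    refine ⟨∏ j : {j // j ≠ i}, a j.1 j.2, fun h => ?_, fun j hj => ?_⟩
    · obtain ⟨j, -, hj⟩ := Ideal.IsPrime.prod_mem_iff.mp h
      exact ha _ _ hj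
    · rw [map_prod]
      exact Finset.prod_eq_zero (Finset.mem_univ (⟨j, hj⟩ : {j // j ≠ i})) (ha0 j hj)
  choose u hu hu0 using hu
  have hmem : ∀ i j, j ≠ i → u i ∈ q j := by
    intro i j hj
    obtain ⟨c, hc⟩ := (IsLocalization.map_eq_zero_iff (q j).primeCompl _ _).mp (hu0 i j hj)
    exact (Ideal.IsPrime.mem_or_mem inferInstance (hc ▸ (q j).zero_mem)).resolve_left c.2
  rw [isLocalization_iff]
  refine ⟨fun ⟨y, hy⟩ => Pi.isUnit_iff.mpr fun i => ?_, fun z => ?_, fun {x y} hxy => ?_⟩
  · exact IsLocalization.map_units (Localization.AtPrime (q i)) (⟨y, (hzd y).mp hy i⟩ : (q i).primeCompl)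
  · choose as hz using fun i => IsLocalization.surj (q i).primeCompl (z i)
    have hd : ∑ i, u i * ((as i).2 : R) ∈ nonZeroDivisors R := (hzd _).mpr fun j hj => by
      rw [Fintype.sum_eq_add_sum_compl j] at hj
      have h2 : ∑ i ∈ ({j}ᶜ : Finset ι), u i * ((as i).2 : R) ∈ q j :=
        Submodule.sum_mem _ fun i hi => Ideal.mul_mem_right _ _ (hmem i j (by simpa [eq_comm] using hi))
      rw [Submodule.add_mem_iff_left _ h2] at hj
      exact (Ideal.IsPrime.mem_or_mem inferInstance hj).elim (hu j) (as j).2.2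
    refine ⟨(∑ i, u i * (as i).1, ⟨_, hd⟩), ?_⟩
    funext j
    rw [Pi.mul_apply, Pi.algebraMap_apply, Pi.algebraMap_apply]
    simp only [map_sum, map_mul]
    rw [Fintype.sum_eq_single j (fun i hi => by rw [hu0 i j (Ne.symm hi), zero_mul]),
      Fintype.sum_eq_single j (fun i hi => by rw [hu0 i j (Ne.symm hi), zero_mul]), ← hz j]
    ring
  · have hann : ∀ i, ¬ LinearMap.ker (LinearMap.mulRight R (x - y)) ≤ q i := by
      intro i hle
      obtain ⟨c, hc⟩ := (IsLocalization.eq_iff_exists (q i).primeCompl _).mp (congrFun hxy i)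
      exact c.2 (hle (by simp [mul_sub, hc]))
    obtain ⟨c, hc, hcn⟩ := avoid _ hann
    refine ⟨⟨c, hcn⟩, ?_⟩
    rw [LinearMap.mem_ker, LinearMap.mulRight_apply, mul_sub, sub_eq_zero] at hc
    exact hc

end Groth.Agent.S6294
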