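import Groth.Statements.S2139
import Mathlib
import Groth.Agent.S6278
import Groth.Agent.S6294
-- import your own Groth.Agent.* helpers here

set_option autoImplicit false
universe u
open CAlg

namespace Groth.Agent.S2139

section
open Polynomial

variable {R : Type u} [CommRing R] {ι : Type} [Fintype ι] [DecidableEq ι] {B : ι → Type u} [∀ i, CommRing (B i)] [∀ i, Algebra R (B i)]

theorem isIntegral_single (i : ι) {X : B i} (hX : IsIntegral R X) : IsIntegral R (Pi.single i X : ∀ i, B i) := by
  obtain ⟨P, hP, hP0⟩ := hX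
  refine ⟨Polynomial.X * P, monic_X.mul hP, funext fun j => ?_⟩
  rw [← aeval_def, Polynomial.aeval_pi_apply, Pi.zero_apply]
  simp only [map_mul, aeval_X]
  by_cases hji : j = i
  · subst hji
    rw [Pi.single_eq_same, aeval_def, hP0, mul_zero]
  · rw [Pi.single_eq_of_ne hji, zero_mul]

end

/-- Let `R` be a reduced ring with finitely many minimal primes. Then every localization of `R` at a
prime is an integrally closed domain if and only if `R` is integrally closed in its total ring of
fractions. -/
theorem result {R : Type u} [CommRing R] [IsReduced R] (hfin : (minimalPrimes R).Finite) :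
    (∀ (p : Ideal R) [p.IsPrime], IsDomain (Localization.AtPrime p) ∧ IsIntegrallyClosed (Localization.AtPrime p)) ↔
      IsIntegrallyClosedIn R (FractionRing R) := by
  classical
  refine ⟨fun h => Groth.Agent.S6278.normal_isIntegrallyClosedIn h, fun hic => ?_⟩
  have := hfin.fintype
  let n := Fintype.card (minimalPrimes R)
  let e : Fin n ≃ minimalPrimes R := (Fintype.equivFin _).symm
  let q : Fin n → Ideal R := fun i => (e i).1
  have hqp : ∀ i, (q i).IsPrime := fun i => (e i).2.1.1
  have hqm : ∀ i, q i ∈ minimalPrimes R := fun i => (e i).2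
  have hinj : Function.Injective q := fun i j h => e.injective (Subtype.ext h)
  have hmin : ∀ P : Ideal R, P ∈ minimalPrimes R ↔ P ∈ Set.range q :=
    fun P => ⟨fun h => ⟨e.symm ⟨P, h⟩, by simp [q]⟩, by rintro ⟨i, rfl⟩; exact hqm i⟩
  have hzero : ∀ y : R, (∀ i, y ∈ q i) → y = 0 := by
    intro y hy
    rw [← Ideal.mem_bot, ← Ideal.zero_eq_bot, ← nilradical_eq_zero R, nilradical_eq_sInf, Submodule.mem_sInf]
    intro (P : Ideal R) (hP : P.IsPrime)
    obtain ⟨Q, hQ, hQP⟩ := Ideal.exists_minimalPrimes_le (I := (⊥ : Ideal R)) (J := P) bot_le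
    obtain ⟨i, rfl⟩ := (hmin Q).mp hQ
    exact hQP (hy i)
  have hzd : ∀ x : R, x ∈ nonZeroDivisors R ↔ ∀ i, x ∉ q i := by
    refine fun x => ⟨fun hx i => fun hxi => Set.disjoint_left.mp (Ideal.disjoint_nonZeroDivisors_of_mem_minimalPrimes (hqm i)) hxi hx,
      fun hx => mem_nonZeroDivisors_iff_right.mpr fun y hy => hzero y fun i => ?_⟩
    exact ((hqp i).mem_or_mem (hy ▸ (q i).zero_mem)).resolve_right (hx i)
  let B := fun i => Localization.AtPrime (q i)
  have hloc : IsLocalization (nonZeroDivisors R) (∀ i, B i) := Groth.Agent.S6294.result q hinj hmin hzd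
  let eqv : FractionRing R ≃ₐ[R] (∀ i, B i) := IsLocalization.algEquiv (nonZeroDivisors R) _ _
  have key : ∀ z : ∀ i, B i, IsIntegral R z → ∃ r : R, ∀ i, algebraMap R (B i) r = z i := by
    intro z hz
    obtain ⟨r, hr⟩ := (isIntegrallyClosedIn_iff.mp hic).2 (hz.map eqv.symm.toAlgHom)
    refine ⟨r, fun i => ?_⟩
    have := congrArg eqv hr
    rw [AlgEquiv.commutes, AlgEquiv.toAlgHom_apply, AlgEquiv.apply_symm_apply] at this
    exact congrFun this i
  intro p hp
  obtain ⟨Q, hQ, hQp⟩ := Ideal.exists_minimalPrimes_le (I := (⊥ : Ideal R)) (J := p) bot_le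
  obtain ⟨i0, rfl⟩ := (hmin Q).mp hQ
  have huniq : ∀ i, q i ≤ p → i = i0 := by
    intro i hi
    by_contra hne
    obtain ⟨r, hr⟩ := key (Pi.single i0 1) (isIntegral_single i0 isIntegral_one)
    have h0 : r ∉ q i0 := fun hmem => by
      have := hr i0
      rw [Pi.single_eq_same] at this
      have h1 := (IsLocalization.AtPrime.isUnit_to_map_iff (B i0) (q i0) r).mp (this ▸ isUnit_one)
      exact h1 hmem
    have h1 : (1 : R) - r ∉ q i := fun hmem => by
      have := hr i
      rw [Pi.single_eq_of_ne hne] at this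
      have h2 := (IsLocalization.AtPrime.isUnit_to_map_iff (B i) (q i) (1 - r)).mp (by rw [map_sub, map_one, this, sub_zero]; exact isUnit_one)
      exact h2 hmem
    have hidem : ∀ j, r * (1 - r) ∈ q j := by
      intro j
      have h3 : algebraMap R (B j) (r * (1 - r)) = 0 := by
        rw [map_mul, map_sub, map_one, hr j]
        by_cases hj : j = i0
        · subst hj; rw [Pi.single_eq_same, sub_self, mul_zero]
        · rw [Pi.single_eq_of_ne hj, zero_mul]
      obtain ⟨c, hc⟩ := (IsLocalization.map_eq_zero_iff (q j).primeCompl _ _).mp h3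
      exact ((hqp j).mem_or_mem (hc ▸ (q j).zero_mem)).resolve_left c.2
    have hri : r ∈ p := hi (((hqp i).mem_or_mem (hidem i)).resolve_right h1)
    have hri0 : 1 - r ∈ p := hQp (((hqp i0).mem_or_mem (hidem i0)).resolve_left h0)
    exact hp.ne_top ((Ideal.eq_top_iff_one _).mpr (by simpa using add_mem hri hri0))
  let A := Localization.AtPrime p
  have hle : p.primeCompl ≤ (q i0).primeCompl := fun x hx hxq => hx (hQp hxq)
  have hkill : ∀ a ∈ q i0, algebraMap R A a = 0 := by
    intro a ha
    have hex : ∀ i, i ≠ i0 → ∃ c ∈ q i, c ∉ p := fun i hi => SetLike.not_le_iff_exists.mp fun h => hi (huniq i h)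
    choose c hc hcp using hex
    refine (IsLocalization.map_eq_zero_iff p.primeCompl A a).mpr ⟨⟨∏ i : {i // i ≠ i0}, c i.1 i.2, fun h => ?_⟩, hzero _ fun i => ?_⟩
    · obtain ⟨i, -, hi⟩ := hp.prod_mem_iff.mp h
      exact hcp _ _ hi
    · by_cases hi : i = i0
      · subst hi; exact Ideal.mul_mem_left _ _ ha
      · exact Ideal.mul_mem_right _ _ (Ideal.prod_mem _ (Finset.mem_univ (⟨i, hi⟩ : {i // i ≠ i0})) (hc i hi))
  let ψ : A →+* B i0 := IsLocalization.map (B i0) (T := (q i0).primeCompl) (RingHom.id R) (show p.primeCompl ≤ (q i0).primeCompl.comap (RingHom.id R) from hle)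
  have hψ : Function.Injective ψ := by
    rw [injective_iff_map_eq_zero]
    intro z hz
    obtain ⟨⟨a, s⟩, rfl⟩ := IsLocalization.mk'_surjective p.primeCompl z
    simp only [ψ, IsLocalization.map_mk', RingHom.id_apply] at hz
    obtain ⟨c, hc⟩ := (IsLocalization.mk'_eq_zero_iff _ _).mp hz
    refine (IsLocalization.mk'_eq_zero_iff _ _).mpr ?_
    obtain ⟨d, hd⟩ := (IsLocalization.map_eq_zero_iff p.primeCompl A a).mp
      (hkill a (((hqp i0).mem_or_mem (hc ▸ (q i0).zero_mem)).resolve_left c.2))
    exact ⟨d, hd⟩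
  have : Ring.KrullDimLE 0 (B i0) := .of_isLocalization _ (hqm i0) _
  letI : Field (B i0) := Ring.KrullDimLE.isField_of_isReduced.toField
  have : IsDomain A := hψ.isDomain
  refine ⟨this, (isIntegrallyClosed_iff (FractionRing A)).mpr fun {x} hx => ?_⟩
  let L : FractionRing A →ₐ[R] B i0 :=
    { IsFractionRing.lift hψ with
      commutes' := fun r => by
        show IsFractionRing.lift hψ (algebraMap R (FractionRing A) r) = _
        rw [IsScalarTower.algebraMap_apply R A (FractionRing A), IsFractionRing.lift_algebraMap]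
        simp [ψ] }
  obtain ⟨m, hm⟩ := hx.exists_multiple_integral_of_isLocalization p.primeCompl x
  obtain ⟨r, hr⟩ := key (Pi.single i0 (L (m • x))) (isIntegral_single i0 (hm.map L))
  refine ⟨IsLocalization.mk' A r m, L.toRingHom.injective ?_⟩
  show IsFractionRing.lift hψ _ = L x
  have hmx : L (m • x) = algebraMap R (B i0) m * L x := by
    rw [Submonoid.smul_def, map_smul, Algebra.smul_def]
  have hmu : algebraMap R (B i0) m ≠ 0 := (IsLocalization.map_units (B i0) ⟨(m : R), hle m.2⟩).ne_zero
  refine mul_left_cancel₀ hmu ?_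
  rw [← hmx, IsFractionRing.lift_algebraMap]
  have := hr i0
  rw [Pi.single_eq_same] at this
  rw [← this]
  simp only [ψ, IsLocalization.map_mk', RingHom.id_apply]
  exact IsLocalization.mk'_spec' (B i0) r (⟨(m : R), hle m.2⟩ : (q i0).primeCompl)

end Groth.Agent.S2139
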