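import Groth.Statements.S2140
import Mathlib
-- import your own Groth.Agent.* helpers here

set_option autoImplicit false
universe u
open CAlg

namespace Groth.Agent.S2140

/-- Let `R → S` be an injective ring map of finite type between domains. Then there are nonzero `f ∈ R`
and `g ∈ S` such that `S_{fg}` is a finitely presented `R_f`-algebra. -/
theorem result {R S : Type u} [CommRing R] [IsDomain R] [CommRing S] [IsDomain S]
    [Algebra R S] [Algebra.FiniteType R S] (hinj : Function.Injective (algebraMap R S)) :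
    ∃ (f : R) (g : S), f ≠ 0 ∧ g ≠ 0 ∧
      ∀ (Rf Sfg : Type u) [CommRing Rf] [CommRing Sfg] [Algebra R Rf] [IsLocalization.Away f Rf]
        [Algebra S Sfg] [IsLocalization.Away (algebraMap R S f * g) Sfg] [Algebra Rf Sfg] [Algebra R Sfg]
        [IsScalarTower R S Sfg] [IsScalarTower R Rf Sfg], Algebra.FinitePresentation Rf Sfg := by
  classical
  have : FaithfulSMul R S := (faithfulSMul_iff_algebraMap_injective R S).mpr hinj
  obtain ⟨N, x, hx⟩ : ∃ (N : ℕ) (x : Fin N → S), Algebra.adjoin R (Set.range x) = ⊤ := by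
    obtain ⟨s, hs⟩ := Algebra.FiniteType.out (R := R) (A := S)
    refine ⟨s.card, fun i => (s.equivFin.symm i : S), ?_⟩
    rw [← hs]
    congr 1
    ext z
    simp only [Set.mem_range, Finset.mem_coe]
    exact ⟨fun ⟨i, hi⟩ => hi ▸ (s.equivFin.symm i).2, fun hz => ⟨s.equivFin ⟨z, hz⟩, by simp⟩⟩
  have : Algebra.IsAlgebraic (Algebra.adjoin R (Set.range x)) S :=
    ⟨fun z => isAlgebraic_algebraMap (⟨z, hx ▸ Algebra.mem_top⟩ : Algebra.adjoin R (Set.range x))⟩
  obtain ⟨t, hts, ht⟩ := exists_isTranscendenceBasis_subset (R := R) (Set.range x)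
  let T := Algebra.adjoin R (Set.range ((↑) : t → S))
  have : Finite t := ((Set.finite_range x).subset hts).to_subtype
  have hTfp : Algebra.FinitePresentation R T :=
    Algebra.FinitePresentation.equiv ht.1.aevalEquiv
  have : Algebra.IsAlgebraic T S := ht.isAlgebraic
  have hTinj : Function.Injective (algebraMap T S) := Subtype.val_injective
  -- algebraic equations for the generators
  have heq : ∀ k, ∃ (n : ℕ) (c : T) (d : ℕ → T), c ≠ 0 ∧ c • x k ^ n = ∑ i ∈ Finset.range n, d i • x k ^ i := by
    intro k
    obtain ⟨P, hP, hP0⟩ := Algebra.IsAlgebraic.isAlgebraic (R := T) (x k)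
    refine ⟨P.natDegree, P.leadingCoeff, fun i => -P.coeff i, Polynomial.leadingCoeff_ne_zero.mpr hP, ?_⟩
    rw [Polynomial.aeval_eq_sum_range, Finset.sum_range_succ] at hP0
    simp only [neg_smul, Finset.sum_neg_distrib]
    exact eq_neg_of_add_eq_zero_right hP0
  choose n c d hc hcx using heq
  let mono : (∀ k, Fin (n k)) → S := fun e => ∏ k, x k ^ (e k : ℕ)
  obtain ⟨B, hBli, hBmax⟩ := exists_maximal_linearIndepOn T mono
  have hmax : ∀ e, ∃ a : T, a ≠ 0 ∧ a • mono e ∈ Submodule.span T (mono '' B) := by
    intro e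
    by_cases he : e ∈ B
    · exact ⟨1, one_ne_zero, by rw [one_smul]; exact Submodule.subset_span ⟨e, he, rfl⟩⟩
    · exact hBmax e he
  choose a ha hamem using hmax
  let g : T := (∏ k, c k) * ∏ e, a e
  have hg : g ≠ 0 := mul_ne_zero (Finset.prod_ne_zero_iff.mpr fun k _ => hc k) (Finset.prod_ne_zero_iff.mpr fun e _ => ha e)
  have hgS : (algebraMap T S g) ≠ 0 := fun h => hg (hTinj (h.trans (map_zero _).symm))
  refine ⟨1, algebraMap T S g, one_ne_zero, hgS, ?_⟩
  intro Rf Sfg _ _ _ _ _ _ _ _ _ _
  have : IsLocalization.Away (algebraMap T S g) Sfg := by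
    have h := ‹IsLocalization.Away (algebraMap R S 1 * algebraMap T S g) Sfg›
    rwa [map_one, one_mul] at h
  let Tg := Localization.Away g
  haveI : IsScalarTower R T Sfg := IsScalarTower.of_algebraMap_eq fun r => by
    show algebraMap R Sfg r = algebraMap S Sfg (algebraMap T S (algebraMap R T r))
    rw [← IsScalarTower.algebraMap_apply R T S, ← IsScalarTower.algebraMap_apply R S Sfg]
  have hu : IsUnit (algebraMap T Sfg g) := IsLocalization.Away.algebraMap_isUnit (algebraMap T S g)
  letI algTg : Algebra Tg Sfg := (IsLocalization.Away.lift g hu).toAlgebra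
  haveI : IsScalarTower T Tg Sfg := IsScalarTower.of_algebraMap_eq fun r => (IsLocalization.Away.lift_eq g hu r).symm
  let ι : S →ₗ[T] Sfg := (IsScalarTower.toAlgHom T S Sfg).toLinearMap
  let W : Submodule Tg Sfg := Submodule.span Tg (ι '' (mono '' B))
  have hspanW : ∀ z ∈ Submodule.span T (mono '' B), ι z ∈ W := fun z hz => by
    have := Submodule.mem_map_of_mem (f := ι) hz
    rw [Submodule.map_span] at this
    exact Submodule.span_le_restrictScalars T Tg _ this
  have hdvdu : ∀ r : T, r ∣ g → IsUnit (algebraMap T Tg r) := fun r hr =>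
    isUnit_of_dvd_unit (map_dvd _ hr) (IsLocalization.Away.algebraMap_isUnit g)
  have hcancel : ∀ (r : T) (z : Sfg), r ∣ g → r • z ∈ W → z ∈ W := by
    intro r z hr hz
    obtain ⟨v, hv⟩ := hdvdu r hr
    rw [← algebraMap_smul Tg r, ← hv] at hz
    have := W.smul_mem (↑v⁻¹ : Tg) hz
    rwa [smul_smul, Units.inv_mul, one_smul] at this
  have hmonoW : ∀ e, ι (mono e) ∈ W := fun e => hcancel (a e) _
    ((Finset.dvd_prod_of_mem a (Finset.mem_univ e)).mul_left _) (by rw [← map_smul]; exact hspanW _ (hamem e))
  have hstep : ∀ k, ∀ w ∈ W, ι (x k) * w ∈ W := by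
    intro k
    have hgen : ∀ e, ι (x k * mono e) ∈ W := by
      intro e
      have hsplit : ∀ e' : ∀ k, Fin (n k), mono e' = x k ^ (e' k : ℕ) * ∏ l ∈ Finset.univ.erase k, x l ^ (e' l : ℕ) :=
        fun e' => (Finset.mul_prod_erase _ (fun l => x l ^ (e' l : ℕ)) (Finset.mem_univ k)).symm
      have hlow : ∀ i : Fin (n k), x k ^ (i : ℕ) * ∏ l ∈ Finset.univ.erase k, x l ^ (e l : ℕ) = mono (Function.update e k i) := by
        intro i
        rw [hsplit (Function.update e k i), Function.update_self]
        congr 1
        exact Finset.prod_congr rfl fun l hl => by rw [Function.update_of_ne (Finset.ne_of_mem_erase hl)]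
      by_cases hlt : (e k : ℕ) + 1 < n k
      · have := hmonoW (Function.update e k ⟨_, hlt⟩)
        rw [← hlow, pow_succ'] at this
        rw [hsplit e, ← mul_assoc]
        exact this
      · have hn : n k = (e k : ℕ) + 1 := by have := (e k).2; omega
        refine hcancel (c k) _ ((Finset.dvd_prod_of_mem c (Finset.mem_univ k)).mul_right _) ?_
        rw [← map_smul, hsplit e, ← mul_assoc, ← pow_succ', ← hn, ← smul_mul_assoc, hcx, Finset.sum_mul, map_sum]
        refine Submodule.sum_mem _ fun i hi => ?_
        rw [smul_mul_assoc, map_smul, ← algebraMap_smul Tg (d k i)]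
        refine W.smul_mem _ ?_
        rw [hlow ⟨i, Finset.mem_range.mp hi⟩]
        exact hmonoW _
    intro w hw
    induction hw using Submodule.span_induction with
    | mem z hz =>
      obtain ⟨-, ⟨e, -, rfl⟩, rfl⟩ := hz
      rw [show ι (x k) * ι (mono e) = ι (x k * mono e) from (map_mul (IsScalarTower.toAlgHom T S Sfg) _ _).symm]
      exact hgen e
    | zero => rw [mul_zero]; exact zero_mem _
    | add u v _ _ hu hv => rw [mul_add]; exact add_mem hu hv
    | smul r z _ hz => rw [mul_smul_comm]; exact W.smul_mem _ hz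
  have hone : (1 : Sfg) ∈ W := by
    have hn0 : ∀ k, 0 < n k := by
      intro k
      by_contra h
      have h0 : n k = 0 := by omega
      have := hcx k
      rw [h0, Finset.sum_range_zero, pow_zero, smul_eq_zero] at this
      exact this.elim (hc k) one_ne_zero
    have := hmonoW (fun k => ⟨0, hn0 k⟩)
    simpa [mono, ι] using this
  have hS : ∀ s : S, ∀ w ∈ W, ι s * w ∈ W := by
    intro s
    have hs : s ∈ Algebra.adjoin R (Set.range x) := hx ▸ Algebra.mem_top
    induction hs using Algebra.adjoin_induction with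
    | mem z hz => obtain ⟨k, rfl⟩ := hz; exact hstep k
    | algebraMap r =>
      intro w hw
      rw [show ι (algebraMap R S r) = algebraMap Tg Sfg (algebraMap T Tg (algebraMap R T r)) by
        rw [← IsScalarTower.algebraMap_apply T Tg Sfg, ← IsScalarTower.algebraMap_apply R T Sfg, IsScalarTower.algebraMap_apply R S Sfg]
        rfl, ← Algebra.smul_def]
      exact W.smul_mem _ hw
    | add u v _ _ hu hv => intro w hw; rw [map_add, add_mul]; exact add_mem (hu w hw) (hv w hw)
    | mul u v _ _ hu hv =>
      intro w hw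
      rw [show ι (u * v) = ι u * ι v from map_mul (IsScalarTower.toAlgHom T S Sfg) _ _, mul_assoc]
      exact hu _ (hv w hw)
  have hWtop : W = ⊤ := eq_top_iff.mpr fun z _ => by
    obtain ⟨⟨s, _, m, rfl⟩, hm⟩ := IsLocalization.surj (Submonoid.powers (algebraMap T S g)) z
    have h1 : (g ^ m) • z = ι s * 1 := by
      rw [mul_one, Algebra.smul_def, mul_comm, IsScalarTower.algebraMap_apply T S Sfg, map_pow]
      exact hm
    obtain ⟨v, hv⟩ := (IsLocalization.Away.algebraMap_isUnit (S := Tg) g).pow m
    have h2 : (v : Tg) • z ∈ W := by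
      rw [hv, ← map_pow, algebraMap_smul, h1]
      exact hS s 1 hone
    have := W.smul_mem (↑v⁻¹ : Tg) h2
    rwa [smul_smul, Units.inv_mul, one_smul] at this
  have hιinj : Function.Injective ι :=
    IsLocalization.injective Sfg (powers_le_nonZeroDivisors_of_noZeroDivisors hgS)
  have hli : LinearIndependent Tg (fun e : B => ι (mono e)) :=
    (hBli.map' ι (LinearMap.ker_eq_bot.mpr hιinj)).localization Tg (Submonoid.powers g)
  have hrange : Set.range (fun e : B => ι (mono e)) = ι '' (mono '' B) := by
    rw [Set.image_image, Set.image_eq_range]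
  let bas : Module.Basis B Tg Sfg := Module.Basis.mk hli (by rw [hrange]; exact hWtop.ge)
  have : Module.Free Tg Sfg := Module.Free.of_basis bas
  have : Module.Finite Tg Sfg := Module.Finite.of_basis bas
  have : Module.FinitePresentation Tg Sfg := Module.finitePresentation_of_projective Tg Sfg
  have : Algebra.FinitePresentation R Tg := Algebra.FinitePresentation.trans R T Tg
  haveI : IsScalarTower R Tg Sfg := IsScalarTower.of_algebraMap_eq fun r => by
    rw [IsScalarTower.algebraMap_apply R T Sfg, IsScalarTower.algebraMap_apply R T Tg, ← IsScalarTower.algebraMap_apply T Tg Sfg]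
  have : Algebra.FinitePresentation R Sfg := Algebra.FinitePresentation.trans R Tg Sfg
  have : Algebra.FiniteType R Rf := IsLocalization.finiteType_of_monoid_fg (Submonoid.powers (1 : R)) Rf
  exact Algebra.FinitePresentation.of_restrict_scalars_finitePresentation R Rf Sfg

end Groth.Agent.S2140
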