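import Groth.Statements.S2144
import Mathlib
import Groth.Agent.GrpdLib.FppfSourceDescent
-- import your own Groth.Agent.* helpers here

set_option autoImplicit false
universe u
open CAlg

namespace Groth.Agent.S2144

open scoped TensorProduct

/-- A finitely presented stage over `R` where finitely many relations `∑ aᵢ jᵢ = 1` hold. -/
lemma exists_stage_aux (R A A₀ C : Type u) [CommRing R] [CommRing A] [CommRing A₀] [CommRing C] [Algebra R C]
    [Algebra.FinitePresentation R C] [Algebra R A] [Algebra A₀ A] (ι₀ : A₀ →+* C) (e : C →ₐ[R] A)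
    (he₀ : ∀ x, e (ι₀ x) = algebraMap A₀ A x) (J : Ideal A₀) (hJ : J.map (algebraMap A₀ A) = ⊤) :
    ∃ (A₁ : Type u) (_ : CommRing A₁) (_ : Algebra R A₁) (ρ : A₀ →+* A₁) (ψ : A₁ →ₐ[R] A),
      Algebra.FinitePresentation R A₁ ∧ ψ.toRingHom.comp ρ = algebraMap A₀ A ∧ J.map ρ = ⊤ := by
  classical
  have h1 : (1 : A) ∈ Submodule.span A (algebraMap A₀ A '' (J : Set A₀)) := by
    rw [show Submodule.span A (algebraMap A₀ A '' (J : Set A₀)) = J.map (algebraMap A₀ A) from rfl, hJ]
    trivial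
  obtain ⟨n, a, g, hg⟩ := Submodule.mem_span_set'.mp h1
  choose j hjJ hj using fun i => (g i).2
  let ι : A₀ →+* MvPolynomial (Fin n) C := MvPolynomial.C.comp ι₀
  let rel : (MvPolynomial (Fin n) C) := ∑ i, MvPolynomial.X i * ι (j i) - 1
  let Φ : (MvPolynomial (Fin n) C) →ₐ[R] A :=
    { MvPolynomial.eval₂Hom e.toRingHom a with
      commutes' := fun r => by
        show MvPolynomial.eval₂Hom e.toRingHom a (MvPolynomial.C (algebraMap R C r)) = _
        rw [MvPolynomial.eval₂Hom_C]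
        exact e.commutes r }
  have hι : ∀ x, Φ (ι x) = algebraMap A₀ A x := fun x => by
    show MvPolynomial.eval₂Hom e.toRingHom a (MvPolynomial.C (ι₀ x)) = _
    rw [MvPolynomial.eval₂Hom_C]
    exact he₀ x
  have hrel : Φ rel = 0 := by
    have hX : ∀ i, Φ (MvPolynomial.X i) = a i := fun i => MvPolynomial.eval₂Hom_X' _ _ _
    simp only [rel, map_sub, map_sum, map_mul, map_one, hι, hj, hX]
    rw [← hg, sub_eq_zero]
    rfl
  have : Algebra.FinitePresentation R (MvPolynomial (Fin n) C) := Algebra.FinitePresentation.trans R C (MvPolynomial (Fin n) C)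
  refine ⟨(MvPolynomial (Fin n) C) ⧸ Ideal.span {rel}, inferInstance, inferInstance, (Ideal.Quotient.mk _).comp ι,
    Ideal.Quotient.liftₐ (Ideal.span {rel}) Φ (fun x hx => ?_),
    Algebra.FinitePresentation.quotient (Submodule.fg_span_singleton rel), RingHom.ext hι, ?_⟩
  · obtain ⟨c, rfl⟩ := Ideal.mem_span_singleton'.mp hx
    rw [map_mul, hrel, mul_zero]
  · rw [Ideal.eq_top_iff_one]
    have h2 : Ideal.Quotient.mk (Ideal.span {rel}) (∑ i, MvPolynomial.X i * ι (j i)) = 1 := by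
      rw [← map_one (Ideal.Quotient.mk (Ideal.span {rel})), Ideal.Quotient.eq]
      exact Ideal.mem_span_singleton_self rel
    rw [← h2, map_sum]
    refine Submodule.sum_mem _ fun i _ => ?_
    rw [map_mul]
    exact Ideal.mul_mem_left _ _ (Ideal.mem_map_of_mem ((Ideal.Quotient.mk _).comp ι) (hjJ i))

/-- The stage over `R ⊗ A₀`. -/
lemma exists_stage (R A A₀ : Type u) [CommRing R] [CommRing A] [CommRing A₀] [Algebra R A] [Algebra A₀ A]
    [Algebra.FinitePresentation ℤ A₀] (J : Ideal A₀) (hJ : J.map (algebraMap A₀ A) = ⊤) :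
    ∃ (A₁ : Type u) (_ : CommRing A₁) (_ : Algebra R A₁) (ρ : A₀ →+* A₁) (ψ : A₁ →ₐ[R] A),
      Algebra.FinitePresentation R A₁ ∧ ψ.toRingHom.comp ρ = algebraMap A₀ A ∧ J.map ρ = ⊤ :=
  exists_stage_aux R A A₀ (R ⊗[ℤ] A₀) (Algebra.TensorProduct.includeRight : A₀ →ₐ[ℤ] R ⊗[ℤ] A₀).toRingHom
    (Algebra.TensorProduct.lift (Algebra.ofId R A) (algebraMap A₀ A).toIntAlgHom fun _ _ => .all _ _)
    (fun x => by simp) J hJ

open TensorProduct in
/-- Let `R → A → B` be ring maps with `A → B` faithfully flat and of finite presentation. Then there are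
an `R`-algebra `A₀` of finite presentation mapping to `A` and a faithfully flat finitely presented
`A₀`-algebra `B₀` with `B ≅ A ⊗_{A₀} B₀` as `A`-algebras. -/
theorem result {R A B : Type u} [CommRing R] [CommRing A] [CommRing B] [Algebra R A]
    [Algebra A B] [Algebra.FinitePresentation A B] [Module.FaithfullyFlat A B] :
    ∃ (A₀ B₀ : Type u) (_ : CommRing A₀) (_ : CommRing B₀) (_ : Algebra R A₀) (_ : Algebra A₀ A) (_ : IsScalarTower R A₀ A)
      (_ : Algebra A₀ B₀), Algebra.FinitePresentation R A₀ ∧ Algebra.FinitePresentation A₀ B₀ ∧ Module.FaithfullyFlat A₀ B₀ ∧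
      Nonempty (B ≃ₐ[A] A ⊗[A₀] B₀) := by
  classical
  obtain ⟨S₀, B₀, _, _, hfg, hfp, hflat, ⟨e⟩⟩ :=
    Groth.Agent.GrpdLib.FppfSourceDescent.exists_flat_model A B
  have : Algebra.FiniteType ℤ S₀ := (Subalgebra.fg_iff_finiteType S₀).mp hfg
  have : Algebra.FinitePresentation ℤ S₀ := Algebra.FinitePresentation.of_finiteType.mp ‹_›
  let U := Set.range (PrimeSpectrum.comap (algebraMap S₀ B₀))
  have hU : IsOpen U := PrimeSpectrum.isOpenMap_comap_of_hasGoingDown_of_finitePresentation.isOpen_range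
  obtain ⟨J, hJ⟩ := (PrimeSpectrum.isClosed_iff_zeroLocus_ideal Uᶜ).mp hU.isClosed_compl
  have hJtop : J.map (algebraMap S₀ A) = ⊤ := by
    by_contra hne
    obtain ⟨m, hm, hle⟩ := Ideal.exists_le_maximal _ hne
    obtain ⟨Q, hQ⟩ := PrimeSpectrum.comap_surjective_of_faithfullyFlat (A := A) (B := B) ⟨m, hm.isPrime⟩
    let i₀ : B₀ →+* B := (e.symm : A ⊗[S₀] B₀ →+* B).comp Algebra.TensorProduct.includeRight.toRingHom
    have hi₀ : i₀.comp (algebraMap S₀ B₀) = (algebraMap A B).comp (algebraMap S₀ A) := RingHom.ext fun x => by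
      show e.symm ((1 : A) ⊗ₜ[S₀] algebraMap S₀ B₀ x) = algebraMap A B (algebraMap S₀ A x)
      rw [← e.symm.commutes (algebraMap S₀ A x), Algebra.algebraMap_eq_smul_one (A := B₀),
        TensorProduct.tmul_smul, TensorProduct.smul_tmul', ← Algebra.algebraMap_eq_smul_one]
      rfl
    have h1 : PrimeSpectrum.comap (algebraMap S₀ A) ⟨m, hm.isPrime⟩ ∈ U := ⟨PrimeSpectrum.comap i₀ Q, by
      rw [← PrimeSpectrum.comap_comp_apply, hi₀, PrimeSpectrum.comap_comp_apply, hQ]⟩
    have h2 : PrimeSpectrum.comap (algebraMap S₀ A) ⟨m, hm.isPrime⟩ ∈ PrimeSpectrum.zeroLocus (J : Set S₀) :=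
      Ideal.map_le_iff_le_comap.mp hle
    rw [← hJ] at h2
    exact h2 h1
  obtain ⟨A₁, _, _, ρ, ψ, hA₁, hψρ, hρJ⟩ := exists_stage R A S₀ J hJtop
  let _ : Algebra S₀ A₁ := ρ.toAlgebra
  let _ : Algebra A₁ A := ψ.toRingHom.toAlgebra
  have : IsScalarTower R A₁ A := .of_algHom ψ
  have : IsScalarTower S₀ A₁ A := .of_algebraMap_eq' hψρ.symm
  have : Module.FaithfullyFlat A₁ (A₁ ⊗[S₀] B₀) := by
    refine Module.FaithfullyFlat.of_comap_surjective fun P => ?_
    let p0 := PrimeSpectrum.comap ρ P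
    have hp0 : p0 ∈ U := by
      by_contra h
      have h2 : p0 ∈ PrimeSpectrum.zeroLocus (J : Set S₀) := hJ ▸ h
      have h3 : J.map ρ ≤ P.asIdeal := Ideal.map_le_iff_le_comap.mpr h2
      rw [hρJ] at h3
      exact P.isPrime.ne_top (top_le_iff.mp h3)
    have : Nontrivial (p0.asIdeal.ResidueField ⊗[S₀] B₀) :=
      (PrimeSpectrum.nontrivial_iff_mem_rangeComap p0).mpr hp0
    let η : p0.asIdeal.ResidueField →+* P.asIdeal.ResidueField :=
      Ideal.ResidueField.map p0.asIdeal P.asIdeal ρ rfl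
    let _ := η.toAlgebra
    have : IsScalarTower S₀ p0.asIdeal.ResidueField P.asIdeal.ResidueField := .of_algebraMap_eq fun x => by
      show _ = η (algebraMap S₀ _ x)
      refine Eq.trans ?_ (Ideal.ResidueField.map_algebraMap p0.asIdeal P.asIdeal ρ rfl x).symm
      rw [IsScalarTower.algebraMap_apply S₀ A₁ P.asIdeal.ResidueField]
      rfl
    have : Nontrivial (P.asIdeal.ResidueField ⊗[p0.asIdeal.ResidueField] (p0.asIdeal.ResidueField ⊗[S₀] B₀)) :=
      Module.FaithfullyFlat.lTensor_nontrivial p0.asIdeal.ResidueField P.asIdeal.ResidueField _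
    have : Nontrivial (P.asIdeal.ResidueField ⊗[S₀] B₀) :=
      (TensorProduct.AlgebraTensorModule.cancelBaseChange S₀ p0.asIdeal.ResidueField
        P.asIdeal.ResidueField P.asIdeal.ResidueField B₀).symm.toEquiv.nontrivial
    have : Nontrivial (P.asIdeal.ResidueField ⊗[A₁] (A₁ ⊗[S₀] B₀)) :=
      (TensorProduct.AlgebraTensorModule.cancelBaseChange S₀ A₁
        P.asIdeal.ResidueField P.asIdeal.ResidueField B₀).toEquiv.nontrivial
    exact (PrimeSpectrum.nontrivial_iff_mem_rangeComap P).mp this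
  exact ⟨A₁, A₁ ⊗[S₀] B₀, inferInstance, inferInstance, inferInstance, inferInstance, inferInstance,
    inferInstance, hA₁, inferInstance, this, ⟨e.trans (Algebra.TensorProduct.cancelBaseChange S₀ A₁ A A B₀).symm⟩⟩

end Groth.Agent.S2144
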