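import Groth.Statements.S2145
import Mathlib
import Groth.Agent.CAlgLib.Spread
-- import your own Groth.Agent.* helpers here

set_option autoImplicit false
universe u
open CAlg

namespace Groth.Agent.S2145

theorem exists_lift {R S S' : Type u} [CommRing R] [CommRing S] [CommRing S'] [Algebra R S]
    [Algebra R S'] [Algebra.FinitePresentation R S] (q' : Ideal S') [q'.IsPrime]
    (ψ₀ : S →ₐ[R] Localization.AtPrime q') :
    ∃ g' : S', g' ∉ q' ∧ ∀ (T : Type u) [CommRing T] [Algebra S' T] [Algebra R T] [IsScalarTower R S' T]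
      [IsLocalization.Away g' T] (η : T →ₐ[S'] Localization.AtPrime q'), ∃ ψ : S →ₐ[R] T, ∀ x, η (ψ x) = ψ₀ x := by
  classical
  obtain ⟨n, π, hπ, J, hJ⟩ := Algebra.FinitePresentation.out (R := R) (A := S)
  obtain ⟨s, hs⟩ := IsLocalization.exist_integer_multiples_of_finite q'.primeCompl (fun i => ψ₀ (π (MvPolynomial.X i)))
  choose a ha using hs
  have ha' : ∀ i, algebraMap S' (Localization.AtPrime q') (a i) = algebraMap S' _ (s : S') * ψ₀ (π (MvPolynomial.X i)) :=
    fun i => (ha i).trans (Algebra.smul_def _ _)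
  let T₀ := Localization.Away (s : S')
  let ev : MvPolynomial (Fin n) R →ₐ[R] T₀ :=
    MvPolynomial.aeval fun i => algebraMap S' T₀ (a i) * IsLocalization.Away.invSelf (s : S')
  let η₀ : T₀ →ₐ[S'] Localization.AtPrime q' :=
    IsLocalization.Away.liftAlgHom (s : S') (f := Algebra.ofId S' _) (IsLocalization.map_units _ s)
  have hev : (η₀.restrictScalars R).comp ev = ψ₀.comp π := by
    apply MvPolynomial.algHom_ext
    intro i
    simp only [AlgHom.comp_apply, AlgHom.coe_restrictScalars', ev, MvPolynomial.aeval_X, map_mul, AlgHom.commutes]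
    rw [ha', mul_comm (algebraMap S' (Localization.AtPrime q') _), mul_assoc, ← η₀.commutes (s : S'), ← map_mul,
      IsLocalization.Away.mul_invSelf, map_one, mul_one]
  have hP : ∀ P ∈ J, ∃ c : S', c ∉ q' ∧ algebraMap S' T₀ c * ev P = 0 := by
    intro P hP
    obtain ⟨z, ⟨_, m, rfl⟩, hz⟩ := IsLocalization.exists_mk'_eq (Submonoid.powers (s : S')) (ev P)
    have h0 : η₀ (ev P) = 0 := by
      have := AlgHom.congr_fun hev P
      simp only [AlgHom.comp_apply, AlgHom.coe_restrictScalars'] at this
      rw [this, show π P = 0 from RingHom.mem_ker.mp (hJ ▸ Ideal.subset_span hP), map_zero]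
    have hz0 : algebraMap S' (Localization.AtPrime q') z = 0 := by
      rw [← η₀.commutes, ← IsLocalization.mk'_spec T₀ z (⟨_, m, rfl⟩ : Submonoid.powers (s : S')), map_mul, hz, h0, zero_mul]
    obtain ⟨c, hc⟩ := (IsLocalization.map_eq_zero_iff q'.primeCompl _ _).mp hz0
    exact ⟨c, c.2, by rw [← hz, IsLocalization.mul_mk'_eq_mk'_of_mul, hc, IsLocalization.mk'_zero]⟩
  choose c hc hc0 using hP
  refine ⟨(s : S') * ∏ P ∈ J.attach, c P.1 P.2, q'.primeCompl.mul_mem s.2 (prod_mem fun P _ => hc P.1 P.2), ?_⟩
  intro T _ _ _ _ hloc η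
  let hdiv : IsUnit (algebraMap S' T (s : S')) :=
    IsLocalization.Away.isUnit_of_dvd (x := (s : S') * ∏ P ∈ J.attach, c P.1 P.2) (dvd_mul_right _ _)
  let ι : T₀ →ₐ[S'] T := IsLocalization.Away.liftAlgHom (s : S') (f := Algebra.ofId S' T) hdiv
  let ev' : MvPolynomial (Fin n) R →ₐ[R] T := (ι.restrictScalars R).comp ev
  have hker : RingHom.ker π.toRingHom ≤ RingHom.ker ev'.toRingHom := by
    rw [← hJ, Ideal.span_le]
    intro P hP
    have hu : IsUnit (algebraMap S' T (c P hP)) := IsLocalization.Away.isUnit_of_dvd (x := (s : S') * ∏ P ∈ J.attach, c P.1 P.2)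
      (dvd_mul_of_dvd_right (Finset.dvd_prod_of_mem (fun P : J => c P.1 P.2) (Finset.mem_attach J ⟨P, hP⟩)) _)
    have := congrArg ι (hc0 P hP)
    rw [map_mul, AlgHom.commutes, map_zero] at this
    exact hu.mul_right_eq_zero.mp this
  let ψ : S →ₐ[R] T := (Ideal.Quotient.liftₐ (RingHom.ker π.toRingHom) ev' hker).comp
    (Ideal.quotientKerAlgEquivOfSurjective hπ).symm.toAlgHom
  refine ⟨ψ, fun x => ?_⟩
  obtain ⟨P, rfl⟩ := hπ x
  have h1 : ψ (π P) = ev' P := by
    change Ideal.Quotient.liftₐ _ ev' hker ((Ideal.quotientKerAlgEquivOfSurjective hπ).symm (π P)) = _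
    rw [show (Ideal.quotientKerAlgEquivOfSurjective hπ).symm (π P) = Ideal.Quotient.mk _ P from
      (Ideal.quotientKerAlgEquivOfSurjective hπ).symm_apply_eq.mpr rfl]
    rfl
  have h2 : η.comp ι = η₀ := by
    apply AlgHom.coe_ringHom_injective
    apply IsLocalization.ringHom_ext (Submonoid.powers (s : S'))
    ext r
    simp
  rw [h1]
  change (η.comp ι) (ev P) = _
  rw [h2]
  exact AlgHom.congr_fun hev P

/-- Let `S`, `S'` be finitely presented `R`-algebras and `𝔮 ⊆ S`, `𝔮' ⊆ S'` primes with `S_𝔮 ≅ S'_{𝔮'}`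
as `R`-algebras. Then `S_g ≅ S'_{g'}` as `R`-algebras for some `g ∉ 𝔮`, `g' ∉ 𝔮'`. -/
theorem result {R S S' : Type u} [CommRing R] [CommRing S] [CommRing S'] [Algebra R S]
    [Algebra R S'] [Algebra.FinitePresentation R S] [Algebra.FinitePresentation R S'] (q : Ideal S) [q.IsPrime]
    (q' : Ideal S') [q'.IsPrime] (e : Localization.AtPrime q ≃ₐ[R] Localization.AtPrime q') :
    ∃ (g : S) (g' : S'), g ∉ q ∧ g' ∉ q' ∧ Nonempty (Localization.Away g ≃ₐ[R] Localization.Away g') := by
  classical
  obtain ⟨g', hg', hlift⟩ := exists_lift q' (e.toAlgHom.comp (IsScalarTower.toAlgHom R S (Localization.AtPrime q)))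
  let T := Localization.Away g'
  let η : T →ₐ[S'] Localization.AtPrime q' :=
    IsLocalization.Away.liftAlgHom g' (f := Algebra.ofId S' _) (IsLocalization.map_units _ (⟨g', hg'⟩ : q'.primeCompl))
  obtain ⟨ψ, hψ⟩ := hlift T η
  algebraize [ψ.toRingHom]
  haveI : IsScalarTower R S T := IsScalarTower.of_algHom ψ
  haveI : Algebra.FinitePresentation R T :=
    haveI : Algebra.FinitePresentation S' T := IsLocalization.Away.finitePresentation g'
    Algebra.FinitePresentation.trans R S' T
  haveI : Algebra.FinitePresentation S T := Algebra.FinitePresentation.of_restrict_scalars_finitePresentation R S T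
  letI : Algebra T (Localization.AtPrime q') := η.toRingHom.toAlgebra
  haveI : IsScalarTower S' T (Localization.AtPrime q') := IsScalarTower.of_algHom η
  let q2 : Ideal T := Ideal.comap η.toRingHom (IsLocalRing.maximalIdeal _)
  have hq2' : q2.comap (algebraMap S' T) = q' := by
    rw [← Localization.AtPrime.under_maximalIdeal (I := q')]
    ext x
    simp only [q2, Ideal.mem_comap, Ideal.under]
    rw [show η.toRingHom (algebraMap S' T x) = algebraMap S' (Localization.AtPrime q') x from η.commutes x]
  haveI hloc : IsLocalization.AtPrime (Localization.AtPrime q') q2 := by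
    haveI : IsLocalization (q'.primeCompl.map (algebraMap S' T)) (Localization.AtPrime q') :=
      IsLocalization.isLocalization_of_submonoid_le T (Localization.AtPrime q') (Submonoid.powers g') q'.primeCompl
        ((Submonoid.powers_le).mpr hg')
    refine IsLocalization.of_le_of_exists_dvd (q'.primeCompl.map (algebraMap S' T)) q2.primeCompl ?_ ?_
    · rintro _ ⟨x, hx, rfl⟩ hmem
      exact hx (hq2'.le hmem)
    · intro z hz
      obtain ⟨k, a, hka⟩ := IsLocalization.Away.surj g' z
      refine ⟨algebraMap S' T a, ⟨a, ?_, rfl⟩, ⟨_, hka.symm⟩⟩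
      intro haq
      have h1 : algebraMap S' T a ∈ q2 := hq2'.ge haq
      rw [← hka] at h1
      rcases (Ideal.IsPrime.mem_or_mem inferInstance h1) with h2 | h2
      · exact hz h2
      · exact hg' (hq2'.le (show algebraMap S' T g' ∈ q2 from Ideal.IsPrime.mem_of_pow_mem inferInstance k h2))
  have hcomp : ∀ x : S, algebraMap T (Localization.AtPrime q') (algebraMap S T x) = e (algebraMap S _ x) := fun x => hψ x
  haveI : q2.LiesOver q := ⟨by
    ext x
    change _ ↔ algebraMap T (Localization.AtPrime q') (algebraMap S T x) ∈ IsLocalRing.maximalIdeal _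
    rw [hcomp, IsLocalRing.mem_maximalIdeal, mem_nonunits_iff, isUnit_map_iff, IsLocalization.AtPrime.isUnit_to_map_iff _ q, Ideal.mem_primeCompl_iff, not_not]⟩
  let ε : Localization.AtPrime q2 ≃ₐ[T] Localization.AtPrime q' := IsLocalization.algEquiv q2.primeCompl _ _
  have hloc2 : ε.toRingHom.comp (Localization.localRingHom q q2 (algebraMap S T) (q2.over_def q)) = e.toRingHom := by
    apply IsLocalization.ringHom_ext q.primeCompl
    ext x
    simp only [RingHom.comp_apply, Localization.localRingHom_to_map]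
    exact (ε.commutes _).trans (hcomp x)
  have hbij : Function.Bijective (Localization.localRingHom q q2 (algebraMap S T) (q2.over_def q)) := by
    have h1 : Function.Bijective (ε ∘ Localization.localRingHom q q2 (algebraMap S T) (q2.over_def q)) := by
      have h2 : (ε ∘ Localization.localRingHom q q2 (algebraMap S T) (q2.over_def q)) = e := by
        ext z; exact RingHom.congr_fun hloc2 z
      rw [h2]; exact e.bijective
    exact (Function.Bijective.of_comp_iff' ε.bijective _).mp h1
  obtain ⟨h, h', hh, hh', ⟨E⟩⟩ := CAlgLib.Spread.exists_away_equiv q2 q hbij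
  obtain ⟨k, c, hkc⟩ := IsLocalization.Away.surj g' h'
  have hcq : c ∉ q' := by
    intro hc
    have h1 : algebraMap S' T c ∈ q2 := hq2'.ge hc
    rw [← hkc] at h1
    rcases (Ideal.IsPrime.mem_or_mem inferInstance h1) with h2 | h2
    · exact hh' h2
    · exact hg' (hq2'.le (show algebraMap S' T g' ∈ q2 from Ideal.IsPrime.mem_of_pow_mem inferInstance k h2))
  haveI : IsLocalization.Away (algebraMap S' T c) (Localization.Away h') := by
    rw [← hkc]
    exact IsLocalization.Away.mul_of_isUnit h' _ (IsUnit.map _ (by rw [← map_pow]; exact IsLocalization.Away.algebraMap_pow_isUnit g' k |> fun h => by simpa using h))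
  haveI : IsLocalization.Away (g' * c) (Localization.Away h') := IsLocalization.Away.mul' T _ g' c
  refine ⟨h, g' * c, hh, q'.primeCompl.mul_mem hg' hcq, ⟨(E.restrictScalars R).trans ?_⟩⟩
  exact ((IsLocalization.algEquiv (Submonoid.powers (g' * c)) (Localization.Away h') (Localization.Away (g' * c))).restrictScalars R)

end Groth.Agent.S2145
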