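import Groth.Statements.S2146
import Mathlib
import Groth.Agent.CAlgLib.Spread
-- import your own Groth.Agent.* helpers here

set_option autoImplicit false
universe u
open CAlg

namespace Groth.Agent.S2146

/-- Let `S` be a finitely presented `R`-algebra and `𝔮` a prime of `S` over `𝔭` such that the induced
map `R_𝔭 → S_𝔮` is bijective. Then for some `f ∉ 𝔭` there is an `R_f`-algebra `C` with `S_f ≅ R_f ×
C` as `R_f`-algebras. -/
theorem result {R S : Type u} [CommRing R] [CommRing S] [Algebra R S]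
    [Algebra.FinitePresentation R S] (q : Ideal S) [q.IsPrime] (p : Ideal R) [p.IsPrime] [q.LiesOver p]
    (h : Function.Bijective (Localization.localRingHom p q (algebraMap R S) (q.over_def p))) :
    ∃ f : R, f ∉ p ∧ ∀ (Rf Sf : Type u) [CommRing Rf] [CommRing Sf] [Algebra R Rf] [IsLocalization.Away f Rf]
      [Algebra S Sf] [IsLocalization.Away (algebraMap R S f) Sf] [Algebra Rf Sf] [Algebra R Sf] [IsScalarTower R S Sf]
      [IsScalarTower R Rf Sf],
      ∃ (C : Type u) (_ : CommRing C) (_ : Algebra Rf C), Nonempty (Sf ≃ₐ[Rf] (Rf × C)) := by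
  classical
  obtain ⟨h₁, h', hh₁, hh', ⟨E⟩⟩ := CAlgLib.Spread.exists_away_equiv q p h
  refine ⟨h₁, hh₁, fun Rf Sf _ _ _ _ _ _ _ _ _ _ => ?_⟩
  let Sh := Localization.Away h'
  have hunit : IsUnit (algebraMap S Sh (algebraMap R S h₁)) := by
    rw [← IsScalarTower.algebraMap_apply, ← E.commutes]
    exact (IsLocalization.Away.algebraMap_isUnit h₁).map E
  let g : Sf →ₐ[S] Sh := IsLocalization.Away.liftAlgHom (algebraMap R S h₁) (f := Algebra.ofId S Sh) hunit
  let e₀ : Localization.Away h₁ ≃ₐ[R] Rf := IsLocalization.algEquiv (Submonoid.powers h₁) _ _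
  let π₀ : Sf →ₐ[R] Rf := (e₀.toAlgHom.comp E.symm.toAlgHom).comp (g.restrictScalars R)
  let π : Sf →ₐ[Rf] Rf :=
    { π₀.toRingHom with
      commutes' := fun r => by
        have : π₀.toRingHom.comp (algebraMap Rf Sf) = RingHom.id Rf := by
          apply IsLocalization.ringHom_ext (Submonoid.powers h₁)
          ext x
          simp only [RingHom.comp_apply, RingHom.id_apply, ← IsScalarTower.algebraMap_apply]
          exact π₀.commutes x
        exact RingHom.congr_fun this r }
  have hπ : ∀ z, π z = e₀ (E.symm (g z)) := fun z => rfl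
  have hgsurj : Function.Surjective g := by
    intro w
    refine ⟨algebraMap Rf Sf (e₀ (E.symm w)), ?_⟩
    have := π.commutes (e₀ (E.symm w))
    rw [hπ] at this
    exact E.symm.injective (e₀.injective this)
  obtain ⟨x, hx⟩ := hgsurj (IsLocalization.Away.invSelf h')
  let hS : Sf := algebraMap S Sf h'
  have hann : ∀ z : Sf, g z = 0 → ∃ m, hS ^ m * z = 0 := by
    intro z hz
    obtain ⟨a, ⟨_, n, rfl⟩, rfl⟩ := IsLocalization.exists_mk'_eq (Submonoid.powers (algebraMap R S h₁)) z
    have ha : algebraMap S Sh a = 0 := by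
      rw [← g.commutes, ← IsLocalization.mk'_spec Sf a (⟨_, n, rfl⟩ : Submonoid.powers (algebraMap R S h₁)), map_mul, hz, zero_mul]
    obtain ⟨⟨_, m, rfl⟩, hm⟩ := (IsLocalization.map_eq_zero_iff (Submonoid.powers h') _ _).mp ha
    exact ⟨m, by rw [show hS ^ m = algebraMap S Sf (h' ^ m) from (map_pow _ _ _).symm, IsLocalization.mul_mk'_eq_mk'_of_mul, show h' ^ m * a = 0 from hm, IsLocalization.mk'_zero]⟩
  have hgh : g (hS * x) = 1 := by rw [map_mul, hx, AlgHom.commutes, IsLocalization.Away.mul_invSelf]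
  obtain ⟨m, hm⟩ := hann (hS * x - 1) (by rw [map_sub, hgh, map_one, sub_self])
  have hshift : ∀ j, hS ^ m = hS ^ (m + j) * x ^ j := by
    intro j
    induction j with
    | zero => simp
    | succ j ih => rw [show hS ^ (m + (j+1)) * x ^ (j+1) = hS ^ (m + j) * x ^ j + hS ^ j * x ^ j * (hS ^ m * (hS * x - 1)) by ring, hm, mul_zero, add_zero, ← ih]
  let e : Sf := (hS * x) ^ m
  have hidem : e * e = e := by
    simp only [e, mul_pow]
    linear_combination (-x ^ m) * hshift m
  have hke : ∀ z, g z = 0 → e * z = 0 := by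
    intro z hz
    obtain ⟨j, hj⟩ := hann z hz
    simp only [e, mul_pow]
    linear_combination (x ^ m * z) * hshift j + (hS ^ m * x ^ m * x ^ j) * hj
  let I : Ideal Sf := RingHom.ker π.toRingHom
  have hI : ∀ z, z ∈ I ↔ g z = 0 := fun z => by
    rw [RingHom.mem_ker]; change e₀ (E.symm (g z)) = 0 ↔ _
    rw [EmbeddingLike.map_eq_zero_iff, EmbeddingLike.map_eq_zero_iff]
  let C := Sf ⧸ Ideal.span {e}
  have he1 : (1 - e) ∈ I := (hI _).mpr (by simp [e, map_sub, map_pow, hgh])
  let Φ : Sf →ₐ[Rf] Rf × C := π.prod (Ideal.Quotient.mkₐ Rf (Ideal.span {e}))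
  refine ⟨C, inferInstance, inferInstance, ⟨AlgEquiv.ofBijective Φ ⟨?_, ?_⟩⟩⟩
  · rw [injective_iff_map_eq_zero]
    intro z hz
    obtain ⟨hz1, hz2⟩ := Prod.ext_iff.mp hz
    obtain ⟨w, hw⟩ := Ideal.mem_span_singleton.mp (Ideal.Quotient.eq_zero_iff_mem.mp hz2)
    have hez := hke z ((hI z).mp hz1)
    rw [hw, ← mul_assoc, hidem, ← hw] at hez
    exact hez
  · rintro ⟨r, w⟩
    obtain ⟨b, rfl⟩ := Ideal.Quotient.mk_surjective w
    refine ⟨e * algebraMap Rf Sf r + (1 - e) * b, ?_⟩
    have h1 : π (1 - e) = 0 := he1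
    have h2 : π e = 1 := by rw [map_sub, map_one, sub_eq_zero] at h1; exact h1.symm
    refine Prod.ext ?_ ?_
    · change π _ = r
      rw [map_add, map_mul, map_mul, h1, h2, AlgHom.commutes, zero_mul, add_zero, one_mul]; rfl
    · change Ideal.Quotient.mk _ _ = Ideal.Quotient.mk _ b
      rw [Ideal.Quotient.eq]
      exact Ideal.mem_span_singleton.mpr ⟨algebraMap Rf Sf r - b, by ring⟩

end Groth.Agent.S2146
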