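import Groth.Statements.S2148
import Mathlib
import Groth.Agent.PBasis.Field
-- import your own Groth.Agent.* helpers here

set_option autoImplicit false
universe u
open CAlg

namespace Groth.Agent.S2148

/-- Let `k` be a perfect field of characteristic `p > 0` and `K` an extension field of `k`. For `a ∈ K`,
the differential `da` vanishes in `Ω_{K/k}` if and only if `a` is a `p`-th power in `K`. -/
theorem result {k K : Type u} [Field k] [Field K] [Algebra k K] (p : ℕ) [Fact p.Prime]
    [CharP k p] [PerfectRing k p] (a : K) :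
    KaehlerDifferential.D k K a = 0 ↔ ∃ b : K, b ^ p = a := by
  haveI : CharP K p := charP_of_injective_algebraMap (algebraMap k K).injective p
  rw [Groth.Agent.PBasis.Field.D_eq_zero_iff p]
  constructor
  · intro h
    let T : Subalgebra k K :=
      { carrier := {a | ∃ b : K, b ^ p = a}
        mul_mem' := by rintro _ _ ⟨b, rfl⟩ ⟨c, rfl⟩; exact ⟨b * c, mul_pow b c p⟩
        one_mem' := ⟨1, one_pow p⟩
        add_mem' := by rintro _ _ ⟨b, rfl⟩ ⟨c, rfl⟩; exact ⟨b + c, add_pow_char b c p⟩
        zero_mem' := ⟨0, zero_pow (Fact.out : p.Prime).ne_zero⟩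
        algebraMap_mem' := fun r => ⟨algebraMap k K ((frobeniusEquiv k p).symm r), by
          rw [← map_pow, frobeniusEquiv_symm_pow_p]⟩ }
    exact (Algebra.adjoin_le (S := T) (by rintro _ ⟨y, rfl⟩; exact ⟨y, rfl⟩)) h
  · rintro ⟨b, rfl⟩
    exact Groth.Agent.PBasis.Field.pow_mem_pField p b

end Groth.Agent.S2148
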