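import Groth.Statements.S2149
import Mathlib
-- import your own Groth.Agent.* helpers here

set_option autoImplicit false
universe u
open CAlg

namespace Groth.Agent.S2149

open TensorProduct in
theorem key_map {R S M M' : Type u} [CommRing R] [CommRing S] [Algebra R S]
    [AddCommGroup M] [Module S M] [Module R M] [IsScalarTower R S M] [AddCommGroup M'] [Module S M'] [Module R M']
    [IsScalarTower R S M'] (u : M →ₗ[S] M') (m : Submonoid S) (Q : Type u) [AddCommGroup Q] [Module R Q] :
    IsLocalizedModule.map m (AlgebraTensorModule.rTensor R Q (LocalizedModule.mkLinearMap m M))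
      (AlgebraTensorModule.rTensor R Q (LocalizedModule.mkLinearMap m M'))
      (AlgebraTensorModule.rTensor R Q u) =
      AlgebraTensorModule.rTensor R Q ((LocalizedModule.map m u).restrictScalars S) := by
  apply IsLocalizedModule.linearMap_ext m (AlgebraTensorModule.rTensor R Q (LocalizedModule.mkLinearMap m M))
    (AlgebraTensorModule.rTensor R Q (LocalizedModule.mkLinearMap m M'))
  rw [IsLocalizedModule.map_comp]
  ext x q
  simp [LocalizedModule.map_mk]

/-- Let `R → S` be a ring map and `u : M → M'` a map of `S`-modules. Then `u`, viewed as an `R`-linear
map, is universally injective exactly when, for every maximal ideal `𝔪` of `S`, the localized map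
`M_𝔪 → M'_𝔪` is also universally injective as an `R`-linear map. -/
theorem result {R S M M' : Type u} [CommRing R] [CommRing S] [Algebra R S]
    [AddCommGroup M] [Module S M] [Module R M] [IsScalarTower R S M] [AddCommGroup M'] [Module S M'] [Module R M']
    [IsScalarTower R S M'] (u : M →ₗ[S] M') :
    CAlgX.UniversallyInjective R (u.restrictScalars R) ↔
      ∀ (m : Ideal S) [m.IsMaximal],
        CAlgX.UniversallyInjective R ((LocalizedModule.map m.primeCompl u).restrictScalars R) := by
  constructor
  · intro h m _ Q _ _
    have hi : Function.Injective (TensorProduct.AlgebraTensorModule.rTensor R Q u) := h Q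
    have := IsLocalizedModule.map_injective m.primeCompl
      (TensorProduct.AlgebraTensorModule.rTensor R Q (LocalizedModule.mkLinearMap m.primeCompl M))
      (TensorProduct.AlgebraTensorModule.rTensor R Q (LocalizedModule.mkLinearMap m.primeCompl M')) _ hi
    rw [key_map] at this
    exact this
  · intro h Q _ _
    have : Function.Injective (TensorProduct.AlgebraTensorModule.rTensor R Q u) := by
      refine injective_of_isLocalized_maximal
        (fun (P : Ideal S) [P.IsMaximal] => TensorProduct R (LocalizedModule P.primeCompl M) Q)
        (fun P _ => TensorProduct.AlgebraTensorModule.rTensor R Q (LocalizedModule.mkLinearMap P.primeCompl M))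
        (fun (P : Ideal S) [P.IsMaximal] => TensorProduct R (LocalizedModule P.primeCompl M') Q)
        (fun P _ => TensorProduct.AlgebraTensorModule.rTensor R Q (LocalizedModule.mkLinearMap P.primeCompl M')) _ ?_
      intro P _
      rw [key_map]
      exact h P Q
    exact this

end Groth.Agent.S2149
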