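import Groth.Statements.S2152
import Groth.Agent.LimTop.Basic
-- import your own Groth.Agent.* helpers here

set_option autoImplicit false
universe u
open CategoryTheory AlgebraicGeometry
open Lim

namespace Groth.Agent.S2152

/-- Let `c` be a limit cone of a diagram of schemes indexed by a small cofiltered category with affine
transition morphisms. Then the image of `c` under the forgetful functor to topological spaces is a
limit cone: the underlying space of the limit scheme is the limit of the underlying spaces. -/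
theorem result {I : Type u} [SmallCategory I] [IsCofiltered I] (D : I ⥤ Scheme.{u})
    [∀ (i j : I) (f : i ⟶ j), IsAffineHom (D.map f)] (c : Limits.Cone D) (hc : Limits.IsLimit c) :
    Nonempty (Limits.IsLimit (Scheme.forgetToTop.mapCone c)) := by
  obtain ⟨i₀⟩ := IsCofiltered.nonempty (C := I)
  have hbij : Nonempty (Limits.IsLimit
      ((forget TopCat).mapCone (Scheme.forgetToTop.mapCone c))) := by
    rw [Limits.Types.isLimit_iff_bijective_sectionOfCone]
    refine ⟨fun a b h => LimTop.point_ext hc i₀ fun j _ =>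
      congrFun (congrArg Subtype.val h) j, fun x => ?_⟩
    obtain ⟨a, ha⟩ := LimTop.exists_point hc x.1 fun i j φ => x.2 φ
    exact ⟨a, Subtype.ext (funext ha)⟩
  refine (TopCat.nonempty_isLimit_iff_eq_induced _ hbij.some).mpr (le_antisymm ?_ ?_)
  · exact le_iInf fun j => continuous_iff_le_induced.mp (c.π.app j).continuous
  · intro W hW
    have key : ∀ a ∈ W, ∃ (j : I) (V : (D.obj j).Opens),
        a ∈ c.π.app j ⁻¹' (V : Set (D.obj j)) ∧ c.π.app j ⁻¹' (V : Set (D.obj j)) ⊆ W :=
      fun a ha => by
        obtain ⟨j, -, V, -, h₁, h₂⟩ := LimTop.exists_nhd hc i₀ hW ha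
        exact ⟨j, V, h₁, h₂⟩
    choose j V hmem hsub using key
    have hW' : W = ⋃ (a : W), c.π.app (j a a.2) ⁻¹' (V a a.2 : Set (D.obj (j a a.2))) :=
      Set.Subset.antisymm (fun a ha => Set.mem_iUnion.mpr ⟨⟨a, ha⟩, hmem a ha⟩)
        (Set.iUnion_subset fun a => hsub a a.2)
    rw [hW']
    let φ : ∀ i : I, (Scheme.forgetToTop.mapCone c).pt → (D ⋙ Scheme.forgetToTop).obj i :=
      fun i => c.π.app i
    refine @isOpen_iUnion _ _
      (⨅ i : I, TopologicalSpace.induced (φ i) ((D ⋙ Scheme.forgetToTop).obj i).str) _ fun a => ?_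
    refine iInf_le
      (fun i : I => TopologicalSpace.induced (φ i) ((D ⋙ Scheme.forgetToTop).obj i).str)
      (j a a.2) _ ?_
    exact ⟨_, (V a a.2).2, rfl⟩

end Groth.Agent.S2152
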