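import Groth.Statements.S2158
import Mathlib.RingTheory.Unramified.LocalRing
import Groth.Agent.UnramFib.Basic
import Groth.Agent.Omega.DiagUniv
-- import your own Groth.Agent.* helpers here

set_option autoImplicit false
universe u
open CategoryTheory AlgebraicGeometry
open Mor

namespace Groth.Agent.S2158
set_option backward.isDefEq.respectTransparency.types false
open IsLocalRing

/-- A module with a universal derivation vanishes iff the Kaehler module does. -/
lemma subsingleton_iff {R S M : Type u} [CommRing R] [CommRing S] [Algebra R S] [AddCommGroup M]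
    [Module S M] (δ : S →+ M) (hmul : ∀ a b, δ (a * b) = a • δ b + b • δ a)
    (hzero : ∀ c, δ (algebraMap R S c) = 0)
    (huniv : ∀ (N : Type u) [AddCommGroup N] [Module S N] (e : S →+ N),
      (∀ a b, e (a * b) = a • e b + b • e a) → (∀ c, e (algebraMap R S c) = 0) →
        ∃! l : M →ₗ[S] N, ∀ a, l (δ a) = e a) :
    Subsingleton M ↔ Subsingleton Ω[S⁄R] := by
  constructor
  · intro hM
    obtain ⟨l, hl, -⟩ := huniv Ω[S⁄R] (KaehlerDifferential.D R S).toLinearMap.toAddMonoidHom
      (fun a b => (KaehlerDifferential.D R S).leibniz a b)
      (fun c => (KaehlerDifferential.D R S).map_algebraMap c)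
    have hD : ∀ a, KaehlerDifferential.D R S a = 0 := fun a =>
      (hl a).symm.trans ((congrArg l (Subsingleton.elim (δ a) 0)).trans (map_zero l))
    have htop : (⊤ : Submodule S Ω[S⁄R]) = ⊥ := by
      rw [← KaehlerDifferential.span_range_derivation, Submodule.span_eq_bot]
      rintro _ ⟨a, rfl⟩; exact hD a
    exact (Submodule.subsingleton_iff S).mp (subsingleton_of_bot_eq_top htop.symm)
  · intro hΩ
    let : Module R M := Module.compHom M (algebraMap R S)
    have : IsScalarTower R S M := IsScalarTower.of_algebraMap_smul fun _ _ => rfl
    let D : Derivation R S M :=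
      { toFun := δ
        map_add' := map_add δ
        map_smul' := fun r a => by
          show δ (r • a) = algebraMap R S r • δ a
          rw [Algebra.smul_def, hmul, hzero, smul_zero, add_zero]
        map_one_eq_zero' := by
          show δ 1 = 0
          rw [← map_one (algebraMap R S), hzero]
        leibniz' := hmul }
    have h0 : ∀ a, δ a = 0 := fun a =>
      (D.liftKaehlerDifferential_comp_D a).symm.trans
        ((congrArg D.liftKaehlerDifferential (Subsingleton.elim _ (0 : Ω[S⁄R]))).trans (map_zero _))
    obtain ⟨l, -, hu⟩ := huniv M (0 : S →+ M) (fun a b => by simp) (fun c => rfl)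
    have hid : (LinearMap.id : M →ₗ[S] M) = 0 :=
      (hu LinearMap.id fun a => h0 a).trans (hu 0 fun a => rfl).symm
    exact subsingleton_of_forall_eq 0 fun m => congr($hid m)

/-- Let `f : X → S` be locally of finite type and quasi-separated (so that the diagonal is quasi-compact
and the prelude's sheaf of differentials is the conormal sheaf of the diagonal near every point), `x
∈ X`, `s = f(x)`. Then the stalk `Ω_{X/S,x}` vanishes if and only if `𝔪_s O_{X,x} = 𝔪_x` and
`κ(x)/κ(s)` is a finite separable extension. -/
theorem result {X S : Scheme.{u}} (f : X ⟶ S) [LocallyOfFiniteType f] [QuasiSeparated f] (x : X) :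
    Subsingleton ((Omega.sheaf f).presheaf.stalk x) ↔
      ((IsLocalRing.maximalIdeal (S.presheaf.stalk (f.base x))).map (f.stalkMap x).hom =
          IsLocalRing.maximalIdeal (X.presheaf.stalk x) ∧
        (f.residueFieldMap x).hom.Finite ∧
        @Algebra.IsSeparable (S.residueField (f.base x)) (X.residueField x) _ _ (f.residueFieldMap x).hom.toAlgebra) := by
  obtain ⟨δ, hmul, hzero, -, huniv⟩ := Groth.Agent.Omega.DiagUniv.exists_universal_stalk f x
  algebraize [(f.stalkMap x).hom]
  let R := S.presheaf.stalk (f x)
  let O := X.presheaf.stalk x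
  have : IsLocalHom (algebraMap R O) := inferInstanceAs <| IsLocalHom (f.stalkMap x).hom
  have : Algebra.EssFiniteType R O := by
    rw [← RingHom.essFiniteType_algebraMap, RingHom.algebraMap_toAlgebra]
    exact LocallyOfFiniteType.stalkMap f x
  have hres : (f.residueFieldMap x).hom = (algebraMap (ResidueField R) (ResidueField O) :
      ResidueField R →+* ResidueField O) := by
    refine RingHom.ext fun a => ?_
    obtain ⟨a, rfl⟩ := IsLocalRing.residue_surjective a
    rfl
  rw [subsingleton_iff (R := R) δ hmul hzero huniv,
    show Subsingleton Ω[O⁄R] ↔ Algebra.FormallyUnramified R O from ⟨fun h => ⟨h⟩, fun h => h.1⟩,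
    Algebra.FormallyUnramified.iff_map_maximalIdeal_eq]
  have halg : (f.residueFieldMap x).hom.toAlgebra = (inferInstance : Algebra (ResidueField R) (ResidueField O)) :=
    Algebra.algebra_ext _ _ fun r => congr($hres r)
  constructor
  · rintro ⟨hsep, hmax⟩
    have : Algebra.FormallyUnramified R O := Algebra.FormallyUnramified.of_map_maximalIdeal hmax
    refine ⟨hmax, ?_, ?_⟩
    · rw [RingHom.Finite, halg]
      exact (inferInstance : Module.Finite (ResidueField R) (ResidueField O))
    · rw [halg]; exact hsep
  · rintro ⟨hmax, -, hsep⟩
    refine ⟨?_, hmax⟩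
    rw [halg] at hsep
    exact hsep

end Groth.Agent.S2158
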