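import Groth.Statements.S2159
import Mathlib
-- import your own Groth.Agent.* helpers here

set_option autoImplicit false
universe u
open CAlg

namespace Groth.Agent.S2159

/-- Given surjections `p₁ : P₁ → M` and `p₂ : P₂ → M` from projective modules, with kernels `K` and `L`,
there is an isomorphism `K ⊕ P₂ ≅ L ⊕ P₁`. -/
theorem result {R M P₁ P₂ : Type u} [CommRing R] [AddCommGroup M] [Module R M] [AddCommGroup P₁] [Module R P₁]
    [Module.Projective R P₁] [AddCommGroup P₂] [Module R P₂] [Module.Projective R P₂] (p₁ : P₁ →ₗ[R] M) (p₂ : P₂ →ₗ[R] M)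
    (h₁ : Function.Surjective p₁) (h₂ : Function.Surjective p₂) :
    Nonempty ((LinearMap.ker p₁ × P₂) ≃ₗ[R] (LinearMap.ker p₂ × P₁)) := by
  let Q : Submodule R (P₁ × P₂) := LinearMap.eqLocus (p₁.comp (LinearMap.fst R P₁ P₂)) (p₂.comp (LinearMap.snd R P₁ P₂))
  have key : ∀ {A B : Type u} [AddCommGroup A] [Module R A] [AddCommGroup B] [Module R B] [Module.Projective R B]
      (a : A →ₗ[R] M) (b : B →ₗ[R] M), Function.Surjective a →
      Nonempty ((LinearMap.ker a × B) ≃ₗ[R] LinearMap.eqLocus (a.comp (LinearMap.fst R A B)) (b.comp (LinearMap.snd R A B))) := by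
    intro A B _ _ _ _ _ a b ha
    obtain ⟨s, hs⟩ := Module.projective_lifting_property a b ha
    have hs' : ∀ y, a (s y) = b y := fun y => LinearMap.congr_fun hs y
    exact ⟨{ toFun := fun z => ⟨((z.1 : A) + s z.2, z.2), by
                simp [LinearMap.mem_eqLocus, map_add, hs', LinearMap.mem_ker.mp z.1.2]⟩
             map_add' := fun z w => by ext <;> simp [add_add_add_comm]
             map_smul' := fun r z => by ext <;> simp
             invFun := fun q => (⟨q.1.1 - s q.1.2, by
                have hq := q.2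
                change a q.1.1 = b q.1.2 at hq
                simp [LinearMap.mem_ker, map_sub, hs', hq]⟩, q.1.2)
             left_inv := fun z => by simp
             right_inv := fun q => by simp }⟩
  obtain ⟨e₁⟩ := key p₁ p₂ h₁
  obtain ⟨e₂⟩ := key p₂ p₁ h₂
  let sw : LinearMap.eqLocus (p₁.comp (LinearMap.fst R P₁ P₂)) (p₂.comp (LinearMap.snd R P₁ P₂)) ≃ₗ[R] LinearMap.eqLocus (p₂.comp (LinearMap.fst R P₂ P₁)) (p₁.comp (LinearMap.snd R P₂ P₁)) :=
    { toFun := fun q => ⟨(q.1.2, q.1.1), Eq.symm (q.2 : p₁ q.1.1 = p₂ q.1.2)⟩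
      map_add' := fun z w => rfl
      map_smul' := fun r z => rfl
      invFun := fun q => ⟨(q.1.2, q.1.1), Eq.symm (q.2 : p₂ q.1.1 = p₁ q.1.2)⟩
      left_inv := fun q => rfl
      right_inv := fun q => rfl }
  exact ⟨e₁.trans (sw.trans e₂.symm)⟩

end Groth.Agent.S2159
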