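import Groth.Statements.S2160
import Mathlib
-- import your own Groth.Agent.* helpers here

set_option autoImplicit false
universe u
open CAlg

namespace Groth.Agent.S2160

/-- Let `R` be a Noetherian local domain of Krull dimension at least `2`. Then every nonempty open
subset of `Spec R` is infinite. -/
theorem result {R : Type u} [CommRing R] [IsDomain R] [IsLocalRing R] [IsNoetherianRing R]
    (hdim : 2 ≤ ringKrullDim R) (U : Set (PrimeSpectrum R)) (hU : IsOpen U) (hne : U.Nonempty) : U.Infinite := by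
  classical
  intro hfin
  obtain ⟨⟨P, hPU⟩⟩ : Nonempty U := hne.to_subtype
  obtain ⟨_, ⟨f, rfl⟩, hPf, hfU⟩ := PrimeSpectrum.isTopologicalBasis_basic_opens.exists_subset_of_mem_open hPU hU
  have hf0 : f ≠ 0 := fun h => hPf (by simp [h])
  have hH : {q : Ideal R | q.IsPrime ∧ q.height ≤ 1}.Finite := by
    refine Set.Finite.subset (((hfin.subset hfU).image PrimeSpectrum.asIdeal).union
      (((Ideal.span {f}).finite_minimalPrimes_of_isNoetherianRing).union (Set.finite_singleton ⊥))) ?_
    rintro q ⟨hq, hh⟩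
    by_cases hfq : f ∈ q
    · right
      by_cases hq0 : q = ⊥
      · exact Or.inr hq0
      left
      refine ⟨⟨hq, (Ideal.span_singleton_le_iff_mem _).mpr hfq⟩, fun q' hq' hle => ?_⟩
      by_contra hlt
      have h0 : q' ≠ ⊥ := fun h => hf0 (by simpa [h] using hq'.2 (Ideal.mem_span_singleton_self f))
      have := hq'.1
      have hb : (⊥ : Ideal R).IsPrime := Ideal.isPrime_bot
      have h1 := Ideal.height_strict_mono_of_isPrime (show (⊥ : Ideal R) < q' from bot_lt_iff_ne_bot.mpr h0)
      have h2 := Ideal.height_strict_mono_of_isPrime (show q' < q from lt_of_le_not_ge hle hlt)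
      have h3 : q'.height < 1 := lt_of_lt_of_le h2 hh
      rw [ENat.lt_one_iff_eq_zero] at h3
      simp [h3] at h1
    · exact Or.inl ⟨⟨q, hq⟩, hfq, rfl⟩
  have hsub : (IsLocalRing.maximalIdeal R : Set R) ⊆ ⋃ q ∈ (hH.toFinset : Set (Ideal R)), (q : Set R) := by
    intro x hx
    obtain ⟨q, hq⟩ := Ideal.nonempty_minimalPrimes (I := Ideal.span {x})
      (by rw [Ne, Ideal.span_singleton_eq_top]; exact hx)
    have := Ideal.height_le_one_of_isPrincipal_of_mem_minimalPrimes (Ideal.span {x}) q hq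
    exact Set.mem_biUnion (show q ∈ (hH.toFinset : Set (Ideal R)) from hH.mem_toFinset.mpr ⟨hq.1.1, this⟩)
      (hq.1.2 (Ideal.mem_span_singleton_self x))
  obtain ⟨q, hq, hle⟩ := (Ideal.subset_union_prime (f := fun q : Ideal R => q) ⊥ ⊥ (fun q hq _ _ => (hH.mem_toFinset.mp hq).1)).mp hsub
  have hq' := hH.mem_toFinset.mp hq
  have hqm : q = IsLocalRing.maximalIdeal R := (IsLocalRing.le_maximalIdeal hq'.1.ne_top).antisymm hle
  have h2 := hq'.2
  rw [hqm] at h2
  rw [← IsLocalRing.maximalIdeal_height_eq_ringKrullDim] at hdim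
  have h4 : ((2 : ℕ∞) : WithBot ℕ∞) ≤ ((1 : ℕ∞) : WithBot ℕ∞) := hdim.trans (WithBot.coe_le_coe.mpr h2)
  rw [WithBot.coe_le_coe] at h4
  exact absurd h4 (by decide)

end Groth.Agent.S2160
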