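import Groth.Statements.S2161
import Mathlib
-- import your own Groth.Agent.* helpers here

set_option autoImplicit false
universe u
open CAlg

namespace Groth.Agent.S2161

set_option synthInstance.maxHeartbeats 100000 in
/-- Let R → S be a ring map whose kernel consists of nilpotent elements, and suppose S is generated as
an R-algebra by elements x for which some power (T − x)ⁿ, n > 0, is the image of a polynomial over
R. Then Spec S → Spec R is a homeomorphism, and for every prime 𝔮 of S over 𝔭 the extension
κ(𝔮)/κ(𝔭) is purely inseparable. -/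
theorem result {R S : Type u} [CommRing R] [CommRing S] [Algebra R S]
    (hker : ∀ r : R, algebraMap R S r = 0 → IsNilpotent r) (G : Set S) (hG : Algebra.adjoin R G = ⊤)
    (hpow : ∀ x ∈ G, ∃ (n : ℕ) (P : Polynomial R), 0 < n ∧
      Polynomial.map (algebraMap R S) P = (Polynomial.X - Polynomial.C x) ^ n) :
    IsHomeomorph (PrimeSpectrum.comap (algebraMap R S)) ∧
      ∀ (q : Ideal S) [q.IsPrime] (p : Ideal R) [p.IsPrime] [q.LiesOver p],
        @IsPurelyInseparable p.ResidueField q.ResidueField _ _
          (Ideal.ResidueField.mapₐ p q (Algebra.ofId R S) (q.over_def p)).toRingHom.toAlgebra := by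
  classical
  have hmon : ∀ x ∈ G, ∀ (K : Type u) [Field K] (ψ ψ' : S →+* K),
      (∀ r, ψ (algebraMap R S r) = ψ' (algebraMap R S r)) → ψ x = ψ' x := by
    intro x hx K _ ψ ψ' hR
    obtain ⟨n, P, hn, hP⟩ := hpow x hx
    have h1 : ∀ φ : S →+* K, Polynomial.map (φ.comp (algebraMap R S)) P = (Polynomial.X - Polynomial.C (φ x)) ^ n := fun φ => by
      rw [← Polynomial.map_map, hP]
      simp
    have h2 := (h1 ψ).symm.trans ((congrArg (fun g => Polynomial.map g P) (RingHom.ext hR)).trans (h1 ψ'))
    have h3 := congrArg (Polynomial.eval (ψ' x)) h2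
    simp only [Polynomial.eval_pow, Polynomial.eval_sub, Polynomial.eval_X, Polynomial.eval_C, sub_self,
      zero_pow hn.ne'] at h3
    exact (sub_eq_zero.mp ((pow_eq_zero_iff hn.ne').mp h3)).symm
  have hext : ∀ (K : Type u) [Field K] (ψ ψ' : S →+* K),
      (∀ r, ψ (algebraMap R S r) = ψ' (algebraMap R S r)) → ψ = ψ' := by
    intro K _ ψ ψ' hR
    refine RingHom.ext fun s => ?_
    have hs : s ∈ Algebra.adjoin R G := hG ▸ Algebra.mem_top
    induction hs using Algebra.adjoin_induction with
    | mem x hx => exact hmon x hx K ψ ψ' hR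
    | algebraMap r => exact hR r
    | add a b _ _ ha hb => rw [map_add, map_add, ha, hb]
    | mul a b _ _ ha hb => rw [map_mul, map_mul, ha, hb]
  have hint : (algebraMap R S).IsIntegral := by
    have hle : Algebra.adjoin R G ≤ integralClosure R S := Algebra.adjoin_le fun x hx => by
      obtain ⟨n, P, hn, hP⟩ := hpow x hx
      nontriviality S
      obtain ⟨Q, hQ, -, hQm⟩ := Polynomial.lifts_and_degree_eq_and_monic
        (f := algebraMap R S) (p := (Polynomial.X - Polynomial.C x) ^ n) ⟨P, hP⟩
        ((Polynomial.monic_X_sub_C x).pow n)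
      refine ⟨Q, hQm, ?_⟩
      rw [← Polynomial.eval_map, hQ]
      simp [zero_pow hn.ne']
    exact fun s => hle (hG ▸ Algebra.mem_top)
  haveI : Algebra.IsIntegral R S := ⟨hint⟩
  have hres : ∀ (q : Ideal S) [q.IsPrime] (p : Ideal R) [p.IsPrime] [q.LiesOver p],
      @IsPurelyInseparable p.ResidueField q.ResidueField _ _
        (Ideal.ResidueField.mapₐ p q (Algebra.ofId R S) (q.over_def p)).toRingHom.toAlgebra := by
    intro q _ p _ _
    let _ := (Ideal.ResidueField.mapₐ p q (Algebra.ofId R S) (q.over_def p)).toRingHom.toAlgebra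
    have hA : ∀ r : R, algebraMap p.ResidueField q.ResidueField (algebraMap R p.ResidueField r) =
        algebraMap S q.ResidueField (algebraMap R S r) :=
      fun r => Ideal.ResidueField.map_algebraMap _ _ _ _ r
    refine isPurelyInseparable_of_finSepDegree_eq_one ?_
    rw [Field.finSepDegree, Nat.card_eq_one_iff_unique]
    refine ⟨⟨fun σ τ => AlgHom.coe_ringHom_injective ?_⟩, ⟨default⟩⟩
    refine Ideal.ResidueField.ringHom_ext (hext _ _ _ fun r => ?_)
    show σ (algebraMap S q.ResidueField (algebraMap R S r)) = τ (algebraMap S q.ResidueField (algebraMap R S r))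
    rw [← hA, AlgHom.commutes, AlgHom.commutes]
  refine ⟨?_, hres⟩
  have hinj : Function.Injective (PrimeSpectrum.comap (algebraMap R S)) := by
    rintro ⟨q, hq⟩ ⟨q', hq'⟩ hPQ
    let p : Ideal R := q.comap (algebraMap R S)
    have he : p = q'.comap (algebraMap R S) := congrArg PrimeSpectrum.asIdeal hPQ
    have : p.IsPrime := inferInstance
    have : q.LiesOver p := ⟨rfl⟩
    have : q'.LiesOver p := ⟨he⟩
    let Ω := AlgebraicClosure p.ResidueField
    have emb : ∀ (Q : Ideal S) [Q.IsPrime] [Q.LiesOver p], ∃ ψ : S →+* Ω,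
        (∀ r, ψ (algebraMap R S r) = algebraMap p.ResidueField Ω (algebraMap R p.ResidueField r)) ∧
          RingHom.ker ψ = Q := by
      intro Q _ _
      let _ := (Ideal.ResidueField.mapₐ p Q (Algebra.ofId R S) (Q.over_def p)).toRingHom.toAlgebra
      have : IsPurelyInseparable p.ResidueField Q.ResidueField := hres Q p
      have : Algebra.IsAlgebraic p.ResidueField Q.ResidueField := inferInstance
      let σ : Q.ResidueField →ₐ[p.ResidueField] Ω := IsAlgClosed.lift
      refine ⟨σ.toRingHom.comp (algebraMap S Q.ResidueField), fun r => ?_, ?_⟩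
      · show σ (algebraMap S Q.ResidueField (algebraMap R S r)) = _
        rw [show algebraMap S Q.ResidueField (algebraMap R S r) =
          algebraMap p.ResidueField Q.ResidueField (algebraMap R p.ResidueField r) from
            (Ideal.ResidueField.map_algebraMap _ _ _ _ r).symm, AlgHom.commutes]
      · rw [RingHom.ker_comp_of_injective _ σ.toRingHom.injective]
        exact Ideal.ker_algebraMap_residueField Q
    obtain ⟨ψ, hψ, hk⟩ := emb q
    obtain ⟨ψ', hψ', hk'⟩ := emb q'
    refine PrimeSpectrum.ext ?_
    show q = q'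
    rw [← hk, ← hk', hext Ω ψ ψ' fun r => (hψ r).trans (hψ' r).symm]
  have hnil : RingHom.ker (algebraMap R S) ≤ nilradical R := fun r hr => hker r hr
  have hsurj : Function.Surjective (PrimeSpectrum.comap (algebraMap R S)) := fun p => by
    obtain ⟨Q, -, hQ, hQc⟩ := Ideal.exists_ideal_over_prime_of_isIntegral p.asIdeal (⊥ : Ideal S)
      (fun r hr => nilradical_le_prime p.asIdeal (hnil hr))
    exact ⟨⟨Q, hQ⟩, PrimeSpectrum.ext hQc⟩
  exact (isHomeomorph_iff_continuous_isClosedMap_bijective).mpr
    ⟨PrimeSpectrum.continuous_comap _, PrimeSpectrum.isClosedMap_comap_of_isIntegral _ hint, hinj, hsurj⟩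

end Groth.Agent.S2161
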