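import Groth.Statements.S2162
import Mathlib
import Groth.Agent.FieldSep.MacLane
-- import your own Groth.Agent.* helpers here

set_option autoImplicit false
universe u
open CAlg

namespace Groth.Agent.S2162

/-- Let `R → S` be an injective ring map of finite type between domains, with fraction fields `K ⊆ L`.
Then `R → S` is smooth at the zero ideal of `S` if and only if `L` is geometrically reduced over `K`
(the published statement phrases the condition as `L/K` being separable; here separability is
expressed as geometric reducedness). -/
theorem result {R S K L : Type u} [CommRing R] [IsDomain R] [CommRing S]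
    [IsDomain S] [Algebra R S] [FaithfulSMul R S] [Algebra.FiniteType R S] [Field K] [Field L] [Algebra R K] [IsFractionRing R K]
    [Algebra S L] [IsFractionRing S L] [Algebra K L] [Algebra R L] [IsScalarTower R S L] [IsScalarTower R K L] :
    Algebra.IsSmoothAt R (⊥ : Ideal S) ↔ Algebra.IsGeometricallyReduced K L := by
  have hM : (⊥ : Ideal S).primeCompl = nonZeroDivisors S :=
    Submonoid.ext fun x => ⟨fun h => mem_nonZeroDivisors_of_ne_zero h, fun h => nonZeroDivisors.ne_zero h⟩
  have : IsLocalization.AtPrime L (⊥ : Ideal S) := by
    show IsLocalization (⊥ : Ideal S).primeCompl L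
    rw [hM]
    infer_instance
  let e : Localization.AtPrime (⊥ : Ideal S) ≃ₐ[R] L :=
    (IsLocalization.algEquiv (⊥ : Ideal S).primeCompl (Localization.AtPrime (⊥ : Ideal S)) L).restrictScalars R
  show Algebra.FormallySmooth R (Localization.AtPrime (⊥ : Ideal S)) ↔ _
  have : Algebra.FormallyEtale R K := Algebra.FormallyEtale.of_isLocalization (nonZeroDivisors R)
  rw [← Groth.Agent.FieldSep.MacLane.formallySmooth_iff (k := K) (K := L), Algebra.FormallySmooth.iff_of_equiv e]
  exact ⟨fun _ => Algebra.FormallySmooth.of_restrictScalars R K L, fun _ => Algebra.FormallySmooth.comp R K L⟩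

end Groth.Agent.S2162
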