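import Groth.Statements.S2163
import Mathlib
-- import your own Groth.Agent.* helpers here

set_option autoImplicit false
universe u
open CAlg

namespace Groth.Agent.S2163

open scoped TensorProduct

/-- A ring `R` is coherent — every finitely generated ideal is a finitely presented module — if and only
if for every index set `A` (in the same universe) the product module `R^A` is flat. -/
theorem result {R : Type u} [CommRing R] :
    (∀ I : Ideal R, I.FG → Module.FinitePresentation R I) ↔ ∀ (A : Type u), Module.Flat R (A → R) := by
  classical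
  constructor
  · intro h A
    refine Module.Flat.iff_lift_lsmul_comp_subtype_injective.mpr fun I hI => ?_
    have := h I hI
    obtain ⟨n, π, hπ⟩ := Module.Finite.exists_fin' R I
    obtain ⟨T, hT⟩ := Module.FinitePresentation.fg_ker π hπ
    rw [injective_iff_map_eq_zero]
    intro t ht
    obtain ⟨z, rfl⟩ := LinearMap.rTensor_surjective (A → R) hπ t
    let b := Pi.basisFun R (Fin n)
    obtain ⟨c, rfl⟩ : ∃ c : Fin n → (A → R), ∑ i, b i ⊗ₜ[R] c i = z :=
      ⟨_, ((TensorProduct.equivFinsuppOfBasisLeft b).symm_apply_apply z) ▸
        ((TensorProduct.equivFinsuppOfBasisLeft_symm_apply b _).trans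
          (Finsupp.sum_fintype _ _ fun i => TensorProduct.tmul_zero _ _)).symm⟩
    have hk : ∀ a, (fun i => c i a) ∈ Submodule.span R (T : Set (Fin n → R)) := fun a => by
      rw [hT, LinearMap.mem_ker]
      apply Subtype.ext
      have h1 := congrFun ht a
      simp only [map_sum, LinearMap.rTensor_tmul, TensorProduct.lift.tmul, LinearMap.comp_apply,
        LinearMap.lsmul_apply, Finset.sum_apply, Pi.smul_apply, Pi.zero_apply, smul_eq_mul] at h1
      have h2 : (fun i => c i a) = ∑ i, c i a • b i := by
        funext j
        simp [b, Pi.basisFun_apply, Pi.single_apply, Finset.sum_apply]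
      rw [h2, map_sum, Submodule.coe_sum, Submodule.coe_zero, ← h1]
      refine Finset.sum_congr rfl fun i _ => ?_
      rw [map_smul, Submodule.coe_smul, smul_eq_mul, mul_comm]
      rfl
    choose f hf using fun a => Submodule.mem_span_finset'.mp (hk a)
    have hc : ∀ i, c i = ∑ t : T, (t : Fin n → R) i • fun a => f a t := fun i => funext fun a => by
      have := congrFun (hf a) i
      simp only [Finset.sum_apply, Pi.smul_apply, smul_eq_mul] at this ⊢
      rw [← this]
      exact Finset.sum_congr rfl fun t _ => mul_comm _ _
    have hz : ∑ i, b i ⊗ₜ[R] c i = ∑ t : T, (t : Fin n → R) ⊗ₜ[R] fun a => f a t := by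
      simp only [hc, TensorProduct.tmul_sum, ← TensorProduct.smul_tmul]
      rw [Finset.sum_comm]
      refine Finset.sum_congr rfl fun t _ => ?_
      rw [← TensorProduct.sum_tmul]
      congr 1
      funext j
      simp [b, Pi.basisFun_apply, Pi.single_apply, Finset.sum_apply]
    rw [hz, map_sum]
    refine Finset.sum_eq_zero fun t _ => ?_
    rw [LinearMap.rTensor_tmul, show π (t : Fin n → R) = 0 from
      LinearMap.mem_ker.mp (hT.le (Submodule.subset_span t.2)), TensorProduct.zero_tmul]
  · intro h I hI
    have : Module.Finite R I := Module.Finite.iff_fg.mpr hI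
    obtain ⟨n, π, hπ⟩ := Module.Finite.exists_fin' R I
    refine Module.finitePresentation_of_surjective π hπ ?_
    let K := LinearMap.ker π
    let b := Pi.basisFun R (Fin n)
    let z : (Fin n → R) ⊗[R] (K → R) := ∑ i, b i ⊗ₜ[R] fun k : K => (k : Fin n → R) i
    have hz : π.rTensor (K → R) z = 0 := by
      apply Module.Flat.iff_lift_lsmul_comp_subtype_injective.mp (h K) hI
      rw [map_zero]
      funext k
      simp only [z, map_sum, LinearMap.rTensor_tmul, TensorProduct.lift.tmul, LinearMap.comp_apply,
        LinearMap.lsmul_apply, Finset.sum_apply, Pi.smul_apply, Pi.zero_apply, smul_eq_mul]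
      have h2 : (k : Fin n → R) = ∑ i, (k : Fin n → R) i • b i := by
        funext j
        simp [b, Pi.basisFun_apply, Pi.single_apply, Finset.sum_apply]
      have h3 := congrArg Subtype.val (congrArg π h2)
      rw [LinearMap.mem_ker.mp k.2, map_sum, Submodule.coe_sum, Submodule.coe_zero] at h3
      rw [h3]
      refine Finset.sum_congr rfl fun i _ => ?_
      rw [map_smul, Submodule.coe_smul, smul_eq_mul, mul_comm]
      rfl
    have hex := rTensor_exact (K → R) (LinearMap.exact_subtype_ker_map π) hπ
    obtain ⟨w, hw⟩ := (hex z).mp hz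
    obtain ⟨S, hS⟩ := TensorProduct.exists_finset w
    refine ⟨S.image fun p => (p.1 : Fin n → R), le_antisymm (Submodule.span_le.mpr fun x hx => ?_) fun x hx => ?_⟩
    · obtain ⟨p, -, rfl⟩ := Finset.mem_image.mp (Finset.mem_coe.mp hx)
      exact p.1.2
    · let ev : (Fin n → R) ⊗[R] (K → R) →ₗ[R] (Fin n → R) :=
        (TensorProduct.rid R _).toLinearMap ∘ₗ (LinearMap.proj (⟨x, hx⟩ : K)).lTensor _
      have h4 : ev z = x := by
        funext j
        simp [z, ev, b, Pi.basisFun_apply, Pi.single_apply, Finset.sum_apply]
      have h5 := congrArg ev hw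
      rw [h4, hS, map_sum, map_sum] at h5
      rw [← h5]
      refine Submodule.sum_mem _ fun p hp => ?_
      simp only [ev, LinearMap.rTensor_tmul, LinearMap.comp_apply, LinearMap.lTensor_tmul,
        LinearEquiv.coe_coe, TensorProduct.rid_tmul, Submodule.subtype_apply]
      exact Submodule.smul_mem _ _ (Submodule.subset_span (Finset.mem_coe.mpr (Finset.mem_image_of_mem _ hp)))

end Groth.Agent.S2163
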