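import Groth.Statements.S2165
import Groth.Agent.Hensel.Completion
import Groth.Agent.RegLoc.Completion
import Mathlib.RingTheory.Regular.Flat
-- import your own Groth.Agent.* helpers here

set_option autoImplicit false
universe u
open LCI

namespace Groth.Agent.S2165

/-- Let R be a regular ring, p a prime ideal of R and f_1, ..., f_r a regular sequence of R contained in
p. Then the local ring R_p/(f_1, ..., f_r) is a complete intersection: its completion is a regular
local ring modulo a regular sequence. The instance hypothesis that the quotient is local always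
holds. -/
theorem result {R : Type u} [CommRing R] [IsRegularRing R]
    (p : Ideal R) [p.IsPrime] (rs : List R) (hmem : ∀ r ∈ rs, r ∈ p)
    (hreg : RingTheory.Sequence.IsRegular R rs)
    [IsLocalRing (Localization.AtPrime p ⧸
      Ideal.map (algebraMap R (Localization.AtPrime p)) (Ideal.ofList rs))] :
    Pi1.IsCompleteIntersection (Localization.AtPrime p ⧸
      Ideal.map (algebraMap R (Localization.AtPrime p)) (Ideal.ofList rs)) := by
  let L := Localization.AtPrime p
  have : Module.Flat R L := IsLocalization.flat L p.primeCompl
  have hL : IsRegularLocalRing L := inferInstance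
  let I := Ideal.map (algebraMap R L) (Ideal.ofList rs)
  let T := AdicCompletion (IsLocalRing.maximalIdeal L) L
  have : IsRegularLocalRing T := (Groth.Agent.RegLoc.Completion.isRegularLocalRing_completion_iff L).1 hL
  have : Module.Flat L T := inferInstance
  have hw := (RingTheory.Sequence.IsWeaklyRegular.of_flat (S := L) hreg.toIsWeaklyRegular).of_flat (S := T)
  have hmem' : ∀ r ∈ (rs.map (algebraMap R L)).map (algebraMap L T), r ∈ IsLocalRing.maximalIdeal T := by
    intro r hr
    simp only [List.mem_map] at hr
    obtain ⟨_, ⟨s, hs, rfl⟩, rfl⟩ := hr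
    rw [IsLocalRing.mem_maximalIdeal]
    refine map_nonunit (algebraMap L T) _ ?_
    show algebraMap R L s ∈ IsLocalRing.maximalIdeal L
    rw [← Localization.AtPrime.map_eq_maximalIdeal (I := p)]
    exact Ideal.mem_map_of_mem _ (hmem s hs)
  have hle : Ideal.ofList ((rs.map (algebraMap R L)).map (algebraMap L T)) ≤ IsLocalRing.maximalIdeal T :=
    Ideal.span_le.2 fun r hr => hmem' r hr
  have hT : RingTheory.Sequence.IsRegular T ((rs.map (algebraMap R L)).map (algebraMap L T)) := by
    refine ⟨hw, fun h => ?_⟩
    rw [smul_eq_mul, Ideal.mul_top] at h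
    exact (IsLocalRing.maximalIdeal.isMaximal T).ne_top (top_le_iff.1 (h.le.trans hle))
  obtain ⟨e⟩ := Groth.Agent.Hensel.nonempty_quotient_completion_equiv L I
  refine ⟨T, inferInstance, inferInstance, (rs.map (algebraMap R L)).map (algebraMap L T), hmem', hT, ⟨e.trans (Ideal.quotEquivOfEq ?_)⟩⟩
  show Ideal.map (algebraMap L T) I = Ideal.ofList _
  simp only [I, Ideal.map_ofList]

end Groth.Agent.S2165
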