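import Groth.Statements.S2169
import Groth.Agent.Synt44.CIComplete

set_option autoImplicit false
universe u
open LCI

namespace Groth.Agent.S2169

/-- Let A be a complete Noetherian local ring whose completion is a regular local ring modulo a regular
sequence. Then for every surjection R -> A from a regular local ring R, the kernel is generated by a
regular sequence of R. -/
theorem result {A R : Type u} [CommRing A] [CommRing R]
    [IsNoetherianRing A] [IsLocalRing A] [IsAdicComplete (IsLocalRing.maximalIdeal A) A]
    [IsRegularLocalRing R] (f : R →+* A) (hf : Function.Surjective f)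
    (hA : Pi1.IsCompleteIntersection A) :
    ∃ rs : List R, Ideal.ofList rs = RingHom.ker f ∧ RingTheory.Sequence.IsRegular R rs := by
  have hI : RingHom.ker f ≠ ⊤ := RingHom.ker_ne_top f
  let ef : (R ⧸ RingHom.ker f) ≃+* A := RingHom.quotientKerEquivOfSurjective hf
  obtain ⟨d, hd⟩ := Groth.Agent.Synt44.isCompleteIntersection_iff.exists_natCast_eq_dim A
  obtain ⟨e, he, -⟩ := Groth.Agent.RegLoc.exists_natCast_eq_ringKrullDim R
  have h := ((Groth.Agent.S5178.result A R (RingHom.ker f)
    ⟨(AdicCompletion.ofAlgEquiv (IsLocalRing.maximalIdeal A)).symm.toRingEquiv.trans ef.symm⟩ d e hd he).2).2 hA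
  refine (Groth.Agent.Synt44.exists_regular_iff_spanFinrank (RingHom.ker f) hI).2 ?_
  rw [ringKrullDim_eq_of_ringEquiv ef, hd, he]
  exact_mod_cast (by omega : (RingHom.ker f).spanFinrank + d ≤ e)


end Groth.Agent.S2169
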