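import Groth.Statements.S2170
import Groth.Agent.NumType.QForm
import Mathlib.Tactic

set_option autoImplicit false
open Finset
open Models

namespace Groth.Agent.S2170

/-- Let A be a symmetric real n × n matrix with non-negative off-diagonal entries and m a vector with
positive entries such that for every i, ∑_{j ≠ i} A_{ij} m_j ≤ −A_{ii} m_i. Then the kernel of A is
the span of the vectors equal to m on an index set I and zero off I, for those I such that A_{ij} =
0 whenever i ∈ I and j ∉ I and such that equality holds in the above inequality for every i ∈ I. The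
published statement omits the symmetry of A (without which it fails) and applies it only to
symmetric matrices; stated here with A symmetric. -/
theorem result {n : ℕ} (A : Matrix (Fin n) (Fin n) ℝ) (m : Fin n → ℝ)
    (hsymm : A.IsSymm) (hA : ∀ i j, i ≠ j → 0 ≤ A i j) (hm : ∀ i, 0 < m i)
    (hle : ∀ i, ∑ j ∈ univ.erase i, A i j * m j ≤ -(A i i * m i)) :
    LinearMap.ker (Matrix.mulVecLin A) = Submodule.span ℝ
      {x : Fin n → ℝ | ∃ I : Finset (Fin n), (∀ i ∈ I, ∀ j ∉ I, A i j = 0) ∧
        (∀ i ∈ I, ∑ j ∈ univ.erase i, A i j * m j = -(A i i * m i)) ∧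
        x = fun i => if i ∈ I then m i else 0} := by
  classical
  have hrow : ∀ i, A.mulVec m i = A i i * m i + ∑ j ∈ univ.erase i, A i j * m j := fun i => by
    rw [add_sum_erase univ (fun j => A i j * m j) (mem_univ i)]; rfl
  have hle' : ∀ i, A.mulVec m i ≤ 0 := fun i => by linarith [hrow i, hle i]
  refine le_antisymm (fun x hx => ?_) (Submodule.span_le.2 ?_)
  · rw [LinearMap.mem_ker, Matrix.mulVecLin_apply] at hx
    set y : Fin n → ℝ := fun i => x i / m i with hy
    have hxy : (fun i => m i * y i) = x := funext fun i => by
      rw [hy]; field_simp [(hm i).ne']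
    obtain ⟨h0, hedge⟩ := NumType.QForm.quad_eq_zero A m hsymm hA hm hle' y (by simp [hxy, hx])
    have hsum : x = ∑ t ∈ (univ.image y).erase 0,
        t • fun i => if i ∈ univ.filter (fun k => y k = t) then m i else 0 := by
      funext i
      simp only [Finset.sum_apply, Pi.smul_apply, smul_eq_mul, mem_filter, mem_univ, true_and,
        mul_ite, mul_zero, sum_ite_eq, mem_erase, mem_image, exists_apply_eq_apply, and_true]
      rw [← congrFun hxy i]
      split
      · ring
      · rename_i h
        simp [not_not.1 h]
    rw [hsum]
    refine Submodule.sum_mem _ fun t ht => Submodule.smul_mem _ _ (Submodule.subset_span ?_)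
    refine ⟨_, fun i hi j hj => ?_, fun i hi => ?_, rfl⟩
    · by_contra hne
      simp only [mem_filter, mem_univ, true_and] at hi hj
      exact hj ((hedge i j hne).symm.trans hi)
    · simp only [mem_filter, mem_univ, true_and] at hi
      have := h0 i (hi ▸ (mem_erase.1 ht).1)
      linarith [hrow i]
  · rintro x ⟨I, hI, heq, rfl⟩
    simp only [SetLike.mem_coe, LinearMap.mem_ker, Matrix.mulVecLin_apply]
    funext i
    change ∑ j, A i j * (if j ∈ I then m j else 0) = 0
    by_cases hi : i ∈ I
    · have : ∀ j, A i j * (if j ∈ I then m j else 0) = A i j * m j := fun j => by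
        split
        · rfl
        · rw [hI i hi j ‹_›]; simp
      simp only [this]
      have h1 := heq i hi
      rw [← add_sum_erase univ (fun j => A i j * m j) (mem_univ i)]
      linarith
    · refine sum_eq_zero fun j _ => ?_
      split
      · rw [← hsymm.apply i j, hI j ‹_› i hi]; simp
      · simp

end Groth.Agent.S2170
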