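import Groth.Statements.S2178
import Groth.Agent.NumType.Basic
import Mathlib.LinearAlgebra.Dimension.RankNullity
import Mathlib.LinearAlgebra.Dimension.DivisionRing
import Mathlib.LinearAlgebra.FreeModule.Finite.Basic

set_option autoImplicit false
open Finset
open Models Models.NumericalType

namespace Groth.Agent.S2178

/-- The Picard group of a numerical type (the cokernel of the matrix (a i j / w i) acting on Z^n) has
free rank one: its rank as a Z-module is 1. -/
theorem result {n : ℕ} (T : Models.NumericalType n) : Module.finrank ℤ T.Pic = 1 := by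
  have hk : ∀ x ∈ LinearMap.ker (Matrix.mulVecLin T.picMatrix), ∀ i j, x i * T.m j = x j * T.m i := by
    intro x hx
    rw [LinearMap.mem_ker, Matrix.mulVecLin_apply] at hx
    have hax : ∀ i, ∑ j, T.a i j * x j = 0 := fun i => by
      have h := congrFun hx i
      simp only [Matrix.mulVec, dotProduct, Pi.zero_apply] at h
      have e : ∀ j, T.a i j * x j = T.w i * (T.picMatrix i j * x j) := fun j => by
        rw [← mul_assoc, NumType.w_mul_c]
      simp only [e, ← mul_sum, h, mul_zero]
    -- shift by a multiple of `m` to get a non-negative vector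
    obtain ⟨N, hN⟩ : ∃ N : ℤ, ∀ i, 0 < x i + N * T.m i := by
      refine ⟨∑ i, |x i| + 1, fun i => ?_⟩
      have h1 : |x i| ≤ ∑ j, |x j| := single_le_sum (fun j _ => abs_nonneg (x j)) (mem_univ i)
      have h2 := neg_abs_le (x i)
      have h3 := T.m_pos i
      by_contra hc
      nlinarith [mul_le_mul_of_nonneg_left (show (1:ℤ) ≤ T.m i by omega) (show 0 ≤ ∑ j, |x j| + 1 by positivity)]
    have h := NumType.subharmonic T (fun i => x i + N * T.m i) (fun i => (hN i).le)
      ⟨⟨0, T.pos⟩, hN _⟩ (fun i _ => by
        have e : ∀ j, T.a i j * (x j + N * T.m j) = T.a i j * x j + N * (T.a i j * T.m j) :=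
          fun j => by ring
        simp only [e, sum_add_distrib, ← mul_sum, hax, NumType.row_sum, mul_zero, add_zero, le_refl])
    intro i j
    linear_combination h.2.1 i j
  set f := Matrix.mulVecLin T.picMatrix
  have h1 := Submodule.finrank_quotient_add_finrank (LinearMap.range f)
  have h2 := Submodule.finrank_quotient_add_finrank (LinearMap.ker f)
  rw [f.quotKerEquivRange.finrank_eq] at h2
  have hm : T.m ∈ LinearMap.ker f := by
    rw [LinearMap.mem_ker, Matrix.mulVecLin_apply]
    funext i
    have h := NumType.row_sum T i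
    have e : ∀ j, T.a i j * T.m j = T.w i * (T.picMatrix i j * T.m j) := fun j => by
      rw [← mul_assoc, NumType.w_mul_c]
    simp only [e, ← mul_sum] at h
    exact (mul_eq_zero.1 h).resolve_left (T.w_pos i).ne'
  have h3 : Module.finrank ℤ (LinearMap.ker f) = 1 := by
    refine le_antisymm ?_ ?_
    · have := LinearMap.finrank_le_finrank_of_injective
        (f := (LinearMap.proj ⟨0, T.pos⟩ : (Fin n → ℤ) →ₗ[ℤ] ℤ).comp (LinearMap.ker f).subtype) ?_
      · simpa using this
      intro x y hxy
      apply Subtype.ext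
      funext i
      have ex := hk _ x.2 i ⟨0, T.pos⟩
      have ey := hk _ y.2 i ⟨0, T.pos⟩
      have hxy' : (x : Fin n → ℤ) ⟨0, T.pos⟩ = (y : Fin n → ℤ) ⟨0, T.pos⟩ := hxy
      rw [hxy', ← ey] at ex
      exact mul_right_cancel₀ (T.m_pos _).ne' ex
    · have : Nontrivial (LinearMap.ker f) := ⟨⟨⟨_, hm⟩, 0, fun h => (T.m_pos ⟨0, T.pos⟩).ne'
        (congrFun (congrArg Subtype.val h) _)⟩⟩
      exact Module.finrank_pos
  simp only [Module.finrank_fin_fun] at h1 h2
  change Module.finrank ℤ ((Fin n → ℤ) ⧸ LinearMap.range f) = 1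
  omega

end Groth.Agent.S2178
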