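import Groth.Statements.S2179
import Groth.Agent.NumType.Basic

set_option autoImplicit false
open Finset
open Models Models.NumericalType

namespace Groth.Agent.S2179

/-- For a numerical type T, the map Z^n -> Z^n multiplying the i-th coordinate by w i induces a
well-defined injective homomorphism from Pic(T), the cokernel of (a i j / w i), to the cokernel of
the matrix a. -/
theorem result {n : ℕ} (T : Models.NumericalType n) :
    ∃ f : T.Pic →+ T.CokerA, Function.Injective f ∧
      ∀ x : Fin n → ℤ, f (Submodule.Quotient.mk x) = Submodule.Quotient.mk (fun i => T.w i * x i) := by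
  let W : (Fin n → ℤ) →ₗ[ℤ] (Fin n → ℤ) := LinearMap.pi fun i => T.w i • LinearMap.proj i
  have hW : ∀ y, W (Matrix.mulVecLin T.picMatrix y) = Matrix.mulVecLin T.a y := fun y => by
    funext i
    simp only [W, LinearMap.pi_apply, LinearMap.smul_apply, LinearMap.proj_apply,
      Matrix.mulVecLin_apply, Matrix.mulVec, dotProduct, smul_eq_mul, mul_sum, ← mul_assoc,
      NumType.w_mul_c]
  refine ⟨(Submodule.mapQ _ _ W ?_).toAddMonoidHom, ?_, fun x => ?_⟩
  · rintro _ ⟨y, rfl⟩
    exact ⟨y, (hW y).symm⟩
  · refine (injective_iff_map_eq_zero _).2 fun q hq => ?_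
    induction q using Submodule.Quotient.induction_on with
    | _ x =>
      rw [LinearMap.toAddMonoidHom_coe, Submodule.mapQ_apply, Submodule.Quotient.mk_eq_zero] at hq
      obtain ⟨y, hy⟩ := hq
      rw [Submodule.Quotient.mk_eq_zero]
      refine ⟨y, funext fun i => ?_⟩
      rw [← hW] at hy
      have := congrFun hy i
      simp only [W, LinearMap.pi_apply, LinearMap.smul_apply, LinearMap.proj_apply, smul_eq_mul] at this
      exact mul_left_cancel₀ (T.w_pos i).ne' this
  · rfl

end Groth.Agent.S2179
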