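import Groth.Statements.S3349
import Groth.Agent.NumType.Basic

set_option autoImplicit false
open Finset
open Models Models.NumericalType

namespace Groth.Agent.S3349

/-- Let T be a numerical type with exactly one index. Then a_11 = 0 and the genus of T is g = 1 + m_1
w_1 (g_1 - 1). Consequently: if g < 0 then g_1 = 0 (and m_1 w_1 = 1 - g); if g = 0 then m_1 = w_1 =
1 and g_1 = 0; if g = 1 then g_1 = 1; if g > 1 then g_1 > 1 (and m_1 w_1 (g_1 - 1) = g - 1). -/
theorem result (T : Models.NumericalType 1) :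
    T.a 0 0 = 0 ∧ T.genus = 1 + T.m 0 * T.w 0 * (T.g 0 - 1) ∧
      (T.genus < 0 → T.g 0 = 0) ∧ (T.genus = 0 → T.m 0 = 1 ∧ T.w 0 = 1 ∧ T.g 0 = 0) ∧
      (T.genus = 1 → T.g 0 = 1) ∧ (1 < T.genus → 1 < T.g 0) := by
  have ha : T.a 0 0 = 0 := by
    have h := NumType.row_sum T 0
    simp at h
    exact h.resolve_right (T.m_pos 0).ne'
  have hg : T.genus = 1 + T.m 0 * T.w 0 * (T.g 0 - 1) := by
    simp [Models.NumericalType.genus, ha]
  have hm := T.m_pos 0
  have hw := T.w_pos 0
  have hg0 := T.g_nonneg 0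
  have hp : 0 < T.m 0 * T.w 0 := mul_pos hm hw
  refine ⟨ha, hg, fun h => by nlinarith, fun h => ?_, fun h => by nlinarith, fun h => by nlinarith⟩
  have e : T.g 0 = 0 := by nlinarith
  have h1 : T.m 0 * T.w 0 = 1 := by rw [hg, e] at h; linarith
  exact ⟨by nlinarith, by nlinarith, e⟩

end Groth.Agent.S3349
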