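import Groth.Statements.S2181
import Groth.Agent.NumType.Pic
import Groth.Agent.NumType.Genus
import Groth.Agent.S3349
import Groth.Agent.S2178
import Mathlib.LinearAlgebra.FreeModule.PID

set_option autoImplicit false
open Finset
open Models Models.NumericalType

namespace Groth.Agent.S2181

/-- If the genus of a numerical type is at most 0 then its Picard group is infinite cyclic. -/
theorem result {n : ℕ} (T : Models.NumericalType n) (hg : T.genus ≤ 0) : Nonempty (T.Pic ≃+ ℤ) := by
  obtain ⟨k, T', f, hmin, hgen, hf⟩ := NumType.exists_minimal T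
  have hk : k = 1 := by
    have := T'.pos
    by_contra h
    have := NumType.one_le_genus T' hmin (by omega)
    omega
  subst hk
  have hbot : LinearMap.range (Matrix.mulVecLin T'.picMatrix) = ⊥ := by
    rw [LinearMap.range_eq_bot]
    ext x i
    have ha : T'.a 0 0 = 0 := (Groth.Agent.S3349.result T').1
    fin_cases i
    simp [Models.NumericalType.picMatrix, ha, Matrix.mulVec, dotProduct]
  let e : T'.Pic ≃ₗ[ℤ] ℤ :=
    (Submodule.quotEquivOfEqBot _ hbot).trans (LinearEquiv.funUnique (Fin 1) ℤ ℤ)
  let F : T.Pic →ₗ[ℤ] ℤ := e.toLinearMap.comp f.toIntLinearMap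
  have hF : Function.Injective F := e.injective.comp hf
  let G := LinearEquiv.ofInjective F hF
  haveI : Module.Free ℤ T.Pic := Module.Free.of_equiv G.symm
  have hr : Module.finrank ℤ T.Pic = Module.finrank ℤ ℤ := by
    rw [Groth.Agent.S2178.result T, Module.finrank_self]
  exact ⟨(LinearEquiv.ofFinrankEq T.Pic ℤ hr).toAddEquiv⟩

end Groth.Agent.S2181
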