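import Groth.Statements.S2183
import Groth.Agent.NumType.Core
import Groth.Agent.S2182

set_option autoImplicit false
open Finset
open Models Models.NumericalType

namespace Groth.Agent.S2183

open Classical in
/-- Let T be a minimal numerical type with n > 1 indices and genus g at least 2, and let J be the set of
indices which are not (-2)-indices. Then J has at most 2g - 2 elements, and for j in J one has g j <
g, m j * |a j j| at most 6g - 6, and m i * a i j at most 6g - 6 for every index i. -/
theorem result {n : ℕ} (T : Models.NumericalType n) (hmin : T.IsMinimal) (hn : 1 < n) (hg : 2 ≤ T.genus) :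
    ((univ.filter fun j => ¬T.IsMinusTwo j).card : ℤ) ≤ 2 * T.genus - 2 ∧
      ∀ j, ¬T.IsMinusTwo j →
        T.g j < T.genus ∧ T.m j * |T.a j j| ≤ 6 * T.genus - 6 ∧
          ∀ i, T.m i * T.a i j ≤ 6 * T.genus - 6 := by
  obtain ⟨h1, h2⟩ := NumType.sum_bad T hmin hn
  refine ⟨?_, fun j hj => ?_⟩
  · refine le_of_eq_of_le ?_ h1
    congr 2
  have hb : j ∈ NumType.bad T := (NumType.mem_bad T).2 hj
  have hm : T.m j * |T.a j j| ≤ 6 * T.genus - 6 :=
    le_trans (single_le_sum (f := fun i => T.m i * |T.a i i|)
      (fun i _ => mul_nonneg (T.m_pos i).le (abs_nonneg _)) hb) h2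
  refine ⟨?_, hm, fun i => ?_⟩
  · have hc : NumType.contrib T j ≤ 2 * T.genus - 2 := by
      rw [NumType.two_genus]
      exact single_le_sum (fun i _ => NumType.contrib_nonneg T hmin hn i) (mem_univ j)
    have hd := NumType.diag_neg T hn j
    have hp := mul_pos (T.m_pos j) (T.w_pos j)
    have := T.g_nonneg j
    have hma : T.m j * T.a j j < 0 := mul_neg_of_pos_of_neg (T.m_pos j) hd
    by_contra hge
    unfold NumType.contrib at hc
    nlinarith
  · by_cases hpos : 0 < T.a i j
    · exact ((Groth.Agent.S2182.result T i j hpos).1).trans hm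
    · have := mul_nonpos_of_nonneg_of_nonpos (T.m_pos i).le (not_lt.1 hpos)
      have : 0 ≤ T.m j * |T.a j j| := mul_nonneg (T.m_pos j).le (abs_nonneg _)
      linarith

end Groth.Agent.S2183
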