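import Groth.Statements.S2185
import Groth.Agent.NumType.Pic
import Groth.Agent.NumType.Bound
import Groth.Agent.S2179
import Groth.Agent.S2172
import Groth.Agent.S3349
import Mathlib.Algebra.Module.PID
import Mathlib.GroupTheory.FiniteAbelian.Basic

set_option autoImplicit false
open Finset
open Models Models.NumericalType

namespace Groth.Agent.S2185

/-- Let T be a numerical type of genus g at least 2 and l a prime bigger than 768 g. Then the l-torsion
subgroup of Pic(T) has at most l^g elements (F_l-dimension at most g); if T is minimal it has at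
most l^(g_top) elements where g_top is the topological genus, itself at most g. -/
theorem result {n : ℕ} (T : Models.NumericalType n) (hg : 2 ≤ T.genus) (ℓ : ℕ) (hℓ : ℓ.Prime)
    (hℓg : 768 * T.genus < ℓ) :
    Nat.card (Submodule.torsionBy ℤ T.Pic (ℓ : ℤ)) ≤ ℓ ^ T.genus.toNat ∧
      (T.IsMinimal → Nat.card (Submodule.torsionBy ℤ T.Pic (ℓ : ℤ)) ≤ ℓ ^ T.topGenus.toNat ∧
        T.topGenus ≤ T.genus) := by
  classical
  have tors : ∀ {k k' : ℕ} {A : Type} {B : Type} [AddCommGroup A] [AddCommGroup B] (f : A →+ B),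
      Function.Injective f → ∀ {b : ℕ}, Finite (Submodule.torsionBy ℤ B (ℓ : ℤ)) →
      Nat.card (Submodule.torsionBy ℤ B (ℓ : ℤ)) ≤ b →
      Nat.card (Submodule.torsionBy ℤ A (ℓ : ℤ)) ≤ b := by
    intro k k' A B _ _ f hf b hfin hb
    refine le_trans (Nat.card_le_card_of_injective (fun x => (⟨f x.1, ?_⟩ : Submodule.torsionBy ℤ B (ℓ : ℤ)))
      (fun x y h => Subtype.ext (hf (congrArg Subtype.val h)))) hb
    have := x.2
    rw [Submodule.mem_torsionBy_iff] at this ⊢
    rw [← map_zsmul, this, map_zero]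
  have main : ∀ {k : ℕ} (T : Models.NumericalType k), 2 ≤ T.genus → 768 * T.genus < ℓ → T.IsMinimal →
      Finite (Submodule.torsionBy ℤ T.Pic (ℓ : ℤ)) ∧
      Nat.card (Submodule.torsionBy ℤ T.Pic (ℓ : ℤ)) ≤ ℓ ^ T.topGenus.toNat ∧ T.topGenus ≤ T.genus := by
    intro k T hg hℓg hmin
    have htop : T.topGenus ≤ T.genus := by
      rcases Nat.lt_or_ge 1 k with hk | hk
      · exact NumType.topGenus_le_genus T hmin hk
      · have := T.pos
        obtain rfl : k = 1 := by omega
        have : T.edgeCount = 0 := by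
          simp only [Models.NumericalType.edgeCount, Finset.card_eq_zero]
          refine Finset.filter_eq_empty_iff.2 fun p _ => ?_
          simp [Subsingleton.elim p.1 p.2]
        simp [Models.NumericalType.topGenus, this]
        omega
    obtain ⟨f, hf, -⟩ := Groth.Agent.S2179.result T
    have hb := NumType.m_a_le hmin hg
    have hA : ∀ i j, T.a i j ≠ 0 → ¬ ((ℓ : ℤ) ∣ T.a i j) := fun i j hne hd => by
      have h1 : (ℓ : ℤ) ≤ |T.a i j| := Int.le_of_dvd (abs_pos.2 hne) ((dvd_abs _ _).2 hd)
      have h2 : |T.a i j| ≤ T.m i * |T.a i j| := le_mul_of_one_le_left (abs_nonneg _) (T.m_pos i)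
      linarith [hb i j]
    have hm : ∀ i, ¬ ((ℓ : ℤ) ∣ T.m i) := fun i hd => by
      have h1 : (ℓ : ℤ) ≤ T.m i := Int.le_of_dvd (T.m_pos i) hd
      rcases Nat.lt_or_ge 1 k with hk | hk
      · have h2 : T.m i ≤ T.m i * |T.a i i| :=
          le_mul_of_one_le_right (T.m_pos i).le (abs_pos.2 (NumType.diag_neg T hk i).ne)
        linarith [hb i i]
      · have := T.pos
        obtain rfl : k = 1 := by omega
        obtain ⟨-, hgen, -, -, -, h6⟩ := Groth.Agent.S3349.result T
        have h7 := h6 (by omega)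
        rw [Subsingleton.elim i 0] at h1
        have := T.w_pos 0
        have := T.m_pos 0
        nlinarith [mul_le_mul_of_nonneg_left (show 1 ≤ T.w 0 * (T.g 0 - 1) by nlinarith) (T.m_pos 0).le]
    have hbound := Groth.Agent.S2172.result T.a T.m T.symm T.offDiag_nonneg T.m_pos T.mulVec_m T.connected ℓ hℓ hA hm
    have hfin : Finite (Submodule.torsionBy ℤ T.CokerA (ℓ : ℤ)) := by
      haveI : Module.Finite ℤ (Submodule.torsionBy ℤ T.CokerA (ℓ : ℤ)) := inferInstance
      exact Module.finite_of_fg_torsion _ fun x => ⟨⟨(ℓ : ℤ), mem_nonZeroDivisors_iff_ne_zero.2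
        (Int.natCast_ne_zero.2 hℓ.ne_zero)⟩, Subtype.ext ((Submodule.mem_torsionBy_iff _ _).1 x.2)⟩
    have hfinP : Finite (Submodule.torsionBy ℤ T.Pic (ℓ : ℤ)) := by
      refine Finite.of_injective (fun x => (⟨f x.1, ?_⟩ : Submodule.torsionBy ℤ T.CokerA (ℓ : ℤ)))
        (fun x y h => Subtype.ext (hf (congrArg Subtype.val h)))
      have := x.2
      rw [Submodule.mem_torsionBy_iff] at this ⊢
      rw [← map_zsmul, this, map_zero]
    refine ⟨hfinP, ?_, htop⟩
    refine (tors (k := k) (k' := k) f hf hfin hbound).trans (Nat.pow_le_pow_right hℓ.pos ?_)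
    have := NumType.topGenus_nonneg T
    simp only [Models.NumericalType.topGenus, Models.NumericalType.edgeCount] at this ⊢
    omega
  refine ⟨?_, fun hmin => (main T hg hℓg hmin).2⟩
  obtain ⟨k, T', f, hmin, hgen, hf⟩ := NumType.exists_minimal T
  obtain ⟨hfin, h1, h2⟩ := main T' (by omega) (by omega) hmin
  refine (tors (k := k) (k' := k) f hf hfin h1).trans (Nat.pow_le_pow_right hℓ.pos ?_)
  omega

end Groth.Agent.S2185
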