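import Groth.Statements.S2186
import Groth.Agent.CInt77.PresCompare

set_option autoImplicit false
universe u
open LCI

namespace Groth.Agent.S2186

/-- Let A -> B be a local homomorphism of complete Noetherian local rings, and take two factorizations A
-> S -> B and A -> S' -> B through Noetherian local rings with S -> B and S' -> B surjective, A -> S
and A -> S' flat, and regular closed fibres S/m_A S and S'/m_A S'. Then the kernel of S -> B is cut
out by a regular sequence exactly when the kernel of S' -> B is. -/
theorem result {A B S S' : Type u} [CommRing A] [CommRing B]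
    [CommRing S] [CommRing S'] [IsNoetherianRing A] [IsNoetherianRing B] [IsNoetherianRing S]
    [IsNoetherianRing S'] [IsLocalRing A] [IsLocalRing B] [IsLocalRing S] [IsLocalRing S']
    [IsAdicComplete (IsLocalRing.maximalIdeal A) A] [IsAdicComplete (IsLocalRing.maximalIdeal B) B]
    [Algebra A B] [Algebra A S] [Algebra A S'] [IsLocalHom (algebraMap A B)]
    [Module.Flat A S] [Module.Flat A S']
    [IsRegularLocalRing (S ⧸ Ideal.map (algebraMap A S) (IsLocalRing.maximalIdeal A))]
    [IsRegularLocalRing (S' ⧸ Ideal.map (algebraMap A S') (IsLocalRing.maximalIdeal A))]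
    (g : S →ₐ[A] B) (g' : S' →ₐ[A] B) (hg : Function.Surjective g)
    (hg' : Function.Surjective g') :
    (∃ rs : List S, Ideal.ofList rs = RingHom.ker g ∧ RingTheory.Sequence.IsRegular S rs) ↔
      (∃ rs' : List S', Ideal.ofList rs' = RingHom.ker g' ∧
        RingTheory.Sequence.IsRegular S' rs') := by
  haveI : IsRegularLocalRing (EGA4.FibRing A S) :=
    inferInstanceAs (IsRegularLocalRing (S ⧸ Ideal.map (algebraMap A S) (IsLocalRing.maximalIdeal A)))
  haveI : IsRegularLocalRing (EGA4.FibRing A S') :=
    inferInstanceAs (IsRegularLocalRing (S' ⧸ Ideal.map (algebraMap A S') (IsLocalRing.maximalIdeal A)))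
  haveI : IsLocalHom (algebraMap A S) := ⟨fun a ha => IsLocalHom.map_nonunit (f := algebraMap A B) a (by
    have h := ha.map g
    rwa [g.commutes] at h)⟩
  haveI : IsLocalHom (algebraMap A S') := ⟨fun a ha => IsLocalHom.map_nonunit (f := algebraMap A B) a (by
    have h := ha.map g'
    rwa [g'.commutes] at h)⟩
  exact CInt77.regular_ker_iff g g' hg hg'

end Groth.Agent.S2186
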