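import Groth.Statements.S2187
import Groth.Agent.LCI.Vasconcelos

set_option autoImplicit false
universe u
open CategoryTheory
open LCI

namespace Groth.Agent.S2187

/-- Let R be a Noetherian local ring and I an ideal of finite projective dimension as an R-module. If F
is a direct summand of the conormal module I/I^2 which is isomorphic to R/I, then there is a
nonzerodivisor x in I whose class in I/I^2 generates F. -/
theorem result {R : Type u} [CommRing R]
    [IsNoetherianRing R] [IsLocalRing R] (I : Ideal R) (n : ℕ)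
    (hpd : HasProjectiveDimensionLT (ModuleCat.of R I) n)
    (F G : Submodule (R ⧸ I) I.Cotangent) (hFG : IsCompl F G) (e : F ≃ₗ[R ⧸ I] (R ⧸ I)) :
    ∃ (x : R) (hx : x ∈ I), x ∈ nonZeroDivisors R ∧
      Submodule.span (R ⧸ I) {I.toCotangent ⟨x, hx⟩} = F := by
  have hpd' : HasProjectiveDimensionLE (ModuleCat.of R I) n :=
    hasProjectiveDimensionLT_of_ge _ n (n + 1) (Nat.le_succ n)
  let pr := Submodule.projectionOnto F G hFG
  let lam : I →ₗ[R] R ⧸ I :=
    ((e.toLinearMap.comp pr).restrictScalars R).comp I.toCotangent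
  obtain ⟨x₀, hx₀⟩ := I.toCotangent_surjective (e.symm 1 : I.Cotangent)
  have h1 : lam x₀ = 1 := by
    simp [lam, pr, hx₀, Submodule.projectionOnto_apply_left]
  obtain ⟨y, hy, hreg⟩ := Groth.Agent.LCI.Vasconcelos.exists_nonZeroDivisor I n hpd' x₀ lam h1
  refine ⟨y, y.2, hreg, ?_⟩
  have hcls : I.toCotangent y = (e.symm 1 : I.Cotangent) := by
    rw [← hx₀, Ideal.toCotangent_eq]
    exact hy
  rw [hcls]
  refine le_antisymm ((Submodule.span_singleton_le_iff_mem _ _).2 (e.symm 1).2) fun w hw => ?_
  refine Submodule.mem_span_singleton.2 ⟨e ⟨w, hw⟩, ?_⟩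
  rw [← Submodule.coe_smul, ← map_smul, smul_eq_mul, mul_one, LinearEquiv.symm_apply_apply]

end Groth.Agent.S2187
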