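import Groth.Statements.S2188
import Groth.Agent.LCI.Vasconcelos

set_option autoImplicit false
universe u
open CategoryTheory
open LCI

namespace Groth.Agent.S2188

/-- Let R be a Noetherian local ring and I an ideal of finite projective dimension as an R-module. If F
is a direct summand of I/I^2 which is free of rank r over R/I, then there is a regular sequence x_1,
..., x_r of R inside I whose classes in I/I^2 generate F. -/
theorem result {R : Type u} [CommRing R]
    [IsNoetherianRing R] [IsLocalRing R] (I : Ideal R) (hI : I ≠ ⊤) (n : ℕ)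
    (hpd : HasProjectiveDimensionLT (ModuleCat.of R I) n)
    (F G : Submodule (R ⧸ I) I.Cotangent) (hFG : IsCompl F G) (r : ℕ)
    (e : F ≃ₗ[R ⧸ I] (Fin r → R ⧸ I)) :
    ∃ (x : Fin r → R) (hx : ∀ i, x i ∈ I), RingTheory.Sequence.IsRegular R (List.ofFn x) ∧
      Submodule.span (R ⧸ I) (Set.range fun i => I.toCotangent ⟨x i, hx i⟩) = F := by
  classical
  have hpd' : HasProjectiveDimensionLE (ModuleCat.of R I) n :=
    hasProjectiveDimensionLT_of_ge _ n (n + 1) (Nat.le_succ n)
  let pr := Submodule.projectionOnto F G hFG
  let lam : I →ₗ[R] Fin r → R ⧸ I :=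
    ((e.toLinearMap.comp pr).restrictScalars R).comp I.toCotangent
  choose x₀ hx₀ using fun j : Fin r => I.toCotangent_surjective (e.symm (Pi.single j 1) : I.Cotangent)
  have h1 : ∀ j, lam (x₀ j) = Pi.single j 1 := fun j => by
    simp [lam, pr, hx₀, Submodule.projectionOnto_apply_left]
  obtain ⟨y, hy, hreg⟩ :=
    Groth.Agent.LCI.Vasconcelos.exists_isRegular r R I hI n hpd' x₀ lam h1
  refine ⟨fun j => y j, fun j => (y j).2, hreg, ?_⟩
  have hcls : (fun i => I.toCotangent ⟨(y i : R), (y i).2⟩) =
      fun i => F.subtype (e.symm (Pi.single i 1)) := funext fun j => by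
    rw [Submodule.subtype_apply, ← hx₀, Ideal.toCotangent_eq]
    exact hy j
  rw [hcls, show (fun i => F.subtype (e.symm (Pi.single i 1))) =
      F.subtype ∘ ((Pi.basisFun (R ⧸ I) (Fin r)).map e.symm) from funext fun i => by simp,
    Set.range_comp, Submodule.span_image, Module.Basis.span_eq, Submodule.map_top,
    Submodule.range_subtype]

end Groth.Agent.S2188
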