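import Groth.Statements.S2194
import Groth.Agent.DPow95.FreeAlg
import Mathlib.RingTheory.DividedPowers.SubDPIdeal
import Mathlib.Algebra.MvPolynomial.CommRing
import Mathlib.RingTheory.MvPolynomial.Basic

set_option autoImplicit false
universe u
open DPow

namespace Groth.Agent.S2194

/-- Let (A, I) be a ring with a divided power structure on I, B an A-algebra and J an ideal of B
containing I B. Then there is a divided power ring (D, J') with a ring map B -> D carrying J into J'
whose composite with A -> B is a homomorphism of divided power rings, universal for such data: for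
every divided power ring (C, K) with a divided power homomorphism A -> C and every A-algebra map B
-> C carrying J into K there is exactly one divided power homomorphism D -> C compatible with the
maps from B. -/
theorem result {A B : Type u} [CommRing A] [CommRing B] [Algebra A B] {I : Ideal A}
    (γ : DividedPowers I) (J : Ideal B) (hIJ : I.map (algebraMap A B) ≤ J) :
    ∃ (D : Type u) (_ : CommRing D) (_ : Algebra B D) (JD : Ideal D) (γD : DividedPowers JD),
      J.map (algebraMap B D) ≤ JD ∧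
      γ.IsDPMorphism γD ((algebraMap B D).comp (algebraMap A B)) ∧
      ∀ (C : Type u) [CommRing C] [Algebra A C] (K : Ideal C) (δ : DividedPowers K),
        γ.IsDPMorphism δ (algebraMap A C) →
        ∀ ψ : B →ₐ[A] C, J.map ψ ≤ K →
          ∃! χ : D →+* C, χ.comp (algebraMap B D) = ψ ∧ γD.IsDPMorphism δ χ := by
  classical
  obtain ⟨P, hP, hAP, x, hx0, hxmul, b, hb⟩ := DPow95.FreeAlg.exists_model A J
  obtain ⟨δplus, hδp⟩ := DPow95.FreeAlg.exists_dp x hx0 hxmul A b hb
  obtain ⟨δP, ⟨hδ1, hδ2⟩, -⟩ := DPow95.FreeAlg.existsUnique_sup_dp x hx0 hxmul A b hb γ δplus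
  obtain ⟨δQ, hδQ⟩ := DPow95.Extend.exists_extension_of_flat (B := MvPolynomial B P) δP
  let JP : Ideal P := I.map (algebraMap A P) ⊔ DPow95.FreeAlg.Aug x
  let Q := MvPolynomial B P
  let JQ : Ideal Q := JP.map (algebraMap P Q)
  let Spec : ∀ (C : Type u) [CommRing C] (K : Ideal C), DividedPowers K → (Q →+* C) → Prop :=
    fun C _ K δ χ => δQ.IsDPMorphism δ χ ∧
      (∀ b b', χ (MvPolynomial.X (b + b')) = χ (MvPolynomial.X b) + χ (MvPolynomial.X b')) ∧
      (∀ b b', χ (MvPolynomial.X (b * b')) = χ (MvPolynomial.X b) * χ (MvPolynomial.X b')) ∧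
      (∀ a, χ (MvPolynomial.X (algebraMap A B a)) = χ (algebraMap P Q (algebraMap A P a))) ∧
      (∀ j : J, χ (MvPolynomial.X (j : B)) = χ (algebraMap P Q (x j 1)))
  let N : Ideal Q := sInf {M | ∃ (C : Type u) (_ : CommRing C) (K : Ideal C) (δ : DividedPowers K)
    (χ : Q →+* C), Spec C K δ χ ∧ M = RingHom.ker χ}
  have hmem : ∀ {q : Q}, (∀ (C : Type u) [CommRing C] (K : Ideal C) (δ : DividedPowers K)
      (χ : Q →+* C), Spec C K δ χ → χ q = 0) → q ∈ N := by
    intro q h
    refine Submodule.mem_sInf.2 ?_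
    rintro M ⟨C, _, K, δ, χ, hs, rfl⟩
    exact h C K δ χ hs
  have heq : ∀ {q q' : Q}, (∀ (C : Type u) [CommRing C] (K : Ideal C) (δ : DividedPowers K)
      (χ : Q →+* C), Spec C K δ χ → χ q = χ q') →
        Ideal.Quotient.mk N q = Ideal.Quotient.mk N q' := fun h =>
    Ideal.Quotient.eq.2 (hmem fun C _ K δ χ hs => by rw [map_sub, h C K δ χ hs, sub_self])
  have hsub : DividedPowers.IsSubDPIdeal δQ (N ⊓ JQ) :=
    { isSubideal := inf_le_right
      dpow_mem := fun {n} hn {q} hq => by
        refine ⟨?_, δQ.dpow_mem hn hq.2⟩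
        refine Submodule.mem_sInf.2 ?_
        rintro M ⟨C, _, K, δ, χ, hs, rfl⟩
        have h0 : χ q = 0 := Submodule.mem_sInf.1 hq.1 _ ⟨C, _, K, δ, χ, hs, rfl⟩
        rw [RingHom.mem_ker, ← hs.1.dpow_comp q hq.2, h0, δ.dpow_eval_zero hn] }
  let mkN : Q →+* Q ⧸ N := Ideal.Quotient.mk N
  let γD := DividedPowers.Quotient.dividedPowers δQ hsub
  have hγD : δQ.IsDPMorphism γD mkN := DividedPowers.Quotient.isDPMorphism δQ hsub
  let ω : B →+* Q ⧸ N :=
    { toFun := fun b => mkN (MvPolynomial.X b)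
      map_one' := by
        refine (heq fun C _ K δ χ hs => ?_).trans (map_one mkN)
        have := hs.2.2.2.1 1
        rwa [map_one, map_one, map_one] at this
      map_mul' := fun b b' => by
        rw [← map_mul]; exact heq fun C _ K δ χ hs => by rw [map_mul, hs.2.2.1]
      map_zero' := by
        refine (heq fun C _ K δ χ hs => ?_).trans (map_zero mkN)
        have := hs.2.2.2.1 0
        rwa [map_zero, map_zero, map_zero] at this
      map_add' := fun b b' => by
        rw [← map_add]; exact heq fun C _ K δ χ hs => by rw [map_add, hs.2.1] }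
  have hωA : ∀ a, ω (algebraMap A B a) = mkN (algebraMap P Q (algebraMap A P a)) :=
    fun a => heq fun C _ K δ χ hs => hs.2.2.2.1 a
  refine ⟨Q ⧸ N, inferInstance, ω.toAlgebra, _, γD, ?_, ?_, ?_⟩
  · refine Ideal.map_le_iff_le_comap.2 fun j hj => ?_
    show ω j ∈ JQ.map mkN
    rw [show ω j = mkN (algebraMap P Q (x ⟨j, hj⟩ 1)) from
      heq fun C _ K δ χ hs => hs.2.2.2.2 ⟨j, hj⟩]
    exact Ideal.mem_map_of_mem _ (Ideal.mem_map_of_mem _
      (Submodule.mem_sup_right (DPow95.FreeAlg.mem_Aug x _ 1 le_rfl)))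
  · have hc : ω.comp (algebraMap A B) = (mkN.comp (algebraMap P Q)).comp (algebraMap A P) :=
      RingHom.ext hωA
    show γ.IsDPMorphism γD (ω.comp (algebraMap A B))
    rw [hc]
    exact DividedPowers.IsDPMorphism.comp _ (DividedPowers.IsDPMorphism.comp _ hγD hδQ) hδ1
  · intro C _ _ K δ hδ ψ hψ
    obtain ⟨φ, ⟨hφ, hφk⟩, huniq⟩ := DPow95.FreeAlg.existsUnique_algHom x hx0 hxmul A b hb δ δplus hδp
      (fun j : J => ψ (j : B)) (fun j => hψ (Ideal.mem_map_of_mem _ j.2))
    have hφP : δP.IsDPMorphism δ φ.toRingHom := by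
      refine DividedPowers.IsDPMorphism.on_span _ _
        (S := algebraMap A P '' I ∪ (DPow95.FreeAlg.Aug x : Set P)) ?_ ?_ ?_
      · rw [Ideal.span_union, Ideal.span_eq]; rfl
      · rintro _ (⟨a, ha, rfl⟩ | hy)
        · show φ (algebraMap A P a) ∈ K
          rw [φ.commutes]
          exact hδ.ideal_comp (Ideal.mem_map_of_mem _ ha)
        · exact hφ.ideal_comp (Ideal.mem_map_of_mem _ hy)
      · rintro n _ (⟨a, ha, rfl⟩ | hy)
        · show φ (δP.dpow n (algebraMap A P a)) = δ.dpow n (φ (algebraMap A P a))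
          rw [hδ1.dpow_comp a ha, φ.commutes, φ.commutes, hδ.dpow_comp a ha]
        · rw [hδ2 n _ hy]; exact (hφ.dpow_comp _ hy).symm
    let χQ : Q →+* C := MvPolynomial.eval₂Hom φ.toRingHom ψ
    have hχX : ∀ b, χQ (MvPolynomial.X b) = ψ b := fun b => MvPolynomial.eval₂Hom_X' _ _ b
    have hχC : ∀ p, χQ (algebraMap P Q p) = φ p := fun p => MvPolynomial.eval₂Hom_C _ _ p
    have hχP : χQ.comp (algebraMap P Q) = φ.toRingHom := RingHom.ext hχC
    have hspec : Spec C K δ χQ :=
      ⟨DividedPowers.IsDPMorphism.of_comp _ _ _ (algebraMap P Q) χQ rfl hδQ (by rw [hχP]; exact hφP),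
        fun b b' => by rw [hχX, hχX, hχX, map_add],
        fun b b' => by rw [hχX, hχX, hχX, map_mul],
        fun a => by rw [hχX, hχC, φ.commutes, ψ.commutes],
        fun j => by rw [hχX, hχC]; exact (hφk j).symm⟩
    have hN : ∀ q ∈ N, χQ q = 0 := fun q hq =>
      Submodule.mem_sInf.1 hq _ ⟨C, _, K, δ, χQ, hspec, rfl⟩
    let χ : Q ⧸ N →+* C := Ideal.Quotient.lift N χQ hN
    have hχc : χ.comp mkN = χQ := RingHom.ext fun q => rfl
    refine ⟨χ, ⟨RingHom.ext fun b => hχX b,
      DividedPowers.IsDPMorphism.of_comp _ _ _ mkN χ rfl hγD (by rw [hχc]; exact hspec.1)⟩, ?_⟩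
    rintro χ' ⟨h1, h2⟩
    let η : Q →+* C := χ'.comp mkN
    have hηX : ∀ b, η (MvPolynomial.X b) = ψ b := fun b => RingHom.congr_fun h1 b
    have hηP : δP.IsDPMorphism δ (η.comp (algebraMap P Q)) :=
      DividedPowers.IsDPMorphism.comp _ (DividedPowers.IsDPMorphism.comp _ h2 hγD) hδQ
    have hηA : ∀ a, η (algebraMap P Q (algebraMap A P a)) = algebraMap A C a := fun a => by
      show χ' (mkN _) = _
      rw [← hωA, ← ψ.commutes]
      exact RingHom.congr_fun h1 _
    let ηP : P →ₐ[A] C := { η.comp (algebraMap P Q) with commutes' := hηA }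
    have hle : DPow95.FreeAlg.Aug x ≤ JP := le_sup_right
    have hη : ηP = φ := by
      refine huniq ηP ⟨⟨(Ideal.map_mono hle).trans hηP.ideal_comp, fun {n} a ha => ?_⟩, fun j => ?_⟩
      · have := hηP.dpow_comp (n := n) a (hle ha)
        rwa [hδ2 n a ha] at this
      · show χ' (mkN (algebraMap P Q (x j 1))) = ψ (j : B)
        rw [← show ω (j : B) = mkN (algebraMap P Q (x j 1)) from
          heq fun C _ K δ χ hs => hs.2.2.2.2 j]
        exact RingHom.congr_fun h1 _
    refine Ideal.Quotient.ringHom_ext (MvPolynomial.ringHom_ext (fun p => ?_) fun b => ?_)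
    · exact (AlgHom.congr_fun hη p).trans (hχC p).symm
    · exact (hηX b).trans (hχX b).symm

end Groth.Agent.S2194
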