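import Groth.Statements.S2195
import Mathlib
-- import your own Groth.Agent.* helpers here

set_option autoImplicit false
universe u v
open Disc

namespace Groth.Agent.S2195

open scoped TensorProduct

theorem etale_iff_bijective {A : Type u} {B : Type v} [CommRing A] [CommRing B] [Algebra A B]
    {ι : Type} [Fintype ι] [DecidableEq ι] (b : Module.Basis ι A B) :
    Algebra.Etale A B ↔ Function.Bijective (Algebra.traceForm A B) := by
  classical
  haveI := Module.Free.of_basis b
  haveI := Module.Finite.of_basis b
  have htr : ∀ x, Algebra.trace A B x = ∑ i, b.repr (x * b i) i := fun x ↦ by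
    simp [Algebra.trace_eq_matrix_trace b, Matrix.trace, Algebra.leftMulMatrix_eq_repr_mul]
  have hexp : ∀ x, ∑ i, b.repr x i • b i = x := b.sum_repr
  constructor
  · intro h
    obtain ⟨t, ht, ht1⟩ := Algebra.FormallyUnramified.iff_exists_tensorProduct.mp
      (inferInstance : Algebra.FormallyUnramified A B)
    obtain ⟨c, rfl⟩ : ∃ c : _ → B, ∑ i, b i ⊗ₜ[A] c i = t := by
      let d := (TensorProduct.equivFinsuppOfBasisLeft b t)
      refine ⟨d, ?_⟩
      conv_rhs => rw [← (TensorProduct.equivFinsuppOfBasisLeft b).symm_apply_apply t]
      rw [TensorProduct.equivFinsuppOfBasisLeft_symm_apply, Finsupp.sum_fintype _ _ (by simp)]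
    simp only [map_sum, Algebra.TensorProduct.lmul'_apply_tmul] at ht1
    -- apply `φ ⊗ 1` to `(1 ⊗ x) * t = (x ⊗ 1) * t`
    have hx : ∀ (φ : B →ₗ[A] A) (x : B), x * ∑ i, φ (b i) • c i = ∑ i, φ (x * b i) • c i := by
      intro φ x
      have := congr_arg (fun z ↦ TensorProduct.lid A B (φ.rTensor B z)) (ht x)
      simpa [sub_mul, Finset.mul_sum, sub_eq_zero] using this
    have hTc : ∑ i, Algebra.trace A B (b i) • c i = 1 := by
      have h' : ∀ j x, x * c j = ∑ i, b.repr (x * b i) j • c i := fun j x ↦ by
        simpa [Finsupp.single_apply, ite_smul] using hx (b.coord j) x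
      rw [← ht1]
      calc ∑ i, Algebra.trace A B (b i) • c i = ∑ j, ∑ i, b.repr (b j * b i) j • c i := by
            rw [Finset.sum_comm]
            refine Finset.sum_congr rfl fun i _ ↦ ?_
            rw [htr, Finset.sum_smul]
            simp only [mul_comm]
        _ = ∑ j, b j * c j := by simp only [← h']
    let θ : (B →ₗ[A] A) →ₗ[A] B := ∑ i, (LinearMap.applyₗ (b i)).smulRight (c i)
    have hθ : ∀ x, θ (Algebra.traceForm A B x) = x := fun x ↦ by
      simp only [θ, LinearMap.sum_apply, LinearMap.smulRight_apply, LinearMap.applyₗ_apply_apply,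
        Algebra.traceForm_apply, ← hx (Algebra.trace A B) x, hTc, mul_one]
    have hinj : Function.Injective θ := by
      have hs : Function.Surjective (θ ∘ₗ b.toDualEquiv.toLinearMap) :=
        fun y ↦ ⟨b.toDualEquiv.symm (Algebra.traceForm A B y), by simpa using hθ y⟩
      have := OrzechProperty.injective_of_surjective_endomorphism _ hs
      intro y y' e
      have h2 := @this (b.toDualEquiv.symm y) (b.toDualEquiv.symm y') (by simpa using e)
      simpa using h2
    exact ⟨Function.LeftInverse.injective hθ, fun φ ↦ ⟨θ φ, hinj (hθ _)⟩⟩
  · intro h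
    have : Algebra.FinitePresentation A B := by
      have := Module.finitePresentation_of_projective A B
      exact .of_finitePresentation A B
    have : Algebra.FormallyUnramified A B := by
      rw [Algebra.FormallyUnramified.iff_exists_tensorProduct]
      choose c hc using fun i ↦ h.2 (b.coord i)
      have hc' : ∀ x i, b.repr x i = Algebra.trace A B (c i * x) := fun x i ↦ by
        simpa using (DFunLike.congr_fun (hc i) x).symm
      have hexp' : ∀ y, ∑ j, Algebra.trace A B (y * b j) • c j = y := by
        intro y
        apply h.1
        refine b.ext fun i ↦ ?_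
        simp [← hc', Finsupp.single_apply]
      refine ⟨∑ i, b i ⊗ₜ[A] c i, fun x ↦ ?_, ?_⟩
      · rw [sub_mul, sub_eq_zero, Finset.mul_sum, Finset.mul_sum]
        simp only [Algebra.TensorProduct.tmul_mul_tmul, one_mul]
        calc ∑ i, b i ⊗ₜ[A] (x * c i) = ∑ i, ∑ j, b i ⊗ₜ[A] (Algebra.trace A B (x * c i * b j) • c j) := by
              simp only [← TensorProduct.tmul_sum, hexp']
          _ = ∑ j, (∑ i, b.repr (x * b j) i • b i) ⊗ₜ[A] c j := by
              rw [Finset.sum_comm]
              simp only [TensorProduct.sum_tmul, TensorProduct.smul_tmul, hc']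
              congr! 4
              ring_nf
          _ = _ := by simp only [hexp]
      · simp only [map_sum, Algebra.TensorProduct.lmul'_apply_tmul]
        apply h.1
        refine b.ext fun j ↦ ?_
        simp only [map_sum, LinearMap.sum_apply, Algebra.traceForm_apply, one_mul, htr (b j), hc']
        congr! 2 with i
        ring_nf
    exact Algebra.Etale.of_formallyUnramified_of_flat



/-- Ring form of the statement: let B be an A-algebra which is finite free as an A-module with basis b.
Then A -> B is etale if and only if the discriminant of b (the determinant of the matrix of traces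
Tr(b_i b_j)) is a unit of A, i.e. the discriminant locus is empty. -/
theorem result {A : Type u} {B : Type v} [CommRing A] [CommRing B]
    [Algebra A B] {ι : Type} [Fintype ι] [DecidableEq ι] (b : Module.Basis ι A B) :
    Algebra.Etale A B ↔ IsUnit (Algebra.discr A b) := by
  classical
  rw [etale_iff_bijective b]
  have key : LinearMap.toMatrix b b (b.toDualEquiv.symm.toLinearMap ∘ₗ Algebra.traceForm A B) =
      Algebra.traceMatrix A b := by
    ext i j
    rw [LinearMap.toMatrix_apply, Algebra.traceMatrix_apply]
    rw [show b.repr ((b.toDualEquiv.symm.toLinearMap ∘ₗ Algebra.traceForm A B) (b j)) i =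
        (b.toDual ((b.toDualEquiv.symm.toLinearMap ∘ₗ Algebra.traceForm A B) (b j))) (b i) from
      (b.toDual_apply_left _ i).symm]
    change b.toDualEquiv (b.toDualEquiv.symm (Algebra.traceForm A B (b j))) (b i) = _
    rw [LinearEquiv.apply_symm_apply, Algebra.traceForm_apply, Algebra.traceForm_apply, mul_comm]
  haveI := Module.Free.of_basis b
  haveI := Module.Finite.of_basis b
  rw [Algebra.discr_def, ← key, LinearMap.det_toMatrix, ← LinearMap.isUnit_iff_isUnit_det, Module.End.isUnit_iff,
    LinearMap.coe_comp, LinearEquiv.coe_coe, EquivLike.comp_bijective]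

end Groth.Agent.S2195
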