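import Groth.Statements.S2197
import Groth.Agent.NoetherDiff.FlatMap
-- import your own Groth.Agent.* helpers here

set_option autoImplicit false
universe u
open Disc

namespace Groth.Agent.S2197

open TensorProduct

/-- Part (2): let A -> B be a ring map of finite type and A -> A' a flat ring map, and let B' = B
tensor_A A'. Then the Noether different of B' over A' is the extension to B' of the Noether
different of B over A. -/
theorem result {A B A' B' : Type u} [CommRing A] [CommRing B]
    [CommRing A'] [CommRing B'] [Algebra A B] [Algebra A A'] [Algebra A B'] [Algebra B B']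
    [Algebra A' B'] [IsScalarTower A B B'] [IsScalarTower A A' B']
    [Algebra.IsPushout A B A' B'] [Algebra.FiniteType A B] [Module.Flat A A'] :
    Disc.noetherDifferent A' B' = (Disc.noetherDifferent A B).map (algebraMap B B') := by
  have hB : IsBaseChange A' (IsScalarTower.toAlgHom A B B').toLinearMap :=
    (Algebra.IsPushout.symm (inferInstance : Algebra.IsPushout A B A' B')).out
  let f : B →ₐ[A] B' := IsScalarTower.toAlgHom A B B'
  have hf : f.Flat := by
    have : Module.Flat B B' := Module.Flat.isBaseChange A B A' B'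
      (inferInstance : Algebra.IsPushout A B A' B').out
    exact RingHom.flat_algebraMap_iff.2 this
  -- `B' ⊗_A B = B' ⊗_{A'} B'`
  let Φ : B' ⊗[A] B →ₐ[B'] B' ⊗[A'] B' := Algebra.TensorProduct.lift (Algebra.ofId B' _)
    (((Algebra.TensorProduct.includeRight : B' →ₐ[A'] B' ⊗[A'] B').restrictScalars A).comp f)
    (fun _ _ => Commute.all _ _)
  have hΦ : Function.Bijective Φ := by
    have hcomp := hB.comp (TensorProduct.isBaseChange A' B' B')
    have : (Φ : B' ⊗[A] B → B' ⊗[A'] B') = hcomp.equiv := by
      funext z
      induction z using TensorProduct.induction_on with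
      | zero => simp
      | tmul x y =>
        rw [IsBaseChange.equiv_tmul, Algebra.TensorProduct.lift_tmul]
        change (x ⊗ₜ[A'] (1 : B')) * ((1 : B') ⊗ₜ[A'] f y) = x • ((1 : B') ⊗ₜ[A'] f y)
        rw [Algebra.TensorProduct.tmul_mul_tmul, TensorProduct.smul_tmul', smul_eq_mul]
        simp
      | add a b ha hb => rw [map_add, map_add, ha, hb]
    rw [this]
    exact hcomp.equiv.bijective
  let m : B ⊗[A] B →ₐ[A] B' ⊗[A] B := Algebra.TensorProduct.map f (AlgHom.id A B)
  let θ : B ⊗[A] B →+* B' ⊗[A'] B' := Φ.toRingHom.comp m.toRingHom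
  have hθ : θ.Flat := RingHom.Flat.comp
    (RingHom.Flat.tensorProductMap hf (RingHom.Flat.id B)) (RingHom.Flat.of_bijective hΦ)
  have hθ' : ∀ x y, θ (x ⊗ₜ y) = algebraMap B B' x ⊗ₜ[A'] algebraMap B B' y := by
    intro x y
    change Φ (algebraMap B B' x ⊗ₜ[A] y) = _
    rw [Algebra.TensorProduct.lift_tmul]
    change (algebraMap B B' x ⊗ₜ[A'] (1 : B')) * ((1 : B') ⊗ₜ[A'] f y) = _
    rw [Algebra.TensorProduct.tmul_mul_tmul, mul_one, one_mul]
    rfl
  refine Groth.Agent.NoetherDiff.noetherDifferent_map (algebraMap B B') θ hθ (fun z => ?_) ?_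
  · induction z using TensorProduct.induction_on with
    | zero => simp
    | tmul x y =>
      rw [hθ', Algebra.TensorProduct.lmul'_apply_tmul, Algebra.TensorProduct.lmul'_apply_tmul, map_mul]
    | add a b ha hb => simp only [map_add, ha, hb]
  · rw [← KaehlerDifferential.span_range_eq_ideal, Ideal.span_le]
    rintro _ ⟨x, rfl⟩
    dsimp only
    induction x using hB.inductionOn with
    | zero => simp
    | tmul b =>
      have := Ideal.mem_map_of_mem θ (KaehlerDifferential.one_smul_sub_smul_one_mem_ideal A b)
      rwa [map_sub, hθ', hθ', map_one] at this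
    | smul a x h =>
      rw [TensorProduct.tmul_smul, ← TensorProduct.smul_tmul', ← smul_sub]
      exact Submodule.smul_of_tower_mem _ a h
    | add x y h h' =>
      rw [TensorProduct.tmul_add, TensorProduct.add_tmul, add_sub_add_comm]
      exact Ideal.add_mem _ h h' 

end Groth.Agent.S2197
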