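import Groth.Statements.S2198
import Groth.Agent.QCohGen.Compact
import Groth.Agent.AssSch.Quot
import Groth.Agent.Props.AffineCrit
import Mathlib.RingTheory.LocalRing.Module
import Mathlib.RingTheory.LocalRing.ResidueField.Ideal

set_option autoImplicit false
set_option backward.isDefEq.respectTransparency.types false
universe u
open CategoryTheory AlgebraicGeometry
open QCohCat

namespace Groth.Agent.S2198

section Gabriel

open Groth.Agent.QCoh Groth.Agent.PullStalk.Sky Groth.Agent.PullStalk.Exact
open Groth.Agent.Props.GenLocus Groth.Agent.Props.SubMod Groth.Agent.Props.SubSheaf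
open CategoryTheory.Limits TopologicalSpace Groth.Agent.AssSch.Basic
open scoped TensorProduct

noncomputable section

variable {X : Scheme.{u}}

lemma topmem (x : X) : x ∈ (⊤ : X.Opens) := trivial

/-- The residue field at a point, as a skyscraper module. -/
def kap (x : X) : QCohCat.QCoh X :=
  ⟨sky x (IsLocalRing.ResidueField (X.presheaf.stalk x)), AssSch.Quot.isQuasicoherent_sky x _ fun r hr t => ⟨1, by
    rw [pow_one, Algebra.smul_def]
    refine mul_eq_zero_of_left ?_ _
    exact Ideal.Quotient.eq_zero_iff_mem.mpr hr⟩⟩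

/-- The structure sheaf in `QCoh X`. -/
def one (X : Scheme.{u}) : QCohCat.QCoh X :=
  ⟨Coh.structureModule X, ProjTwist.isQuasicoherent_structureModule X⟩

/-- Reading a section of the skyscraper at `x`. -/
def rd (x : X) (U : X.Opens) (hx : x ∈ U) (t : Γ((kap x).obj, U)) : IsLocalRing.ResidueField (X.presheaf.stalk x) :=
  (show PLift (x ∈ U) → IsLocalRing.ResidueField (X.presheaf.stalk x) from t) ⟨hx⟩

lemma rd_add (x : X) (U : X.Opens) (hx : x ∈ U) (a b : Γ((kap x).obj, U)) :
    rd x U hx (a + b) = rd x U hx a + rd x U hx b := rfl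

lemma rd_smul (x : X) (U : X.Opens) (hx : x ∈ U) (a : Γ(X, U)) (t : Γ((kap x).obj, U)) :
    rd x U hx (a • t) = algebraMap _ (IsLocalRing.ResidueField (X.presheaf.stalk x)) (X.presheaf.germ U x hx a) * rd x U hx t :=
  (show rd x U hx (a • t) = X.presheaf.germ U x hx a • rd x U hx t from rfl).trans (Algebra.smul_def _ _)

lemma rd_res (x : X) {U V : X.Opens} (h : V ≤ U) (hx : x ∈ V) (t : Γ((kap x).obj, U)) :
    rd x V hx (res (kap x).obj h t) = rd x U (h hx) t := rfl

lemma sky_ext (x : X) {U : X.Opens} {a b : Γ((kap x).obj, U)}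
    (h : ∀ hx : x ∈ U, rd x U hx a = rd x U hx b) : a = b :=
  funext fun hx => h hx.down

/-- A constant section of the skyscraper. -/
def cst (x : X) (U : X.Opens) (c : IsLocalRing.ResidueField (X.presheaf.stalk x)) : Γ((kap x).obj, U) :=
  (fun _ => c : PLift (x ∈ U) → IsLocalRing.ResidueField (X.presheaf.stalk x))

/-- The scalar of an endomorphism of the skyscraper. -/
def sc (x : X) (f : kap x ⟶ kap x) : IsLocalRing.ResidueField (X.presheaf.stalk x) :=
  rd x ⊤ (topmem x) (f.hom.app ⊤ (cst x ⊤ 1))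

lemma rd_app (x : X) (f : kap x ⟶ kap x) (U : X.Opens) (hx : x ∈ U) (t : Γ((kap x).obj, U)) :
    rd x U hx (f.hom.app U t) = rd x U hx t * sc x f := by
  obtain ⟨α, hα⟩ := IsLocalRing.residue_surjective (R := X.presheaf.stalk x) (rd x U hx t)
  obtain ⟨V, hxV, a, rfl⟩ := X.presheaf.exists_germ_eq (x := x) α
  have hW : x ∈ U ⊓ V := ⟨hx, hxV⟩
  have e : res (kap x).obj (inf_le_left : U ⊓ V ≤ U) t =
      X.presheaf.map (homOfLE (inf_le_right : U ⊓ V ≤ V)).op a •
        res (kap x).obj (le_top : U ⊓ V ≤ ⊤) (cst x ⊤ 1) := sky_ext x fun hy => by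
    rw [rd_res, rd_smul, rd_res, TopCat.Presheaf.germ_res_apply]
    exact (hα.symm.trans (mul_one _).symm)
  have e2 := congrArg (fun s => rd x (U ⊓ V) hW (f.hom.app (U ⊓ V) s)) e
  rw [app_res, rd_res, Scheme.Modules.Hom.app_smul, rd_smul, app_res, rd_res,
    TopCat.Presheaf.germ_res_apply] at e2
  rw [e2, ← hα]
  rfl

lemma sc_id (x : X) : sc x (𝟙 (kap x)) = 1 := rfl

lemma sc_zero (x : X) : sc x (0 : kap x ⟶ kap x) = 0 := rfl

lemma sc_add (x : X) (f g : kap x ⟶ kap x) : sc x (f + g) = sc x f + sc x g := rfl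

lemma sc_comp (x : X) (f g : kap x ⟶ kap x) : sc x (f ≫ g) = sc x f * sc x g :=
  rd_app x g ⊤ (topmem x) (f.hom.app ⊤ (cst x ⊤ 1))

lemma eq_of_sc (x : X) (f g : kap x ⟶ kap x) (h : sc x f = sc x g) : f = g := by
  refine ObjectProperty.hom_ext _ (Scheme.Modules.hom_ext _ _ fun U => ?_)
  ext t
  exact sky_ext x fun hx => by rw [rd_app, rd_app, h]

/-- Scalar endomorphisms of the skyscraper. -/
def mulEnd (x : X) (c : IsLocalRing.ResidueField (X.presheaf.stalk x)) : kap x ⟶ kap x :=
  ObjectProperty.homMk (toSky (c • ofSky (𝟙 (sky x (IsLocalRing.ResidueField (X.presheaf.stalk x))))))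

lemma sc_mulEnd (x : X) (c : IsLocalRing.ResidueField (X.presheaf.stalk x)) : sc x (mulEnd x c) = c := by
  refine (toSky_app _ ⊤ (cst x ⊤ 1) ⟨topmem x⟩).trans ?_
  change c * (ofSky (𝟙 (sky x (IsLocalRing.ResidueField (X.presheaf.stalk x))))) _ = c
  exact (congrArg (c * ·) (ofSky_germ _ ⊤ (topmem x) _)).trans (mul_one c)

/-- The map from the structure sheaf to the skyscraper. -/
def piK (x : X) : one X ⟶ kap x :=
  ObjectProperty.homMk (homOfSec (L := (kap x).obj) (cst x ⊤ 1))

lemma rd_piK (x : X) (U : X.Opens) (hx : x ∈ U) (a : Γ(X, U)) :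
    rd x U hx ((piK x).hom.app U a) = algebraMap _ (IsLocalRing.ResidueField (X.presheaf.stalk x)) (X.presheaf.germ U x hx a) := by
  have e : (piK x).hom.app U a = a • res (kap x).obj (le_top : U ≤ ⊤) (cst x ⊤ 1) :=
    (app_eq (homOfSec (L := (kap x).obj) (cst x ⊤ 1)) U a).trans
      (congrArg (a • ·) (sec_homOfSec _ U))
  rw [e, rd_smul, rd_res]
  exact mul_one _

lemma residue_ne_zero_iff (x : X) {U : X.Opens} (hx : x ∈ U) (a : Γ(X, U)) :
    algebraMap _ (IsLocalRing.ResidueField (X.presheaf.stalk x)) (X.presheaf.germ U x hx a) ≠ 0 ↔ x ∈ X.basicOpen a := by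
  rw [X.mem_basicOpen a x hx]
  exact IsLocalRing.residue_ne_zero_iff_isUnit _

/-- A nonzero functional on a finite module whose base change to a field is nonzero. -/
lemma exists_functional {A F : Type u} [CommRing A] [Field F] [Algebra A F] (N : Type u)
    [AddCommGroup N] [Module A N] (h : Nontrivial (F ⊗[A] N)) :
    ∃ f : N →ₗ[A] F, f ≠ 0 := by
  obtain ⟨v, hv⟩ := exists_ne (0 : F ⊗[A] N)
  obtain ⟨g, hg⟩ : ∃ g : Module.Dual F (F ⊗[A] N), g v ≠ 0 := by
    by_contra! hg
    exact hv ((Module.forall_dual_apply_eq_zero_iff F v).mp hg)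
  refine ⟨(g.restrictScalars A).comp (TensorProduct.mk A F N 1), fun h0 => hg ?_⟩
  clear hv hg
  induction v using TensorProduct.induction_on with
  | zero => exact map_zero _
  | tmul c n =>
    have hn : g (1 ⊗ₜ[A] n) = 0 := LinearMap.congr_fun h0 n
    rw [show c ⊗ₜ[A] n = c • ((1 : F) ⊗ₜ[A] n) by rw [TensorProduct.smul_tmul', smul_eq_mul, mul_one],
      map_smul, hn, smul_zero]
  | add a b ha hb => rw [map_add, ha, hb, add_zero]

variable {R : Type u} [CommRing R] (e : QCohCat.QCoh X ≌ ModuleCat.{u} R)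

/-- The endomorphism attached to an element of `R`. -/
def act (r : R) (G : QCohCat.QCoh X) : G ⟶ G :=
  e.fullyFaithfulFunctor.preimage (r • 𝟙 (e.functor.obj G))

@[simp] lemma map_act (r : R) (G : QCohCat.QCoh X) :
    e.functor.map (act e r G) = r • 𝟙 (e.functor.obj G) :=
  e.fullyFaithfulFunctor.map_preimage _

lemma act_nat (r : R) {G H : QCohCat.QCoh X} (f : G ⟶ H) : act e r G ≫ f = f ≫ act e r H :=
  e.functor.map_injective (by simp)

lemma act_one (G : QCohCat.QCoh X) : act e 1 G = 𝟙 G := e.functor.map_injective (by simp)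

lemma act_add (r r' : R) (G : QCohCat.QCoh X) : act e (r + r') G = act e r G + act e r' G := by
  haveI : e.functor.Additive := Functor.additive_of_preserves_binary_products _
  exact e.functor.map_injective (by simp [Functor.map_add, add_smul])

lemma act_zero (G : QCohCat.QCoh X) : act e 0 G = 0 := by
  haveI : e.functor.Additive := Functor.additive_of_preserves_binary_products _
  exact e.functor.map_injective (by simp)

lemma act_mul (r r' : R) (G : QCohCat.QCoh X) : act e (r * r') G = act e r G ≫ act e r' G :=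
  e.functor.map_injective (by simp [smul_smul, mul_comm])

/-- The character of `R` at a point. -/
def chi (x : X) : R →+* IsLocalRing.ResidueField (X.presheaf.stalk x) where
  toFun r := sc x (act e r (kap x))
  map_one' := by rw [act_one, sc_id]
  map_mul' r r' := by rw [act_mul, sc_comp]
  map_zero' := by rw [act_zero, sc_zero]
  map_add' r r' := by rw [act_add, sc_add]

/-- The unit section. -/
def unitSec (U : X.Opens) : Γ(Coh.structureModule X, U) := (1 : Γ(X, U))

lemma app_one_mul (f : Coh.structureModule X ⟶ Coh.structureModule X) (U : X.Opens) (a : Γ(X, U)) :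
    (show Γ(X, U) from f.app U a) = a * (show Γ(X, U) from f.app U (unitSec U)) := by
  have h := Scheme.Modules.Hom.app_smul f a (unitSec U)
  refine Eq.trans ?_ h
  exact congrArg (f.app U) (mul_one a).symm

/-- The global function attached to an element of `R`. -/
def glob : R →+* Γ(X, ⊤) where
  toFun r := (show Γ(X, ⊤) from (act e r (one X)).hom.app ⊤ (unitSec ⊤))
  map_one' := by rw [act_one]; rfl
  map_mul' r r' := by
    rw [act_mul]
    exact app_one_mul (act e r' (one X)).hom ⊤ _
  map_zero' := by rw [act_zero]; rfl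
  map_add' r r' := by rw [act_add]; rfl

lemma residue_glob (r : R) (x : X) :
    algebraMap _ (IsLocalRing.ResidueField (X.presheaf.stalk x)) (X.presheaf.germ ⊤ x (topmem x) (glob e r)) = chi e x r := by
  refine ((rd_piK x ⊤ (topmem x) (glob e r)).symm.trans ?_)
  change rd x ⊤ (topmem x) ((act e r (one X) ≫ piK x).hom.app ⊤ (unitSec ⊤)) = _
  rw [act_nat]
  change rd x ⊤ (topmem x) ((act e r (kap x)).hom.app ⊤ ((piK x).hom.app ⊤ (unitSec ⊤))) = _
  rw [rd_app]
  exact (congrArg (· * sc x (act e r (kap x))) ((rd_piK x ⊤ (topmem x) 1).trans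
    ((congrArg _ (map_one _)).trans (map_one _)))).trans (one_mul _)

lemma mem_basicOpen_glob (r : R) (x : X) : x ∈ X.basicOpen (glob e r) ↔ chi e x r ≠ 0 := by
  rw [← residue_glob, residue_ne_zero_iff]

lemma germ_fn {V : X.Opens} (y : X) (hy : y ∈ V) (a : Γ(X, V)) :
    germM (Coh.structureModule X) V y hy a =
      X.presheaf.germ V y hy a • germM (Coh.structureModule X) ⊤ y (topmem y) (unitSec ⊤) := by
  rw [← AssSch.Stalk.germM_res (Coh.structureModule X) (le_top : V ≤ ⊤) y hy (unitSec ⊤), ← germM_smul]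
  refine congrArg (germM (Coh.structureModule X) V y hy) ?_
  exact (mul_one a).symm.trans (congrArg (a * ·) (X.presheaf.map (homOfLE (le_top : V ≤ ⊤)).op).hom.map_one.symm)

/-- `e(O)` is finitely generated. -/
lemma fg_one [CompactSpace X] : Module.Finite R (e.functor.obj (one X)) := by
  classical
  haveI : e.functor.Additive := Functor.additive_of_preserves_binary_products _
  let P := e.inverse.obj (ModuleCat.of R R)
  let φ : e.functor.obj (one X) → (P ⟶ one X) := fun m =>
    e.fullyFaithfulFunctor.preimage ((e.counitIso.app _).hom ≫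
      ModuleCat.ofHom (LinearMap.toSpanSingleton R _ m))
  have hφ : ∀ {G : QCohCat.QCoh X} (m : e.functor.obj (one X)) (f : one X ⟶ G),
      φ m ≫ f = 0 ↔ e.functor.map f m = 0 := by
    intro G m f
    rw [← e.functor.map_eq_zero_iff, Functor.map_comp, Functor.FullyFaithful.map_preimage,
      Category.assoc, ← cancel_epi (e.counitIso.app (ModuleCat.of R R)).inv, Iso.inv_hom_id_assoc,
      comp_zero]
    refine ⟨fun h => ?_, fun h => ?_⟩
    · simpa using congr($h (1 : R))
    · ext
      simpa using h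
  have hne : ∀ x : X, ∃ (m : e.functor.obj (one X)) (U : X.Opens) (p : Γ(P.obj, U)), x ∈ U ∧
      x ∈ X.basicOpen ((φ m).hom.app U p : Γ(X, U)) := by
    intro x
    by_contra! hc
    have hz : piK x = 0 := by
      refine e.functor.map_injective ?_
      rw [Functor.map_zero]
      ext m
      refine (hφ m (piK x)).mp ?_
      refine ObjectProperty.hom_ext _ (Scheme.Modules.hom_ext _ _ fun U => ?_)
      ext p
      refine sky_ext x fun hx => ?_
      change rd x U hx ((piK x).hom.app U ((φ m).hom.app U p)) = 0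
      rw [rd_piK]
      by_contra h
      exact hc m U p hx ((residue_ne_zero_iff x hx _).mp h)
    have h1 := rd_piK x ⊤ (topmem x) 1
    rw [hz, map_one, map_one] at h1
    exact zero_ne_one h1
  choose m U p hxU hxb using hne
  obtain ⟨T, hT⟩ := isCompact_univ.elim_finite_subcover
    (fun x : X => ((X.basicOpen ((φ (m x)).hom.app (U x) (p x) : Γ(X, U x))) : Set X))
    (fun x => Opens.isOpen _) (fun x _ => Set.mem_iUnion.mpr ⟨x, hxb x⟩)
  let N : Submodule R (e.functor.obj (one X)) := Submodule.span R ((T.image m : Finset _) : Set _)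
  suffices hN : N = ⊤ from ⟨⟨T.image m, hN⟩⟩
  let L := e.inverse.obj (ModuleCat.of R (_ ⧸ N))
  let f : one X ⟶ L :=
    e.fullyFaithfulFunctor.preimage (ModuleCat.ofHom N.mkQ ≫ (e.counitIso.app _).inv)
  have hmap : e.functor.map f = ModuleCat.ofHom N.mkQ ≫ (e.counitIso.app _).inv :=
    e.fullyFaithfulFunctor.map_preimage _
  have hf : ∀ i ∈ T, φ (m i) ≫ f = 0 := fun i hi => by
    rw [hφ, hmap]
    change (e.counitIso.app (ModuleCat.of R (e.functor.obj (one X) ⧸ N))).inv (N.mkQ (m i)) = 0
    rw [Submodule.mkQ_apply, (Submodule.Quotient.mk_eq_zero N).mpr (Submodule.subset_span (Finset.mem_image_of_mem m hi)),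
      map_zero]
  have hf0 : f = 0 := by
    refine ObjectProperty.hom_ext _ (Scheme.Modules.hom_ext _ _ fun V => ?_)
    ext (a : Γ(X, V))
    refine eq_zero_of_germ_eq_zero L.obj _ fun y hy => ?_
    obtain ⟨i, hi, hyb⟩ : ∃ i ∈ T, y ∈ X.basicOpen ((φ (m i)).hom.app (U i) (p i) : Γ(X, U i)) := by
      simpa using hT (Set.mem_univ y)
    have hyU := X.basicOpen_le _ hyb
    set u : Γ(X, U i) := (φ (m i)).hom.app (U i) (p i)
    obtain ⟨β, hβ⟩ := ((X.mem_basicOpen u y hyU).mp hyb).exists_right_inv
    have h0 : f.hom.app (U i) u = 0 := by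
      change (φ (m i) ≫ f).hom.app (U i) (p i) = 0
      rw [hf i hi]
      rfl
    change germM L.obj V y hy (f.hom.app V (show Γ(Coh.structureModule X, V) from a)) = 0
    refine (stalkLin_germ f.hom V y hy (show Γ(Coh.structureModule X, V) from a)).symm.trans ?_
    have ha : germM (Coh.structureModule X) V y hy a =
        (X.presheaf.germ V y hy a * β) • germM (Coh.structureModule X) (U i) y hyU u := by
      rw [germ_fn y hy a, germ_fn y hyU u, smul_smul, mul_assoc, mul_comm β, hβ, mul_one]
    refine (congrArg (stalkLin f.hom y) ha).trans ?_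
    refine (map_smul (stalkLin f.hom y) _ _).trans ?_
    refine (congrArg (_ • ·) ((stalkLin_germ f.hom (U i) y hyU u).trans
      ((congrArg (germM L.obj (U i) y hyU) h0).trans (AssSch.Stalk.germM_zero _ y hyU)))).trans ?_
    exact smul_zero _
  rw [hf0, Functor.map_zero] at hmap
  have h1 : ModuleCat.ofHom N.mkQ = 0 := by
    rw [← cancel_mono (e.counitIso.app (ModuleCat.of R (_ ⧸ N))).inv, zero_comp]
    exact hmap.symm
  exact (Submodule.ker_mkQ N).symm.trans (LinearMap.ker_eq_top.mpr (congrArg ModuleCat.Hom.hom h1))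

/-- Every point of an affine open has a principal affine neighbourhood from `R`. -/
lemma exists_good [CompactSpace X] (x : X) {U : X.Opens} (hU : IsAffineOpen U) (hx : x ∈ U) :
    ∃ r : R, IsAffineOpen (X.basicOpen (glob e r)) ∧ x ∈ X.basicOpen (glob e r) := by
  haveI : e.functor.Additive := Functor.additive_of_preserves_binary_products _
  let I : X.IdealSheafData :=
    Scheme.IdealSheafData.vanishingIdeal ⟨(U : Set X)ᶜ, U.isOpen.isClosed_compl⟩
  have hI : (I.support : Set X) = (U : Set X)ᶜ := by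
    simp [I, Scheme.IdealSheafData.coe_support_vanishingIdeal]
  haveI : (ClSub.idealMod I).IsQuasicoherent := AmpleLib.isQCoh_idealMod I
  haveI : (Coh.structureModule X).IsQuasicoherent := ProjTwist.isQuasicoherent_structureModule X
  let Q : QCohCat.QCoh X := ⟨cokernel (ClSub.idealModι I), QCoh.isQuasicoherent_cokernel _⟩
  let π : one X ⟶ Q := ObjectProperty.homMk (cokernel.π (ClSub.idealModι I))
  haveI : Epi π := ⟨fun {Z} g g' h => ObjectProperty.hom_ext _
    ((cancel_epi (cokernel.π (ClSub.idealModι I))).mp (congrArg (fun t => t.hom) h))⟩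
  have hzero : ∀ ψ : Q ⟶ kap x, ψ = 0 := by
    intro ψ
    rw [← cancel_epi π, comp_zero]
    obtain ⟨t, ht⟩ := Props.AffineCrit.exists_sect_one I (W := U) (hI ▸ disjoint_compl_right)
    refine ObjectProperty.hom_ext _ (Scheme.Modules.hom_ext _ _ fun V => ?_)
    ext (a : Γ(X, V))
    refine sky_ext x fun hxV => ?_
    have hW : x ∈ V ⊓ U := ⟨hxV, hx⟩
    have h0 : (π ≫ ψ).hom.app U (unitSec U) = 0 := by
      have ht' : (ClSub.idealModι I).app U t = unitSec U := ht
      rw [← ht']
      have := congr($(cokernel.condition (ClSub.idealModι I)).app U t)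
      change ψ.hom.app U ((cokernel.π (ClSub.idealModι I)).app U ((ClSub.idealModι I).app U t)) = 0
      rw [show (cokernel.π (ClSub.idealModι I)).app U ((ClSub.idealModι I).app U t) = 0 from this, map_zero]
    let g : Coh.structureModule X ⟶ (kap x).obj := (π ≫ ψ).hom
    let a' : Γ(Coh.structureModule X, V) := a
    change rd x V hxV (g.app V a') = 0
    rw [← rd_res x (inf_le_left : V ⊓ U ≤ V) hW, ← app_res, app_eq g, rd_smul]
    refine mul_eq_zero_of_right _ ?_
    rw [← sec_res g (inf_le_right : V ⊓ U ≤ U), rd_res]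
    exact congrArg (rd x U hx) h0
  haveI := fg_one e
  haveI : Module.Finite R (e.functor.obj Q) := Module.Finite.of_surjective (e.functor.map π).hom
    ((ModuleCat.epi_iff_surjective _).mp inferInstance)
  have hex : ∃ r : R, act e r Q = 0 ∧ chi e x r ≠ 0 := by
    by_contra! hc
    let q : PrimeSpectrum R := ⟨RingHom.ker (chi e x), RingHom.ker_isPrime _⟩
    have hq : q ∈ Module.support R (e.functor.obj Q) := by
      rw [Module.support_eq_zeroLocus, PrimeSpectrum.mem_zeroLocus]
      intro r hr
      rw [SetLike.mem_coe, Module.mem_annihilator] at hr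
      refine hc r (e.functor.map_injective ?_)
      rw [map_act, Functor.map_zero]
      ext m
      exact hr m
    haveI := q.2
    obtain ⟨l, hl⟩ := exists_functional _
      ((Module.mem_support_iff_nontrivial_residueField_tensorProduct q).mp hq)
    let ι : q.asIdeal.ResidueField →+* IsLocalRing.ResidueField (X.presheaf.stalk x) :=
      Ideal.ResidueField.lift q.asIdeal (chi e x) le_rfl (fun r hr => (isUnit_iff_ne_zero.mpr hr))
    have hι : ∀ r, ι (algebraMap R _ r) = chi e x r := fun r => Ideal.ResidueField.lift_algebraMap ..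
    obtain ⟨m, hm⟩ : ∃ m, l m ≠ 0 := by
      by_contra! h
      exact hl (LinearMap.ext h)
    obtain ⟨v, hv⟩ : ∃ v : e.functor.obj (kap x), v ≠ 0 := by
      by_contra! h
      have h0 : (𝟙 (kap x) : kap x ⟶ kap x) = 0 := e.functor.map_injective (by
        ext v
        simp [h v])
      exact zero_ne_one ((sc_zero x).symm.trans ((congrArg (sc x) h0.symm).trans (sc_id x)))
    have hme : ∀ c c' : IsLocalRing.ResidueField (X.presheaf.stalk x), mulEnd x (c + c') = mulEnd x c + mulEnd x c' := fun c c' =>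
      eq_of_sc x _ _ (by rw [sc_add, sc_mulEnd, sc_mulEnd, sc_mulEnd])
    have hact : ∀ (r : R) (c : IsLocalRing.ResidueField (X.presheaf.stalk x)),
        mulEnd x (chi e x r * c) = act e r (kap x) ≫ mulEnd x c := fun r c =>
      eq_of_sc x _ _ (by rw [sc_comp, sc_mulEnd, sc_mulEnd]; rfl)
    let ψ : e.functor.obj Q ⟶ e.functor.obj (kap x) := ModuleCat.ofHom
      { toFun := fun y => e.functor.map (mulEnd x (ι (l y))) v
        map_add' := fun y y' => by
          rw [map_add, map_add, hme, Functor.map_add]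
          rfl
        map_smul' := fun r y => by
          rw [map_smul, Algebra.smul_def, map_mul, hι, hact, Functor.map_comp, map_act]
          simp }
    have hψ := hzero (e.fullyFaithfulFunctor.preimage ψ)
    have h1 := congrArg e.functor.map hψ
    rw [Functor.FullyFaithful.map_preimage, Functor.map_zero] at h1
    have h2 : e.functor.map (mulEnd x (ι (l m))) v = 0 := congr($h1 m)
    set c := ι (l m)
    have hc0 : c ≠ 0 := (map_ne_zero_iff ι ι.injective).mpr hm
    have h3 : mulEnd x c ≫ mulEnd x c⁻¹ = 𝟙 _ := eq_of_sc x _ _ (by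
      rw [sc_comp, sc_mulEnd, sc_mulEnd, sc_id, mul_inv_cancel₀ hc0])
    have h4 := congr($(congrArg e.functor.map h3) v)
    rw [Functor.map_comp, CategoryTheory.Functor.map_id] at h4
    exact hv (h4.symm.trans (by simp [h2]))
  obtain ⟨r, hrQ, hrx⟩ := hex
  refine ⟨r, ?_, (mem_basicOpen_glob e r x).mpr hrx⟩
  have h0 : π.hom.app ⊤ (glob e r) = 0 := by
    change (act e r (one X) ≫ π).hom.app ⊤ (unitSec ⊤) = 0
    rw [act_nat, hrQ, comp_zero]
    rfl
  obtain ⟨t, ht⟩ : ∃ t : Γ(ClSub.idealMod I, ⊤), (ClSub.idealModι I).app ⊤ t = glob e r := by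
    let S := ShortComplex.mk (ClSub.idealModι I) (cokernel.π (ClSub.idealModι I)) (cokernel.condition _)
    haveI : Mono S.f := inferInstanceAs (Mono (kernel.ι (ClSub.toSubscheme I)))
    exact exists_app_eq_of_app_eq_zero S (S.exact_of_g_is_cokernel (cokernelIsCokernel _)) ⊤ _ h0
  have hle : X.basicOpen (glob e r) ≤ U := fun y hy => by
    by_contra hyU
    refine Props.AffineCrit.notMem_basicOpen_sect I t (hI.ge hyU) ?_
    rwa [OmegaSh.idealSect_apply, ht]
  have := hU.basicOpen (rres (le_top : U ≤ ⊤) (glob e r))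
  rwa [Scheme.basicOpen_res, inf_eq_right.mpr hle] at this

/-- A nonzero quasi-coherent module has a nonzero finite type piece mapping to a residue field. -/
lemma exists_point [CompactSpace X] [QuasiSeparatedSpace X] (G : QCohCat.QCoh X) (hG : 𝟙 G ≠ 0) :
    ∃ (G' : QCohCat.QCoh X) (j : G' ⟶ G) (x : X) (φ : G' ⟶ kap x), Mono j ∧ φ ≠ 0 := by
  haveI : G.obj.IsQuasicoherent := G.property
  obtain ⟨W, t, y, hy, ht⟩ : ∃ (W : X.affineOpens) (t : Γ(G.obj, W.1)) (y : X) (hy : y ∈ W.1),
      germM G.obj W.1 y hy t ≠ 0 := by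
    by_contra! hc
    refine hG (ObjectProperty.hom_ext _ (Scheme.Modules.hom_ext _ _ fun V => ?_))
    ext s
    refine eq_zero_of_germ_eq_zero G.obj _ fun y hy => ?_
    obtain ⟨W, hW, hyW, hWV⟩ := exists_isAffineOpen_mem_and_subset hy
    have hWV' : W ≤ V := hWV
    rw [← AssSch.Stalk.germM_res G.obj hWV' y hyW]
    exact hc ⟨W, hW⟩ _ y hyW
  obtain ⟨S, hS, hmem⟩ := QCohGen.Compact.exists_ftOn_containing G.obj ({PUnit.unit} : Finset PUnit.{u+1})
    (fun _ => W) (fun _ => t)
  have hty : germM G.obj W.1 y hy t ∈ S y :=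
    (mem_range_incl S t).mp (hmem _ (Finset.mem_singleton_self _)) y hy
  obtain ⟨V, -, hyV, -, T, hT⟩ := hS y trivial
  haveI : Module.Finite (X.presheaf.stalk y) (S y) := by
    rw [Module.Finite.iff_fg, hT y hyV]
    exact Submodule.fg_span (T.finite_toSet.image _)
  haveI : Nontrivial (S y) := ⟨⟨⟨_, hty⟩, 0, fun h => ht (congrArg Subtype.val h)⟩⟩
  have hnt : Nontrivial (IsLocalRing.ResidueField (X.presheaf.stalk y) ⊗[X.presheaf.stalk y] S y) := by
    rw [← not_subsingleton_iff_nontrivial, IsLocalRing.subsingleton_tensorProduct,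
      not_subsingleton_iff_nontrivial]
    infer_instance
  obtain ⟨l, hl⟩ := exists_functional _ hnt
  have hran : ∀ z, stalkLin (incl S) y z ∈ S y := fun z => by
    obtain ⟨W', hyW', w, rfl⟩ := exists_germM_eq (sub S) y z
    rw [stalkLin_germ]
    exact (mem_range_incl S _).mp ⟨w, rfl⟩ y hyW'
  refine ⟨⟨sub S, isQuasicoherent_sub hS⟩, ObjectProperty.homMk (incl S), y,
    ObjectProperty.homMk (toSky (l.comp (LinearMap.codRestrict (S y) (stalkLin (incl S) y) hran))),
    ⟨fun {Z} g g' h => ObjectProperty.hom_ext _ ((cancel_mono (incl S)).mp (congrArg (fun u => u.hom) h))⟩,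
    fun h => hl ?_⟩
  have h' : ∀ z, l (LinearMap.codRestrict (S y) (stalkLin (incl S) y) hran z) = 0 := by
    intro z
    obtain ⟨W', hyW', w, rfl⟩ := exists_germM_eq (sub S) y z
    exact (toSky_app _ W' w ⟨hyW'⟩).symm.trans
      (congr_fun (congrArg (fun u : (⟨sub S, _⟩ : QCohCat.QCoh X) ⟶ kap y => u.hom.app W' w) h) ⟨hyW'⟩)
  have hsurj : Function.Surjective (LinearMap.codRestrict (S y) (stalkLin (incl S) y) hran) := by
    rw [← LinearMap.range_eq_top, LinearMap.range_codRestrict, Submodule.comap_subtype_eq_top, hT y hyV,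
      spanGerm, Submodule.span_le]
    rintro _ ⟨g, hg, rfl⟩
    obtain ⟨w, hw⟩ := (mem_range_incl S g).mpr fun z hz => by
      rw [hT z hz]
      exact Submodule.subset_span ⟨g, hg, rfl⟩
    exact ⟨germM (sub S) V y hyV w, by rw [stalkLin_germ, hw]⟩
  exact LinearMap.ext fun u => by obtain ⟨z, rfl⟩ := hsurj u; exact h' z

/-- The principal affine opens from `R` have no common zero in `Spec R`. -/
lemma span_good_eq_top [CompactSpace X] [QuasiSeparatedSpace X] :
    Ideal.span {r : R | IsAffineOpen (X.basicOpen (glob e r))} = ⊤ := by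
  haveI : e.functor.Additive := Functor.additive_of_preserves_binary_products _
  by_contra h
  obtain ⟨M, hM, hle⟩ := Ideal.exists_le_maximal _ h
  let G := e.inverse.obj (ModuleCat.of R (R ⧸ M))
  have hG : 𝟙 G ≠ 0 := by
    intro h0
    have h1 : (𝟙 (ModuleCat.of R (R ⧸ M))) = 0 := e.inverse.map_injective (by
      rw [CategoryTheory.Functor.map_id, Functor.map_zero]
      exact h0)
    have h2 := congr($h1 (Ideal.Quotient.mk M 1))
    exact hM.ne_top ((Ideal.eq_top_iff_one M).mpr (Ideal.Quotient.eq_zero_iff_mem.mp h2))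
  obtain ⟨G', j, x, φ, hj, hφ⟩ := exists_point G hG
  obtain ⟨U, hU, hxU, -⟩ := exists_isAffineOpen_mem_and_subset (x := x) (U := (⊤ : X.Opens)) trivial
  obtain ⟨r, hr, hxr⟩ := exists_good e x hU hxU
  have h0 : act e r G' = 0 := by
    rw [← cancel_mono j, act_nat, zero_comp]
    refine (congrArg (j ≫ ·) ?_).trans comp_zero
    refine e.functor.map_injective ?_
    rw [map_act, Functor.map_zero, ← cancel_mono (e.counitIso.app _).hom, zero_comp, Linear.smul_comp,
      Category.id_comp]
    ext z
    obtain ⟨s, hs⟩ := Ideal.Quotient.mk_surjective ((e.counitIso.app _).hom z)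
    change r • (e.counitIso.app _).hom z = 0
    rw [← hs]
    refine (show r • Ideal.Quotient.mk M s = Ideal.Quotient.mk M (r * s) from rfl).trans ?_
    rw [Ideal.Quotient.eq_zero_iff_mem]
    exact M.mul_mem_right _ (hle (Ideal.subset_span hr))
  have h2 : φ ≫ act e r (kap x) = 0 := by rw [← act_nat, h0, zero_comp]
  have hc := (mem_basicOpen_glob e r x).mp hxr
  refine hφ ?_
  rw [← Category.comp_id φ, show 𝟙 (kap x) = act e r (kap x) ≫ mulEnd x (chi e x r)⁻¹ from
    eq_of_sc x _ _ (by rw [sc_comp, sc_mulEnd, sc_id]; exact (mul_inv_cancel₀ hc).symm),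
    ← Category.assoc, h2, zero_comp]

include e in
/-- Gabriel: `X` is affine. -/
theorem isAffine_of_equiv [CompactSpace X] [QuasiSeparatedSpace X] : IsAffine X := by
  refine isAffine_of_isAffineOpen_basicOpen
    (glob e '' {r : R | IsAffineOpen (X.basicOpen (glob e r))}) ?_ ?_
  · rw [← Ideal.map_span, span_good_eq_top, Ideal.map_top]
  · rintro _ ⟨r, hr, rfl⟩
    exact hr

end

end Gabriel

/-- For a qcqs scheme X: if quasi-coherent O_X-modules form a category equivalent to that of modules
over some commutative ring R, then X is affine. -/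
theorem result (X : Scheme.{u}) [CompactSpace X]
    [QuasiSeparatedSpace X] (R : Type u) [CommRing R]
    (e : QCohCat.QCoh X ≌ ModuleCat.{u} R) : IsAffine X := by
  exact isAffine_of_equiv e

end Groth.Agent.S2198
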