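import Groth.Statements.S2203
import Groth.Agent.ModWatts.Center
import Mathlib.CategoryTheory.Adjunction.Limits

set_option autoImplicit false
universe u
open CategoryTheory
open QCohCat

open Groth.Agent.ModWatts.Center

namespace Groth.Agent.S2203

/-- Ring-isomorphism part of the statement: let A and B be commutative rings whose categories of modules
are equivalent. Then A and B are isomorphic as rings. (The source moreover describes the equivalence
as base change followed by tensoring with an invertible module.) -/
theorem result (A B : Type u) [CommRing A] [CommRing B]
    (F : ModuleCat.{u} A ≌ ModuleCat.{u} B) : Nonempty (A ≃+* B) := by
  have : F.functor.Additive := F.functor.additive_of_preserves_binary_products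
  exact ⟨(centerEquiv A).symm.trans ((endConj F).trans (centerEquiv B))⟩


end Groth.Agent.S2203
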