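import Groth.Statements.S2204
import Groth.Agent.ModWatts.Basic
import Mathlib.CategoryTheory.Preadditive.AdditiveFunctor

set_option autoImplicit false
universe u
open CategoryTheory CategoryTheory.Limits TensorProduct
open QCohCat

open Groth.Agent.ModWatts.Basic

namespace Groth.Agent.S2204

theorem additive_of_preservesFiniteColimits {A B : Type u} [CommRing A] [CommRing B]
    (F : ModuleCat.{u} A ⥤ ModuleCat.{u} B) [PreservesFiniteColimits F] : F.Additive := by
  have : PreservesBinaryBiproducts F := preservesBinaryBiproducts_of_preservesBinaryCoproducts F
  exact Functor.additive_of_preservesBinaryBiproducts F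

/-- The implication (2) to (1): for commutative rings A and B, any functor from A-modules to B-modules
preserving finite colimits and arbitrary direct sums is given by tensoring: there is a module K over
both A and B with commuting actions and B-linear isomorphisms K tensor_A M = F(M), natural in the
A-module M. -/
theorem result (A B : Type u) [CommRing A]
    [CommRing B] (F : ModuleCat.{u} A ⥤ ModuleCat.{u} B) [PreservesFiniteColimits F]
    (hsum : ∀ J : Type u, PreservesColimitsOfShape (Discrete J) F) :
    ∃ (K : Type u) (_ : AddCommGroup K) (_ : Module A K) (_ : Module B K) (_ : SMulCommClass A B K)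
      (η : ∀ M : ModuleCat.{u} A, (K ⊗[A] M) ≃ₗ[B] F.obj M),
      ∀ (M N : ModuleCat.{u} A) (f : M ⟶ N) (x : K ⊗[A] M),
        η N (LinearMap.lTensor K f.hom x) = F.map f (η M x) := by
  have : F.Additive := additive_of_preservesFiniteColimits F
  haveI := hsum
  exact ⟨WK F, inferInstance, inferInstance, inferInstance, inferInstance, wattsEquiv F,
    fun M N f x => by rw [wattsEquiv_apply, wattsEquiv_apply]; exact tauLin_natural F f x⟩


end Groth.Agent.S2204
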