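import Groth.Statements.S2209
import Groth.Agent.VertInter.Global

set_option autoImplicit false
universe u
open CategoryTheory AlgebraicGeometry
open Models

namespace Groth.Agent.S2209

/-- Let R be a discrete valuation ring with fraction field K, C a smooth proper curve over K whose ring
of global functions is K (the map K -> H^0(C, O_C) is an isomorphism), and X a regular proper model
of C over R. Then the special fibre of X is connected. -/
theorem result (R : Type u) [CommRing R] [IsDomain R]
    [IsDiscreteValuationRing R] (C X : Scheme.{u})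
    (f : C ⟶ Spec (CommRingCat.of (FractionRing R))) (p : X ⟶ Spec (CommRingCat.of R))
    (hC : Curve.IsSmoothProperCurve (FractionRing R) C f) (hH0 : IsIso f.appTop)
    (hX : Models.IsRegularProperModel R X p C f) :
    ConnectedSpace ↥(Models.specialFibre R X p) := by
  haveI : Flat p := hX.1.1
  haveI : IsProper p := hX.2.1
  obtain ⟨g, hg⟩ := hX.1.2.2.2
  haveI : IsIntegral C := hC.2.2.1
  haveI : Flat (Over.mk p).hom := hX.1.1
  haveI : IsProper (Over.mk p).hom := hX.2.1
  haveI := VertInter.preconnectedSpace_fiber (X := Over.mk p)
    (VertInter.toGlobal_bijective (X := Over.mk p) hg hH0).2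
  let c := Spec.map (CommRingCat.ofHom (algebraMap R (IsLocalRing.ResidueField R)))
  have hrange : Set.range (Limits.pullback.fst p c) = p ⁻¹' {IsLocalRing.closedPoint R} := by
    rw [Scheme.Pullback.range_fst]
    congr 1
    ext y
    constructor
    · rintro ⟨z, rfl⟩
      exact PrimeSpectrum.ext (by
        change Ideal.comap (algebraMap R (IsLocalRing.ResidueField R)) z.asIdeal = IsLocalRing.maximalIdeal R
        rw [(Ideal.eq_bot_or_top z.asIdeal).resolve_right z.isPrime.ne_top]
        exact IsLocalRing.ker_residue)
    · rintro rfl
      refine ⟨⟨⊥, Ideal.isPrime_bot⟩, PrimeSpectrum.ext ?_⟩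
      exact IsLocalRing.ker_residue
  haveI : IsClosedImmersion c :=
    IsClosedImmersion.spec_of_surjective _ IsLocalRing.residue_surjective
  obtain ⟨z, hz⟩ := VertInter.nonempty_specialFibreSet (X := Over.mk p) hg
  let h : ↥(p.fiber (IsLocalRing.closedPoint R)) ≃ₜ ↥(Models.specialFibre R X p) :=
    (p.fiberHomeo _).trans ((Homeomorph.setCongr hrange.symm).trans
      ((Limits.pullback.fst p c).isEmbedding.toHomeomorph).symm)
  haveI : ConnectedSpace ↥(p.fiber (IsLocalRing.closedPoint R)) :=
    { toPreconnectedSpace := VertInter.preconnectedSpace_fiber (X := Over.mk p)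
        (VertInter.toGlobal_bijective (X := Over.mk p) hg hH0).2
      toNonempty := ⟨(p.fiberHomeo _).symm ⟨z, hz⟩⟩ }
  exact h.surjective.connectedSpace h.continuous

end Groth.Agent.S2209
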