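import Groth.Statements.S2211
import Mathlib.Data.Nat.Choose.Lucas
import Mathlib.Algebra.BigOperators.Associated

set_option autoImplicit false
universe u
open DPow

namespace Groth.Agent.S2211

/-- First part: let p be a prime and A a ring in which every integer prime to p is invertible, I an
ideal of A. Two divided power structures on I coincide exactly when their p-th divided power maps
agree on I. -/
theorem result {A : Type u} [CommRing A] (p : ℕ) (hp : p.Prime)
    (hA : ∀ n : ℕ, ¬ p ∣ n → IsUnit (n : A)) {I : Ideal A} (γ γ' : DividedPowers I) :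
    γ = γ' ↔ ∀ x ∈ I, γ.dpow p x = γ'.dpow p x := by
  refine ⟨fun h x _ => by rw [h], fun h => DividedPowers.ext γ γ' fun {n x} hx => ?_⟩
  induction n using Nat.strong_induction_on generalizing x with
  | _ n ih =>
    rcases Nat.eq_zero_or_pos n with rfl | hn
    · rw [γ.dpow_zero hx, γ'.dpow_zero hx]
    by_cases hd : p ∣ n
    · obtain ⟨m, rfl⟩ := hd
      have hm : 0 < m := Nat.pos_of_mul_pos_left hn
      have hlt : m < p * m := lt_mul_left hm hp.one_lt
      have hu : IsUnit (m.uniformBell p : A) := by
        refine hA _ ?_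
        rw [Nat.uniformBell_eq]
        refine fun hdvd => ?_
        obtain ⟨i, -, hi⟩ := (Prime.dvd_finsetProd_iff hp.prime _).1 hdvd
        have : Fact p.Prime := ⟨hp⟩
        have h1 := Choose.choose_modEq_choose_mod_mul_choose_div_nat (n := i * p + p - 1) (k := p - 1) (p := p)
        have hlt' : p - 1 < p := Nat.sub_lt hp.pos one_pos
        have e1 : (i * p + p - 1) % p = p - 1 := by
          rw [show i * p + p - 1 = (p - 1) + i * p by have := hp.pos; omega, Nat.add_mul_mod_self_right,
            Nat.mod_eq_of_lt hlt']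
        rw [e1, Nat.mod_eq_of_lt hlt', Nat.div_eq_of_lt hlt', Nat.choose_self, Nat.choose_zero_right,
          one_mul] at h1
        have h0 := (Nat.modEq_zero_iff_dvd.2 hi).symm.trans h1
        exact hp.one_lt.ne' (Nat.dvd_one.1 (Nat.modEq_zero_iff_dvd.1 h0.symm))
      refine hu.mul_left_cancel ?_
      rw [mul_comm p m, ← γ.dpow_comp hp.ne_zero hx, ← γ'.dpow_comp hp.ne_zero hx, h x hx,
        ih m hlt (γ'.dpow_mem hp.ne_zero hx)]
    · obtain ⟨m, rfl⟩ := Nat.exists_eq_succ_of_ne_zero hn.ne'
      refine (hA _ hd).mul_left_cancel ?_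
      have e : ∀ δ : DividedPowers I, δ.dpow m x * δ.dpow 1 x = ((m + 1 : ℕ) : A) * δ.dpow (m + 1) x := fun δ => by
        rw [δ.mul_dpow hx, Nat.choose_succ_self_right]
      rw [Nat.succ_eq_add_one, ← e γ, ← e γ', γ.dpow_one hx, γ'.dpow_one hx, ih m (by omega) hx]

end Groth.Agent.S2211
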