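import Groth.Statements.S2213
import Groth.Agent.DPow95.FreeAlg

set_option autoImplicit false
universe u
open DPow

namespace Groth.Agent.S2213

/-- Let (A, I) be a ring with divided powers and t a natural number. There is a divided power ring (D,
J) with an A-algebra structure making A -> D a divided power homomorphism and elements x_1, ..., x_t
of J, such that for every divided power ring (C, K) with a divided power homomorphism A -> C and
every choice of k_1, ..., k_t in K there is exactly one divided power homomorphism D -> C over A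
sending x_i to k_i (the divided power polynomial algebra). -/
theorem result {A : Type u} [CommRing A] {I : Ideal A} (γ : DividedPowers I) (t : ℕ) :
    ∃ (D : Type u) (_ : CommRing D) (_ : Algebra A D) (J : Ideal D) (δ : DividedPowers J)
      (x : Fin t → D), (∀ i, x i ∈ J) ∧ γ.IsDPMorphism δ (algebraMap A D) ∧
      ∀ (C : Type u) [CommRing C] [Algebra A C] (K : Ideal C) (ε : DividedPowers K),
        γ.IsDPMorphism ε (algebraMap A C) → ∀ k : Fin t → C, (∀ i, k i ∈ K) →
          ∃! φ : D →ₐ[A] C, (∀ i, φ (x i) = k i) ∧ δ.IsDPMorphism ε φ.toRingHom := by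
  obtain ⟨D, hD, hAD, x, hx0, hxmul, b, hb⟩ := DPow95.FreeAlg.exists_model A (Fin t)
  obtain ⟨δplus, hδp⟩ := DPow95.FreeAlg.exists_dp x hx0 hxmul A b hb
  obtain ⟨δ, ⟨hδ1, hδ2⟩, -⟩ := DPow95.FreeAlg.existsUnique_sup_dp x hx0 hxmul A b hb γ δplus
  refine ⟨D, hD, hAD, _, δ, fun i => x i 1,
    fun i => Submodule.mem_sup_right (DPow95.FreeAlg.mem_Aug x i 1 le_rfl), hδ1, ?_⟩
  intro C _ _ K ε hε k hk
  obtain ⟨φ, ⟨hφ, hφk⟩, huniq⟩ := DPow95.FreeAlg.existsUnique_algHom x hx0 hxmul A b hb ε δplus hδp k hk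
  have hle : DPow95.FreeAlg.Aug x ≤ I.map (algebraMap A D) ⊔ DPow95.FreeAlg.Aug x := le_sup_right
  refine ⟨φ, ⟨hφk, ?_⟩, fun φ' ⟨h1, h2⟩ => huniq φ' ⟨⟨?_, fun {n} a ha => ?_⟩, h1⟩⟩
  · refine DividedPowers.IsDPMorphism.on_span _ _
      (S := algebraMap A D '' I ∪ (DPow95.FreeAlg.Aug x : Set D)) ?_ ?_ ?_
    · rw [Ideal.span_union, Ideal.span_eq]; rfl
    · rintro _ (⟨a, ha, rfl⟩ | hy)
      · show φ (algebraMap A D a) ∈ K
        rw [φ.commutes]
        exact hε.ideal_comp (Ideal.mem_map_of_mem _ ha)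
      · exact hφ.ideal_comp (Ideal.mem_map_of_mem _ hy)
    · rintro n _ (⟨a, ha, rfl⟩ | hy)
      · show φ (δ.dpow n (algebraMap A D a)) = ε.dpow n (φ (algebraMap A D a))
        rw [hδ1.dpow_comp a ha, φ.commutes, φ.commutes, hε.dpow_comp a ha]
      · rw [hδ2 n _ hy]; exact (hφ.dpow_comp _ hy).symm
  · exact (Ideal.map_mono hle).trans h2.ideal_comp
  · rw [h2.dpow_comp a (hle ha), hδ2 n a ha]

end Groth.Agent.S2213
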