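import Groth.Statements.S2217
import Groth.Agent.NoetherDiff.GorFibre
-- import your own Groth.Agent.* helpers here

set_option autoImplicit false
universe u
open Disc

namespace Groth.Agent.S2217

open TensorProduct Groth.Agent

/-- Equivalence of (2) and (4) in the affine finite free case: let A be a Noetherian ring and B an
A-algebra which is finite free as an A-module (so A -> B is flat and quasi-finite). Then all fibre
rings kappa(p) tensor_A B are Gorenstein if and only if omega_{B/A} = Hom_A(B, A), with its B-module
structure through the argument, is an invertible B-module. -/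
theorem result {A B : Type u} [CommRing A] [CommRing B]
    [Algebra A B] [IsNoetherianRing A] [Module.Finite A B] [Module.Free A B] :
    (∀ (p : Ideal A) [p.IsPrime], LocCoh.IsGorensteinRing (p.Fiber B)) ↔
      Module.Invertible B (Disc.Omega A B) := by
  classical
  let β := Module.Free.chooseBasis A B
  -- functionals on the fibres
  have hdet : ∀ (p : Ideal A) [p.IsPrime] (g' : Disc.Omega p.ResidueField (p.Fiber B)),
      (∀ c : p.Fiber B, c • g' = 0 → c = 0) ↔
        (NoetherDiff.gram (Algebra.TensorProduct.basis p.ResidueField β) g').det ≠ 0 := by
    intro p _ g'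
    constructor
    · intro h hd
      obtain ⟨v, hv0, hv⟩ := Matrix.exists_vecMul_eq_zero_iff.2 hd
      let c : p.Fiber B := (Algebra.TensorProduct.basis p.ResidueField β).equivFun.symm v
      have hc : c • g' = 0 := Disc.Omega.ext
        ((Algebra.TensorProduct.basis p.ResidueField β).ext fun j => by
          rw [NoetherDiff.smul_apply_basis,
            show (fun i => (Algebra.TensorProduct.basis p.ResidueField β).repr c i) = v from
              funext fun i => congrFun ((Algebra.TensorProduct.basis p.ResidueField β).equivFun.apply_symm_apply v) i, hv]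
          simp)
      have := h c hc
      exact hv0 ((LinearEquiv.map_eq_zero_iff _).1 this)
    · intro hd c hc
      have h1 := NoetherDiff.smul_eq_zero_of_det (Algebra.TensorProduct.basis p.ResidueField β) g' c hc
      rw [← Algebra.smul_def] at h1
      exact (smul_eq_zero.1 h1).resolve_left hd
  have hgram : ∀ (p : Ideal A) [p.IsPrime] (g : Disc.Omega A B)
      (g' : Disc.Omega p.ResidueField (p.Fiber B)) (t : p.ResidueField),
      (∀ i, g'.toLinearMap (Algebra.TensorProduct.basis p.ResidueField β i) =
        t * algebraMap A p.ResidueField (g.toLinearMap (β i))) →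
      (NoetherDiff.gram (Algebra.TensorProduct.basis p.ResidueField β) g').det =
        t ^ Fintype.card (Module.Free.ChooseBasisIndex A B) *
          algebraMap A p.ResidueField (NoetherDiff.gram β g).det := by
    intro p _ g g' t hg
    rw [RingHom.map_det, ← Matrix.det_smul]
    congr 1
    ext i j
    have hy : ∀ y : B, g'.toLinearMap ((1 : p.ResidueField) ⊗ₜ[A] y) =
        t * algebraMap A p.ResidueField (g.toLinearMap y) := by
      intro y
      conv_lhs => rw [← β.sum_repr y, TensorProduct.tmul_sum, map_sum]
      conv_rhs => rw [← β.sum_repr y, map_sum, map_sum, Finset.mul_sum]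
      refine Finset.sum_congr rfl fun i _ => ?_
      rw [TensorProduct.tmul_smul, LinearMap.map_smul_of_tower, map_smul, smul_eq_mul, map_mul,
        Algebra.smul_def, ← Algebra.TensorProduct.basis_apply, hg, mul_left_comm]
    simp only [NoetherDiff.gram, Matrix.of_apply, Algebra.TensorProduct.basis_apply,
      Algebra.TensorProduct.tmul_mul_tmul, one_mul, hy, Matrix.smul_apply,
      RingHom.mapMatrix_apply, Matrix.map_apply, smul_eq_mul]
  constructor
  · intro h
    refine NoetherDiff.invertible_of_gram β fun p hp => ?_
    obtain ⟨g', hg'⟩ := (NoetherDiff.gorenstein_iff_exists_generator (k := p.ResidueField) (C := p.Fiber B)).1 (h p)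
    have hsurj := Ideal.algebraMap_residueField_surjective p
    choose a ha using fun i => hsurj (g'.toLinearMap (Algebra.TensorProduct.basis p.ResidueField β i))
    refine ⟨⟨β.constr A a⟩, fun hd => (hdet p g').1 hg' ?_⟩
    rw [hgram p ⟨β.constr A a⟩ g' 1 (fun i => by simp [ha]),
      Ideal.algebraMap_residueField_eq_zero.2 hd, mul_zero]
  · intro _ p _
    obtain ⟨s, g, hs, hg⟩ := NoetherDiff.exists_generator_at (B := B) p
    have hgd : (NoetherDiff.gram β g).det ∉ p := by
      intro hd
      choose c hc using fun k => hg ⟨β.coord k⟩
      have hC : (Matrix.of fun k i => β.repr (c k) i) * NoetherDiff.gram β g =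
          s • (1 : Matrix _ _ A) := by
        ext k j
        have h1 := congrArg (fun l : Disc.Omega A B => l.toLinearMap (β j)) (hc k)
        simp only [NoetherDiff.smul_apply_basis β g] at h1
        rw [Disc.Omega.smul_toLinearMap_apply, ← Algebra.smul_def, map_smul] at h1
        refine Eq.trans ?_ (h1.symm.trans ?_)
        · rfl
        · simp [Matrix.one_apply, Finsupp.single_apply, eq_comm]
      have hd' := congrArg Matrix.det hC
      rw [Matrix.det_mul, Matrix.det_smul, Matrix.det_one, mul_one] at hd'
      exact hs (Ideal.IsPrime.mem_of_pow_mem inferInstance _ (hd' ▸ p.mul_mem_left _ hd))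
    refine (NoetherDiff.gorenstein_iff_exists_generator (k := p.ResidueField) (C := p.Fiber B)).2
      ⟨⟨(Algebra.TensorProduct.basis p.ResidueField β).constr p.ResidueField
        fun i => algebraMap A p.ResidueField (g.toLinearMap (β i))⟩, (hdet p _).2 ?_⟩
    rw [hgram p g _ 1 (fun i => by rw [Module.Basis.constr_basis, one_mul]), one_pow, one_mul]
    simpa [Ideal.algebraMap_residueField_eq_zero] using hgd

end Groth.Agent.S2217
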