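import Groth.Statements.S2218
import Mathlib
-- import your own Groth.Agent.* helpers here

set_option autoImplicit false
universe u v
open Disc

namespace Groth.Agent.S2218

open TensorProduct

theorem exists_dual_ne {D : Type*} [CommRing D] [IsDomain D] {M : Type*} [AddCommGroup M] [Module D M]
    [Module.Finite D M] (x : M) (hx : ∀ c : D, c • x = 0 → c = 0) : ∃ l : M →ₗ[D] D, l x ≠ 0 := by
  classical
  let K := FractionRing D
  let ι : M →ₗ[D] K ⊗[D] M := TensorProduct.mk D K M 1
  have hι : ι x ≠ 0 := fun h => by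
    obtain ⟨s, hs⟩ := (IsLocalizedModule.eq_zero_iff (nonZeroDivisors D) ι).1 h
    exact nonZeroDivisors.coe_ne_zero s (hx s hs)
  obtain ⟨f, hf⟩ := Module.Projective.exists_dual_ne_zero K hι
  obtain ⟨s, hs⟩ := Module.Finite.fg_top (R := D) (M := M)
  obtain ⟨d, hd⟩ := IsLocalization.exist_integer_multiples (nonZeroDivisors D) s (fun m => f (ι m))
  let F : M →ₗ[D] K := (d : D) • ((f.restrictScalars D) ∘ₗ ι)
  have hF : ∀ m, F m ∈ LinearMap.range (Algebra.linearMap D K) := by
    intro m
    have hm : m ∈ Submodule.span D (s : Set M) := by rw [hs]; trivial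
    refine Submodule.span_induction (p := fun m _ => F m ∈ LinearMap.range (Algebra.linearMap D K))
      ?_ ?_ ?_ ?_ hm
    · intro m hm
      obtain ⟨c, hc⟩ := hd m hm
      exact ⟨c, hc⟩
    · simp
    · intro a b _ _ ha hb; rw [map_add]; exact Submodule.add_mem _ ha hb
    · intro c a _ ha; rw [map_smul]; exact Submodule.smul_mem _ c ha
  let e := LinearEquiv.ofInjective (Algebra.linearMap D K) (IsFractionRing.injective D K)
  refine ⟨e.symm.toLinearMap ∘ₗ F.codRestrict _ hF, fun h => hf ?_⟩
  have h2 : F x = 0 := by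
    have h' : (⟨F x, hF x⟩ : LinearMap.range (Algebra.linearMap D K)) = 0 := e.symm.injective (by rw [map_zero]; exact h)
    exact congrArg Subtype.val h'
  rcases smul_eq_zero.1 (show (d : D) • f (ι x) = 0 from h2) with h3 | h3
  · exact absurd h3 (nonZeroDivisors.coe_ne_zero d)
  · exact h3 

/-- Special case: A -> B finite (the source allows quasi-finite maps). For a finite map of Noetherian
rings and omega = Hom_A(B, A) with its B-module structure through the argument, the associated
primes of the B-module omega are exactly the primes of B whose contraction to A is an associated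
prime of A. -/
theorem result {A : Type u} {B : Type v} [CommRing A] [CommRing B]
    [Algebra A B] [IsNoetherianRing A] [IsNoetherianRing B] [Module.Finite A B] :
    associatedPrimes B (Disc.Omega A B) =
      {q : Ideal B | q.IsPrime ∧ q.comap (algebraMap A B) ∈ associatedPrimes A A} := by
  classical
  ext q
  constructor
  · intro hq
    obtain ⟨hqp, φ, hφ⟩ := isAssociatedPrime_iff.1 hq
    refine ⟨hqp, ?_⟩
    haveI := hqp
    obtain ⟨s, hs⟩ := Module.Finite.fg_top (R := A) (M := B)
    have hann : ∀ a : A, a ∈ q.comap (algebraMap A B) ↔ ∀ b ∈ s, a * φ.toLinearMap b = 0 := by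
      intro a
      rw [Ideal.mem_comap, hφ, Submodule.mem_colon_singleton, Submodule.mem_bot]
      constructor
      · intro h b _
        have := congrArg (fun ψ : Disc.Omega A B => ψ.toLinearMap b) h
        simpa [← Algebra.smul_def] using this
      · intro h
        apply Disc.Omega.ext
        refine LinearMap.ext_on (s := (s : Set B)) hs fun b hb => ?_
        simpa [← Algebra.smul_def] using h b hb
    have hinf : (s.inf fun b => (⊥ : Submodule A A).colon {φ.toLinearMap b}) ≤ q.comap (algebraMap A B) := by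
      intro a ha
      rw [hann]
      intro b hb
      have := (Submodule.mem_finsetInf).1 ha b hb
      simpa [Submodule.mem_colon_singleton] using this
    obtain ⟨b, hb, hle⟩ := (Ideal.IsPrime.inf_le' (Ideal.IsPrime.comap (algebraMap A B))).1 hinf
    refine isAssociatedPrime_iff.2 ⟨Ideal.IsPrime.comap _, φ.toLinearMap b, le_antisymm ?_ hle⟩
    intro a ha
    simpa [Submodule.mem_colon_singleton] using (hann a).1 ha b hb
  · rintro ⟨hqp, hp⟩
    obtain ⟨hpp, a, ha⟩ := isAssociatedPrime_iff.1 hp
    haveI := hqp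
    haveI := hpp
    let p := q.comap (algebraMap A B)
    haveI : Module.Finite (A ⧸ p) (B ⧸ q) := Module.Finite.of_restrictScalars_finite A (A ⧸ p) (B ⧸ q)
    obtain ⟨l, hl⟩ := exists_dual_ne (D := A ⧸ p) (1 : B ⧸ q) fun c hc => by
      obtain ⟨c, rfl⟩ := Ideal.Quotient.mk_surjective c
      rw [Algebra.smul_def, mul_one] at hc
      exact Ideal.Quotient.eq_zero_iff_mem.2 (show algebraMap A B c ∈ q from Ideal.Quotient.eq_zero_iff_mem.1 hc)
    let σ : (A ⧸ p) →ₗ[A] A := Submodule.liftQ p (LinearMap.mulRight A a) fun c hc => by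
      have hc' : c ∈ q.comap (algebraMap A B) := hc
      rw [ha, Submodule.mem_colon_singleton] at hc'
      simpa using hc'
    have hσ : ∀ y, σ y = 0 → y = 0 := by
      intro y hy
      obtain ⟨c, rfl⟩ := Ideal.Quotient.mk_surjective y
      refine Ideal.Quotient.eq_zero_iff_mem.2 ?_
      show c ∈ q.comap (algebraMap A B)
      rw [ha, Submodule.mem_colon_singleton]
      simpa using (show c * a = 0 from hy)
    let φ : Disc.Omega A B :=
      ⟨σ ∘ₗ (l.restrictScalars A) ∘ₗ (Ideal.Quotient.mkₐ A q).toLinearMap⟩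
    refine isAssociatedPrime_iff.2 ⟨hqp, φ, le_antisymm ?_ ?_⟩
    · intro b hb
      rw [Submodule.mem_colon_singleton, Submodule.mem_bot]
      apply Disc.Omega.ext
      ext y
      have h0 : Ideal.Quotient.mk q (b * y) = 0 := Ideal.Quotient.eq_zero_iff_mem.2 (Ideal.mul_mem_right y q hb)
      show σ (l (Ideal.Quotient.mk q (b * y))) = 0
      rw [h0, map_zero, map_zero]
    · intro b hb
      rw [Submodule.mem_colon_singleton, Submodule.mem_bot] at hb
      by_contra hbq
      have hz : ∀ y : B, l (Ideal.Quotient.mk q (b * y)) = 0 := fun y =>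
        hσ _ (congrArg (fun ψ : Disc.Omega A B => ψ.toLinearMap y) hb)
      have hne : Ideal.Quotient.mk q b ≠ 0 := fun h => hbq (Ideal.Quotient.eq_zero_iff_mem.1 h)
      haveI : Algebra.IsIntegral (A ⧸ p) (B ⧸ q) := Algebra.IsIntegral.of_finite _ _
      obtain ⟨c, hc, hcm⟩ : ∃ c : A ⧸ p, c ≠ 0 ∧ algebraMap (A ⧸ p) (B ⧸ q) c ∈ Ideal.span {Ideal.Quotient.mk q b} := by
        obtain ⟨c, hc1, hc2⟩ := Submodule.exists_mem_ne_zero_of_ne_bot
          (Ideal.comap_ne_bot_of_integral_mem (R := A ⧸ p) hne (Ideal.mem_span_singleton_self _)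
            (Algebra.IsIntegral.isIntegral _))
        exact ⟨c, hc2, hc1⟩
      obtain ⟨w, hw⟩ := Ideal.mem_span_singleton'.1 hcm
      obtain ⟨w, rfl⟩ := Ideal.Quotient.mk_surjective w
      apply hl
      have h1 := hz w
      rw [mul_comm b w, map_mul, hw, ← mul_one (algebraMap (A ⧸ p) (B ⧸ q) c), ← Algebra.smul_def, map_smul,
        smul_eq_mul] at h1
      exact (mul_eq_zero.1 h1).resolve_left hc

end Groth.Agent.S2218
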