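import Groth.Statements.S2220
import Groth.Agent.NoetherDiff.FlatMap
import Mathlib.AlgebraicGeometry.Morphisms.OpenImmersion
import Mathlib.AlgebraicGeometry.Morphisms.Flat
import Mathlib.Algebra.Category.Ring.Epi
-- import your own Groth.Agent.* helpers here

set_option autoImplicit false
universe u
open AlgebraicGeometry
open Disc

namespace Groth.Agent.S2220

open TensorProduct CategoryTheory AlgebraicGeometry

/-- Part (2): for ring maps A -> B' -> B with B' of finite type over A and Spec B -> Spec B' an open
immersion, the Noether different of B over A is the ideal generated by the image of that of B'. -/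
theorem result {A B' B : Type u} [CommRing A] [CommRing B']
    [CommRing B] [Algebra A B'] [Algebra A B] [Algebra B' B] [IsScalarTower A B' B]
    [Algebra.FiniteType A B']
    (h : IsOpenImmersion (Spec.map (CommRingCat.ofHom (algebraMap B' B)))) :
    Disc.noetherDifferent A B = (Disc.noetherDifferent A B').map (algebraMap B' B) := by
  have hflat : (algebraMap B' B).Flat := by
    have : AlgebraicGeometry.Flat (Spec.map (CommRingCat.ofHom (algebraMap B' B))) := inferInstance
    exact (HasRingHomProperty.Spec_iff (P := @AlgebraicGeometry.Flat)).1 this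
  have hepi : Algebra.IsEpi B' B := by
    have hm : Mono (Spec.map (CommRingCat.ofHom (algebraMap B' B))) := inferInstance
    have : Epi (CommRingCat.ofHom (algebraMap B' B)) := by
      have hm' : Mono (Scheme.Spec.map (CommRingCat.ofHom (algebraMap B' B)).op) := hm
      have := Scheme.Spec.mono_of_mono_map hm'
      exact unop_epi_of_mono (CommRingCat.ofHom (algebraMap B' B)).op
    exact CommRingCat.epi_iff_epi.1 this
  let f : B' →ₐ[A] B := IsScalarTower.toAlgHom A B' B
  let θ : B' ⊗[A] B' →ₐ[A] B ⊗[A] B := Algebra.TensorProduct.map f f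
  have hθ : θ.toRingHom.Flat := RingHom.Flat.tensorProductMap (f := f) (g := f) hflat hflat
  refine Groth.Agent.NoetherDiff.noetherDifferent_map (algebraMap B' B) θ.toRingHom hθ (fun z => ?_) ?_
  · induction z using TensorProduct.induction_on with
    | zero => simp
    | tmul x y => simp [θ, f]
    | add a b ha hb => simp only [map_add, ha, hb]
  · let J := (KaehlerDifferential.ideal A B').map θ.toRingHom
    rw [← KaehlerDifferential.span_range_eq_ideal, Ideal.span_le]
    rintro _ ⟨x, rfl⟩
    let π := Ideal.Quotient.mk J
    let lft : B →ₐ[B'] (B ⊗[A] B) ⧸ J :=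
      { π.comp (Algebra.TensorProduct.includeLeftRingHom : B →+* B ⊗[A] B) with commutes' := fun _ => rfl }
    let rgt : B →ₐ[B'] (B ⊗[A] B) ⧸ J :=
      { π.comp (Algebra.TensorProduct.includeRight : B →ₐ[A] B ⊗[A] B).toRingHom with
        commutes' := fun b => by
          change π ((1 : B) ⊗ₜ algebraMap B' B b) = π (algebraMap B' B b ⊗ₜ (1 : B))
          rw [Ideal.Quotient.eq]
          have := Ideal.mem_map_of_mem θ.toRingHom
            (KaehlerDifferential.one_smul_sub_smul_one_mem_ideal A b)
          simpa [θ, f, J] using this }
    let m : B ⊗[B'] B →ₐ[B'] (B ⊗[A] B) ⧸ J :=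
      Algebra.TensorProduct.lift lft rgt fun _ _ => Commute.all _ _
    have hx : (1 : B) ⊗ₜ[B'] x = x ⊗ₜ[B'] (1 : B) := hepi.injective_lift_mul (by simp)
    have := congrArg m hx
    rw [Algebra.TensorProduct.lift_tmul, Algebra.TensorProduct.lift_tmul, map_one, map_one, one_mul,
      mul_one] at this
    exact Ideal.Quotient.eq.1 this

end Groth.Agent.S2220
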