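import Groth.Statements.S2222
import Groth.Agent.RegExtVanish.Basic
import Groth.Agent.RegExtVanish.Devissage
import Groth.Agent.ModShf.GrothAb

set_option autoImplicit false
universe u
open CategoryTheory AlgebraicGeometry
attribute [local instance] HasDerivedCategory.standard
open QCohCat

namespace Groth.Agent.S2222

/-- Let X be a Noetherian scheme all of whose local rings are regular and whose underlying space has
Krull dimension d. (1) For coherent O_X-modules F and G, every morphism F -> G[n] in the derived
category D(O_X) is zero when n > d (Ext^n_X(F, G) = 0). (2) For bounded objects K and L of D(O_X)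
with coherent cohomology sheaves, if the cohomology sheaves of K vanish below degree a + d and those
of L vanish from degree a upward, every morphism K -> L is zero. -/
theorem result (X : Scheme.{u}) [IsNoetherian X]
    (hreg : Models.IsRegularScheme X) (d : ℕ) (hd : topologicalKrullDim X = d) :
    (∀ (F G : X.Modules), Coh.IsCoh F → Coh.IsCoh G → ∀ n : ℤ, (d : ℤ) < n →
        ∀ φ : DCoh.inD X F ⟶ (shiftFunctor (DCoh.D X) n).obj (DCoh.inD X G), φ = 0) ∧
      ∀ (K L : DCoh.D X) (a cK bL : ℤ), DCoh.IsCohD K → DCoh.IsCohD L →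
        DerivedCategory.IsGE K (a + d) → DerivedCategory.IsLE K cK →
        DerivedCategory.IsGE L bL → DerivedCategory.IsLE L (a - 1) →
        ∀ φ : K ⟶ L, φ = 0 := by
  have : EnoughInjectives X.Modules := inferInstance
  refine ⟨fun F G _ hG n hn φ => RegExtVanish.hom_single_eq_zero hreg hd ⟨G, hG.1⟩ F n hn φ,
    fun K L a cK bL _ hL hKge hKle hLge hLle φ => ?_⟩
  refine RegExtVanish.hom_eq_zero_of_bounded_source (a + d) (fun p H hp ψ => ?_)
    (cK - (a + d) + 1).toNat K cK hKge hKle (by omega) φ
  have hP : ∀ {M N : X.Modules}, (M ≅ N) → Coh.IsQCoh M → Coh.IsQCoh N := fun {M N} e hM =>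
    (SheafOfModules.isQuasicoherent X.ringCatSheaf).prop_of_iso e hM
  refine RegExtVanish.hom_eq_zero_of_bounded_target (A := X.Modules) (fun M : X.Modules => Coh.IsQCoh M) hP (a - 1)
    (fun q G hq hG χ => ?_) (a - 1 - bL + 1).toNat L bL hLge hLle (by omega) (fun i _ => (hL i).1) ψ
  exact RegExtVanish.hom_single_eq_zero_of_shift (n := p - q) (by omega)
    (RegExtVanish.hom_single_eq_zero hreg hd ⟨G, hG⟩ H (p - q) (by omega)) χ

end Groth.Agent.S2222
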