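import Groth.Statements.S2223
import Groth.Agent.S15407
import Groth.Agent.LiftLib.KerTorsion
import Groth.Agent.Hens.SteinDVR

set_option autoImplicit false
set_option linter.style.haveILetI false
set_option linter.unusedVariables false
set_option backward.isDefEq.respectTransparency false
set_option backward.isDefEq.respectTransparency.types false
universe u
open CategoryTheory AlgebraicGeometry
open Models

noncomputable section

namespace Groth.Agent.S2223

open CategoryTheory.Limits
open Groth.Agent.UnitsThick Groth.Agent.LiftLib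
open Groth.Agent.PicLaw (pullMul)
open scoped Groth.Agent.PicLaw

lemma exists_cls_tensorPow {Y : Scheme.{u}} {L : Y.Modules} (hL : PicF.IsInvertible L) :
    ∀ n : ℕ, ∃ h : PicF.IsInvertible (CohB1.tensorPow L n), PicGrp.cls _ h = PicGrp.cls L hL ^ n
  | 0 => ⟨PicLoc.isInvertible_structureModule Y, by rw [pow_zero]; exact PicGrp.cls_structureModule_eq_one⟩
  | n + 1 => by
    obtain ⟨h, hn⟩ := exists_cls_tensorPow hL n
    exact ⟨PicLaw.isInvertible_tensor h hL, (PicLaw.cls_tensor h hL).trans (by rw [hn, pow_succ])⟩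

section

variable {R : Type u} [CommRing R] [IsLocalRing R] {X : Scheme.{u}} (p : X ⟶ Spec (CommRingCat.of R))
  [IsProper p]

attribute [local instance] VarBC.H0.topAlgebra in
open scoped TensorProduct in
theorem exists_unit_decomp [GeometricallyConnected p] [Surjective p] {q : ℕ} (hq : 1 ≤ q)
    (hqk : (q : IsLocalRing.ResidueField R) ≠ 0) (n : ℕ)
    (u : Γ(pullback p (Spec.map (CommRingCat.ofHom (algebraMap R (IsLocalRing.ResidueField R)))), ⊤))
    (hu : IsUnit u) :
    ∃ (r : Γ(pullback p (Spec.map (CommRingCat.ofHom (algebraMap R (IsLocalRing.ResidueField R)))), ⊤))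
      (w : Γ(CohB1.thick p (IsLocalRing.maximalIdeal R) n, ⊤)),
      IsUnit w ∧ u = r ^ q * (S15407.jn p n).appTop w := by
  let b := Spec.map (CommRingCat.ofHom (algebraMap R (IsLocalRing.ResidueField R)))
  let K := AlgebraicClosure (IsLocalRing.ResidueField R)
  letI : (pullback p b).Over (Spec (CommRingCat.of (IsLocalRing.ResidueField R))) := ⟨pullback.snd _ _⟩
  haveI : IsProper ((pullback p b) ↘ Spec (CommRingCat.of (IsLocalRing.ResidueField R))) :=
    MorphismProperty.pullback_snd p _ ‹_›
  haveI hgc : GeometricallyConnected (pullback.snd p b) := MorphismProperty.pullback_snd p b ‹_›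
  haveI := CBC.GeomRedEtale.finite_top (IsLocalRing.ResidueField R) (pullback p b)
  haveI : ConnectedSpace ↥(pullback (pullback.snd p b) (FBase.BC.specMap (IsLocalRing.ResidueField R) K)) :=
    pullback_of_geometrically GeometricallyConnected.geometrically_connectedSpace _ _
  haveI : Nonempty ↥(pullback p b) :=
    ⟨(pullback.fst (pullback.snd p b) (FBase.BC.specMap (IsLocalRing.ResidueField R) K)) Classical.ofNonempty⟩
  obtain ⟨x₀⟩ := ‹Nonempty ↥(pullback p b)›
  haveI : Nontrivial Γ(pullback p b, ⊤) :=
    @Scheme.component_nontrivial (pullback p b) ⊤ ⟨⟨x₀, trivial⟩⟩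
  haveI : ConnectedSpace ↥(pullback ((pullback p b) ↘ Spec (CommRingCat.of (IsLocalRing.ResidueField R)))
      (FBase.BC.specMap (IsLocalRing.ResidueField R) K)) :=
    pullback_of_geometrically (f := pullback.snd p b) GeometricallyConnected.geometrically_connectedSpace _ _
  obtain ⟨e, -⟩ := VarBC.H0.nonempty_tensorEquiv (IsLocalRing.ResidueField R) (pullback p b) K
  let e' : K ⊗[IsLocalRing.ResidueField R] Γ(pullback p b, ⊤) ≃+* _ :=
    (Algebra.TensorProduct.comm (IsLocalRing.ResidueField R) K Γ(pullback p b, ⊤)).toRingEquiv.trans e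
  have hid : ∀ d : K ⊗[IsLocalRing.ResidueField R] Γ(pullback p b, ⊤), IsIdempotentElem d → d = 0 ∨ d = 1 :=
    fun d hd => (VarBC.H0.isIdempotentElem_eq (hd.map e')).imp
      (fun h => e'.injective (h.trans (map_zero e').symm)) (fun h => e'.injective (h.trans (map_one e').symm))
  obtain ⟨r, c, hc, hrc⟩ := KerDiv.exists_pow_mul_const hid hq hqk hu
  obtain ⟨a, rfl⟩ := IsLocalRing.residue_surjective c
  have ha : IsUnit a := (IsLocalRing.residue_ne_zero_iff_isUnit a).1 hc
  refine ⟨r, DefSchLib.str (CohB1.thickToBase p (IsLocalRing.maximalIdeal R) n) ⊤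
    (Ideal.Quotient.mk _ a), (ha.map _).map _, hrc.trans (congrArg (r ^ q * ·) ?_)⟩
  have hw := (S15407.isPullback_jn p n).w
  show (Coh.toGlobal (pullback.snd p b)) (IsLocalRing.residue R a) =
    (S15407.jn p n).appTop (DefSchLib.str (CohB1.thickToBase p (IsLocalRing.maximalIdeal R) n) ⊤
      (Ideal.Quotient.mk _ a))
  have h1 : DefSchLib.str (CohB1.thickToBase p (IsLocalRing.maximalIdeal R) n) ⊤ (Ideal.Quotient.mk _ a) =
      (CohB1.thickToBase p (IsLocalRing.maximalIdeal R) n).appTop
        ((Scheme.ΓSpecIso (CommRingCat.of (R ⧸ IsLocalRing.maximalIdeal R ^ (n + 1)))).inv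
          (Ideal.Quotient.mk _ a)) := by
    simp only [DefSchLib.str, Scheme.Hom.app_eq_appLE]
    rfl
  rw [h1]
  have h2 := congr($(congrArg Scheme.Hom.appTop hw)
    ((Scheme.ΓSpecIso (CommRingCat.of (R ⧸ IsLocalRing.maximalIdeal R ^ (n + 1)))).inv (Ideal.Quotient.mk _ a)))
  rw [Scheme.Hom.comp_appTop, Scheme.Hom.comp_appTop] at h2
  refine Eq.trans ?_ h2.symm
  refine congrArg (pullback.snd p b).appTop ?_
  exact congr($(Scheme.ΓSpecIso_inv_naturality (CommRingCat.ofHom (S15407.red (R := R) n))) (Ideal.Quotient.mk _ a))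

theorem ker_thick [GeometricallyConnected p] [Surjective p] {q : ℕ} (hq : 1 ≤ q)
    (hqk : (q : IsLocalRing.ResidueField R) ≠ 0) (n : ℕ)
    (x : PicLoc.PicSet (CohB1.thick p (IsLocalRing.maximalIdeal R) n))
    (hx : PicGrp.pullHom (S15407.jn p n) (pullMul _) x = 1) (hxq : x ^ q = 1) : x = 1 := by
  haveI := S15407.isClosedImmersion_jn p n
  have hcl := cl_of_isPullback (S15407.red_surjective n) (S15407.isPullback_jn p n)
  have hqR : IsUnit (q : R) :=
    (IsLocalRing.residue_ne_zero_iff_isUnit _).1 (by rw [map_natCast]; exact hqk)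
  refine KerDiv.ker_torsion (S15407.jn p n) q hcl.surj (fun W hW a ha => ?_) hq ?_ (pullMul _)
    (exists_unit_decomp p hq hqk n) x hx hxq
  · rw [hcl.ker W hW] at ha
    refine mem_nilradical.1 ((Ideal.map_le_iff_le_comap.2 fun c hc => ?_) ha)
    exact mem_nilradical.2 ((mem_nilradical.1 (S15407.ker_red n hc)).map _)
  · have := (hqR.map (Ideal.Quotient.mk ((IsLocalRing.maximalIdeal R) ^ (n + 1)))).map
      (DefSchLib.str (CohB1.thickToBase p (IsLocalRing.maximalIdeal R) n) ⊤)
    rwa [map_natCast, map_natCast] at this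

/-- Torsion classes trivial on the closed fibre are trivial. -/
theorem eq_one [IsNoetherianRing R] [GeometricallyConnected p] [Surjective p] {q : ℕ} (hq : 1 ≤ q)
    (hqk : (q : IsLocalRing.ResidueField R) ≠ 0) (c : PicLoc.PicSet X) (hcq : c ^ q = 1)
    (hc : PicGrp.pullHom (pullback.fst p (Spec.map (CommRingCat.ofHom
      (algebraMap R (IsLocalRing.ResidueField R))))) (pullMul _) c = 1) : c = 1 := by
  obtain ⟨L, hL, rfl⟩ := PicGrp.exists_eq_cls c
  rw [PicGrp.cls_eq_one_iff]
  refine PicThickTriv.main (IsLocalRing.maximalIdeal R) le_rfl p L hL fun n => ?_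
  have h1 : PicGrp.pullHom (CohB1.thickι p (IsLocalRing.maximalIdeal R) n) (pullMul _) (PicGrp.cls L hL) = 1 := by
    refine ker_thick p hq hqk n _ ?_ ?_
    · rw [← PicLaw.pl_comp, PicLaw.pl_congr (S15407.jn_fst p n)]
      exact hc
    · rw [← map_pow, hcq, map_one]
  rwa [PicGrp.pullHom_cls, PicGrp.cls_eq_one_iff] at h1

end

/-- Weakened form (special fibre instead of its reduction, which follows from the source): let R be a
discrete valuation ring with fraction field K and residue field k, C a smooth proper curve over K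
with H^0(C, O_C) = K, and X a regular proper model of C. Let h be a positive integer prime to the
characteristic of k and L an invertible O_X-module whose h-th tensor power is trivial. If the
pullback of L to the special fibre is trivial then L is trivial; i.e. Pic(X)[h] -> Pic(X_k)[h] is
injective. -/
theorem result (R : Type u) [CommRing R] [IsDomain R]
    [IsDiscreteValuationRing R] (C X : Scheme.{u})
    (f : C ⟶ Spec (CommRingCat.of (FractionRing R))) (p : X ⟶ Spec (CommRingCat.of R))
    (hC : Curve.IsSmoothProperCurve (FractionRing R) C f) (hH0 : IsIso f.appTop)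
    (hX : Models.IsRegularProperModel R X p C f) (h : ℕ) (hh : 0 < h)
    (hchar : ∀ q : ℕ, q.Prime → CharP (IsLocalRing.ResidueField R) q → ¬ q ∣ h)
    (L : X.Modules) (hL : PicF.IsInvertible L)
    (htors : Nonempty (CohB1.tensorPow L h ≅ Coh.structureModule X))
    (htriv : Nonempty ((Scheme.Modules.pullback
        (Limits.pullback.fst p (Spec.map (CommRingCat.ofHom
          (algebraMap R (IsLocalRing.ResidueField R)))))).obj L ≅
        Coh.structureModule (Models.specialFibre R X p))) :
    Nonempty (L ≅ Coh.structureModule X) := by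
  haveI : Flat p := hX.1.1
  haveI : IsProper p := hX.2.1
  haveI : IsProper f := hC.1
  obtain ⟨g, hg⟩ := hX.1.2.2.2
  let j := Spec.map (CommRingCat.ofHom (algebraMap R (FractionRing R)))
  have h0 : Function.Bijective (pullback.snd p j).appTop := by
    have : IsIso (pullback.snd p j).appTop := by
      haveI := hH0
      rw [← hg.isoPullback_inv_snd, Scheme.Hom.comp_appTop]
      infer_instance
    exact ConcreteCategory.bijective_of_isIso _
  haveI : GeometricallyConnected p :=
    Hens.SteinConnected.geometricallyConnected p (Hens.SteinDVR.bijective_app p h0)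
  haveI : Surjective p := inferInstance
  have hhk : (h : IsLocalRing.ResidueField R) ≠ 0 := by
    intro h0
    obtain ⟨q, hq⟩ := CharP.exists (IsLocalRing.ResidueField R)
    rcases CharP.char_is_prime_or_zero (IsLocalRing.ResidueField R) q with hp | rfl
    · exact hchar q hp hq ((CharP.cast_eq_zero_iff _ q h).1 h0)
    · haveI := CharP.charP_to_charZero (IsLocalRing.ResidueField R)
      exact hh.ne' (Nat.cast_eq_zero.1 h0)
  rw [← PicGrp.cls_eq_one_iff hL]
  obtain ⟨hLh, hpow⟩ := exists_cls_tensorPow hL h
  refine eq_one p hh hhk _ (hpow ▸ (PicGrp.cls_eq_one_iff hLh).2 htors) ?_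
  rw [PicGrp.pullHom_cls, PicGrp.cls_eq_one_iff]
  exact htriv

end Groth.Agent.S2223
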