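import Groth.Statements.S2224
import Groth.Agent.FMBound.Flat
import Groth.Agent.EtShriekLib.Proper
import Groth.Agent.CohDev.Coh
import Groth.Agent.S1001
-- import your own Groth.Agent.* helpers here

set_option autoImplicit false
universe u
open CategoryTheory AlgebraicGeometry
attribute [local instance] HasDerivedCategory.standard
open QCohCat

namespace Groth.Agent.S2224

/-- Case (2) with the kernel a single coherent module: let S be a Noetherian scheme, X -> S and Y -> S
of finite type, and K a coherent module on X x_S Y which is flat over X and whose support is proper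
over Y. Assuming the derived functors L pr_1^*, - tensor^L K and R pr_2,* exist (assumed as unproved
hypotheses), the Fourier-Mukai transform R pr_2,* (L pr_1^* M tensor^L K) of any bounded object M of
D(O_X) with coherent cohomology sheaves is a bounded object of D(O_Y) with coherent cohomology
sheaves. -/
theorem result {S X Y : Scheme.{u}} [IsNoetherian S]
    (a : X ⟶ S) (b : Y ⟶ S) [LocallyOfFiniteType a] [QuasiCompact a] [LocallyOfFiniteType b]
    [QuasiCompact b] (K : (Limits.pullback a b).Modules) (hK : Coh.IsCoh K)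
    (hflat : FlatMod.IsFlatOver (Limits.pullback.fst a b) K)
    (hsupp : ClSub.IsProperOver (Limits.pullback.snd a b) (CohB1.support K))
    [DCoh.HasLpull (Limits.pullback.fst a b)] [DCoh.HasLTensorMod K]
    [DCoh.HasRpush (Limits.pullback.snd a b)]
    (M : DCoh.D X) (hM : DCoh.IsCohD M) (m n : ℤ) (hMge : DerivedCategory.IsGE M m)
    (hMle : DerivedCategory.IsLE M n) :
    DCoh.IsCohD ((DCoh.Rpush (Limits.pullback.snd a b)).obj
        ((DCoh.LTensorMod K).obj ((DCoh.Lpull (Limits.pullback.fst a b)).obj M))) ∧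
      ∃ m' n' : ℤ, DerivedCategory.IsGE ((DCoh.Rpush (Limits.pullback.snd a b)).obj
          ((DCoh.LTensorMod K).obj ((DCoh.Lpull (Limits.pullback.fst a b)).obj M))) m' ∧
        DerivedCategory.IsLE ((DCoh.Rpush (Limits.pullback.snd a b)).obj
          ((DCoh.LTensorMod K).obj ((DCoh.Lpull (Limits.pullback.fst a b)).obj M))) n' := by
  let p := Limits.pullback.fst a b
  let q := Limits.pullback.snd a b
  have : IsLocallyNoetherian X := LocallyOfFiniteType.isLocallyNoetherian a
  have : IsLocallyNoetherian Y := LocallyOfFiniteType.isLocallyNoetherian b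
  have : CompactSpace Y := QuasiCompact.compactSpace_of_compactSpace b
  have : IsNoetherian Y := ⟨⟩
  have : LocallyOfFiniteType q := inferInstance
  have : IsLocallyNoetherian (Limits.pullback a b) := LocallyOfFiniteType.isLocallyNoetherian q
  obtain ⟨M₀, ⟨e⟩⟩ : ∃ M₀ : CochainComplex X.Modules ℤ, Nonempty (DCoh.toD X M₀ ≅ M) :=
    ⟨_, ⟨DerivedCategory.Q.objObjPreimageIso M⟩⟩
  let eM : ∀ i, M₀.homology i ≅ DCoh.HD M i := fun i =>
    ((DerivedCategory.homologyFunctorFactors _ i).app M₀).symm ≪≫
      (DerivedCategory.homologyFunctor _ i).mapIso e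
  let E := (DCoh.LTensorMod K).obj ((DCoh.Lpull p).obj M)
  have h : ∀ i, Nonempty (DCoh.HD E i ≅ (FMBound.Flat.psi p K).obj (DCoh.HD M i)) := fun i => by
    obtain ⟨e'⟩ := FMBound.Flat.nonempty_hdIso p K hflat M₀ i
    exact ⟨(DerivedCategory.homologyFunctor _ i).mapIso
      ((DCoh.LTensorMod K).mapIso ((DCoh.Lpull p).mapIso e.symm)) ≪≫ e' ≪≫
        (FMBound.Flat.psi p K).mapIso (eM i)⟩
  have hcoh : DCoh.IsCohD E := fun i => by
    obtain ⟨e'⟩ := h i
    exact CohDev.isCoh_of_iso e'.symm (FMBound.Flat.isCoh_psi p K hK (hM i))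
  have : DerivedCategory.IsGE E m := (DerivedCategory.isGE_iff E m).2 fun i hi => by
    obtain ⟨e'⟩ := h i
    exact ((FMBound.Flat.psi p K).map_isZero (M.isZero_of_isGE m i hi)).of_iso e'
  have : DerivedCategory.IsLE E n := (DerivedCategory.isLE_iff E n).2 fun i hi => by
    obtain ⟨e'⟩ := h i
    exact ((FMBound.Flat.psi p K).map_isZero (M.isZero_of_isLE n i hi)).of_iso e'
  have hs : ∀ i, ClSub.IsProperOver q (CohB1.support (DCoh.HD E i)) := fun i => by
    refine EtShriekLib.ipo_mono q hsupp (CohDev.isClosed_support (hcoh i)) fun x hx => ?_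
    obtain ⟨e'⟩ := h i
    refine FMBound.Flat.support_psi_subset p K (DCoh.HD M i) fun hsub => hx ?_
    exact @Equiv.subsingleton _ _ ((DerSch.stalkFunctor _ x).mapIso e').toLinearEquiv.toEquiv hsub
  obtain ⟨h1, h2, b', h3⟩ := Groth.Agent.S1001.result q E m n hcoh hs
  exact ⟨h1, m, b', h2, h3⟩

end Groth.Agent.S2224
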