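import Groth.Statements.S2225
import Groth.Agent.S19920
import Groth.Agent.S0342
import Groth.Agent.S0343

set_option autoImplicit false
universe u
open CategoryTheory AlgebraicGeometry
open Models

namespace Groth.Agent.S2225

open IsLocalRing

/-- A nonzero element of the base is a non-zero-divisor in the local rings of a flat scheme. -/
lemma isSMulRegular_pointHom {R : Type u} [CommRing R] [IsDomain R] {X : Scheme.{u}}
    (p : X ⟶ Spec (CommRingCat.of R)) [Flat p] (x : X) {r : R} (hr : r ≠ 0) :
    IsSMulRegular (X.presheaf.stalk x) (S19920.pointHom p x r) := by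
  obtain ⟨_, ⟨U, hU, rfl⟩, hxU, -⟩ :=
    X.isBasis_affineOpens.exists_subset_of_mem_open (Set.mem_univ x) isOpen_univ
  set φ0 : R →+* Γ(X, U) :=
    ((Scheme.ΓSpecIso (CommRingCat.of R)).inv ≫ p.appLE ⊤ U le_top).hom with hφ0
  let _ : Algebra R Γ(X, U) := φ0.toAlgebra
  have hbij := (Scheme.ΓSpecIso (CommRingCat.of R)).symm.commRingCatIsoToRingEquiv.bijective
  have hAfl : φ0.Flat := RingHom.Flat.comp (RingHom.Flat.of_bijective hbij)
    (Flat.flat_appLE p (isAffineOpen_top _) hU le_top)
  have : Module.Flat R Γ(X, U) := hAfl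
  have hreg : IsSMulRegular Γ(X, U) (algebraMap R Γ(X, U) r) :=
    IsSMulRegular.of_flat (S := Γ(X, U)) (fun a b h => mul_left_cancel₀ hr h)
  let _ : Algebra Γ(X, U) (X.presheaf.stalk x) := (X.presheaf.germ U x hxU).hom.toAlgebra
  have : IsLocalization.AtPrime (X.presheaf.stalk x) (hU.primeIdealOf ⟨x, hxU⟩).asIdeal :=
    hU.isLocalization_stalk ⟨x, hxU⟩
  have : Module.Flat Γ(X, U) (X.presheaf.stalk x) :=
    IsLocalization.flat _ (hU.primeIdealOf ⟨x, hxU⟩).asIdeal.primeCompl
  have h1 : algebraMap Γ(X, U) (X.presheaf.stalk x) (algebraMap R Γ(X, U) r) =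
      S19920.pointHom p x r := by
    have h2 : X.presheaf.map (homOfLE (le_top : U ≤ ⊤)).op ≫ X.presheaf.germ U x hxU =
        X.presheaf.germ ⊤ x trivial := X.presheaf.germ_res _ _ _
    change (X.presheaf.germ U x hxU).hom _ = _
    rw [S19920.pointHom, ← h2]
    rfl
  rw [← h1]
  exact hreg.of_flat

/-- Part (1), for the closed fibre: let R be a discrete valuation ring with fraction field K, C a smooth
proper curve over K and X a regular model of C over R (flat, of finite type, all local rings
regular). Then every local ring of the special fibre X_k is a Gorenstein local ring; together with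
flatness and regularity of the generic fibre this says X -> Spec R is a Gorenstein morphism. -/
theorem result (R : Type u) [CommRing R] [IsDomain R]
    [IsDiscreteValuationRing R] (C X : Scheme.{u})
    (f : C ⟶ Spec (CommRingCat.of (FractionRing R))) (p : X ⟶ Spec (CommRingCat.of R))
    (hC : Curve.IsSmoothProperCurve (FractionRing R) C f) (hX : Models.IsModel R X p C f)
    (hreg : Models.IsRegularScheme X) (x : ↥(Models.specialFibre R X p)) :
    LocCoh.IsGorensteinLocalRing ((Models.specialFibre R X p).presheaf.stalk x) := by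
  obtain ⟨hflat, hlft, hqc, -⟩ := hX
  obtain ⟨ϖ, hϖ⟩ := IsDiscreteValuationRing.exists_irreducible R
  have hs : IsPullback
      (Limits.pullback.fst p (Spec.map (CommRingCat.ofHom (algebraMap R (ResidueField R)))))
      (Limits.pullback.snd p (Spec.map (CommRingCat.ofHom (algebraMap R (ResidueField R))))) p
      (Spec.map (CommRingCat.ofHom (IsLocalRing.residue R))) := IsPullback.of_hasPullback _ _
  set gs : Models.specialFibre R X p ⟶ X :=
    Limits.pullback.fst p (Spec.map (CommRingCat.ofHom (algebraMap R (ResidueField R)))) with hgs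
  have : IsClosedImmersion gs := MorphismProperty.of_isPullback hs.flip
    (IsClosedImmersion.spec_of_surjective _ IsLocalRing.residue_surjective)
  have hker : RingHom.ker (gs.stalkMap x).hom =
      Ideal.span {S19920.pointHom p (gs x) ϖ} := by
    rw [S19920.ker_stalkMap_eq R p gs _ hs x, hϖ.maximalIdeal_eq, Ideal.map_span,
      Set.image_singleton]
  have := hreg (gs x)
  have hmem : S19920.pointHom p (gs x) ϖ ∈ maximalIdeal (X.presheaf.stalk (gs x)) :=
    le_maximalIdeal (RingHom.ker_ne_top (gs.stalkMap x).hom)
      (hker.ge (Ideal.mem_span_singleton_self _))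
  have hG := (Groth.Agent.S0343.result _ _ hmem
    (isSMulRegular_pointHom p (gs x) hϖ.ne_zero)).mp (Groth.Agent.S0342.result _)
  have := hG
  exact Groth.Agent.Gor.FlatLocal.gorenstein_of_ringEquiv
    ((Ideal.quotEquivOfEq hker.symm).trans
      (RingHom.quotientKerEquivOfSurjective (gs.stalkMap_surjective x)))

end Groth.Agent.S2225
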