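import Groth.Statements.S2227
import Groth.Agent.NodeStruct.DVR

set_option backward.isDefEq.respectTransparency.types false

set_option autoImplicit false
universe u
open CategoryTheory AlgebraicGeometry
open Models

namespace Groth.Agent.S2227

/-- Let R be a discrete valuation ring with uniformizer ϖ and X → Spec R an at-worst-nodal family of
relative dimension one. For every point x of X lying over the closed point of Spec R there are: a
discrete valuation ring R' with an étale ring map R → R' sending ϖ to a uniformizer of R', an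
element h of R'[u, v] which is either 0 or the constant ϖⁿ for some n (via R → R'), a scheme U with
an étale morphism e : U → X whose image contains x, and an étale morphism g : U → Spec(R'[u, v]/(uv
− h)), such that the two composites U → Spec R (through g and through e) agree. (The étaleness of g
is part of the statement here; the published display leaves it implicit.) -/
theorem result (R : Type u) [CommRing R] [IsDomain R]
    [IsDiscreteValuationRing R] (ϖ : R) (hϖ : Irreducible ϖ) (X : Scheme.{u})
    (p : X ⟶ Spec (CommRingCat.of R)) (hp : Curv2.IsNodalFamily p) (x : X)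
    (hx : p.base x = IsLocalRing.closedPoint R) :
    ∃ (R' : Type u) (_ : CommRing R') (_ : IsDomain R') (_ : IsDiscreteValuationRing R')
      (_ : Algebra R R') (_ : Algebra.Etale R R') (_ : Irreducible (algebraMap R R' ϖ))
      (h : MvPolynomial (Fin 2) R') (_ : h = 0 ∨ ∃ n : ℕ, h = MvPolynomial.C (algebraMap R R' ϖ ^ n))
      (U : Scheme.{u}) (e : U ⟶ X) (_ : Etale e) (x' : U) (_ : e.base x' = x)
      (g : U ⟶ Spec (CommRingCat.of (MvPolynomial (Fin 2) R' ⧸
        Ideal.span {MvPolynomial.X 0 * MvPolynomial.X 1 - h}))) (_ : Etale g),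
      g ≫ Spec.map (CommRingCat.ofHom ((Ideal.Quotient.mk _).comp
          (MvPolynomial.C.comp (algebraMap R R')))) = e ≫ p := by
  obtain ⟨hfl, hfp, -⟩ := id hp
  rcases NodeStruct.smooth_or_node p hp x with hs | hn
  · haveI := StrictSSLib.smooth_smoothLocus p
    have hd : FlatMor.fibreDimAt (p.smoothLocus.ι ≫ p) ⟨x, hs⟩ = 1 :=
      (NodeStruct.fibreDimAt_comp p.smoothLocus.ι p ⟨x, hs⟩).trans (NodeStruct.fibreDimAt_eq_one p hp x)
    obtain ⟨U, e, he, x', hx', g, hg, hw⟩ := NodeStruct.exists_line_chart_of_smooth (p.smoothLocus.ι ≫ p) ⟨x, hs⟩ hx hd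
    refine ⟨R, inferInstance, inferInstance, inferInstance, Algebra.id R, inferInstance, hϖ,
      MvPolynomial.C (1 : R), Or.inr ⟨0, ?_⟩, U, e ≫ p.smoothLocus.ι, inferInstance, x', ?_, g, hg, ?_⟩
    · rw [pow_zero]
    · show p.smoothLocus.ι (e x') = x
      rw [hx']; rfl
    · rw [Category.assoc, ← hw]; rfl
  · obtain ⟨R', i1, i2, i3, i4, hE, hirr, c, hc, U, e, he, x', hx', g, hg, hw⟩ :=
      NodeStruct.exists_dvr_chart_of_node hϖ p x hn hx
    refine ⟨R', i1, i2, i3, i4, hE, hirr, MvPolynomial.C c, ?_, U, e, he, x', hx', g, hg, ?_⟩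
    · rcases hc with rfl | ⟨n, rfl⟩
      · exact Or.inl (map_zero _)
      · exact Or.inr ⟨n, rfl⟩
    · exact hw

end Groth.Agent.S2227
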