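import Groth.Statements.S2229
import Mathlib.RingTheory.PicardGroup
import Mathlib.RingTheory.Ideal.GoingUp
import Mathlib.RingTheory.QuasiFinite.Basic
import Mathlib.RingTheory.Discriminant
import Mathlib.RingTheory.Norm.Basic
-- import your own Groth.Agent.* helpers here

set_option autoImplicit false
universe u
open Disc

namespace Groth.Agent.S2229

/-- Part (2), special case: affine with B finite free over the Noetherian ring A (basis b) and omega =
Hom_A(B, A) an invertible B-module. Then the ideal of A generated by the norms of all elements of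
the different of B over A equals the ideal generated by the discriminant of the basis b (the norm of
the ramification locus is the discriminant). -/
theorem result {A B : Type u} [CommRing A] [CommRing B]
    [Algebra A B] [IsNoetherianRing A] {ι : Type} [Fintype ι] [DecidableEq ι]
    (b : Module.Basis ι A B) [Module.Invertible B (Disc.Omega A B)] :
    Ideal.span (Algebra.norm A '' Disc.differentSet A B) = Ideal.span {Algebra.discr A b} := by
  classical
  have : Module.Finite A B := Module.Finite.of_basis b
  have : Module.Free A B := Module.Free.of_basis b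
  let G : Disc.Omega A B → Matrix ι ι A :=
    fun l => Matrix.of fun i j => l.toLinearMap (b i * b j)
  have hG : ∀ (x : B) (l : Disc.Omega A B),
      (G (x • l)).det = Algebra.norm A x * (G l).det := by
    intro x l
    have : G (x • l) = (Algebra.leftMulMatrix b x).transpose * G l := by
      ext i j
      simp only [G, Matrix.of_apply, Disc.Omega.smul_toLinearMap_apply, Matrix.mul_apply,
        Matrix.transpose_apply, Algebra.leftMulMatrix_eq_repr_mul]
      conv_lhs => rw [← mul_assoc, ← b.sum_repr (x * b i), Finset.sum_mul, map_sum]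
      refine Finset.sum_congr rfl fun k _ => ?_
      rw [smul_mul_assoc, map_smul, smul_eq_mul]
    rw [this, Matrix.det_mul, Matrix.det_transpose, ← Algebra.norm_eq_matrix_det b]
  have hτ : (G (Disc.Omega.trace A B)).det = Algebra.discr A b := rfl
  -- local generator of the dualizing module
  have hgen : ∀ (p : Ideal A) [p.IsPrime], ∃ (s : A) (g : Disc.Omega A B), s ∉ p ∧
      ∀ l : Disc.Omega A B, ∃ c : B, algebraMap A B s • l = c • g := by
    intro p _
    have hfin : (p.primesOver B).Finite := Algebra.QuasiFinite.finite_primesOver p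
    have hφ : ∀ q : Ideal B, q.IsPrime → ∃ (φ : Disc.Omega A B →ₗ[B] B) (m : Disc.Omega A B),
        φ m ∉ q := by
      intro q hq
      by_contra hcon
      push Not at hcon
      obtain ⟨z, hz⟩ := (Module.Invertible.linearEquiv B (Disc.Omega A B)).surjective 1
      apply hq.ne_top
      rw [Ideal.eq_top_iff_one, ← hz]
      clear hz
      induction z using TensorProduct.induction_on with
      | zero => rw [map_zero]; exact q.zero_mem
      | tmul φ m => exact hcon φ m
      | add z w h h' => rw [map_add]; exact q.add_mem h h'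
    choose φ m hφm using hφ
    let S := hfin.toFinset
    have hmem : ∀ {q}, q ∈ S → q.IsPrime ∧ q.LiesOver p := fun {q} hq => by
      simpa [S, Ideal.primesOver] using hq
    have hx : ∀ q : S, ∃ x : B, x ∉ q.1 ∧ ∀ q' : S, q' ≠ q → x ∈ q'.1 := by
      intro q
      have hqp := (hmem q.2).1
      have : ¬ (S.erase q.1).inf id ≤ q.1 := by
        rw [hqp.inf_le']
        rintro ⟨q', hq', hle⟩
        have := (hmem (Finset.mem_of_mem_erase hq')).1
        refine Finset.ne_of_mem_erase hq' (Algebra.QuasiFinite.eq_of_le_of_under_eq (R := A) q' q.1 hle ?_)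
        exact (hmem (Finset.mem_of_mem_erase hq')).2.over.symm.trans (hmem q.2).2.over
      obtain ⟨x, hx, hxq⟩ := SetLike.not_le_iff_exists.1 this
      refine ⟨x, hxq, fun q' hne => ?_⟩
      exact (Finset.inf_le (f := id) (Finset.mem_erase.2 ⟨fun h => hne (Subtype.ext h), q'.2⟩)) hx
    choose x hxq hx' using hx
    let g : Disc.Omega A B := ∑ q : S, x q • m q.1 (hmem q.2).1
    let J : Ideal B := Submodule.colon (Submodule.span B {g}) Set.univ
    by_contra hcon
    push Not at hcon
    have hJp : J.comap (algebraMap A B) ≤ p := by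
      intro s hs
      by_contra hsp
      obtain ⟨l, hl⟩ := hcon s g hsp
      obtain ⟨c, hc⟩ := Submodule.mem_span_singleton.1 (Submodule.mem_colon.1 hs l (Set.mem_univ _))
      exact hl c hc.symm
    obtain ⟨q, hqJ, hq, hqp⟩ := Ideal.exists_ideal_over_prime_of_isIntegral p J hJp
    have hqS : q ∈ S := by
      simp only [S, Set.Finite.mem_toFinset]
      exact ⟨hq, ⟨hqp.symm⟩⟩
    let ψ := φ q hq
    have hψ : ψ g ∉ q := by
      have hsplit : ψ g = x ⟨q, hqS⟩ * ψ (m q hq) +
          ∑ q' ∈ Finset.univ.erase (⟨q, hqS⟩ : S), x q' * ψ (m q'.1 (hmem q'.2).1) := by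
        simp only [g, map_sum, map_smul, smul_eq_mul]
        exact (Finset.add_sum_erase Finset.univ
          (fun q' : S => x q' * ψ (m q'.1 (hmem q'.2).1)) (Finset.mem_univ _)).symm
      intro h
      rw [hsplit] at h
      have h2 : ∑ q' ∈ Finset.univ.erase (⟨q, hqS⟩ : S), x q' * ψ (m q'.1 (hmem q'.2).1) ∈ q :=
        q.sum_mem fun q' hq' => q.mul_mem_right _
          (hx' q' ⟨q, hqS⟩ (Finset.ne_of_mem_erase hq').symm)
      rcases hq.mem_or_mem ((Ideal.add_mem_iff_left q h2).1 h) with h3 | h3
      · exact hxq ⟨q, hqS⟩ h3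
      · exact hφm q hq h3
    apply hψ
    refine hq.mem_of_pow_mem 2 (hqJ (Submodule.mem_colon.2 fun l _ => ?_))
    obtain ⟨r, hr⟩ := (Module.Invertible.toModuleEnd_bijective B (Disc.Omega A B)).2
      (ψ g • LinearMap.id - ψ.smulRight g)
    have hr' : ∀ y, r • y = ψ g • y - ψ y • g := fun y => LinearMap.congr_fun hr y
    have h0 : r * ψ g = 0 := by
      have := congrArg ψ (hr' g)
      rw [map_smul, smul_eq_mul, map_sub, sub_self] at this
      exact this
    refine Submodule.mem_span_singleton.2 ⟨ψ g * ψ l, ?_⟩
    have := congrArg (ψ g • ·) (hr' l)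
    simp only [smul_smul, smul_sub, mul_comm (ψ g) r, h0, zero_smul] at this
    rw [pow_two, eq_comm, ← sub_eq_zero]
    exact this.symm
  apply le_antisymm
  · rw [Ideal.span_le]
    rintro _ ⟨d, hd, rfl⟩
    rw [SetLike.mem_coe]
    suffices h : (1 : A) ∈ Submodule.colon (Ideal.span {Algebra.discr A b})
        ({Algebra.norm A d} : Set A) by
      simpa [smul_eq_mul] using Submodule.mem_colon.1 h _ rfl
    by_contra h1
    obtain ⟨p, hp, hle⟩ := Ideal.exists_le_maximal _ fun h => h1 ((Ideal.eq_top_iff_one _).1 h)
    obtain ⟨s, g, hsp, hsg⟩ := hgen p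
    choose c hc using fun k => hsg ⟨b.coord k⟩
    have hC : (Matrix.of fun k l => b.repr (c k) l) * G g = s • (1 : Matrix ι ι A) := by
      ext k j
      have h := congrArg (fun l : Disc.Omega A B => l.toLinearMap (b j)) (hc k)
      simp only [Disc.Omega.smul_toLinearMap_apply, ← Algebra.smul_def, map_smul] at h
      rw [← b.sum_repr (c k), Finset.sum_mul, map_sum] at h
      simp only [Matrix.mul_apply, G, Matrix.of_apply, Matrix.smul_apply, Matrix.one_apply,
        Finsupp.single_apply, smul_mul_assoc, map_smul, smul_eq_mul, b.coord_apply, b.repr_self] at h ⊢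
      rw [← h]
      simp [eq_comm]
    have hdet := congrArg Matrix.det hC
    rw [Matrix.det_mul, Matrix.det_smul, Matrix.det_one, mul_one] at hdet
    obtain ⟨e, he⟩ := hd g.toLinearMap
    have h2 := congrArg (fun l => (G l).det) (show d • g = e • Disc.Omega.trace A B from
      Disc.Omega.ext (LinearMap.ext fun y => he y))
    simp only [hG, hτ] at h2
    have : s ^ Fintype.card ι ∈ Submodule.colon (Ideal.span {Algebra.discr A b})
        ({Algebra.norm A d} : Set A) := by
      refine Submodule.mem_colon.2 fun y hy => ?_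
      rw [Set.mem_singleton_iff.1 hy, smul_eq_mul, ← hdet, Ideal.mem_span_singleton]
      refine Dvd.intro (Algebra.norm A e * (Matrix.of fun k l => b.repr (c k) l).det) ?_
      linear_combination (-(Matrix.of fun k l => b.repr (c k) l).det) * h2
    exact hsp (hp.isPrime.mem_of_pow_mem _ (hle this))
  · rw [Ideal.span_le, Set.singleton_subset_iff, SetLike.mem_coe]
    suffices h : (1 : A) ∈ Submodule.colon (Ideal.span (Algebra.norm A '' Disc.differentSet A B))
        ({Algebra.discr A b} : Set A) by
      simpa using Submodule.mem_colon.1 h _ rfl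
    by_contra h1
    obtain ⟨p, hp, hle⟩ := Ideal.exists_le_maximal _ fun h => h1 ((Ideal.eq_top_iff_one _).1 h)
    obtain ⟨s, g, hsp, hsg⟩ := hgen p
    obtain ⟨δ, hδ⟩ := hsg (Disc.Omega.trace A B)
    have hsδ : algebraMap A B s * δ ∈ Disc.differentSet A B := by
      intro φ
      obtain ⟨c, hc⟩ := hsg ⟨φ⟩
      have : (algebraMap A B s * δ) • (⟨φ⟩ : Disc.Omega A B) =
          (c * algebraMap A B s) • Disc.Omega.trace A B := by
        rw [mul_comm, mul_smul, hc, smul_smul, mul_comm δ c, mul_smul, mul_smul, hδ]
      exact ⟨_, fun y => congrArg (fun l : Disc.Omega A B => l.toLinearMap y) this⟩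
    have h2 := congrArg (fun l => (G l).det) hδ
    simp only [hG, hτ, Algebra.norm_algebraMap_of_basis b] at h2
    have : s ^ Fintype.card ι * s ^ Fintype.card ι ∈ Submodule.colon
        (Ideal.span (Algebra.norm A '' Disc.differentSet A B)) ({Algebra.discr A b} : Set A) := by
      refine Submodule.mem_colon.2 fun y hy => ?_
      rw [Set.mem_singleton_iff.1 hy, smul_eq_mul, mul_assoc, h2, ← mul_assoc,
        ← Algebra.norm_algebraMap_of_basis b, ← map_mul]
      exact Ideal.mul_mem_right _ _ (Ideal.subset_span ⟨_, hsδ, rfl⟩)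
    rcases hp.isPrime.mem_or_mem (hle this) with h | h <;>
      exact hsp (hp.isPrime.mem_of_pow_mem _ h)

end Groth.Agent.S2229
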