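import Groth.Statements.S2231
import Groth.Agent.S0962
import Groth.Agent.KFlat.LocalD
import Groth.Agent.PerfTri.Perfect
import Groth.Agent.DEq.KernelDiag
import Groth.Agent.KFlat.FlatProper

set_option autoImplicit false
universe u
open CategoryTheory AlgebraicGeometry
attribute [local instance] HasDerivedCategory.standard
open QCohCat Groth.Agent

namespace Groth.Agent.S2231

/-- Case (3): let X -> S be proper, flat and of finite presentation, Y -> S arbitrary, and K a complex
of modules on X x_S Y which is perfect. Assuming the derived functors L pr_1^*, - tensor^L K and R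
pr_2,* exist (unproved hypotheses carried as binders), the Fourier-Mukai transform of a perfect
object of D(O_X) is a perfect object of D(O_Y). -/
theorem result {S X Y : Scheme.{u}} (a : X ⟶ S)
    (b : Y ⟶ S) [IsProper a] [Flat a] [LocallyOfFinitePresentation a]
    (K : CochainComplex (Limits.pullback a b).Modules ℤ)
    (hK : DCoh.IsPerfect (DCoh.toD (Limits.pullback a b) K))
    [DCoh.HasLpull (Limits.pullback.fst a b)] [DCoh.HasLTensorCx K]
    [DCoh.HasRpush (Limits.pullback.snd a b)] (M : DCoh.D X) (hM : DCoh.IsPerfect M) :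
    DCoh.IsPerfect ((DCoh.Rpush (Limits.pullback.snd a b)).obj
        ((DCoh.LTensorCx K).obj ((DCoh.Lpull (Limits.pullback.fst a b)).obj M))) := by
  let P := (KFlat.Pull.resY (Limits.pullback a b)).obj K
  have := KFlat.Pull.quasiIso_resYπ (Y := Limits.pullback a b) K
  let e : DerivedCategory.Q.obj P ≅ DerivedCategory.Q.obj K :=
    asIso (DerivedCategory.Q.map ((KFlat.Pull.resYπ (Limits.pullback a b)).app K))
  haveI := KFlat.LTensor.hasLTensorCx P
  obtain ⟨eL⟩ := DEq.nonempty_ltensorCongr e.symm
  have hP : DCoh.IsPerfect (DerivedCategory.Q.obj P) := PerfTri.Perfect.isPerfect_of_iso e.symm hK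
  refine Groth.Agent.KFlat.FlatProper.isPerfect_Rpush _ _ ?_
  exact PerfTri.Perfect.isPerfect_of_iso (eL.app _).symm
    (S0962.result P (KFlat.Pull.isKFlat_resY K) hP _ (KFlat.LocalD.isPerfect_Lpull _ hM))

end Groth.Agent.S2231
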