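import Groth.Statements.S2232
import Groth.Agent.FMBound.Perfect
import Groth.Agent.PerfTri.Regular
import Groth.Agent.EtShriekLib.Proper
import Groth.Agent.CohDev.Coh
import Groth.Agent.S1001
-- import your own Groth.Agent.* helpers here

set_option autoImplicit false
universe u
open CategoryTheory AlgebraicGeometry
attribute [local instance] HasDerivedCategory.standard
open QCohCat

namespace Groth.Agent.S2232

/-- Case (3): let S be Noetherian, X -> S and Y -> S of finite type with all local rings of X regular,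
and K a bounded complex of modules on X x_S Y with coherent cohomology sheaves whose supports are
proper over Y. Assuming the derived functors L pr_1^*, - tensor^L K and R pr_2,* exist (unproved
hypotheses carried as binders), the Fourier-Mukai transform of a bounded object of D(O_X) with
coherent cohomology sheaves is a bounded object of D(O_Y) with coherent cohomology sheaves. -/
theorem result {S X Y : Scheme.{u}} [IsNoetherian S]
    (a : X ⟶ S) (b : Y ⟶ S) [LocallyOfFiniteType a] [QuasiCompact a] [LocallyOfFiniteType b]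
    [QuasiCompact b] (hreg : Models.IsRegularScheme X)
    (K : CochainComplex (Limits.pullback a b).Modules ℤ)
    (hKcoh : DCoh.IsCohD (DCoh.toD (Limits.pullback a b) K)) (kₗ kᵤ : ℤ)
    (hKge : DerivedCategory.IsGE (DCoh.toD (Limits.pullback a b) K) kₗ)
    (hKle : DerivedCategory.IsLE (DCoh.toD (Limits.pullback a b) K) kᵤ)
    (hsupp : ∀ i : ℤ, ClSub.IsProperOver (Limits.pullback.snd a b)
      (CohB1.support (DCoh.HD (DCoh.toD (Limits.pullback a b) K) i)))
    [DCoh.HasLpull (Limits.pullback.fst a b)] [DCoh.HasLTensorCx K]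
    [DCoh.HasRpush (Limits.pullback.snd a b)]
    (M : DCoh.D X) (hM : DCoh.IsCohD M) (m n : ℤ) (hMge : DerivedCategory.IsGE M m)
    (hMle : DerivedCategory.IsLE M n) :
    DCoh.IsCohD ((DCoh.Rpush (Limits.pullback.snd a b)).obj
        ((DCoh.LTensorCx K).obj ((DCoh.Lpull (Limits.pullback.fst a b)).obj M))) ∧
      ∃ m' n' : ℤ, DerivedCategory.IsGE ((DCoh.Rpush (Limits.pullback.snd a b)).obj
        ((DCoh.LTensorCx K).obj ((DCoh.Lpull (Limits.pullback.fst a b)).obj M))) m' ∧
        DerivedCategory.IsLE ((DCoh.Rpush (Limits.pullback.snd a b)).obj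
        ((DCoh.LTensorCx K).obj ((DCoh.Lpull (Limits.pullback.fst a b)).obj M))) n' := by
  let p := Limits.pullback.fst a b
  let q := Limits.pullback.snd a b
  have : IsLocallyNoetherian X := LocallyOfFiniteType.isLocallyNoetherian a
  have : CompactSpace X := QuasiCompact.compactSpace_of_compactSpace a
  have : IsLocallyNoetherian Y := LocallyOfFiniteType.isLocallyNoetherian b
  have : CompactSpace Y := QuasiCompact.compactSpace_of_compactSpace b
  have : IsNoetherian Y := ⟨⟩
  have : LocallyOfFiniteType q := inferInstance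
  have : IsLocallyNoetherian (Limits.pullback a b) := LocallyOfFiniteType.isLocallyNoetherian q
  obtain ⟨fa, fb, hfl⟩ := FMBound.Perfect.exists_flatAmp
    (Groth.Agent.PerfTri.Regular.isPerfect_of_bounded hreg M m n hM)
  obtain ⟨M₀, ⟨e⟩⟩ : ∃ M₀ : CochainComplex X.Modules ℤ, Nonempty (DCoh.toD X M₀ ≅ M) :=
    ⟨_, ⟨DerivedCategory.Q.objObjPreimageIso M⟩⟩
  let eM : ∀ i, M₀.homology i ≅ DCoh.HD M i := fun i =>
    ((DerivedCategory.homologyFunctorFactors _ i).app M₀).symm ≪≫
      (DerivedCategory.homologyFunctor _ i).mapIso e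
  let eK : ∀ i, K.homology i ≅ DCoh.HD (DCoh.toD (Limits.pullback a b) K) i := fun i =>
    ((DerivedCategory.homologyFunctorFactors _ i).app K).symm
  let E := (DCoh.LTensorCx K).obj ((DCoh.Lpull p).obj M)
  have hcoh : DCoh.IsCohD E := fun i => by
    refine CohDev.isCoh_of_iso ((DerivedCategory.homologyFunctor _ i).mapIso
      ((DCoh.LTensorCx K).mapIso ((DCoh.Lpull p).mapIso e))) ?_
    exact Groth.Agent.HTor95.CohModel.isCohD_LTensor_Lpull p K
      (fun j => CohDev.isCoh_of_iso (eK j).symm (hKcoh j)) kᵤ
      (fun j hj => ((DCoh.toD (Limits.pullback a b) K).isZero_of_isLE kᵤ j hj).of_iso (eK j)) M₀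
      (fun j => CohDev.isCoh_of_iso (eM j).symm (hM j)) n
      (fun j hj => (M.isZero_of_isLE n j hj).of_iso (eM j)) i
  obtain ⟨hge, hle⟩ := FMBound.Perfect.exists_bounds p K hfl kₗ kᵤ
  let Z : Set ↥(Limits.pullback a b) :=
    ⋃ j ∈ Finset.Icc kₗ kᵤ, CohB1.support (DCoh.HD (DCoh.toD (Limits.pullback a b) K) j)
  have hZ : ClSub.IsProperOver q Z := by
    have : ∀ s : Finset ℤ, ClSub.IsProperOver q
        (⋃ j ∈ s, CohB1.support (DCoh.HD (DCoh.toD (Limits.pullback a b) K) j)) := fun s => by
      induction s using Finset.induction with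
      | empty => simpa using EtShriekLib.ipo_empty q
      | insert j s hj ih =>
        rw [Finset.set_biUnion_insert]
        exact EtShriekLib.ipo_union q (hsupp j) ih
    exact this _
  have hs : ∀ i, ClSub.IsProperOver q (CohB1.support (DCoh.HD E i)) := fun i => by
    refine EtShriekLib.ipo_mono q hZ (CohDev.isClosed_support (hcoh i)) fun x hx => ?_
    by_contra hxZ
    refine hx (ModuleCat.subsingleton_of_isZero
      (FMBound.Perfect.isZero_stalk p K hfl x (fun j => ?_) i))
    by_cases hj : j ∈ Finset.Icc kₗ kᵤ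
    · by_contra hns
      exact hxZ (Set.mem_biUnion hj hns)
    · have hz : Limits.IsZero (DCoh.HD (DCoh.toD (Limits.pullback a b) K) j) := by
        rw [Finset.mem_Icc, not_and_or, not_le, not_le] at hj
        exact hj.elim (fun h => DerivedCategory.isZero_of_isGE _ kₗ j h)
          (fun h => DerivedCategory.isZero_of_isLE _ kᵤ j h)
      exact ModuleCat.subsingleton_of_isZero ((DerSch.stalkFunctor _ x).map_isZero hz)
  obtain ⟨h1, h2, b', h3⟩ := Groth.Agent.S1001.result q E (fa + kₗ) (fb + kᵤ) hcoh hs
  exact ⟨h1, fa + kₗ, b', h2, h3⟩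

end Groth.Agent.S2232
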