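import Groth.Statements.S2235
import Groth.Agent.KoszulWiebe.Wiebe
import Groth.Agent.KoszulWiebe.BaseChange
import Mathlib.LinearAlgebra.TensorProduct.RightExactness
import Mathlib.LinearAlgebra.Matrix.Adjugate
import Mathlib.RingTheory.Flat.Stability
-- import your own Groth.Agent.* helpers here

set_option autoImplicit false
universe u
open TensorProduct
open Disc

namespace Groth.Agent.S2235

open CategoryTheory CategoryTheory.Limits TensorProduct Groth.Agent

/-- Let A -> P be a ring map, f_1, ..., f_n a Koszul-regular sequence in P with B = P/(f_1, ..., f_n)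
flat over A, and g_1, ..., g_n a Koszul-regular sequence in P tensor_A B generating the kernel of
the multiplication map P tensor_A B -> B. Write f_i tensor 1 = sum_j c_ij g_j. Then the annihilator
of the kernel of B tensor_A B -> B is the principal ideal generated by the image of det(c_ij). -/
theorem result {A P : Type u} [CommRing A] [CommRing P] [Algebra A P]
    {n : ℕ} (f : Fin n → P) (hf : LCI.IsKoszulRegularSeq P (List.ofFn f))
    [Module.Flat A (P ⧸ Ideal.span (Set.range f))]
    (g : Fin n → P ⊗[A] (P ⧸ Ideal.span (Set.range f)))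
    (hg : LCI.IsKoszulRegularSeq (P ⊗[A] (P ⧸ Ideal.span (Set.range f))) (List.ofFn g))
    (hgker : Ideal.span (Set.range g) = RingHom.ker (Algebra.TensorProduct.productMap
      (Ideal.Quotient.mkₐ A (Ideal.span (Set.range f))) (AlgHom.id A (P ⧸ Ideal.span (Set.range f)))))
    (c : Matrix (Fin n) (Fin n) (P ⊗[A] (P ⧸ Ideal.span (Set.range f))))
    (hc : ∀ i, f i ⊗ₜ[A] (1 : P ⧸ Ideal.span (Set.range f)) = ∑ j, c i j * g j) :
    Submodule.annihilator (RingHom.ker
        (Algebra.TensorProduct.lmul' (S := P ⧸ Ideal.span (Set.range f)) A)) =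
      Ideal.span {Algebra.TensorProduct.map (Ideal.Quotient.mkₐ A (Ideal.span (Set.range f)))
        (AlgHom.id A (P ⧸ Ideal.span (Set.range f))) (Matrix.det c)} := by
  classical
  let q := Algebra.TensorProduct.map (Ideal.Quotient.mkₐ A (Ideal.span (Set.range f))) (AlgHom.id A (P ⧸ (Ideal.span (Set.range f))))
  let F : Fin n → P ⊗[A] (P ⧸ (Ideal.span (Set.range f))) := fun i => f i ⊗ₜ[A] (1 : P ⧸ (Ideal.span (Set.range f)))
  have hqs : Function.Surjective q :=
    Algebra.TensorProduct.map_surjective _ _ (Ideal.Quotient.mkₐ_surjective A (Ideal.span (Set.range f))) Function.surjective_id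
  have hqk : RingHom.ker q = Ideal.span (Set.range F) := by
    rw [Algebra.TensorProduct.rTensor_ker _ (Ideal.Quotient.mkₐ_surjective A (Ideal.span (Set.range f))),
      show RingHom.ker (Ideal.Quotient.mkₐ A (Ideal.span (Set.range f))) = Ideal.span (Set.range f) by
        ext; simp [Ideal.Quotient.eq_zero_iff_mem],
      Ideal.map_span, ← Set.range_comp]
    rfl
  have hμ : (Algebra.TensorProduct.lmul' (S := P ⧸ (Ideal.span (Set.range f))) A).comp q =
      Algebra.TensorProduct.productMap (Ideal.Quotient.mkₐ A (Ideal.span (Set.range f))) (AlgHom.id A (P ⧸ (Ideal.span (Set.range f)))) := by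
    refine Algebra.TensorProduct.ext' fun a b => ?_
    simp [q]
  have hmem : ∀ y, y ∈ RingHom.ker (Algebra.TensorProduct.lmul' (S := P ⧸ (Ideal.span (Set.range f))) A) ↔
      ∃ z ∈ Ideal.span (Set.range g), q z = y := by
    intro y
    constructor
    · intro hy
      obtain ⟨z, rfl⟩ := hqs y
      refine ⟨z, ?_, rfl⟩
      rw [hgker, RingHom.mem_ker, ← hμ]
      exact hy
    · rintro ⟨z, hz, rfl⟩
      rw [hgker, RingHom.mem_ker, ← hμ] at hz
      exact hz
  have hreg : ∀ i : ℤ, i ≠ 0 →
      IsZero ((Koszul.koszul (P ⊗[A] (P ⧸ (Ideal.span (Set.range f)))) (List.ofFn F)).homology i) := by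
    intro i hi
    have hfl : ((Algebra.TensorProduct.includeLeftRingHom : P →+* P ⊗[A] (P ⧸ (Ideal.span (Set.range f))))).Flat :=
      RingHom.flat_algebraMap_iff.2 inferInstance
    have := KoszulWiebe.isZero_homology_map _ hfl (List.ofFn f) hf i hi
    rw [List.map_ofFn] at this
    exact this
  have hcF : ∀ i, F i = ∑ j, c i j * g j := hc
  refine le_antisymm (fun b hb => ?_) ?_
  · obtain ⟨x, rfl⟩ := hqs b
    have hx : x ∈ Ideal.span (Set.range F) ⊔ Ideal.span {Matrix.det c} := by
      refine KoszulWiebe.mem_sup_det F g c hcF hreg x fun j => ?_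
      rw [← hqk, RingHom.mem_ker, map_mul]
      exact Submodule.mem_annihilator.1 hb _ ((hmem _).2 ⟨g j, Ideal.subset_span ⟨j, rfl⟩, rfl⟩)
    obtain ⟨u, hu, v, hv, rfl⟩ := Submodule.mem_sup.1 hx
    obtain ⟨w, rfl⟩ := Ideal.mem_span_singleton.1 hv
    rw [← hqk, RingHom.mem_ker] at hu
    rw [map_add, hu, zero_add, map_mul]
    exact Ideal.mul_mem_right _ _ (Ideal.mem_span_singleton_self _)
  · rw [Ideal.span_le, Set.singleton_subset_iff, SetLike.mem_coe, Submodule.mem_annihilator]
    intro y hy
    obtain ⟨z, hz, rfl⟩ := (hmem y).1 hy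
    rw [smul_eq_mul, ← map_mul, ← RingHom.mem_ker, hqk]
    refine Submodule.span_induction (fun t ht => ?_) (by simp) (fun s t _ _ hs ht => ?_)
      (fun r t _ ht => ?_) hz
    · obtain ⟨j, rfl⟩ := ht
      have h : c.det * g j = (c.adjugate.mulVec F) j := by
        rw [show F = c.mulVec g from funext hcF, Matrix.mulVec_mulVec, Matrix.adjugate_mul,
          Matrix.smul_mulVec, Matrix.one_mulVec]
        rfl
      rw [h]
      show ∑ i, c.adjugate j i * F i ∈ Ideal.span (Set.range F)
      exact Ideal.sum_mem _ fun i _ => Ideal.mul_mem_left _ _ (Ideal.subset_span ⟨i, rfl⟩)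
    · rw [mul_add]; exact Ideal.add_mem _ hs ht
    · rw [smul_eq_mul, mul_left_comm]; exact Ideal.mul_mem_left _ r ht

end Groth.Agent.S2235
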