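import Groth.Statements.S2335
import Groth.Agent.DVRCrit.Basic

set_option autoImplicit false
universe u
open CategoryTheory CategoryTheory.Limits AlgebraicGeometry
open EGA2

namespace Groth.Agent.S2335

/-- Let Y be locally Noetherian and f : X → Y of finite type. Then f is proper if and only if for every
discrete valuation ring A with fraction field K and every commutative square Spec K → X, Spec A → Y,
there is exactly one morphism Spec A → X making both triangles commute. -/
theorem result {X Y : Scheme.{u}} [IsLocallyNoetherian Y] (f : X ⟶ Y) [LocallyOfFiniteType f] [QuasiCompact f] :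
    IsProper f ↔ ∀ (A : Type u) [CommRing A] [IsDomain A] [IsDiscreteValuationRing A] (x : (Spec (CommRingCat.of (FractionRing A))) ⟶ X) (y : (Spec (CommRingCat.of A)) ⟶ Y),
      x ≫ f = (Spec.map (CommRingCat.ofHom (algebraMap A (FractionRing A)))) ≫ y → ∃! l : (Spec (CommRingCat.of A)) ⟶ X, l ≫ f = y ∧ (Spec.map (CommRingCat.ofHom (algebraMap A (FractionRing A)))) ≫ l = x := by
  refine ⟨fun _ A _ _ _ x y hw ↦ ?_, fun H ↦ ?_⟩
  · let S : ValuativeCommSq f :=
      { R := A, K := FractionRing A, i₁ := x, i₂ := y, commSq := ⟨hw⟩ }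
    have hV : ValuativeCriterion f := by
      have h : IsProper f := inferInstance
      rw [IsProper.eq_valuativeCriterion] at h
      exact h.1.1.1
    obtain ⟨l⟩ := hV S
    refine ⟨l.default.l, ⟨l.default.fac_right, l.default.fac_left⟩, fun l' ⟨h₁, h₂⟩ ↦ ?_⟩
    exact congrArg CommSq.LiftStruct.l (l.uniq ⟨l', h₂, h₁⟩)
  · have : IsSeparated f := DVRCrit.isSeparated_of_dvr f fun A _ _ _ g₁ g₂ hf hK ↦ by
      obtain ⟨l, -, hu⟩ := H A (Spec.map (CommRingCat.ofHom (algebraMap A (FractionRing A))) ≫ g₁)
        (g₁ ≫ f) (Category.assoc _ _ _)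
      rw [hu g₁ ⟨rfl, rfl⟩, hu g₂ ⟨hf.symm, hK.symm⟩]
    have : UniversallyClosed f := UniversallyClosed.of_valuativeCriterion f
      (DVRCrit.existence_of_dvr f fun A _ _ _ x y hw ↦ by
        obtain ⟨l, hl, -⟩ := H A x y hw
        exact ⟨l, hl⟩)
    exact {}

end Groth.Agent.S2335
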