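import Groth.Statements.S2342
-- import your own Groth.Agent.* helpers here

set_option autoImplicit false
set_option linter.style.haveILetI false
universe u
open CategoryTheory CategoryTheory.Limits AlgebraicGeometry
open EGA2

namespace Groth.Agent.S2342

/-- Let A be a valuation ring with Y = Spec A, X an integral separated scheme and f : X → Y a morphism
which is closed as a map of topological spaces, such that the fibre over the generic point of Y
consists of exactly one point x and the induced map from the residue field of the generic point of Y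
to that of x is bijective. Then f is an isomorphism. -/
theorem result (A : Type u) [CommRing A] [IsDomain A] [ValuationRing A]
    (X : Scheme.{u}) [IsIntegral X] [X.IsSeparated] (f : X ⟶ Spec (CommRingCat.of A)) (hf : IsClosedMap f.base)
    (x : X) (hx : f.base ⁻¹' {genericPoint (Spec (CommRingCat.of A))} = {x})
    (hres : Function.Bijective (f.residueFieldMap x).hom) : IsIso f := by
  let Y := Spec (CommRingCat.of A)
  obtain rfl : x = genericPoint X := by
    have hfx : f x = genericPoint Y := hx.ge (Set.mem_singleton x)
    have h1 : f (genericPoint X) ⤳ genericPoint Y := hfx ▸ (genericPoint_specializes x).map f.continuous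
    have h2 : genericPoint X ∈ f.base ⁻¹' {genericPoint Y} :=
      (h1.antisymm (genericPoint_specializes _)).eq
    rw [hx] at h2
    exact h2.symm
  have hξ : f (genericPoint X) = genericPoint Y := hx.ge (Set.mem_singleton _)
  have hsurj : Function.Surjective f := fun y ↦ by
    obtain ⟨x', -, hx'⟩ : y ∈ f.base '' Set.univ :=
      (genericPoint_specializes y).mem_closed (hf _ isClosed_univ) ⟨genericPoint X, trivial, hξ⟩
    exact ⟨x', hx'⟩
  -- the function fields agree
  let e : Y.functionField ⟶ X.functionField :=
    (Y.presheaf.stalkCongr (.of_eq hξ.symm)).hom ≫ f.stalkMap (genericPoint X)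
  have he : Function.Bijective e.hom := by
    refine ⟨RingHom.injective _, fun t ↦ ?_⟩
    obtain ⟨r, hr⟩ := hres.2 (X.residue _ t)
    obtain ⟨r, rfl⟩ := Y.residue_surjective _ r
    obtain ⟨r', rfl⟩ := (ConcreteCategory.bijective_of_isIso
      (Y.presheaf.stalkCongr (.of_eq hξ.symm)).hom).2 r
    refine ⟨r', ?_⟩
    have h1 := ConcreteCategory.congr_hom (Scheme.residue_residueFieldMap f (genericPoint X))
      ((Y.presheaf.stalkCongr (.of_eq hξ.symm)).hom r')
    have h2 : X.residue (genericPoint X) (e.hom r') = X.residue (genericPoint X) t := h1.symm.trans hr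
    exact ((X.residue (genericPoint X)).hom : X.functionField →+* X.residueField (genericPoint X)).injective h2
  -- stalks of `Y` are valuation rings
  have hval : ∀ y : Y, ValuationRing (Y.presheaf.stalk y) := fun y ↦ by
    have hA : ValuationRing Γ(Y, ⊤) := by
      rw [ValuationRing.iff_dvd_total]
      refine ⟨fun a b ↦ ?_⟩
      let φ := (Scheme.ΓSpecIso (CommRingCat.of A)).commRingCatIsoToRingEquiv
      rcases (ValuationRing.iff_dvd_total.mp ‹ValuationRing A›).total (φ a) (φ b) with h | h
      · exact .inl (by simpa using map_dvd φ.symm h)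
      · exact .inr (by simpa using map_dvd φ.symm h)
    letI := Y.presheaf.algebra_section_stalk (U := ⊤) ⟨y, trivial⟩
    have hloc := (isAffineOpen_top Y).isLocalization_stalk ⟨y, trivial⟩
    rw [ValuationRing.iff_dvd_total]
    refine ⟨fun a b ↦ ?_⟩
    obtain ⟨⟨a', u⟩, ha⟩ :=
      IsLocalization.surj ((isAffineOpen_top Y).primeIdealOf ⟨y, trivial⟩).asIdeal.primeCompl a
    obtain ⟨⟨b', v⟩, hb⟩ :=
      IsLocalization.surj ((isAffineOpen_top Y).primeIdealOf ⟨y, trivial⟩).asIdeal.primeCompl b
    have hu := IsLocalization.map_units (Y.presheaf.stalk y) u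
    have hv := IsLocalization.map_units (Y.presheaf.stalk y) v
    rcases (ValuationRing.iff_dvd_total.mp hA).total a' b' with h | h
    · left
      have h' := map_dvd (algebraMap Γ(Y, ⊤) (Y.presheaf.stalk y)) h
      rw [← ha, ← hb, hu.mul_right_dvd, hv.dvd_mul_right] at h'
      exact h'
    · right
      have h' := map_dvd (algebraMap Γ(Y, ⊤) (Y.presheaf.stalk y)) h
      rw [← ha, ← hb, hv.mul_right_dvd, hu.dvd_mul_right] at h'
      exact h'
  -- the stalk maps are bijective
  have hstalk : ∀ x' : X, Function.Bijective (f.stalkMap x').hom := fun x' ↦ by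
    haveI := hval (f x')
    let β : X.presheaf.stalk x' →+* X.functionField := algebraMap _ _
    have hβ : Function.Injective β := IsFractionRing.injective (X.presheaf.stalk x') X.functionField
    have hcomm : β.comp (f.stalkMap x').hom =
        e.hom.comp (algebraMap (Y.presheaf.stalk (f x')) Y.functionField) := by
      have h1 := Scheme.Hom.stalkSpecializes_stalkMap f (genericPoint X) x' (genericPoint_specializes x')
      ext r
      refine (ConcreteCategory.congr_hom h1 r).symm.trans ?_
      refine congrArg (f.stalkMap (genericPoint X)).hom ?_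
      exact (ConcreteCategory.congr_hom (TopCat.Presheaf.stalkSpecializes_comp (F := Y.presheaf)
        (Inseparable.of_eq hξ.symm).specializes' (genericPoint_specializes (f x'))) r).symm
    letI := (β.comp (f.stalkMap x').hom).toAlgebra
    haveI : IsFractionRing (Y.presheaf.stalk (f x')) X.functionField :=
      IsLocalization.isLocalization_of_algEquiv (nonZeroDivisors _)
        (AlgEquiv.ofRingEquiv (f := RingEquiv.ofBijective e.hom he)
          fun r ↦ (RingHom.congr_fun hcomm r).symm)
    have hb := bijective_rangeRestrict_comp_of_valuationRing (R := Y.presheaf.stalk (f x'))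
      (K := X.functionField) (f.stalkMap x').hom β rfl
    refine ⟨fun a b h ↦ hb.1 (congrArg β.rangeRestrict h), fun t ↦ ?_⟩
    obtain ⟨r, hr⟩ := hb.2 (β.rangeRestrict t)
    exact ⟨r, hβ (congrArg Subtype.val hr)⟩
  -- injectivity
  have hinj : Function.Injective f := by
    intro x₁ x₂ h12
    have key : ∀ (x' : X) (y : Y) (hy : f x' = y), ∃ l : Spec (Y.presheaf.stalk y) ⟶ X,
        l (IsLocalRing.closedPoint (Y.presheaf.stalk y)) = x' ∧
        Spec.map (CommRingCat.ofHom (e.hom.comp (algebraMap (Y.presheaf.stalk y) Y.functionField))) ≫ l =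
          X.fromSpecStalk (genericPoint X) := by
      rintro x' y rfl
      haveI : IsIso (f.stalkMap x') := (ConcreteCategory.isIso_iff_bijective _).mpr (hstalk x')
      refine ⟨Spec.map (inv (f.stalkMap x')) ≫ X.fromSpecStalk x', ?_, ?_⟩
      · have h0 : (Spec.map (inv (f.stalkMap x'))) (IsLocalRing.closedPoint (Y.presheaf.stalk (f x'))) =
            IsLocalRing.closedPoint (X.presheaf.stalk x') := by
          haveI : IsLocalHom (inv (f.stalkMap x')).hom := isLocalHom_of_isIso (inv (f.stalkMap x'))
          exact IsLocalRing.comap_closedPoint _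
        refine Eq.trans ?_ ((congrArg (X.fromSpecStalk x') h0).trans Scheme.fromSpecStalk_closedPoint)
        exact Scheme.Hom.comp_apply _ _ _
      · have h1 : CommRingCat.ofHom (e.hom.comp (algebraMap (Y.presheaf.stalk (f x')) Y.functionField)) =
            f.stalkMap x' ≫ X.presheaf.stalkSpecializes (genericPoint_specializes x') := by
          have h1 := Scheme.Hom.stalkSpecializes_stalkMap f (genericPoint X) x' (genericPoint_specializes x')
          rw [← h1]
          ext r
          refine congrArg (f.stalkMap (genericPoint X)).hom ?_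
          exact ConcreteCategory.congr_hom (TopCat.Presheaf.stalkSpecializes_comp (F := Y.presheaf)
            (Inseparable.of_eq hξ.symm).specializes' (genericPoint_specializes (f x'))) r
        rw [← Category.assoc, ← Spec.map_comp, h1, IsIso.inv_hom_id_assoc]
        exact Scheme.SpecMap_stalkSpecializes_fromSpecStalk _
    obtain ⟨l₁, hl₁, hl₁'⟩ := key x₁ _ rfl
    obtain ⟨l₂, hl₂, hl₂'⟩ := key x₂ (f x₁) h12.symm
    have hdom : IsDominant (Spec.map (CommRingCat.ofHom
        (e.hom.comp (algebraMap (Y.presheaf.stalk (f x₁)) Y.functionField)))) := by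
      refine ⟨(PrimeSpectrum.denseRange_comap_iff_ker_le_nilRadical _).mpr ?_⟩
      rw [CommRingCat.hom_ofHom, (RingHom.injective_iff_ker_eq_bot _).mp
        (fun a b h ↦ IsFractionRing.injective (Y.presheaf.stalk (f x₁)) Y.functionField (he.1 h))]
      exact bot_le
    rw [← hl₁, ← hl₂, ext_of_isDominant (Spec.map (CommRingCat.ofHom
        (e.hom.comp (algebraMap (Y.presheaf.stalk (f x₁)) Y.functionField)))) (hl₁'.trans hl₂'.symm)]
  haveI : ∀ x', IsIso (f.stalkMap x') := fun x' ↦
    (ConcreteCategory.isIso_iff_bijective _).mpr (hstalk x')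
  have hhom : IsHomeomorph f.base :=
    isHomeomorph_iff_continuous_isClosedMap_bijective.mpr ⟨f.continuous, hf, hinj, hsurj⟩
  haveI : IsOpenImmersion f := IsOpenImmersion.of_isIso_stalkMap f hhom.isOpenEmbedding
  haveI : Surjective f := ⟨hsurj⟩
  exact (isIso_iff_isOpenImmersion_and_surjective f).mpr ⟨‹_›, ‹_›⟩

end Groth.Agent.S2342
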