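import Groth.Statements.S5035
import Groth.Agent.Hensel.QFinite
import Mathlib.RingTheory.Flat.Stability

set_option autoImplicit false
universe u
open Hensel

namespace Groth.Agent.S5035

/-- a) iff c') (affine form): a local ring R is henselian if and only if, for every R-algebra S of
finite type and every prime q of S lying over the maximal ideal of R such that S is quasi-finite
over R at q, the local ring S_q is a finitely generated R-module. -/
theorem result (R : Type u) [CommRing R] [IsLocalRing R] :
    HenselianLocalRing R ↔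
      ∀ (S : Type u) [CommRing S] [Algebra R S] [Algebra.FiniteType R S] (q : Ideal S) [q.IsPrime],
        q.LiesOver (IsLocalRing.maximalIdeal R) → Algebra.QuasiFiniteAt R q →
          Module.Finite R (Localization.AtPrime q) := by
  constructor
  · intro hR S _ _ _ q _ hq hqf
    obtain ⟨e, he, hfin, h⟩ := Hensel.exists_idempotent_finite_and_forall_not_quasiFiniteAt R S
    have heq : e ∉ q := h q hq hqf
    obtain ⟨n, f, hf, hloc⟩ := Hensel.exists_pi_local (R := R) (S ⧸ Ideal.span {1 - e})
    choose f₀ hf₀ using fun i => Ideal.Quotient.mk_surjective (f i)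
    have he1 : (1 - e) ∈ q :=
      ((inferInstance : q.IsPrime).mem_or_mem (show e * (1 - e) ∈ q by
        rw [mul_sub, mul_one, he.eq, sub_self]; exact q.zero_mem)).resolve_left heq
    have hker : RingHom.ker (Ideal.Quotient.mk (Ideal.span {1 - e})) ≤ q := by
      rw [Ideal.mk_ker, Ideal.span_le, Set.singleton_subset_iff]; exact he1
    have hsum : ∑ i, e * f₀ i ∉ q := fun hmem => by
      have h1 : Ideal.Quotient.mk (Ideal.span {1 - e}) (∑ i, e * f₀ i) = 1 := by
        rw [map_sum]; simp only [map_mul, hf₀, ← Finset.mul_sum, hf.complete, mul_one]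
        rw [← map_one (Ideal.Quotient.mk (Ideal.span {1 - e})), Ideal.Quotient.eq]
        exact Ideal.mem_span_singleton.2 ⟨-1, by ring⟩
      have h2 : (∑ i, e * f₀ i) - 1 ∈ q := hker (by rw [RingHom.mem_ker, map_sub, h1, map_one, sub_self])
      exact (inferInstance : q.IsPrime).ne_top ((Ideal.eq_top_iff_one _).2 (by simpa using q.sub_mem hmem h2))
    obtain ⟨i, hi⟩ : ∃ i, e * f₀ i ∉ q := by
      by_contra hall
      push Not at hall
      exact hsum (q.sum_mem fun i _ => hall i)
    let φ₀ : S →+* (S ⧸ Ideal.span {1 - e}) ⧸ Ideal.span {1 - f i} :=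
      (Ideal.Quotient.mk (Ideal.span {1 - f i})).comp (Ideal.Quotient.mk (Ideal.span {1 - e}))
    have hφs : Function.Surjective φ₀ := Ideal.Quotient.mk_surjective.comp Ideal.Quotient.mk_surjective
    have hkq : ∀ x ∈ RingHom.ker φ₀, algebraMap S (Localization.AtPrime q) x = 0 := by
      intro x hx
      rw [RingHom.mem_ker, RingHom.comp_apply, Ideal.Quotient.eq_zero_iff_mem, Ideal.mem_span_singleton] at hx
      obtain ⟨y, hy⟩ := hx
      obtain ⟨y, rfl⟩ := Ideal.Quotient.mk_surjective y
      rw [← hf₀, ← map_one (Ideal.Quotient.mk (Ideal.span {1 - e})), ← map_sub, ← map_mul, Ideal.Quotient.eq,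
        Ideal.mem_span_singleton] at hy
      obtain ⟨z, hz⟩ := hy
      obtain ⟨c, hc⟩ : (1 - e) ∣ f₀ i * (1 - f₀ i) := by
        rw [← Ideal.mem_span_singleton, ← Ideal.Quotient.eq_zero_iff_mem, map_mul, map_sub, map_one,
          hf₀, mul_sub, mul_one, (hf.idem i).eq, sub_self]
      rw [IsLocalization.map_eq_zero_iff q.primeCompl]
      refine ⟨⟨e * f₀ i, hi⟩, ?_⟩
      change e * f₀ i * x = 0
      linear_combination (e * f₀ i) * hz + (e * y) * hc - (f₀ i * z + c * y) * he.eq
    have hunit : ∀ s : q.primeCompl, IsUnit (φ₀ s) := by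
      intro s
      haveI := hloc i
      have hmax : (q.map φ₀).IsMaximal := by
        haveI : q.IsMaximal := by
          haveI := hq
          have hqfin : (q.map (Ideal.Quotient.mk (Ideal.span {1 - e}))).IsMaximal := by
            haveI : (q.map (Ideal.Quotient.mk (Ideal.span {1 - e}))).IsPrime :=
              Ideal.map_isPrime_of_surjective Ideal.Quotient.mk_surjective hker
            refine Ideal.isMaximal_of_isIntegral_of_isMaximal_comap (R := R) _ ?_
            have h0 : (q.map (Ideal.Quotient.mk (Ideal.span {1 - e}))).comap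
                (algebraMap R (S ⧸ Ideal.span {1 - e})) = IsLocalRing.maximalIdeal R := by
              rw [IsScalarTower.algebraMap_eq R S, ← Ideal.comap_comap, Ideal.Quotient.algebraMap_eq,
                Ideal.comap_map_of_surjective _ Ideal.Quotient.mk_surjective, ← RingHom.ker_eq_comap_bot,
                sup_eq_left.2 hker, ← Ideal.under_def, ← hq.over]
            rw [h0]; exact IsLocalRing.maximalIdeal.isMaximal R
          have h1 := Ideal.comap_isMaximal_of_surjective (Ideal.Quotient.mk (Ideal.span {1 - e}))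
            Ideal.Quotient.mk_surjective (K := q.map (Ideal.Quotient.mk (Ideal.span {1 - e})))
          rwa [Ideal.comap_map_of_surjective _ Ideal.Quotient.mk_surjective, ← RingHom.ker_eq_comap_bot,
            sup_eq_left.2 hker] at h1
        refine Ideal.IsMaximal.map_of_surjective_of_ker_le hφs fun x hx => ?_
        by_contra hxq
        exact (IsLocalization.map_units (Localization.AtPrime q) (⟨x, hxq⟩ : q.primeCompl)).ne_zero (hkq x hx)
      by_contra hs
      have h2 : φ₀ s ∈ q.map φ₀ := by
        rw [IsLocalRing.eq_maximalIdeal hmax]; exact hs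
      obtain ⟨t, ht, hts⟩ := (Ideal.mem_map_iff_of_surjective _ hφs).1 h2
      refine s.2 ?_
      have h3 : (s : S) - t ∈ q := by
        by_contra hxq
        exact (IsLocalization.map_units (Localization.AtPrime q) (⟨_, hxq⟩ : q.primeCompl)).ne_zero
          (hkq _ (by rw [RingHom.mem_ker, map_sub, hts, sub_self]))
      simpa using add_mem h3 ht
    haveI := hfin
    let ψ : (S ⧸ Ideal.span {1 - e}) →ₐ[R] Localization.AtPrime q :=
      Ideal.Quotient.liftₐ _ (IsScalarTower.toAlgHom R S _) fun x hx => hkq x (by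
        rw [RingHom.mem_ker, RingHom.comp_apply, Ideal.Quotient.eq_zero_iff_mem.2 hx, map_zero])
    refine Module.Finite.of_surjective ψ.toLinearMap fun z => ?_
    obtain ⟨a, s, rfl⟩ := IsLocalization.exists_mk'_eq q.primeCompl z
    obtain ⟨t, ht⟩ := hφs ((hunit s).unit⁻¹ : ((S ⧸ Ideal.span {1 - e}) ⧸ Ideal.span {1 - f i})ˣ)
    refine ⟨Ideal.Quotient.mk _ (a * t), ?_⟩
    change algebraMap S (Localization.AtPrime q) (a * t) = _
    rw [IsLocalization.eq_mk'_iff_mul_eq, ← map_mul, ← sub_eq_zero, ← map_sub]
    refine hkq _ ?_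
    rw [RingHom.mem_ker, map_sub, map_mul, map_mul, ht, mul_assoc, IsUnit.val_inv_mul, mul_one, sub_self]
  · intro h
    refine Hensel.henselianLocalRing_of_henselianRing (Hensel.henselianRing_of_gabberRoots
      (IsLocalRing.maximalIdeal_le_jacobson ⊥) ?_)
    set I := IsLocalRing.maximalIdeal R with hIdef
    have hI : I ≤ Ideal.jacobson ⊥ := IsLocalRing.maximalIdeal_le_jacobson ⊥
    intro n hn p hdeg hp
    set F : Polynomial R := Polynomial.X ^ n * (Polynomial.X - 1) + p with hF
    have hm : F.Monic := by
      refine Polynomial.Monic.add_of_left ((Polynomial.monic_X_pow n).mul (Polynomial.monic_X_sub_C (1 : R))) ?_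
      calc p.degree ≤ p.natDegree := Polynomial.degree_le_natDegree
        _ ≤ (n : WithBot ℕ) := by exact_mod_cast hdeg
        _ < _ := by
          rw [← Polynomial.C_1, Polynomial.degree_eq_natDegree ((Polynomial.monic_X_pow n).mul (Polynomial.monic_X_sub_C (1 : R))).ne_zero,
            (Polynomial.monic_X_pow n).natDegree_mul' (Polynomial.monic_X_sub_C (1 : R)).ne_zero,
            Polynomial.natDegree_X_pow, Polynomial.natDegree_X_sub_C]
          exact_mod_cast Nat.lt_succ_self n
    haveI := hm.finite_adjoinRoot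
    haveI := hm.free_adjoinRoot
    set x := AdjoinRoot.root F with hx
    have hone : Polynomial.aeval (1 : R ⧸ I) F = 0 := by
      have hp' : p.map (Ideal.Quotient.mk I) = 0 := by
        ext i; simp [Ideal.Quotient.eq_zero_iff_mem, hp i]
      rw [Polynomial.aeval_def, Ideal.Quotient.algebraMap_eq, ← Polynomial.eval_map, hF, Polynomial.map_add, hp']
      simp
    let σ : AdjoinRoot F →ₐ[R] R ⧸ I := AdjoinRoot.liftAlgHom F (Algebra.ofId R _) 1 hone
    have hσx : σ x = 1 := AdjoinRoot.liftAlgHom_root _ _ _ _
    set q := RingHom.ker σ.toRingHom with hqdef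
    haveI : q.IsPrime := RingHom.ker_isPrime _
    have hq : q.LiesOver I := ⟨by
      ext a
      rw [Ideal.under_def, Ideal.mem_comap, hqdef, RingHom.mem_ker]
      change a ∈ I ↔ σ (algebraMap R _ a) = 0
      rw [AlgHom.commutes, Ideal.Quotient.algebraMap_eq, Ideal.Quotient.eq_zero_iff_mem]⟩
    haveI hfin := h (AdjoinRoot F) q hq inferInstance
    haveI : Module.Flat R (Localization.AtPrime q) := Module.Flat.trans R (AdjoinRoot F) _
    let σ' : Localization.AtPrime q →ₐ[R] R ⧸ I :=
      IsLocalization.liftAlgHom (M := q.primeCompl) (f := σ) fun y => by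
        refine IsUnit.mk0 (G₀ := IsLocalRing.ResidueField R) (σ y) ?_
        exact y.2
    set M := Localization.AtPrime q
    let π := algebraMap (AdjoinRoot F) M
    set J := I.map (algebraMap R M) with hJ
    have hxu : IsUnit (π (x ^ n)) := by
      refine IsLocalization.map_units M (⟨x ^ n, fun hmem => ?_⟩ : q.primeCompl)
      have h1 : σ (x ^ n) = 0 := hmem
      rw [map_pow, hσx, one_pow] at h1
      exact one_ne_zero (α := IsLocalRing.ResidueField R) h1
    have hπJ : ∀ P : Polynomial R, (∀ i, P.coeff i ∈ I) → π (AdjoinRoot.mk F P) ∈ J := fun P hP => by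
      have := Ideal.mem_map_of_mem (π.comp (AdjoinRoot.mk F)) (Ideal.mem_map_C_iff.2 hP)
      rwa [Ideal.map_map] at this
    have hx1 : π (x - 1) ∈ J := by
      refine (Ideal.unit_mul_mem_iff_mem J hxu).1 ?_
      rw [← map_mul, show x ^ n * (x - 1) = AdjoinRoot.mk F (-p) by
        have h0 : AdjoinRoot.mk F (Polynomial.X ^ n * (Polynomial.X - 1) + p) = 0 := AdjoinRoot.mk_self
        rw [map_neg, eq_neg_iff_add_eq_zero, ← h0]
        simp [x]]
      exact hπJ _ fun i => by simpa using hp i
    have hmod : ∀ b : AdjoinRoot F, ∃ w : R, π b - algebraMap R M w ∈ J := by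
      intro b
      obtain ⟨P, rfl⟩ := AdjoinRoot.mk_surjective b
      refine ⟨P.eval 1, ?_⟩
      obtain ⟨Q, hQ⟩ : (Polynomial.X - Polynomial.C 1) ∣ (P - Polynomial.C (P.eval 1)) :=
        Polynomial.dvd_iff_isRoot.2 (by simp)
      have h1 : π (AdjoinRoot.mk F P) - algebraMap R M (P.eval 1) =
          π (x - 1) * π (AdjoinRoot.mk F Q) := by
        rw [IsScalarTower.algebraMap_apply R (AdjoinRoot F) M, ← map_sub, ← map_mul]
        congr 1
        have := congrArg (AdjoinRoot.mk F) hQ
        simpa [x] using this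
      rw [h1]
      exact J.mul_mem_right _ hx1
    have hsurj : Function.Surjective (algebraMap R M) := by
      rw [← Algebra.coe_linearMap, ← LinearMap.range_eq_top, eq_top_iff]
      refine Submodule.le_of_le_smul_of_le_jacobson_bot Module.Finite.fg_top (I := I) hI fun z _ => ?_
      obtain ⟨b, s, rfl⟩ := IsLocalization.exists_mk'_eq q.primeCompl z
      obtain ⟨w, hw⟩ := hmod b
      obtain ⟨v, hv⟩ := hmod s
      have hsu : IsUnit (π (s : AdjoinRoot F)) := IsLocalization.map_units M s
      have hvu : IsUnit v := by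
        by_contra hvn
        refine (Ideal.map_le_iff_le_comap.2 (fun a ha => ?_) : J ≤ IsLocalRing.maximalIdeal M)
          (show π (s : AdjoinRoot F) ∈ J by simpa using add_mem hv (Ideal.mem_map_of_mem _ hvn)) hsu
        rw [Ideal.mem_comap, IsScalarTower.algebraMap_apply R (AdjoinRoot F) M,
          IsLocalization.AtPrime.to_map_mem_maximal_iff M q, ← Ideal.mem_of_liesOver q I]
        exact ha
      obtain ⟨v, rfl⟩ := hvu
      refine Submodule.mem_sup.2 ⟨algebraMap R M (w * (↑v⁻¹ : R)), ⟨_, rfl⟩, _, ?_, add_sub_cancel _ _⟩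
      rw [Ideal.smul_top_eq_map, Submodule.restrictScalars_mem]
      refine (Ideal.unit_mul_mem_iff_mem J hsu).1 ?_
      rw [mul_sub, mul_comm (π (s : AdjoinRoot F)), IsLocalization.mk'_spec]
      have h2 := sub_mem hw (J.mul_mem_left (algebraMap R M (w * (↑v⁻¹ : R))) hv)
      convert! h2 using 1
      have h3 : algebraMap R M (w * (↑v⁻¹ : R)) * algebraMap R M v = algebraMap R M w := by
        rw [← map_mul, mul_assoc, Units.inv_mul, mul_one]
      linear_combination -h3
    have hinj : Function.Injective (algebraMap R M) :=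
      (injective_iff_map_eq_zero _).2 fun c hc => Hensel.eq_zero_of_algebraMap_eq_zero hI σ' hc
    let e : R ≃ₐ[R] M := AlgEquiv.ofBijective (Algebra.ofId R M) ⟨hinj, hsurj⟩
    refine ⟨e.symm (π x), ?_, ?_⟩
    · rw [← Ideal.Quotient.eq, map_one, ← hσx]
      have h1 : σ' (π x) = σ x := IsLocalization.lift_eq _ x
      rw [← h1]
      conv_rhs => rw [← e.apply_symm_apply (π x)]
      change _ = σ' (algebraMap R M _)
      rw [AlgHom.commutes]; rfl
    · rw [Polynomial.IsRoot.def, ← Polynomial.coe_aeval_eq_eval, ← AlgEquiv.coe_algHom, Polynomial.aeval_algHom_apply]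
      refine (congrArg e.symm ?_).trans (map_zero e.symm)
      rw [show π x = IsScalarTower.toAlgHom R (AdjoinRoot F) M x from rfl, Polynomial.aeval_algHom_apply]
      exact (congrArg _ ((AdjoinRoot.aeval_eq F).trans AdjoinRoot.mk_self)).trans (map_zero _)

end Groth.Agent.S5035
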