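import Groth.Statements.S2343
import Groth.Agent.S5035
import Mathlib.AlgebraicGeometry.Morphisms.FlatMono
import Mathlib.AlgebraicGeometry.Morphisms.QuasiFinite
import Mathlib.AlgebraicGeometry.ZariskisMainTheorem
import Mathlib.RingTheory.Henselian

set_option autoImplicit false
universe u
open CategoryTheory CategoryTheory.Limits AlgebraicGeometry
open EGA2

namespace Groth.Agent.S2343

/-- Let A be a complete Noetherian local ring, X a separated scheme locally of finite type over Spec A,
and x a point of X over the closed point which is isolated in its fibre. Then the local ring of X at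
x is a finite A-module and the canonical morphism Spec O_{X,x} → X is both an open and a closed
immersion (X is the disjoint sum of Spec O_{X,x} and another open subscheme). -/
theorem result (A : Type u) [CommRing A] [IsLocalRing A] [IsNoetherianRing A]
    [IsAdicComplete (IsLocalRing.maximalIdeal A) A] (X : Scheme.{u}) (f : X ⟶ Spec (CommRingCat.of A)) [LocallyOfFiniteType f] [IsSeparated f]
    (x : X) (hx : f.base x = IsLocalRing.closedPoint A)
    (hisol : IsOpen ((Subtype.val : (f.base ⁻¹' {IsLocalRing.closedPoint A}) → X) ⁻¹' {x})) :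
    ((Scheme.ΓSpecIso (CommRingCat.of A)).inv ≫ f.appTop ≫ X.presheaf.germ ⊤ x trivial).hom.Finite ∧ IsOpenImmersion (X.fromSpecStalk x) ∧ IsClosedImmersion (X.fromSpecStalk x) := by
  have hH : HenselianLocalRing A :=
    { is_henselian := fun g hg a₀ h h' => by
        obtain ⟨a, ha, ha'⟩ := HenselianRing.is_henselian (I := IsLocalRing.maximalIdeal A) g hg a₀ h
          ((Ideal.Quotient.mk _).isUnit_map h')
        exact ⟨a, ha, ha'⟩ }
  have hqf : f.QuasiFiniteAt x := by
    rw [Scheme.Hom.quasiFiniteAt_iff_isOpen_singleton_asFiber, ← (f.fiberHomeo (f x)).isOpen_image]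
    simp only [Set.image_singleton, Scheme.Hom.asFiber, Homeomorph.apply_symm_apply]
    rw [← hx] at hisol
    have e : ({⟨x, rfl⟩} : Set (f ⁻¹' {f x})) = Subtype.val ⁻¹' {x} := by
      ext ⟨z, hz⟩; simp [Subtype.ext_iff]
    exact e ▸ hisol
  obtain ⟨V, hV, hxV, -⟩ := exists_isAffineOpen_mem_and_subset (TopologicalSpace.Opens.mem_top x)
  let φ : CommRingCat.of A ⟶ Γ(X, V) := (Scheme.ΓSpecIso (CommRingCat.of A)).inv ≫ f.appLE ⊤ V le_top
  let ρ : CommRingCat.of A ⟶ X.presheaf.stalk x :=
    (Scheme.ΓSpecIso (CommRingCat.of A)).inv ≫ f.appTop ≫ X.presheaf.germ ⊤ x trivial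
  have hρ : ρ = φ ≫ X.presheaf.germ V x hxV := by
    simp only [ρ, φ, Category.assoc, Scheme.Hom.appLE, TopCat.Presheaf.germ_res]
    rfl
  letI : Algebra A Γ(X, V) := φ.hom.toAlgebra
  letI : Algebra Γ(X, V) (X.presheaf.stalk x) := (X.presheaf.germ V x hxV).hom.toAlgebra
  letI : Algebra A (X.presheaf.stalk x) := ρ.hom.toAlgebra
  haveI : IsScalarTower A Γ(X, V) (X.presheaf.stalk x) :=
    IsScalarTower.of_algebraMap_eq' (by
      simp only [RingHom.algebraMap_toAlgebra, hρ]
      rfl)
  haveI : Algebra.FiniteType A Γ(X, V) := by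
    have h1 : (f.appLE ⊤ V le_top).hom.FiniteType :=
      HasRingHomProperty.appLE @LocallyOfFiniteType f inferInstance ⟨⊤, isAffineOpen_top _⟩ ⟨V, hV⟩ le_top
    exact h1.comp (RingHom.FiniteType.of_surjective _
      (ConcreteCategory.bijective_of_isIso (Scheme.ΓSpecIso (CommRingCat.of A)).inv).surjective)
  let q := (hV.primeIdealOf ⟨x, hxV⟩).asIdeal
  haveI hloc : IsLocalization.AtPrime (X.presheaf.stalk x) q := hV.isLocalization_stalk ⟨x, hxV⟩
  have hlies : q.LiesOver (IsLocalRing.maximalIdeal A) := by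
    constructor
    have h1 : q = (IsLocalRing.maximalIdeal (X.presheaf.stalk x)).comap (algebraMap Γ(X, V) _) :=
      (IsLocalization.AtPrime.under_maximalIdeal (X.presheaf.stalk x) q).symm
    rw [Ideal.under, h1, Ideal.comap_comap, ← IsScalarTower.algebraMap_eq]
    have h2 : f ∣_ ⊤ = f ∣_ ⊤ := rfl
    have h3 : IsLocalHom ρ.hom := by
      have e : ρ = ((Scheme.ΓSpecIso (CommRingCat.of A)).inv ≫
          (Spec (CommRingCat.of A)).presheaf.germ ⊤ (f x) trivial) ≫ f.stalkMap x := by
        simp only [ρ, Category.assoc]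
        erw [Scheme.Hom.germ_stalkMap]
        rfl
      refine ⟨fun a ha => ?_⟩
      rw [e, CommRingCat.comp_apply] at ha
      have h4 := isUnit_of_map_unit (f.stalkMap x).hom _ ha
      by_contra hu
      have h5 : f.base x ∈ (Spec (CommRingCat.of A)).basicOpen
          ((Scheme.ΓSpecIso (CommRingCat.of A)).inv a) :=
        ((Spec (CommRingCat.of A)).mem_basicOpen _ (f x) (U := ⊤) trivial).mpr h4
      rw [hx, basicOpen_eq_of_affine] at h5
      exact h5 (IsLocalRing.mem_maximalIdeal _ |>.mpr hu)
    ext a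
    rw [Ideal.mem_comap, IsLocalRing.mem_maximalIdeal, IsLocalRing.mem_maximalIdeal, mem_nonunits_iff,
      mem_nonunits_iff]
    haveI := h3
    exact not_congr (isUnit_map_iff ρ.hom a).symm
  have hqfA : Algebra.QuasiFiniteAt A q := by
    have h1 := hqf.quasiFiniteAt hV (isAffineOpen_top _) (le_top : V ≤ f ⁻¹ᵁ ⊤) hxV
    letI : Algebra A Γ(Spec (CommRingCat.of A), ⊤) := (Scheme.ΓSpecIso (CommRingCat.of A)).inv.hom.toAlgebra
    letI : Algebra Γ(Spec (CommRingCat.of A), ⊤) Γ(X, V) := (f.appLE ⊤ V le_top).hom.toAlgebra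
    haveI : IsScalarTower A Γ(Spec (CommRingCat.of A), ⊤) Γ(X, V) := IsScalarTower.of_algebraMap_eq' rfl
    haveI : Module.Finite A Γ(Spec (CommRingCat.of A), ⊤) :=
      RingHom.Finite.of_surjective _
        (ConcreteCategory.bijective_of_isIso (Scheme.ΓSpecIso (CommRingCat.of A)).inv).surjective
    haveI : Algebra.QuasiFinite Γ(Spec (CommRingCat.of A), ⊤) (Localization.AtPrime q) := h1
    exact Algebra.QuasiFinite.trans A Γ(Spec (CommRingCat.of A), ⊤) (Localization.AtPrime q)
  haveI hfinq : Module.Finite A (Localization.AtPrime q) :=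
    (Groth.Agent.S5035.result A).mp hH Γ(X, V) q hlies hqfA
  haveI hfin : Module.Finite A (X.presheaf.stalk x) :=
    Module.Finite.equiv ((IsLocalization.algEquiv q.primeCompl (Localization.AtPrime q)
      (X.presheaf.stalk x)).restrictScalars A).toLinearEquiv
  have hfinS : (X.presheaf.germ V x hxV).hom.Finite := Module.Finite.of_restrictScalars_finite A _ _
  haveI : IsNoetherianRing Γ(X, V) := Algebra.FiniteType.isNoetherianRing A _
  haveI hoi : IsOpenImmersion (Spec.map (X.presheaf.germ V x hxV)) := by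
    haveI : Flat (Spec.map (X.presheaf.germ V x hxV)) :=
      Flat.SpecMap_iff.mpr (IsLocalization.flat (X.presheaf.stalk x) q.primeCompl)
    haveI : LocallyOfFinitePresentation (Spec.map (X.presheaf.germ V x hxV)) := by
      rw [HasRingHomProperty.Spec_iff (P := @LocallyOfFinitePresentation)]
      exact RingHom.FinitePresentation.of_finiteType.mp hfinS.finiteType
    haveI : IsPreimmersion (Spec.map (X.presheaf.germ V x hxV) ≫ hV.fromSpec) :=
      inferInstanceAs (IsPreimmersion (hV.fromSpecStalk hxV))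
    haveI : Mono (Spec.map (X.presheaf.germ V x hxV)) := mono_of_mono _ hV.fromSpec
    exact IsOpenImmersion.of_flat_of_mono _
  haveI hopen : IsOpenImmersion (X.fromSpecStalk x) := by
    rw [← hV.fromSpecStalk_eq_fromSpecStalk hxV, IsAffineOpen.fromSpecStalk]
    infer_instance
  refine ⟨hfin, hopen, ?_⟩
  have hcomp : X.fromSpecStalk x ≫ f = Spec.map ρ := by
    have e : (X.fromSpecStalk x ≫ f) ≫ (Spec (CommRingCat.of A)).toSpecΓ =
        Spec.map (X.presheaf.germ ⊤ x trivial) ≫ Spec.map f.appTop := by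
      rw [Category.assoc, Scheme.toSpecΓ_naturality, Scheme.fromSpecStalk_toSpecΓ_assoc]
    rw [← SpecMap_ΓSpecIso_hom] at e
    rw [← cancel_mono (Spec.map (Scheme.ΓSpecIso (CommRingCat.of A)).hom), e, ← Spec.map_comp,
      ← Spec.map_comp]
    simp [ρ]
  haveI : IsFinite (X.fromSpecStalk x ≫ f) := by
    rw [hcomp, IsFinite.SpecMap_iff]
    exact hfin
  haveI : IsFinite (X.fromSpecStalk x) := MorphismProperty.of_postcomp _ (W' := @IsSeparated) _ f ‹_› ‹_›
  exact (IsClosedImmersion.iff_isProper_and_mono _).mpr ⟨inferInstance, inferInstance⟩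

end Groth.Agent.S2343
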