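import Groth.Statements.S4448
import Groth.Agent.NormNormal.Rel
import Mathlib.RingTheory.Localization.Integral

set_option autoImplicit false
universe u
open CategoryTheory CategoryTheory.Limits AlgebraicGeometry
open EGA2

namespace Groth.Agent.S4448

/-- Let X be an integral scheme with field of rational functions k(ξ), K a field extension of k(ξ) (an
embedding φ), and X' the integral closure of X relative to K, i.e. the normalization of X along the
morphism g : Spec K ⟶ X through the generic point. Then X' is integral and normal, the generic point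
ξ' of X' is the only point over ξ, the canonical morphism Spec K ⟶ X' hits ξ', and the field of
rational functions of X' (the local ring at ξ') maps isomorphically onto the algebraic closure of
k(ξ) in K. (The quasi-compactness and quasi-separatedness binders on g always hold; they are needed
only to form the normalization.) -/
theorem result (X : Scheme.{u}) [IsIntegral X] (K : Type u) [Field K]
    (φ : X.functionField →+* K) (g : Spec (CommRingCat.of K) ⟶ X)
    (hg : g = Spec.map (CommRingCat.ofHom φ) ≫ X.fromSpecStalk (genericPoint X)) [QuasiCompact g] [QuasiSeparated g] :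
    ∃ (_ : IsIntegral g.normalization), Pi1.IsNormalScheme g.normalization ∧
      g.fromNormalization.base ⁻¹' {genericPoint X} = {genericPoint g.normalization} ∧
      g.toNormalization.base (IsLocalRing.closedPoint K) = genericPoint g.normalization ∧
      Function.Injective (Scheme.stalkClosedPointTo g.toNormalization).hom ∧
      Set.range (Scheme.stalkClosedPointTo g.toNormalization).hom =
        {y : K | ∃ q : Polynomial X.functionField, q.Monic ∧ Polynomial.eval₂ φ y q = 0} := by
  classical
  letI := φ.toAlgebra
  set pt : Spec (CommRingCat.of K) := IsLocalRing.closedPoint K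
  have hgpt : g pt = genericPoint X := by
    rw [hg, Scheme.Hom.comp_apply]
    exact (congrArg (X.fromSpecStalk (genericPoint X)) (IsLocalRing.comap_closedPoint φ)).trans
      (Scheme.fromSpecStalk_closedPoint)
  have : IsIntegral (Spec (CommRingCat.of K)) := inferInstance
  have hsub : Subsingleton (Spec (CommRingCat.of K)) := inferInstanceAs (Subsingleton (PrimeSpectrum K))
  have hirr : closure ({pt} : Set (Spec (CommRingCat.of K))) ∈ irreducibleComponents _ :=
    ⟨isIrreducible_singleton.closure, fun F _ _ y _ => by rw [Subsingleton.elim y pt]; exact subset_closure rfl⟩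
  have hnorm : Pi1.IsNormalScheme (Spec (CommRingCat.of K)) := fun y => by
    obtain rfl : y = pt := Subsingleton.elim _ _
    let e := (stalkClosedPointIso (CommRingCat.of K)).commRingCatIsoToRingEquiv
    exact ⟨e.toMulEquiv.isDomain K, IsIntegrallyClosed.of_equiv e.symm⟩
  have hfin : LocallyFinite (fun Z : ↥(irreducibleComponents (Spec (CommRingCat.of K))) => (Z : Set (Spec (CommRingCat.of K)))) := by
    have : Finite (irreducibleComponents (Spec (CommRingCat.of K))) := inferInstance
    exact locallyFinite_of_finite _
  have hgen : g.toNormalization pt = genericPoint g.normalization := by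
    refine ((genericPoint_spec g.normalization).eq ?_).symm
    show closure _ = _
    rw [← g.toNormalization.denseRange.closure_range]
    congr 1
    ext y
    exact ⟨fun h => ⟨pt, h.symm⟩, fun ⟨z, hz⟩ => by rw [← hz, Subsingleton.elim z pt]; rfl⟩
  obtain ⟨U, hU, hξU, -⟩ := exists_isAffineOpen_mem_and_subset (X := X) (x := genericPoint X) (U := ⊤) trivial
  have hptU : g pt ∈ U := hgpt.symm ▸ hξU
  let Nu : g.normalization.Opens := g.fromNormalization ⁻¹ᵁ U
  have hNu : IsAffineOpen Nu := hU.preimage _
  have hle : g ⁻¹ᵁ U ≤ g.toNormalization ⁻¹ᵁ Nu := by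
    rw [← Scheme.Hom.comp_preimage, g.toNormalization_fromNormalization]
  have htop : g ⁻¹ᵁ U = ⊤ := Scheme.preimage_eq_top_of_closedPoint_mem g hptU
  have hptNu : g.toNormalization pt ∈ Nu := hle (show pt ∈ g ⁻¹ᵁ U from hptU)
  letI := (g.app U).hom.toAlgebra
  letI algK : Algebra Γ(X, U) K := (φ.comp (X.presheaf.germ U (genericPoint X) hξU).hom).toAlgebra
  letI algF : Algebra Γ(X, U) X.functionField := (X.presheaf.germ U (genericPoint X) hξU).hom.toAlgebra
  have : IsScalarTower Γ(X, U) X.functionField K := IsScalarTower.of_algebraMap_eq' rfl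
  have : Nonempty U := ⟨⟨_, hξU⟩⟩
  have hfrac : IsFractionRing Γ(X, U) X.functionField := functionField_isFractionRing_of_isAffineOpen X U hU
  let ι : Γ(Spec (CommRingCat.of K), g ⁻¹ᵁ U) ⟶ CommRingCat.of K :=
    ((Spec (CommRingCat.of K)).presheaf.mapIso (eqToIso htop.symm).op ≪≫ Scheme.ΓSpecIso _).hom
  have hι : Function.Bijective ι.hom := ConcreteCategory.bijective_of_isIso _
  have hιA : g.app U ≫ ι = X.presheaf.germ U (genericPoint X) hξU ≫ CommRingCat.ofHom φ := by
    rw [← Scheme.germ_stalkClosedPointTo g U hptU]
    subst hg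
    exact Scheme.germ_stalkClosedPointTo_Spec_fromSpecStalk (CommRingCat.ofHom φ) U hptU
  let ιA : Γ(Spec (CommRingCat.of K), g ⁻¹ᵁ U) →ₐ[Γ(X, U)] K :=
    { ι.hom with commutes' := fun a => congr($hιA a) }
  let j := Scheme.stalkClosedPointTo g.toNormalization
  let i := (g.normalizationObjIso hU).commRingCatIsoToRingEquiv
  have hj : ∀ b : Γ(g.normalization, Nu),
      j.hom (g.normalization.presheaf.germ Nu _ hptNu b) = ιA (i b).1 := by
    intro b
    have e : g.normalization.presheaf.germ Nu _ hptNu ≫ j =
        g.toNormalization.appLE Nu (g ⁻¹ᵁ U) hle ≫ ι := by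
      rw [Scheme.germ_stalkClosedPointTo]
      simp only [ι, Iso.trans_hom, Functor.mapIso_hom, Iso.op_hom, Scheme.Hom.appLE, Category.assoc]
      rw [← Functor.map_comp_assoc]
      rfl
    have e2 := congr($e b)
    refine e2.trans ?_
    show ι.hom (g.toNormalization.appLE Nu (g ⁻¹ᵁ U) hle b) = _
    rw [← g.normalizationObjIso_hom_val hU]
    rfl
  have hjinj : Function.Injective j.hom := by
    have hf : IsField (g.normalization.presheaf.stalk (g.toNormalization pt)) := by
      rw [hgen]; exact Field.toIsField g.normalization.functionField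
    letI := hf.toField
    exact j.hom.injective
  refine ⟨inferInstance, fun z => (Groth.Agent.NormNormal.normal_and_eq g hnorm hfin hirr z
    (hgen ▸ (genericPoint_spec g.normalization).specializes trivial)).1, ?_, hgen, hjinj, ?_⟩
  · -- the fibre over the generic point
    have hξ' : g.fromNormalization (genericPoint g.normalization) = genericPoint X := by
      rw [← hgen, ← Scheme.Hom.comp_apply, g.toNormalization_fromNormalization, hgpt]
    ext z
    simp only [Set.mem_preimage, Set.mem_singleton_iff]
    refine ⟨fun hz => ?_, fun hz => hz ▸ hξ'⟩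
    have hzN : z ∈ Nu := show g.fromNormalization z ∈ U from hz.symm ▸ hξU
    have : Nonempty Nu := ⟨⟨z, hzN⟩⟩
    letI algN : Algebra Γ(X, U) Γ(g.normalization, Nu) := (g.fromNormalization.app U).hom.toAlgebra
    have : Algebra.IsIntegral Γ(X, U) Γ(g.normalization, Nu) := ⟨g.fromNormalization.isIntegral_app U hU⟩
    have hq : (hNu.primeIdealOf ⟨z, hzN⟩).asIdeal = ⊥ := by
      refine Ideal.eq_bot_of_comap_eq_bot (R := Γ(X, U)) ?_
      have e := IsAffineOpen.comap_primeIdealOf_appLE (f := g.fromNormalization) U hU Nu hNu le_rfl hzN
      have e' := congrArg PrimeSpectrum.asIdeal e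
      rw [Scheme.Hom.app_eq_appLE] at *
      refine Eq.trans ?_ (e'.trans ?_)
      · show Ideal.comap (g.fromNormalization.app U).hom _ = _
        rw [Scheme.Hom.app_eq_appLE]
        rfl
      · have := hU.primeIdealOf_genericPoint
        rw [show (⟨g.fromNormalization z, _⟩ : U) = ⟨genericPoint X, hξU⟩ from Subtype.ext hz, this,
          genericPoint_eq_bot_of_affine]
        rfl
    have h1 := hNu.fromSpec_primeIdealOf ⟨z, hzN⟩
    have h2 := hNu.fromSpec_primeIdealOf ⟨genericPoint g.normalization,
      ((genericPoint_spec g.normalization).mem_open_set_iff Nu.2).2 (by simpa using ⟨z, hzN⟩)⟩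
    rw [show hNu.primeIdealOf ⟨z, hzN⟩ = hNu.primeIdealOf ⟨genericPoint g.normalization, _⟩ from
      PrimeSpectrum.ext (hq.trans (by rw [hNu.primeIdealOf_genericPoint, genericPoint_eq_bot_of_affine]; rfl)), h2] at h1
    exact h1.symm
  · ext y
    constructor
    · rintro ⟨t, rfl⟩
      have hint : ∀ b : Γ(g.normalization, Nu), IsIntegral X.functionField
          (j.hom (g.normalization.presheaf.germ Nu _ hptNu b)) := fun b => by
        rw [hj]
        exact (((i b).2).map ιA).tower_top
      letI := g.normalization.presheaf.algebra_section_stalk (U := Nu) ⟨g.toNormalization pt, hptNu⟩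
      have hloc : IsLocalization.AtPrime (g.normalization.presheaf.stalk (g.toNormalization pt))
          (hNu.primeIdealOf ⟨_, hptNu⟩).asIdeal := hNu.isLocalization_stalk ⟨_, hptNu⟩
      obtain ⟨⟨b, ⟨b', hb'⟩⟩, hbb⟩ := IsLocalization.surj (hNu.primeIdealOf ⟨_, hptNu⟩).asIdeal.primeCompl t
      have hu := (IsLocalization.map_units (g.normalization.presheaf.stalk (g.toNormalization pt)) ⟨b', hb'⟩).map j.hom
      have e := congrArg j.hom hbb
      rw [map_mul] at e
      obtain ⟨q, hq, hq0⟩ := (((hint b').isAlgebraic.inv).isIntegral.mul (hint b) : IsIntegral X.functionField _)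
      have key : j.hom t = (j.hom (g.normalization.presheaf.germ Nu _ hptNu b'))⁻¹ *
          j.hom (g.normalization.presheaf.germ Nu _ hptNu b) := by
        refine (eq_inv_mul_iff_mul_eq₀ hu.ne_zero).2 ?_
        exact (mul_comm _ _).trans e
      rw [← key] at hq0
      exact ⟨q, hq, hq0⟩
    · rintro ⟨q, hq, hq0⟩
      have hy : IsIntegral X.functionField y := ⟨q, hq, hq0⟩
      obtain ⟨⟨a, ha⟩, hint⟩ := hy.exists_multiple_integral_of_isLocalization (nonZeroDivisors Γ(X, U))
      obtain ⟨c, hc⟩ := hι.2 ((⟨a, ha⟩ : nonZeroDivisors Γ(X, U)) • y)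
      have hc' : c ∈ integralClosure Γ(X, U) Γ(Spec (CommRingCat.of K), g ⁻¹ᵁ U) :=
        (isIntegral_algHom_iff ιA hι.1).1 (by
          show IsIntegral _ (ι.hom c)
          rw [hc]; exact hint)
      let jb := fun w => j.hom (g.normalization.presheaf.germ Nu _ hptNu w)
      have hb : jb (i.symm ⟨c, hc'⟩) = algebraMap Γ(X, U) K a * y := by
        show j.hom _ = _
        rw [hj, RingEquiv.apply_symm_apply]
        exact hc.trans (Algebra.smul_def (R := Γ(X, U)) a y)
      have hja : jb (i.symm (algebraMap _ _ a)) = algebraMap Γ(X, U) K a := by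
        show j.hom _ = _
        rw [hj, RingEquiv.apply_symm_apply]
        exact ιA.commutes a
      have hane : algebraMap Γ(X, U) K a ≠ 0 := by
        rw [IsScalarTower.algebraMap_apply Γ(X, U) X.functionField K]
        intro h
        exact nonZeroDivisors.ne_zero ha (IsFractionRing.injective Γ(X, U) X.functionField
          ((φ.injective (h.trans (map_zero φ).symm)).trans (map_zero _).symm))
      have hfd : IsField (g.normalization.presheaf.stalk (g.toNormalization pt)) := by
        rw [hgen]; exact Field.toIsField g.normalization.functionField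
      letI := hfd.toField
      refine ⟨g.normalization.presheaf.germ Nu _ hptNu (i.symm ⟨c, hc'⟩) /
        g.normalization.presheaf.germ Nu _ hptNu (i.symm (algebraMap _ _ a)), ?_⟩
      rw [map_div₀]
      exact (congrArg₂ (· / ·) hb hja).trans (mul_div_cancel_left₀ y hane)

end Groth.Agent.S4448
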