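import Groth.Statements.S4454
import Groth.Agent.S4448
import Groth.Agent.S0566
import Groth.Agent.Nagata.NormalizationFinite
import Groth.Agent.BCPoint.DeltaLe
import Groth.Agent.VarDim.Scheme
-- import your own Groth.Agent.* helpers here

set_option autoImplicit false
universe u
open CategoryTheory CategoryTheory.Limits AlgebraicGeometry
open EGA2

namespace Groth.Agent.S4454

set_option backward.isDefEq.respectTransparency.types false

theorem coheight_le {X Y : Scheme.{u}} (f : X ⟶ Y) [LocallyQuasiFinite f] (x : X) :
    Order.coheight x ≤ Order.coheight (f.base x) := by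
  refine Order.coheight_le_coheight_apply_of_strictMono _ (fun a b hab => ?_) x
  have hs : b ⤳ a := hab.le
  refine lt_of_le_not_ge (hs.map f.continuous) fun hle => ?_
  have heq : f.base b = f.base a := ((hs.map f.continuous).antisymm hle).eq
  exact hab.ne' (IsDiscrete.eq_of_specializes (f.isDiscrete_preimage_singleton (f.base a)) hs
    heq rfl)


/-- Case of an integral curve and a single field: let X be an integral algebraic curve over a field k, K
a finite extension of its field of rational functions and X' the integral closure of X in K (the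
normalization of X along the morphism g : Spec K ⟶ X through the generic point). Then the canonical
morphism X' ⟶ X is finite and X' is a normal algebraic curve over k (local rings integrally closed
domains, of dimension one at closed points). -/
theorem result (k : Type u) [Field k] (X : Scheme.{u})
    [X.Over (Spec (CommRingCat.of k))] [LocallyOfFiniteType (X ↘ (Spec (CommRingCat.of k)))]
    [QuasiCompact (X ↘ (Spec (CommRingCat.of k)))] [IsSeparated (X ↘ (Spec (CommRingCat.of k)))] [IsIntegral X]
    (hX : ∀ x : X, IsClosed ({x} : Set X) → ringKrullDim (X.presheaf.stalk x) = 1)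
    (K : Type u) [Field K] (φ : X.functionField →+* K) (hφ : φ.Finite) (g : Spec (CommRingCat.of K) ⟶ X)
    (hg : g = Spec.map (CommRingCat.ofHom φ) ≫ X.fromSpecStalk (genericPoint X)) [QuasiCompact g] [QuasiSeparated g] :
    IsFinite g.fromNormalization ∧ Pi1.IsNormalScheme g.normalization ∧
      ∀ x' : g.normalization, IsClosed ({x'} : Set g.normalization) → ringKrullDim (g.normalization.presheaf.stalk x') = 1 := by
  obtain ⟨hint, hnorm, hgen, -⟩ := Groth.Agent.S4448.result X K φ g hg
  have hfin : IsFinite g.fromNormalization := by
    refine Groth.Agent.Nagata.NormalizationFinite.isFinite_fromNormalization g fun U hU => ?_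
    letI := (g.app U).hom.toAlgebra
    rcases U.1.eq_empty_or_nonempty with hne | ⟨x, hx⟩
    · obtain rfl : U = ⊥ := TopologicalSpace.Opens.ext hne
      have : Subsingleton (integralClosure Γ(X, ⊥) Γ(Spec (CommRingCat.of K), g ⁻¹ᵁ ⊥)) :=
        Module.subsingleton Γ(X, ⊥) _
      infer_instance
    have hne : Nonempty U := ⟨⟨x, hx⟩⟩
    have := functionField_isFractionRing_of_isAffineOpen X U hU
    have hgenU : genericPoint ↥X ∈ U := (genericPoint_specializes x).mem_open U.2 hx
    let q := X.fromSpecStalk (genericPoint X)
    have hqt : q ⁻¹ᵁ U = ⊤ := by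
      refine top_le_iff.mp fun z _ => ?_
      have hz : q z ⤳ genericPoint ↥X := X.range_fromSpecStalk.le ⟨z, rfl⟩
      exact hz.mem_open U.2 hgenU
    have htop : g ⁻¹ᵁ U = ⊤ := by rw [hg]; simp [q, hqt]
    let algL : Algebra Γ(X, U) K := (φ.comp (algebraMap Γ(X, U) X.functionField)).toAlgebra
    let algF : Algebra X.functionField K := φ.toAlgebra
    have : IsScalarTower Γ(X, U) X.functionField K := .of_algebraMap_eq' rfl
    have : Module.Finite X.functionField K := hφ
    have : Algebra.EssFiniteType Γ(X, U) X.functionField :=
      Algebra.EssFiniteType.of_isLocalization X.functionField (nonZeroDivisors Γ(X, U))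
    have : Algebra.EssFiniteType Γ(X, U) K := Algebra.EssFiniteType.comp Γ(X, U) X.functionField K
    letI := VarDim.secAlgebra k X U
    have : Algebra.FiniteType k Γ(X, U) := VarDim.finiteType_sections k hU
    have hN : CAlg.IsNagata Γ(X, U) := S0566.result k (BCPoint.isNagata_field k) Γ(X, U)
    have hfinK := Groth.Agent.Nagata.NormalizationFinite.finite_integralClosure_field (F := K) hN
    let ei := (Spec (CommRingCat.of K)).presheaf.mapIso (eqToIso htop.symm).op ≪≫
      Scheme.ΓSpecIso (CommRingCat.of K)
    have hei : g.app U ≫ ei.hom = X.presheaf.germ U (genericPoint ↥X) hgenU ≫ CommRingCat.ofHom φ := by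
      subst hg
      have hg' : q.app U = X.presheaf.germ U (genericPoint ↥X) hgenU ≫ (Scheme.ΓSpecIso X.functionField).inv ≫
          (Spec X.functionField).presheaf.map (eqToHom hqt).op := by
        rw [Scheme.fromSpecStalk_app hgenU]
        rfl
      have h2 : (Spec.map (CommRingCat.ofHom φ) ≫ q).appLE U ⊤ htop.ge ≫ (Scheme.ΓSpecIso (CommRingCat.of K)).hom =
          X.presheaf.germ U (genericPoint ↥X) hgenU ≫ CommRingCat.ofHom φ := by
        rw [Scheme.Hom.comp_appLE, hg']
        simp only [Category.assoc, Scheme.Hom.map_appLE_assoc]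
        rw [show (Spec.map (CommRingCat.ofHom φ)).appLE ⊤ ⊤ le_top = (Spec.map (CommRingCat.ofHom φ)).appTop from by
          simp [Scheme.Hom.appLE]]
        rw [← Scheme.ΓSpecIso_inv_naturality_assoc]
        simp
        rfl
      rw [← h2]
      simp [ei, q, Scheme.Hom.app_eq_appLE, Scheme.Hom.appLE_map_assoc]
    let e : Γ(Spec (CommRingCat.of K), g ⁻¹ᵁ U) ≃ₐ[Γ(X, U)] K :=
      AlgEquiv.ofRingEquiv (f := ei.commRingCatIsoToRingEquiv) fun r => congr($(hei).hom r)
    exact Module.Finite.equiv e.mapIntegralClosure.symm.toLinearEquiv
  refine ⟨hfin, hnorm, fun x' hx' => ?_⟩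
  have hcl : IsClosed ({g.fromNormalization.base x'} : Set X) := by
    have := g.fromNormalization.isClosedMap _ hx'
    rwa [Set.image_singleton] at this
  have h1 : Order.coheight (g.fromNormalization.base x') = 1 := by
    have := hX _ hcl
    rw [ringKrullDim_stalk_eq_coheight] at this
    exact WithBot.coe_eq_one.mp this
  have hne : x' ≠ genericPoint g.normalization := by
    intro e
    have hm : x' ∈ g.fromNormalization.base ⁻¹' {genericPoint X} := by rw [hgen]; exact e
    rw [Set.mem_preimage, Set.mem_singleton_iff] at hm
    rw [hm] at h1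
    rw [show Order.coheight (genericPoint X) = 0 from
      Order.coheight_eq_zero.mpr fun b _ => genericPoint_specializes b] at h1
    exact zero_ne_one h1
  rw [ringKrullDim_stalk_eq_coheight, WithBot.coe_eq_one]
  refine le_antisymm ((coheight_le g.fromNormalization x').trans h1.le) ?_
  rw [Order.one_le_iff_pos, pos_iff_ne_zero]
  intro h0
  rw [Order.coheight_eq_zero] at h0
  have hs : genericPoint g.normalization ⤳ x' := genericPoint_specializes x'
  have h4 : x' ⤳ genericPoint g.normalization := h0 hs
  exact hne (h4.antisymm hs).eq

end Groth.Agent.S4454
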