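import Groth.Statements.S2345
import Groth.Agent.S4454
import Groth.Agent.S4448
import Groth.Agent.S1619
import Groth.Agent.ProjMor.ChowQcqs
import Groth.Agent.WDivLib.ProjChart
import Groth.Agent.ProjProper.Basic
import Groth.Agent.VarDim.Curve
-- import your own Groth.Agent.* helpers here

set_option autoImplicit false
universe u
open CategoryTheory CategoryTheory.Limits AlgebraicGeometry
attribute [local instance] Curv2.stalkAlgebra
open EGA2

namespace Groth.Agent.S2345

set_option backward.isDefEq.respectTransparency.types false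

attribute [local instance] Curv2.resAlgebra

theorem germ_congr {X : Scheme.{u}} {x y : X} (h : x = y) (a : Γ(X, ⊤)) :
    (X.presheaf.stalkCongr (Inseparable.of_eq h)).hom.hom ((X.presheaf.germ ⊤ x trivial).hom a) =
      (X.presheaf.germ ⊤ y trivial).hom a := by
  subst h
  simp [TopCat.Presheaf.stalkCongr]

/-- A `k`-morphism from a point to the generic point which is bijective on local rings gives the function field. -/
theorem exists_equiv (k : Type u) [Field k] {Y : Scheme.{u}} [Y.Over (Spec (CommRingCat.of k))] [IsIntegral Y]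
    (K : Type u) [Field K] [Algebra k K] (g : Spec (CommRingCat.of K) ⟶ Y)
    (hgen : g.base (IsLocalRing.closedPoint K) = genericPoint Y)
    (hbij : Function.Bijective (Scheme.stalkClosedPointTo g).hom)
    (hover : g ≫ (Y ↘ Spec (CommRingCat.of k)) = Spec.map (CommRingCat.ofHom (algebraMap k K))) :
    ∃ e : Y.presheaf.stalk (genericPoint Y) ≃+* K,
      (∀ c : k, e (algebraMap k (Y.presheaf.stalk (genericPoint Y)) c) = algebraMap k K c) ∧
        g = Spec.map (CommRingCat.ofHom e.toRingHom) ≫ Y.fromSpecStalk (genericPoint Y) := by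
  have key : ∀ (y : Y) (h : g.base (IsLocalRing.closedPoint K) = y),
      ∃ e : Y.presheaf.stalk y ≃+* K,
        (∀ c : k, e ((Y.presheaf.germ ⊤ y trivial).hom (Coh.toGlobal (Y ↘ Spec (CommRingCat.of k)) c)) = algebraMap k K c) ∧
          g = Spec.map (CommRingCat.ofHom e.toRingHom) ≫ Y.fromSpecStalk y := by
    intro y h
    subst h
    refine ⟨RingEquiv.ofBijective (Scheme.stalkClosedPointTo g).hom hbij, fun c => ?_,
      (Scheme.Spec_stalkClosedPointTo_fromSpecStalk g).symm⟩
    have h1 := Scheme.germ_stalkClosedPointTo_Spec (CommRingCat.ofHom (algebraMap k K))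
    rw [Scheme.stalkClosedPointTo] at h1
    show (Scheme.stalkClosedPointTo g).hom _ = _
    rw [← CommRingCat.comp_apply, Scheme.germ_stalkClosedPointTo g ⊤ trivial]
    simp only [Coh.toGlobal, RingHom.comp_apply, ← CommRingCat.comp_apply]
    have h2 : (Scheme.ΓSpecIso (CommRingCat.of k)).inv ≫ (g ≫ (Y ↘ Spec (CommRingCat.of k))).appTop ≫
        (Scheme.ΓSpecIso (CommRingCat.of K)).hom = CommRingCat.ofHom (algebraMap k K) := by
      rw [hover, Scheme.ΓSpecIso_naturality, Iso.inv_hom_id_assoc]
    have h3 := congr($(h2).hom c)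
    simp only [Scheme.Hom.comp_appTop, Category.assoc] at h3
    simp only [Category.assoc] at *
    exact h3
  exact key _ hgen

theorem surjective_stalkClosedPointTo_specMap {P : Type u} [CommRing P] {K : Type u} [Field K] (π : P →+* K)
    (h : ∀ z : K, ∃ a b : P, π b ≠ 0 ∧ z = π a / π b) :
    Function.Surjective (Scheme.stalkClosedPointTo (Spec.map (CommRingCat.ofHom π))).hom := by
  intro z
  obtain ⟨a, b, hb, rfl⟩ := h z
  let G : P →+* _ := ((Spec (CommRingCat.of P)).presheaf.germ ⊤ ((Spec.map (CommRingCat.ofHom π)).base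
      (IsLocalRing.closedPoint K)) trivial).hom.comp (Scheme.ΓSpecIso (CommRingCat.of P)).inv.hom
  have hG : ∀ r, (Scheme.stalkClosedPointTo (Spec.map (CommRingCat.ofHom π))).hom (G r) = π r := by
    intro r
    show ((Spec (CommRingCat.of P)).presheaf.germ ⊤ _ trivial ≫
      Scheme.stalkClosedPointTo (Spec.map (CommRingCat.ofHom π))).hom
        ((Scheme.ΓSpecIso (CommRingCat.of P)).inv.hom r) = π r
    rw [Scheme.germ_stalkClosedPointTo_Spec]
    simp
  have hu : IsUnit (G b) := by
    refine (isUnit_map_iff (Scheme.stalkClosedPointTo (Spec.map (CommRingCat.ofHom π))).hom _).1 ?_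
    rw [hG]
    exact isUnit_iff_ne_zero.2 hb
  refine ⟨G a * ↑hu.unit⁻¹, ?_⟩
  rw [map_mul, hG, eq_div_iff hb, mul_assoc]
  conv_lhs => rw [← hG b]
  rw [← map_mul, IsUnit.val_inv_mul, map_one, mul_one]

theorem genericPoint_eq_of_subsingleton {Z Y : Scheme.{u}} [Subsingleton Z] [IrreducibleSpace Y] (g : Z ⟶ Y)
    [IsDominant g] (z : Z) : g.base z = genericPoint Y := by
  refine ((genericPoint_spec Y).eq ?_).symm
  show closure _ = _
  rw [← g.denseRange.closure_range]
  congr 1
  ext y
  exact ⟨fun h => ⟨z, h.symm⟩, fun ⟨w, hw⟩ => by rw [← hw, Subsingleton.elim w z]; rfl⟩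


/-- Let K be a finitely generated field extension of k of transcendence degree one. Then there is an
integral normal algebraic curve X, proper over k, whose function field is isomorphic to K compatibly
with the maps from k. -/
theorem result (k : Type u) [Field k] (K : Type u) [Field K] [Algebra k K]
    (hfg : (⊤ : IntermediateField k K).FG) (htr : Algebra.trdeg k K = 1) :
    ∃ (X : Scheme.{u}) (_ : X.Over (Spec (CommRingCat.of k))) (_ : IsIntegral X), IsProper (X ↘ (Spec (CommRingCat.of k))) ∧ Pi1.IsNormalScheme X ∧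
      (∀ x : X, IsClosed ({x} : Set X) → ringKrullDim (X.presheaf.stalk x) = 1) ∧
      ∃ e : X.presheaf.stalk (genericPoint X) ≃+* K, ∀ c : k, e (algebraMap k (X.presheaf.stalk (genericPoint X)) c) = algebraMap k K c := by
  classical
  obtain ⟨s, hs⟩ := hfg
  let m := s.card
  let v : ULift.{u} (Fin m) → K := fun i => (s.equivFin.symm i.down : K)
  let π := MvPolynomial.aeval (R := k) v
  have hrange : Set.range v = (s : Set K) := by
    ext z
    exact ⟨fun ⟨i, hi⟩ => hi ▸ (s.equivFin.symm i.down).2, fun hz => ⟨⟨s.equivFin ⟨z, hz⟩⟩, by simp [v]⟩⟩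
  have hdiv : ∀ z : K, ∃ a b, π.toRingHom b ≠ 0 ∧ z = π.toRingHom a / π.toRingHom b := by
    intro z
    have hz : z ∈ IntermediateField.adjoin k (Set.range v) := by rw [hrange, hs]; trivial
    obtain ⟨a, b, hab⟩ := (IntermediateField.mem_adjoin_range_iff k v z).1 hz
    by_cases hb : π b = 0
    · refine ⟨0, 1, by simp, ?_⟩
      rw [hab]
      simp [π, show MvPolynomial.aeval v b = 0 from hb]
    · exact ⟨a, b, hb, hab⟩
  let j : Spec (CommRingCat.of (MvPolynomial (ULift.{u} (Fin m)) k)) ⟶ CohB1.ProjSpace m k :=
    (AffineSpace.SpecIso (ULift.{u} (Fin m)) (CommRingCat.of k)).inv ≫ WDivLib.projChart m k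
  let g0 : Spec (CommRingCat.of K) ⟶ CohB1.ProjSpace m k := Spec.map (CommRingCat.ofHom π.toRingHom) ≫ j
  have hg0 : g0 ≫ CohB1.ProjSpace.toSpec m k = Spec.map (CommRingCat.ofHom (algebraMap k K)) := by
    simp only [g0, j, Category.assoc]
    rw [WDivLib.projChart_over, AffineSpace.SpecIso_inv_over, ← Spec.map_comp]
    congr 1
    ext c
    exact MvPolynomial.aeval_C v c
  have hP : IsProper (CohB1.ProjSpace.toSpec m k) := ProjProper.Basic.isProper_toSpec m k
  let Y : Scheme.{u} := g0.image
  let : Y.Over (Spec (CommRingCat.of k)) := ⟨g0.imageι ≫ CohB1.ProjSpace.toSpec m k⟩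
  have hY : IsProper (Y ↘ Spec (CommRingCat.of k)) :=
    inferInstanceAs (IsProper (g0.imageι ≫ CohB1.ProjSpace.toSpec m k))
  let g : Spec (CommRingCat.of K) ⟶ Y := g0.toImage
  have hqc0 : QuasiCompact g0 := by
    have : QuasiCompact (g0 ≫ CohB1.ProjSpace.toSpec m k) := inferInstance
    exact QuasiCompact.of_comp g0 (CohB1.ProjSpace.toSpec m k)
  have hgd : IsDominant g := inferInstanceAs (IsDominant g0.toImage)
  have hsub : Subsingleton (Spec (CommRingCat.of K)) := inferInstanceAs (Subsingleton (PrimeSpectrum K))
  have hirr : IrreducibleSpace Y := by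
    have hne : IsIrreducible (Set.range g.base) := by
      rw [← Set.image_univ]
      exact (IrreducibleSpace.isIrreducible_univ _).image _ g.continuous.continuousOn
    have h2 := hne.closure
    rw [g.denseRange.closure_range] at h2
    exact (irreducibleSpace_def _).2 h2
  have : IsReduced Y := ProjMor.isReduced_image g0
  have : IsIntegral Y := isIntegral_of_irreducibleSpace_of_isReduced Y
  have hgen : g.base (IsLocalRing.closedPoint K) = genericPoint Y := genericPoint_eq_of_subsingleton g _
  have hbij : Function.Bijective (Scheme.stalkClosedPointTo g).hom := by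
    have hfield : IsField (Y.presheaf.stalk (g.base (IsLocalRing.closedPoint K))) := by
      rw [hgen]
      exact Field.toIsField Y.functionField
    let : Field (Y.presheaf.stalk (g.base (IsLocalRing.closedPoint K))) := hfield.toField
    refine ⟨(Scheme.stalkClosedPointTo g).hom.injective, ?_⟩
    have h0 : Function.Surjective (Scheme.stalkClosedPointTo g0).hom := by
      rw [Scheme.stalkClosedPointTo_comp]
      exact (surjective_stalkClosedPointTo_specMap π.toRingHom hdiv).comp
        (ConcreteCategory.bijective_of_isIso (j.stalkMap _)).2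
    have h1 : Function.Surjective (Scheme.stalkClosedPointTo (g ≫ g0.imageι)).hom := by
      rw [show g ≫ g0.imageι = g0 from g0.toImage_imageι]
      exact h0
    rw [Scheme.stalkClosedPointTo_comp] at h1
    exact Function.Surjective.of_comp h1
  have hover : g ≫ (Y ↘ Spec (CommRingCat.of k)) = Spec.map (CommRingCat.ofHom (algebraMap k K)) := by
    rw [← hg0]
    exact g0.toImage_imageι_assoc _
  obtain ⟨e, he, hge⟩ := exists_equiv k K g hgen hbij hover
  have hres : Function.Bijective (Y.residue (genericPoint Y)).hom :=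
    ⟨RingHom.injective (show Y.functionField →+* _ from (Y.residue (genericPoint Y)).hom), Y.residue_surjective _⟩
  let e' : Y.residueField (genericPoint Y) ≃+* K := (RingEquiv.ofBijective _ hres).symm.trans e
  let eA : Y.residueField (genericPoint Y) ≃ₐ[k] K := AlgEquiv.ofRingEquiv (f := e') fun c => by
    show e ((RingEquiv.ofBijective _ hres).symm ((Y.residue _).hom (Curv2.stalkMap k Y _ c))) = _
    rw [show (RingEquiv.ofBijective _ hres).symm ((Y.residue _).hom (Curv2.stalkMap k Y _ c)) = Curv2.stalkMap k Y _ c from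
      (RingEquiv.ofBijective _ hres).symm_apply_apply _]
    exact he c
  have hdim : topologicalKrullDim Y = 1 := by
    have := Groth.Agent.S1619.result k Y 1 (by rw [eA.trdeg_eq, htr, Nat.cast_one])
    simpa using this
  have hX : ∀ y : Y, IsClosed ({y} : Set Y) → ringKrullDim (Y.presheaf.stalk y) = 1 := by
    intro y hy
    rw [ringKrullDim_stalk_eq_coheight, VarDim.coheight_eq_one_of_ne_genericPoint k hdim ?_]
    · rfl
    · rintro rfl
      have hu : (Set.univ : Set Y) = {genericPoint Y} := by
        rw [← hy.closure_eq]; exact (genericPoint_spec Y).symm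
      have : Subsingleton Y := Set.subsingleton_univ_iff.1 (hu ▸ Set.subsingleton_singleton)
      have h0 : topologicalKrullDim Y ≤ 0 := topologicalKrullDim_zero_of_discreteTopology Y
      rw [hdim] at h0
      exact absurd h0 (by norm_num)
  have hgs : QuasiSeparated g := inferInstance
  have hgc : QuasiCompact g := inferInstance
  obtain ⟨hfin, hN, hd⟩ := Groth.Agent.S4454.result k Y hX K e.toRingHom
    (RingHom.Finite.of_surjective _ e.surjective) g hge
  obtain ⟨hint, -, -, hgenN, hinj, hr⟩ := Groth.Agent.S4448.result Y K e.toRingHom g hge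
  let : g.normalization.Over (Spec (CommRingCat.of k)) := ⟨g.fromNormalization ≫ (Y ↘ Spec (CommRingCat.of k))⟩
  have hsurjN : Function.Surjective (Scheme.stalkClosedPointTo g.toNormalization).hom := by
    intro z
    have hz : z ∈ Set.range (Scheme.stalkClosedPointTo g.toNormalization).hom := by
      rw [hr]
      exact ⟨Polynomial.X - Polynomial.C (e.symm z), Polynomial.monic_X_sub_C _, by simp⟩
    exact hz
  obtain ⟨eN, heN, -⟩ := exists_equiv k K g.toNormalization hgenN ⟨hinj, hsurjN⟩ (by
    rw [← hover]
    exact g.toNormalization_fromNormalization_assoc _)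
  refine ⟨g.normalization, inferInstance, hint, ?_, hN, hd, eN, heN⟩
  exact inferInstanceAs (IsProper (g.fromNormalization ≫ (Y ↘ Spec (CommRingCat.of k))))

end Groth.Agent.S2345
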