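import Groth.Statements.S2346
import Groth.Agent.EquidimPt.DimSum
-- import your own Groth.Agent.* helpers here

set_option autoImplicit false
universe u
open CategoryTheory CategoryTheory.Limits AlgebraicGeometry
open EGA2

namespace Groth.Agent.S2346

theorem curve_points {X : Scheme.{u}} [IrreducibleSpace X]
    (hX : ∀ x : X, IsClosed ({x} : Set X) → ringKrullDim (X.presheaf.stalk x) = 1) [JacobsonSpace X] :
    (∀ z : X, z ≠ genericPoint X → IsClosed ({z} : Set X)) ∧ ¬ IsClosed ({genericPoint X} : Set X) := by
  obtain ⟨c₀, -, hc₀⟩ : ∃ c₀ ∈ (Set.univ : Set X), IsClosed ({c₀} : Set X) := by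
    obtain ⟨c, h1, h2⟩ := nonempty_inter_closedPoints (X := X) (Z := Set.univ) ⟨genericPoint X, trivial⟩
      isClosed_univ.isLocallyClosed
    exact ⟨c, h1, h2⟩
  have hkey : ∀ c : X, IsClosed ({c} : Set X) → ∀ z, z ⤳ c → z = c ∨ z = genericPoint X := by
    intro c hc z hz
    by_contra hne
    simp only [not_or] at hne
    let u₀ : {w : X | w ⤳ c} := ⟨c, specializes_rfl⟩
    let u₁ : {w : X | w ⤳ c} := ⟨z, hz⟩
    let u₂ : {w : X | w ⤳ c} := ⟨genericPoint X, genericPoint_specializes c⟩
    have h01 : u₀ < u₁ := ⟨hz, fun hh => hne.1 (hz.antisymm (show c ⤳ z from hh)).eq⟩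
    have h12 : u₁ < u₂ := ⟨genericPoint_specializes z,
      fun hh => hne.2 ((show z ⤳ genericPoint X from hh).antisymm (genericPoint_specializes z)).eq⟩
    let l : LTSeries {w : X | w ⤳ c} := ((RelSeries.singleton _ u₀).snoc u₁ h01).snoc u₂ (by simpa using h12)
    have h3 := (Order.le_krullDim_iff.mpr ⟨l, rfl⟩ : ((l.length : ℕ) : WithBot ℕ∞) ≤ _).trans_eq
      ((Groth.Agent.FibSemi.ringKrullDim_stalk_eq c).symm.trans (hX c hc))
    exact absurd h3 (by simp [l])
  have hne : ¬ IsClosed ({genericPoint X} : Set X) := by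
    intro hc
    have h1 := hX _ hc
    rw [Groth.Agent.FibSemi.ringKrullDim_stalk_eq] at h1
    haveI : Subsingleton {w : X | w ⤳ genericPoint X} := ⟨fun a b => Subtype.ext
      (((a.2.antisymm (genericPoint_specializes a.1)).eq).trans ((b.2.antisymm (genericPoint_specializes b.1)).eq).symm)⟩
    have h2 := Order.krullDim_nonpos_of_subsingleton (α := {w : X | w ⤳ genericPoint X})
    rw [h1] at h2
    exact absurd h2 (by simp)
  refine ⟨fun z hz => ?_, hne⟩
  obtain ⟨c, hcz, hc⟩ := nonempty_inter_closedPoints (X := X) (Z := closure {z})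
    (Set.singleton_nonempty z).closure isClosed_closure.isLocallyClosed
  rcases hkey c hc z (specializes_iff_mem_closure.2 hcz) with h | h
  · exact h ▸ hc
  · exact absurd h hz

/-- Let X and Y be irreducible algebraic curves over k (separated, of finite type, local rings at closed
points one-dimensional) and f : X → Y a k-morphism. Then f is dominant if and only if every fibre
f⁻¹(y) is a finite set. -/
theorem result (k : Type u) [Field k] (X Y : Scheme.{u}) [X.Over (Spec (CommRingCat.of k))] [Y.Over (Spec (CommRingCat.of k))]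
    [LocallyOfFiniteType (X ↘ (Spec (CommRingCat.of k)))] [QuasiCompact (X ↘ (Spec (CommRingCat.of k)))] [IsSeparated (X ↘ (Spec (CommRingCat.of k)))] [LocallyOfFiniteType (Y ↘ (Spec (CommRingCat.of k)))] [QuasiCompact (Y ↘ (Spec (CommRingCat.of k)))] [IsSeparated (Y ↘ (Spec (CommRingCat.of k)))] [IrreducibleSpace X] [IrreducibleSpace Y]
    (hX : (∀ x : X, IsClosed ({x} : Set X) → ringKrullDim (X.presheaf.stalk x) = 1)) (hY : (∀ x : Y, IsClosed ({x} : Set Y) → ringKrullDim (Y.presheaf.stalk x) = 1))
    (f : X ⟶ Y) (hf : f ≫ (Y ↘ (Spec (CommRingCat.of k))) = X ↘ (Spec (CommRingCat.of k))) :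
    IsDominant f ↔ ∀ y : Y, (f.base ⁻¹' {y}).Finite := by
  let pX := X ↘ (Spec (CommRingCat.of k))
  let pY := Y ↘ (Spec (CommRingCat.of k))
  haveI : LocallyOfFiniteType (f ≫ pY) := by rw [hf]; infer_instance
  haveI : LocallyOfFiniteType f := locallyOfFiniteType_of_comp f pY
  haveI : JacobsonSpace X := LocallyOfFiniteType.jacobsonSpace pX
  haveI : JacobsonSpace Y := LocallyOfFiniteType.jacobsonSpace pY
  haveI : IsLocallyNoetherian X := LocallyOfFiniteType.isLocallyNoetherian pX
  haveI : CompactSpace X := QuasiCompact.compactSpace_of_compactSpace pX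
  haveI : IsNoetherian X := {}
  obtain ⟨hXc, hXg⟩ := Groth.Agent.S2346.curve_points hX
  obtain ⟨hYc, hYg⟩ := Groth.Agent.S2346.curve_points hY
  have hmap : ∀ z : X, z ≠ genericPoint X → IsClosed ({f.base z} : Set Y) := fun z hz =>
    f.closePoints_subset_preimage_closedPoints (hXc z hz)
  constructor
  · intro hdom y
    have hη := Groth.Agent.EquidimPt.apply_genericPoint f f.denseRange
    rcases eq_or_ne y (genericPoint Y) with rfl | hy
    · refine (Set.finite_singleton (genericPoint X)).subset fun z hz => ?_
      by_contra hne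
      exact hYg ((show f.base z = genericPoint Y from hz) ▸ hmap z hne)
    · have hcl : IsClosed (f.base ⁻¹' {y}) := (hYc y hy).preimage f.continuous
      have hsub : ∀ z ∈ f.base ⁻¹' {y}, IsClosed ({z} : Set X) := fun z hz => hXc z fun h => hy (by
        rw [← show f.base z = y from hz, h]; exact hη)
      obtain ⟨S, hS, hSeq⟩ := TopologicalSpace.NoetherianSpace.exists_finite_set_isClosed_irreducible hcl
      have : f.base ⁻¹' {y} = ⋃₀ S := hSeq.2.2
      rw [this]
      refine Set.Finite.sUnion hS fun T hT => ?_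
      obtain ⟨g, hg⟩ := QuasiSober.sober (hSeq.2.1 T hT) (hSeq.1 T hT)
      refine (Set.finite_singleton g).subset fun z hz => ?_
      have hgmem : g ∈ f.base ⁻¹' {y} := this ▸ Set.mem_sUnion_of_mem hg.mem hT
      exact (specializes_iff_mem_closure.1 (hg.specializes hz) |> (hsub g hgmem).closure_eq.subset)
  · intro hfin
    refine ⟨?_⟩
    have hη : f.base (genericPoint X) = genericPoint Y := by
      by_contra hne
      have hcl := hYc _ hne
      have hall : (Set.univ : Set X) ⊆ f.base ⁻¹' {f.base (genericPoint X)} := fun z _ =>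
        hcl.closure_eq.subset (specializes_iff_mem_closure.1 ((genericPoint_specializes z).map f.continuous))
      have hX0 : (Set.univ : Set X).Finite := (hfin _).subset hall
      have hO : IsClosed ({z : X | z ≠ genericPoint X}) := by
        rw [← Set.biUnion_of_singleton {z : X | z ≠ genericPoint X}]
        exact (hX0.subset (Set.subset_univ _)).isClosed_biUnion fun z hz => hXc z hz
      have ho : IsLocallyClosed ({genericPoint X} : Set X) := by
        refine IsOpen.isLocallyClosed ?_
        convert hO.isOpen_compl using 1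
        ext z; simp
      obtain ⟨c, hc, hc'⟩ := nonempty_inter_closedPoints (Set.singleton_nonempty _) ho
      exact hXg (Set.mem_singleton_iff.1 hc ▸ hc')
    intro y
    exact closure_mono (s := {genericPoint Y}) (Set.singleton_subset_iff.2 (hη ▸ Set.mem_range_self (f := f.base) _))
      (genericPoint_specializes y).mem_closure

end Groth.Agent.S2346
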