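import Groth.Statements.S2349
-- import your own Groth.Agent.* helpers here

set_option autoImplicit false
universe u
open CategoryTheory CategoryTheory.Limits AlgebraicGeometry
open EGA2

namespace Groth.Agent.S2349

/-- Let f : X → Y be separated and of finite type, and let j_i : X_i → X and h_i : Y_i → Y (i in a
finite index type) be closed immersions with morphisms f_i : X_i → Y_i satisfying j_i ≫ f = f_i ≫
h_i, such that the images of the j_i cover X. Then f is proper if and only if every f_i is proper. -/
theorem result {X Y : Scheme.{u}} (f : X ⟶ Y) [IsSeparated f] [LocallyOfFiniteType f] [QuasiCompact f]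
    (ι : Type u) [Finite ι] (Xi Yi : ι → Scheme.{u}) (j : ∀ i, Xi i ⟶ X) (h : ∀ i, Yi i ⟶ Y) (fi : ∀ i, Xi i ⟶ Yi i)
    [∀ i, IsClosedImmersion (j i)] [∀ i, IsClosedImmersion (h i)] (hcomm : ∀ i, j i ≫ f = fi i ≫ h i)
    (hcov : ∀ x : X, ∃ i, x ∈ Set.range (j i).base) : IsProper f ↔ ∀ i, IsProper (fi i) := by
  constructor
  · intro _ i
    have : IsProper (fi i ≫ h i) := hcomm i ▸ inferInstance
    exact IsProper.of_comp (fi i) (h i)
  · intro hp
    have : ∀ i, IsProper (j i ≫ f) := fun i ↦ by
      have := hp i
      rw [hcomm i]; infer_instance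
    have : UniversallyClosed f := by
      refine ⟨MorphismProperty.universally_mk' _ _ fun {W} y' _ ↦ ?_⟩
      suffices hs : IsClosedMap (pullback.snd f y') by
        have e : pullback.fst y' f = (pullbackSymmetry y' f).hom ≫ pullback.snd f y' :=
          (pullbackSymmetry_hom_comp_snd y' f).symm
        show IsClosedMap (pullback.fst y' f)
        rw [e, Scheme.Hom.comp_base, TopCat.coe_comp]
        exact hs.comp ((pullbackSymmetry y' f).hom.homeomorph.isClosedMap)
      intro C hC
      let a : ∀ i, pullback (j i ≫ f) y' ⟶ pullback f y' := fun i ↦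
        pullback.map (j i ≫ f) y' f y' (j i) (𝟙 W) (𝟙 Y) (Category.comp_id _)
          ((Category.comp_id _).trans (Category.id_comp _).symm)
      have hC' : pullback.snd f y' '' C =
          ⋃ i, pullback.snd (j i ≫ f) y' '' (a i ⁻¹' C) := by
        ext w
        simp only [Set.mem_iUnion, Set.mem_image, Set.mem_preimage]
        constructor
        · rintro ⟨c, hc, rfl⟩
          obtain ⟨i, x, hx⟩ := hcov (pullback.fst f y' c)
          have sq : IsPullback (a i) (pullback.fst (j i ≫ f) y') (pullback.fst f y') (j i) := by
            refine (IsPullback.of_bot ?_ (pullback.lift_fst _ _ _).symm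
              (IsPullback.of_hasPullback f y')).flip
            rw [pullback.lift_snd, Category.comp_id]
            exact IsPullback.of_hasPullback (j i ≫ f) y'
          obtain ⟨z, hz, -⟩ := Scheme.exists_preimage_of_isPullback sq c x hx.symm
          refine ⟨i, z, hz ▸ hc, ?_⟩
          rw [← hz]
          exact congrArg (fun b : pullback (j i ≫ f) y' ⟶ W ↦ b z)
            (show pullback.snd (j i ≫ f) y' = a i ≫ pullback.snd f y' from
              ((pullback.lift_snd _ _ _).trans (Category.comp_id _)).symm)
        · rintro ⟨i, z, hz, rfl⟩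
          refine ⟨a i z, hz, ?_⟩
          exact congrArg (fun b : pullback (j i ≫ f) y' ⟶ W ↦ b z)
            (show a i ≫ pullback.snd f y' = pullback.snd (j i ≫ f) y' from
              (pullback.lift_snd _ _ _).trans (Category.comp_id _))
      rw [hC']
      exact isClosed_iUnion_of_finite fun i ↦
        (pullback.snd (j i ≫ f) y').isClosedMap _ (hC.preimage (a i).continuous)
    exact {}

end Groth.Agent.S2349
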