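import Groth.Statements.S2350
import Groth.Agent.Props.GenLocus

set_option autoImplicit false
universe u
open CategoryTheory CategoryTheory.Limits AlgebraicGeometry
open EGA2

namespace Groth.Agent.S2350

/-- Let X be a scheme, L an invertible O_X-module and s a global section of L. Then the inclusion of the
open X_s (where s generates L) into X is an affine morphism. -/
theorem result (X : Scheme.{u}) (L : X.Modules) (hL : PicF.IsInvertible L) (s : Coh.structureModule X ⟶ L) :
    IsAffineHom (CohB1.genLocus L s).ι := by
  refine isAffineHom_of_forall_exists_isAffineOpen _ fun x => ?_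
  obtain ⟨U, e, hxU, he⟩ := Props.GenLocus.exists_isGen hL x
  obtain ⟨W, hW, hxW, hWU⟩ := exists_isAffineOpen_mem_and_subset (X := X) (x := x) (U := U) hxU
  have he' := he.restrict hWU
  obtain ⟨f, hf, -⟩ := he'.exists_eq le_rfl (Props.GenLocus.sec s W)
  rw [QCoh.res_self] at hf
  refine ⟨W, hxW, hW, ?_⟩
  rw [← Scheme.Hom.isAffineOpen_iff_of_isOpenImmersion (CohB1.genLocus L s).ι,
    Scheme.Hom.image_preimage_eq_opensRange_inf, Scheme.Opens.opensRange_ι,
    Props.GenLocus.genLocus_inf he' s hf]
  exact hW.basicOpen f

end Groth.Agent.S2350
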