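import Groth.Statements.S2353
import Groth.Agent.DVRCrit.Basic

set_option autoImplicit false
universe u
open CategoryTheory CategoryTheory.Limits AlgebraicGeometry
open EGA2

namespace Groth.Agent.S2353


open IsLocalRing in
/-- Composite of a valuation ring with a valuation ring of its residue field. -/
def compVS {K : Type u} [Field K] (W : ValuationSubring K) (V : ValuationSubring (ResidueField W)) :
    ValuationSubring K :=
  { (V.toSubring.comap (residue W)).map W.subtype with
    mem_or_inv_mem' := fun w => by
      by_cases hw : w ∈ W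
      · by_cases hV : residue W ⟨w, hw⟩ ∈ V
        · exact .inl ⟨⟨w, hw⟩, hV, rfl⟩
        · right
          have hu : IsUnit (⟨w, hw⟩ : W) := by
            by_contra hu
            exact hV (by rw [(residue_eq_zero_iff _).mpr hu]; exact zero_mem _)
          refine ⟨↑hu.unit⁻¹, ?_, ?_⟩
          · show residue W ↑hu.unit⁻¹ ∈ V
            rw [map_units_inv, IsUnit.unit_spec]
            exact (V.mem_or_inv_mem _).resolve_left hV
          · show ((↑hu.unit⁻¹ : W) : K) = w⁻¹
            exact eq_inv_of_mul_eq_one_right (congrArg Subtype.val hu.mul_val_inv)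
      · right
        have hinv := (W.mem_or_inv_mem w).resolve_left hw
        refine ⟨⟨w⁻¹, hinv⟩, ?_, rfl⟩
        show residue W ⟨w⁻¹, hinv⟩ ∈ V
        rw [(residue_eq_zero_iff _).mpr]
        · exact zero_mem _
        · rintro hu
          obtain ⟨v, hv⟩ := isUnit_iff_exists_inv.mp hu
          refine hw ?_
          have h1 : w⁻¹ * (v : K) = 1 := congrArg Subtype.val hv
          rw [← inv_inv w, inv_eq_of_mul_eq_one_right h1]
          exact v.2 }

lemma isDominant_subtype {K : Type u} [Field K] (R : ValuationSubring K) :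
    IsDominant (Spec.map (CommRingCat.ofHom R.subtype)) := by
  refine ⟨(PrimeSpectrum.denseRange_comap_iff_ker_le_nilRadical R.subtype).mpr ?_⟩
  rw [(RingHom.injective_iff_ker_eq_bot R.subtype).mp Subtype.val_injective]
  exact bot_le

open IsLocalRing in
lemma map_closedPoint_eq {A B : Type u} [CommRing A] [CommRing B] [IsLocalRing A] [IsLocalRing B]
    (φ : A →+* B) [IsLocalHom φ] :
    Spec.map (CommRingCat.ofHom φ) (closedPoint B) = closedPoint A :=
  IsLocalRing.comap_closedPoint φ

set_option maxHeartbeats 1000000 in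
/-- Let Y be an integral separated locally Noetherian scheme, X an integral separated scheme and f : X →
Y dominant and of finite type, with generic point ξ of X. Suppose that for every discrete valuation
subring R of the function field K(X) and every point y of Y such that R dominates the local ring
O_{Y,y} (through O_{Y,y} → O_{Y,f(ξ)} → K(X): the image lies in R and the maximal ideal maps into
the maximal ideal of R), there is a point x of X whose local ring is dominated by R (through O_{X,x}
→ K(X)). Then f is proper. -/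
theorem result {X Y : Scheme.{u}} [IsIntegral X] [IsIntegral Y] [X.IsSeparated] [Y.IsSeparated]
    [IsLocallyNoetherian Y] (f : X ⟶ Y) [IsDominant f] [LocallyOfFiniteType f] [QuasiCompact f]
    (h : ∀ (R : ValuationSubring X.functionField), IsDiscreteValuationRing R →
      ∀ (y : Y) (hy : f.base (genericPoint X) ⤳ y), ((∀ a : (Y.presheaf.stalk y), (Y.presheaf.stalkSpecializes hy ≫ f.stalkMap (genericPoint X)).hom a ∈ R) ∧ ∀ a ∈ IsLocalRing.maximalIdeal (Y.presheaf.stalk y), R.valuation ((Y.presheaf.stalkSpecializes hy ≫ f.stalkMap (genericPoint X)).hom a) < 1) →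
        ∃ x : X, ((∀ a : (X.presheaf.stalk x), algebraMap (X.presheaf.stalk x) X.functionField a ∈ R) ∧ ∀ a ∈ IsLocalRing.maximalIdeal (X.presheaf.stalk x), R.valuation (algebraMap (X.presheaf.stalk x) X.functionField a) < 1)) :
    IsProper f := by
  have : IsSeparated f := by
    have : IsSeparated (f ≫ terminal.from Y) := by
      rw [terminal.hom_ext (f ≫ terminal.from Y) (terminal.from X)]
      infer_instance
    exact IsSeparated.of_comp f (terminal.from Y)
  have : UniversallyClosed f := by
    refine UniversallyClosed.of_valuativeCriterion f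
      (DVRCrit.existence_of_centers f fun x O hO hx V hV ↦ ?_)
    have hξx : genericPoint X ⤳ x := genericPoint_specializes x
    obtain ⟨W, hW, hWl⟩ := IsLocalRing.exists_factor_valuationRing
      (algebraMap (X.presheaf.stalk x) X.functionField)
    let ψ : X.presheaf.stalk x →+* W :=
      (algebraMap (X.presheaf.stalk x) X.functionField).codRestrict W.toSubring hW
    have : IsLocalHom ψ := hWl
    let e : X.residueField x →+* IsLocalRing.ResidueField W := IsLocalRing.ResidueField.map ψ
    obtain ⟨V', hV', hVl⟩ := IsLocalRing.exists_factor_valuationRing (e.comp V.subtype)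
    let φ : V →+* V' := (e.comp V.subtype).codRestrict V'.toSubring hV'
    have : IsLocalHom φ := hVl
    have hback : ∀ a, e a ∈ V' → a ∈ V := by
      intro a ha
      by_contra haV
      have hinv := (V.mem_or_inv_mem a).resolve_left haV
      have ha0 : a ≠ 0 := fun h0 ↦ haV (h0 ▸ zero_mem V)
      have hu : IsUnit (φ ⟨a⁻¹, hinv⟩) := by
        refine isUnit_iff_exists_inv.mpr ⟨⟨e a, ha⟩, Subtype.ext ?_⟩
        show e a⁻¹ * e a = 1
        rw [← map_mul, inv_mul_cancel₀ ha0, map_one]
      obtain ⟨v, hv⟩ := isUnit_iff_exists_inv.mp (IsUnit.of_map φ _ hu)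
      refine haV ?_
      have h1 : a⁻¹ * (v : X.residueField x) = 1 := congrArg Subtype.val hv
      rw [← inv_inv a, inv_eq_of_mul_eq_one_right h1]
      exact v.2
    -- evaluation at the generic point
    let K : Type u := X.functionField
    let iξ : Spec (CommRingCat.of K) ⟶ X := X.fromSpecStalk (genericPoint X)
    have hpt : ∀ p, iξ p = genericPoint X := fun p ↦ by
      rw [Subsingleton.elim p (IsLocalRing.closedPoint _)]
      exact Scheme.fromSpecStalk_closedPoint
    have hxfO : f x ∈ O := by simpa using hx default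
    have hiO : ∀ p, (iξ ≫ f) p ∈ O := fun p ↦ by
      rw [Scheme.Hom.comp_apply, hpt]
      exact (hξx.map f.continuous).mem_open O.2 hxfO
    obtain ⟨U₁, hU₁, hxU₁, hU₁O⟩ := exists_isAffineOpen_mem_and_subset (X := X) (x := x)
      (U := f ⁻¹ᵁ O) hxfO
    have hx₁ : ∀ p, X.fromSpecResidueField x p ∈ U₁ := fun p ↦ by
      rw [Scheme.fromSpecResidueField_apply]; exact hxU₁
    have hξ₁ : ∀ p, iξ p ∈ U₁ := fun p ↦ by rw [hpt]; exact hξx.mem_open U₁.2 hxU₁
    have key : ∀ {U : X.Opens} (hU : IsAffineOpen U) (hxU : x ∈ U) (h : ∀ p, iξ p ∈ U) (b : Γ(X, U)),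
        (DVRCrit.ev iξ U h).hom b =
          algebraMap (X.presheaf.stalk x) X.functionField (X.presheaf.germ U x hxU b) := by
      intro U hU hxU h b
      rw [DVRCrit.ev_fromSpecStalk hU (genericPoint X) (hξx.mem_open U.2 hxU) h]
      exact (ConcreteCategory.congr_hom (X.presheaf.germ_stalkSpecializes hxU hξx) b).symm
    have hV'' : ∀ a, (DVRCrit.ev (iξ ≫ f) O hiO).hom a ∈ compVS W V' := by
      intro a
      rw [DVRCrit.ev_comp_right f iξ hU₁O hξ₁ hiO]
      have h1 := hV a
      rw [DVRCrit.ev_comp_right f (X.fromSpecResidueField x) hU₁O hx₁ hx,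
        DVRCrit.ev_fromSpecResidueField hU₁ x hxU₁ hx₁] at h1
      refine ⟨ψ (X.presheaf.germ U₁ x hxU₁ (f.appLE O U₁ hU₁O a)), ?_, ?_⟩
      · exact hV' ⟨_, h1⟩
      · exact (key hU₁ hxU₁ hξ₁ _).symm
    have hgen : ∀ (U : X.Opens), IsAffineOpen U → ∀ h : (∀ p, iξ p ∈ U),
        Subfield.closure (Set.range (DVRCrit.ev iξ U h).hom) = ⊤ := by
      intro U hU hU'
      have hξU : genericPoint X ∈ U := hpt default ▸ hU' default
      rw [DVRCrit.ev_fromSpecStalk hU (genericPoint X) hξU hU', eq_top_iff]
      rintro z -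
      have : Nonempty U := ⟨⟨_, hξU⟩⟩
      have := functionField_isFractionRing_of_isAffineOpen X U hU
      obtain ⟨a, b, -, rfl⟩ := IsFractionRing.div_surjective Γ(X, U) (z : X.functionField)
      exact div_mem (Subfield.subset_closure ⟨a, rfl⟩) (Subfield.subset_closure ⟨b, rfl⟩)
    obtain ⟨U, hU, hUO, hξU, hmem⟩ := DVRCrit.exists_center_of_forall_dvr f iξ hgen hO hiO
      (compVS W V') hV'' (by
      intro R hR hmemR
      obtain ⟨j, hj, hjO⟩ := DVRCrit.exists_lift_of_ev_mem R (iξ ≫ f) hO hiO hmemR
      let c : Spec (CommRingCat.of R) := IsLocalRing.closedPoint R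
      have hy : f (genericPoint X) ⤳ j c := by
        rw [← hpt default, ← Scheme.Hom.comp_apply, ← hj, Scheme.Hom.comp_apply]
        exact (IsLocalRing.specializes_closedPoint _).map j.continuous
      have hg : Y.presheaf.stalkSpecializes hy ≫ f.stalkMap (genericPoint X) =
          Scheme.stalkClosedPointTo j ≫ CommRingCat.ofHom R.subtype := by
        apply Spec.map_injective
        rw [← cancel_mono (Y.fromSpecStalk (j c))]
        refine Eq.trans ?_ (Eq.symm ((congrArg (· ≫ Y.fromSpecStalk (j c)) (Spec.map_comp _ _)).trans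
          ((Category.assoc _ _ _).trans ((congrArg (Spec.map (CommRingCat.ofHom R.subtype) ≫ ·)
            (Scheme.Spec_stalkClosedPointTo_fromSpecStalk (R := CommRingCat.of R) j)).trans hj))))
        rw [Spec.map_comp, Category.assoc, Scheme.SpecMap_stalkSpecializes_fromSpecStalk,
          Scheme.SpecMap_stalkMap_fromSpecStalk]
      obtain ⟨x', hx'R, -⟩ := h R hR (j c) hy ⟨fun a ↦ by
          rw [hg]; exact ((Scheme.stalkClosedPointTo j).hom a).2, fun a ha ↦ by
          rw [hg]
          refine (R.valuation_lt_one_iff _).mp (?_ : (Scheme.stalkClosedPointTo j).hom a ∈ _)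
          exact map_nonunit (Scheme.stalkClosedPointTo j).hom a ha⟩
      let l : Spec (CommRingCat.of R) ⟶ X := Spec.map (CommRingCat.ofHom
        ((algebraMap (X.presheaf.stalk x') X.functionField).codRestrict R.toSubring hx'R)) ≫
        X.fromSpecStalk x'
      have hl : Spec.map (CommRingCat.ofHom R.subtype) ≫ l = iξ :=
        (Category.assoc _ _ _).symm.trans ((congrArg (· ≫ X.fromSpecStalk x')
          (Spec.map_comp _ _).symm).trans
          (Scheme.SpecMap_stalkSpecializes_fromSpecStalk (genericPoint_specializes x')))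
      refine ⟨l, hl, ?_⟩
      have := isDominant_subtype R
      have hlf : l ≫ f = j := ext_of_isDominant (Spec.map (CommRingCat.ofHom R.subtype))
        ((Category.assoc _ _ _).symm.trans ((congrArg (· ≫ f) hl).trans hj.symm))
      show (l ≫ f) c ∈ O
      rw [hlf]
      exact hjO c)
    -- the centre of `W` is `x`
    have hW' : ∀ b, (DVRCrit.ev iξ U hξU).hom b ∈ W := fun b ↦ by
      obtain ⟨w, -, hw⟩ := hmem b
      exact hw ▸ w.2
    obtain ⟨l₁, hl₁, hl₁U⟩ := DVRCrit.exists_lift_of_ev_mem W iξ hU hξU hW'
    have := isDominant_subtype W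
    have hl₂ : Spec.map (CommRingCat.ofHom W.subtype) ≫ Spec.map (CommRingCat.ofHom ψ) ≫
        X.fromSpecStalk x = iξ :=
      (Category.assoc _ _ _).symm.trans ((congrArg (· ≫ X.fromSpecStalk x)
        (Spec.map_comp _ _).symm).trans (Scheme.SpecMap_stalkSpecializes_fromSpecStalk hξx))
    have hl : l₁ = Spec.map (CommRingCat.ofHom ψ) ≫ X.fromSpecStalk x :=
      ext_of_isDominant (Spec.map (CommRingCat.ofHom W.subtype)) (hl₁.trans hl₂.symm)
    have hxU : x ∈ U := by
      let cW : Spec (CommRingCat.of W) := IsLocalRing.closedPoint W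
      have h3 : (Spec.map (CommRingCat.ofHom ψ) ≫ X.fromSpecStalk x) cW = x := by
        rw [Scheme.Hom.comp_apply]
        exact (congrArg _ (map_closedPoint_eq ψ)).trans Scheme.fromSpecStalk_closedPoint
      exact h3 ▸ hl ▸ hl₁U cW
    refine ⟨U, hU, hUO, fun p ↦ by rw [Scheme.fromSpecResidueField_apply]; exact hxU, fun b ↦ ?_⟩
    rw [DVRCrit.ev_fromSpecResidueField hU x hxU]
    obtain ⟨w, hw, hw'⟩ := hmem b
    apply hback
    have : ψ (X.presheaf.germ U x hxU b) = w :=
      Subtype.ext ((key hU hxU hξU b).symm.trans hw'.symm)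
    rw [← this] at hw
    exact hw
  exact {}

end Groth.Agent.S2353
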