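import Groth.Statements.S2354
import Groth.Agent.CurveExt.Basic
import Groth.Agent.RegLoc.Basic

set_option autoImplicit false
universe u
open CategoryTheory CategoryTheory.Limits AlgebraicGeometry
open EGA2

namespace Groth.Agent.S2354

/-- Extension over points of codimension ≤ 1: let Y be reduced and locally Noetherian with regular local
ring at every point whose local ring has dimension at most one, f : X → Y separated, of finite type
and closed as a map, V a dense open of Y and s : V → X a section of f over V. Then s extends to a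
section of f over an open U ⊇ V containing every point of Y whose local ring has dimension at most
one. (The source states that the indeterminacy locus has codimension ≥ 2 under the hypothesis that
the non-regular locus has codimension ≥ 2; with codimension measured by dimensions of local rings
this pointwise form is equivalent.) -/
theorem result {X Y : Scheme.{u}} [IsLocallyNoetherian Y] [IsReduced Y]
    (hreg : ∀ y : Y, ringKrullDim (Y.presheaf.stalk y) ≤ 1 → IsRegularLocalRing (Y.presheaf.stalk y))
    (f : X ⟶ Y) [IsSeparated f] [LocallyOfFiniteType f] [QuasiCompact f] (hcl : IsClosedMap f.base)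
    (V : Y.Opens) (hV : Dense (V : Set Y)) (s : (V : Scheme.{u}) ⟶ X) (hs : s ≫ f = V.ι) :
    ∃ (U : Y.Opens) (hVU : V ≤ U) (s' : (U : Scheme.{u}) ⟶ X), s' ≫ f = U.ι ∧ Y.homOfLE hVU ≫ s' = s ∧
      ∀ y : Y, ringKrullDim (Y.presheaf.stalk y) ≤ 1 → y ∈ U := by
  have hval : ∀ y : Y, ringKrullDim (Y.presheaf.stalk y) ≤ 1 →
      ∃ _ : IsDomain (Y.presheaf.stalk y), ValuationRing (Y.presheaf.stalk y) := by
    intro y hy
    have := hreg y hy
    have := RegLoc.isDomain (Y.presheaf.stalk y)
    refine ⟨this, ((tfae_of_isNoetherianRing_of_isLocalRing_of_isDomain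
      (Y.presheaf.stalk y)).out 4 1).mp ?_⟩
    obtain ⟨n, hn, -⟩ := RegLoc.exists_natCast_eq_ringKrullDim (Y.presheaf.stalk y)
    have h1 : n ≤ 1 := by
      rw [hn] at hy; exact_mod_cast hy
    have h2 := RegLoc.spanFinrank_eq_dim (R := Y.presheaf.stalk y) hn
    obtain ⟨s, hs, hspan⟩ := Submodule.FG.exists_span_set_encard_eq_spanFinrank
      (IsNoetherian.noetherian (IsLocalRing.maximalIdeal (Y.presheaf.stalk y)))
    rw [← hspan]
    rcases s.eq_empty_or_nonempty with rfl | ⟨a, ha⟩
    · exact ⟨0, by simp⟩
    · refine ⟨a, ?_⟩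
      have hle : s.encard ≤ 1 := by rw [hs]; exact_mod_cast h2.trans_le h1
      have hss : s = {a} := Set.Subsingleton.eq_singleton_of_mem
        (Set.encard_le_one_iff_subsingleton.mp hle) ha
      rw [hss]
  obtain ⟨W, hVW, w, hP, hw, hres⟩ := CurveExt.exists_glue_extensions (𝟙 Y) f hV s
    (by rw [hs, Category.comp_id]) {y | ringKrullDim (Y.presheaf.stalk y) ≤ 1} fun y hy ↦ by
    obtain ⟨_, _⟩ := hval y hy
    refine CurveExt.exists_extend_at (𝟙 Y) f hV s (by rw [hs, Category.comp_id]) y fun i hi _ ↦ ?_
    rw [Category.comp_id] at hi ⊢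
    exact CurveExt.exists_lift_of_isClosedMap f hcl y i hi
  exact ⟨W, hVW, w, by rw [hw, Category.comp_id], hres, hP⟩

end Groth.Agent.S2354
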