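import Groth.Statements.S2356
import Groth.Agent.Props.QProj
import Groth.Agent.PerfTri.Betti
import Mathlib.RingTheory.LocalRing.Module
import Mathlib.RingTheory.Localization.Free
import Mathlib.RingTheory.Spectrum.Prime.FreeLocus

set_option autoImplicit false
universe u
open CategoryTheory CategoryTheory.Limits AlgebraicGeometry
open EGA2

namespace Groth.Agent.S2356

open TensorProduct in
theorem basis_of_rank {R M : Type u} [CommRing R] [AddCommGroup M] [Module R M] [Module.Finite R M]
    [Module.Flat R M] [Finite (MaximalSpectrum R)] (r : ℕ)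
    (h : ∀ P : MaximalSpectrum R, Module.rankAtStalk (R := R) M ⟨P.1, P.2.isPrime⟩ = r) :
    Nonempty (Module.Basis (Fin r) R M) := by
  refine Module.nonempty_basis_of_flat_of_finrank_eq R M r fun P => ?_
  haveI := P.2
  letI : Field (R ⧸ P.1) := Ideal.Quotient.field _
  let z : PrimeSpectrum (R ⧸ P.1) := ⟨⊥, Ideal.bot_prime⟩
  have hz : z.comap (algebraMap R (R ⧸ P.1)) = ⟨P.1, P.2.isPrime⟩ := by
    refine PrimeSpectrum.ext ?_
    ext x
    simp [z, Ideal.Quotient.eq_zero_iff_mem]
  have := Module.rankAtStalk_baseChange (R := R) (S := R ⧸ P.1) (M := M) z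
  rw [Module.rankAtStalk_eq_finrank_of_free, hz, h P] at this
  exact this

open scoped Classical in
theorem basis_powers_of_finite_primes {R M : Type u} [CommRing R] [AddCommGroup M] [Module R M]
    [Module.FinitePresentation R M] [Module.Flat R M] {ι : Type*} [Finite ι]
    (p : ι → PrimeSpectrum R) (r : ℕ) (h : ∀ i, Module.rankAtStalk (R := R) M (p i) = r) :
    ∃ g : R, (∀ i, g ∉ (p i).asIdeal) ∧
      Nonempty (Module.Basis (Fin r) (Localization (Submonoid.powers g)) (LocalizedModule.Away g M)) := by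
  cases nonempty_fintype ι
  let S : Submonoid R := ⨅ i, (p i).asIdeal.primeCompl
  have hS : ∀ x, x ∈ S ↔ ∀ i, x ∉ (p i).asIdeal := fun x => by
    simp [S, Submonoid.mem_iInf, Ideal.primeCompl]
  have key : ∀ m : Ideal (Localization S), m.IsPrime →
      ∃ i, m.comap (algebraMap R (Localization S)) ≤ (p i).asIdeal := by
    intro m hm
    haveI := hm
    by_contra hc
    have hsub : ¬ ((m.comap (algebraMap R (Localization S)) : Set R) ⊆
        ⋃ i ∈ (↑(Finset.univ : Finset ι) : Set ι), ((p i).asIdeal : Set R)) := by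
      intro hss
      rcases isEmpty_or_nonempty ι with hi | ⟨⟨a⟩⟩
      · simpa using hss (Submodule.zero_mem _)
      · obtain ⟨i, -, hi⟩ := (Ideal.subset_union_prime (s := Finset.univ) (f := fun i => (p i).asIdeal)
          a a (fun i _ _ _ => (p i).isPrime)).mp hss
        exact hc ⟨i, hi⟩
    obtain ⟨x, hx, hx'⟩ := Set.not_subset.mp hsub
    refine Ideal.IsPrime.ne_top hm (Ideal.eq_top_of_isUnit_mem _ hx
      (IsLocalization.map_units (Localization S) ⟨x, (hS x).mpr fun i hi => hx' ?_⟩))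
    exact Set.mem_iUnion₂.mpr ⟨i, Finset.mem_coe.mpr (Finset.mem_univ i), hi⟩
  choose c hc using fun m : MaximalSpectrum (Localization S) => key m.1 m.2.isPrime
  have hmax : ∀ m : MaximalSpectrum (Localization S),
      m.1 = (p (c m)).asIdeal.map (algebraMap R (Localization S)) := fun m => by
    refine m.2.eq_of_le ?_ ((IsLocalization.map_comap S (Localization S) m.1).symm.le.trans
      (Ideal.map_mono (hc m)))
    refine (IsLocalization.map_algebraMap_ne_top_iff_disjoint S (Localization S) _).mpr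
      (Set.disjoint_left.mpr fun x hx hx' => (hS x).mp hx (c m) hx')
  haveI : Finite (MaximalSpectrum (Localization S)) := Finite.of_injective c fun a b hab =>
    MaximalSpectrum.ext (by rw [hmax a, hmax b, hab])
  have hbc := LocalizedModule.isBaseChange S M
  haveI : Module.Finite (Localization S) (LocalizedModule S M) :=
    Module.Finite.of_isLocalizedModule S (LocalizedModule.mkLinearMap S M)
  haveI : Module.Flat (Localization S) (LocalizedModule S M) :=
    Module.Flat.of_linearEquiv hbc.equiv.symm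
  obtain ⟨b⟩ := basis_of_rank (R := Localization S) (M := LocalizedModule S M) r fun P => by
    rw [Module.rankAtStalk_isBaseChange hbc]
    exact (Module.rankAtStalk_eq_of_le_of_finite_of_flat M (q := p (c P)) (hc P)).trans (h _)
  obtain ⟨g, hg, b', -⟩ := Module.FinitePresentation.exists_basis_localizedModule_powers S
    (LocalizedModule.mkLinearMap S M) (Localization S) b
  exact ⟨g, (hS g).mp hg, ⟨b'⟩⟩

open Groth.Agent.QCoh Groth.Agent.Props.QStalk Groth.Agent.Props.QProj in
/-- Free sections over an affine open give a free module of that rank on that open. -/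
theorem restrict_iso_free {X : Scheme.{u}} (M : X.Modules) [M.IsQuasicoherent] {V : X.Opens}
    (hV : IsAffineOpen V) {n : ℕ} (b : Module.Basis (Fin n) Γ(X, V) Γ(M, V)) :
    Nonempty (M.restrict V.ι ≅ FlatMod.freeMod (V : Scheme.{u}) n) := by
  let N : (Spec Γ(X, V)).Modules := toSpec hV M
  have : N.IsQuasicoherent := Scheme.Modules.isQuasicoherent_restrictFunctor _ M
  have := Scheme.Modules.isIso_fromTildeΓ_of_isQuasicoherent N
  let b' : Module.Basis (ULift.{u} (Fin n)) Γ(X, V) Γ(N, ⊤) :=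
    (b.reindex Equiv.ulift.symm).map (toSpecTopLinearEquiv hV M).symm
  let eΓ : (moduleSpecΓFunctor (R := Γ(X, V))).obj N ≅
      ModuleCat.of Γ(X, V) (ULift.{u} (Fin n) →₀ Γ(X, V)) :=
    LinearEquiv.toModuleIso (X₁ := (moduleSpecΓFunctor (R := Γ(X, V))).obj N) b'.repr
  let e₁ : N ≅ (SheafOfModules.free.{u} (ULift.{u} (Fin n)) : (Spec Γ(X, V)).Modules) :=
    (asIso N.fromTildeΓ).symm ≪≫ (tilde.functor _).mapIso eΓ ≪≫ tildeFinsupp _
  have := hV.isOpenImmersion_fromSpec
  let e₂ : Scheme.Modules.restrictFunctor hV.fromSpec ⋙ Scheme.Modules.restrictFunctor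
      hV.isoSpec.hom ≅ Scheme.Modules.restrictFunctor V.ι :=
    (Scheme.Modules.restrictFunctorComp _ _).symm ≪≫
      Scheme.Modules.restrictFunctorCongr hV.isoSpec_hom_fromSpec
  exact ⟨(e₂.app M).symm ≪≫ (Scheme.Modules.restrictFunctor hV.isoSpec.hom).mapIso e₁ ≪≫
    restrictFreeIso hV.isoSpec.hom _ ≪≫ freeModIso _ n⟩

open Groth.Agent.QCoh Groth.Agent.Props.QStalk in
/-- A basis after localizing at `g` is a basis of the sections over `D(g)`. -/
theorem basis_basicOpen {X : Scheme.{u}} (M : X.Modules) [M.IsQuasicoherent] {U : X.Opens}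
    (hU : IsAffineOpen U) {n : ℕ} (g : Γ(X, U))
    (b : Module.Basis (Fin n) (Localization (Submonoid.powers g)) (LocalizedModule.Away g Γ(M, U))) :
    Nonempty (Module.Basis (Fin n) Γ(X, X.basicOpen g) Γ(M, X.basicOpen g)) := by
  have := hU.isLocalization_basicOpen g
  have : Fact (IsAffineOpen U) := ⟨hU⟩
  let e := (IsLocalization.algEquiv (Submonoid.powers g)
      (Localization (Submonoid.powers g)) Γ(X, X.basicOpen g)).toRingEquiv
  let i := IsLocalizedModule.iso (Submonoid.powers g) (resLin M g)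
  have hi : ∀ (a : Localization (Submonoid.powers g)) (y : LocalizedModule.Away g Γ(M, U)),
      i (a • y) = e a • i y := by
    intro a y
    obtain ⟨a, s, rfl⟩ := IsLocalization.exists_mk'_eq (Submonoid.powers g) a
    apply ((Module.End.isUnit_iff _).mp
      (IsLocalizedModule.map_units (resLin M g) s)).1
    simp [e, i, ← map_smul, ← smul_assoc]
  refine ⟨Module.Basis.ofRepr
    { toAddEquiv := i.symm.toAddEquiv.trans
        (b.repr.toAddEquiv.trans (Finsupp.mapRange.addEquiv e.toAddEquiv))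
      map_smul' := ?_ }⟩
  intro a x
  have h1 : i.symm (a • x) = e.symm a • i.symm x := i.injective (by simp [hi])
  ext j
  simp [h1]


/-- Let Y be a scheme, E a locally free O_Y-module of rank r, and Z a finite set of points of Y
contained in an affine open V. Then there is an open neighbourhood U ⊆ V of Z on which E is free of
rank r. -/
theorem result (Y : Scheme.{u}) (r : ℕ) (E : Y.Modules) (hE : FlatMod.IsFinLocFreeOfRank r E)
    (Z : Set Y) (hZ : Z.Finite) (V : Y.Opens) (hV : IsAffineOpen V) (hZV : Z ⊆ V) :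
    ∃ U : Y.Opens, Z ⊆ U ∧ U ≤ V ∧ Nonempty (E.restrict U.ι ≅ FlatMod.freeMod (U : Scheme.{u}) r) := by
  have hfl : FlatMod.IsFinLocFree E := fun x => by
    obtain ⟨U, hx, hU⟩ := hE x
    exact ⟨U, r, hx, hU⟩
  haveI : E.IsQuasicoherent := Groth.Agent.PerfTri.Betti.isQuasicoherent_of_isFinLocFree hfl
  haveI : Module.FinitePresentation Γ(Y, V) Γ(E, V) :=
    Groth.Agent.Props.QProj.finitePresentation_sections E hfl hV
  haveI : Module.Projective Γ(Y, V) Γ(E, V) := Groth.Agent.Props.QProj.projective_sections E hfl hV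
  haveI : Finite Z := hZ.to_subtype
  have hmem : ∀ (z : Z) (g : Γ(Y, V)),
      g ∉ (hV.primeIdealOf ⟨z.1, hZV z.2⟩).asIdeal ↔ z.1 ∈ Y.basicOpen g := by
    intro z g
    refine ((SetLike.ext_iff.mp (hV.fromSpec_preimage_basicOpen g)
      (hV.primeIdealOf ⟨z.1, hZV z.2⟩)).symm.trans ?_)
    show hV.fromSpec (hV.primeIdealOf ⟨z.1, hZV z.2⟩) ∈ Y.basicOpen g ↔ _
    rw [hV.fromSpec_primeIdealOf]
  have hrk : ∀ z : Z,
      Module.rankAtStalk (R := Γ(Y, V)) Γ(E, V) (hV.primeIdealOf ⟨z.1, hZV z.2⟩) = r := by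
    intro z
    obtain ⟨U, hzU, ⟨e⟩⟩ := hE z.1
    obtain ⟨g, hgle, hzg⟩ := hV.exists_basicOpen_le ⟨z.1, hzU⟩ (hZV z.2)
    obtain ⟨b⟩ := Groth.Agent.Props.QProj.free_sections_of_restrict_iso E e (hV.basicOpen g) hgle
    haveI : Fact (IsAffineOpen V) := ⟨hV⟩
    haveI := hV.isLocalization_basicOpen g
    haveI : Module.Free Γ(Y, Y.basicOpen g) Γ(E, Y.basicOpen g) := .of_basis b
    obtain ⟨q, hq⟩ : hV.primeIdealOf ⟨z.1, hZV z.2⟩ ∈
        Set.range (PrimeSpectrum.comap (algebraMap Γ(Y, V) Γ(Y, Y.basicOpen g))) := by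
      rw [PrimeSpectrum.localization_away_comap_range _ g]
      exact (hmem z g).mpr hzg
    have hbc := IsLocalizedModule.isBaseChange (Submonoid.powers g) Γ(Y, Y.basicOpen g)
      (Groth.Agent.Props.QStalk.resLin E g)
    have h := Module.rankAtStalk_isBaseChange hbc q
    haveI : Nontrivial Γ(Y, Y.basicOpen g) := ⟨0, 1, fun h01 => q.isPrime.ne_top
      ((Ideal.eq_top_iff_one _).mpr (h01 ▸ q.asIdeal.zero_mem))⟩
    rw [Module.rankAtStalk_eq_finrank_of_free, hq, Module.finrank_eq_card_basis b,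
      Fintype.card_fin] at h
    simpa using h.symm
  obtain ⟨g, hg, ⟨b⟩⟩ := basis_powers_of_finite_primes
    (fun z : Z => hV.primeIdealOf ⟨z.1, hZV z.2⟩) r hrk
  obtain ⟨b'⟩ := basis_basicOpen E hV g b
  exact ⟨Y.basicOpen g, fun z hz => (hmem ⟨z, hz⟩ g).mp (hg ⟨z, hz⟩), Y.basicOpen_le g,
    restrict_iso_free E (hV.basicOpen g) b'⟩

end Groth.Agent.S2356
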