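import Groth.Statements.S2357
import Groth.Agent.EGA2Gr.Irrelevant

set_option autoImplicit false
universe u
open CategoryTheory CategoryTheory.Limits AlgebraicGeometry
open EGA2

namespace Groth.Agent.S2357

/-- If A is a graded ring which is Noetherian, then Proj A is a Noetherian scheme. -/
theorem result {R A : Type u} [CommRing R] [CommRing A] [Algebra R A] (𝒜 : ℕ → Submodule R A) [GradedAlgebra 𝒜] [IsNoetherianRing A] :
    IsNoetherian (Proj 𝒜) := by
  have := EGA2Gr.finiteType_of_isNoetherianRing 𝒜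
  obtain ⟨s, hs, -, hspan⟩ := EGA2Gr.exists_finset_generators 𝒜
  choose! deg hdeg using hs
  let 𝒰 := Proj.affineOpenCoverOfIrrelevantLESpan 𝒜 (fun i : s ↦ i.1)
    (fun i ↦ (hdeg i.1 i.2).2) (fun i ↦ (hdeg i.1 i.2).1)
    (hspan.le.trans (le_of_eq (by congr; simp)))
  have : Finite 𝒰.openCover.I₀ := inferInstanceAs (Finite s)
  have : ∀ i, IsAffine (𝒰.openCover.X i) := fun i ↦
    inferInstanceAs (IsAffine (Spec (.of (HomogeneousLocalization.Away 𝒜 i.1))))
  rw [isNoetherian_iff_of_finite_affine_openCover (𝒰 := 𝒰.openCover)]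
  intro i
  have := EGA2Gr.isNoetherianRing_away 𝒜 i.1 (hdeg i.1 i.2).2
  exact isNoetherianRing_of_ringEquiv (HomogeneousLocalization.Away 𝒜 i.1)
    (Scheme.ΓSpecIso (.of (HomogeneousLocalization.Away 𝒜 i.1))).symm.commRingCatIsoToRingEquiv

end Groth.Agent.S2357
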