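import Groth.Statements.S2457
import Groth.Agent.AdicFS.CohenRing

set_option autoImplicit false
universe u
open EGA41

namespace Groth.Agent.S2457

open IsLocalRing in
/-- Let W and W' be Cohen rings with residue fields K and K' and u : K ≅ K' an isomorphism. Then u is
induced by some isomorphism v : W ≅ W'. -/
theorem result {W W' : Type u} [CommRing W] [IsLocalRing W] [CommRing W'] [IsLocalRing W']
    (hW : EGA41.IsCohenRingEGA W) (hW' : EGA41.IsCohenRingEGA W') (u : ResidueField W ≃+* ResidueField W') :
    ∃ v : W ≃+* W', ∀ x : W, residue W' (v x) = u (residue W x) := by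
  have hmax := maximalIdeal.isMaximal W'
  rcases hW' with ⟨hF', h0'⟩ | hC'
  · -- fields of characteristic zero
    letI := hF'.toField
    haveI : CharZero (ResidueField W') := charZero_of_injective_ringHom (residue W').injective
    haveI : CharZero (ResidueField W) := charZero_of_injective_ringHom (f := (u.symm : ResidueField W' →+* ResidueField W)) u.symm.injective
    rcases hW with ⟨hF, -⟩ | ⟨_, _, _, p, hp, hm⟩
    · letI := hF.toField
      have hb : ∀ {F : Type u} [Field F], Function.Bijective (residue F) :=
        fun {F} _ => ⟨(residue F).injective, residue_surjective⟩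
      refine ⟨(RingEquiv.ofBijective (residue W) hb).trans (u.trans (RingEquiv.ofBijective (residue W') hb).symm), fun x => ?_⟩
      exact (RingEquiv.ofBijective (residue W') hb).apply_symm_apply (u (residue W x))
    · exfalso
      have h1 : residue W (p : W) = 0 :=
        Ideal.Quotient.eq_zero_iff_mem.mpr (hm ▸ Ideal.mem_span_singleton_self _)
      rw [map_natCast, Nat.cast_eq_zero] at h1
      exact hp.ne_zero h1
  · obtain ⟨_, _, _, q, hq, hm'⟩ := id hC'
    rcases hW with ⟨hF, h0⟩ | hC
    · exfalso
      letI := hF.toField
      haveI : CharZero (ResidueField W) := charZero_of_injective_ringHom (residue W).injective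
      haveI : CharZero (ResidueField W') := charZero_of_injective_ringHom (f := (u : ResidueField W →+* ResidueField W')) u.injective
      have h1 : residue W' (q : W') = 0 :=
        Ideal.Quotient.eq_zero_iff_mem.mpr (hm' ▸ Ideal.mem_span_singleton_self _)
      rw [map_natCast, Nat.cast_eq_zero] at h1
      exact hq.ne_zero h1
    · obtain ⟨_, _, _, p, hp, hm⟩ := id hC
      haveI : Nontrivial (W' ⧸ maximalIdeal W') := Ideal.Quotient.nontrivial_iff.mpr hmax.ne_top
      haveI : IsLocalRing (W' ⧸ maximalIdeal W') :=
        IsLocalRing.of_surjective' _ Ideal.Quotient.mk_surjective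
      let u₁ : W →+* W' ⧸ maximalIdeal W' := (u : ResidueField W →+* ResidueField W').comp (residue W)
      haveI : IsLocalHom u₁ :=
        ⟨fun a ha => (isUnit_map_iff (residue W) a).mp ((isUnit_map_iff u (residue W a)).mp ha)⟩
      obtain ⟨v, hvl, hv⟩ := Groth.Agent.AdicFS.CohenRing.exists_lift_of_noetherian
        (Or.inr hC) (maximalIdeal W') hmax.ne_top (W := W) u₁
      have hvr : ∀ x, residue W' (v x) = u (residue W x) := fun x => RingHom.congr_fun hv x
      have hpq : (p : W') ∈ maximalIdeal W' ∧ p = q := by
        have h1 : residue W' (p : W') = 0 := by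
          rw [← map_natCast v, hvr, show residue W (p : W) = 0 from
            Ideal.Quotient.eq_zero_iff_mem.mpr (hm ▸ Ideal.mem_span_singleton_self _), map_zero]
        refine ⟨Ideal.Quotient.eq_zero_iff_mem.mp h1, (Nat.prime_dvd_prime_iff_eq hq hp).mp ?_ |>.symm⟩
        have h2 : residue W' (q : W') = 0 :=
          Ideal.Quotient.eq_zero_iff_mem.mpr (hm' ▸ Ideal.mem_span_singleton_self _)
        rw [map_natCast] at h1 h2
        haveI := Fact.mk hq
        haveI : CharP (ResidueField W') q := (CharP.charP_iff_prime_eq_zero hq).mpr h2
        exact (CharP.cast_eq_zero_iff (ResidueField W') q p).mp h1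
      have hmap : (maximalIdeal W).map v = maximalIdeal W' := by
        rw [hm, hm', Ideal.map_span, Set.image_singleton, map_natCast, hpq.2]
      refine ⟨RingEquiv.ofBijective v
        (Groth.Agent.AdicFS.CohenRing.bijective_of_map_maximalIdeal v hmap fun y => ?_), hvr⟩
      obtain ⟨x, hx⟩ := residue_surjective (u.symm y)
      exact ⟨x, by rw [hvr, hx, u.apply_symm_apply]⟩

end Groth.Agent.S2457
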