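import Groth.Statements.S2464
import Groth.Agent.PBasis.Basic

set_option autoImplicit false
universe u
open EGA41

namespace Groth.Agent.S2464

/-- Let p be a prime, B a ring of characteristic p and A → B an injective ring map whose image contains
every p-th power, and (x_α) a p-basis of B over A. Let E be an A-algebra and q : E → B a surjective
A-algebra homomorphism whose kernel K has K^p = 0. (i) q admits an A-algebra right inverse if and
only if, for all z ∈ E and a ∈ A with a ↦ q(z)^p in B, the image of a in E is z^p. (ii) When this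
holds, for every family (z_α) in E with q(z_α) = x_α there is a unique A-algebra homomorphism v : B
→ E with v(x_α) = z_α for all α, and q ∘ v is the identity. -/
theorem result (p : ℕ) [Fact p.Prime] {A B : Type u} [CommRing A] [CommRing B] [Algebra A B] [CharP B p]
    (hinj : Function.Injective (algebraMap A B)) (hpow : ∀ b : B, b ^ p ∈ Set.range (algebraMap A B))
    {ι : Type u} (x : ι → B) (hx : EGA41.IsPBasis p A x)
    {E : Type u} [CommRing E] [Algebra A E] (q : E →ₐ[A] B) (hq : Function.Surjective q) (hK : RingHom.ker q.toRingHom ^ p = ⊥) :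
    ((∃ v : B →ₐ[A] E, q.comp v = AlgHom.id A B) ↔ ∀ (z : E) (a : A), algebraMap A B a = q z ^ p → algebraMap A E a = z ^ p) ∧
    ((∀ (z : E) (a : A), algebraMap A B a = q z ^ p → algebraMap A E a = z ^ p) →
      ∀ z : ι → E, (∀ i, q (z i) = x i) →
        (∃! v : B →ₐ[A] E, ∀ i, v (x i) = z i) ∧ ∀ v : B →ₐ[A] E, (∀ i, v (x i) = z i) → q.comp v = AlgHom.id A B) := by
  have hmem : ∀ s : EGA41.pPowerSubalgebra p A B, (s : B) ∈ Set.range (algebraMap A B) := fun s =>
    Algebra.mem_bot.mp (Algebra.adjoin_le (S := (⊥ : Subalgebra A B)) (by rintro _ ⟨c, rfl⟩; exact Algebra.mem_bot.mpr (hpow c)) s.2)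
  have key : (∀ (z : E) (a : A), algebraMap A B a = q z ^ p → algebraMap A E a = z ^ p) →
      ∀ z : ι → E, (∀ i, q (z i) = x i) →
        (∃! v : B →ₐ[A] E, ∀ i, v (x i) = z i) ∧ ∀ v : B →ₐ[A] E, (∀ i, v (x i) = z i) → q.comp v = AlgHom.id A B := by
    intro H z hz
    let f : EGA41.pPowerSubalgebra p A B →+* E :=
      (algebraMap A E).comp (RingEquiv.ofBijective ((algebraMap A (EGA41.pPowerSubalgebra p A B)))
        ⟨fun a b h => hinj (congrArg Subtype.val h), fun s => by
          obtain ⟨a, ha⟩ := hmem s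
          exact ⟨a, Subtype.ext ha⟩⟩).symm.toRingHom
    have hf : ∀ a, f (algebraMap A (EGA41.pPowerSubalgebra p A B) a) = algebraMap A E a := fun a =>
      congrArg (algebraMap A E) ((RingEquiv.ofBijective _ _).symm_apply_apply a)
    obtain ⟨v, ⟨hvs, hvx⟩, -⟩ := Groth.Agent.PBasis.Basic.existsUnique_ringHom p x hx f z (fun i => by
      obtain ⟨a, ha⟩ := hmem (Groth.Agent.PBasis.Basic.pw p (x i))
      rw [show Groth.Agent.PBasis.Basic.pw (A := A) p (x i) = algebraMap A _ a from Subtype.ext ha.symm, hf]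
      refine (H (z i) a ?_).symm
      rw [ha, hz]
      rfl)
    let v' : B →ₐ[A] E := AlgHom.mk' v (fun a b => by
      rw [Algebra.smul_def, map_mul, Algebra.smul_def]
      exact congrArg (· * v b) ((hvs (algebraMap A (EGA41.pPowerSubalgebra p A B) a)).trans (hf a)))
    have huniq : ∀ w w' : B →ₐ[A] E, (∀ i, w (x i) = z i) → (∀ i, w' (x i) = z i) → w = w' := fun w w' hw hw' => by
      refine AlgHom.coe_ringHom_injective (Groth.Agent.PBasis.Basic.ringHom_ext p x hx.2 (fun s => ?_) fun i => (hw i).trans (hw' i).symm)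
      obtain ⟨a, ha⟩ := hmem s
      rw [← ha]
      exact (w.commutes a).trans (w'.commutes a).symm
    refine ⟨⟨v', hvx, fun w hw => huniq w v' hw hvx⟩, fun w hw => ?_⟩
    refine AlgHom.coe_ringHom_injective (Groth.Agent.PBasis.Basic.ringHom_ext p x hx.2 (fun s => ?_) fun i => ?_)
    · obtain ⟨a, ha⟩ := hmem s
      rw [← ha]
      exact (q.comp w).commutes a
    · show q (w (x i)) = x i
      rw [hw, hz]
  refine ⟨⟨fun ⟨v, hv⟩ z a ha => ?_, fun H => ?_⟩, key⟩
  · have h1 : algebraMap A E a = v (q z) ^ p := by rw [← map_pow, ← ha, v.commutes]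
    have h2 : (v (q z) - z) ^ p = 0 := by
      rw [← Ideal.mem_bot, ← hK]
      refine Ideal.pow_mem_pow ?_ p
      rw [RingHom.mem_ker]
      show q (v (q z) - z) = 0
      rw [map_sub, ← AlgHom.comp_apply, hv, AlgHom.id_apply, sub_self]
    have hpA : (p : A) = 0 := hinj (by rw [map_natCast, CharP.cast_eq_zero, map_zero])
    have hpE : (p : E) = 0 := by rw [← map_natCast (algebraMap A E), hpA, map_zero]
    obtain ⟨r, hr⟩ := exists_add_pow_prime_eq (Fact.out : p.Prime) (v (q z) - z) z
    rw [sub_add_cancel, h2, zero_add, hpE, zero_mul, zero_mul, zero_mul, add_zero] at hr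
    rw [h1, hr]
  · choose z hz using fun i => hq (x i)
    obtain ⟨⟨v, hv, -⟩, hcomp⟩ := key H z hz
    exact ⟨v, hcomp v hv⟩

end Groth.Agent.S2464
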