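import Groth.Statements.S2465
import Groth.Agent.PBasis.Basic

set_option autoImplicit false
universe u
open EGA41

namespace Groth.Agent.S2465

/-- Let p be a prime, B a ring of characteristic p, A → B injective with image containing all p-th
powers, (x_α) a p-basis of B over A, and L a B-module. (i) An additive derivation D : A → L extends
to a derivation of B if and only if D vanishes on the elements of A mapping to p-th powers. (ii) In
that case, for every family (y_α) in L there is a unique derivation D' of B into L extending D with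
D'(x_α) = y_α for all α. -/
theorem result (p : ℕ) [Fact p.Prime] {A B : Type u} [CommRing A] [CommRing B] [Algebra A B] [CharP B p]
    (hinj : Function.Injective (algebraMap A B)) (hpow : ∀ b : B, b ^ p ∈ Set.range (algebraMap A B))
    {ι : Type u} (x : ι → B) (hx : EGA41.IsPBasis p A x)
    (L : Type u) [AddCommGroup L] [Module B L] [Module A L] [IsScalarTower A B L] (D : Derivation ℤ A L) :
    ((∃ D' : Derivation ℤ B L, ∀ a : A, D' (algebraMap A B a) = D a) ↔ ∀ (a : A) (b : B), algebraMap A B a = b ^ p → D a = 0) ∧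
    ((∀ (a : A) (b : B), algebraMap A B a = b ^ p → D a = 0) →
      ∀ y : ι → L, ∃! D' : Derivation ℤ B L, (∀ a : A, D' (algebraMap A B a) = D a) ∧ ∀ i, D' (x i) = y i) := by
  have hmem : ∀ s : EGA41.pPowerSubalgebra p A B, (s : B) ∈ Set.range (algebraMap A B) := fun s =>
    Algebra.mem_bot.mp (Algebra.adjoin_le (S := (⊥ : Subalgebra A B)) (by rintro _ ⟨c, rfl⟩; exact Algebra.mem_bot.mpr (hpow c)) s.2)
  choose g hg using hmem
  have hgadd : ∀ a b, g (a + b) = g a + g b := fun a b => hinj (by simp [hg])
  have hgmul : ∀ a b, g (a * b) = g a * g b := fun a b => hinj (by simp [hg])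
  have hgA : ∀ a, g (algebraMap A _ a) = a := fun a => hinj (by simp [hg])
  have hzero : (∃ D' : Derivation ℤ B L, ∀ a : A, D' (algebraMap A B a) = D a) →
      ∀ (a : A) (b : B), algebraMap A B a = b ^ p → D a = 0 := fun ⟨D', hD'⟩ a b h => by
    rw [← hD', h]
    exact Groth.Agent.PBasis.Basic.derivation_pow p D' b
  have key : (∀ (a : A) (b : B), algebraMap A B a = b ^ p → D a = 0) →
      ∀ y : ι → L, ∃! D' : Derivation ℤ B L, (∀ a : A, D' (algebraMap A B a) = D a) ∧ ∀ i, D' (x i) = y i := by
    intro H y
    obtain ⟨D', ⟨h1, h2⟩, huniq⟩ := Groth.Agent.PBasis.Basic.existsUnique_derivation p x hx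
      (AddMonoidHom.mk' (fun s => D (g s)) fun a b => by rw [hgadd, map_add])
      (fun a b => by
        show D (g (a * b)) = _
        rw [hgmul, Derivation.leibniz, ← algebraMap_smul B (g a), ← algebraMap_smul B (g b), hg, hg]
        rfl)
      (fun i => H _ (x i) (hg _)) y
    refine ⟨D', ⟨fun a => ?_, h2⟩, fun D'' hD'' => huniq D'' ⟨fun s => ?_, hD''.2⟩⟩
    · exact (h1 (algebraMap A _ a)).trans (congrArg D (hgA a))
    · rw [← hg s]
      exact hD''.1 (g s)
  refine ⟨⟨hzero, fun H => ?_⟩, key⟩
  obtain ⟨D', ⟨h, -⟩, -⟩ := key H 0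
  exact ⟨D', h⟩

end Groth.Agent.S2465
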