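import Groth.Statements.S2472
import Groth.Agent.AdicFS.ResidueExt

set_option autoImplicit false
universe u
open EGA41

namespace Groth.Agent.S2472

open IsLocalRing in
/-- Existence part and the range of dimensions: let k ⊆ K be fields. There is a Noetherian local
k-algebra A, formally smooth over k for its adic topology, whose residue field is k-isomorphic to K,
if and only if Υ_{K/k} is a finite-dimensional K-vector space. When this holds, for every integer n
≥ rank Υ_{K/k} there is such an A which is moreover complete and of dimension n. (The source's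
uniqueness-up-to-isomorphism clause for a given dimension is not stated.) -/
theorem result {k K : Type u} [Field k] [Field K] [Algebra k K] :
    ((∃ (A : Type u) (_ : CommRing A) (_ : IsLocalRing A) (_ : IsNoetherianRing A) (_ : Algebra k A),
        CAlgX.IsAdicFormallySmooth k A (maximalIdeal A) ∧ Nonempty (ResidueField A ≃ₐ[k] K)) ↔
      Module.Finite K (EGA41.imperfection ℤ k K)) ∧
    (Module.Finite K (EGA41.imperfection ℤ k K) → ∀ n : ℕ, Module.finrank K (EGA41.imperfection ℤ k K) ≤ n →
      ∃ (A : Type u) (_ : CommRing A) (_ : IsLocalRing A) (_ : IsNoetherianRing A) (_ : Algebra k A),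
        IsAdicComplete (maximalIdeal A) A ∧ CAlgX.IsAdicFormallySmooth k A (maximalIdeal A) ∧
        Nonempty (ResidueField A ≃ₐ[k] K) ∧ ringKrullDim A = n) := by
  have key : Module.Finite K (EGA41.imperfection ℤ k K) → ∀ n : ℕ, Module.finrank K (EGA41.imperfection ℤ k K) ≤ n →
      ∃ (A : Type u) (_ : CommRing A) (_ : IsLocalRing A) (_ : IsNoetherianRing A) (_ : Algebra k A),
        IsAdicComplete (maximalIdeal A) A ∧ CAlgX.IsAdicFormallySmooth k A (maximalIdeal A) ∧
        Nonempty (ResidueField A ≃ₐ[k] K) ∧ ringKrullDim A = n := by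
    intro hfin n hn
    let U := EGA41.imperfection ℤ k K
    haveI : Module.Finite K U := hfin
    haveI : Module.Free K U := @Module.Free.of_divisionRing K U _ (Submodule.addCommGroup _) _
    have he : Module.finrank K ((Fin (Module.finrank K U) → K) × (Fin (n - Module.finrank K U) → K)) =
        Module.finrank K (Fin n → K) := by
      rw [Module.finrank_prod, Module.finrank_fin_fun, Module.finrank_fin_fun, Module.finrank_fin_fun]
      exact Nat.add_sub_cancel' hn
    let e := LinearEquiv.ofFinrankEq _ _ he
    let f : U →ₗ[K] (Fin n → K) :=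
      e.toLinearMap ∘ₗ LinearMap.inl K _ _ ∘ₗ (Module.finBasis K U).equivFun.toLinearMap
    have hf : Function.Injective f :=
      e.injective.comp (LinearMap.inl_injective.comp (Module.finBasis K U).equivFun.injective)
    obtain ⟨g, hg⟩ := LinearMap.exists_extend f
    refine AdicFS.ResidueExt.exists_formallySmooth n g fun ω hω h0 => ?_
    have h1 : f ⟨ω, hω⟩ = g ω := (DFunLike.congr_fun hg ⟨ω, hω⟩).symm
    have h2 : (⟨ω, hω⟩ : U) = 0 := hf (by rw [h1, h0, map_zero])
    exact congrArg Subtype.val h2
  refine ⟨⟨?_, fun hfin => ?_⟩, key⟩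
  · rintro ⟨A, _, _, _, _, hfs, ⟨e⟩⟩
    let π : A →+* K := (e : ResidueField A →+* K).comp (residue A)
    letI : Algebra A K := π.toAlgebra
    haveI : IsScalarTower k A K := IsScalarTower.of_algebraMap_eq fun x => (e.commutes x).symm
    exact AdicFS.ResidueExt.finite_imperfection (A := A) (e.surjective.comp residue_surjective) hfs
  · obtain ⟨A, i1, i2, i3, i4, -, h1, h2, -⟩ := key hfin _ le_rfl
    exact ⟨A, i1, i2, i3, i4, h1, h2⟩

end Groth.Agent.S2472
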