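import Groth.Statements.S2477
import Groth.Agent.AdicFS.Completed
import Groth.Agent.ArtFunLib.PowerSeries
import Mathlib.RingTheory.MvPowerSeries.Derivative
import Mathlib.LinearAlgebra.Dimension.Constructions

set_option autoImplicit false
universe u
open EGA41

namespace Groth.Agent.S2477

open IsLocalRing in
/-- Let k be a field and A = k[[T_1, …, T_r]] with its usual k-algebra structure. Then the adic
completion Ω̂_{A/k} of Ω_{A/k} is a free A-module of rank r. -/
theorem result (k : Type u) [Field k] (r : ℕ) :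
    Module.Finite (MvPowerSeries (Fin r) k) (AdicCompletion (maximalIdeal (MvPowerSeries (Fin r) k)) (Ω[MvPowerSeries (Fin r) k⁄k])) ∧
    Module.Free (MvPowerSeries (Fin r) k) (AdicCompletion (maximalIdeal (MvPowerSeries (Fin r) k)) (Ω[MvPowerSeries (Fin r) k⁄k])) ∧
      Module.finrank (MvPowerSeries (Fin r) k) (AdicCompletion (maximalIdeal (MvPowerSeries (Fin r) k)) (Ω[MvPowerSeries (Fin r) k⁄k])) = r := by
  let B := MvPowerSeries (Fin r) k
  let I : Ideal B := maximalIdeal B
  haveI : IsAdicComplete (maximalIdeal k) k := by rw [IsLocalRing.maximalIdeal_eq_bot]; infer_instance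
  haveI : IsAdicComplete I B := Groth.Agent.ArtFunLib.isAdicComplete_ps
  let φ : (Fin r → B) →ₗ[B] Ω[B⁄k] :=
    Fintype.linearCombination B fun i => KaehlerDifferential.D k B (MvPowerSeries.X i)
  let L : Ω[B⁄k] →ₗ[B] (Fin r → B) :=
    LinearMap.pi fun i => (MvPowerSeries.pderiv k i).liftKaehlerDifferential
  have hIspan : I = Ideal.span (Set.range (MvPowerSeries.X : Fin r → B)) := by
    show maximalIdeal B = _
    rw [Groth.Agent.ArtFunLib.maximalIdeal_ps_eq, Groth.Agent.ArtFunLib.psMax,
      IsLocalRing.maximalIdeal_eq_bot, Ideal.map_bot, bot_sup_eq]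
  have htop : LinearMap.range φ ⊔ I • (⊤ : Submodule B (Ω[B⁄k])) = ⊤ := by
    refine top_le_iff.mp ((KaehlerDifferential.span_range_derivation k B).symm.le.trans
      (Submodule.span_le.mpr ?_))
    rintro _ ⟨b, rfl⟩
    have hb : b - MvPowerSeries.C (MvPowerSeries.constantCoeff b) ∈ I := by
      show _ ∈ maximalIdeal B
      rw [Groth.Agent.ArtFunLib.mem_maximalIdeal_ps, map_sub, MvPowerSeries.constantCoeff_C,
        sub_self]
      exact zero_mem _
    have hD : KaehlerDifferential.D k B b =
        KaehlerDifferential.D k B (b - MvPowerSeries.C (MvPowerSeries.constantCoeff b)) := by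
      rw [map_sub, MvPowerSeries.c_eq_algebraMap, Derivation.map_algebraMap, sub_zero]
    rw [SetLike.mem_coe, hD]
    rw [hIspan, Ideal.mem_span_range_iff_exists_fun] at hb
    obtain ⟨c, hc⟩ := hb
    rw [← hc, map_sum]
    refine sum_mem fun i _ => ?_
    rw [Derivation.leibniz]
    refine add_mem (Submodule.mem_sup_left ⟨Pi.single i (c i), ?_⟩) (Submodule.mem_sup_right ?_)
    · simp [φ, Fintype.linearCombination_apply_single]
    · exact Submodule.smul_mem_smul (hIspan ▸ Ideal.subset_span ⟨i, rfl⟩) trivial
  have hsurj := Groth.Agent.AdicFS.Completed.surjective_of_sup_eq_top I φ htop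
  have hLφ : ∀ a, L (φ a) = a := by
    intro a
    classical
    refine funext fun i => ?_
    have hd : ∀ i x, (MvPowerSeries.pderiv k i).liftKaehlerDifferential
        (KaehlerDifferential.D k B x) = MvPowerSeries.pderiv k i x :=
      fun i x => Derivation.liftKaehlerDifferential_comp_D _ _
    simp only [φ, L, Fintype.linearCombination_apply, map_sum, map_smul, Finset.sum_apply,
      Pi.smul_apply, LinearMap.pi_apply, hd, smul_eq_mul]
    rw [Finset.sum_eq_single i]
    · simp
    · intro j _ hj; simp [MvPowerSeries.pderiv_X_of_ne hj]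
    · simp
  have hinj : Function.Injective ((AdicCompletion.of I (Ω[B⁄k])) ∘ₗ φ) := by
    rw [injective_iff_map_eq_zero]
    intro a ha
    refine IsHausdorff.haus (I := I) (Groth.Agent.Adic.isHausdorff_pi I) a fun n => ?_
    rw [SModEq.zero]
    have h1 := congrArg (AdicCompletion.eval I (Ω[B⁄k]) n) ha
    rw [map_zero, LinearMap.comp_apply, AdicCompletion.eval_of, Submodule.mkQ_apply,
      Submodule.Quotient.mk_eq_zero] at h1
    have h2 := Submodule.mem_map_of_mem (f := L) h1
    rw [Submodule.map_smul'', hLφ] at h2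
    exact SetLike.le_def.mp (smul_mono_right _ le_top) h2
  let e : (Fin r → B) ≃ₗ[B] AdicCompletion I (Ω[B⁄k]) :=
    LinearEquiv.ofBijective _ ⟨hinj, hsurj⟩
  refine ⟨Module.Finite.equiv e, Module.Free.of_equiv e, ?_⟩
  rw [← e.finrank_eq, Module.finrank_fin_fun]

end Groth.Agent.S2477
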