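import Groth.Statements.S2478
import Groth.Agent.ProConsX.Range

set_option autoImplicit false
universe u
open EGA41

namespace Groth.Agent.S2478

open Topology in
/-- Equivalence of (a'') and (b) for X = Spec A affine: a subset E of Spec A is the image of the map
Spec B → Spec A induced by some ring homomorphism A → B if and only if E is an intersection of a
family of constructible subsets of Spec A. -/
theorem result {A : Type u} [CommRing A] (E : Set (PrimeSpectrum A)) :
    (∃ (B : Type u) (_ : CommRing B) (f : A →+* B), Set.range (PrimeSpectrum.comap f) = E) ↔
      ∃ S : Set (Set (PrimeSpectrum A)), (∀ s ∈ S, IsConstructible s) ∧ E = ⋂₀ S := by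
  rw [← ProConsX.Range.isClosed_cons_iff]
  constructor
  · rintro ⟨B, _, f, rfl⟩
    have h := FDesc.ProConsImage.isProConstructible_image (AlgebraicGeometry.Spec.map (CommRingCat.ofHom f))
      (E := Set.univ) (LimTop.isProConstructible_of_isLocallyConstructible Topology.IsLocallyConstructible.univ)
    have h2 := LimTop.isClosed_cons_preimage (CategoryTheory.CategoryStruct.id (AlgebraicGeometry.Spec (CommRingCat.of A))) h
    simp only [Set.image_univ] at h2
    exact h2
  · intro h
    exact ⟨_, _, _, ProConsX.Range.range_prod_residueField h⟩

end Groth.Agent.S2478
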