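import Groth.Statements.S2479
import Groth.Agent.ProConsX.Range

set_option autoImplicit false
universe u
open EGA41

namespace Groth.Agent.S2479

open AlgebraicGeometry CategoryTheory Topology in
/-- Let X be a quasi-compact and quasi-separated scheme and E ⊆ X. Then E = f(X') for some quasi-compact
morphism f : X' → X if and only if E is an intersection of a family of constructible subsets of X. -/
theorem result {X : Scheme.{u}} [CompactSpace X] [QuasiSeparatedSpace X] (E : Set X) :
    (∃ (X' : Scheme.{u}) (f : X' ⟶ X), QuasiCompact f ∧ Set.range f.base = E) ↔
      ∃ S : Set (Set X), (∀ s ∈ S, IsConstructible s) ∧ E = ⋂₀ S := by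
  rw [← ProConsX.Range.isClosed_cons_iff]
  constructor
  · rintro ⟨X', f, hf, rfl⟩
    have h := FDesc.ProConsImage.isProConstructible_image f
      (E := Set.univ) (LimTop.isProConstructible_of_isLocallyConstructible Topology.IsLocallyConstructible.univ)
    have h2 := LimTop.isClosed_cons_preimage (𝟙 X) h
    simp only [Set.image_univ] at h2
    exact h2
  · intro h
    obtain ⟨X', f, hX', hr⟩ := ProConsX.Range.exists_affine_range_eq (X := X) (E := E)
      (FDesc.ProConsImage.isProConstructible_of_isClosed_cons fun U hU => by
        haveI : IsAffine U.toScheme := hU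
        haveI : QuasiCompact U.ι := quasiCompact_of_compactSpace U.ι
        exact @IsClosed.preimage _ _ (constructibleTopology _) (constructibleTopology _) _ (LimTop.continuous_cons U.ι) _ h)
    exact ⟨X', f, quasiCompact_of_compactSpace f, hr⟩

end Groth.Agent.S2479
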