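import Groth.Statements.S2480
import Groth.Agent.DerExt61.NagataDer
import Groth.Agent.AdicFS.Jacobian
-- import your own Groth.Agent.* helpers here

set_option autoImplicit false
universe u
open EGA41

namespace Groth.Agent.S2480

open IsLocalRing in
/-- Let k be a field of characteristic exponent p such that k is a finite extension of k^p (no condition
in characteristic zero); let A be a complete Noetherian local ring with residue field K, K₀ a
separable extension of k contained in A compatibly with k, over which K is finite, and suppose A is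
a formally smooth K₀-algebra for its adic topology. Let q be an ideal of A and 𝔭 a prime ideal
containing q, and B = A/q. Then B_𝔭 is a formally smooth k-algebra for its adic topology if and only
if there exist k-derivations D_1, …, D_m of A into itself and elements f_1, …, f_m of q whose images
generate qA_𝔭, with det(D_i f_j) ∉ 𝔭. (Condition (b') of the source is not stated.) -/
theorem result (p : ℕ) {k K₀ A : Type u} [Field k] [ExpChar k p]
    (hk : p = 1 ∨ Module.Finite (frobenius k p).fieldRange k)
    [Field K₀] [Algebra k K₀] [Algebra.IsGeometricallyReduced k K₀]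
    [CommRing A] [IsLocalRing A] [IsNoetherianRing A] [IsAdicComplete (maximalIdeal A) A]
    [Algebra k A] [Algebra K₀ A] [IsScalarTower k K₀ A] [Module.Finite K₀ (ResidueField A)]
    (hA : CAlgX.IsAdicFormallySmooth K₀ A (maximalIdeal A))
    (q 𝔭 : Ideal A) [𝔭.IsPrime] (hq : q ≤ 𝔭) [(𝔭.map (Ideal.Quotient.mk q)).IsPrime] :
    CAlgX.IsAdicFormallySmooth k (Localization.AtPrime (𝔭.map (Ideal.Quotient.mk q))) (maximalIdeal (Localization.AtPrime (𝔭.map (Ideal.Quotient.mk q)))) ↔
      ∃ (m : ℕ) (D : Fin m → Derivation k A A) (f : Fin m → A), (∀ i, f i ∈ q) ∧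
        q.map (algebraMap A (Localization.AtPrime 𝔭)) = Ideal.span (Set.range fun i => algebraMap A (Localization.AtPrime 𝔭) (f i)) ∧
        Matrix.det (Matrix.of fun i j => D i (f j)) ∉ 𝔭 := by

  classical
  haveI : Algebra.FormallySmooth k K₀ := FieldSep.MacLane.formallySmooth_of_isGeometricallyReduced
  haveI : IsRegularLocalRing A := (S2471.result.mp hA).1
  have hAk : CAlgX.IsAdicFormallySmooth k A (maximalIdeal A) := AdicFS.Jacobian.trans (Λ := k) hA
  haveI : IsRegularLocalRing (Localization.AtPrime 𝔭) := RegLoc.Homological.isRegularLocalRing_localization 𝔭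
  cases (‹ExpChar k p›) with
  | zero =>
    haveI : Algebra.FormallySmooth k (ResidueField A) :=
      FieldSep.Cartier.formallySmooth_of_perfectField k (ResidueField A)
    obtain ⟨s, hs⟩ := CAlg48.CoeffField.exists_section A k
    letI : Algebra (ResidueField A) A := s.toRingHom.toAlgebra
    haveI : IsScalarTower k (ResidueField A) A := IsScalarTower.of_algebraMap_eq fun c => (s.commutes c).symm
    obtain ⟨r, ⟨e⟩⟩ := DerExt61.NagataDer.exists_equiv_of_section (A := A) hs
    refine ⟨fun h => DerExt61.NagataDer.JC_of_smooth_charZero e q 𝔭 hq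
      (EGA41Lib.NagataCrit.isRegular_of_isAdicFormallySmooth h), fun h =>
      EGA41Lib.NagataCrit.isAdicFormallySmooth_of_JC
        (fun d hd => DerExt61.NagataDer.exists_ext_der_charZero (K := ResidueField A) e d hd) hq h⟩
  | prime hprime =>
    haveI : Fact p.Prime := ⟨hprime⟩
    haveI : Module.Finite (DerExt61.NagataDer.kp p (k := k)) k :=
      hk.resolve_left hprime.ne_one
    obtain ⟨s, hs⟩ := CAlg48.CoeffField.exists_section_of_equichar A k
    letI : Algebra (ResidueField A) A := s.toAlgebra
    haveI : CharP A p := (RingHom.charP_iff (algebraMap k A) (algebraMap k A).injective p).mp inferInstance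
    haveI : CharP (ResidueField A) p :=
      (RingHom.charP_iff (algebraMap k (ResidueField A)) (algebraMap k (ResidueField A)).injective p).mp inferInstance
    obtain ⟨r, ⟨e⟩⟩ := DerExt61.NagataDer.exists_equiv_of_section (A := A) hs
    exact ⟨fun h => DerExt61.NagataDer.JC_of_smooth p e q 𝔭 hq h, fun h =>
      EGA41Lib.NagataCrit.isAdicFormallySmooth_of_JC
        (fun d hd => DerExt61.NagataDer.exists_ext_der p e (S2471.result.mp hAk).2 d hd) hq h⟩

end Groth.Agent.S2480
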