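import Groth.Statements.S2481
import Groth.Agent.ArtTest16.Main

set_option autoImplicit false
universe u
open EGA41

namespace Groth.Agent.S2481

open IsLocalRing in
/-- Let A → B be a local homomorphism of Noetherian local rings with the adic topologies, K the residue
field of B. Then B is formally smooth over A if and only if: for every Artinian local ring C with a
local homomorphism A → C, every nilpotent ideal J of C and every local A-algebra homomorphism u : B
→ C/J inducing a bijection of residue fields (so that C has residue field K and u induces the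
identity on it), u is induced by a local A-algebra homomorphism B → C. -/
theorem result {A B : Type u} [CommRing A] [IsLocalRing A] [IsNoetherianRing A] [CommRing B] [IsLocalRing B] [IsNoetherianRing B]
    [Algebra A B] [IsLocalHom (algebraMap A B)] :
    EGA41.IsFormallySmoothAdic A (maximalIdeal A) B (maximalIdeal B) ↔
      ∀ (C : Type u) [CommRing C] [IsLocalRing C] [IsArtinianRing C] [Algebra A C] [IsLocalHom (algebraMap A C)]
        (J : Ideal C), IsNilpotent J → ∀ [IsLocalRing (C ⧸ J)] (u : B →ₐ[A] C ⧸ J) [IsLocalHom u.toRingHom],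
        Function.Bijective (ResidueField.map u.toRingHom) →
        ∃ f : B →ₐ[A] C, IsLocalHom f.toRingHom ∧ (Ideal.Quotient.mkₐ A J).comp f = u := by
  rw [AdicFS.Basic.isFormallySmoothAdic_maximalIdeal_iff]
  constructor
  · intro h C _ _ _ _ _ J hJ _ u hu _
    obtain ⟨n, hn⟩ : IsNilpotent (maximalIdeal (C ⧸ J)) :=
      (isArtinianRing_iff_isNilpotent_maximalIdeal _).mp inferInstance
    have hm : (maximalIdeal B).map u ≤ maximalIdeal (C ⧸ J) :=
      Ideal.map_le_iff_le_comap.mpr fun b hb hu' => hb (hu.map_nonunit b hu')
    obtain ⟨f, hf⟩ := AdicFS.Basic.exists_lift h J hJ u ⟨n, fun x hx => by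
      have h1 := Ideal.mem_map_of_mem u hx
      rw [Ideal.map_pow] at h1
      have h2 := Ideal.pow_right_mono hm n h1
      rw [hn] at h2
      exact Ideal.mem_bot.mp h2⟩
    refine ⟨f, ⟨fun b hb => hu.map_nonunit b ?_⟩, hf⟩
    have h3 : IsUnit (Ideal.Quotient.mk J (f b)) := IsUnit.map (Ideal.Quotient.mk J) hb
    have h4 : Ideal.Quotient.mk J (f b) = u b := DFunLike.congr_fun hf b
    rw [h4] at h3
    exact h3
  · exact ArtTest16.isAdicFormallySmooth_of_artinLift

end Groth.Agent.S2481
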