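import Groth.Statements.S2482
import Groth.Agent.S2454
import Groth.Agent.AdicFS.CohenRing
import Mathlib

set_option autoImplicit false
universe u
open EGA41

namespace Groth.Agent.S2482

open IsLocalRing in
/-- (a) ⟹ (b): let A, B be complete discrete valuation rings and u : A → B a ring homomorphism with
u(𝔪_A)B = 𝔪_B, such that the residue field L of B is separable over the residue field K of A. Then
for every complete discrete valuation ring B', every homomorphism u' : A → B' with u'(𝔪_A)B' =
𝔪_{B'} and every isomorphism σ of residue fields L ≅ L' compatible with the maps from K, there is an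
isomorphism w : B ≅ B' with u' = w ∘ u inducing σ on residue fields. -/
theorem result {A B B' : Type u} [CommRing A] [IsDomain A] [IsDiscreteValuationRing A] [IsAdicComplete (maximalIdeal A) A]
    [CommRing B] [IsDomain B] [IsDiscreteValuationRing B] [IsAdicComplete (maximalIdeal B) B]
    [CommRing B'] [IsDomain B'] [IsDiscreteValuationRing B'] [IsAdicComplete (maximalIdeal B') B']
    (u : A →+* B) [IsLocalHom u] (hu : (maximalIdeal A).map u = maximalIdeal B)
    (hsep : letI := (ResidueField.map u).toAlgebra; Algebra.IsGeometricallyReduced (ResidueField A) (ResidueField B))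
    (u' : A →+* B') [IsLocalHom u'] (hu' : (maximalIdeal A).map u' = maximalIdeal B')
    (σ : ResidueField B ≃+* ResidueField B') (hσ : (σ : ResidueField B →+* ResidueField B').comp (ResidueField.map u) = ResidueField.map u') :
    ∃ w : B ≃+* B', (w : B →+* B').comp u = u' ∧ ∀ b : B, residue B' (w b) = σ (residue B b) := by
  letI : Algebra A B := u.toAlgebra
  letI : Algebra A B' := u'.toAlgebra
  haveI : IsLocalHom (algebraMap A B) := ‹IsLocalHom u›
  have hinj : Function.Injective u := by
    rw [RingHom.injective_iff_ker_eq_bot]
    by_contra hne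
    haveI : (RingHom.ker u).IsPrime := RingHom.ker_isPrime u
    have hmax := IsLocalRing.eq_maximalIdeal (IsPrime.to_maximal_ideal hne)
    exact IsDiscreteValuationRing.not_a_field B (by rw [← hu, Ideal.map_eq_bot_iff_le_ker, hmax])
  haveI : FaithfulSMul A B := (faithfulSMul_iff_algebraMap_injective A B).mpr hinj
  have hCoh : EGA41.IsCohenAlgebra A B := by
    refine ⟨inferInstance, inferInstance, inferInstance, inferInstance, hu, ?_⟩
    have : IsLocalRing.ResidueField.instAlgebra = (ResidueField.map u).toAlgebra :=
      Algebra.algebra_ext _ _ fun x => by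
        obtain ⟨a, rfl⟩ := residue_surjective x
        rw [IsLocalRing.ResidueField.algebraMap_residue]; rfl
    exact this ▸ hsep
  have hJ : (maximalIdeal B') ≠ ⊤ := (maximalIdeal.isMaximal B').ne_top
  let w₀ : B →ₐ[A] B' ⧸ maximalIdeal B' :=
    { toRingHom := (σ : ResidueField B →+* ResidueField B').comp (residue B)
      commutes' := fun a => by
        show σ (residue B (u a)) = _
        exact (RingHom.congr_fun hσ (residue A a)) }
  haveI : IsHausdorff ((maximalIdeal B').map (Ideal.Quotient.mk (maximalIdeal B'))) (B' ⧸ maximalIdeal B') := by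
    rw [Ideal.map_quotient_self]; infer_instance
  obtain ⟨v, -, hv⟩ := Groth.Agent.AdicFS.LiftComplete.exists_lift (Groth.Agent.S2454.result hCoh)
    (maximalIdeal B') ⟨1, by rw [pow_one]; exact le_of_eq hu'⟩ (maximalIdeal B') ⟨1, by rw [pow_one]⟩ w₀
    ⟨1, by
      rw [pow_one, Ideal.map_le_iff_le_comap]
      intro b hb
      rw [Ideal.mem_comap, Ideal.map_quotient_self, Ideal.mem_bot]
      show σ (residue B b) = 0
      rw [show residue B b = 0 from Ideal.Quotient.eq_zero_iff_mem.mpr hb, map_zero]⟩
  have hvr : ∀ b, residue B' (v b) = σ (residue B b) := fun b => DFunLike.congr_fun hv b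
  have hvu : v.toRingHom.comp u = u' := RingHom.ext fun a => v.commutes a
  have hmap : (maximalIdeal B).map v.toRingHom = maximalIdeal B' := by
    rw [← hu, Ideal.map_map, hvu, hu']
  refine ⟨RingEquiv.ofBijective v.toRingHom
    (Groth.Agent.AdicFS.CohenRing.bijective_of_map_maximalIdeal v.toRingHom hmap fun y => ?_), hvu, hvr⟩
  obtain ⟨x, hx⟩ := residue_surjective (σ.symm y)
  exact ⟨x, by show residue B' (v x) = y; rw [hvr, hx, σ.apply_symm_apply]⟩

end Groth.Agent.S2482
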