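import Groth.Statements.S2483
import Groth.Agent.FieldSep.Cartier
import Groth.Agent.AdicFS.LiftComplete
import Mathlib

set_option autoImplicit false
universe u
open EGA41

namespace Groth.Agent.S2483

set_option backward.isDefEq.respectTransparency false in
open IsLocalRing in
/-- Let C be a complete Noetherian local ring with maximal ideal 𝔍 ≠ 0 and residue field K, and u : K →
C a ring homomorphism which is a section of the residue map. Then u is the only such section if and
only if Ω_{K/ℤ} = 0. -/
theorem result {C : Type u} [CommRing C] [IsLocalRing C] [IsNoetherianRing C] [IsAdicComplete (maximalIdeal C) C]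
    (hm : maximalIdeal C ≠ ⊥) (u : ResidueField C →+* C) (hu : ∀ x, residue C (u x) = x) :
    (∀ v : ResidueField C →+* C, (∀ x, residue C (v x) = x) → v = u) ↔ Subsingleton (Ω[ResidueField C⁄ℤ]) := by
  constructor
  · intro huniq
    by_contra hΩ
    -- a nonzero derivation of the residue field
    set K := ResidueField C
    obtain ⟨b, hb⟩ : ∃ b, KaehlerDifferential.D ℤ K b ≠ 0 := by
      by_contra h
      refine hΩ ⟨fun x y => ?_⟩
      push Not at h
      have htop : (⊤ : Submodule K (Ω[K⁄ℤ])) ≤ ⊥ := by
        rw [← KaehlerDifferential.span_range_derivation, Submodule.span_le]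
        rintro _ ⟨b, rfl⟩
        exact h b
      rw [(Submodule.mem_bot K).mp (htop (Submodule.mem_top (x := x))),
        (Submodule.mem_bot K).mp (htop (Submodule.mem_top (x := y)))]
    obtain ⟨φ, hφ⟩ : ∃ φ : Module.Dual K (Ω[K⁄ℤ]), φ (KaehlerDifferential.D ℤ K b) ≠ 0 := by
      by_contra h
      push Not at h
      exact hb ((Module.forall_dual_apply_eq_zero_iff K _).mp h)
    let δ : Derivation ℤ K K := φ.compDer (KaehlerDifferential.D ℤ K)
    obtain ⟨ε, hε, hε2⟩ : ∃ ε ∈ maximalIdeal C, ε ∉ maximalIdeal C ^ 2 := by
      by_contra h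
      push Not at h
      refine hm (Submodule.eq_bot_of_le_smul_of_le_jacobson_bot (maximalIdeal C) _
        (IsNoetherian.noetherian _) (fun x hx => ?_) (IsLocalRing.maximalIdeal_le_jacobson ⊥))
      rw [smul_eq_mul, ← pow_two]
      exact h x hx
    let I := maximalIdeal C ^ 2
    let P := (⊥ : Subfield K)
    haveI : PerfectField P := Groth.Agent.FieldSep.Cartier.perfectField_bot K
    haveI : Algebra.FormallySmooth P K := Groth.Agent.FieldSep.Cartier.formallySmooth_of_perfectField P K
    letI : Algebra P C := (u.comp (algebraMap P K)).toAlgebra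
    have hδP : ∀ r : P, δ (algebraMap P K r) = 0 := by
      intro r
      let S : Subfield K :=
        { carrier := {x | δ x = 0}
          zero_mem' := map_zero δ
          one_mem' := δ.map_one_eq_zero
          add_mem' := fun {x y} (hx : δ x = 0) (hy : δ y = 0) => by
            show δ (x + y) = 0
            rw [map_add, hx, hy, add_zero]
          neg_mem' := fun {x} (hx : δ x = 0) => by
            show δ (-x) = 0
            rw [map_neg, hx, neg_zero]
          mul_mem' := fun {x y} (hx : δ x = 0) (hy : δ y = 0) => by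
            show δ (x * y) = 0
            rw [Derivation.leibniz, hx, hy, smul_zero, smul_zero, add_zero]
          inv_mem' := fun x (hx : δ x = 0) => by
            show δ x⁻¹ = 0
            rw [Derivation.leibniz_inv, hx, smul_zero] }
      exact (bot_le : (⊥ : Subfield K) ≤ S) r.2
    let q := Ideal.Quotient.mk I
    have hεu : ∀ x y : K, q (u x * ε * (u y * ε)) = 0 := fun x y => by
      rw [Ideal.Quotient.eq_zero_iff_mem]
      show _ ∈ maximalIdeal C ^ 2
      rw [pow_two]
      exact Ideal.mul_mem_mul (Ideal.mul_mem_left _ _ hε) (Ideal.mul_mem_left _ _ hε)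
    let w : K →ₐ[P] C ⧸ I :=
      { toFun := fun x => q (u x + u (δ x) * ε)
        map_one' := by rw [δ.map_one_eq_zero, map_zero, zero_mul, add_zero, map_one, map_one]
        map_mul' := fun x y => by
          rw [← map_mul q, Ideal.Quotient.eq, δ.leibniz, smul_eq_mul, smul_eq_mul]
          have h1 : u (x * y) + u (x * δ y + y * δ x) * ε - (u x + u (δ x) * ε) * (u y + u (δ y) * ε) =
              -(u (δ x) * ε * (u (δ y) * ε)) := by
            rw [map_mul u, map_add u, map_mul u, map_mul u]; ring
          rw [h1, Ideal.neg_mem_iff]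
          exact Ideal.Quotient.eq_zero_iff_mem.mp (hεu _ _)
        map_zero' := by simp
        map_add' := fun x y => by
          rw [← map_add q, map_add u, map_add δ, map_add u, add_mul, add_add_add_comm]
        commutes' := fun r => by rw [hδP, map_zero, zero_mul, add_zero]; rfl }
    haveI hI1 : IsHausdorff ((maximalIdeal C).map (Ideal.Quotient.mk I)) (C ⧸ I) :=
      ⟨fun x hx => by
        have := hx 2
        rwa [SModEq.zero, smul_eq_mul, Ideal.mul_top, ← Ideal.map_pow, Ideal.map_quotient_self,
          Ideal.mem_bot] at this⟩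
    obtain ⟨v, -, hv⟩ := Groth.Agent.AdicFS.LiftComplete.exists_lift (B := K)
      ((Groth.Agent.AdicFS.Basic.isFormallySmoothAdic_bot_iff (A := P) (⊥ : Ideal K)).mpr
        (Groth.Agent.AdicFS.Basic.of_formallySmooth _)) (maximalIdeal C)
      ⟨1, by rw [pow_one, Ideal.map_bot]; exact bot_le⟩ I ⟨1, by
        rw [pow_one]; exact Ideal.pow_le_self two_ne_zero⟩ w ⟨1, by
        rw [pow_one, Ideal.map_bot]; exact bot_le⟩
    have hvw : ∀ x, q (v x) = q (u x + u (δ x) * ε) := fun x => DFunLike.congr_fun hv x
    have hres : ∀ x, residue C (v.toRingHom x) = x := fun x => by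
      have h1 := Ideal.pow_le_self two_ne_zero (Ideal.Quotient.eq.mp (hvw x))
      rw [← IsLocalRing.residue_eq_zero_iff, map_sub, sub_eq_zero, map_add, map_mul, hu,
        (IsLocalRing.residue_eq_zero_iff ε).mpr hε, mul_zero, add_zero] at h1
      exact h1
    have h2 := hvw b
    rw [show v b = u b from RingHom.congr_fun (huniq v.toRingHom hres) b, Ideal.Quotient.eq,
      sub_add_cancel_left, Ideal.neg_mem_iff] at h2
    have hunit : IsUnit (u (δ b)) := IsUnit.map u (isUnit_iff_ne_zero.mpr (show δ b ≠ 0 from hφ))
    exact hε2 ((Ideal.unit_mul_mem_iff_mem _ hunit).mp h2)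
  · intro hΩ v hv
    haveI : Algebra.FormallyUnramified ℤ (ResidueField C) := (Algebra.formallyUnramified_iff (R := ℤ) (A := ResidueField C)).mpr hΩ
    have hmod : ∀ n x, Ideal.Quotient.mk (maximalIdeal C ^ n) (v x) =
        Ideal.Quotient.mk (maximalIdeal C ^ n) (u x) := by
      intro n x
      let J := (maximalIdeal C).map (Ideal.Quotient.mk (maximalIdeal C ^ n))
      have hJ : IsNilpotent J := ⟨n, by rw [← Ideal.map_pow, Ideal.map_quotient_self]; rfl⟩
      have := Algebra.FormallyUnramified.lift_unique (R := ℤ) J hJ
        ((Ideal.Quotient.mk (maximalIdeal C ^ n)).comp v).toIntAlgHom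
        ((Ideal.Quotient.mk (maximalIdeal C ^ n)).comp u).toIntAlgHom
        (AlgHom.ext fun y => Ideal.Quotient.eq.mpr (by
          show Ideal.Quotient.mk _ (v y) - Ideal.Quotient.mk _ (u y) ∈ J
          rw [← map_sub]
          refine Ideal.mem_map_of_mem _ ?_
          rw [← IsLocalRing.residue_eq_zero_iff, map_sub, hv, hu, sub_self]))
      exact DFunLike.congr_fun this x
    refine RingHom.ext fun x => sub_eq_zero.mp (IsHausdorff.haus (I := maximalIdeal C) inferInstance _ fun n => ?_)
    rw [SModEq.zero, smul_eq_mul, Ideal.mul_top, ← Ideal.Quotient.eq]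
    exact hmod n x

end Groth.Agent.S2483
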