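import Groth.Statements.S2484
import Groth.Agent.FieldSep.MacLane
import Groth.Agent.FieldSep.Imperfection

set_option autoImplicit false
universe u
open EGA41

namespace Groth.Agent.S2484

/-- Let K ⊆ E ⊆ F be fields. (i) If F is a separable extension of E, then Υ_{F/E/K} = 0, i.e. the
canonical map Ω_{E/K} ⊗_E F → Ω_{F/K} is injective. (ii) Conversely, if F is separable over K and
this map is injective, then F is separable over E. (Separable means geometrically reduced.) -/
theorem result {K E F : Type u} [Field K] [Field E] [Field F] [Algebra K E] [Algebra E F] [Algebra K F] [IsScalarTower K E F] :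
    (Algebra.IsGeometricallyReduced E F → Function.Injective (KaehlerDifferential.mapBaseChange K E F)) ∧
    (Algebra.IsGeometricallyReduced K F → Function.Injective (KaehlerDifferential.mapBaseChange K E F) → Algebra.IsGeometricallyReduced E F) := by
  refine ⟨fun h => ?_, fun h hinj => ?_⟩
  · have := (Groth.Agent.FieldSep.MacLane.formallySmooth_iff E F).mpr h
    rw [injective_iff_map_eq_zero]
    intro x hx
    obtain ⟨x, rfl⟩ := (Algebra.H1Cotangent.exact_δ_mapBaseChange K E F x).mp hx
    rw [Subsingleton.elim x 0, map_zero]
  · rw [Groth.Agent.FieldSep.MacLane.isGeometricallyReduced_iff_injective] at h ⊢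
    exact Groth.Agent.FieldSep.Imperfection.injective_of_injective ℤ K E F hinj h

end Groth.Agent.S2484
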