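import Groth.Statements.S2486
import Groth.Agent.PBasis.Field
import Groth.Agent.PBasis.Nil

set_option autoImplicit false
universe u
open EGA41

namespace Groth.Agent.S2486

/-- Let p be a prime, B an A-algebra of characteristic p and (x_α) a family of elements of B. Then (a) B
is generated as an A[B^p]-algebra by the x_α if and only if (b) (x_α) is a system of p-generators of
B over A; these imply (c) Ω_{B/A} is generated by the d x_α; and if B is an A[B^p]-algebra of finite
type, (c) implies (a). -/
theorem result (p : ℕ) [Fact p.Prime] {A B : Type u} [CommRing A] [CommRing B] [Algebra A B] [CharP B p]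
    {ι : Type u} (x : ι → B) :
    (Algebra.adjoin (EGA41.pPowerSubalgebra p A B) (Set.range x) = ⊤ ↔ EGA41.IsPGenerating p A x) ∧
    (EGA41.IsPGenerating p A x → Submodule.span B (Set.range fun i => KaehlerDifferential.D A B (x i)) = ⊤) ∧
    (Algebra.FiniteType (EGA41.pPowerSubalgebra p A B) B →
      Submodule.span B (Set.range fun i => KaehlerDifferential.D A B (x i)) = ⊤ → EGA41.IsPGenerating p A x) := by
  refine ⟨(Groth.Agent.PBasis.Basic.isPGenerating_iff_adjoin p x).symm,
    Groth.Agent.PBasis.Field.mem_span_of_isPGenerating p x, fun hft hspan => ?_⟩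
  rw [Groth.Agent.PBasis.Basic.isPGenerating_iff_adjoin, eq_top_iff]
  set S := Algebra.adjoin (EGA41.pPowerSubalgebra p A B) (Set.range x) with hS
  have : Algebra.FiniteType S B := Algebra.FiniteType.of_restrictScalars_finiteType (EGA41.pPowerSubalgebra p A B) S B
  have : Subsingleton (Ω[B⁄S]) := by
    refine subsingleton_of_forall_eq 0 fun ω => ?_
    obtain ⟨ω, rfl⟩ := KaehlerDifferential.map_surjective A S B ω
    have hω : ω ∈ Submodule.span B (Set.range fun i => KaehlerDifferential.D A B (x i)) := hspan ▸ Submodule.mem_top
    induction hω using Submodule.span_induction with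
    | mem y hy =>
      obtain ⟨i, rfl⟩ := hy
      simp only [KaehlerDifferential.map_D, Algebra.algebraMap_self, RingHom.id_apply]
      exact (KaehlerDifferential.D S B).map_algebraMap ⟨x i, Algebra.subset_adjoin (Set.mem_range_self i)⟩
    | zero => exact map_zero _
    | add a b _ _ ha hb => rw [map_add, ha, hb, add_zero]
    | smul r a _ ha => rw [map_smul, ha, smul_zero]
  intro b _
  obtain ⟨c, hc⟩ := Groth.Agent.PBasis.Nil.surjective_of_subsingleton_kaehler p (A := S) (B := B) 1
    (fun b => ⟨⟨b ^ p ^ 1, by
      rw [pow_one]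
      exact Subalgebra.algebraMap_mem S (Groth.Agent.PBasis.Basic.pw p b : EGA41.pPowerSubalgebra p A B)⟩, rfl⟩) b
  exact hc ▸ c.2

end Groth.Agent.S2486
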