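import Groth.Statements.S2487
import Groth.Agent.FlatLift16.Main
import Groth.Agent.FlatLift16.Unique
import Groth.Agent.S2471

set_option autoImplicit false
universe u
open EGA41

namespace Groth.Agent.S2487

open IsLocalRing TensorProduct in
/-- Let A be a Noetherian local ring, J an ideal contained in the maximal ideal, A₀ = A/J, and B₀ a
complete Noetherian local ring with a local homomorphism A₀ → B₀ making B₀ formally smooth over A₀
(adic topologies). Then (existence) there are a complete Noetherian local ring B, a local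
homomorphism A → B making B a flat A-module, and an A₀-algebra isomorphism u : A₀ ⊗_A B ≅ B₀;
(uniqueness) if (B', u') is another such pair, there is an A-algebra isomorphism v : B ≅ B' with u'
∘ (1 ⊗ v) = u. -/
theorem result {A : Type u} [CommRing A] [IsLocalRing A] [IsNoetherianRing A]
    (J : Ideal A) (hJ : J ≤ maximalIdeal A) [IsLocalRing (A ⧸ J)]
    (B₀ : Type u) [CommRing B₀] [IsLocalRing B₀] [IsNoetherianRing B₀] [IsAdicComplete (maximalIdeal B₀) B₀]
    [Algebra (A ⧸ J) B₀] [IsLocalHom (algebraMap (A ⧸ J) B₀)]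
    (hfs : EGA41.IsFormallySmoothAdic (A ⧸ J) (maximalIdeal (A ⧸ J)) B₀ (maximalIdeal B₀)) :
    (∃ (B : Type u) (_ : CommRing B) (_ : IsLocalRing B) (_ : IsNoetherianRing B) (_ : Algebra A B) (_ : IsLocalHom (algebraMap A B)),
      IsAdicComplete (maximalIdeal B) B ∧ Module.Flat A B ∧ Nonempty ((A ⧸ J) ⊗[A] B ≃ₐ[A ⧸ J] B₀)) ∧
    ∀ (B B' : Type u) [CommRing B] [IsLocalRing B] [IsNoetherianRing B] [Algebra A B] [IsLocalHom (algebraMap A B)]
      [CommRing B'] [IsLocalRing B'] [IsNoetherianRing B'] [Algebra A B'] [IsLocalHom (algebraMap A B')],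
      IsAdicComplete (maximalIdeal B) B → Module.Flat A B → IsAdicComplete (maximalIdeal B') B' → Module.Flat A B' →
      ∀ (u : (A ⧸ J) ⊗[A] B ≃ₐ[A ⧸ J] B₀) (u' : (A ⧸ J) ⊗[A] B' ≃ₐ[A ⧸ J] B₀),
      ∃ v : B ≃ₐ[A] B', (u' : (A ⧸ J) ⊗[A] B' →ₐ[A ⧸ J] B₀).comp
          (Algebra.TensorProduct.map (AlgHom.id (A ⧸ J) (A ⧸ J)) (v : B →ₐ[A] B')) = (u : (A ⧸ J) ⊗[A] B →ₐ[A ⧸ J] B₀) := by
  classical
  have hFS : CAlgX.IsAdicFormallySmooth (A ⧸ J) B₀ (maximalIdeal B₀) :=
    AdicFS.Basic.isFormallySmoothAdic_maximalIdeal_iff.mp hfs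
  letI : Algebra A B₀ := ((algebraMap (A ⧸ J) B₀).comp (Ideal.Quotient.mk J)).toAlgebra
  haveI : IsScalarTower A (A ⧸ J) B₀ := .of_algebraMap_eq' rfl
  -- the projection of a lift to `B₀`
  have hproj : ∀ (B : Type u) [CommRing B] [Algebra A B] (φ : (A ⧸ J) ⊗[A] B ≃ₐ[A ⧸ J] B₀),
      ∃ ρ : B →ₐ[A] B₀, Function.Surjective ρ ∧ RingHom.ker ρ = J.map (algebraMap A B) ∧
        ∀ b, ρ b = φ (1 ⊗ₜ b) := by
    intro B _ _ φ
    let ρ : B →ₐ[A] B₀ :=
      (φ.toAlgHom.restrictScalars A).comp Algebra.TensorProduct.includeRight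
    have hgen : ∀ z : (A ⧸ J) ⊗[A] B, ∃ b : B, z = 1 ⊗ₜ b := fun z => by
      induction z with
      | zero => exact ⟨0, (TensorProduct.tmul_zero _ _).symm⟩
      | add z z' hz hz' =>
        obtain ⟨b, rfl⟩ := hz
        obtain ⟨b', rfl⟩ := hz'
        exact ⟨b + b', (TensorProduct.tmul_add _ _ _).symm⟩
      | tmul x b =>
        obtain ⟨a, rfl⟩ := Ideal.Quotient.mk_surjective x
        refine ⟨a • b, ?_⟩
        rw [← TensorProduct.smul_tmul, Algebra.smul_def, mul_one]
        rfl
    refine ⟨ρ, fun y => ?_, ?_, fun b => rfl⟩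
    · obtain ⟨z, rfl⟩ := φ.surjective y
      obtain ⟨b, rfl⟩ := hgen z
      exact ⟨b, rfl⟩
    · refine le_antisymm (fun b hb => ?_) (Ideal.map_le_iff_le_comap.mpr fun a ha => ?_)
      · have h1 : (1 : A ⧸ J) ⊗ₜ[A] b = 0 := φ.injective ((RingHom.mem_ker.mp hb).trans (map_zero φ).symm)
        have hM : (J • ⊤ : Submodule A B) = (J.map (algebraMap A B)).restrictScalars A :=
          Ideal.smul_top_eq_map J
        have h2 := congrArg (TensorProduct.quotTensorEquivQuotSMul B J) h1
        rw [map_zero, ← map_one (Ideal.Quotient.mk J)] at h2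
        erw [TensorProduct.quotTensorEquivQuotSMul_mk_tmul] at h2
        rw [one_smul, Submodule.Quotient.mk_eq_zero, hM] at h2
        exact h2
      · rw [Ideal.mem_comap, RingHom.mem_ker, AlgHom.commutes]
        show algebraMap (A ⧸ J) B₀ (Ideal.Quotient.mk J a) = 0
        rw [Ideal.Quotient.eq_zero_iff_mem.mpr ha, map_zero]
  constructor
  · -- existence
    let k := ResidueField A
    haveI : IsLocalHom (Ideal.Quotient.mk J) := IsLocalHom.of_surjective _ Ideal.Quotient.mk_surjective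
    let 𝔪 : Ideal B₀ := (maximalIdeal A).map (algebraMap A B₀)
    have h𝔪 : 𝔪 ≤ maximalIdeal B₀ := Ideal.map_le_iff_le_comap.mpr fun a ha hu =>
      ha (isUnit_of_map_unit (Ideal.Quotient.mk J) a
        (isUnit_of_map_unit (algebraMap (A ⧸ J) B₀) _ hu) )
    let F := B₀ ⧸ 𝔪
    haveI : Nontrivial F := Ideal.Quotient.nontrivial_iff.mpr fun e =>
      (maximalIdeal.isMaximal B₀).ne_top (top_le_iff.mp (e ▸ h𝔪))
    haveI : IsLocalRing F := IsLocalRing.of_surjective' _ Ideal.Quotient.mk_surjective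
    letI : Algebra k F := (Ideal.quotientMap 𝔪 (algebraMap A B₀) Ideal.le_comap_map).toAlgebra
    haveI : IsScalarTower A k F := .of_algebraMap_eq fun _ => rfl
    let fk : (A ⧸ J) →+* k := Ideal.Quotient.factor hJ
    have hkF : ∀ x, algebraMap k F (fk x) = Ideal.Quotient.mk 𝔪 (algebraMap (A ⧸ J) B₀ x) := fun x => by
      obtain ⟨a, rfl⟩ := Ideal.Quotient.mk_surjective x
      rfl
    have hFF : CAlgX.IsAdicFormallySmooth k F (maximalIdeal F) := by
      intro C _ _ J' hJ' ψ ⟨n, hn⟩
      letI : Algebra (A ⧸ J) C := ((algebraMap k C).comp fk).toAlgebra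
      let ψ' : B₀ →ₐ[A ⧸ J] C ⧸ J' :=
        { ψ.toRingHom.comp (Ideal.Quotient.mk 𝔪) with
          commutes' := fun x => by
            show ψ (Ideal.Quotient.mk 𝔪 (algebraMap (A ⧸ J) B₀ x)) = _
            rw [← hkF, ψ.commutes]
            rfl }
      obtain ⟨χ, hχ⟩ := hFS C J' hJ' ψ' ⟨n, fun x hx => hn _ (by
        rw [← IsLocalRing.map_maximalIdeal_of_surjective (Ideal.Quotient.mk 𝔪)
          Ideal.Quotient.mk_surjective, ← Ideal.map_pow]
        exact Ideal.mem_map_of_mem _ hx)⟩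
      have hχA : ∀ a, χ (algebraMap A B₀ a) = algebraMap k C (residue A a) := fun a => χ.commutes _
      have hker : ∀ x ∈ 𝔪, χ x = 0 := fun x hx => by
        refine RingHom.mem_ker.mp ((Ideal.map_le_iff_le_comap.mpr fun a ha => ?_) hx)
        rw [Ideal.mem_comap, RingHom.mem_ker, hχA, (residue_eq_zero_iff a).mpr ha, map_zero]
      refine ⟨{ Ideal.Quotient.lift 𝔪 χ.toRingHom hker with
        commutes' := fun x => by
          obtain ⟨a, rfl⟩ := residue_surjective x
          exact hχA a }, AlgHom.ext fun y => ?_⟩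
      obtain ⟨b, rfl⟩ := Ideal.Quotient.mk_surjective y
      exact DFunLike.congr_fun hχ b
    haveI : IsRegularLocalRing F := (S2471.result.mp hFF).1
    haveI hFc : IsAdicComplete (maximalIdeal F) F := by
      rw [← IsLocalRing.map_maximalIdeal_of_surjective (Ideal.Quotient.mk 𝔪) Ideal.Quotient.mk_surjective,
        ← Ideal.Quotient.algebraMap_eq]
      refine (IsAdicComplete.map_algebraMap_iff (I := maximalIdeal B₀) (S := F) (M := F)).mpr ?_
      exact Adic.isAdicComplete_of_finite _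
    obtain ⟨B, _, _, _, _, _, hBc, hflat, ⟨φ⟩⟩ := FlatLift16.exists_flat_lift (A := A) F
    refine ⟨B, inferInstance, inferInstance, inferInstance, inferInstance, inferInstance, hBc, hflat, ?_⟩
    -- compare over `A ⧸ J`
    let JB := J.map (algebraMap A B)
    have hJB : JB ≤ maximalIdeal B := (Ideal.map_mono hJ).trans
      (((IsLocalRing.local_hom_TFAE _).out 0 2).mp (inferInstance : IsLocalHom (algebraMap A B)))
    let Q := B ⧸ JB
    haveI : Nontrivial Q := Ideal.Quotient.nontrivial_iff.mpr fun e =>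
      (maximalIdeal.isMaximal B).ne_top (top_le_iff.mp (e ▸ hJB))
    haveI : IsLocalRing Q := IsLocalRing.of_surjective' _ Ideal.Quotient.mk_surjective
    haveI : IsAdicComplete (maximalIdeal Q) Q := by
      rw [← IsLocalRing.map_maximalIdeal_of_surjective (Ideal.Quotient.mk JB) Ideal.Quotient.mk_surjective,
        ← Ideal.Quotient.algebraMap_eq]
      refine (IsAdicComplete.map_algebraMap_iff (I := maximalIdeal B) (S := Q) (M := Q)).mpr ?_
      exact Adic.isAdicComplete_of_finite _
    letI : Algebra (A ⧸ J) Q := (Ideal.quotientMap JB (algebraMap A B) Ideal.le_comap_map).toAlgebra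
    haveI : IsScalarTower A (A ⧸ J) Q := .of_algebraMap_eq fun _ => rfl
    let eQ : ((A ⧸ J) ⊗[A] B) ≃ₐ[A ⧸ J] Q :=
      AlgEquiv.ofBijective (Algebra.TensorProduct.lift (Algebra.ofId (A ⧸ J) Q)
          (Ideal.Quotient.mkₐ A JB) fun _ _ => Commute.all _ _) <| by
        have hlift : ∀ b : B, Algebra.TensorProduct.lift (Algebra.ofId (A ⧸ J) Q)
            (Ideal.Quotient.mkₐ A JB) (fun _ _ => Commute.all _ _) (1 ⊗ₜ b) = Ideal.Quotient.mk JB b := by
          intro b
          rw [Algebra.TensorProduct.lift_tmul, map_one, one_mul]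
          rfl
        have hgen : ∀ z : (A ⧸ J) ⊗[A] B, ∃ b : B, z = 1 ⊗ₜ b := fun z => by
          induction z with
          | zero => exact ⟨0, (TensorProduct.tmul_zero _ _).symm⟩
          | add z z' hz hz' =>
            obtain ⟨b, rfl⟩ := hz
            obtain ⟨b', rfl⟩ := hz'
            exact ⟨b + b', (TensorProduct.tmul_add _ _ _).symm⟩
          | tmul x b =>
            obtain ⟨a, rfl⟩ := Ideal.Quotient.mk_surjective x
            refine ⟨a • b, ?_⟩
            rw [← TensorProduct.smul_tmul, Algebra.smul_def, mul_one]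
            rfl
        refine ⟨(injective_iff_map_eq_zero _).mpr fun z hz => ?_, fun y => ?_⟩
        · obtain ⟨b, rfl⟩ := hgen z
          rw [hlift, Ideal.Quotient.eq_zero_iff_mem, ← Submodule.restrictScalars_mem A,
            ← Ideal.smul_top_eq_map] at hz
          refine Submodule.smul_induction_on (p := fun y => (1 : A ⧸ J) ⊗ₜ[A] y = 0) hz (fun a ha y _ => ?_)
            (fun y y' hy hy' => by rw [TensorProduct.tmul_add, hy, hy', add_zero])
          rw [← TensorProduct.smul_tmul, Algebra.smul_def, mul_one,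
            show algebraMap A (A ⧸ J) a = 0 from Ideal.Quotient.eq_zero_iff_mem.mpr ha, TensorProduct.zero_tmul]
        · obtain ⟨b, rfl⟩ := Ideal.Quotient.mk_surjective y
          exact ⟨1 ⊗ₜ b, hlift b⟩
    haveI : Module.Flat (A ⧸ J) Q := Module.Flat.of_linearEquiv eQ.symm.toLinearEquiv
    haveI : IsLocalHom (algebraMap (A ⧸ J) Q) := ⟨fun x hx => by
      obtain ⟨a, rfl⟩ := Ideal.Quotient.mk_surjective x
      have h1 : IsUnit (Ideal.Quotient.mk JB (algebraMap A B a)) := hx
      haveI : IsLocalHom (Ideal.Quotient.mk JB) := IsLocalHom.of_surjective _ Ideal.Quotient.mk_surjective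
      exact (isUnit_of_map_unit (algebraMap A B) a (isUnit_of_map_unit _ _ h1)).map _⟩
    let ρB : B →ₐ[A] F := (φ.toAlgHom.restrictScalars A).comp Algebra.TensorProduct.includeRight
    have hρB : Function.Surjective ρB ∧ RingHom.ker ρB = (maximalIdeal A).map (algebraMap A B) := by
      have hgen : ∀ z : k ⊗[A] B, ∃ b : B, z = 1 ⊗ₜ b := fun z => by
        induction z with
        | zero => exact ⟨0, (TensorProduct.tmul_zero _ _).symm⟩
        | add z z' hz hz' =>
          obtain ⟨b, rfl⟩ := hz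
          obtain ⟨b', rfl⟩ := hz'
          exact ⟨b + b', (TensorProduct.tmul_add _ _ _).symm⟩
        | tmul x b =>
          obtain ⟨a, rfl⟩ := residue_surjective x
          refine ⟨a • b, ?_⟩
          rw [← TensorProduct.smul_tmul, Algebra.smul_def, mul_one]
          rfl
      refine ⟨fun y => ?_, le_antisymm (fun b hb => ?_) (Ideal.map_le_iff_le_comap.mpr fun a ha => ?_)⟩
      · obtain ⟨z, rfl⟩ := φ.surjective y
        obtain ⟨b, rfl⟩ := hgen z
        exact ⟨b, rfl⟩
      · have h1 : (1 : k) ⊗ₜ[A] b = 0 := φ.injective ((RingHom.mem_ker.mp hb).trans (map_zero φ).symm)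
        have h2 := (congrArg (TensorProduct.quotTensorEquivQuotSMul B (maximalIdeal A)) h1).trans
          (map_zero (TensorProduct.quotTensorEquivQuotSMul B (maximalIdeal A)))
        rw [← map_one (residue A)] at h2
        erw [TensorProduct.quotTensorEquivQuotSMul_mk_tmul] at h2
        rw [one_smul, Submodule.Quotient.mk_eq_zero, Ideal.smul_top_eq_map] at h2
        exact h2
      · rw [Ideal.mem_comap, RingHom.mem_ker, AlgHom.commutes]
        exact Ideal.Quotient.eq_zero_iff_mem.mpr (Ideal.mem_map_of_mem _ ha)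
    letI : Algebra (A ⧸ J) F := ((algebraMap k F).comp fk).toAlgebra
    let ρP : B₀ →ₐ[A ⧸ J] F := { Ideal.Quotient.mk 𝔪 with commutes' := fun x => (hkF x).symm }
    have hJρ : ∀ b ∈ JB, ρB b = 0 := fun b hb =>
      RingHom.mem_ker.mp (hρB.2.ge (Ideal.map_mono hJ hb))
    let ρQ : Q →ₐ[A ⧸ J] F :=
      { Ideal.Quotient.lift JB ρB.toRingHom hJρ with
        commutes' := fun x => by
          obtain ⟨a, rfl⟩ := Ideal.Quotient.mk_surjective x
          exact ρB.commutes a }
    have hmm : (maximalIdeal (A ⧸ J)) = (maximalIdeal A).map (Ideal.Quotient.mk J) :=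
      (IsLocalRing.map_maximalIdeal_of_surjective _ Ideal.Quotient.mk_surjective).symm
    obtain ⟨v, -⟩ := FlatLift16.Unique.exists_equiv (A := A ⧸ J) hFS (maximalIdeal (A ⧸ J)) le_rfl
      ρP Ideal.Quotient.mk_surjective (by
        show RingHom.ker (Ideal.Quotient.mk 𝔪) = _
        rw [Ideal.mk_ker, hmm, Ideal.map_map]
        rfl)
      ρQ (fun y => by
        obtain ⟨b, rfl⟩ := hρB.1 y
        exact ⟨Ideal.Quotient.mk JB b, rfl⟩) (by
        show RingHom.ker (Ideal.Quotient.lift JB ρB.toRingHom hJρ) = _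
        rw [show RingHom.ker (Ideal.Quotient.lift JB ρB.toRingHom hJρ) =
            (RingHom.ker ρB.toRingHom).map (Ideal.Quotient.mk JB) from Ideal.ker_quotient_lift _ _, show RingHom.ker ρB.toRingHom = _ from hρB.2, hmm, Ideal.map_map,
          Ideal.map_map]
        rfl)
    exact ⟨eQ.trans v.symm⟩
  · -- uniqueness
    intro B B' _ _ _ _ _ _ _ _ _ _ hBc hBf hBc' hBf' φ φ'
    haveI := hBc
    haveI := hBf
    haveI := hBc'
    haveI := hBf'
    obtain ⟨ρ, hρ, hρk, hρe⟩ := hproj B φ
    obtain ⟨ρ', hρ', hρk', hρe'⟩ := hproj B' φ'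
    have hJB : J.map (algebraMap A B) ≤ maximalIdeal B := (Ideal.map_mono hJ).trans
      (((IsLocalRing.local_hom_TFAE _).out 0 2).mp (inferInstance : IsLocalHom (algebraMap A B)))
    have hBFS : CAlgX.IsAdicFormallySmooth A B (maximalIdeal B) := by
      refine FlatLift16.FlatFS.isAdicFormallySmooth J (maximalIdeal B) hJB ?_
      intro C _ _ J' hJ' ψ ⟨n, hn⟩
      let θ : (B ⧸ J.map (algebraMap A B)) ≃+* B₀ :=
        (Ideal.quotEquivOfEq hρk.symm).trans (RingHom.quotientKerEquivOfSurjective hρ)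
      have hθ : ∀ b, θ (Ideal.Quotient.mk _ b) = ρ b := fun b => rfl
      have hθA : ∀ x : A ⧸ J, θ (algebraMap (A ⧸ J) (B ⧸ J.map (algebraMap A B)) x) =
          algebraMap (A ⧸ J) B₀ x := fun x => by
        obtain ⟨a, rfl⟩ := Ideal.Quotient.mk_surjective x
        exact ρ.commutes a
      let ψ' : B₀ →ₐ[A ⧸ J] C ⧸ J' :=
        { ψ.toRingHom.comp θ.symm.toRingHom with
          commutes' := fun x => by
            show ψ (θ.symm (algebraMap (A ⧸ J) B₀ x)) = _
            rw [← hθA, RingEquiv.symm_apply_apply, ψ.commutes] }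
      obtain ⟨χ, hχ⟩ := hFS C J' hJ' ψ' ⟨n, fun x hx => hn _ (by
        rw [← IsLocalRing.map_maximalIdeal_of_surjective ρ.toRingHom hρ] at hx
        rw [← Ideal.map_pow] at hx
        obtain ⟨b, hb, rfl⟩ := (Ideal.mem_map_iff_of_surjective ρ.toRingHom hρ).mp hx
        show θ.symm (ρ b) ∈ _
        rw [← hθ, RingEquiv.symm_apply_apply, ← Ideal.map_pow]
        exact Ideal.mem_map_of_mem _ hb)⟩
      refine ⟨{ χ.toRingHom.comp θ.toRingHom with
        commutes' := fun x => by
          show χ (θ (algebraMap (A ⧸ J) (B ⧸ J.map (algebraMap A B)) x)) = _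
          rw [hθA, χ.commutes] }, AlgHom.ext fun y => ?_⟩
      have h1 := DFunLike.congr_fun hχ (θ y)
      show Ideal.Quotient.mk J' (χ (θ y)) = ψ y
      exact h1.trans (congrArg ψ (θ.symm_apply_apply y))
    obtain ⟨v, hv⟩ := FlatLift16.Unique.exists_equiv hBFS J hJ ρ hρ hρk ρ' hρ' hρk'
    refine ⟨v, Algebra.TensorProduct.ext (AlgHom.ext fun x => ?_) (AlgHom.ext fun b => ?_)⟩
    · simp only [AlgHom.coe_comp, AlgEquiv.coe_algHom, Function.comp_apply,
        Algebra.TensorProduct.includeLeft_apply, Algebra.TensorProduct.map_tmul, AlgHom.coe_id, id_eq,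
        map_one]
      exact (φ'.commutes x).trans (φ.commutes x).symm
    · show φ' ((1 : A ⧸ J) ⊗ₜ[A] v b) = φ (1 ⊗ₜ b)
      rw [← hρe', hv, hρe]

end Groth.Agent.S2487
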