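import Groth.Statements.S4634
import Groth.Agent.FDesc.QuasiFlat
import Mathlib.AlgebraicGeometry.IdealSheaf.Subscheme
-- import your own Groth.Agent.* helpers here

set_option autoImplicit false
open CategoryTheory AlgebraicGeometry
universe u
open FDesc

namespace Groth.Agent.S4634

lemma preimage_closure_image {X Y : Scheme.{u}} (f : X ⟶ Y) (hf : GeneralizingMap f.base)
    [QuasiCompact f] (F : Set ↥X) (hF : IsClosed F) :
    f.base ⁻¹' closure (f.base '' F) = closure (f.base ⁻¹' (f.base '' F)) := by
  let I := Scheme.IdealSheafData.vanishingIdeal ⟨F, hF⟩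
  have h := Groth.Agent.FDesc.QuasiFlat.preimage_closure_range f hf (I.subschemeι ≫ f)
  have hr : Set.range (I.subschemeι ≫ f).base = f.base '' F := by
    rw [Scheme.Hom.comp_base, TopCat.coe_comp, Set.range_comp,
      Scheme.IdealSheafData.range_subschemeι]
    rfl
  rwa [hr] at h

/-- Let f : X → Y be a quasi-flat quasi-compact morphism and F a closed subset of X which is saturated
for f, i.e. F = f⁻¹(f(F)). Then F is the inverse image of the closure of f(F). -/
theorem result {X Y : Scheme.{u}} (f : X ⟶ Y) (hf : FDesc.IsQuasiFlat f)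
    [QuasiCompact f] (F : Set ↥X) (hF : IsClosed F) (hsat : ⇑f ⁻¹' (⇑f '' F) = F) :
    ⇑f ⁻¹' closure (⇑f '' F) = F := by
  refine (preimage_closure_image f
    (Groth.Agent.FDesc.QuasiFlat.generalizingMap_of_isQuasiFlat f hf) F hF).trans ?_
  rw [hsat]
  exact hF.closure_eq

end Groth.Agent.S4634
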