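import Groth.Statements.S2553
import Groth.Agent.ProperConn.Integral

set_option autoImplicit false
open CategoryTheory AlgebraicGeometry
universe u
open EGA43

namespace Groth.Agent.S2553

/-- Let f : X ⟶ Y be proper, flat and locally of finite presentation. The set of points y of Y whose
fibre is geometrically integral over the residue field of y is open in Y. -/
theorem result {X Y : Scheme.{u}} (f : X ⟶ Y) [IsProper f]
    [Flat f] [LocallyOfFinitePresentation f] :
    IsOpen {y : Y | GeometricallyIntegral (f.fiberToSpecResidueField y)} := by
  refine isOpen_iff_mem_nhds.mpr fun y hy => ?_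
  obtain ⟨h1, h2⟩ := (Groth.Agent.ProperConn.geometricallyIntegral_fibre_iff f y).1 hy
  filter_upwards [(Groth.Agent.ProperConn.isOpen_gpi f).mem_nhds h1,
    Groth.Agent.ProperConn.eventually_eq_of_flat f y
      ((Groth.Agent.ProperConn.gpi_iff f y).1 h1).1] with z hz hzn
  exact (Groth.Agent.ProperConn.geometricallyIntegral_fibre_iff f z).2 ⟨hz, hzn.trans h2⟩

end Groth.Agent.S2553
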