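import Groth.Statements.S2555
import Groth.Agent.FibCodepth.Scheme

set_option autoImplicit false
open CategoryTheory AlgebraicGeometry
universe u
open EGA43

namespace Groth.Agent.S2555

/-- Let f : X ⟶ Y be proper, flat and locally of finite presentation and k ≥ 1. The set of points y of Y
such that every local ring of the fibre X_y satisfies Serre's condition (S_k) is open in Y. -/
theorem result {X Y : Scheme.{u}} (f : X ⟶ Y) [IsProper f]
    [Flat f] [LocallyOfFinitePresentation f] (k : ℕ) (hk : 1 ≤ k) :
    IsOpen {y : Y | ∀ x : ↥(f.fiber y), LocCoh.HasSk k ((f.fiber y).presheaf.stalk x) ((f.fiber y).presheaf.stalk x)} := by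
  have hopen := Groth.Agent.FibCodepth.isOpen_hasSk_ring f k
  have htr : ∀ (y : Y) (x : ↥(f.fiber y)),
      (LocCoh.HasSk k ((f.fiber y).presheaf.stalk x) ((f.fiber y).presheaf.stalk x)) ↔
        f.fiberι y x ∈ {x : X | LocCoh.HasSk k ((f.fiber (f.base x)).presheaf.stalk (f.asFiber x))
          ((f.fiber (f.base x)).presheaf.stalk (f.asFiber x))} := by
    intro y x
    obtain ⟨V, U, hV, hU, e, hxU⟩ := Groth.Agent.FlatSect.exists_chart f (f.fiberι y x)
    exact (Groth.Agent.FibCodepth.hasSk_ring_iff_chart f hV hU e inferInstance k y x _ rfl hxU).trans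
      (Groth.Agent.FibCodepth.hasSk_ring_iff_chart f hV hU e inferInstance k _ (f.asFiber (f.fiberι y x)) _
        (f.fiberι_asFiber _) hxU).symm
  have h : {y : Y | ∀ x : ↥(f.fiber y), LocCoh.HasSk k ((f.fiber y).presheaf.stalk x) ((f.fiber y).presheaf.stalk x)} =
      (f.base '' {x : X | LocCoh.HasSk k ((f.fiber (f.base x)).presheaf.stalk (f.asFiber x))
          ((f.fiber (f.base x)).presheaf.stalk (f.asFiber x))}ᶜ)ᶜ := by
    ext y
    simp only [Set.mem_compl_iff, Set.mem_image, not_exists, not_and]
    constructor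
    · intro hy x hx hxy
      subst hxy
      exact hx (hy (f.asFiber x))
    · intro hy x
      rw [htr y x]
      by_contra hx
      refine hy _ hx ?_
      have h2 : f.fiberι y x ∈ Set.range (f.fiberι y).base := ⟨x, rfl⟩
      rw [Scheme.Hom.range_fiberι] at h2
      exact h2
  rw [h, isOpen_compl_iff]
  exact f.isClosedMap _ hopen.isClosed_compl

end Groth.Agent.S2555
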