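import Groth.Statements.S2556
import Groth.Agent.GUOpen.Crit
import Groth.Agent.GUOpen.Converse
import Groth.Agent.EquidimPt.UnivOpenAffine
-- import your own Groth.Agent.* helpers here

set_option autoImplicit false
open CategoryTheory AlgebraicGeometry
universe u
open EGA43

namespace Groth.Agent.S2556

/-- Suppose Y is a locally Noetherian scheme whose local rings are all geometrically unibranch, and f :
X ⟶ Y is locally of finite type. Then f is universally open exactly when its underlying map of
spaces is open. -/
theorem result {X Y : Scheme.{u}} [IsLocallyNoetherian Y]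
    (hY : ∀ y : Y, CAlg2.IsGeomUnibranch (Y.presheaf.stalk y)) (f : X ⟶ Y) [LocallyOfFiniteType f] :
    UniversallyOpen f ↔ IsOpenMap f.base := by
  constructor
  · intro h
    exact f.isOpenMap
  · intro h
    have hu : ∀ x : X, EGA43.IsUnivOpenAt f x := by
      intro x
      obtain ⟨z, hzx, hfz, hzmax, -⟩ := Groth.Agent.FibSemi.exists_max_fibre f x
      have hz : EGA43.IsUnivOpenAt f z := by
        obtain ⟨η, hη, hmax⟩ := Groth.Agent.FlatOpen.EquiDim.exists_max (f z)
        have hY₀ := Groth.Agent.FlatOpen.EquiDim.closure_mem_irreducibleComponents hmax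
        obtain ⟨c, hcz, hfc, hcmax, hle⟩ := Groth.Agent.GUOpen.exists_gen_dim_of_isOpenAt f
          (fun N hN => h.image_mem_nhds hN) (fun w hw => hzmax w (hw.trans hfz)) hη
        obtain ⟨hZ, hcl, hdim⟩ := Groth.Agent.GUOpen.component_facts f hY₀ rfl hfc hcmax
        exact Groth.Agent.GUOpen.isUnivOpenAt_of_component f (hY _) hY₀ hZ
          (specializes_iff_mem_closure.1 hcz) hcl fun η' hη' =>
          (Groth.Agent.GUOpen.localDim_eq_of_gen f hcz hle).trans (hdim η' hη').symm
      intro Y' g x' hx' N hN
      obtain ⟨c', hc'x, hpc, hqc⟩ := Groth.Agent.EquidimPt.exists_gen_fibre_baseChange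
        (IsPullback.of_hasPullback f g) x' (z := z) (hx'.symm ▸ hzx) (hx'.symm ▸ hfz)
      obtain ⟨O, hON, hO, hxO⟩ := mem_nhds_iff.mp hN
      have h1 := hz Y' g c' hqc O (hO.mem_nhds (hc'x.mem_open hO hxO))
      rw [show (Limits.pullback.snd f g).base c' = (Limits.pullback.snd f g).base x' from hpc] at h1
      exact Filter.mem_of_superset h1 (Set.image_mono hON)
    refine ⟨fun P T i₁ i₂ f' sq => isOpenMap_iff_nhds_le.2 fun p s hs => ?_⟩
    exact Filter.mem_of_superset (Groth.Agent.OpenAt.isOpenAt_of_isPullback (hu (i₁.base p)) sq.flip p rfl _ hs)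
      (Set.image_preimage_subset _ _)

end Groth.Agent.S2556
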