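import Groth.Statements.S2557
import Groth.Agent.GUFinBC.Main
import Groth.Agent.EquidimPt.UnivOpenAffine
-- import your own Groth.Agent.* helpers here

set_option autoImplicit false
open CategoryTheory AlgebraicGeometry
universe u
open EGA43

namespace Groth.Agent.S2557

open CategoryTheory.Limits in
/-- Let Y be a Noetherian scheme and f : X ⟶ Y locally of finite type. Then f is universally open if and
only if, for every finite morphism Y₁ ⟶ Y, the base change X ×_Y Y₁ ⟶ Y₁ is an open map. -/
theorem result {X Y : Scheme.{u}} [IsNoetherian Y] (f : X ⟶ Y)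
    [LocallyOfFiniteType f] :
    UniversallyOpen f ↔
      ∀ (Y₁ : Scheme.{u}) (g : Y₁ ⟶ Y) [IsFinite g], IsOpenMap (pullback.snd f g).base := by
  constructor
  · intro h Y₁ g _
    exact (pullback.snd f g).isOpenMap
  · intro h
    have hu : ∀ x : X, EGA43.IsUnivOpenAt f x := by
      intro x
      obtain ⟨c, hcx, hfc, hcmax, -⟩ := Groth.Agent.FibSemi.exists_max_fibre f x
      have hc := Groth.Agent.GUFinBC.isUnivOpenAt_of_finite_baseChange f c
        (fun z hz hzc => hcmax z (hz.trans hfc) hzc)
        (fun Y' g _ x' _ N hN => (h Y' g).image_mem_nhds hN)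
      intro Y' g x' hx' N hN
      obtain ⟨c', hc'x, hpc, hqc⟩ := Groth.Agent.EquidimPt.exists_gen_fibre_baseChange
        (IsPullback.of_hasPullback f g) x' (z := c) (hx'.symm ▸ hcx) (hx'.symm ▸ hfc)
      obtain ⟨O, hON, hO, hxO⟩ := mem_nhds_iff.mp hN
      have h1 := hc Y' g c' hqc O (hO.mem_nhds (hc'x.mem_open hO hxO))
      rw [show (pullback.snd f g).base c' = (pullback.snd f g).base x' from hpc] at h1
      exact Filter.mem_of_superset h1 (Set.image_mono hON)
    refine ⟨fun P T i₁ i₂ f' sq => ?_⟩
    refine isOpenMap_iff_nhds_le.2 fun p s hs => ?_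
    exact Filter.mem_of_superset (Groth.Agent.OpenAt.isOpenAt_of_isPullback (hu (i₁.base p)) sq.flip p rfl _ hs)
      (Set.image_preimage_subset _ _)

end Groth.Agent.S2557
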