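import Groth.Statements.S2558
import Groth.Agent.Wt.UnivOpenAn
import Groth.Agent.RedSub.Basic
import Groth.Agent.QSect.Scheme
-- import your own Groth.Agent.* helpers here

set_option autoImplicit false
open CategoryTheory AlgebraicGeometry
universe u
open EGA43

namespace Groth.Agent.S2558

open CategoryTheory.Limits in
/-- Let f : X ⟶ Y be locally of finite presentation. Suppose that for every irreducible scheme Y' and
every morphism of finite type g : Y' ⟶ Y, each irreducible component of X ×_Y Y' has dense image in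
Y'. Then f is universally open. -/
theorem result {X Y : Scheme.{u}} (f : X ⟶ Y) [LocallyOfFinitePresentation f]
    (h : ∀ (Y' : Scheme.{u}) (g : Y' ⟶ Y) [IrreducibleSpace Y'] [LocallyOfFiniteType g] [QuasiCompact g],
      ∀ Z ∈ irreducibleComponents (↥(pullback f g) : Type u), Dense ((pullback.snd f g).base '' Z)) :
    UniversallyOpen f := by
  refine (Wt.UnivOpenAn.universallyOpen_iff f).mpr fun n => ?_
  let σ := ULift.{u} (Fin n)
  have hmap := AffineSpace.isPullback_map (n := σ) f
  haveI : LocallyOfFinitePresentation (AffineSpace.map σ f) :=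
    MorphismProperty.of_isPullback hmap.flip inferInstance
  refine isOpenMap_of_generalizingMap _ fun z y' hy' => ?_
  let C : TopologicalSpace.Closeds ↥(𝔸(σ; Y)) := ⟨closure {y'}, isClosed_closure⟩
  let I := Scheme.IdealSheafData.vanishingIdeal C
  let i := I.subschemeι
  have hr : Set.range i = closure {y'} := RedSub.range_vanishingIdeal_subschemeι C
  obtain ⟨η, hη⟩ : y' ∈ Set.range i := hr ▸ subset_closure rfl
  have hgen : IsGenericPoint η (Set.univ : Set I.subscheme) := by
    refine (isGenericPoint_iff_specializes).mpr fun w => ⟨fun _ => trivial, fun _ => ?_⟩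
    refine i.isEmbedding.isInducing.specializes_iff.mp ?_
    rw [hη, specializes_iff_mem_closure, ← hr]
    exact ⟨w, rfl⟩
  haveI : IrreducibleSpace I.subscheme := (irreducibleSpace_def _).mpr hgen.isIrreducible
  obtain ⟨v, hv⟩ : AffineSpace.map σ f z ∈ Set.range i := hr ▸ specializes_iff_mem_closure.mp hy'
  let P := pullback f (i ≫ (𝔸(σ; Y) ↘ Y))
  let a : P ⟶ 𝔸(σ; X) := hmap.flip.lift (pullback.fst _ _) (pullback.snd _ _ ≫ i) (by
    rw [Category.assoc, pullback.condition])
  have hsq : IsPullback a (pullback.snd f (i ≫ (𝔸(σ; Y) ↘ Y))) (AffineSpace.map σ f) i := by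
    refine IsPullback.of_right ?_ (hmap.flip.lift_snd _ _ _) hmap.flip
    rw [hmap.flip.lift_fst]
    exact IsPullback.of_hasPullback _ _
  obtain ⟨w, hw1, hw2⟩ := Scheme.exists_preimage_of_isPullback hsq z v hv.symm
  have hd := h I.subscheme (i ≫ (𝔸(σ; Y) ↘ Y)) _ (irreducibleComponent_mem_irreducibleComponents w)
  obtain ⟨ω, hω⟩ := QuasiSober.sober (isIrreducible_irreducibleComponent (x := w)) isClosed_irreducibleComponent
  have h2 : IsGenericPoint (pullback.snd f (i ≫ (𝔸(σ; Y) ↘ Y)) ω) (Set.univ : Set I.subscheme) := by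
    have := hω.image (pullback.snd f (i ≫ (𝔸(σ; Y) ↘ Y))).continuous
    rwa [show closure (⇑(pullback.snd f (i ≫ (𝔸(σ; Y) ↘ Y))) '' irreducibleComponent w) = Set.univ from
      hd.closure_eq] at this
  refine ⟨a ω, hw1 ▸ (hω.specializes mem_irreducibleComponent).map a.continuous, ?_⟩
  rw [show AffineSpace.map σ f (a ω) = i (pullback.snd f (i ≫ (𝔸(σ; Y) ↘ Y)) ω) from congr($(hsq.w) ω),
    h2.eq hgen, hη]

end Groth.Agent.S2558
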