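import Groth.Statements.S2563
import Groth.Agent.NilFree.Basic
import Mathlib.RingTheory.Flat.Localization
import Mathlib.LinearAlgebra.DirectSum.Finsupp

set_option autoImplicit false
open TensorProduct
universe u
open EGA43

namespace Groth.Agent.S2563

/-- Let A be a commutative ring, J a nilpotent ideal of A, and (B_i) a family of commutative A-algebras
such that an element of A vanishing in every B_i is zero. Let M be an A-module such that each B_i
⊗_A M is a free B_i-module and (A/J) ⊗_A M is a free (A/J)-module. Then M is a free A-module. -/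
theorem result {A : Type u} [CommRing A] (J : Ideal A) (hJ : IsNilpotent J)
    {ι : Type u} (B : ι → Type u) [∀ i, CommRing (B i)] [∀ i, Algebra A (B i)]
    (hB : ∀ a : A, (∀ i, algebraMap A (B i) a = 0) → a = 0)
    (M : Type u) [AddCommGroup M] [Module A M]
    (hfree : ∀ i, Module.Free (B i) (B i ⊗[A] M)) (hfreeJ : Module.Free (A ⧸ J) ((A ⧸ J) ⊗[A] M)) :
    Module.Free A M := by
  classical
  obtain ⟨κ, φ, hs, hk⟩ := Groth.Agent.NilFree.exists_presentation J hJ hfreeJ
  have hi : Function.Injective φ := by
    rw [← LinearMap.ker_eq_bot, eq_bot_iff]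
    intro x hx
    rw [Submodule.mem_bot]
    ext j
    refine hB _ fun i => ?_
    have hz : (1 : B i) ⊗ₜ[A] x = 0 :=
      Groth.Agent.NilFree.baseChange_injective φ hs hJ hk (B i) (haveI := hfree i; inferInstance) (by
        rw [LinearMap.baseChange_tmul, LinearMap.mem_ker.mp hx, tmul_zero, map_zero])
    have := DFunLike.congr_fun (congrArg (finsuppScalarRight A A (B i) κ) hz) j
    rw [finsuppScalarRight_apply_tmul_apply, map_zero, Finsupp.zero_apply,
      Algebra.smul_def, mul_one] at this
    exact this
  exact Module.Free.of_equiv (LinearEquiv.ofBijective φ ⟨hi, hs⟩)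

end Groth.Agent.S2563
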