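import Groth.Statements.S6884
import Groth.Agent.FlatOpen.Descend
import Groth.Agent.FlatNilp.Finite

set_option autoImplicit false
set_option synthInstance.maxHeartbeats 200000
set_option maxHeartbeats 1000000
set_option linter.style.haveILetI false
universe u
open TensorProduct
open CAlg

namespace Groth.Agent.S6884

/-- For an injective integral ring map `R → S` and `n ≥ 0`, let `M` be a module of finite presentation
over the polynomial ring `R[x_1, …, x_n]`. Then flatness of `S ⊗_R M` over `S` forces flatness of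
`M` over `R`. -/
theorem result (R S : Type u) [CommRing R]
    [CommRing S] [Algebra R S] [Algebra.IsIntegral R S] (hinj : Function.Injective (algebraMap R S)) (n : ℕ)
    (M : Type u) [AddCommGroup M] [Module (MvPolynomial (Fin n) R) M] [Module R M]
    [IsScalarTower R (MvPolynomial (Fin n) R) M] [Module.FinitePresentation (MvPolynomial (Fin n) R) M]
    [Module.Flat S (S ⊗[R] M)] : Module.Flat R M := by
  classical
  obtain hR | hR := subsingleton_or_nontrivial R
  · haveI := Module.subsingleton R M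
    infer_instance
  obtain ⟨n', r, R₀, Z₀, -, E, hR₀, -, -⟩ := FlatOpen.exists_presentation_model R (MvPolynomial (Fin n) R) M
  haveI : IsNoetherianRing R₀ := isNoetherianRing_of_fg hR₀
  -- flatness over `S` of the model
  let eS : S ⊗[R] M ≃ₗ[S] FlatOpen.Quot S Z₀ :=
    ((AlgebraTensorModule.congr (LinearEquiv.refl S S) E.symm).trans
      (AlgebraTensorModule.congr (LinearEquiv.refl S S) (FlatOpen.quotEquiv R Z₀).symm)).trans
      ((AlgebraTensorModule.cancelBaseChange R₀ R S S (FlatOpen.Vec n' r R₀ ⧸ Z₀)).trans (FlatOpen.quotEquiv S Z₀))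
  haveI : Module.Flat S (FlatOpen.Quot S Z₀) := Module.Flat.of_linearEquiv eS.symm
  obtain ⟨S₁, ⟨t, ht⟩, hflat⟩ := FlatOpen.exists_model_flat_all Z₀ S
  -- coefficients of integral equations for the generators
  choose p hp hpe using fun x : S => (Algebra.IsIntegral.isIntegral (R := R) x)
  let R₁ : Subalgebra R₀ R := Algebra.adjoin R₀ ((t.biUnion fun x => (p x).coeffs : Finset R) : Set R)
  haveI : IsNoetherianRing R₁ := isNoetherianRing_of_fg ⟨_, rfl⟩
  have hint : ∀ x ∈ t, IsIntegral R₁ x := by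
    intro x hx
    obtain ⟨q, hq, -, hqm⟩ := Polynomial.lifts_and_degree_eq_and_monic
      ((Polynomial.lifts_iff_coeff_lifts (f := algebraMap R₁ R) (p x)).mpr fun k => by
        by_cases hk : (p x).coeff k = 0
        · exact ⟨0, by rw [map_zero, hk]⟩
        · exact ⟨⟨_, Algebra.subset_adjoin (Finset.mem_biUnion.mpr
            ⟨x, hx, Polynomial.coeff_mem_coeffs hk⟩)⟩, rfl⟩) (hp x)
    refine ⟨q, hqm, ?_⟩
    have h := hpe x
    rw [← hq, Polynomial.eval₂_map, ← IsScalarTower.algebraMap_eq] at h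
    exact h
  let S₂ : Subalgebra R₁ S := Algebra.adjoin R₁ (t : Set S)
  haveI : Module.Finite R₁ S₂ := Module.Finite.iff_fg.mpr (fg_adjoin_of_finite t.finite_toSet hint)
  have hle : S₁ ≤ S₂.restrictScalars R₀ := ht ▸ Algebra.adjoin_le (Algebra.subset_adjoin (R := R₁))
  letI : Algebra S₁ S₂ := (Subalgebra.inclusion hle).toRingHom.toAlgebra
  haveI : IsScalarTower R₀ S₁ S₂ := IsScalarTower.of_algebraMap_eq fun _ => rfl
  haveI : Module.Flat S₂ (FlatOpen.Quot S₂ Z₀) := FlatOpen.flat_quot_of_tower Z₀ S₂ S₁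
  haveI : Module.Flat S₂ (S₂ ⊗[R₁] FlatOpen.Quot R₁ Z₀) := Module.Flat.of_linearEquiv
    ((AlgebraTensorModule.congr (LinearEquiv.refl S₂ S₂) (FlatOpen.quotEquiv R₁ Z₀).symm).trans
      ((AlgebraTensorModule.cancelBaseChange R₀ R₁ S₂ S₂ (FlatOpen.Vec n' r R₀ ⧸ Z₀)).trans (FlatOpen.quotEquiv S₂ Z₀)))
  have hinj₁ : Function.Injective (algebraMap R₁ S₂) := fun a b hab => by
    have h := congrArg (fun z : S₂ => (z : S)) hab
    exact Subtype.ext (hinj h)
  haveI : Module.Flat R₁ (FlatOpen.Quot R₁ Z₀) := FlatNilp.flat_of_finite_injective S₂ hinj₁ _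
  haveI := FlatOpen.flat_quot_of_tower Z₀ R R₁
  exact Module.Flat.of_linearEquiv E.symm

end Groth.Agent.S6884
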