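import Groth.Statements.S2564
import Groth.Agent.S6884
import Groth.Agent.FlatOpen.Scheme

set_option autoImplicit false
open CategoryTheory AlgebraicGeometry
universe u
open EGA43

namespace Groth.Agent.S2564

open CategoryTheory AlgebraicGeometry
open scoped TensorProduct

theorem flat_of_baseChange (A A' B : Type u) [CommRing A] [CommRing A'] [Algebra A A']
    [Algebra.IsIntegral A A'] (hinj : Function.Injective (algebraMap A A')) [CommRing B] [Algebra A B]
    [Algebra.FinitePresentation A B] [Module.Flat A' (A' ⊗[A] B)] : Module.Flat A B := by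
  obtain ⟨n, π, hπ, hker⟩ := ‹Algebra.FinitePresentation A B›.out
  letI : Algebra (MvPolynomial (Fin n) A) B := π.toRingHom.toAlgebra
  haveI : IsScalarTower A (MvPolynomial (Fin n) A) B := IsScalarTower.of_algebraMap_eq fun a => (π.commutes a).symm
  haveI : Module.FinitePresentation (MvPolynomial (Fin n) A) B :=
    Module.finitePresentation_of_surjective (Algebra.linearMap (MvPolynomial (Fin n) A) B) hπ hker
  exact S6884.result A A' hinj n B

/-- The affine case. -/
theorem flat_affine {A A' : Type u} [CommRing A] [CommRing A']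
    [Algebra A A'] [Algebra.IsIntegral A A'] (hinj : Function.Injective (algebraMap A A'))
    {X : Scheme.{u}} [IsAffine X] (f : X ⟶ Spec (CommRingCat.of A)) [LocallyOfFinitePresentation f]
    (h : Flat (Limits.pullback.snd f (Spec.map (CommRingCat.ofHom (algebraMap A A'))))) : Flat f := by
  let φ := Spec.preimage (X.isoSpec.inv ≫ f)
  have hφ : Spec.map φ = X.isoSpec.inv ≫ f := Spec.map_preimage _
  letI : Algebra A Γ(X, ⊤) := φ.hom.toAlgebra
  haveI : Algebra.FinitePresentation A Γ(X, ⊤) := by
    have : LocallyOfFinitePresentation (Spec.map φ) := hφ ▸ inferInstance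
    rwa [HasRingHomProperty.Spec_iff (P := @LocallyOfFinitePresentation)] at this
  let ι := Spec.map (CommRingCat.ofHom (algebraMap A A'))
  have hsq : IsPullback (Limits.pullback.fst f ι ≫ X.isoSpec.hom) (Limits.pullback.snd f ι)
      (Spec.map φ) ι :=
    IsPullback.of_iso (IsPullback.of_hasPullback f ι) (Iso.refl _) X.isoSpec (Iso.refl _) (Iso.refl _)
      (by simp) (by simp) (by simp [hφ]) (by simp)
  have h2 : Flat (pullbackSpecIso A A' Γ(X, ⊤)).inv ∧ Flat (Limits.pullback.fst ι (Spec.map φ)) := by
    refine ⟨inferInstance, ?_⟩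
    rw [← hsq.flip.isoPullback_inv_fst]
    exact MorphismProperty.comp_mem @Flat _ _ inferInstance h
  have h3 : Flat (Spec.map (CommRingCat.ofHom (algebraMap A' (A' ⊗[A] Γ(X, ⊤))))) := by
    rw [← pullbackSpecIso_inv_fst]
    exact MorphismProperty.comp_mem @Flat _ _ h2.1 h2.2
  rw [HasRingHomProperty.Spec_iff (P := @Flat)] at h3
  haveI : Module.Flat A' (A' ⊗[A] Γ(X, ⊤)) := RingHom.flat_algebraMap_iff.mp h3
  have h4 : Flat (Spec.map φ) := by
    rw [HasRingHomProperty.Spec_iff (P := @Flat)]
    exact flat_of_baseChange A A' Γ(X, ⊤) hinj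
  have : f = X.isoSpec.hom ≫ Spec.map φ := by rw [hφ, Iso.hom_inv_id_assoc]
  rw [this]
  exact MorphismProperty.comp_mem @Flat _ _ inferInstance h4

open CategoryTheory.Limits in
/-- Let A ⟶ A' be an injective ring homomorphism making A' integral over A, f : X ⟶ Spec A locally of
finite presentation, x a point of X, and X' = X ×_{Spec A} Spec A'. If X' ⟶ Spec A' is flat at every
point of X' lying over x, then f is flat at x. -/
theorem result {A A' : Type u} [CommRing A] [CommRing A']
    [Algebra A A'] [Algebra.IsIntegral A A'] (hinj : Function.Injective (algebraMap A A'))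
    {X : Scheme.{u}} (f : X ⟶ Spec (CommRingCat.of A)) [LocallyOfFinitePresentation f] (x : X)
    (h : ∀ x' : ↥(pullback f (Spec.map (CommRingCat.ofHom (algebraMap A A')))),
      (pullback.fst f _).base x' = x →
      ((pullback.snd f (Spec.map (CommRingCat.ofHom (algebraMap A A')))).stalkMap x').hom.Flat) :
    (f.stalkMap x).hom.Flat := by
  let ι := Spec.map (CommRingCat.ofHom (algebraMap A A'))
  let a := pullback.fst f ι
  haveI : IsIntegralHom ι := IsIntegralHom.SpecMap_iff.mpr Algebra.IsIntegral.isIntegral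
  haveI : IsIntegralHom a := MorphismProperty.pullback_fst f ι inferInstance
  haveI : LocallyOfFinitePresentation (pullback.snd f ι) := inferInstance
  have hO : IsOpen {z : ↥(pullback f ι) | ((pullback.snd f ι).stalkMap z).hom.Flat} :=
    Groth.Agent.FlatOpen.Scheme.isOpen_stalkMap_flat (pullback.snd f ι)
  have hC : IsClosed (a '' {z | ((pullback.snd f ι).stalkMap z).hom.Flat}ᶜ) :=
    a.isClosedMap _ hO.isClosed_compl
  obtain ⟨U, hU, hxU, hUC⟩ := exists_isAffineOpen_mem_and_subset (x := x)
    (U := ⟨_, hC.isOpen_compl⟩) (by rintro ⟨z, hz, rfl⟩; exact hz (h z rfl))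
  haveI : IsAffine U.toScheme := hU
  have hf : Flat (pullback.snd (U.ι ≫ f) ι) := by
    let b := pullback.map (U.ι ≫ f) ι f ι U.ι (𝟙 _) (𝟙 _) (by simp) (by simp)
    haveI : IsOpenImmersion b := inferInstance
    have hb : b ≫ pullback.snd f ι = pullback.snd (U.ι ≫ f) ι :=
      (pullback.lift_snd _ _ _).trans (Category.comp_id _)
    rw [← hb]
    refine Flat.of_stalkMap _ fun z => ?_
    rw [Scheme.Hom.stalkMap_comp]
    erw [CommRingCat.hom_comp]
    refine RingHom.Flat.comp ?_ (RingHom.Flat.of_bijective (ConcreteCategory.bijective_of_isIso (b.stalkMap z)))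
    by_contra hz
    refine hUC ?_ ⟨b z, hz, rfl⟩
    have hba : b ≫ a = pullback.fst (U.ι ≫ f) ι ≫ U.ι := pullback.lift_fst _ _ _
    rw [show a (b z) = (b ≫ a) z from rfl, hba, Scheme.Hom.comp_apply]
    exact ((pullback.fst (U.ι ≫ f) ι) z).2
  haveI := flat_affine hinj (U.ι ≫ f) hf
  have := (Flat.stalkMap (U.ι ≫ f) ⟨x, hxU⟩)
  rw [Scheme.Hom.stalkMap_comp] at this
  erw [CommRingCat.hom_comp] at this
  have hb := ConcreteCategory.bijective_of_isIso (U.ι.stalkMap ⟨x, hxU⟩)
  let e := RingEquiv.ofBijective _ hb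
  have he : (f.stalkMap x).hom = e.symm.toRingHom.comp (e.toRingHom.comp (f.stalkMap x).hom) := by
    refine RingHom.ext fun z => ?_
    show _ = e.symm (e ((f.stalkMap x).hom z))
    exact (e.symm_apply_apply _).symm
  rw [he]
  exact this.comp (RingHom.Flat.of_bijective e.symm.bijective)

end Groth.Agent.S2564
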