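import Groth.Statements.S2565
import Groth.Agent.FlatUnib.Chart
import Groth.Agent.S2750
import Groth.Agent.Hens.Local

set_option autoImplicit false
open CategoryTheory AlgebraicGeometry
universe u
open EGA43

set_option linter.style.haveILetI false

namespace Groth.Agent.S2565

open CategoryTheory.Limits in
/-- Let A be a local domain which is geometrically unibranch, A' a local ring and A ⟶ A' an injective
local homomorphism. Let f : X ⟶ Spec A be locally of finite presentation, x a point of X over the
closed point, and X' = X ×_{Spec A} Spec A'. If there is a point x' of X' lying over x and over the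
closed point of Spec A' at which X' ⟶ Spec A' is flat, then f is flat at x. -/
theorem result {A A' : Type u} [CommRing A] [IsDomain A] [IsLocalRing A]
    (hA : CAlg2.IsGeomUnibranch A) [CommRing A'] [IsLocalRing A'] [Algebra A A'] [IsLocalHom (algebraMap A A')]
    (hinj : Function.Injective (algebraMap A A'))
    {X : Scheme.{u}} (f : X ⟶ Spec (CommRingCat.of A)) [LocallyOfFinitePresentation f] (x : X)
    (hx : f.base x = IsLocalRing.closedPoint A)
    (h : ∃ x' : ↥(pullback f (Spec.map (CommRingCat.ofHom (algebraMap A A')))),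
      (pullback.fst f _).base x' = x ∧
      (pullback.snd f (Spec.map (CommRingCat.ofHom (algebraMap A A')))).base x' = IsLocalRing.closedPoint A' ∧
      ((pullback.snd f (Spec.map (CommRingCat.ofHom (algebraMap A A')))).stalkMap x').hom.Flat) :
    (f.stalkMap x).hom.Flat := by
  obtain ⟨B, _, _, _, q, hq, hqm, hdown, -, hpts⟩ := Groth.Agent.FlatUnib.exists_chart (A' := A') f x hx
  haveI := hq
  haveI := hqm
  obtain ⟨x', h1, h2, h3⟩ := h
  obtain ⟨P, hP, hPq, hPm, hPflat⟩ := hpts x' h1 h2 h3
  haveI := hP
  obtain ⟨y, P', hy, hP', hqy, hP'y, hP'm, hP'flat⟩ :=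
    Groth.Agent.FlatUnib.exists_maximal_flat q P hPq hPm hPflat
  haveI := hy
  haveI : y.LiesOver (IsLocalRing.maximalIdeal A) := ⟨by
    rw [← hP'y, Ideal.under_def, Ideal.comap_comap, ← IsScalarTower.algebraMap_eq,
      IsScalarTower.algebraMap_eq A A' (TensorProduct A A' B), ← Ideal.comap_comap, hP'm, IsLocalRing.maximalIdeal_comap]⟩
  let H := Groth.Agent.Hens.StrictHenselization A
  haveI : IsLocalHom (algebraMap A H) := inferInstance
  haveI : Hensel.IsStrictHenselization A H := inferInstance
  haveI : HenselianLocalRing H := Hensel.IsStrictHenselization.henselian A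
  haveI : IsDomain H := (Groth.Agent.S2750.result A H).mp ⟨inferInstance, hA⟩
  haveI hsep : IsSepClosure (IsLocalRing.ResidueField A) (IsLocalRing.ResidueField H) :=
    Hensel.IsStrictHenselization.isSepClosure
  have hflat := Groth.Agent.FlatUnib.flatAt_of_etLike hinj
    (Groth.Agent.Hensel.isEtLike_of_isStrictHenselization A H) y
    (Or.inr ⟨IsSepClosure.sep_closed (IsLocalRing.ResidueField A), hy, P', hP', hP'y, hP'm, hP'flat⟩)
  exact hdown (((PrimeSpectrum.le_iff_specializes ⟨q, hq⟩ ⟨y, inferInstance⟩).mp hqy).mem_open
    (Groth.Agent.FlatOpen.isOpen_flatLocus A B B) hflat)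

end Groth.Agent.S2565
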