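import Groth.Statements.S2566
import Groth.Agent.FlatUnib.Chart
import Groth.Agent.S2749
import Groth.Agent.Hens.Local

set_option autoImplicit false
open CategoryTheory AlgebraicGeometry
universe u
open EGA43

set_option linter.style.haveILetI false

namespace Groth.Agent.S2566

open CategoryTheory.Limits in
/-- Let A be a local domain which is unibranch, A' a local ring and A ⟶ A' an injective local
homomorphism. Let f : X ⟶ Spec A be locally of finite presentation, x a point of X over the closed
point, and X' = X ×_{Spec A} Spec A'. If X' ⟶ Spec A' is flat at every point of X' lying over x and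
over the closed point of Spec A', then f is flat at x. -/
theorem result {A A' : Type u} [CommRing A] [IsDomain A] [IsLocalRing A]
    (hA : CAlg2.IsUnibranch A) [CommRing A'] [IsLocalRing A'] [Algebra A A'] [IsLocalHom (algebraMap A A')]
    (hinj : Function.Injective (algebraMap A A'))
    {X : Scheme.{u}} (f : X ⟶ Spec (CommRingCat.of A)) [LocallyOfFinitePresentation f] (x : X)
    (hx : f.base x = IsLocalRing.closedPoint A)
    (h : ∀ x' : ↥(pullback f (Spec.map (CommRingCat.ofHom (algebraMap A A')))),
      (pullback.fst f _).base x' = x →
      (pullback.snd f (Spec.map (CommRingCat.ofHom (algebraMap A A')))).base x' = IsLocalRing.closedPoint A' →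
      ((pullback.snd f (Spec.map (CommRingCat.ofHom (algebraMap A A')))).stalkMap x').hom.Flat) :
    (f.stalkMap x).hom.Flat := by
  obtain ⟨B, _, _, _, q, hq, hqm, hdown, hpts, -⟩ := Groth.Agent.FlatUnib.exists_chart (A' := A') f x hx
  haveI := hq
  haveI := hqm
  let H := Groth.Agent.Hens.Henselization A
  haveI : IsLocalHom (algebraMap A H) := inferInstance
  haveI : Hensel.IsHenselization A H := inferInstance
  haveI : HenselianLocalRing H := Hensel.IsHenselization.henselian A
  haveI : IsDomain H := (Groth.Agent.S2749.result A H).mp ⟨inferInstance, hA⟩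
  refine hdown (Groth.Agent.FlatUnib.flatAt_of_etLike hinj
    (Groth.Agent.Hensel.isEtLike_of_isHenselization A H) q (Or.inl ⟨?_, fun P _ h1 h2 => ?_⟩))
  · intro y
    obtain ⟨z, hz⟩ := (Groth.Agent.Hens.residueMap_henselization_bijective (R := A)).2 y
    obtain ⟨a, rfl⟩ := IsLocalRing.residue_surjective z
    exact ⟨a, hz⟩
  · obtain ⟨x', h1', h2', h3⟩ := hpts P h1 h2
    exact h3 (h x' h1' h2')

end Groth.Agent.S2566
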