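import Groth.Statements.S2567
import Groth.Agent.GRLocus.Open
import Groth.Agent.ConsPairLib.Loci
import Groth.Agent.FDesc.BaseChangeStalk

set_option autoImplicit false
open CategoryTheory AlgebraicGeometry
universe u
open EGA43

namespace Groth.Agent.S2567

open Limits TensorProduct

/-- Base change of a flat geometrically reduced morphism to a reduced affine scheme is reduced. -/
lemma isReduced_bc {A B C : CommRingCat.{u}} (φ : A ⟶ B) (ψ : A ⟶ C) [IsNoetherianRing A]
    [Flat (Spec.map φ)] [GeometricallyReduced (Spec.map φ)] [_root_.IsReduced C] :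
    AlgebraicGeometry.IsReduced (pullback (Spec.map φ) (Spec.map ψ)) := by
  letI : Algebra A B := φ.hom.toAlgebra
  letI : Algebra A C := ψ.hom.toAlgebra
  haveI : Module.Flat A B := by
    rw [← RingHom.flat_algebraMap_iff]
    exact (HasRingHomProperty.Spec_iff (P := @Flat)).1 ‹Flat (Spec.map φ)›
  have key : ∀ D : Subalgebra A C, D.FG → _root_.IsReduced (B ⊗[A] D) := by
    intro D hD
    haveI : IsNoetherianRing D := isNoetherianRing_of_fg hD
    haveI : _root_.IsReduced D := isReduced_of_injective D.val Subtype.val_injective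
    haveI : AlgebraicGeometry.IsReduced (pullback (Spec.map φ)
        (Spec.map (CommRingCat.ofHom (algebraMap A D)))) := inferInstance
    haveI := isReduced_of_isOpenImmersion (pullbackSpecIso A B D).inv
    exact (affine_isReduced_iff (CommRingCat.of (B ⊗[A] D))).1 inferInstance
  haveI : _root_.IsReduced (B ⊗[A] C) := IsReduced.tensorProduct_of_flat_of_forall_fg key
  exact isReduced_of_isOpenImmersion (pullbackSpecIso A B C).hom

/-- The same for affine schemes. -/
lemma isReduced_bc' {W D T : Scheme.{u}} [IsAffine W] [IsAffine D] [IsAffine T] (u : W ⟶ D) (t : T ⟶ D)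
    [Flat u] [GeometricallyReduced u] [IsLocallyNoetherian D] [AlgebraicGeometry.IsReduced T] :
    AlgebraicGeometry.IsReduced (pullback u t) := by
  haveI : IsLocallyNoetherian (Spec Γ(D, ⊤)) := isLocallyNoetherian_of_isOpenImmersion D.isoSpec.inv
  haveI : IsNoetherianRing Γ(D, ⊤) := isLocallyNoetherian_Spec.1 inferInstance
  haveI : Flat (Spec.map u.appTop) :=
    (MorphismProperty.arrow_mk_iso_iff @Flat (arrowIsoSpecΓOfIsAffine u)).1 ‹_›
  haveI : GeometricallyReduced (Spec.map u.appTop) :=
    (MorphismProperty.arrow_mk_iso_iff @GeometricallyReduced (arrowIsoSpecΓOfIsAffine u)).1 ‹_›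
  haveI : _root_.IsReduced Γ(T, ⊤) := inferInstance
  haveI := isReduced_bc u.appTop t.appTop
  exact isReduced_of_isOpenImmersion (pullback.map u t (Spec.map u.appTop) (Spec.map t.appTop) W.isoSpec.hom
    T.isoSpec.hom D.isoSpec.hom (Scheme.isoSpec_hom_naturality u).symm (Scheme.isoSpec_hom_naturality t).symm)

/-- The affine case: everywhere reduced fibres, reduced affine base. -/
lemma exists_reduced_nhd {X T : Scheme.{u}} [IsAffine X] [IsAffine T] [AlgebraicGeometry.IsReduced T]
    (f : X ⟶ T) [Flat f] [LocallyOfFinitePresentation f] (x : X) (hx : x ∈ GRLocus.locus f) :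
    _root_.IsReduced (X.presheaf.stalk x) := by
  obtain ⟨I, _, _, D, c, e, ⟨hc⟩, _, _⟩ := ConsPairLib.exists_noetherian_limit Γ(T, ⊤)
  haveI : IsAffine c.pt := .of_isIso e.hom
  let i : T ≅ c.pt := T.isoSpec ≪≫ e.symm
  let f' : X ⟶ c.pt := f ≫ i.hom
  haveI : AlgebraicGeometry.IsReduced c.pt := isReduced_of_isOpenImmersion i.inv
  have hx' : x ∈ GRLocus.locus f' :=
    (GRLocus.mem_locus_restrict_iff (f := f) (f' := f') (j := 𝟙 X) (i := i.inv)
      (by simp [f']) x).2 hx
  obtain ⟨i₀, X₀, u₀, g₀, a₀, b₀, c₀, s₀⟩ := LimLib.hasModel hc f'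
  haveI := a₀
  haveI := b₀
  haveI := c₀
  obtain ⟨i₁, φ₁, hfl⟩ := FlatDescends.descends_flat D c hc (fun i j a => inferInstance)
    (fun i => inferInstance) (fun i => inferInstance) i₀ X₀ u₀ inferInstance inferInstance a₀ X g₀ f' s₀
    (show Flat f' from inferInstance)
  let u₁ := pullback.snd u₀ (D.map φ₁)
  haveI : Flat u₁ := hfl
  let g₁ : X ⟶ pullback u₀ (D.map φ₁) := pullback.lift g₀ (f' ≫ c.π.app i₁)
    (by rw [Category.assoc]; exact s₀.w.trans (congrArg (f' ≫ ·) (c.w φ₁).symm))
  have s₁ : IsPullback g₁ f' u₁ (c.π.app i₁) :=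
    IsPullback.of_right (by simpa only [g₁, pullback.lift_fst, c.w] using s₀) (pullback.lift_snd _ _ _)
      (IsPullback.of_hasPullback u₀ (D.map φ₁))
  obtain ⟨W, hW, hxW, hWO⟩ := exists_isAffineOpen_mem_and_subset (x := g₁ x)
    (U := ⟨GRLocus.locus u₁, GRLocus.isOpen_locus u₁⟩) (SecComp.isGeomReducedAt_descend s₁ x hx')
  haveI : IsAffine W.toScheme := hW
  haveI : GeometricallyReduced (W.ι ≫ u₁) := by
    rw [GeometricallyReduced.eq_geometrically, geometrically_iff_forall_fiberToSpecResidueField]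
    intro y
    have := GRLocus.geometricallyReduced_of_forall ((W.ι ≫ u₁).fiberToSpecResidueField y) fun v =>
      GRLocus.isGeomReducedAt_fiber_of (W.ι ≫ u₁) _
        (((W.ι ≫ u₁).range_fiberι y).le (Set.mem_range_self v))
        ((GRLocus.mem_locus_restrict_iff (f := u₁) (j := W.ι) (i := 𝟙 _) (by simp) _).2
          (hWO ((W.ι ≫ u₁).fiberι y v).2)) v rfl
    rwa [GeometricallyReduced.eq_geometrically] at this
  haveI := isReduced_bc' (T := c.pt) (W.ι ≫ u₁) (c.π.app i₁)
  have h3 : IsPullback ((g₁ ⁻¹ᵁ W).ι) (g₁ ∣_ W) g₁ W.ι := (isPullback_morphismRestrict g₁ W).flip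
  have h4 : IsPullback (g₁ ∣_ W) ((g₁ ⁻¹ᵁ W).ι ≫ f') (W.ι ≫ u₁) (c.π.app i₁) :=
    h3.flip.paste_vert s₁
  haveI : AlgebraicGeometry.IsReduced (g₁ ⁻¹ᵁ W).toScheme := isReduced_of_isOpenImmersion h4.isoPullback.hom
  exact isReduced_of_injective (asIso ((g₁ ⁻¹ᵁ W).ι.stalkMap ⟨x, hxW⟩)).commRingCatIsoToRingEquiv.toRingHom
    (asIso ((g₁ ⁻¹ᵁ W).ι.stalkMap ⟨x, hxW⟩)).commRingCatIsoToRingEquiv.injective


/-- Reduced case (the source only needs f flat and of finite presentation at the point x): let f : X ⟶ Y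
be flat and locally of finite presentation, x a point of X with y = f x. If the local ring of Y at y
is reduced and the fibre of f over y is geometrically reduced at x, then the local ring of X at x is
reduced. -/
theorem result {X Y : Scheme.{u}} (f : X ⟶ Y) [Flat f]
    [LocallyOfFinitePresentation f] (x : X) (hy : FBase.IsReducedAt Y (f.base x))
    (hx : FBase.IsGeomReducedAt (f.fiberToSpecResidueField (f.base x)) (f.asFiber x)) :
    FBase.IsReducedAt X x := by
  haveI : _root_.IsReduced (Y.presheaf.stalk (f.base x)) := hy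
  let f' := Limits.pullback.snd f (Y.fromSpecStalk (f.base x))
  let g' := Limits.pullback.fst f (Y.fromSpecStalk (f.base x))
  have sq : IsPullback g' f' f (Y.fromSpecStalk (f.base x)) := IsPullback.of_hasPullback _ _
  obtain ⟨x', hx', -⟩ := Scheme.exists_preimage_of_isPullback sq x
    (IsLocalRing.closedPoint (Y.presheaf.stalk (f.base x))) Y.fromSpecStalk_closedPoint.symm
  haveI : Flat g' := MorphismProperty.pullback_fst f _ (FDesc.BaseChangeStalk.flat_fromSpecStalk _)
  haveI : IsPreimmersion g' := MorphismProperty.pullback_fst f _ inferInstance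
  have hx1 : x' ∈ GRLocus.locus f' := SecDim.isGeomReducedAt_baseChange sq x' (hx'.symm ▸ hx)
  obtain ⟨U, hU, hxU, -⟩ := exists_isAffineOpen_mem_and_subset (x := x') (U := ⊤) trivial
  haveI : IsAffine U.toScheme := hU
  have h1 := exists_reduced_nhd (U.ι ≫ f') ⟨x', hxU⟩
    ((GRLocus.mem_locus_restrict_iff (f := f') (j := U.ι) (i := 𝟙 _) (by simp) _).2 hx1)
  haveI : _root_.IsReduced ((Limits.pullback f (Y.fromSpecStalk (f.base x))).presheaf.stalk x') :=
    isReduced_of_injective (asIso (U.ι.stalkMap ⟨x', hxU⟩)).commRingCatIsoToRingEquiv.toRingHom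
      (asIso (U.ι.stalkMap ⟨x', hxU⟩)).commRingCatIsoToRingEquiv.injective
  have := isReduced_of_injective (g'.stalkMap x').hom (GRLocus.stalkMap_bijective_of_flat g' x').1
  rwa [hx'] at this

end Groth.Agent.S2567
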