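import Groth.Statements.S2569
import Groth.Agent.ProperFib.Spread
import Mathlib.AlgebraicGeometry.Geometrically.Connected
-- import your own Groth.Agent.* helpers here

set_option autoImplicit false
open CategoryTheory AlgebraicGeometry
universe u
open EGA43

namespace Groth.Agent.S2569

set_option backward.isDefEq.respectTransparency.types false

/-- Let Y be locally Noetherian and f : X ⟶ Y separated, of finite type and universally submersive
(every base change is a topological quotient map onto its target), with all fibres geometrically
connected. If the fibre over a point y is proper over the residue field of y, then f is proper over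
some open neighbourhood of y. -/
theorem result {X Y : Scheme.{u}} [IsLocallyNoetherian Y] (f : X ⟶ Y)
    [IsSeparated f] [LocallyOfFiniteType f] [QuasiCompact f]
    (hsub : MorphismProperty.universally (topologically fun g => Topology.IsQuotientMap g) f)
    (hconn : ∀ y : Y, GeometricallyConnected (f.fiberToSpecResidueField y))
    (y : Y) (hy : IsProper (f.fiberToSpecResidueField y)) :
    ∃ U : Y.Opens, y ∈ U ∧ IsProper (f ∣_ U) := by
  have hGC : GeometricallyConnected f := (GeometricallyConnected.iff_geometricallyConnected_fiber f).2 hconn
  refine Groth.Agent.ProperFib.Spread.exists_nhd_of_meet f y hy fun P hP hPs x => ?_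
  let g := Limits.pullback.snd f (Groth.Agent.ProperFib.Spread.henPoint y)
  have hq : Topology.IsQuotientMap g :=
    hsub _ (Groth.Agent.ProperFib.Spread.henPoint y) g (IsPullback.of_hasPullback f _).flip
  by_contra hx
  -- fibres are connected, so clopen sets are saturated
  have hsat : g ⁻¹' (g '' (P : Set _)ᶜ) = (P : Set _)ᶜ := by
    refine Set.Subset.antisymm ?_ (Set.subset_preimage_image _ _)
    rintro w ⟨w', hw', hgw⟩
    have hconnw := g.isConnected_preimage_singleton (g w)
    exact hconnw.isPreconnected.subset_isClopen (IsClopen.compl ⟨hP, P.isOpen⟩) ⟨w', hgw, hw'⟩ rfl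
  have hcl : IsClosed (g '' (P : Set _)ᶜ) := by
    refine hq.isClosed_preimage.1 ?_
    rw [hsat]
    exact P.isOpen.isClosed_compl
  obtain ⟨w, hw, hws⟩ := Groth.Agent.ProperFib.Henselian.mem_of_isClosed hcl ⟨_, x, hx, rfl⟩
  exact hw (hPs w hws)

end Groth.Agent.S2569
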