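import Groth.Statements.S2571
import Groth.Agent.Fibres16.UOSect.Descent
import Groth.Agent.S0021

set_option autoImplicit false
open CategoryTheory AlgebraicGeometry
universe u
open EGA43

namespace Groth.Agent.S2571

open CategoryTheory.Limits in
/-- Let Y be locally Noetherian, f : X ⟶ Y locally of finite type, and g : Y' ⟶ Y locally of finite
type, universally open and surjective. If the base change X ×_Y Y' ⟶ Y' is an affine morphism, then
f is affine. -/
theorem result {X Y Y' : Scheme.{u}} [IsLocallyNoetherian Y]
    (f : X ⟶ Y) [LocallyOfFiniteType f] (g : Y' ⟶ Y) [LocallyOfFiniteType g] [UniversallyOpen g] [Surjective g]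
    [IsAffineHom (pullback.snd f g)] : IsAffineHom f := by
  rw [IsZariskiLocalAtTarget.iff_of_openCover (P := @IsAffineHom) Y.affineCover]
  intro i
  let ι := Y.affineCover.f i
  show IsAffineHom (pullback.snd f ι)
  haveI : IsLocallyNoetherian (Y.affineCover.X i) := isLocallyNoetherian_of_isOpenImmersion ι
  obtain ⟨Y₁, h, _, _, _, hlift⟩ := Fibres16.UOSect.exists_cover' g ι
  have haff : IsAffineHom (pullback.snd f (h ≫ ι)) :=
    Fibres16.UOSect.transfer @IsAffineHom f g inferInstance (h ≫ ι) (fun x => by
      obtain ⟨O, t, hx, ht⟩ := hlift x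
      exact ⟨O, t, hx, ht⟩)
  let q : pullback f (h ≫ ι) ⟶ pullback f ι :=
    pullback.lift (pullback.fst f (h ≫ ι)) (pullback.snd f (h ≫ ι) ≫ h) (by rw [Category.assoc, pullback.condition])
  have hq : IsPullback q (pullback.snd f (h ≫ ι)) (pullback.snd f ι) h :=
    IsPullback.of_right (by
      rw [pullback.lift_fst]
      exact IsPullback.of_hasPullback f (h ≫ ι)) (pullback.lift_snd _ _ _) (IsPullback.of_hasPullback f ι)
  haveI : IsFinite q := MorphismProperty.of_isPullback (P := @IsFinite) hq.flip inferInstance
  haveI : Surjective q := MorphismProperty.of_isPullback (P := @Surjective) hq.flip inferInstance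
  haveI : IsAffine (pullback f (h ≫ ι)) := isAffine_of_isAffineHom (pullback.snd f (h ≫ ι))
  haveI : CompactSpace ↥(pullback f ι) := q.surjective.compactSpace q.continuous
  haveI : IsLocallyNoetherian (pullback f ι) := LocallyOfFiniteType.isLocallyNoetherian (pullback.snd f ι)
  haveI : IsNoetherian (pullback f ι) := ⟨⟩
  haveI : IsAffine (pullback f ι) := S0021.result q
  infer_instance

end Groth.Agent.S2571
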