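import Groth.Statements.S4928
import Groth.Agent.OpenAt.Basic
import Groth.Agent.SecDim.Open
-- import your own Groth.Agent.* helpers here

set_option autoImplicit false
open CategoryTheory AlgebraicGeometry
universe u v w
open EGA43

namespace Groth.Agent.S4928

open Topology in
theorem isOpenAt_of_gen {P T : Scheme.{u}} (p : P ⟶ T) [LocallyOfFinitePresentation p] (x' : P)
    (h : ∀ W : P.Opens, x' ∈ W → ∀ t, t ⤳ p x' → ∃ w ∈ W, p w = t) : EGA43.IsOpenAt p.base x' := by
  intro N hN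
  obtain ⟨T₀, hT₀, hpT, -⟩ := exists_isAffineOpen_mem_and_subset (x := p x') (U := (⊤ : T.Opens)) trivial
  obtain ⟨O, hON, hO, hxO⟩ := mem_nhds_iff.mp hN
  obtain ⟨U, hU, hxU, hUO⟩ := exists_isAffineOpen_mem_and_subset (x := x') (U := p ⁻¹ᵁ T₀ ⊓ ⟨O, hO⟩) ⟨hpT, hxO⟩
  haveI : IsAffine U.toScheme := hU
  haveI : IsAffine T₀.toScheme := hT₀
  let p₀ := p.resLE T₀ U fun v hv => (hUO hv).1
  haveI : LocallyOfFinitePresentation p₀ := inferInstance
  have hp₀ : p₀ ≫ T₀.ι = U.ι ≫ p := p.resLE_comp_ι _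
  have hE : IsLocallyConstructible (Set.range p₀) := by
    rw [← Set.image_univ]
    exact p₀.isLocallyConstructible_image IsConstructible.univ.isLocallyConstructible
  let x₀ : U.toScheme := ⟨x', hxU⟩
  have hx₀ : T₀.ι (p₀ x₀) = p x' := by rw [← Scheme.Hom.comp_apply, hp₀]; rfl
  have hnhds : Set.range p₀ ∈ nhds (p₀ x₀) := by
    refine Groth.Agent.SecDim.mem_nhds_of_generizations hE fun t ht => ?_
    obtain ⟨w, hw, hwt⟩ := h U hxU (T₀.ι t) (hx₀ ▸ ht.map T₀.ι.continuous)
    refine ⟨⟨w, hw⟩, T₀.ι.isOpenEmbedding.injective ?_⟩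
    rw [← Scheme.Hom.comp_apply, hp₀, ← hwt]
    rfl
  have hsub : T₀.ι '' Set.range p₀ ⊆ p '' N := by
    rintro _ ⟨_, ⟨v, rfl⟩, rfl⟩
    exact ⟨U.ι v, hON (hUO v.2).2, by rw [← Scheme.Hom.comp_apply, ← hp₀]; rfl⟩
  exact Filter.mem_of_superset (hx₀ ▸ T₀.ι.isOpenMap.image_mem_nhds hnhds) hsub

theorem exists_stalk_lift {T Y : Scheme.{u}} (h : T ⟶ Y) (t : T) (y : Y) (e : h t = y) :
    ∃ ψ, ψ ≫ Y.fromSpecStalk y = T.fromSpecStalk t ≫ h := by
  subst e
  exact ⟨_, Scheme.SpecMap_stalkMap_fromSpecStalk h⟩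

open CategoryTheory.Limits in
/-- Let f : X ⟶ Y be locally of finite presentation, x a point of X, y = f x, and f₁ : X ×_Y Spec
O_{Y,y} ⟶ Spec O_{Y,y} the base change of f to the local scheme of Y at y. Then for every point x₁
of X ×_Y Spec O_{Y,y} projecting to x, f is universally open at x if and only if f₁ is universally
open at x₁. -/
theorem result {X Y : Scheme.{u}} (f : X ⟶ Y) [LocallyOfFinitePresentation f]
    (x : X) (x₁ : ↥(pullback f (Y.fromSpecStalk (f.base x))))
    (hx₁ : (pullback.fst f (Y.fromSpecStalk (f.base x))).base x₁ = x) :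
    EGA43.IsUnivOpenAt f x ↔ EGA43.IsUnivOpenAt (pullback.snd f (Y.fromSpecStalk (f.base x))) x₁ := by
  refine ⟨fun h => Groth.Agent.OpenAt.isUnivOpenAt_of_isPullback h (IsPullback.of_hasPullback _ _) x₁ hx₁, fun h => ?_⟩
  intro Y' g x' hx'
  haveI : LocallyOfFinitePresentation (pullback.snd f g) := inferInstance
  refine Groth.Agent.S4928.isOpenAt_of_gen (pullback.snd f g) x' fun W hxW t ht => ?_
  let p := pullback.snd f g
  let jY := Y.fromSpecStalk (f.base x)
  let j := Y'.fromSpecStalk (p x')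
  have hy : g (p x') = f.base x := by
    rw [← Scheme.Hom.comp_apply, ← pullback.condition, Scheme.Hom.comp_apply]
    exact congrArg f.base hx'
  obtain ⟨ψ, hψ⟩ := Groth.Agent.S4928.exists_stalk_lift g (p x') (f.base x) hy
  have hout : IsPullback (pullback.fst p j ≫ pullback.fst f g) (pullback.snd p j) f (ψ ≫ jY) :=
    hψ.symm ▸ (IsPullback.of_hasPullback p j).paste_horiz (IsPullback.of_hasPullback f g)
  have hS := IsPullback.of_right' hout (IsPullback.of_hasPullback f jY)
  obtain ⟨q, hq₁, hq₂⟩ := Scheme.exists_preimage_of_isPullback (IsPullback.of_hasPullback p j) x'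
    (IsLocalRing.closedPoint _) (Y'.fromSpecStalk_closedPoint).symm
  have hinj : Function.Injective (pullback.fst f jY).base :=
    (pullback.fst f jY).isEmbedding.injective
  have hopen := Groth.Agent.OpenAt.isOpenAt_of_isPullback h hS q (hinj (by
    rw [hx₁, ← Scheme.Hom.comp_apply, IsPullback.lift_fst, Scheme.Hom.comp_apply, hq₁]
    exact hx'))
  obtain ⟨s, rfl⟩ : t ∈ Set.range j := by rw [Scheme.range_fromSpecStalk]; exact ht
  have hmem := hopen ((pullback.fst p j).base ⁻¹' W) ((pullback.fst p j).continuous.continuousAt.preimage_mem_nhds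
    (W.2.mem_nhds (hq₁.symm ▸ hxW)))
  rw [show (pullback.snd p j).base q = IsLocalRing.closedPoint _ from hq₂] at hmem
  obtain ⟨O, hOsub, hO, hcO⟩ := mem_nhds_iff.mp hmem
  obtain ⟨w, hw, hws⟩ := hOsub ((IsLocalRing.specializes_closedPoint s).mem_open hO hcO)
  refine ⟨(pullback.fst p j).base w, hw, ?_⟩
  rw [← Scheme.Hom.comp_apply, pullback.condition, Scheme.Hom.comp_apply]
  exact congrArg j.base hws

end Groth.Agent.S4928
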