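import Groth.Statements.S2572
import Groth.Agent.EquidimPt.DimSum
import Groth.Agent.EGA4Lib.HomToLocal
import Groth.Agent.GUFinBC.Main
import Groth.Agent.S2556
import Groth.Agent.S4928
-- import your own Groth.Agent.* helpers here

set_option autoImplicit false
open CategoryTheory AlgebraicGeometry
universe u
open EGA43

namespace Groth.Agent.S2572

/-- Let Y be an irreducible locally Noetherian scheme whose local rings are regular of dimension at most
one, f : X ⟶ Y locally of finite type, and y a point of Y. If every irreducible component of X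
meeting the fibre over y has dense image in Y, then there is an open subset U of X containing that
fibre such that the restriction of f to U is universally open. -/
theorem result {X Y : Scheme.{u}} [IsLocallyNoetherian Y]
    [IrreducibleSpace Y]
    (hY : ∀ y : Y, IsRegularLocalRing (Y.presheaf.stalk y) ∧ ringKrullDim (Y.presheaf.stalk y) ≤ 1)
    (f : X ⟶ Y) [LocallyOfFiniteType f] (y : Y)
    (h : ∀ Z ∈ irreducibleComponents (X : Type u), (Z ∩ f.base ⁻¹' {y}).Nonempty → Dense (f.base '' Z)) :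
    ∃ U : X.Opens, f.base ⁻¹' {y} ⊆ (U : Set X) ∧ UniversallyOpen (U.ι ≫ f) := by
  have hηgen : ∀ y' : Y, y' ⤳ genericPoint Y → y' = genericPoint Y := fun y' h =>
    (h.antisymm (genericPoint_specializes y')).eq
  haveI : IsLocallyNoetherian X := LocallyOfFiniteType.isLocallyNoetherian f
  let U : X.Opens := ⟨{w | ∀ ξ, ξ ⤳ w → (∀ v, v ⤳ ξ → v = ξ) → f.base ξ = genericPoint Y}, by
    refine isOpen_iff_mem_nhds.2 fun w hw => ?_
    obtain ⟨V, hV, hwV, -⟩ := exists_isAffineOpen_mem_and_subset (x := w) (U := (⊤ : X.Opens)) trivial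
    haveI : IsAffine V.toScheme := hV
    haveI : IsLocallyNoetherian V.toScheme := isLocallyNoetherian_of_isOpenImmersion V.ι
    haveI : IsNoetherian V.toScheme := {}
    have hfin : (irreducibleComponents V.toScheme).Finite :=
      TopologicalSpace.NoetherianSpace.finite_irreducibleComponents
    haveI := hfin.to_subtype
    choose gen hgen using fun C : irreducibleComponents V.toScheme =>
      QuasiSober.sober C.2.1 (isClosed_of_mem_irreducibleComponents C.1 C.2)
    let C : Set X := ⋃ c ∈ {c ∈ Set.range (fun C => V.ι (gen C)) | f.base c ≠ genericPoint Y}, closure {c}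
    have hC : IsClosed C := ((Set.finite_range _).subset (Set.sep_subset _ _)).isClosed_biUnion fun _ _ => isClosed_closure
    have hwC : w ∉ C := fun h' => by
      obtain ⟨_, ⟨⟨C', rfl⟩, hne⟩, hc⟩ := Set.mem_iUnion₂.mp h'
      refine hne (hw _ (specializes_iff_mem_closure.2 hc) fun v hv => ?_)
      obtain ⟨v', rfl⟩ : v ∈ Set.range V.ι := by rw [Scheme.Opens.range_ι]; exact hv.mem_open V.2 (gen C').2
      exact congrArg V.ι (Groth.Agent.QSect.max_of_component C'.2 (hgen C') v' (V.ι.isEmbedding.specializes_iff.1 hv))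
    refine Filter.mem_of_superset (Filter.inter_mem (V.2.mem_nhds hwV) (hC.isOpen_compl.mem_nhds hwC)) ?_
    rintro v ⟨hvV, hvC⟩ ξ hξv hξmax
    by_contra hne
    obtain ⟨ξ', hξ'⟩ : ξ ∈ Set.range V.ι := by rw [Scheme.Opens.range_ι]; exact hξv.mem_open V.2 hvV
    obtain ⟨C', hC'⟩ : ∃ C' : irreducibleComponents V.toScheme, gen C' ⤳ ξ' :=
      ⟨⟨_, irreducibleComponent_mem_irreducibleComponents ξ'⟩,
        (hgen ⟨_, irreducibleComponent_mem_irreducibleComponents ξ'⟩).specializes mem_irreducibleComponent⟩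
    have heq : V.ι (gen C') = ξ := hξmax _ (hξ' ▸ hC'.map V.ι.continuous)
    exact hvC (Set.mem_iUnion₂.mpr ⟨ξ, ⟨⟨C', heq⟩, hne⟩, specializes_iff_mem_closure.1 hξv⟩)⟩
  refine ⟨U, fun x hx ξ hξx hξmax => ?_, ?_⟩
  · have hd := h _ (Groth.Agent.FlatOpen.EquiDim.closure_mem_irreducibleComponents hξmax)
      ⟨x, specializes_iff_mem_closure.1 hξx, hx⟩
    refine hηgen _ (specializes_iff_mem_closure.2 ?_)
    have h1 := hd (genericPoint Y)
    erw [closure_image_closure f.continuous, Set.image_singleton] at h1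
    exact h1
  have hgu : ∀ y : Y, CAlg2.IsGeomUnibranch (Y.presheaf.stalk y) := fun y => by
    haveI := (hY y).1
    obtain ⟨hd, hi⟩ := Groth.Agent.EGA4Lib.isDomain_isIC_of_isRegularLocalRing (Y.presheaf.stalk y)
    exact Groth.Agent.GUFinBC.isGeomUnibranch_of_normal _
  refine (Groth.Agent.S2556.result hgu (U.ι ≫ f)).2 (isOpenMap_iff_nhds_le.2 fun x => ?_)
  haveI : LocallyOfFinitePresentation (U.ι ≫ f) := LocallyOfFinitePresentation.iff_locallyOfFiniteType.mpr inferInstance
  intro s hs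
  refine Filter.mem_of_superset (Groth.Agent.S4928.isOpenAt_of_gen (U.ι ≫ f) x (fun W hxW t ht => ?_) _ hs)
    (Set.image_preimage_subset _ _)
  by_cases htx : t = (U.ι ≫ f) x
  · exact ⟨x, hxW, htx.symm⟩
  obtain ⟨ξ, hξx, hξmax⟩ := Groth.Agent.FlatOpen.EquiDim.exists_max (U.ι x)
  have hξη : f.base ξ = genericPoint Y := (show U.ι x ∈ U from x.2) ξ hξx hξmax
  obtain ⟨ξ', rfl⟩ : ξ ∈ Set.range U.ι := by rw [Scheme.Opens.range_ι]; exact hξx.mem_open U.2 x.2
  refine ⟨ξ', (U.ι.isEmbedding.specializes_iff.1 hξx).mem_open W.2 hxW, hξη.trans ?_⟩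
  by_contra hne
  let y₀ := (U.ι ≫ f) x
  let u₀ : {w : Y | w ⤳ y₀} := ⟨y₀, specializes_rfl⟩
  let u₁ : {w : Y | w ⤳ y₀} := ⟨t, ht⟩
  let u₂ : {w : Y | w ⤳ y₀} := ⟨genericPoint Y, genericPoint_specializes _⟩
  have h01 : u₀ < u₁ := ⟨ht, fun hh => htx (ht.antisymm (show y₀ ⤳ t from hh)).eq⟩
  have h12 : u₁ < u₂ := ⟨genericPoint_specializes t,
    fun hh => hne ((show t ⤳ genericPoint Y from hh).antisymm (genericPoint_specializes t)).eq.symm⟩
  let l : LTSeries {w : Y | w ⤳ y₀} := ((RelSeries.singleton _ u₀).snoc u₁ h01).snoc u₂ (by simpa using h12)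
  have h3 := ((Order.le_krullDim_iff.mpr ⟨l, rfl⟩ : ((l.length : ℕ) : WithBot ℕ∞) ≤ _).trans_eq
    (Groth.Agent.FibSemi.ringKrullDim_stalk_eq y₀).symm).trans (hY y₀).2
  exact absurd h3 (by simp [l])

end Groth.Agent.S2572
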