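import Groth.Statements.S2591
import Groth.Agent.FreeStrat.Basic
import Groth.Agent.FlatOpen.API
import Groth.Agent.FlatOpen.Slice

set_option autoImplicit false
open TensorProduct
universe u
open EGA43

namespace Groth.Agent.S2591

open TensorProduct Groth.Agent.FlatOpen in
set_option maxHeartbeats 1000000 in
/-- A flat finitely presented module comes from a flat one over a Noetherian subring. -/
theorem exists_model {A B : Type u} [CommRing A] [CommRing B] [Algebra A B] [Algebra.FinitePresentation A B]
    (M : Type u) [AddCommGroup M] [Module B M] [Module A M] [IsScalarTower A B M] [Module.FinitePresentation B M]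
    [Module.Flat A M] :
    ∃ (R : Type u) (_ : CommRing R) (_ : IsNoetherianRing R) (_ : Algebra R A) (n r : ℕ)
      (Z : Submodule (MvPolynomial (Fin n) R) (Vec n r R)) (_ : Module.Flat R (Vec n r R ⧸ Z)),
      Function.Injective (algebraMap R A) ∧ Nonempty ((A ⊗[R] (Vec n r R ⧸ Z)) ≃ₗ[A] M) := by
  obtain ⟨n, r, R₀, Z₀, π, E, hfg, hπ, hE⟩ := exists_presentation_model A B M
  haveI : IsNoetherianRing R₀ := isNoetherianRing_of_fg hfg
  haveI : Module.Flat A (Quot A Z₀) := Module.Flat.of_linearEquiv E
  obtain ⟨R₁, hR₁, hflat⟩ := exists_model_flat_all Z₀ A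
  haveI : IsNoetherianRing R₁ := isNoetherianRing_of_fg hR₁
  refine ⟨R₁, inferInstance, inferInstance, inferInstance, n, r, ext R₁ Z₀, hflat, Subtype.val_injective, ⟨?_⟩⟩
  exact ((quotEquiv A (ext R₁ Z₀)).trans
    ((Submodule.quotEquivOfEq _ _ (ext_ext A Z₀ R₁)).restrictScalars A)).trans E

/-- Let A be a commutative ring, B a finitely presented A-algebra and M a finitely presented B-module
which is flat over A. Then there are finitely many elements f₁, …, fₙ of A generating the unit ideal
such that, for each i < n, writing A' for the localization of A at f_{i+1} modulo the ideal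
generated by f₁, …, fᵢ, the module A' ⊗_A M is free over A'. -/
theorem result {A B : Type u} [CommRing A] [CommRing B] [Algebra A B]
    [Algebra.FinitePresentation A B] (M : Type u) [AddCommGroup M] [Module B M] [Module A M] [IsScalarTower A B M]
    [Module.FinitePresentation B M] [Module.Flat A M] :
    ∃ l : List A, Ideal.span {a | a ∈ l} = ⊤ ∧
      ∀ (i : ℕ) (hi : i < l.length),
        letI J : Ideal (Localization.Away l[i]) :=
          (Ideal.span {a | a ∈ l.take i}).map (algebraMap A (Localization.Away l[i]))
        Module.Free (Localization.Away l[i] ⧸ J) ((Localization.Away l[i] ⧸ J) ⊗[A] M) := by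
  obtain ⟨R, _, _, _, n, r, Z, hflat, -, ⟨E⟩⟩ := exists_model (A := A) (B := B) M
  obtain ⟨l, hl, hfree⟩ := Groth.Agent.FreeStrat.exists_stratification Z ⊥
  refine ⟨l.map (algebraMap R A), ?_, fun i hi => ?_⟩
  · rw [bot_sup_eq] at hl
    have h := congrArg (Ideal.map (algebraMap R A)) hl
    rw [Ideal.map_top, Ideal.map_span] at h
    rw [← h]
    congr 1
    ext a
    simp
  · let J : Ideal (Localization.Away (l.map (algebraMap R A))[i]) :=
      (Ideal.span {a | a ∈ (l.map (algebraMap R A)).take i}).map
        (algebraMap A (Localization.Away (l.map (algebraMap R A))[i]))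
    have hi' : i < l.length := by simpa using hi
    have hget : (l.map (algebraMap R A))[i] = algebraMap R A l[i] := by simp
    let A' := Localization.Away (l.map (algebraMap R A))[i] ⧸ J
    have hu : IsUnit (algebraMap R A' l[i]) := by
      rw [IsScalarTower.algebraMap_apply R A A', ← hget]
      exact (IsLocalization.Away.algebraMap_isUnit (S := Localization.Away (l.map (algebraMap R A))[i])
        (l.map (algebraMap R A))[i]).map (Ideal.Quotient.mk J)
    have hbot : (⊥ ⊔ Ideal.span {a | a ∈ l.take i}).map (algebraMap R A') = ⊥ := by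
      rw [bot_sup_eq, Ideal.map_span, eq_bot_iff, Ideal.span_le]
      rintro _ ⟨a, ha, rfl⟩
      rw [SetLike.mem_coe, Ideal.mem_bot, IsScalarTower.algebraMap_apply R A A']
      refine Ideal.Quotient.eq_zero_iff_mem.2 (Ideal.mem_map_of_mem _ (Ideal.subset_span ?_))
      show algebraMap R A a ∈ (l.map (algebraMap R A)).take i
      rw [← List.map_take]
      exact List.mem_map.2 ⟨a, ha, rfl⟩
    haveI := hfree i hi' A' hu hbot
    exact Module.Free.of_equiv ((TensorProduct.AlgebraTensorModule.cancelBaseChange R A A' A' _).symm.trans
      (TensorProduct.AlgebraTensorModule.congr (LinearEquiv.refl A' A') E))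

end Groth.Agent.S2591
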