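import Groth.Statements.S2573
import Groth.Agent.FreeStrat.Basic
import Groth.Agent.FlatOpen.API
import Groth.Agent.FlatOpen.Slice
import Groth.Agent.S2591

set_option autoImplicit false
universe u
open EGA43

namespace Groth.Agent.S2573

/-- Let A be a commutative ring whose spectrum is irreducible, with unique minimal prime p, let B be a
finitely presented A-algebra and M a finitely presented B-module. If the localization M_p is flat
over A_p, then there is t ∉ p such that M_t is a free A_t-module. -/
theorem result {A B : Type u} [CommRing A] [CommRing B] [Algebra A B]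
    [Algebra.FinitePresentation A B] (p : Ideal A) [p.IsPrime] (hp : minimalPrimes A = {p})
    (M : Type u) [AddCommGroup M] [Module B M] [Module A M] [IsScalarTower A B M] [Module.FinitePresentation B M]
    (hflat : Module.Flat (Localization.AtPrime p) (LocalizedModule p.primeCompl M)) :
    ∃ t : A, t ∉ p ∧ Module.Free (Localization.Away t) (LocalizedModule (Submonoid.powers t) M) := by
  classical
  -- flatness at primes over `p`
  haveI := hflat
  haveI hMp : Module.Flat A (LocalizedModule p.primeCompl M) :=
    Module.Flat.trans A (Localization.AtPrime p) _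
  have hnil : p = nilradical A := by
    rw [nilradical, ← Ideal.sInf_minimalPrimes]
    change p = sInf (minimalPrimes A)
    rw [hp, sInf_singleton]
  have hover : ∀ (Q : Ideal B) [Q.IsPrime], Q.comap (algebraMap A B) ≤ p → FlatCA.FlatAt A Q M := by
    intro Q _ hQ
    change Module.Flat A (LocalizedModule Q.primeCompl M)
    rw [Module.Flat.iff_lTensor_preserves_injective_linearMap]
    intro X Y _ _ _ _ a ha
    refine Groth.Agent.FlatOpen.lTensor_localized_injective Q.primeCompl a fun x hx => ?_
    let mX := TensorProduct.AlgebraTensorModule.rTensor A X (LocalizedModule.mkLinearMap p.primeCompl M)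
    haveI : IsLocalizedModule p.primeCompl mX := inferInstance
    have hinj : Function.Injective (a.lTensor (LocalizedModule p.primeCompl M)) :=
      Module.Flat.lTensor_preserves_injective_linearMap a ha
    have hc : ∀ z, a.lTensor _ (mX z) =
        TensorProduct.AlgebraTensorModule.rTensor A Y (LocalizedModule.mkLinearMap p.primeCompl M) (a.lTensor M z) := by
      intro z
      induction z with
      | zero => simp only [map_zero]
      | tmul m y => simp [mX]
      | add u v hu hv => simp only [map_add, hu, hv]
    have h0 : mX x = 0 := hinj (by rw [hc, hx, map_zero, map_zero])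
    obtain ⟨⟨s, hs⟩, hsx⟩ := (IsLocalizedModule.eq_zero_iff p.primeCompl mX).1 h0
    refine ⟨⟨algebraMap A B s, fun hm => hs (hQ hm)⟩, ?_⟩
    exact (algebraMap_smul B s x).trans hsx
  -- an element inverting the non-flat locus
  obtain ⟨I, hI⟩ := (PrimeSpectrum.isClosed_iff_zeroLocus_ideal _).1
    (Groth.Agent.FlatOpen.isOpen_flatLocus A B M).isClosed_compl
  obtain ⟨t, htp, htI⟩ : ∃ t : A, t ∉ p ∧ algebraMap A B t ∈ I := by
    by_contra hc
    push Not at hc
    obtain ⟨Q, hQ, hIQ, hdis⟩ := Ideal.exists_le_prime_disjoint I (p.primeCompl.map (algebraMap A B))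
      (Set.disjoint_left.2 fun x hx => by
        rintro ⟨s, hs, rfl⟩
        exact hc s hs hx)
    have hle : Q.comap (algebraMap A B) ≤ p := fun s hs => by
      by_contra hsp
      exact Set.disjoint_left.1 hdis hs ⟨s, hsp, rfl⟩
    have hz : (⟨Q, hQ⟩ : PrimeSpectrum B) ∈ PrimeSpectrum.zeroLocus (I : Set B) := hIQ
    rw [← hI] at hz
    exact hz (hover Q hle)
  let g : B := algebraMap A B t
  let T := Submonoid.powers g
  let M' := LocalizedModule T M
  have hflat' : Module.Flat A M' := by
    refine Groth.Agent.FlatOpen.flat_of_flatAt_basicOpen g (LocalizedModule.mkLinearMap T M) fun P _ hP => ?_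
    by_contra hn
    have hz : (⟨P, inferInstance⟩ : PrimeSpectrum B) ∈ PrimeSpectrum.zeroLocus (I : Set B) := hI ▸ hn
    exact hP (hz htI)
  haveI : Algebra.FinitePresentation B (Localization T) := IsLocalization.Away.finitePresentation g
  haveI : Algebra.FinitePresentation A (Localization T) := Algebra.FinitePresentation.trans A B _
  obtain ⟨R, _, _, _, n, r, Z, hZ, hinjR, ⟨E⟩⟩ :=
    Groth.Agent.S2591.exists_model (A := A) (B := Localization T) M'
  let P : Ideal R := p.comap (algebraMap R A)
  have hPmin : P ∈ (⊥ : Ideal R).minimalPrimes := by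
    refine ⟨⟨inferInstance, bot_le⟩, fun Q hQ _ x hx => ?_⟩
    have hx' : algebraMap R A x ∈ nilradical A := hnil ▸ hx
    obtain ⟨k, hk⟩ := mem_nilradical.1 hx'
    rw [← map_pow] at hk
    have : x ^ k = 0 := hinjR (hk.trans (map_zero _).symm)
    exact hQ.1.mem_of_pow_mem k (this ▸ Q.zero_mem)
  obtain ⟨f, hf, hfree⟩ := Groth.Agent.FreeStrat.exists_free_at_minimal Z ⊥ P hPmin
  let t' := t * algebraMap R A f
  have ht' : t' ∉ p := fun hm => (Ideal.IsPrime.mem_or_mem inferInstance hm).elim htp hf
  refine ⟨t', ht', ?_⟩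
  let A' := Localization.Away t'
  have hu : IsUnit (algebraMap A A' t) ∧ IsUnit (algebraMap A A' (algebraMap R A f)) := by
    rw [← IsUnit.mul_iff, ← map_mul]
    exact IsLocalization.Away.algebraMap_isUnit t'
  haveI := hfree A' (by rw [IsScalarTower.algebraMap_apply R A A']; exact hu.2) Ideal.map_bot
  -- `M'` localised further
  let L := LocalizedModule (Submonoid.powers t') M
  let h : M →ₗ[A] M' := (LocalizedModule.mkLinearMap T M).restrictScalars A
  haveI : IsLocalizedModule (Submonoid.powers t) h := by
    apply Groth.Agent.FlatOpen.isLocalizedModule_restrict (Submonoid.powers t) T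
    rw [Algebra.algebraMapSubmonoid_powers]
  have hunit : ∀ x : Submonoid.powers t, IsUnit ((algebraMap A (Module.End A L)) x) := by
    rintro ⟨_, k, rfl⟩
    rw [map_pow]
    refine IsUnit.pow k ?_
    have := IsLocalizedModule.map_units (LocalizedModule.mkLinearMap (Submonoid.powers t') M)
      ⟨t', Submonoid.mem_powers _⟩
    rw [map_mul, Commute.isUnit_mul_iff (Algebra.commutes _ _)] at this
    exact this.1
  let γ : M' →ₗ[A] L := IsLocalizedModule.lift (Submonoid.powers t) h
    (LocalizedModule.mkLinearMap (Submonoid.powers t') M) hunit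
  have hγ : ∀ m, γ (h m) = LocalizedModule.mkLinearMap (Submonoid.powers t') M m := fun m =>
    IsLocalizedModule.lift_apply _ _ _ _ m
  haveI : IsLocalizedModule (Submonoid.powers t') γ := by
    refine ⟨IsLocalizedModule.map_units (LocalizedModule.mkLinearMap (Submonoid.powers t') M), fun y => ?_,
      fun {x₁ x₂} hx => ?_⟩
    · obtain ⟨⟨m, s⟩, hm⟩ := IsLocalizedModule.surj (Submonoid.powers t')
        (LocalizedModule.mkLinearMap (Submonoid.powers t') M) y
      exact ⟨⟨h m, s⟩, hm.trans (hγ m).symm⟩
    · obtain ⟨⟨m₁, ⟨_, a, rfl⟩⟩, hm₁⟩ := IsLocalizedModule.surj (Submonoid.powers t) h x₁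
      obtain ⟨⟨m₂, ⟨_, b, rfl⟩⟩, hm₂⟩ := IsLocalizedModule.surj (Submonoid.powers t) h x₂
      rw [Submonoid.smul_def] at hm₁ hm₂
      simp only at hm₁ hm₂
      have heq : LocalizedModule.mkLinearMap (Submonoid.powers t') M (t ^ b • m₁) =
          LocalizedModule.mkLinearMap (Submonoid.powers t') M (t ^ a • m₂) := by
        rw [map_smul, map_smul, ← hγ, ← hγ, ← hm₁, ← hm₂, map_smul, map_smul, hx, smul_comm]
      obtain ⟨⟨_, c, rfl⟩, hc⟩ := IsLocalizedModule.exists_of_eq (S := Submonoid.powers t') heq
      rw [Submonoid.smul_def, Submonoid.smul_def] at hc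
      simp only at hc
      refine ⟨⟨t' ^ (c + (a + b)), _, rfl⟩, ?_⟩
      rw [Submonoid.smul_def, Submonoid.smul_def]
      have key : t' ^ c • t ^ (a + b) • x₁ = t' ^ c • t ^ (a + b) • x₂ := by
        calc t' ^ c • t ^ (a + b) • x₁ = t' ^ c • t ^ b • t ^ a • x₁ := by rw [pow_add, mul_comm, mul_smul]
          _ = h (t' ^ c • t ^ b • m₁) := by rw [hm₁, map_smul, map_smul]
          _ = h (t' ^ c • t ^ a • m₂) := by rw [hc]
          _ = t' ^ c • t ^ a • t ^ b • x₂ := by rw [hm₂, map_smul, map_smul]
          _ = t' ^ c • t ^ (a + b) • x₂ := by rw [pow_add, mul_smul]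
      show t' ^ (c + (a + b)) • x₁ = t' ^ (c + (a + b)) • x₂
      have e : t' ^ (c + (a + b)) = algebraMap R A f ^ (a + b) * (t' ^ c * t ^ (a + b)) := by
        simp only [t', pow_add, mul_pow]; ring
      rw [e, mul_smul, mul_smul, key, ← mul_smul (t' ^ c), ← mul_smul]
  have hb : IsBaseChange A' γ := IsLocalizedModule.isBaseChange (Submonoid.powers t') A' γ
  exact Module.Free.of_equiv (((TensorProduct.AlgebraTensorModule.cancelBaseChange R A A' A' _).symm.trans
    (TensorProduct.AlgebraTensorModule.congr (LinearEquiv.refl A' A') E)).trans hb.equiv)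

end Groth.Agent.S2573
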