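import Groth.Statements.S2586
import Groth.Agent.FlatOpen.MapOpen
import Groth.Agent.Wt.CMSlice
import Mathlib.RingTheory.Regular.RegularSequence

set_option autoImplicit false
open TensorProduct
universe u
open EGA43

namespace Groth.Agent.S2586

open TensorProduct in
/-- The kernel and image of `m ↦ m ⊗ 1` in a fibre. -/
theorem fibre_kernel {A : Type u} [CommRing A] (p : Ideal A) [p.IsPrime] (M : Type u) [AddCommGroup M] [Module A M] :
    (∀ m : M, (m ⊗ₜ[A] (1 : p.ResidueField)) = 0 → ∃ a ∉ p, a • m ∈ p • (⊤ : Submodule A M)) ∧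
      ∀ z : M ⊗[A] p.ResidueField, ∃ a ∉ p, ∃ m : M, a • z = m ⊗ₜ[A] (1 : p.ResidueField) := by
  let g : (A ⧸ p) →ₗ[A] p.ResidueField := (IsScalarTower.toAlgHom A (A ⧸ p) p.ResidueField).toLinearMap
  haveI : IsLocalizedModule p.primeCompl g := by
    rw [isLocalizedModule_iff_isLocalization]
    have h : Algebra.algebraMapSubmonoid (A ⧸ p) p.primeCompl = nonZeroDivisors (A ⧸ p) := by
      ext x
      rw [mem_nonZeroDivisors_iff_ne_zero]
      constructor
      · rintro ⟨a, ha, rfl⟩ h0
        exact ha (Ideal.Quotient.eq_zero_iff_mem.1 h0)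
      · intro hx
        obtain ⟨a, rfl⟩ := Ideal.Quotient.mk_surjective x
        exact ⟨a, fun ha => hx (Ideal.Quotient.eq_zero_iff_mem.2 ha), rfl⟩
    rw [h]
    infer_instance
  let gM := TensorProduct.AlgebraTensorModule.rTensor A M g
  haveI : IsLocalizedModule p.primeCompl gM := inferInstance
  let e := TensorProduct.quotTensorEquivQuotSMul M p
  have he : ∀ m : M, e ((1 : A ⧸ p) ⊗ₜ[A] m) = Submodule.Quotient.mk m := fun m => by
    rw [← map_one (Ideal.Quotient.mk p), TensorProduct.quotTensorEquivQuotSMul_mk_tmul, one_smul]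
  have hg : ∀ m : M, TensorProduct.comm A _ _ (gM ((1 : A ⧸ p) ⊗ₜ[A] m)) = m ⊗ₜ[A] (1 : p.ResidueField) := fun m => by
    simp [gM, g]
  refine ⟨fun m hm => ?_, fun z => ?_⟩
  · rw [← hg, LinearEquiv.map_eq_zero_iff] at hm
    obtain ⟨⟨a, ha⟩, hau⟩ := (IsLocalizedModule.eq_zero_iff p.primeCompl gM).1 hm
    refine ⟨a, ha, ?_⟩
    rw [← Submodule.Quotient.mk_eq_zero, Submodule.Quotient.mk_smul, ← he, ← map_smul]
    exact (congrArg e hau).trans (map_zero e)
  · obtain ⟨⟨w, ⟨a, ha⟩⟩, hw⟩ := IsLocalizedModule.surj p.primeCompl gM ((TensorProduct.comm A _ _).symm z)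
    obtain ⟨m, hm⟩ := Submodule.Quotient.mk_surjective _ (e w)
    rw [← he] at hm
    refine ⟨a, ha, m, ?_⟩
    rw [← hg, e.injective hm, ← hw, Submonoid.smul_def, map_smul, LinearEquiv.apply_symm_apply]

/-- Clearing denominators in `I • N`. -/
theorem exists_smul_eq_of_mem {B : Type u} [CommRing B] (T : Submonoid B) {M N : Type u} [AddCommGroup M]
    [Module B M] [AddCommGroup N] [Module B N] (φ : M →ₗ[B] N)
    (hφ : ∀ z : N, ∃ s ∈ T, ∃ m : M, s • z = φ m) (I : Ideal B) (x : N) (hx : x ∈ I • (⊤ : Submodule B N)) :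
    ∃ s ∈ T, ∃ m ∈ I • (⊤ : Submodule B M), s • x = φ m := by
  refine Submodule.smul_induction_on hx (fun b hb z _ => ?_) ?_
  · obtain ⟨s, hs, m, hm⟩ := hφ z
    exact ⟨s, hs, b • m, Submodule.smul_mem_smul hb trivial, by rw [smul_comm, hm, map_smul]⟩
  · rintro u v ⟨s, hs, m, hm, hu⟩ ⟨s', hs', m', hm', hv⟩
    refine ⟨s' * s, T.mul_mem hs' hs, s' • m + s • m', add_mem (Submodule.smul_mem _ _ hm)
      (Submodule.smul_mem _ _ hm'), ?_⟩
    rw [smul_add, mul_smul, hu, mul_smul, smul_comm s' s v, hv, map_add, map_smul, map_smul]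

/-- Let A ⟶ B be a ring map with B finitely presented over A, M a finitely presented B-module, q a prime
of B with contraction p, and g₁, …, gₙ elements of q. Suppose the localization M_q is flat over A
and the gᵢ form a regular sequence on the localization at q of the fibre module M ⊗_A κ(p). Then the
gᵢ form a regular sequence on M_q, and for every i the localization at q of M/(g₁, …, gᵢ)M is flat
over A. -/
theorem result {A B : Type u} [CommRing A] [CommRing B] [Algebra A B]
    [Algebra.FinitePresentation A B] (M : Type u) [AddCommGroup M] [Module B M] [Module A M] [IsScalarTower A B M]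
    [Module.FinitePresentation B M] (q : Ideal B) [q.IsPrime] (g : List B) (hg : ∀ b ∈ g, b ∈ q)
    (hflat : Module.Flat A (LocalizedModule q.primeCompl M))
    (hreg : RingTheory.Sequence.IsRegular
      (LocalizedModule q.primeCompl (M ⊗[A] (q.comap (algebraMap A B)).ResidueField)) g) :
    RingTheory.Sequence.IsRegular (LocalizedModule q.primeCompl M) g ∧
      ∀ i ≤ g.length, Module.Flat A
        (LocalizedModule q.primeCompl (M ⧸ (Ideal.span {b | b ∈ g.take i} • (⊤ : Submodule B M)))) := by
  classical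
  let p := q.comap (algebraMap A B)
  obtain ⟨hker, hsurj⟩ := fibre_kernel p M
  let F := M ⊗[A] p.ResidueField
  let N := LocalizedModule q.primeCompl F
  let ι : M →ₗ[B] F :=
    { toFun := fun m => m ⊗ₜ[A] (1 : p.ResidueField)
      map_add' := fun m m' => add_tmul m m' 1
      map_smul' := fun b m => by rw [RingHom.id_apply, smul_tmul'] }
  let φ : M →ₗ[B] N := (LocalizedModule.mkLinearMap q.primeCompl F).comp ι
  have hφ : ∀ z : N, ∃ s ∈ q.primeCompl, ∃ m : M, s • z = φ m := by
    intro z
    obtain ⟨⟨w, ⟨s, hs⟩⟩, hw⟩ := IsLocalizedModule.surj q.primeCompl (LocalizedModule.mkLinearMap q.primeCompl F) z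
    obtain ⟨a, ha, m, hm⟩ := hsurj w
    refine ⟨algebraMap A B a * s, Submonoid.mul_mem _ ha hs, m, ?_⟩
    rw [Submonoid.smul_def] at hw
    rw [mul_smul, hw, ← map_smul, algebraMap_smul, hm]
    rfl
  have hJ : ∀ m ∈ p.map (algebraMap A B) • (⊤ : Submodule B M), φ m = 0 := by
    intro m hm
    have hle : p.map (algebraMap A B) • (⊤ : Submodule B M) ≤ LinearMap.ker φ := by
      rw [Submodule.smul_le]
      intro b hb m _
      rw [LinearMap.mem_ker]
      induction hb using Submodule.span_induction generalizing m with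
      | mem x hx =>
        obtain ⟨a, ha, rfl⟩ := hx
        show LocalizedModule.mkLinearMap q.primeCompl F ((algebraMap A B a • m) ⊗ₜ[A] (1 : p.ResidueField)) = 0
        rw [algebraMap_smul, smul_tmul, ← Algebra.algebraMap_eq_smul_one,
          Ideal.algebraMap_residueField_eq_zero.2 ha, tmul_zero, map_zero]
      | zero => rw [zero_smul, map_zero]
      | add x y _ _ hx hy => rw [add_smul, map_add, hx m trivial, hy m trivial, add_zero]
      | smul c x _ hx => rw [smul_eq_mul, mul_smul, map_smul, hx m trivial, smul_zero]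
    exact hle hm
  have hφ0 : ∀ m : M, φ m = 0 → ∃ s ∉ q, s • m ∈ p.map (algebraMap A B) • (⊤ : Submodule B M) := by
    intro m hm
    obtain ⟨⟨s, hs⟩, hsm⟩ := (IsLocalizedModule.eq_zero_iff q.primeCompl (LocalizedModule.mkLinearMap q.primeCompl F)).1 hm
    obtain ⟨a, ha, ham⟩ := hker (s • m) ((map_smul ι s m).trans hsm)
    refine ⟨algebraMap A B a * s, (Submonoid.mul_mem q.primeCompl ha hs :), ?_⟩
    rw [mul_smul, algebraMap_smul]
    have hle : p • (⊤ : Submodule A M) ≤ (p.map (algebraMap A B) • (⊤ : Submodule B M)).restrictScalars A :=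
      Submodule.smul_le.2 fun r hr x _ => by
        rw [Submodule.restrictScalars_mem, ← algebraMap_smul B r x]
        exact Submodule.smul_mem_smul (Ideal.mem_map_of_mem _ hr) trivial
    exact hle ham
  let Mk : ℕ → Type u := fun i => M ⧸ (Ideal.ofList (g.take i) • (⊤ : Submodule B M))
  have hfp : ∀ i, Module.FinitePresentation B (Mk i) := fun i =>
    Module.finitePresentation_of_surjective (Submodule.mkQ _) (Submodule.mkQ_surjective _) (by
      rw [Submodule.ker_mkQ]
      exact Submodule.FG.smul (Submodule.fg_span (List.finite_toSet _)) Module.Finite.fg_top)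
  have hfib : ∀ (i : ℕ) (hi : i < g.length) (m : Mk i),
      (LinearMap.lsmul B (Mk i) g[i]) m ∈ p.map (algebraMap A B) • (⊤ : Submodule B (Mk i)) →
        ∃ s ∉ q, s • m ∈ p.map (algebraMap A B) • (⊤ : Submodule B (Mk i)) := by
    intro i hi m hm
    obtain ⟨m, rfl⟩ := Submodule.Quotient.mk_surjective _ m
    have hJI : ∀ x : M, (Submodule.Quotient.mk x : Mk i) ∈ p.map (algebraMap A B) • (⊤ : Submodule B (Mk i)) ↔
        x ∈ p.map (algebraMap A B) • (⊤ : Submodule B M) ⊔ Ideal.ofList (g.take i) • (⊤ : Submodule B M) := fun x => by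
      rw [← Submodule.range_mkQ, ← Submodule.map_top, ← Submodule.map_smul'', ← Submodule.mkQ_apply,
        ← Submodule.mem_comap, Submodule.comap_map_mkQ, sup_comm]
    rw [LinearMap.lsmul_apply, ← Submodule.Quotient.mk_smul, hJI, Submodule.mem_sup] at hm
    obtain ⟨y, hy, z, hz, hyz⟩ := hm
    have h1 : g[i] • φ m ∈ Ideal.ofList (g.take i) • (⊤ : Submodule B N) := by
      rw [← map_smul, ← hyz, map_add, hJ y hy, zero_add]
      exact Submodule.smul_top_le_comap_smul_top _ φ hz
    have h2 : φ m ∈ Ideal.ofList (g.take i) • (⊤ : Submodule B N) := by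
      rw [← Submodule.Quotient.mk_eq_zero]
      refine hreg.toIsWeaklyRegular.regular_mod_prev i hi ?_
      show g[i] • (Submodule.Quotient.mk (φ m) : N ⧸ Ideal.ofList (g.take i) • (⊤ : Submodule B N)) = g[i] • 0
      rw [smul_zero, ← Submodule.Quotient.mk_smul, Submodule.Quotient.mk_eq_zero]
      exact h1
    obtain ⟨s, hs, m', hm', hsm⟩ := exists_smul_eq_of_mem q.primeCompl φ hφ _ _ h2
    obtain ⟨s', hs', hd⟩ := hφ0 (s • m - m') (by rw [map_sub, map_smul, hsm, sub_self])
    refine ⟨s' * s, (Submonoid.mul_mem q.primeCompl hs' hs :), ?_⟩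
    rw [← Submodule.Quotient.mk_smul, hJI, mul_smul,
      show s' • s • m = s' • (s • m - m') + s' • m' by rw [smul_sub, sub_add_cancel]]
    exact Submodule.add_mem_sup hd (Submodule.smul_mem _ _ hm')
  have hflats : ∀ i, i ≤ g.length → FlatCA.FlatAt A q (Mk i) := by
    intro i
    induction i with
    | zero =>
      intro _
      exact Groth.Agent.Wt.CMSlice.flatAt_of_linearEquiv
        (Submodule.quotEquivOfEqBot (Ideal.ofList (g.take 0) • (⊤ : Submodule B M))
          (by rw [List.take_zero, Ideal.ofList_nil, Submodule.bot_smul])).symm q hflat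
    | succ i ih =>
      intro hi
      haveI := hfp i
      have hcok := (Groth.Agent.FlatOpen.injective_coker_flat_of_fibEq A B (LinearMap.lsmul B (Mk i) g[i]) q
        (ih (Nat.le_of_succ_le hi)) (hfib i hi)).1
      let π : M →ₗ[B] Mk i ⧸ LinearMap.range (LinearMap.lsmul B (Mk i) g[i]) :=
        (Submodule.mkQ _).comp (Submodule.mkQ _)
      have hπ : Function.Surjective π := (Submodule.mkQ_surjective _).comp (Submodule.mkQ_surjective _)
      have hkπ : LinearMap.ker π = Ideal.ofList (g.take (i + 1)) • (⊤ : Submodule B M) := by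
        rw [List.take_succ_eq_append_getElem hi, Ideal.ofList_append, Ideal.ofList_singleton, Submodule.sup_smul]
        refine le_antisymm (fun x hx => ?_) (sup_le ?_ ?_)
        · rw [LinearMap.mem_ker, LinearMap.comp_apply, Submodule.mkQ_apply, Submodule.Quotient.mk_eq_zero] at hx
          obtain ⟨y, hy⟩ := hx
          obtain ⟨y, rfl⟩ := Submodule.Quotient.mk_surjective _ y
          rw [LinearMap.lsmul_apply, ← Submodule.Quotient.mk_smul, Submodule.mkQ_apply, Submodule.Quotient.eq] at hy
          refine Submodule.mem_sup.2 ⟨-(g[i] • y - x), neg_mem hy, g[i] • y,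
            Submodule.smul_mem_smul (Ideal.subset_span rfl) trivial, by abel⟩
        · intro x hx
          rw [LinearMap.mem_ker, LinearMap.comp_apply, Submodule.mkQ_apply, Submodule.mkQ_apply,
            (Submodule.Quotient.mk_eq_zero _).2 hx, Submodule.Quotient.mk_zero]
        · rw [Submodule.ideal_span_singleton_smul]
          rintro x ⟨y, -, rfl⟩
          rw [LinearMap.mem_ker, LinearMap.comp_apply, Submodule.mkQ_apply, Submodule.mkQ_apply,
            Submodule.Quotient.mk_eq_zero]
          exact ⟨Submodule.Quotient.mk y, rfl⟩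
      exact Groth.Agent.Wt.CMSlice.flatAt_of_linearEquiv
        ((π.quotKerEquivOfSurjective hπ).symm.trans (Submodule.quotEquivOfEq _ _ hkπ)) q hcok
  refine ⟨⟨⟨fun i hi => ?_⟩, ?_⟩, hflats⟩
  · haveI := hfp i
    have hinj := (Groth.Agent.FlatOpen.injective_coker_flat_of_fibEq A B (LinearMap.lsmul B (Mk i) g[i]) q
      (hflats i hi.le) (hfib i hi)).2
    have key : ∀ y : LocalizedModule q.primeCompl M,
        g[i] • y ∈ Ideal.ofList (g.take i) • (⊤ : Submodule B (LocalizedModule q.primeCompl M)) →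
          y ∈ Ideal.ofList (g.take i) • (⊤ : Submodule B (LocalizedModule q.primeCompl M)) := by
      intro y hy
      let μ := LocalizedModule.mkLinearMap q.primeCompl M
      have hμ : ∀ z, ∃ s ∈ q.primeCompl, ∃ m : M, s • z = μ m := fun z => by
        obtain ⟨⟨m, ⟨s, hs⟩⟩, hm⟩ := IsLocalizedModule.surj q.primeCompl μ z
        exact ⟨s, hs, m, hm⟩
      obtain ⟨s, hs, m, hm⟩ := hμ y
      have h1 : μ (g[i] • m) ∈ Ideal.ofList (g.take i) • (⊤ : Submodule B (LocalizedModule q.primeCompl M)) := by
        rw [map_smul, ← hm, smul_comm]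
        exact Submodule.smul_mem _ _ hy
      obtain ⟨s', hs', m', hm', hsm⟩ := exists_smul_eq_of_mem q.primeCompl μ hμ _ _ h1
      rw [← map_smul] at hsm
      obtain ⟨⟨t, ht⟩, hte⟩ := IsLocalizedModule.exists_of_eq (S := q.primeCompl) hsm
      rw [Submonoid.smul_def, Submonoid.smul_def] at hte
      obtain ⟨r, hr, hrm⟩ := hinj (Submodule.Quotient.mk ((t * s') • m)) (by
        rw [LinearMap.lsmul_apply, ← Submodule.Quotient.mk_smul, Submodule.Quotient.mk_eq_zero,
          show g[i] • (t * s') • m = t • m' by rw [← hte, smul_comm, mul_smul]]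
        exact Submodule.smul_mem _ _ hm')
      rw [← Submodule.Quotient.mk_smul, Submodule.Quotient.mk_eq_zero] at hrm
      have h2 := Submodule.smul_top_le_comap_smul_top _ μ hrm
      rw [Submodule.mem_comap, map_smul, map_smul, ← hm, ← mul_smul, ← mul_smul] at h2
      obtain ⟨w, hw⟩ : IsUnit (algebraMap B (Module.End B (LocalizedModule q.primeCompl M)) (r * (t * s' * s))) :=
        IsLocalizedModule.map_units μ
          ⟨_, Submonoid.mul_mem _ hr (Submonoid.mul_mem _ (Submonoid.mul_mem _ ht hs') hs)⟩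
      have h3 : (↑w⁻¹ : Module.End B (LocalizedModule q.primeCompl M)) ((r * (t * s' * s)) • y) = y := by
        have h4 := congr($(w.inv_mul) y)
        rw [hw] at h4
        exact h4
      rw [← h3]
      rw [← mul_assoc r] 
      exact Submodule.smul_top_le_comap_smul_top _ (↑w⁻¹ : Module.End B (LocalizedModule q.primeCompl M)) h2
    intro a b hab
    obtain ⟨a, rfl⟩ := Submodule.Quotient.mk_surjective _ a
    obtain ⟨b, rfl⟩ := Submodule.Quotient.mk_surjective _ b
    refine (Submodule.Quotient.eq _).2 (key _ ?_)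
    rw [smul_sub]
    exact (Submodule.Quotient.eq _).1 hab
  · intro htop
    refine hreg.top_ne_smul (le_antisymm (fun z _ => ?_) le_top)
    let μ := LocalizedModule.mkLinearMap q.primeCompl M
    obtain ⟨s, hs, m, hm⟩ := hφ z
    obtain ⟨s', hs', m', hm', hsm⟩ := exists_smul_eq_of_mem q.primeCompl μ (fun w => by
        obtain ⟨⟨x, ⟨c, hc⟩⟩, hx⟩ := IsLocalizedModule.surj q.primeCompl μ w
        exact ⟨c, hc, x, hx⟩) _ (μ m) (htop ▸ Submodule.mem_top)
    rw [← map_smul] at hsm
    obtain ⟨⟨t, ht⟩, hte⟩ := IsLocalizedModule.exists_of_eq (S := q.primeCompl) hsm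
    rw [Submonoid.smul_def, Submonoid.smul_def] at hte
    have h2 : φ (t • s' • m) ∈ Ideal.ofList g • (⊤ : Submodule B N) :=
      hte ▸ Submodule.smul_top_le_comap_smul_top _ φ (Submodule.smul_mem _ t hm')
    rw [map_smul, map_smul, ← hm, ← mul_smul, ← mul_smul, mul_assoc] at h2
    have hu : IsUnit (algebraMap B (Module.End B N) (t * (s' * s))) :=
      IsLocalizedModule.map_units (LocalizedModule.mkLinearMap q.primeCompl F)
        ⟨_, Submonoid.mul_mem _ ht (Submonoid.mul_mem _ hs' hs)⟩
    obtain ⟨w, hw⟩ := hu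
    have h3 : (↑w⁻¹ : Module.End B N) ((t * (s' * s)) • z) = z := by
      have h4 := congr($(w.inv_mul) z)
      rw [hw] at h4
      exact h4
    rw [← h3]
    exact Submodule.smul_top_le_comap_smul_top _ (↑w⁻¹ : Module.End B N) h2

end Groth.Agent.S2586
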