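import Groth.Statements.S2595
import Groth.Agent.FlatOpen.EquiDim
import Groth.Agent.AlgSpD.FibreDimBC
import Groth.Agent.FlatOpen.CMAffine

set_option autoImplicit false
set_option linter.style.haveILetI false
open CategoryTheory AlgebraicGeometry
universe u
open EGA43

namespace Groth.Agent.S2595

open AlgebraicGeometry CategoryTheory in
/-- A point of a locally Noetherian scheme has a neighbourhood all whose components pass through it. -/
theorem exists_nhd_components {Y : Scheme.{u}} [IsLocallyNoetherian Y] (y : Y) :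
    ∃ N : Y.Opens, y ∈ N ∧ ∀ η : Y, η ∈ N → FlatOpen.EquiDim.Max η → η ⤳ y := by
  obtain ⟨_, ⟨V, hV, rfl⟩, hyV, -⟩ :=
    Y.isBasis_affineOpens.exists_subset_of_mem_open (Set.mem_univ y) isOpen_univ
  haveI := IsLocallyNoetherian.component_noetherian (⟨V, hV⟩ : Y.affineOpens)
  haveI : TopologicalSpace.NoetherianSpace (↥V : Type u) :=
    (TopologicalSpace.noetherianSpace_iff_of_homeomorph (IsAffineOpen.isoSpec hV).hom.homeomorph).mpr
      inferInstance
  let S : Set Y := {η | η ∈ V ∧ FlatOpen.EquiDim.Max η ∧ ¬ η ⤳ y}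
  have hfin : S.Finite := by
    haveI : QuasiSober (↥V : Type u) := V.2.isOpenEmbedding_subtypeVal.quasiSober
    refine Set.Finite.of_injOn (f := fun η => (Subtype.val ⁻¹' closure ({η} : Set Y) : Set V))
      (t := irreducibleComponents (↥V : Type u)) (fun η hη => ?_) (fun a ha b hb hab => ?_)
      TopologicalSpace.NoetherianSpace.finite_irreducibleComponents
    · exact preimage_mem_irreducibleComponents (FlatOpen.EquiDim.closure_mem_irreducibleComponents hη.2.1)
        V.2.isOpenEmbedding_subtypeVal ⟨η, subset_closure rfl, ⟨⟨η, hη.1⟩, rfl⟩⟩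
    · have h1 : (⟨a, ha.1⟩ : V) ∈ (Subtype.val ⁻¹' closure ({b} : Set Y) : Set V) :=
        (Set.ext_iff.1 hab (⟨a, ha.1⟩ : V)).1 (subset_closure rfl)
      exact (ha.2.1 b (specializes_iff_mem_closure.2 h1)).symm
  refine ⟨⟨(V : Set Y) \ ⋃ η ∈ S, closure {η}, V.2.sdiff (hfin.isClosed_biUnion fun _ _ => isClosed_closure)⟩,
    ⟨hyV, ?_⟩, fun η hη hm => ?_⟩
  · simp only [Set.mem_iUnion, not_exists]
    exact fun η hη hy => hη.2.2 (specializes_iff_mem_closure.2 hy)
  · by_contra h
    exact hη.2 (Set.mem_biUnion (show η ∈ S from ⟨hη.1, hm, h⟩) (subset_closure rfl))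

open AlgebraicGeometry CategoryTheory in
theorem trdeg_open {X Y : Scheme.{u}} (f : X ⟶ Y) (U : X.Opens) (w : U.toScheme) :
    (letI := ((U.ι ≫ f).residueFieldMap w).hom.toAlgebra
     Algebra.trdeg (Y.residueField ((U.ι ≫ f) w)) (U.toScheme.residueField w)) =
    (letI := (f.residueFieldMap (U.ι w)).hom.toAlgebra
     Algebra.trdeg (Y.residueField (f (U.ι w))) (X.residueField (U.ι w))) := by
  letI i1 := (f.residueFieldMap (U.ι w)).hom.toAlgebra
  letI i2 := ((U.ι ≫ f).residueFieldMap w).hom.toAlgebra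
  haveI : FaithfulSMul (Y.residueField ((U.ι ≫ f) w)) (U.toScheme.residueField w) :=
    (faithfulSMul_iff_algebraMap_injective _ _).2 (RingHom.injective _)
  refine (CycLib.trdeg_congr (R := Y.residueField (f (U.ι w))) (S := X.residueField (U.ι w))
    (R' := Y.residueField ((U.ι ≫ f) w)) (RingEquiv.refl (Y.residueField (f (U.ι w))))
    (RingEquiv.ofBijective (U.ι.residueFieldMap w).hom (RadPtLib.residueFieldMap_bijective U.ι w))
    fun a => ?_).symm
  show ((U.ι.residueFieldMap w).hom) ((f.residueFieldMap (U.ι w)).hom a) = ((U.ι ≫ f).residueFieldMap w).hom a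
  rw [Scheme.residueFieldMap_comp]
  rfl

/-- Let Y be locally Noetherian, f : X ⟶ Y locally of finite type and x a point of X. If O_{Y,f x} ⟶
O_{X,x} is flat and the local ring at x of the fibre through x is Cohen–Macaulay, then f is
equidimensional at x. -/
theorem result {X Y : Scheme.{u}} [IsLocallyNoetherian Y] (f : X ⟶ Y)
    [LocallyOfFiniteType f] (x : X) (hflat : (f.stalkMap x).hom.Flat)
    (hCM : LocCoh.IsCohenMacaulayLocalRing ((f.fiber (f.base x)).presheaf.stalk (f.asFiber x))) :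
    EGA43.IsEquidimAt f x := by
  haveI : LocallyOfFinitePresentation f := inferInstance
  obtain ⟨n, hn⟩ := FlatOpen.CMLocus.exists_fibreDimAt_eq f x
  -- a neighbourhood of `f x` all whose components pass through `f x`
  obtain ⟨N, hyN, hN⟩ := exists_nhd_components (f x)
  let U : X.Opens := ⟨{x' | MoreMor.IsCMAt f x' ∧ FlatMor.fibreDimAt f x' = n} ∩ f ⁻¹' N,
    (FlatOpen.CMLocus.isOpen_isCMAt_fibreDim f n).inter (N.2.preimage f.continuous)⟩
  refine ⟨n, U, ⟨⟨⟨hflat, hCM⟩, hn⟩, hyN⟩, fun Z hZ => ?_, fun x' Z hZ => ?_⟩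
  · obtain ⟨η, hη, rfl⟩ := FlatOpen.EquiDim.exists_max_closure_eq (X := U.toScheme) hZ
    haveI : Flat (U.ι ≫ f) := (Flat.iff_flat_stalkMap _).2 fun w =>
      (FlatOpen.CMAffine.stalkMap_flat_comp_iff U.ι f w).2 w.2.1.1.1
    have hm := FlatOpen.EquiDim.max_image (U.ι ≫ f) hη
    refine ⟨closure {(U.ι ≫ f) η}, FlatOpen.EquiDim.closure_mem_irreducibleComponents hm,
      specializes_iff_mem_closure.1 (hN _ η.2.2 hm), ?_⟩
    refine le_antisymm (closure_minimal ?_ isClosed_closure)
      (closure_mono (Set.singleton_subset_iff.2 ⟨η, subset_closure rfl, rfl⟩))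
    exact (image_closure_subset_closure_image (U.ι ≫ f).continuous).trans
      (closure_mono (by simp))
  · refine (FlatOpen.EquiDim.hasRelDim_iff_trdeg (U.ι ≫ f) n).2 (fun w hw => ?_) _ Z hZ
    rw [trdeg_open f U w]
    refine FlatOpen.EquiDim.fibreDimAt_eq_trdeg f (fun z hz hfz => ?_) w.2.1.2
    have hzU : z ∈ U := hz.mem_open U.2 w.2
    exact congrArg U.ι (hw ⟨z, hzU⟩ (U.ι.isEmbedding.specializes_iff.1 hz) hfz)

end Groth.Agent.S2595
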