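import Groth.Statements.S2596
import Groth.Agent.DVRProper.Basic

set_option autoImplicit false
open CategoryTheory AlgebraicGeometry
universe u
open EGA43

namespace Groth.Agent.S2596

open CategoryTheory.Limits in
/-- Let Y be locally Noetherian, f : X ⟶ Y separated and of finite type, and y a point of Y. Suppose
that for every discrete valuation ring A with fraction field K and every morphism g : Spec A ⟶ Y
sending the closed point to y, every K-point σ of X ×_Y Spec A lying over the generic point Spec K ⟶
Spec A extends to a section of X ×_Y Spec A ⟶ Spec A. Then f is proper over some open neighbourhood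
of y. -/
theorem result {X Y : Scheme.{u}} [IsLocallyNoetherian Y]
    (f : X ⟶ Y) [IsSeparated f] [LocallyOfFiniteType f] [QuasiCompact f] (y : Y)
    (h : ∀ (A : Type u) [CommRing A] [IsDomain A] [IsDiscreteValuationRing A]
      (g : Spec (CommRingCat.of A) ⟶ Y), g.base (IsLocalRing.closedPoint A) = y →
      ∀ σ : Spec (CommRingCat.of (FractionRing A)) ⟶ pullback f g,
        σ ≫ pullback.snd f g = Spec.map (CommRingCat.ofHom (algebraMap A (FractionRing A))) →
        ∃ s : Spec (CommRingCat.of A) ⟶ pullback f g, s ≫ pullback.snd f g = 𝟙 _ ∧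
          Spec.map (CommRingCat.ofHom (algebraMap A (FractionRing A))) ≫ s = σ) :
    ∃ U : Y.Opens, y ∈ U ∧ IsProper (f ∣_ U) := by
  refine Groth.Agent.DVRProper.exists_isProper_nhd f y fun η _ W hW g hg hcomp => ?_
  let e : X.residueField η ≃ₐ[W] FractionRing W :=
    (FractionRing.algEquiv W (X.residueField η)).symm
  let j : X.residueField η ⟶ CommRingCat.of (FractionRing W) :=
    CommRingCat.ofHom e.toRingEquiv.toRingHom
  haveI : IsIso j := (RingEquiv.toCommRingCatIso e.toRingEquiv).isIso_hom
  have hj : CommRingCat.ofHom W.subtype ≫ j =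
      CommRingCat.ofHom (algebraMap W (FractionRing W)) := by
    ext a
    exact e.commutes a
  have hsq : (Spec.map j ≫ X.fromSpecResidueField η) ≫ f =
      Spec.map (CommRingCat.ofHom (algebraMap W (FractionRing W))) ≫ g := by
    rw [← hj, Spec.map_comp, Category.assoc, Category.assoc, ← hcomp]
  obtain ⟨s, hs, hσ⟩ := h W g hg (CategoryTheory.Limits.pullback.lift _ _ hsq)
    (CategoryTheory.Limits.pullback.lift_snd _ _ _)
  refine ⟨s ≫ CategoryTheory.Limits.pullback.fst f g, ?_, ?_⟩
  · rw [← cancel_epi (Spec.map j)]
    rw [← Spec.map_comp_assoc, hj, ← Category.assoc, hσ, CategoryTheory.Limits.pullback.lift_fst]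
  · rw [Category.assoc, CategoryTheory.Limits.pullback.condition, ← Category.assoc, hs,
      Category.id_comp]

end Groth.Agent.S2596
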