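import Groth.Statements.S9848
import Groth.Agent.Synt44.Descent

set_option autoImplicit false
open CategoryTheory CategoryTheory.Limits AlgebraicGeometry Opposite
universe u
open Desc

namespace Groth.Agent.S9848

/-- Being syntomic is fpqc local on the base; the descent direction, stated for a single flat surjective
quasi-compact base change g : Y' ⟶ Y: if the base change X ×_Y Y' ⟶ Y' of f : X ⟶ Y is syntomic,
then f is syntomic. (With Zariski-locality on the target this gives the statement for arbitrary fpqc
coverings; stability of syntomic morphisms under base change is the other direction.) -/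
theorem result {X Y Y' : Scheme.{u}} (f : X ⟶ Y) (g : Y' ⟶ Y)
    [Flat g] [Surjective g] [QuasiCompact g] (h : Synt.IsSyntomicMor (pullback.snd f g)) :
    Synt.IsSyntomicMor f := by
  exact MorphismProperty.of_pullback_snd_of_descendsAlong (P := Groth.Agent.Synt44.syntomicMor.{u})
    (Q := @Surjective ⊓ @Flat ⊓ @QuasiCompact) ⟨⟨inferInstance, inferInstance⟩, inferInstance⟩ h

end Groth.Agent.S9848
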