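import Groth.Statements.S5060
import Groth.Agent.NormFlatReg.Graded

set_option autoImplicit false
universe u
open CInt

namespace Groth.Agent.S5060

open Groth.Agent.NormFlatReg RingTheory.Sequence TensorProduct

/-- The pieces in the statement and `R ^ k • M` agree modulo any ideal containing `R`. -/
theorem fq_piece_iff {A : Type u} [CommRing A] (R J : Ideal A) (hRJ : R ≤ J) {M : Type u}
    [AddCommGroup M] [Module A M] (k : ℕ) :
    FQ J ↥(R ^ k • (⊤ : Submodule A M)) ↔
      FQ J (↥(R ^ k • (⊤ : Submodule A M)) ⧸ (R • (⊤ : Submodule A ↥(R ^ k • (⊤ : Submodule A M))))) :=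
  fq_iff_of_surjective (Submodule.mkQ _) (Submodule.mkQ_surjective _)
    (by rw [Submodule.ker_mkQ]; exact Submodule.smul_mono_left hRJ)

theorem mk_one_bijective {A : Type u} [CommRing A] (I : Ideal A) (X : Type u) [AddCommGroup X]
    [Module A X] [Module (A ⧸ I) X] [IsScalarTower A (A ⧸ I) X] :
    Function.Bijective (TensorProduct.mk A (A ⧸ I) X 1) := by
  refine ⟨?_, fun z => (exists_one_tmul z).imp fun _ h => h.symm⟩
  rw [injective_iff_map_eq_zero]
  intro y hy
  have hy' := (one_tmul_eq_zero_iff y).mp hy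
  refine Submodule.smul_induction_on hy' (fun a ha m _ => ?_) fun _ _ h h' => by rw [h, h', add_zero]
  rw [← algebraMap_smul (A ⧸ I) a m, Ideal.Quotient.algebraMap_eq,
    Ideal.Quotient.eq_zero_iff_mem.mpr ha, zero_smul]

theorem nf_iff {A : Type u} [CommRing A] (I : Ideal A) (M : Type u) [AddCommGroup M] [Module A M] :
    EGA4.IsNormallyFlat I M ↔ NF I M := by
  refine forall_congr' fun k => ?_
  rw [fq_piece_iff I I le_rfl k]
  let e := (LinearEquiv.ofBijective _ (mk_one_bijective I
    (↥(I ^ k • (⊤ : Submodule A M)) ⧸ (I • (⊤ : Submodule A ↥(I ^ k • (⊤ : Submodule A M))))))).extendScalarsOfSurjective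
    (S := A ⧸ I) Ideal.Quotient.mk_surjective
  exact ⟨fun h => @Module.Flat.of_linearEquiv _ _ _ _ _ _ _ _ h e.symm,
    fun h => @Module.Flat.of_linearEquiv _ _ _ _ _ _ _ _ h e⟩

/-- a) iff d) in the Noetherian case: let A be a Noetherian ring, R an ideal, f_1, …, f_n elements of
the Jacobson radical of A forming a regular sequence on A/R and on every R^k/R^(k+1), Q = R + (f_1,
…, f_n), and M a finitely generated A-module. Then every R^k M / R^(k+1) M is flat over A/R if and
only if every Q^k M / Q^(k+1) M is flat over A/Q and, for every associated prime p of A/Q viewed as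
an (A/R)-module, every localized piece (R^k M / R^(k+1) M)_p is flat over (A/R)_p. -/
theorem result (A : Type u) [CommRing A] [IsNoetherianRing A]
    (R : Ideal A) {n : ℕ} (f : Fin n → A) (hrad : ∀ i, f i ∈ (⊥ : Ideal A).jacobson)
    (hreg : RingTheory.Sequence.IsWeaklyRegular (A ⧸ R) (List.ofFn f))
    (hreggr : ∀ k : ℕ, RingTheory.Sequence.IsWeaklyRegular (↥(R ^ k • (⊤ : Submodule A A)) ⧸ (R • (⊤ : Submodule A ↥(R ^ k • (⊤ : Submodule A A))))) (List.ofFn f))
    (M : Type u) [AddCommGroup M] [Module A M] [Module.Finite A M] :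
    EGA4.IsNormallyFlat R M ↔
      EGA4.IsNormallyFlat (R ⊔ Ideal.span (Set.range f)) M ∧
        ∀ (p : Ideal (A ⧸ R)) [p.IsPrime],
          p ∈ associatedPrimes (A ⧸ R) ((A ⧸ R) ⧸ Ideal.map (Ideal.Quotient.mk R) (R ⊔ Ideal.span (Set.range f))) →
            ∀ k : ℕ, Module.Flat (Localization.AtPrime p) (LocalizedModule p.primeCompl (↥(R ^ k • (⊤ : Submodule A M)) ⧸ (R • (⊤ : Submodule A ↥(R ^ k • (⊤ : Submodule A M)))))) := by
  set Q := R ⊔ Ideal.span (Set.range f) with hQ
  have hofList : Ideal.ofList (List.ofFn f) = Ideal.span (Set.range f) := by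
    simp only [Ideal.ofList]
    congr 1
    ext a
    simp [List.mem_ofFn, Set.mem_range]
  rw [nf_iff, nf_iff]
  constructor
  · intro h
    refine ⟨by rw [hQ, ← hofList]; exact nf_sup_ofList h (List.ofFn f) hreg, fun p _ _ k => ?_⟩
    haveI := (nf_iff R M).mpr h k
    exact Module.Flat.localizedModule p.primeCompl
  rintro ⟨hQM, hloc⟩ k
  induction k using Nat.strong_induction_on with
  | h k ih =>
    have hFQ : FQ Q ↥(R ^ k • (⊤ : Submodule A M)) := by
      have := fq_of_nf_sup (List.ofFn f) hreg k ih (by rwa [hofList])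
      rwa [hofList] at this
    rw [fq_piece_iff R Q le_sup_left k] at hFQ
    rw [fq_piece_iff R R le_rfl k]
    set P := ↥(R ^ k • (⊤ : Submodule A M)) ⧸ (R • (⊤ : Submodule A ↥(R ^ k • (⊤ : Submodule A M))))
    haveI : Module.Finite (A ⧸ R) P := Module.Finite.of_restrictScalars_finite A _ _
    set π := Ideal.Quotient.mk R
    set I := Q.map π
    have hI : Ideal.ofList ((List.ofFn f).map (algebraMap A (A ⧸ R))) = I := by
      rw [← Ideal.map_ofList, hofList, show I = Q.map π from rfl, hQ, Ideal.map_sup,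
        Ideal.map_quotient_self, bot_sup_eq]
      rfl
    have hj : I ≤ (⊥ : Ideal (A ⧸ R)).jacobson := by
      rw [← hI, Ideal.ofList, Ideal.span_le]
      intro _ hs
      obtain ⟨_, ha, rfl⟩ := List.mem_map.mp hs
      obtain ⟨i, rfl⟩ := List.mem_ofFn.mp ha
      rw [SetLike.mem_coe, Ideal.mem_jacobson_bot]
      intro y
      obtain ⟨y, rfl⟩ := Ideal.Quotient.mk_surjective y
      show IsUnit (π (f i) * π y + 1)
      rw [← map_mul, ← map_one π, ← map_add]
      exact (Ideal.mem_jacobson_bot.mp (hrad i) y).map π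
    -- transfer along `A / Q ≃ (A / R) / I`
    let φ : (A ⧸ Q) ≃+* ((A ⧸ R) ⧸ I) := (DoubleQuot.quotQuotEquivQuotOfLE le_sup_left).symm
    let e₁ := TensorProduct.quotTensorEquivQuotSMul P Q
    let e₂ := TensorProduct.quotTensorEquivQuotSMul P I
    have hsmul : ∀ y : P, y ∈ Q • (⊤ : Submodule A P) ↔ y ∈ I • (⊤ : Submodule (A ⧸ R) P) := by
      intro y
      constructor
      · intro hy
        refine Submodule.smul_induction_on hy (fun a ha m _ => ?_) fun _ _ h h' => add_mem h h'
        rw [← algebraMap_smul (A ⧸ R) a m]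
        exact Submodule.smul_mem_smul (Ideal.mem_map_of_mem π ha) trivial
      · intro hy
        refine Submodule.smul_induction_on hy (fun a ha m _ => ?_) fun _ _ h h' => add_mem h h'
        obtain ⟨b, hb, rfl⟩ := (Ideal.mem_map_iff_of_surjective π Ideal.Quotient.mk_surjective).mp ha
        rw [show π b • m = b • m from algebraMap_smul (A ⧸ R) b m]
        exact Submodule.smul_mem_smul hb trivial
    let g : (P ⧸ Q • (⊤ : Submodule A P)) ≃+ (P ⧸ I • (⊤ : Submodule (A ⧸ R) P)) :=
      QuotientAddGroup.quotientAddEquivOfEq (by ext y; exact hsmul y)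
    let g' := (e₁.toAddEquiv.trans g).trans e₂.symm.toAddEquiv
    have hg : ∀ (s : A ⧸ Q) z, g' (s • z) = φ s • g' z := by
      intro s z
      obtain ⟨s, rfl⟩ := Ideal.Quotient.mk_surjective s
      show e₂.symm (g (e₁ (algebraMap A (A ⧸ Q) s • z))) =
        algebraMap (A ⧸ R) ((A ⧸ R) ⧸ I) (π s) • e₂.symm (g (e₁ z))
      rw [algebraMap_smul, algebraMap_smul, map_smul, ← map_smul e₂.symm]
      congr 1
      obtain ⟨q, hq⟩ := Submodule.Quotient.mk_surjective _ (e₁ z)
      rw [← hq]
      show (Submodule.Quotient.mk (s • q) : P ⧸ I • (⊤ : Submodule (A ⧸ R) P)) =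
        π s • Submodule.Quotient.mk q
      rw [← algebraMap_smul (A ⧸ R) s q]
      rfl
    haveI : Module.Flat (A ⧸ Q) ((A ⧸ Q) ⊗[A] P) := hFQ
    have h2 : FQ I P := flat_of_ringEquiv φ _ _ g' hg
    have hflat : Module.Flat (A ⧸ R) P := flat_of_flat_quot_of_ass _
      ((isWeaklyRegular_map_algebraMap_iff (A ⧸ R) (A ⧸ R) _).mpr hreg) I hI hj h2
      (fun p _ hp => hloc p hp k)
    exact Module.Flat.of_linearEquiv
      ((LinearEquiv.ofBijective (TensorProduct.mk A (A ⧸ R) P 1)
        (mk_one_bijective R P)).extendScalarsOfSurjective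
        (S := A ⧸ R) Ideal.Quotient.mk_surjective).symm

end Groth.Agent.S5060
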