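import Groth.Statements.S2903
import Groth.Agent.SGA1Desc.ProperLimit
import Groth.Agent.SGA1Desc.EffFam
import Groth.Agent.S14797
-- import your own Groth.Agent.* helpers here

set_option autoImplicit false
open CategoryTheory CategoryTheory.Limits AlgebraicGeometry Opposite
universe u
open SGA1

namespace Groth.Agent.S2903

/-- Let g : S' ⟶ S be proper, surjective and locally of finite presentation. Then every descent datum
relative to g whose underlying scheme is a finite etale cover of S' is isomorphic to the canonical
descent datum of a finite etale cover of S. (Descent data relative to g are taken in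
functor-of-points form.) -/
theorem result {S' S : Scheme.{u}} (g : S' ⟶ S) [IsProper g] [Surjective g]
    [LocallyOfFinitePresentation g] (D : Desc.SchDD g) [IsFinite D.obj.hom] [Etale D.obj.hom] :
    ∃ U : Over S, IsFinite U.hom ∧ Etale U.hom ∧ Nonempty ((Desc.toDD g).obj U ≅ D) := by
  have hg := SGA1Desc.univSubmersive_of_isProper_of_surjective g
  obtain ⟨E⟩ := SGA1Desc.exists_eff_of_proper_surjective D
  obtain ⟨U, -, -, hU, ⟨e⟩⟩ := E.exists_over hg
  obtain ⟨q, hq, -⟩ := SGA1Desc.exists_of_iso e
  haveI := hU
  haveI : IsFinite (pullback.snd U.hom g) :=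
    (MorphismProperty.cancel_left_of_respectsIso @IsFinite hq.isoPullback.hom _).1 (by
      rw [hq.isoPullback_hom_snd]; infer_instance)
  exact ⟨U, S14797.result g hg U.hom, hU, ⟨e⟩⟩

end Groth.Agent.S2903
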