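import Groth.Statements.S2915
import Groth.Agent.FEtProperConn.Descends
-- import your own Groth.Agent.* helpers here

set_option autoImplicit false
universe u
open SGA1

namespace Groth.Agent.S2915

open AlgebraicGeometry CategoryTheory CategoryTheory.Limits in
/-- Let f : X ⟶ S be proper, surjective and locally of finite presentation, with geometrically connected
fibres: the base change of X along any point of S with values in an algebraically closed field is
connected. Let X′ be a finite étale cover of X such that for every such geometric point of S the
pullback of X′ to the corresponding geometric fibre is split (isomorphic over the fibre to a finite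
disjoint union of copies of it). Then X′ is isomorphic to the pullback along f of some finite étale
cover of S. -/
theorem result {X S : Scheme.{u}} (f : X ⟶ S) [IsProper f] [Surjective f]
    [LocallyOfFinitePresentation f]
    (hconn : ∀ (K : Type u) [Field K] [IsAlgClosed K] (ξ : Spec (CommRingCat.of K) ⟶ S), ConnectedSpace ↑(pullback f ξ))
    (X' : FEt.Cat X)
    (hsplit : ∀ (K : Type u) [Field K] [IsAlgClosed K] (ξ : Spec (CommRingCat.of K) ⟶ S),
      Pi1.IsSplit ((FEt.restrict (pullback.fst f ξ)).obj X')) :
    ∃ S' : FEt.Cat S, Nonempty ((FEt.restrict f).obj S' ≅ X') := by
  exact FEtProperConn.exists_descends f hconn X' hsplit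

end Groth.Agent.S2915
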