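import Groth.Statements.S2918
import Groth.Agent.SGA1Birat.Basic
import Groth.Agent.S0005
-- import your own Groth.Agent.* helpers here

set_option autoImplicit false
universe u
open SGA1

namespace Groth.Agent.S2918

section
open CategoryTheory AlgebraicGeometry

/-- restriction commutes with composition -/
noncomputable def compIso {A B C : Scheme.{u}} (a : A ⟶ B) (b : B ⟶ C) (c : A ⟶ C) (h : c = a ≫ b) :
    FEt.restrict b ⋙ FEt.restrict a ≅ FEt.restrict c :=
  (MorphismProperty.Over.pullbackComp a b c h).symm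

/-- transport along a restriction equivalence, restricted further -/
noncomputable def extIso {T X Y W : Scheme.{u}} (i : W ⟶ X) (φ : W ⟶ Y) (l : T ⟶ W) (il : T ⟶ X) (j : T ⟶ Y)
    (hi : il = l ≫ i) (hj : j = l ≫ φ) [(FEt.restrict i).IsEquivalence] :
    (FEt.restrict φ ⋙ (FEt.restrict i).inv) ⋙ FEt.restrict il ≅ FEt.restrict j :=
  Functor.isoWhiskerLeft _ (compIso l i il hi).symm ≪≫ Functor.associator _ _ _ ≪≫
    Functor.isoWhiskerLeft (FEt.restrict φ) ((Functor.associator _ _ _).symm ≪≫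
      Functor.isoWhiskerRight (FEt.restrict i).asEquivalence.counitIso (FEt.restrict l) ≪≫ Functor.leftUnitor _) ≪≫
    compIso l φ j hj

end

open AlgebraicGeometry CategoryTheory CategoryTheory.Limits in
/-- Birational invariance of the fundamental group, in terms of finite etale covers: Let X and Y be
proper over a field k, locally Noetherian with all local rings regular, and birational over k: some
dense open of X is k-isomorphic to some dense open of Y. Then the categories of finite etale covers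
of X and of Y are equivalent compatibly with restriction to the common dense open. -/
theorem result (k : Type u) [Field k] {X Y : Scheme.{u}}
    (f : X ⟶ Spec (CommRingCat.of k)) (g : Y ⟶ Spec (CommRingCat.of k)) [IsProper f] [IsProper g]
    [IsLocallyNoetherian X] [IsLocallyNoetherian Y]
    (hX : ∀ x : X, IsRegularLocalRing (X.presheaf.stalk x)) (hY : ∀ y : Y, IsRegularLocalRing (Y.presheaf.stalk y))
    (U : X.Opens) (V : Y.Opens) (hU : Dense (U : Set X)) (hV : Dense (V : Set Y))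
    (e : (U : Scheme.{u}) ≅ (V : Scheme.{u})) (he : e.hom ≫ V.ι ≫ g = U.ι ≫ f) :
    ∃ Φ : FEt.Cat X ≌ FEt.Cat Y, Nonempty (FEt.restrict U.ι ≅ Φ.functor ⋙ FEt.restrict V.ι ⋙ FEt.restrict e.hom) := by
  haveI : CompactSpace X := QuasiCompact.compactSpace_of_compactSpace f
  haveI : CompactSpace Y := QuasiCompact.compactSpace_of_compactSpace g
  haveI : IsNoetherian X := { }
  haveI : IsNoetherian Y := { }
  have hj : (e.hom ≫ V.ι) ≫ g = U.ι ≫ f := by rw [Category.assoc]; exact he
  have hj' : (e.inv ≫ U.ι) ≫ f = V.ι ≫ g := by rw [Category.assoc, ← he, e.inv_hom_id_assoc]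
  obtain ⟨U', hUU', φ, hU', hφ⟩ := SGA1Birat.exists_extension_codimTwo hX f g U hU _ hj
  obtain ⟨V', hVV', ψ, hV', hψ⟩ := SGA1Birat.exists_extension_codimTwo hY g f V hV _ hj'
  haveI := S0005.result X hX U' hU'
  haveI := S0005.result Y hY V' hV'
  let F : FEt.Cat Y ⥤ FEt.Cat X := FEt.restrict φ ⋙ (FEt.restrict U'.ι).inv
  let G : FEt.Cat X ⥤ FEt.Cat Y := FEt.restrict ψ ⋙ (FEt.restrict V'.ι).inv
  let iF : F ⋙ FEt.restrict U.ι ≅ FEt.restrict (e.hom ≫ V.ι) :=
    extIso U'.ι φ (X.homOfLE hUU') U.ι (e.hom ≫ V.ι) (Scheme.homOfLE_ι _ _).symm hφ.symm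
  let iG : G ⋙ FEt.restrict V.ι ≅ FEt.restrict (e.inv ≫ U.ι) :=
    extIso V'.ι ψ (Y.homOfLE hVV') V.ι (e.inv ≫ U.ι) (Scheme.homOfLE_ι _ _).symm hψ.symm
  obtain ⟨_, _⟩ := SGA1Birat.fullFaithful_of_dense (SGA1Birat.isNormalScheme_of_regular hX) U hU
  obtain ⟨_, _⟩ := SGA1Birat.fullFaithful_of_dense (SGA1Birat.isNormalScheme_of_regular hY) V hV
  let ε : F ⋙ G ≅ 𝟭 _ := Functor.fullyFaithfulCancelRight (FEt.restrict V.ι)
    (Functor.associator _ _ _ ≪≫ Functor.isoWhiskerLeft F (iG ≪≫ (compIso e.inv U.ι _ rfl).symm) ≪≫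
      (Functor.associator _ _ _).symm ≪≫ Functor.isoWhiskerRight iF _ ≪≫
      compIso e.inv (e.hom ≫ V.ι) V.ι (e.inv_hom_id_assoc _).symm ≪≫ (Functor.leftUnitor _).symm)
  let η : G ⋙ F ≅ 𝟭 _ := Functor.fullyFaithfulCancelRight (FEt.restrict U.ι)
    (Functor.associator _ _ _ ≪≫ Functor.isoWhiskerLeft G (iF ≪≫ (compIso e.hom V.ι _ rfl).symm) ≪≫
      (Functor.associator _ _ _).symm ≪≫ Functor.isoWhiskerRight iG _ ≪≫
      compIso e.hom (e.inv ≫ U.ι) U.ι (e.hom_inv_id_assoc _).symm ≪≫ (Functor.leftUnitor _).symm)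
  exact ⟨CategoryTheory.Equivalence.mk G F η.symm ε, ⟨(compIso e.hom (e.inv ≫ U.ι) U.ι (e.hom_inv_id_assoc _).symm).symm ≪≫
    Functor.isoWhiskerRight iG.symm _ ≪≫ Functor.associator _ _ _⟩⟩

end Groth.Agent.S2918
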