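import Groth.Statements.S2923
import Groth.Agent.AbsAbh.Main
-- import your own Groth.Agent.* helpers here

set_option autoImplicit false
universe u
open IsLocalRing
open SGA1

namespace Groth.Agent.S2923

open AlgebraicGeometry CategoryTheory CategoryTheory.Limits in
/-- The Kummer coverings are cofinal among tame covers: let A be a strictly henselian regular local ring
(henselian with separably closed residue field), f_1, …, f_r part of a regular system of parameters
with each (f_i) a prime ideal, U ⊆ X = Spec A the open where f_1 ⋯ f_r is invertible, and V a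
connected finite etale cover of U tamely ramified along each f_i. Then for some exponents n_i ≥ 1
invertible in the residue field there is a surjective U-morphism from the restriction to U of the
Kummer covering Spec A[T_1, …, T_r]/(T_i^{n_i} − f_i) onto V. -/
theorem result (A : Type u) [CommRing A] [IsRegularLocalRing A] [IsDomain A] (r : ℕ) (f : Fin r → A)
    (hm : ∀ i, f i ∈ maximalIdeal A)
    (hf : LinearIndependent (ResidueField A) (fun i => (maximalIdeal A).toCotangent ⟨f i, hm i⟩))
    [∀ i, (Ideal.span {f i}).IsPrime]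
    [HenselianLocalRing A] [IsSepClosed (ResidueField A)]
    (V : FEt.Cat ((SGA1.specBasicOpen A (∏ i, f i)) : Scheme.{u})) [ConnectedSpace V.left] (htame : SGA1.IsTameAlong f (((V.hom ≫ ((SGA1.specBasicOpen A (∏ i, f i))).ι).appTop).hom.comp (Scheme.ΓSpecIso (CommRingCat.of A)).inv.hom)) :
    ∃ n : Fin r → ℕ, (∀ i, 1 ≤ n i) ∧ (∀ i, IsUnit ((n i : ℕ) : ResidueField A)) ∧
      ∃ φ : (↑((Spec.map (CommRingCat.ofHom (algebraMap A (SGA1.kummerAlg A f n)))) ⁻¹ᵁ (SGA1.specBasicOpen A (∏ i, f i))) : Scheme.{u}) ⟶ V.left, φ ≫ V.hom = (Spec.map (CommRingCat.ofHom (algebraMap A (SGA1.kummerAlg A f n)))) ∣_ (SGA1.specBasicOpen A (∏ i, f i)) ∧ Surjective φ := by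
  letI := (AbsAbh.coverHom (∏ i, f i) V).toAlgebra
  obtain ⟨eV, heV, _, hunit, hint⟩ := AbsAbh.cover_facts (∏ i, f i) V
  haveI : IsDomain Γ(V.left, ⊤) := AbsAbh.isDomain_cover (∏ i, f i) V
  obtain ⟨n, hn, hu, hd⟩ := AbsAbh.exists_exponents_absolute f hm hf Γ(V.left, ⊤) htame hunit hint
  refine ⟨n, hn, hu, ?_⟩
  obtain ⟨j, hj⟩ := AbsAbh.exists_hom_kummerField f hm hf n hn Γ(V.left, ⊤) htame hunit hint hd
  haveI := AbsAbh.isRegularLocalRing A f n hm hf hn
  haveI := AbsAbh.isDomain A f n hm hf hn
  haveI := RegLoc.UFD.uniqueFactorizationMonoid (SGA1.kummerAlg A f n)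
  obtain ⟨_, _⟩ := AbsAbh.finite_free A f n hn
  let A' := SGA1.kummerAlg A f n
  let K' := FractionRing A'
  let G : A' := algebraMap A A' (∏ i, f i)
  have hG0 : G ≠ 0 := AbsAbh.algebraMap_G_ne_zero f (AbsAbh.ne_zero_of_indep f hm hf) A hm hf n hn
  have hGK : algebraMap A' K' G ≠ 0 := (map_ne_zero_iff _ (IsFractionRing.injective A' K')).2 hG0
  let l : Localization.Away G →+* K' := IsLocalization.Away.lift (S := Localization.Away G) G
    (g := algebraMap A' K') (isUnit_iff_ne_zero.2 hGK)
  have hl : ∀ z, l (algebraMap A' (Localization.Away G) z) = algebraMap A' K' z := fun z =>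
    IsLocalization.Away.lift_eq _ _ z
  have hlinj : Function.Injective l := by
    rw [RingHom.injective_iff_ker_eq_bot, eq_bot_iff]
    intro x hx
    obtain ⟨z, s, rfl⟩ := IsLocalization.exists_mk'_eq (Submonoid.powers G) x
    rw [RingHom.mem_ker] at hx
    have h := congrArg l (IsLocalization.mk'_spec (Localization.Away G) z s)
    rw [map_mul, hx, zero_mul, hl, eq_comm, map_eq_zero_iff _ (IsFractionRing.injective A' K')] at h
    rw [Ideal.mem_bot, h, IsLocalization.mk'_zero]
  -- every element lands in the localization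
  have hran : ∀ c, j c ∈ l.range := by
    intro c
    obtain ⟨k, hk⟩ := hint c
    let jA : Γ(V.left, ⊤) →ₐ[A] K' := { j with commutes' := hj }
    obtain ⟨z, hz⟩ := (IsIntegrallyClosed.isIntegral_iff (R := A') (K := K')).1 ((hk.map jA).tower_top (A := A'))
    refine ⟨IsLocalization.mk' (Localization.Away G) z (⟨G ^ k, k, rfl⟩ : Submonoid.powers G), ?_⟩
    have h := congrArg l (IsLocalization.mk'_spec (Localization.Away G) z (⟨G ^ k, k, rfl⟩ : Submonoid.powers G))
    rw [map_mul, hl, hl, hz] at h
    have h2 : jA (algebraMap A _ (∏ i, f i) ^ k * c) = algebraMap A' K' G ^ k * j c := by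
      change j _ = _
      rw [map_mul, map_pow, hj, IsScalarTower.algebraMap_apply A A' K']
    exact mul_right_cancel₀ (pow_ne_zero k hGK)
      ((congrArg (_ * ·) (map_pow (algebraMap A' K') G k).symm).trans (h.trans (h2.trans (mul_comm _ _))))
  let le := RingEquiv.ofBijective l.rangeRestrict
    ⟨fun a b h => hlinj (congrArg Subtype.val h), l.rangeRestrict_surjective⟩
  let j' : Γ(V.left, ⊤) →+* Localization.Away G := le.symm.toRingHom.comp (j.codRestrict l.range hran)
  have hlj : ∀ c, l (j' c) = j c := fun c =>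
    congrArg Subtype.val (le.apply_symm_apply (⟨j c, hran c⟩ : l.range))
  have hjA : ∀ a, j' (algebraMap A _ a) = algebraMap A' (Localization.Away G) (algebraMap A A' a) := fun a => by
    apply hlinj
    rw [hlj, hj, hl, ← IsScalarTower.algebraMap_apply A A' K']
  -- the morphism
  let π := Spec.map (CommRingCat.ofHom (algebraMap A A'))
  let m := Spec.map (CommRingCat.ofHom (algebraMap A' (Localization.Away G)))
  haveI : IsOpenImmersion m := IsOpenImmersion.of_isLocalization G
  have hrange : Set.range m = Set.range (π ⁻¹ᵁ SGA1.specBasicOpen A (∏ i, f i)).ι := by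
    rw [Scheme.Opens.range_ι]
    exact PrimeSpectrum.localization_away_comap_range (Localization.Away G) G
  let w := IsOpenImmersion.isoOfRangeEq m (π ⁻¹ᵁ SGA1.specBasicOpen A (∏ i, f i)).ι hrange
  have hw : w.inv ≫ m = (π ⁻¹ᵁ SGA1.specBasicOpen A (∏ i, f i)).ι := IsOpenImmersion.isoOfRangeEq_inv_fac _ _ _
  refine ⟨w.inv ≫ Spec.map (CommRingCat.ofHom j') ≫ eV.inv, ?_, ?_⟩
  · rw [← cancel_mono (SGA1.specBasicOpen A (∏ i, f i)).ι, Category.assoc, morphismRestrict_ι, ← hw,
      Category.assoc, Category.assoc, ← heV, Iso.inv_hom_id_assoc]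
    refine Eq.trans (congrArg (w.inv ≫ ·) ?_) (Category.assoc _ _ _).symm
    have h : CommRingCat.ofHom (algebraMap A Γ(V.left, ⊤)) ≫ CommRingCat.ofHom j' =
        CommRingCat.ofHom (algebraMap A A') ≫ CommRingCat.ofHom (algebraMap A' (Localization.Away G)) := by
      ext a
      exact hjA a
    exact (Spec.map_comp _ _).symm.trans ((congrArg Spec.map h).trans (Spec.map_comp _ _))
  · have hinj : Function.Injective j' := by
      refine Function.Injective.of_comp (f := l) ?_
      rw [show ((l : _ → K') ∘ j') = j from funext hlj, RingHom.injective_iff_ker_eq_bot, eq_bot_iff]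
      intro c hc
      by_contra hc0
      obtain ⟨k, hk⟩ := hint c
      refine Ideal.comap_ne_bot_of_integral_mem (I := RingHom.ker j)
        (mul_ne_zero (pow_ne_zero k hunit.ne_zero) hc0) (Ideal.mul_mem_left _ _ hc) hk (eq_bot_iff.2 ?_)
      intro a ha
      rw [Ideal.mem_comap, RingHom.mem_ker, hj, IsScalarTower.algebraMap_apply A A' K',
        map_eq_zero_iff _ (IsFractionRing.injective A' K'), map_eq_zero_iff _
        (AbsAbh.algebraMap_injective A f n hm hn)] at ha
      exact ha
    letI : Algebra Γ(V.left, ⊤) (Localization.Away G) := j'.toAlgebra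
    haveI : IsScalarTower A Γ(V.left, ⊤) (Localization.Away G) := IsScalarTower.of_algebraMap_eq fun a =>
      ((hjA a).trans (IsScalarTower.algebraMap_apply A A' (Localization.Away G) a).symm).symm
    have hint' : j'.IsIntegral := by
      intro x
      change _root_.IsIntegral Γ(V.left, ⊤) x
      obtain ⟨z, ⟨_, k, rfl⟩, rfl⟩ := IsLocalization.exists_mk'_eq (Submonoid.powers G) x
      obtain ⟨v, hv⟩ := isUnit_iff_exists_inv.1 hunit
      have h1 : IsLocalization.mk' (Localization.Away G) z (⟨G ^ k, k, rfl⟩ : Submonoid.powers G) =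
          algebraMap A' (Localization.Away G) z * (j' v) ^ k := by
        rw [IsLocalization.mk'_eq_iff_eq_mul, map_pow, mul_assoc, ← mul_pow,
          show algebraMap A' (Localization.Away G) G = j' (algebraMap A _ (∏ i, f i)) from (hjA _).symm,
          ← map_mul, mul_comm v, hv, map_one, one_pow, mul_one]
      rw [h1]
      exact (((Algebra.IsIntegral.isIntegral (R := A) z).map
        (IsScalarTower.toAlgHom A A' (Localization.Away G))).tower_top).mul (isIntegral_algebraMap.pow k)
    haveI : Surjective (Spec.map (CommRingCat.ofHom j')) := ⟨hint'.comap_surjective hinj⟩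
    infer_instance

end Groth.Agent.S2923
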