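import Groth.Statements.S2924
import Mathlib
import Groth.Agent.EtRamLib.WildFixField
import Groth.Agent.EtRamLib.Abhyankar
-- import your own Groth.Agent.* helpers here

set_option autoImplicit false
set_option linter.style.haveILetI false
universe u
open IsLocalRing
open SGA1

namespace Groth.Agent.S2924

/-- A wild automorphism fixes any root, of order invertible at `A`, of a nonzero element of `K`. -/
theorem wild_fix_root' {A K : Type u} [CommRing A] [IsLocalRing A] [Field K] [Algebra A K]
    (N : Type u) [Field N] [Algebra K N] (a : K) (ha : a ≠ 0) (W : ValuationSubring N)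
    (hW : EtRam.Dominates A ((algebraMap K N).comp (algebraMap A K)) W)
    (σ : N →+* N) (hσK : ∀ c : K, σ (algebraMap K N c) = algebraMap K N c)
    (hσ : ∀ x : N, x ≠ 0 → W.valuation (σ x / x - 1) < 1)
    (r : N) (e : ℕ) (he : 0 < e) (heA : IsUnit (e : A))
    (hr : r ^ e = algebraMap K N a) : σ r = r := by
  have ha0 : algebraMap K N a ≠ 0 := (_root_.map_ne_zero _).2 ha
  have hr0 : r ≠ 0 := fun h0 ↦ ha0 (by rw [← hr, h0, zero_pow he.ne'])
  set z := σ r / r with hz
  have hz1 : W.valuation (z - 1) < 1 := hσ r hr0
  have hze : z ^ e = 1 := by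
    rw [hz, div_pow, ← map_pow, hr, hσK, div_self ha0]
  let w : W := ⟨z - 1, (W.valuation_le_one_iff _).1 hz1.le⟩
  have hw : w ∈ maximalIdeal W := (W.valuation_lt_one_iff w).2 hz1
  obtain ⟨k, hk⟩ := Polynomial.binomExpansion ((Polynomial.X : Polynomial W) ^ e) 1 w
  simp only [Polynomial.eval_pow, Polynomial.eval_X, one_pow, Polynomial.derivative_X_pow, Polynomial.eval_mul,
    Polynomial.eval_C, mul_one] at hk
  have h1w : (1 + w) ^ e = 1 := Subtype.ext (by
    push_cast
    rw [show (1 : N) + (w : N) = z from add_sub_cancel _ _]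
    exact hze)
  rw [h1w] at hk
  have heW : IsUnit (e : W) := by
    have := heA.map (RingHom.codRestrict ((algebraMap K N).comp (algebraMap A K)) W hW.1)
    rwa [map_natCast] at this
  have hunit : IsUnit ((e : W) + k * w) := by
    by_contra hu
    have h2 := sub_mem (IsLocalRing.mem_maximalIdeal _ |>.2 hu) (Ideal.mul_mem_left _ k hw)
    rw [add_sub_cancel_right] at h2
    exact h2 heW
  have hw0 : w = 0 := by
    have h3 : ((e : W) + k * w) * w = 0 := by linear_combination -hk
    exact (mul_eq_zero.1 h3).resolve_left hunit.ne_zero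
  have hz0 : z = 1 := sub_eq_zero.1 (congrArg Subtype.val hw0)
  rw [hz, div_eq_one_iff_eq hr0] at hz0
  exact hz0

/-- An extension of the fraction field of a DVR generated by roots, of orders invertible in it, of
nonzero elements is tamely ramified. -/
theorem tame_of_kummer (R : Type u) [CommRing R] [IsDomain R] [IsDiscreteValuationRing R]
    (L : Type u) [Field L] (γ : R →+* L) (hinj : Function.Injective γ) {r : ℕ} (a : Fin r → R) (ha : ∀ j, a j ≠ 0)
    (n : Fin r → ℕ) (hn : ∀ j, 0 < n j) (hu : ∀ j, IsUnit ((n j : ℕ) : R)) (t : Fin r → L)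
    (ht : ∀ j, t j ^ n j = γ (a j)) (hgen : ∀ x : L, x ∈ Subfield.closure (Set.range γ ∪ Set.range t)) :
    EtRam.IsTamelyRamified R γ := by
  classical
  let K := FractionRing R
  letI : Algebra K L := (IsFractionRing.lift hinj).toAlgebra
  have hγK : γ = (algebraMap K L).comp (algebraMap R K) :=
    RingHom.ext fun x => (IsFractionRing.lift_algebraMap hinj x).symm
  rw [hγK]
  let c : Fin r → K := fun j => algebraMap R K (a j)
  have htc : ∀ j, t j ^ n j = algebraMap K L (c j) := fun j => by rw [ht, hγK]; rfl
  have hc : ∀ j, c j ≠ 0 := fun j => (map_ne_zero_iff _ (IsFractionRing.injective R K)).2 (ha j)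
  have hnK : ∀ j, ((n j : ℕ) : K) ≠ 0 := fun j => by
    have := (hu j).map (algebraMap R K)
    rw [map_natCast] at this
    exact this.ne_zero
  have hsep : ∀ x ∈ Set.range t, IsSeparable K x := by
    rintro _ ⟨j, rfl⟩
    exact (Polynomial.separable_X_pow_sub_C (c j) (hnK j) (hc j)).of_dvd (minpoly.dvd K (t j) (by simp [htc]))
  have hgen' : IntermediateField.adjoin K (Set.range t) = ⊤ := by
    rw [eq_top_iff]
    intro x _
    refine (Subfield.closure_le.2 ?_ : Subfield.closure (Set.range γ ∪ Set.range t) ≤
      (IntermediateField.adjoin K (Set.range t)).toSubfield) (hgen x)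
    rintro _ (⟨y, rfl⟩ | ⟨j, rfl⟩)
    · rw [hγK]; exact IntermediateField.algebraMap_mem _ _
    · exact IntermediateField.subset_adjoin _ _ ⟨j, rfl⟩
  haveI : Algebra.IsSeparable K L := by
    rw [← IntermediateField.isSeparable_adjoin_iff_isSeparable] at hsep
    rw [hgen'] at hsep
    exact AlgEquiv.Algebra.isSeparable IntermediateField.topEquiv
  haveI : FiniteDimensional K L := by
    have : FiniteDimensional K (IntermediateField.adjoin K (Set.range t)) :=
      IntermediateField.finiteDimensional_adjoin fun x _ => Algebra.IsSeparable.isIntegral K x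
    rw [hgen'] at this
    exact Module.Finite.equiv (IntermediateField.topEquiv (F := K) (E := L)).toLinearEquiv
  let Ω := SeparableClosure K
  let ι : L →ₐ[K] Ω := IsSepClosed.lift
  haveI : FiniteDimensional K ι.fieldRange := Module.Finite.equiv (AlgEquiv.ofInjectiveField ι).toLinearEquiv
  let N : IntermediateField K Ω := IntermediateField.normalClosure K ι.fieldRange Ω
  haveI : IsGalois K N := { }
  let j₀ : L →ₐ[K] N := AlgHom.codRestrict ι N.toSubalgebra fun x => (ι.fieldRange).le_normalClosure ⟨x, rfl⟩
  letI : Algebra L N := j₀.toRingHom.toAlgebra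
  haveI : IsScalarTower K L N := IsScalarTower.of_algebraMap_eq fun a => (j₀.commutes a).symm
  refine EtRamLib.WildFixField.isTamelyRamified_of_fixed (N := N) L fun W hW σ hσ x => ?_
  have hfix : ∀ j, σ (algebraMap L N (t j)) = algebraMap L N (t j) := fun j =>
    wild_fix_root' (A := R) N _ (hc j) W hW (σ : N →+* N) (fun a => σ.commutes a) hσ _ (n j) (hn j)
      (hu j) (by rw [← map_pow, htc, ← IsScalarTower.algebraMap_apply])
  have hx : x ∈ IntermediateField.adjoin K (Set.range t) := hgen' ▸ IntermediateField.mem_top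
  induction hx using IntermediateField.adjoin_induction with
  | mem y hy => obtain ⟨j, rfl⟩ := hy; exact hfix j
  | algebraMap y => rw [← IsScalarTower.algebraMap_apply]; exact σ.commutes y
  | add a b _ _ ha hb => rw [map_add, map_add, ha, hb]
  | inv a _ ha => rw [map_inv₀, map_inv₀, ha]
  | mul a b _ _ ha hb => rw [map_mul, map_mul, ha, hb]

/-- The residue fields of the generic fibre of an algebra generated by roots are tamely ramified. -/
theorem tame_residueField {A B : Type u} [CommRing A] [IsDomain A] [IsNoetherianRing A] [CommRing B] (φ : A →+* B)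
    (f₀ : A) (hf₀ : f₀ ≠ 0) [(Ideal.span {f₀}).IsPrime] {r : ℕ} (f : Fin r → A) (hf : ∀ j, f j ≠ 0)
    (n : Fin r → ℕ) (hn : ∀ j, 0 < n j) (hu : ∀ j, IsUnit ((n j : ℕ) : A)) (T : Fin r → B)
    (hT : ∀ j, T j ^ n j = φ (f j)) (hgen : ∀ y : B, y ∈ Subring.closure (Set.range φ ∪ Set.range T))
    (q : Ideal B) [q.IsPrime] (hq : Ideal.comap φ q = ⊥) :
    EtRam.IsTamelyRamified (Localization.AtPrime (Ideal.span {f₀}))
      (SGA1.genericResidueMap φ (Ideal.span {f₀}) q hq) := by
  let P := Ideal.span {f₀}
  haveI : IsDomain (Localization.AtPrime P) := IsLocalization.isDomain_localization P.primeCompl_le_nonZeroDivisors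
  have hinjP : Function.Injective (algebraMap A (Localization.AtPrime P)) :=
    IsLocalization.injective (Localization.AtPrime P) P.primeCompl_le_nonZeroDivisors
  haveI : IsNoetherianRing (Localization.AtPrime P) := IsLocalization.isNoetherianRing P.primeCompl _ inferInstance
  have hbot : maximalIdeal (Localization.AtPrime P) ≠ ⊥ := by
    intro h
    have h1 : algebraMap A (Localization.AtPrime P) f₀ ∈ maximalIdeal (Localization.AtPrime P) :=
      (IsLocalization.AtPrime.to_map_mem_maximal_iff _ P f₀).2 (Ideal.mem_span_singleton_self _)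
    rw [h, Ideal.mem_bot] at h1
    exact hf₀ (hinjP (h1.trans (map_zero _).symm))
  have hp : (maximalIdeal (Localization.AtPrime P)).IsPrincipal := by
    refine ⟨algebraMap A (Localization.AtPrime P) f₀, ?_⟩
    rw [← Localization.AtPrime.map_eq_maximalIdeal (I := P), Ideal.map_span, Set.image_singleton]
  have hnf : ¬ IsField (Localization.AtPrime P) := fun h => hbot (IsLocalRing.isField_iff_maximalIdeal_eq.1 h)
  haveI : IsDiscreteValuationRing (Localization.AtPrime P) := ((IsDiscreteValuationRing.TFAE _ hnf).out 4 0).1 hp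
  let γ := SGA1.genericResidueMap φ P q hq
  have hγA : ∀ a, γ (algebraMap A _ a) = algebraMap B q.ResidueField (φ a) := fun a =>
    IsLocalization.lift_eq _ a
  have hinjA : Function.Injective ((algebraMap B q.ResidueField).comp φ) := by
    rw [RingHom.injective_iff_ker_eq_bot, ← RingHom.comap_ker, Ideal.ker_algebraMap_residueField]
    exact hq
  have hinj : Function.Injective γ := by
    rw [injective_iff_map_eq_zero]
    intro x hx
    obtain ⟨a, s, rfl⟩ := IsLocalization.exists_mk'_eq P.primeCompl x
    have h1 := congrArg γ (IsLocalization.mk'_spec (Localization.AtPrime P) a s)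
    rw [map_mul, hx, zero_mul, hγA] at h1
    have h2 : a = 0 := hinjA (h1.symm.trans (map_zero _).symm)
    rw [h2, IsLocalization.mk'_zero]
  refine tame_of_kummer _ _ γ hinj (fun j => algebraMap A _ (f j)) (fun j => (map_ne_zero_iff _ hinjP).2 (hf j)) n hn
    (fun j => by have := (hu j).map (algebraMap A (Localization.AtPrime P)); rwa [map_natCast] at this)
    (fun j => algebraMap B _ (T j)) (fun j => by rw [← map_pow, hT, hγA]) fun x => ?_
  obtain ⟨a, b, -, rfl⟩ := IsFractionRing.div_surjective (A := B ⧸ q) x
  have key : ∀ y : B, algebraMap B q.ResidueField y ∈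
      Subfield.closure (Set.range γ ∪ Set.range fun j => algebraMap B q.ResidueField (T j)) := fun y => by
    refine (Subring.closure_le.2 ?_ : Subring.closure (Set.range φ ∪ Set.range T) ≤
      (Subfield.closure _).toSubring.comap (algebraMap B q.ResidueField)) (hgen y)
    rintro _ (⟨z, rfl⟩ | ⟨j, rfl⟩)
    · exact Subfield.subset_closure (Or.inl ⟨_, hγA z⟩)
    · exact Subfield.subset_closure (Or.inr ⟨j, rfl⟩)
  obtain ⟨a, rfl⟩ := Ideal.Quotient.mk_surjective a
  obtain ⟨b, rfl⟩ := Ideal.Quotient.mk_surjective b
  rw [Ideal.algebraMap_quotient_residueField_mk, Ideal.algebraMap_quotient_residueField_mk]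
  exact div_mem (key a) (key b)

/-- Let A be a regular local ring, f_1, …, f_r part of a regular system of parameters and n_i ≥ 1
invertible in the residue field. Then the Kummer algebra A[T_1, …, T_r]/(T_i^{n_i} − f_i) is tamely
ramified along each f_i (at every point of its generic fibre, with respect to the discrete valuation
rings A_{(f_i)}). -/
theorem result (A : Type u) [CommRing A] [IsRegularLocalRing A] [IsDomain A] (r : ℕ) (f : Fin r → A)
    (hm : ∀ i, f i ∈ maximalIdeal A)
    (hf : LinearIndependent (ResidueField A) (fun i => (maximalIdeal A).toCotangent ⟨f i, hm i⟩))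
    [∀ i, (Ideal.span {f i}).IsPrime] (n : Fin r → ℕ) (hn : ∀ i, 1 ≤ n i) (hu : ∀ i, IsUnit ((n i : ℕ) : ResidueField A)) :
    SGA1.IsTameAlong f (algebraMap A (SGA1.kummerAlg A f n)) := by
  intro i q hqp hq
  have hf0 : ∀ j, f j ≠ 0 := fun j h0 => hf.ne_zero j (by
    rw [show (⟨f j, hm j⟩ : maximalIdeal A) = 0 from Subtype.ext h0, map_zero])
  refine tame_residueField _ (f i) (hf0 i) f hf0 n hn
    (fun j => isUnit_of_map_unit (residue A) _ (by rw [map_natCast]; exact hu j))
    (fun j => Ideal.Quotient.mk _ (MvPolynomial.X j)) (fun j => by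
      rw [← map_pow]
      exact Ideal.Quotient.eq.2 (Ideal.subset_span ⟨j, rfl⟩))
    (fun y => ?_) q hq
  obtain ⟨p, rfl⟩ := Ideal.Quotient.mk_surjective y
  induction p using MvPolynomial.induction_on with
  | C a => exact Subring.subset_closure (Or.inl ⟨a, rfl⟩)
  | add p p' hp hp' => rw [map_add]; exact add_mem hp hp'
  | mul_X p j hp => rw [map_mul]; exact mul_mem hp (Subring.subset_closure (Or.inr ⟨j, rfl⟩))

end Groth.Agent.S2924
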