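import Groth.Statements.S2927
import Groth.Agent.DualAbs.ExtCor
-- import your own Groth.Agent.* helpers here

set_option autoImplicit false
universe u
open CategoryTheory AlgebraicGeometry
open ProjDual

namespace Groth.Agent.S2927

/-- (i)⇔(iii): Let k be a field, X = P^r_k, F a coherent O_X-module and i ≥ 0. Then H^i(X, F(−m))
vanishes for all sufficiently large m if and only if for every closed point x of X the local
cohomology H^i of the stalk F_x, with support in the maximal ideal of O_{X,x}, vanishes. -/
theorem result (k : Type u) [Field k] (r : ℕ) (F : (CohB1.ProjSpace r k).Modules) (hF : Coh.IsCoh F) (i : ℕ) : (∃ m₀ : ℤ, ∀ m : ℤ, m₀ ≤ m → Subsingleton (Coh.HH (CohB1.ProjSpace r k) (Twist.twistBy _ F (-m)) i)) ↔ ∀ x : (CohB1.ProjSpace r k), IsClosed ({x} : Set (CohB1.ProjSpace r k)) → Subsingleton (LocCoh.H (IsLocalRing.maximalIdeal ((CohB1.ProjSpace r k).presheaf.stalk x)) i (F.presheaf.stalk x)) := by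
  have := SerrePn.isLocallyNoetherian (n := r) (R := k)
  have hfin : ∀ x : CohB1.ProjSpace r k,
      Module.Finite ((CohB1.ProjSpace r k).presheaf.stalk x) (F.presheaf.stalk x) := fun x => by
    obtain ⟨_, ⟨U, hU, rfl⟩, hxU, -⟩ := (CohB1.ProjSpace r k).isBasis_affineOpens.exists_subset_of_mem_open
      (Set.mem_univ x) isOpen_univ
    have := hF.1
    have := CohDev.finite_sections hF hU
    exact Props.QProj.finite_stalk F hU hxU
  rcases Nat.lt_or_ge r i with hi | hi
  · refine ⟨fun _ x hx => ?_, fun _ => ⟨0, fun m _ =>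
      ProjTwist.Pn.subsingleton_above _ (ProjTwist.Pn.isQCoh_tw F hF.1 _) i hi⟩⟩
    have := DualAbs.isRegularLocalRing_stalk x
    refine LocCoh.SupportDimVanish.subsingleton_H_of_supportDim_lt' _ i _
      (lt_of_le_of_lt (Module.supportDim_le_ringKrullDim _ _) ?_)
    rw [DualAbs.ringKrullDim_stalk_closed hx]
    exact_mod_cast hi
  · obtain ⟨h1, h2⟩ := DualAbs.vanish_iff_stalkExt (show i + (r - i) = r by omega) hF
    refine ⟨fun h x hx => ?_, fun h => h2 fun x hx => ?_⟩
    · have := DualAbs.isRegularLocalRing_stalk x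
      have := hfin x
      exact (DualAbs.subsingleton_H_iff (DualAbs.ringKrullDim_stalk_closed hx) _ hi).mpr (h1 h x)
    · have := DualAbs.isRegularLocalRing_stalk x
      have := hfin x
      exact (DualAbs.subsingleton_H_iff (DualAbs.ringKrullDim_stalk_closed hx) _ hi).mp (h x hx)


end Groth.Agent.S2927
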