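import Groth.Statements.S2931
import Groth.Agent.DualFinite.CMCase
import Groth.Agent.S2930

set_option autoImplicit false
universe u
open LocCoh

namespace Groth.Agent.S2931

/-- Affine form (coherence of R^p i_*(F) for p < n being finiteness of H^i_I for i ≤ n). Let A be a
Noetherian ring which is a quotient of a regular ring, I an ideal and M a finite A-module such that
M_p is zero or Cohen–Macaulay for every prime p not containing I. Then H^i_I(M) is a finite A-module
for every i ≤ n if and only if for every prime p not containing I which is minimal in the support of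
M, the codimension of V(p) ∩ V(I) in V(p) is greater than n. -/
theorem result (R : Type u) [CommRing R] [IsRegularRing R] (A : Type u) [CommRing A] [IsNoetherianRing A] (π : R →+* A) (hπ : Function.Surjective π) (I : Ideal A) (M : Type u) [AddCommGroup M] [Module A M] [Module.Finite A M] (hCM : ∀ p : PrimeSpectrum A, ¬ I ≤ p.asIdeal → Subsingleton (LocalizedModule p.asIdeal.primeCompl M) ∨ LocCoh.IsCohenMacaulayModule (Localization.AtPrime p.asIdeal) (LocalizedModule p.asIdeal.primeCompl M)) (n : ℕ) : (∀ i : ℕ, i ≤ n → Module.Finite A (LocCoh.H I i M)) ↔ ∀ p : PrimeSpectrum A, ¬ I ≤ p.asIdeal → p.asIdeal ∈ (Module.annihilator A M).minimalPrimes → (n : ℕ∞) < SGA2.relCodim I p := by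
  refine Iff.trans (S2930.result R A π hπ I M n) ⟨fun h p hp hmin => ?_, fun h p q hp hq hpq => ?_⟩
  · -- necessity
    have hfin := (S2930.result R A π hπ I M n).mpr h
    by_contra hle
    rw [not_lt] at hle
    obtain ⟨c, hc⟩ := ENat.ne_top_iff_exists.mp (ne_top_of_le_ne_top (ENat.natCast_ne_top n) hle)
    haveI : Nonempty {q : PrimeSpectrum A // p ≤ q ∧ I ≤ q.asIdeal} := by
      by_contra hne
      rw [not_nonempty_iff] at hne
      unfold SGA2.relCodim at hc
      rw [iInf_of_empty] at hc
      exact ENat.top_ne_coe c hc.symm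
    obtain ⟨⟨q, hpq, hIq⟩, hq⟩ := ENat.exists_eq_iInf
      (fun q : {q : PrimeSpectrum A // p ≤ q ∧ I ≤ q.asIdeal} => Order.height (⟨q.1, q.2.1⟩ : Set.Ici p))
    replace hq : Order.height (⟨q, hpq⟩ : Set.Ici p) = c := hq.trans hc.symm
    have hht : (q.asIdeal.map (Ideal.Quotient.mk p.asIdeal)).height ≤ (c : ℕ∞) := by
      rw [EGA41Lib.height_map_mk (hQ := q.2) hpq]
      refine le_trans (le_of_eq ?_) hq.le
      exact (Order.height_orderIso (OrderIso.setCongr (PrimeSpectrum.zeroLocus (p.asIdeal : Set A)) (Set.Ici p)
        (Set.ext fun x => Iff.rfl)) _).symm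
    have hbound := LocCoh.AdjDepth.finDimRel_le_depth_add (a := I) (b := I) M c p.asIdeal q.asIdeal hp hIq hpq hht
    -- the depth at a minimal point of the support is zero
    have hd0 : _root_.LocCoh.depth (Localization.AtPrime p.asIdeal) (LocalizedModule p.asIdeal.primeCompl M) = 0 := by
      have hpM : p.asIdeal ∈ associatedPrimes A M :=
        Module.associatedPrimes.minimalPrimes_annihilator_subset_associatedPrimes A M hmin
      rw [Depth.depth_eq_idealDepth]
      refine Depth.idealDepth_eq_zero_iff.mpr ⟨IsLocalRing.maximalIdeal _, ?_, le_rfl⟩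
      have key := Module.associatedPrimes.preimage_comap_associatedPrimes_eq_associatedPrimes_of_isLocalizedModule
        p.asIdeal.primeCompl (R' := Localization.AtPrime p.asIdeal)
        (LocalizedModule.mkLinearMap p.asIdeal.primeCompl M)
      rw [← key, Set.mem_preimage]
      exact (congrArg (· ∈ associatedPrimes A M)
        (IsLocalization.AtPrime.under_maximalIdeal (Localization.AtPrime p.asIdeal) p.asIdeal)).mpr hpM
    rw [hd0, zero_add] at hbound
    have hrad : ∀ i ≤ n, I ≤ (Module.annihilator A (_root_.LocCoh.H I i M)).radical := by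
      intro i hi y hy
      classical
      obtain ⟨s, hs⟩ := (hfin i hi).fg_top
      choose k hk using fun x : _root_.LocCoh.H I i M =>
        LocCoh.isPowerTorsion_H (i := i) (I := I) (ModuleCat.of A M) x
      refine ⟨∑ x ∈ s, k x, Module.mem_annihilator.mpr fun z => ?_⟩
      have hz : z ∈ Submodule.span A (s : Set (_root_.LocCoh.H I i M)) := hs ▸ Submodule.mem_top
      induction hz using Submodule.span_induction with
      | mem z hz =>
        obtain ⟨l, hl⟩ := Nat.exists_eq_add_of_le (Finset.single_le_sum (fun j _ => Nat.zero_le (k j)) hz)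
        rw [hl]
        exact hk z _ (by rw [pow_add]; exact Ideal.mul_mem_right _ _ (Ideal.pow_mem_pow hy (k z)))
      | zero => exact smul_zero _
      | add a b _ _ ha hb => rw [smul_add, ha, hb, add_zero]
      | smul a x _ hx => rw [smul_comm, hx, smul_zero]
    have hgt : ((n + 1 : ℕ) : ℕ∞) ≤ _root_.LocCoh.finDimRel I I M := by
      refine le_iInf₂ fun i hi => ?_
      rw [Nat.cast_le]
      by_contra hlt
      exact hi (hrad i (by omega))
    rw [← hc, Nat.cast_le] at hle
    have := hgt.trans hbound
    rw [Nat.cast_le] at this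
    omega
  · rcases hCM p hp with hM | hM
    · have : _root_.LocCoh.depth (Localization.AtPrime p.asIdeal) (LocalizedModule p.asIdeal.primeCompl M) = ⊤ := by
        unfold _root_.LocCoh.depth _root_.LocCoh.idealDepth
        rw [if_pos (Subsingleton.elim _ _)]
      rw [this]
      exact le_top
    · by_cases hsub : Subsingleton (LocalizedModule p.asIdeal.primeCompl M)
      · have : _root_.LocCoh.depth (Localization.AtPrime p.asIdeal) (LocalizedModule p.asIdeal.primeCompl M) = ⊤ := by
          unfold _root_.LocCoh.depth _root_.LocCoh.idealDepth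
          rw [if_pos (Subsingleton.elim _ _)]
        rw [this]
        exact le_top
      haveI := not_subsingleton_iff_nontrivial.mp hsub
      have hsupp : p ∈ Module.support A M := by
        rw [Module.mem_support_iff]
        exact inferInstance
      obtain ⟨P₀, hP₀, hP₀p⟩ := Ideal.exists_minimalPrimes_le (Module.mem_support_iff_of_finite.mp hsupp)
      let p₀ : PrimeSpectrum A := ⟨P₀, hP₀.1.1⟩
      have hn := h p₀ (fun hle => hp (hle.trans hP₀p)) hP₀
      have h1 : SGA2.relCodim I p₀ ≤ Order.height (⟨p, hP₀p⟩ : Set.Ici p₀) + 1 :=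
        (iInf_le (fun x : {x : PrimeSpectrum A // p₀ ≤ x ∧ I ≤ x.asIdeal} =>
          Order.height (⟨x.1, x.2.1⟩ : Set.Ici p₀)) ⟨q, le_trans hP₀p hpq.1.le, hq⟩).trans
          (DualFinite.height_Ici_covBy π hπ (p₀ := p₀) hP₀p hpq)
      have h2 : (n : ℕ∞) ≤ Order.height (⟨p, hP₀p⟩ : Set.Ici p₀) := Order.le_of_lt_add_one (hn.trans_le h1)
      have h3 := DualFinite.height_Ici_le_supportDim (M := M) (p₀ := p₀) hP₀.1.2 hP₀p
      exact h2.trans (WithBot.coe_le_coe.mp (h3.trans_eq hM))

end Groth.Agent.S2931
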