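import Groth.Statements.S2932
import Groth.Agent.ParaFormal.CI
import Groth.Agent.S2823

set_option autoImplicit false
universe u
open ParaF

namespace Groth.Agent.S2932

open Groth.Agent.ParaFormal AlgebraicGeometry

theorem transfer {A B : Type u} [CommRing A] [CommRing B] (e : A ≃+* B)
    (h : IsDomain A ∧ UniqueFactorizationMonoid A) : IsDomain B ∧ UniqueFactorizationMonoid B := by
  obtain ⟨_, hu⟩ := h
  haveI : IsDomain B := e.symm.injective.isDomain e.symm.toRingHom
  exact ⟨this, MulEquiv.uniqueFactorizationMonoid e.toMulEquiv hu⟩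

/-- Let A be a Noetherian local ring which is a complete intersection (a quotient of a regular local
ring by a regular sequence) and which is factorial in codimension ≤ 3: for every prime p with dim
A_p ≤ 3 the local ring A_p is a factorial domain. Then A is a factorial domain. -/
theorem result (A : Type u) [CommRing A] [IsLocalRing A] [IsNoetherianRing A] (hA : SGA2.IsAbsCompleteIntersection A) (h : ∀ p : PrimeSpectrum A, ringKrullDim (Localization.AtPrime p.asIdeal) ≤ 3 → IsDomain (Localization.AtPrime p.asIdeal) ∧ UniqueFactorizationMonoid (Localization.AtPrime p.asIdeal)) : IsDomain A ∧ UniqueFactorizationMonoid A := by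
  obtain ⟨R, _, _, rs, hmem, hreg, ⟨e⟩⟩ := hA
  let π : R →+* A := e.symm.toRingHom.comp (Ideal.Quotient.mk (Ideal.span {r | r ∈ rs}))
  have hπ : CI.Pres π rs rs.length := by
    refine ⟨e.symm.surjective.comp Ideal.Quotient.mk_surjective, rfl, hmem, hreg.toIsWeaklyRegular, ?_⟩
    ext x
    simp [π, RingHom.mem_ker, Ideal.Quotient.eq_zero_iff_mem, Ideal.ofList]
  suffices H : ∀ (n : ℕ∞) (p : Ideal A) [p.IsPrime], p.height = n →
      IsDomain (Localization.AtPrime p) ∧ UniqueFactorizationMonoid (Localization.AtPrime p) by
    have hu : ∀ x ∈ (IsLocalRing.maximalIdeal A).primeCompl, IsUnit x := fun x hx =>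
      not_not.1 (fun hn => hx hn)
    exact transfer (IsLocalization.atUnits A (IsLocalRing.maximalIdeal A).primeCompl hu).toRingEquiv.symm
      (H _ (IsLocalRing.maximalIdeal A) rfl)
  intro n
  induction n using WellFoundedLT.induction with
  | ind n ih =>
    intro p _ hn
    let T := Localization.AtPrime p
    by_cases h3 : ringKrullDim T ≤ 3
    · exact h ⟨p, inferInstance⟩ h3
    have h4 : (4 : WithBot ℕ∞) ≤ ringKrullDim T := by
      rw [IsLocalization.AtPrime.ringKrullDim_eq_height p] at h3 ⊢
      have h3' : (3 : ℕ∞) < p.height := not_le.1 fun hle => h3 (WithBot.coe_le_coe.2 hle)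
      have : (4 : ℕ∞) ≤ p.height := Order.add_one_le_of_lt h3'
      exact WithBot.coe_le_coe.2 this
    obtain ⟨R', _, _, π', rs', hp'⟩ := CI.exists_localization hπ p
    have hpara := CI.parafactorial _ π' rs' hp' h4
    refine (Groth.Agent.S2823.result T (le_trans (by norm_num) h4)).2
      ⟨(Groth.Agent.ParaFLib.parafactorial_iff.1 hpara).2,
        CI.le_depth (n := 2) hp' (le_trans (by norm_num) h4), fun y hy => ?_⟩
    obtain ⟨e₁⟩ := Groth.Agent.ParaFLib.PuncturedLocal.stalkEquiv T y
    let q : Ideal A := Ideal.comap (algebraMap A T) y.asIdeal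
    let e₂ := IsLocalization.localizationLocalizationAtPrimeIsoLocalization p.primeCompl y.asIdeal
    have hqp : q < p := by
      refine lt_of_le_of_ne ?_ fun he => hy ?_
      · intro x hx
        by_contra hxp
        exact y.2.ne_top (Ideal.eq_top_of_isUnit_mem _ hx (IsLocalization.map_units T (⟨x, hxp⟩ : p.primeCompl)))
      · refine PrimeSpectrum.localization_comap_injective T p.primeCompl (PrimeSpectrum.ext ?_)
        show q = (IsLocalRing.maximalIdeal T).comap (algebraMap A T)
        rw [he]
        exact (IsLocalization.AtPrime.under_maximalIdeal T p).symm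
    have hlt : q.height < n := hn ▸ Ideal.height_strict_mono_of_isPrime hqp
    exact transfer (e₂.toRingEquiv.trans e₁) (ih _ hlt q rfl)

end Groth.Agent.S2932
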