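import Groth.Statements.S2938
import Groth.Agent.Depth.Open

set_option autoImplicit false
universe u
open scoped TensorProduct
open LocCoh

namespace Groth.Agent.S2938

/-- Suppose A and B are Noetherian rings with a ring map A → B, I is an ideal of A and M is a finitely
generated A-module. When B is A-flat, depth_{IB}(B ⊗_A M) ≥ depth_I(M); when B is faithfully flat
over A, the two depths are equal. -/
theorem result (A B : Type u) [CommRing A] [CommRing B] [Algebra A B] [IsNoetherianRing A] [IsNoetherianRing B] (I : Ideal A) (M : Type u) [AddCommGroup M] [Module A M] [Module.Finite A M] : (Module.Flat A B → LocCoh.idealDepth I M ≤ LocCoh.idealDepth (I.map (algebraMap A B)) (B ⊗[A] M)) ∧ (Module.FaithfullyFlat A B → LocCoh.idealDepth (I.map (algebraMap A B)) (B ⊗[A] M) = LocCoh.idealDepth I M) := by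
  refine ⟨fun h => Depth.idealDepth_le_idealDepth_of_isBaseChange
    (f := TensorProduct.mk A B M 1) (TensorProduct.isBaseChange A M B), fun h => ?_⟩
  refine le_antisymm ?_ (Depth.idealDepth_le_idealDepth_of_isBaseChange
    (f := TensorProduct.mk A B M 1) (TensorProduct.isBaseChange A M B))
  rcases eq_or_ne (LocCoh.idealDepth I M) ⊤ with htop | htop
  · rw [htop]; exact le_top
  obtain ⟨e, he⟩ := ENat.ne_top_iff_exists.mp htop
  rw [← he]
  clear htop
  induction e generalizing M with
  | zero =>
    obtain ⟨p, hp, hIp⟩ := Depth.idealDepth_eq_zero_iff.mp (by simpa using he.symm)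
    obtain ⟨hprime, φ, hφ⟩ := (isAssociatedPrime_iff_exists_injective_linearMap p M).mp hp
    refine le_of_eq (ENat.lt_one_iff_eq_zero.mp (lt_of_not_ge fun h1 => ?_))
    obtain ⟨b, hb, hreg⟩ := Depth.exists_isSMulRegular_of_one_le_idealDepth h1
    have hinj : Function.Injective (φ.lTensor B) := Module.Flat.lTensor_preserves_injective_linearMap φ hφ
    have : Nontrivial (A ⧸ p) := Ideal.Quotient.nontrivial_iff.mpr hprime.ne_top
    obtain ⟨z, hz⟩ := exists_ne (0 : B ⊗[A] (A ⧸ p))
    refine hz (hinj ?_)
    rw [map_zero]
    refine hreg ?_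
    have key : ∀ c ∈ I.map (algebraMap A B), ∀ y : B ⊗[A] (A ⧸ p), c • φ.lTensor B y = 0 := by
      intro c hc
      refine Submodule.span_induction (p := fun c _ => ∀ y, c • φ.lTensor B y = 0) ?_ ?_ ?_ ?_ hc
      · rintro _ ⟨r, hr, rfl⟩ y
        rw [IsScalarTower.algebraMap_smul, ← map_smul]
        induction y using TensorProduct.induction_on with
        | zero => simp
        | tmul c d =>
          obtain ⟨d, rfl⟩ := Ideal.Quotient.mk_surjective d
          rw [← TensorProduct.tmul_smul, Algebra.smul_def, Ideal.Quotient.algebraMap_eq, ← map_mul,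
            Ideal.Quotient.eq_zero_iff_mem.mpr (p.mul_mem_right d (hIp hr)), TensorProduct.tmul_zero,
            map_zero]
        | add u v hu hv => rw [smul_add, map_add, hu, hv, add_zero]
      · simp
      · intro u v _ _ hu hv y; rw [add_smul, hu, hv, add_zero]
      · intro u v _ hv y; rw [smul_assoc, hv, smul_zero]
    show b • _ = b • _
    rw [key b hb, smul_zero]
  | succ e ih =>
    obtain ⟨x, hx, hreg⟩ := Depth.exists_isSMulRegular_of_one_le_idealDepth (I := I) (M := M)
      (by rw [← he]; exact_mod_cast Nat.succ_pos e)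
    have h' : (e : ℕ∞) = LocCoh.idealDepth I (QuotSMulTop x M) := by
      have := Depth.idealDepth_quotSMulTop_add_one hx hreg
      rw [← he] at this; push_cast at this
      exact (WithTop.add_right_cancel ENat.one_ne_top this).symm
    have hreg' : IsSMulRegular (B ⊗[A] M) (algebraMap A B x) :=
      hreg.of_flat_of_isBaseChange (TensorProduct.isBaseChange A M B)
    rw [← Depth.idealDepth_quotSMulTop_add_one (Ideal.mem_map_of_mem _ hx) hreg',
      ← Depth.idealDepth_congr (QuotSMulTop.algebraMapTensorEquivTensorQuotSMulTop x M B).symm]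
    push_cast
    exact add_le_add (ih (QuotSMulTop x M) h') le_rfl

end Groth.Agent.S2938
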