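import Groth.Statements.S2942
import Groth.Agent.DualAbs.CMCrit
import Groth.Agent.NumTriv.Section
import Groth.Agent.NumTriv.Twist
import Groth.Agent.VertInter.Comp
import Groth.Agent.NegVan.Main
import Groth.Agent.EulerChar.Cartier
import Groth.Agent.PicLaw.Calc
import Groth.Agent.CohLin.Basic
-- import your own Groth.Agent.* helpers here

set_option autoImplicit false
universe u
open CategoryTheory AlgebraicGeometry
open Lef

namespace Groth.Agent.S2942

open Groth.Agent
open scoped Groth.Agent.PicLaw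

/-- Over a field and for the structure sheaf. Let k be a field and X a proper k-scheme; let 𝓘 be a
quasi-coherent ideal sheaf whose ideal module is invertible with an ample inverse L (so 𝓘 defines an
effective Cartier divisor Y with O_X(Y) = L ample), and suppose that at every closed point x the
local ring O_{X,x} has depth greater than n. Then there is m₀ such that for all m ≥ m₀ the map
H^i(X, O_X) → H^i(X, O_X/𝓘^{m+1}) induced by the quotient map is bijective for every i < n and
injective for i = n. -/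
theorem result (k : Type u) [Field k] (X : Scheme.{u}) [X.Over (Spec (CommRingCat.of k))] [IsProper (X ↘ (Spec (CommRingCat.of k)))] (𝓘 : X.IdealSheafData) (L : X.Modules) (hL : ClSub.IsInverseOf L (ClSub.idealMod 𝓘)) (hamp : CohB1.IsAmple L) (n : ℕ) (hdepth : ∀ x : X, IsClosed ({x} : Set X) → (n : ℕ∞) < LocCoh.depth (X.presheaf.stalk x) (X.presheaf.stalk x)) : ∃ m₀ : ℕ, ∀ m : ℕ, m₀ ≤ m → (∀ i : ℕ, i < n → Function.Bijective (Sheaf.H.map ((SheafOfModules.toSheaf X.ringCatSheaf).map (ClSub.toSubscheme (𝓘 ^ (m + 1)))) i)) ∧ Function.Injective (Sheaf.H.map ((SheafOfModules.toSheaf X.ringCatSheaf).map (ClSub.toSubscheme (𝓘 ^ (m + 1)))) n) := by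

  haveI := EulerChar.isLocallyNoetherian k (X := X)
  let M := ClSub.idealMod 𝓘
  have hLinv : PicF.IsInvertible L := hamp.1
  have hM : PicF.IsInvertible M := by
    obtain ⟨e⟩ := hL
    exact NegVan.isInvertible_of_inverse hLinv ⟨e⟩
  have heff : BlowUp.IsEffCartierIdeal 𝓘 := IdealSh.IdealMod.isEffCartierIdeal_of_isInvertible 𝓘 hM
  obtain ⟨a, N, ι, ha, hι, -, ⟨ea⟩⟩ := NumTriv.Section.exists_embedding_pow (k := k) hamp
  haveI := hι
  have hpow : ∀ r : ℕ, 0 < r → BlowUp.IsEffCartierIdeal (𝓘 ^ r) ∧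
      ∃ h : PicF.IsInvertible (ClSub.idealMod (𝓘 ^ r)),
        PicGrp.cls _ h = (PicGrp.cls M hM) ^ r := by
    intro r hr
    induction r with
    | zero => omega
    | succ r ih =>
      rcases Nat.eq_zero_or_pos r with rfl | hr'
      · rw [Nat.zero_add, pow_one]
        exact ⟨heff, hM, (pow_one _).symm⟩
      · obtain ⟨hc, h, he⟩ := ih hr'
        rw [pow_succ]
        have hc' := IdealSh.EffCartier.mul hc heff
        obtain ⟨e⟩ := VertInter.nonempty_idealMod_mul hc heff
        have h' := PicCl.isInvertible_of_iso e (PicLaw.isInvertible_tensor h hM)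
        refine ⟨hc', h', ?_⟩
        rw [← (PicLaw.iso_iff (PicLaw.isInvertible_tensor h hM) h').1 ⟨e⟩, PicLaw.cls_tensor h hM, he, pow_succ]
  have hd : ∀ (F : X.Modules), PicF.IsInvertible F → ∀ z : X, IsClosed ({z} : Set X) →
      ((n + 1 : ℕ) : ℕ∞) ≤ LocCoh.depth (X.presheaf.stalk z) (F.presheaf.stalk z) := by
    intro F hF z hz
    obtain ⟨U, g, hgU, hg⟩ := Props.GenLocus.exists_isGen hF z
    rw [Depth.depth_eq_idealDepth, Depth.idealDepth_congr
      (LinearEquiv.ofBijective _ (PicLaw.bijective_toSpanSingleton_germ hg z hgU)).symm,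
      ← Depth.depth_eq_idealDepth, Nat.cast_succ]
    exact Order.add_one_le_of_lt (hdepth z hz)
  choose q₀ hq₀ using fun r : ℕ => DualAbs.exists_vanish_of_depth ι (n := n + 1)
    (PerfTri.Bounded.isCoh_of_isFinLocFree (ProjForm.isFinLocFree_of_isInvertible (hpow (r + 1) r.succ_pos).2.choose))
    (hd _ (hpow (r + 1) r.succ_pos).2.choose)
  let Q := (Finset.range a).sup q₀
  have hvan : ∀ m : ℕ, a * Q ≤ m → ∀ j : ℕ, j < n + 1 →
      Subsingleton (Coh.HH X (ClSub.idealMod (𝓘 ^ (m + 1))) j) := by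
    intro m hm j hj
    let r := m % a
    let q := m / a
    have hr : r < a := Nat.mod_lt _ ha
    have hq : q₀ r ≤ q := (Finset.le_sup (f := q₀) (Finset.mem_range.2 hr)).trans
      ((Nat.le_div_iff_mul_le ha).2 (by rw [Nat.mul_comm]; exact hm))
    obtain ⟨-, h₁, he₁⟩ := hpow (m + 1) m.succ_pos
    obtain ⟨hr₁, hr₂⟩ := (hpow (r + 1) r.succ_pos).2.choose, (hpow (r + 1) r.succ_pos).2.choose_spec
    have hO : ∀ d : ℤ, PicF.IsInvertible (NumTriv.oX ι d) := NumTriv.isInvertible_oX ι
    have hpowO : ∀ t : ℕ, PicGrp.cls _ (hO t) = (PicGrp.cls _ (hO 1)) ^ t := by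
      intro t
      induction t with
      | zero =>
        rw [pow_zero, ← PicLaw.cls_one]
        exact (PicLaw.iso_iff _ _).1 (NumTriv.nonempty_oX_zero ι)
      | succ t ih =>
        rw [pow_succ, ← ih, ← PicLaw.cls_tensor]
        exact ((PicLaw.iso_iff _ _).1 (NumTriv.nonempty_oX_add ι t 1 ((t + 1 : ℕ) : ℤ) (by push_cast; ring))).symm
    have hneg : PicGrp.cls _ (hO (-(q : ℤ))) * PicGrp.cls _ (hO (q : ℤ)) = 1 := by
      rw [← PicLaw.cls_tensor, ← PicLaw.cls_one]
      refine (PicLaw.iso_iff _ _).1 ?_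
      obtain ⟨e⟩ := NumTriv.nonempty_oX_add ι (-(q : ℤ)) q 0 (by ring)
      obtain ⟨e'⟩ := NumTriv.nonempty_oX_zero ι
      exact ⟨e ≪≫ e'⟩
    have hLM : PicGrp.cls L hLinv * PicGrp.cls M hM = 1 := by
      rw [← PicLaw.cls_tensor, ← PicLaw.cls_one]
      exact (PicLaw.iso_iff _ _).1 hL
    have hLa : PicGrp.cls _ (hO 1) = (PicGrp.cls L hLinv) ^ a := by
      have : ∀ t : ℕ, ∃ h : PicF.IsInvertible (CohB1.tensorPow L t),
          PicGrp.cls _ h = (PicGrp.cls L hLinv) ^ t := by
        intro t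
        induction t with
        | zero => exact ⟨PicLoc.isInvertible_structureModule X, by rw [pow_zero]; exact PicLaw.cls_one⟩
        | succ t ih =>
          obtain ⟨h, he⟩ := ih
          exact ⟨PicLaw.isInvertible_tensor h hLinv, by rw [pow_succ, ← he]; exact PicLaw.cls_tensor h hLinv⟩
      obtain ⟨h, he⟩ := this a
      rw [← he]
      exact ((PicLaw.iso_iff _ _).1 ⟨ea⟩).symm
    have key : Nonempty (CohB1.tensorMod (ClSub.idealMod (𝓘 ^ (r + 1))) (NumTriv.oX ι (-(q : ℤ))) ≅
        ClSub.idealMod (𝓘 ^ (m + 1))) := by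
      refine (PicLaw.iso_iff (PicLaw.isInvertible_tensor hr₁ (hO _)) h₁).2 ?_
      rw [PicLaw.cls_tensor hr₁ (hO _), hr₂, he₁]
      rw [hpowO q, hLa, ← pow_mul] at hneg
      have hM' : PicGrp.cls M hM ^ (a * q) * PicGrp.cls L hLinv ^ (a * q) = 1 := by
        rw [← mul_pow, mul_comm (PicGrp.cls M hM), hLM, one_pow]
      rw [mul_right_cancel (hneg.trans hM'.symm), ← pow_add]
      congr 1
      show m % a + 1 + a * (m / a) = m + 1
      have := Nat.mod_add_div m a
      omega
    exact @AmpCrit.subsingleton_HH_of_iso _ _ _ key.some j (hq₀ r q hq j hj)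
  refine ⟨a * Q, fun m hm => ?_⟩
  have hS := EulerChar.shortExact_ideal (𝓘 ^ (m + 1))
  have hinj : ∀ i : ℕ, i ≤ n → Function.Injective (CohLin.hMap (ClSub.toSubscheme (𝓘 ^ (m + 1))) i) := by
    intro i hi
    rw [injective_iff_map_eq_zero]
    intro x hx
    obtain ⟨y, hy⟩ := CohLin.exists_hMap_f_eq hS x hx
    haveI := hvan m hm i (Nat.lt_succ_of_le hi)
    rw [← hy]
    exact (congrArg _ (@Subsingleton.elim _ this y 0)).trans (map_zero _)
  refine ⟨fun i hi => ⟨hinj i hi.le, fun x => ?_⟩, hinj n le_rfl⟩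
  exact CohLin.exists_hMap_g_eq hS x (@Subsingleton.elim _ (hvan m hm (i + 1) (Nat.succ_lt_succ hi)) _ _)

end Groth.Agent.S2942
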