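import Groth.Statements.S2954
import Groth.Agent.RootDatum.Exists
-- import your own Groth.Agent.* helpers here

set_option autoImplicit false
open RootPairing
open scoped Pointwise
universe u
open RootD

namespace Groth.Agent.S2954

/-- For a finite crystallographic reduced root pairing (over a domain of characteristic zero), the Weyl
group acts freely and transitively on bases: for two bases b, b' there is exactly one element of the
Weyl group carrying the set of simple roots of b onto that of b'. -/
theorem result {ι R M N : Type*} [CommRing R] [CharZero R] [IsDomain R] [AddCommGroup M] [Module R M]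
    [AddCommGroup N] [Module R N] (P : RootPairing ι R M N) [Finite ι] [P.IsCrystallographic] [P.IsReduced]
    (b b' : P.Base) :
    ∃! g : P.weylGroup, (fun i : ι => (g : P.Aut) • i) '' (b.support : Set ι) = (b'.support : Set ι) := by
  have h := RootDatum.isSimple_of_base P b
  obtain ⟨g, hg, e⟩ := RootDatum.weylGroup_transitive_simple P h (RootDatum.isSimple_of_base P b')
  refine ⟨⟨g, hg⟩, e, ?_⟩
  rintro ⟨w, hw⟩ he
  have h1 : w⁻¹ * g = 1 := by
    refine h.eq_one_of_preserves (mul_mem (inv_mem hw) hg) fun i hi => h.mem_posOf_self ?_
    have : g • i ∈ (fun i : ι => w • i) '' (b.support : Set ι) :=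
      (he.trans e.symm) ▸ ⟨i, hi, rfl⟩
    obtain ⟨j, hj, ej⟩ := this
    rw [mul_smul, ← ej, inv_smul_smul]
    exact hj
  exact Subtype.ext (inv_mul_eq_one.mp h1)

end Groth.Agent.S2954
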