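import Groth.Statements.S2956
import Groth.Agent.RootDatum.Exists
import Groth.Agent.RootDatum.Weyl
import Mathlib.GroupTheory.Coxeter.Basic
-- import your own Groth.Agent.* helpers here

set_option autoImplicit false
open RootPairing
open scoped Pointwise
universe u
open RootD

namespace Groth.Agent.S2956

set_option linter.unusedSectionVars false
set_option linter.unusedSimpArgs false

variable {ι R M N : Type*} [CommRing R] [CharZero R] [IsDomain R] [AddCommGroup M] [Module R M]
  [AddCommGroup N] [Module R N] (P : RootPairing ι R M N) [Finite ι] [P.IsCrystallographic]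
  [P.IsReduced] (b : P.Base)

/-- A simple reflection. -/
noncomputable abbrev sref (j : b.support) : P.Aut := RootPairing.Equiv.reflection P (j : ι)

/-- Product of simple reflections along a word. -/
noncomputable def pr (l : List b.support) : P.Aut := (l.map (sref P b)).prod

theorem pr_append (l l' : List b.support) : pr P b (l ++ l') = pr P b l * pr P b l' := by
  simp [pr]

theorem pr_single (c : b.support) : pr P b [c] = sref P b c := by simp [pr]

theorem sref_mul_self (j : b.support) : sref P b j * sref P b j = 1 :=
  RootDatum.reflection_mul_self P _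

theorem pr_cons (c : b.support) (l : List b.support) : pr P b (c :: l) = sref P b c * pr P b l := by
  simp only [pr, List.map_cons, List.prod_cons]

theorem pr_cancel (l : List b.support) (c : b.support) :
    pr P b l * sref P b c * sref P b c = pr P b l := by
  rw [mul_assoc, sref_mul_self, mul_one]

theorem sref_injective : Function.Injective (sref P b) := by
  intro a c hac
  by_contra hne
  have h := RootDatum.isSimple_of_base P b
  have e := congrArg (fun g : P.Aut => g • (a : ι)) hac
  simp only [RootDatum.reflection_smul_index] at e
  have e' := congrArg P.root e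
  rw [RootDatum.root_neg, RootDatum.root_reflect] at e'
  have hc := h.lc_inj (c := (2 : ℤ) • Finsupp.single (a : ι) (1 : ℤ))
    (d := P.pairingIn ℤ a c • Finsupp.single (c : ι) (1 : ℤ))
    ((Finsupp.mem_supported ℤ _).mp (Submodule.smul_mem _ _ (Finsupp.single_mem_supported ℤ _ a.2)))
    ((Finsupp.mem_supported ℤ _).mp (Submodule.smul_mem _ _ (Finsupp.single_mem_supported ℤ _ c.2)))
    (by
      simp only [two_smul, map_add, map_smul, Finsupp.linearCombination_single, one_smul]
      rw [neg_eq_iff_add_eq_zero, ← add_sub_assoc, sub_eq_zero] at e'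
      exact e')
  have := DFunLike.congr_fun hc (a : ι)
  simp [Subtype.coe_injective.ne hne] at this

/-- The Coxeter matrix of the orders of products of simple reflections. -/
noncomputable def coxMatrix : CoxeterMatrix b.support where
  M := Matrix.of fun j k => orderOf (sref P b j * sref P b k)
  isSymm := Matrix.IsSymm.ext fun j k => by
    simp only [Matrix.of_apply]
    rw [← orderOf_inv, mul_inv_rev, inv_eq_of_mul_eq_one_right (sref_mul_self P b j),
      inv_eq_of_mul_eq_one_right (sref_mul_self P b k)]
  diagonal j := by simp only [Matrix.of_apply]; rw [sref_mul_self, orderOf_one]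
  off_diagonal j k hjk := by
    simp only [Matrix.of_apply, ne_eq, orderOf_eq_one_iff]
    intro hc
    exact hjk (sref_injective P b (eq_inv_of_mul_eq_one_left hc |>.trans
      (inv_eq_of_mul_eq_one_right (sref_mul_self P b k))))

/-- A word of simple reflections is minimal. -/
def Min (l : List b.support) : Prop :=
  ∀ m : List b.support, pr P b m = pr P b l → l.length ≤ m.length

theorem exchange (l : List b.support) (c : b.support)
    (h : pr P b l • (c : ι) ∉ RootD.posOf P (b.support : Set ι)) :
    ∃ j < l.length, pr P b (l.eraseIdx j) = pr P b l * sref P b c := by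
  have hs := RootDatum.isSimple_of_base P b
  induction l with
  | nil => simp only [pr, List.map_nil, List.prod_nil, one_smul] at h; exact absurd (hs.mem_posOf_self c.2) h
  | cons a t ih =>
    rw [pr, List.map_cons, List.prod_cons, mul_smul, RootDatum.reflection_smul_index] at h
    by_cases ht : pr P b t • (c : ι) ∈ RootD.posOf P (b.support : Set ι)
    · refine ⟨0, by simp, ?_⟩
      have e := hs.eq_of_reflect ht (RootDatum.indiv_smul P (hs.indiv c.2) _) a.2 h
      show pr P b t = pr P b (a :: t) * sref P b c
      rw [show pr P b (a :: t) = sref P b a * pr P b t by simp [pr], mul_assoc,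
        RootDatum.mul_reflection, e, ← mul_assoc, sref_mul_self, one_mul]
    · obtain ⟨j, hj, he⟩ := ih ht
      refine ⟨j + 1, by simp [hj], ?_⟩
      simp only [List.eraseIdx_cons_succ]
      rw [show pr P b (a :: t.eraseIdx j) = sref P b a * pr P b (t.eraseIdx j) by simp [pr], he,
        show pr P b (a :: t) = sref P b a * pr P b t by simp [pr], mul_assoc]

/-- The word alternating between two letters. -/
def alt {α : Type*} (a c : α) : ℕ → List α
  | 0 => []
  | n + 1 => a :: alt c a n

theorem alt_length {α : Type*} (a c : α) (n : ℕ) : (alt a c n).length = n := by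
  induction n generalizing a c with
  | zero => rfl
  | succ n ih => simp [alt, ih]

theorem alt_getElem? {α : Type*} (a c : α) (n j : ℕ) (hj : j < n) :
    (alt a c n)[j]? = some (if Even j then a else c) := by
  induction n generalizing a c j with
  | zero => omega
  | succ n ih =>
    cases j with
    | zero => simp [alt]
    | succ j =>
      rw [alt, List.getElem?_cons_succ, ih c a j (by omega)]
      rcases Nat.even_or_odd j with h | h
      · simp [h, Nat.even_add_one]
      · simp [Nat.not_even_iff_odd.mpr h, Nat.even_add_one]

theorem eq_alt {α : Type*} {a c : α} {l : List α} {n : ℕ} (hl : l.length = n)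
    (h : ∀ j < n, l[j]? = some (if Even j then a else c)) : l = alt a c n :=
  List.ext_getElem? fun j => by
    rcases lt_or_ge j n with hj | hj
    · rw [h j hj, alt_getElem? a c n j hj]
    · rw [List.getElem?_eq_none (by omega), List.getElem?_eq_none (by rw [alt_length]; omega)]

theorem alt_prod {α G : Type*} [Group G] (f : α → G) (hf : ∀ a, f a * f a = 1) (a c : α) (n : ℕ) :
    ((alt a c n).map f).prod * ((alt c a n).map f).prod⁻¹ = (f a * f c) ^ n := by
  induction n generalizing a c with
  | zero => simp [alt]
  | succ n ih =>
    have key : ∀ k, f a * (f c * f a) ^ k = (f a * f c) ^ k * f a := by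
      intro k
      induction k with
      | zero => simp
      | succ k ihk => rw [pow_succ, ← mul_assoc, ihk, pow_succ]; simp only [mul_assoc]
    simp only [alt, List.map_cons, List.prod_cons, mul_inv_rev,
      inv_eq_of_mul_eq_one_right (hf c)]
    rw [pow_succ, ← mul_assoc ((f a * f c) ^ n), ← key, ← ih c a]
    simp only [mul_assoc]

variable {P b} in
/-- Two minimal words with the same product are equal in the Coxeter group. -/
theorem braid : ∀ (n : ℕ) (l l' : List b.support), l.length = n → l'.length = n →
    Min P b l → pr P b l = pr P b l' →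
    (coxMatrix P b).toCoxeterSystem.wordProd l = (coxMatrix P b).toCoxeterSystem.wordProd l' := by
  classical
  have hs := RootDatum.isSimple_of_base P b
  intro n
  induction n using Nat.strong_induction_on with
  | _ n ih =>
  intro l₀ l₀' hl₀ hl₀' hm₀ he₀
  by_contra hne₀
  let cs := (coxMatrix P b).toCoxeterSystem
  -- cancellation of a common first or last letter
  have hlast : ∀ (s t : List b.support) (c : b.support), (s ++ [c]).length = n → (t ++ [c]).length = n →
      Min P b (s ++ [c]) → pr P b (s ++ [c]) = pr P b (t ++ [c]) →
      cs.wordProd (s ++ [c]) = cs.wordProd (t ++ [c]) := by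
    intro s t c hs' ht hm he
    simp only [List.length_append, List.length_singleton] at hs' ht
    have e : pr P b s = pr P b t := by
      rw [pr_append, pr_append] at he; exact mul_right_cancel he
    have hms : Min P b s := fun m hm' => by
      have := hm (m ++ [c]) (by rw [pr_append, pr_append, hm'])
      simp at this; omega
    rw [cs.wordProd_append, cs.wordProd_append,
      ih (n - 1) (by omega) s t (by omega) (by omega) hms e]
  have hfirst : ∀ (s t : List b.support) (c : b.support), (c :: s).length = n → (c :: t).length = n →
      Min P b (c :: s) → pr P b (c :: s) = pr P b (c :: t) →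
      cs.wordProd (c :: s) = cs.wordProd (c :: t) := by
    intro s t c hs' ht hm he
    simp only [List.length_cons] at hs' ht
    have e : pr P b s = pr P b t := by rw [pr_cons, pr_cons] at he; exact mul_left_cancel he
    have hms : Min P b s := fun m hm' => by
      have := hm (c :: m) (by rw [pr_cons, pr_cons, hm'])
      simp at this; omega
    rw [cs.wordProd_cons, cs.wordProd_cons, ih (n - 1) (by omega) s t (by omega) (by omega) hms e]
  let Good : List b.support → List b.support → Prop := fun l l' =>
    l.length = n ∧ l'.length = n ∧ Min P b l ∧ pr P b l = pr P b l' ∧ cs.wordProd l ≠ cs.wordProd l'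
  have hmin' : ∀ {l l'}, Good l l' → Min P b l' := fun {l l'} ⟨h1, h2, h3, h4, _⟩ m hm => by
    rw [h2, ← h1]; exact h3 m (by rw [hm, h4])
  have hn : 0 < n := by
    rcases Nat.eq_zero_or_pos n with rfl | h
    · exact absurd (by rw [List.eq_nil_of_length_eq_zero hl₀, List.eq_nil_of_length_eq_zero hl₀']) hne₀
    · exact h
  -- one step
  have step : ∀ {l l'} (c : b.support), Good l l' → l'.reverse[0]? = some c →
      Good (l.tail ++ [c]) l := by
    intro l l' c hG hc
    have hm' := hmin' hG
    obtain ⟨h1, h2, h3, h4, h5⟩ := hG
    obtain ⟨t', rfl⟩ : ∃ t', l' = t' ++ [c] := by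
      cases hr : l'.reverse with
      | nil => simp [hr] at hc
      | cons x r =>
        simp only [hr, List.getElem?_cons_zero, Option.some.injEq] at hc
        exact ⟨r.reverse, by rw [← List.reverse_reverse l', hr, List.reverse_cons, hc]⟩
    simp only [List.length_append, List.length_singleton] at h2
    have hneg : pr P b l • (c : ι) ∉ RootD.posOf P (b.support : Set ι) := by
      intro hpos
      rw [h4, pr_append, mul_smul, pr_single, RootDatum.reflection_smul_index,
        RootDatum.smul_neg_index] at hpos
      obtain ⟨j, hj, hje⟩ := exchange P b t' c fun hc => hs.neg_mem_iff.mp hpos hc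
      have := hm' (t'.eraseIdx j) (by rw [hje, pr_append, pr_single])
      rw [List.length_eraseIdx, if_pos hj] at this
      simp at this
      omega
    obtain ⟨j, hj, hje⟩ := exchange P b l c hneg
    set m := l.eraseIdx j ++ [c]
    have hml : m.length = n := by
      simp only [m, List.length_append, List.length_singleton, List.length_eraseIdx, if_pos hj]
      omega
    have hpm : pr P b m = pr P b l := by rw [pr_append, hje, pr_single, pr_cancel]
    have hmm : Min P b m := fun k hk => by rw [hml, ← h1]; exact h3 k (by rw [hk, hpm])
    have hGm : cs.wordProd m = cs.wordProd (t' ++ [c]) :=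
      hlast _ _ c hml (by simpa using h2) hmm (hpm.trans h4)
    have hj0 : j = 0 := by
      by_contra hj0
      obtain ⟨j, rfl⟩ := Nat.exists_eq_succ_of_ne_zero hj0
      cases l with
      | nil => simp at hj
      | cons a t =>
        exact h5 ((hfirst (t.eraseIdx j ++ [c]) t a (by simpa [m] using hml) h1
          (by simpa [m] using hmm) (by simpa [m] using hpm)).symm.trans (by simpa [m] using hGm))
    subst hj0
    have hmt : m = l.tail ++ [c] := by simp [m, List.eraseIdx_zero]
    rw [← hmt]
    exact ⟨hml, h1, hmm, hpm, fun e => h5 (e.symm.trans hGm)⟩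
  -- the alternating invariant
  have main : ∀ k, ∃ a c x y, a ≠ c ∧ Good x y ∧
      (∀ j, j ≤ k → j < n → x.reverse[j]? = some (if Even j then a else c)) ∧
      (∀ j, j ≤ k - 1 → j < n → y.reverse[j]? = some (if Even j then c else a)) := by
    intro k
    induction k with
    | zero =>
      obtain ⟨s, a, rfl⟩ := (List.eq_nil_or_concat' l₀).resolve_left
        fun e => by simp [e] at hl₀; omega
      obtain ⟨t, c, rfl⟩ := (List.eq_nil_or_concat' l₀').resolve_left
        fun e => by simp [e] at hl₀'; omega
      refine ⟨a, c, _, _, ?_, ⟨hl₀, hl₀', hm₀, he₀, hne₀⟩, fun j hj _ => ?_, fun j hj _ => ?_⟩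
      · rintro rfl; exact hne₀ (hlast s t a hl₀ hl₀' hm₀ he₀)
      · obtain rfl : j = 0 := by omega
        simp
      · obtain rfl : j = 0 := by omega
        simp
    | succ k ihk =>
      obtain ⟨a, c, x, y, hac, hG, hx, hy⟩ := ihk
      have hc : y.reverse[0]? = some c := by simpa using hy 0 (Nat.zero_le _) hn
      refine ⟨c, a, _, _, hac.symm, step c hG hc, fun j hj hjn => ?_, fun j hj hjn => ?_⟩
      · cases j with
        | zero => simp
        | succ j =>
          rw [List.reverse_append, List.reverse_singleton, List.singleton_append,
            List.getElem?_cons_succ, ← List.dropLast_reverse, List.getElem?_dropLast,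
            if_pos (by simp [hG.1]; omega), hx j (by omega) (by omega)]
          rcases Nat.even_or_odd j with h | h
          · simp [h, Nat.even_add_one]
          · simp [Nat.not_even_iff_odd.mpr h, Nat.even_add_one]
      · exact hx j (by omega) hjn
  obtain ⟨a, c, x, y, hac, ⟨h1, h2, -, h4, h5⟩, hx, hy⟩ := main n
  have ex : x.reverse = alt a c n := eq_alt (by simpa using h1) fun j hj => hx j hj.le hj
  have ey : y.reverse = alt c a n := eq_alt (by simpa using h2) fun j hj => hy j (by omega) hj
  have hrev : ∀ r, pr P b r.reverse = (pr P b r)⁻¹ := by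
    intro r
    induction r with
    | nil => simp [pr]
    | cons u r ihr =>
      rw [List.reverse_cons, pr_append, ihr, pr_single,
        show pr P b (u :: r) = sref P b u * pr P b r by simp [pr], mul_inv_rev,
        inv_eq_of_mul_eq_one_right (sref_mul_self P b u)]
  have hW : (sref P b a * sref P b c) ^ n = 1 := by
    rw [← alt_prod (sref P b) (sref_mul_self P b) a c n, ← ex, ← ey, mul_inv_eq_one]
    show pr P b x.reverse = pr P b y.reverse
    rw [hrev, hrev, h4]
  obtain ⟨q, hq⟩ := orderOf_dvd_of_pow_eq_one hW
  have hCG : (cs.simple a * cs.simple c) ^ n = 1 := by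
    rw [hq, pow_mul]
    show ((cs.simple a * cs.simple c) ^ (coxMatrix P b).M a c) ^ q = 1
    rw [cs.simple_mul_simple_pow, one_pow]
  apply h5
  rw [← inv_inj, ← cs.wordProd_reverse, ← cs.wordProd_reverse, ex, ey]
  rw [← alt_prod cs.simple cs.simple_mul_simple_self a c n, mul_inv_eq_one] at hCG
  exact hCG

theorem exists_minimal_eq (l : List b.support) : ∃ m, Min P b m ∧ pr P b m = pr P b l ∧
    (coxMatrix P b).toCoxeterSystem.wordProd l = (coxMatrix P b).toCoxeterSystem.wordProd m := by
  classical
  let cs := (coxMatrix P b).toCoxeterSystem
  have hs := RootDatum.isSimple_of_base P b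
  induction l using List.reverseRecOn with
  | nil => exact ⟨[], fun _ _ => Nat.zero_le _, rfl, rfl⟩
  | append_singleton t c ih =>
    obtain ⟨t₀, hm, he, hG⟩ := ih
    have hG' : cs.wordProd (t ++ [c]) = cs.wordProd (t₀ ++ [c]) := by
      rw [cs.wordProd_append, cs.wordProd_append, hG]
    have he' : pr P b (t₀ ++ [c]) = pr P b (t ++ [c]) := by rw [pr_append, pr_append, he]
    by_cases hc : Min P b (t₀ ++ [c])
    · exact ⟨_, hc, he', hG'⟩
    have hex : ∃ k, ∃ m : List b.support, pr P b m = pr P b (t₀ ++ [c]) ∧ m.length = k :=
      ⟨_, _, rfl, rfl⟩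
    obtain ⟨m, hpm, hlen⟩ := Nat.find_spec hex
    have hmm : Min P b m := fun k hk => hlen ▸ Nat.find_le ⟨k, hk.trans hpm, rfl⟩
    have hle : m.length ≤ t₀.length := by
      by_contra hgt
      exact hc fun k hk => by
        have := hmm k (hk.trans hpm.symm)
        simp; omega
    have hback : pr P b (m ++ [c]) = pr P b t₀ := by
      rw [pr_append, hpm, pr_append, pr_single, pr_cancel]
    have hge : t₀.length ≤ m.length + 1 := by simpa using hm _ hback
    have heq : t₀.length = m.length + 1 := by
      by_contra hne
      have hcase : pr P b t₀ • (c : ι) ∈ RootD.posOf P (b.support : Set ι) → False := by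
        intro hpos
        obtain ⟨j, hj, hje⟩ := exchange P b m c (by
          rw [hpm, pr_append, mul_smul, pr_single, RootDatum.reflection_smul_index,
            RootDatum.smul_neg_index]
          exact fun hc' => hs.neg_mem_iff.mp hc' hpos)
        have := hm (m.eraseIdx j) (by rw [hje, ← pr_single, ← pr_append, hback])
        rw [List.length_eraseIdx, if_pos hj] at this
        omega
      obtain ⟨j, hj, hje⟩ := exchange P b t₀ c hcase
      have := hmm (t₀.eraseIdx j) (by rw [hje, hpm, pr_append, pr_single])
      rw [List.length_eraseIdx, if_pos hj] at this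
      omega
    refine ⟨m, hmm, hpm.trans he', ?_⟩
    rw [hG', cs.wordProd_append, braid t₀.length t₀ (m ++ [c]) rfl (by simp [heq]) hm hback.symm,
      cs.wordProd_append, mul_assoc, cs.wordProd_singleton, cs.simple_mul_simple_self, mul_one]


/-- For a finite crystallographic reduced root pairing with a base b: the Weyl group is presented by the
simple reflections s_i (i in the base) subject to the relations (s_i s_j)^{n_{ij}} = 1, where n_{ij}
is the order of s_i s_j; i.e. it carries a Coxeter system whose simple reflections are the s_i and
whose Coxeter matrix is (n_{ij}). -/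
theorem result {ι R M N : Type*} [CommRing R] [CharZero R] [IsDomain R] [AddCommGroup M] [Module R M]
    [AddCommGroup N] [Module R N] (P : RootPairing ι R M N) [Finite ι] [P.IsCrystallographic] [P.IsReduced]
    (b : P.Base) :
    ∃ (C : CoxeterMatrix ↥b.support) (cs : CoxeterSystem C P.weylGroup),
      (∀ j : ↥b.support, ((cs.simple j : P.weylGroup) : P.Aut) = Equiv.reflection P (j : ι)) ∧
      ∀ j k : ↥b.support, C.M j k = orderOf (Equiv.reflection P (j : ι) * Equiv.reflection P (k : ι)) := by
  classical
  have h := RootDatum.isSimple_of_base P b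
  let C := coxMatrix P b
  have hC : ∀ j k, C.M j k = orderOf (sref P b j * sref P b k) := fun _ _ => rfl
  have hlift : C.IsLiftable (fun j => (⟨sref P b j, P.reflection_mem_weylGroup _⟩ : P.weylGroup)) :=
    fun i i' => Subtype.ext (by
      show (sref P b i * sref P b i') ^ C.M i i' = 1
      rw [hC]; exact pow_orderOf_eq_one _)
  let φ : C.Group →* P.weylGroup := C.toCoxeterSystem.lift ⟨_, hlift⟩
  have hφ : ∀ l : List b.support, ((φ (C.toCoxeterSystem.wordProd l) : P.weylGroup) : P.Aut) =
      pr P b l := by
    intro l
    induction l with
    | nil => simp [pr]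
    | cons a t ih =>
      rw [CoxeterSystem.wordProd_cons, map_mul, Subgroup.coe_mul, ih, CoxeterSystem.lift_apply_simple,
        pr, pr, List.map_cons, List.prod_cons]
  have hinj : Function.Injective φ := by
    rw [injective_iff_map_eq_one]
    intro g hg
    obtain ⟨l, rfl⟩ := C.toCoxeterSystem.wordProd_surjective g
    obtain ⟨m, hm, he, hG⟩ := exists_minimal_eq P b l
    have h1 : pr P b l = 1 := by rw [← hφ, hg]; rfl
    have : m = [] := List.eq_nil_of_length_eq_zero
      (Nat.le_zero.mp (hm [] (by rw [he, h1]; rfl)))
    rw [hG, this, CoxeterSystem.wordProd_nil]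
  have hsurj : Function.Surjective φ := by
    rintro ⟨g, hg⟩
    obtain ⟨l, hl, rfl⟩ := RootDatum.exists_word P (h.weylGroup_eq.symm ▸ hg)
    refine ⟨C.toCoxeterSystem.wordProd (l.attach.map fun x => ⟨x.1, hl x.1 x.2⟩), Subtype.ext ?_⟩
    rw [hφ, pr, List.map_map]
    show _ = RootDatum.wordProd P l
    rw [RootDatum.wordProd]
    conv_rhs => rw [← List.attach_map_subtype_val l, List.map_map]
    rfl
  refine ⟨C, C.toCoxeterSystem.map (MulEquiv.ofBijective φ ⟨hinj, hsurj⟩), fun j => ?_, hC⟩
  rw [CoxeterSystem.map_simple]
  show ((φ _ : P.weylGroup) : P.Aut) = _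
  rw [CoxeterSystem.lift_apply_simple]

end Groth.Agent.S2956
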