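import Groth.Statements.S2957
import Groth.Agent.RootDatum.Misc
import Groth.Agent.RootDatum.Dominant
-- import your own Groth.Agent.* helpers here

set_option autoImplicit false
open RootPairing
open scoped Pointwise
universe u
open RootD

namespace Groth.Agent.S2957

/-- For a finite crystallographic reduced root pairing with a base b: let α, β be simple roots and w an
element of the Weyl group with w(α) = β. Then there are simple roots α = α_0, ..., α_m = β and Weyl
group elements w_0, ..., w_{m-1} with w = w_{m-1} ... w_0, w_i(α_i) = α_{i+1}, and each w_i lying in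
the subgroup generated by the reflections in α_i and in a simple root γ_i, where γ_i = α_{i+1}
whenever α_i ≠ α_{i+1}. -/
theorem result {ι R M N : Type*} [CommRing R] [CharZero R] [IsDomain R] [AddCommGroup M] [Module R M]
    [AddCommGroup N] [Module R N] (P : RootPairing ι R M N) [Finite ι] [P.IsCrystallographic] [P.IsReduced]
    (b : P.Base) (α β : ι) (hα : α ∈ b.support) (hβ : β ∈ b.support) (w : P.Aut) (hw : w ∈ P.weylGroup)
    (hwα : w • α = β) :
    ∃ (m : ℕ) (a : Fin (m + 1) → ι) (ws : Fin m → P.Aut),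
      (∀ i, a i ∈ b.support) ∧ a 0 = α ∧ a (Fin.last m) = β ∧
      (∀ i, ws i ∈ P.weylGroup) ∧
      w = (List.ofFn fun i : Fin m => ws (Fin.rev i)).prod ∧
      (∀ i : Fin m, ws i • a (Fin.castSucc i) = a (Fin.succ i)) ∧
      ∀ i : Fin m, ∃ γ ∈ b.support,
        ws i ∈ Subgroup.closure {Equiv.reflection P (a (Fin.castSucc i)), Equiv.reflection P γ} ∧
        (a (Fin.castSucc i) ≠ a (Fin.succ i) → γ = a (Fin.succ i)) := by
  classical
  have h := RootDatum.isSimple_of_base P b
  have := RootDatum.isAddTorsionFree_left P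
  obtain ⟨l, hl, rfl⟩ := h.exists_minimal_weyl hw
  clear hw
  induction hn : l.length using Nat.strong_induction_on generalizing α l with
  | _ n ih =>
  by_cases hpres : ∀ i ∈ (b.support : Set ι), RootDatum.wordProd P l • i ∈
      RootD.posOf P (b.support : Set ι)
  · have h1 := h.eq_one_of_preserves (RootDatum.wordProd_mem_weylGroup P l) hpres
    rw [h1, one_smul] at hwα
    refine ⟨0, fun _ => α, Fin.elim0, fun _ => hα, rfl, hwα, fun i => i.elim0, ?_, fun i => i.elim0,
      fun i => i.elim0⟩
    simpa using h1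
  push Not at hpres
  obtain ⟨γ, hγ, hγneg⟩ := hpres
  have hαγ : α ≠ γ := fun e => hγneg (by rw [← e, hwα]; exact h.mem_posOf_self hβ)
  set W' := Subgroup.closure
    ((fun i : ι => RootPairing.Equiv.reflection P i) '' ({α, γ} : Set ι))
  have hpair : ({α, γ} : Set ι) ⊆ (b.support : Set ι) := by
    rintro x (rfl | rfl) <;> assumption
  have hsW : ∀ x ∈ ({α, γ} : Set ι), RootPairing.Equiv.reflection P x ∈ W' := fun x hx =>
    Subgroup.subset_closure ⟨x, hx, rfl⟩
  have hex : ∃ k, ∃ l' : List ι, (∀ a ∈ l', a ∈ (b.support : Set ι)) ∧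
      (RootDatum.wordProd P l)⁻¹ * RootDatum.wordProd P l' ∈ W' ∧ l'.length = k :=
    ⟨_, l, hl.1, by rw [inv_mul_cancel]; exact one_mem _, rfl⟩
  obtain ⟨l', hl', hv, hlen⟩ := Nat.find_spec hex
  have hmin : ∀ l'' : List ι, (∀ a ∈ l'', a ∈ (b.support : Set ι)) →
      (RootDatum.wordProd P l)⁻¹ * RootDatum.wordProd P l'' ∈ W' → l'.length ≤ l''.length :=
    fun l'' h1 h2 => hlen ▸ Nat.find_le ⟨l'', h1, h2, rfl⟩
  have hl'min : RootDatum.IsMinimal P (b.support : Set ι) l' :=
    ⟨hl', fun l'' h1 h2 => hmin l'' h1 (h2 ▸ hv)⟩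
  have hlt : l'.length < n := by
    obtain ⟨l'', h1, h2, h3⟩ := h.exchange l hl.1 hγ hγneg
    have := hmin l'' (fun a ha => hl.1 a (h2 a ha))
      (by rw [h3, inv_mul_cancel_left]; exact hsW γ (Or.inr rfl))
    omega
  have hpos : ∀ x ∈ ({α, γ} : Set ι),
      RootDatum.wordProd P l' • x ∈ RootD.posOf P (b.support : Set ι) := by
    intro x hx
    by_contra hxn
    obtain ⟨l'', h1, h2, h3⟩ := h.exchange l' hl' (hpair hx) hxn
    have := hmin l'' (fun a ha => hl' a (h2 a ha))
      (by rw [h3, ← mul_assoc]; exact mul_mem hv (hsW x hx))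
    omega
  set v := (RootDatum.wordProd P l)⁻¹ * RootDatum.wordProd P l' with hvdef
  have hw' : RootDatum.wordProd P l = RootDatum.wordProd P l' * v⁻¹ := by
    rw [hvdef, mul_inv_rev, inv_inv, mul_inv_cancel_left]
  set x := v⁻¹ • α with hx
  have hxβ : RootDatum.wordProd P l' • x = β := by rw [hx, ← mul_smul, ← hw', hwα]
  have hsupp : ∀ g ∈ W', ↑(h.coeff (g • α)).support ⊆ ({α, γ} : Set ι) := by
    intro g hg
    obtain ⟨u, hu, rfl⟩ := RootDatum.exists_word P hg
    clear hg
    induction u with
    | nil => rw [RootDatum.wordProd_nil, one_smul, h.coeff_self hα,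
        Finsupp.support_single _ (one_ne_zero : (1 : ℤ) ≠ 0)]; simp
    | cons a t ih' =>
      rw [RootDatum.wordProd_cons, mul_smul, RootDatum.reflection_smul_index, h.coeff_reflect,
        h.coeff_self (hpair (hu a (List.mem_cons_self ..)))]
      exact (Finsupp.mem_supported ℤ _).mp (Submodule.sub_mem _
        ((Finsupp.mem_supported ℤ _).mpr (ih' fun z hz => hu z (List.mem_cons_of_mem _ hz)))
        (Submodule.smul_mem _ _ (Finsupp.single_mem_supported ℤ _ (hu a (List.mem_cons_self ..)))))
  have hxs := hsupp v⁻¹ (inv_mem hv)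
  rw [← hx] at hxs
  set C₁ := h.coeff (RootDatum.wordProd P l' • α)
  set C₂ := h.coeff (RootDatum.wordProd P l' • γ)
  set p := h.coeff x α
  set q := h.coeff x γ
  have hxroot : P.root x = p • P.root α + q • P.root γ := by
    have hc : h.coeff x = p • Finsupp.single α 1 + q • Finsupp.single γ 1 := by
      ext y
      rcases eq_or_ne y α with rfl | hyα
      · simp [p, hαγ]
      rcases eq_or_ne y γ with rfl | hyγ
      · simp [q, hyα]
      · have : h.coeff x y = 0 := by
          by_contra h0
          rcases hxs (Finsupp.mem_support_iff.mpr h0) with e | e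
          exacts [hyα e, hyγ e]
        simp [this, hyα, hyγ]
    conv_lhs => rw [← h.lc_coeff x, hc]
    simp
  have hβc : Finsupp.single β 1 = p • C₁ + q • C₂ := by
    rw [← h.coeff_self hβ]
    refine h.coeff_of_root_eq ?_
    rw [← hxβ, RootDatum.root_smul, hxroot, smul_add, RootDatum.smul_zsmul, RootDatum.smul_zsmul,
      RootDatum.root_smul, RootDatum.root_smul]
  have hpq : p = 0 ∨ q = 0 := by
    by_contra! hne
    have hC1 := h.mem_posOf_iff.mp (hpos α (Or.inl rfl))
    have hC2 := h.mem_posOf_iff.mp (hpos γ (Or.inr rfl))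
    have hsame : (0 ≤ p ∧ 0 ≤ q) ∨ (p ≤ 0 ∧ q ≤ 0) :=
      (h.coeff_nonneg_or_nonpos x).imp (fun h' => ⟨h' α, h' γ⟩) (fun h' => ⟨h' α, h' γ⟩)
    have hz : ∀ y, y ≠ β → C₁ y = 0 ∧ C₂ y = 0 := by
      intro y hy
      have h1 := DFunLike.congr_fun hβc y
      rw [Finsupp.single_eq_of_ne hy] at h1
      simp only [Finsupp.add_apply, Finsupp.smul_apply, smul_eq_mul] at h1
      have := hC1 y; have := hC2 y
      rcases hsame with ⟨hp, hq⟩ | ⟨hp, hq⟩
      · constructor <;> nlinarith [mul_nonneg hp (hC1 y), mul_nonneg hq (hC2 y),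
          lt_of_le_of_ne hp hne.1.symm, lt_of_le_of_ne hq hne.2.symm]
      · constructor <;> nlinarith [mul_nonpos_of_nonpos_of_nonneg hp (hC1 y),
          mul_nonpos_of_nonpos_of_nonneg hq (hC2 y),
          lt_of_le_of_ne hp hne.1, lt_of_le_of_ne hq hne.2]
    have e1 := h.root_eq_of_coeff_single fun y hy => (hz y hy).1
    have e2 := h.root_eq_of_coeff_single fun y hy => (hz y hy).2
    rw [RootDatum.root_smul] at e1 e2
    have h0 : C₂ β • P.root α = C₁ β • P.root γ := by
      apply smul_left_cancel (RootDatum.wordProd P l')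
      rw [RootDatum.smul_zsmul, RootDatum.smul_zsmul, e1, e2, smul_smul, smul_smul, mul_comm]
    have h1 := h.lc_inj (c := C₂ β • Finsupp.single α 1) (d := C₁ β • Finsupp.single γ 1)
      ((Finsupp.mem_supported ℤ _).mp
        (Submodule.smul_mem _ _ (Finsupp.single_mem_supported ℤ _ hα)))
      ((Finsupp.mem_supported ℤ _).mp
        (Submodule.smul_mem _ _ (Finsupp.single_mem_supported ℤ _ hγ)))
      (by simpa using h0)
    have h2 : C₁ β = 0 := by simpa [hαγ.symm] using (DFunLike.congr_fun h1 γ).symm
    refine h.coeff_ne_zero (RootDatum.wordProd P l' • α) (Finsupp.ext fun y => ?_)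
    rcases eq_or_ne y β with rfl | hy
    exacts [h2, (hz y hy).1]
  have hxmem : x = α ∨ x = γ := by
    have hind : ∀ j, (2 : ℤ) • P.root j ≠ P.root x := RootDatum.indiv_smul P (h.indiv hα) v⁻¹
    have single : ∀ {δ : ι} {a : ℤ}, δ ∈ ({α, γ} : Set ι) → P.root x = a • P.root δ → x = δ := by
      intro δ a hδ e
      rcases RootDatum.zsmul_root_cases P one_ne_zero (i := δ) (j := x) (a := a)
          (by rw [one_smul, e]) with
        ⟨e', -⟩ | ⟨e', -⟩ | ⟨e', -⟩ | ⟨e', -⟩ | ⟨e', -⟩ | ⟨e', -⟩
      · exact P.root.injective e'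
      · exfalso
        rw [P.root_eq_neg_iff] at e'
        apply h.neg_not_mem hβ
        rw [← hxβ, e', RootDatum.smul_neg_index, RootDatum.neg_neg_index]
        exact hpos δ hδ
      · exact absurd e'.symm (hind δ)
      · exact absurd (by rw [RootDatum.root_neg, e', smul_neg, neg_smul])
          (hind (P.reflectionPerm δ δ))
      · exact absurd e'.symm (h.indiv (hpair hδ) x)
      · exact absurd (by rw [RootDatum.root_neg, e', smul_neg, neg_smul])
          (h.indiv (hpair hδ) (P.reflectionPerm x x))
    rcases hpq with h0 | h0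
    · right; exact single (Or.inr rfl) (by rw [hxroot, h0, zero_smul, zero_add])
    · left; exact single (Or.inl rfl) (by rw [hxroot, h0, zero_smul, add_zero])
  obtain ⟨m, a, ws, hamem, ha0, halast, hwsW, hprod, hstep, hγs⟩ :=
    ih l'.length hlt x (by rcases hxmem with e | e <;> rw [e] <;> assumption) l' hl'min hxβ rfl
  refine ⟨m + 1, Fin.cons α a, Fin.cons v⁻¹ ws, ?_, Fin.cons_zero .., ?_, ?_, ?_, ?_, ?_⟩
  · intro i
    induction i using Fin.cases with
    | zero => simpa using hα
    | succ i => simpa using hamem i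
  · rw [← Fin.succ_last, Fin.cons_succ, halast]
  · intro i
    induction i using Fin.cases with
    | zero =>
      rw [Fin.cons_zero]
      exact inv_mem (mul_mem (inv_mem (RootDatum.wordProd_mem_weylGroup P l))
        (RootDatum.wordProd_mem_weylGroup P l'))
    | succ i => simpa using hwsW i
  · rw [hw', List.ofFn_succ', List.concat_eq_append, List.prod_append, List.prod_singleton,
      Fin.rev_last, Fin.cons_zero, hprod]
    congr 2
    refine congrArg List.ofFn (funext fun i => ?_)
    rw [Fin.rev_castSucc, Fin.cons_succ]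
  · intro i
    induction i using Fin.cases with
    | zero => simp [hx, ha0]
    | succ i => simpa [← Fin.succ_castSucc] using hstep i
  · intro i
    induction i using Fin.cases with
    | zero =>
      refine ⟨γ, hγ, ?_, fun hne => ?_⟩
      · simp only [Fin.castSucc_zero, Fin.cons_zero]
        have := inv_mem hv
        simpa only [W', Set.image_pair] using this
      · simp only [Fin.castSucc_zero, Fin.cons_zero, Fin.succ_zero_eq_one] at hne ⊢
        rw [← Fin.succ_zero_eq_one, Fin.cons_succ, ha0] at hne ⊢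
        rcases hxmem with e | e
        · exact absurd e.symm hne
        · exact e.symm
    | succ i => simpa [← Fin.succ_castSucc] using hγs i

end Groth.Agent.S2957
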