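import Groth.Statements.S2964
import Mathlib

set_option autoImplicit false
universe u
open scoped TensorProduct
open SGA3t2b

namespace Groth.Agent.S2964

/-- (i) ⇒ (iii): let d be a Lie algebra over a commutative ring A which is finitely presented as an
A-module. If for every prime p of A the fibre Lie algebra κ(p) ⊗_A d is nilpotent, then d is
nilpotent (its lower central series vanishes, i.e. there is N with ad(x_1) ⋯ ad(x_N) = 0 for all
x_i); and the same conclusion holds if ad(x) is nilpotent for every x in d. -/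
theorem result {A : Type u} [CommRing A] {L : Type u} [LieRing L] [LieAlgebra A L]
    [Module.FinitePresentation A L] :
    ((∀ p : PrimeSpectrum A, LieRing.IsNilpotent (p.asIdeal.ResidueField ⊗[A] L)) → LieRing.IsNilpotent L) ∧
    ((∀ x : L, IsNilpotent (LieAlgebra.ad A L x)) → LieRing.IsNilpotent L) := by
  classical
  have hfib : ∀ (p : Ideal A) [p.IsPrime],
      (∀ x : L, (1 : p.ResidueField) ⊗ₜ[A] x = 0 → ∃ s ∉ p, s • x ∈ p • (⊤ : Submodule A L)) ∧
      ∀ z : p.ResidueField ⊗[A] L, ∃ (c : p.ResidueField) (x : L), z = c • ((1 : p.ResidueField) ⊗ₜ[A] x) := by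
    intro p _
    let g : (A ⧸ p) →ₗ[A] p.ResidueField := (IsScalarTower.toAlgHom A (A ⧸ p) p.ResidueField).toLinearMap
    have hne : ∀ s : p.primeCompl, algebraMap A p.ResidueField s ≠ 0 := fun s h =>
      s.2 (Ideal.algebraMap_residueField_eq_zero.1 h)
    have hloc : IsLocalizedModule p.primeCompl g :=
      { map_units := fun s => by
          rw [Module.End.isUnit_iff]
          have : (algebraMap A (Module.End A p.ResidueField) s : p.ResidueField → p.ResidueField) =
              fun z => algebraMap A p.ResidueField s * z := funext fun z => by simp [Algebra.smul_def]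
          rw [this]
          exact mulLeft_bijective₀ _ (hne s)
        surj := fun z => by
          obtain ⟨a, b, hb, rfl⟩ := IsFractionRing.div_surjective (A ⧸ p) z
          obtain ⟨s, rfl⟩ := Ideal.Quotient.mk_surjective b
          have hs : s ∉ p := fun h => nonZeroDivisors.ne_zero hb (Ideal.Quotient.eq_zero_iff_mem.2 h)
          refine ⟨(a, ⟨s, hs⟩), ?_⟩
          show s • (algebraMap (A ⧸ p) p.ResidueField a / algebraMap (A ⧸ p) p.ResidueField
            (Ideal.Quotient.mk p s)) = algebraMap (A ⧸ p) p.ResidueField a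
          rw [Algebra.smul_def, Ideal.algebraMap_quotient_residueField_mk, mul_div_cancel₀ _ (hne ⟨s, hs⟩)]
        exists_of_eq := fun {x y} h => ⟨1, by rw [Ideal.injective_algebraMap_quotient_residueField p h]⟩ }
    let G : (A ⧸ p) ⊗[A] L →ₗ[A] p.ResidueField ⊗[A] L := TensorProduct.AlgebraTensorModule.rTensor A L g
    have hG : IsLocalizedModule p.primeCompl G := inferInstance
    have hG1 : ∀ x : L, G (1 ⊗ₜ[A] x) = (1 : p.ResidueField) ⊗ₜ[A] x := fun x => by simp [G, g]
    have hsurj : ∀ w : (A ⧸ p) ⊗[A] L, ∃ x : L, w = 1 ⊗ₜ[A] x := by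
      intro w
      induction w using TensorProduct.induction_on with
      | zero => exact ⟨0, (TensorProduct.tmul_zero L (1 : A ⧸ p)).symm⟩
      | add w w' hw hw' =>
        obtain ⟨x, rfl⟩ := hw
        obtain ⟨y, rfl⟩ := hw'
        exact ⟨x + y, (TensorProduct.tmul_add _ _ _).symm⟩
      | tmul a x =>
        obtain ⟨r, rfl⟩ := Ideal.Quotient.mk_surjective a
        refine ⟨r • x, ?_⟩
        rw [← TensorProduct.smul_tmul, Algebra.smul_def, mul_one]
        rfl
    refine ⟨fun x hx => ?_, fun z => ?_⟩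
    · obtain ⟨s, hs⟩ := (IsLocalizedModule.eq_zero_iff (f := G) p.primeCompl).1 (show G (1 ⊗ₜ x) = 0 by rw [hG1, hx])
      refine ⟨s, s.2, (Submodule.Quotient.mk_eq_zero _).1 ?_⟩
      have h2 : (1 : A ⧸ p) ⊗ₜ[A] ((s : A) • x) = 0 := by rw [TensorProduct.tmul_smul]; exact hs
      have h3 := congrArg (TensorProduct.quotTensorEquivQuotSMul L p) h2
      rw [map_zero, show (1 : A ⧸ p) = Ideal.Quotient.mk p 1 from rfl,
        TensorProduct.quotTensorEquivQuotSMul_mk_tmul, one_smul] at h3
      exact h3
    · obtain ⟨⟨w, s⟩, hws⟩ := IsLocalizedModule.surj p.primeCompl G z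
      obtain ⟨x, rfl⟩ := hsurj w
      refine ⟨(algebraMap A p.ResidueField s)⁻¹, x, ?_⟩
      have h4 : (s : A) • z = G (1 ⊗ₜ[A] x) := hws
      rw [← hG1, ← h4, ← algebraMap_smul p.ResidueField (s : A) z, smul_smul, inv_mul_cancel₀ (hne s), one_smul]
  have main : (∀ p : PrimeSpectrum A, LieRing.IsNilpotent (p.asIdeal.ResidueField ⊗[A] L)) →
      LieRing.IsNilpotent L := by
    intro h
    let C : ℕ → Submodule A L := fun k => (LieModule.lowerCentralSeries A L L k).toSubmodule
    by_contra hnil
    have hC0 : C 0 = ⊤ := rfl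
    have hCS : ∀ k, C (k + 1) = Submodule.map₂ (LieModule.toEnd A L L : L →ₗ[A] Module.End A L) ⊤ (C k) := by
      intro k
      show (LieModule.lowerCentralSeries A L L (k + 1)).toSubmodule = _
      rw [LieModule.lowerCentralSeries_succ, LieSubmodule.lieIdeal_oper_eq_linear_span']
      refine le_antisymm (Submodule.span_le.2 ?_) (Submodule.map₂_le.2 fun x _ y hy =>
        Submodule.subset_span ⟨x, trivial, y, hy, rfl⟩)
      rintro _ ⟨x, -, y, hy, rfl⟩
      exact Submodule.apply_mem_map₂ (LieModule.toEnd A L L : L →ₗ[A] Module.End A L) trivial hy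
    have hfg : ∀ k, (C k).FG := by
      intro k
      induction k with
      | zero => rw [hC0]; exact Module.Finite.fg_top
      | succ k ih => rw [hCS]; exact Module.Finite.fg_top.map₂ _ ih
    have hmono : ∀ (J : Ideal A) (j : ℕ), C j ≤ J • (⊤ : Submodule A L) → ∀ m, C (j + m) ≤ J • C m := by
      intro J j hj m
      induction m with
      | zero => rw [hC0]; exact hj
      | succ m ih =>
        rw [← add_assoc, hCS, Submodule.map₂_le]
        intro x hx y hy
        refine Submodule.smul_induction_on (ih hy) (fun r hr z hz => ?_) (fun u v hu hv => ?_)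
        · rw [map_smul, hCS m]
          exact Submodule.smul_mem_smul hr (Submodule.apply_mem_map₂ _ hx hz)
        · rw [map_add]; exact add_mem hu hv
    let Φ : Set (Ideal A) := {I | ∀ k, ¬ C k ≤ I • (⊤ : Submodule A L)}
    have hbot : (⊥ : Ideal A) ∈ Φ := by
      intro k hk
      rw [Submodule.bot_smul, le_bot_iff] at hk
      refine hnil ((LieModule.isNilpotent_iff A L L).2 ⟨k, ?_⟩)
      exact (LieSubmodule.toSubmodule_eq_bot _).1 hk
    obtain ⟨p, -, hp⟩ := zorn_le_nonempty₀ Φ (fun c hc hchain y hy => by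
      refine ⟨sSup c, fun k hk => ?_, fun z hz => le_sSup hz⟩
      have hdir : DirectedOn (· ≤ ·) c := hchain.directedOn
      have h2 : ∀ v ∈ sSup c • (⊤ : Submodule A L), ∃ I ∈ c, v ∈ I • (⊤ : Submodule A L) := by
        intro v hv
        refine Submodule.smul_induction_on hv (fun r hr z _ => ?_) (fun u w hu hw => ?_)
        · obtain ⟨I, hI, hrI⟩ := (Submodule.mem_sSup_of_directed ⟨y, hy⟩ hdir).1 hr
          exact ⟨I, hI, Submodule.smul_mem_smul hrI trivial⟩
        · obtain ⟨I, hI, huI⟩ := hu
          obtain ⟨J, hJ, hwJ⟩ := hw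
          obtain ⟨K, hK, hIK, hJK⟩ := hdir I hI J hJ
          exact ⟨K, hK, add_mem (Submodule.smul_mono_left hIK huI) (Submodule.smul_mono_left hJK hwJ)⟩
      obtain ⟨S, hS⟩ := hfg k
      choose! f hf hf' using fun v (hv : v ∈ S) => h2 v (hk (hS ▸ Submodule.subset_span hv))
      obtain ⟨K, hK, hKf⟩ : ∃ K ∈ c, ∀ v ∈ S, f v ≤ K := by
        have : ∀ T : Finset L, T ⊆ S → ∃ K ∈ c, ∀ v ∈ T, f v ≤ K := by
          intro T
          induction T using Finset.induction with
          | empty => exact fun _ => ⟨y, hy, by simp⟩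
          | @insert v T _ ih =>
            intro hT
            obtain ⟨hv, hT⟩ := Finset.insert_subset_iff.1 hT
            obtain ⟨K, hK, hle⟩ := ih hT
            obtain ⟨K', hK', h1, h2⟩ := hdir K hK (f v) (hf v hv)
            refine ⟨K', hK', fun w hw => ?_⟩
            rcases Finset.mem_insert.1 hw with rfl | hw
            · exact h2
            · exact (hle w hw).trans h1
        exact this S Finset.Subset.rfl
      refine hc hK k ?_
      rw [← hS, Submodule.span_le]
      exact fun v hv => Submodule.smul_mono_left (hKf v hv) (hf' v hv)) ⊥ hbot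
    have hmax : ∀ I : Ideal A, p < I → ∃ k, C k ≤ I • (⊤ : Submodule A L) := by
      intro I hI
      by_contra hne
      exact hI.not_ge (hp.2 (show I ∈ Φ from fun k hk => hne ⟨k, hk⟩) hI.le)
    have hlt : ∀ a, a ∉ p → p < p ⊔ Ideal.span {a} := fun a ha =>
      lt_of_le_of_ne le_sup_left fun e => ha (e ▸ Submodule.mem_sup_right (Ideal.mem_span_singleton_self a))
    have hprime : p.IsPrime := by
      refine ⟨fun e => hp.1 0 (by rw [e, Submodule.top_smul]; exact le_top), fun {a b} hab => ?_⟩
      by_contra hne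
      simp only [not_or] at hne
      obtain ⟨j, hj⟩ := hmax _ (hlt a hne.1)
      obtain ⟨l, hl⟩ := hmax _ (hlt b hne.2)
      refine hp.1 (j + l) ((hmono _ j hj l).trans ((Submodule.smul_mono le_rfl hl).trans ?_))
      rw [← Submodule.smul_assoc, smul_eq_mul]
      refine Submodule.smul_mono_left ?_
      rw [Ideal.sup_mul, Ideal.mul_sup, Ideal.mul_sup, Ideal.span_singleton_mul_span_singleton]
      refine sup_le (sup_le Ideal.mul_le_left Ideal.mul_le_left) (sup_le Ideal.mul_le_right ?_)
      exact (Ideal.span_singleton_le_iff_mem _).2 hab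
    obtain ⟨N, hN⟩ := (LieModule.isNilpotent_iff p.ResidueField _ _).1 (h ⟨p, hprime⟩)
    have hzero : ∀ x ∈ C N, ∃ s ∉ p, s • x ∈ p • (⊤ : Submodule A L) := fun x hx => (hfib p).1 x (by
      have hm : (1 : p.ResidueField) ⊗ₜ[A] x ∈
          LieModule.lowerCentralSeries p.ResidueField (p.ResidueField ⊗[A] L) (p.ResidueField ⊗[A] L) N := by
        rw [LieSubmodule.lowerCentralSeries_tensor_eq_baseChange]
        exact Submodule.tmul_mem_baseChange_of_mem _ hx
      rw [hN] at hm
      exact (LieSubmodule.mem_bot _).1 hm)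
    obtain ⟨S, hS⟩ := hfg N
    choose! f hf hf' using fun v (hv : v ∈ S) => hzero v (hS ▸ Submodule.subset_span hv)
    let s := ∏ v ∈ S, f v
    have hs : s ∉ p := fun hs => by
      obtain ⟨v, hv, hv'⟩ := (hprime.prod_mem_iff).1 hs
      exact hf v hv hv'
    obtain ⟨k, hk⟩ := hmax _ (hlt s hs)
    refine hp.1 (k + N) ((hmono _ k hk N).trans ?_)
    rw [Submodule.sup_smul, sup_le_iff]
    refine ⟨Submodule.smul_mono le_rfl le_top, ?_⟩
    rw [Submodule.smul_le]
    intro r hr x hx
    obtain ⟨t, rfl⟩ := Ideal.mem_span_singleton'.1 hr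
    rw [mul_smul]
    refine Submodule.smul_mem _ _ ?_
    rw [← hS] at hx
    refine Submodule.span_induction (fun v hv => ?_) (by simp) (fun u w _ _ hu hw => by rw [smul_add]; exact add_mem hu hw)
      (fun c u _ hu => by rw [smul_comm]; exact Submodule.smul_mem _ c hu) hx
    rw [show s • v = (∏ w ∈ S.erase v, f w) • (f v • v) by
      rw [smul_smul, mul_comm, Finset.mul_prod_erase _ _ hv]]
    exact Submodule.smul_mem _ _ (hf' v hv)
  refine ⟨main, fun had => main fun p => ?_⟩
  rw [LieAlgebra.isNilpotent_iff_forall (R := p.asIdeal.ResidueField)]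
  intro z
  obtain ⟨c, x, rfl⟩ := (hfib p.asIdeal).2 z
  obtain ⟨n, hn⟩ := had x
  rw [map_smul]
  refine IsNilpotent.smul (?_ : IsNilpotent _) c
  refine ⟨n, ?_⟩
  show (LieModule.toEnd p.asIdeal.ResidueField _ _ ((1 : p.asIdeal.ResidueField) ⊗ₜ[A] x)) ^ n = 0
  rw [LieModule.toEnd_baseChange, ← LinearMap.baseChange_pow]
  show ((LieAlgebra.ad A L x) ^ n).baseChange _ = 0
  rw [hn, LinearMap.baseChange_zero]

end Groth.Agent.S2964
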