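import Groth.Statements.S2965
-- import your own Groth.Agent.* helpers here

set_option autoImplicit false
universe u
open SGA3t2b

namespace Groth.Agent.S2965

open Polynomial in
/-- Implication (iv) ⇒ (i) (global form, finite free module): let u be an endomorphism of a finite free
module M over a commutative ring A whose characteristic polynomial is X^r · Q with Q(0) invertible.
Then M is the direct sum of two u-stable submodules M', M'' such that u is nilpotent on M' and
bijective on M''. -/
theorem result {A : Type u} [CommRing A] {M : Type u} [AddCommGroup M] [Module A M]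
    [Module.Free A M] [Module.Finite A M] (u : M →ₗ[A] M) (r : ℕ) (Q : A[X]) (hQ : IsUnit (Q.coeff 0))
    (h : u.charpoly = X ^ r * Q) :
    ∃ M' M'' : Submodule A M, IsCompl M' M'' ∧ (∀ x ∈ M', u x ∈ M') ∧ (∀ x ∈ M'', u x ∈ M'') ∧
      (∃ n : ℕ, ∀ x ∈ M', (u ^ n) x = 0) ∧ Set.BijOn u M'' M'' := by
  have hco : IsCoprime (X ^ r) Q := by
    refine IsCoprime.pow_left ?_
    obtain ⟨v, hv⟩ := hQ.exists_left_inv
    refine ⟨-C v * Q.divX, C v, ?_⟩
    conv_lhs => arg 2; rw [← Polynomial.divX_mul_X_add Q]
    rw [mul_add, ← C_mul, hv, map_one]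
    ring
  have hCH : aeval u (X ^ r * Q) = 0 := h ▸ LinearMap.aeval_self_charpoly u
  refine ⟨LinearMap.ker (aeval u (X ^ r : A[X])), LinearMap.ker (aeval u Q), ⟨?_, ?_⟩, fun x hx => ?_,
    fun x hx => ?_, ⟨r, fun x hx => ?_⟩, ?_, ?_, ?_⟩
  · exact Polynomial.disjoint_ker_aeval_of_isCoprime u hco
  · rw [codisjoint_iff, Polynomial.sup_ker_aeval_eq_ker_aeval_mul_of_coprime u hco, hCH, LinearMap.ker_zero]
  · rw [LinearMap.mem_ker] at hx ⊢
    rw [show u x = (aeval u (X : A[X])) x by rw [aeval_X], ← Module.End.mul_apply, ← map_mul, mul_comm, map_mul,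
      Module.End.mul_apply, hx, map_zero]
  · rw [LinearMap.mem_ker] at hx ⊢
    rw [show u x = (aeval u (X : A[X])) x by rw [aeval_X], ← Module.End.mul_apply, ← map_mul, mul_comm, map_mul,
      Module.End.mul_apply, hx, map_zero]
  · rw [LinearMap.mem_ker] at hx
    rwa [map_pow, aeval_X] at hx
  · intro x hx
    rw [SetLike.mem_coe, LinearMap.mem_ker] at hx ⊢
    rw [show u x = (aeval u (X : A[X])) x by rw [aeval_X], ← Module.End.mul_apply, ← map_mul, mul_comm, map_mul,
      Module.End.mul_apply, hx, map_zero]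
  · intro x hx y hy hxy
    rw [SetLike.mem_coe, LinearMap.mem_ker] at hx hy
    obtain ⟨v, hv⟩ := hQ.exists_left_inv
    have key : ∀ z, aeval u Q z = 0 → z = -(v • (aeval u Q.divX) (u z)) := by
      intro z hz
      have h2 : aeval u (Q.divX * X + C (Q.coeff 0)) z = 0 := by rw [Polynomial.divX_mul_X_add]; exact hz
      rw [map_add, map_mul, aeval_X, aeval_C, LinearMap.add_apply, Module.End.mul_apply,
        Module.algebraMap_end_apply, add_eq_zero_iff_eq_neg] at h2
      rw [h2, smul_neg, neg_neg, smul_smul, hv, one_smul]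
    rw [key x hx, key y hy, hxy]
  · intro y hy
    rw [SetLike.mem_coe, LinearMap.mem_ker] at hy
    obtain ⟨v, hv⟩ := hQ.exists_left_inv
    refine ⟨-(v • (aeval u Q.divX) y), ?_, ?_⟩
    · rw [SetLike.mem_coe, LinearMap.mem_ker, map_neg, map_smul, ← Module.End.mul_apply, ← map_mul, mul_comm,
        map_mul, Module.End.mul_apply, hy, map_zero, smul_zero, neg_zero]
    · have h2 : aeval u (X * Q.divX + C (Q.coeff 0)) y = 0 := by rw [mul_comm, Polynomial.divX_mul_X_add]; exact hy
      rw [map_add, map_mul, aeval_X, aeval_C, LinearMap.add_apply, Module.End.mul_apply,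
        Module.algebraMap_end_apply, add_eq_zero_iff_eq_neg] at h2
      rw [map_neg, map_smul, h2, smul_neg, neg_neg, smul_smul, hv, one_smul]

end Groth.Agent.S2965
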