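import Groth.Statements.S2967
-- import your own Groth.Agent.* helpers here

set_option autoImplicit false
universe u
open SGA3t2b

namespace Groth.Agent.S2967

/-- A commutative p-Lie algebra over a field k of characteristic p is recorded as a k-vector space g
together with its p-th power map φ, which is additive and Frobenius-semilinear. Let g be
finite-dimensional and non-zero, and assume every element of g is killed by some iterate of φ (g is
unipotent). Then the k-subspace of g spanned by the image φ(g) is a proper subspace. -/
theorem result {k : Type u} [Field k] (p : ℕ) [Fact p.Prime] [CharP k p]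
    {V : Type u} [AddCommGroup V] [Module k V] [FiniteDimensional k V] [Nontrivial V]
    (φ : V →ₛₗ[frobenius k p] V) (hφ : ∀ x : V, ∃ n : ℕ, φ^[n] x = 0) :
    Submodule.span k (Set.range φ) ≠ ⊤ := by
  intro htop
  classical
  let b := Module.finBasis k V
  choose N hN using fun i => hφ (b i)
  let n := Finset.univ.sup N
  have hmono : ∀ i, φ^[n] (b i) = 0 := by
    intro i
    obtain ⟨m, hm⟩ := Nat.exists_eq_add_of_le (Finset.le_sup (f := N) (Finset.mem_univ i))
    rw [show n = m + N i by omega, Function.iterate_add_apply, hN]
    exact iterate_map_zero φ m
  have hzero : ∀ v, φ^[n] v = 0 := by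
    intro v
    rw [← b.sum_repr v]
    have hsum : ∀ (s : Finset (Fin (Module.finrank k V))) (m : ℕ), φ^[m] (∑ i ∈ s, b.repr v i • b i) =
        ∑ i ∈ s, (b.repr v i) ^ p ^ m • φ^[m] (b i) := by
      intro s m
      induction m with
      | zero => simp
      | succ m ih =>
        rw [Function.iterate_succ_apply', ih, map_sum]
        refine Finset.sum_congr rfl fun i _ => ?_
        rw [φ.map_smulₛₗ, frobenius_def, ← pow_mul, ← pow_succ, Function.iterate_succ_apply']
    rw [hsum]
    exact Finset.sum_eq_zero fun i _ => by rw [hmono, smul_zero]
  have hspan : ∀ m, Submodule.span k (Set.range φ^[m]) = ⊤ := by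
    intro m
    induction m with
    | zero => simp
    | succ m ih =>
      rw [eq_top_iff, ← htop, Submodule.span_le]
      rintro _ ⟨v, rfl⟩
      have hv : v ∈ Submodule.span k (Set.range φ^[m]) := ih ▸ Submodule.mem_top
      induction hv using Submodule.span_induction with
      | mem w hw =>
        obtain ⟨w, rfl⟩ := hw
        exact Submodule.subset_span ⟨w, Function.iterate_succ_apply' φ m w⟩
      | zero => rw [map_zero]; exact Submodule.zero_mem _
      | add w w' _ _ hw hw' => rw [map_add]; exact Submodule.add_mem _ hw hw'
      | smul c w _ hw => rw [φ.map_smulₛₗ]; exact Submodule.smul_mem _ _ hw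
  have h := hspan n
  rw [show Set.range φ^[n] = {0} by
    ext w
    simp [hzero, eq_comm], Submodule.span_zero_singleton] at h
  exact bot_ne_top h

end Groth.Agent.S2967
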