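import Groth.Statements.S6058
import Groth.Agent.S5285
import Groth.Agent.MultType.TorsionFinite

set_option autoImplicit false
universe u
open TensorProduct SGA3b
open SGA3b

namespace Groth.Agent.S6058

/-- Let A be a Noetherian ring, separated and complete for the I-adic topology, and H = Spec C a
commutative affine A-group (C cocommutative) with C flat and of finite type over A, such that the
reduction H₀ = Spec ((A/I) ⊗ C) is an isotrivial (A/I)-group of multiplicative type and such that
for every n > 0 the kernel ₙH = Spec (C/Jₙ) of the n-th power map is finite over A (Jₙ the ideal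
generated by the image of the augmentation ideal under the n-th power endomorphism). Then H is an
isotrivial A-group of multiplicative type. (Affine group schemes over an affine base are taken in
Hopf-algebra form; base change is the tensor product.) -/
theorem result (A : Type u) [CommRing A] [IsNoetherianRing A] (I : Ideal A) [IsAdicComplete I A]
    (C : Type u) [CommRing C] [HopfAlgebra A C] [Coalgebra.IsCocomm A C] [Module.Flat A C] (hft : Algebra.FiniteType A C)
    (h0 : IsIsotrivial (A ⧸ I) ((A ⧸ I) ⊗[A] C))
    (hfin : ∀ n : ℕ, 0 < n → Module.Finite A (C ⧸ torsionIdeal A C n)) :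
    IsIsotrivial A C := by
  classical
  haveI := hft
  obtain ⟨e, he, heI, hHopf, hiso⟩ := Groth.Agent.S5285.result A I C hft (fun q _ _ => inferInstance) h0
  haveI := hHopf
  let π : C →ₐc[A] C ⧸ Ideal.span {e} := Bialgebra.Quotient.mkBialgHom _
  have hker : RingHom.ker (π : C →ₐ[A] C ⧸ Ideal.span {e}) = Ideal.span {e} := Ideal.mk_ker
  have h0e : e = 0 := Groth.Agent.MultType.TorsionFinite.eq_zero_of_points π Ideal.Quotient.mk_surjective he hker hiso
    fun n hn => by
      haveI := hfin n hn
      exact Groth.Agent.MultType.TorsionFinite.mem_torsionIdeal_of_finite (IsAdicComplete.le_jacobson_bot I) he heI n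
  have hπ : Function.Bijective π := by
    refine ⟨fun a b hab => ?_, Ideal.Quotient.mk_surjective⟩
    have h1 : a - b ∈ Ideal.span {e} := Ideal.Quotient.eq.mp hab
    rw [h0e, Ideal.span_singleton_eq_bot.mpr rfl, Ideal.mem_bot, sub_eq_zero] at h1
    exact h1
  exact Groth.Agent.MultType.LiftApps.isIsotrivial_of_equiv (BialgEquiv.ofBijective π hπ).symm hiso

end Groth.Agent.S6058
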