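import Groth.Statements.S2974
import Groth.Agent.MultType.QIGlobal
import Groth.Agent.MultType.HenselSep

set_option autoImplicit false
universe u
open TensorProduct SGA3b
open SGA3b

namespace Groth.Agent.S2974

/-- Let R be a henselian local ring and H = Spec A an R-group of multiplicative type and of finite type.
Then H is isotrivial: split by a finite etale faithfully flat R-algebra. (Affine group schemes over
an affine base are taken in Hopf-algebra form; base change is the tensor product.) -/
theorem result (R : Type u) [CommRing R] (A : Type u) [CommRing A] [HopfAlgebra R A] [HenselianLocalRing R] (hft : Algebra.FiniteType R A) (h : IsMultType R A) :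
    IsIsotrivial R A := by
  haveI := hft
  let k := IsLocalRing.ResidueField R
  obtain ⟨k', _, _, _, _, hd⟩ := Groth.Agent.MultType.FieldSplit.exists_separable_split
    (Groth.Agent.MultType.Isotrivial.isMultType_field h k) inferInstance
  letI : Algebra R k' := ((algebraMap k k').comp (algebraMap R k)).toAlgebra
  haveI : IsScalarTower R k k' := IsScalarTower.of_algebraMap_eq fun x => rfl
  obtain ⟨R', _, _, _, σ, het, hfin, hff, hσ, hker, hm⟩ := Groth.Agent.MultType.HenselSep.exists_lift R k'
  haveI := Groth.Agent.MultType.HenselSep.henselianLocalRing hm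
  refine ⟨R', inferInstance, inferInstance, het, hfin, hff, ?_⟩
  obtain ⟨M, _, _, ⟨e⟩⟩ := hd
  let k₁ := IsLocalRing.ResidueField R'
  have hle : RingHom.ker σ.toRingHom ≤ RingHom.ker (algebraMap R' k₁) := fun x hx => by
    have hx' : x ∈ IsLocalRing.maximalIdeal R' := hker ▸ hx
    exact (IsLocalRing.residue_eq_zero_iff x).mpr hx'
  let g : k' →+* k₁ := σ.toRingHom.liftOfSurjective hσ ⟨algebraMap R' k₁, hle⟩
  have hg : ∀ x, g (σ x) = algebraMap R' k₁ x := fun x =>
    RingHom.liftOfRightInverse_comp_apply _ _ _ ⟨algebraMap R' k₁, hle⟩ x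
  let gA : k' →ₐ[R] k₁ :=
    { g with
      commutes' := fun r => by
        change g (algebraMap R k' r) = _
        rw [← σ.commutes r, hg]
        rfl }
  let e₁ : k₁ ⊗[R] A ≃ₐc[k₁] MonoidAlgebra k₁ M := Groth.Agent.MultType.GLLift.extend
    ((Groth.Agent.MultType.Split.cancel (R := R) (S := k) (T := k') (A := A)).symm.trans e) gA
  obtain ⟨M', _, -, ⟨e₂⟩⟩ := Groth.Agent.MultType.HenselSplit.isDiag_of_henselian
    (Groth.Agent.MultType.QIGlobal.isMultType_bc_local h R') ⟨M, inferInstance,
      ⟨(Groth.Agent.MultType.Split.cancel (R := R) (S := R') (T := k₁) (A := A)).trans e₁⟩⟩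
  exact ⟨M', inferInstance, ⟨e₂⟩⟩

end Groth.Agent.S2974
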