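import Groth.Statements.S2989
import Groth.Agent.Borel50.Luna.HomGa

set_option autoImplicit false
open CategoryTheory MonoidalCategory CartesianMonoidalCategory MonObj GrpObj AlgebraicGeometry
universe u
open Red

namespace Groth.Agent.S2989

/-- First assertion (H¹(G, k) = 0 for k with trivial action). Let k be a field and G a reductive
k-group. Then every homomorphism of k-groups from G to the additive group is trivial. -/
theorem result (k : Type u) [Field k] (G : Over (Spec (CommRingCat.of k))) [GrpObj G]
    (hG : Red.IsReductive G) (φ : G ⟶ Red.Ga (Spec (CommRingCat.of k))) [IsMonHom φ] :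
    φ = toUnit G ≫ η[Red.Ga (Spec (CommRingCat.of k))] := by
  rw [Groth.Agent.Borel50.Luna.HomGa.eq_one hG φ, Hom.one_def]

end Groth.Agent.S2989
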