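import Groth.Statements.S3006
import Groth.Agent.TorusCentralizer.Basic
import Groth.Agent.DiagRig.TorusBasic
import Groth.Agent.S0346

set_option autoImplicit false
universe u
open CategoryTheory MonoidalCategory CartesianMonoidalCategory MonObj GrpObj AlgebraicGeometry
open Red Groth.Agent.DiagRig

namespace Groth.Agent.S3006

/-- Let S be a scheme, G an S-group scheme smooth and of finite presentation over S, and q : Q → G a
closed subgroup scheme which is a torus. Then the centralizer and the normalizer of Q in G exist as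
closed subgroup schemes of G (characterized on points as in `Red.IsCentralizerOf` /
`Red.IsNormalizerOf`) and are smooth over S. -/
theorem result (S : Scheme.{u}) (G Q : Over S) [GrpObj G] [GrpObj Q] [Smooth G.hom] [LocallyOfFinitePresentation G.hom] [QuasiCompact G.hom] [QuasiSeparated G.hom] (q : Q ⟶ G) [IsMonHom q] (hq : IsClosedImmersion q.left) (hQ : Red.IsTorus Q) : (∃ (Z : Over S) (_ : GrpObj Z) (z : Z ⟶ G), Red.IsCentralizerOf q z ∧ IsClosedImmersion z.left ∧ Smooth Z.hom) ∧ ∃ (N : Over S) (_ : GrpObj N) (n : N ⟶ G), Red.IsNormalizerOf q n ∧ IsClosedImmersion n.left ∧ Smooth N.hom := by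
  have hM : SGA3x.IsMultTypeFT Q := Groth.Agent.DiagRig.multTypeFT_of_torus hQ
  have : IsAffineHom Q.hom := Groth.Agent.DiagRig.multType_isAffineHom Q hM
  have := hq
  have : IsSeparated G.hom := (Groth.Agent.S0346.result S G).1.mpr (by
    have h1 : IsClosedImmersion η[Q].left := (Groth.Agent.S0346.result S Q).1.mp inferInstance
    have h2 : η[Q] ≫ q = η[G] := IsMonHom.one_hom q
    rw [← h2, Over.comp_left]
    infer_instance)
  have : Mono q := Over.mono_of_mono_left q
  refine ⟨?_, ?_⟩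
  · obtain ⟨T, j, hj, hs, hT⟩ := exists_transporter q q (splitFpqc_of_multTypeFT Q hM)
    have : Mono j := Over.mono_of_mono_left j
    have hiff : ∀ (X : Over S) (g : X ⟶ G), (∃ z : X ⟶ T, z ≫ j = g) ↔
        ∀ (X' : Over S) (x : X' ⟶ X) (h : X' ⟶ Q), (x ≫ g) * (h ≫ q) = (h ≫ q) * (x ≫ g) := fun X g => by
      rw [hT]
      exact forall_congr' fun X' => forall_congr' fun x => forall_congr' fun h => mul_inv_eq_iff_eq_mul
    have hone : ∀ X, ∃ z : X ⟶ T, z ≫ j = (1 : X ⟶ G) := fun X => (hiff X 1).mpr fun X' x h => by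
      rw [MonObj.comp_one, _root_.one_mul, _root_.mul_one]
    have hmul : ∃ z : T ⊗ T ⟶ T, z ≫ j = (fst T T ≫ j) * (snd T T ≫ j) := (hiff _ _).mpr fun X' x h => by
      rw [MonObj.comp_mul, ← Category.assoc, ← Category.assoc]
      have h1 := (hiff X' ((x ≫ fst T T) ≫ j)).mp ⟨_, rfl⟩ X' (𝟙 X') h
      have h2 := (hiff X' ((x ≫ snd T T) ≫ j)).mp ⟨_, rfl⟩ X' (𝟙 X') h
      rw [Category.id_comp] at h1 h2
      exact Commute.mul_left h1 h2
    have hinv : ∃ z : T ⟶ T, z ≫ j = j⁻¹ := (hiff _ _).mpr fun X' x h => by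
      rw [GrpObj.comp_inv]
      exact Commute.inv_left ((hiff T j).mp ⟨𝟙 T, Category.id_comp j⟩ X' x h)
    obtain ⟨inst, hmon⟩ := Groth.Agent.GrpScheme.SubgroupObj.exists_grpObj j
      (hmul.imp fun z hz => hz.trans (by rw [Hom.mul_def]; congr 1))
      ((hone _).imp fun z hz => hz.trans (by rw [Hom.one_def, toUnit_unique (toUnit _) (𝟙 _), Category.id_comp]))
      (hinv.imp fun z hz => hz.trans (by rw [Hom.inv_def]))
    exact ⟨T, inst, j, ⟨hmon, ‹Mono j›, hiff⟩, hj, hs inferInstance⟩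
  · obtain ⟨T, j, hj, hs, hT⟩ := Groth.Agent.TorusCentralizer.exists_subTransporter_of_closed q q hM hM hq hq
    have : Mono j := Over.mono_of_mono_left j
    have hone : ∀ X, ∃ z : X ⟶ T, z ≫ j = (1 : X ⟶ G) := fun X => (hT X 1).mpr fun X' x =>
      ⟨fun h => ⟨h, by rw [MonObj.comp_one, _root_.one_mul, inv_one, _root_.mul_one]⟩,
        fun h => ⟨h, by rw [MonObj.comp_one, inv_one, _root_.one_mul, _root_.mul_one]⟩⟩
    have hmul : ∃ z : T ⊗ T ⟶ T, z ≫ j = (fst T T ≫ j) * (snd T T ≫ j) := (hT _ _).mpr fun X' x => by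
      have ha := (hT X' (x ≫ fst T T ≫ j)).mp ⟨x ≫ fst T T, Category.assoc _ _ _⟩ X' (𝟙 X')
      have hb := (hT X' (x ≫ snd T T ≫ j)).mp ⟨x ≫ snd T T, Category.assoc _ _ _⟩ X' (𝟙 X')
      simp only [Category.id_comp] at ha hb
      refine ⟨fun h => ?_, fun h => ?_⟩
      · obtain ⟨h', e⟩ := hb.1 h
        obtain ⟨h'', e'⟩ := ha.1 h'
        refine ⟨h'', ?_⟩
        rw [← e', ← e, MonObj.comp_mul]
        group
      · obtain ⟨h', e⟩ := ha.2 h
        obtain ⟨h'', e'⟩ := hb.2 h'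
        refine ⟨h'', ?_⟩
        rw [← e', ← e, MonObj.comp_mul]
        group
    have hinv : ∃ z : T ⟶ T, z ≫ j = j⁻¹ := (hT _ _).mpr fun X' x => by
      have ha := (hT T j).mp ⟨𝟙 T, Category.id_comp j⟩ X' x
      rw [GrpObj.comp_inv]
      exact ⟨fun h => (ha.2 h).imp fun h' e => by rw [_root_.inv_inv, e],
        fun h => (ha.1 h).imp fun h' e => by rw [_root_.inv_inv, e]⟩
    obtain ⟨inst, hmon⟩ := Groth.Agent.GrpScheme.SubgroupObj.exists_grpObj j
      (hmul.imp fun z hz => hz.trans (by rw [Hom.mul_def]; congr 1))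
      ((hone _).imp fun z hz => hz.trans (by rw [Hom.one_def, toUnit_unique (toUnit _) (𝟙 _), Category.id_comp]))
      (hinv.imp fun z hz => hz.trans (by rw [Hom.inv_def]))
    exact ⟨T, inst, j, ⟨hmon, ‹Mono j›, fun X g => (hT X g).trans
      ⟨fun h X' x a => ⟨(h X' x).1 a, (h X' x).2 a⟩, fun h X' x => ⟨fun a => (h X' x a).1, fun a => (h X' x a).2⟩⟩⟩,
      hj, hs⟩

end Groth.Agent.S3006
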