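import Groth.Statements.S3014
import Groth.Agent.LimGrp.Stage
import Groth.Agent.LimLib.FGSub
import Mathlib.RingTheory.Jacobson.Ring
import Mathlib.FieldTheory.IsAlgClosed.Basic

set_option autoImplicit false
universe u
open CategoryTheory MonoidalCategory CartesianMonoidalCategory MonObj GrpObj AlgebraicGeometry
open Red

namespace Groth.Agent.S3014

open CategoryTheory Limits Groth.Agent.LimGrp Groth.Agent.LimLib

set_option backward.isDefEq.respectTransparency false

/-- The comparison of iterated base changes as group objects. -/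
noncomputable def cmpGrp {S T U : Scheme.{u}} {g : T ⟶ S} {g' : U ⟶ T} {h : U ⟶ S} (w : g' ≫ g = h)
    (G : Over S) [GrpObj G] : Grp.mk (Red.bc g' (Red.bc g G)) ≅ Grp.mk (Red.bc h G) :=
  haveI := isMonHom_cmp w G
  Grp.mkIso' (cmp w G)

/-- Base change of an isomorphism of group objects. -/
noncomputable def bcGrp {S T : Scheme.{u}} (g : T ⟶ S) {G H : Over S} [GrpObj G] [GrpObj H]
    (e : Grp.mk G ≅ Grp.mk H) : Grp.mk (Red.bc g G) ≅ Grp.mk (Red.bc g H) :=
  (Over.pullback g).mapGrp.mapIso e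

/-- The underlying isomorphism of an isomorphism of group objects. -/
noncomputable def objIso {C : Type*} [Category C] [CartesianMonoidalCategory C] {G H : C} [GrpObj G] [GrpObj H]
    (e : Grp.mk G ≅ Grp.mk H) : G ≅ H :=
  ⟨e.hom.hom.hom, e.inv.hom.hom,
    congrArg (fun m => m.hom.hom) e.hom_inv_id, congrArg (fun m => m.hom.hom) e.inv_hom_id⟩

theorem isMonHom_objIso {C : Type*} [Category C] [CartesianMonoidalCategory C] {G H : C} [GrpObj G] [GrpObj H]
    (e : Grp.mk G ≅ Grp.mk H) : IsMonHom (objIso e).hom :=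
  e.hom.hom.isMonHom_hom

section Abstract

variable {I : Type u} [SmallCategory I] [IsCofiltered I] {D : I ⥤ Scheme.{u}} {c : Cone D}
  (hc : IsLimit c) [∀ (i i' : I) (f : i ⟶ i'), IsAffineHom (D.map f)]
  [∀ i, CompactSpace (D.obj i)] [∀ i, QuasiSeparatedSpace (D.obj i)]

include hc in
/-- Descent of an isomorphism of groups from the limit to a stage. -/
theorem exists_stage_iso {i : I} (X Y : Over (D.obj i)) [GrpObj X] [GrpObj Y]
    [QuasiCompact X.hom] [QuasiSeparated X.hom] [LocallyOfFinitePresentation X.hom]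
    [QuasiCompact Y.hom] [QuasiSeparated Y.hom] [LocallyOfFinitePresentation Y.hom]
    (u : Red.bc (c.π.app i) X ⟶ Red.bc (c.π.app i) Y) [IsIso u] [IsMonHom u] :
    ∃ (j : I) (a : j ⟶ i), Nonempty (Grp.mk (Red.bc (D.map a) X) ≅ Grp.mk (Red.bc (D.map a) Y)) := by
  obtain ⟨j, a, v, hv⟩ := exists_stage_hom hc X Y u
  have := isMonHom_cmp (c.w a) X
  have := isMonHom_cmp (c.w a) Y
  have hv' : (Over.pullback (c.π.app j)).map v = ((cmp (c.w a) X).hom ≫ u) ≫ (cmp (c.w a) Y).inv :=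
    (Iso.eq_comp_inv _).mpr hv
  have h1 : IsIso ((Over.pullback (c.π.app j)).map v) := by
    rw [hv']; infer_instance
  have h2 : IsMonHom ((Over.pullback (c.π.app j)).map v) := by
    rw [hv']; infer_instance
  obtain ⟨m, b, hb1, hb2⟩ := ((desc_isIso hc v).and (desc_eqAt hc _ _)).descends
    ⟨h1, eqAt_mul_of_isMonHom _ h2⟩
  have := hb1
  have := isMonHom_of_bc_mul _ hb2
  exact ⟨m, b ≫ a, ⟨(cmpGrp (D.map_comp b a).symm X).symm ≪≫
    Grp.mkIso' (asIso ((Over.pullback (D.map b)).map v)) ≪≫ cmpGrp (D.map_comp b a).symm Y⟩⟩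

include hc in
/-- Descent to a scheme with points in all stages. -/
theorem descend {B : Scheme.{u}} {i : I} (σ : D.obj i ⟶ B) (q : c.pt ⟶ B) (hσ : c.π.app i ≫ σ = q)
    (hpt : ∀ (j : I) (a : j ⟶ i), ∃ x : B ⟶ D.obj j, (x ≫ D.map a) ≫ σ = 𝟙 B)
    (Z Z' : Over B) [GrpObj Z] [GrpObj Z']
    [QuasiCompact Z.hom] [QuasiSeparated Z.hom] [LocallyOfFinitePresentation Z.hom]
    [QuasiCompact Z'.hom] [QuasiSeparated Z'.hom] [LocallyOfFinitePresentation Z'.hom]
    (e : Red.bc q Z ≅ Red.bc q Z') [IsMonHom e.hom] :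
    Nonempty (Grp.mk (Red.bc (𝟙 B) Z) ≅ Grp.mk (Red.bc (𝟙 B) Z')) := by
  have := isMonHom_cmp hσ Z
  have := isMonHom_cmp hσ Z'
  obtain ⟨j, a, ⟨r⟩⟩ := exists_stage_iso hc (Red.bc σ Z) (Red.bc σ Z')
    ((cmp hσ Z).hom ≫ e.hom ≫ (cmp hσ Z').inv)
  obtain ⟨x, hx⟩ := hpt j a
  exact ⟨(cmpGrp hx Z).symm ≪≫ (cmpGrp rfl (Red.bc σ Z)).symm ≪≫
    bcGrp x r ≪≫ cmpGrp rfl (Red.bc σ Z') ≪≫ cmpGrp hx Z'⟩

end Abstract

/-- A closed point of the spectrum of a finitely generated subalgebra. -/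
theorem exists_point (K Ω : Type u) [Field K] [IsAlgClosed K] [Field Ω] [Algebra K Ω] (s : Finset Ω) :
    ∃ x : Algebra.adjoin K (s : Set Ω) →+* K, x.comp (algebraMap K _) = RingHom.id K := by
  obtain ⟨m, hm⟩ := Ideal.exists_maximal (Algebra.adjoin K (s : Set Ω))
  have : Algebra.FiniteType K (Algebra.adjoin K (s : Set Ω)) :=
    ⟨(Algebra.adjoin K (s : Set Ω)).fg_top.2 (Subalgebra.fg_adjoin_finset s)⟩
  let := Ideal.Quotient.field m
  have : Algebra.FiniteType K (Algebra.adjoin K (s : Set Ω) ⧸ m) :=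
    Algebra.FiniteType.of_surjective (Ideal.Quotient.mkₐ K m) Ideal.Quotient.mk_surjective
  have := finite_of_finite_type_of_isJacobsonRing K (Algebra.adjoin K (s : Set Ω) ⧸ m)
  let l : (Algebra.adjoin K (s : Set Ω) ⧸ m) →ₐ[K] K := IsAlgClosed.lift
  refine ⟨(l.comp (Ideal.Quotient.mkₐ K m)).toRingHom, RingHom.ext fun r => ?_⟩
  exact (l.comp (Ideal.Quotient.mkₐ K m)).commutes r

/-- (i)⇒(ii): Let G and G' be reductive S-groups and f : S' → S a surjective morphism such that the base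
changes of G and G' to S' are isomorphic as group schemes. Then for every s ∈ S the geometric fibres
G_{s̄} and G'_{s̄} are isomorphic. -/
theorem result (S : Scheme.{u}) (G G' : Over S) [GrpObj G] [GrpObj G'] (hG : Red.IsReductive G) (hG' : Red.IsReductive G') (S' : Scheme.{u}) (f : S' ⟶ S) [Surjective f] (hiso : Nonempty (Grp.mk (Red.bc f G) ≅ Grp.mk (Red.bc f G'))) (s : S) : Nonempty (Grp.mk (Red.geomFibre s G) ≅ Grp.mk (Red.geomFibre s G')) := by
  obtain ⟨e⟩ := hiso
  obtain ⟨s', rfl⟩ := f.surjective s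
  let Ω := AlgebraicClosure (S'.residueField s')
  let K := AlgebraicClosure (S.residueField (f s'))
  letI : Algebra (S.residueField (f s')) Ω :=
    ((algebraMap (S'.residueField s') Ω).comp (f.residueFieldMap s').hom).toAlgebra
  let l : K →ₐ[S.residueField (f s')] Ω := IsAlgClosed.lift
  letI : Algebra K Ω := l.toRingHom.toAlgebra
  have hq : Spec.map (CommRingCat.ofHom (algebraMap K Ω)) ≫ geomPt (f s') = geomPt s' ≫ f := by
    show Spec.map _ ≫ Spec.map _ ≫ _ = (Spec.map _ ≫ _) ≫ f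
    rw [Category.assoc, ← Scheme.Hom.SpecMap_residueFieldMap_fromSpecResidueField, ← Spec.map_comp_assoc,
      ← Spec.map_comp_assoc]
    congr 2
    exact CommRingCat.hom_ext (RingHom.ext fun r => l.commutes r)
  let eq' := cmpGrp hq G ≪≫ (cmpGrp rfl G).symm ≪≫ bcGrp (geomPt s') e ≪≫ cmpGrp rfl G' ≪≫ (cmpGrp hq G').symm
  have := (hG.2.2 (f s')).1
  have := (hG'.2.2 (f s')).1
  have := (hG.2.2 (f s')).2.1
  have := (hG'.2.2 (f s')).2.1
  have := isMonHom_objIso eq'
  have : ∀ j, CompactSpace ((fgDiagram K Ω).obj j) := fun j => inferInstance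
  have : ∀ j, QuasiSeparatedSpace ((fgDiagram K Ω).obj j) := fun j => inferInstance
  obtain ⟨r⟩ := descend (isLimitFgCone K Ω) (i := Opposite.op ∅)
    (Spec.map (CommRingCat.ofHom (algebraMap K (Algebra.adjoin K ((∅ : Finset Ω) : Set Ω)))))
    (Spec.map (CommRingCat.ofHom (algebraMap K Ω))) (Spec.map_comp _ _).symm
    (fun j a => by
      obtain ⟨p, hp⟩ := exists_point K Ω j.unop
      refine ⟨Spec.map (CommRingCat.ofHom p), ?_⟩
      show (Spec.map _ ≫ Spec.map _) ≫ Spec.map _ = _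
      rw [← Spec.map_comp, ← Spec.map_comp, ← Spec.map_id]
      congr 1
      exact CommRingCat.hom_ext (RingHom.ext fun t => RingHom.congr_fun hp t))
    (geomFibre (f s') G) (geomFibre (f s') G') (objIso eq')
  exact ⟨(cmpGrp (Category.id_comp _) G).symm ≪≫ r ≪≫ cmpGrp (Category.id_comp _) G'⟩

end Groth.Agent.S3014
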