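import Groth.Statements.S3016
import Groth.Agent.GrpArtin.Descend
import Groth.Agent.GrpScheme.ClosedImage
import Groth.Agent.HomDim.Basic
-- import your own Groth.Agent.* helpers here

set_option autoImplicit false
set_option linter.style.haveILetI false
set_option backward.isDefEq.respectTransparency false
universe u
open CategoryTheory MonoidalCategory CartesianMonoidalCategory MonObj GrpObj AlgebraicGeometry TensorProduct
open SGA3

namespace Groth.Agent.S3016

open Groth.Agent Groth.Agent.GrpArtin

/-- `dim G = dim u(G) + dim Ker u` over a field, with closed image. -/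
theorem field_case {k : Type u} [Field k] (G H : Over (Spec (CommRingCat.of k))) [GrpObj G] [GrpObj H]
    [LocallyOfFiniteType G.hom] [LocallyOfFiniteType H.hom] (u : G ⟶ H) [IsMonHom u] [QuasiCompact u.left] :
    IsClosed (Set.range u.left.base) ∧
    topologicalKrullDim G.left = topologicalKrullDim (Set.range u.left.base) +
        topologicalKrullDim ↥(u.left ⁻¹' Set.range η[H].left) := by
  refine ⟨GrpScheme.ClosedImage.isClosed_range u, ?_⟩
  have key : ∀ {T : Over (Spec (CommRingCat.of k))} (g : T ⟶ G) (h : T ⟶ H),
      lift g h ≫ (u ▷ H) ≫ μ[H] = (g ≫ u) * h := fun g h => by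
    rw [Hom.mul_def, ← Category.assoc]
    congr 1
    ext <;> simp
  let a : AlgGrp.Action G H :=
    { act := (u ▷ H) ≫ μ[H]
      one_act := by
        rw [← comp_whiskerRight_assoc, IsMonHom.one_hom (f := u)]
        exact MonObj.one_mul H
      mul_act := by
        rw [show μ[G] ▷ H = lift (fst (G ⊗ G) H ≫ μ[G]) (snd (G ⊗ G) H) by refine CartesianMonoidalCategory.hom_ext _ _ ?_ ?_ <;> simp, key,
          ← Category.assoc (α_ G G H).hom,
          show (α_ G G H).hom ≫ G ◁ ((u ▷ H) ≫ μ[H]) = lift (fst (G ⊗ G) H ≫ fst G G)
            (lift (fst (G ⊗ G) H ≫ snd G G) (snd (G ⊗ G) H) ≫ (u ▷ H) ≫ μ[H]) by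
            refine CartesianMonoidalCategory.hom_ext _ _ (by simp) ?_
            have h : (α_ G G H).hom ≫ snd G (G ⊗ H) = lift (fst (G ⊗ G) H ≫ snd G G) (snd (G ⊗ G) H) :=
              CartesianMonoidalCategory.hom_ext _ _ (by simp) (by simp)
            rw [Category.assoc, whiskerLeft_snd, ← Category.assoc, h, lift_snd],
          key, key]
        rw [show fst (G ⊗ G) H ≫ μ[G] = (fst (G ⊗ G) H ≫ fst G G) * (fst (G ⊗ G) H ≫ snd G G) by
          rw [← MonObj.comp_mul, Hom.mul_def, lift_fst_snd, Category.id_comp], MonObj.mul_comp, _root_.mul_assoc] }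
  have ho : a.orbitMap η[H] = u := by
    show lift (𝟙 G) (toUnit G ≫ η[H]) ≫ (u ▷ H) ≫ μ[H] = u
    rw [key, ← Hom.one_def, _root_.mul_one, Category.id_comp]
  haveI : IsClosedImmersion η[H].left := Descend.isClosedImmersion_unit H
  haveI : QuasiCompact (a.orbitMap η[H]).left := by rw [ho]; infer_instance
  have hd := HomDim.dim_eq_add a η[H] (by rw [ho]; exact (GrpScheme.ClosedImage.isClosed_range u).isLocallyClosed)
  rw [ho] at hd
  refine hd.trans ?_
  congr 1
  have e := (Limits.pullback.fst u.left η[H].left).isEmbedding.toHomeomorph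
  refine (IsHomeomorph.topologicalKrullDim_eq e e.isHomeomorph).trans ?_
  rw [Scheme.Pullback.range_fst]


/-- Let A be a local artinian ring and u : G → H a quasi-compact homomorphism between group schemes
locally of finite type over A. Then the image u(G) is a closed subset of H, and dim G = dim u(G) +
dim Ker u (dimensions of the underlying topological spaces; Ker u is the fibre of u over the unit
section). -/
theorem result (A : Type u) [CommRing A] [IsArtinianRing A] [IsLocalRing A]
    (G H : Over (Spec (CommRingCat.of A))) [GrpObj G] [GrpObj H] [LocallyOfFiniteType G.hom] [LocallyOfFiniteType H.hom]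
    (u : G ⟶ H) [IsMonHom u] [QuasiCompact u.left] :
    IsClosed (Set.range u.left.base) ∧
    topologicalKrullDim G.left =
      topologicalKrullDim (Set.range u.left.base) +
        topologicalKrullDim ↥(Limits.pullback u.left (η[H] : 𝟙_ (Over (Spec (CommRingCat.of A))) ⟶ H).left) := by
  let f := res A
  haveI := Descend.lft_bc_res (G := G)
  haveI := Descend.lft_bc_res (G := H)
  haveI := Descend.quasiCompact_bcMap_res u
  haveI : IsMonHom (Descend.bcMap f u) := inferInstance
  obtain ⟨hc, hd⟩ := field_case (bc f G) (bc f H) (Descend.bcMap f u)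
  have hG := isHomeomorph_proj G
  have hH := isHomeomorph_proj H
  refine ⟨?_, ?_⟩
  · show IsClosed (Set.range u.left)
    rw [Descend.range_left u]
    exact hH.isClosedMap _ hc
  haveI : IsSeparated H.hom := Descend.isSeparated H
  let e : 𝟙_ (Over (Spec (CommRingCat.of A))) ⟶ H := η[H]
  haveI : IsClosedImmersion e.left := by
    haveI : IsClosedImmersion (e.left ≫ H.hom) := by
      rw [Over.w e]; exact inferInstanceAs (IsClosedImmersion (𝟙 _))
    exact IsClosedImmersion.of_comp e.left H.hom
  have hr : Set.range e.left = proj f H '' Set.range η[bc f H].left := by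
    rw [← Set.range_comp]
    refine Set.Subset.antisymm ?_ ?_
    · rintro _ ⟨p, rfl⟩
      obtain ⟨p₀, rfl⟩ := (surjective_res (A := A)).surj p
      exact ⟨p₀, Descend.proj_unit _ p₀⟩
    · rintro _ ⟨p, rfl⟩
      exact ⟨_, (Descend.proj_unit _ p).symm⟩
  rw [← IsHomeomorph.topologicalKrullDim_eq _ hG, hd]
  congr 1
  · show topologicalKrullDim ↥(Set.range (Descend.bcMap f u).left) = topologicalKrullDim ↥(Set.range u.left)
    rw [Descend.range_left u]
    exact IsHomeomorph.topologicalKrullDim_eq _ (hH.homeomorph.image _).isHomeomorph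
  · have e' := (Limits.pullback.fst u.left e.left).isEmbedding.toHomeomorph
    refine Eq.trans ?_ (IsHomeomorph.topologicalKrullDim_eq e' e'.isHomeomorph).symm
    have hset : proj f G '' ((Descend.bcMap f u).left ⁻¹' Set.range η[bc f H].left) =
        Set.range (Limits.pullback.fst u.left e.left) := by
      rw [Scheme.Pullback.range_fst, hr]
      ext x
      obtain ⟨x, rfl⟩ := hG.surjective x
      rw [hG.injective.mem_set_image, Set.mem_preimage, Set.mem_preimage, ← Descend.proj_bcMap_apply,
        hH.injective.mem_set_image]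
    rw [← hset]
    exact IsHomeomorph.topologicalKrullDim_eq _ (hG.homeomorph.image _).isHomeomorph

end Groth.Agent.S3016
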