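import Groth.Statements.S3021
import Groth.Agent.Comod.Matrix
import Mathlib.RingTheory.TensorProduct.Finite
-- import your own Groth.Agent.* helpers here

set_option autoImplicit false
universe u
open CategoryTheory MonoidalCategory CartesianMonoidalCategory MonObj GrpObj AlgebraicGeometry TensorProduct
open SGA3

namespace Groth.Agent.S3021

open Groth.Agent.Comod
open scoped TensorProduct

variable {k : Type u} [CommRing k] {A : Type u} [AddCommGroup A] [Module k A] [Module.Projective k A]
  {V : Type u} [AddCommGroup V] [Module k V]

lemma eq_zero_of_slice' (x : V ⊗[k] A) (h : ∀ φ : A →ₗ[k] k, slice φ x = 0) : x = 0 := by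
  obtain ⟨s, hs⟩ := Module.projective_lifting_property (Finsupp.linearCombination k (id : A → A)) LinearMap.id
    (fun a => ⟨Finsupp.single a 1, by simp⟩)
  have hinj : Function.Injective (s.lTensor V) := by
    refine Function.LeftInverse.injective (g := (Finsupp.linearCombination k (id : A → A)).lTensor V) fun z => ?_
    rw [← LinearMap.comp_apply, ← LinearMap.lTensor_comp, hs, LinearMap.lTensor_id, LinearMap.id_apply]
  refine hinj ((eq_zero_of_slice (s.lTensor V x) fun ψ => ?_).trans (map_zero _).symm)
  have hsl : slice ψ (s.lTensor V x) = slice (ψ ∘ₗ s) x := by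
    simp [slice, LinearMap.lTensor_comp]
  rw [hsl, h]

lemma mem_range_of_slice (U : Submodule k V) (x : V ⊗[k] A) (h : ∀ φ : A →ₗ[k] k, slice φ x ∈ U) :
    x ∈ LinearMap.range (U.subtype.rTensor A) := by
  refine (rTensor_exact A (LinearMap.exact_subtype_mkQ U) U.mkQ_surjective x).1 (eq_zero_of_slice' _ fun φ => ?_)
  rw [slice_rTensor]
  exact (Submodule.Quotient.mk_eq_zero U).2 (h φ)


/-- Let A be a commutative ring, C an A-coalgebra which is projective as an A-module, V a C-comodule and
M an A-submodule of V. Then there is a smallest subcomodule of V containing M, and it is finitely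
generated over A when M is. -/
theorem result (A : Type u) [CommRing A] (C : Type u) [AddCommGroup C] [Module A C]
    [Coalgebra A C] [Module.Projective A C] (V : Type u) [AddCommGroup V] [Module A V] [HopfRep.Comod A C V]
    (M : Submodule A V) :
    ∃ W : Submodule A V, HopfRep.IsSubcomod (k := A) (A := C) W ∧ M ≤ W ∧
      (∀ W' : Submodule A V, HopfRep.IsSubcomod (k := A) (A := C) W' → M ≤ W' → W ≤ W') ∧
      (M.FG → W.FG) := by
  classical
  let W : Submodule A V := (Submodule.span (Dual A C) (M : Set V)).restrictScalars A
  refine ⟨W, fun w hw => mem_range_of_slice W _ fun φ => ?_, fun x hx => Submodule.subset_span hx,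
    fun W' hW' hMW' x hx => ?_, fun hM => ?_⟩
  · exact Submodule.smul_mem (Submodule.span (Dual A C) (M : Set V)) (WithConv.toConv φ) hw
  · exact (Submodule.span_le (p := toSub W' hW')).2 hMW' hx
  · obtain ⟨S, hS⟩ := hM
    have hspan : W = (Submodule.span (Dual A C) (S : Set V)).restrictScalars A := by
      refine le_antisymm (fun x hx => ?_) (fun x hx => ?_)
      · refine (Submodule.span_le (p := Submodule.span (Dual A C) (S : Set V))).2 ?_ hx
        intro y hy
        rw [← hS] at hy
        exact Submodule.span_le_restrictScalars A (Dual A C) (S : Set V) hy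
      · refine Submodule.span_mono ?_ hx
        rw [← hS]; exact Submodule.subset_span
    let s := fun v : S => TensorProduct.exists_finset (HopfRep.Comod.coact (k := A) (A := C) (v : V))
    choose T hT using s
    obtain ⟨σ, hσ⟩ := Module.projective_lifting_property (Finsupp.linearCombination A (id : C → C)) LinearMap.id
      (fun c => ⟨Finsupp.single c 1, by simp⟩)
    let J : Finset C := Finset.univ.biUnion fun v : S => (T v).biUnion fun p => (σ p.2).support
    let ψ : C → C →ₗ[A] A := fun j => Finsupp.lapply j ∘ₗ σ
    let G : Finset V := Finset.univ.biUnion fun v : S => J.image fun j => contract (ψ j) (v : V)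
    have key : ∀ (v : S) (φ : C →ₗ[A] A), contract φ (v : V) = ∑ j ∈ J, φ j • contract (ψ j) (v : V) := fun v φ => by
      simp only [contract_apply, hT v, map_sum, slice_tmul, Finset.smul_sum]
      rw [Finset.sum_comm]
      refine Finset.sum_congr rfl fun p hp => ?_
      have hp2 : p.2 = ∑ j ∈ J, σ p.2 j • j := by
        refine (LinearMap.congr_fun hσ p.2).symm.trans ?_
        rw [LinearMap.comp_apply, Finsupp.linearCombination_apply]
        exact Finsupp.sum_of_support_subset _
          (fun j hj => Finset.mem_biUnion.2 ⟨v, Finset.mem_univ _, Finset.mem_biUnion.2 ⟨p, hp, hj⟩⟩) _ (by simp)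
      conv_lhs => rw [hp2]
      simp only [map_sum, map_smul, Finset.sum_smul, smul_smul, smul_eq_mul]
      exact Finset.sum_congr rfl fun j _ => by simp [ψ, mul_comm]
    refine ⟨G, le_antisymm (Submodule.span_le.2 fun g hg => ?_) ?_⟩
    · obtain ⟨v, -, hv⟩ := Finset.mem_biUnion.1 (Finset.mem_coe.1 hg)
      obtain ⟨j, -, rfl⟩ := Finset.mem_image.1 hv
      exact Submodule.smul_mem (Submodule.span (Dual A C) (M : Set V)) (WithConv.toConv (ψ j))
        (Submodule.subset_span (by rw [← hS]; exact Submodule.subset_span v.2))
    · rw [hspan]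
      intro x hx
      rw [Submodule.restrictScalars_mem] at hx
      obtain ⟨f, rfl⟩ := Submodule.mem_span_finset'.1 hx
      refine Submodule.sum_mem _ fun v _ => ?_
      rw [smul_def, key]
      exact Submodule.sum_mem _ fun j hj => Submodule.smul_mem _ _ (Submodule.subset_span (Finset.mem_coe.2
        (Finset.mem_biUnion.2 ⟨v, Finset.mem_univ _, Finset.mem_image.2 ⟨j, hj, rfl⟩⟩)))

end Groth.Agent.S3021
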