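import Groth.Statements.S4100
import Groth.Agent.SepAction.Orbit
-- import your own Groth.Agent.* helpers here

set_option autoImplicit false
universe u
open CategoryTheory MonoidalCategory CartesianMonoidalCategory MonObj GrpObj AlgebraicGeometry CategoryTheory.Limits
open SGA3

namespace Groth.Agent.S4100

set_option backward.isDefEq.respectTransparency.types false

open CartesianMonoidalCategory

/-- Let G be an S-group scheme locally of finite presentation and universally open over S with connected
fibres, acting on an S-scheme X locally of finite presentation over S in such a way that the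
morphism G ×_S X → X ×_S X, (g, x) ↦ (g·x, x), is surjective. Then X is separated over S. -/
theorem result (S : Scheme.{u}) (G X : Over S) [GrpObj G]
    [LocallyOfFinitePresentation G.hom] [UniversallyOpen G.hom]
    (hconn : ∀ s : S, _root_.IsConnected (G.hom.base ⁻¹' {s}))
    [LocallyOfFinitePresentation X.hom] (a : AlgGrp.Action G X)
    (hΦ : Surjective (lift a.act (snd G X)).left) : IsSeparated X.hom := by
  have : UniversallyOpen ((⊤ : G.left.Opens).ι ≫ G.hom) := inferInstance
  refine SepAction.isSeparated_of_translate a ⊤ fun T₀ L _ e x y => ?_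
  have := SepAction.irreducibleSpace_tensor hconn L e (G := G)
  obtain ⟨t₀⟩ : Nonempty T₀.left := ⟨e.inv default⟩
  obtain ⟨V, hV, hxV, -⟩ : ∃ V : X.left.Opens, IsAffineOpen V ∧ x.left t₀ ∈ V ∧ V ≤ ⊤ :=
    exists_isAffineOpen_mem_and_subset (U := ⊤) trivial
  have : IsAffine V.toScheme := hV
  have hVs : IsSeparated (V.ι ≫ X.hom) := inferInstance
  have hne : ∀ z : T₀ ⟶ X, (((SepAction.orbit a z).left ⁻¹ᵁ V : (G ⊗ T₀).left.Opens) : Set (G ⊗ T₀).left).Nonempty := by
    intro z
    obtain ⟨p, hp, -⟩ := SepAction.exists_orbit_eq a hΦ z (x.left t₀) t₀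
      (by rw [← Scheme.Hom.comp_apply, Over.w x])
    exact ⟨p, show (SepAction.orbit a z).left p ∈ V by rw [hp]; exact hxV⟩
  obtain ⟨p, hpx, hpy⟩ := nonempty_preirreducible_inter ((SepAction.orbit a x).left ⁻¹ᵁ V).isOpen
    ((SepAction.orbit a y).left ⁻¹ᵁ V).isOpen (hne x) (hne y)
  let q := GrpScheme.Points.pointHom (G ⊗ T₀) p
  refine ⟨V, hVs, _, inferInstance, q ≫ snd G T₀, q ≫ fst G T₀, fun t => ⟨trivial, ?_, ?_⟩⟩
  · rw [← SepAction.comp_orbit, ← comp_lift, lift_fst_snd, Category.comp_id, GrpScheme.Points.comp_apply,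
      GrpScheme.Points.pointHom_apply]
    exact hpx
  · rw [← SepAction.comp_orbit, ← comp_lift, lift_fst_snd, Category.comp_id, GrpScheme.Points.comp_apply,
      GrpScheme.Points.pointHom_apply]
    exact hpy

end Groth.Agent.S4100
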