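import Groth.Statements.S5324
import Groth.Agent.GrpSGA.NeutralCompact
-- import your own Groth.Agent.* helpers here

set_option autoImplicit false
universe u
open CategoryTheory CategoryTheory.Limits MonoidalCategory CartesianMonoidalCategory MonObj GrpObj AlgebraicGeometry
open SGA3

namespace Groth.Agent.S5324

/-- Let G be an S-group scheme whose fibres G_s are locally of finite type over κ(s) and connected. Then
G is quasi-compact over S. -/
theorem result (S : Scheme.{u}) (G : Over S) [GrpObj G]
    (hG : ∀ s : S, LocallyOfFiniteType (G.hom.fiberToSpecResidueField s))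
    (hconn : ∀ s : S, _root_.IsConnected (G.hom.base ⁻¹' {s})) : QuasiCompact G.hom := by
  refine quasiCompact_iff_forall_isAffineOpen.mpr fun V hV => ?_
  have : IsAffine (V : Scheme.{u}) := hV
  obtain ⟨K, hK, hNK, hKV⟩ := Groth.Agent.GrpSGA.NeutralCompact.exists_compact G V.ι
  have : K = G.hom ⁻¹' (V : Set S) := by
    refine subset_antisymm (by simpa using hKV) fun x hx => hNK ⟨?_, by simpa using hx⟩
    have he : η[G].left.base (G.hom x) ∈ G.hom.base ⁻¹' {G.hom x} := by
      show G.hom (η[G].left (G.hom x)) = G.hom x
      rw [← Scheme.Hom.comp_apply, Over.w]; rfl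
    refine Set.mem_iUnion.mpr ⟨G.hom x, ?_⟩
    exact ((hconn (G.hom x)).2.subset_connectedComponentIn he subset_rfl) rfl
  show IsCompact (G.hom ⁻¹' (V : Set S))
  rw [← this]
  exact hK

end Groth.Agent.S5324
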