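import Groth.Statements.S3025
import Groth.Agent.S4100
import Groth.Agent.GrpScheme.Basic
import Groth.Agent.S5324
-- import your own Groth.Agent.* helpers here

set_option autoImplicit false
set_option linter.style.haveILetI false
universe u
open CategoryTheory MonoidalCategory CartesianMonoidalCategory MonObj GrpObj AlgebraicGeometry TensorProduct
open SGA3

namespace Groth.Agent.S3025

/-- Let S be a scheme and G a group scheme over S which is locally of finite presentation and
universally open over S and whose fibres are connected. Then G is separated and quasi-compact (hence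
of finite presentation) over S. -/
theorem result (S : Scheme.{u}) (G : Over S) [GrpObj G]
    [LocallyOfFinitePresentation G.hom] [UniversallyOpen G.hom]
    (hconn : ∀ s : S, _root_.IsConnected (G.hom.base ⁻¹' {s})) :
    IsSeparated G.hom ∧ QuasiCompact G.hom := by
  refine ⟨?_, ?_⟩
  · refine Groth.Agent.S4100.result S G G hconn (Groth.Agent.GrpScheme.Basic.leftAction G) ?_
    let Φ : G ⊗ G ⟶ G ⊗ G := lift μ[G] (snd G G)
    let Ψ : G ⊗ G ⟶ G ⊗ G := lift (fst G G * (snd G G)⁻¹) (snd G G)
    have hμ : μ[G] = fst G G * snd G G := by simp [Hom.mul_def]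
    have h1 : Φ ≫ Ψ = 𝟙 _ := by
      refine CartesianMonoidalCategory.hom_ext _ _ ?_ (by simp [Φ, Ψ])
      simp only [Φ, Ψ, Category.assoc, lift_fst, Category.id_comp, MonObj.comp_mul, GrpObj.comp_inv, lift_snd, hμ]
      exact mul_inv_cancel_right _ _
    have h2 : Ψ ≫ Φ = 𝟙 _ := by
      refine CartesianMonoidalCategory.hom_ext _ _ ?_ (by simp [Φ, Ψ])
      simp only [Φ, Ψ, Category.assoc, lift_fst, Category.id_comp, MonObj.comp_mul, lift_snd, hμ]
      exact inv_mul_cancel_right _ _
    haveI : IsIso Φ := ⟨Ψ, h1, h2⟩
    haveI : IsIso Φ.left := inferInstanceAs (IsIso ((Over.forget S).map Φ))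
    show Surjective Φ.left
    infer_instance
  · have hG : ∀ s : S, LocallyOfFiniteType (G.hom.fiberToSpecResidueField s) := fun s =>
      inferInstanceAs (LocallyOfFiniteType (Limits.pullback.snd G.hom (S.fromSpecResidueField s)))
    exact Groth.Agent.S5324.result S G hG hconn

end Groth.Agent.S3025
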