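import Groth.Statements.S3027
import Groth.Agent.GrpQuot19.Props
import Groth.Agent.GrpAff.Kernel
import Groth.Agent.GrpScheme.AntiAffine
import Groth.Agent.GrpScheme.AffineHom
import Groth.Agent.GrpScheme.ClosedRepProd
import Groth.Agent.GrpScheme.SubgroupObj
import Groth.Agent.GrpdLib.AffNormalQuot
import Groth.Agent.GrpSGA.AbelianSub
import Groth.Agent.S5369
import Groth.Agent.S5372
import Groth.Agent.S7996

set_option autoImplicit false
set_option backward.isDefEq.respectTransparency false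
set_option synthInstance.maxHeartbeats 200000
set_option maxHeartbeats 800000
universe u
open CategoryTheory MonoidalCategory CartesianMonoidalCategory MonObj GrpObj AlgebraicGeometry TensorProduct
open SGA3

namespace Groth.Agent.S3027

open Groth.Agent CategoryTheory.Limits

/-- Equalizers into a separated scheme are closed. -/
lemma isClosedImmersion_equalizer {S : Scheme.{u}} {A B : Over S} [IsSeparated B.hom] (f g : A ⟶ B) :
    IsClosedImmersion (equalizer.ι f g).left := by
  haveI : IsClosedImmersion (lift (𝟙 B) (𝟙 B)).left := by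
    haveI : IsClosedImmersion ((lift (𝟙 B) (𝟙 B)).left ≫ (fst B B).left) := by
      rw [← Over.comp_left, lift_fst]; exact inferInstanceAs (IsClosedImmersion (𝟙 B.left))
    haveI : IsSeparated (fst B B).left := inferInstanceAs (IsSeparated (pullback.fst B.hom B.hom))
    exact IsClosedImmersion.of_comp (lift (𝟙 B) (𝟙 B)).left (fst B B).left
  have hsq : IsPullback (equalizer.ι f g) (equalizer.ι f g ≫ f) (lift f g) (lift (𝟙 B) (𝟙 B)) := by
    have w : ∀ c : PullbackCone (lift f g) (lift (𝟙 B) (𝟙 B)), c.fst ≫ f = c.snd ∧ c.fst ≫ g = c.snd := fun c => by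
      have h1 := c.condition =≫ fst _ _
      have h2 := c.condition =≫ snd _ _
      simp only [Category.assoc, lift_fst, lift_snd, Category.comp_id] at h1 h2
      exact ⟨h1, h2⟩
    refine IsPullback.of_isLimit' ⟨CartesianMonoidalCategory.hom_ext _ _ (by simp) (by simp only [Category.assoc, CartesianMonoidalCategory.lift_snd, Category.comp_id]; exact (equalizer.condition f g).symm)⟩
      (PullbackCone.IsLimit.mk _ (fun c => equalizer.lift c.fst ((w c).1.trans (w c).2.symm))
        (fun c => equalizer.lift_ι _ _) (fun c => ?_) (fun c m h₁ h₂ => ?_))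
    · rw [← Category.assoc, equalizer.lift_ι, (w c).1]
    · exact equalizer.hom_ext (h₁.trans (equalizer.lift_ι _ _).symm)
  exact MorphismProperty.of_isPullback (GrpdLib.GrpOver.isPullback_left hsq).flip ‹_›

/-- A morphism descending a homomorphism along a covering homomorphism is a homomorphism. -/
lemma isMonHom_of_cover {k : Type u} [Field k] {A B C : Over (Spec (CommRingCat.of k))} [GrpObj A] [GrpObj B]
    [GrpObj C] (p : A ⟶ B) [IsMonHom p] [Flat p.left] [Surjective p.left] [QuasiCompact p.left]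
    (f : A ⟶ C) [IsMonHom f] (d : B ⟶ C) (hd : p ≫ d = f) : IsMonHom d := by
  refine ⟨?_, GrpSGA.AbelianSub.cancel_tensor p inferInstance inferInstance inferInstance ?_⟩
  · rw [← IsMonHom.one_hom (f := p), Category.assoc, hd, IsMonHom.one_hom]
  · rw [← Category.assoc, ← IsMonHom.mul_hom (f := p), Category.assoc, hd, IsMonHom.mul_hom,
      ← Category.assoc, tensorHom_comp_tensorHom, hd]

/-- Kernels are normal. -/
lemma isNormalHom_of_kernel {S : Scheme.{u}} {N A B : Over S} [GrpObj N] [GrpObj A] [GrpObj B] {i : N ⟶ A}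
    {q : A ⟶ B} [IsMonHom q] (h : AlgGrp.IsKernel i q) : AlgGrp.IsNormalHom i := fun T g n => by
  obtain ⟨n', hn'⟩ := GrpdLib.GrpOver.kernel_factor h (g * (n ≫ i) * g⁻¹) (by
    rw [MonObj.mul_comp, MonObj.mul_comp, GrpdLib.GrpOver.comp_kernel_comp h, _root_.mul_one,
      GrpObj.inv_comp, mul_inv_cancel])
  exact ⟨n', hn'.symm⟩

/-- Kernels recognised on points. -/
lemma isKernel_of_iff {S : Scheme.{u}} {N A B : Over S} [GrpObj B] {i : N ⟶ A} {q : A ⟶ B} (hi : Mono i)
    (h : ∀ {T : Over S} (x : T ⟶ A), x ≫ q = 1 ↔ ∃ z : T ⟶ N, z ≫ i = x) : AlgGrp.IsKernel i q := by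
  have h0 : i ≫ q = toUnit N ≫ η[B] := ((h i).2 ⟨𝟙 N, Category.id_comp i⟩).trans Hom.one_def
  have hc : ∀ c : PullbackCone q η[B], ∃ z : c.pt ⟶ N, z ≫ i = c.fst := fun c =>
    (h c.fst).1 (by rw [c.condition, toUnit_unique c.snd (toUnit _), Hom.one_def])
  exact IsPullback.of_isLimit' ⟨h0⟩ (PullbackCone.IsLimit.mk _ (fun c => (hc c).choose)
    (fun c => (hc c).choose_spec) (fun c => toUnit_unique _ _)
    (fun c m h₁ _ => by rw [← cancel_mono i, h₁, (hc c).choose_spec]))

/-- Let G be a connected group scheme of finite type over a field k. Then the centre of G (the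
subfunctor of points g such that g commutes with every point of G after every base change) is
represented by a closed subgroup scheme Z of G, and the quotient G/Z is an affine k-group: there are
an affine group scheme Q and a faithfully flat homomorphism q : G → Q with kernel Z. -/
theorem result (k : Type u) [Field k] (G : Over (Spec (CommRingCat.of k))) [GrpObj G]
    [LocallyOfFiniteType G.hom] [QuasiCompact G.hom] [ConnectedSpace G.left] :
    ∃ (Z : Over (Spec (CommRingCat.of k))) (_ : GrpObj Z) (i : Z ⟶ G), IsMonHom i ∧ IsClosedImmersion i.left ∧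
      (∀ (T : Over (Spec (CommRingCat.of k))) (g : T ⟶ G),
        (∃ z : T ⟶ Z, z ≫ i = g) ↔ ∀ (T' : Over (Spec (CommRingCat.of k))) (t : T' ⟶ T) (h : T' ⟶ G), (t ≫ g) * h = h * (t ≫ g)) ∧
      ∃ (Q : Over (Spec (CommRingCat.of k))) (_ : GrpObj Q) (q : G ⟶ Q), IsMonHom q ∧ IsAffine Q.left ∧ LocallyOfFiniteType Q.hom ∧
        Flat q.left ∧ Surjective q.left ∧ AlgGrp.IsKernel i q := by
  haveI : IsSeparated G.hom := GrpdLib.GrpOver.isSeparated_hom G
  -- the centre
  let fL : G ⊗ G ⟶ G := fst G G * snd G G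
  let fR : G ⊗ G ⟶ G := snd G G * fst G G
  haveI : IsClosedImmersion (equalizer.ι fL fR).left := isClosedImmersion_equalizer fL fR
  obtain ⟨Z, i, hci, hZ⟩ := GrpScheme.ClosedRepProd.exists_equalizer_rep (X := G) (Y := G) fL fR
    (GrpScheme.ClosedRepProd.locallyFree_of_field G.hom)
  haveI : Mono i := Over.mono_of_mono_left i
  have hiff : ∀ (T : Over (Spec (CommRingCat.of k))) (g : T ⟶ G), (∃ z : T ⟶ Z, z ≫ i = g) ↔
      ∀ (T' : Over (Spec (CommRingCat.of k))) (t : T' ⟶ T) (h : T' ⟶ G), (t ≫ g) * h = h * (t ≫ g) := by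
    intro T g
    rw [← hZ T g]
    constructor
    · intro e T' t h
      simpa [fL, fR, MonObj.comp_mul] using congrArg (lift t h ≫ ·) e
    · intro e
      simpa [fL, fR, MonObj.comp_mul] using e (T ⊗ G) (fst T G) (snd T G)
  obtain ⟨hZg, hiM⟩ := GrpScheme.SubgroupObj.exists_grpObj i ((hiff _ _).2 fun T' t h => by
      rw [MonObj.mul_eq_mul (M := G), MonObj.comp_mul, MonObj.comp_mul, tensorHom_fst, tensorHom_snd]
      have h1 := (hiff _ (fst Z Z ≫ i)).1 ⟨_, rfl⟩ T' t
      have h2 := (hiff _ (snd Z Z ≫ i)).1 ⟨_, rfl⟩ T' t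
      rw [_root_.mul_assoc, h2 h, ← _root_.mul_assoc, h1 h, _root_.mul_assoc])
    ((hiff _ _).2 fun T' t h => by
      rw [show t ≫ η[G] = 1 by rw [Hom.one_def, toUnit_unique t (toUnit T')], _root_.one_mul, _root_.mul_one])
    ((hiff _ _).2 fun T' t h => by
      have h1 := (hiff _ i).1 ⟨𝟙 Z, Category.id_comp i⟩ T' t h⁻¹
      rw [show i ≫ ι[G] = i⁻¹ from (Hom.inv_def i).symm, GrpObj.comp_inv]
      have := congrArg (·⁻¹) h1
      simp only [_root_.mul_inv_rev, _root_.inv_inv] at this
      exact this.symm)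
  letI := hZg; haveI := hiM
  refine ⟨Z, hZg, i, hiM, hci, hiff, ?_⟩
  haveI : LocallyOfFiniteType Z.hom := by rw [← Over.w i]; infer_instance
  haveI : QuasiCompact Z.hom := by rw [← Over.w i]; infer_instance
  have hnorm : AlgGrp.IsNormalHom i := fun T g n => ⟨n, by
    have := (hiff _ (n ≫ i)).1 ⟨n, rfl⟩ T (𝟙 T) g
    rw [Category.id_comp] at this
    rw [← this, mul_inv_cancel_right]⟩
  -- the quotient as a group scheme
  obtain ⟨Q, q, hf, hs, hl, hsq⟩ := GrpQuot19.Field.exists_quotient_of_closedSubgroup i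
  haveI := hf; haveI := hs; haveI := hl
  obtain ⟨hQ, hq, -⟩ := Groth.Agent.S5372.result _ G Z Q i q (GrpQuot19.hcov q) hsq hnorm
  letI := hQ; haveI := hq
  have hker := (Groth.Agent.S5369.result _ G Z Q i q (GrpQuot19.hcov q) hsq).1
  rw [IsMonHom.one_hom] at hker
  -- it is a quotient of the affine hull
  obtain ⟨hcov, hlft⟩ := GrpAff.cover_toHull G
  haveI := hcov.flat; haveI := hcov.surj; haveI := hcov.qc; haveI := hlft
  haveI : EffectiveEpi (GrpAff.toHull G).left := GrpSGA.AbelianSub.effectiveEpi_of_fpqc _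
  obtain ⟨N, hN, j, hj, hjci, hjpb, hjiso⟩ := GrpAff.exists_antiAffine_kernel G
  haveI : LocallyOfFiniteType N.hom := by rw [← Over.w j]; infer_instance
  haveI : QuasiCompact N.hom := by rw [← Over.w j]; infer_instance
  have hjZ : ∃ w : N ⟶ Z, w ≫ i = j := (hiff _ _).2 fun T' t h => by
    have := Groth.Agent.S7996.result k N G ((GrpScheme.AntiAffine.bijective_iff_isIso N).2 hjiso) j T' t T' (𝟙 _) h
    simpa using this
  obtain ⟨d, hd, -⟩ := GrpdLib.GrpOver.existsUnique_desc (GrpAff.toHull G) q fun T a b hab => by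
    have h1 : (a⁻¹ * b) ≫ GrpAff.toHull G = toUnit T ≫ η[G] ≫ GrpAff.toHull G := by
      rw [IsMonHom.one_hom, ← Hom.one_def, MonObj.mul_comp, GrpObj.inv_comp, hab, inv_mul_cancel]
    have e : (a⁻¹ * b).left ≫ G.left.toSpecΓ = (toUnit T).left ≫ η[G].left ≫ G.left.toSpecΓ :=
      congrArg (fun f => f.left) h1
    obtain ⟨w, hw⟩ := hjZ
    let l : T ⟶ N := Over.homMk (hjpb.lift _ _ e) (by
      rw [← Over.w j, hjpb.lift_fst_assoc, Over.w])
    have hl : l ≫ j = a⁻¹ * b := Over.OverMorphism.ext (hjpb.lift_fst _ _ _)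
    have : (a⁻¹ * b) ≫ q = 1 := by
      rw [← hl, ← hw, ← Category.assoc, GrpdLib.GrpOver.comp_kernel_comp hker]
    rwa [MonObj.mul_comp, GrpObj.inv_comp, inv_mul_eq_one] at this
  haveI : IsMonHom d := isMonHom_of_cover (GrpAff.toHull G) q d hd
  obtain ⟨K, hK, c, hc, hck⟩ := GrpScheme.AffineHom.exists_kernel d
  haveI : Mono c := GrpdLib.GrpOver.kernel_mono hck
  haveI : IsSeparated Q.hom := GrpdLib.GrpOver.isSeparated_hom Q
  have hη : IsClosedImmersion η[Q].left := by
    haveI : IsClosedImmersion (η[Q].left ≫ Q.hom) := by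
      rw [Over.w η[Q]]; exact inferInstanceAs (IsClosedImmersion (𝟙 _))
    exact IsClosedImmersion.of_comp η[Q].left Q.hom
  haveI : IsClosedImmersion c.left :=
    MorphismProperty.of_isPullback (GrpdLib.GrpOver.isPullback_left hck).flip hη
  haveI : LocallyOfFiniteType K.hom := by rw [← Over.w c]; infer_instance
  haveI : QuasiCompact K.hom := by rw [← Over.w c]; infer_instance
  obtain ⟨Q', hQ', q', hq', haff, hft, hf', hs', hker'⟩ :=
    GrpdLib.AffNormalQuot.exists_affine_quotient (GrpAff.hull G) K c (isNormalHom_of_kernel hck)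
  letI := hQ'; haveI := hq'; haveI := hf'; haveI := hs'
  refine ⟨Q', hQ', GrpAff.toHull G ≫ q', inferInstance, haff, hft, ?_, ?_, ?_⟩
  · rw [Over.comp_left]; infer_instance
  · rw [Over.comp_left]; infer_instance
  refine isKernel_of_iff (GrpdLib.GrpOver.kernel_mono hker) fun {T} x => ?_
  constructor
  · intro hx
    obtain ⟨w, hw⟩ := GrpdLib.GrpOver.kernel_factor hker' (x ≫ GrpAff.toHull G) (by rwa [Category.assoc])
    refine GrpdLib.GrpOver.kernel_factor hker x ?_
    rw [← hd, ← Category.assoc, ← hw, GrpdLib.GrpOver.comp_kernel_comp hck]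
  · rintro ⟨z, rfl⟩
    obtain ⟨w, hw⟩ := GrpdLib.GrpOver.kernel_factor hck ((z ≫ i) ≫ GrpAff.toHull G) (by
      rw [Category.assoc, hd, GrpdLib.GrpOver.comp_kernel_comp hker])
    rw [← Category.assoc, ← hw, GrpdLib.GrpOver.comp_kernel_comp hker']

end Groth.Agent.S3027
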