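import Groth.Statements.S3031
import Groth.Agent.GrpGen19.Basic

set_option autoImplicit false
universe u
open CategoryTheory MonoidalCategory CartesianMonoidalCategory MonObj GrpObj AlgebraicGeometry TensorProduct
open SGA3

namespace Groth.Agent.S3031

open Groth.Agent
set_option synthInstance.maxHeartbeats 200000

/-- With X connected and possessing a rational point over the identity, a case of 'geometrically
connected with e ∈ f(X)': let G be a group scheme over a field k, X a connected, geometrically
reduced k-scheme, x a k-point of X and f : X → G a k-morphism with f(x) the identity. Then the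
smallest closed subgroup scheme of G through which f factors is connected. -/
theorem result (k : Type u) [Field k] (G X : Over (Spec (CommRingCat.of k))) [GrpObj G]
    [GeometricallyReduced X.hom] [ConnectedSpace X.left] (x : 𝟙_ (Over (Spec (CommRingCat.of k))) ⟶ X) (f : X ⟶ G)
    (hx : x ≫ f = η[G])
    (Γ : Over (Spec (CommRingCat.of k))) [GrpObj Γ] (i : Γ ⟶ G) [IsMonHom i] [IsClosedImmersion i.left]
    (hf : ∃ f' : X ⟶ Γ, f' ≫ i = f)
    (hmin : ∀ (Γ' : Over (Spec (CommRingCat.of k))) (_ : GrpObj Γ') (i' : Γ' ⟶ G), IsMonHom i' → IsClosedImmersion i'.left →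
        (∃ f'' : X ⟶ Γ', f'' ≫ i' = f) → ∃ j : Γ ⟶ Γ', j ≫ i' = i) :
    ConnectedSpace Γ.left := by
  obtain ⟨Γ₀, hΓ₀, i₀, hi₀, hci₀, hf₀, -, hr, hmin₀⟩ := GrpGen19.exists_generated f
  obtain ⟨j, hj⟩ := hmin Γ₀ hΓ₀ i₀ hi₀ hci₀ hf₀
  obtain ⟨j', hj'⟩ := hmin₀ Γ inferInstance i ‹_› ‹_› hf
  have hri : Set.range i.left = (GrpGen19.genSet f : Set G.left) := by
    rw [← hr]
    refine Set.Subset.antisymm ?_ ?_
    · rintro _ ⟨z, rfl⟩; exact ⟨j.left z, by rw [← GrpScheme.Points.comp_apply, hj]⟩
    · rintro _ ⟨z, rfl⟩; exact ⟨j'.left z, by rw [← GrpScheme.Points.comp_apply, hj']⟩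
  have hc := GrpGen19.connected_genSet f x hx
  rw [← hri] at hc
  haveI : ConnectedSpace ↥(Set.range i.left) := isConnected_iff_connectedSpace.1 hc
  let e := i.left.isClosedEmbedding.isEmbedding.toHomeomorph
  exact e.symm.surjective.connectedSpace e.symm.continuous

end Groth.Agent.S3031
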