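import Groth.Statements.S3033
import Groth.Agent.HomogDim27.Dim

set_option autoImplicit false
universe u
open CategoryTheory MonoidalCategory CartesianMonoidalCategory MonObj GrpObj AlgebraicGeometry TensorProduct
open SGA3

namespace Groth.Agent.S3033

/-- Let A be a local artinian ring and G a group scheme locally of finite type over A acting on a
nonempty A-scheme X locally of finite type, such that the morphism G ×_A X → X ×_A X, (g, x) ↦ (g·x,
x), is surjective. Then all connected components of X have the same dimension. The published
statement also asserts that the connected components are irreducible; that is not asserted here (it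
is stated separately). -/
theorem result (A : Type u) [CommRing A] [IsArtinianRing A] [IsLocalRing A]
    (G X : Over (Spec (CommRingCat.of A))) [GrpObj G] [LocallyOfFiniteType G.hom] [LocallyOfFiniteType X.hom] [Nonempty X.left]
    (a : AlgGrp.Action G X) (hΦ : Surjective (lift a.act (snd G X)).left) (x y : X.left) :
    topologicalKrullDim ↥(connectedComponent x) = topologicalKrullDim ↥(connectedComponent y) := by
  let K := IsLocalRing.ResidueField A
  let f : Spec (CommRingCat.of K) ⟶ Spec (CommRingCat.of A) :=
    Spec.map (CommRingCat.ofHom (IsLocalRing.residue A))
  haveI : IsClosedImmersion f := IsClosedImmersion.spec_of_surjective _ Ideal.Quotient.mk_surjective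
  haveI : Surjective f := ⟨fun p => by
    obtain ⟨q⟩ := (inferInstance : Nonempty (Spec (CommRingCat.of K)))
    have hsub : Subsingleton (PrimeSpectrum A) := inferInstance
    exact ⟨q, hsub.elim _ _⟩⟩
  let π := Limits.pullback.fst X.hom f
  haveI : IsClosedImmersion π := inferInstanceAs (IsClosedImmersion (Limits.pullback.fst X.hom f))
  haveI : Surjective π := inferInstance
  have hπ : IsHomeomorph π := π.isClosedEmbedding.isEmbedding.toHomeomorphOfSurjective π.surjective |>.isHomeomorph
  haveI : LocallyOfFiniteType (Red.bc f G).hom := inferInstanceAs (LocallyOfFiniteType (Limits.pullback.snd G.hom f))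
  haveI : LocallyOfFiniteType (Red.bc f X).hom := inferInstanceAs (LocallyOfFiniteType (Limits.pullback.snd X.hom f))
  have key := Groth.Agent.HomogDim27.topDim_connectedComponent (a.bc f)
    (Groth.Agent.S5348.surjective_bc f a hΦ)
  let e := hπ.homeomorph
  have hdim : ∀ z, topologicalKrullDim ↥(connectedComponent (e z)) = topologicalKrullDim ↥(connectedComponent z) := fun z => by
    have himg : e '' connectedComponent z = connectedComponent (e z) := by
      refine subset_antisymm ?_ ?_
      · exact (isPreconnected_connectedComponent.image e e.continuous.continuousOn).subset_connectedComponent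
          ⟨z, mem_connectedComponent, rfl⟩
      · intro w hw
        have h1 := (isPreconnected_connectedComponent.image e.symm e.symm.continuous.continuousOn).subset_connectedComponent
          (⟨e z, mem_connectedComponent, e.symm_apply_apply z⟩ : z ∈ e.symm '' connectedComponent (e z))
        exact ⟨e.symm w, h1 ⟨w, hw, rfl⟩, e.apply_symm_apply w⟩
    rw [← himg]
    exact (IsHomeomorph.topologicalKrullDim_eq _ (e.image (connectedComponent z)).isHomeomorph).symm
  obtain ⟨x', rfl⟩ := e.surjective x
  obtain ⟨y', rfl⟩ := e.surjective y
  rw [hdim, hdim]
  exact key x' y'

end Groth.Agent.S3033
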