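import Groth.Statements.S3034
import Groth.Agent.S4094
import Groth.Agent.S3036
-- import your own Groth.Agent.* helpers here

set_option autoImplicit false
universe u
open CategoryTheory MonoidalCategory CartesianMonoidalCategory MonObj GrpObj AlgebraicGeometry TensorProduct
open SGA3

namespace Groth.Agent.S3034

/-- Let A be a local artinian ring and u : G → H a quasi-compact homomorphism between group schemes
locally of finite type over A, with G flat over A and the kernel of u flat over A. Then u factors as
a homomorphism p : G → C which is faithfully flat and locally of finite presentation followed by a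
homomorphism i : C → H which is a closed immersion. (Stated here for G flat over A; the published
statement also covers non-flat G.) -/
theorem result (A : Type u) [CommRing A] [IsArtinianRing A] [IsLocalRing A]
    (G H : Over (Spec (CommRingCat.of A))) [GrpObj G] [GrpObj H] [LocallyOfFiniteType G.hom] [LocallyOfFiniteType H.hom]
    [Flat G.hom] (u : G ⟶ H) [IsMonHom u] [QuasiCompact u.left]
    (hN : Flat (Limits.pullback.snd u.left (η[H] : 𝟙_ (Over (Spec (CommRingCat.of A))) ⟶ H).left)) :
    ∃ (C : Over (Spec (CommRingCat.of A))) (_ : GrpObj C) (p : G ⟶ C) (i : C ⟶ H), IsMonHom p ∧ IsMonHom i ∧ p ≫ i = u ∧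
      Flat p.left ∧ Surjective p.left ∧ LocallyOfFinitePresentation p.left ∧ IsClosedImmersion i.left := by
  haveI : LocallyOfFinitePresentation G.hom :=
    inferInstance
  have hK : Flat (Limits.pullback u η[H]).hom := by
    have e := (Over.forget _).map_isPullback (IsPullback.of_hasPullback u η[H])
    rw [← Over.w (Limits.pullback.snd u η[H])]
    have h1 : Flat (Limits.pullback.snd u η[H]).left := by
      change Flat ((Over.forget _).map (Limits.pullback.snd u η[H]))
      rw [← e.isoPullback_hom_snd]
      haveI : Flat (Limits.pullback.snd ((Over.forget _).map u) ((Over.forget _).map η[H])) := hN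
      infer_instance
    haveI : Flat (𝟙_ (Over (Spec (CommRingCat.of A)))).hom := by
      change Flat (𝟙 _)
      infer_instance
    infer_instance
  obtain ⟨Q, hQ, p, i, hp, hi, hpi, hsurj, hflat, hlfp, hmono, hQlfp, -⟩ :=
    Groth.Agent.S4094.result _ G H u hK
  haveI : QuasiCompact i.left := by
    refine ⟨fun U hU hU' ↦ ?_⟩
    have h := QuasiCompact.isCompact_preimage (f := u.left) U hU hU'
    have h2 := h.image p.left.continuous
    convert h2
    rw [← hpi, Over.comp_left, Scheme.Hom.comp_base, TopCat.coe_comp, Set.preimage_comp,
      Set.image_preimage_eq _ hsurj.surj]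
  exact ⟨Q, hQ, p, i, hp, hi, hpi, hflat, hsurj, hlfp, Groth.Agent.S3036.result A Q H i⟩

end Groth.Agent.S3034
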