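import Groth.Statements.S3037
import Mathlib
import Groth.Agent.GrpArtin.Descend
-- import your own Groth.Agent.* helpers here

set_option autoImplicit false
universe u
open CategoryTheory MonoidalCategory CartesianMonoidalCategory MonObj GrpObj AlgebraicGeometry TensorProduct
open SGA3

namespace Groth.Agent.S3037

/-- (iii) ⟺ (v): let A be a local artinian ring and u : G → H a quasi-compact homomorphism between group
schemes locally of finite type over A. Then u is finite if and only if the kernel of u (the fibre of
u over the unit section) is a discrete space. -/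
theorem result (A : Type u) [CommRing A] [IsArtinianRing A] [IsLocalRing A]
    (G H : Over (Spec (CommRingCat.of A))) [GrpObj G] [GrpObj H] [LocallyOfFiniteType G.hom] [LocallyOfFiniteType H.hom]
    (u : G ⟶ H) [IsMonHom u] [QuasiCompact u.left] :
    IsFinite u.left ↔ DiscreteTopology ↥(Limits.pullback u.left (η[H] : 𝟙_ (Over (Spec (CommRingCat.of A))) ⟶ H).left) := by
  have hc : Function.Surjective (Groth.Agent.GrpArtin.res A) := (Groth.Agent.GrpArtin.surjective_res (A := A)).surj
  have hsub : Subsingleton ↥(Spec (CommRingCat.of A)) := ⟨fun a b => by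
    obtain ⟨a, rfl⟩ := hc a
    obtain ⟨b, rfl⟩ := hc b
    exact congrArg _ (Subsingleton.elim (α := PrimeSpectrum (IsLocalRing.ResidueField A)) a b)⟩
  let e : 𝟙_ (Over (Spec (CommRingCat.of A))) ⟶ H := η[H]
  let i := Limits.pullback.fst u.left e.left
  have : IsSeparated H.hom := Groth.Agent.GrpArtin.Descend.isSeparated H
  have : IsClosedImmersion e.left := by
    have : IsClosedImmersion (e.left ≫ H.hom) := by
      rw [Over.w e]; exact inferInstanceAs (IsClosedImmersion (𝟙 _))
    exact IsClosedImmersion.of_comp e.left H.hom
  constructor
  · intro h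
    have := h
    have h1 : IsFinite (Limits.pullback.snd u.left e.left) := inferInstance
    let s : Spec (CommRingCat.of A) := IsLocalRing.closedPoint A
    have h2 : _root_.IsDiscrete (Set.univ : Set ↥(Limits.pullback u.left e.left)) :=
      ((Limits.pullback.snd u.left e.left).isDiscrete_preimage_singleton s).mono
        fun z _ => Subsingleton.elim (α := ↥(Spec (CommRingCat.of A))) _ _
    exact isDiscrete_univ_iff.mp h2
  · intro h
    refine Groth.Agent.GrpArtin.Descend.isFinite_of_isDiscrete_artin u ?_
    have h2 : _root_.IsDiscrete (Set.univ : Set ↥(Limits.pullback u.left e.left)) := isDiscrete_univ_iff.mpr h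
    refine (h2.image i.isClosedEmbedding.isEmbedding.isInducing).mono ?_
    rw [Set.image_univ, Scheme.Pullback.range_fst]
    intro x hx
    exact ⟨IsLocalRing.closedPoint A, hx.symm⟩

end Groth.Agent.S3037
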