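import Groth.Statements.S5259
import Groth.Agent.DiagRig.MonoLocus.Closed
import Groth.Agent.GrpScheme.SubgroupObj

set_option autoImplicit false
open CategoryTheory MonoidalCategory CartesianMonoidalCategory MonObj GrpObj AlgebraicGeometry
universe u
open SGA3x

namespace Groth.Agent.S5259

/-- Centralizer: Let G be an S-group locally of finite type and quasi-separated over S, H an S-group
which is smooth and of finite presentation over S with connected fibres, and i : H ⟶ G a
homomorphism which is a monomorphism. Then the centralizer of H in G is representable by a closed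
subgroup scheme of G whose immersion into G is of finite presentation. -/
theorem result {S : Scheme.{u}} (G H : Over S) [GrpObj G] [GrpObj H]
    [LocallyOfFiniteType G.hom] [QuasiSeparated G.hom] [Smooth H.hom] [QuasiCompact H.hom] [QuasiSeparated H.hom]
    (hconn : ∀ s : S, ConnectedSpace ↥(Limits.pullback H.hom (S.fromSpecResidueField s)))
    (i : H ⟶ G) [IsMonHom i] [Mono i] :
    ∃ (Z : Over S) (_ : GrpObj Z) (j : Z ⟶ G), Red.IsCentralizerOf i j ∧ IsClosedImmersion j.left ∧
      LocallyOfFinitePresentation j.left := by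
  let δ : G ⊗ H ⟶ G ⊗ G := lift (fst G H * (snd G H ≫ i)) ((snd G H ≫ i) * fst G H)
  let Δ : G ⟶ G ⊗ G := lift (𝟙 G) (𝟙 G)
  have : Mono Δ := mono_of_mono_fac (lift_fst (𝟙 G) (𝟙 G))
  have : LocallyOfFinitePresentation Δ.left := by
    have h1 : LocallyOfFinitePresentation (Δ.left ≫ (fst G G).left) := by
      rw [← Over.comp_left, lift_fst]
      exact (inferInstance : LocallyOfFinitePresentation (𝟙 G.left))
    have h2 : LocallyOfFiniteType (fst G G).left :=
      inferInstanceAs (LocallyOfFiniteType (Limits.pullback.fst G.hom G.hom))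
    exact Groth.Agent.GrpScheme.FlatFib.locallyOfFinitePresentation_of_comp Δ.left (fst G G).left
  have hδ : ∀ {X : Over S} (x : X ⟶ G) (a : X ⟶ H),
      (∃ κ : X ⟶ G, κ ≫ Δ = lift x a ≫ δ) ↔ x * (a ≫ i) = (a ≫ i) * x := fun {X} x a => by
    have e : lift x a ≫ δ = lift (x * (a ≫ i)) ((a ≫ i) * x) := by
      simp only [δ, comp_lift, MonObj.comp_mul, lift_fst, lift_snd_assoc]
    rw [e]
    refine ⟨fun ⟨κ, hκ⟩ => ?_, fun h => ⟨(a ≫ i) * x, ?_⟩⟩
    · rw [comp_lift, Category.comp_id] at hκ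
      have h1 := congrArg (· ≫ fst G G) hκ
      have h2 := congrArg (· ≫ snd G G) hκ
      simp only [lift_fst, lift_snd] at h1 h2
      exact h1.symm.trans h2
    · rw [comp_lift, Category.comp_id, h]
  obtain ⟨T, j, hj, hlfp, hT⟩ := Groth.Agent.DiagRig.MonoLocus.exists_closed_forall δ Δ hconn
    ((hδ _ _).mpr (by rw [MonObj.one_comp, _root_.mul_one, _root_.one_mul]))
    fun X x a b ha hb => (hδ x (a * b)).mpr (by
      rw [MonObj.mul_comp]
      exact Commute.mul_right ((hδ x a).mp ha) ((hδ x b).mp hb))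
  have hiff : ∀ (X : Over S) (g : X ⟶ G), (∃ z : X ⟶ T, z ≫ j = g) ↔
      ∀ (X' : Over S) (x : X' ⟶ X) (h : X' ⟶ H), (x ≫ g) * (h ≫ i) = (h ≫ i) * (x ≫ g) := fun X g => by
    rw [hT]
    exact forall_congr' fun X' => forall_congr' fun x => forall_congr' fun h => hδ _ _
  have : Mono j := Over.mono_of_mono_left j
  have hone : ∀ X, ∃ z : X ⟶ T, z ≫ j = (1 : X ⟶ G) := fun X => (hiff X 1).mpr fun X' x h => by
    rw [MonObj.comp_one, _root_.one_mul, _root_.mul_one]
  have hmul : ∃ z : T ⊗ T ⟶ T, z ≫ j = (fst T T ≫ j) * (snd T T ≫ j) := (hiff _ _).mpr fun X' x h => by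
    rw [MonObj.comp_mul, ← Category.assoc, ← Category.assoc]
    have h1 := (hiff X' ((x ≫ fst T T) ≫ j)).mp ⟨_, rfl⟩ X' (𝟙 X') h
    have h2 := (hiff X' ((x ≫ snd T T) ≫ j)).mp ⟨_, rfl⟩ X' (𝟙 X') h
    rw [Category.id_comp] at h1 h2
    exact Commute.mul_left h1 h2
  have hinv : ∃ z : T ⟶ T, z ≫ j = j⁻¹ := (hiff _ _).mpr fun X' x h => by
    rw [GrpObj.comp_inv]
    exact Commute.inv_left ((hiff T j).mp ⟨𝟙 T, Category.id_comp j⟩ X' x h)
  obtain ⟨inst, hmon⟩ := Groth.Agent.GrpScheme.SubgroupObj.exists_grpObj j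
    (hmul.imp fun z hz => hz.trans (by rw [Hom.mul_def]; congr 1))
    ((hone _).imp fun z hz => hz.trans (by rw [Hom.one_def, toUnit_unique (toUnit _) (𝟙 _), Category.id_comp]))
    (hinv.imp fun z hz => hz.trans (by rw [Hom.inv_def]))
  exact ⟨T, inst, j, ⟨hmon, ‹Mono j›, hiff⟩, hj, hlfp⟩

end Groth.Agent.S5259
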