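import Groth.Statements.S3043
import Groth.Agent.AffThick.Nil
-- import your own Groth.Agent.* helpers here

set_option autoImplicit false
universe u
open CategoryTheory MonoidalCategory CartesianMonoidalCategory MonObj GrpObj AlgebraicGeometry TensorProduct
open SGA3

namespace Groth.Agent.S3043

/-- Let π : X → S be a morphism of schemes admitting a section ε (ε followed by π is the identity). If π
is injective on underlying points, then π is an integral morphism. -/
theorem result (X S : Scheme.{u}) (π : X ⟶ S) (ε : S ⟶ X) (hε : ε ≫ π = 𝟙 S)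
    (hinj : Function.Injective π.base) : IsIntegralHom π := by
  haveI : IsIso (ε ≫ π) := by rw [hε]; infer_instance
  haveI : IsImmersion (ε ≫ π) := inferInstance
  haveI : IsImmersion ε := IsImmersion.of_comp ε π
  have hsec : ∀ s, π (ε s) = s := fun s => by rw [← Scheme.Hom.comp_apply, hε]; rfl
  haveI : Surjective ε := ⟨fun x => ⟨π x, hinj (hsec (π x))⟩⟩
  haveI : IsClosedImmersion ε :=
    .of_isPreimmersion ε (by rw [ε.surjective.range_eq]; exact isClosed_univ)
  haveI : UniversallyClosed (ε ≫ π) := inferInstance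
  haveI : UniversallyClosed π := UniversallyClosed.of_comp_surjective ε π
  haveI : IsAffineHom π := ⟨fun U hU => by
    haveI : IsAffine (ε ⁻¹ᵁ (π ⁻¹ᵁ U)).toScheme := by
      rw [← Scheme.Hom.comp_preimage, hε]
      exact hU
    haveI : IsClosedImmersion (ε ∣_ (π ⁻¹ᵁ U)) := IsZariskiLocalAtTarget.restrict ‹_› _
    haveI : Surjective (ε ∣_ (π ⁻¹ᵁ U)) := IsZariskiLocalAtTarget.restrict ‹_› _
    exact Groth.Agent.AffThick.isAffine_of_surjective (ε ∣_ (π ⁻¹ᵁ U))⟩
  exact IsIntegralHom.iff_universallyClosed_and_isAffineHom.mpr ⟨inferInstance, inferInstance⟩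

end Groth.Agent.S3043
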