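import Groth.Statements.S3045
import Mathlib
import Groth.Agent.H85.Conv3

set_option autoImplicit false
universe u
open TensorProduct
open SGA3

namespace Groth.Agent.S3045

open WithConv

/-- Let A be a commutative Hopf algebra over a commutative ring k (the coordinate ring of an affine
group G = Spec A) and φ, ψ two k[ε]-valued points of G reducing to the unit point modulo ε (tangent
vectors at the identity). Then for every a ∈ A the ε-component of the product point φ · ψ at a — the
product of points being convolution, formed here as the triple convolution of φ, ψ and the unit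
point — is the sum of the ε-components of φ(a) and ψ(a): on tangent vectors at the identity the
group law of G induces addition. -/
theorem result (k : Type u) [CommRing k] (A : Type u) [CommRing A] [HopfAlgebra k A]
    (φ ψ : LieHopf.LiePts k A) (a : A) :
    TrivSqZeroExt.snd (Dyn.conv3 k A φ.1 ψ.1 ((Algebra.ofId k (DualNumber k)).comp (Bialgebra.counitAlgHom k A)) a) =
      LieHopf.LiePts.tangent k A φ a + LieHopf.LiePts.tangent k A ψ a := by
  let η := (Algebra.ofId k (DualNumber k)).comp (Bialgebra.counitAlgHom k A)
  have hη : toConv η.toLinearMap = (1 : WithConv (A →ₗ[k] DualNumber k)) := by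
    rw [LinearMap.convOne_def]
    rfl
  have h := congrArg (fun z : WithConv (A →ₗ[k] DualNumber k) => z.ofConv a)
    (H85.conv3_toLinearMap k A φ.1 ψ.1 η)
  rw [hη, mul_one] at h
  simp only [WithConv.ofConv_toConv, AlgHom.toLinearMap_apply] at h
  rw [h]
  set 𝓡 := Coalgebra.Repr.arbitrary k a
  rw [𝓡.convMul_apply]
  simp only [WithConv.ofConv_toConv, AlgHom.toLinearMap_apply, TrivSqZeroExt.snd_sum, TrivSqZeroExt.snd_mul,
    op_smul_eq_smul, smul_eq_mul, Finset.sum_add_distrib, φ.2, ψ.2]
  unfold LieHopf.LiePts.tangent
  have e1 := congrArg (fun b => TrivSqZeroExt.snd (ψ.1 b)) (Coalgebra.sum_counit_smul 𝓡)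
  have e2 := congrArg (fun b => TrivSqZeroExt.snd (φ.1 (TensorProduct.rid k A b))) (Coalgebra.sum_tmul_counit_eq 𝓡)
  simp only [map_sum, map_smul, TensorProduct.rid_tmul, TrivSqZeroExt.snd_sum, TrivSqZeroExt.snd_smul, smul_eq_mul, one_smul] at e1 e2
  simp only [Bialgebra.counitAlgHom_apply]
  rw [e1, e2, add_comm]

end Groth.Agent.S3045
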