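import Groth.Statements.S3046
import Mathlib
import Groth.Agent.H85.Conv3

set_option autoImplicit false
universe u
open TensorProduct
open SGA3

namespace Groth.Agent.S3046

open WithConv

theorem ptLin_mul {k : Type u} [CommRing k] {A : Type u} [CommRing A] [HopfAlgebra k A] {R : Type u} [CommRing R] [Algebra k R]
    (f g : A →ₗ[k] k) (c d : R) :
    (toConv ((LinearMap.toSpanSingleton k R c) ∘ₗ f) *
      toConv ((LinearMap.toSpanSingleton k R d) ∘ₗ g) : WithConv (A →ₗ[k] R)) =
      toConv ((LinearMap.toSpanSingleton k R (c * d)) ∘ₗ LieHopf.conv f g) := by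
  refine WithConv.ext (LinearMap.ext fun a => ?_)
  simp only [LinearMap.convMul_def, LieHopf.conv, WithConv.ofConv_toConv, LinearMap.comp_apply]
  generalize CoalgebraStruct.comul (R := k) a = z
  induction z with
  | zero => simp
  | add x y hx hy => simp only [map_add, hx, hy]
  | tmul x y =>
    simp only [TensorProduct.map_tmul, LinearMap.mul'_apply, LinearMap.comp_apply, LinearMap.toSpanSingleton_apply]
    rw [smul_mul_smul_comm]

/-- Let A be a commutative Hopf algebra over a commutative ring k, D and E two ε-derivations A → k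
(tangent vectors at the identity of G = Spec A), R a commutative k-algebra and t, t' ∈ R with t² = 0
= t'². Let x = e + tD and y = e + t'E be the corresponding R-points of G. Then the commutator x y
x⁻¹ y⁻¹ (product of points; the inverse of a point is its composite with the antipode) is the point
a ↦ ε(a) + [D, E](a) · t t', where [D, E] = D ⋆ E − E ⋆ D is the convolution commutator. -/
theorem result (k : Type u) [CommRing k] (A : Type u) [CommRing A] [HopfAlgebra k A]
    (D E : LieHopf.Lie k A) (R : Type u) [CommRing R] [Algebra k R] (t t' : R) (ht : t * t = 0) (ht' : t' * t' = 0)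
    (a : A) :
    Dyn.conv3 k A
        (Dyn.conv3 k A (LieHopf.ptOfLie D R t ht) (LieHopf.ptOfLie E R t' ht')
          ((LieHopf.ptOfLie D R t ht).comp (HopfAlgebra.antipodeAlgHom k A)))
        ((LieHopf.ptOfLie E R t' ht').comp (HopfAlgebra.antipodeAlgHom k A))
        ((Algebra.ofId k R).comp (Bialgebra.counitAlgHom k A)) a =
      algebraMap k R (Bialgebra.counitAlgHom k A a) + algebraMap k R (LieHopf.bracketLin D E a) * (t * t') := by
  let X := LieHopf.ptOfLie D R t ht
  let Y := LieHopf.ptOfLie E R t' ht'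
  let P : WithConv (A →ₗ[k] R) := toConv ((LinearMap.toSpanSingleton k R t) ∘ₗ LieHopf.dlin D)
  let Q : WithConv (A →ₗ[k] R) := toConv ((LinearMap.toSpanSingleton k R t') ∘ₗ LieHopf.dlin E)
  have hη : toConv ((Algebra.ofId k R).comp (Bialgebra.counitAlgHom k A)).toLinearMap = (1 : WithConv (A →ₗ[k] R)) := by
    rw [LinearMap.convOne_def]; rfl
  have hX : toConv X.toLinearMap = 1 + P := by
    refine WithConv.ext (LinearMap.ext fun b => ?_)
    simp only [X, P, LieHopf.ptOfLie, WithConv.ofConv_add, WithConv.ofConv_toConv, LinearMap.add_apply,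
      LinearMap.convOne_apply, LinearMap.comp_apply, LinearMap.toSpanSingleton_apply]
    rw [Algebra.smul_def]; rfl
  have hY : toConv Y.toLinearMap = 1 + Q := by
    refine WithConv.ext (LinearMap.ext fun b => ?_)
    simp only [Y, Q, LieHopf.ptOfLie, WithConv.ofConv_add, WithConv.ofConv_toConv, LinearMap.add_apply,
      LinearMap.convOne_apply, LinearMap.comp_apply, LinearMap.toSpanSingleton_apply]
    rw [Algebra.smul_def]; rfl
  have hPP : P * P = 0 := by
    rw [ptLin_mul, ht]; simp
  have hQQ : Q * Q = 0 := by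
    rw [ptLin_mul, ht']; simp
  have hinv : ∀ (F : A →ₐ[k] R), toConv (F.comp (HopfAlgebra.antipodeAlgHom k A)).toLinearMap * toConv F.toLinearMap = 1 := by
    intro F
    have h := LinearMap.algHom_comp_convMul_distrib F (toConv (HopfAlgebraStruct.antipode k (A := A))) (toConv LinearMap.id)
    rw [LinearMap.antipode_mul_id] at h
    refine WithConv.ext ?_
    simp only [WithConv.ofConv_toConv, LinearMap.comp_id, LinearMap.convOne_def] at h ⊢
    refine (h.symm.trans ?_)
    ext b; simp
  have hXi : toConv (X.comp (HopfAlgebra.antipodeAlgHom k A)).toLinearMap = 1 - P := by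
    calc _ = toConv (X.comp (HopfAlgebra.antipodeAlgHom k A)).toLinearMap * ((1 + P) * (1 - P)) := by
          rw [show (1 + P) * (1 - P) = 1 - P * P by noncomm_ring, hPP, sub_zero, mul_one]
      _ = _ := by rw [← mul_assoc, ← hX, hinv, one_mul]
  have hYi : toConv (Y.comp (HopfAlgebra.antipodeAlgHom k A)).toLinearMap = 1 - Q := by
    calc _ = toConv (Y.comp (HopfAlgebra.antipodeAlgHom k A)).toLinearMap * ((1 + Q) * (1 - Q)) := by
          rw [show (1 + Q) * (1 - Q) = 1 - Q * Q by noncomm_ring, hQQ, sub_zero, mul_one]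
      _ = _ := by rw [← mul_assoc, ← hY, hinv, one_mul]
  have hPQP : P * Q * P = 0 := by
    rw [ptLin_mul, ptLin_mul, mul_right_comm t t' t, ht]; simp
  have hQPQ : Q * P * Q = 0 := by
    rw [ptLin_mul, ptLin_mul, mul_right_comm t' t t', ht']; simp
  have hPQPQ : P * Q * P * Q = 0 := by rw [hPQP, zero_mul]
  have htot : (1 + P) * (1 + Q) * (1 - P) * (1 - Q) * 1 = 1 + (P * Q - Q * P) := by
    calc (1 + P) * (1 + Q) * (1 - P) * (1 - Q) * 1
        = 1 + (P * Q - Q * P) - P * P + P * P * Q - Q * Q + Q * P * Q - P * Q * P + P * Q * P * Q - P * (Q * Q) := by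
          noncomm_ring
      _ = _ := by rw [hPQPQ, hPQP, hQPQ, hPP, hQQ]; simp
  have E1 := H85.conv3_toLinearMap k A (Dyn.conv3 k A X Y (X.comp (HopfAlgebra.antipodeAlgHom k A)))
      (Y.comp (HopfAlgebra.antipodeAlgHom k A)) ((Algebra.ofId k R).comp (Bialgebra.counitAlgHom k A))
  have E2 : toConv (Dyn.conv3 k A X Y (X.comp (HopfAlgebra.antipodeAlgHom k A))).toLinearMap = (1 + P) * (1 + Q) * (1 - P) := by
    rw [H85.conv3_toLinearMap, hX, hY, hXi]
  rw [E2, hYi, hη, htot, ptLin_mul, ptLin_mul, mul_comm t' t] at E1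
  have key := congrArg (fun z : WithConv (A →ₗ[k] R) => z.ofConv a) E1
  refine key.trans ?_
  simp only [WithConv.ofConv_add, WithConv.ofConv_sub, WithConv.ofConv_toConv, LinearMap.add_apply,
    LinearMap.sub_apply, LinearMap.convOne_apply, LinearMap.comp_apply, LinearMap.toSpanSingleton_apply,
    Bialgebra.counitAlgHom_apply, Algebra.smul_def, LieHopf.bracketLin, map_sub, sub_mul]
  rfl

end Groth.Agent.S3046
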