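import Groth.Statements.S3048
import Groth.Agent.DescSh.Morph
-- import your own Groth.Agent.* helpers here

set_option autoImplicit false
open CategoryTheory CategoryTheory.Limits AlgebraicGeometry Opposite
universe u
open EtDesc

namespace Groth.Agent.S3048

/-- Let f : X' -> X be universally submersive. For sheaves of sets F, G on X_et, every morphism a : f^*
F -> f^* G compatible with the canonical descent data (pr_1^* a and pr_2^* a agree under the
canonical identifications on X' x_X X') is f^* b for exactly one b : F -> G; that is, f^* is fully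
faithful into sheaves with descent data. -/
theorem result {X' X : Scheme.{u}} (f : X' ⟶ X)
    (hf : EtDesc.IsUnivSubmersive f) (F G : EtDesc.Sh X) (a : (EtDesc.pullSh f).obj F ⟶ (EtDesc.pullSh f).obj G)
    (ha : (EtDesc.canIso f F).hom ≫ (EtDesc.pullSh (pullback.snd f f)).map a =
      (EtDesc.pullSh (pullback.fst f f)).map a ≫ (EtDesc.canIso f G).hom) :
    ∃! b : F ⟶ G, (EtDesc.pullSh f).map b = a := by
  have := Groth.Agent.DescSh.surjective_of_univSubmersive f hf
  have := Groth.Agent.EtaleSite.SetStalk.faithful_pull f
  obtain ⟨b, hb⟩ := Groth.Agent.DescSh.exists_desc_hom f hf a ha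
  exact ⟨b, hb, fun b' hb' => (EtDesc.pullSh f).map_injective (hb'.trans hb.symm)⟩

end Groth.Agent.S3048
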