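import Groth.Statements.S3050
import Groth.Agent.DescSh.Effective

set_option autoImplicit false
open CategoryTheory CategoryTheory.Limits AlgebraicGeometry Opposite
universe u
open EtDesc

namespace Groth.Agent.S3050
open Groth.Agent.DescSh

theorem pullIsoVia_def {X' X : Scheme.{u}} {f : X' ⟶ X} (g : EtDesc.X3 f ⟶ EtDesc.X2 f)
    (b₁ b₂ : EtDesc.X3 f ⟶ X') (w₁ : g ≫ pullback.fst f f = b₁) (w₂ : g ≫ pullback.snd f f = b₂)
    (F' : EtDesc.Sh X')
    (φ : (EtDesc.pullSh (pullback.fst f f)).obj F' ≅ (EtDesc.pullSh (pullback.snd f f)).obj F') :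
    (EtDesc.pullIsoVia g b₁ b₂ w₁ w₂ F' φ).hom =
      (EtDesc.pullVia g (pullback.fst f f) b₁ w₁ F').inv ≫ (EtDesc.pullSh g).map φ.hom ≫
        (EtDesc.pullVia g (pullback.snd f f) b₂ w₂ F').hom := rfl

theorem eq_of_comp_eq {Y : Scheme.{u}} {A A' B B' : EtDesc.Sh Y} (i : A ≅ A') (j : B ≅ B') (c : A ≅ B)
    (φ : A' ≅ B') (h : c.hom ≫ j.hom = i.hom ≫ φ.hom) : i.symm ≪≫ c ≪≫ j = φ := by
  ext1
  simp [h]

/-- Let f : X' -> X be a surjective morphism of schemes which is integral. Then f is a morphism of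
effective descent for etale sheaves of sets: every sheaf F' on X'_et equipped with an isomorphism
pr_1^* F' = pr_2^* F' on X' x_X X' satisfying the cocycle condition on the triple fibre product is,
compatibly with that datum, the inverse image of a sheaf on X_et. -/
theorem result {X' X : Scheme.{u}} (f : X' ⟶ X) [Surjective f] [IsIntegralHom f]
    (F' : EtDesc.Sh X')
    (φ : (EtDesc.pullSh (pullback.fst f f)).obj F' ≅ (EtDesc.pullSh (pullback.snd f f)).obj F')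
    (hφ : EtDesc.IsCocycle F' φ) : EtDesc.IsEffective f F' φ := by
  have htrans : ∀ (L : Type u) [Field L] [IsAlgClosed L] (a b c : Spec (CommRingCat.of L) ⟶ EtDesc.X2 f)
    (ξ ζ ρ : Spec (CommRingCat.of L) ⟶ X') (a₁ : a ≫ pullback.fst f f = ξ) (a₂ : a ≫ pullback.snd f f = ζ)
    (b₁ : b ≫ pullback.fst f f = ζ) (b₂ : b ≫ pullback.snd f f = ρ) (c₁ : c ≫ pullback.fst f f = ξ)
    (c₂ : c ≫ pullback.snd f f = ρ)
    (x : (Groth.Agent.EtaleSite.SetStalk.stalkSh ξ).obj F') (y : (Groth.Agent.EtaleSite.SetStalk.stalkSh ζ).obj F')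
    (z : (Groth.Agent.EtaleSite.SetStalk.stalkSh ρ).obj F'),
    Eff.Rel (pullback.fst f f) (pullback.snd f f) φ a ξ ζ a₁ a₂ x y →
    Eff.Rel (pullback.fst f f) (pullback.snd f f) φ b ζ ρ b₁ b₂ y z →
    Eff.Rel (pullback.fst f f) (pullback.snd f f) φ c ξ ρ c₁ c₂ x z := by
    intro L _ _ a b c ξ ζ ρ a₁ a₂ b₁ b₂ c₁ c₂ x y z hxy hyz
    let t : Spec (CommRingCat.of L) ⟶ EtDesc.X3 f := pullback.lift a b (a₂.trans b₁.symm)
    have ta : t ≫ EtDesc.p12 f = a := pullback.lift_fst _ _ _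
    have tb : t ≫ EtDesc.p23 f = b := pullback.lift_snd _ _ _
    have tc : t ≫ EtDesc.p13 f = c := by
      apply pullback.hom_ext
      · rw [Category.assoc, EtDesc.p13_fst, ← Category.assoc, ta, a₁, c₁]
      · rw [Category.assoc, EtDesc.p13_snd, ← Category.assoc, tb, b₂, c₂]
    unfold EtDesc.IsCocycle at hφ
    rw [pullIsoVia_def, pullIsoVia_def, pullIsoVia_def] at hφ
    exact Eff.rel_trans_of_cocycle _ _ φ (EtDesc.p12 f) (EtDesc.p23 f) (EtDesc.p13 f) _ _ _ rfl rfl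
      EtDesc.p23_fst rfl EtDesc.p13_fst EtDesc.p13_snd hφ t a b c ta tb tc ξ ζ ρ a₁ a₂ b₁ b₂ c₁ c₂ x y z hxy hyz
  obtain ⟨F, ψ, hψ⟩ := Eff.exists_desc (pr₁ := pullback.fst f f) (pr₂ := pullback.snd f f) φ
    (IsPullback.of_hasPullback f f) htrans pullback.condition
  exact ⟨F, ψ, eq_of_comp_eq _ _ _ _ ((congrArg (fun k => k ≫ (EtDesc.pullSh (pullback.snd f f)).map ψ.hom)
    (congrArg Iso.hom (canIso_eq f F))).trans hψ)⟩

end Groth.Agent.S3050
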