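import Groth.Statements.S3052
import Groth.Agent.DescSh.Criterion
import Groth.Agent.DiagRig.FppfTwConst
import Groth.Agent.Wt.EtNbhd

set_option autoImplicit false
open CategoryTheory CategoryTheory.Limits AlgebraicGeometry Opposite
universe u
open EtDesc

namespace Groth.Agent.S3052

/-- Let f : X' -> X be a surjective, flat morphism of schemes that is locally of finite presentation.
Descent of etale sheaves of sets along f is then effective: every sheaf F' on X'_et equipped with an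
isomorphism pr_1^* F' = pr_2^* F' on X' x_X X' satisfying the cocycle condition on the triple fibre
product is, compatibly with that datum, the inverse image of a sheaf on X_et. -/
theorem result {X' X : Scheme.{u}} (f : X' ⟶ X) [Surjective f] [Flat f] [LocallyOfFinitePresentation f]
    (F' : EtDesc.Sh X')
    (φ : (EtDesc.pullSh (pullback.fst f f)).obj F' ≅ (EtDesc.pullSh (pullback.snd f f)).obj F')
    (hφ : EtDesc.IsCocycle F' φ) : EtDesc.IsEffective f F' φ := by
  have : UniversallyOpen f := inferInstance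
  refine Groth.Agent.DescSh.Criterion.isEffective_of_multisection f
    (Groth.Agent.DescSh.isUnivSubmersive_of_universallyOpen f) (fun L _ _ η => ?_) F' φ hφ
  obtain ⟨x', hx'⟩ := f.surjective (η default)
  obtain ⟨Z, j, z, hfl, hlfp, hqf, hz⟩ :=
    Groth.Agent.DiagRig.exists_qf_slice f (η default) ⟨x', hx'⟩
  obtain ⟨U, g, u, hu, P, y, hP, hy⟩ := Groth.Agent.Wt.EtNbhd.exists_finPart (j ≫ f) z
    ((j ≫ f).quasiFiniteAt z)
  have : Etale g := hu.etale
  let c₀ : (P : Scheme.{u}) ⟶ U := P.ι ≫ pullback.snd (j ≫ f) g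
  have : IsFinite c₀ := hP.finite
  have : Flat c₀ := inferInstanceAs (Flat (P.ι ≫ _))
  have : LocallyOfFinitePresentation c₀ := inferInstanceAs (LocallyOfFinitePresentation (P.ι ≫ _))
  let O : U.Opens := ⟨Set.range c₀, c₀.isOpenMap.isOpen_range⟩
  have huO : u ∈ O := ⟨⟨y, hP.mem⟩, hP.map_eq⟩
  let c : (c₀ ⁻¹ᵁ O : Scheme.{u}) ⟶ (O : Scheme.{u}) := c₀ ∣_ O
  obtain ⟨l, hl, -⟩ := Scheme.exists_fac_of_etale_of_isSepClosed (O.ι ≫ g) η ⟨u, huO⟩
    (hu.base_eq.trans hz)
  let V : X.Etale := Scheme.Etale.mk (O.ι ≫ g)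
  refine ⟨V, _, c, (c₀ ⁻¹ᵁ O).ι ≫ P.ι ≫ pullback.fst (j ≫ f) g ≫ j,
    ⟨(Over.homMk l hl : Over.mk η ⟶ (Scheme.Etale.forget X).obj V)⟩, ⟨fun o => ?_⟩,
    inferInstanceAs (IsIntegralHom (c₀ ∣_ O)), ?_⟩
  · obtain ⟨p, hp⟩ := o.2
    refine ⟨⟨p, show c₀ p ∈ O from hp ▸ o.2⟩, ?_⟩
    apply O.ι.isOpenEmbedding.injective
    have e := congrArg (fun k : (c₀ ⁻¹ᵁ O : Scheme.{u}) ⟶ U => k ⟨p, show c₀ p ∈ O from hp ▸ o.2⟩)
      (morphismRestrict_ι c₀ O)
    exact e.trans hp
  · show _ = c ≫ O.ι ≫ g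
    simp only [c, morphismRestrict_ι_assoc, Category.assoc, c₀, pullback.condition]

end Groth.Agent.S3052
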