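import Groth.Statements.S3058
import Groth.Agent.TopFin.Coprod

set_option autoImplicit false
open CategoryTheory CategoryTheory.Limits Opposite
universe u
open ToposFin

namespace Groth.Agent.S3058

/-- For a topos of sheaves of sets on a small site: the coproduct of a small family of objects is
quasi-compact if and only if every member is quasi-compact and all but finitely many members are
initial (empty) objects. -/
theorem result {C : Type u} [SmallCategory C] {J : GrothendieckTopology C} {ι : Type u}
    (F : ι → ToposFin.Sh J) :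
    ToposFin.IsQC (∐ F) ↔ (∀ i, ToposFin.IsQC (F i)) ∧ {i | IsEmpty (F i ≅ ⊥_ (ToposFin.Sh J))}.Finite := by
  refine ⟨fun h => ⟨fun i => TopFin.Coprod.isQC_member (colimit.isColimit _) h i,
    TopFin.Coprod.finite_nonInitial (colimit.isColimit _) h⟩, fun ⟨h, hfin⟩ => ?_⟩
  have := hfin.to_subtype
  refine TopFin.QC.isQC_of_cover (fun i : {i | IsEmpty (F i ≅ ⊥_ (ToposFin.Sh J))} => Sigma.ι F i.1)
    (fun Z a b hab => Sigma.hom_ext _ _ fun i => ?_) fun i => h i.1
  by_cases hi : IsEmpty (F i ≅ ⊥_ (ToposFin.Sh J))
  · exact hab ⟨i, hi⟩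
  · obtain ⟨e⟩ := not_isEmpty_iff.1 hi
    exact (initialIsInitial.ofIso e.symm).hom_ext _ _

end Groth.Agent.S3058
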