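import Groth.Statements.S3080
import Groth.Agent.Topos.Continuous

set_option autoImplicit false
universe v u
open CategoryTheory
open SGA4

namespace Groth.Agent.S3080

open CategoryTheory.Limits in
/-- Let (C, J) and (D, K) be small sites and f a functor from sheaves of sets on (C, J) to sheaves of
sets on (D, K) which preserves finite limits and sends u-small jointly epimorphic families to
jointly epimorphic families. Then f is a left adjoint (so it is the inverse-image functor of a
morphism of topoi) and f preserves all u-small colimits. -/
theorem result {C D : Type u} [SmallCategory C] [SmallCategory D]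
    (J : GrothendieckTopology C) (K : GrothendieckTopology D) (f : Sheaf J (Type u) ⥤ Sheaf K (Type u))
    [PreservesFiniteLimits f] (hf : SGA4.PreservesEpiFamilies.{u + 1, u + 1, u} f) :
    f.IsLeftAdjoint ∧ PreservesColimitsOfSize.{u, u} f := by
  have := Groth.Agent.Topos.Continuous.isContinuous_of_lex
    (Groth.Agent.Topos.Gen.axioms J) (Groth.Agent.Topos.Gen.covering_gen J)
    (Groth.Agent.Topos.Gen.axioms K) (Groth.Agent.Topos.Gen.covering_gen K) f (fun {σ Y X a} ha M m hm h => by
      have he := hf σ Y X a fun Z b b' hb => Groth.Agent.Topos.Cover.covering_hom_ext ha hb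
      have : Epi m := ⟨fun b b' hb => he _ b b' fun i => by
        obtain ⟨g, hg⟩ := h i
        rw [← hg, Category.assoc, Category.assoc, hb]⟩
      exact isIso_of_mono_of_epi m)
  have := Groth.Agent.Topos.Continuous.preservesColimits_of_isContinuous
    (Groth.Agent.Topos.Gen.axioms J) (Groth.Agent.Topos.Gen.covering_gen J) f
  exact ⟨Groth.Agent.Topos.Continuous.isLeftAdjoint J K f, this⟩

end Groth.Agent.S3080
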