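import Groth.Statements.S3082
import Groth.Agent.Topos.Gen

set_option autoImplicit false
universe u
open CategoryTheory
open SGA4

namespace Groth.Agent.S3082

/-- Let (C, J) be a small site and G a set of objects of C such that each object of C has a covering
family whose members all lie in G. Then the sheafifications of the presheaves represented by the
members of G form a detecting family in the category Sh(C, J) of set-valued sheaves on (C, J): any
morphism of sheaves that is bijective on sections over each member of G is an isomorphism. -/
theorem result {C : Type u} [SmallCategory C] (J : GrothendieckTopology C) (G : Set C)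
    (hG : ∀ X : C, ∃ (ι : Type u) (Y : ι → C) (f : ∀ i, Y i ⟶ X), Sieve.ofArrows Y f ∈ J X ∧ ∀ i, Y i ∈ G) :
    (ObjectProperty.ofObj fun X : G => (presheafToSheaf J (Type u)).obj (yoneda.obj (X : C))).IsDetecting := by
  refine Groth.Agent.Topos.Gen.isDetecting_gen_of_topGenerating J (fun X : G => (X : C)) fun X => ?_
  obtain ⟨ι, Y, f, hf, hY⟩ := hG X
  refine ⟨_, hf, fun Z g hg => ?_⟩
  obtain ⟨i, a, rfl⟩ := (Sieve.mem_ofArrows_iff _ _ _).1 hg
  exact ⟨⟨Y i, hY i⟩, a, f i, rfl⟩

end Groth.Agent.S3082
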