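import Groth.Statements.S3090
import Groth.Agent.SiteCoh.Totally
import Mathlib.CategoryTheory.Functor.Flat

set_option autoImplicit false
universe u
open CategoryTheory
open CohSite

namespace Groth.Agent.S3090

open CategoryTheory.Limits in
/-- Let C and D be small sites, D having finite limits, and u : D ⥤ C a continuous functor which
preserves finite limits and sends coverings to coverings (so that u defines a morphism of sites, and
of the associated topoi). If F is a flasque (totally acyclic) abelian sheaf on C, then its direct
image V ↦ F(u(V)) is a flasque abelian sheaf on D. -/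
theorem result {C D : Type u} [SmallCategory C] [SmallCategory D]
    [HasFiniteLimits D] (J : GrothendieckTopology C) (K : GrothendieckTopology D) (u : D ⥤ C)
    (hu : CoverPreserving K J u) [PreservesFiniteLimits u] [u.IsContinuous K J]
    (F : Sheaf J AddCommGrpCat.{u}) (hF : CohCx.IsTotallyAcyclic F) :
    CohCx.IsTotallyAcyclic ((CohSite.push J K u).obj F) := by
  have : RepresentablyFlat u := flat_of_preservesFiniteLimits u
  have : PreservesFiniteLimits (u.op.lan : (Dᵒᵖ ⥤ Type u) ⥤ (Cᵒᵖ ⥤ Type u)) :=
    lan_preservesFiniteLimits_of_flat (Type u) u
  have : PreservesFiniteLimits (u.sheafPullback (Type u) K J) :=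
    Functor.sheafPullbackConstruction.preservesFiniteLimits u (Type u) K J
  exact SiteCoh.Totally.isTotallyAcyclic_push K u F hF

end Groth.Agent.S3090
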