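import Groth.Statements.S3092
import Groth.Agent.HyperLib.RelQuasi
import Groth.Agent.HyperLib.CoskLTF

set_option autoImplicit false
universe u
open CategoryTheory
open Hyper

namespace Groth.Agent.S3092

open Opposite in
lemma uniqueLift_comp {A B : Type*} [Category A] [Category B] {G : A ⥤ B} {F : B ⥤ A}
    (adj : F ⊣ G) {U : SimplicialObject A} {n : ℕ} (hU : SSetLib.UniqueLift U n) :
    SSetLib.UniqueLift (U ⋙ G) n := by
  intro M T e he
  have key : ∀ (k : ℕ) (φ : SimplexCategory.mk k ⟶ SimplexCategory.mk M)
      (g : F.obj T ⟶ U.obj (op (SimplexCategory.mk M))),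
      adj.homEquiv _ _ (g ≫ U.map φ.op) = adj.homEquiv _ _ g ≫ (U ⋙ G).map φ.op := fun k φ g =>
    adj.homEquiv_naturality_right g _
  obtain ⟨g, hg, huniq⟩ := hU M (F.obj T) (fun k hk φ => (adj.homEquiv _ _).symm (e k hk φ))
    (fun k k' hk hk' ψ φ => by
      rw [he k k' hk hk' ψ φ]
      exact adj.homEquiv_naturality_right_symm _ _)
  refine ⟨adj.homEquiv _ _ g, fun k hk φ => ?_, fun g' hg' => ?_⟩
  · rw [← key, hg k hk, Equiv.apply_symm_apply]
  · rw [← huniq ((adj.homEquiv _ _).symm g') (fun k hk φ => ?_), Equiv.apply_symm_apply]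
    apply (adj.homEquiv _ _).injective
    rw [key, Equiv.apply_symm_apply, Equiv.apply_symm_apply]
    exact hg' k hk φ

open Opposite CategoryTheory.Limits in
/-- In the topos of sheaves of sets on a small site; coskeleta assumed to exist: let v : K -> L be a
morphism of simplicial sheaves of sets and n ≥ 0 such that v_p is an isomorphism for p < n, v_n is
an epimorphism, and K, L are n-coskeletal (the units K -> cosk_n K, L -> cosk_n L are isomorphisms).
Then every v_p is an epimorphism and v induces a quasi-isomorphism between the chain complexes of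
free abelian sheaves Z[K] -> Z[L]. -/
theorem result {C : Type u} [SmallCategory C] (J : GrothendieckTopology C)
    [∀ (n : ℕ) (F : (SimplexCategory.Truncated n)ᵒᵖ ⥤ Sheaf J (Type u)),
      (SimplexCategory.Truncated.inclusion n).op.HasRightKanExtension F]
    {K L : SimplicialObject (Sheaf J (Type u))} (v : K ⟶ L) (n : ℕ)
    (h1 : ∀ p : ℕ, p < n → IsIso (v.app (op (SimplexCategory.mk p))))
    (h2 : Epi (v.app (op (SimplexCategory.mk n))))
    (h3 : IsIso ((SimplicialObject.coskAdj n).unit.app K) ∧ IsIso ((SimplicialObject.coskAdj n).unit.app L)) :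
    (∀ p : ℕ, Epi (v.app (op (SimplexCategory.mk p)))) ∧
    QuasiIso ((AlgebraicTopology.alternatingFaceMapComplex _).map
      (Functor.whiskerRight v (Sheaf.composeAndSheafify J AddCommGrpCat.free.{u}))) := by
  let P := sheafToPresheaf J (Type u)
  let f := Functor.whiskerRight v P
  have := (SimplicialObject.isCoskeletal_iff_isIso K n).2 h3.1
  have := (SimplicialObject.isCoskeletal_iff_isIso L n).2 h3.2
  have hK := uniqueLift_comp (sheafificationAdjunction J (Type u)) (SSetLib.uniqueLift K n)
  have hL := uniqueLift_comp (sheafificationAdjunction J (Type u)) (SSetLib.uniqueLift L n)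
  have hv : Presheaf.IsLocallySurjective J (f.app (op (SimplexCategory.mk n))) :=
    (Sheaf.isLocallySurjective_iff_epi (v.app (op (SimplexCategory.mk n)))).2 h2
  have hf : HyperLib.RelFill.LTF J f := HyperLib.RelFill.ltf_of_coskeletal f n
    (fun p hp => by
      have := h1 p hp
      exact inferInstanceAs (IsIso (P.map (v.app (op (SimplexCategory.mk p))))))
    hv hK hL
  refine ⟨fun p => (Sheaf.isLocallySurjective_iff_epi (v.app (op (SimplexCategory.mk p)))).1
    ⟨fun {U} x => ?_⟩, ⟨fun i => ?_⟩⟩
  · refine J.superset_covering ?_ (HyperLib.RelFill.extSieve_mem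
      (HyperLib.RelFill.liftModel f U) hf p {x} (Set.finite_singleton x))
    rintro W g ⟨h, hh⟩
    exact ⟨h x rfl, hh.1 x rfl⟩
  · rw [quasiIsoAt_iff_isIso_homologyMap]
    exact HyperLib.RelFill.isIso_homologyMap_free hf i

end Groth.Agent.S3092
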