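import Groth.Statements.S3093
import Mathlib

set_option autoImplicit false
universe u
open CohTop

namespace Groth.Agent.S3093

open Filter Topology

/-- Let X be a topological space and K ⊆ X a compact subset such that any two distinct points of K have
disjoint open neighbourhoods in X. If A and B are subsets of K that are closed in K and W is an open
subset of X containing A ∩ B, then there are open subsets U ⊇ A and V ⊇ B of X with U ∩ V ⊆ W. -/
theorem result {X : Type u} [TopologicalSpace X] {K : Set X} (hK : IsCompact K)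
    (hsep : ∀ x ∈ K, ∀ y ∈ K, x ≠ y → ∃ U V : Set X, IsOpen U ∧ IsOpen V ∧ x ∈ U ∧ y ∈ V ∧ Disjoint U V)
    {A B W : Set X} (hA : A ⊆ K) (hB : B ⊆ K) (hAc : IsClosed (Subtype.val ⁻¹' A : Set K))
    (hBc : IsClosed (Subtype.val ⁻¹' B : Set K)) (hW : IsOpen W) (hABW : A ∩ B ⊆ W) :
    ∃ U V : Set X, IsOpen U ∧ IsOpen V ∧ A ⊆ U ∧ B ⊆ V ∧ U ∩ V ⊆ W := by
  have hcA : IsCompact A := by
    haveI := isCompact_iff_compactSpace.mp hK
    have h := hAc.isCompact.image continuous_subtype_val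
    rwa [Subtype.image_preimage_coe, Set.inter_eq_right.mpr hA] at h
  have hcB : IsCompact B := by
    haveI := isCompact_iff_compactSpace.mp hK
    have h := hBc.isCompact.image continuous_subtype_val
    rwa [Subtype.image_preimage_coe, Set.inter_eq_right.mpr hB] at h
  have hd : Disjoint (𝓝ˢ (A \ W)) (𝓝ˢ (B \ W)) := by
    refine (hcA.diff hW).disjoint_nhdsSet_left.mpr fun x hx => ?_
    refine (hcB.diff hW).disjoint_nhdsSet_right.mpr fun y hy => ?_
    have hne : x ≠ y := fun e => hx.2 (hABW ⟨hx.1, e ▸ hy.1⟩)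
    obtain ⟨U, V, hU, hV, hxU, hyV, hUV⟩ := hsep x (hA hx.1) y (hB hy.1) hne
    exact Filter.disjoint_iff.mpr ⟨U, hU.mem_nhds hxU, V, hV.mem_nhds hyV, hUV⟩
  obtain ⟨S, hS, T, hT, hST⟩ := Filter.disjoint_iff.mp hd
  obtain ⟨U, hU, hAU, hUS⟩ := mem_nhdsSet_iff_exists.mp hS
  obtain ⟨V, hV, hBV, hVT⟩ := mem_nhdsSet_iff_exists.mp hT
  refine ⟨U ∪ W, V ∪ W, hU.union hW, hV.union hW, ?_, ?_, ?_⟩
  · intro x hx
    by_cases h : x ∈ W
    · exact Or.inr h
    · exact Or.inl (hAU ⟨hx, h⟩)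
  · intro x hx
    by_cases h : x ∈ W
    · exact Or.inr h
    · exact Or.inl (hBV ⟨hx, h⟩)
  · rintro x ⟨hx1 | hx1, hx2 | hx2⟩
    · exact absurd (hVT hx2) (Set.disjoint_left.mp hST (hUS hx1))
    all_goals assumption

end Groth.Agent.S3093
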