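import Groth.Statements.S8527
import Groth.Agent.EtConsAb.SubFLC

set_option autoImplicit false
universe u
open CategoryTheory CategoryTheory.Limits AlgebraicGeometry Opposite
open EtPBC

namespace Groth.Agent.S8527

/-- Let X be a locally Noetherian scheme and F an abelian sheaf on its small etale site. Then F is
constructible if and only if for every point x of X there is a nonempty open subset of the closure
of x along which F becomes finite locally constant; precisely: there are an open V containing x and
an immersion g : T → X with image V ∩ closure(x) such that the inverse image of F along g is finite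
locally constant. -/
theorem result {X : Scheme.{u}} [IsLocallyNoetherian X]
    (F : EtCoh.Ab X) :
    EtPBC.IsConstructible F ↔
      ∀ x : X, ∃ (V : X.Opens) (T : Scheme.{u}) (g : T ⟶ X), IsImmersion g ∧ x ∈ V ∧
        Set.range g.base = (V : Set X) ∩ closure {x} ∧
        EtCoh.IsFiniteLocallyConstant ((EtCoh.pull g).obj F) := by
  refine ⟨fun hF x => ?_, fun h => ?_⟩
  · obtain ⟨Z, c, _, _, hx⟩ := Groth.Agent.EtConsAb.exists_irreducible_subscheme x
    obtain ⟨O, hO, hOF⟩ := Groth.Agent.EtConsAb.exists_open_ftlc (Groth.Agent.EtConsAb.isConstructible_pull c hF)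
    obtain ⟨V, hV, hVO⟩ := c.isClosedEmbedding.isInducing.isOpen_iff.1 O.2
    have hr : Set.range c = closure ({x} : Set X) := by
      have h := (genericPoint_spec ↥Z).image c.continuous
      rw [hx, Set.image_univ, c.isClosedEmbedding.isClosed_range.closure_eq] at h
      exact h.symm
    refine ⟨⟨V, hV⟩, O, O.ι ≫ c, inferInstance, ?_, ?_,
      Groth.Agent.EtConsAb.isFLC_of_iso ((Groth.Agent.EtConsAb.pullComp c O.ι).app F) hOF⟩
    · show x ∈ V
      rw [← hx]
      exact hVO.ge hO
    · rw [show ⇑(O.ι ≫ c).base = c ∘ O.ι from funext fun _ => Scheme.Hom.comp_apply _ _ _, Set.range_comp,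
        Scheme.Opens.range_ι, ← hr]
      ext z
      refine ⟨?_, ?_⟩
      · rintro ⟨t, ht, rfl⟩
        exact ⟨hVO.ge ht, t, rfl⟩
      · rintro ⟨hz, t, rfl⟩
        exact ⟨t, hVO.le hz, rfl⟩
  · refine Groth.Agent.EtConsAb.isConstructible_of_forall_exists fun x => ?_
    obtain ⟨W, hW, hxW, -⟩ := exists_isAffineOpen_mem_and_subset (show x ∈ (⊤ : X.Opens) from trivial)
    haveI : IsAffine W.toScheme := hW
    haveI : IsNoetherian W.toScheme := {}
    refine ⟨W, W.ι, inferInstance, ⟨⟨x, hxW⟩, rfl⟩, ?_⟩
    refine Groth.Agent.EtConsAb.isConstructible_of_forall_exists_immersion fun w => ?_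
    obtain ⟨V, T, g, hg, hwV, hr, hF⟩ := h (W.ι w)
    haveI := hg
    obtain ⟨t, ht⟩ : W.ι w ∈ Set.range g.base := hr.ge ⟨hwV, subset_closure rfl⟩
    obtain ⟨p, hp, -⟩ := Scheme.Pullback.exists_preimage_pullback (f := W.ι) (g := g) w t ht.symm
    refine ⟨pullback W.ι g, pullback.fst W.ι g, inferInstance, ⟨p, hp⟩, ?_⟩
    exact Groth.Agent.EtConsAb.isFLC_of_iso
      ((Groth.Agent.EtConsAb.pullCongr pullback.condition.symm).app F ≪≫
        ((Groth.Agent.EtConsAb.pullComp W.ι (pullback.fst W.ι g)).app F).symm)
      (Groth.Agent.EtConsAb.isFLC_pull_comp g (pullback.snd W.ι g) hF)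

end Groth.Agent.S8527
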