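import Groth.Statements.S3114
import Groth.Agent.EtConsAb.SpecialCrit
import Groth.Agent.S8527

set_option autoImplicit false
universe u
open CategoryTheory CategoryTheory.Limits AlgebraicGeometry Opposite
open EtPBC

namespace Groth.Agent.S3114

/-- Abelian case on a locally noetherian scheme (locally noetherian schemes are 'locally arcwise
connected' in the sense of the source): let F be an abelian sheaf on the small etale site of X all
of whose geometric stalks are finite. Then F is finite locally constant if and only if for every two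
geometric points ξ, ξ' of X and every morphism of the corresponding points of the etale site from ξ'
to ξ (a specialization arrow), the induced specialization map on stalks F_ξ -> F_ξ' is an
isomorphism. -/
theorem result (X : Scheme.{u}) [IsLocallyNoetherian X] (F : EtCoh.Ab X)
    (hfin : ∀ (Ω : Type u) [Field Ω] [IsSepClosed Ω] (ξ : Spec (CommRingCat.of Ω) ⟶ X),
      Finite ((EtCoh.stalk ξ).obj F)) :
    EtCoh.IsFiniteLocallyConstant F ↔
      ∀ (Ω Ω' : Type u) [Field Ω] [IsSepClosed Ω] [Field Ω'] [IsSepClosed Ω']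
        (ξ : Spec (CommRingCat.of Ω) ⟶ X) (ξ' : Spec (CommRingCat.of Ω') ⟶ X)
        (φ : Scheme.pointSmallEtale ξ' ⟶ Scheme.pointSmallEtale ξ),
        IsIso ((GrothendieckTopology.Point.Hom.sheafFiber (A := AddCommGrpCat.{u + 1}) φ).app F) := by
  refine ⟨fun h Ω Ω' _ _ _ _ ξ ξ' φ => ?_, fun h => ?_⟩
  · obtain ⟨W, w, M, _, _, m, hm⟩ := Groth.Agent.EtConsAb.exists_isTriv h ξ
    exact Groth.Agent.EtConsAb.isIso_sheafFiber_of_isTriv φ w hm
  · have hc : EtPBC.IsConstructible F := (Groth.Agent.S8527.result F).2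
      (Groth.Agent.EtConsAb.exists_stratum_of_mono F hfin fun Ω Ω' _ _ _ _ ξ ξ' φ => by
        haveI := h Ω Ω' ξ ξ' φ
        infer_instance)
    have hopen : ∀ x : X, ∃ V : X.Opens, x ∈ V ∧
        EtCoh.IsFiniteLocallyConstant ((EtCoh.pull V.ι).obj F) := fun x => by
      obtain ⟨V, hV, hVF⟩ := Groth.Agent.EtConsAb.exists_open_flc_of_special hc
        (Groth.Agent.EtaleSite.geomPointAt X x) fun Ω' _ _ ξ' φ => h _ Ω' _ ξ' φ
      exact ⟨V, by rwa [Groth.Agent.EtaleSite.geomPointAt_apply] at hV, hVF⟩
    choose V hV hVF using hopen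
    exact Groth.Agent.EtConsAb.isFLC_of_openCover (fun x => (V x).ι)
      (Set.eq_univ_of_forall fun x => Set.mem_iUnion.2 ⟨x, ⟨x, hV x⟩, rfl⟩) F hVF

end Groth.Agent.S3114
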