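import Groth.Statements.S3116
import Groth.Agent.EtConsAb.SpecialCrit
import Groth.Agent.S8527
import Groth.Agent.AlgSpB.Charts

set_option autoImplicit false
universe u
open CategoryTheory CategoryTheory.Limits AlgebraicGeometry Opposite
open EtPBC

namespace Groth.Agent.S3116

open Groth.Agent.EtConsAb Groth.Agent.EtaleSite

/-- The cardinality of the stalk only depends on the point. -/
theorem card_stalk_eq {X : Scheme.{u}} (F : EtCoh.Ab X) {Ω : Type u} [Field Ω] [IsSepClosed Ω]
    (ξ : Spec (CommRingCat.of Ω) ⟶ X) (x : X) (hx : ξ default = x) :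
    Nat.card ((EtCoh.stalk ξ).obj F) = Nat.card ((EtCoh.stalk (geomPointAt X x)).obj F) := by
  subst hx
  obtain ⟨i⟩ := nonempty_stalk_iso_geomPointAt ξ
  exact Nat.card_congr (i.app F).addCommGroupIsoToAddEquiv.toEquiv

theorem mem_level {X : Scheme.{u}} (F : EtCoh.Ab X) (n : ℕ) (x : X) :
    (∃ (Ω : Type u) (_ : Field Ω) (_ : IsSepClosed Ω) (ξ : Spec (CommRingCat.of Ω) ⟶ X),
        Set.range ξ = {x} ∧ Nat.card ((EtCoh.stalk ξ).obj F) = n) ↔
      Nat.card ((EtCoh.stalk (geomPointAt X x)).obj F) = n := by
  refine ⟨fun ⟨Ω, _, _, ξ, hr, hn⟩ => ?_, fun h => ⟨_, _, inferInstance, geomPointAt X x, ?_, h⟩⟩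
  · rw [← card_stalk_eq F ξ x (hr.subset ⟨default, rfl⟩)]
    exact hn
  · rw [range_geomPoint, geomPointAt_apply]

/-- Level sets of the stalk cardinality of a finite locally constant sheaf are clopen. -/
theorem isClopen_level {X : Scheme.{u}} {F : EtCoh.Ab X} (hF : EtCoh.IsFiniteLocallyConstant F) (n : ℕ) :
    IsClopen {x : X | Nat.card ((EtCoh.stalk (geomPointAt X x)).obj F) = n} := by
  have h : ∀ x : X, ∃ O : Set X, IsOpen O ∧ x ∈ O ∧ ∀ y ∈ O,
      Nat.card ((EtCoh.stalk (geomPointAt X y)).obj F) = Nat.card ((EtCoh.stalk (geomPointAt X x)).obj F) := by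
    intro x
    obtain ⟨U, φ, M, _, _, m, hm⟩ := exists_isTriv hF (geomPointAt X x)
    haveI : Etale U.hom := U.prop
    refine ⟨Set.range U.hom, U.hom.isOpenMap.isOpen_range, ⟨φ.left (default : Spec (CommRingCat.of _)),
      (congrArg (fun k : Spec (CommRingCat.of (SeparableClosure (X.residueField x))) ⟶ X => k default)
        (Over.w φ)).trans (geomPointAt_apply X x _)⟩, ?_⟩
    rintro y ⟨v, hv⟩
    obtain ⟨ψ, -⟩ := exists_fiber_point (geomPointAt X y) U v (hv.trans (geomPointAt_apply X y _).symm)
    rw [← Nat.card_congr (hm.stalkEquiv ψ).toEquiv, Nat.card_congr (hm.stalkEquiv φ).toEquiv]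
  constructor
  · rw [← isOpen_compl_iff, isOpen_iff_forall_mem_open]
    intro x hx
    obtain ⟨O, hO, hxO, hOc⟩ := h x
    exact ⟨O, fun y hy he => hx ((hOc y hy).symm.trans he), hO, hxO⟩
  · rw [isOpen_iff_forall_mem_open]
    intro x hx
    obtain ⟨O, hO, hxO, hOc⟩ := h x
    exact ⟨O, fun y hy => (hOc y hy).trans hx, hO, hxO⟩


/-- For abelian sheaves: let X be locally noetherian and F an abelian sheaf on the small etale site of X
whose geometric stalks (at all geometric points with separably closed residue field) are finite.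
Then F is constructible if and only if for every natural number n the set of points x of X such that
the stalk of F at some geometric point over x has exactly n elements is locally constructible. -/
theorem result (X : Scheme.{u}) [IsLocallyNoetherian X] (F : EtCoh.Ab X)
    (hfin : ∀ (Ω : Type u) [Field Ω] [IsSepClosed Ω] (ξ : Spec (CommRingCat.of Ω) ⟶ X),
      Finite ((EtCoh.stalk ξ).obj F)) :
    EtPBC.IsConstructible F ↔ ∀ n : ℕ, Topology.IsLocallyConstructible
      {x : X | ∃ (Ω : Type u) (_ : Field Ω) (_ : IsSepClosed Ω) (ξ : Spec (CommRingCat.of Ω) ⟶ X),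
        Set.range ξ = {x} ∧ Nat.card ((EtCoh.stalk ξ).obj F) = n} := by
  simp only [mem_level]
  refine ⟨fun hF n x => ?_, fun h => (Groth.Agent.S8527.result F).2 fun x => ?_⟩
  · obtain ⟨W, hW, hxW, -⟩ := exists_isAffineOpen_mem_and_subset (show x ∈ (⊤ : X.Opens) from trivial)
    haveI : IsAffine W.toScheme := hW
    haveI : IsNoetherian W.toScheme := {}
    refine ⟨W, W.isOpen.mem_nhds hxW, W.isOpen, ?_⟩
    obtain ⟨ι, _, T, g, hg, hc, hu, hTF⟩ := strataCover_of_isConstructible (isConstructible_pull W.ι hF)
    let A : ∀ i, Set (T i) := fun i => {t | Nat.card ((EtCoh.stalk (geomPointAt (T i) t)).obj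
      ((EtCoh.pull (g i)).obj ((EtCoh.pull W.ι).obj F))) = n}
    have hA : ∀ i, Topology.IsConstructible (g i '' A i) := fun i => by
      haveI := hg i
      haveI : IsLocallyNoetherian (T i) := LocallyOfFiniteType.isLocallyNoetherian (g i)
      haveI : TopologicalSpace.NoetherianSpace (T i) := (g i).isEmbedding.isInducing.noetherianSpace
      exact isConstructible_image_of_immersion (g i) (hc i)
        (ConstrLib.isConstructible_of_isOpen (isClopen_level (hTF i) n).2)
    have hcard : ∀ i (t : T i), Nat.card ((EtCoh.stalk (geomPointAt (T i) t)).obj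
        ((EtCoh.pull (g i)).obj ((EtCoh.pull W.ι).obj F))) =
        Nat.card ((EtCoh.stalk (geomPointAt X (W.ι (g i t)))).obj F) := fun i t => by
      refine (Nat.card_congr ((stalkPullIso (g i) _).app _).addCommGroupIsoToAddEquiv.toEquiv).trans ?_
      refine (Nat.card_congr ((stalkPullIso W.ι _).app F).addCommGroupIsoToAddEquiv.toEquiv).trans ?_
      exact card_stalk_eq F _ _ (by
        rw [Scheme.Hom.comp_apply, Scheme.Hom.comp_apply, geomPointAt_apply])
    have key := Topology.IsConstructible.iUnion hA
    have e : (⋃ i, g i '' A i) =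
        W.ι ⁻¹' {y : X | Nat.card ((EtCoh.stalk (geomPointAt X y)).obj F) = n} := by
      ext w
      constructor
      · intro hw
        obtain ⟨i, t, ht, rfl⟩ := Set.mem_iUnion.1 hw
        exact (hcard i t).symm.trans ht
      · intro hw
        obtain ⟨i, t, rfl⟩ := Set.mem_iUnion.1 (hu.ge (Set.mem_univ w))
        exact Set.mem_iUnion.2 ⟨i, t, (hcard i t).trans hw, rfl⟩
    rw [e] at key
    exact key
  · let η := geomPointAt X x
    haveI := hfin _ η
    obtain ⟨U, hU, φ, m, hm⟩ := exists_stalk_sect F η
    haveI : Etale U.hom := U.prop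
    haveI : IsLocallyNoetherian ((Functor.fromPUnit X).obj U.right) := ‹IsLocallyNoetherian X›
    haveI : IsLocallyNoetherian U.left := LocallyOfFiniteType.isLocallyNoetherian U.hom
    haveI : IsNoetherian U.left := {}
    haveI : TopologicalSpace.NoetherianSpace ↥((𝟭 Scheme).obj U.left) := inferInstanceAs (TopologicalSpace.NoetherianSpace U.left)
    let u₀ := φ.left (default : Spec (CommRingCat.of _))
    have hu₀ : U.hom u₀ = x :=
      (congrArg (fun k : Spec (CommRingCat.of (SeparableClosure (X.residueField x))) ⟶ X => k default)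
        (Over.w φ)).trans (geomPointAt_apply X x _)
    let n := Nat.card ((EtCoh.stalk η).obj F)
    obtain ⟨a, ha⟩ := exists_sectMap F U m
    have hker : EtPBC.IsConstructible (kernel a) :=
      isConstructible_sub (kernel.ι a) (isConstructible_of_isFLC (isFLC_const (X := U.left) _))
    let C : Set U.left := U.hom ⁻¹' closure ({U.hom u₀} : Set X)
    let E : Set X := {y | Nat.card ((EtCoh.stalk (geomPointAt X y)).obj F) = n}
    let Bad : Set U.left := C ∩ ((U.hom ⁻¹' E)ᶜ ∪ EtPBC.supp (kernel a))
    have hBad : Topology.IsConstructible Bad :=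
      (ConstrLib.isConstructible_of_isClosed (isClosed_closure.preimage U.hom.continuous)).inter
        (((Groth.Agent.AlgSpB.isLocallyConstructible_preimage U.hom (h n)).isConstructible).compl.union
          (isConstructible_supp_of_strataCover (strataCover_of_isConstructible hker)))
    obtain ⟨O, hO, hspec⟩ := exists_open_specializes U u₀
    have hu₀Bad : u₀ ∉ closure Bad := by
      intro hcl
      obtain ⟨z, ⟨hzC, hz⟩, hzu⟩ := exists_specializes_of_isConstructible hBad hcl
      have hzu' : z = u₀ := (hzu.antisymm (hspec z (hzu.mem_open O.2 hO) hzC)).eq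
      subst hzu'
      rcases hz with hz | hz
      · refine hz ?_
        show Nat.card ((EtCoh.stalk (geomPointAt X (U.hom u₀))).obj F) = n
        rw [hu₀]
      · have hinj : Function.Injective fun q => germ η F U φ (m q) := by
          rw [show (fun q => germ η F U φ (m q)) = id from funext hm]
          exact Function.injective_id
        exact (ha _ η φ).1.1 hinj hz
    obtain ⟨V, T, g, h1, h2, h3, h4⟩ := exists_stratum_of_good m u₀
      (O ⊓ ⟨(closure Bad)ᶜ, isClosed_closure.isOpen_compl⟩) ⟨hO, hu₀Bad⟩ fun v hv hvC Ω _ _ ξ ψ hψ => by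
        have hv' : v ∉ Bad := fun hb => hv.2 (subset_closure hb)
        have hvE : U.hom v ∈ E := by
          by_contra hb
          exact hv' ⟨hvC, Or.inl hb⟩
        have hinj : Function.Injective fun q => germ ξ F U ψ (m q) :=
          (ha Ω ξ ψ).1.2 (hψ.symm ▸ fun hb => hv' ⟨hvC, Or.inr hb⟩)
        haveI := hfin Ω ξ
        have hc : Nat.card ((EtCoh.stalk ξ).obj F) = n := (card_stalk_eq F ξ (U.hom v) (by
          rw [← hψ]
          exact (congrArg (fun k : Spec (CommRingCat.of Ω) ⟶ X => k default) (Over.w ψ)).symm)).trans hvE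
        exact hinj.bijective_of_nat_card_le hc.le
    exact ⟨V, T, g, h1, hu₀ ▸ h2, by rw [h3, hu₀], h4⟩

end Groth.Agent.S3116
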