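import Groth.Statements.S3120
import Groth.Agent.EtaleSite.OpenImm

set_option autoImplicit false
universe u
open CategoryTheory CategoryTheory.Limits AlgebraicGeometry Opposite
open EtDual

namespace Groth.Agent.S3120

theorem square {X Y V A A' : Scheme.{u}} (f : X ⟶ Y) (j : V ⟶ Y) (h : A ⟶ V) (h' : A' ⟶ V)
    (α : A ⟶ A') (w : α ≫ h' = h) :
    ((pullbackSymmetry h (pullback.snd f j)) ≪≫ pullbackLeftPullbackSndIso f j h ≪≫
        pullbackSymmetry f (h ≫ j)).hom ≫
      pullback.lift (pullback.fst (h ≫ j) f ≫ α) (pullback.snd (h ≫ j) f)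
        (by rw [Category.assoc, reassoc_of% w]; exact pullback.condition) =
    pullback.lift (pullback.fst h (pullback.snd f j) ≫ α) (pullback.snd h (pullback.snd f j))
        (by rw [Category.assoc, w]; exact pullback.condition) ≫
      ((pullbackSymmetry h' (pullback.snd f j)) ≪≫ pullbackLeftPullbackSndIso f j h' ≪≫
        pullbackSymmetry f (h' ≫ j)).hom := by
  apply pullback.hom_ext <;>
    simp [pullback.lift_snd, pullback.lift_fst, pullback.lift_snd_assoc, pullback.lift_fst_assoc, pullbackLeftPullbackSndIso_hom_fst, pullbackLeftPullbackSndIso_hom_snd_assoc]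

/-- Base change of an étale `V`-scheme computed in two ways. -/
noncomputable def siteIso {X Y V : Scheme.{u}} (f : X ⟶ Y) (j : V ⟶ Y) [IsOpenImmersion j]
    [Etale (pullback.fst f j)] :
    EtShriek.compEtale j ⋙ EtCoh.bc f ≅
      EtCoh.bc (pullback.snd f j) ⋙ EtShriek.compEtale (pullback.fst f j) :=
  NatIso.ofComponents (fun W => (MorphismProperty.Over.isoMk
      ((pullbackSymmetry _ _) ≪≫ pullbackLeftPullbackSndIso f j W.hom ≪≫ pullbackSymmetry _ _)
      (by
        simp only [Iso.trans_hom, Category.assoc]
        show _ ≫ _ ≫ (pullbackSymmetry f (W.hom ≫ j)).hom ≫ pullback.snd (W.hom ≫ j) f =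
          pullback.snd W.hom (pullback.snd f j) ≫ pullback.fst f j
        rw [pullbackSymmetry_hom_comp_snd, pullbackLeftPullbackSndIso_hom_fst,
          pullbackSymmetry_hom_comp_fst_assoc])).symm)
    (fun {W W'} a => by
      rw [Iso.symm_hom, Iso.symm_hom, Iso.comp_inv_eq, Category.assoc, Iso.eq_inv_comp]
      apply MorphismProperty.Over.Hom.ext
      exact square f j W.hom W'.hom a.left (MorphismProperty.Over.w a))

/-- Let f : X → Y be a morphism of schemes, j : V → Y an open immersion, and U = X ×_Y V with
projections f' : U → V and j' : U → X (an open immersion). Then for every abelian sheaf G on the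
small étale site of V, the sheaves f^*(j_!G) and j'_!(f'^*G) on X are isomorphic. (The published
statement gives a unique isomorphism compatible with the base change map for j_*; only the existence
of an isomorphism is stated here. The prelude's instances for the inverse image functors along f and
f' are carried as binders.) -/
theorem result {X Y V : Scheme.{u}} (f : X ⟶ Y) (j : V ⟶ Y) [IsOpenImmersion j]
    [EtCoh.BCCont f] [EtCoh.BCCont (pullback.snd f j)] (G : EtCoh.Ab V) :
    Nonempty ((EtCoh.pull f).obj ((EtShriek.extZero j).obj G) ≅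
      (EtShriek.extZero (pullback.fst f j)).obj ((EtCoh.pull (pullback.snd f j)).obj G)) := by
  let φ := siteIso f j
  let e : EtCoh.push f ⋙ EtShriek.restrAlong j ≅
      EtShriek.restrAlong (pullback.fst f j) ⋙ EtCoh.push (pullback.snd f j) :=
    NatIso.ofComponents (fun H => (fullyFaithfulSheafToPresheaf _ _).preimageIso
      (Functor.isoWhiskerRight (NatIso.op φ).symm H.obj)) (fun a => by
        ext W s
        exact (NatTrans.naturality_apply a.hom _ s).symm)
  exact ⟨((((EtShriek.extZeroAdj j).comp (EtCoh.pullPushAdj f)).ofNatIsoRight e).leftAdjointUniq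
    ((EtCoh.pullPushAdj (pullback.snd f j)).comp (EtShriek.extZeroAdj (pullback.fst f j)))).app G⟩

end Groth.Agent.S3120
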