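import Groth.Statements.S3126
import Groth.Agent.EtAcDepth.GlobalFibres
import Groth.Agent.EtConsAb.GenericPush
import Groth.Agent.EtRestLib.LocallyConstant
-- import your own Groth.Agent.* helpers here

set_option autoImplicit false
set_option backward.isDefEq.respectTransparency false
universe u
open CategoryTheory CategoryTheory.Limits AlgebraicGeometry
open SGA4h

namespace Groth.Agent.S3126

open Groth.Agent Groth.Agent.EtaleSite Groth.Agent.EtaleSite.ConstSections Groth.Agent.EtAcDepth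

/-- Vanishing for `ℤ/n` passes to the divisors of `n`, given that sections of constant sheaves are
constant. -/
theorem subsingleton_H_dvd {W : Scheme.{u}} (n : ℕ) (hn : n ≠ 0)
    (hc : ∀ M : AddCommGrpCat.{u + 1}, Function.Bijective fun c : M => cst (EtCoh.top W) c)
    (h : ∀ q : ℕ, 0 < q → Subsingleton (EtCoh.H W (EtCoh.const W (ZMod n)) q)) :
    ∀ q : ℕ, ∀ d k : ℕ, 0 < d → d * k = n → Subsingleton (EtCoh.H W (EtCoh.const W (ZMod d)) (q + 1)) := by
  intro q
  induction q with
  | zero => ?_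
  | succ q ih => ?_
  all_goals
    intro d k hd hdk
    have hz : (zmultiplesHom (ZMod n) (k : ZMod n)) d = 0 := by
      simp only [zmultiplesHom_apply, natCast_zsmul, nsmul_eq_mul]
      rw [← Nat.cast_mul, hdk, ZMod.natCast_self]
    let f : ZMod d →+ ZMod n := ZMod.lift d ⟨zmultiplesHom (ZMod n) (k : ZMod n), hz⟩
    have hk : k ∣ n := Dvd.intro_left d hdk
    let g : ZMod n →+ ZMod k := (ZMod.castHom hk (ZMod k)).toAddMonoidHom
    let S : ShortComplex AddCommGrpCat.{u + 1} := ShortComplex.mk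
      (AddCommGrpCat.ofHom (AddEquiv.ulift.symm.toAddMonoidHom.comp (f.comp AddEquiv.ulift.toAddMonoidHom)) :
        AddCommGrpCat.of (ULift.{u + 1} (ZMod d)) ⟶ AddCommGrpCat.of (ULift.{u + 1} (ZMod n)))
      (AddCommGrpCat.ofHom (AddEquiv.ulift.symm.toAddMonoidHom.comp (g.comp AddEquiv.ulift.toAddMonoidHom)) :
        AddCommGrpCat.of (ULift.{u + 1} (ZMod n)) ⟶ AddCommGrpCat.of (ULift.{u + 1} (ZMod k))) (by
        ext ⟨a⟩
        obtain ⟨z, rfl⟩ := ZMod.intCast_surjective a
        show g (f (z : ZMod d)) = 0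
        simp [f, g]
        rw [ZMod.cast_mul hk, ZMod.cast_natCast hk, ZMod.natCast_self, mul_zero])
    have hS : S.ShortExact := by
      refine { exact := (ShortComplex.ab_exact_iff S).2 ?_, mono_f := ?_, epi_g := ?_ }
      · rintro ⟨a⟩ ha
        obtain ⟨z, rfl⟩ := ZMod.intCast_surjective a
        have h0 : g (z : ZMod n) = 0 := congrArg ULift.down ha
        have h1 : (z : ZMod k) = 0 := by simpa [g] using h0
        obtain ⟨c, rfl⟩ := (ZMod.intCast_zmod_eq_zero_iff_dvd _ _).1 h1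
        refine ⟨⟨(c : ZMod d)⟩, ULift.ext _ _ ?_⟩
        show f (c : ZMod d) = _
        simp [f, mul_comm]
      · refine (AddCommGrpCat.mono_iff_injective _).2 ?_
        rintro ⟨a⟩ ⟨b⟩ hab
        have hab' : f a = f b := congrArg ULift.down hab
        refine ULift.ext _ _ ((ZMod.lift_injective _).2 ?_ hab')
        intro m hm
        simp only [zmultiplesHom_apply, zsmul_eq_mul] at hm
        rw [← Int.cast_natCast (R := ZMod n) k, ← Int.cast_mul, ZMod.intCast_zmod_eq_zero_iff_dvd,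
          ← hdk, Nat.cast_mul] at hm
        rcases Nat.eq_zero_or_pos k with rfl | hk0
        · exact absurd hdk.symm (by simpa using hn)
        · exact (ZMod.intCast_zmod_eq_zero_iff_dvd m d).2 ((mul_dvd_mul_iff_right (by exact_mod_cast hk0.ne')).1 hm)
      · refine (AddCommGrpCat.epi_iff_surjective _).2 ?_
        rintro ⟨a⟩
        obtain ⟨b, hb⟩ := ZMod.castHom_surjective hk a
        exact ⟨⟨b⟩, ULift.ext _ _ hb⟩
    haveI := (EtCore.constAdj W).leftAdjoint_preservesColimits
    haveI : PreservesFiniteLimits (constantSheaf W.smallEtaleTopology AddCommGrpCat.{u + 1}) := by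
      unfold constantSheaf; infer_instance
    have hSW := hS.map_of_exact (constantSheaf W.smallEtaleTopology AddCommGrpCat.{u + 1})
    refine subsingleton_of_forall_eq 0 fun x => ?_
    obtain ⟨z, rfl⟩ := Abelian.Ext.covariant_sequence_exact₁ _ hSW x
      (@Subsingleton.elim _ (h _ (Nat.succ_pos _)) _ _) rfl
  · obtain ⟨a, rfl⟩ := (EtRestLib.toH0_bijective (hc S.X₃)).2 z
    let b : AddCommGrpCat.of (ULift.{u + 1} ℤ) ⟶ S.X₂ := AddCommGrpCat.ofHom
      ((zmultiplesHom S.X₂ ((AddCommGrpCat.epi_iff_surjective _).1 hS.epi_g (a ⟨1⟩)).choose).comp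
        AddEquiv.ulift.toAddMonoidHom)
    have hb : b ≫ S.g = a := by
      ext ⟨m⟩
      refine congrArg ULift.down (?_ : S.g (m • ((AddCommGrpCat.epi_iff_surjective _).1 hS.epi_g (a ⟨1⟩)).choose) = a ⟨m⟩)
      rw [map_zsmul, ((AddCommGrpCat.epi_iff_surjective _).1 hS.epi_g (a ⟨1⟩)).choose_spec, ← map_zsmul]
      exact congrArg a (ULift.ext _ _ (by simp))
    show (EtRestLib.toH0 W S.X₃ a).comp hSW.extClass _ = 0
    unfold EtRestLib.toH0
    rw [← hb, Functor.map_comp, ← Abelian.Ext.mk₀_comp_mk₀, Abelian.Ext.comp_assoc_of_second_deg_zero]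
    exact (congrArg (fun t => (Abelian.Ext.mk₀ _).comp t (zero_add 1)) hSW.comp_extClass).trans
      (Abelian.Ext.comp_zero _ _ _ _ _)
  · rcases Nat.eq_zero_or_pos k with rfl | hk0
    · exact absurd hdk.symm (by simpa using hn)
    · exact (congrArg (fun t => Abelian.Ext.comp t hSW.extClass rfl)
        (show z = 0 from @Subsingleton.elim _ (ih k d hk0 (by rw [mul_comm]; exact hdk)) _ _)).trans
          (Abelian.Ext.zero_comp _ _ _ _ _)


/-- Let A be a strictly henselian Noetherian local ring, S = Spec A, n an integer invertible in A and f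
: X → S a morphism which is locally acyclic (in the sense of vanishing cycles for ℤ/n-coefficients
prime to the residue characteristics), quasi-compact and quasi-separated (the last two are assumed
here in addition to the published hypotheses). Assume that every geometric fibre X_t of f has
H^0(X_t, ℤ/n) ≅ ℤ/n and H^q(X_t, ℤ/n) = 0 for q > 0. Then the unit ℤ/n → f_* f^* ℤ/n is an
isomorphism and R^q f_* (ℤ/n) = 0 for q > 0. (Local acyclicity and the fibre hypothesis are stated
for all separably closed fields Ω, a priori more than algebraic geometric points; as hypotheses this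
only weakens the statement.) -/
theorem result {X : Scheme.{u}} (A : Type u) [CommRing A] [IsNoetherianRing A]
    (hA : EtCoh.IsStrictlyHenselianLocalRing A) (n : ℕ) (hn : IsUnit (n : A)) (f : X ⟶ Spec (CommRingCat.of A))
    [QuasiCompact f] [QuasiSeparated f] (hf : EtRest.IsLocallyAcyclic f)
    (hfib : ∀ (Ω : Type u) [Field Ω] [IsSepClosed Ω] (t : Spec (CommRingCat.of Ω) ⟶ Spec (CommRingCat.of A)),
      Nonempty (EtCoh.H (pullback f t) (EtCoh.const (pullback f t) (ZMod n)) 0 ≃+ ZMod n) ∧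
      ∀ q : ℕ, 0 < q → Subsingleton (EtCoh.H (pullback f t) (EtCoh.const (pullback f t) (ZMod n)) q)) :
    IsIso ((EtCoh.pullPushAdj f).unit.app (EtCoh.const (Spec (CommRingCat.of A)) (ZMod n))) ∧
    ∀ q : ℕ, 0 < q → IsZero ((EtCoh.Rpush f q).obj (EtCoh.const X (ZMod n))) := by
  haveI := hA.1
  let S := Spec (CommRingCat.of A)
  let F := EtCoh.const S (ZMod n)
  have hn0 : n ≠ 0 := by
    rintro rfl
    exact one_ne_zero (α := A) ((isUnit_zero_iff.1 (by simpa using hn)).symm)
  rcases eq_or_ne n 1 with rfl | h1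
  · haveI : Subsingleton (AddCommGrpCat.of (ULift.{u + 1} (ZMod 1))) :=
      inferInstanceAs (Subsingleton (ULift.{u + 1} (ZMod 1)))
    have hz : ∀ Z : Scheme.{u}, IsZero (EtCoh.const Z (ZMod 1)) := fun Z =>
      (constantSheaf Z.smallEtaleTopology AddCommGrpCat.{u + 1}).map_isZero
        (AddCommGrpCat.isZero_of_subsingleton _)
    exact ⟨(hz S).isIso ((EtCoh.push f).map_isZero ((EtCoh.pull f).map_isZero (hz S))) _,
      fun q _ => (EtCoh.Rpush f q).map_isZero (hz X)⟩
  let L : Set ℕ := {ℓ | ℓ.Prime ∧ ℓ ∣ n}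
  have hL : ∃ ℓ ∈ L, ℓ.Prime :=
    ⟨n.minFac, ⟨Nat.minFac_prime h1, n.minFac_dvd⟩, Nat.minFac_prime h1⟩
  have hnS : IsUnit (n : Γ(S, ⊤)) := by
    have := hn.map (Scheme.ΓSpecIso (CommRingCat.of A)).inv.hom
    simpa using this
  have hA' : ∀ m, AcycA f L m := by
    intro m x RS RX _ _ _ _ _ _ _ _ _ _ _ _ hc Ω _ _ _ _ ℓ hℓ hℓL
    have hne : (ℓ : X.residueField x) ≠ 0 := fun h0 => natCast_residue_ne_zero f n hnS x (by
      obtain ⟨c, rfl⟩ := hℓL.2
      rw [Nat.cast_mul, h0, zero_mul])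
    obtain ⟨h1', h2'⟩ := hf x RS RX hc Ω ℓ hne
    exact GoodScheme.of_iso (W := Spec (CommRingCat.of (EtRest.vcRing RS RX Ω)))
      ⟨fun q hq _ => h1' q hq, h2'⟩ (pullbackSpecIso RS RX Ω)
  have hgf : ∀ m, EtAcyc.GeomFibresAcyclicN L m f := by
    intro m y Ω _ _ _ _
    obtain ⟨⟨e⟩, hq⟩ := hfib Ω (EtAcyc.geomPt S y Ω)
    let W := pullback f (EtAcyc.geomPt S y Ω)
    have hn1 : 1 < n := by omega
    have hc : ∀ M : AddCommGrpCat.{u + 1}, Function.Bijective fun c : M => cst (EtCoh.top W) c :=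
      fun M => EtRestLib.cst_bijective_of_equiv hn1 e M
    have hgood : GoodScheme W n.minFac 0 := by
      refine ⟨fun q h h' => absurd h (by omega), ?_⟩
      let M : AddCommGrpCat.{u + 1} := AddCommGrpCat.of (ULift.{u + 1} (ZMod n.minFac))
      let u₀ : M →+ EtCoh.sect (cSheaf W M) (EtCoh.top W) :=
        AddMonoidHom.mk' (fun c => cst (EtCoh.top W) c) fun a b => by simp [cst]
      exact ⟨((Sheaf.H.equiv₀ _ (EtCore.topIsTerminal _)).trans
        (AddEquiv.ofBijective u₀ (hc M)).symm).trans AddEquiv.ulift⟩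
    refine ⟨hgood.nonempty (Nat.minFac_prime h1), hgood.connectedSpace (Nat.minFac_prime h1),
      fun ℓ hℓ hℓL q h1q _ => ?_⟩
    obtain ⟨q', rfl⟩ : ∃ q', q = q' + 1 := ⟨q - 1, by omega⟩
    obtain ⟨k, hk⟩ := hℓL.2
    exact subsingleton_H_dvd n hn0 hc hq q' ℓ k hℓ.pos hk.symm
  have hF : EtAcyc.IsLTorsion L F := by
    refine (S8525.result L F).2 fun Ω _ _ ξ t => ⟨n, ⟨Nat.pos_of_ne_zero hn0, fun p hp hd => ⟨hp, hd⟩⟩, ?_⟩
    let φ : (Scheme.pointSmallEtale ξ).fiber.obj (EtCoh.top S) := Over.homMk ξ (Category.comp_id _)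
    obtain ⟨c, rfl⟩ := EtConsAb.germ_cst_surjective ξ (EtCoh.top S) φ t
    have : n • c = 0 := ULift.ext _ _ (by
      show n • c.down = 0
      rw [nsmul_eq_mul, ZMod.natCast_self, zero_mul])
    show n • EtaleSite.germ ξ F _ φ (EtConsAb.constSect _ _ c) = 0
    rw [← map_nsmul, ← map_nsmul, this, map_zero, map_zero]
  have key := fun m => EtAcDepth.unit_of_compN f L m (fun W _ => ⟨pullback W.hom f, pullback.snd _ _,
    pullback.fst _ _, (IsPullback.of_hasPullback _ _).flip,
    isAcyclicN_of_fibres f L hL m m (Nat.le_succ m) (hA' m) (hgf m) W⟩) F hF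
  exact ⟨(key 0).1, fun q hq => ((key q).2 q hq le_rfl).of_iso
    ((EtCoh.Rpush f q).mapIso (EtCore.pullConst f (ZMod n)).symm)⟩

end Groth.Agent.S3126
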