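import Groth.Statements.S3128
import Mathlib.FieldTheory.Finite.Extension

set_option autoImplicit false
open BigOperators
open SGA4h

namespace Groth.Agent.S3128

open Polynomial in
noncomputable def mpoly {F : Type} [Field F] (e : ℕ) (a : Fin e → F) : F[X] :=
  X ^ e + ∑ i : Fin e, C (a i) * X ^ (i : ℕ)

open Polynomial

variable {F : Type} [Field F]

lemma mpoly_degree_lt (e : ℕ) (a : Fin e → F) :
    (∑ i : Fin e, C (a i) * X ^ (i : ℕ)).degree < (e : WithBot ℕ) :=
  degree_sum_fin_lt a

lemma mpoly_monic (e : ℕ) (a : Fin e → F) : (mpoly e a).Monic :=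
  monic_X_pow_add (mpoly_degree_lt e a)

lemma mpoly_natDegree (e : ℕ) (a : Fin e → F) : (mpoly e a).natDegree = e := by
  apply natDegree_eq_of_degree_eq_some
  unfold mpoly
  rw [degree_add_eq_left_of_degree_lt] <;> rw [degree_X_pow]
  exact mpoly_degree_lt e a

lemma mpoly_coeff (e : ℕ) (a : Fin e → F) (i : Fin e) : (mpoly e a).coeff i = a i := by
  simp [mpoly, coeff_X_pow, i.2.ne, finset_sum_coeff, Fin.val_inj]

lemma mpoly_injective (e : ℕ) : Function.Injective (mpoly (F := F) e) := by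
  intro a b h
  funext i
  rw [← mpoly_coeff e a i, ← mpoly_coeff e b i, h]

lemma mpoly_surj {f : F[X]} (hf : f.Monic) : mpoly f.natDegree (fun i => f.coeff i) = f := by
  conv_rhs => rw [hf.as_sum]
  simp [mpoly, Finset.sum_range]

noncomputable def monicFin [Fintype F] (e : ℕ) : Finset F[X] :=
  Finset.univ.map ⟨mpoly e, mpoly_injective e⟩

lemma mem_monicFin [Fintype F] {e : ℕ} {f : F[X]} :
    f ∈ monicFin e ↔ f.Monic ∧ f.natDegree = e := by
  constructor
  · intro h
    obtain ⟨a, -, rfl⟩ := Finset.mem_map.1 h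
    exact ⟨mpoly_monic e a, mpoly_natDegree e a⟩
  · rintro ⟨h1, rfl⟩
    exact Finset.mem_map.2 ⟨_, Finset.mem_univ _, mpoly_surj h1⟩

open scoped Classical in
noncomputable def irrFin [Fintype F] (N : ℕ) : Finset F[X] :=
  ((Finset.range (N + 1)).biUnion monicFin).filter Irreducible

lemma mem_irrFin [Fintype F] {N : ℕ} {P : F[X]} :
    P ∈ irrFin N ↔ P.Monic ∧ P.natDegree ≤ N ∧ Irreducible P := by
  classical
  simp only [irrFin, Finset.mem_filter, Finset.mem_biUnion, Finset.mem_range, mem_monicFin]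
  constructor
  · rintro ⟨⟨e, he, hm, rfl⟩, hi⟩
    exact ⟨hm, by omega, hi⟩
  · rintro ⟨hm, hle, hi⟩
    exact ⟨⟨_, by omega, hm, rfl⟩, hi⟩

open UniqueFactorizationMonoid in
open scoped Classical in
lemma natDegree_eq_sum [Fintype F] {f : F[X]} (hf : f.Monic) {N : ℕ} (hN : f.natDegree ≤ N) :
    f.natDegree = ∑ P ∈ irrFin N, ∑ k ∈ Finset.Icc 1 N,
      if P ^ k ∣ f then P.natDegree else 0 := by
  set s := normalizedFactors f with hs
  have hne : f ≠ 0 := hf.ne_zero
  have hmon : ∀ p ∈ s, p.Monic := fun p hp => by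
    rw [← normalize_normalized_factor p hp]
    exact monic_normalize (ne_zero_of_mem_normalizedFactors hp)
  have hprod : s.prod = f := by
    rw [hs, prod_normalizedFactors_eq hne, hf.normalize_eq_self]
  have hdeg : f.natDegree = (s.map natDegree).sum := by
    conv_lhs => rw [← hprod]
    exact natDegree_multiset_prod_of_monic _ hmon
  have hsub : s.toFinset ⊆ irrFin N := by
    intro p hp
    rw [Multiset.mem_toFinset] at hp
    refine mem_irrFin.2 ⟨hmon p hp, le_trans ?_ hN, irreducible_of_normalized_factor p hp⟩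
    exact natDegree_le_of_dvd (dvd_of_mem_normalizedFactors hp) hne
  have hcount : ∀ P ∈ irrFin N, ∀ k, (P ^ k ∣ f ↔ k ≤ s.count P) := by
    intro P hP k
    obtain ⟨hm, -, hi⟩ := mem_irrFin.1 hP
    rw [dvd_iff_normalizedFactors_le_normalizedFactors (pow_ne_zero k hm.ne_zero) hne,
      normalizedFactors_of_irreducible_pow hi, hm.normalize_eq_self, ← hs,
      Multiset.le_count_iff_replicate_le]
  have hbound : ∀ P ∈ irrFin N, s.count P ≤ N := by
    intro P hP
    obtain ⟨hm, -, hi⟩ := mem_irrFin.1 hP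
    have h1 := natDegree_le_of_dvd ((hcount P hP _).2 le_rfl) hne
    rw [natDegree_pow] at h1
    exact le_trans (le_trans (Nat.le_mul_of_pos_right _ hi.natDegree_pos) h1) hN
  rw [hdeg, Finset.sum_multiset_map_count, Finset.sum_subset hsub]
  · refine Finset.sum_congr rfl fun P hP => ?_
    rw [← Finset.sum_filter]
    have : (Finset.Icc 1 N).filter (fun k => P ^ k ∣ f) = Finset.Icc 1 (s.count P) := by
      ext k
      have := hbound P hP
      simp only [Finset.mem_filter, Finset.mem_Icc, hcount P hP]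
      omega
    simp [this]
  · intro P _ hP
    rw [Multiset.mem_toFinset] at hP
    simp [Multiset.count_eq_zero.2 hP]

variable {R : Type} [CommRing R]

noncomputable def lam (χ : MulChar F R) (ψ : AddChar F R) (f : F[X]) : R :=
  χ ((-1) ^ f.natDegree * f.coeff 0) * ψ (-f.nextCoeff)

lemma lam_one (χ : MulChar F R) (ψ : AddChar F R) : lam χ ψ 1 = 1 := by
  simp [lam, nextCoeff]

lemma lam_mul (χ : MulChar F R) (ψ : AddChar F R) {f g : F[X]} (hf : f.Monic) (hg : g.Monic) :
    lam χ ψ (f * g) = lam χ ψ f * lam χ ψ g := by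
  simp only [lam, hf.natDegree_mul hg, mul_coeff_zero, hf.nextCoeff_mul hg, neg_add,
    AddChar.map_add_eq_mul]
  rw [show (-1 : F) ^ (f.natDegree + g.natDegree) * (f.coeff 0 * g.coeff 0)
      = ((-1) ^ f.natDegree * f.coeff 0) * ((-1) ^ g.natDegree * g.coeff 0) by ring, map_mul]
  ring

lemma lam_pow (χ : MulChar F R) (ψ : AddChar F R) {f : F[X]} (hf : f.Monic) (k : ℕ) :
    lam χ ψ (f ^ k) = lam χ ψ f ^ k := by
  induction k with
  | zero => simp [lam_one]
  | succ k ih => rw [pow_succ, lam_mul χ ψ (hf.pow k) hf, ih, pow_succ]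

noncomputable def lsum [Fintype F] (χ : MulChar F R) (ψ : AddChar F R) (e : ℕ) : R :=
  ∑ f ∈ monicFin e, lam χ ψ f

lemma lsum_zero [Fintype F] (χ : MulChar F R) (ψ : AddChar F R) : lsum χ ψ 0 = 1 := by
  simp [lsum, monicFin, mpoly, lam_one]

lemma lsum_one [Fintype F] (χ : MulChar F R) (ψ : AddChar F R) :
    lsum χ ψ 1 = ∑ x : F, χ x * ψ x := by
  rw [lsum, monicFin, Finset.sum_map]
  refine Fintype.sum_equiv ((Equiv.funUnique (Fin 1) F).trans (Equiv.neg F)) _ _ fun a => ?_
  have h : (mpoly 1 a).coeff 0 = a 0 := mpoly_coeff 1 a 0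
  simp [lam, mpoly_natDegree, nextCoeff, h]

lemma lsum_ge_two [Fintype F] [IsDomain R] (χ : MulChar F R) (ψ : AddChar F R) (hψ : ψ ≠ 1)
    (m : ℕ) : lsum χ ψ (m + 2) = 0 := by
  rw [lsum, monicFin, Finset.sum_map]
  have key : ∀ a : Fin (m + 2) → F, lam χ ψ (mpoly (m + 2) a)
      = χ ((-1) ^ (m + 2) * a 0) * ψ (-(a (Fin.last (m + 1)))) := by
    intro a
    have h0 : (mpoly (m + 2) a).coeff 0 = a 0 := mpoly_coeff _ a 0
    have h1 : (mpoly (m + 2) a).coeff (m + 1) = a (Fin.last (m + 1)) :=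
      mpoly_coeff _ a (Fin.last (m + 1))
    simp [lam, mpoly_natDegree, nextCoeff, h0, h1]
  simp only [Function.Embedding.coeFn_mk, key]
  rw [← (Fin.snocEquiv (fun _ : Fin (m + 2) => F)).sum_comp, Fintype.sum_prod_type, Finset.sum_comm]
  refine Finset.sum_eq_zero fun b _ => ?_
  have hb : ∀ x : F, (Fin.snoc (α := fun _ => F) b x) 0 = b 0 := fun x =>
    Fin.snoc_castSucc (α := fun _ => F) (p := b) (x := x) 0
  simp only [Fin.snocEquiv_apply, Fin.snoc_last, hb]
  rw [← Finset.mul_sum, Fintype.sum_equiv (Equiv.neg F) (fun x => ψ (-x)) (fun x => ψ x) fun x => rfl,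
    AddChar.sum_eq_zero_of_ne_one hψ, mul_zero]

open scoped Classical in
lemma filter_sum [Fintype F] (χ : MulChar F R) (ψ : AddChar F R) {P : F[X]} (hP : P.Monic)
    (k d : ℕ) :
    ∑ f ∈ monicFin d, (if P ^ k ∣ f then lam χ ψ f else 0) =
      if k * P.natDegree ≤ d then lam χ ψ P ^ k * lsum χ ψ (d - k * P.natDegree) else 0 := by
  have hPk : (P ^ k).Monic := hP.pow k
  rw [← Finset.sum_filter]
  split_ifs with h
  · rw [lsum, Finset.mul_sum]
    symm
    refine Finset.sum_bij (fun g _ => P ^ k * g) ?_ ?_ ?_ ?_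
    · intro g hg
      obtain ⟨hm, hd⟩ := mem_monicFin.1 hg
      refine Finset.mem_filter.2 ⟨mem_monicFin.2 ⟨hPk.mul hm, ?_⟩, dvd_mul_right _ _⟩
      rw [hPk.natDegree_mul hm, natDegree_pow, hd]; omega
    · intro a _ b _ hab
      exact mul_left_cancel₀ hPk.ne_zero hab
    · intro f hf
      obtain ⟨hf1, ⟨g, rfl⟩⟩ := Finset.mem_filter.1 hf
      obtain ⟨hm, hd⟩ := mem_monicFin.1 hf1
      have hg : g.Monic := hPk.of_mul_monic_left hm
      refine ⟨g, mem_monicFin.2 ⟨hg, ?_⟩, rfl⟩
      rw [hPk.natDegree_mul hg, natDegree_pow] at hd; omega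
    · intro g hg
      rw [lam_mul χ ψ hPk (mem_monicFin.1 hg).1, lam_pow χ ψ hP]
  · refine Finset.sum_eq_zero fun f hf => absurd ?_ h
    obtain ⟨hf1, hdvd⟩ := Finset.mem_filter.1 hf
    obtain ⟨hm, hd⟩ := mem_monicFin.1 hf1
    have := natDegree_le_of_dvd hdvd hm.ne_zero
    rwa [natDegree_pow, hd] at this

noncomputable def Asum [Fintype F] (χ : MulChar F R) (ψ : AddChar F R) (N j : ℕ) : R :=
  ∑ P ∈ irrFin N, ∑ k ∈ Finset.Icc 1 N,
    if k * P.natDegree = j then (P.natDegree : R) * lam χ ψ P ^ k else 0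

open scoped Classical in
lemma newton [Fintype F] [IsDomain R] (χ : MulChar F R) (ψ : AddChar F R) (hψ : ψ ≠ 1)
    {N d : ℕ} (hd : 1 ≤ d) (hdN : d ≤ N) :
    (d : R) * lsum χ ψ d = Asum χ ψ N d + lsum χ ψ 1 * Asum χ ψ N (d - 1) := by
  have e1 : (d : R) * lsum χ ψ d = ∑ P ∈ irrFin N, ∑ k ∈ Finset.Icc 1 N,
      (P.natDegree : R) * (if k * P.natDegree ≤ d
        then lam χ ψ P ^ k * lsum χ ψ (d - k * P.natDegree) else 0) := by
    rw [lsum, Finset.mul_sum]
    have e2 : ∀ f ∈ monicFin (F := F) d, (d : R) * lam χ ψ f = ∑ P ∈ irrFin N, ∑ k ∈ Finset.Icc 1 N,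
        (P.natDegree : R) * (if P ^ k ∣ f then lam χ ψ f else 0) := by
      intro f hf
      obtain ⟨hm, hfd⟩ := mem_monicFin.1 hf
      rw [← hfd, natDegree_eq_sum hm (N := N) (by omega)]
      push_cast
      simp only [Finset.sum_mul, ite_mul, zero_mul, mul_ite, mul_zero]
    rw [Finset.sum_congr rfl e2, Finset.sum_comm]
    refine Finset.sum_congr rfl fun P hP => ?_
    rw [Finset.sum_comm]
    refine Finset.sum_congr rfl fun k _ => ?_
    rw [← Finset.mul_sum, filter_sum χ ψ (mem_irrFin.1 hP).1]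
  rw [e1, Asum, Asum, Finset.mul_sum, ← Finset.sum_add_distrib]
  refine Finset.sum_congr rfl fun P _ => ?_
  rw [Finset.mul_sum, ← Finset.sum_add_distrib]
  refine Finset.sum_congr rfl fun k _ => ?_
  by_cases h1 : k * P.natDegree = d
  · have h1' : ¬ k * P.natDegree = d - 1 := by omega
    simp [h1, lsum_zero, show ¬ d = d - 1 by omega]
  by_cases h2 : k * P.natDegree = d - 1
  · rw [if_neg h1, if_pos h2, if_pos (by omega), h2, show d - (d - 1) = 1 by omega]
    ring
  by_cases h3 : k * P.natDegree ≤ d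
  · obtain ⟨m, hm⟩ : ∃ m, d - k * P.natDegree = m + 2 := ⟨d - k * P.natDegree - 2, by omega⟩
    simp [h1, h2, h3, hm, lsum_ge_two χ ψ hψ]
  · simp [h1, h2, h3]

lemma Asum_eq [Fintype F] [IsDomain R] (χ : MulChar F R) (ψ : AddChar F R) (hψ : ψ ≠ 1)
    (N : ℕ) : ∀ j, j + 1 ≤ N → Asum χ ψ N (j + 1) = (-lsum χ ψ 1) ^ j * lsum χ ψ 1 := by
  intro j
  induction j with
  | zero =>
    intro h
    have := newton χ ψ hψ le_rfl h
    have h0 : Asum χ ψ N 0 = 0 := by
      refine Finset.sum_eq_zero fun P hP => Finset.sum_eq_zero fun k hk => if_neg ?_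
      have := (mem_irrFin.1 hP).2.2.natDegree_pos
      simp only [Finset.mem_Icc] at hk
      exact Nat.mul_ne_zero (by omega) (by omega)
    rw [Nat.cast_one, one_mul, Nat.sub_self, h0, mul_zero, add_zero] at this
    simp [← this]
  | succ j ih =>
    intro h
    have := newton χ ψ hψ (d := j + 1 + 1) (by omega) h
    rw [lsum_ge_two χ ψ hψ, mul_zero, Nat.add_sub_cancel, ih (by omega)] at this
    linear_combination -this

variable {F' : Type} [Field F'] [Algebra F F'] [Fintype F] [Fintype F']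

lemma term_eq (χ : MulChar F R) (ψ : AddChar F R) (x : F') :
    χ (Algebra.norm F x) * ψ (Algebra.trace F F' x) =
      lam χ ψ (minpoly F x) ^ (Module.finrank F F' / (minpoly F x).natDegree) := by
  have hx : IsIntegral F x := .of_finite F x
  set m := Module.finrank (IntermediateField.adjoin F {x}) F' with hm
  have hfr : (minpoly F x).natDegree * m = Module.finrank F F' := by
    rw [← IntermediateField.adjoin.finrank hx, hm, Module.finrank_mul_finrank]
  rw [← hfr, Nat.mul_div_cancel_left _ (minpoly.natDegree_pos hx), lam, mul_pow]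
  congr 1
  · have h0 : Algebra.norm F (IntermediateField.AdjoinSimple.gen F x)
        = (-1) ^ (minpoly F x).natDegree * (minpoly F x).coeff 0 := by
      have := Algebra.PowerBasis.norm_gen_eq_coeff_zero_minpoly (IntermediateField.adjoin.powerBasis hx)
      simpa [IntermediateField.minpoly_gen] using this
    rw [Algebra.norm_eq_norm_adjoin, ← hm, h0, map_pow]
  · rw [trace_eq_trace_adjoin, ← hm, trace_adjoinSimpleGen hx, AddChar.map_nsmul_eq_pow]

open scoped Classical in
lemma card_fiber {P : F[X]} (hP : P.Monic) (hi : Irreducible P)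
    (h : P.natDegree ∣ Module.finrank F F') :
    (Finset.univ.filter fun x : F' => minpoly F x = P).card = P.natDegree := by
  have hset : (Finset.univ.filter fun x : F' => minpoly F x = P) = (P.rootSet F').toFinset := by
    ext x
    simp only [Finset.mem_filter, Finset.mem_univ, true_and, Set.mem_toFinset, mem_rootSet, ne_eq,
      hP.ne_zero, not_false_eq_true]
    constructor
    · rintro rfl; exact minpoly.aeval F x
    · intro hx; exact (minpoly.eq_of_irreducible_of_monic hi hx hP).symm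
  rw [hset, Set.toFinset_card]
  refine card_rootSet_eq_natDegree (PerfectField.separable_of_irreducible hi) ?_
  have hcard : Nat.card F ^ Module.finrank F F' = Fintype.card F' := by
    rw [Module.card_eq_pow_finrank (K := F) (V := F'), Nat.card_eq_fintype_card]
  have hdvd := hi.natDegree_dvd_iff_dvd_X_pow_card_pow_sub_X.1 h
  rw [hcard] at hdvd
  refine Splits.of_dvd ?_ ?_ (Polynomial.map_dvd (algebraMap F F') hdvd)
  · rw [Polynomial.map_sub, Polynomial.map_pow, map_X, ← Nat.card_eq_fintype_card]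
    refine splits_iff_card_roots.2 ?_
    rw [Nat.card_eq_fintype_card, FiniteField.roots_X_pow_card_sub_X,
      FiniteField.X_pow_card_sub_X_natDegree_eq _ Fintype.one_lt_card]
    simp
  · exact Polynomial.map_ne_zero (FiniteField.X_pow_card_sub_X_ne_zero _ Fintype.one_lt_card)

open scoped Classical in
lemma sum_eq_Asum (χ : MulChar F R) (ψ : AddChar F R) :
    ∑ x : F', χ (Algebra.norm F x) * ψ (Algebra.trace F F' x) =
      Asum χ ψ (Module.finrank F F') (Module.finrank F F') := by
  set n := Module.finrank F F' with hn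
  have hn0 : 0 < n := Module.finrank_pos
  simp only [term_eq χ ψ, ← hn]
  have hmap : ∀ x ∈ (Finset.univ : Finset F'), minpoly F x ∈ irrFin n := fun x _ =>
    mem_irrFin.2 ⟨minpoly.monic (.of_finite F x),
      Nat.le_of_dvd hn0 (minpoly.degree_dvd (.of_finite F x)), minpoly.irreducible (.of_finite F x)⟩
  rw [← Finset.sum_fiberwise_of_maps_to hmap]
  refine Finset.sum_congr rfl fun P hP => ?_
  obtain ⟨hm, hle, hi⟩ := mem_irrFin.1 hP
  rw [Finset.sum_congr rfl (fun x hx => by rw [(Finset.mem_filter.1 hx).2] :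
    ∀ x ∈ Finset.univ.filter (fun x : F' => minpoly F x = P),
      lam χ ψ (minpoly F x) ^ (n / (minpoly F x).natDegree) = lam χ ψ P ^ (n / P.natDegree)),
    Finset.sum_const, nsmul_eq_mul]
  by_cases h : P.natDegree ∣ n
  · rw [card_fiber hm hi h, Finset.sum_eq_single (n / P.natDegree)]
    · rw [if_pos (Nat.div_mul_cancel h)]
    · intro k _ hk
      refine if_neg fun hk' => hk ?_
      rw [← hk', Nat.mul_div_cancel _ hi.natDegree_pos]
    · intro hk
      exact absurd (Finset.mem_Icc.2 ⟨Nat.div_pos hle hi.natDegree_pos, Nat.div_le_self _ _⟩) hk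
  · have hempty : (Finset.univ.filter fun x : F' => minpoly F x = P) = ∅ := by
      refine Finset.filter_eq_empty_iff.2 fun x _ hx => h ?_
      rw [← hx]; exact minpoly.degree_dvd (.of_finite F x)
    rw [hempty, Finset.card_empty, Nat.cast_zero, zero_mul, eq_comm]
    refine Finset.sum_eq_zero fun k _ => if_neg fun hk => h ?_
    exact ⟨k, by rw [← hk, mul_comm]⟩


/-- Let F ⊂ F' be finite fields with [F' : F] = n, χ a multiplicative character of F and ψ a nontrivial
additive character of F, with values in a domain of characteristic zero. Writing τ(χ, ψ) = -Σ_x χ(x)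
ψ(x), one has τ(χ ∘ N_{F'/F}, ψ ∘ Tr_{F'/F}) = τ(χ, ψ)^n. (The source writes χ⁻¹ inside τ; replacing
χ by χ⁻¹ gives the same family of identities.) -/
theorem result (F F' : Type) [Field F] [Fintype F] [Field F'] [Fintype F'] [Algebra F F']
    (R : Type) [CommRing R] [IsDomain R] [CharZero R] (χ : MulChar F R) (ψ : AddChar F R) (hψ : ψ ≠ 1) :
    -(∑ x : F', χ (Algebra.norm F x) * ψ (Algebra.trace F F' x)) =
      (-(∑ x : F, χ x * ψ x)) ^ Module.finrank F F' := by
  obtain ⟨j, hj⟩ : ∃ j, Module.finrank F F' = j + 1 :=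
    ⟨Module.finrank F F' - 1, (Nat.sub_add_cancel Module.finrank_pos).symm⟩
  rw [sum_eq_Asum, hj, Asum_eq χ ψ hψ _ j le_rfl, lsum_one]
  ring

end Groth.Agent.S3128
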