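import Groth.Statements.S3129
-- import your own Groth.Agent.* helpers here

set_option autoImplicit false
open BigOperators
open SGA4h

namespace Groth.Agent.S3129

/-- Let F be a finite field with q elements, N ≥ 1, χ₀, …, χ_N multiplicative characters of F with
values in a domain, not all trivial and with product 1, and Ψ a nontrivial additive character of F.
Put τ(χ, Ψ) = −Σ_{x ∈ F} Ψ(x) χ⁻¹(x) and J(χ) = (−1)^{N−1} Σ χ₁⁻¹(x₁) ⋯ χ_N⁻¹(x_N), the sum over x₁,
…, x_N ∈ F^* with x₁ + ⋯ + x_N = −1. Then q · J(χ) = τ(χ₀, Ψ) ⋯ τ(χ_N, Ψ). -/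
theorem result (F : Type) [Field F] [Fintype F] [DecidableEq F] (R : Type) [CommRing R] [IsDomain R]
    (N : ℕ) (hN : 1 ≤ N) (χ : Fin (N + 1) → MulChar F R) (hprod : ∏ i, χ i = 1) (hnt : ∃ i, χ i ≠ 1)
    (Ψ : AddChar F R) (hΨ : Ψ ≠ 1) :
    (Fintype.card F : R) * ((-1) ^ (N - 1) *
        ∑ x ∈ (Finset.univ : Finset (Fin N → Fˣ)).filter (fun x => ∑ i, ((x i : Fˣ) : F) = -1),
          ∏ i : Fin N, (χ i.succ)⁻¹ ((x i : Fˣ) : F)) =
      ∏ i : Fin (N + 1), (-(∑ y : F, Ψ y * (χ i)⁻¹ y)) := by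
  classical
  have hprim : Ψ.IsPrimitive := AddChar.IsPrimitive.of_ne_one hΨ
  set φ : Fin (N + 1) → MulChar F R := fun i => (χ i)⁻¹ with hφ
  have hφp : ∏ i, φ i = 1 := by simp [hφ, Finset.prod_inv_distrib, hprod]
  have happ : ∀ (s : Finset (Fin (N + 1))) (y : Fˣ), (∏ i ∈ s, φ i) (y : F) = ∏ i ∈ s, φ i (y : F) := by
    intro s y
    induction s using Finset.induction_on with
    | empty => simp [MulChar.one_apply_coe]
    | insert a s ha ih => rw [Finset.prod_insert ha, Finset.prod_insert ha, MulChar.mul_apply, ih]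
  have hsum : ∀ i : Fin (N + 1), ∑ y : F, Ψ y * φ i y = ∑ y : Fˣ, Ψ (y : F) * φ i (y : F) := fun i => by
    refine (Finset.sum_of_injOn (fun y : Fˣ => (y : F)) (Units.val_injective.injOn) (by simp) ?_
      (fun y _ => rfl)).symm
    intro y _ hy
    have : y = 0 := by_contra fun h => hy ⟨Units.mk0 y h, by simp, rfl⟩
    simp [this, MulChar.map_zero]
  have horth : ∀ s : F, ∑ y : Fˣ, Ψ ((y : F) * s) =
      (if s = 0 then (Fintype.card F : R) else 0) - 1 := fun s => by
    have h := AddChar.sum_mulShift s hprim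
    rw [← Finset.sum_erase_add _ _ (Finset.mem_univ (0 : F)), zero_mul, AddChar.map_zero_eq_one] at h
    have e : ∑ y : Fˣ, Ψ ((y : F) * s) = ∑ y ∈ (Finset.univ : Finset F).erase 0, Ψ (y * s) :=
      Finset.sum_nbij' (fun y : Fˣ => (y : F)) (fun y => if h : y = 0 then 1 else Units.mk0 y h)
        (by simp) (by simp) (by simp) (by simp +contextual) (fun y _ => rfl)
    rw [e, eq_sub_iff_add_eq, h]
    split <;> simp
  -- some later character is nontrivial
  obtain ⟨i₁, hi₁⟩ : ∃ i : Fin N, φ i.succ ≠ 1 := by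
    by_contra! h
    have h0 : φ 0 = 1 := by
      rwa [Fin.prod_univ_succ, Finset.prod_eq_one (fun i _ => h i), mul_one] at hφp
    obtain ⟨i, hi⟩ := hnt
    refine hi (inv_eq_one.mp ?_)
    cases i using Fin.cases with
    | zero => exact h0
    | succ j => exact h j
  have hzero : ∑ x : Fin N → Fˣ, ∏ i : Fin N, φ i.succ ((x i : Fˣ) : F) = 0 := by
    rw [← Fintype.prod_sum (fun (i : Fin N) (y : Fˣ) => φ i.succ (y : F))]
    refine Finset.prod_eq_zero (Finset.mem_univ i₁) ?_
    have h := MulChar.sum_eq_zero_of_ne_one hi₁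
    rw [← h]
    refine Finset.sum_of_injOn (fun y : Fˣ => (y : F)) (Units.val_injective.injOn) (by simp) ?_
      (fun y _ => rfl)
    intro y _ hy
    have : y = 0 := by_contra fun h => hy ⟨Units.mk0 y h, by simp, rfl⟩
    simp [this, MulChar.map_zero]
  let S : R := ∑ x ∈ (Finset.univ : Finset (Fin N → Fˣ)).filter (fun x => ∑ i, ((x i : Fˣ) : F) = -1),
    ∏ i : Fin N, φ i.succ ((x i : Fˣ) : F)
  let e : Fˣ × (Fin N → Fˣ) ≃ (Fin (N + 1) → Fˣ) :=
    { toFun := fun p => Fin.cons p.1 (fun i => p.1 * p.2 i)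
      invFun := fun y => (y 0, fun i => (y 0)⁻¹ * y i.succ)
      left_inv := fun p => by simp
      right_inv := fun y => by
        funext i
        cases i using Fin.cases <;> simp }
  have key : ∏ i : Fin (N + 1), ∑ y : Fˣ, Ψ (y : F) * φ i (y : F) = (Fintype.card F : R) * S := by
    rw [Fintype.prod_sum, ← e.sum_comp, Fintype.sum_prod_type_right]
    have : ∀ x : Fin N → Fˣ, ∑ y : Fˣ, ∏ i, Ψ ((e (y, x) i : Fˣ) : F) * φ i ((e (y, x) i : Fˣ) : F) =
        (∏ i : Fin N, φ i.succ ((x i : Fˣ) : F)) *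
          ((if 1 + ∑ i, ((x i : Fˣ) : F) = 0 then (Fintype.card F : R) else 0) - 1) := fun x => by
      rw [← horth, Finset.mul_sum]
      refine Finset.sum_congr rfl fun y _ => ?_
      rw [Finset.prod_mul_distrib, mul_comm]
      congr 1
      · rw [Fin.prod_univ_succ]
        simp only [e, Equiv.coe_fn_mk, Fin.cons_zero, Fin.cons_succ, Units.val_mul, map_mul,
          Finset.prod_mul_distrib]
        rw [← mul_assoc, ← Fin.prod_univ_succ (f := fun i => φ i (y : F)), ← happ, hφp,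
          MulChar.one_apply_coe, one_mul]
      · have hsp : ∀ g : Fin (N + 1) → F, Ψ (∑ i, g i) = ∏ i, Ψ (g i) := fun g =>
          map_prod Ψ.toMonoidHom (fun i => Multiplicative.ofAdd (g i)) Finset.univ
        rw [← hsp, Fin.sum_univ_succ]
        simp [e, Finset.mul_sum, mul_add]
    simp only [this, mul_sub, mul_one, Finset.sum_sub_distrib, hzero, sub_zero]
    simp only [S, Finset.sum_filter, Finset.mul_sum]
    refine Finset.sum_congr rfl fun x _ => ?_
    have : (1 + ∑ i, ((x i : Fˣ) : F) = 0) ↔ (∑ i, ((x i : Fˣ) : F) = -1) := by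
      rw [add_comm, add_eq_zero_iff_eq_neg]
    by_cases hx : ∑ i, ((x i : Fˣ) : F) = -1
    · simp [hx, mul_comm]
    · simp [hx, mt this.1 hx]
  have hR : ∏ i : Fin (N + 1), (-(∑ y : F, Ψ y * (χ i)⁻¹ y)) = (-1) ^ (N + 1) * ((Fintype.card F : R) * S) := by
    rw [← key, Finset.prod_neg]
    simp only [Finset.card_univ, Fintype.card_fin]
    congr 1
    exact Finset.prod_congr rfl fun i _ => hsum i
  rw [hR]
  obtain ⟨M, rfl⟩ := Nat.exists_eq_add_of_le hN
  simp only [Nat.add_sub_cancel_left, S, hφ]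
  ring

end Groth.Agent.S3129
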