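import Groth.Statements.S3133
-- import your own Groth.Agent.* helpers here

set_option autoImplicit false
open Polynomial
open SGA4h

namespace Groth.Agent.S3133

lemma main {R : Type} [CommRing R] {m : Type} [Fintype m] [DecidableEq m]
    (A : Matrix m m R) (n : ℕ) (hn : 1 ≤ n) :
    (Matrix.of fun (p q : Fin n × m) =>
        if p.1.val = 0 then (if q.1.val = n - 1 then A p.2 q.2 else 0)
        else (if q.1.val + 1 = p.1.val ∧ p.2 = q.2 then 1 else 0)).charpolyRev =
      Polynomial.expand R n A.charpolyRev := by
  classical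
  set B := (Matrix.of fun (p q : Fin n × m) =>
        if p.1.val = 0 then (if q.1.val = n - 1 then A p.2 q.2 else 0)
        else (if q.1.val + 1 = p.1.val ∧ p.2 = q.2 then (1 : R) else 0)) with hB
  let z : Fin n := ⟨0, hn⟩
  let l : Fin n := ⟨n - 1, by omega⟩
  set U : Matrix (Fin n × m) (Fin n × m) R[X] := fun p q =>
    if q.1 ≤ p.1 ∧ p.2 = q.2 then X ^ (p.1.val - q.1.val) else 0 with hU
  have key : ∀ p q : Fin n × m, ((1 - (X : R[X]) • B.map C) * U) p q = if p.1 = z then
      U p q - X ^ (n - q.1.val) * C (A p.2 q.2) else (if p = q then 1 else 0) := by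
    intro p q
    rw [sub_mul, one_mul, Matrix.smul_mul, Matrix.sub_apply, Matrix.smul_apply, smul_eq_mul]
    split_ifs with h h2 h2
    · congr 1
      rw [Matrix.mul_apply, Finset.sum_eq_single (l, q.2)]
      · have : q.1 ≤ l := by show q.1.val ≤ n - 1; omega
        have hq := q.1.isLt
        simp [hB, hU, h, z, l, this]
        rw [show n - q.1.val = n - 1 - q.1.val + 1 by omega, pow_succ]
        ring
      · intro r _ hr
        by_cases h1 : r.1 = l
        · have : r.2 ≠ q.2 := fun e => hr (Prod.ext h1 e)
          simp [hU, this]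
        · have : r.1.val ≠ n - 1 := fun e => h1 (Fin.ext e)
          simp [hB, h, z, this]
      · simp
    all_goals
      have hp : p.1.val ≠ 0 := fun e => h (Fin.ext e)
      have hlt := p.1.isLt
      rw [Matrix.mul_apply, Finset.sum_eq_single ((⟨p.1.val - 1, by omega⟩ : Fin n), p.2)]
      rotate_left
      · intro r _ hr
        have : ¬ (r.1.val + 1 = p.1.val ∧ p.2 = r.2) := fun ⟨a, b⟩ =>
          hr (Prod.ext (Fin.ext (by simp; omega)) b.symm)
        simp [hB, hp, this]
      · simp
    · subst h2
      have : ¬ (p.1.val ≤ p.1.val - 1) := by omega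
      simp [hB, hU, hp, ← Fin.val_fin_le, Nat.sub_add_cancel (Nat.one_le_iff_ne_zero.mpr hp), this]
    · simp only [hB, hU, hp, ← Fin.val_fin_le, Matrix.map_apply, Matrix.of_apply, if_false,
        Nat.sub_add_cancel (Nat.one_le_iff_ne_zero.mpr hp), and_self, if_true, map_one, one_mul]
      by_cases h3 : p.2 = q.2
      · have h4 : p.1.val ≠ q.1.val := fun e => h2 (Prod.ext (Fin.ext e) h3)
        simp only [h3, and_true]
        by_cases h5 : q.1.val ≤ p.1.val
        · rw [if_pos h5, if_pos (by omega),
            show p.1.val - q.1.val = p.1.val - 1 - q.1.val + 1 by omega, pow_succ]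
          ring
        · rw [if_neg h5, if_neg (by omega)]; simp
      · simp [h3]
  have hUtri : U.BlockTriangular (OrderDual.toDual ∘ Prod.fst) := by
    intro p q h
    have : ¬ q.1 ≤ p.1 := not_le.mpr h
    simp [hU, this]
  have hUdet : U.det = 1 := by
    rw [hUtri.det_fintype]
    refine Finset.prod_eq_one fun k _ => ?_
    rw [show U.toSquareBlock (OrderDual.toDual ∘ Prod.fst) k = 1 from ?_, Matrix.det_one]
    refine Matrix.ext fun a b => ?_
    obtain ⟨p, hp⟩ := a; obtain ⟨q, hq⟩ := b
    have h1 : p.1 = q.1 := OrderDual.toDual.injective (hp.trans hq.symm)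
    show U p q = _
    simp [hU, Matrix.one_apply, h1, Prod.ext_iff]
  have hP : ((1 - (X : R[X]) • B.map C) * U).BlockTriangular Prod.fst := by
    intro p q h
    have h' : q.1 < p.1 := h
    have : p.1 ≠ z := fun e => absurd (show q.1.val < 0 by simpa [e, z, Fin.lt_def] using h') (by omega)
    rw [key, if_neg this, if_neg]
    rintro rfl; exact lt_irrefl _ h'
  have hmain : (1 - (X : R[X]) • B.map C).det = (1 - (X ^ n : R[X]) • A.map C).det := by
    have h0 := congrArg (fun d => (1 - (X : R[X]) • B.map C).det * d) hUdet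
    simp only [mul_one] at h0
    rw [← h0, ← Matrix.det_mul, hP.det_fintype, Finset.prod_eq_single z]
    · let e : m ≃ {a : Fin n × m // a.1 = z} :=
        { toFun := fun i => ⟨(z, i), rfl⟩, invFun := fun a => a.1.2, left_inv := fun _ => rfl
          right_inv := fun a => Subtype.ext (Prod.ext a.2.symm rfl) }
      rw [← Matrix.det_submatrix_equiv_self e]
      congr 1
      refine Matrix.ext fun i j => ?_
      show ((1 - (X : R[X]) • B.map C) * U) (z, i) (z, j) = _
      rw [key, if_pos rfl]
      simp [hU, z, Matrix.one_apply]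
    · intro k _ hk
      rw [show ((1 - (X : R[X]) • B.map C) * U).toSquareBlock Prod.fst k = 1 from ?_, Matrix.det_one]
      refine Matrix.ext fun a b => ?_
      obtain ⟨p, hp⟩ := a; obtain ⟨q, hq⟩ := b
      have : p.1 ≠ z := hp ▸ hk
      show ((1 - (X : R[X]) • B.map C) * U) p q = _
      rw [key, if_neg this]
      simp [Matrix.one_apply]
    · simp
  rw [Matrix.charpolyRev, hmain, Matrix.charpolyRev, AlgHom.map_det]
  congr 1
  ext i j
  simp [Matrix.one_apply, apply_ite (Polynomial.expand R n)]

/-- Let A be a square matrix over a commutative ring and n ≥ 1, and let B be the matrix on n blocks of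
the endomorphism (x_1, …, x_n) ↦ (A x_n, x_1, …, x_{n-1}). Then det(1 − B·T) = det(1 − A·Tⁿ), i.e.
the reverse characteristic polynomial of B is that of A expanded by n. -/
theorem result (R : Type) [CommRing R] (m : Type) [Fintype m] [DecidableEq m]
    (A : Matrix m m R) (n : ℕ) (hn : 1 ≤ n) :
    (Matrix.of fun (p q : Fin n × m) =>
        if p.1.val = 0 then (if q.1.val = n - 1 then A p.2 q.2 else 0)
        else (if q.1.val + 1 = p.1.val ∧ p.2 = q.2 then 1 else 0)).charpolyRev =
      Polynomial.expand R n A.charpolyRev := by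
  exact main A n hn

end Groth.Agent.S3133
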