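import Groth.Statements.S3134
-- import your own Groth.Agent.* helpers here

set_option autoImplicit false
open Polynomial
open SGA4h

namespace Groth.Agent.S3134

open Matrix in
lemma derivative_det {R : Type} [CommRing R] {m : Type} [Fintype m] [DecidableEq m]
    (M : Matrix m m R[X]) :
    derivative M.det = (M.adjugate * M.map derivative).trace := by
  have h1 : ∀ i : m, (M.adjugate * M.map derivative) i i =
      (M.updateCol i (fun j => derivative (M j i))).det := by
    intro i
    rw [← Matrix.cramer_apply, Matrix.cramer_eq_adjugate_mulVec]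
    rfl
  simp only [Matrix.trace, Matrix.diag, h1, Matrix.det_apply]
  rw [Finset.sum_comm, map_sum]
  refine Finset.sum_congr rfl fun σ _ => ?_
  rw [Units.smul_def, map_zsmul, Polynomial.derivative_prod_finset, Finset.smul_sum]
  refine Finset.sum_congr rfl fun i _ => ?_
  rw [Units.smul_def]
  congr 1
  rw [← Finset.mul_prod_erase _ _ (Finset.mem_univ i), Matrix.updateCol_self, mul_comm]
  congr 1
  refine Finset.prod_congr rfl fun j hj => ?_
  rw [Matrix.updateCol_ne (Finset.ne_of_mem_erase hj)]

lemma main {R : Type} [CommRing R] {m : Type} [Fintype m] [DecidableEq m] (A : Matrix m m R) :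
    ((-(X * Polynomial.derivative A.charpolyRev) : R[X]) : PowerSeries R) =
      (A.charpolyRev : PowerSeries R) * PowerSeries.mk (fun n => if n = 0 then 0 else (A ^ n).trace) := by
  set M : Matrix m m R[X] := 1 - (X : R[X]) • A.map C with hM
  have hder : M.map derivative = -(A.map C) := by
    ext i j
    simp [hM, Matrix.one_apply, apply_ite derivative]
  have hd : derivative A.charpolyRev = -(M.adjugate * A.map C).trace := by
    rw [Matrix.charpolyRev, derivative_det, hder, Matrix.mul_neg, Matrix.trace_neg]
  set ι : R[X] →+* PowerSeries R := Polynomial.coeToPowerSeries.ringHom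
  set S : Matrix m m (PowerSeries R) := fun i j => PowerSeries.mk fun n => (A ^ n) i j with hS
  have hMS : M.map ι * S = 1 := by
    have hcomp : M.map ι = 1 - (PowerSeries.X : PowerSeries R) • A.map PowerSeries.C := by
      ext i j
      simp [hM, ι, Matrix.one_apply, apply_ite Polynomial.toPowerSeries]
      try rw [mul_comm]
    rw [hcomp, sub_mul, one_mul, Matrix.smul_mul]
    have hS' : ∀ i j, S i j = PowerSeries.mk fun n => (A ^ n) i j := fun _ _ => rfl
    ext i j n
    rw [Matrix.sub_apply, Matrix.smul_apply, smul_eq_mul, Matrix.mul_apply, hS']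
    simp only [hS', Matrix.map_apply]
    cases n with
    | zero => simp [hS, Matrix.one_apply, apply_ite (PowerSeries.coeff (R := R) 0)]
    | succ n =>
      simp [hS, Matrix.one_apply, Matrix.mul_apply, pow_succ', apply_ite (PowerSeries.coeff (R := R) (n + 1))]
  have hadj : (M.map ι).adjugate = (M.map ι).det • S := by
    calc (M.map ι).adjugate = (M.map ι).adjugate * (M.map ι * S) := by rw [hMS, mul_one]
      _ = _ := by rw [← mul_assoc, Matrix.adjugate_mul, Matrix.smul_mul, one_mul]
  have hdet : (M.map ι).det = ι A.charpolyRev := (RingHom.map_det ι M).symm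
  change ι (-(X * derivative A.charpolyRev)) = ι A.charpolyRev * _
  rw [hd, mul_neg, neg_neg, map_mul, Matrix.trace, map_sum]
  have e : ∀ i : m, ι ((M.adjugate * A.map C) i i) =
      ι A.charpolyRev * PowerSeries.mk fun n => (A ^ (n + 1)) i i := by
    intro i
    have : ι ((M.adjugate * A.map C) i i) = ((M.map ι).adjugate * A.map PowerSeries.C) i i := by
      have h2 : (M.adjugate * A.map C).map ι = (M.map ι).adjugate * A.map PowerSeries.C := by
        rw [Matrix.map_mul]
        congr 1
        · exact RingHom.map_adjugate ι M
        · ext a b; simp [ι]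
      exact congrFun (congrFun h2 i) i
    rw [this, hadj, Matrix.smul_mul, hdet, Matrix.smul_apply, smul_eq_mul]
    congr 1
    ext n
    rw [Matrix.mul_apply]
    simp [hS, Matrix.mul_apply, pow_succ]
  simp only [Matrix.diag, e, ← Finset.mul_sum]
  rw [mul_left_comm]
  congr 1
  ext n
  cases n with
  | zero => simp [ι]
  | succ n => simp [ι, Matrix.trace]

/-- For a square matrix A over a commutative ring, with P(T) = det(1 − A·T), one has −T·P′(T) = P(T) ·
Σ_{n ≥ 1} Tr(Aⁿ) Tⁿ as formal power series (equivalently T d/dT log P(T)⁻¹ = Σ_{n≥1} Tr(Aⁿ) Tⁿ). -/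
theorem result (R : Type) [CommRing R] (m : Type) [Fintype m] [DecidableEq m]
    (A : Matrix m m R) :
    ((-(X * Polynomial.derivative A.charpolyRev) : R[X]) : PowerSeries R) =
      (A.charpolyRev : PowerSeries R) * PowerSeries.mk (fun n => if n = 0 then 0 else (A ^ n).trace) := by
  exact main A

end Groth.Agent.S3134
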