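import Groth.Statements.S3139
import Groth.Agent.PerfCx.Basic
import Mathlib.LinearAlgebra.Determinant
import Mathlib.LinearAlgebra.Matrix.SchurComplement
import Mathlib.Algebra.Homology.HomotopyCategory.MappingCone
import Mathlib.Algebra.Category.ModuleCat.Biproducts
import Mathlib.RingTheory.Flat.Basic
import Mathlib.LinearAlgebra.TensorProduct.RightExactness
import Mathlib.Algebra.BigOperators.Finprod
import Mathlib.Data.Int.Interval
import Mathlib.RingTheory.Finiteness.Prod
import Mathlib.Algebra.Homology.DerivedCategory.TStructure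

set_option autoImplicit false
universe u
open CategoryTheory
attribute [local instance] HasDerivedCategory.standard
open SGA4h

namespace Groth.Agent.S3139

open LinearMap Limits Polynomial TensorProduct

section Det

variable {R : Type*} [CommRing R] {M N : Type*} [AddCommGroup M] [Module R M] [AddCommGroup N]
  [Module R N] [Module.Free R M] [Module.Finite R M] [Module.Free R N] [Module.Finite R N]

theorem det_one_add_comm (x : N →ₗ[R] M) (y : M →ₗ[R] N) :
    LinearMap.det (LinearMap.id + x ∘ₗ y) = LinearMap.det (LinearMap.id + y ∘ₗ x) := by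
  classical
  let b := Module.Free.chooseBasis R M
  let c := Module.Free.chooseBasis R N
  rw [← det_toMatrix b, ← det_toMatrix c, map_add, map_add, toMatrix_id, toMatrix_id,
    toMatrix_comp b c b, toMatrix_comp c b c, Matrix.det_one_add_mul_comm]

omit [Module.Free R M] [Module.Finite R M] [Module.Free R N] [Module.Finite R N] in
theorem factor (P Q g : Module.End R M) (h1 : P + Q = 1) (h2 : Q * g * P = 0) :
    (1 + Q * g) * (1 + P * g * Q) * (1 + g * P) = 1 + g := by
  have h3 : Q * g * (g * P) = 0 := by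
    have e : g * P = P * (g * P) := by
      calc g * P = (P + Q) * (g * P) := by rw [h1, one_mul]
        _ = _ := by rw [add_mul, ← mul_assoc Q, h2, add_zero]
    rw [e, ← mul_assoc, h2, zero_mul]
  have h4 : Q * g * (P * g * Q) = 0 := by rw [← mul_assoc, ← mul_assoc, h2, zero_mul, zero_mul]
  have h5 : P * g * Q * (g * P) = 0 := by
    rw [mul_assoc (P * g) Q, ← mul_assoc Q, h2, mul_zero]
  have h6 : Q * g = Q * g * Q := by
    calc Q * g = Q * g * (P + Q) := by rw [h1, mul_one]
      _ = _ := by rw [mul_add, h2, zero_add]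
  have h7 : g * Q = P * g * Q + Q * g * Q := by
    calc g * Q = (P + Q) * (g * Q) := by rw [h1, one_mul]
      _ = _ := by rw [add_mul, mul_assoc, mul_assoc]
  calc _ = 1 + (g * P + (P * g * Q + Q * g)) := by
        simp only [add_mul, mul_add, one_mul, mul_one, h3, h4, h5, zero_mul, add_zero]
        abel
    _ = 1 + (g * P + g * Q) := by rw [h6, h7]
    _ = _ := by rw [← mul_add, h1, mul_one]

theorem det_factor (P Q g : Module.End R M) (h1 : P + Q = 1) (h2 : Q * g * P = 0) (h3 : Q * P = 0) :
    LinearMap.det (1 + g) = LinearMap.det (1 + Q * g) * LinearMap.det (1 + g * P) := by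
  have : LinearMap.det (1 + P * g * Q) = 1 := by
    have e : P * g * Q = P ∘ₗ (g * Q) := by rw [mul_assoc]; rfl
    have e2 : (g * Q) ∘ₗ P = 0 := by
      show g * Q * P = 0
      rw [mul_assoc, h3, mul_zero]
    rw [Module.End.one_eq_id, e, det_one_add_comm, e2, add_zero, LinearMap.det_id]
  rw [← factor P Q g h1 h2, map_mul, map_mul, this, mul_one]

/-- The determinant is multiplicative in short exact sequences of finite free modules. -/
theorem det_exact {B : Type*} [AddCommGroup B] [Module R B] [Module.Free R B] [Module.Finite R B]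
    (ι : M →ₗ[R] B) (p : B →ₗ[R] N) (hι : Function.Injective ι) (hex : Function.Exact ι p)
    (hp : Function.Surjective p) (a : M →ₗ[R] M) (b : B →ₗ[R] B) (c : N →ₗ[R] N)
    (h₁ : b ∘ₗ ι = ι ∘ₗ a) (h₂ : p ∘ₗ b = c ∘ₗ p) :
    LinearMap.det b = LinearMap.det a * LinearMap.det c := by
  obtain ⟨s, hs⟩ := Module.projective_lifting_property p LinearMap.id hp
  have hs' : ∀ x, p (s x) = x := fun x => LinearMap.congr_fun hs x
  have hker : ∀ x, x - s (p x) ∈ LinearMap.range ι := fun x =>
    LinearMap.mem_range.mpr ((hex _).mp (by rw [map_sub, hs', sub_self]))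
  let e := LinearEquiv.ofInjective ι hι
  let r : B →ₗ[R] M :=
    e.symm.toLinearMap ∘ₗ LinearMap.codRestrict (LinearMap.range ι) (LinearMap.id - s ∘ₗ p) hker
  have hr : ι ∘ₗ r = LinearMap.id - s ∘ₗ p := by
    ext x
    exact congrArg Subtype.val (e.apply_symm_apply ⟨x - s (p x), hker x⟩)
  have hr' : r ∘ₗ ι = LinearMap.id := by
    ext x
    refine hι ?_
    have := LinearMap.congr_fun hr (ι x)
    simp only [LinearMap.comp_apply, LinearMap.sub_apply, LinearMap.id_apply] at this ⊢
    rw [this, hex.apply_apply_eq_zero, map_zero, sub_zero]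
  have hpι : p ∘ₗ ι = 0 := hex.linearMap_comp_eq_zero
  let g : Module.End R B := b - 1
  have hgι : g ∘ₗ ι = ι ∘ₗ (a - LinearMap.id) := by
    show (b - LinearMap.id) ∘ₗ ι = _
    rw [LinearMap.sub_comp, h₁, LinearMap.comp_sub, LinearMap.id_comp, LinearMap.comp_id]
  have hpg : p ∘ₗ g = (c - LinearMap.id) ∘ₗ p := by
    show p ∘ₗ (b - LinearMap.id) = _
    rw [LinearMap.comp_sub, h₂, LinearMap.sub_comp, LinearMap.id_comp, LinearMap.comp_id]
  have hd := det_factor (ι ∘ₗ r) (s ∘ₗ p) g (by rw [hr, sub_add_cancel]; rfl)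
    (by
      ext x
      show s (p (g (ι (r x)))) = 0
      rw [show g (ι (r x)) = ι ((a - LinearMap.id : M →ₗ[R] M) (r x)) from LinearMap.congr_fun hgι (r x),
        hex.apply_apply_eq_zero, map_zero])
    (by
      show (s ∘ₗ p) ∘ₗ ι ∘ₗ r = 0
      rw [LinearMap.comp_assoc, ← LinearMap.comp_assoc r ι p, hpι, LinearMap.zero_comp,
        LinearMap.comp_zero])
  have e1 : LinearMap.det (1 + g * (ι ∘ₗ r)) = LinearMap.det a := by
    show LinearMap.det (LinearMap.id + g ∘ₗ ι ∘ₗ r) = _
    rw [← LinearMap.comp_assoc, det_one_add_comm, hgι, ← LinearMap.comp_assoc, hr',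
      LinearMap.id_comp, add_sub_cancel]
  have e2 : LinearMap.det (1 + (s ∘ₗ p) * g) = LinearMap.det c := by
    show LinearMap.det (LinearMap.id + (s ∘ₗ p) ∘ₗ g) = _
    rw [LinearMap.comp_assoc, det_one_add_comm, hpg, LinearMap.comp_assoc, hs, LinearMap.comp_id,
      add_sub_cancel]
  rw [show b = 1 + g from (add_sub_cancel 1 b).symm, hd, e1, e2, mul_comm]

end Det

variable {A : Type u} [CommRing A]

/-- `det(1 + g d s)`. -/
theorem det_step {X Y Z : Type u} [AddCommGroup X] [AddCommGroup Y] [AddCommGroup Z] [Module A X]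
    [Module A Y] [Module A Z] [Module.Free A Y] [Module.Finite A Y] [Module.Free A Z] [Module.Finite A Z]
    (d : X →ₗ[A] Y) (d' : Y →ₗ[A] Z) (s : Y →ₗ[A] X) (s' : Z →ₗ[A] Y) (hdd : d' ∘ₗ d = 0)
    (hs : d ∘ₗ s + s' ∘ₗ d' = LinearMap.id) (g : Y →ₗ[A] Y) (g' : Z →ₗ[A] Z) (gX : X →ₗ[A] X)
    (hgX : g ∘ₗ d = d ∘ₗ gX) (hg' : d' ∘ₗ g = g' ∘ₗ d') :
    LinearMap.det (LinearMap.id + g) = LinearMap.det (LinearMap.id + g ∘ₗ d ∘ₗ s) *
      LinearMap.det (LinearMap.id + g' ∘ₗ d' ∘ₗ s') := by
  have h := det_factor (d ∘ₗ s) (s' ∘ₗ d') g hs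
    (by
      ext x
      show s' (d' (g (d (s x)))) = 0
      rw [show g (d (s x)) = d (gX (s x)) from LinearMap.congr_fun hgX (s x),
        show d' (d (gX (s x))) = 0 from LinearMap.congr_fun hdd _, map_zero])
    (by
      show (s' ∘ₗ d') ∘ₗ d ∘ₗ s = 0
      rw [LinearMap.comp_assoc, ← LinearMap.comp_assoc s d d', hdd, LinearMap.zero_comp, LinearMap.comp_zero])
  have e : LinearMap.det (1 + (s' ∘ₗ d') * g) = LinearMap.det (LinearMap.id + g' ∘ₗ d' ∘ₗ s') := by
    show LinearMap.det (LinearMap.id + (s' ∘ₗ d') ∘ₗ g) = _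
    rw [LinearMap.comp_assoc, det_one_add_comm, hg', LinearMap.comp_assoc]
  exact (h.trans (by rw [e]; rfl)).trans (mul_comm _ _)

section Poly

variable {M N B : Type u} [AddCommGroup M] [Module A M] [AddCommGroup N] [Module A N]
  [AddCommGroup B] [Module A B] [Module.Free A M] [Module.Finite A M] [Module.Free A N]
  [Module.Finite A N] [Module.Free A B] [Module.Finite A B]

/-- `det(1 - X w)`. -/
noncomputable def dos (w : M →ₗ[A] M) : A[X] :=
  LinearMap.det (LinearMap.id - (X : A[X]) • w.baseChange A[X])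

theorem dos_of_subsingleton [Subsingleton M] (w : M →ₗ[A] M) : dos w = 1 := by
  have : Subsingleton (A[X] ⊗[A] M) := inferInstance
  rw [dos, Subsingleton.elim (LinearMap.id - (X : A[X]) • w.baseChange A[X]) LinearMap.id, LinearMap.det_id]

theorem dos_exact (ι : M →ₗ[A] B) (p : B →ₗ[A] N) (hι : Function.Injective ι) (hex : Function.Exact ι p)
    (hp : Function.Surjective p) (a : M →ₗ[A] M) (b : B →ₗ[A] B) (c : N →ₗ[A] N)
    (h₁ : b ∘ₗ ι = ι ∘ₗ a) (h₂ : p ∘ₗ b = c ∘ₗ p) : dos b = dos a * dos c := by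
  refine det_exact (ι.baseChange A[X]) (p.baseChange A[X])
    (Module.Flat.lTensor_preserves_injective_linearMap _ hι) (lTensor_exact A[X] hex hp)
    (LinearMap.lTensor_surjective A[X] hp) _ _ _ ?_ ?_
  · rw [LinearMap.sub_comp, LinearMap.comp_sub, LinearMap.id_comp, LinearMap.comp_id,
      LinearMap.smul_comp, LinearMap.comp_smul, ← LinearMap.baseChange_comp, h₁, LinearMap.baseChange_comp]
  · rw [LinearMap.sub_comp, LinearMap.comp_sub, LinearMap.id_comp, LinearMap.comp_id,
      LinearMap.smul_comp, LinearMap.comp_smul, ← LinearMap.baseChange_comp, h₂, LinearMap.baseChange_comp]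

end Poly

theorem finite_mulSupport {f : ℤ → A[X]} (a b : ℤ) (h : ∀ n, n < a ∨ b < n → f n = 1) (p : ℤ → Prop) :
    (Function.mulSupport fun i : {i : ℤ // p i} => f i).Finite := by
  refine ((Finset.Icc a b).finite_toSet.preimage Subtype.val_injective.injOn).subset fun i hi => ?_
  simp only [Set.mem_preimage, Finset.coe_Icc, Set.mem_Icc]
  by_contra hc
  exact hi (h _ (by omega))

theorem finprod_shift (f : ℤ → A[X]) :
    (∏ᶠ n : {n : ℤ // Odd n}, f (n + 1)) = ∏ᶠ n : {n : ℤ // Even n}, f n := by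
  let e : {n : ℤ // Odd n} ≃ {n : ℤ // Even n} :=
    (Equiv.addRight (1 : ℤ)).subtypeEquiv fun n => by
      simp [Equiv.coe_addRight, parity_simps]
  exact finprod_comp e (g := fun n : {n : ℤ // Even n} => f n) e.bijective

theorem finprod_shift' (f : ℤ → A[X]) :
    (∏ᶠ n : {n : ℤ // Even n}, f (n + 1)) = ∏ᶠ n : {n : ℤ // Odd n}, f n := by
  let e : {n : ℤ // Even n} ≃ {n : ℤ // Odd n} :=
    (Equiv.addRight (1 : ℤ)).subtypeEquiv fun n => by
      simp [Equiv.coe_addRight, parity_simps]
  exact finprod_comp e (g := fun n : {n : ℤ // Odd n} => f n) e.bijective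

/-- Let A be a commutative ring, K and K' bounded cochain complexes of finite free A-modules with
endomorphisms u and u', and suppose (K, u) and (K', u') are isomorphic in the derived category D(A):
there is an isomorphism K ≅ K' in D(A) intertwining the images of u and u'. Then det(1 - u t, K) =
det(1 - u' t, K'), where det(1 - u t, K) = ∏ᵢ det(1 - u t, Kⁱ)^{(-1)^i}; the equality is stated
cross-multiplied, as ∏_{i even} det(1 - u t, Kⁱ) · ∏_{i odd} det(1 - u' t, K'ⁱ) = ∏_{i odd} det(1 -
u t, Kⁱ) · ∏_{i even} det(1 - u' t, K'ⁱ) in A[t]. (The source works with finite projective modules;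
finite free is the special case stated here.) -/
theorem result (A : Type u) [CommRing A]
    (K K' : CochainComplex (ModuleCat.{u} A) ℤ) (a b : ℤ) [K.IsStrictlyGE a] [K.IsStrictlyLE b] [K'.IsStrictlyGE a] [K'.IsStrictlyLE b]
    (hK : ∀ i : ℤ, Module.Finite A (K.X i) ∧ Module.Free A (K.X i)) (hK' : ∀ i : ℤ, Module.Finite A (K'.X i) ∧ Module.Free A (K'.X i))
    (u : K ⟶ K) (u' : K' ⟶ K') (φ : DerivedCategory.Q.obj K ≅ DerivedCategory.Q.obj K')
    (hφ : DerivedCategory.Q.map u ≫ φ.hom = φ.hom ≫ DerivedCategory.Q.map u') :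
    SGA4h.detEven K u * SGA4h.detOdd K' u' = SGA4h.detOdd K u * SGA4h.detEven K' u' := by
  have hKp : ∀ i, Module.Free A (K.X i) := fun i => (hK i).2
  have hKf : ∀ i, Module.Finite A (K.X i) := fun i => (hK i).1
  have hKp' : ∀ i, Module.Free A (K'.X i) := fun i => (hK' i).2
  have hKf' : ∀ i, Module.Finite A (K'.X i) := fun i => (hK' i).1
  have : ∀ i, Projective (K.X i) := fun i => inferInstance
  have : ∀ i, Projective (K'.X i) := fun i => inferInstance
  have : K.IsKProjective := CochainComplex.isKProjective_of_projective K b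
  obtain ⟨γh, hγh⟩ := (CochainComplex.IsKProjective.Qh_map_bijective K
    ((HomotopyCategory.quotient (ModuleCat.{u} A) (ComplexShape.up ℤ)).obj K')).surjective φ.hom
  obtain ⟨γ, rfl⟩ := (HomotopyCategory.quotient (ModuleCat.{u} A) (ComplexShape.up ℤ)).map_surjective γh
  have hγ : DerivedCategory.Q.map γ = φ.hom := hγh
  have hqis : QuasiIso γ := by
    rw [← DerivedCategory.isIso_Q_map_iff_quasiIso, hγ]; infer_instance
  let H : Homotopy (u ≫ γ) (γ ≫ u') := HomotopyCategory.homotopyOfEq _ _
    ((CochainComplex.IsKProjective.Qh_map_bijective K _).injective (by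
      show DerivedCategory.Q.map (u ≫ γ) = DerivedCategory.Q.map (γ ≫ u')
      rw [Functor.map_comp, Functor.map_comp, hγ, hφ]))
  let C := CochainComplex.mappingCone γ
  let w : C ⟶ C := CochainComplex.mappingCone.mapOfHomotopy H.symm
  have eC : ∀ i, C.X i ≅ ModuleCat.of A (K.X (i + 1) × K'.X i) := fun i =>
    (HomologicalComplex.homotopyCofiber.XIsoBiprod γ i (i + 1) rfl) ≪≫ ModuleCat.biprodIsoProd _ _
  have hCf : ∀ i, Module.Free A (C.X i) := fun i => Module.Free.of_equiv (eC i).toLinearEquiv.symm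
  have hCfin : ∀ i, Module.Finite A (C.X i) := fun i =>
    have : Module.Finite A (ModuleCat.of A (K.X (i + 1) × K'.X i)) := inferInstanceAs (Module.Finite A (K.X (i + 1) × K'.X i))
    Module.Finite.equiv (eC i).toLinearEquiv.symm
  have : ∀ i, Projective (C.X i) := fun i => inferInstance
  have hK0 : ∀ n, n < a ∨ b < n → Subsingleton (K.X n) := fun n hn => ModuleCat.subsingleton_of_isZero
    (hn.elim (fun h => K.isZero_of_isStrictlyGE a n h) (fun h => K.isZero_of_isStrictlyLE b n h))
  have hK0' : ∀ n, n < a ∨ b < n → Subsingleton (K'.X n) := fun n hn => ModuleCat.subsingleton_of_isZero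
    (hn.elim (fun h => K'.isZero_of_isStrictlyGE a n h) (fun h => K'.isZero_of_isStrictlyLE b n h))
  have hC0 : ∀ n, n < a - 1 ∨ b < n → Subsingleton (C.X n) := fun n hn => by
    have := hK0 (n + 1) (by omega)
    have := hK0' n (by omega)
    exact (eC n).toLinearEquiv.toEquiv.subsingleton
  have : C.IsStrictlyLE b := by
    rw [CochainComplex.isStrictlyLE_iff]
    intro i hi
    exact ModuleCat.isZero_iff_subsingleton.mpr (hC0 i (Or.inr hi))
  have : C.IsKProjective := CochainComplex.isKProjective_of_projective C b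
  have hacy : C.Acyclic := by
    have hiso : IsIso (DerivedCategory.Q.map γ) := by rw [hγ]; infer_instance
    have hz : IsZero (DerivedCategory.Q.obj C) :=
      (Pretriangulated.Triangle.isZero₃_iff_isIso₁ _ (DerivedCategory.mappingCone_triangle_distinguished γ)).mpr hiso
    intro i
    rw [HomologicalComplex.exactAt_iff_isZero_homology]
    exact IsZero.of_iso (Functor.map_isZero (DerivedCategory.homologyFunctor _ i) hz)
      ((DerivedCategory.homologyFunctorFactors (ModuleCat.{u} A) i).app C).symm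
  let h := CochainComplex.IsKProjective.homotopyZero (𝟙 C) hacy
  let dK : ℤ → A[X] := fun n => dos (u.f n).hom
  let dK' : ℤ → A[X] := fun n => dos (u'.f n).hom
  let δ : ℤ → A[X] := fun n => LinearMap.det (LinearMap.id +
    (-((X : A[X]) • (w.f n).hom.baseChange A[X])) ∘ₗ (C.d (n - 1) n).hom.baseChange A[X] ∘ₗ
      (h.hom n (n - 1)).hom.baseChange A[X])
  have hsum : ∀ n, dos (w.f n).hom = dK' n * dK (n + 1) := by
    intro n
    have hid : ∀ x : C.X n,
        ((CochainComplex.mappingCone.inl γ).v (n + 1) n (by omega)).hom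
          (((CochainComplex.mappingCone.fst γ).1.v n (n + 1) rfl).hom x) +
        ((CochainComplex.mappingCone.inr γ).f n).hom
          (((CochainComplex.mappingCone.snd γ).v n n (add_zero n)).hom x) = x := fun x =>
      LinearMap.congr_fun (congrArg ModuleCat.Hom.hom (CochainComplex.mappingCone.id_X γ n (n + 1) rfl)) x
    refine dos_exact ((CochainComplex.mappingCone.inr γ).f n).hom
      ((CochainComplex.mappingCone.fst γ).1.v n (n + 1) rfl).hom ?_ ?_ ?_ _ _ _ ?_ ?_
    · refine Function.LeftInverse.injective (g := ((CochainComplex.mappingCone.snd γ).v n n (add_zero n)).hom) fun x => ?_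
      exact LinearMap.congr_fun (congrArg ModuleCat.Hom.hom (CochainComplex.mappingCone.inr_f_snd_v γ n)) x
    · intro x
      refine ⟨fun hx => ⟨_, by simpa [hx] using hid x⟩, ?_⟩
      rintro ⟨y, rfl⟩
      exact LinearMap.congr_fun (congrArg ModuleCat.Hom.hom (CochainComplex.mappingCone.inr_f_fst_v γ n (n + 1) rfl)) y
    · refine fun y => ⟨((CochainComplex.mappingCone.inl γ).v (n + 1) n (by omega)).hom y, ?_⟩
      exact LinearMap.congr_fun (congrArg ModuleCat.Hom.hom (CochainComplex.mappingCone.inl_v_fst_v γ (n + 1) n rfl)) y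
    · rw [← ModuleCat.hom_comp, ← ModuleCat.hom_comp]
      congr 1
      simp [w, CochainComplex.mappingCone.mapOfHomotopy]
    · rw [← ModuleCat.hom_comp, ← ModuleCat.hom_comp]
      congr 1
      simp [w, CochainComplex.mappingCone.mapOfHomotopy,
        CochainComplex.mappingCone.ext_from_iff γ (n + 1) n rfl]
  have hsplit : ∀ n, dos (w.f n).hom = δ n * δ (n + 1) := by
    intro n
    show LinearMap.det _ = _
    refine (congrArg LinearMap.det (sub_eq_add_neg LinearMap.id ((X : A[X]) • (w.f n).hom.baseChange A[X]))).trans ?_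
    have e : ∀ (m : ℤ) (hm : n + 1 = m), LinearMap.det (LinearMap.id + (-((X : A[X]) • (w.f m).hom.baseChange A[X])) ∘ₗ
        (C.d n m).hom.baseChange A[X] ∘ₗ (h.hom m n).hom.baseChange A[X]) = δ m := by
      rintro m rfl
      have : n + 1 - 1 = n := by omega
      simp only [δ]
      rw [this]
    rw [← e (n + 1) rfl]
    refine det_step ((C.d (n - 1) n).hom.baseChange A[X]) ((C.d n (n + 1)).hom.baseChange A[X])
      ((h.hom n (n - 1)).hom.baseChange A[X]) ((h.hom (n + 1) n).hom.baseChange A[X]) ?_ ?_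
      (-((X : A[X]) • (w.f n).hom.baseChange A[X])) (-((X : A[X]) • (w.f (n + 1)).hom.baseChange A[X]))
      (-((X : A[X]) • (w.f (n - 1)).hom.baseChange A[X])) ?_ ?_
    · rw [← LinearMap.baseChange_comp, ← ModuleCat.hom_comp, C.d_comp_d]; simp
    · rw [← LinearMap.baseChange_comp, ← LinearMap.baseChange_comp, ← LinearMap.baseChange_add,
        ← ModuleCat.hom_comp, ← ModuleCat.hom_comp, ← ModuleCat.hom_add]
      have hc := h.comm n
      rw [dNext_eq _ (show (ComplexShape.up ℤ).Rel n (n + 1) from rfl),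
        prevD_eq _ (show (ComplexShape.up ℤ).Rel (n - 1) n by simp)] at hc
      simp only [HomologicalComplex.id_f, HomologicalComplex.zero_f, add_zero] at hc
      rw [add_comm, ← hc]
      simp
    · rw [LinearMap.neg_comp, LinearMap.comp_neg, LinearMap.smul_comp, LinearMap.comp_smul,
        ← LinearMap.baseChange_comp, ← LinearMap.baseChange_comp, ← ModuleCat.hom_comp,
        ← ModuleCat.hom_comp, w.comm]
    · rw [LinearMap.neg_comp, LinearMap.comp_neg, LinearMap.smul_comp, LinearMap.comp_smul,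
        ← LinearMap.baseChange_comp, ← LinearMap.baseChange_comp, ← ModuleCat.hom_comp,
        ← ModuleCat.hom_comp, w.comm]
  have fK : ∀ n, n < a ∨ b < n → dK n = 1 := fun n hn => (haveI := hK0 n hn; dos_of_subsingleton _)
  have fK' : ∀ n, n < a ∨ b < n → dK' n = 1 := fun n hn => (haveI := hK0' n hn; dos_of_subsingleton _)
  have fδ : ∀ n, n < a - 1 ∨ b < n → δ n = 1 := fun n hn => by
    have := hC0 n hn
    have : Subsingleton (A[X] ⊗[A] C.X n) := inferInstance
    simp only [δ, Subsingleton.elim (LinearMap.id +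
      (-((X : A[X]) • (w.f n).hom.baseChange A[X])) ∘ₗ (C.d (n - 1) n).hom.baseChange A[X] ∘ₗ
        (h.hom n (n - 1)).hom.baseChange A[X]) LinearMap.id, LinearMap.det_id]
  have fK1 : ∀ n, n < a - 1 ∨ b < n → dK (n + 1) = 1 := fun n hn => fK _ (by omega)
  have fδ1 : ∀ n, n < a - 2 ∨ b < n → δ (n + 1) = 1 := fun n hn => fδ _ (by omega)
  show (∏ᶠ i : {i : ℤ // Even i}, dK i) * (∏ᶠ i : {i : ℤ // Odd i}, dK' i) =
    (∏ᶠ i : {i : ℤ // Odd i}, dK i) * (∏ᶠ i : {i : ℤ // Even i}, dK' i)
  rw [← finprod_shift dK, ← finprod_shift' dK,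
    ← finprod_mul_distrib (finite_mulSupport (f := fun n => dK (n + 1)) _ _ fK1 _) (finite_mulSupport (f := dK') _ _ fK' _),
    ← finprod_mul_distrib (finite_mulSupport (f := fun n => dK (n + 1)) _ _ fK1 _) (finite_mulSupport (f := dK') _ _ fK' _)]
  simp only [mul_comm (dK (_ + 1)), ← hsum, hsplit]
  rw [finprod_mul_distrib (finite_mulSupport (f := δ) _ _ fδ _) (finite_mulSupport (f := fun n => δ (n + 1)) _ _ fδ1 _),
    finprod_mul_distrib (finite_mulSupport (f := δ) _ _ fδ _) (finite_mulSupport (f := fun n => δ (n + 1)) _ _ fδ1 _),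
    finprod_shift δ, finprod_shift' δ, mul_comm]

end Groth.Agent.S3139
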