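import Groth.Statements.S3140
-- import your own Groth.Agent.* helpers here

set_option autoImplicit false
universe u
open RingTheory.Sequence
open SGA4h

namespace Groth.Agent.S3140

theorem smul_top_eq {A : Type u} [CommRing A] (I : Ideal A) : (I • ⊤ : Submodule A A) = I := by
  rw [smul_eq_mul, Ideal.mul_top]

theorem isSMulRegular_quot_iff {A : Type u} [CommRing A] (J : Ideal A) (x : A) :
    IsSMulRegular (A ⧸ (J • ⊤ : Submodule A A)) x ↔ ∀ y, x * y ∈ J → y ∈ J := by
  rw [isSMulRegular_iff_right_eq_zero_of_smul]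
  constructor
  · intro h y hy
    have := h (Submodule.Quotient.mk y) (by
      rw [← Submodule.Quotient.mk_smul, Submodule.Quotient.mk_eq_zero, smul_top_eq]; exact hy)
    rwa [Submodule.Quotient.mk_eq_zero, smul_top_eq] at this
  · intro h m
    induction m using Submodule.Quotient.induction_on with
    | H y =>
      rw [← Submodule.Quotient.mk_smul, Submodule.Quotient.mk_eq_zero, Submodule.Quotient.mk_eq_zero,
        smul_top_eq]
      exact h y

theorem isWeaklyRegular_concat {A : Type u} [CommRing A] (l : List A) (x : A) :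
    IsWeaklyRegular A (l ++ [x]) ↔
      IsWeaklyRegular A l ∧ ∀ y, x * y ∈ Ideal.ofList l → y ∈ Ideal.ofList l := by
  rw [isWeaklyRegular_append_iff, isWeaklyRegular_singleton_iff, isSMulRegular_quot_iff]

theorem mem_maximalIdeal {A : Type u} [CommRing A] [IsLocalRing A] {l : List A} (h : IsRegular A l)
    {r : A} (hr : r ∈ l) : r ∈ IsLocalRing.maximalIdeal A := by
  have : Ideal.ofList l ≠ ⊤ := fun e => h.top_ne_smul (by rw [smul_top_eq, e])
  exact IsLocalRing.le_maximalIdeal this (Ideal.subset_span hr)

theorem regular_last {A : Type u} [CommRing A] [IsLocalRing A] {l : List A} {x : A}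
    (h : IsRegular A (l ++ [x])) : ¬ (Ideal.ofList (l ++ [x]) ≤
      Ideal.ofList l ⊔ IsLocalRing.maximalIdeal A • Ideal.ofList (l ++ [x])) := by
  intro hle
  have h1 : Ideal.ofList (l ++ [x]) ≤ Ideal.ofList l :=
    Submodule.le_of_le_smul_of_le_jacobson_bot (Submodule.fg_span (List.finite_toSet _))
      (IsLocalRing.maximalIdeal_le_jacobson _) hle
  have hx : x ∈ Ideal.ofList l := h1 (Ideal.subset_span (by simp))
  have h2 : (1 : A) ∈ Ideal.ofList l :=
    ((isWeaklyRegular_concat l x).mp h.toIsWeaklyRegular).2 1 (by rwa [mul_one])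
  refine h.top_ne_smul ?_
  rw [smul_top_eq, eq_comm, Ideal.eq_top_iff_one, Ideal.ofList_append]
  exact Ideal.mem_sup_left h2

theorem regular_replace_last {A : Type u} [CommRing A] [IsLocalRing A] {l : List A} {x z : A}
    (h : IsRegular A (l ++ [x])) (hz : z ∈ Ideal.ofList (l ++ [x]))
    (hz' : z ∉ Ideal.ofList l ⊔ IsLocalRing.maximalIdeal A • Ideal.ofList (l ++ [x])) :
    IsRegular A (l ++ [z]) ∧ Ideal.ofList (l ++ [z]) = Ideal.ofList (l ++ [x]) := by
  rw [Ideal.ofList_append, Ideal.ofList_singleton, Submodule.mem_sup] at hz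
  obtain ⟨j, hj, y, hy, rfl⟩ := hz
  obtain ⟨c, rfl⟩ := Ideal.mem_span_singleton'.mp hy
  have hc : IsUnit c := by
    by_contra hc
    exact hz' (Submodule.add_mem_sup hj (Submodule.smul_mem_smul
      ((IsLocalRing.mem_maximalIdeal c).mpr hc) (Ideal.subset_span (by simp))))
  have heq : Ideal.ofList (l ++ [j + c * x]) = Ideal.ofList (l ++ [x]) := by
    simp only [Ideal.ofList_append, Ideal.ofList_singleton]
    refine le_antisymm (sup_le le_sup_left ?_) (sup_le le_sup_left ?_) <;>
      rw [Ideal.span_singleton_le_iff_mem]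
    · exact Submodule.add_mem_sup hj (Ideal.mem_span_singleton'.mpr ⟨c, rfl⟩)
    · obtain ⟨d, hd⟩ := hc.exists_left_inv
      have : d * (j + c * x) + (-(d * j)) = x := by
        rw [mul_add, ← mul_assoc d c x, hd]; ring
      have hm : d * (j + c * x) + (-(d * j)) ∈ Ideal.ofList l ⊔ Ideal.span {j + c * x} :=
        add_mem (Ideal.mem_sup_right (Ideal.mul_mem_left _ _ (Ideal.mem_span_singleton_self _)))
        (Ideal.mem_sup_left (neg_mem (Ideal.mul_mem_left _ _ hj)))
      rwa [this] at hm
  refine ⟨⟨(isWeaklyRegular_concat _ _).mpr ?_, by rw [heq]; exact h.top_ne_smul⟩, heq⟩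
  obtain ⟨hl, hx⟩ := (isWeaklyRegular_concat l x).mp h.toIsWeaklyRegular
  refine ⟨hl, fun y hy => hx y ?_⟩
  have h1 : c * (x * y) ∈ Ideal.ofList l := by
    have := sub_mem hy (Ideal.mul_mem_right y _ hj)
    convert this using 1; ring
  exact (Ideal.unit_mul_mem_iff_mem _ hc).mp h1

/-- Elementary steps between regular sequences generating `I`. -/
def Step {A : Type u} [CommRing A] (I : Ideal A) (w w' : List A) : Prop :=
  (IsRegular A w' ∧ Ideal.ofList w' = I) ∧
    (w.Perm w' ∨ (w.length = w'.length ∧ w.dropLast = w'.dropLast))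

theorem connected {A : Type u} [CommRing A] [IsLocalRing A] [IsNoetherianRing A] (I : Ideal A) :
    ∀ (n : ℕ) (p u v : List A), u.length = n → IsRegular A (p ++ u) → Ideal.ofList (p ++ u) = I →
      IsRegular A (p ++ v) → Ideal.ofList (p ++ v) = I →
      Relation.ReflTransGen (Step I) (p ++ u) (p ++ v) := by
  intro n
  induction n with
  | zero =>
    intro p u v hlen hu hu' hv hv'
    obtain rfl := List.length_eq_zero_iff.mp hlen
    rcases List.eq_nil_or_concat v with rfl | ⟨v', y, rfl⟩
    · exact .refl
    · rw [List.concat_eq_append, ← List.append_assoc] at hv hv'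
      exfalso
      refine regular_last hv ?_
      rw [hv', ← hu', List.append_nil]
      exact le_trans (Ideal.span_mono fun r (hr : r ∈ p) => List.mem_append_left v' hr) le_sup_left
  | succ n ih =>
    intro p u v hlen hu hu' hv hv'
    rcases List.eq_nil_or_concat u with rfl | ⟨u', x, rfl⟩
    · simp at hlen
    rcases List.eq_nil_or_concat v with rfl | ⟨v', y, rfl⟩
    · exfalso
      rw [List.concat_eq_append, ← List.append_assoc] at hu hu'
      refine regular_last hu ?_
      rw [hu', ← hv', List.append_nil]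
      exact le_trans (Ideal.span_mono fun r (hr : r ∈ p) => List.mem_append_left u' hr) le_sup_left
    rw [List.concat_eq_append, ← List.append_assoc] at hu hu' hv hv'
    rw [List.concat_eq_append, List.concat_eq_append, ← List.append_assoc, ← List.append_assoc]
    let K₁ := Ideal.ofList (p ++ u') ⊔ IsLocalRing.maximalIdeal A • I
    let K₂ := Ideal.ofList (p ++ v') ⊔ IsLocalRing.maximalIdeal A • I
    obtain ⟨a, haI, ha⟩ : ∃ a ∈ I, a ∉ K₁ :=
      Set.not_subset.mp (fun h => regular_last hu (by rw [hu']; exact h))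
    obtain ⟨b, hbI, hb⟩ : ∃ b ∈ I, b ∉ K₂ :=
      Set.not_subset.mp (fun h => regular_last hv (by rw [hv']; exact h))
    obtain ⟨z, hzI, hz1, hz2⟩ : ∃ z ∈ I, z ∉ K₁ ∧ z ∉ K₂ := by
      by_cases ha2 : a ∈ K₂
      · by_cases hb1 : b ∈ K₁
        · exact ⟨a + b, add_mem haI hbI, fun h => ha (by simpa using sub_mem h hb1),
            fun h => hb (by simpa using sub_mem h ha2)⟩
        · exact ⟨b, hbI, hb1, hb⟩
      · exact ⟨a, haI, ha, ha2⟩
    obtain ⟨hu1, hu1'⟩ := regular_replace_last hu (hu'.symm ▸ hzI) (by rw [hu']; exact hz1)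
    obtain ⟨hv1, hv1'⟩ := regular_replace_last hv (hv'.symm ▸ hzI) (by rw [hv']; exact hz2)
    have hpu : (p ++ u' ++ [z]).Perm (p ++ [z] ++ u') := by
      simp only [List.append_assoc]; exact (List.perm_append_comm).append_left p
    have hpv : (p ++ v' ++ [z]).Perm (p ++ [z] ++ v') := by
      simp only [List.append_assoc]; exact (List.perm_append_comm).append_left p
    have hu2 := IsLocalRing.isRegular_of_perm hu1 hpu
    have hv2 := IsLocalRing.isRegular_of_perm hv1 hpv
    have hu2' : Ideal.ofList (p ++ [z] ++ u') = I := by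
      rw [← hu', ← hu1']
      exact congrArg Ideal.span (Set.ext fun _ => hpu.symm.mem_iff)
    have hv2' : Ideal.ofList (p ++ [z] ++ v') = I := by
      rw [← hv', ← hv1']
      exact congrArg Ideal.span (Set.ext fun _ => hpv.symm.mem_iff)
    refine (Relation.ReflTransGen.single ⟨⟨hu1, hu1'.trans hu'⟩, Or.inr ⟨by simp, by simp⟩⟩).trans
      ((Relation.ReflTransGen.single ⟨⟨hu2, hu2'⟩, Or.inl hpu⟩).trans
      ((ih (p ++ [z]) u' v' (by simpa using hlen) hu2 hu2' hv2 hv2').trans
      ((Relation.ReflTransGen.single ⟨⟨hv1, hv1'.trans hv'⟩, Or.inl hpv.symm⟩).trans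
      (Relation.ReflTransGen.single ⟨⟨hv, hv'⟩, Or.inr ⟨by simp, by simp⟩⟩))))

/-- Let A be a Noetherian local ring and u, v two regular sequences of elements of A generating the same
ideal. Then there is a finite chain of regular sequences generating that same ideal, starting at u
and ending at v, in which each sequence is obtained from the previous one either by a permutation or
by changing only its last element. -/
theorem result (A : Type u) [CommRing A] [IsLocalRing A] [IsNoetherianRing A]
    (u v : List A) (hu : IsRegular A u) (hv : IsRegular A v) (huv : Ideal.span {x | x ∈ u} = Ideal.span {x | x ∈ v}) :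
    ∃ ws : List (List A), ws.head? = some u ∧ ws.getLast? = some v ∧
      (∀ w ∈ ws, IsRegular A w ∧ Ideal.span {x | x ∈ w} = Ideal.span {x | x ∈ u}) ∧
      List.IsChain (fun w w' : List A => w.Perm w' ∨ (w.length = w'.length ∧ w.dropLast = w'.dropLast)) ws := by
  have h := connected (Ideal.ofList u) u.length [] u v rfl hu rfl hv huv.symm
  simp only [List.nil_append] at h
  obtain ⟨l, hl, hlast⟩ := List.exists_isChain_cons_of_relationReflTransGen h
  refine ⟨u :: l, rfl, ?_, ?_, hl.imp fun _ _ h => h.2⟩
  · rw [List.getLast?_eq_some_getLast (List.cons_ne_nil _ _), hlast]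
  · have key : ∀ (l : List (List A)) (x : List A), (IsRegular A x ∧ Ideal.ofList x = Ideal.ofList u) →
        List.IsChain (Step (Ideal.ofList u)) (x :: l) →
        ∀ w ∈ x :: l, IsRegular A w ∧ Ideal.ofList w = Ideal.ofList u := by
      intro l
      induction l with
      | nil => intro x hx _ w hw; simp at hw; subst hw; exact hx
      | cons y l ih =>
        intro x hx hc w hw
        rw [List.isChain_cons_cons] at hc
        rcases List.mem_cons.mp hw with rfl | hw
        · exact hx
        · exact ih y hc.1.1 hc.2 w hw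
    exact key l u ⟨hu, rfl⟩ hl

end Groth.Agent.S3140
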