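import Groth.Statements.S3142
import Groth.Agent.EtSupp.TateLoc

set_option autoImplicit false
universe u
open CategoryTheory CategoryTheory.Limits AlgebraicGeometry Opposite
open EtDual

namespace Groth.Agent.S3142

/-- Let X be a Noetherian separated scheme, n an integer invertible on X, j : U ⟶ X an open immersion
with closed complement Y, and c a natural number. If the local cohomology sheaves H^p_Y(X, ℤ/n)
vanish for all p < 2c, then the local cohomology group H^{2c}_Y(X, ℤ/n(c)) is isomorphic to the
group of global sections of the local cohomology sheaf H^{2c}_Y(X, ℤ/n(c)). (The source's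
isomorphism is the edge map of the spectral sequence H^p(Y, R^q i^!) ⇒ H^{p+q}_Y; here only the
existence of an isomorphism is asserted.) -/
theorem result {X U : Scheme.{u}} [IsNoetherian X] [X.IsSeparated] (j : U ⟶ X) [IsOpenImmersion j] [EtCoh.BCCont j]
    (n : ℕ) (hn : IsUnit (n : Γ(X, ⊤))) (c : ℕ) (h : ∀ p : ℕ, p < 2 * c → IsZero ((EtDual.locCoh j p).obj (EtCoh.const X (ZMod n)))) :
    Nonempty ((EtDual.HY j (2 * c)).obj (EtDual.tate X n c) ≅
      ((EtDual.locCoh j (2 * c)).obj (EtDual.tate X n c)).obj.obj (op (EtCoh.top X))) := by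
  let Γ₀ := sheafToPresheaf X.smallEtaleTopology AddCommGrpCat.{u+1} ⋙
    (evaluation X.Etaleᵒᵖ AddCommGrpCat.{u+1}).obj (op (EtCoh.top X))
  let P := injectiveResolution (EtDual.tate X n c)
  let K := ((EtDual.secSupp j).mapHomologicalComplex _).obj P.cocomplex
  have : ∀ i, Injective (K.X i) := fun i => EtSupp.injective_secSupp j _
  have := DerFun.isIso_homologyComparison Γ₀ K (2 * c) (fun i hi =>
    (EtSupp.isZero_locCoh_iff j _ i).mp (EtSupp.TateLoc.isZero_locCoh_tate j n hn c i (h i hi)))
  refine ⟨?_ ≪≫ Γ₀.mapIso (P.isoRightDerivedObj (EtDual.secSupp j) (2 * c)).symm⟩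
  exact P.isoRightDerivedObj (EtDual.gammaSupp j) (2 * c) ≪≫ (@asIso _ _ _ _ (RDer.homologyComparison Γ₀ K (2 * c)) this)

end Groth.Agent.S3142
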