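import Groth.Statements.S3194
import Groth.Agent.ResK0.Basic
import Mathlib.Algebra.Category.ModuleCat.Kernels
import Mathlib.LinearAlgebra.FreeModule.PID
import Mathlib.LinearAlgebra.Dimension.Localization
import Mathlib.Algebra.Homology.ShortComplex.ModuleCat

set_option autoImplicit false
universe u
open CategoryTheory
open SGA6

namespace Groth.Agent.S3194

section
variable (A : Type u) [CommRing A] [IsDomain A] [IsPrincipalIdealRing A]


theorem shortExact_of_surjective {M P : Type u} [AddCommGroup M] [Module A M] [AddCommGroup P]
    [Module A P] (f : M →ₗ[A] P) (hf : Function.Surjective f) :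
    (ShortComplex.moduleCatMk (LinearMap.ker f).subtype f (by ext x; exact x.2)).ShortExact := by
  refine { exact := ?_, mono_f := ?_, epi_g := ?_ }
  · refine ShortComplex.Exact.moduleCat_of_range_eq_ker _ _ ?_
    simp
  · exact (ModuleCat.mono_iff_injective _).mpr Subtype.val_injective
  · exact (ModuleCat.epi_iff_surjective _).mpr hf

theorem cl_surj {M P : Type u} [AddCommGroup M] [Module A M] [AddCommGroup P] [Module A P]
    [Module.Finite A M] [Module.Finite A P] (f : M →ₗ[A] P) (hf : Function.Surjective f) :
    KZero.clSub (fun M : ModuleCat.{u} A => Module.Finite A M) (ModuleCat.of A M) = KZero.clSub (fun M : ModuleCat.{u} A => Module.Finite A M) (ModuleCat.of A (LinearMap.ker f)) + KZero.clSub (fun M : ModuleCat.{u} A => Module.Finite A M) (ModuleCat.of A P) :=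
  Groth.Agent.ResK0.Basic.clSub_add _ (shortExact_of_surjective A f hf)
    (show Module.Finite A (LinearMap.ker f) from inferInstance) (show Module.Finite A M from inferInstance) (show Module.Finite A P from inferInstance)

theorem cl_zero {Z : Type u} [AddCommGroup Z] [Module A Z] [Subsingleton Z] :
    KZero.clSub (fun M : ModuleCat.{u} A => Module.Finite A M) (ModuleCat.of A Z) = 0 := by
  have hf : Module.Finite A Z := inferInstance
  have hz : Limits.IsZero (ModuleCat.of A Z) := ModuleCat.isZero_of_subsingleton _
  have hs : (ShortComplex.mk (𝟙 (ModuleCat.of A Z)) (0 : ModuleCat.of A Z ⟶ ModuleCat.of A Z)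
      (by simp)).ShortExact :=
    have : Epi (0 : ModuleCat.of A Z ⟶ ModuleCat.of A Z) := ⟨fun _ _ _ => hz.eq_of_src _ _⟩
    { exact := ShortComplex.exact_of_isZero_X₂ _ hz
      mono_f := inferInstance
      epi_g := inferInstance }
  have := Groth.Agent.ResK0.Basic.clSub_add (fun M : ModuleCat.{u} A => Module.Finite A M) hs hf hf hf
  simpa using this

theorem cl_equiv {M P : Type u} [AddCommGroup M] [Module A M] [AddCommGroup P] [Module A P]
    [Module.Finite A M] [Module.Finite A P] (e : M ≃ₗ[A] P) :
    KZero.clSub (fun M : ModuleCat.{u} A => Module.Finite A M) (ModuleCat.of A M) = KZero.clSub (fun M : ModuleCat.{u} A => Module.Finite A M) (ModuleCat.of A P) := by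
  have : Subsingleton (LinearMap.ker (e : M →ₗ[A] P)) := by
    rw [LinearEquiv.ker]; infer_instance
  rw [cl_surj A (e : M →ₗ[A] P) e.surjective, cl_zero A, zero_add]

theorem cl_pi : ∀ n : ℕ, KZero.clSub (fun M : ModuleCat.{u} A => Module.Finite A M) (ModuleCat.of A (Fin n → A)) = (n : ℤ) • KZero.clSub (fun M : ModuleCat.{u} A => Module.Finite A M) (ModuleCat.of A A)
  | 0 => by rw [cl_zero A]; simp
  | n + 1 => by
    let f : (Fin (n + 1) → A) →ₗ[A] A := LinearMap.proj 0
    let e : LinearMap.ker f ≃ₗ[A] (Fin n → A) :=
      { toFun := fun x => Fin.tail x.1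
        map_add' := fun _ _ => rfl
        map_smul' := fun _ _ => rfl
        invFun := fun y => ⟨Fin.cons 0 y, by simp [f]⟩
        left_inv := fun x => by
          apply Subtype.ext
          have hx : x.1 0 = 0 := x.2
          calc Fin.cons 0 (Fin.tail x.1) = Fin.cons (x.1 0) (Fin.tail x.1) := by rw [hx]
            _ = x.1 := Fin.cons_self_tail _
        right_inv := fun y => Fin.tail_cons _ _ }
    rw [cl_surj A f (fun a => ⟨fun _ => a, rfl⟩), cl_equiv A e, cl_pi n, Nat.cast_succ, add_smul,
      one_smul]

end

/-- Let A be a principal ideal domain and K_•(Spec A) = K₀ of the category of finitely generated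
A-modules (free abelian group on finitely generated modules modulo short exact sequences). The
homomorphism ℤ ⟶ K_•(Spec A) sending k to k·[A] is bijective. -/
theorem result (A : Type u) [CommRing A] [IsDomain A] [IsPrincipalIdealRing A] :
    Function.Bijective (fun k : ℤ => k • KZero.clSub (fun M : ModuleCat.{u} A => Module.Finite A M) (ModuleCat.of A A)) := by
  let P : ObjectProperty (ModuleCat.{u} A) := fun M => Module.Finite A M
  let r₀ : FreeAbelianGroup (Subtype P) →+ ℤ :=
    FreeAbelianGroup.lift fun M => (Module.finrank A M.1 : ℤ)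
  have hr : KZero.relSub P ≤ r₀.ker := by
    rw [KZero.relSub, AddSubgroup.closure_le]
    rintro _ ⟨S, h₁, h₂, h₃, hS, rfl⟩
    simp only [SetLike.mem_coe, AddMonoidHom.mem_ker, map_sub, r₀, FreeAbelianGroup.lift_apply_of]
    have : Module.Finite A S.X₁ := h₁
    have : Module.Finite A S.X₂ := h₂
    have : Module.Finite A S.X₃ := h₃
    have hinj : Function.Injective S.f.hom := hS.moduleCat_injective_f
    have hsur : Function.Surjective S.g.hom := hS.moduleCat_surjective_g
    have h := Submodule.finrank_quotient_add_finrank (LinearMap.ker S.g.hom)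
    rw [(S.g.hom.quotKerEquivOfSurjective hsur).finrank_eq,
      ← hS.exact.moduleCat_range_eq_ker, LinearMap.finrank_range_of_inj hinj] at h
    omega
  let r : KZero.K0sub P →+ ℤ := QuotientAddGroup.lift _ r₀ hr
  refine ⟨fun a b h => ?_, fun x => ?_⟩
  · have hA : r (KZero.clSub P (ModuleCat.of A A)) = 1 := by
      have hf : P (ModuleCat.of A A) := inferInstanceAs (Module.Finite A A)
      simp only [KZero.clSub, dif_pos hf]
      show r₀ (.of _) = 1
      simp [r₀]
    have := congrArg r h
    simpa [P, map_zsmul, hA] using this
  · have hmem : ∀ y, y ∈ (zmultiplesHom (KZero.K0sub P) (KZero.clSub P (ModuleCat.of A A))).range := by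
      intro y
      induction y using QuotientAddGroup.induction_on with
      | H z =>
        induction z using FreeAbelianGroup.induction_on with
        | zero => exact zero_mem _
        | of M =>
          have hM : Module.Finite A M.1 := M.2
          obtain ⟨n, f, hf⟩ := Module.Finite.exists_fin' A M.1
          obtain ⟨m, b⟩ := Submodule.basisOfPid (Pi.basisFun A (Fin n)) (LinearMap.ker f)
          have h1 := cl_surj A f hf
          rw [cl_pi, cl_equiv A b.equivFun, cl_pi] at h1
          refine ⟨(n : ℤ) - m, ?_⟩
          simp only [KZero.clSub, dif_pos hM] at h1 ⊢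
          simp only [zmultiplesHom_apply, sub_smul]
          rw [sub_eq_iff_eq_add']
          exact h1
        | neg M h => rw [QuotientAddGroup.mk_neg]; exact neg_mem h
        | add M N h h' => rw [QuotientAddGroup.mk_add]; exact add_mem h h'
    obtain ⟨k, hk⟩ := hmem x
    exact ⟨k, hk⟩

end Groth.Agent.S3194
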