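import Groth.Statements.S3195
import Groth.Agent.Gor.KoszulBaseChange
import Groth.Agent.LocCoh.TorLES
import Groth.Agent.KReg44.Append
import Groth.Agent.KosCone.Basic
import Mathlib.LinearAlgebra.ExteriorPower.Basis

set_option autoImplicit false
set_option backward.isDefEq.respectTransparency false
universe u
open CategoryTheory
open SGA6

namespace Groth.Agent.S3195

open Groth.Agent.LocCoh.Tor
open scoped TensorProduct MonoidalCategory

section tor

variable {A : Type u} [CommRing A]

/-- The homology of a pair of linear maps. -/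
abbrev Hq {X Y Z : Type u} [AddCommGroup X] [Module A X] [AddCommGroup Y] [Module A Y]
    [AddCommGroup Z] [Module A Z] (f : X →ₗ[A] Y) (g : Y →ₗ[A] Z) :=
  ↥(LinearMap.ker g) ⧸ (LinearMap.range f).comap (LinearMap.ker g).subtype

variable {S : ShortComplex (ModuleCat.{u} A)}

lemma nonempty_tor_one_equiv (hS : S.ShortExact) (N : ModuleCat.{u} A) [Module.Flat A S.X₂] :
    Nonempty ((T 1 S.X₃ N : Type u) ≃ₗ[A] LinearMap.ker (S.f.hom.rTensor N)) := by
  let L : (T 1 S.X₃ N : Type u) →ₗ[A] (S.X₁ : Type u) ⊗[A] N :=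
    (t0 S.X₁ N).hom.hom ∘ₗ (torδ hS 0 N).hom
  have hnat : ∀ z : (T 0 S.X₁ N : Type u), S.f.hom.rTensor N ((t0 S.X₁ N).hom.hom z) =
      (t0 S.X₂ N).hom.hom ((tf S.f 0 N).hom z) := fun z =>
    (ConcreteCategory.congr_hom (t0_naturality_left S.f N) z).symm
  have hmem : ∀ x, L x ∈ LinearMap.ker (S.f.hom.rTensor N) := fun x => by
    rw [LinearMap.mem_ker]
    exact (hnat _).trans (by rw [(tor_exact₁ hS 0 N).apply_apply_eq_zero x, map_zero])
  refine ⟨LinearEquiv.ofBijective (L.codRestrict _ hmem) ⟨?_, ?_⟩⟩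
  · rw [injective_iff_map_eq_zero]
    intro x hx
    have hx' : (t0 S.X₁ N).toLinearEquiv ((torδ hS 0 N).hom x) = 0 := congrArg Subtype.val hx
    obtain ⟨y, rfl⟩ := (tor_exact₃ hS 0 N x).mp
      ((t0 S.X₁ N).toLinearEquiv.injective (hx'.trans (map_zero _).symm))
    rw [tor_succ_eq_zero_of_flat S.X₂ 0 N y, map_zero]
  · rintro ⟨w, hw⟩
    obtain ⟨z, rfl⟩ := (t0 S.X₁ N).toLinearEquiv.surjective w
    have hz : (tf S.f 0 N).hom z = 0 :=
      (t0 S.X₂ N).toLinearEquiv.injective (((hnat z).symm.trans hw).trans (map_zero _).symm)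
    obtain ⟨x, rfl⟩ := (tor_exact₁ hS 0 N z).mp hz
    exact ⟨x, rfl⟩

lemma nonempty_tor_shift (hS : S.ShortExact) (N : ModuleCat.{u} A) [Module.Flat A S.X₂] (n : ℕ) :
    Nonempty ((T (n + 2) S.X₃ N : Type u) ≃ₗ[A] (T (n + 1) S.X₁ N : Type u)) := by
  refine ⟨LinearEquiv.ofBijective (torδ hS (n + 1) N).hom ⟨?_, ?_⟩⟩
  · rw [injective_iff_map_eq_zero]
    intro x hx
    obtain ⟨y, rfl⟩ := (tor_exact₃ hS (n + 1) N x).mp hx
    rw [tor_succ_eq_zero_of_flat S.X₂ (n + 1) N y, map_zero]
  · exact fun z => (tor_exact₁ hS (n + 1) N z).mp (tor_succ_eq_zero_of_flat S.X₂ n N _)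

lemma sc_shortExact {M₁ M₂ M₃ : Type u} [AddCommGroup M₁] [Module A M₁] [AddCommGroup M₂]
    [Module A M₂] [AddCommGroup M₃] [Module A M₃] (f : M₁ →ₗ[A] M₂) (g : M₂ →ₗ[A] M₃)
    (h : Function.Exact f g) (hf : Function.Injective f) (hg : Function.Surjective g) :
    (ShortComplex.mk (ModuleCat.ofHom f) (ModuleCat.ofHom g)
      (ModuleCat.hom_ext h.linearMap_comp_eq_zero)).ShortExact where
  exact := (ShortComplex.ShortExact.moduleCat_exact_iff_function_exact _).mpr h
  mono_f := (ModuleCat.mono_iff_injective _).mpr hf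
  epi_g := (ModuleCat.epi_iff_surjective _).mpr hg

lemma nonempty_ker_equiv {X Y Z : Type u} [AddCommGroup X] [Module A X] [AddCommGroup Y]
    [Module A Y] [AddCommGroup Z] [Module A Z] (f : X →ₗ[A] Y) (g : Y →ₗ[A] Z)
    (h : Function.Exact f g) (N : Type u) [AddCommGroup N] [Module A N] :
    Nonempty (LinearMap.ker ((LinearMap.range g).subtype.rTensor N) ≃ₗ[A]
      Hq (f.rTensor N) (g.rTensor N)) := by
  let π : Y ⊗[A] N →ₗ[A] LinearMap.range g ⊗[A] N := g.rangeRestrict.rTensor N
  have hcomp : ∀ y, (LinearMap.range g).subtype.rTensor N (π y) = g.rTensor N y := fun y => by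
    rw [← LinearMap.comp_apply, ← LinearMap.rTensor_comp]; rfl
  let φ : LinearMap.ker (g.rTensor N) →ₗ[A] LinearMap.ker ((LinearMap.range g).subtype.rTensor N) :=
    (π ∘ₗ (LinearMap.ker (g.rTensor N)).subtype).codRestrict _ fun y =>
      LinearMap.mem_ker.mpr ((hcomp _).trans y.2)
  have hφ : Function.Surjective φ := by
    rintro ⟨w, hw⟩
    obtain ⟨y, rfl⟩ := LinearMap.rTensor_surjective N g.surjective_rangeRestrict w
    exact ⟨⟨y, LinearMap.mem_ker.mpr ((hcomp y).symm.trans hw)⟩, rfl⟩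
  have hex : Function.Exact (f.rTensor N) π :=
    rTensor_exact N (fun y => by
      rw [← LinearMap.mem_ker, LinearMap.ker_rangeRestrict, h.linearMap_ker_eq]
      rfl) g.surjective_rangeRestrict
  have hker : LinearMap.ker φ =
      (LinearMap.range (f.rTensor N)).comap (LinearMap.ker (g.rTensor N)).subtype := by
    ext y
    rw [LinearMap.mem_ker, Submodule.mem_comap, ← hex.linearMap_ker_eq, LinearMap.mem_ker]
    exact Subtype.ext_iff
  let e₁ := LinearMap.quotKerEquivOfSurjective (R := A)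
    (M := LinearMap.ker (g.rTensor N))
    (M₂ := LinearMap.ker ((LinearMap.range g).subtype.rTensor N)) φ hφ
  exact ⟨e₁.symm.trans (Submodule.quotEquivOfEq _ _ hker)⟩

variable (N : ModuleCat.{u} A) (K : CochainComplex (ModuleCat.{u} A) ℤ)
  (hflat : ∀ i, Module.Flat A (K.X i))
  (hex : ∀ a b c : ℤ, a + 1 = b → b + 1 = c → b < 0 →
    Function.Exact (K.d a b).hom (K.d b c).hom)

include hflat hex in
lemma nonempty_tor_range : ∀ (n : ℕ) (b c j : ℤ), b + 1 = c → b < 0 → j = b - 1 - (n : ℤ) →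
    Nonempty ((T (n + 1) (ModuleCat.of A (LinearMap.range (K.d b c).hom)) N : Type u) ≃ₗ[A]
      Hq ((K.d (j - 1) j).hom.rTensor N) ((K.d j (j + 1)).hom.rTensor N)) := by
  intro n
  induction n with
  | zero =>
    intro b c j hbc hb hj
    obtain rfl : j = b - 1 := by simpa using hj
    haveI := hflat b
    have hS := sc_shortExact (LinearMap.range (K.d (b - 1) b).hom).subtype
      (K.d b c).hom.rangeRestrict (fun v => by
        rw [← LinearMap.mem_ker, LinearMap.ker_rangeRestrict,
          (hex (b - 1) b c (by omega) hbc hb).linearMap_ker_eq]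
        exact ⟨fun h => ⟨⟨v, h⟩, rfl⟩, fun ⟨w, hw⟩ => hw ▸ w.2⟩)
      (Submodule.injective_subtype _) (LinearMap.surjective_rangeRestrict _)
    obtain ⟨e₁⟩ := nonempty_tor_one_equiv hS N
    rw [show b - 1 + 1 = b by omega]
    obtain ⟨e₂⟩ := nonempty_ker_equiv (K.d (b - 1 - 1) (b - 1)).hom (K.d (b - 1) b).hom
      (hex _ _ _ (by omega) (by omega) (by omega)) N
    exact ⟨e₁.trans e₂⟩
  | succ n ih =>
    intro b c j hbc hb hj
    haveI := hflat b
    have hS := sc_shortExact (LinearMap.range (K.d (b - 1) b).hom).subtype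
      (K.d b c).hom.rangeRestrict (fun v => by
        rw [← LinearMap.mem_ker, LinearMap.ker_rangeRestrict,
          (hex (b - 1) b c (by omega) hbc hb).linearMap_ker_eq]
        exact ⟨fun h => ⟨⟨v, h⟩, rfl⟩, fun ⟨w, hw⟩ => hw ▸ w.2⟩)
      (Submodule.injective_subtype _) (LinearMap.surjective_rangeRestrict _)
    obtain ⟨e₁⟩ := nonempty_tor_shift hS N n
    obtain ⟨e₂⟩ := ih (b - 1) b j (by omega) (by omega) (by omega)
    exact ⟨e₁.trans e₂⟩

include hflat hex in
lemma nonempty_tor_coker (n : ℕ) (j : ℤ) (hj : j = -((n : ℤ) + 1)) :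
    Nonempty ((T (n + 1) (ModuleCat.of A ((K.X 0) ⧸ LinearMap.range (K.d (-1) 0).hom)) N : Type u) ≃ₗ[A]
      Hq ((K.d (j - 1) j).hom.rTensor N) ((K.d j (j + 1)).hom.rTensor N)) := by
  haveI := hflat 0
  have hS := sc_shortExact (LinearMap.range (K.d (-1) 0).hom).subtype
    (LinearMap.range (K.d (-1) 0).hom).mkQ (LinearMap.exact_subtype_mkQ _)
    (Submodule.injective_subtype _) (Submodule.mkQ_surjective _)
  cases n with
  | zero =>
    obtain rfl : j = -1 := by simpa using hj
    obtain ⟨e₁⟩ := nonempty_tor_one_equiv hS N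
    obtain ⟨e₂⟩ := nonempty_ker_equiv (K.d (-1 - 1) (-1)).hom (K.d (-1) 0).hom
      (hex _ _ _ (by omega) (by omega) (by omega)) N
    exact ⟨e₁.trans e₂⟩
  | succ n =>
    obtain ⟨e₁⟩ := nonempty_tor_shift hS N n
    obtain ⟨e₂⟩ := nonempty_tor_range N K hflat hex n (-1) 0 j (by omega) (by omega) (by omega)
    exact ⟨e₁.trans e₂⟩

lemma tor_iso_left {M M' : ModuleCat.{u} A} (e : M ≅ M') (n : ℕ) :
    Nonempty ((T n M N : Type u) ≃ₗ[A] (T n M' N : Type u)) :=
  ⟨(((CategoryTheory.Tor (ModuleCat.{u} A) n).mapIso e).app N).toLinearEquiv⟩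

end tor

section transfer

variable {A A' : Type u} [CommRing A] [CommRing A'] [Algebra A A'] (l : List A)

lemma nonempty_Hq_transfer (j : ℤ) (W : Type u) [AddCommGroup W] [Module A W] [Module A' W]
    [IsScalarTower A A' W]
    (ε : ((Koszul.koszul A' (l.map (algebraMap A A'))).homology j : Type u) ≃ₗ[A'] W) :
    Nonempty (Hq (((Koszul.koszul A l).d (j - 1) j).hom.rTensor A')
      (((Koszul.koszul A l).d j (j + 1)).hom.rTensor A') ≃ₗ[A] W) := by
  obtain ⟨φ, hφ⟩ : ∃ φ : A →+* A', φ = algebraMap A A' := ⟨_, rfl⟩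
  rw [← hφ] at ε
  have hinst : ‹Algebra A A'› = φ.toAlgebra :=
    Algebra.algebra_ext _ _ fun r => by rw [hφ]; rfl
  subst hinst
  letI : Algebra A A' := φ.toAlgebra
  let K := Koszul.koszul A l
  let K' := Koszul.koszul A' (l.map φ)
  obtain ⟨iso⟩ := KoszulWiebe.nonempty_koszulIso φ l
  letI : ∀ i, Module A (K'.X i) := fun i => Module.compHom _ φ
  haveI : ∀ i, IsScalarTower A A' (K'.X i) := fun i => IsScalarTower.of_compHom A A' _
  let e1 : ∀ i, A' ⊗[A] (K.X i : Type u) ≃ₗ[A'] (K'.X i : Type u) := fun i =>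
    ((HomologicalComplex.Hom.isoApp iso i).toLinearEquiv :)
  let e : ∀ i, (K.X i : Type u) ⊗[A] A' ≃ₗ[A] (K'.X i : Type u) := fun i =>
    (TensorProduct.comm A (K.X i : Type u) A').trans ((e1 i).restrictScalars A)
  have comm : ∀ i k (x : (K.X i : Type u) ⊗[A] A'),
      e k ((K.d i k).hom.rTensor A' x) = (K'.d i k).hom (e i x) := by
    intro i k x
    have h1 : TensorProduct.comm A (K.X k : Type u) A' ((K.d i k).hom.rTensor A' x) =
        (K.d i k).hom.lTensor A' (TensorProduct.comm A (K.X i : Type u) A' x) := by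
      induction x using TensorProduct.induction_on with
      | zero => simp
      | tmul m a => simp
      | add y z hy hz => simp only [map_add, hy, hz]
    change (iso.hom.f k).hom (TensorProduct.comm A (K.X k : Type u) A' _) =
      (K'.d i k).hom ((iso.hom.f i).hom (TensorProduct.comm A (K.X i : Type u) A' x))
    rw [h1]
    exact (ConcreteCategory.congr_hom (iso.hom.comm i k)
      (TensorProduct.comm A (K.X i : Type u) A' x)).symm
  let sc' := K'.sc' (j - 1) j (j + 1)
  let εH : sc'.moduleCatLeftHomologyData.H ≃ₗ[A'] W :=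
    ((K'.isoSc' (j - 1) j (j + 1) (by simp) (by simp)).symm |> fun i =>
      (sc'.moduleCatHomologyIso.symm ≪≫ ShortComplex.homologyMapIso i).toLinearEquiv).trans ε
  let f' : (K'.X (j - 1) : Type u) →ₗ[A'] (K'.X j : Type u) := (K'.d (j - 1) j).hom
  let g' : (K'.X j : Type u) →ₗ[A'] (K'.X (j + 1) : Type u) := (K'.d j (j + 1)).hom
  let π : LinearMap.ker g' →ₗ[A'] W :=
    εH.toLinearMap ∘ₗ (LinearMap.range sc'.moduleCatToCycles).mkQ
  have hπ : Function.Surjective π := εH.surjective.comp (Submodule.mkQ_surjective _)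
  have hπk : ∀ z : LinearMap.ker g', π z = 0 ↔ (z : (K'.X j : Type u)) ∈ LinearMap.range f' := by
    intro z
    refine (map_eq_zero_iff εH εH.injective).trans ((Submodule.Quotient.mk_eq_zero _).trans ?_)
    exact ⟨fun ⟨w, hw⟩ => ⟨w, congrArg Subtype.val hw⟩, fun ⟨w, hw⟩ => ⟨w, Subtype.ext hw⟩⟩
  let ψ₀ : LinearMap.ker ((K.d j (j + 1)).hom.rTensor A') →ₗ[A] LinearMap.ker g' :=
    { toFun := fun y => ⟨e j y, by
        rw [LinearMap.mem_ker, ← comm, LinearMap.mem_ker.mp y.2, map_zero]⟩
      map_add' := fun y z => Subtype.ext (map_add (e j) _ _)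
      map_smul' := fun a y => Subtype.ext (map_smul (e j) a _) }
  let ψ : LinearMap.ker ((K.d j (j + 1)).hom.rTensor A') →ₗ[A] W :=
    (π.restrictScalars A) ∘ₗ ψ₀
  have hψ : Function.Surjective ψ := by
    refine hπ.comp ?_
    rintro ⟨z, hz⟩
    obtain ⟨y, rfl⟩ := (e j).surjective z
    exact ⟨⟨y, LinearMap.mem_ker.mpr ((e (j + 1)).injective
      ((comm j (j + 1) y).trans ((LinearMap.mem_ker.mp hz).trans (map_zero _).symm)))⟩, rfl⟩
  have hψk : LinearMap.ker ψ = (LinearMap.range ((K.d (j - 1) j).hom.rTensor A')).comap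
      (LinearMap.ker ((K.d j (j + 1)).hom.rTensor A')).subtype := by
    ext y
    rw [LinearMap.mem_ker, Submodule.mem_comap]
    refine (hπk (ψ₀ y)).trans ⟨?_, ?_⟩
    · rintro ⟨w, hw⟩
      obtain ⟨w, rfl⟩ := (e (j - 1)).surjective w
      exact ⟨w, (e j).injective ((comm (j - 1) j w).trans hw)⟩
    · rintro ⟨w, hw⟩
      exact ⟨e (j - 1) w, (comm (j - 1) j w).symm.trans (congrArg (e j) hw)⟩
  exact ⟨(Submodule.quotEquivOfEq _ _ hψk.symm).trans (ψ.quotKerEquivOfSurjective hψ)⟩

end transfer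

section zeroKoszul

open CochainComplex

attribute [local instance] HasDerivedCategory.standard

variable {B : Type u} [CommRing B]

lemma nonempty_cone_zero (l : List B) (i j : ℤ) (hij : i + 1 = j) :
    Nonempty (((Koszul.koszul B (0 :: l)).homology i : Type u) ≃ₗ[B]
      ((Koszul.koszul B l).homology j : Type u) × ((Koszul.koszul B l).homology i : Type u)) := by
  let K := Koszul.koszul B l
  let r : mappingCone ((0 : B) • 𝟙 K) ⟶ K :=
    mappingCone.desc ((0 : B) • 𝟙 K) 0 (𝟙 K) (by simp)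
  have hr : mappingCone.inr ((0 : B) • 𝟙 K) ≫ r = 𝟙 K := mappingCone.inr_desc _ _ _ _
  let rH : ((Koszul.koszul B (0 :: l)).homology i : Type u) →ₗ[B] (K.homology i : Type u) :=
    (HomologicalComplex.homologyMap r i).hom
  have hrι : ∀ y, rH (KosCone.Basic.ι (0 : B) l i y) = y := fun y => by
    have h := ConcreteCategory.congr_hom
      ((HomologicalComplex.homologyMap_comp (mappingCone.inr ((0 : B) • 𝟙 K)) r i).symm.trans
        ((congrArg (fun g => HomologicalComplex.homologyMap g i) hr).trans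
          (HomologicalComplex.homologyMap_id K i))) y
    exact h
  let δ := KosCone.Basic.δ (0 : B) l i j hij
  have hδ : Function.Surjective δ := by
    intro w
    have hT := DerivedCategory.mappingCone_triangle_distinguished ((0 : B) • 𝟙 K)
    have h1 : HomologicalComplex.homologyMap (mappingCone.triangle ((0 : B) • 𝟙 K)).mor₁ j =
        (0 : B) • 𝟙 _ := KosCone.Basic.homologyMap_smul_id _ _ j
    obtain ⟨y, hy⟩ := (ShortComplex.moduleCat_exact_iff _).mp
      (CochainComplex.homologyMap_exact₁_of_distTriang _ hT i j hij) w (by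
        change (HomologicalComplex.homologyMap (mappingCone.triangle ((0 : B) • 𝟙 K)).mor₁ j).hom w = 0
        rw [h1]
        exact zero_smul B w)
    exact ⟨y, hy⟩
  refine ⟨LinearEquiv.ofBijective (δ.prod rH) ⟨?_, ?_⟩⟩
  · rw [injective_iff_map_eq_zero]
    intro x hx
    obtain ⟨y, rfl⟩ := (KosCone.Basic.δ_eq_zero_iff (0 : B) l i j hij x).mp (congrArg Prod.fst hx)
    have h2 : rH (KosCone.Basic.ι (0 : B) l i y) = 0 := congrArg Prod.snd hx
    rw [hrι] at h2
    rw [h2, map_zero]
  · rintro ⟨a, b⟩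
    obtain ⟨x, rfl⟩ := hδ a
    refine ⟨x + KosCone.Basic.ι (0 : B) l i (b - rH x), ?_⟩
    have h0 : ∀ y, δ (KosCone.Basic.ι (0 : B) l i y) = 0 := fun y =>
      (KosCone.Basic.δ_eq_zero_iff (0 : B) l i j hij _).mpr ⟨_, rfl⟩
    simp [h0, hrι]


lemma nonempty_homology_replicate (g : List B) (hg : LCI.IsKoszulRegularSeq B g) :
    ∀ r i : ℕ, Nonempty (((Koszul.koszul B (List.replicate r 0 ++ g)).homology (-(i : ℤ)) : Type u)
      ≃ₗ[B] (Fin (r.choose i) → B ⧸ Ideal.ofList g)) := by
  intro r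
  induction r with
  | zero =>
    intro i
    cases i with
    | zero =>
      obtain ⟨π, hπ, hπk⟩ := KosCone.Basic.exists_toH0 g
      exact ⟨((Submodule.quotEquivOfEq _ _ hπk.symm).trans
        (π.quotKerEquivOfSurjective hπ)).symm.trans
        (LinearEquiv.funUnique (Fin 1) B (B ⧸ Ideal.ofList g)).symm⟩
    | succ i =>
      haveI : Subsingleton ((Koszul.koszul B g).homology (-((i + 1 : ℕ) : ℤ)) : Type u) :=
        ModuleCat.subsingleton_of_isZero (hg _ (by omega))
      haveI : IsEmpty (Fin (Nat.choose 0 (i + 1))) := by rw [Nat.choose_zero_succ]; infer_instance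
      exact ⟨LinearEquiv.ofSubsingleton
        ((Koszul.koszul B g).homology (-((i + 1 : ℕ) : ℤ)) : Type u) _⟩
  | succ r ih =>
    intro i
    rw [List.replicate_succ, List.cons_append]
    cases i with
    | zero =>
      obtain ⟨e⟩ := nonempty_cone_zero (List.replicate r (0 : B) ++ g) (-((0 : ℕ) : ℤ)) 1 rfl
      obtain ⟨e₀⟩ := ih 0
      haveI : Subsingleton ((Koszul.koszul B (List.replicate r (0 : B) ++ g)).homology 1 : Type u) :=
        subsingleton_of_forall_eq 0 (KosCone.Basic.homology_eq_zero _ 1 (Or.inl one_pos))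
      let p : (((Koszul.koszul B (List.replicate r (0 : B) ++ g)).homology 1 : Type u) ×
          ((Koszul.koszul B (List.replicate r (0 : B) ++ g)).homology (-((0 : ℕ) : ℤ)) : Type u)) ≃ₗ[B]
          ((Koszul.koszul B (List.replicate r (0 : B) ++ g)).homology (-((0 : ℕ) : ℤ)) : Type u) :=
        LinearEquiv.ofBijective (LinearMap.snd B _ _)
          ⟨fun x y h => Prod.ext (Subsingleton.elim _ _) h, fun y => ⟨(0, y), rfl⟩⟩
      exact ⟨((e.trans p).trans e₀).trans
        (LinearEquiv.funCongrLeft B _ (finCongr (by rw [Nat.choose_zero_right, Nat.choose_zero_right])))⟩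
    | succ i =>
      obtain ⟨e⟩ := nonempty_cone_zero (List.replicate r (0 : B) ++ g) (-((i + 1 : ℕ) : ℤ))
        (-(i : ℤ)) (by omega)
      obtain ⟨e₁⟩ := ih i
      obtain ⟨e₂⟩ := ih (i + 1)
      exact ⟨((e.trans (e₁.prodCongr e₂)).trans
        (LinearEquiv.sumArrowLequivProdArrow _ _ B _).symm).trans
        (LinearEquiv.funCongrLeft B _
          ((finCongr (Nat.choose_succ_succ r i)).trans finSumFinEquiv.symm))⟩

end zeroKoszul

section exterior

lemma nonempty_exteriorPower_equiv {A Q : Type u} [CommRing A] [CommRing Q] [Algebra A Q]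
    (hQ : Function.Surjective (algebraMap A Q)) (r n : ℕ) :
    Nonempty ((Fin (r.choose (n + 1)) → Q) ≃ₗ[A] ⋀[A]^(n + 1) (Fin r → Q)) := by
  classical
  let f : (Fin r → A) →ₗ[A] (Fin r → Q) :=
    LinearMap.pi fun j => (Algebra.linearMap A Q) ∘ₗ LinearMap.proj j
  have hf : Function.Surjective f := fun w =>
    ⟨fun j => (hQ (w j)).choose, funext fun j => (hQ (w j)).choose_spec⟩
  let bA := (Pi.basisFun A (Fin r)).exteriorPower (n + 1)
  let bQ := (Pi.basisFun Q (Fin r)).exteriorPower (n + 1)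
  let F := exteriorPower.map (n + 1) f
  have hF : Function.Surjective F := exteriorPower.map_surjective hf
  let η : (⋀[A]^(n + 1) (Fin r → Q)) →ₗ[A] ⋀[Q]^(n + 1) (Fin r → Q) :=
    exteriorPower.alternatingMapLinearEquiv
      { (exteriorPower.ιMulti Q (n + 1) (M := Fin r → Q)).toMultilinearMap.restrictScalars A with
        map_eq_zero_of_eq' := fun v i j h hij =>
          (exteriorPower.ιMulti Q (n + 1)).map_eq_zero_of_eq v h hij }
  let Ψ : (⋀[A]^(n + 1) (Fin r → Q)) →ₗ[A] (Set.powersetCard (Fin r) (n + 1) → Q) :=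
    (bQ.equivFun.toLinearMap.restrictScalars A) ∘ₗ η
  have hbasis : ∀ s, η (F (bA s)) = bQ s := by
    intro s
    simp only [bA, bQ, exteriorPower.basis_apply, exteriorPower.ιMulti_family, F,
      exteriorPower.map_apply_ιMulti, η, exteriorPower.alternatingMapLinearEquiv_apply_ιMulti]
    change exteriorPower.ιMulti Q (n + 1) _ = exteriorPower.ιMulti Q (n + 1) _
    congr 1
    funext k
    funext m
    simp [f, Pi.basisFun_apply, Pi.single_apply, apply_ite (algebraMap A Q)]
  have hΨF : ∀ (c : Set.powersetCard (Fin r) (n + 1) → A),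
      Ψ (F (bA.equivFun.symm c)) = fun s => algebraMap A Q (c s) := by
    intro c
    have h : η (F (bA.equivFun.symm c)) = bQ.equivFun.symm fun s => algebraMap A Q (c s) := by
      simp only [Module.Basis.equivFun_symm_apply, map_sum, map_smul, hbasis, algebraMap_smul]
    change bQ.equivFun (η (F (bA.equivFun.symm c))) = _
    rw [h, LinearEquiv.apply_symm_apply]
  have hkill : ∀ a : A, algebraMap A Q a = 0 → ∀ x : ⋀[A]^(n + 1) (Fin r → Q), a • x = 0 := by
    intro a ha x
    have hx : x ∈ Submodule.span A (Set.range (exteriorPower.ιMulti A (n + 1))) := by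
      rw [exteriorPower.ιMulti_span]; trivial
    induction hx using Submodule.span_induction with
    | mem y hy =>
      obtain ⟨v, rfl⟩ := hy
      rw [← Function.update_eq_self 0 v, ← AlternatingMap.map_update_smul,
        show a • v 0 = (0 : Fin r → Q) from funext fun m => by
          rw [Pi.smul_apply, Algebra.smul_def, ha, zero_mul]; rfl]
      exact AlternatingMap.map_update_zero _ _ _
    | zero => exact smul_zero a
    | add y z _ _ hy hz => rw [smul_add, hy, hz, add_zero]
    | smul b y _ hy => rw [smul_comm, hy, smul_zero]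
  have hinj : Function.Injective Ψ := by
    rw [injective_iff_map_eq_zero]
    intro x hx
    obtain ⟨y, rfl⟩ := hF x
    obtain ⟨c, rfl⟩ := bA.equivFun.symm.surjective y
    rw [hΨF] at hx
    rw [Module.Basis.equivFun_symm_apply, map_sum]
    exact Finset.sum_eq_zero fun s _ => by
      rw [map_smul]; exact hkill _ (congrFun hx s) _
  have hsurj : Function.Surjective Ψ := fun w =>
    ⟨F (bA.equivFun.symm fun s => (hQ (w s)).choose),
      (hΨF _).trans (funext fun s => (hQ (w s)).choose_spec)⟩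
  haveI : Fintype (Set.powersetCard (Fin r) (n + 1)) := Fintype.ofFinite _
  have hcard : Fintype.card (Set.powersetCard (Fin r) (n + 1)) = r.choose (n + 1) := by
    rw [← Nat.card_eq_fintype_card, Set.powersetCard.card, Nat.card_eq_fintype_card,
      Fintype.card_fin]
  exact ⟨(LinearEquiv.funCongrLeft A Q (Fintype.equivFinOfCardEq hcard)).trans
    (LinearEquiv.ofBijective Ψ ⟨hinj, hsurj⟩).symm⟩

end exterior


/-- Let A be a commutative ring and f, g, h finite sequences of elements of A such that the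
concatenations f ++ g, f ++ h and f ++ g ++ h are Koszul-regular (their Koszul complexes are
resolutions of the quotients); put I = (f, g) and J = (f, h). Then for every i ≥ 1 the A-module
Tor_i^A(A/I, A/J) (Mathlib's Tor, left-derived in the second variable) is isomorphic to the i-th
exterior power over A of Tor_1^A(A/I, A/J). (The source takes exterior powers over O_T = A/(I+J),
which for i ≥ 1 gives the same module since Tor_1 is killed by I + J; over A the case i = 0 would
give A instead of Tor_0 = A/(I+J), so it is left out. The source states this for closed subschemes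
of a scheme locally of this form and identifies Tor_1 with the excess conormal bundle.) -/
theorem result (A : Type u) [CommRing A] (f g h : List A)
    (hfg : LCI.IsKoszulRegularSeq A (f ++ g)) (hfh : LCI.IsKoszulRegularSeq A (f ++ h)) (hfgh : LCI.IsKoszulRegularSeq A (f ++ g ++ h)) (i : ℕ) (hi : 1 ≤ i) :
    Nonempty (((CategoryTheory.Tor (ModuleCat.{u} A) i).obj (ModuleCat.of A (A ⧸ Ideal.span {x | x ∈ f ++ g}))).obj (ModuleCat.of A (A ⧸ Ideal.span {x | x ∈ f ++ h})) ≅
      ModuleCat.of A (⋀[A]^i (((CategoryTheory.Tor (ModuleCat.{u} A) 1).obj (ModuleCat.of A (A ⧸ Ideal.span {x | x ∈ f ++ g}))).obj (ModuleCat.of A (A ⧸ Ideal.span {x | x ∈ f ++ h}))))) := by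
  let J : Ideal A := Ideal.ofList (f ++ h)
  let q := algebraMap A (A ⧸ J)
  have hg' : LCI.IsKoszulRegularSeq (A ⧸ J) (g.map q) :=
    KReg44.isKoszulRegularSeq_of_append q hfh Ideal.Quotient.mk_surjective
      (Ideal.mk_ker (I := J)) (KReg44.isKoszulRegularSeq_perm
        ((List.perm_append_comm.append_right h).trans
          (List.Perm.of_eq (List.append_assoc g f h))) hfgh)
  have hmap : (f ++ g).map q = List.replicate f.length 0 ++ g.map q := by
    rw [List.map_append]
    congr 1
    refine List.eq_replicate_iff.mpr ⟨List.length_map _, fun b hb => ?_⟩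
    obtain ⟨a, ha, rfl⟩ := List.mem_map.mp hb
    exact Ideal.Quotient.eq_zero_iff_mem.mpr (Ideal.subset_span (List.mem_append_left h ha))
  let Q := (A ⧸ J) ⧸ Ideal.ofList (g.map q)
  have hQ : Function.Surjective (algebraMap A Q) :=
    Ideal.Quotient.mk_surjective.comp Ideal.Quotient.mk_surjective
  obtain ⟨eI⟩ := Gor.KoszulBaseChange.nonempty_quotient_range (f ++ g)
  have key : ∀ m : ℕ, Nonempty ((T (m + 1) (ModuleCat.of A (A ⧸ Ideal.ofList (f ++ g)))
      (ModuleCat.of A (A ⧸ J)) : Type u) ≃ₗ[A] (Fin (f.length.choose (m + 1)) → Q)) := by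
    intro m
    obtain ⟨a₁⟩ := tor_iso_left (ModuleCat.of A (A ⧸ J)) eI.toModuleIso (m + 1)
    obtain ⟨a₂⟩ := nonempty_tor_coker (ModuleCat.of A (A ⧸ J)) (Koszul.koszul A (f ++ g))
      (fun j => by
        have : Module.Projective A ((Koszul.koszul A (f ++ g)).X j) :=
          (IsProjective.iff_projective _).mpr (KoszulWiebe.projective_X (f ++ g) j)
        infer_instance)
      (fun a b c hab hbc hb => by
        have hh := ((Koszul.koszul A (f ++ g)).exactAt_iff_isZero_homology b).2 (hfg b (by omega))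
        rw [HomologicalComplex.exactAt_iff' _ a b c (by simp [← hab]) (by simp [← hbc])] at hh
        exact (ShortComplex.ShortExact.moduleCat_exact_iff_function_exact _).mp hh)
      m _ rfl
    obtain ⟨a₃⟩ := nonempty_homology_replicate (g.map q) hg' f.length (m + 1)
    rw [← hmap, show (-((m + 1 : ℕ) : ℤ)) = -((m : ℤ) + 1) by omega] at a₃
    obtain ⟨a₄⟩ := nonempty_Hq_transfer (f ++ g) (-((m : ℤ) + 1)) _ a₃
    exact ⟨(a₁.trans a₂).trans a₄⟩
  obtain ⟨m, rfl⟩ : ∃ m, i = m + 1 := ⟨i - 1, by omega⟩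
  obtain ⟨b₁⟩ := key 0
  obtain ⟨b₂⟩ := key m
  obtain ⟨b₃⟩ := nonempty_exteriorPower_equiv hQ f.length m
  let c₁ := b₁.trans (LinearEquiv.funCongrLeft A Q
    (finCongr (Nat.choose_one_right f.length).symm))
  let c₂ : ⋀[A]^(m + 1) (Fin f.length → Q) ≃ₗ[A] ⋀[A]^(m + 1) _ :=
    LinearEquiv.ofLinear (exteriorPower.map (m + 1) c₁.symm.toLinearMap)
      (exteriorPower.map (m + 1) c₁.toLinearMap)
      (by rw [← exteriorPower.map_comp]; simp) (by rw [← exteriorPower.map_comp]; simp)
  exact ⟨((b₂.trans b₃).trans c₂).toModuleIso⟩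

end Groth.Agent.S3195
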