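import Groth.Statements.S3196
import Groth.Agent.Gor.KoszulBaseChange
import Groth.Agent.LocCoh.TorLES
import Groth.Agent.KReg44.Ideal

set_option autoImplicit false
universe u
open CategoryTheory CategoryTheory.Limits
open SGA6

namespace Groth.Agent.S3196

open Groth.Agent.LocCoh.Tor
open scoped TensorProduct MonoidalCategory

section tor

variable {A : Type u} [CommRing A]

/-- All higher `Tor` groups against `N` vanish. -/
def TorZero (N M : ModuleCat.{u} A) : Prop := ∀ n : ℕ, ∀ x : T (n + 1) M N, x = 0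

lemma TorZero.of_iso {N M M' : ModuleCat.{u} A} (e : M ≅ M') (h : TorZero N M) : TorZero N M' := by
  intro n x
  have hiso : tf e.inv (n + 1) N ≫ tf e.hom (n + 1) N = 𝟙 _ := by
    rw [← NatTrans.comp_app, ← Functor.map_comp, e.inv_hom_id, CategoryTheory.Functor.map_id,
      NatTrans.id_app]
  have := ConcreteCategory.congr_hom hiso x
  change (tf e.hom (n + 1) N).hom ((tf e.inv (n + 1) N).hom x) = x at this
  rw [← this, h n ((tf e.inv (n + 1) N).hom x), map_zero]

lemma TorZero.of_flat (N M : ModuleCat.{u} A) [Module.Flat A M] : TorZero N M :=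
  fun n x => tor_succ_eq_zero_of_flat M n N x

variable {S : ShortComplex (ModuleCat.{u} A)}

lemma TorZero.middle (hS : S.ShortExact) (N : ModuleCat.{u} A)
    (h1 : TorZero N S.X₁) (h3 : TorZero N S.X₃) : TorZero N S.X₂ := by
  intro n x
  obtain ⟨y, rfl⟩ := (tor_exact₂ hS (n + 1) N x).mp (h3 n _)
  rw [h1 n y, map_zero]

lemma TorZero.left (hS : S.ShortExact) (N : ModuleCat.{u} A)
    (h2 : TorZero N S.X₂) (h3 : TorZero N S.X₃) : TorZero N S.X₁ := by
  intro n x
  obtain ⟨y, rfl⟩ := (tor_exact₁ hS (n + 1) N x).mp (h2 n _)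
  rw [h3 (n + 1) y, map_zero]

lemma tor_one_eq_zero (hS : S.ShortExact) (N : ModuleCat.{u} A)
    (h2 : TorZero N S.X₂) (hinj : Function.Injective (S.f.hom.rTensor N)) (x : T 1 S.X₃ N) :
    x = 0 := by
  have hδ : ∀ z, (tf S.f 0 N).hom z = 0 → z = 0 := by
    intro z hz
    have h := ConcreteCategory.congr_hom (t0_naturality_left S.f N) z
    change (t0 S.X₂ N).hom ((tf S.f 0 N).hom z) = (S.f ▷ N) ((t0 S.X₁ N).hom z) at h
    rw [hz, map_zero] at h
    have h' : S.f.hom.rTensor N ((t0 S.X₁ N).hom z) = 0 := h.symm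
    exact (t0 S.X₁ N).toLinearEquiv.injective
      ((hinj (h'.trans (map_zero _).symm)).trans (map_zero _).symm)
  obtain ⟨y, rfl⟩ := (tor_exact₃ hS 0 N x).mp (hδ _ ((tor_exact₁ hS 0 N).apply_apply_eq_zero x))
  rw [h2 0 y, map_zero]

lemma tor_succ_succ_eq_zero (hS : S.ShortExact) (N : ModuleCat.{u} A) (h2 : TorZero N S.X₂)
    (n : ℕ) (h1 : ∀ x : T (n + 1) S.X₁ N, x = 0) (x : T (n + 2) S.X₃ N) : x = 0 := by
  obtain ⟨y, rfl⟩ := (tor_exact₃ hS (n + 1) N x).mp (h1 _)
  rw [h2 (n + 1) y, map_zero]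

/-- The short complex of a pair of linear maps. -/
abbrev sc {M₁ M₂ M₃ : Type u} [AddCommGroup M₁] [Module A M₁] [AddCommGroup M₂] [Module A M₂]
    [AddCommGroup M₃] [Module A M₃] (f : M₁ →ₗ[A] M₂) (g : M₂ →ₗ[A] M₃)
    (h : Function.Exact f g) : ShortComplex (ModuleCat.{u} A) :=
  ShortComplex.mk (ModuleCat.ofHom f) (ModuleCat.ofHom g)
    (ModuleCat.hom_ext h.linearMap_comp_eq_zero)

lemma sc_shortExact {M₁ M₂ M₃ : Type u} [AddCommGroup M₁] [Module A M₁] [AddCommGroup M₂] [Module A M₂]
    [AddCommGroup M₃] [Module A M₃] (f : M₁ →ₗ[A] M₂) (g : M₂ →ₗ[A] M₃)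
    (h : Function.Exact f g) (hf : Function.Injective f) (hg : Function.Surjective g) :
    (sc f g h).ShortExact where
  exact := (ShortComplex.ShortExact.moduleCat_exact_iff_function_exact _).mpr h
  mono_f := (ModuleCat.mono_iff_injective _).mpr hf
  epi_g := (ModuleCat.epi_iff_surjective _).mpr hg

lemma TorZero.pi (N : ModuleCat.{u} A) (M : Type u) [AddCommGroup M] [Module A M]
    (h : TorZero N (ModuleCat.of A M)) : ∀ m : ℕ, TorZero N (ModuleCat.of A (Fin m → M)) := by
  intro m
  induction m with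
  | zero =>
    haveI : Module.Flat A (ModuleCat.of A (Fin 0 → M)) :=
      inferInstanceAs (Module.Flat A (Fin 0 → M))
    exact TorZero.of_flat N _
  | succ m ih =>
    let f : M →ₗ[A] (Fin (m + 1) → M) := LinearMap.single A (fun _ => M) 0
    let g : (Fin (m + 1) → M) →ₗ[A] (Fin m → M) :=
      LinearMap.pi fun j => LinearMap.proj (Fin.succ j)
    have hex : Function.Exact f g := by
      intro v
      constructor
      · intro hv
        refine ⟨v 0, funext fun j => ?_⟩
        refine Fin.cases ?_ (fun j => ?_) j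
        · simp [f]
        · simpa [f, g, eq_comm] using congrFun hv j
      · rintro ⟨x, rfl⟩
        funext j
        simp [f, g]
    exact TorZero.middle (sc_shortExact f g hex (fun x y hxy => by simpa [f] using congrFun hxy 0)
      (fun w => ⟨Fin.cons 0 w, funext fun j => by simp [g]⟩)) N h ih

end tor

section complex

variable {A : Type u} [CommRing A] (N : ModuleCat.{u} A) (K : CochainComplex (ModuleCat.{u} A) ℤ)
  (hflat : ∀ i, Module.Flat A (K.X i))
  (hex : ∀ a b c : ℤ, a + 1 = b → b + 1 = c → b < 0 →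
    Function.Exact (K.d a b).hom (K.d b c).hom)
  (hexN : ∀ a b c : ℤ, a + 1 = b → b + 1 = c → b < 0 →
    Function.Exact ((K.d a b).hom.rTensor N) ((K.d b c).hom.rTensor N))

include hexN in
lemma rTensor_range_injective (a b : ℤ) (hab : a + 1 = b) (ha : a < 0) :
    Function.Injective ((LinearMap.range (K.d a b).hom).subtype.rTensor N) := by
  rw [injective_iff_map_eq_zero]
  intro y hy
  obtain ⟨z, rfl⟩ := LinearMap.rTensor_surjective N
    (LinearMap.surjective_rangeRestrict (K.d a b).hom) y
  rw [← LinearMap.comp_apply, ← LinearMap.rTensor_comp,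
    show (LinearMap.range (K.d a b).hom).subtype ∘ₗ (K.d a b).hom.rangeRestrict = (K.d a b).hom from rfl] at hy
  obtain ⟨w, rfl⟩ := (hexN (a - 1) a b (by omega) hab ha z).mp hy
  rw [← LinearMap.comp_apply, ← LinearMap.rTensor_comp]
  have hz : (K.d a b).hom.rangeRestrict ∘ₗ (K.d (a - 1) a).hom = 0 := by
    refine LinearMap.ext fun v => Subtype.ext ?_
    exact ConcreteCategory.congr_hom (K.d_comp_d (a - 1) a b) v
  rw [hz, LinearMap.rTensor_zero, LinearMap.zero_apply]

include hflat hex hexN in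
lemma torZero_range_aux : ∀ (n : ℕ) (b c : ℤ), b + 1 = c → b < 0 →
    ∀ x : T (n + 1) (ModuleCat.of A (LinearMap.range (K.d b c).hom)) N, x = 0 := by
  intro n
  induction n with
  | zero =>
    intro b c hbc hb x
    have hS := sc_shortExact (LinearMap.range (K.d (b - 1) b).hom).subtype
      (K.d b c).hom.rangeRestrict (fun v => by
        rw [← LinearMap.mem_ker, LinearMap.ker_rangeRestrict,
          (hex (b - 1) b c (by omega) hbc hb).linearMap_ker_eq]
        exact ⟨fun h => ⟨⟨v, h⟩, rfl⟩, fun ⟨w, hw⟩ => hw ▸ w.2⟩)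
      (Submodule.injective_subtype _) (LinearMap.surjective_rangeRestrict _)
    haveI := hflat b
    exact tor_one_eq_zero hS N (TorZero.of_flat N _)
      (rTensor_range_injective N K hexN (b - 1) b (by omega) (by omega)) x
  | succ n ih =>
    intro b c hbc hb x
    have hS := sc_shortExact (LinearMap.range (K.d (b - 1) b).hom).subtype
      (K.d b c).hom.rangeRestrict (fun v => by
        rw [← LinearMap.mem_ker, LinearMap.ker_rangeRestrict,
          (hex (b - 1) b c (by omega) hbc hb).linearMap_ker_eq]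
        exact ⟨fun h => ⟨⟨v, h⟩, rfl⟩, fun ⟨w, hw⟩ => hw ▸ w.2⟩)
      (Submodule.injective_subtype _) (LinearMap.surjective_rangeRestrict _)
    haveI := hflat b
    exact tor_succ_succ_eq_zero hS N (TorZero.of_flat N _) n (ih (b - 1) b (by omega) (by omega)) x

include hflat hex hexN in
lemma torZero_coker :
    TorZero N (ModuleCat.of A ((K.X 0) ⧸ LinearMap.range (K.d (-1) 0).hom)) := by
  have hS := sc_shortExact (LinearMap.range (K.d (-1) 0).hom).subtype
    (LinearMap.range (K.d (-1) 0).hom).mkQ (LinearMap.exact_subtype_mkQ _)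
    (Submodule.injective_subtype _) (Submodule.mkQ_surjective _)
  haveI := hflat 0
  intro n x
  cases n with
  | zero =>
    exact tor_one_eq_zero hS N (TorZero.of_flat N _)
      (rTensor_range_injective N K hexN (-1) 0 (by omega) (by omega)) x
  | succ n =>
    exact tor_succ_succ_eq_zero hS N (TorZero.of_flat N _) n
      (torZero_range_aux N K hflat hex hexN n (-1) 0 (by omega) (by omega)) x

end complex

lemma torZero_quotient {A : Type u} [CommRing A] {A' : Type u} [CommRing A'] [Algebra A A']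
    (fs : List A) (hfs : LCI.IsKoszulRegularSeq A fs)
    (hfs' : LCI.IsKoszulRegularSeq A' (fs.map (algebraMap A A'))) :
    TorZero (ModuleCat.of A A') (ModuleCat.of A (A ⧸ Ideal.ofList fs)) := by
  obtain ⟨e⟩ := Gor.KoszulBaseChange.nonempty_quotient_range fs
  refine TorZero.of_iso e.symm.toModuleIso (torZero_coker _ (Koszul.koszul A fs) ?_ ?_ ?_)
  · intro j
    have : Module.Projective A ((Koszul.koszul A fs).X j) :=
      (IsProjective.iff_projective _).mpr (KoszulWiebe.projective_X fs j)
    infer_instance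
  · intro a b c hab hbc hb
    have h := ((Koszul.koszul A fs).exactAt_iff_isZero_homology b).2 (hfs b (by omega))
    rw [HomologicalComplex.exactAt_iff' _ a b c (by simp [← hab]) (by simp [← hbc])] at h
    exact (ShortComplex.ShortExact.moduleCat_exact_iff_function_exact _).mp h
  · intro a b c hab hbc hb
    obtain ⟨e⟩ := KoszulWiebe.nonempty_koszulIso (algebraMap A A') fs
    have h := HomologicalComplex.ExactAt.of_iso
      (((Koszul.koszul A' (fs.map (algebraMap A A'))).exactAt_iff_isZero_homology b).2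
        (hfs' b (by omega))) e.symm
    rw [HomologicalComplex.exactAt_iff' _ a b c (by simp [← hab]) (by simp [← hbc])] at h
    have h' := (ShortComplex.ShortExact.moduleCat_exact_iff_function_exact _).mp h
    have h'' : Function.Exact (((Koszul.koszul A fs).d a b).hom.lTensor A')
        (((Koszul.koszul A fs).d b c).hom.lTensor A') := by
      obtain ⟨φ, hφ⟩ : ∃ φ : A →+* A', φ = algebraMap A A' := ⟨_, rfl⟩
      rw [← hφ] at h'
      have hinst : ‹Algebra A A'› = φ.toAlgebra :=
        Algebra.algebra_ext _ _ fun r => by rw [hφ]; rfl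
      subst hinst
      exact h'
    refine Function.Exact.of_ladder_linearEquiv_of_exact (e₁ := TensorProduct.comm A A' _)
      (e₂ := TensorProduct.comm A A' _) (e₃ := TensorProduct.comm A A' _) ?_ ?_ h''
    · exact TensorProduct.ext' fun x y => rfl
    · exact TensorProduct.ext' fun x y => rfl

section graded

open MvPolynomial

variable {A : Type u} [CommRing A] {c : ℕ} (f : Fin c → A)

/-- Exponent vectors of degree `n`. -/
abbrev Expo (c n : ℕ) := {d : Fin c →₀ ℕ // d ∈ Finset.finsuppAntidiag (Finset.univ : Finset (Fin c)) n}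

lemma expo_degree {c n : ℕ} (d : Fin c →₀ ℕ) :
    d ∈ Finset.finsuppAntidiag (Finset.univ : Finset (Fin c)) n ↔ d.degree = n := by
  simp [Finset.mem_finsuppAntidiag, Finsupp.degree_eq_sum]

/-- The form with given coefficients. -/
noncomputable def form (n : ℕ) : (Expo c n → A) →ₗ[A] MvPolynomial (Fin c) A :=
  ∑ d : Expo c n, (monomial (d : Fin c →₀ ℕ)) ∘ₗ LinearMap.proj d

lemma form_apply (n : ℕ) (v : Expo c n → A) : form n v = ∑ d : Expo c n, monomial (d : Fin c →₀ ℕ) (v d) := by
  simp [form]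

lemma form_homogeneous (n : ℕ) (v : Expo c n → A) : (form n v).IsHomogeneous n := by
  rw [form_apply]
  exact IsHomogeneous.sum _ _ _ fun d _ => isHomogeneous_monomial _ ((expo_degree _).mp d.2)

lemma form_coeff (n : ℕ) (v : Expo c n → A) (d : Expo c n) :
    (form n v).coeff (d : Fin c →₀ ℕ) = v d := by
  classical
  rw [form_apply, coeff_sum, Finset.sum_eq_single d]
  · simp
  · intro e _ he
    rw [coeff_monomial, if_neg (fun h => he (Subtype.ext h))]
  · simp

lemma exists_form (n : ℕ) (P : MvPolynomial (Fin c) A) (hP : P.IsHomogeneous n) :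
    ∃ v : Expo c n → A, form n v = P := by
  classical
  refine ⟨fun d => P.coeff (d : Fin c →₀ ℕ), MvPolynomial.ext _ _ fun d => ?_⟩
  by_cases hd : d ∈ Finset.finsuppAntidiag (Finset.univ : Finset (Fin c)) n
  · exact form_coeff n _ ⟨d, hd⟩
  · rw [hP.coeff_eq_zero (fun h => hd ((expo_degree d).mpr h)), form_apply, coeff_sum]
    refine Finset.sum_eq_zero fun e _ => ?_
    rw [coeff_monomial, if_neg]
    intro h
    exact hd (h ▸ e.2)

lemma eval_form_mem (n : ℕ) (v : Expo c n → A) (I : Ideal A) (hv : ∀ d, v d ∈ I) :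
    eval f (form n v) ∈ I * Ideal.span (Set.range f) ^ n := by
  rw [form_apply, map_sum]
  refine sum_mem fun d _ => ?_
  rw [show monomial (d : Fin c →₀ ℕ) (v d) = C (v d) * monomial (d : Fin c →₀ ℕ) 1 by
    rw [C_mul_monomial, mul_one], map_mul, eval_C]
  refine Ideal.mul_mem_mul (hv d) ?_
  exact (Ideal.mem_span_pow_iff_exists_isHomogeneous f _).mpr
    ⟨_, isHomogeneous_monomial _ ((expo_degree _).mp d.2), rfl⟩

/-- The `n`th graded piece. -/
abbrev gr (J : Ideal A) (n : ℕ) := ↥(J ^ n) ⧸ Submodule.comap (J ^ n).subtype (J ^ (n + 1))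

lemma nonempty_grIso (hq : CAlgX.IsQuasiRegular f) (n : ℕ) :
    Nonempty ((Expo c n → A ⧸ Ideal.span (Set.range f)) ≃ₗ[A] gr (Ideal.span (Set.range f)) n) := by
  set J := Ideal.span (Set.range f) with hJ
  let ev : (Expo c n → A) →ₗ[A] ↥(J ^ n) :=
    LinearMap.codRestrict (J ^ n) ((aeval f).toLinearMap ∘ₗ form n) fun v => by
      have := eval_form_mem f n v ⊤ (fun _ => trivial)
      rwa [Ideal.top_mul] at this
  let ψ : (Expo c n → A) →ₗ[A] gr J n := (Submodule.comap (J ^ n).subtype (J ^ (n + 1))).mkQ ∘ₗ ev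
  have hev : ∀ v, ((ev v : ↥(J ^ n)) : A) = eval f (form n v) := fun v => rfl
  have hψ : Function.Surjective ψ := by
    refine (Submodule.mkQ_surjective _).comp fun x => ?_
    obtain ⟨P, hP, hPx⟩ := (Ideal.mem_span_pow_iff_exists_isHomogeneous f _).mp x.2
    obtain ⟨v, rfl⟩ := exists_form n P hP
    exact ⟨v, Subtype.ext ((hev v).trans hPx)⟩
  let g : (Expo c n → A) →ₗ[A] (Expo c n → A ⧸ J) :=
    LinearMap.pi fun d => (Submodule.mkQ J) ∘ₗ LinearMap.proj d
  have hg : Function.Surjective g := fun w =>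
    ⟨fun d => (Submodule.mkQ_surjective J (w d)).choose,
      funext fun d => (Submodule.mkQ_surjective J (w d)).choose_spec⟩
  have hker : LinearMap.ker g = LinearMap.ker ψ := by
    ext v
    rw [LinearMap.mem_ker, LinearMap.mem_ker, LinearMap.comp_apply, Submodule.mkQ_apply,
      Submodule.Quotient.mk_eq_zero, Submodule.mem_comap, Submodule.subtype_apply, hev]
    constructor
    · intro hv
      rw [pow_succ']
      exact eval_form_mem f n v J fun d =>
        (Submodule.Quotient.mk_eq_zero J).mp (congrFun hv d)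
    · intro hv
      funext d
      have := hq n (form n v) (form_homogeneous n v) hv d
      rw [form_coeff] at this
      exact (Submodule.Quotient.mk_eq_zero J).mpr this
  exact ⟨(g.quotKerEquivOfSurjective hg).symm ≪≫ₗ Submodule.quotEquivOfEq _ _ hker ≪≫ₗ
    ψ.quotKerEquivOfSurjective hψ⟩

end graded

lemma torZero_all {A : Type u} [CommRing A] (N : ModuleCat.{u} A) {c : ℕ} (f : Fin c → A)
    (hq : CAlgX.IsQuasiRegular f)
    (h : TorZero N (ModuleCat.of A (A ⧸ Ideal.span (Set.range f)))) (n : ℕ) :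
    TorZero N (ModuleCat.of A (gr (Ideal.span (Set.range f)) n)) ∧
      TorZero N (ModuleCat.of A ↥(Ideal.span (Set.range f) ^ n)) := by
  classical
  set J := Ideal.span (Set.range f) with hJ
  have hgr : ∀ n, TorZero N (ModuleCat.of A (gr J n)) := by
    intro n
    obtain ⟨e⟩ := nonempty_grIso f hq n
    exact TorZero.of_iso ((LinearEquiv.funCongrLeft A (A ⧸ J) (Fintype.equivFin (Expo c n))) ≪≫ₗ
      e).toModuleIso (TorZero.pi N _ h _)
  refine ⟨hgr n, ?_⟩
  induction n with
  | zero =>
    haveI : Module.Flat A (ModuleCat.of A A) := inferInstanceAs (Module.Flat A A)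
    exact TorZero.of_iso ((Submodule.topEquiv (R := A) (M := A)).symm ≪≫ₗ
      LinearEquiv.ofEq _ _ (by rw [pow_zero, Ideal.one_eq_top])).toModuleIso (TorZero.of_flat N _)
  | succ n ih =>
    have hle : J ^ (n + 1) ≤ J ^ n := Ideal.pow_le_pow_right (Nat.le_succ n)
    refine TorZero.left (sc_shortExact (Submodule.inclusion hle)
      (Submodule.comap (J ^ n).subtype (J ^ (n + 1))).mkQ ?_ (Submodule.inclusion_injective hle)
      (Submodule.mkQ_surjective _)) N ih (hgr n)
    rw [LinearMap.exact_iff, Submodule.ker_mkQ, Submodule.range_inclusion]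


/-- Let A be a commutative ring, fs a Koszul-regular sequence in A generating the ideal J, and A' a
commutative A-algebra in which the image of fs is again Koszul-regular. Then for every n ≥ 0 and i ≥
1, Tor_i^A(Jⁿ, A') = 0 and Tor_i^A(Jⁿ/Jⁿ⁺¹, A') = 0 (Mathlib's Tor on A-modules). (The source also
derives Jⁿ ⊗_A A' ≅ J'ⁿ and Jⁿ/Jⁿ⁺¹ ⊗_A A' ≅ J'ⁿ/J'ⁿ⁺¹ for J' = JA', and works with a regular
homomorphism from any finite projective module.) -/
theorem result (A : Type u) [CommRing A] (A' : Type u) [CommRing A'] [Algebra A A']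
    (fs : List A) (hfs : LCI.IsKoszulRegularSeq A fs) (hfs' : LCI.IsKoszulRegularSeq A' (fs.map (algebraMap A A')))
    (n : ℕ) (i : ℕ) (hi : 1 ≤ i) :
    IsZero (((Tor (ModuleCat.{u} A) i).obj (ModuleCat.of A ↥(Ideal.span {x | x ∈ fs} ^ n))).obj (ModuleCat.of A A')) ∧
    IsZero (((Tor (ModuleCat.{u} A) i).obj (ModuleCat.of A
      (↥(Ideal.span {x | x ∈ fs} ^ n) ⧸ Submodule.comap (Ideal.span {x | x ∈ fs} ^ n).subtype (Ideal.span {x | x ∈ fs} ^ (n + 1))))).obj (ModuleCat.of A A')) := by
  obtain ⟨m, rfl⟩ : ∃ m, i = m + 1 := ⟨i - 1, by omega⟩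
  have hJ : Ideal.span {x | x ∈ fs} = Ideal.span (Set.range fun j : Fin fs.length => fs.get j) := by
    rw [Set.range_list_get]
  have hq : CAlgX.IsQuasiRegular (fun j : Fin fs.length => fs.get j) :=
    KReg44.isQuasiRegular _ (by rwa [List.ofFn_get])
  have h0 : TorZero (ModuleCat.of A A')
      (ModuleCat.of A (A ⧸ Ideal.span (Set.range fun j : Fin fs.length => fs.get j))) := by
    rw [← hJ]
    exact torZero_quotient fs hfs hfs'
  rw [hJ]
  obtain ⟨h1, h2⟩ := torZero_all _ _ hq h0 n
  refine ⟨?_, ?_⟩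
  · exact @ModuleCat.isZero_of_subsingleton _ _ _ (subsingleton_of_forall_eq 0 (h2 m))
  · exact @ModuleCat.isZero_of_subsingleton _ _ _ (subsingleton_of_forall_eq 0 (h1 m))

end Groth.Agent.S3196
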