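import Groth.Statements.S3200
import Groth.Agent.ResK0.Basic
import Mathlib.Algebra.Homology.HomologicalComplexAbelian

set_option autoImplicit false
universe v u
open CategoryTheory CategoryTheory.Limits
open SGA6 Groth.Agent.ResK0.Basic

namespace Groth.Agent.S3200

section
variable {C : Type u} [Category.{v} C] [Abelian C] {P₀ P₁ : ObjectProperty C}

/-- Resolution hypothesis: all resolutions of `A` have `P₀`-cycles in some fixed degree. -/
theorem exists_syzP (H : Hyp P₀ P₁) (A : C) (hA : P₁ A)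
    (h3 : ∃ d : ℕ, ∀ L : ChainComplex C ℕ, (∀ i, P₀ (L.X i)) → (∀ i, 1 ≤ i → L.ExactAt i) →
      Nonempty (L.homology 0 ≅ A) → P₀ (L.cycles (d + 1))) :
    ∃ n, SyzP P₀ n A := by
  classical
  obtain ⟨d, hd⟩ := h3
  refine ⟨d + 2, by_contra fun hbad => ?_⟩
  -- a step of a resolution, bad as long as possible
  have step : ∀ (i : ℕ) (K : {K : C // P₁ K}), ∃ (K' : {K : C // P₁ K}) (L : C) (ι : K'.1 ⟶ L)
      (π : L ⟶ K.1) (w : ι ≫ π = 0), P₀ L ∧ (ShortComplex.mk ι π w).ShortExact ∧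
        (¬ SyzP P₀ (i + 1) K.1 → ¬ SyzP P₀ i K'.1) := by
    intro i K
    by_cases hK : SyzP P₀ (i + 1) K.1
    · obtain ⟨L, π, hπ, hL⟩ := H.exists_cover K.1 K.2
      exact ⟨⟨_, H.kernel₁ π (H.le _ hL) K.2⟩, L, kernel.ι π, π, kernel.condition π, hL,
        shortExact_kernel π, fun h => absurd hK h⟩
    · simp only [SyzP, not_forall] at hK
      obtain ⟨L, π, hπ, hL, hbad'⟩ := hK
      exact ⟨⟨_, H.kernel₁ π (H.le _ hL) K.2⟩, L, kernel.ι π, π, kernel.condition π, hL,
        shortExact_kernel π, fun _ => hbad'⟩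
  choose next L ι π w hL hse hnext using step
  let K : ℕ → {K : C // P₁ K} := fun m => Nat.rec ⟨A, hA⟩ (fun m Km => next (d + 1 - m) Km) m
  let X : ℕ → C := fun m => L (d + 1 - m) (K m)
  let ι' : ∀ m, (K (m + 1)).1 ⟶ X m := fun m => ι (d + 1 - m) (K m)
  let π' : ∀ m, X m ⟶ (K m).1 := fun m => π (d + 1 - m) (K m)
  have hw : ∀ m, ι' m ≫ π' m = 0 := fun m => w _ _
  have hS : ∀ m, (ShortComplex.mk (ι' m) (π' m) (hw m)).ShortExact := fun m => hse _ _
  let R : ChainComplex C ℕ := ChainComplex.of X (fun m => π' (m + 1) ≫ ι' m)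
    (fun m => by simp [reassoc_of% hw (m + 1)])
  have hRd : ∀ m, R.d (m + 1) m = π' (m + 1) ≫ ι' m := fun m => by
    dsimp only [R, ChainComplex.of]
    exact ChainComplex.of_d _ _ m
  have hkb : ∀ m, m ≤ d + 1 → ¬ SyzP P₀ (d + 2 - m) (K m).1 := by
    intro m
    induction m with
    | zero => exact fun _ => hbad
    | succ m ih =>
      intro hm
      have := hnext (d + 1 - m) (K m) (by
        have := ih (by omega)
        rwa [show d + 1 - m + 1 = d + 2 - m by omega])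
      rwa [show d + 2 - (m + 1) = d + 1 - m by omega]
  have hbad2 : ¬ P₀ (K (d + 2)).1 := by
    have h := hnext (d + 1 - (d + 1)) (K (d + 1)) (by
      have := hkb (d + 1) le_rfl
      rwa [show d + 1 - (d + 1) + 1 = d + 2 - (d + 1) by omega])
    intro h'
    exact h (H.syzP_mono (Nat.zero_le _) h')
  have hm : ∀ m, Mono (ι' m) := fun m => (hS m).mono_f
  have he : ∀ m, Epi (π' m) := fun m => (hS m).epi_g
  refine hbad2 ?_
  have hlim : IsLimit (KernelFork.ofι (f := R.d (d + 1) d) (ι' (d + 1))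
      (by rw [hRd]; exact (reassoc_of% hw (d + 1)) _ |>.trans zero_comp)) := by
    refine IsLimit.ofIsoLimit (isKernelCompMono (hS (d + 1)).fIsKernel (ι' d) (hRd d)) ?_
    exact Fork.ext (Iso.refl _) (by simp)
  haveI := H.iso₀
  refine P₀.prop_of_iso (IsLimit.conePointUniqueUpToIso
    (R.cyclesIsKernel (d + 1) d (by simp)) hlim) (hd R (fun i => hL _ _) ?_ ?_)
  · intro i hi
    obtain ⟨i, rfl⟩ := Nat.exists_eq_succ_of_ne_zero (show i ≠ 0 by omega)
    rw [R.exactAt_iff' (i + 2) (i + 1) i (by simp) (by simp)]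
    have h1 : R.d (i + 2) (i + 1) = π' (i + 2) ≫ ι' (i + 1) := hRd _
    have h2 : R.d (i + 1) i = π' (i + 1) ≫ ι' i := hRd _
    rw [ShortComplex.exact_iff_exact_up_to_refinements]
    intro Z (x : Z ⟶ X (i + 1)) hx
    replace hx : x ≫ π' (i + 1) = 0 := by
      change x ≫ R.d (i + 1) i = 0 at hx
      apply (cancel_mono (ι' i)).mp
      rw [zero_comp, Category.assoc]
      exact (congrArg (fun t => x ≫ t) h2.symm).trans hx
    obtain ⟨Z₁, p, hp, y, hy⟩ := (hS (i + 1)).exact.exact_up_to_refinements x hx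
    obtain ⟨Z₂, q, hq, z, hz⟩ := surjective_up_to_refinements_of_epi (π' (i + 2)) y
    refine ⟨Z₂, q ≫ p, inferInstance, z, ?_⟩
    change p ≫ x = y ≫ ι' (i + 1) at hy
    show (q ≫ p) ≫ x = z ≫ R.d (i + 2) (i + 1)
    rw [h1]
    show (q ≫ p) ≫ x = z ≫ π' (i + 2) ≫ ι' (i + 1)
    rw [Category.assoc, hy]
    exact ((Category.assoc q y (ι' (i + 1))).symm.trans (congrArg (fun t => t ≫ ι' (i + 1)) hz)).trans
      (Category.assoc z (π' (i + 2)) (ι' (i + 1)))
  · have hcok : IsColimit (CokernelCofork.ofπ (f := R.d 1 0) (π' 0)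
        (by rw [hRd 0, Category.assoc, hw 0, comp_zero])) := by
      refine IsColimit.ofIsoColimit (isCokernelEpiComp (hS 0).gIsCokernel (π' 1) (hRd 0)) ?_
      exact Cofork.ext (Iso.refl _) (by simp)
    exact ⟨R.isoHomologyι 0 0 (by simp) (by simp) ≪≫ IsColimit.coconePointUniqueUpToIso
      (R.opcyclesIsCokernel 1 0 (by simp)) hcok⟩

end

/-- Let C be an abelian category and P₀ ≤ P₁ two isomorphism-closed classes of objects, both stable
under extensions, such that: (i) for every short exact sequence 0 → A' → A → A'' → 0 with A, A'' in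
P₀ (resp. P₁), A' is in P₀ (resp. P₁); (ii) for u : A ⟶ B an epimorphism and v : D ⟶ B with A, B, D
in P₁ there are L in P₀, an epimorphism u' : L ⟶ D and v' : L ⟶ A with u' ≫ v = v' ≫ u; (iii) for
every A in P₁ there is d such that for every resolution L of A by objects of P₀ (a chain complex of
objects of P₀, exact in positive degrees, with H₀(L) ≅ A) the object of cycles Z_{d+1}(L) =
ker(L_{d+1} → L_d) is in P₀. Then the homomorphism K₀(P₀) ⟶ K₀(P₁) induced by the inclusion is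
bijective. (Two deviations from the published statement. Stability of P₀ and P₁ under extensions is
assumed here in addition to (i)–(iii); without it the conclusion can fail. In (iii) the published
statement asks that Z_d(L) be in P₀; asking it of Z_{d+1}(L) is equivalent given (i), and avoids
degree 0, where the cycles of the complex L in Mathlib's sense are L₀ itself rather than the kernel
of the augmentation L₀ → A.) -/
theorem result {C : Type u} [Category.{v} C] [Abelian C]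
    (P₀ P₁ : ObjectProperty C) [P₀.IsClosedUnderIsomorphisms] [P₁.IsClosedUnderIsomorphisms] (hle : ∀ X, P₀ X → P₁ X)
    (hext₀ : ∀ S : ShortComplex C, S.ShortExact → P₀ S.X₁ → P₀ S.X₃ → P₀ S.X₂)
    (hext₁ : ∀ S : ShortComplex C, S.ShortExact → P₁ S.X₁ → P₁ S.X₃ → P₁ S.X₂)
    (h1₀ : ∀ S : ShortComplex C, S.ShortExact → P₀ S.X₂ → P₀ S.X₃ → P₀ S.X₁)
    (h1₁ : ∀ S : ShortComplex C, S.ShortExact → P₁ S.X₂ → P₁ S.X₃ → P₁ S.X₁)
    (h2 : ∀ (A B D : C) (u : A ⟶ B) (v : D ⟶ B), Epi u → P₁ A → P₁ B → P₁ D →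
      ∃ (L : C) (u' : L ⟶ D) (v' : L ⟶ A), P₀ L ∧ Epi u' ∧ u' ≫ v = v' ≫ u)
    (h3 : ∀ A : C, P₁ A → ∃ d : ℕ, ∀ L : ChainComplex C ℕ, (∀ i, P₀ (L.X i)) → (∀ i, 1 ≤ i → L.ExactAt i) →
      Nonempty (L.homology 0 ≅ A) → P₀ (L.cycles (d + 1))) :
    Function.Bijective (SGA6.mapSub (𝟭 C) P₀ P₁ hle) := by
  have H : Hyp P₀ P₁ := ⟨inferInstance, inferInstance, hle, hext₀, h1₀, h1₁, h2⟩
  have hex : ∀ A : Subtype P₁, ∃ n, SyzP P₀ n A.1 := fun A => exists_syzP H A.1 A.2 (h3 A.1 A.2)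
  choose dim hdim using hex
  let ψ₀ : FreeAbelianGroup (Subtype P₁) →+ KZero.K0sub P₀ :=
    FreeAbelianGroup.lift fun A => val P₀ (dim A) A.1
  have hψ₀ : ∀ (A : Subtype P₁) (m : ℕ), dim A ≤ m → ψ₀ (.of A) = val P₀ m A.1 := fun A m hm => by
    rw [FreeAbelianGroup.lift_apply_of, H.val_stable hm A.2 (hdim A)]
  have hrel : KZero.relSub P₁ ≤ ψ₀.ker := by
    rw [KZero.relSub, AddSubgroup.closure_le]
    rintro _ ⟨S, a, b, c, hS, rfl⟩
    let m := max (dim ⟨_, a⟩) (max (dim ⟨_, b⟩) (dim ⟨_, c⟩))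
    simp only [SetLike.mem_coe, AddMonoidHom.mem_ker, map_sub]
    rw [hψ₀ ⟨_, a⟩ m (by omega), hψ₀ ⟨_, b⟩ m (by omega), hψ₀ ⟨_, c⟩ m (by omega),
      H.inv m S hS a b c (H.syzP_mono (by omega) (hdim ⟨_, a⟩))
        (H.syzP_mono (by omega) (hdim ⟨_, b⟩)) (H.syzP_mono (by omega) (hdim ⟨_, c⟩))]
    abel
  let ψ : KZero.K0sub P₁ →+ KZero.K0sub P₀ := QuotientAddGroup.lift _ ψ₀ hrel
  let φ := SGA6.mapSub (𝟭 C) P₀ P₁ hle
  have hφ : ∀ A, P₀ A → φ (KZero.clSub P₀ A) = KZero.clSub P₁ A := fun A hA => by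
    simp only [KZero.clSub, dif_pos hA, dif_pos (hle A hA)]
    rfl
  have hval : ∀ n A, P₁ A → SyzP P₀ n A → φ (val P₀ n A) = KZero.clSub P₁ A := by
    intro n
    induction n with
    | zero => exact fun A _ hA => hφ A hA
    | succ n ih =>
      intro A hA hAn
      obtain ⟨L, p, hp, hL⟩ := H.exists_cover A hA
      have hK := H.kernel₁ p (hle _ hL) hA
      rw [H.val_succ (H.inv n) hA hAn p hL, map_sub, ih _ hK (hAn L p hp hL), hφ L hL,
        sub_eq_iff_eq_add']
      exact clSub_add P₁ (shortExact_kernel p) hK (hle _ hL) hA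
  refine Function.bijective_iff_has_inverse.mpr ⟨ψ, fun x => ?_, fun x => ?_⟩
  · show ψ.comp φ x = AddMonoidHom.id _ x
    congr 1
    refine QuotientAddGroup.addMonoidHom_ext _ (FreeAbelianGroup.lift_ext _ _ fun A => ?_)
    show ψ₀ (.of ⟨A.1, hle _ A.2⟩) = QuotientAddGroup.mk (FreeAbelianGroup.of A)
    rw [hψ₀ _ _ le_rfl, H.val_of_prop₀ _ A.2, KZero.clSub, dif_pos A.2]
  · show φ.comp ψ x = AddMonoidHom.id _ x
    congr 1
    refine QuotientAddGroup.addMonoidHom_ext _ (FreeAbelianGroup.lift_ext _ _ fun A => ?_)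
    show φ (ψ₀ (.of A)) = QuotientAddGroup.mk (FreeAbelianGroup.of A)
    rw [hψ₀ _ _ le_rfl, hval _ _ A.2 (hdim A), KZero.clSub, dif_pos A.2]


end Groth.Agent.S3200
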