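import Groth.Statements.S3206
import Groth.Agent.QuadMorse.Translate
import Mathlib.RingTheory.MvPowerSeries.Inverse

set_option autoImplicit false
open SGA7

namespace Groth.Agent.S3206

open MvPowerSeries Groth.Agent.QuadMorse in
theorem quadNondeg_of_span {k : Type} [Field k] {n : ℕ} (f : MvPowerSeries (Fin n) k)
    (hJ : Ideal.span (Set.range fun i : Fin n => pderiv k i f) = IsLocalRing.maximalIdeal (MvPowerSeries (Fin n) k)) :
    (∀ i, coeff (Finsupp.single i 1) f = 0) ∧
    VanCyc.QuadNondeg (fun a b : Fin n => coeff (Finsupp.single a 1 + Finsupp.single b 1) f) := by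
  classical
  letI : WithIdeal k := ⟨⊥⟩
  haveI : IsAdicComplete (WithIdeal.i (R := k)) k := IsAdicComplete.bot k
  haveI : CompleteSpace k := ((IsAdic.isAdicComplete_iff (I := WithIdeal.i (R := k)) (by rfl)).1 this).1
  haveI : T2Space k := ((IsAdic.isAdicComplete_iff (I := WithIdeal.i (R := k)) (by rfl)).1 inferInstance).2
  set q : Fin n → Fin n → k := fun a b => coeff (Finsupp.single a 1 + Finsupp.single b 1) f
  have hmem : ∀ i, constantCoeff (pderiv k i f) = 0 := fun i => by
    have h : pderiv k i f ∈ IsLocalRing.maximalIdeal (MvPowerSeries (Fin n) k) :=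
      hJ ▸ Ideal.subset_span ⟨i, rfl⟩
    by_contra h0
    exact (IsLocalRing.mem_maximalIdeal _).1 h (isUnit_iff_constantCoeff.2 (isUnit_iff_ne_zero.2 h0))
  refine ⟨fun i => ?_, ?_⟩
  · have := hmem i
    rw [← coeff_zero_eq_constantCoeff_apply, coeff_pderiv] at this
    simpa using this
  have hM : ∀ i j, coeff (Finsupp.single j 1) (pderiv k i f) = VanCyc.polarMatrix q i j := by
    intro i j
    rw [coeff_pderiv]
    rcases lt_trichotomy i j with h | h | h
    · simp [VanCyc.polarMatrix, q, h.ne, h, h.ne', add_comm]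
    · subst h
      simp [VanCyc.polarMatrix, q]
      ring
    · simp [VanCyc.polarMatrix, q, h.ne', not_lt.2 h.le, h.ne, add_comm]
  have hX : ∀ l : Fin n, ∃ a : Fin n → MvPowerSeries (Fin n) k,
      ∑ i, a i • pderiv k i f = X l := fun l =>
    Submodule.mem_span_range_iff_exists_fun _ |>.1 (by
      change (X l : MvPowerSeries (Fin n) k) ∈ Ideal.span _
      rw [hJ, IsLocalRing.mem_maximalIdeal]
      intro h
      simpa using isUnit_iff_constantCoeff.1 h)
  choose a ha using hX
  have key : Matrix.of (fun l i => constantCoeff (a l i)) * (VanCyc.polarMatrix q : Matrix (Fin n) (Fin n) k) = 1 := by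
    ext l j
    have := congrArg (coeff (Finsupp.single j 1)) (ha l)
    rw [map_sum, coeff_X_single] at this
    rw [Matrix.mul_apply, Matrix.one_apply, ← this]
    refine Finset.sum_congr rfl fun i _ => ?_
    rw [smul_eq_mul, coeff_mul, Finset.sum_eq_single (0, Finsupp.single j 1)]
    · rw [hM, coeff_zero_eq_constantCoeff_apply]
      rfl
    · rintro ⟨x, y⟩ hxy hne
      have hd := congrArg Finsupp.degree (Finset.mem_antidiagonal.1 hxy)
      rw [map_add, Finsupp.degree_single] at hd
      have hy : y = 0 := by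
        by_contra hy
        have : x = 0 := (Finsupp.degree_eq_zero_iff x).1 (by
          have := (Finsupp.degree_eq_zero_iff y).not.2 hy
          simp only at hd
          omega)
        subst this
        exact hne (Prod.ext rfl (by simpa using Finset.mem_antidiagonal.1 hxy))
      subst hy
      rw [coeff_zero_eq_constantCoeff_apply, hmem, mul_zero]
    · simp
  exact (Matrix.isUnit_iff_isUnit_det _).1 (IsUnit.of_mul_eq_one_right _ key)

/-- Let k be a field and f a formal power series in n variables over k without constant term whose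
partial derivatives ∂f/∂x_1, …, ∂f/∂x_n generate the maximal ideal of k[[x_1, …, x_n]]. Then there
are power series ε_1, …, ε_n with no terms of degree < 2 and a quadratic form q such that f = q(x_1
+ ε_1, …, x_n + ε_n). -/
theorem result (k : Type) [Field k] (n : ℕ) (f : MvPowerSeries (Fin n) k)
    (hf0 : MvPowerSeries.constantCoeff f = 0)
    (hJ : Ideal.span (Set.range fun i : Fin n => MvPowerSeries.pderiv k i f) = IsLocalRing.maximalIdeal (MvPowerSeries (Fin n) k)) :
    ∃ (ε : Fin n → MvPowerSeries (Fin n) k) (_ : ∀ i (m : Fin n →₀ ℕ), m.degree < 2 → MvPowerSeries.coeff m (ε i) = 0)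
      (q : MvPolynomial (Fin n) k) (_ : q.IsHomogeneous 2)
      (_ : MvPowerSeries.HasSubst (fun i : Fin n => MvPowerSeries.X i + ε i)),
      f = MvPowerSeries.subst (fun i : Fin n => MvPowerSeries.X i + ε i) (q : MvPowerSeries (Fin n) k) := by
  letI : WithIdeal k := ⟨⊥⟩
  haveI : IsAdicComplete (WithIdeal.i (R := k)) k := IsAdicComplete.bot k
  haveI : CompleteSpace k := ((IsAdic.isAdicComplete_iff (I := WithIdeal.i (R := k)) (by rfl)).1 this).1
  haveI : T2Space k := ((IsAdic.isAdicComplete_iff (I := WithIdeal.i (R := k)) (by rfl)).1 inferInstance).2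
  open QuadMorse in
  obtain ⟨hlin, hq⟩ := quadNondeg_of_span f hJ
  set q : Fin n → Fin n → k := fun a b =>
    MvPowerSeries.coeff (Finsupp.single a 1 + Finsupp.single b 1) f
  have hR := ordGE_three hlin q fun a b _ => rfl
  rw [hf0, map_zero, add_zero] at hR
  obtain ⟨h, hh, heq⟩ := exists_shift hq le_rfl (0 : k) hR
  rw [map_zero, add_zero, add_sub_cancel] at heq
  obtain ⟨g, hg, hgh⟩ := exists_left_inverse hh
  have hg1 : ∀ i, g i ∈ (ordFilt k n).I 1 := fun i => (ordFilt k n).anti (by omega) (hg i)
  refine ⟨g, fun i m hm => hg i m hm, VanCyc.quadPoly q, ?_, hasSubst_shift hg1, ?_⟩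
  · refine MvPolynomial.IsHomogeneous.sum _ _ _ fun a _ => MvPolynomial.IsHomogeneous.sum _ _ _ fun b _ => ?_
    split_ifs
    · exact ((MvPolynomial.isHomogeneous_C_mul_X _ _).mul (MvPolynomial.isHomogeneous_X _ _))
    · exact MvPolynomial.isHomogeneous_zero _ _ _
  · have hc := coe_eq (q := q) (0 : k)
    rw [map_zero, map_zero, add_zero, add_zero] at hc
    rw [← shiftHom_apply hg1, hc, ← heq, hgh]

end Groth.Agent.S3206
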