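import Groth.Statements.S3208
import Mathlib.LinearAlgebra.FreeModule.PID
import Mathlib.Algebra.EuclideanDomain.Int
import Mathlib.RingTheory.Int.Basic
import Mathlib.Data.Nat.Choose.Sum
import Mathlib.Data.Nat.Choose.Dvd
import Mathlib.Tactic.LinearCombination
import Mathlib.Tactic.Positivity
import Mathlib.Tactic.Linarith
import Mathlib.RingTheory.Coprime.Lemmas
import Mathlib.Algebra.Ring.GeomSum

set_option autoImplicit false
open SGA7

namespace Groth.Agent.S3208

/-- Let E be a commutative ring which is finitely generated and torsion-free as an additive group, u an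
element of E of finite multiplicative order (u^m = 1 for some m > 0), and n ≥ 2 an integer with u ≡
1 modulo nE (i.e. 1 - u = n·v for some v ∈ E). Then u² = 1, and if n ≥ 3 then u = 1. -/
theorem result (E : Type) [CommRing E] [NoZeroSMulDivisors ℤ E] [Module.Finite ℤ E] (u : E) (m : ℕ) (hm : 0 < m)
    (hu : u ^ m = 1) (n : ℕ) (hn : 2 ≤ n) (hcong : ∃ v : E, 1 - u = (n : E) * v) :
    u ^ 2 = 1 ∧ (3 ≤ n → u = 1) := by
  classical
  have hfree : Module.Free ℤ E := by
    haveI : Module.IsTorsionFree ℤ E := ⟨fun r hr => smul_right_injective E hr.ne_zero⟩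
    exact Module.free_of_finite_type_torsion_free'
  have hdvd : ∀ (ℓ : ℕ), ℓ.Prime → ∀ x : E, (∀ b : ℕ, (ℓ : E) ^ b ∣ x) → x = 0 := by
    intro ℓ hℓ x hx
    let bs := Module.Free.chooseBasis ℤ E
    refine bs.repr.map_eq_zero_iff.1 (Finsupp.ext fun i => ?_)
    rw [Finsupp.zero_apply]
    by_contra hi
    obtain ⟨w, hw⟩ := hx (bs.repr x i).natAbs
    have hw' : x = ((ℓ : ℤ) ^ (bs.repr x i).natAbs) • w := by
      rw [zsmul_eq_mul, Int.cast_pow, Int.cast_natCast]; exact hw
    have hd : ((ℓ : ℤ) ^ (bs.repr x i).natAbs) ∣ bs.repr x i := ⟨bs.repr w i, by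
      conv_lhs => rw [hw']
      rw [map_smul, Finsupp.smul_apply, smul_eq_mul]⟩
    have := Nat.le_of_dvd (Int.natAbs_pos.2 hi) (by simpa [Int.natAbs_pow] using Int.natAbs_dvd_natAbs.2 hd)
    have := Nat.lt_pow_self hℓ.one_lt (n := (bs.repr x i).natAbs)
    omega
  have hreg : ∀ (k : ℕ) (a b : E), k ≠ 0 → (k : E) * a = k * b → a = b := by
    intro k a b hk h
    have h' : ((k : ℤ)) • a = (k : ℤ) • b := by simpa [zsmul_eq_mul] using h
    exact smul_right_injective E (Int.natCast_ne_zero.2 hk) h'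
  have key : ∀ (ℓ a q : ℕ), ℓ.Prime → q.Prime → 1 ≤ a → 3 ≤ ℓ ^ a →
      ∀ x : E, (ℓ : E) ^ a ∣ x - 1 → x ^ q = 1 → x = 1 := by
    intro ℓ a q hℓ hq ha h3 x hx hxq
    by_contra hne
    have hex : ∃ b, ¬ (ℓ : E) ^ b ∣ x - 1 := by
      by_contra hc
      exact hne (sub_eq_zero.1 (hdvd ℓ hℓ _ fun b => not_not.1 fun h => hc ⟨b, h⟩))
    have hca : a < Nat.find hex := by
      by_contra hc
      exact Nat.find_spec hex ((pow_dvd_pow _ (not_lt.1 hc)).trans hx)
    obtain ⟨c, hc⟩ := Nat.exists_eq_add_of_lt hca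
    set e := a + c with he
    have hw : (ℓ : E) ^ e ∣ x - 1 := not_not.1 (Nat.find_min hex (by omega))
    obtain ⟨w, hw⟩ := hw
    have hnot : ¬ (ℓ : E) ∣ w := fun ⟨z, hz⟩ => Nat.find_spec hex ⟨z, by
      rw [hc, hw, hz, pow_succ]; ring⟩
    have he1 : 1 ≤ e := by omega
    set z : E := (ℓ : E) ^ e * w with hz
    have hxz : x = z + 1 := by rw [← hw]; ring
    rw [hxz] at hxq
    by_cases hql : q = ℓ
    · subst hql
      rw [add_pow, Finset.sum_range_succ'] at hxq
      simp only [one_pow, mul_one, pow_zero, Nat.choose_zero_right, Nat.cast_one, add_eq_right] at hxq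
      obtain ⟨q', rfl⟩ : ∃ q', q = q' + 2 := ⟨q - 2, by have := hq.two_le; omega⟩
      rw [Finset.sum_range_succ'] at hxq
      simp only [zero_add, pow_one, Nat.choose_one_right] at hxq
      have hdiv : ((q' + 2 : ℕ) : E) ^ (e + 2) ∣ ∑ i ∈ Finset.range (q' + 1),
          z ^ (i + 1 + 1) * (((q' + 2).choose (i + 1 + 1) : ℕ) : E) := by
        refine Finset.dvd_sum fun i hi => ?_
        rw [hz, mul_pow, ← pow_mul, mul_right_comm]
        refine dvd_mul_of_dvd_left ?_ _
        by_cases hi' : i + 1 + 1 = q' + 2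
        · refine dvd_mul_of_dvd_left (pow_dvd_pow _ ?_) _
          rw [hi']
          rcases Nat.eq_zero_or_pos q' with h0 | h0
          · subst h0
            have : 2 ≤ e := by
              by_contra hh
              have : a = 1 := by omega
              subst this
              norm_num at h3
            omega
          · nlinarith
        · have hlt : i + 1 + 1 < q' + 2 := by have := Finset.mem_range.1 hi; omega
          obtain ⟨m', hm'⟩ := hq.dvd_choose_self (by omega) hlt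
          rw [hm']
          push_cast
          rw [← mul_assoc, ← pow_succ]
          refine dvd_mul_of_dvd_left (pow_dvd_pow _ ?_) _
          nlinarith
      obtain ⟨s, hs⟩ := hdiv
      rw [hs, hz] at hxq
      refine hnot ⟨-s, hreg ((q' + 2) ^ (e + 1)) _ _ (by positivity) ?_⟩
      push_cast
      push_cast at hxq
      linear_combination hxq
    · obtain ⟨s, hs⟩ : z ^ 2 ∣ (z + 1) ^ q - 1 - (q : E) * z := by
        obtain ⟨q', rfl⟩ : ∃ q', q = q' + 2 := ⟨q - 2, by have := hq.two_le; omega⟩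
        refine ⟨∑ i ∈ Finset.range (q' + 1), z ^ i * (((q' + 2).choose (i + 1 + 1) : ℕ) : E), ?_⟩
        rw [add_pow, Finset.sum_range_succ', Finset.sum_range_succ', Finset.mul_sum]
        simp only [one_pow, mul_one, pow_zero, Nat.choose_zero_right, Nat.cast_one, zero_add, pow_one,
          Nat.choose_one_right, add_sub_cancel_right]
        rw [mul_comm z, add_sub_cancel_right]
        exact Finset.sum_congr rfl fun i _ => by ring
      rw [hxq, sub_self, zero_sub, hz] at hs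
      have h1 : (ℓ : E) ∣ (q : E) * w := by
        refine ⟨-((ℓ : E) ^ (e - 1) * w ^ 2 * s), hreg (ℓ ^ e) _ _ (pow_ne_zero _ hℓ.ne_zero) ?_⟩
        push_cast
        clear_value e
        obtain ⟨e', rfl⟩ : ∃ e', e = e' + 1 := ⟨e - 1, by omega⟩
        rw [hz]at hxq
        simp only [Nat.add_sub_cancel]
        linear_combination -hs
      have hcop : IsCoprime (ℓ : E) (q : E) := ((Nat.coprime_primes hℓ hq).2 (Ne.symm hql)).cast
      exact hnot (hcop.dvd_of_dvd_mul_left h1)
  have red : ∀ (ℓ a : ℕ), ℓ.Prime → 1 ≤ a → 3 ≤ ℓ ^ a →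
      ∀ m' : ℕ, 0 < m' → ∀ x : E, (ℓ : E) ^ a ∣ x - 1 → x ^ m' = 1 → x = 1 := by
    intro ℓ a hℓ ha h3 m'
    induction m' using Nat.strong_induction_on with
    | _ m' ih =>
      intro hm' x hx hxm
      rcases Nat.lt_or_ge m' 2 with h | h
      · obtain rfl : m' = 1 := by omega
        simpa using hxm
      · obtain ⟨q, hq, k, rfl⟩ := Nat.exists_prime_and_dvd (show m' ≠ 1 by omega)
        have hk : 0 < k := Nat.pos_of_mul_pos_left hm'
        refine key ℓ a q hℓ hq ha h3 x hx (ih k ?_ hk _ (hx.trans (sub_one_dvd_pow_sub_one x q)) ?_)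
        · nlinarith [hq.two_le]
        · rw [← pow_mul]; exact hxm
  obtain ⟨v, hv⟩ := hcong
  constructor
  · obtain ⟨ℓ, hℓ, hℓn⟩ := Nat.exists_prime_and_dvd (show n ≠ 1 by omega)
    have hdl : (ℓ : E) ∣ u - 1 := ((Nat.cast_dvd_cast hℓn).trans ⟨-v, by linear_combination -hv⟩)
    rcases hℓ.eq_two_or_odd with rfl | hodd
    · refine red 2 2 hℓ one_le_two (by norm_num) m hm _ ?_ (by rw [← pow_mul, mul_comm, pow_mul, hu, one_pow])
      obtain ⟨z, hz⟩ := hdl
      refine ⟨z * z + z, ?_⟩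
      push_cast at hz ⊢
      rw [show u = 2 * z + 1 by rw [← hz]; ring]
      ring
    · rw [red ℓ 1 hℓ le_rfl (by simp; have := hℓ.two_le; omega) m hm u (by simpa using hdl) hu, one_pow]
  · intro hn3
    obtain ⟨ℓ, a, hℓ, ha, h3, hd⟩ : ∃ ℓ a : ℕ, ℓ.Prime ∧ 1 ≤ a ∧ 3 ≤ ℓ ^ a ∧ ℓ ^ a ∣ n := by
      by_cases h4 : 4 ∣ n
      · exact ⟨2, 2, Nat.prime_two, one_le_two, by norm_num, by simpa using h4⟩
      · obtain ⟨ℓ, hℓ, hd, hne⟩ : ∃ ℓ, ℓ.Prime ∧ ℓ ∣ n ∧ ℓ ≠ 2 := by
          by_cases h2 : 2 ∣ n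
          · obtain ⟨k, rfl⟩ := h2
            obtain ⟨ℓ, hℓ, hd⟩ := Nat.exists_prime_and_dvd (show k ≠ 1 by omega)
            refine ⟨ℓ, hℓ, hd.mul_left 2, fun h => ?_⟩
            subst h
            exact h4 (Nat.mul_dvd_mul_left 2 hd)
          · obtain ⟨ℓ, hℓ, hd⟩ := Nat.exists_prime_and_dvd (show n ≠ 1 by omega)
            exact ⟨ℓ, hℓ, hd, fun h => h2 (h ▸ hd)⟩
        exact ⟨ℓ, 1, hℓ, le_rfl, by simp; have := hℓ.two_le; omega, by simpa using hd⟩
    refine red ℓ a hℓ ha h3 m hm u ?_ hu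
    refine Dvd.dvd.trans ?_ (⟨-v, by linear_combination -hv⟩ : (n : E) ∣ u - 1)
    exact_mod_cast Nat.cast_dvd_cast (α := E) hd

end Groth.Agent.S3208
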