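import Groth.Statements.S3209
import Mathlib.LinearAlgebra.TensorProduct.RightExactness

set_option autoImplicit false
universe u
open TensorProduct
open SGA7

namespace Groth.Agent.S3209

/-- Let f : B' → B be a surjective map of R-algebras with kernel J, g : C → B a map of R-algebras, P =
B' ×_B C their fibre product (the equalizer of f ∘ pr₁ and g ∘ pr₂ in B' × C) and S an R-algebra
such that S ⊗_R J → S ⊗_R B' is injective (this holds when Tor_1^R(B, S) = 0, the published
hypothesis, and in particular when S is flat). Then the canonical map S ⊗_R P → (S ⊗_R B') ×_{S ⊗_R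
B} (S ⊗_R C) is bijective: it is injective, and every pair with the same image in S ⊗_R B comes from
S ⊗_R P. -/
theorem result (R B' B C S : Type u) [CommRing R] [CommRing B'] [CommRing B] [CommRing C]
    [CommRing S] [Algebra R B'] [Algebra R B] [Algebra R C] [Algebra R S]
    (f : B' →ₐ[R] B) (hf : Function.Surjective f) (g : C →ₐ[R] B)
    (hJ : Function.Injective (LinearMap.lTensor S (LinearMap.ker f.toLinearMap).subtype)) :
    letI P := AlgHom.equalizer (f.comp (AlgHom.fst R B' C)) (g.comp (AlgHom.snd R B' C))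
    letI φ₁ := Algebra.TensorProduct.map (AlgHom.id R S) ((AlgHom.fst R B' C).comp P.val)
    letI φ₂ := Algebra.TensorProduct.map (AlgHom.id R S) ((AlgHom.snd R B' C).comp P.val)
    Function.Injective (fun z : S ⊗[R] ↥P => (φ₁ z, φ₂ z)) ∧
    ∀ (x : S ⊗[R] B') (y : S ⊗[R] C),
      Algebra.TensorProduct.map (AlgHom.id R S) f x = Algebra.TensorProduct.map (AlgHom.id R S) g y →
        ∃ z : S ⊗[R] ↥P, φ₁ z = x ∧ φ₂ z = y := by
  set P := AlgHom.equalizer (f.comp (AlgHom.fst R B' C)) (g.comp (AlgHom.snd R B' C)) with hP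
  let J := LinearMap.ker f.toLinearMap
  let φ₁ := Algebra.TensorProduct.map (AlgHom.id R S) ((AlgHom.fst R B' C).comp P.val)
  let φ₂ := Algebra.TensorProduct.map (AlgHom.id R S) ((AlgHom.snd R B' C).comp P.val)
  have hJP : ∀ b ∈ J, ((b, 0) : B' × C) ∈ P := fun b hb => by
    show f b = g 0
    rw [map_zero]; exact hb
  let i : J →ₗ[R] P :=
    { toFun := fun b => ⟨((b : B'), 0), hJP b b.2⟩
      map_add' := fun a b => Subtype.ext (Prod.ext rfl (add_zero (0 : C)).symm)
      map_smul' := fun r b => Subtype.ext (Prod.ext rfl (smul_zero r).symm) }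
  let q₁ : P →ₗ[R] B' := ((AlgHom.fst R B' C).comp P.val).toLinearMap
  let q₂ : P →ₗ[R] C := ((AlgHom.snd R B' C).comp P.val).toLinearMap
  have hq₂ : Function.Surjective q₂ := fun c => by
    obtain ⟨b, hb⟩ := hf (g c)
    exact ⟨⟨(b, c), hb⟩, rfl⟩
  have hex : Function.Exact i q₂ := by
    intro z
    constructor
    · intro hz
      have h2 : (z : B' × C).2 = 0 := hz
      have h1 : f (z : B' × C).1 = g (z : B' × C).2 := z.2
      rw [h2, map_zero] at h1
      exact ⟨⟨(z : B' × C).1, h1⟩, Subtype.ext (Prod.ext rfl h2.symm)⟩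
    · rintro ⟨b, rfl⟩; rfl
  have hexB : Function.Exact J.subtype f.toLinearMap := LinearMap.exact_subtype_ker_map _
  have e₁ : ∀ z, φ₁ z = LinearMap.lTensor S q₁ z := fun z => by
    induction z using TensorProduct.induction_on with
    | zero => simp
    | tmul a b => rfl
    | add a b ha hb => rw [map_add, map_add, ha, hb]
  have e₂ : ∀ z, φ₂ z = LinearMap.lTensor S q₂ z := fun z => by
    induction z using TensorProduct.induction_on with
    | zero => simp
    | tmul a b => rfl
    | add a b ha hb => rw [map_add, map_add, ha, hb]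
  have hi : ∀ w, LinearMap.lTensor S q₁ (LinearMap.lTensor S i w) = LinearMap.lTensor S J.subtype w := fun w => by
    rw [← LinearMap.comp_apply, ← LinearMap.lTensor_comp]
    rfl
  have hi₂ : ∀ w, LinearMap.lTensor S q₂ (LinearMap.lTensor S i w) = 0 :=
    fun w => (lTensor_exact S hex hq₂).apply_apply_eq_zero w
  refine ⟨fun a b hab => ?_, fun x y hxy => ?_⟩
  · obtain ⟨h1, h2⟩ := Prod.ext_iff.1 hab
    obtain ⟨w, hw⟩ := (lTensor_exact S hex hq₂ (a - b)).1 (by rw [map_sub, ← e₂, ← e₂]; exact sub_eq_zero.2 h2)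
    have hw0 : w = 0 := hJ (by rw [map_zero, ← hi, hw, map_sub, ← e₁, ← e₁]; exact sub_eq_zero.2 h1)
    rw [← sub_eq_zero, ← hw, hw0, map_zero]
  · obtain ⟨z, hz⟩ := LinearMap.lTensor_surjective S hq₂ y
    have hsq : f.toLinearMap.comp q₁ = g.toLinearMap.comp q₂ := LinearMap.ext fun p => p.2
    have ef : ∀ x, Algebra.TensorProduct.map (AlgHom.id R S) f x = LinearMap.lTensor S f.toLinearMap x := fun x => by
      induction x using TensorProduct.induction_on with
      | zero => simp
      | tmul a b => rfl
      | add a b ha hb => rw [map_add, map_add, ha, hb]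
    have eg : ∀ y, Algebra.TensorProduct.map (AlgHom.id R S) g y = LinearMap.lTensor S g.toLinearMap y := fun y => by
      induction y using TensorProduct.induction_on with
      | zero => simp
      | tmul a b => rfl
      | add a b ha hb => rw [map_add, map_add, ha, hb]
    obtain ⟨w, hw⟩ := (lTensor_exact S hexB hf (x - LinearMap.lTensor S q₁ z)).1 (by
      rw [map_sub, ← ef, hxy, eg, ← hz, ← LinearMap.comp_apply, ← LinearMap.lTensor_comp, ← hsq,
        LinearMap.lTensor_comp, LinearMap.comp_apply, sub_self])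
    refine ⟨z + LinearMap.lTensor S i w, ?_, ?_⟩
    · rw [e₁, map_add, hi, hw, add_sub_cancel]
    · rw [e₂, map_add, hi₂, add_zero, hz]

end Groth.Agent.S3209
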