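import Groth.Statements.S3210
import Groth.Agent.SGA7Lib.TorsionEtale
import Groth.Agent.AbVarLib.Pointed
import Groth.Agent.AbVarLib.Basics

set_option autoImplicit false
set_option linter.style.haveILetI false
universe u
open CategoryTheory CategoryTheory.Limits AlgebraicGeometry MonObj
open SGA7

namespace Groth.Agent.S3210

open MonoidalCategory CartesianMonoidalCategory in
/-- fibres of a proper smooth group with connected geometric fibres are commutative -/
theorem isCommMonObj_fib {S : Scheme.{u}} (B : Over S) [GrpObj B] [IsProper B.hom] [Smooth B.hom]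
    (hconn : ∀ (k' : Type u) [Field k'] (t : Spec (CommRingCat.of k') ⟶ S),
      ConnectedSpace ↑(pullback B.hom t)) (s : S) :
    IsCommMonObj (GrpSGA.Fibre.fib B s) := by
  let G := GrpSGA.Fibre.fib B s
  haveI : IsProper G.hom := inferInstanceAs (IsProper (pullback.snd B.hom _))
  haveI : Smooth G.hom := inferInstanceAs (Smooth (pullback.snd B.hom _))
  haveI : GeometricallyConnected G.hom := by
    refine ⟨geometrically_iff_of_commRing_of_isClosedUnderIsomorphisms.mpr fun L _ _ => ?_⟩
    let χ := Spec.map (CommRingCat.ofHom (algebraMap (S.residueField s) L))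
    haveI := hconn L (χ ≫ S.fromSpecResidueField s)
    let h := pullbackLeftPullbackSndIso B.hom (S.fromSpecResidueField s) χ
    exact h.inv.homeomorph.surjective.connectedSpace h.inv.continuous
  haveI := AbVarLib.Basics.geometricallyIntegral G
  exact isCommMonObj_of_isProper_of_geometricallyIntegral G

open MonoidalCategory CartesianMonoidalCategory in
theorem galAct_eq_of_pow_eq_one {R K Ω : Type u} [CommRing R] [IsDomain R] [IsDiscreteValuationRing R]
    [Field K] [Algebra R K] [IsFractionRing R K] [Field Ω] [Algebra K Ω]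
    (W : ValuationSubring Ω) (hW : SGA7.LiesOver K R W)
    (B : Over (Spec (CommRingCat.of R))) [GrpObj B] [IsProper B.hom] [Smooth B.hom]
    (hcomm : ∀ s, IsCommMonObj (GrpSGA.Fibre.fib B s))
    (n : ℕ) (hn : (n : IsLocalRing.ResidueField R) ≠ 0) (σ : Ω ≃ₐ[K] Ω) (hσ : SGA7.IsInertia W σ)
    (y : SGA7.Pts Ω ((Over.pullback (Spec.map (CommRingCat.ofHom (algebraMap R K)))).obj B))
    (hy : y ^ n = 1) : SGA7.galAct σ y = y := by
  let t := Spec.map (CommRingCat.ofHom (algebraMap R K))
  let F := Over.pullback t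
  let P : Over (Spec (CommRingCat.of K)) := SGA7.pt Ω
  let E := (Over.mapPullbackAdj t).homEquiv P B
  let z : (Over.map t).obj P ⟶ B := E.symm y
  have hE : ∀ m, E (z ^ m) = y ^ m := fun m => by
    have hz : E z = y := E.apply_symm_apply y
    rw [← hz, Adjunction.homEquiv_unit, Adjunction.homEquiv_unit, ← MonObj.comp_pow]
    congr 1
    exact map_pow (Functor.homMonoidHom (X := (Over.map t).obj P) (M := B) F) z m
  have hz : z ^ n = 1 := E.injective (by rw [← pow_zero z, hE, hE, hy, pow_zero])
  -- the structure map of the valuation ring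
  let ρ : R →+* W := ((algebraMap K Ω).comp (algebraMap R K)).codRestrict W.toSubring hW.1
  let incl : W →+* Ω := W.subtype
  let T : Over (Spec (CommRingCat.of R)) := Over.mk (Spec.map (CommRingCat.ofHom ρ))
  have hj : Spec.map (CommRingCat.ofHom incl) ≫ T.hom = ((Over.map t).obj P).hom := by
    show Spec.map (CommRingCat.ofHom incl) ≫ Spec.map (CommRingCat.ofHom ρ) =
      Spec.map (CommRingCat.ofHom (algebraMap K Ω)) ≫ Spec.map (CommRingCat.ofHom (algebraMap R K))
    rw [← Spec.map_comp, ← Spec.map_comp, ← CommRingCat.ofHom_comp, ← CommRingCat.ofHom_comp]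
    rfl
  let j : (Over.map t).obj P ⟶ T := Over.homMk (Spec.map (CommRingCat.ofHom incl)) hj
  have hinj : ∀ a b : T ⟶ B, j ≫ a = j ≫ b → a = b := fun a b h => by
    haveI : IsDominant (Spec.map (CommRingCat.ofHom incl)) := by
      rw [isDominant_iff]
      exact PrimeSpectrum.denseRange_comap_iff_ker_le_nilRadical _ |>.2 (by
        rw [CommRingCat.hom_ofHom, (RingHom.injective_iff_ker_eq_bot _).1 Subtype.val_injective]
        exact bot_le)
    haveI : AlgebraicGeometry.IsReduced T.left := inferInstanceAs (AlgebraicGeometry.IsReduced (Spec (CommRingCat.of W)))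
    ext1
    exact ext_of_isDominant_of_isSeparated B.hom ((Over.w a).trans (Over.w b).symm)
      (Spec.map (CommRingCat.ofHom incl)) (congrArg (fun q => q.left) h)
  have hU : (ValuativeCriterion.Existence ⊓ @QuasiCompact) B.hom :=
    UniversallyClosed.eq_valuativeCriterion ▸ inferInstanceAs (UniversallyClosed B.hom)
  obtain ⟨hex, -⟩ := hU
  obtain ⟨⟨⟨l, hl₁, hl₂⟩⟩⟩ := hex
    { R := W, K := Ω, i₁ := z.left, i₂ := T.hom, commSq := ⟨(Over.w z).trans hj.symm⟩ }
  let a : T ⟶ B := Over.homMk l hl₂
  have ha : j ≫ a = z := by ext1; exact hl₁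
  have ha1 : a ^ n = 1 := hinj _ _ (by rw [MonObj.comp_pow, ha, hz, MonObj.comp_one])
  -- the action of `σ` on the valuation ring
  let σW : W →+* W := ((σ : Ω →+* Ω).comp W.subtype).codRestrict W.toSubring fun x => (hσ x x.2).1
  have hs : Spec.map (CommRingCat.ofHom σW) ≫ T.hom = T.hom := by
    show Spec.map (CommRingCat.ofHom σW) ≫ Spec.map (CommRingCat.ofHom ρ) = Spec.map (CommRingCat.ofHom ρ)
    rw [← Spec.map_comp, ← CommRingCat.ofHom_comp]
    congr 2
    ext r
    exact σ.commutes _
  let s : T ⟶ T := Over.homMk (Spec.map (CommRingCat.ofHom σW)) hs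
  have hsj : (Over.map t).map (SGA7.specAut σ) ≫ j = j ≫ s := by
    ext1
    show Spec.map (CommRingCat.ofHom (σ : Ω →+* Ω)) ≫ Spec.map (CommRingCat.ofHom incl) =
      Spec.map (CommRingCat.ofHom incl) ≫ Spec.map (CommRingCat.ofHom σW)
    rw [← Spec.map_comp, ← Spec.map_comp]
    rfl
  have hsa : (s ≫ a).left = a.left := by
    haveI : Etale ((𝟙 B : B ⟶ B) ^ n).left := SGA7Lib.etale_pow B hcomm n fun p h0 => by
      have hu : IsUnit (n : R) :=
        (IsLocalRing.residue_ne_zero_iff_isUnit _).1 (by rwa [map_natCast])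
      let φ : R →+* (Spec (CommRingCat.of R)).residueField p :=
        (Spec.preimage ((Spec (CommRingCat.of R)).fromSpecResidueField p)).hom
      exact not_isUnit_zero (h0 ▸ map_natCast φ n ▸ hu.map φ)
    haveI : LocallyOfFiniteType ((𝟙 B : B ⟶ B) ^ n).left := inferInstance
    haveI : FormallyUnramified ((𝟙 B : B ⟶ B) ^ n).left := inferInstance
    refine SGA7Lib.eq_of_unramified ((𝟙 B : B ⟶ B) ^ n).left _ _ ?_ ?_
    · rw [← Over.comp_left, ← Over.comp_left, MonObj.comp_pow, MonObj.comp_pow, Category.comp_id,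
        Category.comp_id, ← MonObj.comp_pow, ha1, MonObj.comp_one]
    · rw [Over.comp_left, ← Category.assoc]
      congr 1
      show Spec.map (CommRingCat.ofHom (IsLocalRing.residue W)) ≫ Spec.map (CommRingCat.ofHom σW) = _
      rw [← Spec.map_comp, ← CommRingCat.ofHom_comp]
      congr 2
      ext x
      show IsLocalRing.residue W (σW x) = IsLocalRing.residue W x
      rw [← sub_eq_zero, ← map_sub, IsLocalRing.residue_eq_zero_iff]
      exact (W.valuation_lt_one_iff _).2 (hσ x x.2).2
  have hsa' : s ≫ a = a := by ext1; exact hsa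
  refine E.symm.injective ?_
  show E.symm (SGA7.specAut σ ≫ y) = z
  rw [Adjunction.homEquiv_naturality_left_symm]
  show (Over.map t).map (SGA7.specAut σ) ≫ z = z
  rw [← ha, reassoc_of% hsj, hsa']

/-- Direction (i) ⇒ (v bis) of the Néron–Ogg–Chafarévitch criterion (only this direction of the
criterion is stated): let R be a discrete valuation ring with fraction field K and residue
characteristic different from the prime ℓ, Ω a separable closure of K, W a valuation subring of Ω
lying over R, and A an abelian variety over K (a proper, geometrically integral group scheme). If A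
extends to an abelian scheme over R (a proper smooth group scheme over Spec R with connected
geometric fibres whose generic fibre is K-isomorphic to A), then for every ν every element of the
inertia group at W fixes all the ℓ^ν-torsion Ω-points of A. -/
theorem result (R K Ω : Type u) [CommRing R] [IsDomain R] [IsDiscreteValuationRing R] [Field K]
    [Algebra R K] [IsFractionRing R K] [Field Ω] [Algebra K Ω] [IsSepClosure K Ω]
    (W : ValuationSubring Ω) (hW : SGA7.LiesOver K R W) (ℓ : ℕ) (hℓ : ℓ.Prime) (hℓp : (ℓ : IsLocalRing.ResidueField R) ≠ 0)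
    (A : Over (Spec (CommRingCat.of K))) [GrpObj A] [IsProper A.hom] [GeometricallyIntegral A.hom]
    (hgood : (∃ (B : Over (Spec (CommRingCat.of R))) (_ : GrpObj B), IsProper B.hom ∧ Smooth B.hom ∧
        (∀ (k' : Type u) [Field k'] (t : Spec (CommRingCat.of k') ⟶ Spec (CommRingCat.of R)), ConnectedSpace ↑(pullback B.hom t)) ∧
        Nonempty ((Over.pullback (Spec.map (CommRingCat.ofHom (algebraMap R K)))).obj B ≅ A))) :
    ∀ (ν : ℕ) (σ : Ω ≃ₐ[K] Ω), SGA7.IsInertia W σ → ∀ x : SGA7.Pts Ω A, x ^ (ℓ ^ ν) = 1 → SGA7.galAct σ x = x := by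
  obtain ⟨B, _, hBp, hBs, hconn, ⟨φ⟩⟩ := hgood
  haveI := hBp
  haveI := hBs
  intro ν σ hσ x hx
  let t := Spec.map (CommRingCat.ofHom (algebraMap R K))
  letI : GrpObj ((Over.pullback t).obj B) := Functor.grpObjObj
  haveI : IsProper ((Over.pullback t).obj B).hom :=
    inferInstanceAs (IsProper (pullback.snd B.hom _))
  let c : A ⟶ (Over.pullback t).obj B :=
    (CartesianMonoidalCategory.toUnit A ≫ η[A] ≫ φ.inv)⁻¹
  let ψ : A ⟶ (Over.pullback t).obj B := φ.inv * c
  haveI : IsMonHom ψ := AbVarLib.Pointed.isMonHom_mul_inv φ.inv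
  have hcomp : ∀ w : SGA7.Pts Ω A, w ≫ c = (CartesianMonoidalCategory.toUnit _ ≫ η[A] ≫ φ.inv)⁻¹ :=
    fun w => by
    rw [GrpObj.comp_inv, ← Category.assoc, CartesianMonoidalCategory.comp_toUnit]
  have hy : (x ≫ ψ) ^ (ℓ ^ ν) = 1 := by
    rw [← MonObj.pow_comp, hx, MonObj.one_comp]
  have hn : ((ℓ ^ ν : ℕ) : IsLocalRing.ResidueField R) ≠ 0 := by
    rw [Nat.cast_pow]; exact pow_ne_zero _ hℓp
  have h := galAct_eq_of_pow_eq_one W hW B (fun s => isCommMonObj_fib B hconn s) _ hn σ hσ (x ≫ ψ) hy
  simp only [SGA7.galAct, ← Category.assoc] at h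
  simp only [ψ, MonObj.comp_mul, hcomp, mul_left_inj] at h
  exact (cancel_mono φ.inv).1 h

end Groth.Agent.S3210
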