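import Groth.Statements.S3211
import Groth.Agent.ConnFibre.NeronProper
import Groth.Agent.NeronGrp.Transport
import Groth.Agent.AbVarLib.Basics
import Groth.Agent.WeilExt.Neron
import Groth.Agent.S11098

set_option autoImplicit false
set_option linter.style.haveILetI false
universe u
open CategoryTheory CategoryTheory.Limits AlgebraicGeometry MonObj
open SGA7

namespace Groth.Agent.S3211

open MonoidalCategory CartesianMonoidalCategory in
theorem connectedSpace_fibre (R : Type u) [CommRing R] [IsDomain R] [IsDiscreteValuationRing R]
    (N : Over (Spec (CommRingCat.of R))) [GrpObj N] [IsProper N.hom] [Smooth N.hom]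
    [GeometricallyIntegral (pullback.snd N.hom (Neron.genPt R))]
    (k' : Type u) [Field k'] (t : Spec (CommRingCat.of k') ⟶ Spec (CommRingCat.of R)) :
    ConnectedSpace ↑(pullback N.hom t) := by
  haveI : GeometricallyIntegral
      (pullback.snd N.hom (Spec.map (CommRingCat.ofHom (algebraMap R (FractionRing R))))) := ‹_›
  obtain ⟨φ, rfl⟩ := Spec.map_surjective t
  by_cases hφ : Function.Injective φ.hom
  · let χ : FractionRing R →+* k' := IsFractionRing.lift hφ
    have hχ : Spec.map (CommRingCat.ofHom χ) ≫ Neron.genPt R = Spec.map φ := by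
      rw [← Spec.map_comp, ← CommRingCat.ofHom_comp]
      congr 1
      ext x
      exact IsFractionRing.lift_algebraMap hφ x
    haveI : ConnectedSpace ↑(pullback (pullback.snd N.hom (Neron.genPt R))
        (Spec.map (CommRingCat.ofHom χ))) :=
      haveI : IrreducibleSpace ↑(pullback (pullback.snd N.hom (Neron.genPt R))
          (Spec.map (CommRingCat.ofHom χ))) :=
        GeometricallyIrreducible.geometrically_irreducibleSpace _ _ _ (.of_hasPullback _ _)
      inferInstance
    let h := (pullbackLeftPullbackSndIso N.hom (Neron.genPt R) (Spec.map (CommRingCat.ofHom χ))) ≪≫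
      pullback.congrHom rfl hχ
    exact h.hom.homeomorph.surjective.connectedSpace h.hom.continuous
  · have hker : RingHom.ker φ.hom = IsLocalRing.maximalIdeal R :=
      IsLocalRing.eq_maximalIdeal ((RingHom.ker_isPrime φ.hom).isMaximal
        fun h => hφ ((RingHom.injective_iff_ker_eq_bot _).2 h))
    let χ : IsLocalRing.ResidueField R →+* k' :=
      Ideal.Quotient.lift _ φ.hom fun x hx => (hker ▸ hx : x ∈ RingHom.ker φ.hom)
    let r := Spec.map (CommRingCat.ofHom (IsLocalRing.residue R))
    have hχ : Spec.map (CommRingCat.ofHom χ) ≫ r = Spec.map φ := by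
      rw [← Spec.map_comp, ← CommRingCat.ofHom_comp]
      congr 1
    let G := (Over.pullback r).obj N
    letI : GrpObj G := Functor.grpObjObj
    haveI hG : ConnectedSpace G.left := by
      haveI : IsClosedImmersion r :=
        IsClosedImmersion.spec_of_surjective _ Ideal.Quotient.mk_surjective
      haveI : IrreducibleSpace ↥(pullback N.hom (Spec.map (CommRingCat.ofHom (algebraMap R (FractionRing R))))) :=
        haveI := GeometricallyIntegral.isIntegral_of_subsingleton
          (pullback.snd N.hom (Spec.map (CommRingCat.ofHom (algebraMap R (FractionRing R)))))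
        inferInstance
      haveI : IsIntegral N.left := ConnFibre.isIntegral_of_smooth (FractionRing R) N.hom
      haveI : IsLocallyNoetherian N.left := LocallyOfFiniteType.isLocallyNoetherian N.hom
      have hglob : Function.Surjective (Coh.toGlobal N.hom) := fun c => by
        obtain ⟨q, hq, hqc⟩ := (Hens.CoupleProper.finite_toGlobal N.hom).to_isIntegral c
        haveI : Nonempty N.left := ⟨η[N].left.base (IsLocalRing.closedPoint R)⟩
        obtain ⟨x, hx⟩ := ConnFibre.exists_eq_of_isIntegral_section (FractionRing R) N.hom (𝟙 N.left) c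
          ⟨q, hq, by rw [Category.id_comp]; exact hqc⟩
        exact ⟨x, by rw [Category.id_comp] at hx; exact hx⟩
      have hr : Set.range r.base = {IsLocalRing.closedPoint R} := by
        refine Set.eq_singleton_iff_nonempty_unique_mem.2 ⟨Set.range_nonempty _, ?_⟩
        rintro _ ⟨x, rfl⟩
        rw [Subsingleton.elim x (IsLocalRing.closedPoint _)]
        exact IsLocalRing.comap_closedPoint (IsLocalRing.residue R)
      let i := pullback.fst N.hom r
      have hc : _root_.IsPreconnected (Set.range i.base) := by
        rw [Scheme.Pullback.range_fst, hr]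
        exact ConnFibre.isPreconnected_closedFibre N.hom hglob
      rw [← Set.image_univ] at hc
      haveI : PreconnectedSpace G.left :=
        ⟨i.isEmbedding.isInducing.isPreconnected_image.1 hc⟩
      exact { toNonempty := ⟨η[G].left.base (IsLocalRing.closedPoint (IsLocalRing.ResidueField R))⟩ }
    haveI := AbVarLib.Basics.irreducibleSpace_of_connectedSpace G
    haveI := GrpScheme.Component.geometricallyIrreducible_of_irreducibleSpace G
    haveI : GeometricallyIrreducible (pullback.snd N.hom r) := ‹GeometricallyIrreducible G.hom›
    haveI : IrreducibleSpace ↑(pullback (pullback.snd N.hom r) (Spec.map (CommRingCat.ofHom χ))) :=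
      GeometricallyIrreducible.geometrically_irreducibleSpace _ _ _ (.of_hasPullback _ _)
    let h := (pullbackLeftPullbackSndIso N.hom r (Spec.map (CommRingCat.ofHom χ))) ≪≫
      pullback.congrHom rfl hχ
    exact h.hom.homeomorph.surjective.connectedSpace h.hom.continuous

/-- (i) ⟺ (iv): let R be a discrete valuation ring with fraction field K, A an abelian variety over K (a
proper, geometrically integral group scheme) and N a Néron model of A over Spec R. Then A extends to
an abelian scheme over R (a proper smooth group scheme with connected geometric fibres and generic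
fibre K-isomorphic to A) if and only if N is proper over Spec R. -/
theorem result (R : Type u) [CommRing R] [IsDomain R] [IsDiscreteValuationRing R]
    (A : Over (Spec (CommRingCat.of (FractionRing R)))) [GrpObj A] [IsProper A.hom] [GeometricallyIntegral A.hom]
    (N : Over (Spec (CommRingCat.of R))) (e : (Neron.genericFibre R).obj N ≅ A) (hN : Neron.IsNeronModelOf R N A e) :
    (∃ (B : Over (Spec (CommRingCat.of R))) (_ : GrpObj B), IsProper B.hom ∧ Smooth B.hom ∧
        (∀ (k' : Type u) [Field k'] (t : Spec (CommRingCat.of k') ⟶ Spec (CommRingCat.of R)), ConnectedSpace ↑(pullback B.hom t)) ∧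
        Nonempty ((Over.pullback (Spec.map (CommRingCat.ofHom (algebraMap R (FractionRing R))))).obj B ≅ A)) ↔ IsProper N.hom := by
  obtain ⟨hsm, hsep, hlft, hqc, hb⟩ := hN
  constructor
  · rintro ⟨B, _, hBp, hBs, -, ⟨ι'⟩⟩
    haveI := hBp
    haveI := hBs
    have hB : Neron.IsNeronModelOf R B A ι' := by
      refine ⟨hBs, inferInstance, inferInstance, inferInstance, fun Y hY => ?_⟩
      haveI := hY
      exact ι'.homToEquiv.bijective.comp (WeilExt.bijective_of_isProper Y B)
    obtain ⟨⟨ψ, hψ, -⟩, hiso⟩ := S11098.result R A N B e ι' ⟨hsm, hsep, hlft, hqc, hb⟩ hB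
    haveI := hiso ψ hψ
    haveI : IsIso ψ.left := inferInstanceAs (IsIso ((Over.forget _).map ψ))
    haveI := hBp
    rw [← Over.w ψ]
    infer_instance
  · intro hp
    haveI : GrpObj ((Neron.genericFibre R).obj N) := GrpObj.ofIso e.symm
    letI : GrpObj N := NeronGrp.grpObj (Neron.genericFibre R) (fun Y => Smooth Y.hom) N hsm
      (inferInstanceAs (Smooth (𝟙 (Spec (CommRingCat.of R))))) (fun P Q hP hQ => by
        haveI := hP
        haveI := hQ
        exact inferInstanceAs (Smooth (pullback.fst P.hom Q.hom ≫ P.hom)))
      (fun Y hY => ⟨fun f g h => (hb Y hY).1 (congrArg (· ≫ e.hom) h), fun g => by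
        obtain ⟨f, hf⟩ := (hb Y hY).2 (g ≫ e.hom)
        exact ⟨f, (cancel_mono e.hom).1 hf⟩⟩)
    haveI : GeometricallyIntegral (pullback.snd N.hom (Neron.genPt R)) := by
      haveI : IsIso e.hom.left := inferInstanceAs (IsIso ((Over.forget _).map e.hom))
      haveI : MorphismProperty.RespectsIso @GeometricallyIntegral :=
        MorphismProperty.IsStableUnderBaseChange.respectsIso
      have : GeometricallyIntegral (e.hom.left ≫ A.hom) :=
        (MorphismProperty.cancel_left_of_respectsIso @GeometricallyIntegral e.hom.left A.hom).2 ‹_›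
      rwa [Over.w e.hom] at this
    haveI := hsm
    exact ⟨N, inferInstance, hp, hsm, fun k' _ t => connectedSpace_fibre R N k' t, ⟨e⟩⟩

end Groth.Agent.S3211
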