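import Groth.Statements.S3214
import Mathlib

set_option autoImplicit false
open Polynomial
universe u
open SGA7II

namespace Groth.Agent.S3214

/-- In the recursive form established in its proof: let A = Z[X_1, ..., X_a] (a >= 1), P = prod_i (T -
X_i) in A[T] and S_i the i-th elementary symmetric function. Writing a_j for the coefficient of
T^{a-1} in the remainder of T^{a-1+j} modulo P, one has a_0 = 1 and sum_{i=0}^{a} (-1)^i S_i a_{j-i}
= 0 for every j > 0 (with a_m = 0 for m < 0); equivalently sum_j (-1)^j a_j is the inverse of sum_i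
S_i. (The source works in formal power series; the identity involves only polynomials.) -/
theorem result (a : ℕ) (ha : 0 < a) :
    let P : (MvPolynomial (Fin a) ℤ)[X] := ∏ i : Fin a, (X - C (MvPolynomial.X i))
    let coef : ℤ → MvPolynomial (Fin a) ℤ := fun j =>
      if j < 0 then 0 else ((X : (MvPolynomial (Fin a) ℤ)[X]) ^ (a - 1 + j.toNat) %ₘ P).coeff (a - 1)
    coef 0 = 1 ∧ ∀ j : ℕ, 0 < j →
      (∑ i ∈ Finset.range (a + 1), (-1 : MvPolynomial (Fin a) ℤ) ^ i * MvPolynomial.esymm (Fin a) ℤ i *
        coef ((j : ℤ) - i)) = 0 := by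
  intro P coef
  classical
  have hmonic : P.Monic := monic_prod_of_monic _ _ fun i _ => monic_X_sub_C _
  have hdeg : P.natDegree = a := by
    rw [natDegree_prod_of_monic _ _ fun i _ => monic_X_sub_C _]; simp
  have hlow : ∀ m, m < a → ((X : (MvPolynomial (Fin a) ℤ)[X]) ^ m %ₘ P) = X ^ m := fun m hm => by
    rw [modByMonic_eq_self_iff hmonic, degree_X_pow, degree_eq_natDegree hmonic.ne_zero, hdeg]
    exact_mod_cast hm
  refine ⟨?_, fun j hj => ?_⟩
  · simp only [coef, Int.toNat_zero, lt_irrefl, if_false, add_zero]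
    rw [hlow _ (by omega), coeff_X_pow, if_pos rfl]
  · have hP : P = ∑ i ∈ Finset.range (a + 1),
        C ((-1 : MvPolynomial (Fin a) ℤ) ^ i * MvPolynomial.esymm (Fin a) ℤ i) * X ^ (a - i) := by
      have h := Multiset.prod_X_sub_X_eq_sum_esymm
        ((Finset.univ : Finset (Fin a)).val.map fun i => (MvPolynomial.X i : MvPolynomial (Fin a) ℤ))
      rw [Multiset.map_map, Multiset.card_map] at h
      simp only [P, Finset.prod_eq_multiset_prod]
      refine Eq.trans ?_ (h.trans ?_)
      · rfl
      · rw [show Multiset.card (Finset.univ : Finset (Fin a)).val = a by simp]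
        refine Finset.sum_congr rfl fun i _ => ?_
        rw [MvPolynomial.esymm_eq_multiset_esymm, map_mul, map_pow, map_neg, map_one, mul_assoc]
    have h0 : ((X : (MvPolynomial (Fin a) ℤ)[X]) ^ (j - 1) * P) %ₘ P = 0 :=
      (modByMonic_eq_zero_iff_dvd hmonic).mpr (Dvd.intro_left _ rfl)
    conv at h0 => arg 1; arg 1; rw [hP, Finset.mul_sum]
    have h1 := congrArg (fun q : (MvPolynomial (Fin a) ℤ)[X] => q.coeff (a - 1)) h0
    rw [show ∀ s : Finset ℕ, ∀ f : ℕ → (MvPolynomial (Fin a) ℤ)[X], (∑ i ∈ s, f i) %ₘ P = ∑ i ∈ s, f i %ₘ P from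
      fun s f => map_sum (Polynomial.modByMonicHom P) f s] at h1
    simp only [finsetSum_coeff, coeff_zero] at h1
    rw [← h1]
    refine Finset.sum_congr rfl fun i hi => ?_
    have hi' := Finset.mem_range.mp hi
    rw [mul_left_comm, ← pow_add, ← smul_eq_C_mul, smul_modByMonic, coeff_smul, smul_eq_mul]
    congr 1
    simp only [coef]
    rcases le_or_gt i j with hij | hij
    · rw [if_neg (by omega), show ((j : ℤ) - i).toNat = j - i by omega,
        show a - 1 + (j - i) = j - 1 + (a - i) by omega]
    · rw [if_pos (by omega), hlow _ (by omega), coeff_X_pow, if_neg (by omega)]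

end Groth.Agent.S3214
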