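import Groth.Statements.S3241
import Groth.Agent.GalCohAux.EtDivTor
import Groth.Agent.GalCohAux.EtCompo
-- import your own Groth.Agent.* helpers here

set_option autoImplicit false
set_option backward.isDefEq.respectTransparency false
universe u
open CategoryTheory AlgebraicGeometry
open Dix

namespace Groth.Agent.S3241

open GalCohAux

attribute [-instance] GalCohAux.EtFin.instUniqueCarrierCarrierCommRingCatSpecOf_groth

/-- Let X be a noetherian scheme such that for every X' étale over X all local rings of X' are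
factorial. Then the groups H^q(X_ét, G_m) are torsion for every q ≥ 2; in particular the
cohomological Brauer group H²(X_ét, G_m) is torsion. -/
theorem result (X : Scheme.{u}) [IsNoetherian X] (hfact : ∀ (U : X.Etale) (u : U.left), IsDomain (U.left.presheaf.stalk u) ∧ UniqueFactorizationMonoid (U.left.presheaf.stalk u)) (q : ℕ) (hq : 2 ≤ q) : IsAddTorsion (EtCoh.H X (EtCoh.Gm X) q) := by
  classical
  obtain ⟨r, rfl⟩ : ∃ r, q = r + 2 := ⟨q - 2, by omega⟩
  have hN : ∀ x : X, IsDomain (X.presheaf.stalk x) ∧ IsIntegrallyClosed (X.presheaf.stalk x) := fun x => by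
    haveI : IsDomain (X.presheaf.stalk x) := (hfact (EtCoh.top X) x).1
    haveI : UniqueFactorizationMonoid (X.presheaf.stalk x) := (hfact (EtCoh.top X) x).2
    exact ⟨inferInstance, inferInstance⟩
  obtain ⟨ι, _, C, hC, hCi, ⟨e, -⟩⟩ := EtCompo.exists_decomposition X hN (EtCoh.Gm X)
  refine EtDivTor.isAddTorsion_of_iso e.symm _ (EtDivTor.isAddTorsion_biproduct _ _ fun i => ?_)
  haveI := (hCi i).1
  haveI := (hCi i).2
  haveI := hC i
  have hf : ∀ (U : (C i : Scheme.{u}).Etale) (v : U.left),
      IsDomain (U.left.presheaf.stalk v) ∧ UniqueFactorizationMonoid (U.left.presheaf.stalk v) := fun U v => by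
    haveI : Etale U.hom := U.prop
    haveI : Etale ((U.hom : U.left ⟶ (C i : Scheme.{u})) ≫ (C i).ι) := inferInstance
    exact hfact (Scheme.Etale.mk ((U.hom : U.left ⟶ (C i : Scheme.{u})) ≫ (C i).ι)) v
  have h := EtDivTor.isAddTorsion_of_iso (EtGm.pullGmIso (C i).ι).symm _ (EtDivTor.isAddTorsion_Gm hf r)
  intro x
  have hb := S14451.result (C i).ι ((EtCoh.pull (C i).ι).obj (EtCoh.Gm X))
    (fun s hs => S3054.result (C i).ι _ s hs) (r + 2)
  obtain ⟨n, hn, hz⟩ := isOfFinAddOrder_iff_nsmul_eq_zero.1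
    (h (EtLim.HofPush (C i).ι ((EtCoh.pull (C i).ι).obj (EtCoh.Gm X)) (r + 2) x))
  refine isOfFinAddOrder_iff_nsmul_eq_zero.2 ⟨n, hn, hb.1 ?_⟩
  rw [map_nsmul, hz, map_zero]

end Groth.Agent.S3241
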