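import Groth.Statements.S3244
import Groth.Agent.H85.Kummer

set_option autoImplicit false
universe u
open CategoryTheory AlgebraicGeometry
open Dix

namespace Groth.Agent.S3244

/-- Kummer theory at finite level: let n > 0 be an integer invertible on the scheme X (nonzero in every
residue field). Then for every i ≥ 1 the image of H^i(X_ét, μ_n) → H^i(X_ét, G_m), induced by the
inclusion μ_n → G_m, is exactly the subgroup of elements of H^i(X_ét, G_m) killed by n; in
particular H²(X_ét, μ_n) maps onto the n-torsion of the cohomological Brauer group H²(X_ét, G_m).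
(The published statement gives exact sequences obtained as the colimit of these over the powers n =
ℓ^m of a prime ℓ.) -/
theorem result (X : Scheme.{u}) (n : ℕ) (hn : 0 < n) (hX : Dix.InvertibleOn X n) (i : ℕ) (hi : 1 ≤ i) : Set.range ⇑((EtCoh.HF X i).map (EtCoh.muι X n)) = {ξ : (EtCoh.HF X i).obj (EtCoh.Gm X) | n • ξ = 0} := by
  ext ξ
  constructor
  · rintro ⟨η, rfl⟩
    exact H85.nsmul_map_muι n η
  · intro hξ
    exact H85.exists_of_nsmul_eq_zero hX ξ hξ

end Groth.Agent.S3244
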