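import Groth.Statements.S3246
import Groth.Agent.H85.Kummer

set_option autoImplicit false
universe u
open CategoryTheory AlgebraicGeometry
open Dix

namespace Groth.Agent.S3246

open CategoryTheory.Limits in
theorem isPrimaryTorsion_of_nsmul_eq_zero {X : Scheme.{u}} {ℓ k : ℕ} (F : EtCoh.Ab X)
    (h : (ℓ ^ k) • 𝟙 F = 0) : Dix.IsPrimaryTorsion ℓ F := by
  intro U s x
  refine ⟨U, 𝟙 U, ⟨x, rfl⟩, k, ?_⟩
  let ev := sheafToPresheaf X.smallEtaleTopology AddCommGrpCat.{u + 1} ⋙ (evaluation _ _).obj (Opposite.op U)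
  have h1 : (ℓ ^ k) • ev.map (𝟙 F) = 0 := by
    rw [← Functor.map_nsmul, h, Functor.map_zero]
  rw [ev.map_id] at h1
  have h2 := ConcreteCategory.congr_hom h1 s
  rw [op_id, F.obj.map_id]
  exact h2

open CategoryTheory.Limits in
theorem eq_zero_of_high {X : Scheme.{u}} {ℓ n : ℕ} (hcd : Dix.CohDimLEAt X ℓ n) {i k : ℕ}
    (hi : n + 1 < i) (ξ : EtCoh.H X (EtCoh.Gm X) i) (hξ : ℓ ^ k • ξ = 0) : ξ = 0 := by
  let f : EtCoh.Gm X ⟶ EtCoh.Gm X := (ℓ ^ k) • 𝟙 _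
  let S1 : ShortComplex (EtCoh.Ab X) :=
    ShortComplex.mk (kernel.ι f) (Abelian.factorThruImage f)
      (by rw [← cancel_mono (Abelian.image.ι f), Category.assoc, Abelian.image.fac, kernel.condition,
        zero_comp])
  let S2 : ShortComplex (EtCoh.Ab X) :=
    ShortComplex.mk (Abelian.image.ι f) (cokernel.π f) (kernel.condition _)
  have hS1 : S1.ShortExact :=
    { exact := ShortComplex.exact_of_f_is_kernel _
        (isKernelOfComp (f := Abelian.factorThruImage f) (Abelian.image.ι f) f (kernelIsKernel f) S1.zero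
          (Abelian.image.fac f))
      mono_f := (equalizer.ι_mono : Mono (kernel.ι f))
      epi_g := (inferInstance : Epi (Abelian.factorThruImage f)) }
  have hS2 : S2.ShortExact :=
    { exact := ShortComplex.exact_of_f_is_kernel _ (kernelIsKernel _)
      mono_f := (equalizer.ι_mono : Mono (kernel.ι (cokernel.π f)))
      epi_g := (coequalizer.π_epi : Epi (cokernel.π f)) }
  have hk : (ℓ ^ k) • 𝟙 (kernel f) = 0 := by
    rw [← cancel_mono (kernel.ι f)]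
    calc ((ℓ ^ k) • 𝟙 (kernel f)) ≫ kernel.ι f = kernel.ι f ≫ f := by simp [f]
      _ = 0 ≫ kernel.ι f := by rw [kernel.condition, zero_comp]
  have hc : (ℓ ^ k) • 𝟙 (cokernel f) = 0 := by
    rw [← cancel_epi (cokernel.π f)]
    calc cokernel.π f ≫ ((ℓ ^ k) • 𝟙 (cokernel f)) = ((ℓ ^ k) • 𝟙 _) ≫ cokernel.π f := by
            rw [Preadditive.comp_nsmul, Preadditive.nsmul_comp, Category.comp_id, Category.id_comp]
      _ = cokernel.π f ≫ 0 := by rw [cokernel.condition, comp_zero]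
  have hK : Subsingleton (EtCoh.H X (kernel f) i) :=
    hcd _ (isPrimaryTorsion_of_nsmul_eq_zero _ hk) i (by omega)
  have hC : Subsingleton (EtCoh.H X (cokernel f) (i - 1)) :=
    hcd _ (isPrimaryTorsion_of_nsmul_eq_zero _ hc) (i - 1) (by omega)
  let η := Abelian.Ext.comp ξ (Abelian.Ext.mk₀ (Abelian.factorThruImage f)) (add_zero i)
  have h0 : η.comp (Abelian.Ext.mk₀ (Abelian.image.ι f)) (add_zero i) = 0 := by
    simp only [η]
    rw [Abelian.Ext.comp_assoc_of_second_deg_zero, Abelian.Ext.mk₀_comp_mk₀, Abelian.image.fac]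
    exact (H85.comp_mk₀_nsmul ξ (ℓ ^ k)).trans hξ
  obtain ⟨c, hc'⟩ := Abelian.Ext.covariant_sequence_exact₁ _ hS2 η h0 (n₀ := i - 1) (by omega)
  rw [@Subsingleton.elim _ hC c 0, Abelian.Ext.zero_comp] at hc'
  obtain ⟨m, hm⟩ := Abelian.Ext.covariant_sequence_exact₂ _ hS1 ξ hc'.symm
  rw [← hm, @Subsingleton.elim _ hK m 0, Abelian.Ext.zero_comp]

/-- Let X be a scheme, ℓ a prime and n an integer with cd_ℓ(X) ≤ n (étale cohomology of ℓ-primary
torsion sheaves vanishes above degree n). Then the ℓ-primary torsion of H^i(X_ét, G_m) is zero for i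
> n + 1; if moreover ℓ is invertible on X, it is zero for i > n. -/
theorem result (X : Scheme.{u}) (ℓ : ℕ) (hℓ : ℓ.Prime) (n : ℕ) (hcd : Dix.CohDimLEAt X ℓ n) : (∀ i : ℕ, n + 1 < i → ∀ ξ : EtCoh.H X (EtCoh.Gm X) i, (∃ k : ℕ, ℓ ^ k • ξ = 0) → ξ = 0) ∧ (Dix.InvertibleOn X ℓ → ∀ i : ℕ, n < i → ∀ ξ : EtCoh.H X (EtCoh.Gm X) i, (∃ k : ℕ, ℓ ^ k • ξ = 0) → ξ = 0) := by
  refine ⟨fun i hi ξ ⟨k, hk⟩ => eq_zero_of_high hcd hi ξ hk, ?_⟩
  intro hℓX i hi ξ ⟨k, hk⟩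
  have hX : ∀ x : X, ((ℓ ^ k : ℕ) : X.residueField x) ≠ 0 := fun x => by
    rw [Nat.cast_pow]; exact pow_ne_zero _ (hℓX x)
  haveI : Mono (EtCoh.muι X (ℓ ^ k)) :=
    (Limits.equalizer.ι_mono : Mono (Limits.kernel.ι (EtCoh.powMap X (ℓ ^ k))))
  have htor : (ℓ ^ k) • 𝟙 (EtCoh.mu X (ℓ ^ k)) = 0 := by
    rw [← cancel_mono (EtCoh.muι X (ℓ ^ k))]
    calc ((ℓ ^ k) • 𝟙 _) ≫ EtCoh.muι X (ℓ ^ k) = EtCoh.muι X (ℓ ^ k) ≫ EtCoh.powMap X (ℓ ^ k) := by
            simp [EtCoh.powMap]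
        _ = 0 ≫ EtCoh.muι X (ℓ ^ k) := by
            rw [Limits.zero_comp]; exact Limits.kernel.condition _
  have := hcd _ (isPrimaryTorsion_of_nsmul_eq_zero _ htor) i hi
  obtain ⟨η, rfl⟩ := H85.exists_of_nsmul_eq_zero hX ξ hk
  rw [@Subsingleton.elim _ this η 0]
  exact map_zero _

end Groth.Agent.S3246
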