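import Groth.Statements.S3248
import Groth.Agent.CSA.MaxEtale
-- import your own Groth.Agent.* helpers here

set_option autoImplicit false
universe u
open TensorProduct
open Dix

namespace Groth.Agent.S3248

/-- Stated for a commutative subalgebra: let A be a central simple algebra of dimension r² over a field
k and L a commutative k-algebra embedded in A by an injective k-algebra homomorphism ι, such that A
is free of rank r for the right L-module structure a · l = a ι(l) (given here as a module structure
together with that compatibility). Then L ⊗_k A is isomorphic as an L-algebra to the matrix algebra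
M_r(L). (Only the existence of an isomorphism is stated; the text names the map a ⊗ l ↦ (y ↦ a y
l).) -/
theorem result (k : Type u) [Field k] (A : Type u) [Ring A] [Algebra k A] [Algebra.IsCentral k A] [IsSimpleRing A] [FiniteDimensional k A] (L : Type u) [CommRing L] [Algebra k L] (ι : L →ₐ[k] A) (hι : Function.Injective ι) [Module L A] (hmod : ∀ (l : L) (a : A), l • a = a * ι l) [Module.Free L A] (r : ℕ) (hr : 0 < r) (hA : Module.finrank k A = r ^ 2) (hrank : Module.finrank L A = r) : Nonempty ((L ⊗[k] A) ≃ₐ[L] Matrix (Fin r) (Fin r) L) := by
  have := Groth.Agent.CSA.MaxEtale.isScalarTower ι hmod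
  have : Nontrivial L := ι.toRingHom.domain_nontrivial
  have := Groth.Agent.CSA.MaxEtale.finiteDimensional ι hι
  have : Module.Finite L A := Module.Finite.of_restrictScalars_finite k L A
  exact ⟨(AlgEquiv.ofBijective _ (Groth.Agent.CSA.MaxEtale.action_bijective ι hι hmod hA hrank)).trans
    (algEquivMatrix (Module.finBasisOfFinrankEq L A hrank))⟩

end Groth.Agent.S3248
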