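import Groth.Statements.S3258
import Groth.Agent.S15140
import Groth.Agent.S15544
import Groth.Agent.BirSp.Normal
import Groth.Agent.ProjProper.Basic
import Groth.Agent.StrictSSLib.Component
import Groth.Agent.CDivLib.Generisation
import Groth.Agent.RegLoc.UFD
import Groth.Agent.S3313

set_option autoImplicit false
universe u
open AlgebraicGeometry CategoryTheory CategoryTheory.Limits
open ArSurf

namespace Groth.Agent.S3258

/-- Let R be a Dedekind domain and X an arithmetic surface over Spec R (a regular, integral scheme of
dimension 2, flat and projective over Spec R) which is smooth over Spec R. Then X is relatively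
minimal: every R-morphism from X to a regular, projective, flat R-scheme that is an isomorphism on
generic fibres is an isomorphism. -/
theorem result {R : Type u} [CommRing R] [IsDedekindDomain R]
    (X : Over (Spec (CommRingCat.of R))) (hX : ArSurf.IsArithSurface R X) [Smooth X.hom] :
    Neron.IsRelMinimalRegularModel R X := by
  classical
  obtain ⟨hXreg, hXint, hXdim, hXflat, hXproj⟩ := hX
  refine ⟨hXreg, hXproj, hXflat, fun Y hYreg hYproj hYflat g hg => ?_⟩
  haveI := hXint
  haveI := hXflat
  haveI := hYflat
  haveI := ProjProper.Basic.isProper_of_isProjectiveOver R X hXproj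
  haveI := ProjProper.Basic.isProper_of_isProjectiveOver R Y hYproj
  haveI : IsLocallyNoetherian X.left := LocallyOfFiniteType.isLocallyNoetherian X.hom
  haveI : IsLocallyNoetherian Y.left := LocallyOfFiniteType.isLocallyNoetherian Y.hom
  haveI : CompactSpace X.left := QuasiCompact.compactSpace_of_compactSpace X.hom
  haveI : AlgebraicGeometry.IsNoetherian X.left := {}
  haveI : IsProper g.left := by
    haveI : IsProper (g.left ≫ Y.hom) := by rw [Over.w g]; infer_instance
    exact IsProper.of_comp g.left Y.hom
  haveI : ∀ y : Y.left, IsDomain (Y.left.presheaf.stalk y) := fun y => haveI := hYreg y; RegLoc.isDomain _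
  have hYnor : ∀ y : Y.left, IsIntegrallyClosed (Y.left.presheaf.stalk y) := fun y =>
    haveI := hYreg y
    haveI := RegLoc.UFD.uniqueFactorizationMonoid (Y.left.presheaf.stalk y)
    inferInstance
  haveI : IsReduced Y.left := by
    haveI : ∀ y : Y.left, _root_.IsReduced (Y.left.presheaf.stalk y) := fun y => inferInstance
    exact isReduced_of_isReduced_stalk _
  -- the generic fibres
  let j := Spec.map (CommRingCat.ofHom (algebraMap R (FractionRing R)))
  have hjr : Set.range j = {⟨⊥, Ideal.isPrime_bot⟩} := by
    ext z
    constructor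
    · rintro ⟨w, rfl⟩
      refine PrimeSpectrum.ext ?_
      change Ideal.comap (algebraMap R (FractionRing R)) w.asIdeal = ⊥
      rw [(Ideal.eq_bot_or_top w.asIdeal).resolve_right w.isPrime.ne_top]
      exact Ideal.comap_bot_of_injective _ (IsFractionRing.injective R (FractionRing R))
    · rintro rfl
      exact ⟨⟨⊥, Ideal.isPrime_bot⟩, PrimeSpectrum.ext (Ideal.comap_bot_of_injective _ (IsFractionRing.injective R (FractionRing R)))⟩
  let γ := ((Neron.genericFibre R).map g).left
  haveI : IsIso γ := inferInstanceAs (IsIso ((Over.forget _).map ((Neron.genericFibre R).map g)))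
  have hγ : γ ≫ pullback.fst Y.hom j = pullback.fst X.hom j ≫ g.left := pullback.lift_fst _ _ _
  have hgr : ∀ y : Y.left, (Y.hom y).asIdeal = ⊥ → y ∈ Set.range g.left := fun y hy => by
    obtain ⟨w, rfl⟩ : y ∈ Set.range (pullback.fst Y.hom j) := by
      rw [Scheme.Pullback.range_fst, Set.mem_preimage, hjr]
      exact PrimeSpectrum.ext hy
    obtain ⟨w, rfl⟩ := γ.surjective w
    rw [← Scheme.Hom.comp_apply, hγ, Scheme.Hom.comp_apply]
    exact ⟨_, rfl⟩
  haveI : IsPreimmersion j := IsPreimmersion.of_isLocalization (nonZeroDivisors R)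
  have hgi : ∀ x x' : X.left, (X.hom x).asIdeal = ⊥ → g.left x = g.left x' → x = x' := fun x x' hx e => by
    have hx' : (X.hom x').asIdeal = ⊥ := by
      rwa [← Over.w g, Scheme.Hom.comp_apply, ← e, ← Scheme.Hom.comp_apply, Over.w g]
    obtain ⟨w, rfl⟩ : x ∈ Set.range (pullback.fst X.hom j) := by
      rw [Scheme.Pullback.range_fst, Set.mem_preimage, hjr]
      exact PrimeSpectrum.ext hx
    obtain ⟨w', rfl⟩ : x' ∈ Set.range (pullback.fst X.hom j) := by
      rw [Scheme.Pullback.range_fst, Set.mem_preimage, hjr]
      exact PrimeSpectrum.ext hx'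
    rw [← Scheme.Hom.comp_apply, ← Scheme.Hom.comp_apply, ← hγ] at e
    exact congrArg _ (γ.injective ((pullback.fst Y.hom j).isEmbedding.injective e))
  -- the target is integral and the map is surjective
  have hsurj : Function.Surjective g.left := fun y => by
    have hb : (⟨⊥, Ideal.isPrime_bot⟩ : Spec (CommRingCat.of R)) ⤳ Y.hom y :=
      (PrimeSpectrum.le_iff_specializes _ _).mp bot_le
    obtain ⟨z, hz, hzb⟩ := Flat.generalizingMap Y.hom hb
    obtain ⟨x, rfl⟩ := hgr z (congrArg PrimeSpectrum.asIdeal hzb)
    exact (g.left.isClosedMap.isClosed_range.stableUnderSpecialization hz ⟨x, rfl⟩ :)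
  haveI : IrreducibleSpace Y.left := by
    haveI : Nonempty Y.left := ⟨g.left (genericPoint X.left)⟩
    have h := (IrreducibleSpace.isIrreducible_univ X.left).image g.left g.left.continuous.continuousOn
    rw [Set.image_univ, Set.range_eq_univ.mpr hsurj] at h
    exact { toPreirreducibleSpace := ⟨h.2⟩, toNonempty := inferInstance }
  haveI : IsIntegral Y.left := isIntegral_of_irreducibleSpace_of_isReduced _
  set η := genericPoint X.left
  have hη : g.left η = genericPoint Y.left := by
    obtain ⟨e, he⟩ := hsurj (genericPoint Y.left)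
    exact ((he ▸ (genericPoint_specializes e).map g.left.continuous).antisymm (genericPoint_specializes _)).eq
  haveI : IsDominant g.left := ⟨hsurj.denseRange⟩
  have hη0 : (X.hom η).asIdeal = ⊥ := by
    obtain ⟨z, hz, hzb⟩ := Flat.generalizingMap X.hom
      ((PrimeSpectrum.le_iff_specializes _ _).mp bot_le : (⟨⊥, Ideal.isPrime_bot⟩ : Spec (CommRingCat.of R)) ⤳ X.hom η)
    rw [← (hz.antisymm (genericPoint_specializes z)).eq]
    exact congrArg PrimeSpectrum.asIdeal hzb
  have hbir : IsIso (g.left.stalkMap η) := by
    obtain ⟨w, hw⟩ : η ∈ Set.range (pullback.fst X.hom j) := by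
      rw [Scheme.Pullback.range_fst, Set.mem_preimage, hjr]
      exact PrimeSpectrum.ext hη0
    haveI : IsPreimmersion (pullback.fst X.hom j) := inferInstance
    haveI : IsPreimmersion (γ ≫ pullback.fst Y.hom j) := inferInstance
    have h1 : Function.Surjective ((pullback.fst X.hom j ≫ g.left).stalkMap w) :=
      hγ ▸ (γ ≫ pullback.fst Y.hom j).stalkMap_surjective w
    rw [Scheme.Hom.stalkMap_comp] at h1
    rw [← hw]
    haveI : IsField (X.left.presheaf.stalk (pullback.fst X.hom j w)) → True := fun _ => trivial
    have hinj : Function.Injective ((pullback.fst X.hom j).stalkMap w) := by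
      haveI : Nontrivial ((pullback X.hom j).presheaf.stalk w) := inferInstance
      have hf : IsField (X.left.presheaf.stalk (pullback.fst X.hom j w)) := by
        rw [hw]; exact Field.toIsField X.left.functionField
      letI := hf.toField
      exact ((pullback.fst X.hom j).stalkMap w).hom.injective
    refine (ConcreteCategory.isIso_iff_bijective _).mpr ⟨ZCorrLib.stalkMap_injective g.left _, fun b => ?_⟩
    obtain ⟨a, ha⟩ := h1 ((pullback.fst X.hom j).stalkMap w b)
    exact ⟨a, hinj ha⟩
  -- the fibres carry no specializations
  have key : ∀ x x' : X.left, x ⤳ x' → g.left x = g.left x' → x = x' := by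
    intro x x' hxx e
    by_cases hx0 : (X.hom x).asIdeal = ⊥
    · exact hgi x x' hx0 e
    by_contra hne
    set y := g.left x with hy
    set sp := X.hom x with hsp
    have hysp : Y.hom y = sp := by rw [hy, hsp, ← Over.w g]; rfl
    have hspc : IsClosed ({sp} : Set (Spec (CommRingCat.of R))) :=
      (PrimeSpectrum.isClosed_singleton_iff_isMaximal sp).mpr (sp.isPrime.isMaximal hx0)
    -- `x` is a maximal point of its fibre
    have hmax : ∀ w, X.hom w = sp → w ⤳ x → w = x := by
      intro w hw hwx
      by_contra hwne
      have h12 : x' < x := lt_of_le_not_ge hxx fun h => hne (hxx.antisymm h).eq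
      have h23 : x < w := lt_of_le_not_ge hwx fun h => hwne (hwx.antisymm h).eq
      have h34 : w < η := lt_of_le_not_ge (genericPoint_specializes w) fun h =>
        hx0 (hw ▸ ((genericPoint_specializes w).antisymm h).eq ▸ hη0)
      have h2 : Order.coheight x' ≤ 2 := WithBot.coe_le_coe.mp
        ((Order.coheight_le_krullDim x').trans_eq (DimLift.topDim_eq_krullDim_points.symm.trans hXdim))
      have h3 := ((add_le_add_left ((add_le_add_left (Order.coheight_add_one_le h34) 1).trans
        (Order.coheight_add_one_le h23)) 1).trans (Order.coheight_add_one_le h12)).trans h2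
      rw [add_assoc, add_assoc] at h3
      have h4 : (1 : ℕ∞) + (1 + 1) ≤ 2 := le_trans le_add_self h3
      norm_num at h4
    -- the fibre of the surface over `sp`
    let F := X.hom.fiber sp
    haveI : Smooth (X.hom.fiberToSpecResidueField sp) := MorphismProperty.pullback_snd (P := @Smooth) _ _ inferInstance
    obtain ⟨xF, hxF⟩ : x ∈ Set.range (X.hom.fiberι sp) := by rw [Scheme.Hom.range_fiberι]; rfl
    have hclF : IsClopen ((X.hom.fiberι sp) ⁻¹' closure {x}) := by
      refine ⟨isClosed_closure.preimage (X.hom.fiberι sp).continuous, isOpen_iff_mem_nhds.mpr fun z hz => ?_⟩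
      obtain ⟨O, hzO, hO⟩ := @StrictSSLib.exists_irreducible_nhd_of_smooth
        ((Spec (CommRingCat.of R)).residueField sp) _ (X.hom.fiber sp) (X.hom.fiberToSpecResidueField sp)
        (by assumption) z
      have hxO : xF ∈ O := by
        refine Specializes.mem_open ?_ O.2 hzO
        refine (X.hom.fiberι sp).isEmbedding.isInducing.specializes_iff.mp ?_
        rw [hxF]
        exact specializes_iff_mem_closure.mpr hz
      refine Filter.mem_of_superset (O.2.mem_nhds hzO) fun o ho => ?_
      obtain ⟨w, hw⟩ : ∃ w, IsGenericPoint w (closure (O : Set F)) := ⟨_, hO.isGenericPoint_genericPoint_closure⟩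
      have h1 : w ⤳ xF := hw.specializes (subset_closure hxO)
      have h2 : X.hom.fiberι sp w = x := hmax _ (by
        exact (Scheme.Hom.range_fiberι X.hom sp).le ⟨w, rfl⟩) (hxF ▸ h1.map (X.hom.fiberι sp).continuous)
      show X.hom.fiberι sp o ∈ closure {x}
      rw [← h2]
      exact ((hw.specializes (subset_closure ho)).map (X.hom.fiberι sp).continuous).mem_closure
    haveI := S15544.result (fun y => ⟨inferInstance, hYnor y⟩) g.left hη hbir y
    have hT : _root_.IsPreconnected ((X.hom.fiberι sp) ⁻¹' (g.left ⁻¹' {y})) := by
      refine (X.hom.fiberι sp).isEmbedding.isInducing.isPreconnected_image.mp ?_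
      rw [Set.image_preimage_eq_inter_range, Scheme.Hom.range_fiberι, Set.inter_eq_left.mpr fun z hz => by
        show X.hom z = sp
        rw [← Over.w g, Scheme.Hom.comp_apply, show g.left z = y from hz, hysp], ← Scheme.Hom.range_fiberι g.left y]
      exact isPreconnected_range (g.left.fiberι y).continuous
    have hTsub := hT.subset_isClopen hclF ⟨xF, by show g.left (X.hom.fiberι sp xF) = y; rw [hxF], by
      show X.hom.fiberι sp xF ∈ closure {x}; rw [hxF]; exact subset_closure rfl⟩
    -- `y` is isolated in its fibre
    have hiso : ∀ z : Y.left, z ⤳ y → Y.hom z = sp → z = y := by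
      intro z hz hzs
      obtain ⟨w, rfl⟩ := hsurj z
      obtain ⟨w', hw', hgw'⟩ : y ∈ g.left '' closure {w} := by
        rw [← g.left.isClosedMap.closure_image_eq_of_continuous g.left.continuous, Set.image_singleton]
        exact hz.mem_closure
      have hws : X.hom w = sp := by rw [← Over.w g, Scheme.Hom.comp_apply, hzs]
      have hw's : X.hom w' = sp := by rw [← Over.w g, Scheme.Hom.comp_apply, hgw', hysp]
      obtain ⟨wF, hwF⟩ : w ∈ Set.range (X.hom.fiberι sp) := by rw [Scheme.Hom.range_fiberι]; exact hws
      obtain ⟨w'F, hw'F⟩ : w' ∈ Set.range (X.hom.fiberι sp) := by rw [Scheme.Hom.range_fiberι]; exact hw's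
      have h1 : wF ⤳ w'F := by
        refine (X.hom.fiberι sp).isEmbedding.isInducing.specializes_iff.mp ?_
        rw [hwF, hw'F]
        exact specializes_iff_mem_closure.mpr hw'
      have h2 : w'F ∈ (X.hom.fiberι sp) ⁻¹' closure {x} := hTsub (by
        show g.left (X.hom.fiberι sp w'F) = y
        rw [hw'F, hgw'])
      have h3 : x ⤳ w := by
        have := h1.mem_open hclF.isOpen h2
        exact specializes_iff_mem_closure.mpr (hwF ▸ this)
      exact (hz.antisymm (h3.map g.left.continuous)).eq
    -- hence its local ring has dimension at most one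
    obtain ⟨t, htm, ht0⟩ := Submodule.exists_mem_ne_zero_of_ne_bot hx0
    set A := Y.left.presheaf.stalk y
    let τ : A := Y.left.presheaf.germ ⊤ y trivial (Coh.toGlobal Y.hom t)
    have hτ : ∀ {z : Y.left} (hz : z ⤳ y), τ ∈ CDivLib.genPrime hz ↔ t ∈ (Y.hom z).asIdeal := by
      intro z hz
      show Y.left.presheaf.stalkSpecializes hz τ ∈ IsLocalRing.maximalIdeal _ ↔ _
      rw [TopCat.Presheaf.germ_stalkSpecializes_apply, IsLocalRing.mem_maximalIdeal, mem_nonunits_iff,
        ← Scheme.mem_basicOpen_top (X := Y.left) (Coh.toGlobal Y.hom t) z]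
      show ¬ z ∈ Y.left.basicOpen (Y.hom.appTop ((Scheme.ΓSpecIso (CommRingCat.of R)).inv t)) ↔ _
      rw [← Scheme.preimage_basicOpen_top]
      show ¬ Y.hom z ∈ (Spec (CommRingCat.of R)).basicOpen _ ↔ _
      rw [basicOpen_eq_of_affine]
      exact not_not
    have hτm : τ ∈ IsLocalRing.maximalIdeal A := by
      have h := (hτ (specializes_rfl (x := y))).mpr (hysp ▸ htm)
      unfold CDivLib.genPrime at h
      rw [TopCat.Presheaf.stalkSpecializes_refl] at h
      exact h
    have hdim : ringKrullDim A ≤ 1 := by
      haveI : (IsLocalRing.maximalIdeal A).IsPrime := inferInstance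
      obtain ⟨P, hP, hPle⟩ := Ideal.exists_minimalPrimes_le (I := Ideal.span {τ}) (J := IsLocalRing.maximalIdeal A)
        ((Ideal.span_singleton_le_iff_mem _).mpr hτm)
      haveI := hP.1.1
      obtain ⟨z, hz, hzP⟩ := CDivLib.exists_genPrime_eq P
      have htz : t ∈ (Y.hom z).asIdeal := (hτ hz).mp (hzP ▸ hP.1.2 (Ideal.subset_span rfl))
      have hzs : Y.hom z = sp := by
        have h1 : (Y.hom z).asIdeal ≠ ⊥ := fun h => ht0 (by rwa [h, Ideal.mem_bot] at htz)
        have h2 : (Y.hom z).asIdeal ≤ sp.asIdeal := hysp ▸ (PrimeSpectrum.le_iff_specializes _ _).mpr (hz.map Y.hom.continuous)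
        exact PrimeSpectrum.ext (((Y.hom z).isPrime.isMaximal h1).eq_of_le sp.isPrime.ne_top h2)
      have hzy := hiso z hz hzs
      subst hzy
      have hPm : P = IsLocalRing.maximalIdeal A := by
        rw [← hzP]
        unfold CDivLib.genPrime
        rw [TopCat.Presheaf.stalkSpecializes_refl]
        exact Ideal.comap_id _
      subst hPm
      rw [← IsLocalRing.maximalIdeal_height_eq_ringKrullDim]
      exact_mod_cast Ideal.height_le_one_of_isPrincipal_of_mem_minimalPrimes _ _ hP
    -- so the local ring maps isomorphically to those of `x` and `x'`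
    have hbij : ∀ p : X.left, g.left p = y → Function.Bijective (g.left.stalkMap p).hom := by
      intro p hp
      haveI : IsIntegrallyClosed (Y.left.presheaf.stalk (g.left p)) := hYnor _
      have hfl := S15140.flat_stalkMap g.left p (by rw [hp]; exact hdim)
      refine ⟨ZCorrLib.stalkMap_injective g.left p, fun b => ?_⟩
      letI := (g.left.stalkMap p).hom.toAlgebra
      haveI : Module.Flat (Y.left.presheaf.stalk (g.left p)) (X.left.presheaf.stalk p) := hfl
      haveI : IsLocalHom (algebraMap (Y.left.presheaf.stalk (g.left p)) (X.left.presheaf.stalk p)) :=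
        inferInstanceAs (IsLocalHom (g.left.stalkMap p).hom)
      haveI := Module.FaithfullyFlat.of_flat_of_isLocalHom (A := Y.left.presheaf.stalk (g.left p)) (B := X.left.presheaf.stalk p)
      have hsp' : g.left η ⤳ g.left p := (genericPoint_specializes p).map g.left.continuous
      obtain ⟨q, hq⟩ := ((ConcreteCategory.isIso_iff_bijective _).mp hbir).2
        (X.left.presheaf.stalkSpecializes (genericPoint_specializes p) b)
      haveI : IsFractionRing (Y.left.presheaf.stalk (g.left p)) Y.left.functionField := inferInstance
      obtain ⟨a, c, hc, hac⟩ : ∃ a c : Y.left.presheaf.stalk (g.left p), c ≠ 0 ∧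
          q * Y.left.presheaf.stalkSpecializes hsp' c = Y.left.presheaf.stalkSpecializes hsp' a := by
        obtain ⟨⟨a, c⟩, h⟩ := IsLocalization.surj (nonZeroDivisors (Y.left.presheaf.stalk (g.left p)))
          (Y.left.presheaf.stalkSpecializes (hη ▸ specializes_rfl : genericPoint Y.left ⤳ g.left η) q)
        refine ⟨a, c, nonZeroDivisors.ne_zero c.2, ?_⟩
        have hb : Function.Injective (Y.left.presheaf.stalkSpecializes (hη ▸ specializes_rfl : genericPoint Y.left ⤳ g.left η)).hom := by
          have hf : IsField (Y.left.presheaf.stalk (g.left η)) := by rw [hη]; exact Field.toIsField Y.left.functionField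
          letI := hf.toField
          exact RingHom.injective _
        refine hb ?_
        rw [map_mul, TopCat.Presheaf.stalkSpecializes_comp_apply, TopCat.Presheaf.stalkSpecializes_comp_apply]
        exact h
      have hbc : b * g.left.stalkMap p c = g.left.stalkMap p a := by
        refine (IsFractionRing.injective (X.left.presheaf.stalk p) X.left.functionField) ?_
        show X.left.presheaf.stalkSpecializes (genericPoint_specializes p) _ = X.left.presheaf.stalkSpecializes (genericPoint_specializes p) _
        rw [map_mul, ← hq, ← Scheme.Hom.stalkSpecializes_stalkMap_apply, ← Scheme.Hom.stalkSpecializes_stalkMap_apply,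
          ← map_mul]
        exact congrArg _ hac
      have hmem : a ∈ Ideal.span {c} := by
        rw [← Ideal.comap_map_eq_self_of_faithfullyFlat (B := X.left.presheaf.stalk p) (Ideal.span {c}), Ideal.mem_comap,
          Ideal.map_span, Set.image_singleton, Ideal.mem_span_singleton]
        exact ⟨b, (mul_comm _ _).trans hbc |>.symm⟩
      obtain ⟨d, rfl⟩ := Ideal.mem_span_singleton.mp hmem
      refine ⟨d, mul_left_cancel₀ (fun h => hc (ZCorrLib.stalkMap_injective g.left p (h.trans (map_zero _).symm))) ?_⟩
      exact ((map_mul _ _ _).symm.trans hbc.symm).trans (mul_comm _ _)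
    refine hne (CDivLib.genPrime_injective hxx specializes_rfl ?_)
    refine ((IsLocalRing.maximalIdeal.isMaximal _).eq_of_le (CDivLib.genPrime_isPrime hxx).ne_top ?_).symm.trans ?_
    · intro m hm
      obtain ⟨a, rfl⟩ := (hbij x' e.symm).2 m
      have ha : ¬ IsUnit a := fun h => hm (h.map _)
      show X.left.presheaf.stalkSpecializes hxx (g.left.stalkMap x' a) ∈ IsLocalRing.maximalIdeal _
      rw [← Scheme.Hom.stalkSpecializes_stalkMap_apply]
      intro hu
      have h1 : IsUnit (Y.left.presheaf.stalkSpecializes (hxx.map g.left.continuous) a) :=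
        (isUnit_map_iff (g.left.stalkMap x).hom _).mp hu
      haveI : IsIso (Y.left.presheaf.stalkSpecializes (hxx.map g.left.continuous)) := by
        have : ∀ {u v : Y.left} (h : u ⤳ v), u = v → IsIso (Y.left.presheaf.stalkSpecializes h) := by
          intro u v h huv; subst huv; rw [TopCat.Presheaf.stalkSpecializes_refl]; infer_instance
        exact this _ e
      exact ha ((isUnit_map_iff (Y.left.presheaf.stalkSpecializes (hxx.map g.left.continuous)).hom a).mp h1)
    · unfold CDivLib.genPrime
      rw [TopCat.Presheaf.stalkSpecializes_refl]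
      exact (Ideal.comap_id _).symm
  -- conclusion
  haveI : LocallyQuasiFinite g.left := by
    refine LocallyQuasiFinite.of_finite_preimage_singleton g.left fun y => ?_
    rw [← Scheme.Hom.range_fiberι g.left y]
    haveI : IsLocallyNoetherian (g.left.fiber y) :=
      LocallyOfFiniteType.isLocallyNoetherian (g.left.fiberToSpecResidueField y)
    haveI : CompactSpace (g.left.fiber y) :=
      QuasiCompact.compactSpace_of_compactSpace (g.left.fiberToSpecResidueField y)
    haveI : AlgebraicGeometry.IsNoetherian (g.left.fiber y) := {}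
    haveI : Finite (g.left.fiber y) := by
      obtain ⟨T, hTf, hTc, hTi, hT⟩ := TopologicalSpace.NoetherianSpace.exists_finite_set_isClosed_irreducible
        (isClosed_univ : IsClosed (Set.univ : Set (g.left.fiber y)))
      refine Set.finite_univ_iff.mp (hT ▸ hTf.sUnion fun W hW => ?_)
      obtain ⟨w, hw⟩ : ∃ w, IsGenericPoint w W := ⟨_, (hTi W hW).isGenericPoint_genericPoint (hTc W hW)⟩
      refine (Set.finite_singleton w).subset fun z hz => ?_
      have hy : ∀ v : g.left.fiber y, g.left (g.left.fiberι y v) = y := fun v =>
        (Scheme.Hom.range_fiberι g.left y).le ⟨v, rfl⟩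
      exact (g.left.fiberι y).isEmbedding.injective
        (key _ _ ((hw.specializes hz).map (g.left.fiberι y).continuous) ((hy w).trans (hy z).symm)).symm
    exact Set.finite_range _
  haveI : IsFinite g.left := IsFinite.of_isProper_of_locallyQuasiFinite _
  haveI : IsIso g.left := by
    refine BirSp.isIso_of_birational g.left (fun t => ⟨inferInstance, hYnor t⟩) ?_ ⟨?_, ?_, ?_⟩ fun p hp => ?_
    · rw [irreducibleComponents_eq_singleton]; exact Set.finite_singleton _
    · intro p hp
      rw [show p = η from (hp _ (genericPoint_specializes p)).symm]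
      intro z hz
      show z = g.left η
      have hz : z ⤳ g.left η := hz
      rw [hη] at hz ⊢
      exact (hz.antisymm (genericPoint_specializes z)).eq
    · intro p hp q hq _
      rw [← hp _ (genericPoint_specializes p), ← hq _ (genericPoint_specializes q)]
    · intro v hv
      refine ⟨η, fun z hz => (hz.antisymm (genericPoint_specializes z)).eq, ?_⟩
      show g.left η = v
      rw [hη]
      exact hv _ (genericPoint_specializes v)
    · rw [← hp _ (genericPoint_specializes p)]
      exact hbir
  haveI : IsIso ((Over.forget (Spec (CommRingCat.of R))).map g) := ‹IsIso g.left›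
  exact isIso_of_reflects_iso g (Over.forget _)


end Groth.Agent.S3258
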