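import Groth.Statements.S3259
import Groth.Agent.S18266
import Groth.Agent.HilbD.Descent
import Groth.Agent.ProjProper.Basic
import Groth.Agent.FDesc.GenericClosure

set_option autoImplicit false
universe u
open AlgebraicGeometry CategoryTheory CategoryTheory.Limits
open ArSurf

namespace Groth.Agent.S3259

variable {R : Type u} [CommRing R] [IsDedekindDomain R]

/-- The local rings of a Dedekind scheme are regular of dimension at most one. -/
theorem regular_stalk (y : Spec (CommRingCat.of R)) : IsRegularLocalRing ((Spec (CommRingCat.of R)).presheaf.stalk y) ∧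
    ringKrullDim ((Spec (CommRingCat.of R)).presheaf.stalk y) ≤ 1 := by
  let e : Localization.AtPrime y.asIdeal ≃+* (Spec (CommRingCat.of R)).presheaf.stalk y :=
    (IsLocalization.algEquiv y.asIdeal.primeCompl (Localization.AtPrime y.asIdeal)
      ((Spec.structureSheaf R).presheaf.stalk y)).toRingEquiv
  have key : ∀ (P : Ideal R) [P.IsPrime], IsRegularLocalRing (Localization.AtPrime P) ∧
      ringKrullDim (Localization.AtPrime P) ≤ 1 := by
    intro P hP
    by_cases h0 : P = ⊥
    · subst h0
      have : IsDomain (Localization.AtPrime (⊥ : Ideal R)) :=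
        IsLocalization.isDomain_of_le_nonZeroDivisors (Localization.AtPrime (⊥ : Ideal R)) (⊥ : Ideal R).primeCompl_le_nonZeroDivisors
      have hm : IsLocalRing.maximalIdeal (Localization.AtPrime (⊥ : Ideal R)) = ⊥ := by
        rw [← Localization.AtPrime.map_eq_maximalIdeal, Ideal.map_bot]
      let := (IsLocalRing.isField_iff_maximalIdeal_eq.mpr hm).toField
      refine ⟨inferInstance, ?_⟩
      rw [ringKrullDim_eq_zero_of_field]
      exact zero_le_one
    · have : IsDiscreteValuationRing (Localization.AtPrime P) :=
        IsLocalization.AtPrime.isDiscreteValuationRing_of_dedekind_domain R h0 _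
      exact ⟨((Groth.Agent.RegLoc.Completion.exists_isDiscreteValuationRing_iff _).mp
        ⟨inferInstance, inferInstance⟩).1, (IsDiscreteValuationRing.ringKrullDim_eq_one _).le⟩
  obtain ⟨h1, h2⟩ := key y.asIdeal
  exact ⟨IsRegularLocalRing.of_ringEquiv e, e.symm.ringKrullDim.trans_le h2⟩

/-- Stalk maps of flat preimmersions are bijective. -/
theorem bijective_stalkMap {A B : Scheme.{u}} (f : A ⟶ B) [Flat f] [IsPreimmersion f] (a : A) :
    Function.Bijective (f.stalkMap a).hom := by
  refine ⟨?_, f.stalkMap_surjective a⟩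
  have hfl : (f.stalkMap a).hom.Flat := AlgebraicGeometry.Flat.stalkMap f a
  letI := (f.stalkMap a).hom.toAlgebra
  have : Module.Flat (B.presheaf.stalk (f.base a)) (A.presheaf.stalk a) := hfl
  have : IsLocalHom (algebraMap (B.presheaf.stalk (f.base a)) (A.presheaf.stalk a)) :=
    inferInstanceAs (IsLocalHom (f.stalkMap a).hom)
  have := Module.FaithfullyFlat.of_flat_of_isLocalHom (A := B.presheaf.stalk (f.base a)) (B := A.presheaf.stalk a)
  exact FaithfulSMul.algebraMap_injective _ _

/-- Let R be a Dedekind domain with fraction field K and C a smooth projective curve over K (smooth,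
proper, of dimension 1, admitting a closed immersion into some P^n_K). Then there are a non-empty
open subscheme U of Spec R containing the generic point and a smooth proper morphism 𝒞 -> U whose
fibre over the generic point is K-isomorphic to C. In particular C has good reduction at every
closed point of U, that is, at all but finitely many closed points. (Stated in the form the
published proof gives.) -/
theorem result {R : Type u} [CommRing R] [IsDedekindDomain R]
    (C : Over (Spec (CommRingCat.of (FractionRing R)))) [Smooth C.hom] [IsProper C.hom]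
    (hdim : topologicalKrullDim C.left = 1) (hproj : Neron.IsProjectiveOver (FractionRing R) C) :
    ∃ (U : (Spec (CommRingCat.of R)).Opens) (ξ : Spec (CommRingCat.of (FractionRing R)) ⟶ (U : Scheme.{u}))
      (𝒞 : Scheme.{u}) (π : 𝒞 ⟶ (U : Scheme.{u})),
      ξ ≫ U.ι = Neron.genPt R ∧ Smooth π ∧ IsProper π ∧
      Nonempty (Over.mk (pullback.snd π ξ) ≅ C) := by
  obtain ⟨n, i, hi, hiw⟩ := hproj
  haveI := hi
  let K := FractionRing R
  let j : Spec (CommRingCat.of K) ⟶ Spec (CommRingCat.of R) := Neron.genPt R
  haveI : IsPreimmersion j := IsPreimmersion.of_isLocalization (nonZeroDivisors R)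
  haveI : Flat j := by
    rw [show j = Spec.map (CommRingCat.ofHom (algebraMap R K)) from rfl, HasRingHomProperty.Spec_iff (P := @Flat)]
    exact RingHom.flat_algebraMap_iff.mpr (IsLocalization.flat K (nonZeroDivisors R))
  haveI : QuasiCompact j := inferInstance
  have hjr : ∀ a, j a = genericPoint (Spec (CommRingCat.of R)) := fun a => by
    refine (IsGenericPoint.eq ?_ (genericPoint_spec _))
    rw [isGenericPoint_iff_specializes]
    intro y
    simp only [Set.mem_univ, iff_true]
    refine (PrimeSpectrum.le_iff_specializes _ y).mp ?_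
    change Ideal.comap (algebraMap R K) a.asIdeal ≤ y.asIdeal
    rw [(Ideal.eq_bot_or_top a.asIdeal).resolve_right a.isPrime.ne_top, Ideal.comap_bot_of_injective _ (IsFractionRing.injective R K)]
    exact bot_le
  -- the closure in projective space over the base
  let PK := CohB1.ProjSpaceOver n (Spec (CommRingCat.of K))
  let PR := CohB1.ProjSpaceOver n (Spec (CommRingCat.of R))
  let ψ : PK ⟶ PR := pullback.lift (pullback.fst _ _) (pullback.snd _ _ ≫ j) (specULiftZIsTerminal.hom_ext _ _)
  have hψ : IsPullback ψ (CohB1.ProjSpaceOver.toBase n (Spec (CommRingCat.of K)))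
      (CohB1.ProjSpaceOver.toBase n (Spec (CommRingCat.of R))) j := by
    refine IsPullback.of_right ?_ (pullback.lift_snd _ _ _) (IsPullback.of_hasPullback _ _)
    have h := IsPullback.of_hasPullback (CohB1.ProjSpace.toSpec n (ULift.{u} ℤ))
      (specULiftZIsTerminal.from (Spec (CommRingCat.of K)))
    have e1 : ψ ≫ pullback.fst (CohB1.ProjSpace.toSpec n (ULift.{u} ℤ))
        (specULiftZIsTerminal.from (Spec (CommRingCat.of R))) = pullback.fst _ _ := pullback.lift_fst _ _ _
    have e2 : j ≫ specULiftZIsTerminal.from (Spec (CommRingCat.of R)) =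
        specULiftZIsTerminal.from (Spec (CommRingCat.of K)) := specULiftZIsTerminal.hom_ext _ _
    erw [e1, e2]
    exact h
  haveI : Flat ψ := MorphismProperty.of_isPullback hψ.flip ‹Flat j›
  haveI : IsPreimmersion ψ := MorphismProperty.of_isPullback hψ.flip ‹IsPreimmersion j›
  haveI : QuasiCompact ψ := MorphismProperty.of_isPullback hψ.flip ‹QuasiCompact j›
  haveI : IsProper (CohB1.ProjSpaceOver.toBase n (Spec (CommRingCat.of R))) := ProjProper.Basic.isProper_toBase n _
  let c : C.left ⟶ PR := i ≫ ψ
  let π : c.image ⟶ Spec (CommRingCat.of R) := c.imageι ≫ CohB1.ProjSpaceOver.toBase n (Spec (CommRingCat.of R))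
  haveI : IsProper π := inferInstance
  -- flatness
  haveI : Flat π := by
    have hw : IsSchemeTheoreticallyDominant c.toImage :=
      Groth.Agent.FlatMor.SchDom.toImage_dominant _ (Or.inl inferInstance)
    have : QuasiCompact c.toImage := by
      have : QuasiCompact (c.toImage ≫ c.imageι) := by rw [c.toImage_imageι]; infer_instance
      exact QuasiCompact.of_comp c.toImage c.imageι
    refine FDesc.GenericClosure.flat_of_schemeTheoreticallyDominant regular_stalk π c.toImage fun a => ?_
    rw [← Scheme.Hom.comp_apply, ← Category.assoc, c.toImage_imageι]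
    rw [show c ≫ CohB1.ProjSpaceOver.toBase n (Spec (CommRingCat.of R)) = C.hom ≫ j by
      rw [Category.assoc, hψ.w, ← Category.assoc, hiw], Scheme.Hom.comp_apply, hjr]
  -- the generic fibre
  haveI : Mono j := inferInstance
  haveI : Mono ψ := inferInstance
  have hcomap : c.ker.comap ψ = i.ker := by
    rw [HilbD.comap_ker_of_flat ψ c]
    have hsq : IsPullback i (𝟙 C.left) ψ c := ⟨⟨by simp [c]⟩, ⟨PullbackCone.IsLimit.mk _ (fun s => s.snd)
      (fun s => (cancel_mono ψ).mp (by rw [Category.assoc, s.condition]))
      (fun s => Category.comp_id _) (fun s m _ h2 => by simpa using h2)⟩⟩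
    rw [← hsq.isoPullback_hom_fst, Scheme.Hom.ker_comp_of_isIso]
  let e₁ : C.left ≅ pullback ψ c.imageι :=
    asIso i.toImage ≪≫ eqToIso (congrArg Scheme.IdealSheafData.subscheme hcomap.symm) ≪≫ c.ker.comapIso ψ
  let q : C.left ⟶ c.image := c.toImage
  have hq : IsPullback q C.hom π j := by
    have h1 : IsPullback q i c.imageι ψ := by
      have hsub : ∀ {I J : PK.IdealSheafData} (h : I = J),
          eqToHom (congrArg Scheme.IdealSheafData.subscheme h) ≫ J.subschemeι = I.subschemeι := by
        intro I J h; subst h; simp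
      have he : e₁.hom ≫ pullback.fst ψ c.imageι = i := by
        simp only [e₁, Iso.trans_hom, asIso_hom, eqToIso.hom, Category.assoc, Scheme.IdealSheafData.comapIso_hom_fst]
        rw [hsub hcomap.symm]
        exact i.toImage_imageι
      refine (IsPullback.of_iso_pullback ⟨?_⟩ e₁ he ?_).flip
      · show i ≫ ψ = q ≫ c.imageι
        exact c.toImage_imageι.symm
      · rw [← cancel_mono c.imageι, Category.assoc, ← pullback.condition, ← Category.assoc, he]
        exact c.toImage_imageι.symm
    have h2 := h1.paste_vert hψ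
    rwa [hiw] at h2
  haveI : Flat q := MorphismProperty.of_isPullback hq.flip ‹Flat j›
  haveI : IsPreimmersion q := MorphismProperty.of_isPullback hq.flip ‹IsPreimmersion j›
  -- smoothness near the generic fibre
  haveI : IsNoetherianRing R := inferInstance
  haveI : LocallyOfFinitePresentation π := LocallyOfFinitePresentation.iff_locallyOfFiniteType.mpr inferInstance
  let U : (Spec (CommRingCat.of R)).Opens := ⟨(π '' ((π.smoothLocus : Set c.image)ᶜ))ᶜ,
    (π.isClosedMap _ π.smoothLocus.2.isClosed_compl).isOpen_compl⟩
  have hgenU : ∀ a, j a ∈ U := by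
    rintro a ⟨z, hz, hza⟩
    obtain ⟨z', rfl⟩ : z ∈ Set.range q := by
      rw [← hq.isoPullback_hom_fst, Scheme.Hom.comp_base, TopCat.coe_comp, Set.range_comp,
        Set.range_eq_univ.mpr hq.isoPullback.hom.surjective, Set.image_univ, Scheme.Pullback.range_fst]
      exact ⟨a, hza.symm⟩
    refine hz ?_
    show (π.stalkMap (q z')).hom.FormallySmooth
    have hC : (C.hom.stalkMap z').hom.FormallySmooth :=
      Scheme.Hom.mem_smoothLocus.mp ((Scheme.Hom.smoothLocus_eq_top C.hom).ge (Set.mem_univ z'))
    have hjb := bijective_stalkMap j (C.hom z')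
    have hcomp : ((C.hom ≫ j).stalkMap z').hom.FormallySmooth := by
      rw [Scheme.Hom.stalkMap_comp]
      haveI : IsIso (j.stalkMap (C.hom z')) := (ConcreteCategory.isIso_iff_bijective _).mpr hjb
      exact (RingHom.FormallySmooth.respectsIso.cancel_left_isIso (j.stalkMap (C.hom z')) (C.hom.stalkMap z')).mpr hC
    have h' : ((q ≫ π).stalkMap z').hom.FormallySmooth := by
      have : ∀ {f g : C.left ⟶ Spec (CommRingCat.of R)} (h : f = g), (f.stalkMap z').hom.FormallySmooth → (g.stalkMap z').hom.FormallySmooth := by
        intro f g h hf; subst h; exact hf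
      exact this hq.w.symm hcomp
    rw [Scheme.Hom.stalkMap_comp] at h'
    haveI : IsIso (q.stalkMap z') := (ConcreteCategory.isIso_iff_bijective _).mpr (bijective_stalkMap q z')
    exact (RingHom.FormallySmooth.respectsIso.cancel_right_isIso (π.stalkMap (q z')) (q.stalkMap z')).mp h'
  let ξ : Spec (CommRingCat.of K) ⟶ (U : Scheme.{u}) := IsOpenImmersion.lift U.ι j (by
    rw [Scheme.Opens.range_ι]; rintro _ ⟨a, rfl⟩; exact hgenU a)
  refine ⟨U, ξ, _, π ∣_ U, IsOpenImmersion.lift_fac _ _ _, ?_, IsZariskiLocalAtTarget.restrict ‹IsProper π› U, ⟨?_⟩⟩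
  · haveI : LocallyOfFinitePresentation (π ∣_ U) := IsZariskiLocalAtTarget.restrict ‹LocallyOfFinitePresentation π› U
    refine Scheme.Hom.smoothLocus_eq_top_iff.mp (top_le_iff.mp fun z _ => ?_)
    show ((π ∣_ U).stalkMap z).hom.FormallySmooth
    refine (RingHom.FormallySmooth.respectsIso.arrow_mk_iso_iff (morphismRestrictStalkMap π U z)).mpr ?_
    by_contra hz
    exact z.2 ⟨z.1, hz, rfl⟩
  · have hbig : IsPullback (pullback.fst (π ∣_ U) ξ ≫ (π ⁻¹ᵁ U).ι) (pullback.snd (π ∣_ U) ξ) π j := by
      have h := (IsPullback.of_hasPullback (π ∣_ U) ξ).paste_horiz (isPullback_morphismRestrict π U).flip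
      rwa [IsOpenImmersion.lift_fac] at h
    exact Over.isoMk (hbig.isoIsPullback _ _ hq) (hbig.isoIsPullback_hom_snd _ _ hq)


end Groth.Agent.S3259
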