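import Groth.Statements.S3287
import Groth.Agent.Lambda.Basic
-- import your own Groth.Agent.* helpers here

set_option autoImplicit false
universe u
open Finset
open LambdaRing

namespace Groth.Agent.S3287

/-- For a line element u (positive of augmentation one) of a λ-ring with positive structure, ψ^j(u) =
u^j for every j. -/
theorem result (K : Type u) [CommRing K] [LambdaRing.LambdaOps K] (P : LambdaRing.PosStructure K) (u : K) (hu : P.IsLine u) (j : ℕ) :
    LambdaRing.adams P j u = u ^ j := by
  have h : ∀ i, 2 ≤ i → LambdaRing.LambdaOps.lam i u = 0 := fun i hi =>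
    P.lam_eq_zero u hu.1 i (by rw [hu.2]; exact_mod_cast hi)
  rw [LambdaRing.adams, LambdaRing.adamsSeries, Groth.Agent.Lambda.lamSeries_eq_lin h,
    hu.2, Int.cast_one, map_one]
  have hr : PowerSeries.rescale (-1 : K) (Groth.Agent.Lambda.lin u) = Groth.Agent.Lambda.lin (-u) := by
    ext n
    rw [PowerSeries.coeff_rescale]
    rcases n with _ | _ | n <;> simp [Groth.Agent.Lambda.lin, PowerSeries.coeff_one, PowerSeries.coeff_C]
  rw [hr, mul_assoc]
  show PowerSeries.coeff j (1 - PowerSeries.X * Groth.Agent.Lambda.dlog (Groth.Agent.Lambda.lin (-u))) = _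
  rw [Groth.Agent.Lambda.dlog_lin, map_sub, neg_neg]
  cases j with
  | zero => simp
  | succ j =>
    rw [PowerSeries.coeff_succ_X_mul, PowerSeries.coeff_C_mul, PowerSeries.coeff_mk, PowerSeries.coeff_one,
      if_neg (Nat.succ_ne_zero j)]
    ring

end Groth.Agent.S3287
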