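import Groth.Statements.S3290
import Groth.Agent.Lambda.Splitting
-- import your own Groth.Agent.* helpers here

set_option autoImplicit false
universe u
open Finset
open LambdaRing

namespace Groth.Agent.S3290

/-- For a positive element e of augmentation m in a λ-ring with positive structure, the polynomials
Σ_{i=0}^{m} γ^i(e − m) t^(m−i) and Σ_{i=0}^{m} λ^i(e) (t − 1)^(m−i) are equal. -/
theorem result (K : Type u) [CommRing K] [LambdaRing.LambdaOps K] (P : LambdaRing.PosStructure K) (e : K) (he : e ∈ P.pos) :
    (∑ i ∈ range ((P.aug e).toNat + 1),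
        Polynomial.C (LambdaRing.gamma i (e - ((P.aug e).toNat : K))) * Polynomial.X ^ ((P.aug e).toNat - i)) =
      ∑ i ∈ range ((P.aug e).toNat + 1),
        Polynomial.C (LambdaRing.LambdaOps.lam i e) * (Polynomial.X - 1) ^ ((P.aug e).toNat - i) := by
  have h1 := Groth.Agent.Lambda.pos_lam_one P
  set m := (P.aug e).toNat with hm
  have hlam : ∀ i, m < i → LambdaOps.lam i e = 0 := fun i hi =>
    P.lam_eq_zero e he i (by have := P.aug_pos e he; omega)
  have hser : lamSeries e =
      ∑ i ∈ range (m + 1), PowerSeries.C (LambdaOps.lam i e) * PowerSeries.X ^ i := by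
    ext n
    simp only [map_sum, PowerSeries.coeff_C_mul, PowerSeries.coeff_X_pow, mul_ite, mul_one, mul_zero,
      Finset.sum_ite_eq, Groth.Agent.Lambda.coeff_lamSeries, mem_range]
    split_ifs with h
    · rfl
    · exact hlam n (by omega)
  have hnat : ∀ n : ℕ, Groth.Agent.Lambda.gammaSeries (n : K) * Groth.Agent.Lambda.lin (-1 : K) ^ n = 1 := by
    intro n
    induction n with
    | zero => simp [Groth.Agent.Lambda.gammaSeries_zero]
    | succ n ih =>
      rw [Nat.cast_succ, Groth.Agent.Lambda.gammaSeries_add, pow_succ, mul_mul_mul_comm, ih, one_mul,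
        Groth.Agent.Lambda.gammaSeries_eq, Groth.Agent.Lambda.lamSeries_eq_lin h1, Groth.Agent.Lambda.gsub_lin_mul, sub_self]
      simp [Groth.Agent.Lambda.lin]
  have hl : (Groth.Agent.Lambda.lin (-1 : K)) = 1 - PowerSeries.X := by
    simp [Groth.Agent.Lambda.lin, sub_eq_add_neg]
  have hgeom : (Groth.Agent.Lambda.geom : PowerSeries K) * Groth.Agent.Lambda.lin (-1) = PowerSeries.X := by
    rw [Groth.Agent.Lambda.geom, hl, mul_assoc, PowerSeries.mk_one_mul_one_sub_eq_one, mul_one]
  have hg : Groth.Agent.Lambda.gammaSeries (e - (m : K)) = ∑ i ∈ range (m + 1),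
      PowerSeries.C (LambdaOps.lam i e) * (PowerSeries.X ^ i * Groth.Agent.Lambda.lin (-1) ^ (m - i)) := by
    calc Groth.Agent.Lambda.gammaSeries (e - (m : K))
        = Groth.Agent.Lambda.gammaSeries (e - (m : K)) * (Groth.Agent.Lambda.gammaSeries (m : K) * Groth.Agent.Lambda.lin (-1 : K) ^ m) := by
          rw [hnat, mul_one]
      _ = Groth.Agent.Lambda.gammaSeries e * Groth.Agent.Lambda.lin (-1 : K) ^ m := by
          rw [← mul_assoc, ← Groth.Agent.Lambda.gammaSeries_add, sub_add_cancel]
      _ = _ := by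
          rw [Groth.Agent.Lambda.gammaSeries_eq, hser, Groth.Agent.Lambda.gsub, ← PowerSeries.coe_substAlgHom Groth.Agent.Lambda.hasSubst_geom,
            map_sum, Finset.sum_mul]
          refine Finset.sum_congr rfl fun i hi => ?_
          rw [map_mul, map_pow, PowerSeries.substAlgHom_X, PowerSeries.coe_substAlgHom Groth.Agent.Lambda.hasSubst_geom,
            PowerSeries.subst_C, mul_assoc]
          conv_lhs => rw [← Nat.add_sub_cancel' (Finset.mem_range_succ_iff.1 hi), pow_add, ← mul_assoc _ _ (Groth.Agent.Lambda.lin _ ^ _),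
            ← mul_pow, hgeom]
          rfl
  have hcoeff : ∀ n k : ℕ, k ≤ n → PowerSeries.coeff k (Groth.Agent.Lambda.lin (-1 : K) ^ n) =
      (-1) ^ k * (n.choose k : K) := by
    intro n k hk
    have hl' : Groth.Agent.Lambda.lin (-1 : K) = PowerSeries.C (-1 : K) *
        ((Polynomial.X + Polynomial.C (-1 : K) : Polynomial K) : PowerSeries K) := by
      rw [hl]; simp; ring
    rw [hl', mul_pow, ← Polynomial.coe_pow, ← map_pow, PowerSeries.coeff_C_mul, Polynomial.coeff_coe,
      Polynomial.coeff_X_add_C_pow, ← mul_assoc, ← pow_add]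
    congr 1
    rw [show n + (n - k) = k + 2 * (n - k) by omega, pow_add, pow_mul, neg_one_sq, one_pow, mul_one]
  have hgam : ∀ k, k ≤ m → gamma k (e - (m : K)) = ∑ i ∈ range (m + 1),
      LambdaOps.lam i e * ((-1 : K) ^ (m - i - (m - k)) * ((m - i).choose (m - k) : K)) := by
    intro k hk
    rw [← Groth.Agent.Lambda.coeff_gammaSeries, hg, map_sum]
    refine Finset.sum_congr rfl fun i hi => ?_
    have hi' := Finset.mem_range_succ_iff.1 hi
    rw [PowerSeries.coeff_C_mul, PowerSeries.coeff_X_pow_mul']
    congr 1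
    split_ifs with h
    · rw [hcoeff _ _ (by omega), show m - i - (m - k) = k - i by omega]
      congr 2
      rw [← Nat.choose_symm (show k - i ≤ m - i by omega), show m - i - (k - i) = m - k by omega]
    · rw [Nat.choose_eq_zero_of_lt (by omega), Nat.cast_zero, mul_zero]
  ext l
  simp only [Polynomial.finsetSum_coeff, Polynomial.coeff_C_mul, Polynomial.coeff_X_pow, mul_ite,
    mul_one, mul_zero, show (Polynomial.X - 1 : Polynomial K) = Polynomial.X + Polynomial.C (-1) by
      rw [map_neg, map_one, sub_eq_add_neg], Polynomial.coeff_X_add_C_pow]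
  by_cases hlm : l ≤ m
  · rw [Finset.sum_eq_single (m - l), if_pos (by omega), hgam _ (by omega), show m - (m - l) = l by omega]
    · intro b hb hne
      have := Finset.mem_range_succ_iff.1 hb
      rw [if_neg (by omega)]
    · intro h
      exact absurd (Finset.mem_range_succ_iff.2 (Nat.sub_le m l)) h
  · rw [Finset.sum_eq_zero fun b _ => if_neg (by omega)]
    exact (Finset.sum_eq_zero fun b _ => by rw [Nat.choose_eq_zero_of_lt (by omega)]; simp).symm

end Groth.Agent.S3290
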