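import Groth.Statements.S3319
import Groth.Agent.VertInter.List
import Groth.Agent.VertInter.Global

set_option autoImplicit false
universe u
open CategoryTheory CategoryTheory.Limits AlgebraicGeometry
open Models

namespace Groth.Agent.S3319

/-- In the following situation (R a discrete valuation ring, C a smooth proper curve over its fraction
field with H^0(C, O_C) = K, X a regular proper model, Γ_1, …, Γ_n the irreducible components of the
closed fibre, L_j ⊗ I(Γ_j) ≅ O_X), there is no non-empty proper subset I of the indices with (Γ_i ·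
Γ_j) = 0 for all i in I and j outside I. -/
theorem result (R : Type u) [CommRing R] [IsDomain R] [IsDiscreteValuationRing R]
    (C X : Scheme.{u}) (f : C ⟶ Spec (CommRingCat.of (FractionRing R))) (p : X ⟶ Spec (CommRingCat.of R))
    (hC : Curve.IsSmoothProperCurve (FractionRing R) C f) (hH0 : IsIso f.appTop)
    (hX : Models.IsRegularProperModel R X p C f)
    {n : ℕ} (Γ : Fin n → ArSurf.VertComp R (Over.mk p)) (hΓ : Models.IsComponentList R (Over.mk p) Γ)
    (L : Fin n → X.Modules) (hL : ∀ i, ClSub.IsInverseOf (L i) (ClSub.idealMod (Γ i).ι.ker)) (I : Finset (Fin n)) (hI : I.Nonempty) (hI' : I ≠ Finset.univ) :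
    ∃ i ∈ I, ∃ j ∉ I, ArSurf.inter R (Over.mk p) (L j) (Γ i) ≠ 0 := by
  haveI : Flat p := hX.1.1
  haveI : IsProper p := hX.2.1
  obtain ⟨g, hg⟩ := hX.1.2.2.2
  haveI : IsProper (Over.mk p).hom := hX.2.1
  haveI : Flat (Over.mk p).hom := hX.1.1
  haveI := VertInter.preconnectedSpace_fiber (X := Over.mk p)
    (VertInter.toGlobal_bijective (X := Over.mk p) hg hH0).2
  refine VertInter.inter_connected hΓ hX.2.2 L hL ?_ I hI hI'
  have h := (isPreconnected_range ((Over.mk p).hom.fiberι (IsLocalRing.closedPoint R)).continuous)
  have e := Scheme.Hom.range_fiberι (Over.mk p).hom (IsLocalRing.closedPoint R)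
  rw [e] at h
  exact h

end Groth.Agent.S3319
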