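import Groth.Statements.S7639
import Groth.Agent.EulerChar.Deg

set_option autoImplicit false
universe u
open CategoryTheory CategoryTheory.Limits AlgebraicGeometry
attribute [local instance] Curv2.resAlgebra
open Variety

namespace Groth.Agent.S7639
open TopologicalSpace Groth.Agent.EulerChar

set_option linter.style.haveILetI false

/-- Global idempotents of a connected reduced scheme are trivial. -/
theorem eq_zero_or_one {X : Scheme.{u}} [IsReduced X] [ConnectedSpace X] {e : Γ(X, ⊤)} (he : e * e = e) :
    e = 0 ∨ e = 1 := by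
  have hmul : e * (1 - e) = 0 := by rw [mul_sub, mul_one, he, sub_self]
  have hdisj : X.basicOpen e ⊓ X.basicOpen (1 - e) = ⊥ := by
    rw [← Scheme.basicOpen_mul, hmul, Scheme.basicOpen_zero]
  have hcov : X.basicOpen e ⊔ X.basicOpen (1 - e) = ⊤ := by
    refine top_le_iff.1 fun x _ => ?_
    have h1 : X.presheaf.germ ⊤ x trivial e + X.presheaf.germ ⊤ x trivial (1 - e) = 1 := by
      rw [← map_add, add_sub_cancel, map_one]
    rcases IsLocalRing.isUnit_or_isUnit_of_isUnit_add (h1 ▸ isUnit_one) with h | h
    · exact Or.inl ((X.mem_basicOpen e x (show x ∈ (⊤ : X.Opens) from trivial)).2 h)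
    · exact Or.inr ((X.mem_basicOpen (1 - e) x (show x ∈ (⊤ : X.Opens) from trivial)).2 h)
  have hcl : IsClopen (X.basicOpen e : Set X) := by
    refine ⟨⟨?_⟩, (X.basicOpen e).2⟩
    convert (X.basicOpen (1 - e)).2 using 1
    ext x
    constructor
    · intro hx
      have hx' : x ∈ X.basicOpen e ⊔ X.basicOpen (1 - e) := hcov.ge (show x ∈ (⊤ : X.Opens) from trivial)
      exact hx'.resolve_left hx
    · intro hx hx'
      have : x ∈ (⊥ : X.Opens) := hdisj ▸ (⟨hx', hx⟩ : x ∈ X.basicOpen e ⊓ X.basicOpen (1 - e))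
      exact this
  rcases isClopen_iff.1 hcl with h | h
  · left
    exact (basicOpen_eq_bot_iff e).1 (Opens.ext (by simpa using h))
  · right
    have h2 : X.basicOpen (1 - e) = ⊥ := by
      rw [← hdisj, show X.basicOpen e = ⊤ from Opens.ext (by simpa using h), top_inf_eq]
    exact (sub_eq_zero.1 ((basicOpen_eq_bot_iff _).1 h2)).symm

/-- Modules over a field extension have dimension divisible by its degree. -/
theorem dvd_finrank {k A : Type u} [Field k] [CommRing A] [Algebra k A] (hA : IsField A)
    (M : Type u) [AddCommGroup M] [Module A M] [Module k M] (h : ∀ (c : k) (m : M), c • m = algebraMap k A c • m) :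
    Module.finrank k A ∣ Module.finrank k M := by
  letI := hA.toField
  haveI : IsScalarTower k A M := IsScalarTower.of_algebraMap_smul fun c m => (h c m).symm
  exact ⟨Module.finrank A M, (Module.finrank_mul_finrank k A M).symm⟩


/-- Let X be a proper scheme over a field k which is reduced and connected, and let κ = Γ(X, O_X). Then
κ is a field, finite over k, and w = [κ : k] divides (1) the degree of every finite locally free
module of constant rank, (2) the degree [κ(x) : k] of every closed point x, and (3) the degree dim_k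
H^0(X, O_D) of every closed subscheme D of dimension zero (or empty). (The published statement uses
the degree of E, which it defines only for X of dimension at most one; this row states (1) for the
integer χ(E) − n·χ(O_X) with no bound on the dimension of X.) -/
theorem result (k : Type u) [Field k] (X : Scheme.{u}) [X.Over (Spec (CommRingCat.of k))] [IsProper (X ↘ (Spec (CommRingCat.of k)))] [IsReduced X] [ConnectedSpace X] :
    letI : Algebra k Γ(X, ⊤) := ((X ↘ (Spec (CommRingCat.of k))).appTop.hom.comp
      (Scheme.ΓSpecIso (CommRingCat.of k)).inv.hom).toAlgebra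
    IsField Γ(X, ⊤) ∧ Module.Finite k Γ(X, ⊤) ∧
      (∀ (n : ℕ) (E : X.Modules), FlatMod.IsFinLocFreeOfRank n E →
        (Module.finrank k Γ(X, ⊤) : ℤ) ∣ Curv2.deg k X E n) ∧
      (∀ x : X, IsClosed ({x} : Set X) →
        Module.finrank k Γ(X, ⊤) ∣ Module.finrank k (X.residueField x)) ∧
      (∀ D : X.IdealSheafData, topologicalKrullDim D.subscheme ≤ 0 →
        Module.finrank k Γ(X, ⊤) ∣ Module.finrank k (Coh.HH X (ClSub.quotMod D) 0)) := by
  letI hk : Algebra k Γ(X, ⊤) := ((X ↘ (Spec (CommRingCat.of k))).appTop.hom.comp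
      (Scheme.ΓSpecIso (CommRingCat.of k)).inv.hom).toAlgebra
  have hO := VBLib.isCoh_of_ofRank (ProjTwist.isFinLocFreeOfRank_one (PicLoc.isInvertible_structureModule X))
  haveI : Module.Finite k Γ(X, ⊤) := by
    haveI := EulerChar.finite_HH k _ hO 0
    let e := ProperFin.h0Sec (Coh.structureModule X)
    let f : Coh.HH X (Coh.structureModule X) 0 →ₗ[k] Γ(X, ⊤) :=
      { toFun := e
        map_add' := map_add e
        map_smul' := fun c x =>
          (ProperFin.h0Sec_smul (Coh.structureModule X) (Coh.toGlobal (X ↘ Spec (CommRingCat.of k)) c) x) }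
    exact Module.Finite.of_surjective f e.surjective
  have hfield : IsField Γ(X, ⊤) := by
    haveI : IsArtinianRing Γ(X, ⊤) := IsArtinianRing.of_finite k _
    refine ⟨⟨0, 1, fun h => ?_⟩, mul_comm, fun {a} ha => ?_⟩
    · obtain ⟨x⟩ := (inferInstance : Nonempty X)
      exact zero_ne_one ((map_zero (X.presheaf.germ ⊤ x trivial).hom).symm.trans ((congrArg (X.presheaf.germ ⊤ x trivial).hom h).trans (map_one _)))
    obtain ⟨n, b, hb⟩ := IsArtinian.exists_pow_succ_smul_dvd a (1 : Γ(X, ⊤))
    simp only [smul_eq_mul, mul_one] at hb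
    have h1 : ∀ m : ℕ, a ^ n = a ^ (n + m) * b ^ m := by
      intro m
      induction m with
      | zero => simp
      | succ m ih =>
        calc a ^ n = a ^ (n + m) * b ^ m := ih
          _ = a ^ m * (a ^ (n + 1) * b) * b ^ m := by rw [show a ^ (n + 1) * b = a ^ n from hb]; ring
          _ = a ^ (n + (m + 1)) * b ^ (m + 1) := by ring
    have he : (a ^ n * b ^ n) * (a ^ n * b ^ n) = a ^ n * b ^ n := by
      calc (a ^ n * b ^ n) * (a ^ n * b ^ n) = (a ^ (n + n) * b ^ n) * b ^ n := by ring
        _ = a ^ n * b ^ n := by rw [← h1 n]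
    rcases eq_zero_or_one he with h0 | h1'
    · refine absurd ?_ ha
      refine IsReduced.eq_zero _ ⟨n, ?_⟩
      rw [h1 n, pow_add, mul_assoc, h0, mul_zero]
    · rcases n with _ | n
      · simp only [pow_one, pow_zero] at hb
        exact ⟨b, hb⟩
      · refine ⟨a ^ n * b ^ (n + 1), ?_⟩
        rw [← mul_assoc, ← pow_succ', h1']
  have hdvdH : ∀ (M : X.Modules) (i : ℕ), Module.finrank k Γ(X, ⊤) ∣ Module.finrank k (Coh.HH X M i) :=
    fun M i => @dvd_finrank k Γ(X, ⊤) _ _ hk hfield _ _ (Coh.moduleΓtop M i) _ fun c m => rfl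
  have hdvdχ : ∀ M : X.Modules, (Module.finrank k Γ(X, ⊤) : ℤ) ∣ Curv2.euler k X M := by
    intro M
    refine finsum_induction (fun z : ℤ => (Module.finrank k Γ(X, ⊤) : ℤ) ∣ z) (dvd_zero _)
      (fun _ _ ha hb => dvd_add ha hb) fun i => ?_
    exact (Int.natCast_dvd_natCast.2 (hdvdH M i)).mul_left _
  refine ⟨hfield, inferInstance, fun n E _ => dvd_sub (hdvdχ _) ((hdvdχ _).mul_left _), fun x _ => ?_,
    fun D _ => hdvdH _ 0⟩
  letI : Module Γ(X, ⊤) (X.residueField x) := (X.Γevaluation x).hom.toAlgebra.toModule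
  exact @dvd_finrank k Γ(X, ⊤) _ _ hk hfield _ _ _ _ fun c m => rfl

end Groth.Agent.S7639
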