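import Groth.Statements.S3322
import Groth.Agent.S3321
import Groth.Agent.S3320
import Groth.Agent.S7639
import Groth.Agent.VertInter.Kernel
-- import your own Groth.Agent.* helpers here

set_option autoImplicit false
universe u
open CategoryTheory CategoryTheory.Limits AlgebraicGeometry
open Models

namespace Groth.Agent.S3322

variable {R : Type u} [CommRing R] [IsDomain R] [IsDiscreteValuationRing R]
  {X : Over (Spec (CommRingCat.of R))} [IsProper X.hom] (Γ : ArSurf.VertComp R X)

local notation "k" => IsLocalRing.ResidueField R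

theorem wdeg_facts : 0 < Models.wdeg R X Γ ∧ Models.wdeg R X Γ ∣ Models.h1 R X Γ ∧
    ∀ L : X.left.Modules, PicF.IsInvertible L → (Models.wdeg R X Γ : ℤ) ∣ ArSurf.inter R X L Γ := by
  letI hk : Algebra k Γ(Γ.curve.left, ⊤) := ((Γ.curve.left ↘ (Spec (CommRingCat.of k))).appTop.hom.comp
      (Scheme.ΓSpecIso (CommRingCat.of k)).inv.hom).toAlgebra
  obtain ⟨hfield, hfin, hdeg, -, -⟩ := S7639.result k Γ.curve.left
  let e := ProperFin.h0Sec (Coh.structureModule Γ.curve.left)
  let f : Coh.HH Γ.curve.left (Coh.structureModule Γ.curve.left) 0 →ₗ[k] Γ(Γ.curve.left, ⊤) :=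
    { toFun := e
      map_add' := map_add e
      map_smul' := fun c x =>
        (ProperFin.h0Sec_smul (Coh.structureModule Γ.curve.left)
          (Coh.toGlobal (Γ.curve.left ↘ Spec (CommRingCat.of k)) c) x) }
  have hw : Models.wdeg R X Γ = Module.finrank k Γ(Γ.curve.left, ⊤) :=
    (LinearEquiv.ofBijective f e.bijective).finrank_eq
  have hdvd : Module.finrank k Γ(Γ.curve.left, ⊤) ∣
      Module.finrank k (Coh.HH Γ.curve.left (Coh.structureModule Γ.curve.left) 1) :=
    @S7639.dvd_finrank k Γ(Γ.curve.left, ⊤) _ _ hk hfield _ _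
      (Coh.moduleΓtop (Coh.structureModule Γ.curve.left) 1) _ fun c m => rfl
  refine ⟨?_, ?_, fun L hL => ?_⟩
  · letI := hfield.toField
    haveI := hfin
    haveI : Nontrivial Γ(Γ.curve.left, ⊤) := hfield.nontrivial
    rw [hw]
    exact Module.finrank_pos
  · rw [hw]; exact hdvd
  · rw [hw, VertInter.inter_eq_deg]
    exact hdeg 1 _ (ProjTwist.isFinLocFreeOfRank_one (VertInter.pullback_invertible Γ hL))

/-- In the following situation (R a discrete valuation ring with residue field k, C a smooth proper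
curve over its fraction field K with H^0(C, O_C) = K, X a regular proper model, Γ_1, …, Γ_n the
irreducible components of the closed fibre with multiplicities m_i, L_i ⊗ I(Γ_i) ≅ O_X) the data n,
m_i, a_ij = (Γ_i · Γ_j) = deg_k(L_j|Γ_i), w_i = dim_k H^0(Γ_i, O) and g_i with w_i g_i = dim_k
H^1(Γ_i, O) is a numerical type (n > 0, m_i > 0, (a_ij) symmetric with non-negative off-diagonal
entries, connected, killing m, w_i | a_ij, g_i ≥ 0), and its genus is the genus dim_K H^1(C, O_C) of
C. -/
theorem result (R : Type u) [CommRing R] [IsDomain R] [IsDiscreteValuationRing R]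
    (C X : Scheme.{u}) (f : C ⟶ Spec (CommRingCat.of (FractionRing R))) (p : X ⟶ Spec (CommRingCat.of R))
    (hC : Curve.IsSmoothProperCurve (FractionRing R) C f) (hH0 : IsIso f.appTop)
    (hX : Models.IsRegularProperModel R X p C f)
    {n : ℕ} (Γ : Fin n → ArSurf.VertComp R (Over.mk p)) (hΓ : Models.IsComponentList R (Over.mk p) Γ)
    (L : Fin n → X.Modules) (hL : ∀ i, ClSub.IsInverseOf (L i) (ClSub.idealMod (Γ i).ι.ker)) :
    ∃ T : Models.NumericalType n,
      (∀ i, T.m i = (Models.mult R (Over.mk p) (Γ i) : ℤ)) ∧ (∀ i j, T.a i j = ArSurf.inter R (Over.mk p) (L j) (Γ i)) ∧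
      (∀ i, T.w i = (Models.wdeg R (Over.mk p) (Γ i) : ℤ)) ∧
      (∀ i, T.w i * T.g i = (Models.h1 R (Over.mk p) (Γ i) : ℤ)) ∧
      T.genus = (Models.curveGenus (FractionRing R) C f : ℤ) := by
  haveI : Flat p := hX.1.1
  haveI : IsProper p := hX.2.1
  haveI : IsProper (Over.mk p).hom := hX.2.1
  haveI : Flat (Over.mk p).hom := hX.1.1
  haveI : IsIntegral C := hC.2.2.1
  obtain ⟨g, hg⟩ := hX.1.2.2.2
  have hconn : _root_.IsPreconnected (Models.specialFibreSet R (Over.mk p)) := by
    haveI := VertInter.preconnectedSpace_fiber (X := Over.mk p)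
      (VertInter.toGlobal_bijective (X := Over.mk p) hg hH0).2
    have h1 := (isPreconnected_range ((Over.mk p).hom.fiberι (IsLocalRing.closedPoint R)).continuous)
    have e := Scheme.Hom.range_fiberι (Over.mk p).hom (IsLocalRing.closedPoint R)
    rw [e] at h1
    exact h1
  obtain ⟨i₀⟩ := VertInter.nonempty_fin hX hΓ inferInstance hg
  have hLi := VertInter.model_invertible hX hΓ L hL
  have hw := fun i => wdeg_facts (X := Over.mk p) (Γ i)
  have hkey := S3321.result R C X f p hC hH0 hX Γ hΓ L hL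
  let T : Models.NumericalType n :=
    { m := fun i => (Models.mult R (Over.mk p) (Γ i) : ℤ)
      a := fun i j => ArSurf.inter R (Over.mk p) (L j) (Γ i)
      w := fun i => (Models.wdeg R (Over.mk p) (Γ i) : ℤ)
      g := fun i => ((Models.h1 R (Over.mk p) (Γ i) / Models.wdeg R (Over.mk p) (Γ i) : ℕ) : ℤ)
      pos := i₀.pos
      m_pos := fun i => by exact_mod_cast VertInter.one_le_mult (p := p) hΓ hX.2.2 i
      w_pos := fun i => by exact_mod_cast (hw i).1
      g_nonneg := fun i => Int.natCast_nonneg _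
      symm := Matrix.IsSymm.ext fun i j => VertInter.inter_symm_list hΓ hX.2.2 L hL j i
      offDiag_nonneg := fun i j hij => (VertInter.inter_offDiag hΓ hX.2.2 L hL hij).1
      connected := fun I hI hI' => VertInter.inter_connected hΓ hX.2.2 L hL hconn I hI hI'
      mulVec_m := funext fun i => by
        refine Eq.trans ?_ (VertInter.sum_mult_eq_zero p hX.2.2 Γ hΓ L hL (Γ i))
        simp only [Matrix.mulVec, dotProduct]
        exact Finset.sum_congr rfl fun j _ => mul_comm (ArSurf.inter R (Over.mk p) (L j) (Γ i)) ((Models.mult R (Over.mk p) (Γ j) : ℕ) : ℤ)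
      w_dvd := fun i j => (hw i).2.2 (L j) (hLi j) }
  have hwg : ∀ i, T.w i * T.g i = (Models.h1 R (Over.mk p) (Γ i) : ℤ) := fun i => by
    show ((_ : ℕ) : ℤ) * ((_ : ℕ) : ℤ) = _
    rw [← Nat.cast_mul, Nat.mul_div_cancel' (hw i).2.1]
  refine ⟨T, fun _ => rfl, fun _ _ => rfl, fun _ => rfl, hwg, ?_⟩
  have hs : ∀ i, T.m i * T.w i * (T.g i - 1) =
      (Models.mult R (Over.mk p) (Γ i) : ℤ) *
        ((Models.h1 R (Over.mk p) (Γ i) : ℤ) - (Models.wdeg R (Over.mk p) (Γ i) : ℤ)) := fun i => by
    rw [← hwg i]; ring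
  have hrhs : ∀ i, (Models.mult R (Over.mk p) (Γ i) : ℤ) *
      (2 * ((Models.h1 R (Over.mk p) (Γ i) : ℤ) - (Models.wdeg R (Over.mk p) (Γ i) : ℤ)) -
        ArSurf.inter R (Over.mk p) (L i) (Γ i)) = 2 * (T.m i * T.w i * (T.g i - 1)) - T.m i * T.a i i := fun i => by
    rw [hs i]; ring
  simp only [hrhs, Finset.sum_sub_distrib, ← Finset.mul_sum] at hkey
  simp only [Models.NumericalType.genus]
  omega

end Groth.Agent.S3322
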