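import Groth.Statements.S3324
import Groth.Agent.VertInter.DivField
import Groth.Agent.VertInter.FibreChi
import Groth.Agent.VertInter.Kernel
import Groth.Agent.S3320
-- import your own Groth.Agent.* helpers here

set_option autoImplicit false
universe u
open CategoryTheory CategoryTheory.Limits AlgebraicGeometry
open Models

namespace Groth.Agent.S3324

/-- In the following situation (R a discrete valuation ring with residue field k, C a smooth proper
curve over its fraction field K with H^0(C, O_C) = K, X a regular proper model, Γ_1, …, Γ_n the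
irreducible components of the closed fibre with multiplicities m_i) let d = gcd(m_1, …, m_n) and let
D be the closed subscheme Σ (m_i/d) Γ_i, with ideal sheaf Π I(Γ_i)^{m_i/d}. Then κ = H^0(D, O_D) is
a field and 1 - g_C = d [κ : k] (1 - g_D), where g_C = dim_K H^1(C, O_C) and g_D = dim_κ H^1(D,
O_D). Here the right hand side is written as d (dim_k H^0(D, O_D) - dim_k H^1(D, O_D)), the
k-dimensions being computed as R-lengths of the cohomology groups of O_D on X. -/
theorem result (R : Type u) [CommRing R] [IsDomain R] [IsDiscreteValuationRing R]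
    (C X : Scheme.{u}) (f : C ⟶ Spec (CommRingCat.of (FractionRing R))) (p : X ⟶ Spec (CommRingCat.of R))
    (hC : Curve.IsSmoothProperCurve (FractionRing R) C f) (hH0 : IsIso f.appTop)
    (hX : Models.IsRegularProperModel R X p C f)
    {n : ℕ} (Γ : Fin n → ArSurf.VertComp R (Over.mk p)) (hΓ : Models.IsComponentList R (Over.mk p) Γ) :
    IsField ↑(Γ((∏ i, (Γ i).ι.ker ^ (Models.mult R (Over.mk p) (Γ i) / Models.multGcd R (Over.mk p) Γ)).subscheme, ⊤)) ∧
      (1 : ℤ) - (Models.curveGenus (FractionRing R) C f : ℤ) =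
        (Models.multGcd R (Over.mk p) Γ : ℤ) * ((Models.lengthH R (Over.mk p) (ClSub.quotMod (∏ i, (Γ i).ι.ker ^ (Models.mult R (Over.mk p) (Γ i) / Models.multGcd R (Over.mk p) Γ))) 0 : ℤ) -
          (Models.lengthH R (Over.mk p) (ClSub.quotMod (∏ i, (Γ i).ι.ker ^ (Models.mult R (Over.mk p) (Γ i) / Models.multGcd R (Over.mk p) Γ))) 1 : ℤ)) := by
  haveI : Flat p := hX.1.1
  haveI : IsProper p := hX.2.1
  haveI : IsProper (Over.mk p).hom := hX.2.1
  haveI : IsLocallyNoetherian (Over.mk p).left := LocallyOfFiniteType.isLocallyNoetherian p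
  obtain ⟨g, hg⟩ := hX.1.2.2.2
  obtain ⟨hc, heq⟩ := S3313.eq_prod p hX.1.1 inferInstance hX.2.2 Γ hΓ
  have hex : ∀ i, ∃ L : X.Modules, ClSub.IsInverseOf L (ClSub.idealMod (Γ i).ι.ker) := fun i => by
    obtain ⟨L', -, e⟩ := PicLaw.exists_inverse
      (IdealSh.IdealMod.isInvertible_of_isEffCartierIdeal (X := (Over.mk p).left) (Γ i).ι.ker (hc i))
    exact ⟨L', ⟨ProjTwist.tensComm _ _ ≪≫ e.some⟩⟩
  choose L hL using hex
  haveI : IsIntegral C := hC.2.2.1
  have hconn : _root_.IsPreconnected (Models.specialFibreSet R (Over.mk p)) := by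
    haveI : Flat (Over.mk p).hom := hX.1.1
    haveI := VertInter.preconnectedSpace_fiber (X := Over.mk p)
      (VertInter.toGlobal_bijective (X := Over.mk p) hg hH0).2
    have h1 := (isPreconnected_range ((Over.mk p).hom.fiberι (IsLocalRing.closedPoint R)).continuous)
    have e := Scheme.Hom.range_fiberι (Over.mk p).hom (IsLocalRing.closedPoint R)
    rw [e] at h1
    exact h1
  obtain ⟨i₀⟩ := VertInter.nonempty_fin hX hΓ inferInstance hg
  set d := Models.multGcd R (Over.mk p) Γ with hd
  let m : Fin n → ℕ := fun j => Models.mult R (Over.mk p) (Γ j) / d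
  have hm1 := fun j => VertInter.one_le_mult (p := p) hΓ hX.2.2 j
  have hdm : ∀ j, d * m j = Models.mult R (Over.mk p) (Γ j) := fun j =>
    Nat.mul_div_cancel' (Finset.gcd_dvd (Finset.mem_univ j))
  have hd0 : 0 < d := Nat.pos_of_ne_zero fun h => by
    have := hdm i₀; have := hm1 i₀; rw [h] at *; omega
  have hm0 : ∀ j, 1 ≤ m j := fun j => Nat.pos_of_ne_zero fun h => by
    have := hdm j; have := hm1 j; rw [h] at *; omega
  have hkill : ∀ i, ∑ j, (m j : ℤ) * ArSurf.inter R (Over.mk p) (L j) (Γ i) = 0 := fun i => by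
    have h := VertInter.sum_mult_eq_zero p hX.2.2 Γ hΓ L hL (Γ i)
    simp only [← hdm, Nat.cast_mul, mul_assoc, ← Finset.mul_sum] at h
    exact (mul_eq_zero.mp h).resolve_left (by exact_mod_cast hd0.ne')
  have hsymm : ∀ i j, ArSurf.inter R (Over.mk p) (L j) (Γ i) = ArSurf.inter R (Over.mk p) (L i) (Γ j) :=
    fun i j => VertInter.inter_symm_list hΓ hX.2.2 L hL i j
  constructor
  · refine VertInter.isField_divIdeal (X := Over.mk p) Γ hc L hL m i₀ (hm0 i₀) fun z hz hz1 hne => ?_
    by_contra hno
    push Not at hno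
    let w : Fin n → ℤ := fun j => (m j : ℤ) - (z j : ℤ)
    have hw : ∀ i, ∑ j, w j * ArSurf.inter R (Over.mk p) (L j) (Γ i) =
        -∑ j, (z j : ℤ) * ArSurf.inter R (Over.mk p) (L j) (Γ i) := fun i => by
      simp only [w, sub_mul, Finset.sum_sub_distrib, hkill i, zero_sub]
    have hQ : 0 ≤ ∑ q : Fin n × Fin n, w q.1 * w q.2 * ArSurf.inter R (Over.mk p) (L q.2) (Γ q.1) := by
      rw [Fintype.sum_prod_type]
      simp only [mul_assoc, ← Finset.mul_sum]
      refine Finset.sum_nonneg fun i _ => ?_
      rw [hw i]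
      rcases Nat.lt_or_ge (z i) (m i) with h | h
      · exact mul_nonneg (by simp only [w]; omega) (by linarith [hno i h])
      · have : z i = m i := le_antisymm (hz i) h
        simp [w, this]
    have hform := S3320.form p hX.2.2 Γ hΓ hconn L hL w
    obtain ⟨c, hcw⟩ := hform.2.mp (le_antisymm hform.1 hQ)
    -- `z` is then a rational multiple of `m`, hence equal to it
    have hden : ∀ i, (c.num : ℤ) * (d * m i) = (c.den : ℤ) * w i := fun i => by
      have h2 : ((c.num : ℤ) * (d * m i) : ℚ) = ((c.den : ℤ) * w i : ℚ) := by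
        push_cast
        rw [hcw i, ← hdm i]
        push_cast
        linear_combination (-((d : ℚ) * (m i : ℚ))) * Rat.den_mul_eq_num c
      exact_mod_cast h2
    have hgcd : Finset.univ.gcd (fun j => m j) = 1 :=
      Finset.gcd_div_eq_one (Finset.mem_univ i₀) (by have := hm1 i₀; omega)
    have hdvd : ∀ i, c.den ∣ d * m i := fun i => by
      have h3 : (c.den : ℤ) ∣ c.num * ((d * m i : ℕ) : ℤ) := ⟨w i, by push_cast; exact hden i⟩
      have h4 := Int.natCast_dvd.mp h3
      rw [Int.natAbs_mul, Int.natAbs_natCast] at h4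
      exact (c.reduced.symm).dvd_of_dvd_mul_left h4
    have hdd : c.den ∣ d := by
      have := Finset.dvd_gcd (s := Finset.univ) (f := fun j => d * m j) fun i _ => hdvd i
      rwa [Finset.gcd_mul_left, hgcd, normalize_eq, mul_one] at this
    obtain ⟨t, ht⟩ := hdd
    have hwt : ∀ i, w i = (c.num * t) * m i := fun i => by
      have h1 := hden i
      have hcd : (c.den : ℤ) ≠ 0 := by exact_mod_cast c.den_ne_zero
      refine mul_left_cancel₀ hcd ?_
      rw [← h1, ht]; push_cast; ring
    have hlt : (c.num * t) < 1 := by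
      have h1 := hwt i₀
      simp only [w] at h1
      by_contra hge
      push Not at hge
      have h2 : (m i₀ : ℤ) ≤ (c.num * t) * m i₀ := le_mul_of_one_le_left (by positivity) hge
      omega
    refine hne (funext fun j => le_antisymm (hz j) ?_)
    have h1 := hwt j
    simp only [w] at h1
    have h2 : (c.num * t) * (m j : ℤ) ≤ 0 := mul_nonpos_of_nonpos_of_nonneg (by omega) (by positivity)
    omega
  · have h := VertInter.two_mul_chi_divIdeal (X := Over.mk p) Γ hc L hL hsymm m
    have hM := VertInter.two_mul_chi_divIdeal (X := Over.mk p) Γ hc L hL hsymm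
      fun j => Models.mult R (Over.mk p) (Γ j)
    rw [show VertInter.divIdeal (X := Over.mk p) Γ (fun i => Models.mult R (Over.mk p) (Γ i)) =
      Models.specialFibreIdeal R (Over.mk p) from heq.symm, VertInter.chi_fibre hC hH0 hX Γ hΓ] at hM
    have h0 : ∀ (u : Fin n → ℤ) i, ∑ j, u i * (m j : ℤ) * ArSurf.inter R (Over.mk p) (L j) (Γ i) = 0 :=
      fun u i => by simp only [mul_assoc]; rw [← Finset.mul_sum, hkill i, mul_zero]
    have h00 : ∀ i, ∑ j, (m i : ℤ) * (m j : ℤ) * ArSurf.inter R (Over.mk p) (L j) (Γ i) = 0 :=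
      h0 fun i => (m i : ℤ)
    rw [Finset.sum_eq_zero fun i _ => h00 i, neg_zero, zero_add] at h
    simp only [← hdm, Nat.cast_mul] at hM
    have h0' : ∀ i, ∑ j, ((d : ℤ) * (m i : ℤ)) * ((d : ℤ) * (m j : ℤ)) *
        ArSurf.inter R (Over.mk p) (L j) (Γ i) = 0 := fun i => by
      refine Eq.trans ?_ (h0 (fun i => (d : ℤ) * (d : ℤ) * (m i : ℤ)) i)
      exact Finset.sum_congr rfl fun j _ => by ring
    rw [Finset.sum_eq_zero fun i _ => h0' i, neg_zero, zero_add] at hM
    simp only [mul_assoc, ← Finset.mul_sum] at hM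
    rw [← h] at hM
    simp only [VertInter.chi, VertInter.divIdeal, m] at hM
    linarith

end Groth.Agent.S3324
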