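import Groth.Statements.S3327
import Groth.Agent.S3345
import Groth.Agent.VertInter.Len
-- import your own Groth.Agent.* helpers here

set_option autoImplicit false
set_option linter.style.haveILetI false
set_option backward.isDefEq.respectTransparency false
set_option backward.isDefEq.respectTransparency.types false
universe u
open CategoryTheory CategoryTheory.Limits AlgebraicGeometry
open Models

namespace Groth.Agent.S3327

section Curve

variable {R : Type u} [CommRing R] [IsDomain R] [IsDiscreteValuationRing R]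
  {X : Over (Spec (CommRingCat.of R))} [IsProper X.hom] (Γ : ArSurf.VertComp R X)

local notation "k" => IsLocalRing.ResidueField R

/-- A component of genus zero with constants `k` and an invertible module of degree one is a line. -/
theorem exists_iso_line (hw : Models.wdeg R X Γ = 1) (h1 : Models.h1 R X Γ = 0) {M : X.left.Modules}
    (hM : PicF.IsInvertible M) (hdeg : ArSurf.inter R X M Γ = 1) :
    ∃ e : Γ.curve.left ≅ CohB1.ProjSpace 1 k, e.hom ≫ CohB1.ProjSpace.toSpec 1 k = Γ.curve.hom := by
  haveI : IsProper (Γ.curve.left ↘ Spec (CommRingCat.of k)) := VertInter.isProper_curve Γ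
  rw [VertInter.inter_eq_deg] at hdeg
  obtain ⟨i, hi, hi', -⟩ := S1636.result k Γ.curve.left Γ.dim_eq hw h1 _
    (PicLoc.isInvertible_pullback Γ.ι hM) 1 one_pos (hdeg.trans Nat.cast_one.symm)
  obtain ⟨-, -, hPi, hPd⟩ := FFCurve.p1_facts k
  haveI := hPi
  haveI : Surjective i := ⟨Set.range_eq_univ.mp (by
    by_contra hne
    have hlt := S10830.result _ (by rw [hPd]; exact ne_of_lt (WithBot.coe_lt_coe.2 (ENat.coe_lt_top 1))) _
      i.isClosedEmbedding.isClosed_range hne
    rw [← IsHomeomorph.topologicalKrullDim_eq _ (i.isEmbedding.toHomeomorph).isHomeomorph] at hlt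
    rw [Γ.dim_eq, hPd] at hlt
    exact lt_irrefl _ hlt)⟩
  haveI : IsIso i := isIso_of_isClosedImmersion_of_surjective i
  exact ⟨asIso i, hi'⟩

/-- Intersection number one: a single reduced rational point. -/
theorem exists_point {I : X.left.IdealSheafData} (hI : BlowUp.IsEffCartierIdeal I)
    (hΓ : Models.genPtOf R X Γ ∉ (I.support : Set X.left)) {L : X.left.Modules}
    (hL : ClSub.IsInverseOf L (ClSub.idealMod I)) (h1 : ArSurf.inter R X L Γ = 1) :
    ∃ x : X.left, Set.range Γ.ι.base ∩ (I.support : Set X.left) = {x} ∧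
      I ⊔ Γ.ι.ker = Scheme.IdealSheafData.vanishingIdeal ⟨closure {x}, isClosed_closure⟩ ∧
      Function.Surjective ((X.left.residue x).hom.comp (Models.stalkHom R X x)) := by
  haveI : IsProper (Γ.curve.left ↘ Spec (CommRingCat.of k)) := VertInter.isProper_curve Γ
  have hC := VertInter.isEffCartier_comap Γ hI hΓ
  rw [VertInter.inter_eq_finrank Γ hI hΓ hL] at h1
  have hr : Module.finrank k (Coh.HH Γ.curve.left (ClSub.quotMod (I.comap Γ.ι)) 0) = 1 := by exact_mod_cast h1
  haveI := EulerChar.isFinite_of_dim_support (I.comap Γ.ι) k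
    (EulerChar.dim_support_divisor (I.comap Γ.ι) Γ.dim_eq.le hC)
  let h := (I.comap Γ.ι).subschemeι ≫ (Γ.curve.left ↘ Spec (CommRingCat.of k))
  haveI : IsAffine (I.comap Γ.ι).subscheme := isAffine_of_isAffineHom h
  let e := ProperFin.h0Sec (ClSub.quotMod (I.comap Γ.ι))
  haveI : Nontrivial (Coh.HH Γ.curve.left (ClSub.quotMod (I.comap Γ.ι)) 0) := Module.nontrivial_of_finrank_eq_succ hr
  haveI : Nontrivial Γ((I.comap Γ.ι).subscheme, ⊤) := e.toEquiv.symm.nontrivial
  haveI : Nontrivial (Coh.Γtop (I.comap Γ.ι).subscheme) := ‹Nontrivial Γ((I.comap Γ.ι).subscheme, ⊤)›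
  have hbij : Function.Bijective (Coh.toGlobal (A := k) h) := by
    refine ⟨(Coh.toGlobal (A := k) h).injective, fun b => ?_⟩
    let o : Coh.HH Γ.curve.left (ClSub.quotMod (I.comap Γ.ι)) 0 :=
      e.symm (show Γ((I.comap Γ.ι).subscheme, ⊤) from 1)
    have ho : o ≠ 0 := fun h0 => one_ne_zero (α := Γ((I.comap Γ.ι).subscheme, ⊤))
      ((e.apply_symm_apply (show Γ((I.comap Γ.ι).subscheme, ⊤) from 1)).symm.trans ((congrArg e h0).trans (map_zero e)))
    obtain ⟨r, hr'⟩ := exists_smul_eq_of_finrank_eq_one hr ho (e.symm b)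
    refine ⟨r, ?_⟩
    have h2 := congrArg e hr'
    rw [e.apply_symm_apply] at h2
    refine Eq.trans ?_ h2
    refine Eq.trans ?_ (ProperFin.h0Sec_smul (ClSub.quotMod (I.comap Γ.ι))
      (Coh.toGlobal (Γ.curve.left ↘ Spec (CommRingCat.of k)) r) o).symm
    rw [e.apply_symm_apply]
    refine Eq.trans ?_ (mul_one ((I.comap Γ.ι).subschemeι.appTop
      (Coh.toGlobal (Γ.curve.left ↘ Spec (CommRingCat.of k)) r))).symm
    simp [h, Coh.toGlobal, Scheme.Hom.comp_appTop]
    rfl
  haveI : IsIso h.appTop := by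
    rw [ConcreteCategory.isIso_iff_bijective]
    exact (Function.Bijective.of_comp_iff _
      (ConcreteCategory.bijective_of_isIso (Scheme.ΓSpecIso (CommRingCat.of k)).inv)).mp hbij
  haveI : IsIso h := by
    have hn := Scheme.toSpecΓ_naturality h
    haveI : IsIso (h ≫ (Spec (CommRingCat.of k)).toSpecΓ) := by rw [hn]; infer_instance
    exact IsIso.of_isIso_comp_right h (Spec (CommRingCat.of k)).toSpecΓ
  haveI : IsReduced (I.comap Γ.ι).subscheme := isReduced_of_isOpenImmersion h
  let t : (I.comap Γ.ι).subscheme := inv h (⊥ : PrimeSpectrum k)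
  have ht : ∀ z, z = t := fun z => h.homeomorph.injective
    (Subsingleton.elim (α := PrimeSpectrum k) _ _)
  let j := (I.comap Γ.ι).subschemeι ≫ Γ.ι
  have hker : j.ker = I ⊔ Γ.ι.ker := VertInter.map_comap_closedImmersion Γ.ι I
  have hrange : Set.range j = {j t} :=
    Set.eq_singleton_iff_unique_mem.mpr ⟨⟨t, rfl⟩, by rintro _ ⟨z, rfl⟩; rw [ht z]⟩
  have hcl : IsClosed ({j t} : Set X.left) := hrange ▸ j.isClosedEmbedding.isClosed_range
  refine ⟨j t, ?_, ?_, ?_⟩
  · rw [← hrange, ← Set.image_preimage_eq_range_inter,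
      show Γ.ι.base ⁻¹' (I.support : Set X.left) = Set.range (I.comap Γ.ι).subschemeι by
        rw [Scheme.IdealSheafData.range_subschemeι, Scheme.IdealSheafData.support_comap, TopologicalSpace.Closeds.coe_preimage],
      ← Set.range_comp]
    rfl
  · rw [← hker]
    exact RedSub.ker_eq_vanishingIdeal j ⟨closure {j t}, isClosed_closure⟩ (hrange.trans hcl.closure_eq.symm)
  · intro c
    let ev : Γ((I.comap Γ.ι).subscheme, ⊤) →+* (I.comap Γ.ι).subscheme.residueField t :=
      ((I.comap Γ.ι).subscheme.residue t).hom.comp ((I.comap Γ.ι).subscheme.presheaf.germ ⊤ t trivial).hom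
    have hev : Function.Surjective ev := by
      intro d
      obtain ⟨s, rfl⟩ := Scheme.residue_surjective _ t d
      obtain ⟨U, htU, a₀, rfl⟩ := (I.comap Γ.ι).subscheme.presheaf.germ_exist s
      obtain rfl : U = ⊤ := top_le_iff.mp fun z _ => (ht z).symm ▸ htU
      obtain ⟨a, rfl⟩ : ∃ a, a = a₀ := ⟨a₀, rfl⟩
      exact ⟨a, rfl⟩
    obtain ⟨a, ha⟩ := hev ((j.residueFieldMap t).hom c)
    obtain ⟨r₀, hr₀⟩ := hbij.2 a
    obtain ⟨r, rfl⟩ := IsLocalRing.residue_surjective r₀
    refine ⟨r, (j.residueFieldMap t).hom.injective ?_⟩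
    rw [← ha, ← hr₀]
    refine (congr($(Scheme.residue_residueFieldMap j t) (Models.stalkHom R X (j t) r))).trans ?_
    refine congrArg ((I.comap Γ.ι).subscheme.residue t) ((j.germ_stalkMap_apply ⊤ t trivial (Coh.toGlobal X.hom r)).trans ?_)
    refine congrArg ((I.comap Γ.ι).subscheme.presheaf.germ ⊤ t trivial) ?_
    refine (congrArg (fun y => (I.comap Γ.ι).subschemeι.appTop y)
      (S7915.toGlobal_square (IsLocalRing.residue R) Γ.ι X.hom Γ.curve.hom Γ.w r)).trans ?_
    simp [h, Coh.toGlobal, Scheme.Hom.comp_appTop]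
    rfl

end Curve

/-- In the following situation (R a discrete valuation ring with residue field k, C a smooth proper
curve over its fraction field K with H^0(C, O_C) = K, X a regular proper model, Γ_1, …, Γ_n the
irreducible components of the closed fibre with multiplicities m_l), suppose Γ_i and Γ_j (i ≠ j) are
exceptional curves of the first kind which meet. Then n = 2, all multiplicities are 1, every
component is k-isomorphic to the projective line over k, Γ_i and Γ_j meet in a single point x with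
residue field k, scheme-theoretically (I(Γ_i) + I(Γ_j) is the ideal of the reduced point x), and C
has genus zero. -/
theorem result (R : Type u) [CommRing R] [IsDomain R] [IsDiscreteValuationRing R]
    (C X : Scheme.{u}) (f : C ⟶ Spec (CommRingCat.of (FractionRing R))) (p : X ⟶ Spec (CommRingCat.of R))
    (hC : Curve.IsSmoothProperCurve (FractionRing R) C f) (hH0 : IsIso f.appTop)
    (hX : Models.IsRegularProperModel R X p C f)
    {n : ℕ} (Γ : Fin n → ArSurf.VertComp R (Over.mk p)) (hΓ : Models.IsComponentList R (Over.mk p) Γ)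
    (i j : Fin n) (hij : i ≠ j) (hi : Models.IsExcCurve (Γ i).ι) (hj : Models.IsExcCurve (Γ j).ι)
    (hmeet : ¬ Disjoint (Set.range ((Γ i).ι.base : (Γ i).curve.left → X))
      (Set.range ((Γ j).ι.base : (Γ j).curve.left → X))) :
    n = 2 ∧ (∀ l, Models.mult R (Over.mk p) (Γ l) = 1) ∧
      (∀ l, ∃ e : (Γ l).curve.left ≅ CohB1.ProjSpace 1 (IsLocalRing.ResidueField R),
        e.hom ≫ CohB1.ProjSpace.toSpec 1 (IsLocalRing.ResidueField R) = (Γ l).curve.hom) ∧
      (∃ x : X, Set.range ((Γ i).ι.base : (Γ i).curve.left → X) ∩ Set.range ((Γ j).ι.base : (Γ j).curve.left → X) = {x} ∧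
        (Γ i).ι.ker ⊔ (Γ j).ι.ker =
          Scheme.IdealSheafData.vanishingIdeal ⟨closure {x}, isClosed_closure⟩ ∧
        Function.Surjective ((X.residue x).hom.comp (Models.stalkHom R (Over.mk p) x))) ∧
      Models.curveGenus (FractionRing R) C f = 0 := by
  classical
  haveI : Flat p := hX.1.1
  haveI : IsProper p := hX.2.1
  haveI : Flat (Over.mk p).hom := hX.1.1
  haveI : IsProper (Over.mk p).hom := hX.2.1
  haveI : IsLocallyNoetherian X := LocallyOfFiniteType.isLocallyNoetherian p
  haveI : IsLocallyNoetherian (Over.mk p).left := ‹IsLocallyNoetherian X›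
  obtain ⟨g, hg⟩ := hX.1.2.2.2
  haveI : IsIntegral C := hC.2.2.1
  obtain ⟨hc, hfib⟩ := S3313.eq_prod p hX.1.1 inferInstance hX.2.2 Γ hΓ
  have hex : ∀ l, ∃ L : X.Modules, ClSub.IsInverseOf L (ClSub.idealMod (Γ l).ι.ker) := fun l => by
    obtain ⟨L', -, e⟩ := PicLaw.exists_inverse
      (IdealSh.IdealMod.isInvertible_of_isEffCartierIdeal (X := (Over.mk p).left) (Γ l).ι.ker (hc l))
    exact ⟨L', ⟨ProjTwist.tensComm _ _ ≪≫ e.some⟩⟩
  choose L hL using hex
  have hconn : _root_.IsPreconnected (Models.specialFibreSet R (Over.mk p)) := by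
    haveI := VertInter.preconnectedSpace_fiber (X := Over.mk p)
      (VertInter.toGlobal_bijective (X := Over.mk p) hg hH0).2
    have h1 := (isPreconnected_range ((Over.mk p).hom.fiberι (IsLocalRing.closedPoint R)).continuous)
    have e := Scheme.Hom.range_fiberι (Over.mk p).hom (IsLocalRing.closedPoint R)
    rw [e] at h1
    exact h1
  have hs := fun a b => VertInter.inter_symm_list hΓ hX.2.2 L hL a b
  obtain ⟨hi1, hii⟩ := (S3326.result R C X f p hC hH0 hX Γ hΓ L hL i).mp hi
  obtain ⟨hj1, hjj⟩ := (S3326.result R C X f p hC hH0 hX Γ hΓ L hL j).mp hj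
  obtain ⟨ha0, hane⟩ := VertInter.inter_offDiag hΓ hX.2.2 L hL hij
  set a := ArSurf.inter R (Over.mk p) (L j) (Γ i) with ha
  have hapos : 0 < a := lt_of_le_of_ne ha0 fun h0 => hmeet (hane.mp h0.symm)
  have hwi := Int.le_of_dvd hapos (S3345.wdeg_dvd_inter (X := Over.mk p) (Γ i) (L j))
  have hwj : (Models.wdeg R (Over.mk p) (Γ j) : ℤ) ≤ a :=
    Int.le_of_dvd hapos (ha ▸ hs i j ▸ S3345.wdeg_dvd_inter (X := Over.mk p) (Γ j) (L i))
  have hji : ArSurf.inter R (Over.mk p) (L i) (Γ j) = a := (hs i j).symm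
  let v : Fin n → ℤ := fun l => if l = i ∨ l = j then 1 else 0
  have hsum : ∀ φ : Fin n → ℤ, ∑ l, v l * φ l = φ i + φ j := fun φ => by
    rw [← Finset.sum_pair hij]
    simp only [v, ite_mul, one_mul, zero_mul, ← Finset.sum_filter]
    refine Finset.sum_congr ?_ fun _ _ => rfl
    ext l; simp
  have hQ : ∑ q : Fin n × Fin n, v q.1 * v q.2 * ArSurf.inter R (Over.mk p) (L q.2) (Γ q.1) =
      2 * a - Models.wdeg R (Over.mk p) (Γ i) - Models.wdeg R (Over.mk p) (Γ j) := by
    rw [Fintype.sum_prod_type]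
    simp only [mul_assoc, ← Finset.mul_sum, hsum]
    rw [← ha, hji, hii, hjj]
    ring
  have hform := S3320.form p hX.2.2 Γ hΓ hconn L hL v
  rw [hQ] at hform
  have hai : (Models.wdeg R (Over.mk p) (Γ i) : ℤ) = a := by linarith [hform.1]
  have haj : (Models.wdeg R (Over.mk p) (Γ j) : ℤ) = a := by linarith [hform.1]
  obtain ⟨c, hcv⟩ := hform.2.mp (by linarith)
  have hm : ∀ l, 1 ≤ Models.mult R (Over.mk p) (Γ l) := fun l => VertInter.one_le_mult (p := p) hΓ hX.2.2 l
  have hvi : v i = 1 := by simp [v]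
  have hvj : v j = 1 := by simp [v]
  have hc0 : c ≠ 0 := by
    intro h0
    have := hcv i
    rw [hvi, h0] at this
    simp at this
  have hall : ∀ l, l = i ∨ l = j := fun l => by
    by_contra hl
    have := hcv l
    rw [show v l = 0 from if_neg hl] at this
    rcases mul_eq_zero.mp (this.symm.trans (by simp)) with h | h
    · exact hc0 h
    · have := hm l
      simp only [Nat.cast_eq_zero] at h
      omega
  have hmij : Models.mult R (Over.mk p) (Γ i) = Models.mult R (Over.mk p) (Γ j) := by
    have h1 := (hcv i).symm.trans ((congrArg (Int.cast : ℤ → ℚ) (hvi.trans hvj.symm)).trans (hcv j))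
    exact_mod_cast mul_left_cancel₀ hc0 h1
  have huniv : (Finset.univ : Finset (Fin n)) = {i, j} := by
    ext l; simpa using hall l
  have hn : n = 2 := by
    have := congrArg Finset.card huniv
    rwa [Finset.card_univ, Fintype.card_fin, Finset.card_pair hij] at this
  -- the genus
  set m := Models.mult R (Over.mk p) (Γ i) with hm'
  have hχ := VertInter.two_mul_chi_divIdeal (X := Over.mk p) Γ hc L hL hs (fun l => Models.mult R (Over.mk p) (Γ l))
  rw [show VertInter.divIdeal (X := Over.mk p) Γ (fun l => Models.mult R (Over.mk p) (Γ l)) =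
      Models.specialFibreIdeal R (Over.mk p) from hfib.symm, VertInter.chi_fibre hC hH0 hX Γ hΓ] at hχ
  simp only [huniv, Finset.sum_pair hij, ← hmij, ← ha, hji, hii, hjj, hi1, hj1, ← hm', hai, haj] at hχ
  have hga : 1 - (Models.curveGenus (FractionRing R) C f : ℤ) = (m : ℤ) * a := by
    push_cast at hχ
    linarith
  have hprod : 1 ≤ (m : ℤ) * a := le_trans (le_of_eq (one_mul 1).symm)
    (mul_le_mul (by exact_mod_cast hm i) hapos (by norm_num) (by positivity))
  have hg0 : Models.curveGenus (FractionRing R) C f = 0 := by omega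
  have hm1 : m = 1 ∧ a = 1 := by
    rw [hg0] at hga
    have h := Int.eq_one_of_mul_eq_one_right (by positivity : (0:ℤ) ≤ (m : ℤ)) (by simpa using hga.symm)
    refine ⟨by exact_mod_cast h, ?_⟩
    rw [h] at hga
    simpa using hga.symm
  refine ⟨hn, fun l => ?_, fun l => ?_, ?_, hg0⟩
  · rcases hall l with rfl | rfl
    · exact hm1.1
    · exact hmij.symm.trans hm1.1
  · rcases hall l with rfl | rfl
    · exact exists_iso_line (X := Over.mk p) (Γ l) (by omega) hi1 (VertInter.model_invertible hX hΓ L hL j) hm1.2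
    · exact exists_iso_line (X := Over.mk p) (Γ l) (by omega) hj1 (VertInter.model_invertible hX hΓ L hL i) (hji.trans hm1.2)
  · obtain ⟨x, hx, hx', hres⟩ := exists_point (X := Over.mk p) (Γ i) (hc j)
      (VertInter.not_mem_support hΓ hij) (hL j) hm1.2
    refine ⟨x, ?_, ?_, hres⟩
    · rwa [Scheme.Hom.support_ker, (Γ j).ι.isClosedEmbedding.isClosed_range.closure_eq] at hx
    · rw [sup_comm]; exact hx'

end Groth.Agent.S3327
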