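import Groth.Statements.S3338
import Groth.Agent.S16554
import Groth.Agent.S15942
import Groth.Agent.S10962
import Groth.Agent.VertInter.Twist
import Groth.Agent.CurveCoh.Integral
import Groth.Agent.StrictSSLib.Component
import Groth.Agent.RedSub.Basic
import Groth.Agent.AmpleLib.Locus
import Groth.Agent.ProjTwist.Zero
import Groth.Agent.QCoh.Qcqs
import Groth.Agent.VertInter.FibreChi

set_option autoImplicit false
universe u
open CategoryTheory CategoryTheory.Limits AlgebraicGeometry
open Models

namespace Groth.Agent.S3338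

/-- The step (1) implies (2) as proved there: let R be a discrete valuation ring with fraction field K,
C a smooth proper curve over K with H^0(C, O_C) = K, and X a proper smooth model of C over R. Then X
is a minimal model (regular, proper, with no exceptional curve of the first kind in its closed
fibre). -/
theorem result (R : Type u) [CommRing R] [IsDomain R] [IsDiscreteValuationRing R]
    (C X : Scheme.{u}) (f : C ⟶ Spec (CommRingCat.of (FractionRing R))) (p : X ⟶ Spec (CommRingCat.of R))
    (hC : Curve.IsSmoothProperCurve (FractionRing R) C f) (hH0 : IsIso f.appTop)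
    (hX : Models.IsModel R X p C f) [IsProper p] [Smooth p] :
    Models.IsMinimalModel R X p C f := by
  haveI : IsLocallyNoetherian X := LocallyOfFiniteType.isLocallyNoetherian p
  haveI : IsRegularRing R := RegLoc.Homological.isRegularRing
  have hregX : Models.IsRegularScheme X := fun x => S11107.isRegularLocalRing_stalk p x
  refine ⟨⟨hX, inferInstance, hregX⟩, fun Γ hΓ => ?_⟩
  obtain ⟨g, hg⟩ := hX.2.2.2
  haveI : Flat (Over.mk p).hom := hX.1
  haveI : IsProper (Over.mk p).hom := ‹IsProper p›
  haveI : IsLocallyNoetherian (Over.mk p).left := ‹IsLocallyNoetherian X›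
  haveI : ∀ x : (Over.mk p).left, IsDomain ((Over.mk p).left.presheaf.stalk x) := fun x =>
    haveI : IsRegularLocalRing ((Over.mk p).left.presheaf.stalk x) := hregX x
    RegLoc.isDomain _
  haveI : ∀ x : (Over.mk p).left, UniqueFactorizationMonoid ((Over.mk p).left.presheaf.stalk x) := fun x =>
    haveI : IsRegularLocalRing ((Over.mk p).left.presheaf.stalk x) := hregX x
    RegLoc.UFD.uniqueFactorizationMonoid _
  obtain ⟨ϖ, hϖ⟩ := IsDiscreteValuationRing.exists_irreducible R
  -- the closed fibre
  let i : Spec (CommRingCat.of (IsLocalRing.ResidueField R)) ⟶ Spec (CommRingCat.of R) :=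
    Spec.map (CommRingCat.ofHom (IsLocalRing.residue R))
  haveI : IsClosedImmersion i := IsClosedImmersion.spec_of_surjective _ IsLocalRing.residue_surjective
  let Y := pullback p i
  let j : Y ⟶ (Over.mk p).left := pullback.fst p i
  haveI : IsClosedImmersion j := inferInstanceAs (IsClosedImmersion (pullback.fst p i))
  have hI : i.ker = Curv2.idealSheaf R (IsLocalRing.maximalIdeal R) := by
    refine Scheme.IdealSheafData.ext_of_isAffine ?_
    rw [Adic.IdealSpec.ker_Spec_map_eq, IsLocalRing.ker_residue]
    show _ = (Scheme.IdealSheafData.ofIdealTop _).ideal ⟨⊤, _⟩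
    rw [Scheme.IdealSheafData.ofIdealTop_ideal]
    simp only [homOfLE_refl, op_id, CategoryTheory.Functor.map_id, CommRingCat.hom_id, Ideal.map_id]
    exact (Ideal.map_symm (Adic.IdealSpec.gEquiv R)).symm
  have hj : j.ker = Models.specialFibreIdeal R (Over.mk p) :=
    (Scheme.IdealSheafData.ker_fst_of_isClosedImmersion i p).trans
      (congrArg (fun I => Scheme.IdealSheafData.comap I p) hI)
  have hir : Set.range i = {IsLocalRing.closedPoint R} := by
    ext s
    constructor
    · rintro ⟨t, rfl⟩
      refine PrimeSpectrum.ext ?_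
      change Ideal.comap (IsLocalRing.residue R) t.asIdeal = IsLocalRing.maximalIdeal R
      rw [(Ideal.eq_bot_or_top t.asIdeal).resolve_right t.isPrime.ne_top]
      exact IsLocalRing.ker_residue
    · rintro rfl
      refine ⟨⟨⊥, Ideal.isPrime_bot⟩, PrimeSpectrum.ext ?_⟩
      exact IsLocalRing.ker_residue
  have hjr : Set.range j = Models.specialFibreSet R (Over.mk p) := by
    rw [show Set.range j = p ⁻¹' Set.range i from Scheme.Pullback.range_fst p i, hir]
    rfl
  haveI : IsReduced Y := StrictSSLib.isReduced_of_smooth_field (pullback.snd p i)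
  haveI : IsLocallyNoetherian Y := LocallyOfFiniteType.isLocallyNoetherian (pullback.snd p i)
  haveI : CompactSpace Y := QuasiCompact.compactSpace_of_compactSpace (pullback.snd p i)
  haveI : AlgebraicGeometry.IsNoetherian Y := {}
  have hξ : Models.genPtOf R (Over.mk p) Γ ∈ Models.specialFibreSet R (Over.mk p) := by
    change (Over.mk p).hom (Γ.ι (genericPoint Γ.curve.left)) = IsLocalRing.closedPoint R
    rw [← Scheme.Hom.comp_apply, Γ.w, Scheme.Hom.comp_apply]
    exact hir.le ⟨_, rfl⟩
  haveI : PreconnectedSpace Y := by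
    haveI := VertInter.preconnectedSpace_fiber (X := Over.mk p) (VertInter.toGlobal_bijective hg hH0).2
    refine ⟨j.isEmbedding.isInducing.isPreconnected_image.mp ?_⟩
    rw [Set.image_univ, hjr, show Models.specialFibreSet R (Over.mk p) =
      Set.range ((Over.mk p).hom.fiberι (IsLocalRing.closedPoint R)) from ((Over.mk p).hom.range_fiberι _).symm]
    exact isPreconnected_range ((Over.mk p).hom.fiberι _).continuous
  haveI : Nonempty Y := by
    obtain ⟨y, -⟩ := hjr.symm.le hξ
    exact ⟨y⟩
  haveI : ConnectedSpace Y := ⟨inferInstance⟩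
  haveI : IrreducibleSpace Y := CurveCoh.irreducibleSpace_of_domain_stalks Y
    (StrictSSLib.isDomain_stalk_of_smooth (pullback.snd p i))
  -- the curve is the whole fibre
  set ξ := Models.genPtOf R (Over.mk p) Γ
  obtain ⟨hcart, k, _, e, ⟨hO⟩⟩ := hΓ
  obtain ⟨U, hx, -, a₀, ha₀, he₀⟩ := IdealSh.EffCartier.exists_equation hcart ξ ⊤ trivial
  have hst : IntMult.stalkIdeal Γ.ι.ker ξ = CDivLib.genPrime (specializes_rfl (x := ξ)) :=
    S3313.stalkIdeal_ker Γ.ι (specializes_rfl (x := ξ))
  set a := (Over.mk p).left.presheaf.germ U.1 ξ hx a₀ with haa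
  have hmax : IsLocalRing.maximalIdeal ((Over.mk p).left.presheaf.stalk ξ) = Ideal.span {a} := by
    rw [← CDivLib.map_genPrime (specializes_rfl (x := ξ)), ← hst,
      IdealSh.stalkIdeal_eq _ U hx, he₀, Ideal.map_span, Set.image_singleton,
      TopCat.Presheaf.stalkSpecializes_refl]
    exact Ideal.map_id _
  obtain ⟨b, hb, hbt⟩ := WfDvdMonoid.exists_irreducible_factor ((S3313.mem_fibre_iff (Over.mk p) hϖ ξ).mp hξ)
    (S3313.stalkHom_ne_zero (Over.mk p) hϖ ξ)
  obtain ⟨z, hz, hzb, hzc⟩ := S16554.exists_component_of_prime (Over.mk p) hϖ ξ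
    (UniqueFactorizationMonoid.irreducible_iff_prime.mp hb) hbt
  have hzξ : z = ξ := CDivLib.genPrime_injective hz specializes_rfl (by
    rw [hzb, ← hst, IdealSh.stalkIdeal_eq _ U hx, he₀,
      Ideal.map_span, Set.image_singleton, ← haa, Ideal.span_singleton_eq_span_singleton]
    have hab : a ∣ b := Ideal.mem_span_singleton.mp (hmax ▸ hb.not_isUnit)
    exact ((hb.dvd_iff.mp hab).resolve_left fun hu => (IsLocalRing.maximalIdeal.isMaximal _).ne_top
      (hmax.trans (Ideal.span_singleton_eq_top.mpr hu))))
  have hΓr : Set.range Γ.ι.base = Set.range j := by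
    rw [S3313.range_eq_closure Γ.ι]
    refine Set.Subset.antisymm (hjr ▸ closure_minimal (Set.singleton_subset_iff.mpr hξ)
      (Models.isClosed_specialFibreSet R _)) ?_
    have h := hzξ ▸ hzc
    exact h.2 ⟨IsIrreducible.image (IrreducibleSpace.isIrreducible_univ Y) j j.continuous.continuousOn |> (Set.image_univ (f := j) ▸ ·),
      hjr.le⟩ (hjr ▸ h.1.2)
  have hker : Γ.ι.ker = Models.specialFibreIdeal R (Over.mk p) := by
    rw [← hj, RedSub.ker_eq_vanishingIdeal Γ.ι ⟨_, j.isClosedEmbedding.isClosed_range⟩ hΓr,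
      RedSub.ker_eq_vanishingIdeal j ⟨_, j.isClosedEmbedding.isClosed_range⟩ rfl]
  -- the conormal sheaf is trivial
  obtain ⟨t⟩ := CartFilt.nonempty_structure_iso_of_eqn (S3313.isEffCartier_fibre (Over.mk p))
    (Coh.toGlobal (Over.mk p).hom ϖ) (VertInter.fibre_eqn hϖ)
  let w : Twist.twistProjSpace 1 k 1 ≅ Twist.twistProjSpace 1 k 0 :=
    hO.symm ≪≫ (Scheme.Modules.pullback (e.hom ≫ Γ.ι)).mapIso (eqToIso (by rw [hker]) ≪≫ t.symm) ≪≫
      QCoh.pullbackUnitIso (e.hom ≫ Γ.ι) ≪≫ ProjTwist.twistZeroIso (CohB1.polyGrading 1 k)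
  exact lt_irrefl _ ((S10962.result k 1 le_rfl 0).mp
    (AmpleLib.isAmple_of_iso w ((S10962.result k 1 le_rfl 1).mpr one_pos)))


end Groth.Agent.S3338
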