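import Groth.Statements.S3341
import Groth.Agent.S19918

set_option autoImplicit false
universe u
open CategoryTheory CategoryTheory.Limits AlgebraicGeometry
open Models

namespace Groth.Agent.S3341

attribute [local instance] Groth.Agent.PicLaw.law

/-- In the following situation (R a discrete valuation ring, C a smooth proper curve over its fraction
field K with H^0(C, O_C) = K, X a regular proper model with generic-fibre inclusion g, Γ_1, …, Γ_n
the irreducible components of the closed fibre with multiplicities m_i) let d = gcd(m_1, …, m_n) and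
let h ≥ 1 be prime to d. If M is an invertible O_X-module with M^{⊗h} ≅ O_X whose pullback to C is
trivial, then M ≅ O_X: the map Pic(X)[h] → Pic(C)[h] is injective. -/
theorem result (R : Type u) [CommRing R] [IsDomain R] [IsDiscreteValuationRing R]
    (C X : Scheme.{u}) (f : C ⟶ Spec (CommRingCat.of (FractionRing R))) (p : X ⟶ Spec (CommRingCat.of R))
    (hC : Curve.IsSmoothProperCurve (FractionRing R) C f) (hH0 : IsIso f.appTop)
    (hX : Models.IsRegularProperModel R X p C f)
    {n : ℕ} (Γ : Fin n → ArSurf.VertComp R (Over.mk p)) (hΓ : Models.IsComponentList R (Over.mk p) Γ)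
    (g : C ⟶ X) (hg : IsPullback g f p (Spec.map (CommRingCat.ofHom (algebraMap R (FractionRing R))))) (h : ℕ) (hh : 0 < h) (hcop : Nat.Coprime h (Models.multGcd R (Over.mk p) Γ))
    (M : X.Modules) (hM : PicF.IsInvertible M)
    (htors : Nonempty (CohB1.tensorPow M h ≅ Coh.structureModule X))
    (htriv : Nonempty ((Scheme.Modules.pullback g).obj M ≅ Coh.structureModule C)) :
    Nonempty (M ≅ Coh.structureModule X) := by
  haveI : Flat p := hX.1.1
  haveI : IsProper p := hX.2.1
  haveI : IsLocallyNoetherian (Over.mk p).left := LocallyOfFiniteType.isLocallyNoetherian p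
  haveI : IsLocallyNoetherian X := LocallyOfFiniteType.isLocallyNoetherian p
  have hcart := (S3313.eq_prod p hX.1.1 inferInstance hX.2.2 Γ hΓ).1
  have hex : ∀ i, ∃ L : X.Modules, ClSub.IsInverseOf L (ClSub.idealMod (Γ i).ι.ker) := fun i => by
    obtain ⟨L', -, e⟩ := PicLaw.exists_inverse
      (IdealSh.IdealMod.isInvertible_of_isEffCartierIdeal (X := (Over.mk p).left) (Γ i).ι.ker (hcart i))
    exact ⟨L', ⟨ProjTwist.tensComm _ _ ≪≫ e.some⟩⟩
  choose L hL using hex
  obtain ⟨k, ⟨hk, ⟨e⟩⟩, -⟩ := S19918.result R C X f p hC hH0 hX Γ hΓ g hg L hL h hh M hM htors htriv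
  rw [Nat.Coprime.gcd_eq_one hcop, Nat.lt_one_iff] at hk
  subst hk
  obtain ⟨h0, e0⟩ := VertInter.exists_cls_multiTwist L (VertInter.model_invertible hX hΓ L hL) fun _ => 0
  have h1 : PicGrp.cls _ h0 = 1 := e0.trans (BigVol.Multi.pw_zero _)
  obtain ⟨e1⟩ := (PicGrp.cls_eq_one_iff _).mp h1
  simp only [Nat.zero_mul] at e
  exact ⟨e ≪≫ e1⟩

end Groth.Agent.S3341
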