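import Groth.Statements.S3348
import Groth.Agent.VertInter.Kernel

set_option autoImplicit false
universe u
open CategoryTheory CategoryTheory.Limits AlgebraicGeometry
open Models

namespace Groth.Agent.S3348

attribute [local instance] Groth.Agent.PicLaw.law

/-- In the following situation (R a discrete valuation ring with residue field k, C a smooth proper
curve over its fraction field K with H^0(C, O_C) = K, X a regular proper model with generic-fibre
inclusion g, Γ_1, …, Γ_n the irreducible components of the closed fibre, L_j ⊗ I(Γ_j) ≅ O_X, a_ij =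
deg_k(L_j|Γ_i), w_i = dim_k H^0(Γ_i, O)) let N be an invertible O_C-module and M an invertible
O_X-module restricting to N. Then the degree vector (deg_k(M|Γ_i))_i is of the form (Σ_j a_ij v_j)_i
for an integer vector v (the class (deg_k(M|Γ_i)/w_i)_i vanishes in the Picard group of the
numerical type, which does not depend on the choice of M) if and only if N is the restriction of an
invertible O_X-module M' with deg_k(M'|Γ_i) = 0 for all i. -/
theorem result (R : Type u) [CommRing R] [IsDomain R] [IsDiscreteValuationRing R]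
    (C X : Scheme.{u}) (f : C ⟶ Spec (CommRingCat.of (FractionRing R))) (p : X ⟶ Spec (CommRingCat.of R))
    (hC : Curve.IsSmoothProperCurve (FractionRing R) C f) (hH0 : IsIso f.appTop)
    (hX : Models.IsRegularProperModel R X p C f)
    {n : ℕ} (Γ : Fin n → ArSurf.VertComp R (Over.mk p)) (hΓ : Models.IsComponentList R (Over.mk p) Γ)
    (g : C ⟶ X) (hg : IsPullback g f p (Spec.map (CommRingCat.ofHom (algebraMap R (FractionRing R))))) (L : Fin n → X.Modules) (hL : ∀ i, ClSub.IsInverseOf (L i) (ClSub.idealMod (Γ i).ι.ker))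
    (N : C.Modules) (hN : PicF.IsInvertible N)
    (M : X.Modules) (hM : PicF.IsInvertible M) (hMN : Nonempty ((Scheme.Modules.pullback g).obj M ≅ N)) :
    (∃ v : Fin n → ℤ, ∀ i, ArSurf.inter R (Over.mk p) M (Γ i) = ∑ j, ArSurf.inter R (Over.mk p) (L j) (Γ i) * v j) ↔
      ∃ M' : X.Modules, PicF.IsInvertible M' ∧ Nonempty ((Scheme.Modules.pullback g).obj M' ≅ N) ∧
        ∀ i, ArSurf.inter R (Over.mk p) M' (Γ i) = 0 := by
  have hLi := VertInter.model_invertible hX hΓ L hL
  have hone := VertInter.E_eq_one_iff hC hH0 hX hΓ L hL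
  haveI : Flat p := hX.1.1
  haveI : IsProper p := hX.2.1
  haveI : IsProper (Over.mk p).hom := hX.2.1
  have hm1 := VertInter.one_le_mult hΓ hX.2.2
  have hrestrM : VertInter.restr g (PicGrp.cls M hM) = PicGrp.cls N hN := by
    rw [VertInter.restr_cls, PicGrp.cls_eq_cls_iff]; exact hMN
  constructor
  · rintro ⟨v, hv⟩
    obtain ⟨M', hM', hM'c⟩ := VertInter.exists_rep (PicGrp.cls M hM / VertInter.E L hLi v)
    refine ⟨M', hM', (PicGrp.cls_eq_cls_iff (PicLoc.isInvertible_pullback g hM') hN).mp ?_, fun i => ?_⟩
    · rw [← VertInter.restr_cls g hM', hM'c, map_div, hrestrM, VertInter.restr_E hX hΓ hg L hL, div_one]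
    · rw [eq_div_iff_mul_eq'] at hM'c
      have h1 := VertInter.inter_of_cls (X := Over.mk p) (Γ i) L hLi hM hM' v hM'c.symm
      rw [hv i, Finset.sum_congr rfl fun j _ => mul_comm (v j) _] at h1
      linarith
  · rintro ⟨M', hM', hM'N, h0⟩
    obtain ⟨u, hu⟩ := VertInter.exists_E_of_restr_eq hC hH0 hX hΓ hg L hL
      (x := PicGrp.cls M hM) (y := PicGrp.cls M' hM')
      (by rw [hrestrM, VertInter.restr_cls, eq_comm, PicGrp.cls_eq_cls_iff]; exact hM'N)
    refine ⟨u, fun i => ?_⟩
    rw [VertInter.inter_of_cls (X := Over.mk p) (Γ i) L hLi hM hM' u hu, h0 i, zero_add]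
    exact Finset.sum_congr rfl fun j _ => mul_comm _ _

end Groth.Agent.S3348
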