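import Groth.Statements.S3342
import Groth.Agent.S3348
import Groth.Agent.S19924
import Groth.Agent.S3320

set_option autoImplicit false
universe u
open CategoryTheory CategoryTheory.Limits AlgebraicGeometry
open Models

namespace Groth.Agent.S3342

attribute [local instance] Groth.Agent.PicLaw.law

/-- In the following situation (R a discrete valuation ring with residue field k, C a smooth proper
curve over its fraction field K with H^0(C, O_C) = K, X a regular proper model with generic-fibre
inclusion g, Γ_1, …, Γ_n the irreducible components of the closed fibre with multiplicities m_i, L_j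
⊗ I(Γ_j) ≅ O_X, a_ij = deg_k(L_j|Γ_i), w_i = dim_k H^0(Γ_i, O)) let d = gcd(m_i) and h ≥ 1 prime to
d. Let N be an invertible O_C-module with N^{⊗h} ≅ O_C which is the restriction of an invertible
O_X-module M whose degree vector (deg_k(M|Γ_i) / w_i)_i lies in the image of the matrix (a_ij / w_i)
(that is, the class of N maps to zero in the Picard group of the numerical type). Then N is the
restriction of an invertible O_X-module M' with M'^{⊗h} ≅ O_X. -/
theorem result (R : Type u) [CommRing R] [IsDomain R] [IsDiscreteValuationRing R]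
    (C X : Scheme.{u}) (f : C ⟶ Spec (CommRingCat.of (FractionRing R))) (p : X ⟶ Spec (CommRingCat.of R))
    (hC : Curve.IsSmoothProperCurve (FractionRing R) C f) (hH0 : IsIso f.appTop)
    (hX : Models.IsRegularProperModel R X p C f)
    {n : ℕ} (Γ : Fin n → ArSurf.VertComp R (Over.mk p)) (hΓ : Models.IsComponentList R (Over.mk p) Γ)
    (g : C ⟶ X) (hg : IsPullback g f p (Spec.map (CommRingCat.ofHom (algebraMap R (FractionRing R))))) (L : Fin n → X.Modules) (hL : ∀ i, ClSub.IsInverseOf (L i) (ClSub.idealMod (Γ i).ι.ker))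
    (h : ℕ) (hh : 0 < h) (hcop : Nat.Coprime h (Models.multGcd R (Over.mk p) Γ))
    (N : C.Modules) (hN : PicF.IsInvertible N) (hNt : Nonempty (CohB1.tensorPow N h ≅ Coh.structureModule C))
    (M : X.Modules) (hM : PicF.IsInvertible M) (hMN : Nonempty ((Scheme.Modules.pullback g).obj M ≅ N))
    (v : Fin n → ℤ)
    (hv : ∀ i, ArSurf.inter R (Over.mk p) M (Γ i) = ∑ j, ArSurf.inter R (Over.mk p) (L j) (Γ i) * v j) :
    ∃ M' : X.Modules, PicF.IsInvertible M' ∧ Nonempty (CohB1.tensorPow M' h ≅ Coh.structureModule X) ∧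
      Nonempty ((Scheme.Modules.pullback g).obj M' ≅ N) := by
  have hLi := VertInter.model_invertible hX hΓ L hL
  haveI : IsIntegral C := hC.2.2.1
  haveI : Flat p := hX.1.1
  haveI : IsProper p := hX.2.1
  haveI : IsProper (Over.mk p).hom := hX.2.1
  obtain ⟨M₀, hM₀, hM₀N, hdeg⟩ := (S3348.result R C X f p hC hH0 hX Γ hΓ g hg L hL N hN M hM hMN).mp ⟨v, hv⟩
  have hPow := AmpleLib.isInvertible_tensorPow hM₀ h
  have htriv : Nonempty ((Scheme.Modules.pullback g).obj (CohB1.tensorPow M₀ h) ≅ Coh.structureModule C) := by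
    refine (PicGrp.cls_eq_one_iff (PicLoc.isInvertible_pullback g hPow)).mp ?_
    rw [← VertInter.restr_cls g hPow, VertInter.cls_pow hM₀ h, map_pow, VertInter.restr_cls g hM₀,
      (PicGrp.cls_eq_cls_iff _ hN).mpr hM₀N, ← VertInter.cls_pow hN h]
    exact (PicGrp.cls_eq_one_iff _).mpr hNt
  obtain ⟨a, b, hab⟩ := S3315.result R C X f p hC hH0 hX Γ hΓ g hg L hL _ hPow htriv
  refine (S19924.result R C X f p hC hH0 hX Γ hΓ g hg L hL h hh N hN hNt M₀ hM₀ hM₀N a b hab).mpr ?_
  set d := Models.multGcd R (Over.mk p) Γ with hd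
  have hdi : ∀ i, ArSurf.inter R (Over.mk p) (FGA.multiTwist L a) (Γ i) =
      ArSurf.inter R (Over.mk p) (FGA.multiTwist L b) (Γ i) := fun i => by
    obtain ⟨ha, -⟩ := VertInter.exists_cls_multiTwist L hLi a
    have h1 := VertInter.inter_iso (X := Over.mk p) (Γ i) hab.some
    rw [VertInter.inter_tensor (X := Over.mk p) (Γ i) hPow ha,
      VertInter.inter_tensorPow (X := Over.mk p) (Γ i) hM₀, hdeg i, mul_zero, zero_add] at h1
    exact h1
  let w : Fin n → ℤ := fun i => (b i : ℤ) - (a i : ℤ)
  have hw0 : ∀ i, ∑ j, w j * ArSurf.inter R (Over.mk p) (L j) (Γ i) = 0 := fun i => by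
    have h1 := hdi i
    rw [VertInter.inter_multiTwist (X := Over.mk p) (Γ i) L hLi a,
      VertInter.inter_multiTwist (X := Over.mk p) (Γ i) L hLi b] at h1
    simp only [w, sub_mul, Finset.sum_sub_distrib]
    linarith
  have hconn : _root_.IsPreconnected (Models.specialFibreSet R (Over.mk p)) := by
    haveI : Flat (Over.mk p).hom := hX.1.1
    haveI := VertInter.preconnectedSpace_fiber (X := Over.mk p)
      (VertInter.toGlobal_bijective (X := Over.mk p) hg hH0).2
    have h1 := (isPreconnected_range ((Over.mk p).hom.fiberι (IsLocalRing.closedPoint R)).continuous)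
    have e := Scheme.Hom.range_fiberι (Over.mk p).hom (IsLocalRing.closedPoint R)
    rw [e] at h1
    exact h1
  obtain ⟨q, hq⟩ := (S3320.form p hX.2.2 Γ hΓ hconn L hL w).2.mp (by
    rw [Fintype.sum_prod_type]
    refine Finset.sum_eq_zero fun i _ => ?_
    calc ∑ j, w i * w j * ArSurf.inter R (Over.mk p) (L j) (Γ i)
        = w i * ∑ j, w j * ArSurf.inter R (Over.mk p) (L j) (Γ i) := by
          rw [Finset.mul_sum]; exact Finset.sum_congr rfl fun j _ => mul_assoc _ _ _
      _ = 0 := by rw [hw0 i, mul_zero])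
  -- `w = c • (m / d)`
  have hden : ∀ i, q.den ∣ Models.mult R (Over.mk p) (Γ i) := fun i => by
    have h1 : (q.den : ℤ) * w i = q.num * (Models.mult R (Over.mk p) (Γ i) : ℤ) := by
      have h2 : ((q.den : ℤ) * w i : ℚ) = (q.num * (Models.mult R (Over.mk p) (Γ i) : ℤ) : ℚ) := by
        push_cast
        rw [hq i, ← mul_assoc, Rat.den_mul_eq_num]
      exact_mod_cast h2
    have h3 : (q.den : ℤ) ∣ q.num * (Models.mult R (Over.mk p) (Γ i) : ℤ) := ⟨_, h1.symm⟩
    have h4 := Int.natCast_dvd.mp h3
    rw [Int.natAbs_mul, Int.natAbs_natCast] at h4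
    exact (q.reduced.symm).dvd_of_dvd_mul_left h4
  obtain ⟨t, ht⟩ : q.den ∣ d := Finset.dvd_gcd fun i _ => hden i
  have hbez := Nat.gcd_eq_gcd_ab h d
  rw [show Nat.gcd h d = 1 from hcop] at hbez
  have hwd : ∀ i, (d : ℤ) * w i = q.num * t * (Models.mult R (Over.mk p) (Γ i) : ℤ) := fun i => by
    have h2 : ((d : ℤ) * w i : ℚ) = (q.num * t * (Models.mult R (Over.mk p) (Γ i) : ℤ) : ℚ) := by
      rw [ht]; push_cast
      rw [hq i]
      linear_combination (t : ℚ) * (Models.mult R (Over.mk p) (Γ i) : ℚ) * Rat.den_mul_eq_num q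
    exact_mod_cast h2
  refine ⟨fun i => Nat.gcdA h d * w i, Nat.gcdB h d * (q.num * t), fun i => ?_⟩
  show w i = _
  push_cast at hbez
  linear_combination w i * hbez + Nat.gcdB h d * hwd i

end Groth.Agent.S3342
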