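import Groth.Statements.S3343
import Groth.Agent.S2223

set_option autoImplicit false
set_option linter.style.haveILetI false
set_option linter.unusedVariables false
set_option backward.isDefEq.respectTransparency false
set_option backward.isDefEq.respectTransparency.types false
universe u
open CategoryTheory CategoryTheory.Limits AlgebraicGeometry
open Models

noncomputable section

namespace Groth.Agent.S3343

open CategoryTheory.Limits
open Groth.Agent.UnitsThick Groth.Agent.LiftLib
open Groth.Agent.PicLaw (pullMul)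
open scoped Groth.Agent.PicLaw

attribute [local instance] VarBC.H0.topAlgebra in
open scoped TensorProduct in
/-- Units on a geometrically connected proper scheme over a field are constants times powers. -/
theorem decomp {k : Type u} [Field k] {Z : Scheme.{u}} (z : Z ⟶ Spec (CommRingCat.of k)) [IsProper z]
    [GeometricallyConnected z] [Nonempty Z] {q : ℕ} (hq : 1 ≤ q) (hqk : (q : k) ≠ 0) (u : Γ(Z, ⊤))
    (hu : IsUnit u) : ∃ (r : Γ(Z, ⊤)) (c : k), c ≠ 0 ∧ u = r ^ q * z.appTop ((Scheme.ΓSpecIso (CommRingCat.of k)).inv c) := by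
  let K := AlgebraicClosure k
  letI : Z.Over (Spec (CommRingCat.of k)) := ⟨z⟩
  haveI : IsProper (Z ↘ Spec (CommRingCat.of k)) := ‹IsProper z›
  haveI := CBC.GeomRedEtale.finite_top k Z
  haveI : ConnectedSpace ↥(pullback (Z ↘ Spec (CommRingCat.of k)) (FBase.BC.specMap k K)) :=
    pullback_of_geometrically (f := z) GeometricallyConnected.geometrically_connectedSpace _ _
  obtain ⟨x₀⟩ := ‹Nonempty Z›
  haveI : Nontrivial Γ(Z, ⊤) := @Scheme.component_nontrivial Z ⊤ ⟨⟨x₀, trivial⟩⟩
  obtain ⟨e, -⟩ := VarBC.H0.nonempty_tensorEquiv k Z K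
  let e' : K ⊗[k] Γ(Z, ⊤) ≃+* _ := (Algebra.TensorProduct.comm k K Γ(Z, ⊤)).toRingEquiv.trans e
  have hid : ∀ d : K ⊗[k] Γ(Z, ⊤), IsIdempotentElem d → d = 0 ∨ d = 1 :=
    fun d hd => (VarBC.H0.isIdempotentElem_eq (hd.map e')).imp
      (fun h => e'.injective (h.trans (map_zero e').symm)) (fun h => e'.injective (h.trans (map_one e').symm))
  exact KerDiv.exists_pow_mul_const hid hq hqk hu

/-- Restriction to a homeomorphic closed subscheme of a geometrically connected proper scheme over a
field kills no prime-to-characteristic torsion of the Picard group. -/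
theorem eq_one {k : Type u} [Field k] {Y Z : Scheme.{u}} (y : Y ⟶ Spec (CommRingCat.of k)) [IsProper y]
    [GeometricallyConnected y] [Nonempty Z] (ρ : Z ⟶ Y) [IsClosedImmersion ρ] [Surjective ρ] {q : ℕ}
    (hq : 1 ≤ q) (hqk : (q : k) ≠ 0) (x : PicLoc.PicSet Y)
    (hx : PicGrp.pullHom ρ (pullMul _) x = 1) (hxq : x ^ q = 1) : x = 1 := by
  haveI : GeometricallyConnected (ρ ≫ y) := by
    refine ⟨geometrically_iff_of_isClosedUnderIsomorphisms.mpr fun K _ t => ?_⟩
    haveI : ConnectedSpace ↥(pullback y t) :=
      pullback_of_geometrically (f := y) GeometricallyConnected.geometrically_connectedSpace _ _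
    let m := pullback.fst (pullback.fst y t) ρ
    haveI : IsClosedImmersion m := MorphismProperty.pullback_fst _ ρ inferInstance
    haveI : Surjective m := MorphismProperty.pullback_fst _ ρ inferInstance
    let e : ↥(pullback (pullback.fst y t) ρ) ≃ₜ ↥(pullback y t) :=
      m.isClosedEmbedding.isEmbedding.toHomeomorph.trans
        ((Homeomorph.setCongr (Set.range_eq_univ.2 m.surjective)).trans (Homeomorph.Set.univ _))
    haveI : ConnectedSpace ↥(pullback (pullback.fst y t) ρ) := e.symm.surjective.connectedSpace e.symm.continuous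
    exact ((pullbackSymmetry _ _ ≪≫ pullbackRightPullbackFstIso y t ρ).hom.homeomorph.connectedSpace_iff).1 ‹_›
  refine KerDiv.ker_torsion ρ q (fun W hW => ρ.app_surjective W hW) (fun W hW a ha => ?_) hq ?_ (pullMul _)
    (fun u hu => ?_) x hx hxq
  · rw [Scheme.isNilpotent_iff_basicOpen_eq_bot_of_isCompact hW.isCompact]
    rw [← TopologicalSpace.Opens.coe_inj]
    refine Set.eq_empty_of_forall_notMem fun w hw => ?_
    obtain ⟨z, rfl⟩ := ρ.surjective w
    have h1 : z ∈ ρ ⁻¹ᵁ (Y.basicOpen a) := hw
    rw [Scheme.preimage_basicOpen, ha, Scheme.basicOpen_zero] at h1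
    exact h1.elim
  · have := (Ne.isUnit hqk).map (Coh.toGlobal y)
    rwa [map_natCast] at this
  · obtain ⟨r, c, hc, hrc⟩ := decomp (ρ ≫ y) hq hqk u hu
    exact ⟨r, y.appTop ((Scheme.ΓSpecIso (CommRingCat.of k)).inv c), ((Ne.isUnit hc).map _).map _, hrc⟩


/-- Let R be a discrete valuation ring with fraction field K and residue field k, C a smooth proper
curve over K with H^0(C, O_C) = K and X a regular proper model of C. Let h ≥ 1 be an integer prime
to the characteristic of k and M an invertible O_X-module with M^{⊗h} ≅ O_X. If the pullback of M to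
the reduced closed fibre (X_k)_red is trivial, then M is trivial. -/
theorem result (R : Type u) [CommRing R] [IsDomain R] [IsDiscreteValuationRing R]
    (C X : Scheme.{u}) (f : C ⟶ Spec (CommRingCat.of (FractionRing R))) (p : X ⟶ Spec (CommRingCat.of R))
    (hC : Curve.IsSmoothProperCurve (FractionRing R) C f) (hH0 : IsIso f.appTop)
    (hX : Models.IsRegularProperModel R X p C f) (h : ℕ) (hh : 0 < h)
    (hchar : ∀ q : ℕ, q.Prime → CharP (IsLocalRing.ResidueField R) q → ¬ q ∣ h)
    (M : X.Modules) (hM : PicF.IsInvertible M)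
    (htors : Nonempty (CohB1.tensorPow M h ≅ Coh.structureModule X))
    (htriv : Nonempty ((Scheme.Modules.pullback (Models.redFibreIdeal R (Over.mk p)).subschemeι).obj M ≅
      Coh.structureModule (Models.redFibreIdeal R (Over.mk p)).subscheme)) :
    Nonempty (M ≅ Coh.structureModule X) := by
  haveI : Flat p := hX.1.1
  haveI : IsProper p := hX.2.1
  haveI : IsProper f := hC.1
  obtain ⟨g, hg⟩ := hX.1.2.2.2
  let j := Spec.map (CommRingCat.ofHom (algebraMap R (FractionRing R)))
  let b := Spec.map (CommRingCat.ofHom (algebraMap R (IsLocalRing.ResidueField R)))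
  have h0 : Function.Bijective (pullback.snd p j).appTop := by
    have : IsIso (pullback.snd p j).appTop := by
      haveI := hH0
      rw [← hg.isoPullback_inv_snd, Scheme.Hom.comp_appTop]
      infer_instance
    exact ConcreteCategory.bijective_of_isIso _
  haveI : GeometricallyConnected p :=
    Hens.SteinConnected.geometricallyConnected p (Hens.SteinDVR.bijective_app p h0)
  haveI : Surjective p := inferInstance
  have hhk : (h : IsLocalRing.ResidueField R) ≠ 0 := by
    intro h0
    obtain ⟨q, hq⟩ := CharP.exists (IsLocalRing.ResidueField R)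
    rcases CharP.char_is_prime_or_zero (IsLocalRing.ResidueField R) q with hp | rfl
    · exact hchar q hp hq ((CharP.cast_eq_zero_iff _ q h).1 h0)
    · haveI := CharP.charP_to_charZero (IsLocalRing.ResidueField R)
      exact hh.ne' (Nat.cast_eq_zero.1 h0)
  haveI : IsClosedImmersion b := IsClosedImmersion.spec_of_surjective _ IsLocalRing.residue_surjective
  haveI : IsProper (pullback.snd p b) := MorphismProperty.pullback_snd p b ‹_›
  haveI : GeometricallyConnected (pullback.snd p b) := MorphismProperty.pullback_snd p b ‹_›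
  let I : X.IdealSheafData := Models.redFibreIdeal R (Over.mk p)
  have hrange : Set.range (pullback.fst p b) = Models.specialFibreSet R (Over.mk p) := by
    rw [Scheme.Pullback.range_fst]
    show _ = p ⁻¹' {IsLocalRing.closedPoint R}
    congr 1
    refine Set.eq_singleton_iff_unique_mem.2 ⟨⟨(⊥ : PrimeSpectrum (IsLocalRing.ResidueField R)), ?_⟩, ?_⟩
    · exact PrimeSpectrum.ext (IsLocalRing.ker_residue (R := R))
    · rintro _ ⟨y, rfl⟩
      refine PrimeSpectrum.ext ?_
      show Ideal.comap (IsLocalRing.residue R) y.asIdeal = IsLocalRing.maximalIdeal R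
      rw [(Ideal.eq_bot_or_top y.asIdeal).resolve_right y.isPrime.ne_top]
      exact IsLocalRing.ker_residue
  have hle : (pullback.fst p b).ker ≤ I.subschemeι.ker := by
    rw [Scheme.IdealSheafData.ker_subschemeι]
    refine Scheme.IdealSheafData.le_support_iff_le_vanishingIdeal.1 fun x hx => ?_
    exact Scheme.Hom.range_subset_ker_support _ (hrange.ge hx)
  let ρ := IsClosedImmersion.lift (pullback.fst p b) I.subschemeι hle
  have hρ : ρ ≫ pullback.fst p b = I.subschemeι := IsClosedImmersion.lift_fac _ _ _
  haveI : IsClosedImmersion (ρ ≫ pullback.fst p b) := by rw [hρ]; infer_instance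
  haveI : IsClosedImmersion ρ := IsClosedImmersion.of_comp ρ (pullback.fst p b)
  haveI : Surjective ρ := ⟨fun y => by
    have hy : pullback.fst p b y ∈ (I.support : Set X) := by
      rw [show I = Scheme.IdealSheafData.vanishingIdeal (X := X) ⟨Models.specialFibreSet R (Over.mk p),
        Models.isClosed_specialFibreSet R (Over.mk p)⟩ from rfl,
        Scheme.IdealSheafData.coe_support_vanishingIdeal]
      exact hrange.le ⟨y, rfl⟩
    rw [← Scheme.IdealSheafData.range_subschemeι] at hy
    obtain ⟨z, hz⟩ := hy
    refine ⟨z, (pullback.fst p b).isClosedEmbedding.injective ?_⟩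
    rw [← hz, ← hρ]
    rfl⟩
  obtain ⟨y₀⟩ : Nonempty ↥(pullback p b) := by
    obtain ⟨x, hx⟩ := p.surjective (IsLocalRing.closedPoint R)
    obtain ⟨y, -⟩ := hrange.ge (show x ∈ Models.specialFibreSet R (Over.mk p) from hx)
    exact ⟨y⟩
  haveI : Nonempty ↥I.subscheme := ⟨(ρ.surjective y₀).choose⟩
  rw [← PicGrp.cls_eq_one_iff hM]
  obtain ⟨hMh, hpow⟩ := S2223.exists_cls_tensorPow hM h
  have hM1 : PicGrp.cls M hM ^ h = 1 := hpow ▸ (PicGrp.cls_eq_one_iff hMh).2 htors
  refine S2223.eq_one p hh hhk _ hM1 ?_
  refine eq_one (pullback.snd p b) ρ hh hhk _ ?_ (by rw [← map_pow, hM1, map_one])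
  rw [← PicLaw.pl_comp, PicLaw.pl_congr hρ]
  show PicGrp.pullHom I.subschemeι (pullMul _) (PicGrp.cls M hM) = 1
  rw [PicGrp.pullHom_cls, PicGrp.cls_eq_one_iff]
  exact htriv

end Groth.Agent.S3343
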