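import Groth.Statements.S3344
import Groth.Agent.VertInter.RatField
import Groth.Agent.S3324
import Mathlib.AlgebraicGeometry.ValuativeCriterion
-- import your own Groth.Agent.* helpers here

set_option autoImplicit false
universe u
open CategoryTheory CategoryTheory.Limits AlgebraicGeometry
open Models

namespace Groth.Agent.S3344

/-- In the following situation (R a discrete valuation ring with residue field k, C a smooth proper
curve over its fraction field K with H^0(C, O_C) = K, X a regular proper model, Γ_1, …, Γ_n the
irreducible components of the closed fibre X_k with multiplicities m_i) assume C has a K-rational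
point. Then (1) some closed point x of X on the closed fibre has residue field k (R → κ(x)
surjective) and the local ring of X_k at x, namely O_{X,x}/𝔪_R O_{X,x}, is regular (x is a smooth
point of X_k over k); (2) the component Γ_i through x has H^0(Γ_i, O) = k and m_i = 1; (3) H^0(X_k,
O_{X_k}) = k and dim_k H^1(X_k, O_{X_k}) = dim_K H^1(C, O_C) (k-dimensions as R-lengths of the
cohomology of O_{X_k} on X). -/
theorem result (R : Type u) [CommRing R] [IsDomain R] [IsDiscreteValuationRing R]
    (C X : Scheme.{u}) (f : C ⟶ Spec (CommRingCat.of (FractionRing R))) (p : X ⟶ Spec (CommRingCat.of R))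
    (hC : Curve.IsSmoothProperCurve (FractionRing R) C f) (hH0 : IsIso f.appTop)
    (hX : Models.IsRegularProperModel R X p C f)
    {n : ℕ} (Γ : Fin n → ArSurf.VertComp R (Over.mk p)) (hΓ : Models.IsComponentList R (Over.mk p) Γ)
    (s : Spec (CommRingCat.of (FractionRing R)) ⟶ C) (hs : s ≫ f = 𝟙 _) :
    (∃ (i : Fin n) (x : X), x ∈ Set.range ((Γ i).ι.base : (Γ i).curve.left → X) ∧ IsClosed ({x} : Set X) ∧
        Function.Surjective ((X.residue x).hom.comp (Models.stalkHom R (Over.mk p) x)) ∧
        IsRegularLocalRing (X.presheaf.stalk x ⧸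
          Ideal.map (Models.stalkHom R (Over.mk p) x) (IsLocalRing.maximalIdeal R)) ∧
        Models.wdeg R (Over.mk p) (Γ i) = 1 ∧ Models.mult R (Over.mk p) (Γ i) = 1) ∧
      Models.lengthH R (Over.mk p) (ClSub.quotMod (Models.specialFibreIdeal R (Over.mk p))) 0 = 1 ∧
      Models.lengthH R (Over.mk p) (ClSub.quotMod (Models.specialFibreIdeal R (Over.mk p))) 1 =
        Models.curveGenus (FractionRing R) C f := by
  haveI : Flat p := hX.1.1
  haveI : IsProper p := hX.2.1
  haveI : IsProper (Over.mk p).hom := hX.2.1
  haveI : Flat (Over.mk p).hom := hX.1.1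
  haveI : IsLocallyNoetherian (Over.mk p).left := LocallyOfFiniteType.isLocallyNoetherian p
  obtain ⟨g, hg⟩ := hX.1.2.2.2
  -- the section extending the rational point
  have hval : ValuativeCriterion.Existence p :=
    ((IsProper.eq_valuativeCriterion ▸ hX.2.1 :
      (ValuativeCriterion ⊓ @QuasiCompact ⊓ @QuasiSeparated ⊓ @LocallyOfFiniteType) p)).1.1.1.existence
  obtain ⟨σ, -, hσ⟩ := (hval { R := R, K := FractionRing R, i₁ := s ≫ g, i₂ := 𝟙 _,
                               commSq := ⟨by rw [Category.assoc, hg.w, ← Category.assoc, hs,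
                                 Category.id_comp, Category.comp_id]⟩ }).exists_lift.some
  replace hσ : (σ : Spec (CommRingCat.of R) ⟶ (Over.mk p).left) ≫ (Over.mk p).hom = 𝟙 _ := hσ
  set x := σ.base (IsLocalRing.closedPoint R) with hx
  obtain ⟨⟨i, hi, -⟩, hmult⟩ := VertInter.section_component (Over.mk p) σ hσ hX.2.2 Γ hΓ
  have hres := VertInter.section_residue_surjective (Over.mk p) σ hσ
  have hxi : x ∈ ((Γ i).ι.ker.support : Set (Over.mk p).left) := by
    rw [Scheme.Hom.support_ker, (Γ i).ι.isClosedEmbedding.isClosed_range.closure_eq]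
    exact hi
  have hclosed : IsClosed ({x} : Set X) := by
    haveI : IsClosedImmersion σ := by
      haveI : IsClosedImmersion (σ ≫ p) := by rw [show σ ≫ p = 𝟙 _ from hσ]; infer_instance
      exact IsClosedImmersion.of_comp σ p
    have := σ.isClosedEmbedding.isClosedMap _ (IsLocalRing.isClosed_singleton_closedPoint R)
    rw [hx]
    convert this using 1
    exact Set.image_singleton.symm
  obtain ⟨hc, heq⟩ := S3313.eq_prod p hX.1.1 inferInstance hX.2.2 Γ hΓ
  -- multiplicities are coprime
  have hd : Models.multGcd R (Over.mk p) Γ = 1 :=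
    Nat.dvd_one.mp ((hmult i hi) ▸ Finset.gcd_dvd (Finset.mem_univ i))
  obtain ⟨hF, hgen⟩ := S3324.result R C X f p hC hH0 hX Γ hΓ
  simp only [hd, Nat.div_one, Nat.cast_one, one_mul, ← heq] at hgen
  have hF' : IsField Γ((Models.specialFibreIdeal R (Over.mk p)).subscheme, ⊤) := by
    have e : (∏ i, (Γ i).ι.ker ^ (Models.mult R (Over.mk p) (Γ i) / Models.multGcd R (Over.mk p) Γ)) =
        Models.specialFibreIdeal R (Over.mk p) := by
      rw [heq]
      exact Finset.prod_congr rfl fun j _ => by rw [hd, Nat.div_one]
    exact e ▸ hF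
  have hxF : x ∈ ((Models.specialFibreIdeal R (Over.mk p)).support : Set (Over.mk p).left) := by
    refine Scheme.IdealSheafData.support_antitone ?_ hxi
    rw [heq, ← Finset.mul_prod_erase _ _ (Finset.mem_univ i), hmult i hi, pow_one]
    intro U
    rw [Scheme.IdealSheafData.ideal_mul, Pi.mul_apply]
    exact Ideal.mul_le.mpr fun a ha b _ => Ideal.mul_mem_right _ _ ha
  have h0 := VertInter.lengthH_zero_eq_one hF' hxF hres
  refine ⟨⟨i, x, hi, hclosed, hres, VertInter.section_regular_quotient (Over.mk p) σ hσ (hX.2.2 _),
    ?_, hmult i hi⟩, h0, ?_⟩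
  · rw [← VertInter.lengthH_ker (Γ i)]
    exact VertInter.lengthH_zero_eq_one
      (VertInter.isField_of_injective (Γ i) le_rfl (by
        rw [Scheme.IdealSheafData.inclusion_id]; exact fun _ _ h => h)) hxi hres
  · rw [h0] at hgen
    push_cast at hgen
    omega

end Groth.Agent.S3344
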