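import Groth.Statements.S3350
import Groth.Agent.NumType.SubApp

set_option autoImplicit false
open Finset
open Models Models.NumericalType

namespace Groth.Agent.S3350

/-- Classification of proper subgraphs with two vertices: Let T be a numerical type on n > 2 indices and
i ≠ j two (-2)-indices (g = 0 and a_ii = -2 w_i, a_jj = -2 w_j) with a_ij > 0. Then, after possibly
exchanging i and j, one of the following holds with w = w_i: (A2) w_j = w, a_ij = w, 2 m_i ≥ m_j and
2 m_j ≥ m_i; (B2) w_j = 2w, a_ij = 2w, m_i ≥ m_j and 2 m_j ≥ m_i; (G2) w_j = 3w, a_ij = 3w, 2 m_i ≥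
3 m_j and 2 m_j ≥ m_i. -/
theorem result {n : ℕ} (T : Models.NumericalType n) (hn : 2 < n) (i j : Fin n)
    (hij : i ≠ j) (hi : T.IsMinusTwo i) (hj : T.IsMinusTwo j) (hpos : 0 < T.a i j) :
    ∃ i' j' : Fin n, ((i' = i ∧ j' = j) ∨ (i' = j ∧ j' = i)) ∧
      ((T.w j' = T.w i' ∧ T.a i' j' = T.w i' ∧ T.m j' ≤ 2 * T.m i' ∧ T.m i' ≤ 2 * T.m j') ∨
        (T.w j' = 2 * T.w i' ∧ T.a i' j' = 2 * T.w i' ∧ T.m j' ≤ T.m i' ∧ T.m i' ≤ 2 * T.m j') ∨
        (T.w j' = 3 * T.w i' ∧ T.a i' j' = 3 * T.w i' ∧ 3 * T.m j' ≤ 2 * T.m i' ∧ T.m i' ≤ 2 * T.m j')) := by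
  have hP := NumType.P_le_three hi hj hpos hn
  have h1 := NumType.one_le_P T hpos
  have hpos' : 0 < T.a j i := NumType.a_symm T i j ▸ hpos
  have wj := T.w_pos j
  have wi := T.w_pos i
  rcases (show NumType.P T i j = 1 ∨ NumType.P T i j = 2 ∨ NumType.P T i j = 3 by omega) with h | h | h
  · obtain ⟨e, e'⟩ := NumType.P_eq_one T hpos h
    refine ⟨i, j, Or.inl ⟨rfl, rfl⟩, Or.inl ⟨e', e, ?_, ?_⟩⟩
    · simpa using NumType.m_ineq1 T hi (k := 1) hij.symm (by rw [e, one_mul])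
    · simpa using NumType.m_ineq1 T hj (k := 1) hij (by rw [NumType.a_symm, e, e', one_mul])
  · rcases NumType.P_eq_two T hpos h with ⟨-, -, e, e'⟩ | ⟨-, -, e, e'⟩
    · refine ⟨i, j, Or.inl ⟨rfl, rfl⟩, Or.inr (Or.inl ⟨e', e.trans e', ?_, ?_⟩)⟩
      · have := NumType.m_ineq1 T hi (k := 2) hij.symm (e.trans e')
        linarith
      · simpa using NumType.m_ineq1 T hj (k := 1) hij (by rw [NumType.a_symm, e, one_mul])
    · refine ⟨j, i, Or.inr ⟨rfl, rfl⟩, Or.inr (Or.inl ⟨e', by rw [NumType.a_symm, e, e'], ?_, ?_⟩)⟩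
      · have := NumType.m_ineq1 T hj (k := 2) hij (by rw [NumType.a_symm, e, e'])
        linarith
      · simpa using NumType.m_ineq1 T hi (k := 1) hij.symm (by rw [e, one_mul])
  · have c1 := NumType.one_le_c T hpos
    have c2 := NumType.one_le_c T hpos'
    unfold NumType.P at h
    have hb : NumType.c T i j ≤ 3 := by nlinarith
    have hA := NumType.w_mul_c T i j
    have hB := NumType.w_mul_c T j i
    rw [← NumType.a_symm T i j] at hB
    rcases (show NumType.c T i j = 1 ∨ NumType.c T i j = 2 ∨ NumType.c T i j = 3 by omega) with e | e | e <;>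
      rw [e] at h hA
    · rw [one_mul] at h
      rw [h] at hB
      refine ⟨j, i, Or.inr ⟨rfl, rfl⟩, Or.inr (Or.inr ⟨by linarith, by rw [NumType.a_symm]; linarith, ?_, ?_⟩)⟩
      · exact NumType.m_ineq1 T hj (k := 3) hij (by rw [NumType.a_symm]; linarith)
      · simpa using NumType.m_ineq1 T hi (k := 1) hij.symm (by linarith)
    · omega
    · have e' : NumType.c T j i = 1 := by omega
      rw [e'] at hB
      refine ⟨i, j, Or.inl ⟨rfl, rfl⟩, Or.inr (Or.inr ⟨by linarith, by linarith, ?_, ?_⟩)⟩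
      · exact NumType.m_ineq1 T hi (k := 3) hij.symm (by linarith)
      · simpa using NumType.m_ineq1 T hj (k := 1) hij (by rw [NumType.a_symm]; linarith)

end Groth.Agent.S3350
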