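import Groth.Statements.S3352
import Groth.Agent.NumType.Lattice

set_option autoImplicit false
open Models

namespace Groth.Agent.S3352

/-- Let L₀, L₁ be finite free ℤ-modules with positive definite symmetric integral bilinear forms, the
form on L₀ unimodular (x ↦ ⟨x, −⟩ is a bijection L₀ → Hom(L₀, ℤ)), and let d : L₀ → L₁ and d* : L₁ →
L₀ be adjoint. Identify Im(d)^# (the dual lattice of Im(d)) with Hom(Im(d), ℤ) through the form on
L₁. Then there is an isomorphism Φ from the torsion subgroup of Coker(d* d) onto Im(d)^#/Im(d),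
determined by: for x ∈ L₀ whose class is torsion, Φ[x] is the class of the functional d(y') ↦ ⟨x,
y'⟩ (equivalently the class of (1/a)·d(y) when a·x = d* d(y)). -/
theorem result {L₀ L₁ : Type} [AddCommGroup L₀] [AddCommGroup L₁]
    [Module.Finite ℤ L₀] [Module.Free ℤ L₀] [Module.Finite ℤ L₁] [Module.Free ℤ L₁]
    (B₀ : LinearMap.BilinForm ℤ L₀) (B₁ : LinearMap.BilinForm ℤ L₁) (h₀s : B₀.IsSymm) (h₁s : B₁.IsSymm)
    (h₀p : ∀ x, x ≠ 0 → 0 < B₀ x x) (h₁p : ∀ x, x ≠ 0 → 0 < B₁ x x) (huni : Function.Bijective B₀)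
    (d : L₀ →ₗ[ℤ] L₁) (ds : L₁ →ₗ[ℤ] L₀) (hadj : ∀ x y, B₁ (d x) y = B₀ x (ds y)) :
    ∃ Φ : ↥(Submodule.torsion ℤ (L₀ ⧸ LinearMap.range (ds ∘ₗ d))) ≃ₗ[ℤ]
        (Module.Dual ℤ ↥(LinearMap.range d) ⧸
          LinearMap.range ((B₁.compl₂ (LinearMap.range d).subtype) ∘ₗ (LinearMap.range d).subtype)),
      ∀ (x : L₀) (hx : Submodule.Quotient.mk x ∈ Submodule.torsion ℤ (L₀ ⧸ LinearMap.range (ds ∘ₗ d)))
        (ψ : Module.Dual ℤ ↥(LinearMap.range d)),
        (∀ y' : L₀, ψ ⟨d y', LinearMap.mem_range_self d y'⟩ = B₀ x y') →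
          Φ ⟨Submodule.Quotient.mk x, hx⟩ = Submodule.Quotient.mk ψ := by
  haveI : Module.Finite ℤ (LinearMap.range d) := Module.Finite.iff_fg.2 (IsNoetherian.noetherian _)
  haveI : Module.Free ℤ (LinearMap.range d) := Module.free_of_finite_type_torsion_free'
  set K := LinearMap.range (ds ∘ₗ d)
  set G := (B₁.compl₂ (LinearMap.range d).subtype) ∘ₗ (LinearMap.range d).subtype
  let U : Submodule ℤ L₀ := (Submodule.torsion ℤ (L₀ ⧸ K)).comap K.mkQ
  let π : U →ₗ[ℤ] Submodule.torsion ℤ (L₀ ⧸ K) := (K.mkQ ∘ₗ U.subtype).codRestrict _ fun u => u.2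
  have hπ : Function.Surjective π := by
    rintro ⟨q, hq⟩
    obtain ⟨x, rfl⟩ := K.mkQ_surjective q
    exact ⟨⟨x, hq⟩, rfl⟩
  have hG : ∀ z y', G ⟨d z, LinearMap.mem_range_self d z⟩ ⟨d y', LinearMap.mem_range_self d y'⟩ = B₀ (ds (d z)) y' :=
    fun z y' => by
      show B₁ (d z) (d y') = _
      rw [h₁s.eq, hadj, h₀s.eq]
  have hker : ∀ u : U, LinearMap.ker d ≤ LinearMap.ker (B₀ (u : L₀)) := fun u y hy => by
    obtain ⟨⟨a, ha⟩, hu⟩ := (Submodule.mem_torsion_iff _).1 u.2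
    have hu' : a • (u : L₀) ∈ K := (Submodule.Quotient.mk_eq_zero K).1 hu
    obtain ⟨z, hz⟩ := hu'
    rw [LinearMap.mem_ker] at hy ⊢
    refine (mul_eq_zero.1 ?_).resolve_left (mem_nonZeroDivisors_iff_ne_zero.1 ha)
    rw [← smul_eq_mul, ← LinearMap.smul_apply, ← map_smul, ← hz, LinearMap.comp_apply, h₀s.eq, ← hadj, hy]
    simp
  let ψ₀ : U → Module.Dual ℤ (LinearMap.range d) := fun u =>
    (Submodule.liftQ _ (B₀ (u : L₀)) (hker u)) ∘ₗ d.quotKerEquivRange.symm.toLinearMap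
  have hψ₀ : ∀ u y', ψ₀ u ⟨d y', LinearMap.mem_range_self d y'⟩ = B₀ (u : L₀) y' := fun u y' => by
    simp only [ψ₀, LinearMap.comp_apply, LinearEquiv.coe_coe]
    rw [LinearMap.quotKerEquivRange_symm_apply_image d y', Submodule.mkQ_apply, Submodule.liftQ_apply]
  have hext : ∀ {f g : Module.Dual ℤ (LinearMap.range d)},
      (∀ y', f ⟨d y', LinearMap.mem_range_self d y'⟩ = g ⟨d y', LinearMap.mem_range_self d y'⟩) → f = g := by
    intro f g h
    refine LinearMap.ext ?_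
    rintro ⟨_, y', rfl⟩
    exact h y'
  let ψ : U →ₗ[ℤ] (Module.Dual ℤ (LinearMap.range d) ⧸ LinearMap.range G) :=
    (LinearMap.range G).mkQ ∘ₗ
      { toFun := ψ₀
        map_add' := fun u v => hext fun y' => by simp [hψ₀]
        map_smul' := fun c u => hext fun y' => by simp [hψ₀] }
  have hψ : Function.Surjective ψ := by
    intro q
    obtain ⟨f, rfl⟩ := (LinearMap.range G).mkQ_surjective q
    obtain ⟨x, hx⟩ := huni.2 (f ∘ₗ d.rangeRestrict)
    obtain ⟨c, a, hc, ha⟩ := NumType.Lattice.exists_smul_eq G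
      (fun z hz => h₁p z.1 (fun e => hz (Subtype.ext e))) f
    obtain ⟨z, hz⟩ := a.2
    have hxU : x ∈ U := by
      refine (Submodule.mem_torsion_iff _).2 ⟨⟨c, mem_nonZeroDivisors_iff_ne_zero.2 hc⟩, ?_⟩
      refine (Submodule.Quotient.mk_eq_zero K).2 ⟨z, huni.1 (LinearMap.ext fun y' => ?_)⟩
      show B₀ (ds (d z)) y' = B₀ (c • x) y'
      rw [← hG, map_smul, hx, show (⟨d z, _⟩ : LinearMap.range d) = a from Subtype.ext hz, ha]
      rfl
    refine ⟨⟨x, hxU⟩, congrArg (LinearMap.range G).mkQ (hext fun y' => ?_)⟩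
    show ψ₀ ⟨x, hxU⟩ _ = _
    rw [hψ₀]
    exact LinearMap.congr_fun hx y'
  have hk : LinearMap.ker π = LinearMap.ker ψ := by
    ext u
    simp only [LinearMap.mem_ker]
    constructor
    · intro h
      obtain ⟨z, hz⟩ := (Submodule.Quotient.mk_eq_zero K).1 (congrArg Subtype.val h)
      refine (Submodule.Quotient.mk_eq_zero _).2 ⟨⟨d z, LinearMap.mem_range_self d z⟩, hext fun y' => ?_⟩
      rw [hG]
      show _ = ψ₀ u _
      rw [hψ₀, show (u : L₀) = (ds ∘ₗ d) z from hz.symm]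
      rfl
    · intro h
      obtain ⟨⟨_, z, rfl⟩, hz⟩ := (Submodule.Quotient.mk_eq_zero _).1 h
      refine Subtype.ext ((Submodule.Quotient.mk_eq_zero K).2 ⟨z, huni.1 (LinearMap.ext fun y' => ?_)⟩)
      show B₀ (ds (d z)) y' = B₀ (u : L₀) y'
      rw [← hG, hz]
      exact hψ₀ u y'
  refine ⟨(π.quotKerEquivOfSurjective hπ).symm.trans ((Submodule.quotEquivOfEq _ _ hk).trans
    (ψ.quotKerEquivOfSurjective hψ)), fun x hx f hf => ?_⟩
  have : (π.quotKerEquivOfSurjective hπ).symm ⟨Submodule.Quotient.mk x, hx⟩ = Submodule.Quotient.mk ⟨x, hx⟩ := by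
    rw [LinearEquiv.symm_apply_eq, LinearMap.quotKerEquivOfSurjective_apply_mk]
    rfl
  simp only [LinearEquiv.trans_apply, this, Submodule.quotEquivOfEq_mk, LinearMap.quotKerEquivOfSurjective_apply_mk]
  refine congrArg (LinearMap.range G).mkQ (hext fun y' => ?_)
  show ψ₀ ⟨x, hx⟩ _ = _
  rw [hψ₀, hf]

end Groth.Agent.S3352
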