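import Groth.Statements.S3353
import Groth.Agent.ParaFormal.CI

set_option autoImplicit false
universe u
open AlgebraicGeometry
open ParaF

namespace Groth.Agent.S3353

/-- Let A be a Noetherian local ring of Krull dimension at least 4 which is a complete intersection: A
is isomorphic to the quotient of a regular local ring by an ideal generated by a regular sequence
contained in the maximal ideal. Then A is parafactorial: for every open V of Spec A, restriction of
invertible modules from V to V minus the closed point is fully faithful and essentially surjective. -/
theorem result (A : Type u) [CommRing A] [IsLocalRing A] [IsNoetherianRing A] (hA : SGA2.IsAbsCompleteIntersection A) (hdim : (4 : WithBot ℕ∞) ≤ ringKrullDim A) : ParaF.IsParafactorialLocalRing A := by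
  obtain ⟨B, _, _, rs, hmem, hreg, ⟨e⟩⟩ := hA
  refine Groth.Agent.ParaFormal.CI.parafactorial rs.length
    (e.symm.toRingHom.comp (Ideal.Quotient.mk (Ideal.span {r | r ∈ rs}))) rs
    ⟨e.symm.surjective.comp Ideal.Quotient.mk_surjective, rfl, hmem, hreg.toIsWeaklyRegular, ?_⟩ hdim
  ext x
  simp [RingHom.mem_ker, Ideal.Quotient.eq_zero_iff_mem, Ideal.ofList]

end Groth.Agent.S3353
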