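import Groth.Statements.S3354
import Groth.Agent.ParaFormal.Hypersurface
import Groth.Agent.ParaFLib.PicUFD

set_option autoImplicit false
universe u
open CategoryTheory CategoryTheory.Limits AlgebraicGeometry
open ParaF

namespace Groth.Agent.S3354

/-- Let A be a Noetherian local ring which is a quotient of a regular local ring, t an A-regular element
of the maximal ideal such that A is complete for the t-adic topology, X the punctured spectrum of A
and Y = V(t) ∩ X (the punctured spectrum of B = A/tA, as the closed subscheme of X cut out by t).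
Assume (a) A_p has depth ≥ 2 for every prime p with dim A/p = 1 (the closed points of X) and (b) B
has depth ≥ 3. Then the map Pic(X) → Pic(Y) has trivial kernel: an invertible O_X-module whose
pull-back to Y is trivial is trivial. In particular, if B is parafactorial then A is parafactorial. -/
theorem result (R : Type u) [CommRing R] [IsRegularLocalRing R] (A : Type u) [CommRing A] [IsLocalRing A] [IsNoetherianRing A] (π : R →+* A) (hπ : Function.Surjective π) (t : A) (ht : t ∈ IsLocalRing.maximalIdeal A) (hreg : IsSMulRegular A t) [IsAdicComplete (Ideal.span {t}) A] (ha : ∀ p : PrimeSpectrum A, ringKrullDim (A ⧸ p.asIdeal) = 1 → (2 : ℕ∞) ≤ LocCoh.depth (Localization.AtPrime p.asIdeal) (Localization.AtPrime p.asIdeal)) [IsLocalRing (A ⧸ Ideal.span {t})] (hb : (3 : ℕ∞) ≤ LocCoh.depth (A ⧸ Ideal.span {t}) (A ⧸ Ideal.span {t})) : Formal2.PicPullbackInjective (((Spec.map (CommRingCat.ofHom (Ideal.Quotient.mk (Ideal.span {t})))).ker.comap (FEt.puncturedSpec A).ι)).subschemeι ∧ (ParaF.IsParafactorialLocalRing (A ⧸ Ideal.span {t}) → ParaF.IsParafactorialLocalRing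 A) := by
  obtain ⟨G, hG⟩ := Groth.Agent.ParaFormal.exists_grData_singleton hreg
  have hJ : Ideal.span {t} ≠ ⊤ := Ideal.Quotient.nontrivial_iff.1 inferInstance
  refine ⟨fun L hL hY => ?_, fun hB => ?_⟩
  · obtain ⟨σ, hσ⟩ := Groth.Agent.ParaFormal.exists_isGen_of_pullback_comap _ L hY
    obtain ⟨φ⟩ := Groth.Agent.ParaFormal.nonempty_iso_of_triv_quotient _ hJ G hG hb
      ((Scheme.Modules.pushforward (FEt.puncturedSpec A).ι).obj L)
      (Groth.Agent.PicCl.isInvertible_of_iso
        (Groth.Agent.ParaFLib.restrictPushforwardIso (FEt.puncturedSpec A).ι L).symm hL) _ rfl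
      fun O hle hcov e he => Groth.Agent.ParaFormal.triv_pull_of_isGen _ rfl O hle hcov e he σ hσ
    exact ⟨(Groth.Agent.ParaFLib.restrictPushforwardIso (FEt.puncturedSpec A).ι L).symm ≪≫ φ⟩
  · rw [Groth.Agent.ParaFLib.parafactorial_iff] at hB ⊢
    exact ⟨Groth.Agent.ParaFLib.PicUFD.bijective_punctured _
      (le_trans (by exact_mod_cast (by norm_num : (2 : ℕ) ≤ 3))
        (Groth.Agent.ParaFormal.three_le_depth_of_quotient _ hJ G hG hb)),
      Groth.Agent.ParaFormal.picTrivial_of_quotient _ hJ G hG hb hB.2⟩

end Groth.Agent.S3354
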