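import Groth.Statements.S3355
import Groth.Agent.ParaFormal.Surjective
import Groth.Agent.S3354

set_option autoImplicit false
universe u
open CategoryTheory CategoryTheory.Limits AlgebraicGeometry
open ParaF

namespace Groth.Agent.S3355

set_option backward.isDefEq.respectTransparency.types false
set_option maxHeartbeats 800000

open Groth.Agent.ParaFormal Groth.Agent.ParaFLib

/-- Let A be a Noetherian local ring which is a quotient of a regular local ring, t an A-regular element
of the maximal ideal with A complete for the t-adic topology, X the punctured spectrum of A and Y =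
V(t) ∩ X, and assume (a) depth A_p ≥ 2 for every prime p with dim A/p = 1. Assume moreover (c) depth
A_p ≥ 3 for every prime p containing t with dim A/p = 1 (the closed points of Y), (d) depth A/tA ≥
4, and (e) A_p is parafactorial for every prime p not containing t with dim A/p = 1, i.e. at the
closed points of X outside Y (the published statement places this hypothesis at the points of Y;
here it is taken at the closed points of X outside Y; the letters (a), (c), (d), (e) match the names
of the hypotheses in the Lean statement). Then pull-back along Y → X induces a bijection Pic(X) →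
Pic(Y) (trivial kernel and every invertible O_Y-module comes from an invertible O_X-module); in
particular A is parafactorial if and only if A/tA is. -/
theorem result (R : Type u) [CommRing R] [IsRegularLocalRing R] (A : Type u) [CommRing A] [IsLocalRing A] [IsNoetherianRing A] (π : R →+* A) (hπ : Function.Surjective π) (t : A) (ht : t ∈ IsLocalRing.maximalIdeal A) (hreg : IsSMulRegular A t) [IsAdicComplete (Ideal.span {t}) A] (ha : ∀ p : PrimeSpectrum A, ringKrullDim (A ⧸ p.asIdeal) = 1 → (2 : ℕ∞) ≤ LocCoh.depth (Localization.AtPrime p.asIdeal) (Localization.AtPrime p.asIdeal)) (hc : ∀ p : PrimeSpectrum A, t ∈ p.asIdeal → ringKrullDim (A ⧸ p.asIdeal) = 1 → (3 : ℕ∞) ≤ LocCoh.depth (Localization.AtPrime p.asIdeal) (Localization.AtPrime p.asIdeal)) [IsLocalRing (A ⧸ Ideal.span {t})] (hd : (4 : ℕ∞) ≤ LocCoh.depth (A ⧸ Ideal.span {t}) (A ⧸ Ideal.span {t})) (he : ∀ p : PrimeSpectrum A, t ∉ p.asIdeal → ringKrullDim (A ⧸ p.asIdeal) = 1 → ParaF.IsParafactorialLocalRing (Localization.AtPrime p.asIdeal)) : (Formal2.PicPullbackInjective (((Spec.map (CommRingCat.ofHom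 (Ideal.Quotient.mk (Ideal.span {t})))).ker.comap (FEt.puncturedSpec A).ι)).subschemeι ∧ Formal2.PicPullbackSurjective (((Spec.map (CommRingCat.ofHom (Ideal.Quotient.mk (Ideal.span {t})))).ker.comap (FEt.puncturedSpec A).ι)).subschemeι) ∧ (ParaF.IsParafactorialLocalRing A ↔ ParaF.IsParafactorialLocalRing (A ⧸ Ideal.span {t})) := by
  have hd3 : (3 : ℕ∞) ≤ LocCoh.depth (A ⧸ Ideal.span {t}) (A ⧸ Ideal.span {t}) :=
    le_trans (by exact_mod_cast (by norm_num : (3 : ℕ) ≤ 4)) hd
  obtain ⟨hinj, hBA⟩ := Groth.Agent.S3354.result R A π hπ t ht hreg ha hd3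
  refine ⟨⟨hinj, fun L' hL' => ?_⟩, fun hA => ?_, hBA⟩
  · let q := Spec.map (CommRingCat.ofHom (Ideal.Quotient.mk (Ideal.span {t})))
    let U := FEt.puncturedSpec A
    let P := q ⁻¹ᵁ U
    haveI : IsClosedImmersion q := IsClosedImmersion.spec_of_surjective _ Ideal.Quotient.mk_surjective
    have H : IsPullback (q ∣_ U) (P.ι ≫ q.toImage) U.ι q.ker.subschemeι :=
      (isPullback_morphismRestrict q U).of_iso (Iso.refl _) (Iso.refl _) (asIso q.toImage) (Iso.refl _)
        (by simp) (by simp [P]) (by simp) (by simp [show q.toImage ≫ q.ker.subschemeι = q from q.toImage_imageι])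
    let h : (P : Scheme.{u}) ⟶ (q.ker.comap U.ι).subscheme := H.isoPullback.hom ≫ (q.ker.comapIso U.ι).inv
    have hh : h ≫ (q.ker.comap U.ι).subschemeι = q.resLE U P le_rfl := by
      rw [Category.assoc, Scheme.IdealSheafData.comapIso_inv_subschemeι, H.isoPullback_hom_fst,
        Scheme.Hom.resLE_eq_morphismRestrict]
    haveI : IsIso h := by simp only [h]; infer_instance
    let L'' := L'.restrict h
    let M' := (Scheme.Modules.pushforward P.ι).obj L''
    have hP : P = FEt.puncturedSpec (A ⧸ Ideal.span {t}) :=
      preimage_punctured _ Ideal.Quotient.mk_surjective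
    obtain ⟨M, hM, ⟨φ⟩⟩ := exists_lift_module_of_eq t ht hreg hd he P hP M'
      (Groth.Agent.PicCl.isInvertible_of_iso (restrictPushforwardIso P.ι L'').symm
        (isInvertible_restrict h hL'))
    let ι := (q.ker.comap U.ι).subschemeι
    let L := M.restrict U.ι
    let N := (Scheme.Modules.pullback ι).obj L
    let ψ : N.restrict h ≅ L'.restrict h :=
      (Scheme.Modules.restrictFunctorIsoPullback h).app N ≪≫ (Scheme.Modules.pullbackComp h ι).app L ≪≫
        (Scheme.Modules.pullbackCongr hh).app L ≪≫ (pullbackRestrictIso q U P le_rfl M).symm ≪≫ φ ≪≫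
        restrictPushforwardIso P.ι L''
    exact ⟨L, hM, ⟨Scheme.Modules.restrictFunctorId.symm.app N ≪≫
      (Scheme.Modules.restrictFunctorCongr (IsIso.inv_hom_id h).symm).app N ≪≫
      (Scheme.Modules.restrictFunctorComp (inv h) h).app N ≪≫
      (Scheme.Modules.restrictFunctor (inv h)).mapIso ψ ≪≫
      ((Scheme.Modules.restrictFunctorComp (inv h) h).app L').symm ≪≫
      (Scheme.Modules.restrictFunctorCongr (IsIso.inv_hom_id h)).app L' ≪≫
      Scheme.Modules.restrictFunctorId.app L'⟩⟩
  · rw [parafactorial_iff] at hA ⊢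
    exact ⟨PicUFD.bijective_punctured _ (le_trans (by exact_mod_cast (by norm_num : (2 : ℕ) ≤ 3)) hd3),
      picTrivial_quotient t ht hreg hd he hA.2⟩

end Groth.Agent.S3355
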