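import Groth.Statements.S3358
import Groth.Agent.LefPic.Main

set_option autoImplicit false
universe u
open CategoryTheory CategoryTheory.Limits AlgebraicGeometry
open LefX

namespace Groth.Agent.S3358

/-- Let X be a locally Noetherian scheme, 𝓘 a quasi-coherent ideal with Y = V(𝓘), Y_n the closed
subscheme defined by 𝓘^(n+1) with its closed immersion ι_n into X, and p ≥ 0. Assume Leff(X, Y) and
H^i(X, 𝓘^(n+1)/𝓘^(n+2)) = 0 for i = 1, 2 and all n ≥ p. Then for n ≥ p the map colim_U Pic(U) →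
Pic(Y_n), U running over the open neighbourhoods of Y, is bijective: every invertible O_{Y_n}-module
is the pull-back of an invertible module on some open U ⊇ Y along the factorisation of ι_n through
U, and an invertible module on an open U ⊇ Y whose pull-back to Y_n is trivial becomes trivial on
some smaller open neighbourhood of Y. -/
theorem result (X : Scheme.{u}) [IsLocallyNoetherian X] (𝓘 : X.IdealSheafData) (p : ℕ) (h1 : LefX.LeffCond X 𝓘) (h2 : (∀ n : ℕ, p ≤ n → ∀ i : ℕ, (i = 1 ∨ i = 2) → Subsingleton (Coh.HH X (kernel (Lef.quotMap (Lef.pow_succ_le 𝓘 n))) i))) (n : ℕ) (hn : p ≤ n) : (∀ N : ((𝓘 ^ (n + 1)).subscheme).Modules, PicF.IsInvertible N → ∃ (U : X.Opens) (L : (U : Scheme.{u}).Modules) (g : (𝓘 ^ (n + 1)).subscheme ⟶ U), (𝓘.support : Set X) ⊆ (U : Set X) ∧ g ≫ U.ι = (𝓘 ^ (n + 1)).subschemeι ∧ PicF.IsInvertible L ∧ Nonempty ((Scheme.Modules.pullback g).obj L ≅ N)) ∧ (∀ (U : X.Opens) (L : (U : Scheme.{u}).Modules) (g : (𝓘 ^ (n + 1)).subscheme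 ⟶ U), (𝓘.support : Set X) ⊆ (U : Set X) → g ≫ U.ι = (𝓘 ^ (n + 1)).subschemeι → PicF.IsInvertible L → Nonempty ((Scheme.Modules.pullback g).obj L ≅ Coh.structureModule _) → ∃ (V : X.Opens) (hVU : V ≤ U), (𝓘.support : Set X) ⊆ (V : Set X) ∧ Nonempty ((Scheme.Modules.pullback (X.homOfLE hVU)).obj L ≅ Coh.structureModule _)) := by
  constructor
  · intro N hN
    open scoped Groth.Agent.PicLaw in
    obtain ⟨V, hV, d, hd⟩ := Groth.Agent.LefPic.exists_algebraization 𝓘 h1 p
      (fun k hk => h2 k hk 2 (Or.inr rfl)) n hn (PicGrp.cls N hN)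
    obtain ⟨g, hg⟩ := Groth.Agent.LefPic.exists_toNhd 𝓘 V hV n
    obtain ⟨L, hL, rfl⟩ := Groth.Agent.PicLaw.exists_cls_eq d
    exact ⟨V, L, g, hV, hg, hL, (Groth.Agent.PicLaw.iso_iff (PicLoc.isInvertible_pullback g hL) hN).2
      ((Groth.Agent.PicLaw.cls_pullback g hL).trans (hd g hg))⟩
  · intro U L g hU hg hL e
    refine ⟨U, le_rfl, hU, ?_⟩
    obtain ⟨q, -, hq⟩ := Groth.Agent.LefPic.exists_compare 𝓘 U hU n g hg
    open scoped Groth.Agent.PicLaw in
    have hc : Groth.Agent.PicLaw.pl ((𝓘.comap U.ι) ^ (n + 1)).subschemeι (PicGrp.cls L hL) = 1 := by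
      rw [← Groth.Agent.PicLaw.pl_congr hq, Groth.Agent.PicLaw.pl_comp, ← Groth.Agent.PicLaw.cls_pullback g hL,
        (Groth.Agent.PicLaw.iso_iff (PicLoc.isInvertible_pullback g hL)
          (PicLoc.isInvertible_structureModule _)).1 e, Groth.Agent.PicLaw.cls_one, map_one]
    open scoped Groth.Agent.PicLaw in
    exact (Groth.Agent.PicLaw.iso_iff (PicLoc.isInvertible_pullback _ hL) (PicLoc.isInvertible_structureModule _)).2 (by
      rw [Groth.Agent.PicLaw.cls_pullback _ hL, Groth.Agent.LefPic.eq_one_of_thick 𝓘 h1.1 p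
        (fun k hk => h2 k hk 1 (Or.inl rfl)) U hU n hn _ hc, map_one, Groth.Agent.PicLaw.cls_one])

end Groth.Agent.S3358
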