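import Groth.Statements.S3362
import Groth.Agent.PunctTop.Basic
import Groth.Agent.S11670
import Groth.Agent.S9125
import Groth.Agent.EGA4Lib.CompleteExcellent
import Groth.Agent.EGA4Lib.EquidimFlat

set_option autoImplicit false
universe u
open CategoryTheory CategoryTheory.Limits AlgebraicGeometry TopologicalSpace
open LefX

namespace Groth.Agent.S3362

section
open Groth.Agent

variable (A : Type u) [CommRing A] [IsNoetherianRing A] [IsLocalRing A]
  [IsAdicComplete (IsLocalRing.maximalIdeal A) A]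

lemma add_one_le_cancel {a : WithBot ℕ∞} {m n : ℕ} (h : ((n : ℕ) : WithBot ℕ∞) ≤ a + (m : WithBot ℕ∞) + 1) :
    ((n - m - 1 : ℕ) : WithBot ℕ∞) ≤ a ∧ a ≠ ⊥ := by
  induction a with
  | bot => simp at h
  | coe a =>
    refine ⟨?_, WithBot.coe_ne_bot⟩
    induction a with
    | top => exact WithBot.coe_le_coe.mpr le_top
    | coe a =>
      have h' : n ≤ a + m + 1 := by exact_mod_cast h
      exact WithBot.coe_le_coe.mpr (ENat.coe_le_coe.mpr (by omega : n - m - 1 ≤ a))

/-- Quotients by minimal primes over an ideal with `m` generators lose at most `m` dimensions. -/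
lemma le_ringKrullDim_quotient (p q : Ideal A) [p.IsPrime] (hpq : p ≤ q) {m : ℕ} (f : Fin m → A)
    (hq : q ∈ (Ideal.span (Set.range f)).minimalPrimes) {n : ℕ}
    (hn : ((n + m : ℕ) : WithBot ℕ∞) ≤ ringKrullDim (A ⧸ p)) :
    ((n : ℕ) : WithBot ℕ∞) ≤ ringKrullDim (A ⧸ q) := by
  classical
  have : q.IsPrime := hq.1.1
  have hcat : CAlg.IsCatenary (A ⧸ p) := S9125.result A p
    ((EGA4Lib.isExcellent_of_isAdicComplete A).2.1.2 A inferInstance)
  have : IsLocalRing (A ⧸ p) := IsLocalRing.of_surjective' _ Ideal.Quotient.mk_surjective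
  have heq : EGA4.IsEquidim (A ⧸ p) := fun r hr => by
    rw [IsDomain.minimalPrimes_eq_singleton_bot, Set.mem_singleton_iff] at hr
    subst hr
    exact ringKrullDim_eq_of_ringEquiv (RingEquiv.quotientBot _)
  have hprime : (q.map (Ideal.Quotient.mk p)).IsPrime :=
    Ideal.map_isPrime_of_surjective Ideal.Quotient.mk_surjective (by simpa using hpq)
  have hcomap : (q.map (Ideal.Quotient.mk p)).comap (Ideal.Quotient.mk p) = q := by
    rw [Ideal.comap_map_of_surjective _ Ideal.Quotient.mk_surjective, ← RingHom.ker_eq_comap_bot,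
      Ideal.mk_ker, sup_eq_left.mpr hpq]
  have hmin : q.map (Ideal.Quotient.mk p) ∈
      (Ideal.span ((Finset.univ.image fun i => Ideal.Quotient.mk p (f i)) : Set (A ⧸ p))).minimalPrimes := by
    rw [Finset.coe_image, Finset.coe_univ, Set.image_univ, Set.range_comp' (Ideal.Quotient.mk p) f, ← Ideal.map_span]
    refine ⟨⟨hprime, Ideal.map_mono hq.1.2⟩, fun r ⟨hr, hfr⟩ hle => ?_⟩
    have h1 : q ≤ r.comap (Ideal.Quotient.mk p) :=
      hq.2 ⟨hr.comap _, Ideal.map_le_iff_le_comap.mp hfr⟩ ((Ideal.comap_mono hle).trans hcomap.le)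
    exact Ideal.map_le_iff_le_comap.mpr h1
  have hht : (q.map (Ideal.Quotient.mk p)).height ≤ (m : ℕ∞) :=
    (Ideal.height_le_card_of_mem_minimalPrimes_span_finset hmin).trans
      (by exact_mod_cast Finset.card_image_le.trans (Finset.card_fin m).le)
  have h := EGA4Lib.height_add_ringKrullDim_quotient hcat heq (q.map (Ideal.Quotient.mk p))
  have he : ringKrullDim ((A ⧸ p) ⧸ q.map (Ideal.Quotient.mk p)) = ringKrullDim (A ⧸ q) :=
    ringKrullDim_eq_of_ringEquiv (DoubleQuot.quotQuotEquivQuotOfLE hpq)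
  rw [he] at h
  rw [← h] at hn
  obtain ⟨d, hd⟩ := LocCohSweep.HLVTConn.exists_dim_eq (R := A) (Ideal.IsPrime.ne_top ‹q.IsPrime›)
  obtain ⟨c, hc⟩ := EGA4Lib.exists_nat_height (q.map (Ideal.Quotient.mk p))
  rw [hc] at hn hht
  rw [hd] at hn ⊢
  norm_cast at hn hht ⊢
  omega

end

/-- Let A be a complete Noetherian local ring, X' the punctured spectrum of A and k ≥ 1. Assume (a_k)
every irreducible component of X' has dimension ≥ k + 1, and (b_k) X' is connected in dimension ≥ k,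
i.e. X' minus any closed subset of dimension < k is connected. Let 0 ≤ m ≤ k and let f_1, …, f_m be
elements of the maximal ideal, B = A/(f_1, …, f_m), Y' the punctured spectrum of B. Then Y'
satisfies (a_{k−m}) and (b_{k−m}); in particular Y' is connected. -/
theorem result (A : Type u) [CommRing A] [IsNoetherianRing A] [IsLocalRing A] [IsAdicComplete (IsLocalRing.maximalIdeal A) A] (k : ℕ) (hk : 1 ≤ k) (ha : ∀ Z ∈ irreducibleComponents ↥(FEt.puncturedSpec A), ((k + 1 : ℕ) : WithBot ℕ∞) ≤ topologicalKrullDim ↥Z) (hb : LefX.ConnectedInDim ↥(FEt.puncturedSpec A) k) (m : ℕ) (hm : m ≤ k) (f : Fin m → A) (hf : ∀ i, f i ∈ IsLocalRing.maximalIdeal A) [IsLocalRing (A ⧸ Ideal.span (Set.range f))] : (∀ Z ∈ irreducibleComponents ↥(FEt.puncturedSpec (A ⧸ Ideal.span (Set.range f))), ((k - m + 1 : ℕ) : WithBot ℕ∞) ≤ topologicalKrullDim ↥Z) ∧ LefX.ConnectedInDim ↥(FEt.puncturedSpec (A ⧸ Ideal.span (Set.range f))) (k - m) := by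
  classical
  set J := Ideal.span (Set.range f) with hJ
  have hJtop : J ≠ ⊤ := ne_top_of_le_ne_top (IsLocalRing.maximalIdeal.isMaximal A).ne_top
    (Ideal.span_le.mpr (Set.range_subset_iff.mpr hf))
  have hb' := (PunctTop.connectedInDim_iff A k).mp hb
  have hneP : ∃ x : PrimeSpectrum A, x.asIdeal ≠ IsLocalRing.maximalIdeal A := by
    have h := hb ∅ isClosed_empty (by
      rw [show topologicalKrullDim ↥(∅ : Set ↥(FEt.puncturedSpec A)) = ⊥ from
        Order.krullDim_eq_bot_iff.mpr ⟨fun s => s.2.1.ne_empty (Set.eq_empty_of_isEmpty _)⟩]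
      exact WithBot.bot_lt_coe _)
    obtain ⟨⟨x, hx⟩, -⟩ := h.nonempty
    exact ⟨x, (PunctTop.mem_P A).mp hx⟩
  have hpm : ∀ p ∈ minimalPrimes A, p ≠ IsLocalRing.maximalIdeal A := fun p hp e => by
    obtain ⟨x, hx⟩ := hneP
    subst e
    exact hx ((IsLocalRing.le_maximalIdeal x.2.ne_top).antisymm
      (hp.2 ⟨x.2, bot_le⟩ (IsLocalRing.le_maximalIdeal x.2.ne_top)))
  have hdimA : ∀ p ∈ minimalPrimes A, ((k + 2 : ℕ) : WithBot ℕ∞) ≤ ringKrullDim (A ⧸ p) := fun p hp => by
    have hne : p ≤ IsLocalRing.maximalIdeal A := IsLocalRing.le_maximalIdeal hp.1.1.ne_top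
    have h := ha _ ((PunctTop.mem_components_iff A (PunctTop.W A p)).mpr ⟨p, hp, hpm p hp, rfl⟩)
    rcases PunctTop.exists_dim_W A hne with ⟨-, h1, -⟩ | ⟨d, h1, h2⟩
    · have : ((k + 1 : ℕ) : WithBot ℕ∞) ≤ ⊥ := h1 ▸ h
      exact absurd this (WithBot.bot_lt_coe _).not_ge
    · have : ((k + 1 : ℕ) : WithBot ℕ∞) ≤ (d : WithBot ℕ∞) := h1 ▸ h
      rw [h2]; norm_cast at this ⊢; omega
  have hsub : ((k + 2 : ℕ) : WithBot ℕ∞) ≤ LocCoh.subdim (PrimeSpectrum A) := by
    refine le_iInf₂ fun Z hZ => ?_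
    rw [← PrimeSpectrum.zeroLocus_minimalPrimes] at hZ
    obtain ⟨p, hp, rfl⟩ := hZ
    exact (hdimA p hp).trans (LocCohSweep.HLVTConn.dim_zeroLocus p).ge
  have hmin := S11670.result A J hJtop (Finset.univ.image f) (by simp [hJ])
  have hc1 : ((k + 2 : ℕ) : WithBot ℕ∞) ≤
      LocCoh.connDim (PrimeSpectrum (A ⧸ J)) + (m : WithBot ℕ∞) + 1 := by
    refine (le_min ?_ hsub).trans (hmin.trans ?_)
    · refine le_trans (le_of_eq ?_) (add_le_add hb' le_rfl)
      norm_cast
    · gcongr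
      exact_mod_cast Finset.card_image_le.trans (Finset.card_fin m).le
  refine ⟨fun Z hZ => ?_, (PunctTop.connectedInDim_iff (A ⧸ J) (k - m)).mpr ?_⟩
  · obtain ⟨q, hq, hqm, rfl⟩ := (PunctTop.mem_components_iff (A ⧸ J) Z).mp hZ
    have : q.IsPrime := hq.1.1
    have hq' : q.comap (Ideal.Quotient.mk J) ∈ J.minimalPrimes := by
      rw [Ideal.minimalPrimes_eq_comap]
      exact ⟨q, hq, rfl⟩
    obtain ⟨p, hp, hpq⟩ := Ideal.exists_minimalPrimes_le (bot_le : (⊥ : Ideal A) ≤ q.comap (Ideal.Quotient.mk J))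
    have : p.IsPrime := hp.1.1
    have h1 := le_ringKrullDim_quotient A p _ hpq f hq' (n := k + 2 - m)
      (le_trans (by norm_cast; omega) (hdimA p hp))
    have he : ringKrullDim (A ⧸ q.comap (Ideal.Quotient.mk J)) = ringKrullDim ((A ⧸ J) ⧸ q) := by
      have hle : J ≤ q.comap (Ideal.Quotient.mk J) := hq'.1.2
      refine (ringKrullDim_eq_of_ringEquiv (DoubleQuot.quotQuotEquivQuotOfLE hle)).symm.trans
        (ringKrullDim_eq_of_ringEquiv (Ideal.quotEquivOfEq ?_))
      exact Ideal.map_comap_of_surjective _ Ideal.Quotient.mk_surjective q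
    rcases PunctTop.exists_dim_W (A ⧸ J) (IsLocalRing.le_maximalIdeal ‹q.IsPrime›.ne_top) with ⟨-, -, h2⟩ | ⟨d, h2, h3⟩
    · rw [he, h2] at h1
      norm_cast at h1
      omega
    · rw [he, h3] at h1
      refine le_trans ?_ h2.ge
      norm_cast at h1 ⊢
      omega
  · obtain ⟨h1, -⟩ := add_one_le_cancel hc1
    refine le_trans (le_of_eq ?_) h1
    congr 1
    omega

end Groth.Agent.S3362
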