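import Groth.Statements.S3363
import Groth.Agent.FEtCat.CompleteExtend
import Groth.Agent.EGA4Lib.FiniteRestrict
import Groth.Agent.NeronHD.FiniteExt
import Groth.Agent.S17758

set_option autoImplicit false
universe u
open CategoryTheory CategoryTheory.Limits AlgebraicGeometry TopologicalSpace
open LefX

namespace Groth.Agent.S3363

section
open AlgebraicGeometry CategoryTheory CategoryTheory.Limits

set_option backward.isDefEq.respectTransparency.types false

lemma isNormalScheme_Spec (A : Type u) [CommRing A] [IsDomain A] [IsIntegrallyClosed A] :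
    Pi1.IsNormalScheme (Spec (CommRingCat.of A)) := fun x => by
  let e := (StructureSheaf.stalkIso A (x : PrimeSpectrum A)).toRingEquiv
  have : IsIntegrallyClosed (Localization.AtPrime (x : PrimeSpectrum A).asIdeal) :=
    isIntegrallyClosed_of_isLocalization _ (x : PrimeSpectrum A).asIdeal.primeCompl
      (Ideal.primeCompl_le_nonZeroDivisors _)
  exact ⟨e.symm.toMulEquiv.isDomain _, IsIntegrallyClosed.of_equiv e⟩

variable (A : Type u) [CommRing A] [IsDomain A] [IsNoetherianRing A] [IsLocalRing A] [IsIntegrallyClosed A]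
  [IsAdicComplete (IsLocalRing.maximalIdeal A) A] (k : ℕ) (hdim : ((k + 2 : ℕ) : WithBot ℕ∞) ≤ ringKrullDim A)
  (f : Fin k → A) (hf : ∀ i, f i ∈ IsLocalRing.maximalIdeal A)

omit [IsIntegrallyClosed A] in
include hdim hf in
lemma isConnected_zeroLocus : _root_.IsConnected {x : PrimeSpectrum A |
    Ideal.span (Set.range f) ≤ x.asIdeal ∧ x.asIdeal ≠ IsLocalRing.maximalIdeal A} := by
  obtain ⟨d, hd⟩ := Gor.Basic.exists_natCast_ringKrullDim (A := A)
  refine S17758.result A d hd k (by rw [hd] at hdim; exact_mod_cast hdim) f _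
    (ne_top_of_le_ne_top (IsLocalRing.maximalIdeal.isMaximal A).ne_top
      (Ideal.span_le.mpr (Set.range_subset_iff.mpr hf))) rfl

omit [IsDomain A] [IsIntegrallyClosed A] [IsNoetherianRing A] [IsAdicComplete (IsLocalRing.maximalIdeal A) A] in
lemma mem_puncturedSpec (x : PrimeSpectrum A) :
    (x : Spec (CommRingCat.of A)) ∈ FEt.puncturedSpec A ↔ x.asIdeal ≠ IsLocalRing.maximalIdeal A :=
  ⟨fun h e => h (PrimeSpectrum.ext e), fun h e => h (congrArg PrimeSpectrum.asIdeal e)⟩

omit [IsDomain A] [IsNoetherianRing A] [IsIntegrallyClosed A] [IsAdicComplete (IsLocalRing.maximalIdeal A) A] in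
lemma range_subschemeι :
    Set.range (((Spec.map (CommRingCat.ofHom (Ideal.Quotient.mk (Ideal.span (Set.range f))))).ker.comap
      (FEt.puncturedSpec A).ι).subschemeι) =
      {x : ↥(FEt.puncturedSpec A) | Ideal.span (Set.range f) ≤ x.1.asIdeal} := by
  have h : Set.range (Spec.map (CommRingCat.ofHom (Ideal.Quotient.mk (Ideal.span (Set.range f))))) =
      PrimeSpectrum.zeroLocus (Ideal.span (Set.range f) : Set A) := by
    show Set.range (PrimeSpectrum.comap (Ideal.Quotient.mk (Ideal.span (Set.range f)))) = _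
    rw [range_comap_of_surjective _ _ Ideal.Quotient.mk_surjective, Ideal.mk_ker]
  rw [Scheme.IdealSheafData.range_subschemeι, Scheme.IdealSheafData.support_comap]
  have hk : ((Spec.map (CommRingCat.ofHom (Ideal.Quotient.mk (Ideal.span (Set.range f))))).ker.support :
      Set (Spec (CommRingCat.of A))) = PrimeSpectrum.zeroLocus (Ideal.span (Set.range f) : Set A) := by
    rw [Scheme.Hom.support_ker, h]
    exact (PrimeSpectrum.isClosed_zeroLocus _).closure_eq
  rw [TopologicalSpace.Closeds.coe_preimage, hk]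
  rfl

include hdim hf in
set_option maxHeartbeats 800000 in
lemma isConnected_cover (Z : FEt.Cat (FEt.puncturedSpec A : Scheme.{u})) [ConnectedSpace Z.left] :
    _root_.IsConnected (Z.hom ⁻¹' {x : ↥(FEt.puncturedSpec A) | Ideal.span (Set.range f) ≤ x.1.asIdeal}) := by
  have hU : Pi1.IsNormalScheme (FEt.puncturedSpec A : Scheme.{u}) :=
    NeronHD.isNormalScheme_opens (isNormalScheme_Spec A) _
  have : Nonempty (FEt.puncturedSpec A : Scheme.{u}) := ⟨Z.hom (Classical.arbitrary Z.left)⟩
  have : IsIntegral (FEt.puncturedSpec A : Scheme.{u}) := inferInstance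
  obtain ⟨B, _, _, _, _, _, φ, j, hfin, hinj, hji, hj, hrange⟩ :=
    FEtCat.CompleteExtend.exists_finite_domain A (FEt.puncturedSpec A) hU Z
  let : Algebra A B := φ.toAlgebra
  have : Module.Finite A B := hfin
  have hdimB : ((k + 2 : ℕ) : WithBot ℕ∞) ≤ ringKrullDim B := by
    rw [EGA4Lib.FiniteRestrict.ringKrullDim_eq_of_integral A B hinj]
    exact hdim
  have hlocal : IsLocalHom φ := RingHom.IsIntegral.isLocalHom hfin.to_isIntegral hinj
  have hmax : ∀ q : PrimeSpectrum B, q.asIdeal = IsLocalRing.maximalIdeal B ↔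
      q.asIdeal.comap φ = IsLocalRing.maximalIdeal A := fun q => by
    refine ⟨fun h => ?_, fun h => ?_⟩
    · rw [h]
      exact ((IsLocalRing.local_hom_TFAE φ).out 0 4).mp hlocal
    · exact IsLocalRing.eq_maximalIdeal (Ideal.isMaximal_of_isIntegral_of_isMaximal_comap q.asIdeal (by
        show (q.asIdeal.comap φ).IsMaximal
        rw [h]; infer_instance))
  have hfB : ∀ i, φ (f i) ∈ IsLocalRing.maximalIdeal B := fun i => map_nonunit φ _ (hf i)
  have hc := isConnected_zeroLocus B k hdimB (fun i => φ (f i)) hfB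
  have hset : j '' (Z.hom ⁻¹' {x : ↥(FEt.puncturedSpec A) | Ideal.span (Set.range f) ≤ x.1.asIdeal}) =
      {x : PrimeSpectrum B | Ideal.span (Set.range fun i => φ (f i)) ≤ x.asIdeal ∧
        x.asIdeal ≠ IsLocalRing.maximalIdeal B} := by
    have hval : ∀ z, (Z.hom z).1 = Spec.map (CommRingCat.ofHom φ) (j z) := fun z => by
      rw [← Scheme.Hom.comp_apply, hj]; rfl
    have hle : ∀ q : PrimeSpectrum B, Ideal.span (Set.range fun i => φ (f i)) ≤ q.asIdeal ↔
        Ideal.span (Set.range f) ≤ q.asIdeal.comap φ := fun q => by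
      rw [Ideal.span_le, Ideal.span_le, Set.range_subset_iff, Set.range_subset_iff]; rfl
    ext q
    constructor
    · rintro ⟨z, hz, rfl⟩
      refine ⟨(hle _).mpr (by
        have h1 : Ideal.span (Set.range f) ≤ (Z.hom z).1.asIdeal := hz
        rw [hval] at h1; exact h1), fun h => ?_⟩
      exact (mem_puncturedSpec A _).mp ((hval z) ▸ (Z.hom z).2) ((hmax _).mp h)
    · rintro ⟨h1, h2⟩
      obtain ⟨z, hz⟩ := hrange.ge (show q ∈ Spec.map (CommRingCat.ofHom φ) ⁻¹' _ from
        (mem_puncturedSpec A _).mpr fun h => h2 ((hmax q).mpr h))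
      refine ⟨z, ?_, hz⟩
      show Ideal.span (Set.range f) ≤ (Z.hom z).1.asIdeal
      rw [hval, hz]
      exact (hle q).mp h1
  rw [← hset] at hc
  exact ⟨Set.image_nonempty.mp hc.nonempty,
    j.isOpenEmbedding.isInducing.isPreconnected_image.mp hc.isPreconnected⟩

end

/-- Let A be a normal complete Noetherian local domain of dimension ≥ k + 2, X' its punctured spectrum,
f_1, …, f_k elements of the maximal ideal and Y' = X' ∩ V(f_1, …, f_k), the closed subscheme of X'
cut out by the f_i. Then Y' is connected and restriction of finite étale covers from X' to Y' is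
fully faithful (for the fundamental groups: π₁(Y') → π₁(X') is surjective). -/
theorem result (A : Type u) [CommRing A] [IsDomain A] [IsNoetherianRing A] [IsLocalRing A] [IsIntegrallyClosed A] [IsAdicComplete (IsLocalRing.maximalIdeal A) A] (k : ℕ) (hdim : ((k + 2 : ℕ) : WithBot ℕ∞) ≤ ringKrullDim A) (f : Fin k → A) (hf : ∀ i, f i ∈ IsLocalRing.maximalIdeal A) : ConnectedSpace ↥(((Spec.map (CommRingCat.ofHom (Ideal.Quotient.mk (Ideal.span (Set.range f))))).ker.comap (FEt.puncturedSpec A).ι).subscheme) ∧ (FEt.restrict ((Spec.map (CommRingCat.ofHom (Ideal.Quotient.mk (Ideal.span (Set.range f))))).ker.comap (FEt.puncturedSpec A).ι).subschemeι).Full ∧ (FEt.restrict ((Spec.map (CommRingCat.ofHom (Ideal.Quotient.mk (Ideal.span (Set.range f))))).ker.comap (FEt.puncturedSpec A).ι).subschemeι).Faithful := by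
  have hrange := range_subschemeι A k f
  set ι := ((Spec.map (CommRingCat.ofHom (Ideal.Quotient.mk (Ideal.span (Set.range f))))).ker.comap
      (FEt.puncturedSpec A).ι).subschemeι
  refine ⟨?_, ?_⟩
  · have hA := isConnected_zeroLocus A k hdim f hf
    have himg : Subtype.val '' (Set.range ι : Set ↥(FEt.puncturedSpec A)) = {x : PrimeSpectrum A |
        Ideal.span (Set.range f) ≤ x.asIdeal ∧ x.asIdeal ≠ IsLocalRing.maximalIdeal A} := by
      erw [hrange]
      ext x
      constructor
      · rintro ⟨y, hy, rfl⟩; exact ⟨hy, (mem_puncturedSpec A _).mp y.2⟩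
      · rintro ⟨h1, h2⟩; exact ⟨⟨x, (mem_puncturedSpec A x).mpr h2⟩, h1, rfl⟩
    rw [← himg] at hA
    have hemb : Topology.IsEmbedding (fun y => (ι y).1) :=
      Topology.IsEmbedding.subtypeVal.comp ι.isClosedEmbedding.isEmbedding
    rw [connectedSpace_iff_univ]
    refine ⟨?_, hemb.isInducing.isPreconnected_image.mp ?_⟩
    · obtain ⟨_, _, ⟨y, rfl⟩, -⟩ := hA.nonempty
      exact ⟨y, trivial⟩
    · rw [Set.image_univ, show Set.range (fun y => (ι y).1) = Subtype.val '' (Set.range ι) from Set.range_comp _ _]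
      exact hA.isPreconnected
  have hne : Nonempty (FEt.puncturedSpec A : Scheme.{u}) := by
    obtain ⟨x, hx⟩ := (isConnected_zeroLocus A k hdim f hf).nonempty
    exact ⟨⟨x, (mem_puncturedSpec A x).mpr hx.2⟩⟩
  have hnormal : Pi1.IsNormalScheme (FEt.puncturedSpec A : Scheme.{u}) :=
    NeronHD.isNormalScheme_opens (isNormalScheme_Spec A) _
  have key : ∀ (Z : FEt.Cat (FEt.puncturedSpec A : Scheme.{u})) (g : Z.left), g ∈ FEtCat.Normal.gen Z →
      _root_.IsConnected (closure {g} ∩ Set.range (pullback.fst Z.hom ι)) := by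
    intro Z g hg
    have hcl : IsClopen (closure ({g} : Set Z.left)) := by
      have h := FEtCat.Normal.isClopen_biUnion hnormal Z (T := {g}) (Set.singleton_subset_iff.mpr hg)
      simpa using h
    let P : Z.left.Opens := ⟨closure {g}, hcl.isOpen⟩
    let Zg := FEtCat.Basic.sub Z P hcl.isClosed
    have : ConnectedSpace Zg.left := isConnected_iff_connectedSpace.mp isConnected_singleton.closure
    have h := isConnected_cover A k hdim f hf Zg
    have himg := h.image P.ι P.ι.continuous.continuousOn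
    convert himg
    rw [Scheme.Pullback.range_fst, hrange]
    ext z
    constructor
    · rintro ⟨hz1, hz2⟩; exact ⟨⟨z, hz1⟩, hz2, rfl⟩
    · rintro ⟨w, hw, rfl⟩; exact ⟨w.2, hw⟩
  refine FEtCat.Full.full_faithful ι (fun Z W hW hp => ?_) fun Z W' hW' => ?_
  · refine Set.eq_empty_of_forall_notMem fun z hz => ?_
    obtain ⟨g, hg, hgz⟩ := FEtCat.Normal.exists_gen Z z
    have hgW : g ∈ W := hgz.mem_open hW.isOpen hz
    obtain ⟨_, hy, w, rfl⟩ := (key Z g hg).nonempty
    exact Set.notMem_empty w (hp ▸ closure_minimal (Set.singleton_subset_iff.mpr hgW) hW.isClosed hy)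
  · let T : Set Z.left := {g ∈ FEtCat.Normal.gen Z | closure {g} ∩ Set.range (pullback.fst Z.hom ι) ⊆ pullback.fst Z.hom ι '' W'}
    refine ⟨⋃ g ∈ T, closure {g}, FEtCat.Normal.isClopen_biUnion hnormal Z (T := T) fun g hg => hg.1, ?_⟩
    have hemb := (pullback.fst Z.hom ι).isClosedEmbedding
    ext w
    simp only [Set.mem_preimage, Set.mem_iUnion]
    constructor
    · rintro ⟨g, hg, hw⟩
      exact hemb.injective.mem_set_image.mp (hg.2 ⟨hw, w, rfl⟩)
    · intro hw
      obtain ⟨g, hg, hgw⟩ := FEtCat.Normal.exists_gen Z (pullback.fst Z.hom ι w)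
      have hwg : pullback.fst Z.hom ι w ∈ closure ({g} : Set Z.left) := hgw.mem_closure
      refine ⟨g, ⟨hg, ?_⟩, hwg⟩
      have hs : closure {g} ∩ Set.range (pullback.fst Z.hom ι) =
          pullback.fst Z.hom ι '' (pullback.fst Z.hom ι ⁻¹' closure {g}) := by
        rw [Set.image_preimage_eq_inter_range]
      have hc : _root_.IsPreconnected (pullback.fst Z.hom ι ⁻¹' closure {g}) :=
        hemb.isInducing.isPreconnected_image.mp (hs ▸ (key Z g hg).isPreconnected)
      rw [hs]
      exact Set.image_mono (hc.subset_isClopen hW' ⟨w, hwg, hw⟩)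

end Groth.Agent.S3363
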