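import Groth.Statements.S3372
import Groth.Agent.FormalSupp.Punct
import Groth.Agent.FormalSupp.TorFree
-- import your own Groth.Agent.* helpers here

set_option autoImplicit false
universe u
open CategoryTheory CategoryTheory.Limits AlgebraicGeometry
open Formal

namespace Groth.Agent.S3372

/-- Let A be a Noetherian local ring which is a quotient of a regular ring, and t a member of the
maximal ideal for which A is separated and complete in the t-adic topology; let X be the punctured
spectrum of A and F a coherent O_X-module on which multiplication by t is injective. Let n be a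
natural number and assume that for every closed point x of X (the primes p with dim A/p = 1) the
stalk F_x has depth ≥ n + 1 over O_{X,x}. Then the canonical map H^i(X, F) → lim_k H^i(X,
F/t^(k+1)F) is bijective for i < n and injective for i = n. -/
theorem result (R : Type u) [CommRing R] [IsRegularRing R] (A : Type u) [CommRing A] [IsLocalRing A] [IsNoetherianRing A] (π : R →+* A) (hπ : Function.Surjective π) (t : A) (ht : t ∈ IsLocalRing.maximalIdeal A) [IsAdicComplete (Ideal.span {t}) A] (F : (↑(FEt.puncturedSpec A) : Scheme.{u}).Modules) (hF : Coh.IsCoh F) (hreg : Mono (Formal.smulMod A F t)) (n : ℕ) (hdepth : ∀ x : (↑(FEt.puncturedSpec A) : Scheme.{u}), IsClosed ({x} : Set (↑(FEt.puncturedSpec A) : Scheme.{u})) → ((n + 1 : ℕ) : ℕ∞) ≤ LocCoh.depth ((↑(FEt.puncturedSpec A) : Scheme.{u}).presheaf.stalk x) (F.presheaf.stalk x)) (i : ℕ) : (i < n → Function.Bijective (Formal.toHHlim (Ideal.span {t}) F i)) ∧ (i = n → Function.Injective (Formal.toHHlim (Ideal.span {t}) F i)) := by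
  have hU : (FEt.puncturedSpec A).carrier =
      (PrimeSpectrum.zeroLocus (IsLocalRing.maximalIdeal A : Set A))ᶜ := by
    show ({IsLocalRing.closedPoint A} : Set (PrimeSpectrum A))ᶜ = _
    rw [IsLocalRing.closedPoint, PrimeSpectrum.zeroLocus_eq_singleton (IsLocalRing.maximalIdeal A)]
  have hfin : ∀ j, j ≤ n → Module.Finite A (Coh.HH (↑(FEt.puncturedSpec A) : Scheme.{u}) F j) := fun j hj =>
    Groth.Agent.FormalSupp.Punct.finite_HH π hπ (IsLocalRing.maximalIdeal A) _ hU F hF n
      (fun p q hp hq hpq => hdepth (Groth.Agent.FormalSupp.Punct.pt _ p hp) (by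
        have hcl : IsClosed {p' : PrimeSpectrum A | p ≤ p'} := by
          convert PrimeSpectrum.isClosed_zeroLocus (p.asIdeal : Set A) using 1; exact Set.ext fun p' => Iff.rfl
        suffices e : ({Groth.Agent.FormalSupp.Punct.pt _ p hp} : Set (↑(FEt.puncturedSpec A) : Scheme.{u})) =
            (Subtype.val : ↥(FEt.puncturedSpec A) → PrimeSpectrum A) ⁻¹' {p' | p ≤ p'} by
          rw [e]
          exact hcl.preimage continuous_subtype_val
        refine Set.ext fun z => ⟨fun h => ?_, fun h => ?_⟩
        · rw [Set.mem_singleton_iff.mp h]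
          exact le_refl p
        refine Subtype.ext ?_
        let z' : PrimeSpectrum A := z.1
        show z' = p
        by_contra hne
        have h1 : p ≤ z' := h
        have hlt : p < z' := lt_of_le_of_ne h1 (Ne.symm hne)
        have hzq : z' ≤ q := (IsLocalRing.le_maximalIdeal z'.isPrime.ne_top).trans hq
        rcases lt_or_eq_of_le hzq with h' | h'
        · exact hpq.2 hlt h'
        · exact ((Set.ext_iff.mp hU z').mp z.2) (show IsLocalRing.maximalIdeal A ≤ z'.asIdeal from h' ▸ hq))) j hj
  haveI := hreg
  refine ⟨fun hi => ?_, fun hi => ?_⟩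
  · haveI := hfin i hi.le
    haveI := hfin (i + 1) hi
    exact Groth.Agent.FormalSupp.TorFree.bijective F t
  · haveI := hfin i hi.le
    exact Groth.Agent.FormalSupp.TorFree.injective F t

end Groth.Agent.S3372
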