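import Groth.Statements.S3375
import Groth.Agent.EtCdTop.Quotient

set_option autoImplicit false
universe u
open CategoryTheory CategoryTheory.Limits AlgebraicGeometry Opposite
open EtDepth

namespace Groth.Agent.S3375

/-- Let K be a field, ℓ a prime number invertible in K, and F a nonzero constructible ℓ-torsion abelian
sheaf on the small étale site of Spec K. Suppose the ℓ-cohomological dimension of K is exactly n
(cohomology of ℓ-torsion sheaves vanishes above degree n, and not above any smaller degree). Then
there is a finite separable extension L of K such that H^n(Spec L, F|_L) is nonzero. -/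
theorem result (K : Type u) [Field K] (ℓ : ℕ) (hℓ : ℓ.Prime) (hℓK : (ℓ : K) ≠ 0) (F : EtCoh.Ab (Spec (CommRingCat.of K))) (hF : EtDepth.IsLTorsion ℓ F) (hFc : EtPBC.IsConstructible F) (hF0 : ¬ IsZero F) (n : ℕ) (hcd : EtDepth.CohDimLLE (Spec (CommRingCat.of K)) ℓ n) (hcd' : ∀ d : ℕ, d < n → ¬ EtDepth.CohDimLLE (Spec (CommRingCat.of K)) ℓ d) : ∃ (L : Type u) (_ : Field L) (_ : Algebra K L) (_ : Module.Finite K L) (_ : Algebra.IsSeparable K L), Nontrivial (EtCoh.H (Spec (CommRingCat.of L)) ((EtCoh.pull (Spec.map (CommRingCat.ofHom (algebraMap K L)))).obj F) n) := by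
  haveI : Fact ℓ.Prime := ⟨hℓ⟩
  exact EtCdTop.exists_nontrivial_H F hF hFc hF0 n hcd hcd'

end Groth.Agent.S3375
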