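import Groth.Statements.S3377
import Groth.Agent.EtAcDepth.FlatDepth

set_option autoImplicit false
universe u
open CategoryTheory CategoryTheory.Limits AlgebraicGeometry Opposite
open EtDepth

namespace Groth.Agent.S3377

/-- Let f : X → S be a flat morphism of locally Noetherian schemes with separable (geometrically
reduced) fibres, j : U → X an open immersion with closed complement Y, and assume Y_s is nowhere
dense in X_s for every s, i.e. the local ring of the fibre at every point of Y has dimension ≥ 1.
Assume moreover either (a) the closure of f(Y) is nowhere dense in S, or (b) for every y ∈ Y the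
fibre X_{f(y)} is geometrically unibranch at y. Then the Y-étale depth of X is ≥ 2: for every prime
ℓ the local cohomology sheaves H^0_Y and H^1_Y of the constant sheaf Z/ℓ vanish. -/
theorem result {X U S : Scheme.{u}} [IsLocallyNoetherian X] [IsLocallyNoetherian S] (f : X ⟶ S) [Flat f] (hsep : ∀ s : S, AlgebraicGeometry.geometrically (fun Z : Scheme.{u} => IsReduced Z) (f.fiberToSpecResidueField s)) (j : U ⟶ X) [IsOpenImmersion j] [EtCoh.BCCont j] (hY : ∀ y : X, y ∉ Set.range j.base → (1 : WithBot ℕ∞) ≤ ringKrullDim ↑(CInt.fiberStalk f y)) (hab : IsNowhereDense (f.base '' (Set.range j.base)ᶜ) ∨ ∀ y : X, y ∉ Set.range j.base → CAlg2.IsGeomUnibranch ↑(CInt.fiberStalk f y)) (ℓ : ℕ) (hℓ : ℓ.Prime) : EtDepth.DepthGE j (EtCoh.const X (ZMod ℓ)) 2 := by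
  refine EtAcDepth.depthGE_two_const f (fun K _ k => ?_) j hY hab ℓ hℓ
  exact pullback_of_geometrically
    ((geometrically_iff_forall_fiberToSpecResidueField (f := f)).2 hsep) K k

end Groth.Agent.S3377
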