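import Groth.Statements.S3378
import Groth.Agent.LefPic.Punctured
import Groth.Agent.FEtCat.Lef.Main

set_option autoImplicit false
universe u
open CategoryTheory CategoryTheory.Limits AlgebraicGeometry
open LefX

namespace Groth.Agent.S3378

section
open CategoryTheory CategoryTheory.Limits AlgebraicGeometry TopologicalSpace Opposite
open Groth.Agent Groth.Agent.ParaFormal Groth.Agent.ParaFLib Groth.Agent.ParaFLib.OpenData Groth.Agent.ParaFLib.Spread
open Groth.Agent.Props.GenLocus

set_option backward.isDefEq.respectTransparency false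
set_option backward.isDefEq.respectTransparency.types false

noncomputable section

variable (A : Type u) [CommRing A] [IsLocalRing A] [IsNoetherianRing A] (J : Ideal A) (hJ : J ≠ ⊤)
  [IsLocalRing (A ⧸ J)] (hd : (3 : ℕ∞) ≤ LocCoh.depth (A ⧸ J) (A ⧸ J))
  (hgr : ∀ n : ℕ, Module.Free (A ⧸ J) (↥(J ^ n) ⧸ (J • (⊤ : Submodule A ↥(J ^ n)))))

include hJ hd hgr in
theorem connected_punctured [IsAdicComplete J A] : ConnectedSpace (FEt.puncturedSpec A : Scheme.{u}) := by
  obtain ⟨hbij, -⟩ := LefPic.Punctured.lef_structureModule J hJ hd hgr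
  haveI : Nonempty (FEt.puncturedSpec A : Scheme.{u}) := by
    by_contra hne
    haveI : IsEmpty (FEt.puncturedSpec A : Scheme.{u}) := not_nonempty_iff.1 hne
    refine one_ne_zero (hbij.1 ?_)
    exact TopCat.Presheaf.section_ext (FEt.puncturedSpec A : Scheme.{u}).sheaf ⊤ _ _ fun x _ => isEmptyElim x
  refine { toPreconnectedSpace := ?_, toNonempty := inferInstance }
  rw [preconnectedSpace_iff_clopen]
  intro C hC
  obtain ⟨e, he, heC⟩ := S2946.exists_indicator _ ⟨C, hC.2⟩ hC.1
  obtain ⟨a, rfl⟩ := hbij.2 e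
  have ha : IsIdempotentElem a := hbij.1 (by rw [map_mul]; exact he)
  rcases IsLocalRing.isUnit_or_isUnit_one_sub_self a with hu | hu
  · right
    refine Set.eq_univ_iff_forall.2 fun x => (heC x).1 ?_
    rw [Scheme.basicOpen_of_isUnit _ (hu.map _)]
    trivial
  · left
    have h0 : a = 0 := hu.mul_left_cancel (by rw [sub_mul, one_mul, ha, sub_self, mul_zero])
    refine Set.eq_empty_iff_forall_notMem.2 fun x hx => ?_
    have h := (heC x).2 hx
    rw [h0, map_zero, Scheme.basicOpen_zero] at h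
    exact h.elim

theorem unitSec_rel {X Z : Scheme.{u}} (g : Z ⟶ X) (M : X.Modules) {O₁ O₂ V : X.Opens} (h₁ : V ≤ O₁) (h₂ : V ≤ O₂)
    (e₁ : Γ(M, O₁)) (e₂ : Γ(M, O₂)) (a : Γ(X, V)) (h : QCoh.res M h₂ e₂ = a • QCoh.res M h₁ e₁) :
    QCoh.res ((Scheme.Modules.pullback g).obj M) (g.preimage_mono h₂) (LFFrame.unitSec g M O₂ e₂) =
      g.app V a • QCoh.res ((Scheme.Modules.pullback g).obj M) (g.preimage_mono h₁) (LFFrame.unitSec g M O₁ e₁) :=
  (LFFrame.unitSec_res g M h₂ e₂).symm.trans ((congrArg (LFFrame.unitSec g M V) h).trans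
    ((LFFrame.unitSec_smul g M V a _).trans
      (congrArg (g.app V a • ·) (LFFrame.unitSec_res g M h₁ e₁))))

theorem exists_isGen_pullback {X Z : Scheme.{u}} (g : Z ⟶ X) (U : X.Opens) (L : (U : Scheme.{u}).Modules)
    (θ : (Scheme.Modules.pullback (g.ker.comap U.ι).subschemeι).obj L ≅ Coh.structureModule _) :
    ∃ σ : Γ((Scheme.Modules.pullback g).obj ((Scheme.Modules.pushforward U.ι).obj L), g ⁻¹ᵁ U),
      IsGen _ (g ⁻¹ᵁ U) σ := by
  let h := g ∣_ U
  let 𝓙 := g.ker.comap U.ι
  have hk : 𝓙.subschemeι.ker ≤ h.ker := by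
    rw [Scheme.IdealSheafData.ker_subschemeι, ← Scheme.IdealSheafData.le_map_iff_comap_le,
      Scheme.IdealSheafData.map_ker, morphismRestrict_ι]
    exact Scheme.Hom.le_ker_comp _ _
  let t := IsClosedImmersion.lift 𝓙.subschemeι h hk
  have ht : t ≫ 𝓙.subschemeι = h := IsClosedImmersion.lift_fac _ _ _
  let M := (Scheme.Modules.pushforward U.ι).obj L
  let ρ : (Scheme.Modules.pullback U.ι).obj M ≅ L :=
    asIso ((Scheme.Modules.pullbackPushforwardAdjunction U.ι).counit.app L)
  exact exists_isGen_of_iso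
    ((Scheme.Modules.restrictFunctorIsoPullback (g ⁻¹ᵁ U).ι).app ((Scheme.Modules.pullback g).obj M) ≪≫
      (Scheme.Modules.pullbackComp (g ⁻¹ᵁ U).ι g).app M ≪≫
      (Scheme.Modules.pullbackCongr (morphismRestrict_ι g U).symm).app M ≪≫
      (Scheme.Modules.pullbackComp h U.ι).symm.app M ≪≫
      (Scheme.Modules.pullback h).mapIso ρ ≪≫
      (Scheme.Modules.pullbackCongr ht.symm).app L ≪≫ (Scheme.Modules.pullbackComp t 𝓙.subschemeι).symm.app L ≪≫
      (Scheme.Modules.pullback t).mapIso θ ≪≫ QCoh.pullbackUnitIso t)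

include hJ hd hgr in
theorem pic_injective : Formal2.PicPullbackInjective
    ((Spec.map (CommRingCat.ofHom (Ideal.Quotient.mk J))).ker.comap (FEt.puncturedSpec A).ι).subschemeι := by
  intro L hL ⟨θ⟩
  let U := FEt.puncturedSpec A
  let g := Spec.map (CommRingCat.ofHom (Ideal.Quotient.mk J))
  let M := (Scheme.Modules.pushforward U.ι).obj L
  let adj := Scheme.Modules.pullbackPushforwardAdjunction U.ι
  let ρ : (Scheme.Modules.pullback U.ι).obj M ≅ L := asIso (adj.counit.app L)
  let r := Scheme.Modules.restrictFunctorIsoPullback U.ι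
  have hM : PicF.IsInvertible (M.restrict U.ι) := PicCl.isInvertible_of_iso (r.app M ≪≫ ρ).symm hL
  obtain ⟨G, hG⟩ := exists_grData J hgr
  obtain ⟨φ⟩ := nonempty_iso_of_triv_quotient J hJ G hG hd M hM (g ⁻¹ᵁ U) rfl fun {ι} O hle hcov e he => by
    obtain ⟨σ, hσ⟩ := exists_isGen_pullback g U L θ
    refine triv_of_isGen (pull g (ofGens O hle hcov e he) rfl) (fun i => LFFrame.unitSec g M (O i) (e i))
      (fun i => (isGen_iff_isFrame _).mpr (((isGen_iff_isFrame _).mp (he i)).pullback g)) (fun i j => ?_) σ hσ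
    have hrel := unitSec_rel g M (inf_le_left : O i ⊓ O j ≤ O i) (inf_le_right : O i ⊓ O j ≤ O j) (e i) (e j) _
      (ofGens_rel O hle hcov e he i j)
    refine hrel.trans (congrArg (· • _) ?_)
    exact congr($(Scheme.Hom.appLE_eq_app g) _).symm
  exact ⟨ρ.symm ≪≫ (r.app M).symm ≪≫ φ⟩

end
end

end Groth.Agent.S3378

namespace Groth.Agent.S3378

/-- Let A be a Noetherian local ring, J a proper ideal with (i) depth A/J ≥ 3, (ii) every J^n/J^(n+1)
free over A/J, (iii) A separated and complete for the J-adic topology. Let U be the punctured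
spectrum of A and U_0 = U ∩ V(J), the closed subscheme of U defined by J. Then (a) U and U_0 are
connected and restriction of finite étale covers from U to U_0 is fully faithful (π₁(U_0) → π₁(U) is
surjective), and (b) the pull-back map Pic(U) → Pic(U_0) has trivial kernel. -/
theorem result (A : Type u) [CommRing A] [IsLocalRing A] [IsNoetherianRing A] (J : Ideal A) (hJ : J ≠ ⊤) [IsLocalRing (A ⧸ J)] (hd : (3 : ℕ∞) ≤ LocCoh.depth (A ⧸ J) (A ⧸ J)) (hgr : ∀ n : ℕ, Module.Free (A ⧸ J) (↥(J ^ n) ⧸ (J • (⊤ : Submodule A ↥(J ^ n))))) [IsAdicComplete J A] : (ConnectedSpace ↥(FEt.puncturedSpec A) ∧ ConnectedSpace ↥(((Spec.map (CommRingCat.ofHom (Ideal.Quotient.mk J))).ker.comap (FEt.puncturedSpec A).ι).subscheme) ∧ (FEt.restrict ((Spec.map (CommRingCat.ofHom (Ideal.Quotient.mk J))).ker.comap (FEt.puncturedSpec A).ι).subschemeι).Full ∧ (FEt.restrict ((Spec.map (CommRingCat.ofHom (Ideal.Quotient.mk J))).ker.comap (FEt.puncturedSpec A).ι).subschemeι).Faithful) ∧ Formal2.PicPullbackInjective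 ((Spec.map (CommRingCat.ofHom (Ideal.Quotient.mk J))).ker.comap (FEt.puncturedSpec A).ι).subschemeι := by
  obtain ⟨hbij, hlef⟩ := Groth.Agent.LefPic.Punctured.lef_structureModule J hJ hd hgr
  have hU := connected_punctured A J hJ hd hgr
  haveI : CompactSpace (FEt.puncturedSpec A : Scheme.{u}) :=
    isCompact_iff_compactSpace.1 (TopologicalSpace.NoetherianSpace.isCompact (α := PrimeSpectrum A) _)
  haveI : Scheme.IsQuasiAffine (FEt.puncturedSpec A : Scheme.{u}) :=
    Scheme.IsQuasiAffine.of_isImmersion (FEt.puncturedSpec A).ι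
  have hfet := Groth.Agent.FEtCat.Lef.full_faithful
    ((Spec.map (CommRingCat.ofHom (Ideal.Quotient.mk J))).ker.comap (FEt.puncturedSpec A).ι) fun Z => by
      have : IsFinite Z.hom := Z.prop.1
      have : Etale Z.hom := Z.prop.2
      exact Groth.Agent.FEtCat.Lef.QuasiAffine.homToFormalBijective_push (X := (FEt.puncturedSpec A : Scheme.{u})) Z.hom _ hlef
  refine ⟨⟨hU, ?_, hfet.1, hfet.2⟩, pic_injective A J hJ hd hgr⟩
  haveI h := (Groth.Agent.S2946.connected_iff _ hlef).2 hU
  let 𝓙 := (Spec.map (CommRingCat.ofHom (Ideal.Quotient.mk J))).ker.comap (FEt.puncturedSpec A).ι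
  haveI : ConnectedSpace (Set.range 𝓙.subschemeι) := by
    rw [Scheme.IdealSheafData.range_subschemeι]; exact h
  exact (𝓙.subschemeι.isEmbedding.toHomeomorph).symm.surjective.connectedSpace
    (𝓙.subschemeι.isEmbedding.toHomeomorph).symm.continuous

end Groth.Agent.S3378
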