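import Groth.Statements.S3387
import Groth.Agent.FlatMisc.FibreDimScheme
-- import your own Groth.Agent.* helpers here

set_option autoImplicit false
open CategoryTheory AlgebraicGeometry
universe u
open EGA43

namespace Groth.Agent.S3387

/-- Let f : X ⟶ Y be locally of finite type and closed (as a map of underlying spaces). Then for every
natural number n the set of points y of Y whose fibre has dimension at least n is closed; that is,
the dimension of the fibre is upper semicontinuous on Y. -/
theorem result {X Y : Scheme.{u}} (f : X ⟶ Y) [LocallyOfFiniteType f]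
    (hf : IsClosedMap f.base) (n : ℕ) :
    IsClosed {y : Y | (n : WithBot ℕ∞) ≤ topologicalKrullDim ↥(f.fiber y)} := by
  obtain rfl | ⟨m, rfl⟩ : n = 0 ∨ ∃ m, n = m + 1 := by cases n <;> simp
  · have : {y : Y | ((0 : ℕ) : WithBot ℕ∞) ≤ topologicalKrullDim ↥(f.fiber y)} = Set.range f := by
      ext y
      constructor
      · intro h
        by_contra hy
        haveI : IsEmpty (f.fiber y) := ⟨fun w => hy ⟨f.fiberι y w, (by
          have : f.fiberι y w ∈ f ⁻¹' {y} := f.range_fiberι y ▸ Set.mem_range_self w
          exact this)⟩⟩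
        haveI : IsEmpty (TopologicalSpace.IrreducibleCloseds (f.fiber y)) := ⟨fun Z => IsEmpty.false Z.2.nonempty.some⟩
        rw [Set.mem_ofPred_eq, topologicalKrullDim, Order.krullDim_eq_bot] at h
        exact absurd h (by simp)
      · rintro ⟨x, rfl⟩
        exact FlatMisc.FibreDimScheme.length_le_topDim (fun _ => f.asFiber x) fun i j hij => absurd hij (by omega)
    rw [this]
    exact hf.isClosed_range
  have : {y : Y | ((m + 1 : ℕ) : WithBot ℕ∞) ≤ topologicalKrullDim ↥(f.fiber y)} =
      f '' {x : X | FlatMor.fibreDimAt f x ≤ m}ᶜ := by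
    ext y
    have h1 : ((m + 1 : ℕ) : WithBot ℕ∞) ≤ topologicalKrullDim ↥(f.fiber y) ↔
        ¬ topologicalKrullDim ↥(f.fiber y) ≤ m := by
      generalize topologicalKrullDim ↥(f.fiber y) = d
      induction d with
      | bot => simp
      | coe d =>
        induction d using ENat.recTopCoe with
        | top =>
          simp only [WithBot.coe_top, le_top, true_iff]
          exact fun h => ENat.natCast_ne_top m (top_le_iff.mp (WithBot.coe_le_coe.mp h))
        | coe d => norm_cast; omega
    rw [Set.mem_ofPred_eq, h1, FlatMisc.FibreDimScheme.topDim_fiber_le_iff]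
    simp only [Set.mem_compl_iff, Set.mem_image, Set.mem_ofPred_eq, not_forall]
    exact ⟨fun ⟨x, hx, h⟩ => ⟨x, h, hx⟩, fun ⟨x, h, hx⟩ => ⟨x, hx, h⟩⟩
  rw [this]
  exact hf _ (FlatMisc.FibreDimScheme.isOpen_fibreDimAt_le f m).isClosed_compl

end Groth.Agent.S3387
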