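import Groth.Statements.S3392
import Groth.Agent.EquidimPt.Basic
-- import your own Groth.Agent.* helpers here

set_option autoImplicit false
open CategoryTheory AlgebraicGeometry
universe u
open EGA43

namespace Groth.Agent.S3392

/-- Let Y be an irreducible locally Noetherian scheme, f : X ⟶ Y a morphism of finite type and y a point
of Y. Condition (a): for every point x of the fibre over y, dim O_{X,x} = dim O_{Y,y} + dim
O_{X_y,x}. Condition (b): for every point z of the fibre over y at which the local ring of the fibre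
has dimension 0 (the generic points of the irreducible components of the fibre), dim O_{X,z} = dim
O_{Y,y}. Then (a) implies (b), and (b) implies (a) if O_{Y,y} is universally catenary. -/
theorem result {X Y : Scheme.{u}} [IrreducibleSpace Y] [IsLocallyNoetherian Y]
    (f : X ⟶ Y) [LocallyOfFiniteType f] [QuasiCompact f] (y : Y) :
    ((∀ x : X, f.base x = y → ringKrullDim (X.presheaf.stalk x) =
        ringKrullDim (Y.presheaf.stalk (f.base x)) + ringKrullDim ((f.fiber (f.base x)).presheaf.stalk (f.asFiber x))) →
      (∀ z : X, f.base z = y → ringKrullDim ((f.fiber (f.base z)).presheaf.stalk (f.asFiber z)) = 0 →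
        ringKrullDim (X.presheaf.stalk z) = ringKrullDim (Y.presheaf.stalk (f.base z)))) ∧
    (CAlg.IsUniversallyCatenary (Y.presheaf.stalk y) →
      (∀ z : X, f.base z = y → ringKrullDim ((f.fiber (f.base z)).presheaf.stalk (f.asFiber z)) = 0 →
        ringKrullDim (X.presheaf.stalk z) = ringKrullDim (Y.presheaf.stalk (f.base z))) →
      (∀ x : X, f.base x = y → ringKrullDim (X.presheaf.stalk x) =
        ringKrullDim (Y.presheaf.stalk (f.base x)) + ringKrullDim ((f.fiber (f.base x)).presheaf.stalk (f.asFiber x)))) := by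
  haveI : IsLocallyNoetherian X := LocallyOfFiniteType.isLocallyNoetherian f
  refine ⟨fun ha z hz h0 => by rw [ha z hz, h0, add_zero], fun hcat hb x hx => ?_⟩
  subst hx
  obtain ⟨c, hcx, hfc, hcmax, -, -, e', -, -, hfdx, hc, -⟩ := Groth.Agent.FibSemi.exists_max_fibre f x
  obtain ⟨n, t, hn, hn', ht, -, hfdc⟩ := Groth.Agent.EquidimPt.fibre_facts f c
  have hn0 : n = 0 := by
    rw [Groth.Agent.EquidimPt.dim_zero_of_fMax f (fun z hz hfz => hcmax z (hfz.trans hfc) hz)] at hn'
    exact (Nat.cast_eq_zero.mp hn'.symm)
  subst hn0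
  have hte : t = e' := Nat.cast_inj.mp (ht.symm.trans hc)
  rw [Nat.cast_zero] at hn
  obtain ⟨ξ, hξc, hmax, hb'⟩ := Groth.Agent.EquidimPt.exists_max_attained c
  obtain ⟨-, h2, h3⟩ := Groth.Agent.EquidimPt.component_of_formula f hξc hmax hb' (by rw [hn, add_zero]; exact hb c hfc hn)
  refine (Groth.Agent.EquidimPt.formula_of_component f (hξc.trans hcx) hmax hcat ?_ ?_).1
  · have key : ∀ y, f c = y → Order.krullDim (Groth.Agent.EquidimPt.between (f ξ) y) = ringKrullDim (Y.presheaf.stalk y) := by
      rintro _ rfl; exact h3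
    exact key _ hfc
  · rw [h2, hfdc, hfdx, zero_add, hte]

end Groth.Agent.S3392
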