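import Groth.Statements.S3393
import Groth.Agent.EquidimPt.Basic
-- import your own Groth.Agent.* helpers here

set_option autoImplicit false
open CategoryTheory AlgebraicGeometry
universe u
open EGA43

namespace Groth.Agent.S3393

/-- Let Y be an irreducible locally Noetherian scheme with generic point η, f : X ⟶ Y a morphism of
finite type and y a point of Y. Condition (b): for every point z of the fibre over y at which the
local ring of the fibre has dimension 0, dim O_{X,z} = dim O_{Y,y}. Condition (c): for every such z
there is an irreducible component X' of X containing z such that the dimension of X' ∩ f⁻¹(η)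
(topology induced from X) equals the local dimension at z of the fibre over y (the dimension of the
irreducible component of the fibre with generic point z). Then (b) implies (c), and (c) implies (b)
if O_{Y,y} is universally catenary. -/
theorem result {X Y : Scheme.{u}} [IrreducibleSpace Y] [IsLocallyNoetherian Y]
    (f : X ⟶ Y) [LocallyOfFiniteType f] [QuasiCompact f] (y : Y) :
    ((∀ z : X, f.base z = y → ringKrullDim ((f.fiber (f.base z)).presheaf.stalk (f.asFiber z)) = 0 →
        ringKrullDim (X.presheaf.stalk z) = ringKrullDim (Y.presheaf.stalk (f.base z))) →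
      (∀ z : X, f.base z = y → ringKrullDim ((f.fiber (f.base z)).presheaf.stalk (f.asFiber z)) = 0 →
        ∃ X' ∈ irreducibleComponents (X : Type u), z ∈ X' ∧
          topologicalKrullDim ↥(X' ∩ f.base ⁻¹' {genericPoint Y}) = FlatMor.fibreDimAt f z)) ∧
    (CAlg.IsUniversallyCatenary (Y.presheaf.stalk y) →
      (∀ z : X, f.base z = y → ringKrullDim ((f.fiber (f.base z)).presheaf.stalk (f.asFiber z)) = 0 →
        ∃ X' ∈ irreducibleComponents (X : Type u), z ∈ X' ∧
          topologicalKrullDim ↥(X' ∩ f.base ⁻¹' {genericPoint Y}) = FlatMor.fibreDimAt f z) →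
      (∀ z : X, f.base z = y → ringKrullDim ((f.fiber (f.base z)).presheaf.stalk (f.asFiber z)) = 0 →
        ringKrullDim (X.presheaf.stalk z) = ringKrullDim (Y.presheaf.stalk (f.base z)))) := by
  haveI : IsLocallyNoetherian X := LocallyOfFiniteType.isLocallyNoetherian f
  refine ⟨fun hb z hz h0 => ?_, fun hcat hc z hz h0 => ?_⟩
  · subst hz
    obtain ⟨ξ, hξ, hmax, hb'⟩ := Groth.Agent.EquidimPt.exists_max_attained z
    obtain ⟨h1, h2, -⟩ := Groth.Agent.EquidimPt.component_of_formula f hξ hmax hb' (by rw [h0, add_zero]; exact hb z rfl h0)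
    have hgen : f ξ = genericPoint Y := (h1 _ (genericPoint_specializes _)).symm
    refine ⟨closure {ξ}, Groth.Agent.FlatOpen.EquiDim.closure_mem_irreducibleComponents hmax, specializes_iff_mem_closure.1 hξ, ?_⟩
    obtain ⟨b, t, a, e, n, -, -, -, he, hfe, -, -, -, -, -⟩ := Groth.Agent.EquidimPt.comp_facts f hξ hmax
    rw [Groth.Agent.FibSemi.topDim_closure_inter_fibre_eq, ← hgen, he, ← hfe, h2]
  · subst hz
    obtain ⟨X', hX', hzX', hdim⟩ := hc z rfl h0
    obtain ⟨ξ, hmax, rfl⟩ := Groth.Agent.FlatOpen.EquiDim.exists_max_closure_eq hX'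
    have hξ : ξ ⤳ z := specializes_iff_mem_closure.2 hzX'
    rw [Groth.Agent.FibSemi.topDim_closure_inter_fibre_eq] at hdim
    obtain ⟨b, t, a, e, n, -, -, -, he, hfe, -, hfd, -, -, -⟩ := Groth.Agent.EquidimPt.comp_facts f hξ hmax
    have hne : Nonempty {w : X | f w = genericPoint Y ∧ ξ ⤳ w} := by
      by_contra hcon
      haveI := not_nonempty_iff.mp hcon
      rw [Order.krullDim_eq_bot, hfd] at hdim
      exact WithBot.bot_ne_coe hdim
    obtain ⟨w, hw, hξw⟩ := hne
    have hgen : f ξ = genericPoint Y :=
      ((hw ▸ hξw.map f.continuous : f ξ ⤳ genericPoint Y).antisymm (genericPoint_specializes _)).eq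
    rw [← hgen, he, ← hfe] at hdim
    refine (Groth.Agent.EquidimPt.formula_of_component f hξ hmax hcat ?_ hdim).1.trans (by rw [h0, add_zero])
    rw [hgen, Groth.Agent.FibSemi.ringKrullDim_stalk_eq]
    exact le_antisymm (Groth.Agent.FibSemi.krullDim_mono fun z hz => hz.2)
      (Groth.Agent.FibSemi.krullDim_mono fun z hz => ⟨genericPoint_specializes z, hz⟩)

end Groth.Agent.S3393
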