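import Groth.Statements.S3394
import Groth.Agent.ConsPairLib.DimCons
import Groth.Agent.Thick.Unram

set_option autoImplicit false
open CategoryTheory AlgebraicGeometry
universe u
open EGA43

namespace Groth.Agent.S3394

open CategoryTheory AlgebraicGeometry CategoryTheory.Limits
open scoped TensorProduct

/-- Sections of the residue field are fractions of global sections on an affine scheme. -/
theorem exists_residue_fraction {Y : Scheme.{u}} [IsAffine Y] (y : Y) (c : Γ(Spec (Y.residueField y), ⊤)) :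
    ∃ a s : Γ(Y, ⊤), IsUnit ((Y.fromSpecResidueField y).appTop s) ∧
      (Y.fromSpecResidueField y).appTop s * c = (Y.fromSpecResidueField y).appTop a := by
  let ev := (Y.presheaf.germ ⊤ y trivial) ≫ Y.residue y
  have hev : (Y.fromSpecResidueField y).appTop = ev ≫ (Scheme.ΓSpecIso (Y.residueField y)).inv := by
    rw [Scheme.fromSpecResidueField, Scheme.Hom.comp_appTop, Scheme.fromSpecStalk_appTop]
    simp only [ev, Category.assoc]
    congr 1
    rw [Scheme.ΓSpecIso_inv_naturality]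
    congr 1
  letI : Algebra Γ(Y, ⊤) (Y.presheaf.stalk y) := (Y.presheaf.germ ⊤ y trivial).hom.toAlgebra
  haveI : IsLocalization.AtPrime (Y.presheaf.stalk y) ((isAffineOpen_top Y).primeIdealOf ⟨y, trivial⟩).asIdeal :=
    (isAffineOpen_top Y).isLocalization_stalk ⟨y, trivial⟩
  obtain ⟨t, ht⟩ := IsLocalRing.residue_surjective ((Scheme.ΓSpecIso (Y.residueField y)).hom c)
  obtain ⟨⟨a, s⟩, has⟩ := IsLocalization.surj
    ((isAffineOpen_top Y).primeIdealOf ⟨y, trivial⟩).asIdeal.primeCompl t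
  have hc : (Scheme.ΓSpecIso (Y.residueField y)).inv ((Y.residue y) t) = c := by
    refine (congrArg (Scheme.ΓSpecIso (Y.residueField y)).inv ht).trans ?_
    rw [← CommRingCat.comp_apply, Iso.hom_inv_id]
    rfl
  refine ⟨a, s, ?_, ?_⟩
  · rw [hev, CommRingCat.comp_apply]
    refine IsUnit.map _ ?_
    show IsUnit ((Y.residue y) ((Y.presheaf.germ ⊤ y trivial) s.1))
    exact IsUnit.map _ (IsLocalization.map_units (Y.presheaf.stalk y) s)
  · rw [hev, CommRingCat.comp_apply, CommRingCat.comp_apply]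
    conv_lhs => rw [← hc]
    rw [← map_mul]
    refine congrArg (fun x => (Scheme.ΓSpecIso (Y.residueField y)).inv x) ?_
    show (Y.residue y) _ * (Y.residue y) t = (Y.residue y) _
    rw [← map_mul, mul_comm]
    exact congrArg (Y.residue y) has

/-- Sections of a fibre over an affine base are global sections up to units of the base. -/
theorem exists_unit_mul {X Y : Scheme.{u}} [IsAffine X] [IsAffine Y] (f : X ⟶ Y) (y : Y)
    (z : Γ(f.fiber y, ⊤)) :
    ∃ (s : Γ(Y, ⊤)) (b : Γ(X, ⊤)), IsUnit ((Y.fromSpecResidueField y).appTop s) ∧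
      (f.fiberToSpecResidueField y).appTop ((Y.fromSpecResidueField y).appTop s) * z =
        (f.fiberι y).appTop b := by
  let iS := Y.fromSpecResidueField y
  let g := f.fiberToSpecResidueField y
  let iX := f.fiberι y
  haveI : IsAffineHom iS := inferInstance
  obtain ⟨h', hpush⟩ := Groth.Agent.Thick.Unram.isPushout_appLE (IsPullback.of_hasPullback f iS)
    (isAffineOpen_top Y) (isAffineOpen_top X) (by simp : (⊤ : X.Opens) ≤ f ⁻¹ᵁ ⊤)
  letI : Algebra Γ(Y, ⊤) Γ(X, ⊤) := (f.appLE ⊤ ⊤ (by simp)).hom.toAlgebra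
  letI : Algebra Γ(Y, ⊤) Γ(Spec (Y.residueField y), ⊤) := (iS.app ⊤).hom.toAlgebra
  letI : Algebra Γ(X, ⊤) Γ(f.fiber y, ⊤) := (iX.app ⊤).hom.toAlgebra
  letI : Algebra Γ(Spec (Y.residueField y), ⊤) Γ(f.fiber y, ⊤) := (g.appLE ⊤ ⊤ (by simp)).hom.toAlgebra
  letI : Algebra Γ(Y, ⊤) Γ(f.fiber y, ⊤) := (f.appLE ⊤ ⊤ (by simp) ≫ iX.app ⊤).hom.toAlgebra
  haveI : IsScalarTower Γ(Y, ⊤) Γ(X, ⊤) Γ(f.fiber y, ⊤) := IsScalarTower.of_algebraMap_eq fun _ => rfl
  haveI : IsScalarTower Γ(Y, ⊤) Γ(Spec (Y.residueField y), ⊤) Γ(f.fiber y, ⊤) :=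
    IsScalarTower.of_algebraMap_eq fun r => congrArg (fun φ => φ.hom r) hpush.w
  haveI hpo : Algebra.IsPushout Γ(Y, ⊤) Γ(Spec (Y.residueField y), ⊤) Γ(X, ⊤) Γ(f.fiber y, ⊤) :=
    CommRingCat.isPushout_iff_isPushout.1 hpush.flip
  have hg : ∀ c, algebraMap Γ(Spec (Y.residueField y), ⊤) Γ(f.fiber y, ⊤) c = g.appTop c := fun c => by
    simp [RingHom.algebraMap_toAlgebra, Scheme.Hom.appLE, Scheme.Hom.appTop]
  have hiS : ∀ s, algebraMap Γ(Y, ⊤) Γ(Spec (Y.residueField y), ⊤) s = iS.appTop s := fun _ => rfl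
  induction z using hpo.out.inductionOn with
  | zero => exact ⟨1, 0, by simp, by simp⟩
  | tmul b => exact ⟨1, b, by simp, by rw [map_one, map_one, one_mul]; rfl⟩
  | smul c z hz =>
    obtain ⟨s, b, hs, hb⟩ := hz
    obtain ⟨a, t, ht, hc⟩ := exists_residue_fraction y c
    refine ⟨t * s, algebraMap Γ(Y, ⊤) Γ(X, ⊤) a * b, by rw [map_mul]; exact ht.mul hs, ?_⟩
    have hw : g.appTop (iS.appTop a) = iX.appTop (algebraMap Γ(Y, ⊤) Γ(X, ⊤) a) := by
      rw [← hg, ← hiS, ← IsScalarTower.algebraMap_apply, IsScalarTower.algebraMap_apply Γ(Y, ⊤) Γ(X, ⊤)]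
      rfl
    rw [Algebra.smul_def, hg, map_mul, map_mul, map_mul]
    calc g.appTop (iS.appTop t) * g.appTop (iS.appTop s) * (g.appTop c * z)
        = g.appTop (iS.appTop t * c) * (g.appTop (iS.appTop s) * z) := by rw [map_mul]; ring
      _ = iX.appTop (algebraMap Γ(Y, ⊤) Γ(X, ⊤) a) * iX.appTop b := by rw [hc, hb, hw]
  | add z z' hz hz' =>
    obtain ⟨s, b, hs, hb⟩ := hz
    obtain ⟨s', b', hs', hb'⟩ := hz'
    refine ⟨s * s', algebraMap Γ(Y, ⊤) Γ(X, ⊤) s' * b + algebraMap Γ(Y, ⊤) Γ(X, ⊤) s * b',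
      by rw [map_mul]; exact hs.mul hs', ?_⟩
    have hw : ∀ r, g.appTop (iS.appTop r) = iX.appTop (algebraMap Γ(Y, ⊤) Γ(X, ⊤) r) := fun r => by
      rw [← hg, ← hiS, ← IsScalarTower.algebraMap_apply, IsScalarTower.algebraMap_apply Γ(Y, ⊤) Γ(X, ⊤)]
      rfl
    rw [map_mul, map_mul, map_add, map_mul, map_mul, ← hw, ← hw, ← hb, ← hb']
    ring

open CategoryTheory.Limits in
/-- Let X and Y be affine schemes, f : X ⟶ Y a morphism of finite type, y a point of f(X) and e the
dimension of the fibre of f over y. Then there is a Y-morphism g from X to the affine space of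
dimension e over Y such that the morphism induced by g on the fibres over y is finite (here written
as the base change of g along the inclusion of the fibre of the affine space over y). -/
theorem result {X Y : Scheme.{u}} [IsAffine X] [IsAffine Y] (f : X ⟶ Y)
    [LocallyOfFiniteType f] (y : Y) (hy : y ∈ Set.range f.base) (e : ℕ)
    (he : topologicalKrullDim ↥(f.fiber y) = e) :
    ∃ g : X ⟶ 𝔸(ULift.{u} (Fin e); Y), g ≫ (𝔸(ULift.{u} (Fin e); Y) ↘ Y) = f ∧
      IsFinite (pullback.snd g ((𝔸(ULift.{u} (Fin e); Y) ↘ Y).fiberι y)) := by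
  let iS := Y.fromSpecResidueField y
  let T := Spec (Y.residueField y)
  haveI : IsAffineHom iS := inferInstance
  haveI : IsAffine (f.fiber y) := inferInstanceAs (IsAffine (pullback f iS))
  haveI : Subsingleton ↥T := inferInstanceAs (Subsingleton (PrimeSpectrum _))
  haveI : Nonempty ↥(f.fiber y) := by
    obtain ⟨x, hx⟩ := hy
    exact ⟨(f.fiberHomeo y).symm ⟨x, hx⟩⟩
  haveI : LocallyOfFiniteType (f.fiberToSpecResidueField y) :=
    inferInstanceAs (LocallyOfFiniteType (pullback.snd f iS))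
  obtain ⟨n, hn, p₀, hp₀, hfin₀, hsurj₀⟩ :=
    Groth.Agent.ConsPairLib.exists_finSurj_affineSpace (T := T) (f.fiberToSpecResidueField y)
  have hcard : Nat.card n = e := by
    have h := (Groth.Agent.ConsPairLib.topDim_eq_of_finSurj p₀).symm.trans he
    rw [Groth.Agent.ConsPairLib.topDim_affineSpace] at h
    exact_mod_cast h
  let π : ULift.{u} (Fin e) ≃ n := Equiv.ulift.trans ((finCongr hcard.symm).trans (Finite.equivFin n).symm)
  choose s b hs hb using fun j => exists_unit_mul f y (p₀.appTop (AffineSpace.coord T j))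
  let u : n → Γ(T, ⊤) := fun j => iS.appTop (s j)
  have hu : ∀ j, IsUnit (u j) := hs
  let a := 𝔸(ULift.{u} (Fin e); Y) ↘ Y
  let g : X ⟶ 𝔸(ULift.{u} (Fin e); Y) := AffineSpace.homOfVector f fun i => b (π i)
  let q := 𝔸(n; T) ↘ T
  let q' := 𝔸(ULift.{u} (Fin e); T) ↘ T
  let τ : 𝔸(n; T) ⟶ 𝔸(ULift.{u} (Fin e); T) :=
    AffineSpace.homOfVector q fun i => q.appTop (u (π i)) * AffineSpace.coord T (π i)
  let τ' : 𝔸(ULift.{u} (Fin e); T) ⟶ 𝔸(n; T) :=
    AffineSpace.homOfVector q' fun j => q'.appTop ↑(hu j).unit⁻¹ * AffineSpace.coord T (π.symm j)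
  have hτq : τ ≫ q' = q := AffineSpace.homOfVector_over _ _
  have hτq' : τ' ≫ q = q' := AffineSpace.homOfVector_over _ _
  haveI : IsIso τ := by
    refine ⟨τ', AffineSpace.hom_ext (by rw [Category.assoc, hτq', hτq, Category.id_comp]) fun j => ?_,
      AffineSpace.hom_ext (by rw [Category.assoc, hτq, hτq', Category.id_comp]) fun i => ?_⟩
    · have e1 : ∀ r, τ.appTop (q'.appTop r) = q.appTop r := fun r => by
        rw [← CommRingCat.comp_apply, ← Scheme.Hom.comp_appTop, hτq]
      rw [Scheme.Hom.comp_appTop, CommRingCat.comp_apply, AffineSpace.homOfVector_appTop_coord, map_mul, e1,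
        AffineSpace.homOfVector_appTop_coord, π.apply_symm_apply, ← mul_assoc, ← map_mul,
        IsUnit.val_inv_mul, map_one, one_mul]
      simp
    · have e1 : ∀ r, τ'.appTop (q.appTop r) = q'.appTop r := fun r => by
        rw [← CommRingCat.comp_apply, ← Scheme.Hom.comp_appTop, hτq']
      rw [Scheme.Hom.comp_appTop, CommRingCat.comp_apply, AffineSpace.homOfVector_appTop_coord, map_mul, e1,
        AffineSpace.homOfVector_appTop_coord, π.symm_apply_apply, ← mul_assoc, ← map_mul,
        IsUnit.mul_val_inv, map_one, one_mul]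
      simp
  let p := p₀ ≫ τ
  haveI : IsFinite p := inferInstance
  have hga : g ≫ a = f := AffineSpace.homOfVector_over _ _
  refine ⟨g, hga, ?_⟩
  have hpq : p ≫ q' = f.fiberToSpecResidueField y := by
    rw [Category.assoc, hτq]; exact hp₀
  have hmap : IsPullback (AffineSpace.map (ULift.{u} (Fin e)) iS) q' a iS := AffineSpace.isPullback_map iS
  have hcomm : f.fiberι y ≫ g = p ≫ AffineSpace.map (ULift.{u} (Fin e)) iS := by
    refine AffineSpace.hom_ext ?_ fun i => ?_
    · rw [Category.assoc, hga, Category.assoc, AffineSpace.map_over, ← Category.assoc]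
      exact (IsPullback.of_hasPullback f iS).w.trans (by rw [hpq]; rfl)
    · rw [Scheme.Hom.comp_appTop, CommRingCat.comp_apply, AffineSpace.homOfVector_appTop_coord,
        Scheme.Hom.comp_appTop, CommRingCat.comp_apply, AffineSpace.map_appTop_coord, Scheme.Hom.comp_appTop,
        CommRingCat.comp_apply, AffineSpace.homOfVector_appTop_coord, map_mul, ← hb]
      refine congrArg (fun x => x * _) ?_
      rw [← hp₀]
      rfl
  have hsq : IsPullback (f.fiberι y) p g (AffineSpace.map (ULift.{u} (Fin e)) iS) :=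
    IsPullback.of_bot (by rw [hga, hpq]; exact IsPullback.of_hasPullback f iS) hcomm hmap
  let E := hmap.isoPullback
  have hsq' : IsPullback (f.fiberι y) (p ≫ E.hom) g (a.fiberι y) :=
    IsPullback.of_iso hsq (Iso.refl _) (Iso.refl _) E (Iso.refl _) (by simp) (by simp) (by simp)
      (by simp only [Iso.refl_hom, Category.comp_id]; exact (hmap.isoPullback_hom_fst).symm)
  refine (congrArg (fun φ => IsFinite φ) hsq'.isoPullback_inv_snd).mp ?_
  infer_instance

end Groth.Agent.S3394
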