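import Groth.Statements.S3395
import Groth.Agent.ConsPairLib.DimCons
import Mathlib.AlgebraicGeometry.ZariskisMainTheorem

set_option autoImplicit false
open CategoryTheory AlgebraicGeometry
universe u
open EGA43

namespace Groth.Agent.S3395

open CategoryTheory AlgebraicGeometry TopologicalSpace

/-- A closed subset of full finite dimension in an irreducible space is everything. -/
theorem eq_univ_of_topDim {T : Type u} [TopologicalSpace T] [IrreducibleSpace T] {R : Set T}
    (hR : IsClosed R) (e : ℕ) (hT : topologicalKrullDim T = e) (hdim : (e : WithBot ℕ∞) ≤ topologicalKrullDim R) :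
    R = Set.univ := by
  by_contra hne
  obtain ⟨l, hl⟩ := Order.le_krullDim_iff.1 hdim
  let m : LTSeries (IrreducibleCloseds T) := l.map
    (fun Z => ⟨Subtype.val '' (Z : Set R), Z.isIrreducible.image _ continuous_subtype_val.continuousOn,
      hR.isClosedEmbedding_subtypeVal.isClosedMap _ Z.isClosed⟩)
    (fun Z W h => show Subtype.val '' (Z : Set R) ⊂ Subtype.val '' (W : Set R) from
      ⟨Set.image_mono h.le, fun h' => h.not_ge ((Set.image_subset_image_iff Subtype.val_injective).1 h')⟩)
  let top : IrreducibleCloseds T := ⟨Set.univ, IrreducibleSpace.isIrreducible_univ T, isClosed_univ⟩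
  have hlt : m.last < top := by
    show (m.last : Set T) ⊂ Set.univ
    rw [Set.ssubset_univ_iff]
    intro h
    apply hne
    refine Set.eq_univ_of_univ_subset (h ▸ ?_)
    rintro _ ⟨z, -, rfl⟩
    exact z.2
  have := Order.LTSeries.length_le_krullDim (m.snoc top hlt)
  rw [← topologicalKrullDim, hT] at this
  have h' : (m.length + 1 : ℕ) ≤ e := by exact_mod_cast this
  have : m.length = e := hl
  omega

open CategoryTheory.Limits in
/-- Let X and Y be affine schemes, f : X ⟶ Y of finite type, y a point of f(X), e the dimension of the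
fibre over y, and g a Y-morphism from X to the affine space of dimension e over Y whose base change
to the fibre of the affine space over y is finite. Then that base change is surjective, and g is
locally quasi-finite on some open U ⊆ X that contains the fibre f⁻¹(y). -/
theorem result {X Y : Scheme.{u}} [IsAffine X] [IsAffine Y]
    (f : X ⟶ Y) [LocallyOfFiniteType f] (y : Y) (hy : y ∈ Set.range f.base) (e : ℕ)
    (he : topologicalKrullDim ↥(f.fiber y) = e) (g : X ⟶ 𝔸(ULift.{u} (Fin e); Y)) (hg : g ≫ (𝔸(ULift.{u} (Fin e); Y) ↘ Y) = f)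
    (hfin : IsFinite (pullback.snd g ((𝔸(ULift.{u} (Fin e); Y) ↘ Y).fiberι y))) :
    Function.Surjective (pullback.snd g ((𝔸(ULift.{u} (Fin e); Y) ↘ Y).fiberι y)).base ∧
      ∃ U : X.Opens, f.base ⁻¹' {y} ⊆ (U : Set X) ∧ LocallyQuasiFinite (U.ι ≫ g) := by
  let a := 𝔸(ULift.{u} (Fin e); Y) ↘ Y
  let p := pullback.snd g (a.fiberι y)
  haveI : IsFinite p := hfin
  haveI : LocallyOfFiniteType (g ≫ a) := hg ▸ ‹LocallyOfFiniteType f›
  haveI : LocallyOfFiniteType g := locallyOfFiniteType_of_comp g a
  refine ⟨?_, ?_⟩
  · -- the source is the fibre of `f`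
    have h1 : IsPullback (pullback.fst g (a.fiberι y)) (p ≫ a.fiberToSpecResidueField y) (g ≫ a)
        (Y.fromSpecResidueField y) :=
      (IsPullback.of_hasPullback g (a.fiberι y)).paste_vert (IsPullback.of_hasPullback a _)
    rw [hg] at h1
    have hsrc : topologicalKrullDim ↥(pullback g (a.fiberι y)) = (e : WithBot ℕ∞) := by
      rw [Groth.Agent.ConsPairLib.topDim_eq_of_iso h1.isoPullback]
      exact he
    have hfib : IsPullback (AffineSpace.map (ULift.{u} (Fin e)) (Y.fromSpecResidueField y))
        (𝔸(ULift.{u} (Fin e); Spec (Y.residueField y)) ↘ Spec (Y.residueField y)) a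
        (Y.fromSpecResidueField y) :=
      AffineSpace.isPullback_map (Y.fromSpecResidueField y)
    let E := hfib.isoPullback
    haveI : Subsingleton ↥(Spec (Y.residueField y)) := inferInstanceAs (Subsingleton (PrimeSpectrum _))
    haveI : IsIntegral (Spec (Y.residueField y)) := inferInstance
    have hA : topologicalKrullDim ↥(a.fiber y) = (e : WithBot ℕ∞) := by
      refine (Groth.Agent.ConsPairLib.topDim_eq_of_iso E).symm.trans ?_
      rw [Groth.Agent.ConsPairLib.topDim_affineSpace]
      simp
    haveI : IsIntegral (𝔸(ULift.{u} (Fin e); Spec (Y.residueField y))) := by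
      haveI : IsDomain (MvPolynomial (ULift.{u} (Fin e)) Γ(Spec (Y.residueField y), ⊤)) := inferInstance
      exact isIntegral_of_isOpenImmersion (AffineSpace.isoOfIsAffine _ (Spec (Y.residueField y))).hom
    haveI : IrreducibleSpace ↥(a.fiber y) := by
      haveI : IsIntegral (a.fiber y) := isIntegral_of_isOpenImmersion E.inv
      infer_instance
    have hcl : IsClosed (Set.range p) := p.isClosedMap.isClosed_range
    have hle : (e : WithBot ℕ∞) ≤ topologicalKrullDim ↥(Set.range p) := by
      rw [← hsrc]
      haveI : QuasiSober ↥(Set.range p) := hcl.isClosedEmbedding_subtypeVal.quasiSober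
      refine Groth.Agent.DimLift.topDim_le_of_fibres_antichain (f := Set.rangeFactorization p)
        p.continuous.rangeFactorization fun x x' h e' => ?_
      have e'' : p x = p x' := congrArg Subtype.val e'
      have hd : DiscreteTopology ↥(p ⁻¹' {p x}) :=
        isDiscrete_iff_discreteTopology.1 (p.isDiscrete_preimage_singleton (p x))
      let u : ↥(p ⁻¹' {p x}) := ⟨x, rfl⟩
      let v : ↥(p ⁻¹' {p x}) := ⟨x', e''.symm⟩
      have : u ⤳ v := Topology.IsInducing.subtypeVal.specializes_iff.1 h
      exact congrArg Subtype.val this.eq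
    exact Set.range_eq_univ.1 (Groth.Agent.S3395.eq_univ_of_topDim hcl e hA hle)
  · refine ⟨⟨{x | g.QuasiFiniteAt x}, g.isOpen_quasiFiniteAt⟩, fun x hx => ?_, ?_⟩
    · show g.QuasiFiniteAt x
      rw [Scheme.Hom.quasiFiniteAt_iff_isOpen_singleton_asFiber]
      have hgx : g x ∈ Set.range (a.fiberι y) := by
        rw [a.range_fiberι]
        show a (g x) = y
        rw [← Scheme.Hom.comp_apply, hg]
        exact hx
      obtain ⟨z, hz⟩ := hgx
      let q := pullback.fst g (a.fiberι y)
      haveI : IsPreimmersion q := inferInstance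
      have hd : _root_.IsDiscrete (g ⁻¹' {g x}) := by
        have hsub : g ⁻¹' {g x} ⊆ q '' (p ⁻¹' {z}) := fun x' (hx' : g x' = g x) => by
          obtain ⟨w, hw1, hw2⟩ := Scheme.Pullback.exists_preimage_pullback x' z (hx'.trans hz.symm)
          exact ⟨w, hw2, hw1⟩
        exact ((p.isDiscrete_preimage_singleton z).image q.isEmbedding.toIsInducing).mono hsub
      haveI : DiscreteTopology ↥(g ⁻¹' {g x}) := isDiscrete_iff_discreteTopology.1 hd
      haveI : DiscreteTopology ↥(g.fiber (g x)) := (g.fiberHomeo (g x)).symm.discreteTopology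
      exact isOpen_discrete _
    · haveI : LocallyOfFiniteType g := inferInstance
      rw [locallyQuasiFinite_iff_isDiscrete_preimage_singleton]
      intro z
      rw [isDiscrete_iff_discreteTopology, discreteTopology_iff_isOpen_singleton]
      rintro ⟨w, hw⟩
      have hqf : g.QuasiFiniteAt w.1 := w.2
      let O : Scheme.{u} := (⟨{x | g.QuasiFiniteAt x}, g.isOpen_quasiFiniteAt⟩ : X.Opens)
      have hw' : g w.1 = z := hw
      subst hw'
      have h2 := (Scheme.Hom.quasiFiniteAt_iff_isOpen_singleton_asFiber).1 hqf
      rw [← (g.fiberHomeo (g w.1)).isOpen_image, Set.image_singleton] at h2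
      obtain ⟨N, hN, hN'⟩ := isOpen_induced_iff.1 h2
      refine isOpen_induced_iff.2 ⟨Subtype.val ⁻¹' N, hN.preimage continuous_subtype_val, ?_⟩
      ext ⟨w', hw''⟩
      have h3 := Set.ext_iff.1 hN' ⟨w'.1, hw''⟩
      simp only [Set.mem_preimage, Set.mem_singleton_iff, Scheme.Hom.asFiber, Homeomorph.apply_symm_apply,
        Subtype.ext_iff] at h3 ⊢
      exact h3.trans Subtype.ext_iff.symm

end Groth.Agent.S3395
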