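import Groth.Statements.S3401
import Groth.Agent.ProConsX.Range
import Groth.Agent.ConsPropLib.Noeth

set_option autoImplicit false
open CategoryTheory AlgebraicGeometry
universe u
open EGA41

namespace Groth.Agent.S3401

/-- Let X be a scheme and E a subset of X. If E is ind-constructible then for every point x of E the set
E ∩ cl{x} is a neighbourhood of x in cl{x}; when X is locally Noetherian the converse holds. (As
published, the necessity clause quantifies over all points x of X; for x outside E the condition
cannot hold, and the argument uses x ∈ E, so it is stated here for x ∈ E.) Stated as an equivalence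
for X locally Noetherian. -/
theorem result (X : Scheme.{u}) [IsLocallyNoetherian X]
    (E : Set X) :
    ProCons.IsIndConstructible E ↔
      ∀ x ∈ E, (Subtype.val ⁻¹' E : Set ↥(closure ({x} : Set X))) ∈ nhds (⟨x, subset_closure rfl⟩ : ↥(closure ({x} : Set X))) := by
  constructor
  · intro h x hx
    obtain ⟨_, ⟨V, hV, rfl⟩, hxV, -⟩ :=
      X.isBasis_affineOpens.exists_subset_of_mem_open (Set.mem_univ x) isOpen_univ
    let p := hV.primeIdealOf ⟨x, hxV⟩
    have hp : p ∈ hV.fromSpec.base ⁻¹' E := by
      show hV.fromSpec.base p ∈ E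
      rw [hV.fromSpec_primeIdealOf]; exact hx
    obtain ⟨g, a, hg, ha, hsub⟩ := Groth.Agent.ProConsX.Range.exists_piece
      (Groth.Agent.LimTop.isOpen_cons_preimage hV.fromSpec h) hp
    rw [mem_nhds_iff]
    refine ⟨Subtype.val ⁻¹' (hV.fromSpec.base '' (PrimeSpectrum.basicOpen g : Set (PrimeSpectrum Γ(X, V)))),
      ?_, (hV.fromSpec.isOpenEmbedding.isOpenMap _ (PrimeSpectrum.basicOpen g).2).preimage
        continuous_subtype_val, ⟨p, hg, hV.fromSpec_primeIdealOf _⟩⟩
    rintro ⟨y, hy⟩ ⟨q, hq, hqy⟩
    have hs : x ⤳ y := specializes_iff_mem_closure.mpr hy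
    replace hs : hV.fromSpec.base p ⤳ hV.fromSpec.base q := by
      rw [hV.fromSpec_primeIdealOf, hqy]; exact hs
    rw [hV.fromSpec.isOpenEmbedding.isInducing.specializes_iff] at hs
    have hle : p.asIdeal ≤ PrimeSpectrum.asIdeal q := (PrimeSpectrum.le_iff_specializes p q).mpr hs
    have := hsub q hq (fun b hb => hle (ha b hb))
    show y ∈ E
    exact (show hV.fromSpec.base q = y from hqy) ▸ this
  · intro h
    refine Groth.Agent.ProConsX.Basic.isIndConstructible_iff.mpr fun U hU => ?_
    haveI : IsAffine U.toScheme := hU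
    haveI : IsNoetherianRing Γ(X, U) := IsLocallyNoetherian.component_noetherian ⟨U, hU⟩
    haveI : TopologicalSpace.NoetherianSpace U.toScheme :=
      (hU.isoSpec.hom.homeomorph).isEmbedding.isInducing.noetherianSpace
    have hind : ProCons.IsIndConstructible (U.ι.base ⁻¹' E) := by
      refine Groth.Agent.ConsPropLib.isIndConstructible_of_forall_mem fun z hz => ?_
      obtain ⟨W, hW, hWo, hxW⟩ := mem_nhds_iff.mp (h (U.ι.base z) hz)
      obtain ⟨W', hW', rfl⟩ := isOpen_induced_iff.mp hWo
      refine ⟨U.ι.base ⁻¹' W', hW'.preimage U.ι.base.hom.continuous, hxW, fun w hw => ?_⟩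
      have hcl : U.ι.base w ∈ closure {U.ι.base z} := by
        have := image_closure_subset_closure_image U.ι.base.hom.continuous
          (Set.mem_image_of_mem _ hw.2)
        rwa [Set.image_singleton] at this
      exact hW (show (⟨_, hcl⟩ : ↥(closure ({U.ι.base z} : Set X))) ∈ Subtype.val ⁻¹' W' from hw.1)
    exact Groth.Agent.LimTop.isOpen_cons_preimage (𝟙 U.toScheme) hind

end Groth.Agent.S3401
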