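import Groth.Statements.S3404
import Groth.Agent.ProConsX.Basic

set_option autoImplicit false
open CategoryTheory AlgebraicGeometry
universe u
open EGA41

namespace Groth.Agent.S3404

/-- Let f : X ⟶ Y be a morphism of schemes, x a point of X and y = f x. If f is open at x then every
generization of y is the image of a generization of x; when f is locally of finite presentation the
converse holds. -/
theorem result {X Y : Scheme.{u}} (f : X ⟶ Y) (x : X) :
    (EGA43.IsOpenAt f.base x → ∀ y' : Y, y' ⤳ f.base x → ∃ x' : X, x' ⤳ x ∧ f.base x' = y') ∧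
    (LocallyOfFinitePresentation f →
      ((EGA43.IsOpenAt f.base x) ↔ ∀ y' : Y, y' ⤳ f.base x → ∃ x' : X, x' ⤳ x ∧ f.base x' = y')) := by
  have h1 : EGA43.IsOpenAt f.base x → ∀ y' : Y, y' ⤳ f.base x → ∃ x' : X, x' ⤳ x ∧ f.base x' = y' := by
    intro hf y' hy'
    have hy : ProCons.IsProConstructible ({y'} : Set Y) :=
      FDesc.ProConsImage.isProConstructible_of_isClosed_cons fun U hU => by
        haveI : IsAffine U.toScheme := hU
        have hss : (U.ι ⁻¹' ({y'} : Set Y)).Subsingleton :=
          Set.subsingleton_singleton.preimage U.ι.isOpenEmbedding.injective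
        rcases hss.eq_empty_or_singleton with h | ⟨a, ha⟩
        · rw [h]; exact @isClosed_empty _ (constructibleTopology _)
        · rw [ha]; exact LimTop.isClosed_cons_singleton a
    have hx : x ∈ closure (f.base ⁻¹' {y'}) := mem_closure_iff_nhds.mpr fun t ht => by
      obtain ⟨w, hwt, hw⟩ := (Filter.mem_pure.mp ((specializes_iff_pure.mp hy') (hf t ht)))
      exact ⟨w, hwt, hw⟩
    obtain ⟨z, hz, hzx⟩ := LimTop.exists_specializes_of_mem_closure (LimTop.isProConstructible_preimage f hy) hx
    exact ⟨z, hzx, hz⟩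
  refine ⟨h1, fun hlfp => ⟨h1, fun h U hU => ?_⟩⟩
  obtain ⟨V, hVU, hV, hxV⟩ := mem_nhds_iff.mp hU
  refine Filter.mem_of_superset (mem_interior_iff_mem_nhds.mp ?_) (Set.image_mono hVU)
  rw [ProConsX.Basic.mem_interior_iff (ProConsX.Basic.isIndConstructible_image f (LimTop.isIndConstructible_of_isOpen hV))]
  intro y' hy'
  obtain ⟨x', hx', rfl⟩ := h y' hy'
  exact ⟨x', hx'.mem_open hV hxV, rfl⟩

end Groth.Agent.S3404
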