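import Groth.Statements.S3405
import Groth.Agent.HilbSam.Degree
import Groth.Agent.EGA41Lib.Params

set_option autoImplicit false
universe u
open EGA41

namespace Groth.Agent.S3405

/-- The degree of the Hilbert–Samuel polynomial equals the dimension: let A be a Noetherian ring with
finitely many maximal ideals, r its Jacobson radical and M a nonzero finitely generated A-module.
Then there is a polynomial P with rational coefficients such that the length of M/rⁿM is finite and
equals P(n) for all large n, and the degree of P is the dimension of M (the Krull dimension of its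
support). -/
theorem result (A : Type u) [CommRing A] [IsNoetherianRing A]
    [Finite (MaximalSpectrum A)] (M : Type u) [AddCommGroup M] [Module A M] [Module.Finite A M] [Nontrivial M] :
    ∃ P : Polynomial ℚ,
      (∃ N : ℕ, ∀ n : ℕ, N ≤ n →
        ∃ ℓ : ℕ, Module.length A (M ⧸ (Ring.jacobson A ^ n • (⊤ : Submodule A M))) = ℓ ∧ (ℓ : ℚ) = P.eval (n : ℚ)) ∧
      (P.natDegree : WithBot ℕ∞) = Module.supportDim A M := by
  haveI : IsArtinianRing (A ⧸ Ring.jacobson A) := by
    let f : MaximalSpectrum A → Ideal A := fun m => m.asIdeal
    have hf : Pairwise fun i j => IsCoprime (f i) (f j) := fun i j h =>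
      Ideal.isCoprime_of_isMaximal (fun e => h (MaximalSpectrum.ext e))
    have hj : Ring.jacobson A = ⨅ m, f m := by
      rw [Ring.jacobson_eq_sInf_isMaximal, sInf_eq_iInf']
      refine le_antisymm (le_iInf fun m => iInf_le_of_le ⟨m.asIdeal, m.isMaximal⟩ le_rfl) ?_
      exact le_iInf fun I => iInf_le_of_le ⟨I.1, I.2⟩ le_rfl
    haveI : ∀ m, IsArtinianRing (A ⧸ f m) := fun m => by
      letI := Ideal.Quotient.field (f m)
      exact inferInstance
    rw [hj]
    exact (Ideal.quotientInfRingEquivPiQuotient f hf).symm.surjective.isArtinianRing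
  obtain ⟨d, hd⟩ := EGA41Lib.exists_supportDim_eq_natCast (A := A) M
  obtain ⟨P, hP, hdeg⟩ := HilbSam.Degree.exists_polynomial le_rfl M hd
  exact ⟨P, hP, by rw [hdeg, hd]⟩

end Groth.Agent.S3405
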