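import Groth.Statements.S3407
import Groth.Agent.S2561
import Groth.Agent.S4963
import Groth.Agent.RedSub.Basic
import Groth.Agent.Thick.Topo
import Groth.Agent.OpenAt.Basic
import Groth.Agent.GRLocus.Basic

set_option autoImplicit false
open CategoryTheory AlgebraicGeometry
universe u
open EGA43

namespace Groth.Agent.S3407

/-- Let Y be locally Noetherian, f : X ⟶ Y locally of finite type, x a point of X and y = f x. Suppose f
is universally open at the generic point of every irreducible component of the fibre X_y passing
through x, and X_y is geometrically reduced at x. Then there is an open neighbourhood U of x such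
that the restriction of f to U is universally open and, for every point x' of U, the fibre of f
through x' is geometrically reduced at x'. -/
theorem result {X Y : Scheme.{u}} [IsLocallyNoetherian Y] (f : X ⟶ Y)
    [LocallyOfFiniteType f] (x : X)
    (hopen : ∀ z : ↥(f.fiber (f.base x)), f.asFiber x ∈ closure {z} →
      (∀ z' : ↥(f.fiber (f.base x)), z ∈ closure {z'} → z' = z) →
      EGA43.IsUnivOpenAt f ((f.fiberι (f.base x)).base z))
    (hred : FBase.IsGeomReducedAt (f.fiberToSpecResidueField (f.base x)) (f.asFiber x)) :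
    ∃ U : X.Opens, x ∈ U ∧ UniversallyOpen (U.ι ≫ f) ∧
      ∀ x' : X, x' ∈ U → FBase.IsGeomReducedAt (f.fiberToSpecResidueField (f.base x')) (f.asFiber x') := by
  let R := Scheme.IdealSheafData.vanishingIdeal (⊤ : TopologicalSpace.Closeds Y)
  let i := R.subschemeι
  haveI : Surjective i := ⟨fun y => by
    have h1 : y ∈ (R.support : Set Y) := by
      rw [Scheme.IdealSheafData.coe_support_vanishingIdeal]
      trivial
    rw [← Scheme.IdealSheafData.range_subschemeι] at h1
    exact h1⟩
  haveI : IsLocallyNoetherian R.subscheme := LocallyOfFiniteType.isLocallyNoetherian i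
  let f' := Limits.pullback.snd f i
  let g' := Limits.pullback.fst f i
  haveI : IsClosedImmersion g' := MorphismProperty.pullback_fst f i inferInstance
  haveI : Surjective g' := MorphismProperty.pullback_fst f i inferInstance
  have sq : IsPullback g' f' f i := IsPullback.of_hasPullback f i
  have hg : IsHomeomorph g' := Thick.Topo.isHomeomorph g'
  haveI : LocallyOfFinitePresentation f' :=
    LocallyOfFinitePresentation.iff_locallyOfFiniteType.mpr inferInstance
  obtain ⟨x', rfl⟩ := g'.surjective x
  have hbase : ∀ v, f (g' v) = i (f' v) := fun v => by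
    rw [← Scheme.Hom.comp_apply, sq.w, Scheme.Hom.comp_apply]
  have hopen' : ∀ z : ↥(f'.fiber (f' x')), f'.asFiber x' ∈ closure {z} →
      (∀ z' : ↥(f'.fiber (f' x')), z ∈ closure {z'} → z' = z) →
      EGA43.IsUnivOpenAt f' (f'.fiberι (f' x') z) := by
    intro z hz hzmax
    let w := f'.fiberι (f' x') z
    have hw : f' w = f' x' := (f'.range_fiberι (f' x')).le (Set.mem_range_self z)
    have hwy : g' w ∈ Set.range (f.fiberι (f (g' x'))) := by
      rw [f.range_fiberι]
      show f (g' w) = f (g' x')
      rw [hbase, hw, hbase]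
    obtain ⟨z₀, hz₀⟩ := hwy
    have hwx : w ⤳ x' := by
      have h1 := (specializes_iff_mem_closure.2 hz).map (f'.fiberι (f' x')).continuous
      rwa [f'.fiberι_asFiber] at h1
    refine OpenAt.isUnivOpenAt_of_isPullback (hopen z₀ ?_ fun z₁ hz₁ => ?_) sq w hz₀.symm
    · rw [← specializes_iff_mem_closure, ← (f.fiberι _).isEmbedding.isInducing.specializes_iff, hz₀,
        f.fiberι_asFiber]
      exact hwx.map g'.continuous
    · apply (f.fiberι _).isEmbedding.injective
      obtain ⟨v, hv⟩ := g'.surjective (f.fiberι _ z₁)
      have hvy : f' v ∈ ({f' x'} : Set _) := by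
        refine i.isClosedEmbedding.injective ?_
        rw [← hbase, hv, ← hbase]
        exact (f.range_fiberι _).le (Set.mem_range_self z₁)
      obtain ⟨v₁, rfl⟩ : v ∈ Set.range (f'.fiberι (f' x')) := by rw [f'.range_fiberι]; exact hvy
      have h2 : f'.fiberι (f' x') v₁ ⤳ w := by
        rw [← hg.isInducing.specializes_iff, hv, ← hz₀]
        exact (specializes_iff_mem_closure.2 hz₁).map (f.fiberι _).continuous
      rw [hzmax v₁ (specializes_iff_mem_closure.1
        ((f'.fiberι _).isEmbedding.isInducing.specializes_iff.1 h2))] at hv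
      rw [← hv, hz₀]
  have hred' := SecDim.isGeomReducedAt_baseChange sq x' hred
  have hflat := Groth.Agent.S2561.result f' x' hopen' hred' inferInstance
  let U : X.Opens := ⟨g' '' {v | (f'.stalkMap v).hom.Flat ∧
      FBase.IsGeomReducedAt (f'.fiberToSpecResidueField (f'.base v)) (f'.asFiber v)},
    hg.isOpenMap _ (Groth.Agent.S4963.result f')⟩
  refine ⟨U, ⟨x', ⟨hflat, hred'⟩, rfl⟩, ?_, ?_⟩
  · let V := g' ⁻¹ᵁ U
    haveI : Flat (V.ι ≫ f') := by
      rw [Flat.iff_flat_stalkMap]
      intro z
      rw [Scheme.Hom.stalkMap_comp]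
      obtain ⟨v, hv, hvz⟩ := z.2
      obtain rfl : v = z.1 := hg.injective hvz
      exact RingHom.Flat.respectsIso.1 _ (asIso (V.ι.stalkMap z)).commRingCatIsoToRingEquiv hv.1
    haveI : UniversallyOpen i := Thick.Topo.universallyOpen i
    haveI : Surjective (g' ∣_ U) := IsZariskiLocalAtTarget.restrict ‹Surjective g'› U
    haveI : UniversallyOpen (g' ∣_ U ≫ U.ι ≫ f) := by
      rw [morphismRestrict_ι_assoc, sq.w, ← Category.assoc]
      infer_instance
    exact Thick.Topo.universallyOpen_of_comp_surjective (g' ∣_ U) (U.ι ≫ f)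
  · rintro _ ⟨u, hu, rfl⟩
    exact SecComp.isGeomReducedAt_descend sq u hu.2

end Groth.Agent.S3407
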