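import Groth.Statements.S3413
import Groth.Agent.Wt12.Disjoint

set_option autoImplicit false
open CategoryTheory AlgebraicGeometry
universe u
open EGA43

namespace Groth.Agent.S3413

/-- Let Y be locally Noetherian with all local rings geometrically unibranch, f : X ⟶ Y separated,
quasi-finite and universally open, and n(z) the geometric number of points of the fibre over z. If n
is locally constant on Y, then the irreducible components of X are pairwise disjoint. -/
theorem result {X Y : Scheme.{u}} [IsLocallyNoetherian Y]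
    (hY : ∀ y : Y, CAlg2.IsGeomUnibranch (Y.presheaf.stalk y)) (f : X ⟶ Y)
    [IsSeparated f] [LocallyQuasiFinite f] [LocallyOfFiniteType f] [QuasiCompact f] [UniversallyOpen f]
    (hn : IsLocallyConstant (fun z : Y => MoreMor.nGeomConnComp f z)) :
    ∀ Z ∈ irreducibleComponents (X : Type u), ∀ Z' ∈ irreducibleComponents (X : Type u), Z ≠ Z' → Disjoint Z Z' := by
  intro Z hZ Z' hZ' hne
  rw [Set.disjoint_left]
  intro x hxZ hxZ'
  apply hne
  have hfin : ∀ y : Y, (f ⁻¹' {y}).Finite := fun y => f.finite_preimage_singleton y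
  obtain ⟨V, g, u, hg, hu, W, hW, hev⟩ := Wt12.exists_parts_unique f hfin (f x) fun V g _ z _ => by
    intro N hN
    obtain ⟨O, hON, hO, hzO⟩ := mem_nhds_iff.mp hN
    exact Filter.mem_of_superset ((Limits.pullback.snd f g).isOpenMap O hO |>.mem_nhds ⟨z, hzO, rfl⟩)
      (Set.image_mono hON)
  obtain ⟨p, hp₁, hp₂⟩ := Scheme.Pullback.exists_preimage_pullback x u hu.symm
  let q := Limits.pullback.snd f g
  let a := Limits.pullback.fst f g
  haveI : LocallyQuasiFinite a := EtStruct.locallyQuasiFinite_of_formallyUnramified a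
  haveI : LocallyQuasiFinite g := EtStruct.locallyQuasiFinite_of_formallyUnramified g
  haveI : QuasiCompact q := inferInstanceAs (QuasiCompact (Limits.pullback.snd f g))
  have hgen : ∀ Z₀ ∈ irreducibleComponents (X : Type u), x ∈ Z₀ →
      ∃ ζ, ζ ⤳ p ∧ closure {a ζ} = Z₀ ∧ ∀ w, w ⤳ q ζ → w = q ζ := by
    intro Z₀ hZ₀ hxZ₀
    have hgp := hZ₀.1.isGenericPoint_genericPoint
      (isClosed_of_mem_irreducibleComponents Z₀ hZ₀)
    have hmax : ∀ w, w ⤳ hZ₀.1.genericPoint → w = hZ₀.1.genericPoint :=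
      (EtStruct.closure_mem_irreducibleComponents_iff _).mp (by rw [hgp.def]; exact hZ₀)
    obtain ⟨ζ, hζp, hζ⟩ := Flat.generalizingMap a
      (show hZ₀.1.genericPoint ⤳ a p from hp₁ ▸ hgp.specializes hxZ₀)
    refine ⟨ζ, hζp, by rw [hζ]; exact hgp.def, fun w hw => ?_⟩
    obtain ⟨ζ₀, hζ₀, rfl⟩ := Wt12.exists_lift_specializes q.isOpenMap
      (fun t => q.finite_preimage_singleton t) hw
    have hmζ : ∀ y, y ⤳ ζ → y = ζ := (EtStruct.maximal_iff_map_maximal a ζ).mpr (hζ ▸ hmax)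
    rw [hmζ ζ₀ hζ₀]
  obtain ⟨ζ, hζ, hζZ, hζm⟩ := hgen Z hZ hxZ
  obtain ⟨ζ', hζ', hζZ', hζm'⟩ := hgen Z' hZ' hxZ'
  have hqu : q p = u := hp₂
  have hm : q ζ = q ζ' := Wt12.eq_of_maximal_specializes g u (hY (g u)) _ _
    (hqu ▸ hζ.map q.continuous) (hqu ▸ hζ'.map q.continuous) hζm hζm'
  have heq : ∀ᶠ n in nhds u, MoreMor.nGeomConnComp f (g n) = MoreMor.nGeomConnComp f (f x) := by
    have h1 : {z : Y | MoreMor.nGeomConnComp f z = MoreMor.nGeomConnComp f (f x)} ∈ nhds (g u) :=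
      (hn.isOpen_fiber _).mem_nhds (by rw [Set.mem_ofPred_eq, hu])
    exact g.continuous.continuousAt h1
  obtain ⟨O, hO, hOo, huO⟩ := mem_nhds_iff.mp (hev.and heq)
  have hsu : q ζ ⤳ u := hqu ▸ hζ.map q.continuous
  obtain ⟨h1, h2⟩ := hO (hsu.mem_open hOo huO)
  have hnp : ∀ y, 0 ≤ Wt12.nPts f y := fun y => by
    obtain ⟨yb, hyb⟩ := Wt.GeomPts.exists_geomPt y
    obtain ⟨-, hI⟩ := Wt12.nPts_eq_card f hfin (𝟙 Y) yb
    rw [hyb] at hI
    simp at hI
    rw [hI]
    exact Int.natCast_nonneg _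
  have hnn : Wt12.nPts f (g (q ζ)) = Wt12.nPts f (f x) := by
    rw [Wt12.nGeomConnComp_eq_nPts, Wt12.nGeomConnComp_eq_nPts, Nat.cast_inj] at h2
    have := hnp (g (q ζ)); have := hnp (f x); omega
  have hz : ζ = ζ' := h1 hnn p hqu ζ (hζ.mem_open (W p).2 (hW p hqu)) ζ'
    (hζ'.mem_open (W p).2 (hW p hqu)) rfl hm.symm
  rw [← hζZ, ← hζZ', hz]

end Groth.Agent.S3413
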