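import Groth.Statements.S3414
import Groth.Agent.ProperConn.Basic
import Groth.Agent.S3410
import Groth.Agent.S2135
import Groth.Agent.S0537
import Groth.Agent.Hens.Unique
import Groth.Agent.GrpScheme.HomFlat
import Groth.Agent.FBase.ConnComp

set_option autoImplicit false
open CategoryTheory AlgebraicGeometry
universe u
open EGA43

namespace Groth.Agent.S3414

open Limits IsLocalRing TopologicalSpace Groth.Agent

/-- Over a separably closed field the components are the geometric components. -/
lemma card_eq_nGeom {k : Type u} [Field k] [IsSepClosed k] {P : Scheme.{u}}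
    (h : P ⟶ Spec (CommRingCat.of k)) :
    ENat.card (_root_.ConnectedComponents ↥P) = MoreMor.nGeomConnComp h (closedPoint k) := by
  let Ω := AlgebraicClosure k
  have h1 := (SecComp.nGeom_eq h (FBase.BC.specMap k Ω)).2
  have h2 := ENat.card_congr (Equiv.ofBijective _
    (FBase.ConnComp.connectedComponentsMap_bcMap_bijective (k := k) h (L := k) (Ω := Ω)))
  haveI : IsIso (FBase.BC.specMap k k) := by
    rw [show FBase.BC.specMap k k = 𝟙 _ from Spec.map_id _]
    infer_instance
  rw [← Wt.GenFib.card_connectedComponents_of_homeomorph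
    (Scheme.homeoOfIso (asIso (pullback.fst h (FBase.BC.specMap k k)))), ← h2, h1]
  congr 1
  exact Subsingleton.elim (α := PrimeSpectrum k) _ _

/-- Over a base all whose strict henselization is irreducible, the count drops under specialization. -/
lemma le_of_unibranch {X Y : Scheme.{u}} [IrreducibleSpace Y] (f : X ⟶ Y) [IsProper f]
    (hmaxX : ∀ x : X, FlatOpen.EquiDim.Max x → f x = genericPoint Y) (y₀ : Y)
    (hy : CAlg2.IsGeomUnibranch (Y.presheaf.stalk y₀)) {y' : Y} (hyy : y' ⤳ y₀) :
    MoreMor.nGeomConnComp f y₀ ≤ MoreMor.nGeomConnComp f y' := by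
  obtain ⟨B, _, _, _, _, hB⟩ := S0537.result (Y.presheaf.stalk y₀)
  haveI := hB
  haveI : HenselianLocalRing B := hB.henselian
  haveI : IsSepClosed (ResidueField B) := hB.isSepClosure.sep_closed
  obtain ⟨Q, hQ, hQu⟩ := (S2135.result (A := Y.presheaf.stalk y₀) (Ash := B)).1 hy
  haveI : Module.FaithfullyFlat (Y.presheaf.stalk y₀) B :=
    Hens.faithfullyFlat_of_isStrictHenselization B
  haveI := hQ.1.1
  let η' : PrimeSpectrum B := ⟨Q, inferInstance⟩
  have hη' : ∀ t : PrimeSpectrum B, η' ⤳ t := fun t => by
    rw [← PrimeSpectrum.le_iff_specializes]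
    obtain ⟨Q', hQ', hle⟩ := Ideal.exists_minimalPrimes_le (bot_le : (⊥ : Ideal B) ≤ t.asIdeal)
    exact (hQu Q' hQ').symm.le.trans hle
  let σ : Spec (CommRingCat.of B) ⟶ Spec (Y.presheaf.stalk y₀) :=
    Spec.map (CommRingCat.ofHom (algebraMap (Y.presheaf.stalk y₀) B))
  let g := σ ≫ Y.fromSpecStalk y₀
  haveI : Flat σ :=
    (HasRingHomProperty.Spec_iff (P := @Flat)).mpr (RingHom.flat_algebraMap_iff.mpr inferInstance)
  haveI : Flat (Y.fromSpecStalk y₀) := GrpScheme.HomFlat.flat_fromSpecStalk y₀
  haveI : Flat g := inferInstanceAs (Flat (σ ≫ Y.fromSpecStalk y₀))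
  have hgc : g (closedPoint B) = y₀ := by
    show Y.fromSpecStalk y₀ (σ (closedPoint B)) = y₀
    rw [show σ (closedPoint B) = closedPoint (Y.presheaf.stalk y₀) from
      IsLocalRing.comap_closedPoint (algebraMap (Y.presheaf.stalk y₀) B)]
    exact Scheme.fromSpecStalk_closedPoint
  obtain ⟨s', hs'⟩ : ∃ s', g s' = y' := by
    obtain ⟨p, hp⟩ : y' ∈ Set.range (Y.fromSpecStalk y₀) := by rw [Scheme.range_fromSpecStalk]; exact hyy
    obtain ⟨q, hq⟩ := PrimeSpectrum.comap_surjective_of_faithfullyFlat (A := Y.presheaf.stalk y₀) (B := B) p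
    exact ⟨q, (congrArg (Y.fromSpecStalk y₀) hq).trans hp⟩
  let q := pullback.snd f g
  haveI : IsProper q := inferInstanceAs (IsProper (pullback.snd f g))
  haveI : CompactSpace ↥(pullback f g) := QuasiCompact.compactSpace_of_compactSpace q
  haveI : (pullback f g).IsSeparated := ⟨by
    rw [terminal.hom_ext (terminal.from (pullback f g)) (q ≫ terminal.from _)]; infer_instance⟩
  let res : Spec (CommRingCat.of (ResidueField B)) ⟶ Spec (CommRingCat.of B) :=
    Spec.map (CommRingCat.ofHom (residue B))
  have hres : ∀ t, res t = closedPoint B := fun t => PrimeSpectrum.ext (by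
    show t.asIdeal.comap (residue B) = maximalIdeal B
    rw [(Ideal.eq_bot_or_top t.asIdeal).resolve_right t.2.ne_top, ← RingHom.ker_eq_comap_bot]
    exact ker_residue)
  let P := pullback q res
  haveI : LocallyOfFiniteType (pullback.snd q res) := inferInstance
  haveI : QuasiCompact (pullback.snd q res) := inferInstance
  haveI : IsLocallyNoetherian P := LocallyOfFiniteType.isLocallyNoetherian (pullback.snd q res)
  haveI : CompactSpace ↥P := QuasiCompact.compactSpace_of_compactSpace (pullback.snd q res)
  haveI : IsNoetherian P := {}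
  haveI := ProperConn.finite_connectedComponents_of_noetherian (T := ↥P)
  have hP : ENat.card (_root_.ConnectedComponents ↥P) = MoreMor.nGeomConnComp f y₀ := by
    refine (card_eq_nGeom (pullback.snd q res)).trans ((Wt.GenFib.nGeom_baseChange
      ((IsPullback.of_hasPullback q res).paste_horiz (IsPullback.of_hasPullback f g)) _).2.trans ?_)
    congr 1
    exact (congrArg g (hres _)).trans hgc
  let i : P ⟶ pullback f g := pullback.fst q res
  haveI : IsClosedImmersion res := IsClosedImmersion.spec_of_surjective _ residue_surjective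
  have hr : Set.range i = q ⁻¹' PrimeSpectrum.zeroLocus (maximalIdeal B : Set B) :=
    Hens.ProperClopenLift.range_fst_mk (maximalIdeal B) q
  have hlift : ∀ W : Set ↥P, IsClopen W → ∃! U : Set ↥(pullback f g), IsClopen U ∧ i ⁻¹' U = W :=
    fun W hW => Hens.ProperClopenLift.existsUnique_preimage i.isClosedEmbedding hr
      (fun A hA hA' => Hens.ProperClopenGen.existsUnique_clopen (maximalIdeal B) q hA hA') hW
  have hbij := Hens.ClopenComponents.bijective_connectedComponentsMap i.continuous hlift
  haveI : Finite (_root_.ConnectedComponents ↥(pullback f g)) := Finite.of_surjective _ hbij.2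
  have hmax' : ∀ p : ↥(pullback f g), FlatOpen.EquiDim.Max p → q p = η' := by
    intro p hp
    have hx : FlatOpen.EquiDim.Max (pullback.fst f g p) := fun z hz => by
      obtain ⟨z', hz', rfl⟩ := Flat.generalizingMap (pullback.fst f g) hz
      rw [hp z' hz']
    have hgq : g (q p) = genericPoint Y := by
      rw [← hmaxX _ hx, ← Scheme.Hom.comp_apply, ← Scheme.Hom.comp_apply, pullback.condition]
    have hgη : g η' = genericPoint Y := by
      have h1 : g η' ⤳ genericPoint Y := hgq ▸ (hη' (q p)).map g.continuous
      exact (h1.antisymm (genericPoint_specializes _)).eq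
    obtain ⟨p', hp', hp'q, -⟩ := S3410.gen_lift (IsPullback.of_hasPullback f g).flip p (hη' (q p))
      (hgη.trans hgq.symm)
    rw [← hp'q, hp p' hp']
  let Ω := AlgebraicClosure ((Spec (CommRingCat.of B)).residueField s')
  let pt : Spec (CommRingCat.of Ω) ⟶ Spec (CommRingCat.of B) :=
    Spec.map (CommRingCat.ofHom (algebraMap ((Spec (CommRingCat.of B)).residueField s') Ω)) ≫
      (Spec (CommRingCat.of B)).fromSpecResidueField s'
  have hpt : ∀ t, pt t = s' := fun t =>
    (Scheme.Hom.comp_apply _ _ t).trans (Scheme.fromSpecResidueField_apply _ _)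
  have hn : ENat.card (_root_.ConnectedComponents ↥(pullback q pt)) = MoreMor.nGeomConnComp f y' := by
    rw [(SecComp.nGeom_eq q pt).2, (Wt.GenFib.nGeom_baseChange (IsPullback.of_hasPullback f g) _).2]
    congr 1
    exact (congrArg g (hpt _)).trans hs'
  rw [← hP, ← hn, ENat.card_congr (Equiv.ofBijective _ hbij)]
  let j := pullback.fst q pt
  refine ProperConn.card_le_of_surjective (f := j.continuous.connectedComponentsMap) fun c => ?_
  obtain ⟨w, rfl⟩ := ConnectedComponents.surjective_coe c
  obtain ⟨p, hpw, hp⟩ := FlatOpen.EquiDim.exists_max w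
  have hpC : p ∈ connectedComponent w :=
    hpw.mem_open (ProperConn.isOpen_connectedComponent w) mem_connectedComponent
  obtain ⟨z, hz, hqz⟩ : s' ∈ q '' connectedComponent w :=
    (hη' s').mem_closed (q.isClosedMap _ isClosed_connectedComponent) ⟨p, hpC, hmax' p hp⟩
  obtain ⟨b, rfl⟩ : z ∈ Set.range j := by
    rw [Scheme.Pullback.range_fst]
    exact ⟨(closedPoint Ω : PrimeSpectrum Ω), (hpt _).trans hqz.symm⟩
  refine ⟨ConnectedComponents.mk b, ?_⟩
  rw [Continuous.connectedComponentsMap_mk]
  exact ConnectedComponents.coe_eq_coe'.2 hz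

/-- Let Y be an irreducible locally Noetherian scheme, f : X ⟶ Y proper, n(y) the geometric number of
connected components of the fibre over y, and suppose every irreducible component of X dominates Y.
If y₀ is a point of Y whose local ring is geometrically unibranch, then n is lower semicontinuous at
y₀. -/
theorem result {X Y : Scheme.{u}} [IrreducibleSpace Y]
    [IsLocallyNoetherian Y] (f : X ⟶ Y) [IsProper f]
    (hdom : ∀ Z ∈ irreducibleComponents (X : Type u), closure (f.base '' Z) = Set.univ) (y₀ : Y)
    (hy : CAlg2.IsGeomUnibranch (Y.presheaf.stalk y₀)) :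
    ∃ V ∈ nhds y₀, ∀ z ∈ V, MoreMor.nGeomConnComp f y₀ ≤ MoreMor.nGeomConnComp f z := by
  have hmax : ∀ x : X, FlatOpen.EquiDim.Max x → f x = genericPoint Y := by
    intro x hx
    have h1 := hdom _ (FlatOpen.EquiDim.closure_mem_irreducibleComponents hx)
    rw [closure_image_closure f.continuous, Set.image_singleton] at h1
    exact (IsGenericPoint.eq (h1 : IsGenericPoint (f x) Set.univ) (genericPoint_spec Y))
  haveI : LocallyOfFinitePresentation f := inferInstance
  obtain ⟨m, hm⟩ := ENat.ne_top_iff_exists.1 (ProperConn.nGeom_ne_top f y₀)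
  refine ⟨_, SecDim.mem_nhds_of_generizations (E := {z | MoreMor.nGeomConnComp f z < m}ᶜ)
    (LimTop.isLocallyConstructible_compl (ProperConn.isLocallyConstructible_lt f m))
    fun y' h' => ?_, fun z hz => ?_⟩
  · exact not_lt.2 (hm.le.trans (le_of_unibranch f hmax y₀ hy h'))
  · exact hm.ge.trans (not_lt.1 hz)

end Groth.Agent.S3414
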