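import Groth.Statements.S3417
import Groth.Agent.SecComp.DVR
-- import your own Groth.Agent.* helpers here

set_option autoImplicit false
open CategoryTheory AlgebraicGeometry
universe u
open EGA43

namespace Groth.Agent.S3417

/-- Let A be a discrete valuation ring, Y = Spec A with closed point a and generic point b, and f : X ⟶
Y a morphism locally of finite type which is open (as a map of spaces). If X is connected and the
fibre over a is a reduced scheme, then the fibre over b is connected. (Stated with 'preconnected',
which also covers the empty case; a is the closed point and b the point specialising to every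
point.) -/
theorem result (A : Type u) [CommRing A] [IsDomain A]
    [IsDiscreteValuationRing A] {X : Scheme.{u}} (f : X ⟶ Spec (CommRingCat.of A)) [LocallyOfFiniteType f]
    (hopen : IsOpenMap f.base) [PreconnectedSpace X]
    (a b : ↥(Spec (CommRingCat.of A))) (ha : IsClosed ({a} : Set ↥(Spec (CommRingCat.of A))))
    (hb : ∀ z : ↥(Spec (CommRingCat.of A)), b ⤳ z)
    (hred : AlgebraicGeometry.IsReduced (f.fiber a)) :
    PreconnectedSpace ↥(f.fiber b) := by
  haveI : IsLocallyNoetherian X := LocallyOfFiniteType.isLocallyNoetherian f
  have ha' : a = IsLocalRing.closedPoint A :=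
    ((IsLocalRing.specializes_closedPoint a).mem_closed ha rfl).symm
  have hb' : b = genericPoint ↥(Spec (CommRingCat.of A)) :=
    ((hb _).antisymm (genericPoint_specializes b)).eq
  subst ha' hb'
  have hdense : Dense (f ⁻¹' {genericPoint ↥(Spec (CommRingCat.of A))}) := by
    rw [dense_iff_inter_open]
    rintro U hU ⟨x, hx⟩
    obtain ⟨z, hz, hfz⟩ := (genericPoint_specializes (f x)).mem_open (hopen U hU) ⟨x, hx, rfl⟩
    exact ⟨z, hz, hfz⟩
  have h := Groth.Agent.SecComp.DVR.isPreconnected_generic A f hred hdense
  haveI : PreconnectedSpace ↥(f ⁻¹' {genericPoint ↥(Spec (CommRingCat.of A))}) :=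
    Subtype.preconnectedSpace h
  exact (f.fiberHomeo _).symm.surjective.denseRange.preconnectedSpace (f.fiberHomeo _).symm.continuous

end Groth.Agent.S3417
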