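import Groth.Statements.S3418
import Groth.Agent.Wt12.Count
-- import your own Groth.Agent.* helpers here

set_option autoImplicit false
open CategoryTheory AlgebraicGeometry
universe u
open EGA43

namespace Groth.Agent.S3418

/-- Let f : X ⟶ Y be flat, locally of finite presentation, separated and quasi-finite, and let n(y) be
the geometric number of points of the fibre over y. Then n is lower semicontinuous on Y, and if n is
constant on a neighbourhood of a point y₀ then f is proper over some open neighbourhood of y₀. -/
theorem result {X Y : Scheme.{u}} (f : X ⟶ Y) [Flat f]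
    [LocallyOfFinitePresentation f] [IsSeparated f] [LocallyQuasiFinite f] [QuasiCompact f] :
    LowerSemicontinuous (fun z : Y => MoreMor.nGeomConnComp f z) ∧
      ∀ y₀ : Y, (∃ V ∈ nhds y₀, ∀ z ∈ V, MoreMor.nGeomConnComp f z = MoreMor.nGeomConnComp f y₀) →
        ∃ U : Y.Opens, y₀ ∈ U ∧ IsProper (f ∣_ U) := by
  have hopen : ∀ y : Y, ∀ (V : Scheme.{u}) (g : V ⟶ Y), Etale g → ∀ z : ↥(Limits.pullback f g),
      f (Limits.pullback.fst f g z) = y → EGA43.IsOpenAt (Limits.pullback.snd f g).base z :=
    fun _ V g _ z _ U hU => by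
      have : IsOpenMap (Limits.pullback.snd f g).base := (Limits.pullback.snd f g).isOpenMap
      exact this.image_mem_nhds hU
  refine ⟨fun y c hc => (Groth.Agent.Wt12.eventually_le f y (hopen y)).mono fun v hv => hc.trans_le hv,
    fun y₀ h => ?_⟩
  obtain ⟨U, hyU, hU⟩ := Groth.Agent.Wt12.exists_isFinite_restrict f y₀ (hopen y₀) h
  exact ⟨U, hyU, inferInstance⟩

end Groth.Agent.S3418
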