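import Groth.Statements.S3419
import Groth.Agent.SecDim.Basic
import Groth.Agent.S4952
-- import your own Groth.Agent.* helpers here

set_option autoImplicit false
open CategoryTheory AlgebraicGeometry
universe u
open EGA43

namespace Groth.Agent.S3419

/-- Let Y be locally Noetherian, f : X ⟶ Y locally of finite type and g a section of f; for y in Y let
X⁰_y be the connected component of the fibre f⁻¹(y) containing g(y). Suppose every X⁰_y is
irreducible. Then y ↦ dim X⁰_y is upper semicontinuous on Y; and if this function is constant on a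
neighbourhood of a point y, then X⁰_y is contained in the closure of X⁰_{y'} for every generization
y' of y. -/
theorem result {X Y : Scheme.{u}} [IsLocallyNoetherian Y] (f : X ⟶ Y)
    [LocallyOfFiniteType f] (g : Y ⟶ X) (hg : g ≫ f = 𝟙 Y)
    (hirr : ∀ y : Y, IsIrreducible (connectedComponentIn (f.base ⁻¹' {y}) (g.base y))) :
    UpperSemicontinuous (fun y : Y => topologicalKrullDim ↥(connectedComponentIn (f.base ⁻¹' {y}) (g.base y))) ∧
      ∀ y : Y, (∃ V ∈ nhds y, ∀ z ∈ V, topologicalKrullDim ↥(connectedComponentIn (f.base ⁻¹' {z}) (g.base z)) = topologicalKrullDim ↥(connectedComponentIn (f.base ⁻¹' {y}) (g.base y))) →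
        ∀ y' : Y, y' ⤳ y → connectedComponentIn (f.base ⁻¹' {y}) (g.base y) ⊆ closure (connectedComponentIn (f.base ⁻¹' {y'}) (g.base y')) := by
  have hgy : ∀ y, f (g y) = y := fun y => by rw [← Scheme.Hom.comp_apply, hg]; rfl
  refine ⟨?_, fun y ⟨V, hV, hVd⟩ y' hy' => ?_⟩
  · have key : ∀ y : Y, topologicalKrullDim ↥(connectedComponentIn (f.base ⁻¹' {y}) (g.base y)) =
        FlatMor.fibreDimAt f (g y) := fun y => SecDim.topDim_component_eq f (hgy y) (hirr y)
    intro y t ht
    obtain ⟨n, m, -, -, hfd⟩ := FibSemi.fibreDimAt_eq_add f (g y)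
    have hopen := (FlatMisc.FibreDimScheme.isOpen_fibreDimAt_le (f := f) (n + m)).preimage g.continuous
    filter_upwards [hopen.mem_nhds (show FlatMor.fibreDimAt f (g y) ≤ ((n + m : ℕ) : WithBot ℕ∞) from hfd.le)] with z hz
    show topologicalKrullDim ↥(connectedComponentIn (f.base ⁻¹' {z}) (g.base z)) < t
    rw [key z]
    exact lt_of_le_of_lt hz (by rw [← hfd, ← key y]; exact ht)
  · have hy'V : y' ∈ V := interior_subset (hy'.mem_open isOpen_interior (mem_interior_iff_mem_nhds.mpr hV))
    refine (S4952.result f g hg y y' hy' ⟨_, connectedComponentIn_subset _ _, hirr y', fun Z' hZ'i hZ' hle =>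
      Set.Subset.antisymm (hZ'i.isConnected.isPreconnected.subset_connectedComponentIn
        (hle (mem_connectedComponentIn (hgy y'))) hZ') hle, mem_connectedComponentIn (hgy y'), rfl⟩).2
      (hirr y) (hVd y' hy'V).symm

end Groth.Agent.S3419
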