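import Groth.Statements.S3428
import Groth.Agent.FibTop.Loci

set_option autoImplicit false
open CategoryTheory AlgebraicGeometry
universe u
open EGA43

namespace Groth.Agent.S3428

/-- Let f : X ⟶ S be of finite presentation (locally of finite presentation, quasi-compact,
quasi-separated) and Z a locally constructible subset of X. Then the set of points s of S such that
Z ∩ f⁻¹(s) is closed in the fibre f⁻¹(s) (with the topology induced from X), the set of s such that
it is open in the fibre, and the set of s such that it is locally closed in the fibre, are locally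
constructible in S. -/
theorem result {X S : Scheme.{u}} (f : X ⟶ S)
    [LocallyOfFinitePresentation f] [QuasiCompact f] [QuasiSeparated f] (Z : Set X)
    (hZ : Topology.IsLocallyConstructible Z) :
    Topology.IsLocallyConstructible {s : S | IsClosed (Subtype.val ⁻¹' Z : Set ↥(f.base ⁻¹' {s}))} ∧
      Topology.IsLocallyConstructible {s : S | IsOpen (Subtype.val ⁻¹' Z : Set ↥(f.base ⁻¹' {s}))} ∧
      Topology.IsLocallyConstructible {s : S | IsLocallyClosed (Subtype.val ⁻¹' Z : Set ↥(f.base ⁻¹' {s}))} := by
  refine ⟨?_, ?_, ?_⟩
  · convert FibTop.isLocallyConstructible_locus FibTop.bc_closedOp FibTop.gen_closedOp f hZ hZ using 1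
    exact Set.ext fun s => (FibTop.mem_locus_closed f Z Z s).symm
  · convert FibTop.isLocallyConstructible_locus FibTop.bc_closedOp FibTop.gen_closedOp f
      (LimTop.isLocallyConstructible_compl hZ) (LimTop.isLocallyConstructible_compl hZ) using 1
    refine Set.ext fun s => Iff.trans ?_ (FibTop.mem_locus_closed f Zᶜ Zᶜ s).symm
    rw [Set.preimage_compl, isClosed_compl_iff]
    rfl
  · convert FibTop.isLocallyConstructible_locus FibTop.bc_locClosedOp FibTop.gen_locClosedOp f hZ hZ
      using 1
    exact Set.ext fun s => (FibTop.mem_locus_locClosed f Z Z s).symm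

end Groth.Agent.S3428
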