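import Groth.Statements.S3429
import Groth.Agent.FDesc.QuasiFlat
import Groth.Agent.FDesc.BaseChangeStalk
import Mathlib.AlgebraicGeometry.Morphisms.UniversallyOpen
import Mathlib.RingTheory.LocalRing.Module

set_option autoImplicit false
open CategoryTheory AlgebraicGeometry
universe u
open EGA42

namespace Groth.Agent.S3429

open CategoryTheory.Limits in
open scoped TensorProduct in
theorem subsingleton_of_tensor {B C : Type u} [CommRing B] [CommRing C] [IsLocalRing B] [IsLocalRing C]
    [Algebra B C] [IsLocalHom (algebraMap B C)] (M : Type u) [AddCommGroup M] [Module B M]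
    [Module.Finite B M] [Subsingleton (C ⊗[B] M)] : Subsingleton M := by
  rw [← IsLocalRing.subsingleton_tensorProduct (R := B)]
  let K := IsLocalRing.ResidueField B
  let L := IsLocalRing.ResidueField C
  let : Algebra K L := (IsLocalRing.ResidueField.map (algebraMap B C)).toAlgebra
  have : IsScalarTower B K L := .of_algebraMap_eq fun b => rfl
  have h1 : Subsingleton (L ⊗[B] M) :=
    (TensorProduct.AlgebraTensorModule.cancelBaseChange B C C L M).symm.injective.subsingleton
  have h2 : Subsingleton (L ⊗[K] (K ⊗[B] M)) :=
    (TensorProduct.AlgebraTensorModule.cancelBaseChange B K K L M).injective.subsingleton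
  exact (Module.FaithfullyFlat.subsingleton_tensorProduct_iff_right K L).mp h2

open CategoryTheory.Limits in
open scoped TensorProduct in
/-- A morphism of schemes which is quasi-flat (some quasi-coherent module of finite type on the source,
flat over the base, has support the whole source) and locally of finite presentation is universally
open. -/
theorem result {X Y : Scheme.{u}} (f : X ⟶ Y)
    (hf : FDesc.IsQuasiFlat f) [LocallyOfFinitePresentation f] : UniversallyOpen f := by
  obtain ⟨M, hM, hfl, hne⟩ := hf
  refine ⟨MorphismProperty.universally_mk' _ _ fun {T} g _ => isOpenMap_of_generalizingMap _ ?_⟩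
  intro z t' ht'
  obtain ⟨p, rfl⟩ : t' ∈ Set.range (T.fromSpecStalk (pullback.fst g f z)) := by
    rw [Scheme.range_fromSpecStalk]; exact ht'
  let q := pullback.fst g f
  let pr := pullback.snd g f
  let N := (Scheme.Modules.pullback pr).obj M
  have hN : FlatMod.IsFlatOverAt q N z :=
    Groth.Agent.FDesc.BaseChangeStalk.flatOverAt_baseChange (IsPullback.of_hasPullback g f).flip z M (hfl _)
  have := Groth.Agent.FDesc.QuasiFlat.finite_stalk_of_isCoh M hM (pr z)
  have := hne (pr z)
  obtain ⟨e, -⟩ := Groth.Agent.FDesc.Stalk.exists_stalk_equiv pr M z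
  algebraize [(q.stalkMap z).hom]
  let := FlatMod.moduleStalkOver q N z
  let : Algebra (X.presheaf.stalk (pr z)) ((pullback g f).presheaf.stalk z) :=
    (pr.stalkMap z).hom.toAlgebra
  have hl : IsLocalHom (algebraMap (X.presheaf.stalk (pr z)) ((pullback g f).presheaf.stalk z)) :=
    pr.toLRSHom.prop z
  have : IsScalarTower (T.presheaf.stalk (q z)) ((pullback g f).presheaf.stalk z) (N.presheaf.stalk z) :=
    IsScalarTower.of_algebraMap_smul fun _ _ => rfl
  have : Module.Flat (T.presheaf.stalk (q z)) (N.presheaf.stalk z) := hN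
  have : Module.Finite ((pullback g f).presheaf.stalk z) (N.presheaf.stalk z) :=
    Module.Finite.equiv e
  have : Nontrivial (N.presheaf.stalk z) := by
    refine not_subsingleton_iff_nontrivial.mp fun hs => ?_
    have : Subsingleton ((pullback g f).presheaf.stalk z ⊗[X.presheaf.stalk (pr z)] M.presheaf.stalk (pr z)) :=
      e.injective.subsingleton
    exact not_subsingleton (M.presheaf.stalk (pr z))
      (subsingleton_of_tensor (B := X.presheaf.stalk (pr z)) (C := (pullback g f).presheaf.stalk z) (M.presheaf.stalk (pr z)))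
  have : IsLocalHom (algebraMap (T.presheaf.stalk (q z)) ((pullback g f).presheaf.stalk z)) :=
    q.toLRSHom.prop z
  have : p.asIdeal.IsPrime := PrimeSpectrum.isPrime p
  obtain ⟨P, hP, hPp⟩ := Groth.Agent.FDesc.QuasiFlat.exists_prime_comap_eq
    (B := (pullback g f).presheaf.stalk z) (N.presheaf.stalk z) p.asIdeal
  refine ⟨(pullback g f).fromSpecStalk z ⟨P, hP⟩, ?_, ?_⟩
  · have : (pullback g f).fromSpecStalk z ⟨P, hP⟩ ∈ Set.range ((pullback g f).fromSpecStalk z) := ⟨_, rfl⟩
    rwa [Scheme.range_fromSpecStalk] at this
  · change ((pullback g f).fromSpecStalk z ≫ q) ⟨P, hP⟩ = _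
    rw [← Scheme.SpecMap_stalkMap_fromSpecStalk q, Scheme.Hom.comp_apply]
    exact congrArg (T.fromSpecStalk (q z)) (PrimeSpectrum.ext hPp)

end Groth.Agent.S3429
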