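import Groth.Statements.S3431
import Groth.Agent.Goldman.Basic

set_option autoImplicit false
universe u
open EGA43

namespace Groth.Agent.S3431

/-- Let A be a Noetherian ring. Then A is a Jacobson ring if and only if there is no prime ideal p of A
such that A/p is semi-local (finitely many maximal ideals) of Krull dimension 1. -/
theorem result (A : Type u) [CommRing A] [IsNoetherianRing A] :
    IsJacobsonRing A ↔
      ∀ (p : Ideal A) [p.IsPrime], ¬ (Finite (MaximalSpectrum (A ⧸ p)) ∧ ringKrullDim (A ⧸ p) = 1) := by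
  constructor
  · rintro h p _ ⟨hfin, hdim⟩
    haveI : IsJacobsonRing (A ⧸ p) := inferInstance
    have hj : Ring.jacobson (A ⧸ p) = ⊥ := by
      rw [← Ideal.jacobson_bot, IsJacobsonRing.out inferInstance (Ideal.isPrime_bot (α := A ⧸ p)).isRadical]
    classical
    have := Fintype.ofFinite (MaximalSpectrum (A ⧸ p))
    obtain ⟨m, -, hm⟩ : ∃ m ∈ (Finset.univ : Finset (MaximalSpectrum (A ⧸ p))), m.asIdeal ≤ ⊥ := by
      apply (Ideal.isPrime_bot.inf_le').mp
      rw [← hj, Ring.jacobson_eq_sInf_isMaximal]
      exact le_sInf fun I hI => Finset.inf_le (f := fun m : MaximalSpectrum (A ⧸ p) => m.asIdeal) (b := ⟨I, hI⟩) (Finset.mem_univ _)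
    have hfld : IsField (A ⧸ p) := by
      by_contra hnf
      exact Ring.ne_bot_of_isMaximal_of_not_isField m.isMaximal hnf (le_bot_iff.mp hm)
    rw [ringKrullDim_eq_zero_of_isField hfld] at hdim
    exact zero_ne_one hdim
  · intro h
    refine Groth.Agent.Goldman.isJacobsonRing_of_forall_finite fun K _ _ hft => ?_
    let p := RingHom.ker (algebraMap A K)
    haveI : p.IsPrime := RingHom.ker_isPrime _
    letI : Algebra (A ⧸ p) K := (RingHom.kerLift (algebraMap A K)).toAlgebra
    haveI : IsScalarTower A (A ⧸ p) K := IsScalarTower.of_algebraMap_eq fun x => rfl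
    have hft' : Algebra.FiniteType (A ⧸ p) K := Algebra.FiniteType.of_restrictScalars_finiteType A _ _
    obtain ⟨f, hf, hall⟩ := Groth.Agent.Goldman.exists_forall_mem_of_finiteType_field K
      (RingHom.kerLift_injective (algebraMap A K)) hft'
    obtain ⟨h1, h2⟩ := Groth.Agent.Goldman.finite_and_dimLE_one_of_forall_mem hf hall
    have hfld : IsField (A ⧸ p) := by
      by_contra hnf
      refine h p ⟨Finite.of_injective MaximalSpectrum.toPrimeSpectrum MaximalSpectrum.toPrimeSpectrum_injective, ?_⟩
      refine le_antisymm (by exact_mod_cast Ring.krullDimLE_iff.mp h2) ?_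
      obtain ⟨M, hM⟩ := Ideal.exists_maximal (A ⧸ p)
      refine le_trans ?_ (Ideal.height_le_ringKrullDim_of_ne_top hM.ne_top)
      haveI := hM.isPrime
      exact_mod_cast ENat.one_le_iff_ne_zero.mpr fun e =>
        Ring.ne_bot_of_isMaximal_of_not_isField hM hnf (Ideal.height_eq_zero_iff_eq_bot.mp e)
    letI := hfld.toField
    haveI : Module.Finite (A ⧸ p) K := finite_of_finite_type_of_isJacobsonRing _ _
    exact Module.Finite.trans (A ⧸ p) K

end Groth.Agent.S3431
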