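import Groth.Statements.S3432
import Groth.Agent.Goldman.Topology

set_option autoImplicit false
open CategoryTheory AlgebraicGeometry
universe u
open EGA43

namespace Groth.Agent.S3432

/-- Let X be a locally Noetherian scheme and Y a closed subset of X such that every nonempty closed
subset of X meets Y. Then the open subscheme X ∖ Y (equivalently, the subspace X ∖ Y) is a Jacobson
space. -/
theorem result (X : Scheme.{u}) [IsLocallyNoetherian X] (Y : Set X)
    (hY : IsClosed Y) (hmeet : ∀ Z : Set X, IsClosed Z → Z.Nonempty → (Z ∩ Y).Nonempty) :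
    JacobsonSpace ↥(Yᶜ) := by
  refine Groth.Agent.Goldman.jacobsonSpace_compl Y hY (fun Z hZ hne => ?_) (fun z hz t w h1 h2 => ?_) hmeet
  · obtain ⟨x, hx⟩ := hne
    obtain ⟨U, hU, hxU, -⟩ := exists_isAffineOpen_mem_and_subset (X := X) (x := x) (U := ⊤) trivial
    haveI : IsNoetherianRing Γ(X, U) := IsLocallyNoetherian.component_noetherian ⟨U, hU⟩
    haveI := noetherianSpace_of_isAffineOpen U hU
    have hc : IsCompact (Z ∩ (U : Set X)) := by
      haveI : TopologicalSpace.NoetherianSpace (U : Set X) := noetherianSpace_of_isAffineOpen U hU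
      have := TopologicalSpace.NoetherianSpace.isCompact (Subtype.val ⁻¹' Z : Set (U : Set X))
      have := this.image continuous_subtype_val
      rwa [Subtype.image_preimage_coe, Set.inter_comm] at this
    obtain ⟨z, hz, hlc⟩ := Groth.Agent.Goldman.exists_isLocallyClosed_singleton hc ⟨x, hx, hxU⟩
      (hZ.inter U.isOpen.isLocallyClosed)
    exact ⟨z, hz.1, hlc⟩
  · obtain ⟨U, hU, hwU, -⟩ := exists_isAffineOpen_mem_and_subset (X := X) (x := w) (U := ⊤) trivial
    have htU := h2.mem_open U.isOpen hwU
    have hzU := h1.mem_open U.isOpen htU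
    haveI : IsNoetherianRing Γ(X, U) := IsLocallyNoetherian.component_noetherian ⟨U, hU⟩
    obtain ⟨z', rfl⟩ : z ∈ Set.range hU.fromSpec := by rw [hU.range_fromSpec]; exact hzU
    obtain ⟨t', rfl⟩ : t ∈ Set.range hU.fromSpec := by rw [hU.range_fromSpec]; exact htU
    obtain ⟨w', rfl⟩ : w ∈ Set.range hU.fromSpec := by rw [hU.range_fromSpec]; exact hwU
    have hi := hU.fromSpec.isOpenEmbedding
    rw [hi.isInducing.specializes_iff] at h1 h2
    have hz' : IsLocallyClosed ({z'} : Set _) := by
      have := hz.preimage hi.continuous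
      rwa [show hU.fromSpec ⁻¹' {hU.fromSpec z'} = {z'} from by
        ext a; simp [hi.injective.eq_iff]] at this
    rcases Groth.Agent.Goldman.eq_or_eq_of_isLocallyClosed_singleton (A := Γ(X, U)) hz' h1 h2 with h | h
    · exact Or.inl (by rw [h])
    · exact Or.inr (Or.inl (by rw [h]))

end Groth.Agent.S3432
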