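import Groth.Statements.S3434
import Groth.Agent.DVRProper.Basic

set_option autoImplicit false
open CategoryTheory AlgebraicGeometry
universe u
open EGA43

namespace Groth.Agent.S3434

/-- Let Y be an integral locally Noetherian scheme, X an integral scheme, f : X ⟶ Y separated, dominant
and of finite type, and y a point of Y; write K for the function field of X (the local ring at its
generic point ξ), into which O_{Y,y} maps through O_{Y,f ξ}. Then f is proper over some open
neighbourhood of y if and only if every discrete valuation ring of K which dominates (the image of)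
O_{Y,y} dominates (the image of) O_{X,x} for some point x of X; such an x lies over y. -/
theorem result {X Y : Scheme.{u}} [IsIntegral X] [IsIntegral Y] [IsLocallyNoetherian Y]
    (f : X ⟶ Y) [IsSeparated f] [IsDominant f] [LocallyOfFiniteType f] [QuasiCompact f] (y : Y)
    (hξ : f.base (genericPoint X) ⤳ y) :
    (∃ U : Y.Opens, y ∈ U ∧ IsProper (f ∣_ U)) ↔
      ∀ A : ValuationSubring X.functionField, IsDiscreteValuationRing A →
        (∀ r : Y.presheaf.stalk y, A.valuation ((Y.presheaf.stalkSpecializes hξ ≫ f.stalkMap (genericPoint X)) r) ≤ 1) →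
        (∀ r ∈ IsLocalRing.maximalIdeal (Y.presheaf.stalk y),
            A.valuation ((Y.presheaf.stalkSpecializes hξ ≫ f.stalkMap (genericPoint X)) r) < 1) →
        ∃ x : X, f.base x = y ∧
          (∀ r : X.presheaf.stalk x, A.valuation (X.presheaf.stalkSpecializes (genericPoint_specializes x) r) ≤ 1) ∧
          (∀ r ∈ IsLocalRing.maximalIdeal (X.presheaf.stalk x),
            A.valuation (X.presheaf.stalkSpecializes (genericPoint_specializes x) r) < 1) := by
  set ξ := genericPoint X
  set Φ := Y.presheaf.stalkSpecializes hξ ≫ f.stalkMap ξ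
  have hΦ : Spec.map Φ ≫ Y.fromSpecStalk y = X.fromSpecStalk ξ ≫ f := by
    rw [Spec.map_comp, Category.assoc, Scheme.SpecMap_stalkSpecializes_fromSpecStalk,
      Scheme.SpecMap_stalkMap_fromSpecStalk]
  have hval : ∀ (K : Type u) [Field K] (A : ValuationSubring K) (R : CommRingCat.{u})
      (_ : IsLocalRing R) (ψ : R ⟶ CommRingCat.of A),
      Spec.map ψ (IsLocalRing.closedPoint A) = IsLocalRing.closedPoint R →
      ∀ r, (∀ _ : r ∈ IsLocalRing.maximalIdeal R, A.valuation (ψ r : K) < 1) := by
    intro K _ A R _ ψ hψ r hr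
    rw [← show Ideal.comap ψ.hom (IsLocalRing.maximalIdeal A) = IsLocalRing.maximalIdeal R from
      congrArg PrimeSpectrum.asIdeal hψ] at hr
    exact (A.valuation_lt_one_iff _).mp hr
  have hclosed : ∀ (A : Type u) [CommRing A] [IsLocalRing A] (R : CommRingCat.{u}) (_ : IsLocalRing R)
      (ψ : R ⟶ CommRingCat.of A), (∀ r ∈ IsLocalRing.maximalIdeal R, ψ r ∈ IsLocalRing.maximalIdeal A) →
      Spec.map ψ (IsLocalRing.closedPoint A) = IsLocalRing.closedPoint R := by
    intro A _ _ R _ ψ hψ
    refine PrimeSpectrum.ext ?_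
    exact ((IsLocalRing.maximalIdeal.isMaximal R).eq_of_le (Ideal.IsPrime.ne_top'
      (I := Ideal.comap ψ.hom (IsLocalRing.maximalIdeal A))) hψ).symm
  constructor
  · rintro ⟨U, hyU, hU⟩ A - hA1 hA2
    haveI := hU
    let φ : Y.presheaf.stalk y ⟶ CommRingCat.of A := CommRingCat.ofHom
      (Φ.hom.codRestrict A.toSubring fun r => (A.valuation_le_one_iff _).mp (hA1 r))
    let i₂ : Spec (CommRingCat.of A) ⟶ Y := Spec.map φ ≫ Y.fromSpecStalk y
    have hi₂y : i₂ (IsLocalRing.closedPoint A) = y :=
      (congrArg (Y.fromSpecStalk y) (hclosed A (Y.presheaf.stalk y) inferInstance φ fun r hr =>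
        (A.valuation_lt_one_iff _).mpr (hA2 r hr))).trans Y.fromSpecStalk_closedPoint
    have hi₂U : Set.range i₂ ⊆ Set.range U.ι := by
      rw [Scheme.Opens.range_ι]
      exact Groth.Agent.RatMapExt.range_subset_of_closedPoint i₂ U (hi₂y.symm ▸ hyU)
    have hgen : X.fromSpecStalk ξ ≫ f =
        Spec.map (CommRingCat.ofHom (algebraMap A X.functionField)) ≫ i₂ := by
      rw [← hΦ, ← Spec.map_comp_assoc]
      rfl
    have hi₁U : Set.range (X.fromSpecStalk ξ) ⊆ Set.range (f ⁻¹ᵁ U).ι := by
      rw [Scheme.Opens.range_ι]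
      rintro _ ⟨w, rfl⟩
      show f (X.fromSpecStalk ξ w) ∈ U
      rw [← Scheme.Hom.comp_apply, hgen, ← SetLike.mem_coe, ← Scheme.Opens.range_ι]
      exact hi₂U ⟨_, rfl⟩
    let sq : ValuativeCommSq (f ∣_ U) :=
      { R := A
        K := X.functionField
        i₁ := IsOpenImmersion.lift (f ⁻¹ᵁ U).ι (X.fromSpecStalk ξ) hi₁U
        i₂ := IsOpenImmersion.lift U.ι i₂ hi₂U
        commSq := ⟨by
          rw [← cancel_mono U.ι, Category.assoc, morphismRestrict_ι, Category.assoc,
            IsOpenImmersion.lift_fac, ← Category.assoc, IsOpenImmersion.lift_fac, hgen]⟩ }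
    have hex : ValuativeCriterion.Existence (f ∣_ U) := by
      have h := (inferInstance : UniversallyClosed (f ∣_ U))
      rw [UniversallyClosed.eq_valuativeCriterion] at h
      exact h.1
    obtain ⟨⟨l', hl₁, hl₂⟩⟩ := (hex sq).exists_lift
    let l : Spec (CommRingCat.of A) ⟶ X := l' ≫ (f ⁻¹ᵁ U).ι
    have hl : Spec.map (CommRingCat.ofHom (algebraMap A X.functionField)) ≫ l = X.fromSpecStalk ξ :=
      (Category.assoc _ _ _).symm.trans
        ((congrArg (· ≫ (f ⁻¹ᵁ U).ι) hl₁).trans (IsOpenImmersion.lift_fac _ _ hi₁U))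
    have hlf : l ≫ f = i₂ := by
      show (l' ≫ _) ≫ f = i₂
      rw [Category.assoc, ← morphismRestrict_ι, ← Category.assoc, hl₂]
      exact IsOpenImmersion.lift_fac _ _ hi₂U
    set x := l (IsLocalRing.closedPoint A)
    let ψ : X.presheaf.stalk x ⟶ CommRingCat.of A := Scheme.stalkClosedPointTo l
    have hψ : Spec.map ψ ≫ X.fromSpecStalk x = l := Scheme.Spec_stalkClosedPointTo_fromSpecStalk l
    have hψe : ψ ≫ CommRingCat.ofHom (algebraMap A X.functionField) =
        X.presheaf.stalkSpecializes (genericPoint_specializes x) := by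
      apply Spec.map_injective
      rw [← cancel_mono (X.fromSpecStalk x), Spec.map_comp, Category.assoc, hψ, hl,
        Scheme.SpecMap_stalkSpecializes_fromSpecStalk]
    refine ⟨x, by rw [← hi₂y, ← hlf, Scheme.Hom.comp_apply], fun r => ?_, fun r hr => ?_⟩
    · rw [← hψe]
      exact (A.valuation_le_one_iff _).mpr (ψ r).2
    · rw [← hψe]
      refine (A.valuation_lt_one_iff _).mp ?_
      by_contra hu
      rw [IsLocalRing.mem_maximalIdeal, mem_nonunits_iff, not_not] at hu
      exact hr ((isUnit_map_iff (Scheme.stalkClosedPointTo l).hom r).mp hu)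
  · intro hyp
    refine Groth.Agent.DVRProper.exists_isProper_nhd f y fun η hη W hW g hg hcomp => ?_
    obtain rfl : ξ = η := hη ξ (genericPoint_specializes η)
    let ρ : X.functionField →+* X.residueField ξ := (X.residue ξ).hom
    let re := RingEquiv.ofBijective ρ ⟨ρ.injective, X.residue_surjective ξ⟩
    let A := W.comap ρ
    let eA : A ≃+* W :=
      { toFun := fun a => ⟨ρ a, a.2⟩
        invFun := fun w => ⟨re.symm w, by
          show ρ (re.symm w) ∈ W
          rw [show ρ (re.symm w) = re (re.symm w) from rfl, re.apply_symm_apply]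
          exact w.2⟩
        left_inv := fun a => Subtype.ext (re.symm_apply_apply a)
        right_inv := fun w => Subtype.ext (re.apply_symm_apply w)
        map_mul' := fun a b => Subtype.ext (map_mul ρ _ _)
        map_add' := fun a b => Subtype.ext (map_add ρ _ _) }
    haveI : IsDiscreteValuationRing A := IsDiscreteValuationRing.RingEquivClass.isDiscreteValuationRing eA.symm
    obtain ⟨φ, hφ, hgφ⟩ : ∃ φ : Y.presheaf.stalk y ⟶ CommRingCat.of W,
        Spec.map φ (IsLocalRing.closedPoint W) = IsLocalRing.closedPoint _ ∧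
          Spec.map φ ≫ Y.fromSpecStalk y = g := by
      subst hg
      exact ⟨Scheme.stalkClosedPointTo g, IsLocalRing.comap_closedPoint _,
        Scheme.Spec_stalkClosedPointTo_fromSpecStalk g⟩
    have hφe : φ ≫ CommRingCat.ofHom W.subtype = Φ ≫ X.residue ξ := by
      apply Spec.map_injective
      rw [← cancel_mono (Y.fromSpecStalk y), Spec.map_comp, Category.assoc, hgφ, hcomp,
        Spec.map_comp, Category.assoc, hΦ]
      exact Category.assoc _ _ _
    have hρ : ∀ r, ρ (Φ r) = (φ r : X.residueField ξ) := fun r =>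
      (congrArg (fun k => k.hom r) hφe).symm
    have hlt : ∀ a : A, W.valuation (ρ a) < 1 ↔ A.valuation (a : X.functionField) < 1 := fun a => by
      show W.valuation ((eA a : W) : X.residueField ξ) < 1 ↔ _
      rw [← W.valuation_lt_one_iff, ← A.valuation_lt_one_iff, IsLocalRing.mem_maximalIdeal,
        IsLocalRing.mem_maximalIdeal, mem_nonunits_iff, mem_nonunits_iff,
        MulEquiv.isUnit_map eA.toMulEquiv |> fun h => (h : IsUnit (eA a) ↔ IsUnit a)]
    obtain ⟨x, hxy, hx1, hx2⟩ := hyp A inferInstance
      (fun r => (A.valuation_le_one_iff _).mpr (by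
        show ρ (Φ r) ∈ W
        rw [hρ]; exact (φ r).2))
      (fun r hr => by
        have hm : (Φ r : X.functionField) ∈ A := by
          show ρ (Φ r) ∈ W
          rw [hρ]; exact (φ r).2
        refine (hlt ⟨_, hm⟩).mp ?_
        show W.valuation (ρ (Φ r)) < 1
        rw [hρ]
        exact hval _ W _ inferInstance φ hφ r hr)
    let ψ₀ : X.presheaf.stalk x ⟶ CommRingCat.of A := CommRingCat.ofHom
      ((X.presheaf.stalkSpecializes (genericPoint_specializes x)).hom.codRestrict A.toSubring
        fun r => (A.valuation_le_one_iff _).mp (hx1 r))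
    let ψ : X.presheaf.stalk x ⟶ CommRingCat.of W := ψ₀ ≫ CommRingCat.ofHom eA.toRingHom
    have hψe : ψ ≫ CommRingCat.ofHom W.subtype =
        X.presheaf.stalkSpecializes (genericPoint_specializes x) ≫ X.residue ξ := rfl
    have hlc : (Spec.map ψ ≫ X.fromSpecStalk x) (IsLocalRing.closedPoint W) = x :=
      (congrArg (X.fromSpecStalk x) (hclosed W (X.presheaf.stalk x) inferInstance ψ fun r hr =>
        (W.valuation_lt_one_iff _).mpr ((hlt (ψ₀ r)).mpr (hx2 r hr)))).trans
          X.fromSpecStalk_closedPoint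
    have hgen : Spec.map (CommRingCat.ofHom W.subtype) ≫ Spec.map ψ ≫ X.fromSpecStalk x =
        X.fromSpecResidueField ξ := by
      rw [← Spec.map_comp_assoc, hψe, Spec.map_comp, Category.assoc,
        Scheme.SpecMap_stalkSpecializes_fromSpecStalk]
      rfl
    refine ⟨_, hgen, ?_⟩
    obtain ⟨V, hV, hyV, -⟩ := exists_isAffineOpen_mem_and_subset (x := y) (U := ⊤) trivial
    refine Groth.Agent.DVRProper.eq_of_generic W.subtype Subtype.val_injective _ _ hV ?_ (hg.symm ▸ hyV) ?_
    · rw [Scheme.Hom.comp_apply, hlc, hxy]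
      exact hyV
    · rw [← Category.assoc, hgen, hcomp]

end Groth.Agent.S3434
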