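import Groth.Statements.S3437
import Groth.Agent.FibCodepth.GeomRkScheme
-- import your own Groth.Agent.* helpers here

set_option autoImplicit false
open CategoryTheory AlgebraicGeometry
universe u
open EGA43

namespace Groth.Agent.S3437

/-- Let f : X ⟶ S be of finite presentation (locally of finite presentation, quasi-compact and
quasi-separated). Then the set of points s of S such that every local ring of the fibre X_s is
Cohen–Macaulay is locally constructible in S. -/
theorem result {X S : Scheme.{u}} (f : X ⟶ S)
    [LocallyOfFinitePresentation f] [QuasiCompact f] [QuasiSeparated f] :
    Topology.IsLocallyConstructible {s : S |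
      ∀ z : ↥(f.fiber s), LocCoh.IsCohenMacaulayLocalRing ((f.fiber s).presheaf.stalk z)} := by
  exact Groth.Agent.FibCodepth.isLocallyConstructible_forall_fiber f
    (fun s z => LocCoh.IsCohenMacaulayLocalRing ((f.fiber s).presheaf.stalk z))
    (Groth.Agent.FibCodepth.isLocallyConstructible_cm f)

end Groth.Agent.S3437
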