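import Groth.Statements.S3440
import Groth.Agent.S2082
import Groth.Agent.S2604
import Groth.Agent.S4918
import Groth.Agent.S3438
import Groth.Agent.S0603
import Groth.Agent.S5757
import Groth.Agent.Depth.CM
import Groth.Agent.GeomLoc.CM
import Groth.Agent.RegLoc.Basic
import Groth.Agent.FlatMor.FibreStalk
import Groth.Agent.FlatOpen.Scheme
import Groth.Agent.GUOpen.Crit

set_option autoImplicit false
open CategoryTheory AlgebraicGeometry
universe u
open EGA43

namespace Groth.Agent.S3440

open Groth.Agent IsLocalRing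

/-- A Cohen–Macaulay local ring is equidimensional. -/
lemma isEquidim_of_cm (R : Type u) [CommRing R] [LocCoh.IsCohenMacaulayLocalRing R] : EGA4.IsEquidim R := by
  intro p hp
  have h2 := Module.associatedPrimes.minimalPrimes_annihilator_subset_associatedPrimes R R
  rw [Module.annihilator_eq_bot.mpr inferInstance] at h2
  rw [Groth.Agent.S5757.result R R LocCoh.IsCohenMacaulayLocalRing.supportDim_eq_depth p (h2 hp),
    Module.supportDim_self_eq_ringKrullDim]

/-- The closed fibre of a flat local extension with Cohen–Macaulay source is Cohen–Macaulay. -/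
lemma cm_fibre (A B : Type u) [CommRing A] [CommRing B] [IsNoetherianRing A] [IsLocalRing A]
    [LocCoh.IsCohenMacaulayLocalRing B] [Algebra A B] [IsLocalHom (algebraMap A B)] [Module.Flat A B] :
    LocCoh.IsCohenMacaulayLocalRing (EGA4.FibRing A B) := by
  have h1 : LocCoh.IsCohenMacaulayModule B (TensorProduct A B A) :=
    (Depth.isCohenMacaulayModule_congr (TensorProduct.AlgebraTensorModule.rid A B B)).2
      LocCoh.IsCohenMacaulayLocalRing.supportDim_eq_depth
  obtain ⟨-, h2⟩ := (Groth.Agent.S2604.result A B A B).1 h1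
  let e₀ : EGA4.FibMod A B B ≃ₗ[B] EGA4.FibRing A B := Submodule.quotEquivOfEq _ _ (by simp)
  let e : EGA4.FibMod A B B ≃ₗ[EGA4.FibRing A B] EGA4.FibRing A B :=
    e₀.extendScalarsOfSurjective (Ideal.Quotient.mk_surjective)
  have h3 := (Depth.isCohenMacaulayModule_congr e).1 h2
  haveI : Nontrivial (EGA4.FibRing A B) := Depth.nontrivial_of_isCohenMacaulayModule h3
  haveI : IsLocalRing (EGA4.FibRing A B) :=
    IsLocalRing.of_surjective' (Ideal.Quotient.mk (EGA4.mB A B)) Ideal.Quotient.mk_surjective
  exact { supportDim_eq_depth := h3 }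


/-- Let Y be locally Noetherian, f : X ⟶ Y locally of finite type, x a point of X and y = f x; suppose
O_{Y,y} is regular and O_{X,x} is Cohen–Macaulay. The following are equivalent: a) O_{Y,y} ⟶ O_{X,x}
is flat and the local ring of X_y at x is Cohen–Macaulay; b) O_{Y,y} ⟶ O_{X,x} is flat; c) the
restriction of f to some open neighbourhood of x is universally open; d) f is open at the generic
point of every irreducible component of X_y through x; e') dim O_{X,x} = dim O_{Y,y} + dim
O_{X_y,x}. -/
theorem result {X Y : Scheme.{u}} [IsLocallyNoetherian Y] (f : X ⟶ Y)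
    [LocallyOfFiniteType f] (x : X) (hreg : IsRegularLocalRing (Y.presheaf.stalk (f.base x)))
    (hCM : LocCoh.IsCohenMacaulayLocalRing (X.presheaf.stalk x)) :
    List.TFAE [
      (f.stalkMap x).hom.Flat ∧ LocCoh.IsCohenMacaulayLocalRing ((f.fiber (f.base x)).presheaf.stalk (f.asFiber x)),
      (f.stalkMap x).hom.Flat,
      ∃ U : X.Opens, x ∈ U ∧ UniversallyOpen (U.ι ≫ f),
      (∀ z : ↥(f.fiber (f.base x)), f.asFiber x ∈ closure {z} →
          (∀ z' : ↥(f.fiber (f.base x)), z ∈ closure {z'} → z' = z) →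
          EGA43.IsOpenAt f.base ((f.fiberι (f.base x)).base z)),
      ringKrullDim (X.presheaf.stalk x) =
        ringKrullDim (Y.presheaf.stalk (f.base x)) + ringKrullDim ((f.fiber (f.base x)).presheaf.stalk (f.asFiber x)) ] := by
  haveI : IsLocallyNoetherian X := LocallyOfFiniteType.isLocallyNoetherian f
  haveI : LocallyOfFinitePresentation f :=
    LocallyOfFinitePresentation.iff_locallyOfFiniteType.mpr inferInstance
  haveI := hreg
  haveI := hCM
  haveI : IsDomain (Y.presheaf.stalk (f.base x)) := RegLoc.isDomain _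
  haveI := Depth.isCohenMacaulayLocalRing_of_isRegularLocalRing (R := Y.presheaf.stalk (f.base x))
  haveI := Depth.isCohenMacaulayRing_of_isCohenMacaulayLocalRing (R := Y.presheaf.stalk (f.base x))
  have hcat := Groth.Agent.S0603.result (Y.presheaf.stalk (f.base x))
  letI := (f.stalkMap x).hom.toAlgebra
  haveI : IsLocalHom (algebraMap (Y.presheaf.stalk (f.base x)) (X.presheaf.stalk x)) := f.toLRSHom.prop x
  obtain ⟨ε⟩ := FlatMor.FibreStalk.exists_fibre_stalk_equiv f x
  tfae_have 1 → 2 := And.left
  tfae_have 2 → 1 := fun h => by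
    refine ⟨h, ?_⟩
    haveI : Module.Flat (Y.presheaf.stalk (f.base x)) (X.presheaf.stalk x) := h
    exact GeomLoc.isCohenMacaulayLocalRing_congr _ _ ε (cm_fibre (Y.presheaf.stalk (f.base x)) (X.presheaf.stalk x))
  tfae_have 2 → 3 := fun h => by
    let U : X.Opens := ⟨_, FlatOpen.Scheme.isOpen_stalkMap_flat f⟩
    haveI : Flat (U.ι ≫ f) := by
      rw [Flat.iff_flat_stalkMap]
      intro z
      rw [Scheme.Hom.stalkMap_comp]
      exact RingHom.Flat.respectsIso.1 _ (asIso (U.ι.stalkMap z)).commRingCatIsoToRingEquiv z.2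
    exact ⟨U, h, inferInstance⟩
  tfae_have 3 → 4 := fun ⟨U, hxU, hU⟩ z hz _ => by
    have hzx : f.fiberι (f x) z ⤳ x := by
      have h1 := (specializes_iff_mem_closure.2 hz).map (f.fiberι (f x)).continuous
      rwa [f.fiberι_asFiber] at h1
    have hzU : f.fiberι (f x) z ∈ U := hzx.mem_open U.2 hxU
    intro S hS
    have hm : (U.ι ⁻¹' S) ∈ nhds (⟨_, hzU⟩ : U.toScheme) := U.ι.continuous.continuousAt.preimage_mem_nhds hS
    refine Filter.mem_of_superset ((U.ι ≫ f).isOpenMap.image_mem_nhds hm) ?_
    rintro _ ⟨a, ha, rfl⟩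
    exact ⟨U.ι a, ha, rfl⟩
  tfae_have 4 → 5 := fun h => by
    have hE := Groth.Agent.S4918.result f x (isEquidim_of_cm _) (isEquidim_of_cm _) h
    exact Groth.Agent.S3438.result f x (isEquidim_of_cm _) hcat hE
  tfae_have 5 → 2 := fun h => by
    refine Groth.Agent.S2082.result (R := Y.presheaf.stalk (f.base x)) (S := X.presheaf.stalk x) ?_
    rw [← ringKrullDim_eq_of_ringEquiv ε] at h
    exact h
  tfae_finish

end Groth.Agent.S3440
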