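import Groth.Statements.S3441
import Mathlib.RingTheory.Kaehler.Basic
import Mathlib.Algebra.TrivSqZeroExt.Basic
import Groth.Agent.AdicFS.Completed

set_option autoImplicit false
universe u
open EGA41

namespace Groth.Agent.S3441

theorem exists_lift_of_section {A B C : Type u} [CommRing A] [CommRing B] [CommRing C] [Algebra A B]
    [Algebra B C] [Algebra A C] [IsScalarTower A B C] (h : EGA41.IsFormallySmoothRel A B C)
    {E : Type u} [CommRing E] [Algebra A E] (π : E →ₐ[A] C) (hπ : RingHom.ker π ^ 2 = ⊥)
    (s : C →ₐ[A] E) (hs : ∀ c, π (s c) = c) (i : B →ₐ[A] E)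
    (hi : ∀ b, π (i b) = algebraMap B C b) :
    ∃ v : C →ₐ[A] E, (∀ c, π (v c) = c) ∧ ∀ b, v (algebraMap B C b) = i b := by
  letI : Algebra B E := i.toRingHom.toAlgebra
  haveI : IsScalarTower A B E := .of_algebraMap_eq fun a => (i.commutes a).symm
  let u₀ : C →ₐ[B] E ⧸ RingHom.ker π :=
    { ((Ideal.Quotient.mkₐ A (RingHom.ker π)).comp s).toRingHom with
      commutes' := fun b => Ideal.Quotient.eq.mpr (by
        show π (s (algebraMap B C b) - i b) = 0
        rw [map_sub, hs, hi, sub_self]) }
  obtain ⟨v, hv⟩ := h E (RingHom.ker π) hπ u₀ ⟨s, rfl⟩
  refine ⟨v.restrictScalars A, fun c => ?_, fun b => v.commutes b⟩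
  have := Ideal.Quotient.eq.mp (show Ideal.Quotient.mk _ (v c) = Ideal.Quotient.mk _ (s c) from
    DFunLike.congr_fun hv c)
  rw [RingHom.mem_ker, map_sub, hs, sub_eq_zero] at this
  exact this

open TensorProduct in
/-- Let A → B → C be ring homomorphisms. The canonical C-linear map Ω_{B/A} ⊗_B C → Ω_{C/A} is left
invertible (has a C-linear left inverse) if and only if C is a formally smooth B-algebra relative to
A for the discrete topologies: every B-algebra homomorphism from C to a quotient C'/J of a B-algebra
C' by an ideal J of square zero that lifts to C' as an A-algebra homomorphism also lifts to C' as a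
B-algebra homomorphism. (The published definition of relative formal smoothness tests every
nilpotent ideal J; its reduction to ideals of square zero does not carry over to the relative
setting, and the square-zero form, which is what the published proof of this statement uses, is the
one taken here.) -/
theorem result (A B C : Type u) [CommRing A] [CommRing B]
    [CommRing C] [Algebra A B] [Algebra B C] [Algebra A C] [IsScalarTower A B C] :
    (∃ l : Ω[C⁄A] →ₗ[C] C ⊗[B] Ω[B⁄A], l ∘ₗ KaehlerDifferential.mapBaseChange A B C = LinearMap.id) ↔
      EGA41.IsFormallySmoothRel A B C := by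
  constructor
  · rintro ⟨l, hl⟩
    intro C' _ _ _ _ J hJ u₀ ⟨u, hu⟩
    have hu' : ∀ c, Ideal.Quotient.mk J (u c) = u₀ c := fun c => DFunLike.congr_fun hu c
    letI : Module C J := Module.compHom J u.toRingHom
    haveI : IsScalarTower A C J := IsScalarTower.of_algebraMap_smul fun a x =>
      Subtype.ext (by show u (algebraMap A C a) * x.1 = a • x.1; rw [u.commutes, Algebra.smul_def])
    let φ : B →ₐ[A] C' := IsScalarTower.toAlgHom A B C'
    let ψ : B →ₐ[A] C' := u.comp (IsScalarTower.toAlgHom A B C)
    have hmem : ∀ b, φ b - ψ b ∈ J := fun b => Ideal.Quotient.eq.mp (by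
      show Ideal.Quotient.mk J (algebraMap B C' b) = Ideal.Quotient.mk J (u (algebraMap B C b))
      rw [hu', u₀.commutes]; rfl)
    have hsq : ∀ a ∈ J, ∀ b ∈ J, a * b = (0 : C') := fun a ha b hb => by
      rw [← Ideal.mem_bot, ← hJ, pow_two]; exact Ideal.mul_mem_mul ha hb
    haveI : IsScalarTower B C J := IsScalarTower.of_algebraMap_smul fun b x => Subtype.ext (by
      show ψ b * x.1 = b • x.1
      rw [Algebra.smul_def]
      show ψ b * x.1 = φ b * x.1
      linear_combination -hsq _ (hmem b) _ x.2)
    let δ : Derivation A B J :=
      Derivation.mk' ((φ.toLinearMap - ψ.toLinearMap).codRestrict (J.restrictScalars A) hmem)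
        fun x y => Subtype.ext (by
          show φ (x * y) - ψ (x * y) = x • (φ y - ψ y) + y • (φ x - ψ x)
          rw [Algebra.smul_def, Algebra.smul_def]
          show φ (x * y) - ψ (x * y) = φ x * (φ y - ψ y) + φ y * (φ x - ψ x)
          have h0 := hsq _ (hmem x) _ (hmem y)
          rw [map_mul, map_mul]
          linear_combination -h0)
    let η : Derivation A C J :=
      ((δ.liftKaehlerDifferential.liftBaseChange C) ∘ₗ l).compDer (KaehlerDifferential.D A C)
    let v : C →ₐ[B] C' :=
      { toFun := fun c => u c + (η c).1
        map_one' := by simp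
        map_mul' := fun x y => by
          rw [map_mul, η.leibniz]
          show u x * u y + (u x * (η y).1 + u y * (η x).1) = _
          linear_combination -hsq _ (η x).2 _ (η y).2
        map_zero' := by simp
        map_add' := fun x y => by
          rw [map_add, map_add]
          show u x + u y + ((η x).1 + (η y).1) = _
          abel
        commutes' := fun b => by
          have h1 : η (algebraMap B C b) = δ b := by
            show δ.liftKaehlerDifferential.liftBaseChange C (l (KaehlerDifferential.D A C (algebraMap B C b))) = _
            have h2 := DFunLike.congr_fun hl ((1 : C) ⊗ₜ[B] KaehlerDifferential.D A B b)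
            simp only [LinearMap.coe_comp, Function.comp_apply, KaehlerDifferential.mapBaseChange_tmul,
              KaehlerDifferential.map_D, one_smul, LinearMap.id_coe, id_eq] at h2
            rw [h2, LinearMap.liftBaseChange_tmul, one_smul, Derivation.liftKaehlerDifferential_comp_D]
          show u (algebraMap B C b) + (η (algebraMap B C b)).1 = _
          rw [h1]
          show ψ b + (φ b - ψ b) = φ b
          abel }
    refine ⟨v, AlgHom.ext fun c => ?_⟩
    show Ideal.Quotient.mk J (u c + (η c).1) = u₀ c
    rw [map_add, Ideal.Quotient.eq_zero_iff_mem.mpr (η c).2, add_zero, hu']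
  · intro h
    let M := C ⊗[B] Ω[B⁄A]
    let d : Derivation A B M :=
      ((TensorProduct.mk B C (Ω[B⁄A])) 1).compDer (KaehlerDifferential.D A B)
    obtain ⟨v, hv, hvi⟩ := exists_lift_of_section h (E := TrivSqZeroExt C M)
      (TrivSqZeroExt.fstHom A C M) (by
        rw [pow_two, eq_bot_iff, Ideal.mul_le]
        intro x hx y hy
        rw [Ideal.mem_bot]
        exact TrivSqZeroExt.ext (by simp [show x.fst = 0 from hx])
          (by simp [show x.fst = 0 from hx, show y.fst = 0 from hy]))
      (TrivSqZeroExt.inlAlgHom A C M) (fun c => rfl)
      (Groth.Agent.AdicFS.Completed.mkHom (C := C) d) (fun b => by simp)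
    let η : Derivation A C M := Derivation.mk'
      { toFun := fun c => (v c).snd
        map_add' := fun x y => by simp
        map_smul' := fun a x => by simp }
      (fun x y => by
        have hfx : (v x).fst = x := hv x
        have hfy : (v y).fst = y := hv y
        simp [TrivSqZeroExt.snd_mul, hfx, hfy, op_smul_eq_smul])
    refine ⟨η.liftKaehlerDifferential, LinearMap.ext fun t => ?_⟩
    induction t using TensorProduct.induction_on with
    | zero => simp
    | add x y hx hy => rw [map_add, hx, hy, map_add]
    | tmul c w =>
      have hw : w ∈ Submodule.span B (Set.range (KaehlerDifferential.D A B)) := by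
        rw [KaehlerDifferential.span_range_derivation]; trivial
      induction hw using Submodule.span_induction generalizing c with
      | mem w hw =>
        obtain ⟨b, rfl⟩ := hw
        have h1 : η (algebraMap B C b) = (1 : C) ⊗ₜ[B] KaehlerDifferential.D A B b := by
          show (v (algebraMap B C b)).snd = _
          rw [hvi]; simp [d]
        show η.liftKaehlerDifferential (KaehlerDifferential.mapBaseChange A B C _) = _
        rw [KaehlerDifferential.mapBaseChange_tmul, KaehlerDifferential.map_D, map_smul,
          Derivation.liftKaehlerDifferential_comp_D, h1, TensorProduct.smul_tmul', smul_eq_mul,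
          mul_one]
        rfl
      | zero => simp
      | add x y _ _ hx hy => rw [TensorProduct.tmul_add, map_add, hx, hy, map_add]
      | smul b x _ hx => rw [← TensorProduct.smul_tmul]; exact hx _

end Groth.Agent.S3441
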