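import Groth.Statements.S3450
import Groth.Agent.FlatDVR.Test
import Groth.Agent.Chevalley.Basic
import Groth.Agent.Adic.Basic
-- import your own Groth.Agent.* helpers here

set_option autoImplicit false
universe u
open EGA43

namespace Groth.Agent.S3450

open IsLocalRing

/-- A module finite modulo each step of `(π)`. -/
theorem finite_quot_pow {A : Type u} [CommRing A] [IsNoetherianRing A] {V : Type u} [CommRing V] [IsLocalRing V]
    [Algebra A V] {π : V} (hm : maximalIdeal V = Ideal.span {π}) [Module.Finite A (ResidueField V)]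
    (e : ℕ) : Module.Finite A (V ⧸ Ideal.span {π ^ e}) := by
  induction e with
  | zero =>
    haveI : Subsingleton (V ⧸ Ideal.span {π ^ 0}) :=
      Ideal.Quotient.subsingleton_iff.mpr (by rw [pow_zero, Ideal.span_singleton_one])
    infer_instance
  | succ e ih =>
    let g : (V ⧸ Ideal.span {π ^ (e + 1)}) →ₐ[A] V ⧸ Ideal.span {π ^ e} :=
      Ideal.Quotient.factorₐ A (Ideal.span_singleton_le_span_singleton.mpr (pow_dvd_pow π e.le_succ))
    let j : ResidueField V →ₗ[A] V ⧸ Ideal.span {π ^ (e + 1)} :=
      Submodule.liftQ ((maximalIdeal V).restrictScalars A)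
        ((Ideal.Quotient.mkₐ A _).toLinearMap ∘ₗ LinearMap.mulLeft A (π ^ e)) (by
          intro v hv
          rw [Submodule.restrictScalars_mem, hm, Ideal.mem_span_singleton'] at hv
          obtain ⟨w, rfl⟩ := hv
          rw [LinearMap.mem_ker]
          show Ideal.Quotient.mk _ (π ^ e * (w * π)) = 0
          rw [Ideal.Quotient.eq_zero_iff_mem, Ideal.mem_span_singleton']
          exact ⟨w, by ring⟩)
    haveI : Module.Finite A (LinearMap.range j) := Module.Finite.range j
    have hle : LinearMap.ker g.toLinearMap ≤ LinearMap.range j := by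
      intro z hz
      obtain ⟨v, rfl⟩ := Ideal.Quotient.mk_surjective z
      rw [LinearMap.mem_ker] at hz
      change Ideal.Quotient.mk (Ideal.span {π ^ e}) v = 0 at hz
      rw [Ideal.Quotient.eq_zero_iff_mem, Ideal.mem_span_singleton'] at hz
      obtain ⟨w, rfl⟩ := hz
      exact ⟨Submodule.Quotient.mk w, congrArg (Ideal.Quotient.mk (Ideal.span {π ^ (e + 1)})) (mul_comm _ _)⟩
    haveI : Module.Finite A ((V ⧸ Ideal.span {π ^ (e + 1)}) ⧸ LinearMap.ker g.toLinearMap) :=
      Module.Finite.equiv (g.toLinearMap.quotKerEquivOfSurjective (fun z => by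
        obtain ⟨v, rfl⟩ := Ideal.Quotient.mk_surjective z
        exact ⟨Ideal.Quotient.mk _ v, rfl⟩)).symm
    haveI : Module.Finite A ((V ⧸ Ideal.span {π ^ (e + 1)}) ⧸ LinearMap.range j) :=
      Module.Finite.of_surjective (Submodule.factor hle) (Submodule.factor_surjective _)
    exact Module.Finite.of_submodule_quotient (LinearMap.range j)

/-- A local map to a discrete valuation ring with finite residue extension, nonzero on the maximal
ideal, out of a complete local ring is finite. -/
theorem finite_of_residue_finite {A : Type u} [CommRing A] [IsNoetherianRing A] [IsLocalRing A]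
    [IsAdicComplete (maximalIdeal A) A] {V : Type u} [CommRing V] [IsDomain V]
    [IsDiscreteValuationRing V] (φ : A →+* V) [IsLocalHom φ] (h : ((residue V).comp φ).Finite)
    {y : A} (hy : y ∈ maximalIdeal A) (hy0 : φ y ≠ 0) : φ.Finite := by
  letI := φ.toAlgebra
  haveI : Module.Finite A (ResidueField V) := h
  obtain ⟨π, hπ⟩ := IsDiscreteValuationRing.exists_irreducible V
  have hm : maximalIdeal V = Ideal.span {π} :=
    (IsDiscreteValuationRing.irreducible_iff_uniformizer π).mp hπ
  obtain ⟨e, u, he⟩ := IsDiscreteValuationRing.eq_unit_mul_pow_irreducible hy0 hπ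
  have hmem : φ y ∈ (maximalIdeal A).map φ := Ideal.mem_map_of_mem φ hy
  have hle : (Ideal.span {π ^ e}).restrictScalars A ≤ (maximalIdeal A • ⊤ : Submodule A V) := by
    intro v hv
    rw [Submodule.restrictScalars_mem, Ideal.mem_span_singleton'] at hv
    obtain ⟨w, rfl⟩ := hv
    have : w * π ^ e = y • (w * ↑u⁻¹) := by
      rw [Algebra.smul_def, RingHom.algebraMap_toAlgebra, he]
      linear_combination (w * π ^ e) * (u.inv_mul).symm
    rw [this]
    exact Submodule.smul_mem_smul hy trivial
  have hlem : ∀ k : ℕ, (maximalIdeal A ^ k • ⊤ : Submodule A V) ≤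
      (maximalIdeal V ^ k).restrictScalars A := by
    intro k
    refine Submodule.smul_le.mpr fun r hr v _ => ?_
    rw [Submodule.restrictScalars_mem, Algebra.smul_def, RingHom.algebraMap_toAlgebra]
    refine Ideal.mul_mem_right _ _ ?_
    have h1 : (maximalIdeal A).map φ ≤ maximalIdeal V :=
      Ideal.map_le_iff_le_comap.mpr (IsLocalRing.maximalIdeal_comap φ).ge
    exact Ideal.pow_right_mono h1 k ((Ideal.map_pow φ _ k).le (Ideal.mem_map_of_mem φ hr))
  haveI : IsHausdorff (maximalIdeal A) V := ⟨fun v hv => by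
    rw [← Ideal.mem_bot, ← Ideal.iInf_pow_eq_bot_of_isLocalRing (maximalIdeal V)
      (maximalIdeal.isMaximal V).ne_top, Ideal.mem_iInf]
    exact fun k => hlem k (SModEq.zero.mp (hv k))⟩
  haveI := finite_quot_pow (A := A) hm e
  haveI : Module.Finite A (V ⧸ (Ideal.span {π ^ e}).restrictScalars A) :=
    Module.Finite.equiv (Submodule.Quotient.restrictScalarsEquiv A (Ideal.span {π ^ e})).symm
  show Module.Finite A V
  exact Adic.finite_of_finite_quot (maximalIdeal A)
    (Module.Finite.of_surjective (Submodule.factor hle) (Submodule.factor_surjective _))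

/-- The kernels of local maps to discrete valuation rings, finite over the ring. -/
def kers (A : Type u) [CommRing A] [IsLocalRing A] : Set (Ideal A) :=
  {J | ∃ (V : Type u) (_ : CommRing V) (_ : IsDomain V) (_ : IsDiscreteValuationRing V) (φ : A →+* V),
    IsLocalHom φ ∧ φ.Finite ∧ RingHom.ker φ = J}


/-- Let A be a Noetherian local ring which is reduced, complete (for the topology defined by its maximal
ideal m) and not a field. Then for every n there are finitely many local homomorphisms φ_i : A → V_i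
into discrete valuation rings, each making V_i a finite A-algebra, such that the intersection of
their kernels is contained in mⁿ. (Equivalently: such finite intersections form a base of
neighbourhoods of 0 for the m-adic topology.) -/
theorem result (A : Type u) [CommRing A] [IsNoetherianRing A]
    [IsLocalRing A] [IsReduced A] [IsAdicComplete (IsLocalRing.maximalIdeal A) A] (hA : ¬ IsField A) (n : ℕ) :
    ∃ (k : ℕ) (V : Fin k → Type u) (_ : ∀ i, CommRing (V i)) (_ : ∀ i, IsDomain (V i))
      (_ : ∀ i, IsDiscreteValuationRing (V i)) (φ : ∀ i, A →+* V i),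
      (∀ i, IsLocalHom (φ i) ∧ (φ i).Finite) ∧
        ⨅ i, RingHom.ker (φ i) ≤ IsLocalRing.maximalIdeal A ^ n := by
  classical
  have hm0 : maximalIdeal A ≠ ⊥ := fun h => hA (IsLocalRing.isField_iff_maximalIdeal_eq.mpr h)
  have hsep : ∀ r : A, r ≠ 0 → ∃ J ∈ kers A, r ∉ J := by
    intro r hr
    obtain ⟨P, hP, hrP⟩ : ∃ P ∈ minimalPrimes A, r ∉ P := by
      by_contra! hc
      refine hr (Ideal.mem_bot.mp ?_)
      have : r ∈ sInf ((⊥ : Ideal A).minimalPrimes) := Ideal.mem_sInf.mpr fun {P} hP => hc P hP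
      rw [Ideal.sInf_minimalPrimes] at this
      exact Ideal.mem_bot.mpr (nilradical_eq_zero A ▸ this : r ∈ (0 : Ideal A))
    haveI := hP.1.1
    have hPm : P ≠ maximalIdeal A := by
      rintro rfl
      apply hm0
      rw [eq_bot_iff]
      intro a ha
      rw [Ideal.mem_bot]
      refine (nilpotent_iff_mem_prime.mpr fun Q hQ => ?_ : IsNilpotent a).eq_zero
      exact hP.2 ⟨hQ, bot_le⟩ (IsLocalRing.le_maximalIdeal hQ.ne_top) ha
    obtain ⟨y, hym, hyP⟩ := SetLike.exists_of_lt
      (lt_of_le_of_ne (IsLocalRing.le_maximalIdeal hP.1.1.ne_top) hPm)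
    obtain ⟨V, i1, i2, i3, φ, hφ, hfin, hne⟩ := FlatDVR.exists_dvr_residue_finite P hPm
      (hP.1.1.mul_notMem hrP hyP)
    rw [map_mul] at hne
    refine ⟨RingHom.ker φ, ⟨V, i1, i2, i3, φ, hφ, ?_, rfl⟩, left_ne_zero_of_mul hne⟩
    exact finite_of_residue_finite φ hfin hym (right_ne_zero_of_mul hne)
  have step : ∀ k, ∃ S : Finset (kers A), ∀ T : Finset (kers A), S ⊆ T →
      S.inf Subtype.val ≤ T.inf Subtype.val ⊔ maximalIdeal A ^ k := by
    intro k
    haveI := Chevalley.isArtinianRing_quotient_pow A k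
    obtain ⟨_, ⟨S, rfl⟩, hmin⟩ := IsArtinian.set_has_minimal
      (Set.range fun S : Finset (kers A) =>
        (S.inf Subtype.val).map (Ideal.Quotient.mk (maximalIdeal A ^ k))) (Set.range_nonempty _)
    refine ⟨S, fun T hT => ?_⟩
    have heq := eq_of_le_of_not_lt (Ideal.map_mono (Finset.inf_mono hT)) (hmin _ ⟨T, rfl⟩)
    have h := congrArg (Ideal.comap (Ideal.Quotient.mk (maximalIdeal A ^ k))) heq
    rw [Ideal.comap_map_quotientMk, Ideal.comap_map_quotientMk] at h
    exact (le_sup_right.trans h.ge).trans (sup_comm _ _).le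
  choose S hS using step
  let T : ℕ → Finset (kers A) := fun k => (Finset.range (k + 1)).biUnion S
  let K : ℕ → Ideal A := fun k => (T k).inf Subtype.val
  have hK : Antitone K := fun a b hab => Finset.inf_mono
    (Finset.biUnion_subset_biUnion_of_subset_left _ (Finset.range_mono (by omega)))
  have h0 : ⨅ k, K k = ⊥ := by
    rw [eq_bot_iff]
    intro r hr
    by_contra hr0
    obtain ⟨J, hJ, hrJ⟩ := hsep r (by simpa using hr0)
    obtain ⟨V, _, _, _, φ, hφ, -, rfl⟩ := id hJ
    apply hrJ
    rw [RingHom.mem_ker, ← Ideal.mem_bot, ← Ideal.iInf_pow_eq_bot_of_isLocalRing (maximalIdeal V)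
      (maximalIdeal.isMaximal V).ne_top, Ideal.mem_iInf]
    intro k
    have h1 : K k ≤ RingHom.ker φ ⊔ maximalIdeal A ^ k :=
      ((Finset.inf_mono (Finset.subset_biUnion_of_mem S (Finset.self_mem_range_succ k))).trans
        (hS k (insert ⟨_, hJ⟩ (S k)) (Finset.subset_insert _ _))).trans
        (sup_le_sup_right (Finset.inf_le (Finset.mem_insert_self _ _)) _)
    have h2 : Ideal.map φ (RingHom.ker φ ⊔ maximalIdeal A ^ k) ≤ maximalIdeal V ^ k := by
      rw [Ideal.map_sup, Ideal.map_pow]
      refine sup_le ?_ (Ideal.pow_right_mono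
        (Ideal.map_le_iff_le_comap.mpr (IsLocalRing.maximalIdeal_comap φ).ge) k)
      exact ((Ideal.map_eq_bot_iff_le_ker φ).mpr le_rfl).le.trans bot_le
    exact h2 (Ideal.mem_map_of_mem φ (h1 (Ideal.mem_iInf.mp hr k)))
  obtain ⟨k, hk⟩ := Chevalley.exists_le_pow K hK h0 n
  have hT : ∀ i : ↥(T k), ∃ (V : Type u) (_ : CommRing V) (_ : IsDomain V)
      (_ : IsDiscreteValuationRing V) (φ : A →+* V), IsLocalHom φ ∧ φ.Finite ∧ RingHom.ker φ = i.1.1 :=
    fun i => i.1.2
  choose V i1 i2 i3 φ hφ hfin hker using hT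
  refine ⟨(T k).card, fun i => V ((T k).equivFin.symm i), fun i => i1 _, fun i => i2 _, fun i => i3 _,
    fun i => φ _, fun i => ⟨hφ _, hfin _⟩, le_trans ?_ hk⟩
  refine Finset.le_inf fun J hJ => ?_
  refine (iInf_le _ ((T k).equivFin ⟨J, hJ⟩)).trans ?_
  have hgen : ∀ i, i = (⟨J, hJ⟩ : ↥(T k)) → RingHom.ker (φ i) ≤ J.1 := by
    rintro i rfl
    exact (hker _).le
  exact hgen _ (Equiv.symm_apply_apply _ _)

end Groth.Agent.S3450
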