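import Groth.Statements.S3453
import Groth.Agent.FibCodepth.GeomRkScheme
-- import your own Groth.Agent.* helpers here

set_option autoImplicit false
open CategoryTheory AlgebraicGeometry
universe u
open EGA43

namespace Groth.Agent.S3453

/-- Let f : X ⟶ S be locally of finite presentation and n a natural number. The set of points x of X
such that the local ring of the fibre of f through x at x has codepth n (its Krull dimension equals
its depth plus n) is locally constructible in X. -/
theorem result {X S : Scheme.{u}} (f : X ⟶ S)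
    [LocallyOfFinitePresentation f] (n : ℕ) :
    Topology.IsLocallyConstructible {x : X |
      ringKrullDim ((f.fiber (f.base x)).presheaf.stalk (f.asFiber x)) =
        ((LocCoh.depth ((f.fiber (f.base x)).presheaf.stalk (f.asFiber x)) ((f.fiber (f.base x)).presheaf.stalk (f.asFiber x)) : ℕ∞) : WithBot ℕ∞) + n} := by
  refine Groth.Agent.FibCodepth.isLocallyConstructible_of_charts f _ fun V U hV hU e hfp => ?_
  letI := (f.appLE V U e).hom.toAlgebra
  haveI := hfp
  have hc := fun k => (Groth.Agent.FibCodepth.isConstructible_fibSk_codepthLE (A := Γ(S, V)) (B := Γ(X, U)) Γ(X, U) k).2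
  have hnum : ∀ x : X, ∃ a m : ℕ, a ≤ m ∧
      ringKrullDim ((f.fiber (f.base x)).presheaf.stalk (f.asFiber x)) = (m : WithBot ℕ∞) ∧
      LocCoh.depth ((f.fiber (f.base x)).presheaf.stalk (f.asFiber x))
        ((f.fiber (f.base x)).presheaf.stalk (f.asFiber x)) = (a : ℕ∞) := by
    intro x
    haveI : LocallyOfFiniteType (f.fiberToSpecResidueField (f.base x)) :=
      Groth.Agent.FibCodepth.locallyOfFiniteType_fiberToSpec f (f.base x)
    haveI : IsLocallyNoetherian (f.fiber (f.base x)) :=
      LocallyOfFiniteType.isLocallyNoetherian (f.fiberToSpecResidueField (f.base x))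
    set R := (f.fiber (f.base x)).presheaf.stalk (f.asFiber x)
    have h1 := Depth.depth_le_supportDim (R := R) (M := R)
    rw [Module.supportDim_self_eq_ringKrullDim] at h1
    have h2 : ringKrullDim R = ((IsLocalRing.maximalIdeal R).height : WithBot ℕ∞) :=
      IsLocalRing.maximalIdeal_height_eq_ringKrullDim.symm
    obtain ⟨m, hm⟩ := ENat.ne_top_iff_exists.1 (Ideal.height_ne_top (I := IsLocalRing.maximalIdeal R)
      (IsLocalRing.maximalIdeal.isMaximal R).ne_top)
    rw [← hm] at h2
    rw [h2] at h1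
    obtain ⟨a, ha⟩ := ENat.ne_top_iff_exists.1 (ne_top_of_le_ne_top (ENat.natCast_ne_top m) (WithBot.coe_le_coe.1 h1))
    refine ⟨a, m, ?_, h2, ha.symm⟩
    rw [← ha] at h1
    exact_mod_cast h1
  have hiff : ∀ k x (hx : x ∈ U) (a m : ℕ),
      ringKrullDim ((f.fiber (f.base x)).presheaf.stalk (f.asFiber x)) = (m : WithBot ℕ∞) →
      LocCoh.depth ((f.fiber (f.base x)).presheaf.stalk (f.asFiber x))
        ((f.fiber (f.base x)).presheaf.stalk (f.asFiber x)) = (a : ℕ∞) →
      (Groth.Agent.FibCodepth.CodepthLE Γ(S, V) Γ(X, U) Γ(X, U) (hU.primeIdealOf ⟨x, hx⟩).asIdeal k ↔ m ≤ a + k) := by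
    intro k x hx a m hm ha
    refine (Groth.Agent.FibCodepth.codepth_ring_iff_chart f hV hU e k (f.base x) (f.asFiber x) x
      (f.fiberι_asFiber x) hx).symm.trans ?_
    rw [hm, ha]
    norm_cast
  rcases Nat.eq_zero_or_pos n with rfl | hn
  · refine ⟨_, hc 0, fun x hx => ?_⟩
    obtain ⟨a, m, ham, hm, ha⟩ := hnum x
    refine Iff.trans ?_ (hiff 0 x hx a m hm ha).symm
    rw [hm, ha]
    norm_cast
    omega
  · refine ⟨_, (hc n).sdiff (hc (n - 1)), fun x hx => ?_⟩
    obtain ⟨a, m, ham, hm, ha⟩ := hnum x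
    refine Iff.trans ?_ ((hiff n x hx a m hm ha).and (not_congr (hiff (n - 1) x hx a m hm ha))).symm
    rw [hm, ha]
    norm_cast
    omega

end Groth.Agent.S3453
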