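import Groth.Statements.S3456
import Groth.Agent.EquidimPt.Basic
-- import your own Groth.Agent.* helpers here

set_option autoImplicit false
open CategoryTheory AlgebraicGeometry
universe u
open EGA43

namespace Groth.Agent.S3456

/-- Let Y be locally Noetherian, f : X ⟶ Y locally of finite type and x a point of X; let X_j run over
the (finitely many) irreducible components of X containing x. Then f is equidimensional at x if and
only if there is a natural number e such that for every X_j: the closure Y_j of f(X_j) is an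
irreducible component of Y; for every point η of Y whose closure equals Y_j (i.e. the generic point
of Y_j), the fibre X_j ∩ f⁻¹(η) has topological Krull dimension e; and the local dimension at x of
X_j ∩ f⁻¹(f x) is e. All subsets of X carry the induced topology. -/
theorem result {X Y : Scheme.{u}} [IsLocallyNoetherian Y] (f : X ⟶ Y)
    [LocallyOfFiniteType f] (x : X) :
    EGA43.IsEquidimAt f x ↔
      ∃ e : ℕ, ∀ Xj ∈ irreducibleComponents (X : Type u), ∀ hx : x ∈ Xj,
        closure (f.base '' Xj) ∈ irreducibleComponents (Y : Type u) ∧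
        (∀ η : Y, closure ({η} : Set Y) = closure (f.base '' Xj) →
          topologicalKrullDim ↥(Xj ∩ f.base ⁻¹' {η}) = e) ∧
        FlatMor.localDim ↥(Xj ∩ f.base ⁻¹' {f.base x}) ⟨x, ⟨hx, Set.mem_singleton (f.base x)⟩⟩ = e := by
  constructor
  · intro h
    obtain ⟨n₀, t₀, -, -, -, -, hfd⟩ := Groth.Agent.EquidimPt.fibre_facts f x
    refine ⟨n₀ + t₀, fun Xj hXj hx => ?_⟩
    obtain ⟨ξ, hmax, rfl⟩ := Groth.Agent.FlatOpen.EquiDim.exists_max_closure_eq hXj
    have hξ : ξ ⤳ x := specializes_iff_mem_closure.2 hx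
    obtain ⟨h1, h2⟩ := (Groth.Agent.EquidimPt.isEquidimAt_iff f x).1 h ξ hξ hmax
    obtain ⟨b, t, a, e, n, -, -, -, he, hfe, -, -, -, -, -⟩ := Groth.Agent.EquidimPt.comp_facts f hξ hmax
    rw [hfe, hfd] at h2
    rw [closure_image_closure f.continuous, Set.image_singleton]
    refine ⟨Groth.Agent.FlatOpen.EquiDim.closure_mem_irreducibleComponents h1, fun η hη => ?_, le_antisymm ?_ ?_⟩
    · obtain rfl : η = f ξ := (hη ▸ isGenericPoint_closure : IsGenericPoint η (closure {f ξ})).eq isGenericPoint_closure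
      rw [Groth.Agent.FibSemi.topDim_closure_inter_fibre_eq, he, h2]
    · exact (Groth.Agent.EquidimPt.localDim_le_fibreDimAt f hx).trans hfd.le
    · rw [← h2, ← he]
      exact Groth.Agent.EquidimPt.le_localDim f specializes_rfl hξ
  · rintro ⟨e₀, h⟩
    obtain ⟨c, hcx, hfc, -, -, -, e', -, -, hfdx, hc, -⟩ := Groth.Agent.FibSemi.exists_max_fibre f x
    have hcomp : ∀ ξ, ∀ hξ : ξ ⤳ x, Groth.Agent.FlatOpen.EquiDim.Max ξ → Groth.Agent.FlatOpen.EquiDim.Max (f ξ) ∧ FlatMor.fibreDimAt f ξ = e₀ ∧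
        FlatMor.localDim ↥(closure {ξ} ∩ f.base ⁻¹' {f.base x}) ⟨x, specializes_iff_mem_closure.1 hξ, rfl⟩ = e₀ := by
      intro ξ hξ hmax
      obtain ⟨h1, h2, h3⟩ := h (closure {ξ}) (Groth.Agent.FlatOpen.EquiDim.closure_mem_irreducibleComponents hmax)
        (specializes_iff_mem_closure.1 hξ)
      rw [closure_image_closure f.continuous, Set.image_singleton] at h1 h2
      obtain ⟨m, hm, hmeq⟩ := Groth.Agent.FlatOpen.EquiDim.exists_max_closure_eq h1
      obtain rfl : m = f ξ := (hmeq ▸ isGenericPoint_closure : IsGenericPoint m (closure {f ξ})).eq isGenericPoint_closure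
      obtain ⟨b, t, a, e, n, -, -, -, he, hfe, -, -, -, -, -⟩ := Groth.Agent.EquidimPt.comp_facts f hξ hmax
      have h4 := h2 (f ξ) rfl
      rw [Groth.Agent.FibSemi.topDim_closure_inter_fibre_eq, he] at h4
      exact ⟨hm, hfe.trans h4, h3⟩
    refine (Groth.Agent.EquidimPt.isEquidimAt_iff f x).2 fun ξ hξ hmax => ?_
    obtain ⟨h1, h2, -⟩ := hcomp ξ hξ hmax
    refine ⟨h1, le_antisymm (Groth.Agent.EquidimPt.fibreDimAt_mono f hξ) ?_⟩
    obtain ⟨ξ', hξ', hmax'⟩ := Groth.Agent.FlatOpen.EquiDim.exists_max c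
    rw [h2, hfdx, ← (hcomp ξ' (hξ'.trans hcx) hmax').2.2, ← hc]
    exact Groth.Agent.EquidimPt.le_localDim f hξ' hcx

end Groth.Agent.S3456
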