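import Groth.Statements.S3457
import Groth.Agent.EquidimPt.Basic
-- import your own Groth.Agent.* helpers here

set_option autoImplicit false
open CategoryTheory AlgebraicGeometry
universe u
open EGA43

namespace Groth.Agent.S3457

/-- Let Y be locally Noetherian, f : X ⟶ Y locally of finite type, x a point of X with y = f x, and
suppose f is equidimensional at x and O_{Y,y} is universally catenary. Let e be the local dimension
at x of the fibre X_y. Then for every minimal prime 𝔭 of O_{X,x} (that is, for every irreducible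
component X_j of X through x, with O_{X_j,x} = O_{X,x}/𝔭 and O_{Y_j,y} = O_{Y,y}/(𝔭 ∩ O_{Y,y})) one
has dim(O_{X,x}/𝔭) + trdeg_{κ(y)} κ(x) = dim(O_{Y,y}/(𝔭 ∩ O_{Y,y})) + e. -/
theorem result {X Y : Scheme.{u}} [IsLocallyNoetherian Y] (f : X ⟶ Y)
    [LocallyOfFiniteType f] (x : X) (h : EGA43.IsEquidimAt f x)
    (hcat : CAlg.IsUniversallyCatenary (Y.presheaf.stalk (f.base x))) :
    letI : Algebra (Y.residueField (f.base x)) (X.residueField x) := (f.residueFieldMap x).hom.toAlgebra
    ∀ 𝔭 ∈ minimalPrimes (X.presheaf.stalk x),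
      ringKrullDim (X.presheaf.stalk x ⧸ 𝔭) +
          (Cardinal.toNat (Algebra.trdeg (Y.residueField (f.base x)) (X.residueField x)) : WithBot ℕ∞) =
        ringKrullDim (Y.presheaf.stalk (f.base x) ⧸ 𝔭.comap (f.stalkMap x).hom) + FlatMor.fibreDimAt f x := by
  intro 𝔭 h𝔭
  let q : PrimeSpectrum (X.presheaf.stalk x) := ⟨𝔭, h𝔭.1.1⟩
  have hsp := Groth.Agent.FlatMor.DimOne.fromSpecStalk_specializes x q
  have hmax := (Groth.Agent.EquidimPt.max_iff_minimal x q).2 h𝔭
  obtain ⟨b, t, a, e, n, hb, ht, ha, -, hfe, -, hfd, -, -, heq⟩ := Groth.Agent.EquidimPt.comp_facts f hsp hmax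
  have he := ((Groth.Agent.EquidimPt.isEquidimAt_iff f x).1 h _ hsp hmax).2
  rw [hfe, hfd] at he
  have hen : e = n + t := Nat.cast_inj.mp he
  rw [show ringKrullDim (X.presheaf.stalk x ⧸ 𝔭) = b from (Groth.Agent.EquidimPt.dim_quot x q).trans hb,
    show ringKrullDim (Y.presheaf.stalk (f.base x) ⧸ 𝔭.comap (f.stalkMap x).hom) = a from
      (Groth.Agent.EquidimPt.dim_quot_comap f x q).trans ha, ht, Cardinal.toNat_natCast, hfd, ← Nat.cast_add, ← Nat.cast_add,
    ← hen, heq hcat]

end Groth.Agent.S3457
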