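import Groth.Statements.S3458
import Groth.Agent.SecDim.BaseChange
import Groth.Agent.UnivOpenDVR.Basic
import Groth.Agent.S4952
-- import your own Groth.Agent.* helpers here

set_option autoImplicit false
set_option linter.style.haveILetI false
open CategoryTheory AlgebraicGeometry
universe u
open EGA43

namespace Groth.Agent.S3458

/-- Let Y be locally Noetherian, f : X ⟶ Y locally of finite type, g a section of f, and X⁰_y the
connected component of f⁻¹(y) containing g(y). Suppose that every X⁰_y is geometrically irreducible: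
for every field extension K of κ(y), the preimage of X⁰_y in the base change of the fibre X_y to K
is irreducible. Then for every point y such that z ↦ dim X⁰_z is constant on a neighbourhood of y, f
is universally open at every point of X⁰_y. -/
theorem result {X Y : Scheme.{u}} [IsLocallyNoetherian Y]
    (f : X ⟶ Y) [LocallyOfFiniteType f] (g : Y ⟶ X) (hg : g ≫ f = 𝟙 Y)
    (hgi : ∀ (y : Y) (K : Type u) [Field K] [Algebra (IsLocalRing.ResidueField (Y.presheaf.stalk y)) K],
      IsIrreducible ((FBase.bcπ (f.fiberToSpecResidueField y) K ≫ f.fiberι y).base ⁻¹' (connectedComponentIn (f.base ⁻¹' {y}) (g.base y))))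
    (y : Y)
    (hc : ∃ V ∈ nhds y, ∀ z ∈ V, topologicalKrullDim ↥(connectedComponentIn (f.base ⁻¹' {z}) (g.base z)) = topologicalKrullDim ↥(connectedComponentIn (f.base ⁻¹' {y}) (g.base y))) :
    ∀ x ∈ connectedComponentIn (f.base ⁻¹' {y}) (g.base y), EGA43.IsUnivOpenAt f x := by
  intro x hx
  obtain ⟨V, hV, hVd⟩ := hc
  have hfx : f x = y := (connectedComponentIn_subset (f ⁻¹' {y}) _ hx :)
  rw [UnivOpenDVR.isUnivOpenAt_iff_dvr]
  intro A _ _ _ h hh x' hx' hx'c
  let q := Limits.pullback.snd f h
  let p := Limits.pullback.fst f h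
  let s' : Spec (CommRingCat.of A) ⟶ Limits.pullback f h :=
    Limits.pullback.lift (h ≫ g) (𝟙 _) (by rw [Category.assoc, hg, Category.comp_id, Category.id_comp])
  have hs' : s' ≫ q = 𝟙 _ := Limits.pullback.lift_snd _ _ _
  have hs'g : s' ≫ p = h ≫ g := Limits.pullback.lift_fst _ _ _
  have hc' : IsPullback p q f h := IsPullback.of_hasPullback f h
  let c : ↥(Spec (CommRingCat.of A)) := IsLocalRing.closedPoint A
  let η : ↥(Spec (CommRingCat.of A)) := ⟨⊥, Ideal.isPrime_bot⟩
  have hηc : η ⤳ c :=
    (PrimeSpectrum.le_iff_specializes (⟨⊥, Ideal.isPrime_bot⟩ : PrimeSpectrum A) _).mp bot_le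
  have hne : η ≠ c := fun he => IsDiscreteValuationRing.not_isField A
    (IsLocalRing.isField_iff_maximalIdeal_eq.mpr (congrArg PrimeSpectrum.asIdeal he).symm)
  have hhc : h c = y := hh.trans hfx
  have hηV : h η ∈ V :=
    interior_subset ((hηc.map h.continuous).mem_open isOpen_interior (hhc.symm ▸ mem_interior_iff_mem_nhds.mpr hV))
  haveI : LocallyOfFiniteType q := MorphismProperty.of_isPullback hc' inferInstance
  have hdim := SecDim.topDim_baseChange f g hg hc' hs' hs'g hgi
  have hirr := SecDim.isIrreducible_baseChange f g hg hc' hs' hs'g hgi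
  have hdη : topologicalKrullDim ↥(connectedComponentIn (q ⁻¹' {c}) (s' c)) =
      topologicalKrullDim ↥(connectedComponentIn (q ⁻¹' {η}) (s' η)) := by
    rw [hdim c, hdim η, hhc]
    exact (hVd _ hηV).symm
  have hqs : q (s' η) = η := by rw [← Scheme.Hom.comp_apply, hs']; rfl
  have hsub := (S4952.result q s' hs' c η hηc ⟨_, connectedComponentIn_subset _ _, hirr η,
    fun Z' hZ'i hZ' hle => Set.Subset.antisymm (hZ'i.isConnected.isPreconnected.subset_connectedComponentIn
      (hle (mem_connectedComponentIn hqs)) hZ') hle, mem_connectedComponentIn hqs, rfl⟩).2 (hirr c) hdη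
  have hx'C : x' ∈ connectedComponentIn (q ⁻¹' {c}) (s' c) := by
    rw [SecComp.mem_component_iff f g hg q p h hc' s' hs' hs'g c]
    refine ⟨?_, hx'c⟩
    rw [Set.mem_preimage, show p x' = x from hx', hhc]
    exact hx
  obtain ⟨z, hzη, -, -, hCz, -⟩ := SecDim.exists_generic q hqs (hirr η)
  have hx'z : z ⤳ x' := specializes_iff_mem_closure.mpr (closure_minimal
    (show connectedComponentIn (q.base ⁻¹' {η}) (s'.base η) ⊆ closure {z} from
      fun w hw => (hCz.subset hw).1) isClosed_closure (hsub hx'C))
  exact ⟨z, hx'z, fun he => hne (hzη.symm.trans he)⟩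

end Groth.Agent.S3458
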