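import Groth.Statements.S3459
import Groth.Agent.S3407
import Groth.Agent.S3409
import Groth.Agent.S3410
import Groth.Agent.GUOpen.Converse
import Groth.Agent.GUOpen.Crit

set_option autoImplicit false
open CategoryTheory AlgebraicGeometry
universe u
open EGA43

namespace Groth.Agent.S3459

open Limits Groth.Agent

lemma mem_locus_of_fibre {X Y : Scheme.{u}} (f : X ⟶ Y) {y : Y} (v : ↥(f.fiber y))
    (h : FBase.IsGeomReducedAt (f.fiberToSpecResidueField y) v) : f.fiberι y v ∈ GRLocus.locus f := by
  have hxy : f (f.fiberι y v) = y := (f.range_fiberι y).le (Set.mem_range_self v)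
  generalize hx : f.fiberι y v = x at hxy
  subst hxy
  rw [GRLocus.mem_locus_iff, show f.asFiber x = v from
    (f.fiberι (f x)).isEmbedding.injective ((f.fiberι_asFiber x).trans hx.symm)]
  exact h

/-- A Noetherian local ring with principal maximal ideal has at most one other prime. -/
lemma prime_unique {B : Type u} [CommRing B] [IsNoetherianRing B] [IsLocalRing B] (c : B)
    (hm : IsLocalRing.maximalIdeal B = Ideal.span {c}) (P : Ideal B) [P.IsPrime]
    (hP : P ≠ IsLocalRing.maximalIdeal B) : P = ⊥ := by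
  have hc : c ∉ P := fun h => hP ((IsLocalRing.le_maximalIdeal (Ideal.IsPrime.ne_top inferInstance)).antisymm
    (hm ▸ (Ideal.span_singleton_le_iff_mem _).mpr h))
  have key : ∀ n : ℕ, ∀ a ∈ P, a ∈ Ideal.span {c} ^ n := by
    intro n
    induction n with
    | zero => simp
    | succ n ih =>
      intro a ha
      obtain ⟨b, rfl⟩ := Ideal.mem_span_singleton'.mp
        (hm ▸ IsLocalRing.le_maximalIdeal (Ideal.IsPrime.ne_top inferInstance) ha : a ∈ Ideal.span {c})
      rw [pow_succ]
      exact Ideal.mul_mem_mul (ih b (((Ideal.IsPrime.mem_or_mem inferInstance ha)).resolve_right hc))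
        (Ideal.mem_span_singleton_self c)
  refine bot_unique fun a ha => ?_
  rw [← Ideal.iInf_pow_eq_bot_of_isLocalRing (Ideal.span {c}) (hm ▸ (IsLocalRing.maximalIdeal.isMaximal B).ne_top)]
  exact Ideal.mem_iInf.mpr fun n => key n a ha


/-- Let Y be an irreducible locally Noetherian scheme with generic point η, f : X ⟶ Y locally of finite
type, x a point of X and y = f x. Suppose (1) x lies on exactly one irreducible component Z of the
fibre X_y, and (2) X_y is geometrically reduced at the generic point of Z. Call an irreducible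
component X' of X containing x admissible when the local dimension at x of X' ∩ f⁻¹(y) equals that
of f⁻¹(y) and the restriction of f to X' (with its reduced structure) is universally open at the
generic points of the irreducible components of X' ∩ f⁻¹(y) containing x. Then there is at most one
admissible X'; and if X' is admissible, the fibre X_η is geometrically reduced at the generic point
of X'. -/
theorem result {X Y : Scheme.{u}} [IrreducibleSpace Y]
    [IsLocallyNoetherian Y] (f : X ⟶ Y) [LocallyOfFiniteType f] (x : X)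
    (h1 : ∃! Zc : Set ↥(f.fiber (f.base x)), Zc ∈ irreducibleComponents (↥(f.fiber (f.base x)) : Type u) ∧ f.asFiber x ∈ Zc)
    (h2 : ∀ z : ↥(f.fiber (f.base x)), f.asFiber x ∈ closure {z} →
      (∀ z' : ↥(f.fiber (f.base x)), z ∈ closure {z'} → z' = z) →
      FBase.IsGeomReducedAt (f.fiberToSpecResidueField (f.base x)) z) :
    letI adm : TopologicalSpace.Closeds X → Prop := fun X' =>
      (X' : Set X) ∈ irreducibleComponents (X : Type u) ∧ ∃ hx : x ∈ X',
        FlatMor.localDim ↥((X' : Set X) ∩ f.base ⁻¹' {f.base x}) ⟨x, ⟨hx, Set.mem_singleton (f.base x)⟩⟩ =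
          FlatMor.fibreDimAt f x ∧
        ∀ w : ↥(Scheme.IdealSheafData.vanishingIdeal X').subscheme,
          f.base ((Scheme.IdealSheafData.vanishingIdeal X').subschemeι.base w) = f.base x →
          x ∈ closure {(Scheme.IdealSheafData.vanishingIdeal X').subschemeι.base w} →
          (∀ t : X, t ∈ (X' : Set X) → f.base t = f.base x →
              (Scheme.IdealSheafData.vanishingIdeal X').subschemeι.base w ∈ closure {t} →
              t = (Scheme.IdealSheafData.vanishingIdeal X').subschemeι.base w) →
          EGA43.IsUnivOpenAt ((Scheme.IdealSheafData.vanishingIdeal X').subschemeι ≫ f) w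
    {X' : TopologicalSpace.Closeds X | adm X'}.Subsingleton ∧
      ∀ X' : TopologicalSpace.Closeds X, adm X' →
        ∀ ζ : ↥(f.fiber (genericPoint Y)), closure {(f.fiberι (genericPoint Y)).base ζ} = (X' : Set X) →
          FBase.IsGeomReducedAt (f.fiberToSpecResidueField (genericPoint Y)) ζ := by
  haveI : IsLocallyNoetherian X := LocallyOfFiniteType.isLocallyNoetherian f
  obtain ⟨z, hzx, hfz, hzmax, -, -, e, -, -, hfd, hze, -⟩ := FibSemi.exists_max_fibre f x
  obtain ⟨ζz, hζz⟩ : z ∈ Set.range (f.fiberι (f x)) := by rw [f.range_fiberι]; exact hfz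
  have hζzm : FlatOpen.EquiDim.Max ζz := fun v hv => (f.fiberι _).isEmbedding.injective (by
    rw [hζz]; exact hzmax _ ((f.range_fiberι _).le (Set.mem_range_self v)) (hζz ▸ hv.map (f.fiberι _).continuous))
  have hxζz : f.asFiber x ∈ closure {ζz} := by
    rw [← specializes_iff_mem_closure, ← (f.fiberι _).isEmbedding.isInducing.specializes_iff, f.fiberι_asFiber, hζz]
    exact hzx
  -- `z` is the only maximal point of the fibre over `x`
  have honly : ∀ c, f c = f x → (∀ w, f w = f x → w ⤳ c → w = c) → c ⤳ x → c = z := by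
    intro c hc hcm hcx
    obtain ⟨v, rfl⟩ : c ∈ Set.range (f.fiberι (f x)) := by rw [f.range_fiberι]; exact hc
    have hv : FlatOpen.EquiDim.Max v := fun v' hv' => (f.fiberι _).isEmbedding.injective
      (hcm _ ((f.range_fiberι _).le (Set.mem_range_self v')) (hv'.map (f.fiberι _).continuous))
    have hxv : f.asFiber x ∈ closure {v} := by
      rw [← specializes_iff_mem_closure, ← (f.fiberι _).isEmbedding.isInducing.specializes_iff, f.fiberι_asFiber]
      exact hcx
    have h := h1.unique ⟨FlatOpen.EquiDim.closure_mem_irreducibleComponents hv, hxv⟩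
      ⟨FlatOpen.EquiDim.closure_mem_irreducibleComponents hζzm, hxζz⟩
    rw [← hζz, (show IsGenericPoint v (closure {ζz}) from h ▸ isGenericPoint_closure).eq isGenericPoint_closure]
  have hzGR : z ∈ GRLocus.locus f := hζz ▸ mem_locus_of_fibre f ζz
    (h2 ζz hxζz fun z' hz' => hζzm z' (specializes_iff_mem_closure.2 hz'))
  -- what an admissible component gives
  have hadm : ∀ X' : TopologicalSpace.Closeds X, ((X' : Set X) ∈ irreducibleComponents (X : Type u) ∧ ∃ hx : x ∈ X',
        FlatMor.localDim ↥((X' : Set X) ∩ f.base ⁻¹' {f.base x}) ⟨x, ⟨hx, Set.mem_singleton (f.base x)⟩⟩ =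
          FlatMor.fibreDimAt f x ∧
        ∀ w : ↥(Scheme.IdealSheafData.vanishingIdeal X').subscheme,
          f.base ((Scheme.IdealSheafData.vanishingIdeal X').subschemeι.base w) = f.base x →
          x ∈ closure {(Scheme.IdealSheafData.vanishingIdeal X').subschemeι.base w} →
          (∀ t : X, t ∈ (X' : Set X) → f.base t = f.base x →
              (Scheme.IdealSheafData.vanishingIdeal X').subschemeι.base w ∈ closure {t} →
              t = (Scheme.IdealSheafData.vanishingIdeal X').subschemeι.base w) →
          EGA43.IsUnivOpenAt ((Scheme.IdealSheafData.vanishingIdeal X').subschemeι ≫ f) w) → ∃ ξ, closure {ξ} = (X' : Set X) ∧ ξ ⤳ z ∧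
      f ξ = genericPoint Y ∧ EGA43.IsUnivOpenAt f z ∧
      ∃ w : ↥(Scheme.IdealSheafData.vanishingIdeal X').subscheme,
        (Scheme.IdealSheafData.vanishingIdeal X').subschemeι w = z ∧
        EGA43.IsUnivOpenAt ((Scheme.IdealSheafData.vanishingIdeal X').subschemeι ≫ f) w := by
    rintro X' ⟨hcomp, hx, hdim, huo⟩
    obtain ⟨ξ, mξ, hξ⟩ := FlatOpen.EquiDim.exists_max_closure_eq hcomp
    have hzX' : z ∈ (X' : Set X) := by
      by_contra hzn
      obtain ⟨V, hxV, hV⟩ := GUOpen.exists_nhd_max f x (f x)
      let D : Set X := {w : X | f w = f x ∧ w ∈ (X' : Set X) ∧ w ∈ V}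
      have hle : (e : WithBot ℕ∞) ≤ Order.krullDim D := by
        rw [← hfd, ← hdim]
        exact (GUOpen.localDim_le_iff f _ X'.isClosed x hx _ (f x) rfl).2 ⟨V, hxV, le_rfl⟩
      obtain ⟨l, hl⟩ := Order.le_krullDim_iff.mp hle
      obtain ⟨c, hc, hcx, hfc, hcm⟩ := hV _ (l.last).2.2.2 (l.last).2.1
      obtain rfl := honly c hfc hcm hcx
      let S : Set X := {w : X | f w = f c ∧ c ⤳ w}
      have hmem : ∀ j, (l j).1 ∈ S := fun j => ⟨(l j).2.1.trans hfz.symm, hc.trans
        (show (l.last).1 ⤳ (l j).1 from l.monotone (Fin.le_last j))⟩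
      let l₁ : LTSeries S := (LTSeries.mk l.length (fun j => (⟨(l j).1, hmem j⟩ : S)) fun a b h => l.strictMono h).snoc
        ⟨c, rfl, specializes_rfl⟩ ⟨hc, fun h' => hzn ((hc.antisymm h').eq ▸ (l.last).2.2.1)⟩
      have h3 : ((l₁.length : ℕ) : WithBot ℕ∞) ≤ Order.krullDim S := Order.le_krullDim_iff.mpr ⟨l₁, rfl⟩
      rw [show l₁.length = e + 1 by rw [← hl]; rfl, hze] at h3
      exact absurd (show e + 1 ≤ e by exact_mod_cast h3) (by omega)
    have hrange : Set.range (Scheme.IdealSheafData.vanishingIdeal X').subschemeι = (X' : Set X) :=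
      AffThick.range_subschemeι_vanishingIdeal X'
    obtain ⟨w, hw⟩ : z ∈ Set.range (Scheme.IdealSheafData.vanishingIdeal X').subschemeι := hrange.symm ▸ hzX'
    let i := (Scheme.IdealSheafData.vanishingIdeal X').subschemeι
    change i w = z at hw
    have huw : EGA43.IsUnivOpenAt (i ≫ f) w := huo w (by rw [show i.base w = z from hw]; exact hfz)
      (by rw [show i.base w = z from hw]; exact specializes_iff_mem_closure.1 hzx)
      (fun t _ ht htz => by
        rw [show i.base w = z from hw] at htz ⊢
        exact hzmax t ht (specializes_iff_mem_closure.2 htz))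
    have hfξ : f ξ = genericPoint Y := by
      obtain ⟨c, hcw, hfc, -⟩ := GUOpen.exists_gen_of_isOpenAt (i ≫ f) (GUOpen.isOpenAt_of_univ (i ≫ f) huw)
        (y' := genericPoint Y) (genericPoint_specializes _)
      have h : ξ ⤳ i c := specializes_iff_mem_closure.2 (hξ.symm ▸ hrange.le (Set.mem_range_self c))
      have h' := h.map f.continuous
      rw [show f (i c) = genericPoint Y from (Scheme.Hom.comp_apply i f c).symm.trans hfc] at h'
      exact (h'.antisymm (genericPoint_specializes _)).eq
    exact ⟨ξ, hξ, specializes_iff_mem_closure.2 (hξ.symm ▸ hzX'), hfξ,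
      hw ▸ OpenAt.isUnivOpenAt_right_of_comp huw, w, hw, huw⟩
  refine ⟨fun X₁ hX₁ X₂ hX₂ => ?_, fun X' hX' ζ hζ => ?_⟩
  · obtain ⟨ξ₁, hcl₁, hξ₁z, hfξ₁, huz, w₁, hw₁, huw₁⟩ := hadm X₁ hX₁
    obtain ⟨ξ₂, hcl₂, hξ₂z, hfξ₂, -, w₂, hw₂, huw₂⟩ := hadm X₂ hX₂
    suffices h : ξ₁ = ξ₂ from SetLike.coe_injective (hcl₁.symm.trans (by rw [h]; exact hcl₂))
    by_cases hne : genericPoint Y = f x
    · rw [hzmax ξ₁ (hfξ₁.trans hne) hξ₁z, hzmax ξ₂ (hfξ₂.trans hne) hξ₂z]
    obtain ⟨R, _, _, _, g, hg0, hg1⟩ :=
      RatMapExt.exists_dvr_of_specializes (genericPoint_specializes (f x)) hne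
    let q := pullback.snd f g
    let p := pullback.fst f g
    haveI : IsLocallyNoetherian (pullback f g) := LocallyOfFiniteType.isLocallyNoetherian q
    have sq : IsPullback p q f g := IsPullback.of_hasPullback f g
    obtain ⟨x₀, hx₀, hx₀s⟩ := Scheme.exists_preimage_of_isPullback sq z (IsLocalRing.closedPoint R)
      (hfz.trans hg0.symm)
    obtain ⟨v, hvle, hvm⟩ := FlatOpen.EquiDim.exists_max (q.asFiber x₀)
    let zR := q.fiberι (q x₀) v
    have hqzR : q zR = IsLocalRing.closedPoint R :=
      ((q.range_fiberι _).le (Set.mem_range_self v)).trans hx₀s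
    have hpzR : p zR = z := by
      refine hzmax _ ?_ ?_
      · rw [← Scheme.Hom.comp_apply p, sq.w, Scheme.Hom.comp_apply, hqzR, hg0]
      · have h := (hvle.map (q.fiberι (q x₀)).continuous).map p.continuous
        rwa [q.fiberι_asFiber, hx₀] at h
    have hzRm : FlatOpen.EquiDim.Max (q.asFiber zR) := fun v' hv' => by
      have h1' : q (q.fiberι (q zR) v') = q x₀ :=
        ((q.range_fiberι _).le (Set.mem_range_self v')).trans (hqzR.trans hx₀s.symm)
      have h2' := hv'.map (q.fiberι (q zR)).continuous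
      rw [q.fiberι_asFiber] at h2'
      obtain ⟨v'', hv''⟩ : q.fiberι (q zR) v' ∈ Set.range (q.fiberι (q x₀)) := by rw [q.range_fiberι]; exact h1'
      rw [← hv''] at h2'
      rw [hvm v'' ((q.fiberι _).isEmbedding.specializes_iff.1 h2')] at hv''
      exact (q.fiberι _).isEmbedding.injective ((q.fiberι_asFiber zR).trans hv'').symm
    have hgr : zR ∈ GRLocus.locus q := SecDim.isGeomReducedAt_baseChange sq zR (by rw [hpzR]; exact hzGR)
    haveI hred : _root_.IsReduced ((q.fiber (q zR)).presheaf.stalk (q.asFiber zR)) :=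
      Groth.Agent.S3409.isReduced_stalk_of_isGeomReducedAt _ _ hgr
    -- the maximal ideal of the stalk is principal
    obtain ⟨ε⟩ := FlatMor.FibreStalk.exists_fibre_stalk_equiv q zR
    let A := (Spec (CommRingCat.of R)).presheaf.stalk (q zR)
    let B := (pullback f g).presheaf.stalk zR
    letI : Algebra R A := StructureSheaf.stalkAlgebra R (q zR)
    haveI : IsLocalization.AtPrime A (q zR).asIdeal := StructureSheaf.IsLocalization.to_stalk R (q zR)
    obtain ⟨π, hπ⟩ := IsDiscreteValuationRing.exists_irreducible R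
    have hmA : IsLocalRing.maximalIdeal A = Ideal.span {algebraMap R A π} := by
      rw [← IsLocalization.AtPrime.map_eq_maximalIdeal (q zR).asIdeal A,
        show (q zR).asIdeal = IsLocalRing.maximalIdeal R from congrArg PrimeSpectrum.asIdeal hqzR,
        (IsDiscreteValuationRing.irreducible_iff_uniformizer π).mp hπ, Ideal.map_span, Set.image_singleton]
    let I : Ideal B := (IsLocalRing.maximalIdeal A).map (q.stalkMap zR).hom
    let C := (q.fiber (q zR)).presheaf.stalk (q.asFiber zR)
    have hCfield : IsField C := by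
      rw [IsLocalRing.isField_iff_maximalIdeal_eq]
      have hmin := (EquidimPt.max_iff_minimal (q.asFiber zR) (IsLocalRing.closedPoint C)).1
        (Scheme.fromSpecStalk_closedPoint.symm ▸ hzRm)
      refine bot_unique fun a ha => ?_
      rw [Ideal.mem_bot]
      refine IsReduced.eq_zero a ?_
      rw [← mem_nilradical, nilradical_eq_sInf, Submodule.mem_sInf]
      intro P hP
      haveI : Ideal.IsPrime P := hP
      exact hmin.2 ⟨inferInstance, bot_le⟩ (IsLocalRing.le_maximalIdeal (Ideal.IsPrime.ne_top inferInstance)) ha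
    have hImax : I.IsMaximal := by
      refine Ideal.Quotient.maximal_of_isField I ?_
      exact ε.toMulEquiv.isField hCfield
    have hmB : IsLocalRing.maximalIdeal B = Ideal.span {(q.stalkMap zR).hom (algebraMap R A π)} := by
      rw [← IsLocalRing.eq_maximalIdeal hImax]
      show (IsLocalRing.maximalIdeal A).map _ = _
      rw [hmA, Ideal.map_span, Set.image_singleton]
    have huniq : ∀ a b : ↥(pullback f g), a ⤳ zR → b ⤳ zR → a ≠ zR → b ≠ zR → a = b := by
      intro a b ha hb hna hnb
      obtain ⟨P, rfl⟩ : a ∈ Set.range ((pullback f g).fromSpecStalk zR) := by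
        rw [Scheme.range_fromSpecStalk]; exact ha
      obtain ⟨Q, rfl⟩ : b ∈ Set.range ((pullback f g).fromSpecStalk zR) := by
        rw [Scheme.range_fromSpecStalk]; exact hb
      have h : ∀ T : PrimeSpectrum B, (pullback f g).fromSpecStalk zR T ≠ zR → T.asIdeal = ⊥ := fun T hT =>
        prime_unique _ hmB T.asIdeal fun h' => hT (by
          rw [show T = IsLocalRing.closedPoint B from PrimeSpectrum.ext h']
          exact Scheme.fromSpecStalk_closedPoint)
      rw [show P = Q from PrimeSpectrum.ext ((h P hna).trans (h Q hnb).symm)]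
    -- both components reach the other point
    have key : ∀ (X' : TopologicalSpace.Closeds X) (ξ : X), closure {ξ} = (X' : Set X) → f ξ = genericPoint Y →
        ∀ w : ↥(Scheme.IdealSheafData.vanishingIdeal X').subscheme,
          (Scheme.IdealSheafData.vanishingIdeal X').subschemeι w = z →
          EGA43.IsUnivOpenAt ((Scheme.IdealSheafData.vanishingIdeal X').subschemeι ≫ f) w →
          ∃ ν, ν ⤳ zR ∧ ν ≠ zR ∧ p ν = ξ := by
      intro X' ξ hcl hfξ w hw huw
      let i := (Scheme.IdealSheafData.vanishingIdeal X').subschemeι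
      have hrange : Set.range i = (X' : Set X) := AffThick.range_subschemeι_vanishingIdeal X'
      obtain ⟨wξ, hwξ⟩ : ξ ∈ Set.range i := by rw [hrange, ← hcl]; exact subset_closure rfl
      let m : pullback (i ≫ f) g ⟶ pullback f g := pullback.lift (pullback.fst (i ≫ f) g ≫ i)
        (pullback.snd (i ≫ f) g) (by rw [Category.assoc, pullback.condition])
      have sqW : IsPullback m (pullback.fst (i ≫ f) g) p i := by
        refine IsPullback.of_right ?_ (pullback.lift_fst _ _ _) (IsPullback.of_hasPullback f g).flip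
        rw [pullback.lift_snd]
        exact (IsPullback.of_hasPullback (i ≫ f) g).flip
      obtain ⟨w', hw'R, hw'w⟩ := Scheme.exists_preimage_of_isPullback sqW zR w (hpzR.trans hw.symm)
      have hw's : pullback.snd (i ≫ f) g w' = IsLocalRing.closedPoint R := by
        rw [← hqzR, ← hw'R, ← Scheme.Hom.comp_apply, pullback.lift_snd]
      obtain ⟨z', hz', hz's⟩ := (UnivOpenDVR.isUnivOpenAt_iff_dvr (i ≫ f) w).1 huw R g
        (by rw [Scheme.Hom.comp_apply, hw]; exact hg0.trans hfz.symm) w' hw'w hw's
      have hgen : g (pullback.snd (i ≫ f) g z') = genericPoint Y := by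
        obtain ⟨t₀, ht₀⟩ : pullback.snd (i ≫ f) g z' ∈
            Set.range (Spec.map (CommRingCat.ofHom (algebraMap R (FractionRing R)))) := by
          refine ⟨IsLocalRing.closedPoint (FractionRing R), PrimeSpectrum.ext ?_⟩
          rcases (show (pullback.snd (i ≫ f) g z').asIdeal = ⊥ ∨
              (pullback.snd (i ≫ f) g z').asIdeal = IsLocalRing.maximalIdeal R from
            (em _).imp_right fun hb => IsLocalRing.eq_maximalIdeal (IsPrime.to_maximal_ideal hb)) with h | h
          · rw [h]
            show Ideal.comap (algebraMap R (FractionRing R)) (IsLocalRing.maximalIdeal _) = ⊥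
            rw [IsLocalRing.maximalIdeal_eq_bot, ← RingHom.ker_eq_comap_bot]
            exact (RingHom.injective_iff_ker_eq_bot _).mp (IsFractionRing.injective R (FractionRing R))
          · exact absurd (PrimeSpectrum.ext h) hz's
        rw [← ht₀, ← Scheme.Hom.comp_apply, hg1]
      have hv : (i ≫ f) wξ = (i ≫ f) (pullback.fst (i ≫ f) g z') := by
        rw [← Scheme.Hom.comp_apply (pullback.fst (i ≫ f) g), pullback.condition, Scheme.Hom.comp_apply,
          Scheme.Hom.comp_apply, hgen, hwξ, hfξ]
      have hspec : wξ ⤳ pullback.fst (i ≫ f) g z' := i.isClosedEmbedding.isInducing.specializes_iff.1 (by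
        rw [hwξ]; exact specializes_iff_mem_closure.2 (hcl.symm ▸ hrange.le (Set.mem_range_self _)))
      obtain ⟨p', hp'z, hp'ξ, hp'q⟩ := Groth.Agent.S3410.gen_lift (IsPullback.of_hasPullback (i ≫ f) g) z' hspec hv
      refine ⟨m p', hw'R ▸ (hp'z.trans hz').map m.continuous, fun hne' => hz's ?_, ?_⟩
      · have h := congrArg (fun a => q a) hne'
        simp only at h
        rwa [← Scheme.Hom.comp_apply, pullback.lift_snd, hp'q, hqzR] at h
      · rw [← Scheme.Hom.comp_apply, pullback.lift_fst, Scheme.Hom.comp_apply, hp'ξ, hwξ]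
    obtain ⟨ν₁, a₁, b₁, c₁⟩ := key X₁ ξ₁ hcl₁ hfξ₁ w₁ hw₁ huw₁
    obtain ⟨ν₂, a₂, b₂, c₂⟩ := key X₂ ξ₂ hcl₂ hfξ₂ w₂ hw₂ huw₂
    rw [← c₁, ← c₂, huniq ν₁ ν₂ a₁ a₂ b₁ b₂]
  · obtain ⟨ξ, hcl, hξz, hfξ, huz, -⟩ := hadm X' hX'
    have hopenz : ∀ v : ↥(f.fiber (f.base z)), f.asFiber z ∈ closure {v} →
        (∀ v' : ↥(f.fiber (f.base z)), v ∈ closure {v'} → v' = v) →
        EGA43.IsUnivOpenAt f ((f.fiberι (f.base z)).base v) := fun v hv hvm => by
      have hvz : f.fiberι (f z) v ⤳ z := by
        have h := (specializes_iff_mem_closure.2 hv).map (f.fiberι (f z)).continuous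
        rwa [f.fiberι_asFiber] at h
      rw [show (f.fiberι (f.base z)).base v = z from
        hzmax _ (((f.range_fiberι _).le (Set.mem_range_self v) : f (f.fiberι (f z) v) = f z).trans hfz) hvz]
      exact huz
    obtain ⟨U, hzU, -, hU⟩ := Groth.Agent.S3407.result f z hopenz hzGR
    have hξU : ξ ∈ U := hξz.mem_open U.2 hzU
    have hζξ : f.fiberι (genericPoint Y) ζ = ξ :=
      (show IsGenericPoint (f.fiberι (genericPoint Y) ζ) (X' : Set X) from hζ).eq hcl
    exact GRLocus.isGeomReducedAt_fiber_of f ξ hfξ (hU ξ hξU) ζ hζξ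

end Groth.Agent.S3459
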