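import Groth.Statements.S3460
import Mathlib

set_option autoImplicit false
open CategoryTheory AlgebraicGeometry
universe u
open EGA43

namespace Groth.Agent.S3460

/-- Let Y be locally Noetherian and f : X ⟶ Y of finite type. Then there exist a scheme Z, a proper
morphism g : X ⟶ Z and an immersion h : Z ⟶ Y with f = g ≫ h if and only if f is proper at every
point of f(X), i.e. every point of f(X) has an open neighbourhood U in Y over which the restriction
of f is proper. -/
theorem result {X Y : Scheme.{u}} [IsLocallyNoetherian Y]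
    (f : X ⟶ Y) [LocallyOfFiniteType f] [QuasiCompact f] :
    (∃ (Z : Scheme.{u}) (g : X ⟶ Z) (h : Z ⟶ Y), IsProper g ∧ IsImmersion h ∧ g ≫ h = f) ↔
      ∀ x : X, ∃ U : Y.Opens, f.base x ∈ U ∧ IsProper (f ∣_ U) := by
  constructor
  · rintro ⟨Z, g, h, hg, hh, rfl⟩ x
    refine ⟨h.coborderRange, ?_, ?_⟩
    · change h (g x) ∈ h.coborderRange
      exact (congrArg (fun y => y ∈ h.coborderRange) congr($(h.liftCoborder_ι) (g x))).mp
        (h.liftCoborder (g x)).2
    · have htop : (g ≫ h) ⁻¹ᵁ h.coborderRange = ⊤ := by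
        apply TopologicalSpace.Opens.ext
        ext z
        simp only [TopologicalSpace.Opens.coe_top, Set.mem_univ, iff_true]
        change h (g z) ∈ h.coborderRange
        exact (congrArg (fun y => y ∈ h.coborderRange) congr($(h.liftCoborder_ι) (g z))).mp
          (h.liftCoborder (g z)).2
      have : IsIso (((g ≫ h) ⁻¹ᵁ h.coborderRange).ι) := by
        rw [htop]
        exact (Scheme.topIso X).isIso_hom
      have e : (g ≫ h) ∣_ h.coborderRange =
          ((g ≫ h) ⁻¹ᵁ h.coborderRange).ι ≫ g ≫ h.liftCoborder := by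
        rw [← cancel_mono h.coborderRange.ι, morphismRestrict_ι]
        simp
      rw [e]
      infer_instance
  · intro hx
    choose V hxV hV using hx
    have htop : f ⁻¹ᵁ (⨆ x, V x) = ⊤ :=
      TopologicalSpace.Opens.ext (Set.eq_univ_of_forall fun z =>
        TopologicalSpace.Opens.mem_iSup.2 ⟨z, hxV z⟩)
    have hU : IsProper (f ∣_ (⨆ x, V x)) := by
      refine IsZariskiLocalAtTarget.of_iSup_eq_top (P := @IsProper)
        (fun x => (⨆ x, V x).ι ⁻¹ᵁ V x) ?_ fun x => ?_
      · rw [← Scheme.Hom.preimage_iSup]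
        exact TopologicalSpace.Opens.ext (Set.eq_univ_of_forall fun z => z.2)
      · exact (MorphismProperty.arrow_mk_iso_iff @IsProper
          (morphismRestrictRestrict f (⨆ x, V x) ((⨆ x, V x).ι ⁻¹ᵁ V x) ≪≫
            morphismRestrictEq f (by
              rw [Scheme.Hom.image_preimage_eq_opensRange_inf, Scheme.Opens.opensRange_ι]
              exact inf_eq_right.2 (le_iSup V x)))).2 (hV x)
    have : IsIso ((f ⁻¹ᵁ (⨆ x, V x)).ι) := by
      rw [htop]
      exact (Scheme.topIso X).isIso_hom
    let f' : X ⟶ (⨆ x, V x).toScheme := inv ((f ⁻¹ᵁ (⨆ x, V x)).ι) ≫ f ∣_ (⨆ x, V x)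
    have hf' : IsProper (f'.toImage ≫ f'.imageι) := by
      rw [Scheme.Hom.toImage_imageι]
      infer_instance
    refine ⟨f'.image, f'.toImage, f'.imageι ≫ (⨆ x, V x).ι,
      IsProper.of_comp f'.toImage f'.imageι, inferInstance, ?_⟩
    rw [← Category.assoc, Scheme.Hom.toImage_imageι]
    simp [f', morphismRestrict_ι]

end Groth.Agent.S3460
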