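import Groth.Statements.S3461
import Groth.Agent.ProperFib.Spread
import Groth.Agent.S1559
import Mathlib.AlgebraicGeometry.Geometrically.Connected
import Mathlib.AlgebraicGeometry.Morphisms.UniversallyOpen
-- import your own Groth.Agent.* helpers here

set_option autoImplicit false
open CategoryTheory AlgebraicGeometry
universe u
open EGA43

namespace Groth.Agent.S3461

set_option backward.isDefEq.respectTransparency.types false

open CategoryTheory.Limits

/-- Nonempty fibres with at most one geometric connected component are geometrically connected. -/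
theorem geometricallyConnected_of_le_one {X Y : Scheme.{u}} (f : X ⟶ Y) [Surjective f]
    (h : ∀ y : Y, MoreMor.nGeomConnComp f y ≤ 1) : GeometricallyConnected f := by
  refine (GeometricallyConnected.iff_geometricallyConnected_fiber f).2 fun y => ?_
  let := f.fiberOverSpecResidueField y
  let k := Y.residueField y
  have : Surjective (f.fiberToSpecResidueField y) :=
    MorphismProperty.pullback_snd (P := @Surjective) _ _ inferInstance
  have : ConnectedSpace ↥(MoreMor.geomFiber f y) := by
    have h1 : Subsingleton (_root_.ConnectedComponents ↥(MoreMor.geomFiber f y)) := ENat.card_le_one_iff_subsingleton _ |>.1 (h y)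
    have h2 : PreconnectedSpace ↥(MoreMor.geomFiber f y) := by
      rw [preconnectedSpace_iff_connectedComponent]
      intro x
      refine Set.eq_univ_of_forall fun z => ?_
      exact connectedComponent_eq_iff_mem.1 (_root_.ConnectedComponents.coe_eq_coe.1 (@Subsingleton.elim _ h1 (z : _root_.ConnectedComponents _) x))
    let s := pullback.snd (f.fiberToSpecResidueField y)
      (Spec.map (CommRingCat.ofHom (algebraMap (Y.residueField y) (SeparableClosure (Y.residueField y)))))
    have : Surjective s := MorphismProperty.pullback_snd (P := @Surjective) _ _ inferInstance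
    exact { toNonempty := ⟨(s.surjective (IsLocalRing.closedPoint _)).choose⟩ }
  have : ConnectedSpace ↥(Curv2.bc (Y.residueField y) (f.fiber y) (SeparableClosure (Y.residueField y))) :=
    this
  exact Groth.Agent.S1559.result (Y.residueField y) (f.fiber y)


open CategoryTheory.Limits in
/-- Let f : X ⟶ Y be separated and of finite presentation. Suppose there is a surjective morphism of
finite presentation g : Y' ⟶ Y which is proper or flat, together with a Y-morphism Y' ⟶ X, and
suppose every fibre of f is geometrically connected. Then the set U of points y of Y whose fibre X_y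
is proper over κ(y) is open in Y, and the restriction of f over U is proper. -/
theorem result {X Y Y' : Scheme.{u}} (f : X ⟶ Y)
    [IsSeparated f] [LocallyOfFinitePresentation f] [QuasiCompact f] [QuasiSeparated f]
    (g : Y' ⟶ Y) [Surjective g] [LocallyOfFinitePresentation g] [QuasiCompact g] [QuasiSeparated g]
    (hg : IsProper g ∨ Flat g) (σ : Y' ⟶ X) (hσ : σ ≫ f = g)
    (hconn : ∀ y : Y, MoreMor.nGeomConnComp f y ≤ 1) :
    ∃ U : Y.Opens, (U : Set Y) = {y : Y | IsProper (f.fiberToSpecResidueField y)} ∧ IsProper (f ∣_ U) := by
  have hs : Surjective f := by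
    have : Surjective (σ ≫ f) := by rw [hσ]; infer_instance
    exact Surjective.of_comp σ f
  have hGC := geometricallyConnected_of_le_one f hconn
  have key : ∀ y : Y, IsProper (f.fiberToSpecResidueField y) → ∃ U : Y.Opens, y ∈ U ∧ IsProper (f ∣_ U) := by
    intro y hy
    refine Groth.Agent.ProperFib.Spread.exists_nhd_of_meet f y hy fun P hP hPs x => ?_
    let hp := Groth.Agent.ProperFib.Spread.henPoint y
    let p := pullback.snd f hp
    let q := pullback.snd g hp
    let σA : pullback g hp ⟶ pullback f hp :=
      pullback.lift (pullback.fst g hp ≫ σ) q (by rw [Category.assoc, hσ, pullback.condition])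
    have hσA : ∀ a, p (σA a) = q a := fun a => by
      rw [← Scheme.Hom.comp_apply, pullback.lift_snd]
    -- every point of the base is the image of a point of `Y'` landing in `P`
    obtain ⟨a, ha, haP⟩ : ∃ a, q a = p x ∧ σA a ∈ P := by
      rcases hg with hgp | hgf
      · obtain ⟨a, ha⟩ := q.surjective (p x)
        refine ⟨a, ha, by_contra fun hn => ?_⟩
        have : IsProper q := MorphismProperty.pullback_snd (P := @IsProper) _ _ hgp
        have he := Groth.Agent.ProperFib.Henselian.eq_empty_of_disjoint_fibre q
          (C := σA ⁻¹' (P : Set ↑(pullback f hp))ᶜ) (P.isOpen.isClosed_compl.preimage σA.continuous)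
          (fun b hb hbs => hb (hPs _ ((hσA b).trans hbs)))
        exact Set.notMem_empty a (he.le hn)
      · have : Flat q := MorphismProperty.pullback_snd (P := @Flat) _ _ hgf
        obtain ⟨a₀, ha₀⟩ := q.surjective (IsLocalRing.closedPoint _)
        obtain ⟨a, ha, hax⟩ := Flat.generalizingMap q
          (show p x ⤳ q a₀ from ha₀ ▸ IsLocalRing.specializes_closedPoint _)
        exact ⟨a, hax, (ha.map σA.continuous).mem_open P.isOpen (hPs _ ((hσA a₀).trans ha₀))⟩
    have hconnx := p.isConnected_preimage_singleton (p x)
    exact hconnx.isPreconnected.subset_isClopen ⟨hP, P.isOpen⟩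
      ⟨σA a, (hσA a).trans ha, haP⟩ rfl
  choose U hyU hU using key
  refine ⟨⨆ (y : Y) (hy : IsProper (f.fiberToSpecResidueField y)), U y hy, ?_, ?_⟩
  · ext z
    simp only [TopologicalSpace.Opens.coe_iSup, Set.mem_iUnion, SetLike.mem_coe, Set.mem_ofPred_eq]
    refine ⟨fun ⟨y, hy, hz⟩ => ?_, fun hz => ⟨z, hz, hyU z hz⟩⟩
    have := hU y hy
    have hpb := isPullback_fiberToSpecResidueField_of_isPullback (isPullback_morphismRestrict f (U y hy)).flip ⟨z, hz⟩
    have h1 : IsProper ((f ∣_ U y hy).fiberToSpecResidueField ⟨z, hz⟩) :=
      MorphismProperty.pullback_snd (P := @IsProper) _ _ inferInstance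
    have := Groth.Agent.FpqcDesc.descendsAlong_isProper.{u}
    refine MorphismProperty.of_isPullback_of_descendsAlong (P := @IsProper)
      (Q := (@Surjective ⊓ @Flat ⊓ @QuasiCompact : MorphismProperty Scheme.{u})) hpb.flip ?_ h1
    exact ⟨⟨inferInstance, inferInstance⟩, inferInstance⟩
  · let W : Y.Opens := ⨆ (y : Y) (hy : IsProper (f.fiberToSpecResidueField y)), U y hy
    show IsProper (f ∣_ W)
    let O : {y : Y // IsProper (f.fiberToSpecResidueField y)} → W.toScheme.Opens :=
      fun y => W.ι ⁻¹ᵁ U y.1 y.2
    refine (IsZariskiLocalAtTarget.iff_of_iSup_eq_top (P := @IsProper) O ?_).2 fun y => ?_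
    · refine top_le_iff.1 fun w _ => ?_
      obtain ⟨y, hy⟩ := TopologicalSpace.Opens.mem_iSup.1 w.2
      obtain ⟨hy', hw⟩ := TopologicalSpace.Opens.mem_iSup.1 hy
      exact TopologicalSpace.Opens.mem_iSup.2 ⟨⟨y, hy'⟩, hw⟩
    · refine (MorphismProperty.arrow_mk_iso_iff @IsProper (morphismRestrictRestrict f W (O y))).2 ?_
      have he : W.ι ''ᵁ O y = U y.1 y.2 := by
        refine TopologicalSpace.Opens.ext ?_
        simp only [O, Scheme.Hom.coe_image, Scheme.Hom.coe_preimage, Set.image_preimage_eq_inter_range,
          Scheme.Opens.range_ι]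
        exact Set.inter_eq_left.2 fun w hw => TopologicalSpace.Opens.mem_iSup.2 ⟨y.1, TopologicalSpace.Opens.mem_iSup.2 ⟨y.2, hw⟩⟩
      rw [he]
      exact hU y.1 y.2

end Groth.Agent.S3461
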