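import Groth.Statements.S3470
import Groth.Agent.S8534
import Groth.Agent.EtAcDepth.GlobalFibres
-- import your own Groth.Agent.* helpers here

set_option autoImplicit false
set_option backward.isDefEq.respectTransparency false
universe u
open CategoryTheory CategoryTheory.Limits AlgebraicGeometry Opposite
open EtAcyc

namespace Groth.Agent.S3470

/-- Abelian case, n ≥ 1: let g : X → Y be quasi-compact and quasi-separated, L a set of primes
(containing at least one prime) and n ≥ 1, and suppose g is locally (n-1)-acyclic for L. Then g is
n-acyclic for L if and only if, for every point y of Y and every separably closed field Ω algebraic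
over κ(y), the geometric fibre X ×_Y Spec Ω is an n-acyclic scheme for L (nonempty, connected, with
vanishing H^q(-, Z/ℓ) for ℓ ∈ L and 1 ≤ q ≤ n). The source does not require L to contain a prime;
with L empty every morphism is n-acyclic for L while geometric fibres need not be connected, so the
equivalence fails and that hypothesis is added here. -/
theorem result {X Y : Scheme.{u}} (g : X ⟶ Y) [QuasiCompact g] [QuasiSeparated g]
    (L : Set ℕ) (hL : ∃ ℓ ∈ L, ℓ.Prime) (n : ℕ) (hn : 1 ≤ n) (hloc : EtAcyc.IsLocAcyclicN g L (n - 1)) :
    EtAcyc.IsAcyclicN g L n ↔ EtAcyc.GeomFibresAcyclicN L n g := by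
  refine ⟨fun h => S8534.result g L hL n h, fun h => ?_⟩
  exact EtAcDepth.isAcyclicN_of_fibres g L hL (n - 1) n (by omega)
    (EtAcDepth.acycA_of_isLocAcyclicN hloc) h

end Groth.Agent.S3470
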