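import Groth.Statements.S3473
import Groth.Agent.EtaleSite.MinusOne
-- import your own Groth.Agent.* helpers here

set_option autoImplicit false
universe u
open CategoryTheory CategoryTheory.Limits AlgebraicGeometry Opposite
open EtAcyc

namespace Groth.Agent.S3473

/-- Let g : X → Y be a morphism of schemes. If g is surjective then g is (-1)-acyclic (for every etale V
→ Y and every sheaf of sets F on V, F → g'_* g'^* F is a monomorphism, g' the projection X ×_Y V →
V); conversely, if g is quasi-compact, quasi-separated and (-1)-acyclic then g is surjective. -/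
theorem result {X Y : Scheme.{u}} (g : X ⟶ Y) :
    (Function.Surjective g.base → EtAcyc.IsMinusOneAcyclic g) ∧
      (∀ [QuasiCompact g] [QuasiSeparated g], EtAcyc.IsMinusOneAcyclic g → Function.Surjective g.base) := by
  refine ⟨fun hg V F => ?_, fun {_} {_} h => Groth.Agent.EtaleSite.MinusOne.surjective_of_isMinusOneAcyclic g h⟩
  haveI : Surjective g := ⟨hg⟩
  haveI : Surjective (EtAcyc.prj g V) := MorphismProperty.pullback_fst V.hom g ‹_›
  exact Groth.Agent.EtaleSite.MinusOne.mono_unit_of_surjective _ F
end Groth.Agent.S3473
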