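import Groth.Statements.S3474
import Groth.Agent.ZeroAcyc.FlatMain
import Groth.Agent.ZeroAcyc.Chart

set_option autoImplicit false
universe u
open CategoryTheory CategoryTheory.Limits AlgebraicGeometry Opposite
open EtAcyc
open scoped TensorProduct

namespace Groth.Agent.S3474

/-- Let g : X → Y be a flat morphism of schemes whose fibres are separable (every base change of a fibre
to a field is a reduced scheme), and assume either that X and Y are locally Noetherian or that g is
locally of finite presentation. Then g is universally locally 0-acyclic: after any base change,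
every induced morphism of strict localizations Spec R_X → Spec R_Y is 0-acyclic (units F → g'_* g'^*
F bijective for all sheaves of sets F on all etale V over Spec R_Y). -/
theorem result {X Y : Scheme.{u}} (g : X ⟶ Y) [Flat g]
    (hsep : ∀ (K : Type u) [Field K] (k : Spec (CommRingCat.of K) ⟶ Y), IsReduced (pullback g k))
    (h : (IsLocallyNoetherian X ∧ IsLocallyNoetherian Y) ∨ LocallyOfFinitePresentation g) :
    EtAcyc.IsULocZeroAcyclic g := by
  haveI : GeometricallyReduced g := by
    rw [GeometricallyReduced.eq_geometrically, geometrically_iff_of_isClosedUnderIsomorphisms]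
    exact fun K _ k => hsep K k
  intro X₁ Y₁ g₁ b' b hsq x RY RX _ _ _ _ _ _ _ _ _ _ _ _ hloc
  haveI : HenselianLocalRing RY := Hensel.IsStrictHenselization.henselian (Y₁.presheaf.stalk (g₁.base x))
  haveI : HenselianLocalRing RX := Hensel.IsStrictHenselization.henselian (X₁.presheaf.stalk x)
  haveI : IsSepClosed (IsLocalRing.ResidueField RY) :=
    (Hensel.IsStrictHenselization.isSepClosure (R := Y₁.presheaf.stalk (g₁.base x)) (S := RY)).sep_closed
  haveI : IsSepClosed (IsLocalRing.ResidueField RX) :=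
    (Hensel.IsStrictHenselization.isSepClosure (R := X₁.presheaf.stalk x) (S := RX)).sep_closed
  obtain ⟨O, e, _, hy, -⟩ := Scheme.exists_affine_mem_range_and_range_subset (x := g (b' x))
    (U := (⊤ : Y.Opens)) trivial
  obtain ⟨C, eC, _, hxC, hC⟩ := Scheme.exists_affine_mem_range_and_range_subset (x := b' x)
    (U := g ⁻¹ᵁ e.opensRange) hy
  have hyY : b (g₁ x) = g (b' x) := by
    rw [← Scheme.Hom.comp_apply, ← Scheme.Hom.comp_apply, hsq.w]
  obtain ⟨R₀, e₀, _, hxR, hR⟩ := Scheme.exists_affine_mem_range_and_range_subset (x := g₁ x)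
    (U := b ⁻¹ᵁ e.opensRange) (show b (g₁ x) ∈ e.opensRange by rw [hyY]; exact hy)
  have hCr : Set.range (eC ≫ g) ⊆ Set.range e := Set.range_subset_iff.2 fun t => hC ⟨t, rfl⟩
  have hRr : Set.range (e₀ ≫ b) ⊆ Set.range e := Set.range_subset_iff.2 fun t => hR ⟨t, rfl⟩
  let φC : O ⟶ C := Spec.preimage (IsOpenImmersion.lift e (eC ≫ g) hCr)
  let φR : O ⟶ R₀ := Spec.preimage (IsOpenImmersion.lift e (e₀ ≫ b) hRr)
  letI : Algebra O C := φC.hom.toAlgebra
  letI : Algebra O R₀ := φR.hom.toAlgebra
  let a : Spec C ⟶ Spec O := Spec.map (CommRingCat.ofHom (algebraMap O C))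
  let rO : Spec R₀ ⟶ Spec O := Spec.map (CommRingCat.ofHom (algebraMap O R₀))
  have ha : a ≫ e = eC ≫ g := by
    show Spec.map φC ≫ e = _
    rw [Spec.map_preimage]
    exact IsOpenImmersion.lift_fac e _ _
  have hr : rO ≫ e = e₀ ≫ b := by
    show Spec.map φR ≫ e = _
    rw [Spec.map_preimage]
    exact IsOpenImmersion.lift_fac e _ _
  have hsqa : IsPullback (𝟙 (Spec C)) a (eC ≫ g) e :=
    IsPullback.of_horiz_isIso_mono ⟨by rw [Category.id_comp, ha]⟩
  haveI : Flat a := MorphismProperty.of_isPullback hsqa (inferInstance : Flat (eC ≫ g))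
  haveI : Module.Flat O C := RingHom.flat_algebraMap_iff.1 ((HasRingHomProperty.Spec_iff (P := @Flat)).1 ‹Flat a›)
  haveI : GeometricallyReduced a := MorphismProperty.of_isPullback hsqa
    (Groth.Agent.ZeroAcyc.geometricallyReduced_etale_comp eC g)
  have hA : IsNoetherianRing O ∨ Algebra.FinitePresentation O C := by
    rcases h with ⟨-, hY⟩ | hfp
    · haveI := hY
      haveI : IsLocallyNoetherian (Spec O) := LocallyOfFiniteType.isLocallyNoetherian e
      exact Or.inl (isLocallyNoetherian_Spec.1 inferInstance)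
    · haveI := hfp
      haveI : LocallyOfFinitePresentation a :=
        MorphismProperty.of_isPullback hsqa (inferInstance : LocallyOfFinitePresentation (eC ≫ g))
      exact Or.inr (RingHom.finitePresentation_algebraMap.1
        ((HasRingHomProperty.Spec_iff (P := @LocallyOfFinitePresentation)).1 ‹LocallyOfFinitePresentation a›))
  let μ := pullback.map a rO g b eC e₀ e ha hr
  let ε : Spec (CommRingCat.of ((C : Type u) ⊗[O] (R₀ : Type u))) ⟶ X₁ :=
    (pullbackSpecIso O C R₀).inv ≫ μ ≫ hsq.isoPullback.inv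
  haveI : IsOpenImmersion μ := inferInstance
  haveI : IsOpenImmersion ε := inferInstance
  have hxε : x ∈ Set.range ε := by
    have h1 : hsq.isoPullback.hom x ∈ Set.range μ := by
      rw [Scheme.Pullback.range_map]
      exact ⟨by rw [Set.mem_preimage, ← Scheme.Hom.comp_apply, hsq.isoPullback_hom_fst]; exact hxC,
        by rw [Set.mem_preimage, ← Scheme.Hom.comp_apply, hsq.isoPullback_hom_snd]; exact hxR⟩
    obtain ⟨t, ht⟩ := h1
    refine ⟨(pullbackSpecIso O C R₀).hom t, ?_⟩
    rw [← Scheme.Hom.comp_apply, Iso.hom_inv_id_assoc, Scheme.Hom.comp_apply, ht, ← Scheme.Hom.comp_apply,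
      Iso.hom_inv_id]
    rfl
  have hεg : ε ≫ g₁ = Spec.map (CommRingCat.ofHom
      (Algebra.TensorProduct.includeRight : R₀ →ₐ[O] (C : Type u) ⊗[O] (R₀ : Type u)).toRingHom) ≫ e₀ := by
    simp only [ε, μ, Category.assoc, IsPullback.isoPullback_inv_snd, pullback.lift_snd]
    rw [← Category.assoc, pullbackSpecIso_inv_snd]
    rfl
  let ρ := Groth.Agent.ZeroAcyc.chartToStalk ε x hxε
  let ρ₀ := Groth.Agent.ZeroAcyc.chartToStalk e₀ (g₁.base x) hxR
  have hρ : ρ₀ ≫ g₁.stalkMap x = CommRingCat.ofHom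
      (Algebra.TensorProduct.includeRight : R₀ →ₐ[O] (C : Type u) ⊗[O] (R₀ : Type u)).toRingHom ≫ ρ := by
    refine Spec.map_injective ((cancel_mono e₀).1 ?_)
    rw [Spec.map_comp, Spec.map_comp, Category.assoc, Category.assoc,
      Groth.Agent.ZeroAcyc.map_chartToStalk, Scheme.SpecMap_stalkMap_fromSpecStalk, ← hεg, ← Category.assoc,
      Groth.Agent.ZeroAcyc.map_chartToStalk]
  letI algY : Algebra R₀ RY := ((algebraMap (Y₁.presheaf.stalk (g₁.base x)) RY).comp ρ₀.hom).toAlgebra
  letI algX : Algebra ((C : Type u) ⊗[O] (R₀ : Type u)) RX :=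
    ((algebraMap (X₁.presheaf.stalk x) RX).comp ρ.hom).toAlgebra
  refine Groth.Agent.ZeroAcyc.isZeroAcyclic_flat (A := O) (C := C) (R₀ := R₀) ‹GeometricallyReduced a› hA (fun r => ?_)
    (Groth.Agent.ZeroAcyc.fac_et_chart e₀ (g₁.base x) hxR RY fun _ => rfl)
    (Groth.Agent.ZeroAcyc.fac_et_chart ε x hxε RX fun _ => rfl)
  show algebraMap (X₁.presheaf.stalk x) RX (ρ.hom (1 ⊗ₜ r)) =
    algebraMap RY RX (algebraMap (Y₁.presheaf.stalk (g₁.base x)) RY (ρ₀.hom r))
  have h1 : algebraMap RY RX (algebraMap (Y₁.presheaf.stalk (g₁.base x)) RY (ρ₀.hom r)) =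
      algebraMap (X₁.presheaf.stalk x) RX ((g₁.stalkMap x).hom (ρ₀.hom r)) := RingHom.congr_fun hloc _
  rw [h1]
  exact congrArg _ (congrArg (fun m => m.hom r) hρ).symm

end Groth.Agent.S3474
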