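import Groth.Statements.S3476
import Groth.Agent.EtAcDepth.FibreVanish
-- import your own Groth.Agent.* helpers here

set_option autoImplicit false
set_option backward.isDefEq.respectTransparency false
universe u
open CategoryTheory CategoryTheory.Limits AlgebraicGeometry Opposite
open EtAcyc

namespace Groth.Agent.S3476

/-- Abelian case, n ≥ 1: let g : X → Y be quasi-compact and quasi-separated, L a set of primes (assumed
here to contain a prime, a harmless addition: for L empty F = 0), n ≥ 1, and suppose g is both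
(n-1)-acyclic for L and locally (n-1)-acyclic for L. Let F be an abelian L-torsion sheaf on Y and ξ
∈ H^n(X, g⁻¹F). Then ξ lies in the image of H^n(Y, F) → H^n(X, g⁻¹F) if and only if for every point
y of Y and every separably closed field Ω algebraic over κ(y), the image of ξ in H^n(X ×_Y Spec Ω,
g⁻¹F restricted) vanishes. -/
theorem result {X Y : Scheme.{u}} (g : X ⟶ Y) [QuasiCompact g] [QuasiSeparated g]
    (L : Set ℕ) (hL : ∃ ℓ ∈ L, ℓ.Prime) (n : ℕ) (hn : 1 ≤ n)
    (hglob : EtAcyc.IsAcyclicN g L (n - 1)) (hloc : EtAcyc.IsLocAcyclicN g L (n - 1))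
    [PreservesFiniteLimits (EtCoh.pull g)] (F : EtCoh.Ab Y) (hF : EtAcyc.IsLTorsion L F)
    (ξ : EtCoh.H X ((EtCoh.pull g).obj F) n) :
    ξ ∈ Set.range (EtCore.Hpull g F n) ↔
      ∀ (y : Y) (Ω : Type u) [Field Ω] [IsSepClosed Ω] [Algebra (Y.residueField y) Ω]
        [Algebra.IsAlgebraic (Y.residueField y) Ω]
        [PreservesFiniteLimits (EtCoh.pull (pullback.fst g (EtAcyc.geomPt Y y Ω)))],
        EtCore.Hpull (pullback.fst g (EtAcyc.geomPt Y y Ω)) ((EtCoh.pull g).obj F) n ξ = 0 := by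
  obtain ⟨k, rfl⟩ : ∃ k, n = k + 1 := ⟨n - 1, by omega⟩
  simp only [Nat.add_sub_cancel] at hglob hloc
  constructor
  · rintro ⟨t, rfl⟩ y Ω _ _ _ _ _
    let a := pullback.fst g (geomPt Y y Ω)
    refine (EtAcDepth.Hpull_Hpull_eq_zero_iff a g rfl F _ t).2 ?_
    refine (EtAcDepth.Hpull_Hpull_eq_zero_iff (pullback.snd g (geomPt Y y Ω)) (geomPt Y y Ω)
      (pullback.condition).symm F _ t).1 ?_
    haveI := EtAcDepth.isSepClosed_residueField_field Ω
    haveI := EtaleSite.subsingleton_H Ω ((EtCoh.pull (geomPt Y y Ω)).obj F) (k + 1) (Nat.succ_pos k)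
    rw [Subsingleton.elim (EtCore.Hpull (geomPt Y y Ω) F (k + 1) t) 0, map_zero]
  · intro h
    obtain ⟨hu, hR⟩ := EtAcDepth.unit_of_compN g L k (fun W _ => ⟨pullback W.hom g, pullback.snd _ _,
      pullback.fst _ _, (IsPullback.of_hasPullback _ _).flip, hglob W⟩) F hF
    refine EtAcDepth.mem_range_Hpull_of_strict g F k hu hR ξ fun y => ?_
    let R := Hens.StrictHenselization ↑(Y.presheaf.stalk y)
    let iR : Hensel.IsStrictHenselization ↑(Y.presheaf.stalk y) R := inferInstance
    obtain ⟨P⟩ := EtLimit.nonempty_etPres Y y R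
    exact ⟨_, Hens2.specOf Y y R, P, ⟨IsLocalRing.closedPoint R, EtAcDepth.specOf_closedPoint' Y y R⟩,
      EtAcDepth.Hpull_specOf_eq_zero g L hL k (EtAcDepth.acycA_of_isLocAcyclicN hloc)
        (S8534.result g L hL k hglob) F hF ξ (fun y' Ω => h y' Ω) y R⟩

end Groth.Agent.S3476
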