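import Groth.Statements.S3481
import Groth.Agent.EtAcDepth.NormalGenericLisse
-- import your own Groth.Agent.* helpers here

set_option autoImplicit false
set_option backward.isDefEq.respectTransparency false
universe u
open CategoryTheory CategoryTheory.Limits AlgebraicGeometry Opposite
open EtAcyc

namespace Groth.Agent.S3481

/-- Abelian case: let Y be a normal integral scheme whose generic point y₁ has separably closed residue
field, f : X → Y a morphism locally n-acyclic for the set of primes L, X₁ = X ×_Y Spec κ(y₁) the
generic fibre with projection g₁ : X₁ → X, and F a locally constant abelian L-torsion sheaf on the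
small étale site of X. Then H^q(X, F) → H^q(X₁, g₁⁻¹F) is bijective for q ≤ n and injective for q =
n + 1. (The published text says bijective for q = n; bijectivity holds for every q ≤ n, which is
what is stated. Exactness of the inverse image along g₁ is carried as an instance hypothesis.) -/
theorem result {X Y : Scheme.{u}} [IsIntegral Y]
    (hY : Pi1.IsNormalScheme Y) [IsSepClosed (Y.residueField (genericPoint Y))]
    (f : X ⟶ Y) (L : Set ℕ) (n : ℕ) (hf : EtAcyc.IsLocAcyclicN f L n)
    (F : EtCoh.Ab X) (hF : EtAcyc.IsLTorsion L F) (hlc : EtRest.IsLocallyConstant F)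
    [PreservesFiniteLimits (EtCoh.pull (pullback.fst f (Y.fromSpecResidueField (genericPoint Y))))] :
    (∀ q : ℕ, q ≤ n →
      Function.Bijective (EtCore.Hpull (pullback.fst f (Y.fromSpecResidueField (genericPoint Y))) F q)) ∧
    Function.Injective (EtCore.Hpull (pullback.fst f (Y.fromSpecResidueField (genericPoint Y))) F (n + 1)) := by
  let t := Y.fromSpecResidueField (genericPoint Y)
  haveI := (EtAcDepth.quasiCompact_quasiSeparated_generic (Y := Y)).1
  haveI := (EtAcDepth.quasiCompact_quasiSeparated_generic (Y := Y)).2
  haveI : QuasiCompact (pullback.fst f t) := MorphismProperty.pullback_fst _ _ inferInstance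
  haveI : QuasiSeparated (pullback.fst f t) := MorphismProperty.pullback_fst _ _ inferInstance
  by_cases hL : ∃ ℓ ∈ L, ℓ.Prime
  · have hA := EtAcDepth.acycA_of_isLocAcyclicN hf
    have sq : IsPullback (pullback.snd f t) (pullback.fst f t) t f := (IsPullback.of_hasPullback f t).flip
    exact EtAcDepth.Hpull_comparison_of_unit _ F n
      (EtAcDepth.isIso_unit_generic_lisse hY f L n hA hL _ _ sq F hlc)
      (fun q h1 h2 => EtAcDepth.isZero_Rpush_generic_lisse hY f L n hA _ _ sq F hlc hF q h1 h2)
  · -- without primes in `L` the sheaf vanishes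
    have hz : IsZero F := by
      refine (EtaleSite.isZero_iff_stalk F).2 fun Ω _ _ ξ => ?_
      refine @AddCommGrpCat.isZero_of_subsingleton _ (subsingleton_of_forall_eq 0 fun x => ?_)
      obtain ⟨m, hm, hx⟩ := (S8525.result L F).1 hF Ω ξ x
      rcases eq_or_ne m 1 with rfl | h1
      · rwa [one_nsmul] at hx
      · obtain ⟨ℓ, hℓ, hd⟩ := Nat.exists_prime_and_dvd h1
        exact absurd ⟨ℓ, hm.2 ℓ hℓ hd, hℓ⟩ hL
    have h1 : ∀ q, Subsingleton (EtCoh.H X F q) := fun q =>
      AddCommGrpCat.subsingleton_of_isZero ((EtCoh.HF X q).map_isZero hz)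
    have h2 : ∀ q, Subsingleton (EtCoh.H (pullback f t) ((EtCoh.pull (pullback.fst f t)).obj F) q) :=
      fun q => AddCommGrpCat.subsingleton_of_isZero
        ((EtCoh.HF _ q).map_isZero ((EtCoh.pull (pullback.fst f t)).map_isZero hz))
    exact ⟨fun q _ => ⟨fun a b _ => @Subsingleton.elim _ (h1 q) a b, fun y => ⟨0, @Subsingleton.elim _ (h2 q) _ _⟩⟩,
      fun a b _ => @Subsingleton.elim _ (h1 (n + 1)) a b⟩

end Groth.Agent.S3481
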