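import Groth.Statements.S3491
import Groth.Agent.GalCohAux.EtDimVanE

set_option autoImplicit false
universe u
open CategoryTheory CategoryTheory.Limits AlgebraicGeometry Opposite
open EtCd

namespace Groth.Agent.S3491

/-- Let X be a Noetherian scheme, ℓ a prime and φ : X → ℕ a function such that (i) cd_ℓ(κ(x)) ≤ φ(x) for
every point x, and (ii) for all points x ≠ y with y in the closure of x, every strict henselization
R of the local ring of X at y, and every prime P of R minimal over the ideal generated by the prime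
of x (so that the Frac(R/P) are the residue fields of the ring of rational functions of the strict
localization at y of the closure of x), cd_ℓ(Frac(R/P)) < φ(x) - φ(y). Then for every ℓ-primary
torsion abelian sheaf F on the small etale site of X, H^q(X, F) = 0 for every q exceeding φ(x) at
all points x where F has a nonzero geometric stalk. -/
theorem result (X : Scheme.{u}) [IsNoetherian X] (ℓ : ℕ) (hℓ : ℓ.Prime) (φ : X → ℕ)
    (h1 : ∀ x : X, Dix.CohDimLEAt (Spec (X.residueField x)) ℓ (φ x))
    (h2 : ∀ (x y : X) (hxy : x ⤳ y), x ≠ y →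
      ∀ (R : Type u) [CommRing R] [IsLocalRing R] [Algebra (X.presheaf.stalk y) R]
      [IsLocalHom (algebraMap (X.presheaf.stalk y) R)] [Hensel.IsStrictHenselization (X.presheaf.stalk y) R],
      ∀ P ∈ ((RingHom.ker (Cyc.specMap y x hxy)).map (algebraMap (X.presheaf.stalk y) R)).minimalPrimes,
        ∃ d : ℕ, d + 1 + φ y ≤ φ x ∧ Dix.CohDimLEAt (Spec (CommRingCat.of (FractionRing (R ⧸ P)))) ℓ d)
    (F : EtCoh.Ab X) (hF : Dix.IsPrimaryTorsion ℓ F) (q : ℕ) (hq : ∀ x ∈ EtPBC.supp F, φ x < q) :
    Subsingleton (EtCoh.H X F q) := by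
  have conv : ∀ {Y : Scheme.{u}} (G : EtCoh.Ab Y), (GalCohAux.EtDimVanD.torsionClass {ℓ}).P G → Dix.IsPrimaryTorsion ℓ G :=
    fun G hG => (GalCohAux.EtDimVanD.isPrimaryTorsion_iff hℓ G).2 hG
  refine GalCohAux.EtDimVanC.vanishing (GalCohAux.EtDimVanD.torsionClass {ℓ}) φ (fun x y hxy hne => ?_)
    (fun x M hM q hq => h1 x M (conv M hM) q hq) (fun x y hxy hne R _ _ _ _ _ P hP M hM q hq => ?_) F
    ((GalCohAux.EtDimVanD.isPrimaryTorsion_iff hℓ F).1 hF) q hq
  · obtain ⟨R, _, _, _, _, _, P, hP⟩ := GalCohAux.EtDimVanE.exists_minimalPrime x y hxy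
    obtain ⟨d, hd, -⟩ := h2 x y hxy hne R P hP
    omega
  · obtain ⟨d, hd, hcd⟩ := h2 x y hxy hne R P hP
    exact hcd M (conv M hM) q (by omega)

end Groth.Agent.S3491
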