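import Groth.Statements.S3492
import Groth.Agent.GalCohAux.EtStrictDim

set_option autoImplicit false
universe u
open CategoryTheory CategoryTheory.Limits AlgebraicGeometry Opposite
open EtCd

namespace Groth.Agent.S3492

theorem exists_nat_ringKrullDim (R : Type u) [CommRing R] [IsNoetherianRing R] [IsLocalRing R] :
    ∃ c : ℕ, ringKrullDim R = c := by
  rw [← IsLocalRing.maximalIdeal_height_eq_ringKrullDim]
  obtain ⟨c, hc⟩ := WithTop.ne_top_iff_exists.1 (Ideal.height_ne_top (I := IsLocalRing.maximalIdeal R)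
    (IsLocalRing.maximalIdeal.isMaximal R).ne_top)
  exact ⟨c, by rw [← hc]; rfl⟩

/-- Let X be a Noetherian scheme, ℓ a prime and n a natural number such that (i) for every point y of
codimension c (dimension of the local ring) one has 2c ≤ n and cd_ℓ(κ(y)) ≤ n - 2c, and (ii) for all
points x, y with y in the closure of x and every strict henselization R of the local ring at y,
putting A = R / p_x R (a strict localization of the closure of x with its reduced structure),
cd_ℓ(Frac(R/P)) ≤ dim A for every prime P of R minimal over p_x R. Then for every ℓ-primary torsion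
abelian sheaf F whose geometric stalks vanish at all points of codimension < s, H^q(X, F) = 0 for q
> n - 2s; in particular (s = 0) cd_ℓ(X) ≤ n. -/
theorem result (X : Scheme.{u}) [IsNoetherian X] (ℓ : ℕ) (hℓ : ℓ.Prime) (n : ℕ)
    (h1 : ∀ (y : X) (c : ℕ), ringKrullDim (X.presheaf.stalk y) = c →
      2 * c ≤ n ∧ Dix.CohDimLEAt (Spec (X.residueField y)) ℓ (n - 2 * c))
    (h2 : ∀ (x y : X) (hxy : x ⤳ y), ∀ (R : Type u) [CommRing R] [IsLocalRing R] [Algebra (X.presheaf.stalk y) R]
      [IsLocalHom (algebraMap (X.presheaf.stalk y) R)] [Hensel.IsStrictHenselization (X.presheaf.stalk y) R],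
      ∀ P ∈ ((RingHom.ker (Cyc.specMap y x hxy)).map (algebraMap (X.presheaf.stalk y) R)).minimalPrimes,
        ∀ e : ℕ, ringKrullDim (R ⧸ (RingHom.ker (Cyc.specMap y x hxy)).map (algebraMap (X.presheaf.stalk y) R)) = e →
          Dix.CohDimLEAt (Spec (CommRingCat.of (FractionRing (R ⧸ P)))) ℓ e)
    (s : ℕ) (F : EtCoh.Ab X) (hF : Dix.IsPrimaryTorsion ℓ F)
    (hs : ∀ y ∈ EtPBC.supp F, (s : WithBot ℕ∞) ≤ ringKrullDim (X.presheaf.stalk y))
    (q : ℕ) (hq : n < q + 2 * s) :
    Subsingleton (EtCoh.H X F q) := by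
  have hfin : ∀ y : X, ∃ c : ℕ, ringKrullDim (X.presheaf.stalk y) = c := fun y =>
    exists_nat_ringKrullDim (X.presheaf.stalk y)
  choose c hc using hfin
  have h2n : ∀ y, 2 * c y ≤ n := fun y => (h1 y (c y) (hc y)).1
  have hlt := GalCohAux.EtStrictDim.codim_lt c hc
  refine GalCohAux.EtDimVanC.vanishing (GalCohAux.EtDimVanD.torsionClass {ℓ}) (fun y : X => n - 2 * c y)
    (fun x y hxy hne => ?_) (fun x M hM r hr => ?_) (fun x y hxy hne R _ _ _ _ _ P hP M hM r hr => ?_) F
    ((GalCohAux.EtDimVanD.isPrimaryTorsion_iff hℓ F).1 hF) q fun x hx => ?_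
  · have := hlt x y hxy hne
    have := h2n y
    show n - 2 * c y < n - 2 * c x
    omega
  · exact (h1 x (c x) (hc x)).2 M ((GalCohAux.EtDimVanD.isPrimaryTorsion_iff hℓ M).2 hM) r hr
  · obtain ⟨e, he, hle⟩ := GalCohAux.EtStrictDim.exists_dim_le c hlt x y hxy R
    refine h2 x y hxy R P hP e he M ((GalCohAux.EtDimVanD.isPrimaryTorsion_iff hℓ M).2 hM) r ?_
    have := hlt x y hxy hne
    have := h2n y
    omega
  · have := h2n x
    have hsx := hs x hx
    rw [hc x] at hsx
    have : s ≤ c x := by exact_mod_cast hsx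
    omega

end Groth.Agent.S3492
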