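import Groth.Statements.S3493
import Groth.Agent.GalCohAux.EtStrictCd
import Groth.Agent.GalCohAux.EtDimVanE

set_option autoImplicit false
universe u
open CategoryTheory CategoryTheory.Limits AlgebraicGeometry Opposite
open EtCd

namespace Groth.Agent.S3493

attribute [local instance] Curv2.resAlgebra

theorem aux (k : Type u) [Field k] (X : Scheme.{u}) [X.Over (Spec (CommRingCat.of k))]
    [LocallyOfFiniteType (X ↘ Spec (CommRingCat.of k))] [IsNoetherian X] (n : ℕ)
    (hn : topologicalKrullDim X ≤ n) (ℓ : ℕ) (hℓ : ℓ.Prime) (e : ℕ)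
    (he : Dix.CohDimLEAt (Spec (CommRingCat.of k)) ℓ e) : Dix.CohDimLEAt X ℓ (2 * n + e) := by
  haveI := Fact.mk hℓ
  intro F hF q hq
  have hmono : ∀ x y : X, x ⤳ y → x ≠ y → VarDim.dimPt k X y < VarDim.dimPt k X x := fun x y hxy hne =>
    VarDim.dimPt_lt_of_lt k (lt_of_le_not_ge hxy fun h => hne (Specializes.antisymm (h : y ⤳ x) hxy).eq.symm)
  refine GalCohAux.EtDimVanC.vanishing (GalCohAux.EtDimVanD.torsionClass {ℓ})
    (fun x : X => e + 2 * VarDim.dimPt k X x) (fun x y hxy hne => ?_) (fun x M hM r hr => ?_)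
    (fun x y hxy hne R _ _ _ _ _ P hP M hM r hr => ?_) F
    ((GalCohAux.EtDimVanD.isPrimaryTorsion_iff hℓ F).1 hF) q fun x _ => ?_
  · have := hmono x y hxy hne
    show e + 2 * _ < e + 2 * _
    omega
  · exact GalCohAux.EtCdTrDeg.cohDimLEAt_of_cd
      (GalCohAux.EtCdTrDeg.cd_trdeg (GalCohAux.EtCdTrDeg.cd_of_cohDimLEAt he) (VarDim.dimPt k X x)
        (VarDim.trdeg_residueField k X x))
      M ((GalCohAux.EtDimVanD.isPrimaryTorsion_iff hℓ M).2 hM) r (by omega)
  · haveI : P.IsPrime := hP.1.1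
    have := hmono x y hxy hne
    exact GalCohAux.EtCdTrDeg.cohDimLEAt_of_cd
      (GalCohAux.EtStrictCd.cd_branch k ℓ x y hxy R P hP)
      M ((GalCohAux.EtDimVanD.isPrimaryTorsion_iff hℓ M).2 hM) r (by omega)
  · have h := hn
    rw [VarDim.topologicalKrullDim_eq_iSup k] at h
    have hx : (VarDim.dimPt k X x : WithBot ℕ∞) ≤ n := (le_iSup (fun x : X => (VarDim.dimPt k X x : WithBot ℕ∞)) x).trans h
    have : VarDim.dimPt k X x ≤ n := by exact_mod_cast hx
    omega

/-- Let X be a scheme of finite type over a field k, of dimension at most n, and ℓ a prime nonzero in k.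
Then cd_ℓ(X) ≤ 2n + cd_ℓ(k): if the cohomology of ℓ-primary torsion sheaves on Spec k vanishes above
degree e, then that of ℓ-primary torsion abelian sheaves on X vanishes above degree 2n + e. -/
theorem result (k : Type u) [Field k] (X : Scheme.{u}) (f : X ⟶ Spec (CommRingCat.of k))
    [LocallyOfFiniteType f] [QuasiCompact f] (n : ℕ) (hn : topologicalKrullDim X ≤ n)
    (ℓ : ℕ) (hℓ : ℓ.Prime) (hℓk : (ℓ : k) ≠ 0) (e : ℕ) (he : Dix.CohDimLEAt (Spec (CommRingCat.of k)) ℓ e) :
    Dix.CohDimLEAt X ℓ (2 * n + e) := by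
  letI : X.Over (Spec (CommRingCat.of k)) := ⟨f⟩
  haveI : LocallyOfFiniteType (X ↘ Spec (CommRingCat.of k)) := ‹LocallyOfFiniteType f›
  haveI : IsLocallyNoetherian X := LocallyOfFiniteType.isLocallyNoetherian f
  haveI : CompactSpace X := QuasiCompact.compactSpace_of_compactSpace f
  haveI : IsNoetherian X := {}
  exact aux k X n hn ℓ hℓ e he

end Groth.Agent.S3493
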