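import Groth.Statements.S3501
import Groth.Agent.S2878
-- import your own Groth.Agent.* helpers here

set_option autoImplicit false
universe u
open CategoryTheory CategoryTheory.Limits AlgebraicGeometry Opposite
open EtCd

namespace Groth.Agent.S3501

/-- Let A be a Noetherian henselian local ring, f : X → Spec A a proper morphism all of whose fibres
have dimension at most 1, and i : X₀' → X a closed immersion whose image is exactly the closed fibre
of f. Then Pic(X) → Pic(X₀') is surjective: every invertible module on X₀' is isomorphic to the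
pullback of an invertible module on X. -/
theorem result (A : Type u) [CommRing A] [IsNoetherianRing A]
    [HenselianLocalRing A] (X : Scheme.{u}) (f : X ⟶ Spec (CommRingCat.of A)) [IsProper f]
    (hrel : ∀ s : Spec (CommRingCat.of A),
      topologicalKrullDim ↥(pullback f ((Spec (CommRingCat.of A)).fromSpecResidueField s)) ≤ 1)
    (X₀' : Scheme.{u}) (i : X₀' ⟶ X) [IsClosedImmersion i]
    (hi : Set.range i.base = f.base ⁻¹' {IsLocalRing.closedPoint A})
    (c : PicF.Cl X₀') (hc : PicF.IsInvertibleCl c) :
    ∃ d : PicF.Cl X, PicF.IsInvertibleCl d ∧ PicF.pullCl i d = c := by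

  obtain ⟨L₀, rfl, hL₀⟩ := hc
  haveI : IsNoetherianRing ↑(CommRingCat.of A) := ‹IsNoetherianRing A›
  obtain ⟨L, hL, ⟨e⟩⟩ := Groth.Agent.S2878.result A f (hrel (IsLocalRing.closedPoint A)) i hi L₀ hL₀
  exact ⟨PicF.cl L, ⟨L, rfl, hL⟩, Quot.sound ⟨e⟩⟩

end Groth.Agent.S3501
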