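import Groth.Statements.S3510
import Groth.Agent.S3513
import Groth.Agent.EtAcDepth.UnitCrit
-- import your own Groth.Agent.* helpers here

set_option autoImplicit false
set_option backward.isDefEq.respectTransparency false
universe u
open CategoryTheory CategoryTheory.Limits AlgebraicGeometry Opposite
open EtAcyc

namespace Groth.Agent.S3510

/-- (i) ⇔ (ii): let g : X → Y be a morphism of schemes, L a set of primes and n a natural number. Then g
is n-acyclic for L (form (ii): for every etale V → Y with projection g' : X ×_Y V → V and every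
abelian L-torsion sheaf F on V, H^q(V, F) → H^q(X ×_Y V, g'⁻¹F) is bijective for q ≤ n and injective
for q = n + 1) if and only if (form (i)) for every such V and F the unit F → g'_* g'⁻¹ F is an
isomorphism and R^q g'_* (g'⁻¹ F) = 0 for 1 ≤ q ≤ n. -/
theorem result {X Y : Scheme.{u}} (g : X ⟶ Y) (L : Set ℕ) (n : ℕ) :
    EtAcyc.IsAcyclicN g L n ↔
      ∀ (V : Y.Etale) (F : EtCoh.Ab V.left), EtAcyc.IsLTorsion L F →
        IsIso ((EtCoh.pullPushAdj (EtAcyc.prj g V)).unit.app F) ∧
          ∀ q : ℕ, 1 ≤ q → q ≤ n →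
            IsZero ((EtCoh.Rpush (EtAcyc.prj g V) q).obj ((EtCoh.pull (EtAcyc.prj g V)).obj F)) := by
  refine ⟨fun hg V F hF => ?_, fun h V => EtAcDepth.compN_of_unit (prj g V) L n fun F hF => h V F hF⟩
  refine EtAcDepth.unit_of_compN (prj g V) L n (fun W _ => ?_) F hF
  haveI : Etale W.hom := W.prop
  haveI : Etale V.hom := V.prop
  haveI : Etale (W.hom ≫ V.hom) := inferInstance
  let W' : Y.Etale := MorphismProperty.Over.mk ⊤ (W.hom ≫ V.hom) (inferInstanceAs (Etale (W.hom ≫ V.hom)))
  refine ⟨pullback W.hom (prj g V), pullback.snd _ _, pullback.fst _ _,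
    (IsPullback.of_hasPullback _ _).flip, ?_⟩
  have e : pullback.fst W.hom (prj g V) =
      (pullbackRightPullbackFstIso V.hom g W.hom).hom ≫ prj g W' :=
    (pullbackRightPullbackFstIso_hom_fst V.hom g W.hom).symm
  rw [e]
  exact (S3513.compN_comp_iff _ _ L n (S3513.compN_of_iso _ L n)).2 (hg W')

end Groth.Agent.S3510
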