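import Groth.Statements.S3511
import Groth.Agent.EtDev.Devissage
import Groth.Agent.EtDev.QuasiFiniteBC
import Groth.Agent.EtAcDepth.GlobalFibres
import Groth.Agent.EtAcDepth.ClosedFibreUnit
import Groth.Agent.S8534

set_option autoImplicit false
universe u
open CategoryTheory CategoryTheory.Limits AlgebraicGeometry Opposite
open EtAcyc

namespace Groth.Agent.S3511

/-- Let g : X → Y be quasi-compact and quasi-separated, L a set of primes containing at least one prime,
and n a natural number. (The published statement does not ask that L contain a prime; with L empty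
the equivalence fails, e.g. for the empty scheme over a field, so that hypothesis is added here.)
Then g is n-acyclic for L if and only if g is surjective and, for every locally quasi-finite
morphism (locally of finite type with discrete fibres) Y' → Y with base change g' : X' = X ×_Y Y' →
Y', every prime ℓ ∈ L and every ν ≥ 1, the pullback map H^q(Y', Z/ℓ^ν) → H^q(X', g'⁻¹(Z/ℓ^ν)) is
surjective for 0 ≤ q ≤ n. -/
theorem result {X Y : Scheme.{u}} (g : X ⟶ Y)
    [QuasiCompact g] [QuasiSeparated g] (L : Set ℕ) (hL : ∃ ℓ ∈ L, ℓ.Prime) (n : ℕ) :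
    EtAcyc.IsAcyclicN g L n ↔
      Function.Surjective g.base ∧
        ∀ (Y' : Scheme.{u}) (i : Y' ⟶ Y) [LocallyQuasiFinite i] [LocallyOfFiniteType i] (ℓ : ℕ), ℓ.Prime → ℓ ∈ L →
          ∀ (ν : ℕ), 1 ≤ ν → ∀ [PreservesFiniteLimits (EtCoh.pull (pullback.snd g i))] (q : ℕ), q ≤ n →
            Function.Surjective (EtCore.Hpull (pullback.snd g i) (EtCoh.const Y' (ZMod (ℓ ^ ν))) q) := by
  constructor
  · intro hg
    refine ⟨fun y => ?_, fun Y' i _ _ ℓ hℓ hℓL ν hν _ q hq => ?_⟩
    · obtain ⟨⟨z⟩, -, -⟩ := S8534.result g L hL n hg y (AlgebraicClosure (Y.residueField y))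
      refine ⟨pullback.fst g _ z, ?_⟩
      rw [← Scheme.Hom.comp_apply, pullback.condition, Scheme.Hom.comp_apply, Scheme.Hom.comp_apply,
        Scheme.fromSpecResidueField_apply]
    · have hk : EtDev.KillsL L (EtCoh.const Y' (ZMod (ℓ ^ ν))) := by
        refine ⟨ℓ ^ ν, ⟨pow_pos hℓ.pos ν, fun p hp hd =>
          (Nat.prime_dvd_prime_iff_eq hp hℓ).1 (hp.dvd_of_dvd_pow hd) ▸ hℓL⟩, ?_⟩
        haveI : (constantSheaf Y'.smallEtaleTopology AddCommGrpCat.{u + 1}).Additive := inferInstance
        show ℓ ^ ν • 𝟙 ((constantSheaf Y'.smallEtaleTopology AddCommGrpCat.{u + 1}).obj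
          (AddCommGrpCat.of (ULift.{u + 1} (ZMod (ℓ ^ ν))))) = 0
        rw [← (constantSheaf Y'.smallEtaleTopology AddCommGrpCat.{u + 1}).map_id, ← Functor.map_nsmul,
          show ℓ ^ ν • 𝟙 (AddCommGrpCat.of (ULift.{u + 1} (ZMod (ℓ ^ ν)))) = 0 from
            AddCommGrpCat.hom_ext (AddMonoidHom.ext fun x => ULift.ext _ _ (by simp)),
          Functor.map_zero]
      exact (((EtAcDepth.compN_of_unit (pullback.snd g i) L n fun F hF =>
        EtDev.unit_quasiFinite i g L n hg F hF) _ hk.isLTorsion).1 q hq).2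
  · rintro ⟨hs, h⟩ V
    haveI : Surjective g := ⟨hs⟩
    refine EtAcDepth.compN_of_unit (EtAcyc.prj g V) L n fun F hF =>
      EtAcDepth.unit_of_compN (EtAcyc.prj g V) L n (fun W hW => ?_) F hF
    haveI : Etale W.hom := W.prop
    haveI : Etale V.hom := V.prop
    let W' : Y.Etale := MorphismProperty.Over.mk ⊤ (W.hom ≫ V.hom) (inferInstanceAs (Etale (W.hom ≫ V.hom)))
    haveI : IsAffine W'.left := hW
    refine ⟨pullback W.hom (EtAcyc.prj g V), pullback.snd _ _, pullback.fst _ _,
      (IsPullback.of_hasPullback _ _).flip, ?_⟩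
    have e : pullback.fst W.hom (EtAcyc.prj g V) =
        (pullbackRightPullbackFstIso V.hom g W.hom).hom ≫ EtAcyc.prj g W' :=
      (pullbackRightPullbackFstIso_hom_fst V.hom g W.hom).symm
    rw [e]
    refine (S3513.compN_comp_iff _ _ L n (S3513.compN_of_iso _ L n)).2 ?_
    haveI : Etale W'.hom := W'.prop
    let v := EtAcyc.prj g W'
    haveI : QuasiCompact v := MorphismProperty.pullback_fst _ _ ‹_›
    haveI : QuasiSeparated v := MorphismProperty.pullback_fst _ _ ‹_›
    haveI : CompactSpace ↥(pullback W'.hom g) := QuasiCompact.compactSpace_of_compactSpace v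
    haveI : QuasiSeparatedSpace ↥(pullback W'.hom g) := quasiSeparatedSpace_of_quasiSeparated v
    haveI : PreservesFiniteLimits (EtCoh.pull v) := inferInstance
    refine EtDev.compN_of_constHyp v (L := L) (n := n) fun X' p _ _ ℓ hℓ hℓL ν hν => ?_
    haveI : Surjective v := MorphismProperty.pullback_fst _ _ ‹_›
    haveI : Surjective (pullback.fst p v) := MorphismProperty.pullback_fst _ _ ‹_›
    refine ⟨EtAcDepth.Hpull_zero_injective_of_surjective (pullback.fst p v) _, fun q hq => ?_⟩
    haveI : LocallyQuasiFinite (p ≫ W'.hom) := inferInstance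
    haveI : LocallyOfFiniteType (p ≫ W'.hom) := inferInstance
    let E : pullback g (p ≫ W'.hom) ≅ pullback p v :=
      pullbackSymmetry _ _ ≪≫ (pullbackRightPullbackFstIso W'.hom g p).symm
    haveI : PreservesFiniteLimits (EtCoh.pull (pullback.snd g (p ≫ W'.hom))) := inferInstance
    have hsur := h X' (p ≫ W'.hom) ℓ hℓ hℓL ν hν q hq
    have hE : pullback.snd g (p ≫ W'.hom) = E.hom ≫ pullback.fst p v := by simp [E, v]
    haveI : PreservesFiniteLimits (EtCoh.pull (E.hom ≫ pullback.fst p v)) := inferInstance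
    have h2 := (EtaleSite.HpullComp.Hpull_comp_injective_iff E.hom (pullback.fst p v) q
      (EtCoh.const X' (ZMod (ℓ ^ ν)))).2.1 ((EtaleSite.HpullComp.Hpull_congr hE _ q).2.1 hsur)
    have hE' := EtaleSite.HpullComp.Hpull_bijective_of_isIso E.hom q
      ((EtCoh.pull (pullback.fst p v)).obj (EtCoh.const X' (ZMod (ℓ ^ ν))))
    intro z
    obtain ⟨x, hx⟩ := h2 (EtCore.Hpull E.hom _ q z)
    exact ⟨x, hE'.1 hx⟩

end Groth.Agent.S3511
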