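import Groth.Statements.S3514
import Groth.Agent.S0537
import Groth.Agent.S0674
import Groth.Agent.S3513

set_option autoImplicit false
set_option linter.style.haveILetI false
set_option linter.overlappingInstances false
universe u
open CategoryTheory CategoryTheory.Limits AlgebraicGeometry Opposite
open EtAcyc

namespace Groth.Agent.S3514


open IsLocalRing in
/-- A map of strict henselizations over `L → L''` factors through any compatible map from the
strict henselization of an intermediate local ring `L'`. -/
theorem exists_factor (L L' R R' R'' : Type u) [CommRing L] [IsLocalRing L] [CommRing L'] [IsLocalRing L']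
    [CommRing R] [IsLocalRing R] [CommRing R'] [IsLocalRing R'] [CommRing R''] [IsLocalRing R'']
    [Algebra L R] [IsLocalHom (algebraMap L R)] [hR : Hensel.IsStrictHenselization L R]
    [Algebra L' R'] [IsLocalHom (algebraMap L' R')] [hR' : Hensel.IsStrictHenselization L' R']
    [HenselianLocalRing R'']
    (h : L →+* L') [IsLocalHom h] (b : R' →+* R'') [IsLocalHom b] (φ : R →+* R'') [IsLocalHom φ]
    (hφ : φ.comp (algebraMap L R) = (b.comp (algebraMap L' R')).comp h) :
    ∃ a : R →+* R', IsLocalHom a ∧ a.comp (algebraMap L R) = (algebraMap L' R').comp h ∧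
      b.comp a = φ := by
  haveI := hR'.henselian
  haveI := hR'.isSepClosure.sep_closed
  haveI := hR.isSepClosure.separable
  let bb := ResidueField.map b
  have hres : ∀ x : ResidueField R, ResidueField.map φ x ∈ bb.range := by
    intro x
    have hsep := Algebra.IsSeparable.isSeparable (ResidueField L) x
    let e := (ResidueField.map (algebraMap L' R')).comp (ResidueField.map h)
    have he : (ResidueField.map φ).comp (algebraMap (ResidueField L) (ResidueField R)) = bb.comp e := by
      apply RingHom.ext
      intro y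
      obtain ⟨y, rfl⟩ := residue_surjective y
      exact congrArg (residue R'') (RingHom.congr_fun hφ y)
    have hsep' : (minpoly (ResidueField L) x).Separable := hsep
    refine (IsSepClosed.splits_of_separable _ (hsep'.map (f := e))).mem_range_of_isRoot ?_ ?_
    · exact (Polynomial.map_ne_zero_iff e.injective).2 (minpoly.ne_zero hsep.isIntegral)
    · rw [Polynomial.IsRoot, Polynomial.map_map, ← he, ← Polynomial.map_map,
        Polynomial.eval_map, Polynomial.eval₂_at_apply]
      have hz : ((minpoly (ResidueField L) x).map (algebraMap (ResidueField L) (ResidueField R))).eval x = 0 := by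
        rw [Polynomial.eval_map, ← Polynomial.aeval_def, minpoly.aeval]
      rw [hz, map_zero]
  choose τ₀ hτ₀ using hres
  have hbb : Function.Injective bb := bb.injective
  let τ : ResidueField R →+* ResidueField R' :=
    { toFun := τ₀
      map_one' := hbb (by rw [hτ₀, map_one, map_one])
      map_mul' := fun x y => hbb (by rw [hτ₀, map_mul, map_mul, hτ₀, hτ₀])
      map_zero' := hbb (by rw [hτ₀, map_zero, map_zero])
      map_add' := fun x y => hbb (by rw [hτ₀, map_add, map_add, hτ₀, hτ₀]) }
  obtain ⟨a, ⟨ha₁, ha₂⟩, -⟩ := hR.universal R' ((algebraMap L' R').comp h) τ (by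
    apply RingHom.ext
    intro y
    obtain ⟨y, rfl⟩ := residue_surjective y
    apply hbb
    show bb (τ₀ _) = _
    rw [hτ₀]
    exact congrArg (residue R'') (RingHom.congr_fun hφ y))
  haveI hal : IsLocalHom a := ⟨fun z hz => by
    rw [← residue_ne_zero_iff_isUnit] at hz ⊢
    rw [ha₂] at hz
    exact fun h0 => hz (by rw [h0, map_zero])⟩
  refine ⟨a, hal, ha₁, ?_⟩
  obtain ⟨g₀, -, huniq⟩ := hR.universal R'' (φ.comp (algebraMap L R)) (ResidueField.map φ) (by
    apply RingHom.ext
    intro y
    obtain ⟨y, rfl⟩ := residue_surjective y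
    rfl)
  rw [huniq φ ⟨rfl, fun x => rfl⟩, huniq (b.comp a) ⟨by rw [RingHom.comp_assoc, ha₁, ← RingHom.comp_assoc, hφ], fun x => ?_⟩]
  show bb (residue R' (a x)) = _
  rw [ha₂]
  exact hτ₀ _

open IsLocalRing in
theorem onStrictLocalizations_comp_iff {X Y Z : Scheme.{u}} (g : X ⟶ Y) (h : Y ⟶ Z)
    (hg : Function.Surjective g.base) (P : ∀ ⦃X' Y' : Scheme.{u}⦄, (X' ⟶ Y') → Prop)
    (hP : ∀ ⦃A B C : Scheme.{u}⦄ (a : A ⟶ B) (b : B ⟶ C), P a → (P b ↔ P (a ≫ b)))
    (Pg : OnStrictLocalizations g P) :
    OnStrictLocalizations h P ↔ OnStrictLocalizations (g ≫ h) P := by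
  constructor
  · intro Ph x RZ RX _ _ _ _ iA iL iS _ _ iX _ _ hcomm
    letI iA' : Algebra (Z.presheaf.stalk (h.base (g.base x))) RZ := iA
    haveI iL' : IsLocalHom (algebraMap (Z.presheaf.stalk (h.base (g.base x))) RZ) := iL
    haveI iS' : Hensel.IsStrictHenselization (Z.presheaf.stalk (h.base (g.base x))) RZ := iS
    replace hcomm : (algebraMap RZ RX).comp (algebraMap (Z.presheaf.stalk (h.base (g.base x))) RZ) =
        (algebraMap (X.presheaf.stalk x) RX).comp ((g.stalkMap x).hom.comp (h.stalkMap (g.base x)).hom) := by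
      rw [Scheme.Hom.stalkMap_comp] at hcomm
      exact hcomm
    obtain ⟨RY, _, _, _, _, iY⟩ := S0537.result (Y.presheaf.stalk (g.base x))
    haveI := iX.henselian
    haveI := iY.henselian
    obtain ⟨b, hbl, hb⟩ := S0674.exists_lift_localHom (Y.presheaf.stalk (g.base x)) (X.presheaf.stalk x)
      RY RX (g.stalkMap x).hom
    haveI := hbl
    obtain ⟨a, hal, ha, hab⟩ := exists_factor (Z.presheaf.stalk (h.base (g.base x)))
      (Y.presheaf.stalk (g.base x)) RZ RY RX (h.stalkMap (g.base x)).hom b (algebraMap RZ RX) (by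
        rw [hb, hcomm]
        rfl)
    haveI := hal
    have h₁ : P (Spec.map (CommRingCat.ofHom b)) := by
      letI := b.toAlgebra
      haveI : IsLocalHom (algebraMap RY RX) := hbl
      exact Pg x RY RX hb
    have h₂ : P (Spec.map (CommRingCat.ofHom a)) := by
      letI := a.toAlgebra
      haveI : IsLocalHom (algebraMap RZ RY) := hal
      exact Ph (g.base x) RZ RY ha
    have := (hP _ _ h₁).1 h₂
    rwa [← Spec.map_comp, ← CommRingCat.ofHom_comp, hab] at this
  · intro Pc y RZ RY _ _ _ _ iA iL iS _ _ iY _ _ hcomm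
    obtain ⟨x, rfl⟩ := hg y
    letI iA' : Algebra (Z.presheaf.stalk ((g ≫ h).base x)) RZ := iA
    haveI iL' : IsLocalHom (algebraMap (Z.presheaf.stalk ((g ≫ h).base x)) RZ) := iL
    haveI iS' : Hensel.IsStrictHenselization (Z.presheaf.stalk ((g ≫ h).base x)) RZ := iS
    obtain ⟨RX, _, _, _, _, iX⟩ := S0537.result (X.presheaf.stalk x)
    haveI := iX.henselian
    obtain ⟨b, hbl, hb⟩ := S0674.exists_lift_localHom (Y.presheaf.stalk (g.base x)) (X.presheaf.stalk x)
      RY RX (g.stalkMap x).hom
    haveI := hbl
    have h₁ : P (Spec.map (CommRingCat.ofHom b)) := by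
      letI := b.toAlgebra
      haveI : IsLocalHom (algebraMap RY RX) := hbl
      exact Pg x RY RX hb
    refine (hP _ _ h₁).2 ?_
    rw [← Spec.map_comp, ← CommRingCat.ofHom_comp]
    letI := (b.comp (algebraMap RZ RY)).toAlgebra
    haveI : IsLocalHom (algebraMap RZ RX) := RingHom.isLocalHom_comp b (algebraMap RZ RY)
    refine Pc x RZ RX ?_
    rw [Scheme.Hom.stalkMap_comp]
    show (b.comp (algebraMap RZ RY)).comp (algebraMap (Z.presheaf.stalk (h.base (g.base x))) RZ) = _
    rw [RingHom.comp_assoc, hcomm, ← RingHom.comp_assoc, hb]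
    rfl

/-- Let g : X → Y and h : Y → Z be morphisms of schemes with g surjective, L a set of primes and n a
natural number. If g is locally n-acyclic for L, then h is locally n-acyclic for L if and only if g
≫ h is; if g is locally 0-acyclic, then h is locally 0-acyclic if and only if g ≫ h is. -/
theorem result {X Y Z : Scheme.{u}} (g : X ⟶ Y) (h : Y ⟶ Z)
    (hg : Function.Surjective g.base) (L : Set ℕ) (n : ℕ) :
    (EtAcyc.IsLocAcyclicN g L n → (EtAcyc.IsLocAcyclicN h L n ↔ EtAcyc.IsLocAcyclicN (g ≫ h) L n)) ∧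
      (EtAcyc.IsLocZeroAcyclic g → (EtAcyc.IsLocZeroAcyclic h ↔ EtAcyc.IsLocZeroAcyclic (g ≫ h))) := by
  exact ⟨fun hl => onStrictLocalizations_comp_iff g h hg _ (fun _ _ _ a b => (S3513.result a b L n).1) hl,
    fun hl => onStrictLocalizations_comp_iff g h hg _ (fun _ _ _ a b => (S3513.result a b L n).2) hl⟩

end Groth.Agent.S3514
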