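import Groth.Statements.S3517
import Groth.Agent.DescSh.Square

set_option autoImplicit false
universe u
open CategoryTheory CategoryTheory.Limits AlgebraicGeometry Opposite
open EtBC

namespace Groth.Agent.S3517
open Groth.Agent.DescSh

/-- Let h : Y → X and p : X̄ → X be morphisms of schemes with p surjective, Ȳ = Y ×_X X̄ with
projections h̄ : Ȳ → X̄ and p_Y : Ȳ → Y. If for every sheaf of sets F̄ on X̄ the pullback map on
global sections Γ(X̄, F̄) → Γ(Ȳ, h̄^* F̄) is injective, then for every sheaf of sets F on X the map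
Γ(X, F) → Γ(Y, h^* F) is injective. If those maps for h̄ are bijective and moreover the base change
morphism h^* p_* F̄ → p_{Y*} h̄^* F̄ is a monomorphism for every sheaf of sets F̄ on X̄, then the
maps Γ(X, F) → Γ(Y, h^* F) are bijective. -/
theorem result {X Y Xb Yb : Scheme.{u}} (h : Y ⟶ X) (p : Xb ⟶ X)
    (hb : Yb ⟶ Xb) (pY : Yb ⟶ Y) (sq : IsPullback hb pY p h) (hp : Function.Surjective p.base) :
    ((∀ Fb : EtDesc.Sh Xb, Function.Injective (EtDesc.secPull hb Fb)) →
      ∀ F : EtDesc.Sh X, Function.Injective (EtDesc.secPull h F)) ∧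
    ((∀ Fb : EtDesc.Sh Xb, Function.Bijective (EtDesc.secPull hb Fb)) →
      (∀ Fb : EtDesc.Sh Xb, Mono (EtBC.baseChange0Sh p h pY hb sq.w Fb)) →
      ∀ F : EtDesc.Sh X, Function.Bijective (EtDesc.secPull h F)) := by
  haveI : Surjective p := ⟨hp⟩
  have hT : ∀ {A B : Scheme.{u}} (g : A ⟶ B), IsTerminal ((EtCoh.bc g).obj (EtCoh.top B)) := fun g =>
    EtCore.bcTopIsTerminal g
  have hinj : (∀ Fb : EtDesc.Sh Xb, Function.Injective (EtDesc.secPull hb Fb)) →
      ∀ F : EtDesc.Sh X, Function.Injective (EtDesc.secPull h F) := by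
    intro hh F
    rw [injective_secPull_iff_secUp h F (EtCore.topIsTerminal X)]
    intro s t e
    refine secUp_injective p F ((injective_secPull_iff_secUp hb _ (hT p)).1 (hh _) ?_)
    have key := congrArg (fun z => (sqIso h p hb pY sq.w F).hom.hom.app
      (op ((EtCoh.bc pY).obj ((EtCoh.bc h).obj (EtCoh.top X)))) (secUp pY _ z)) e
    have key' := ((sqIso_secUp h p hb pY sq.w F _ s).symm.trans key).trans
      (sqIso_secUp h p hb pY sq.w F _ t)
    let eT := ((hT pY).uniqueUpToIso (EtCore.topIsTerminal Yb)).trans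
      ((hT hb).uniqueUpToIso (EtCore.topIsTerminal Yb)).symm
    have hTY : IsTerminal ((EtCoh.bc pY).obj ((EtCoh.bc h).obj (EtCoh.top X))) :=
      (hT h).isTerminalObj (EtCoh.bc pY) _
    have hTX : IsTerminal ((EtCoh.bc hb).obj ((EtCoh.bc p).obj (EtCoh.top X))) :=
      (hT p).isTerminalObj (EtCoh.bc hb) _
    let e' := hTY.uniqueUpToIso hTX
    rw [show sqHom h p hb pY sq.w (EtCoh.top X) = e'.hom from hTX.hom_ext _ _] at key'
    exact (bijective_map_iso _ e').1 key'
  refine ⟨hinj, fun hh hm F => ⟨hinj (fun Fb => (hh Fb).1) F, ?_⟩⟩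
  have hbij := (bijective_secPull_iff_secUp h F (EtCore.topIsTerminal X))
  suffices Function.Surjective (secUp h F (V := EtCoh.top X)) from
    (hbij.2 ⟨(injective_secPull_iff_secUp h F (EtCore.topIsTerminal X)).1
      (hinj (fun Fb => (hh Fb).1) F), this⟩).2
  intro t
  let G := (EtDesc.pullSh p).obj F
  let η := (EtDesc.adjSh p).unit.app F
  haveI : Mono η := Groth.Agent.EtaleSite.SetStalk.mono_of_injective _ fun U =>
    secUp_injective p F
  have hTY : IsTerminal ((EtCoh.bc pY).obj ((EtCoh.bc h).obj (EtCoh.top X))) :=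
    (hT h).isTerminalObj (EtCoh.bc pY) _
  have hTX : IsTerminal ((EtCoh.bc hb).obj ((EtCoh.bc p).obj (EtCoh.top X))) :=
    (hT p).isTerminalObj (EtCoh.bc hb) _
  let e' := hTY.uniqueUpToIso hTX
  obtain ⟨z, hz⟩ := (bijective_map_iso ((EtDesc.pullSh hb).obj G) e').2
    ((sqIso h p hb pY sq.w F).hom.hom.app (op _) (secUp pY _ t))
  obtain ⟨u, rfl⟩ := ((bijective_secPull_iff_secUp hb G (hT p)).1 (hh G)).2 z
  have hu : secUp h ((EtDesc.pushSh p).obj G) (V := EtCoh.top X) u =
      ((EtDesc.pullSh h).map η).hom.app (op _) t := by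
    haveI := hm G
    refine app_injective (EtBC.baseChange0Sh p h pY hb sq.w G) _ ?_
    refine ((baseChange0Sh_secUp h p hb pY sq.w G (EtCoh.top X) u).trans ?_).trans
      (baseChange0Sh_unit_app h p hb pY sq.w F _ t).symm
    rw [show sqHom h p hb pY sq.w (EtCoh.top X) = e'.hom from hTX.hom_ext _ _]
    exact hz
  obtain ⟨s, hs⟩ := exists_preimage_of_forall_eq η (W := EtCoh.top X) u fun Q i₁ i₂ hi => by
    refine (injective_secPull_iff_secUp h Q (EtCore.topIsTerminal X)).1 (hinj (fun Fb => (hh Fb).1) Q) ?_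
    have h1 := (secUp_map h i₁ u).symm.trans (congrArg (((EtDesc.pullSh h).map i₁).hom.app (op _)) hu)
    have h2 := (secUp_map h i₂ u).symm.trans (congrArg (((EtDesc.pullSh h).map i₂).hom.app (op _)) hu)
    exact (h1.trans (app_eq_app_of_comp_eq ((EtDesc.pullSh h).map η) _ _
      (by rw [← Functor.map_comp, ← Functor.map_comp, hi]) _ t)).trans h2.symm
  refine ⟨s, ?_⟩
  haveI := mono_pull_map h η
  refine app_injective ((EtDesc.pullSh h).map η) _ ?_
  exact ((secUp_map h η s).trans (congrArg (secUp h _) hs)).trans hu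

end Groth.Agent.S3517
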