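import Groth.Statements.S3520
import Groth.Agent.GalCohAux.EtGmMax
import Groth.Agent.EtConsAb.Constructible

set_option autoImplicit false
set_option backward.isDefEq.respectTransparency false
universe u
open CategoryTheory CategoryTheory.Limits AlgebraicGeometry Opposite
open EtCd

namespace Groth.Agent.S3520

open GalCohAux EtaleSite

attribute [-instance] EtFin.instUniqueCarrierCarrierCommRingCatSpecOf_groth

/-- `μ` has no `H²` on the local rings at maximal points. -/
theorem subsingleton_H_two_mu (X : Scheme.{u}) [IsNoetherian X] (ℓ : ℕ) (hℓ : ℓ.Prime)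
    (hcd : ∀ x : X, closure {x} ∈ irreducibleComponents (X : Type u) → Dix.CohDimLEAt (Spec (X.residueField x)) ℓ 1)
    (x : X) (hx : ∀ y : X, y ⤳ x → y = x) (m : ℕ) :
    Subsingleton (EtCoh.H (Spec (X.presheaf.stalk x)) (EtCoh.mu (Spec (X.presheaf.stalk x)) (ℓ ^ m)) 2) := by
  classical
  haveI := EtGmMax.subsingleton_spec_stalk hx
  haveI := Fintype.ofFinite ↥(Spec (X.presheaf.stalk x))
  refine EtSuppClosed.subsingleton_H_of_finite_supp _ _ Finset.univ (fun t _ => isClosed_discrete _) le_rfl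
    (fun t _ => Finset.mem_coe.2 (Finset.mem_univ t)) 2 fun t _ => ?_
  let j := X.fromSpecStalk x
  have ht : j t = x := hx _ (by
    have : j t ∈ Set.range j := ⟨t, rfl⟩
    rw [Scheme.range_fromSpecStalk] at this
    exact this)
  have hcomp : closure {j t} ∈ irreducibleComponents (X : Type u) := by
    refine ⟨isIrreducible_singleton.closure, fun s hs hts => ?_⟩
    obtain ⟨η, hη⟩ := QuasiSober.sober hs.closure isClosed_closure
    have hsp : η ⤳ j t := hη.specializes (subset_closure (hts (subset_closure rfl)))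
    rw [ht] at hsp ⊢
    intro z hz
    rw [← hx η hsp]
    exact hη.def.symm ▸ (subset_closure hz)
  haveI := EtConsAb.isIso_residueFieldMap j t
  letI : Algebra (X.residueField (j t)) (IsLocalRing.ResidueField ((Spec (X.presheaf.stalk x)).presheaf.stalk t)) :=
    (j.residueFieldMap t).hom.toAlgebra
  haveI : Algebra.IsAlgebraic (X.residueField (j t)) (IsLocalRing.ResidueField ((Spec (X.presheaf.stalk x)).presheaf.stalk t)) := ⟨fun z => by
    obtain ⟨a, rfl⟩ := (ConcreteCategory.bijective_of_isIso (j.residueFieldMap t)).2 z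
    exact isAlgebraic_algebraMap a⟩
  refine S3502.subsingleton_field _ (ℓ ^ m) 1 (pow_pos hℓ.pos m) (fun p hp hpd => ?_) _ ?_ 2 one_lt_two
  · haveI := Fact.mk hp
    haveI := Fact.mk hℓ
    rw [(Nat.prime_dvd_prime_iff_eq hp hℓ).1 (hp.dvd_of_dvd_pow hpd)]
    exact EtCdTr.cd_algebraic (k := X.residueField (j t)) (EtCdTrDeg.cd_of_cohDimLEAt (hcd _ hcomp))
  · haveI := EtCdTr.additive_pull ((Spec (X.presheaf.stalk x)).fromSpecResidueField t)
    exact EtCdTr.nsmul_id_map (EtCoh.pull _) (EtGmMax.nsmul_id_mu _)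

/-- Let X be a Noetherian scheme of dimension at most 1 and ℓ a prime invertible on X such that
cd_ℓ(κ(x)) ≤ 1 for every maximal point x of X (so the ring of rational functions has ℓ-cohomological
dimension ≤ 1), and assume the residue field of every closed point is separably closed. Then H^i(X,
G_m) has no ℓ-primary torsion for i ≥ 2. (In the published statement the subscript ℓ on these groups
means 'no ℓ-torsion', and the result is stated in that sense: every element of H^i(X, G_m), i ≥ 2,
killed by a power of ℓ is zero.) -/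
theorem result (X : Scheme.{u}) [IsNoetherian X] (hdim : topologicalKrullDim X ≤ 1)
    (ℓ : ℕ) (hℓ : ℓ.Prime) (hinv : Dix.InvertibleOn X ℓ)
    (hcd : ∀ x : X, closure {x} ∈ irreducibleComponents (X : Type u) → Dix.CohDimLEAt (Spec (X.residueField x)) ℓ 1)
    (hcl : ∀ x : X, IsClosed ({x} : Set X) → IsSepClosed (X.residueField x))
    (i : ℕ) (hi : 2 ≤ i) (ξ : EtCoh.H X (EtCoh.Gm X) i) (hξ : ∃ k : ℕ, ℓ ^ k • ξ = 0) : ξ = 0 := by
  haveI : ∀ x : X, PreservesFiniteLimits (EtCoh.pull (X.fromSpecStalk x)) := fun x => inferInstance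
  obtain ⟨m, hm⟩ := hξ
  have hn : ∀ x : X, ((ℓ ^ m : ℕ) : X.residueField x) ≠ 0 := fun x => by
    rw [Nat.cast_pow]; exact pow_ne_zero _ (hinv x)
  rcases Nat.lt_or_ge 2 i with h2 | h2
  · refine GalCohAux.EtGmMax.eq_zero_of_mu (ℓ ^ m) (GalCohAux.EtGmMax.isUnit_natCast _ hn) i ?_ ξ hm
    refine S3502.result X hdim (ℓ ^ m) (pow_pos hℓ.pos m) hn (fun x hx p hp hpd => ?_) hcl i h2
    rw [(Nat.prime_dvd_prime_iff_eq hp hℓ).1 (hp.dvd_of_dvd_pow hpd)]
    exact hcd x hx
  · obtain rfl : i = 2 := le_antisymm h2 hi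
    refine GalCohAux.EtGmMax.eq_zero_of_maxPts hdim hcl ξ fun x hx => ?_
    refine GalCohAux.EtGmMax.eq_zero_of_mu (ℓ ^ m)
      (by rw [← map_natCast (X.fromSpecStalk x).appTop.hom (ℓ ^ m)]
          exact (GalCohAux.EtGmMax.isUnit_natCast _ hn).map (X.fromSpecStalk x).appTop.hom) 2
      (subsingleton_H_two_mu X ℓ hℓ hcd x hx m) _ ?_
    rw [← map_nsmul, hm, map_zero]

end Groth.Agent.S3520
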