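import Groth.Statements.S3528
import Groth.Agent.HTor95.Piece
import Groth.Agent.DRing.ProjAmp
import Groth.Agent.DRing.DBasic

set_option autoImplicit false
universe u
attribute [local instance] HasDerivedCategory.standard
open HTor

namespace Groth.Agent.S3528
open CategoryTheory CategoryTheory.Limits AlgebraicGeometry in
theorem exists_rep {A : Type u} [CommRing A] {X : Scheme.{u}} (f : X ⟶ Spec (CommRingCat.of A))
    [QuasiCompact f] [IsSeparated f] [HTor.HasRΓA f]
    (N : ℕ) (U : Fin (N + 1) → X.Opens) (hU : ∀ i, IsAffineOpen (U i)) (hcov : ⨆ i, U i = ⊤)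
    (P : CochainComplex X.Modules ℤ) (hq : ∀ i : ℤ, Coh.IsQCoh (P.X i)) :
    ∃ G : DRing.Cx A, HTor.Computes f G (DCoh.toD X P) ∧
      (∀ b : ℤ, (∀ i, b < i → IsZero (P.X i)) → ∀ i, b + N < i → IsZero (G.X i)) ∧
      (∀ c : ℤ, (∀ i, i < c → IsZero (P.X i)) → ∀ i, i < c → IsZero (G.X i)) := by
  obtain ⟨R, a, ha, hR, hb, hc⟩ := Groth.Agent.HTor95.Piece.exists_pieceRes f N U hU hcov P hq (fun _ => True)
    (fun _ _ => trivial) (fun _ _ => trivial) (fun _ _ => trivial) (fun _ _ _ => trivial) (fun _ => trivial)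
  obtain ⟨e⟩ := Groth.Agent.HTor95.Piece.nonempty_iso_of_piece f R (fun i => (hR i).1)
  have : IsIso (DerivedCategory.Q.map a) := (DerivedCategory.isIso_Q_map_iff_quasiIso _ _).2 ha
  exact ⟨(Groth.Agent.HTor95.Rg.gA f).obj R, ⟨e ≪≫ ((HTor.RΓA f).mapIso (asIso (DerivedCategory.Q.map a))).symm⟩,
    fun b h i hi => (HTor.globalSectionsA f).map_isZero (hb b h i hi),
    fun c h i hi => (HTor.globalSectionsA f).map_isZero (hc c h i hi)⟩

open CategoryTheory CategoryTheory.Limits in
theorem subsingleton_of_term {A : Type u} [CommRing A] (G : DRing.Cx A) (i : ℤ) (h : IsZero (G.X i)) :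
    Subsingleton (Dual.HD A (DRing.toD G) i) :=
  (Groth.Agent.DRing.DBasic.subsingleton_HD_toD_iff G i).2
    (ShortComplex.isZero_homology_of_isZero_X₂ (G.sc i) h)


open CategoryTheory CategoryTheory.Limits AlgebraicGeometry in
/-- (Derived form.) Let X be a quasi-compact separated scheme over Spec A covered by N + 1 affine opens,
and P a complex of quasi-coherent O_X-modules with P^k = 0 for k > b. Then RΓ(X, P) ∈ D(A) (derived
global sections as A-modules) is represented by a complex L of free A-modules with L^k = 0 for k > b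
+ N. (Consequently the hypercohomology modules H^k(X, P) vanish for k > b + N; this consequence is
not restated in the conclusion.) (The published statement gives a canonical isomorphism; here only
the existence of an isomorphism in D(A) is asserted.) -/
theorem result (A : Type u) [CommRing A] (X : Scheme.{u})
    (f : X ⟶ Spec (CommRingCat.of A)) [QuasiCompact f] [IsSeparated f] [HTor.HasRΓA f]
    (N : ℕ) (U : Fin (N + 1) → X.Opens) (hU : ∀ i, IsAffineOpen (U i)) (hcov : ⨆ i, U i = ⊤)
    (P : CochainComplex X.Modules ℤ) (hq : ∀ i : ℤ, Coh.IsQCoh (P.X i)) (b : ℤ)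
    (hb : ∀ i : ℤ, b < i → IsZero (P.X i)) :
    ∃ L : DRing.Cx A, (∀ i : ℤ, Module.Free A (L.X i)) ∧ DRing.VanishesAbove L (b + N) ∧
      HTor.Computes f L (DCoh.toD X P) := by
  obtain ⟨G, ⟨eG⟩, hGb, -⟩ := exists_rep f N U hU hcov P hq
  obtain ⟨L, hL, hLf, ⟨eL⟩⟩ := Groth.Agent.DRing.ProjAmp.exists_freeRep (DRing.toD G) (b + N)
    (fun i hi => subsingleton_of_term G i (hGb b hb i hi))
  exact ⟨L, hLf, hL, ⟨eL ≪≫ eG⟩⟩

end Groth.Agent.S3528
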