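import Groth.Statements.S3530
import Groth.Agent.HTor95.BoxBC

set_option autoImplicit false
universe u
attribute [local instance] HasDerivedCategory.standard
open HTor

namespace Groth.Agent.S3530

open CategoryTheory CategoryTheory.Limits AlgebraicGeometry in
/-- Cohomology and base change for a complex flat over an affine base, in derived form. Let X be
quasi-compact and separated over Spec A, P a complex of quasi-coherent O_X-modules vanishing in
large degrees with every term flat over Spec A, and A → A′ any ring map; put X′ = X ×_A A′ and let
P′ be the pulled-back complex on X′. If a complex L of projective A-modules vanishing in large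
degrees computes RΓ(X, P) in D(A), then L ⊗_A A′ computes RΓ(X′, P′) in D(A′). No flatness of A′
over A is assumed. The published statement gives a canonical isomorphism; here only the existence of
an isomorphism in D(A′) is asserted. -/
theorem result (A A' : Type u) [CommRing A] [CommRing A'] (φ : A →+* A')
    (X : Scheme.{u}) (f : X ⟶ Spec (CommRingCat.of A)) [QuasiCompact f] [IsSeparated f] [HTor.HasRΓA f]
    [HTor.HasRΓA (pullback.snd f (Spec.map (CommRingCat.ofHom φ)))]
    (P : CochainComplex X.Modules ℤ) (hq : ∀ i : ℤ, Coh.IsQCoh (P.X i))
    (bP : ∃ b : ℤ, ∀ i : ℤ, b < i → IsZero (P.X i)) (hfl : ∀ i : ℤ, FlatMod.IsFlatOver f (P.X i))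
    (L : DRing.Cx A) (hL : ∀ i : ℤ, Projective (L.X i)) (c : ∃ c : ℤ, DRing.VanishesAbove L c)
    (e : HTor.Computes f L (DCoh.toD X P)) :
    HTor.Computes (pullback.snd f (Spec.map (CommRingCat.ofHom φ))) (CohIII.bcCx φ L)
      (DCoh.toD _ ((HTor.pullCx (pullback.fst f (Spec.map (CommRingCat.ofHom φ)))).obj P)) := by
  exact Groth.Agent.HTor95.BoxBC.computes_bc (IsPullback.of_hasPullback f _) P hq bP hfl L hL c e

end Groth.Agent.S3530
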