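import Groth.Statements.S3531
import Groth.Agent.HTor95.BoxTensorA

set_option autoImplicit false
universe u
attribute [local instance] HasDerivedCategory.standard
open HTor

namespace Groth.Agent.S3531

open CategoryTheory CategoryTheory.Limits AlgebraicGeometry in
/-- (One factor, base Spec A, in derived form.) Let X be quasi-compact and separated over Spec A via f,
and P a complex of quasi-coherent O_X-modules vanishing in large degrees, with every term flat over
Spec A. If a complex L of projective A-modules vanishing in large degrees computes RΓ(X, P), then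
for every complex Q of A-modules vanishing in large degrees, L ⊗_A Q computes RΓ(X, P ⊗_A Q), where
P ⊗_A Q is the total complex of the P^i ⊗_{O_X} f^*(Q^j)~. (The published statement gives a
canonical isomorphism; here only the existence of an isomorphism in D(A) is asserted.) -/
theorem result (A : Type u) [CommRing A] (X : Scheme.{u})
    (f : X ⟶ Spec (CommRingCat.of A)) [QuasiCompact f] [IsSeparated f] [HTor.HasRΓA f]
    (P : CochainComplex X.Modules ℤ) (hq : ∀ i : ℤ, Coh.IsQCoh (P.X i))
    (bP : ∃ b : ℤ, ∀ i : ℤ, b < i → IsZero (P.X i)) (hfl : ∀ i : ℤ, FlatMod.IsFlatOver f (P.X i))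
    (L : DRing.Cx A) (hL : ∀ i : ℤ, Projective (L.X i)) (c : ∃ c : ℤ, DRing.VanishesAbove L c)
    (e : HTor.Computes f L (DCoh.toD X P)) (Q : DRing.Cx A) (bQ : ∃ b : ℤ, DRing.VanishesAbove Q b) :
    HTor.Computes f (HTor.tensorCx L Q) (DCoh.toD X (HTor.tensorACx f P Q)) := by
  exact Groth.Agent.HTor95.BoxTensorA.computes_tensorA f P hq bP hfl L hL c e Q bQ

end Groth.Agent.S3531
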