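import Groth.Statements.S3532
import Groth.Agent.LimTower.Complex

set_option autoImplicit false
universe u
open CategoryTheory Opposite
open HomAlg3

namespace Groth.Agent.S3532

open CategoryTheory in
/-- Category of abelian groups, system indexed by the natural numbers: Let (A_k)_{k ≥ 0} be an inverse
system of abelian groups. For p ≤ k write Im_k(A_p) for the image of A_k → A_p, and K_p for the
kernel of A_p → A_{p-1} (K_0 = A_0). Then (A_k) satisfies the Mittag-Leffler condition (for each p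
the subgroups Im_k(A_p) are eventually constant in k) if and only if for each p the subgroups
Im_k(A_p) ∩ K_p are eventually constant in k. -/
theorem result (F : ℕᵒᵖ ⥤ AddCommGrpCat.{u}) :
    (F ⋙ forget AddCommGrpCat).IsMittagLeffler ↔
      ((∃ k₀ : ℕ, ∀ (k : ℕ) (hk : k₀ ≤ k),
          (F.map (homOfLE (Nat.zero_le k)).op).hom.range = (F.map (homOfLE (Nat.zero_le k₀)).op).hom.range) ∧
        ∀ p : ℕ, ∃ k₀ : ℕ, ∃ h₀ : p + 1 ≤ k₀, ∀ (k : ℕ) (hk : k₀ ≤ k),
          (F.map (homOfLE (h₀.trans hk)).op).hom.range ⊓ (F.map (homOfLE (Nat.le_succ p)).op).hom.ker =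
            (F.map (homOfLE h₀).op).hom.range ⊓ (F.map (homOfLE (Nat.le_succ p)).op).hom.ker) := by
  have hr : ∀ {a b c : ℕ} (h : a ≤ b) (h' : b ≤ c) (x : F.obj (op c)),
      (F.map (homOfLE h).op).hom ((F.map (homOfLE h').op).hom x) = (F.map (homOfLE (h.trans h')).op).hom x :=
    fun h h' x => Groth.Agent.LimTower.Basic.map_map F _ _ _ x
  have hmono : ∀ {a b c : ℕ} (h : a ≤ b) (h' : b ≤ c),
      (F.map (homOfLE (h.trans h')).op).hom.range ≤ (F.map (homOfLE h).op).hom.range :=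
    fun h h' => by rintro _ ⟨x, rfl⟩; exact ⟨_, hr h h' x⟩
  constructor
  · intro h
    have hs : ∀ p, ∃ k₀, ∃ h₀ : p ≤ k₀, ∀ (k : ℕ) (hk : k₀ ≤ k),
        (F.map (homOfLE (h₀.trans hk)).op).hom.range = (F.map (homOfLE h₀).op).hom.range := by
      intro p
      obtain ⟨i, f, hf⟩ := Groth.Agent.LimTower.Basic.ML.stable h (op p)
      refine ⟨i.unop, leOfHom f.unop, fun k hk => le_antisymm (hmono (leOfHom f.unop) hk) ?_⟩
      rintro _ ⟨x, rfl⟩
      exact hf (op k) (homOfLE ((leOfHom f.unop).trans hk)).op x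
    obtain ⟨k₀, h₀, e₀⟩ := hs 0
    refine ⟨⟨k₀, fun k hk => e₀ k hk⟩, fun p => ?_⟩
    obtain ⟨k₁, h₁, e₁⟩ := hs (p + 1)
    exact ⟨k₁, h₁, fun k hk => by rw [e₁ k hk]⟩
  · rintro ⟨⟨k₀, e₀⟩, hp⟩
    have hs : ∀ p, ∃ k₀, ∃ h₀ : p ≤ k₀, ∀ (k : ℕ) (hk : k₀ ≤ k),
        (F.map (homOfLE h₀).op).hom.range ≤ (F.map (homOfLE (h₀.trans hk)).op).hom.range := by
      intro p
      induction p with
      | zero => exact ⟨k₀, Nat.zero_le _, fun k hk => (e₀ k hk).ge⟩
      | succ p ih =>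
        obtain ⟨a, ha, ea⟩ := ih
        obtain ⟨b, hb, eb⟩ := hp p
        refine ⟨max a b, hb.trans (le_max_right a b), fun k hk => ?_⟩
        rintro _ ⟨x, rfl⟩
        obtain ⟨y, hy⟩ := ea k ((le_max_left a b).trans hk) ⟨(F.map (homOfLE (le_max_left a b)).op).hom x, rfl⟩
        let d := (F.map (homOfLE (hb.trans (le_max_right a b))).op).hom x -
          (F.map (homOfLE (hb.trans ((le_max_right a b).trans hk))).op).hom y
        have hd : d ∈ (F.map (homOfLE hb).op).hom.range ⊓ (F.map (homOfLE (Nat.le_succ p)).op).hom.ker := by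
          refine ⟨AddSubgroup.sub_mem _ (hmono hb (le_max_right a b) ⟨x, rfl⟩)
            (hmono hb ((le_max_right a b).trans hk) ⟨y, rfl⟩), ?_⟩
          show (F.map _).hom (_ - _) = 0
          rw [map_sub, hr, hr, hy, hr, sub_self]
        rw [← eb k ((le_max_right a b).trans hk)] at hd
        obtain ⟨z, hz⟩ := hd.1
        exact ⟨y + z, by rw [map_add, hz, add_sub_cancel]⟩
    refine Groth.Agent.LimTower.Basic.ML.mk fun j => ?_
    obtain ⟨k₁, h₁, e₁⟩ := hs j.unop
    refine ⟨op k₁, (homOfLE h₁).op, fun m g x => ?_⟩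
    obtain ⟨y, hy⟩ := e₁ (max k₁ m.unop) (le_max_left _ _) ⟨x, rfl⟩
    exact ⟨(F.map (homOfLE (le_max_right k₁ m.unop)).op).hom y,
      (Groth.Agent.LimTower.Basic.map_map F _ g _ y).trans hy⟩

end Groth.Agent.S3532
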