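import Groth.Statements.S3533
import Groth.Agent.HTor95.CohModel

set_option autoImplicit false
universe u
attribute [local instance] HasDerivedCategory.standard
open HTor

namespace Groth.Agent.S3533
open CategoryTheory CategoryTheory.Limits AlgebraicGeometry in
theorem isCohD_toD {X : Scheme.{u}} {K : CochainComplex X.Modules ℤ} (h : DCoh.IsCohD (DCoh.toD X K)) (i : ℤ) :
    Coh.IsCoh (K.homology i) :=
  Groth.Agent.CohDev.isCoh_of_iso ((DerivedCategory.homologyFunctorFactors _ i).app K) (h i)

open CategoryTheory CategoryTheory.Limits AlgebraicGeometry in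
theorem homology_pull {Y Z : Scheme.{u}} (q : Z ⟶ Y) [Flat q] (Q : CochainComplex Y.Modules ℤ) (i : ℤ) :
    Nonempty ((Scheme.Modules.pullback q).obj (Q.homology i) ≅ ((HTor.pullCx q).obj Q).homology i) :=
  ⟨((Q.sc i).mapHomologyIso (Scheme.Modules.pullback q)).symm⟩


open CategoryTheory CategoryTheory.Limits AlgebraicGeometry in
/-- Let f : X ⟶ S be a flat morphism with X locally Noetherian, g : Y ⟶ S a morphism, and suppose Z = X
×_S Y is locally Noetherian. As X is flat over S, the local hypertor sheaves Tor_n^S(F, G) on Z are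
taken to be the cohomology sheaves in degree −n of L pr₁^* F ⊗^L pr₂^* G, where pr₂^* G is the plain
pullback of G viewed as a complex in degree 0 and the derived pullback L pr₁^* and the derived
tensor product are taken under their existence binders; the statement is made in that form. Then for
F a coherent O_X-module and G a coherent O_Y-module, every cohomology sheaf of L pr₁^* F ⊗^L pr₂^* G
is a coherent O_Z-module. -/
theorem result (X Y S : Scheme.{u}) (f : X ⟶ S) (g : Y ⟶ S) [Flat f]
    [IsLocallyNoetherian X] [IsLocallyNoetherian (pullback f g)] (F : X.Modules) (G : Y.Modules)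
    (hF : Coh.IsCoh F) (hG : Coh.IsCoh G) [DCoh.HasLpull (pullback.fst f g)]
    [DCoh.HasLTensorCx ((HTor.pullCx (pullback.snd f g)).obj
      ((HomologicalComplex.single Y.Modules (ComplexShape.up ℤ) 0).obj G))] (n : ℤ) :
    Coh.IsCoh (DCoh.HD ((DCoh.LTensorCx ((HTor.pullCx (pullback.snd f g)).obj
      ((HomologicalComplex.single Y.Modules (ComplexShape.up ℤ) 0).obj G))).obj
        ((DCoh.Lpull (pullback.fst f g)).obj (DCoh.inD X F))) n) := by
  let F' := (HomologicalComplex.single X.Modules (ComplexShape.up ℤ) 0).obj F
  let G' := (HomologicalComplex.single Y.Modules (ComplexShape.up ℤ) 0).obj G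
  have hs : ∀ (W : Scheme.{u}) (M : W.Modules), Coh.IsCoh M → ∀ i : ℤ,
      Coh.IsCoh (((HomologicalComplex.single W.Modules (ComplexShape.up ℤ) 0).obj M).homology i) := fun W M hM i => by
    by_cases hi : i = 0
    · subst hi
      exact Groth.Agent.CohDev.isCoh_of_iso (HomologicalComplex.singleObjHomologySelfIso _ 0 M).symm hM
    · exact Groth.Agent.CohDev.isCoh_of_isZero (HomologicalComplex.isZero_single_obj_homology _ 0 M i hi)
  have hz : ∀ (W : Scheme.{u}) (M : W.Modules), ∀ i : ℤ, 0 < i →
      IsZero (((HomologicalComplex.single W.Modules (ComplexShape.up ℤ) 0).obj M).homology i) :=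
    fun W M i hi => HomologicalComplex.isZero_single_obj_homology _ 0 M i (by omega)
  let G'' := (HTor.pullCx (pullback.snd f g)).obj G'
  have eG := fun i => (homology_pull (pullback.snd f g) G' i).some
  have h := Groth.Agent.HTor95.CohModel.isCohD_LTensor_Lpull (pullback.fst f g) G''
    (fun i => Groth.Agent.CohDev.isCoh_of_iso (eG i)
      (Groth.Agent.ZClosLib.CohDescent.isCoh_pullback _ _ (hs Y G hG i)))
    0 (fun i hi => ((Scheme.Modules.pullback _).map_isZero (hz Y G i hi)).of_iso (eG i).symm)
    F' (hs X F hF) 0 (hz X F) n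
  exact Groth.Agent.CohDev.isCoh_of_iso ((DerivedCategory.homologyFunctor _ n).mapIso
    ((DCoh.LTensorCx G'').mapIso ((DCoh.Lpull (pullback.fst f g)).mapIso
      ((DerivedCategory.singleFunctorIsoCompQ X.Modules 0).app F).symm))) h

end Groth.Agent.S3533
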