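import Groth.Statements.S3540
import Groth.Agent.HyperCech.Phi

set_option autoImplicit false
universe u
open CechTot

namespace Groth.Agent.S3540

open CategoryTheory CategoryTheory.Limits TopologicalSpace in
theorem res_congr {X : TopCat.{u}} [HasDerivedCategory.{u} (CohTop.Ab X)]
    (D : DerivedCategory (CohTop.Ab X)) (n : ℤ) {V W : Opens X} (hV : V = W) (g : V ⟶ (⊤ : Opens X))
    (x : CohCx.HDU D n (⊤ : Opens X)) :
    CohCx.HDUres D n g x = 0 ↔ CohCx.HDUres D n (homOfLE le_top : W ⟶ (⊤ : Opens X)) x = 0 := by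
  subst hV
  rw [Subsingleton.elim g (homOfLE le_top)]

open CategoryTheory CategoryTheory.Limits TopologicalSpace in
theorem restr_iff {X : TopCat.{u}} [HasDerivedCategory.{u} (CohTop.Ab X)] {ι : Type u} (U : ι → Opens X)
    (D : DerivedCategory (CohTop.Ab X)) (n : ℤ) (k : Fin 1 → ι)
    (x : CohCx.HDU D n (⊤ : Opens X)) :
    (DerivedCategory.singleFunctor (CohTop.Ab X) 0).map
        (SiteCoh.CechCover.summand (HyperCech.Nerve.Y (X := X) U) (Opens.grothendieckTopology X) 0 k ≫
          SiteCoh.HomRes.aug (SiteCoh.CechCover.resolution (HyperCech.Nerve.Y (X := X) U) (Opens.grothendieckTopology X))) ≫ x = 0 ↔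
      CohCx.HDUres D n (homOfLE le_top : U (k 0) ⟶ (⊤ : Opens X)) x = 0 := by
  have e : (HyperCech.Nerve.interY (X := X) U 0 k).left = U (k 0) :=
    (HyperCech.Nerve.inter_le_iInf (X := X) U 0 k).trans
      (le_antisymm (iInf_le (fun t => U (k t)) 0) (le_iInf fun t => le_of_eq (congrArg (fun t => U (k t)) (Fin.fin_one_eq_zero t).symm)))
  exact (iff_of_eq (congrArg (fun g => (DerivedCategory.singleFunctor (CohTop.Ab X) 0).map g ≫ x = 0)
    (SiteCoh.CechCover.summand_aug (HyperCech.Nerve.Y (X := X) U) (Opens.grothendieckTopology X) k))).trans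
    (res_congr D n e _ x)

set_option maxHeartbeats 2000000 in
open CategoryTheory CategoryTheory.Limits TopologicalSpace in
/-- For abelian sheaves and a complex bounded below (the biregular case), stated through the finite
filtration the spectral sequence induces on its abutment and its edge (the source's graded pieces
are the E∞ terms, which is stronger). Let U = (U_i) be an open cover of X and K a complex of abelian
sheaves with K^i = 0 for i < a. For q ∈ ℤ let h^q(K) be the presheaf V ↦ H^q(V, K) of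
hypercohomology groups and Ȟ^p(U, h^q(K)) its Čech cohomology for the cover. Then for every n the
group H^n(X, K) carries a decreasing sequence of subgroups G_0 ≥ G_1 ≥ … with G_0 everything, G_1
the kernel of the restriction map H^n(X, K) → ∏_i H^n(U_i, K), and G_N = 0 for some N, such that
every quotient G_p/G_{p+1} is isomorphic to a subquotient of Ȟ^p(U, h^{n-p}(K)). -/
theorem result {X : TopCat.{u}}
    [HasDerivedCategory.{u} (CohTop.Ab X)] {ι : Type u} (U : ι → Opens X) (hcov : iSup U = ⊤)
    (K : CochainComplex (CohTop.Ab X) ℤ) (a : ℤ) (ha : ∀ i : ℤ, i < a → IsZero (K.X i)) (n : ℤ) :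
    ∃ (N : ℕ) (G : ℕ → Submodule ℤ (CohCx.HDU (DerivedCategory.Q.obj K) n (⊤ : Opens X))),
      Antitone G ∧ G 0 = ⊤ ∧ G N = ⊥ ∧
      G 1 = ⨅ i, AddSubgroup.toIntSubmodule
        (CohCx.HDUres (DerivedCategory.Q.obj K) n (homOfLE le_top : U i ⟶ (⊤ : Opens X))).ker ∧
      ∀ p : ℕ, HTor.IsSubquotient ℤ (HTor.grDesc G p)
        (CohB1.cechHTop U (CohCx.HDUPresheaf (DerivedCategory.Q.obj K) (n - p)) p) := by
  let J := Opens.grothendieckTopology X
  let π := Groth.Agent.SiteCoh.CechCover.resolution (HyperCech.Nerve.Y (X := X) U) J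
  have hq : QuasiIso π :=
    SiteCoh.CechCover.quasiIso_resolution _ _ (HyperCech.Nerve.gen_mem (X := X) U hcov)
  obtain ⟨I, φ, hφ, hI, -, haI⟩ := HyperCech.Main.exists_resolution (A := CohTop.Ab X) K a ha
  let cl := HyperCech.Rest.cl (A := CohTop.Ab X) (HyperCech.Nerve.N (X := X) U) π φ n
  refine ⟨(n - a).toNat + 1, fun p => HyperCech.Filt.G _ I n cl p, HyperCech.Filt.G_antitone _ I n cl,
    HyperCech.Filt.G_zero _ I n cl (HyperCech.Rest.cl_surjective _ π φ n),
    HyperCech.Filt.G_eq_bot _ I n cl a haI _ (by omega), ?_, fun p => ?_⟩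
  · ext x
    refine (HyperCech.Rest.G_one_eq (HyperCech.Nerve.N (X := X) U) π φ n
      (SiteCoh.CechCover.summand (HyperCech.Nerve.Y (X := X) U) J 0)
      (SiteCoh.CechCover.summand_bijective (HyperCech.Nerve.Y (X := X) U) J 0) x).trans ?_
    simp only [Submodule.mem_iInf]
    have key := fun k => restr_iff U ((DerivedCategory.Q (C := CohTop.Ab X)).obj K) n k x
    exact ⟨fun h i => (key fun _ => i).1 (h _), fun h k => (key k).2 (h (k 0))⟩
  · exact HyperCech.Filt.isSubquotient_graded (HyperCech.Nerve.N (X := X) U) I n cl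
      (HyperCech.Rest.cl_eq_zero_iff _ π φ n) p (n - p) (by omega)
      ((cechComplexFunctor U).obj (CohCx.HDUPresheaf ((DerivedCategory.Q (C := CohTop.Ab X)).obj K) (n - p)))
      (HyperCech.Phi.Φ U (HyperCech.Zq.etaNat φ (n - p)))
      (HyperCech.Phi.Φ_d U (HyperCech.Zq.etaNat φ (n - p)))
      (HyperCech.Phi.Φ_surjective U _ fun V => HyperCech.Zq.app_surjective φ (n - p) V.unop)
      (HyperCech.Phi.Φ_eq_zero_iff U (I.toCycles (n - p - 1) (n - p)) _
        (fun V y => (HyperCech.Zq.app_eq_zero_iff φ (n - p) V.unop _).2 ⟨y, rfl⟩)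
        (fun V x hx => (HyperCech.Zq.app_eq_zero_iff φ (n - p) V.unop x).1 hx))

end Groth.Agent.S3540
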