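import Groth.Statements.S3541
import Groth.Agent.HTor95.Piece
import Groth.Agent.DRing.ProjAmpTFAE
import Groth.Agent.DRing.DBasic

set_option autoImplicit false
universe u
attribute [local instance] HasDerivedCategory.standard
open HTor

namespace Groth.Agent.S3541
open CategoryTheory CategoryTheory.Limits AlgebraicGeometry in
theorem exists_rep {A : Type u} [CommRing A] {X : Scheme.{u}} (f : X ⟶ Spec (CommRingCat.of A))
    [QuasiCompact f] [IsSeparated f] [HTor.HasRΓA f]
    (N : ℕ) (U : Fin (N + 1) → X.Opens) (hU : ∀ i, IsAffineOpen (U i)) (hcov : ⨆ i, U i = ⊤)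
    (P : CochainComplex X.Modules ℤ) (hq : ∀ i : ℤ, Coh.IsQCoh (P.X i)) :
    ∃ G : DRing.Cx A, HTor.Computes f G (DCoh.toD X P) ∧
      (∀ b : ℤ, (∀ i, b < i → IsZero (P.X i)) → ∀ i, b + N < i → IsZero (G.X i)) ∧
      (∀ c : ℤ, (∀ i, i < c → IsZero (P.X i)) → ∀ i, i < c → IsZero (G.X i)) := by
  obtain ⟨R, a, ha, hR, hb, hc⟩ := Groth.Agent.HTor95.Piece.exists_pieceRes f N U hU hcov P hq (fun _ => True)
    (fun _ _ => trivial) (fun _ _ => trivial) (fun _ _ => trivial) (fun _ _ _ => trivial) (fun _ => trivial)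
  obtain ⟨e⟩ := Groth.Agent.HTor95.Piece.nonempty_iso_of_piece f R (fun i => (hR i).1)
  have : IsIso (DerivedCategory.Q.map a) := (DerivedCategory.isIso_Q_map_iff_quasiIso _ _).2 ha
  exact ⟨(Groth.Agent.HTor95.Rg.gA f).obj R, ⟨e ≪≫ ((HTor.RΓA f).mapIso (asIso (DerivedCategory.Q.map a))).symm⟩,
    fun b h i hi => (HTor.globalSectionsA f).map_isZero (hb b h i hi),
    fun c h i hi => (HTor.globalSectionsA f).map_isZero (hc c h i hi)⟩

open CategoryTheory CategoryTheory.Limits in
theorem subsingleton_of_term {A : Type u} [CommRing A] (G : DRing.Cx A) (i : ℤ) (h : IsZero (G.X i)) :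
    Subsingleton (Dual.HD A (DRing.toD G) i) :=
  (Groth.Agent.DRing.DBasic.subsingleton_HD_toD_iff G i).2
    (ShortComplex.isZero_homology_of_isZero_X₂ (G.sc i) h)


open CategoryTheory CategoryTheory.Limits AlgebraicGeometry in
/-- Let A be a ring all of whose modules have projective dimension ≤ d, X a scheme with a quasi-compact
separated morphism f : X → Spec A, covered by N + 1 affine opens, and P a complex of quasi-coherent
O_X-modules with P^k = 0 unless a ≤ k ≤ b. Then RΓ(X, P) ∈ D(A) is represented by a complex L of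
projective A-modules with L^k = 0 unless a - d ≤ k ≤ b + N. (The published statement gives a
canonical isomorphism, in a more general relative setting with several factors; here only one factor
over the base Spec A is treated and only the existence of an isomorphism in D(A) is asserted.) -/
theorem result (A : Type u) [CommRing A] (d : ℕ)
    (hA : ∀ M : ModuleCat.{u} A, HasProjectiveDimensionLT M (d + 1)) (X : Scheme.{u})
    (f : X ⟶ Spec (CommRingCat.of A)) [QuasiCompact f] [IsSeparated f] [HTor.HasRΓA f]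
    (N : ℕ) (U : Fin (N + 1) → X.Opens) (hU : ∀ i, IsAffineOpen (U i)) (hcov : ⨆ i, U i = ⊤)
    (P : CochainComplex X.Modules ℤ) (hq : ∀ i : ℤ, Coh.IsQCoh (P.X i)) (a b : ℤ)
    (hab : ∀ i : ℤ, i < a ∨ b < i → IsZero (P.X i)) :
    ∃ L : DRing.Cx A, (∀ i : ℤ, Module.Projective A (L.X i)) ∧ DRing.VanishesOutside L (a - d) (b + N) ∧
      HTor.Computes f L (DCoh.toD X P) := by
  obtain ⟨G, ⟨eG⟩, hGb, hGa⟩ := exists_rep f N U hU hcov P hq
  obtain ⟨L, hL, hLp, ⟨eL⟩⟩ := Groth.Agent.DRing.ProjAmp.hasProjAmp_of_glDim hA (DRing.toD G) (a := a) (b := b + N)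
    (fun i hi => subsingleton_of_term G i (by
      rcases hi with h | h
      · exact hGa a (fun j hj => hab j (Or.inl hj)) i h
      · exact hGb b (fun j hj => hab j (Or.inr hj)) i h))
  exact ⟨L, hLp, hL, ⟨eL ≪≫ eG⟩⟩

end Groth.Agent.S3541
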