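import Groth.Statements.S3542
import Groth.Agent.HTor95.CohModel

set_option autoImplicit false
universe u
attribute [local instance] HasDerivedCategory.standard
open HTor

namespace Groth.Agent.S3542
open CategoryTheory CategoryTheory.Limits AlgebraicGeometry in
theorem isCohD_toD {X : Scheme.{u}} {K : CochainComplex X.Modules ℤ} (h : DCoh.IsCohD (DCoh.toD X K)) (i : ℤ) :
    Coh.IsCoh (K.homology i) :=
  Groth.Agent.CohDev.isCoh_of_iso ((DerivedCategory.homologyFunctorFactors _ i).app K) (h i)

open CategoryTheory CategoryTheory.Limits AlgebraicGeometry in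
theorem homology_pull {Y Z : Scheme.{u}} (q : Z ⟶ Y) [Flat q] (Q : CochainComplex Y.Modules ℤ) (i : ℤ) :
    Nonempty ((Scheme.Modules.pullback q).obj (Q.homology i) ≅ ((HTor.pullCx q).obj Q).homology i) :=
  ⟨((Q.sc i).mapHomologyIso (Scheme.Modules.pullback q)).symm⟩


open CategoryTheory CategoryTheory.Limits AlgebraicGeometry in
/-- Let f : X ⟶ S be flat with X locally Noetherian, g : Y ⟶ S any morphism, and suppose Z = X ×_S Y is
locally Noetherian. Let P (resp. Q) be a complex of quasi-coherent O_X-modules (resp. O_Y-modules)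
vanishing in large degrees, all of whose cohomology sheaves are coherent. Since X is flat over S,
the local hypertor sheaves Tor_n^S(P, Q) on Z are the cohomology sheaves of L pr₁^*P ⊗^L pr₂^*Q
(derived pullback and derived tensor product under their existence binders; pr₂ is flat, so pr₂^*Q
is the termwise pullback). Then all these cohomology sheaves are coherent O_Z-modules. -/
theorem result (X Y S : Scheme.{u}) (f : X ⟶ S) (g : Y ⟶ S) [Flat f]
    [IsLocallyNoetherian X] [IsLocallyNoetherian (pullback f g)]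
    (P : CochainComplex X.Modules ℤ) (Q : CochainComplex Y.Modules ℤ)
    (hqP : ∀ i : ℤ, Coh.IsQCoh (P.X i)) (hqQ : ∀ i : ℤ, Coh.IsQCoh (Q.X i))
    (bP : ∃ b : ℤ, ∀ i : ℤ, b < i → IsZero (P.X i)) (bQ : ∃ b : ℤ, ∀ i : ℤ, b < i → IsZero (Q.X i))
    (hP : DCoh.IsCohD (DCoh.toD X P)) (hQ : DCoh.IsCohD (DCoh.toD Y Q))
    [DCoh.HasLpull (pullback.fst f g)] [DCoh.HasLTensorCx ((HTor.pullCx (pullback.snd f g)).obj Q)] :
    DCoh.IsCohD ((DCoh.LTensorCx ((HTor.pullCx (pullback.snd f g)).obj Q)).obj
      ((DCoh.Lpull (pullback.fst f g)).obj (DCoh.toD X P))) := by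
  obtain ⟨b, hb⟩ := bP
  obtain ⟨c, hc⟩ := bQ
  let G := (HTor.pullCx (pullback.snd f g)).obj Q
  have eG := fun i => (homology_pull (pullback.snd f g) Q i).some
  exact Groth.Agent.HTor95.CohModel.isCohD_LTensor_Lpull (pullback.fst f g) G
    (fun i => Groth.Agent.CohDev.isCoh_of_iso (eG i)
      (Groth.Agent.ZClosLib.CohDescent.isCoh_pullback _ _ (isCohD_toD hQ i)))
    c (fun i hi => ((Scheme.Modules.pullback _).map_isZero
      (ShortComplex.isZero_homology_of_isZero_X₂ (Q.sc i) (hc i hi))).of_iso (eG i).symm)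
    P (isCohD_toD hP) b (fun i hi => ShortComplex.isZero_homology_of_isZero_X₂ (P.sc i) (hb i hi))

end Groth.Agent.S3542
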