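import Groth.Statements.S3544
import Mathlib

set_option autoImplicit false
universe u
open HomAlg3

namespace Groth.Agent.S3544

section
open CategoryTheory CategoryTheory.Limits

theorem len_homology {A : Type u} [Ring A] (S : ShortComplex (ModuleCat.{u} A)) :
    Module.length A S.X₂ = Module.length A S.homology + Module.length A (LinearMap.range S.f.hom) +
      Module.length A (LinearMap.range S.g.hom) := by
  have h1 : Module.length A S.X₂ =
      Module.length A (LinearMap.ker S.g.hom) + Module.length A (LinearMap.range S.g.hom) :=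
    Module.length_eq_add_of_exact (LinearMap.ker S.g.hom).subtype S.g.hom.rangeRestrict
      (Submodule.subtype_injective _) (LinearMap.surjective_rangeRestrict _)
      (fun x => by simp [Subtype.ext_iff, LinearMap.mem_ker])
  let p := LinearMap.range S.moduleCatToCycles
  have h2 : Module.length A (LinearMap.ker S.g.hom) =
      Module.length A p + Module.length A (LinearMap.ker S.g.hom ⧸ p) :=
    Module.length_eq_add_of_exact p.subtype p.mkQ (Submodule.subtype_injective _) (Submodule.mkQ_surjective _)
      (LinearMap.exact_subtype_mkQ p)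
  have h3 : Module.length A p = Module.length A (LinearMap.range S.f.hom) := by
    have hmap : p.map (LinearMap.ker S.g.hom).subtype = LinearMap.range S.f.hom := by
      rw [← LinearMap.range_comp]
      rfl
    rw [← hmap]
    exact (Submodule.equivMapOfInjective _ (Submodule.subtype_injective _) p).length_eq
  have h4 : Module.length A S.homology = Module.length A (LinearMap.ker S.g.hom ⧸ p) :=
    S.moduleCatHomologyIso.toLinearEquiv.length_eq
  rw [h1, h2, h3, h4, add_comm (Module.length A (LinearMap.range S.f.hom))]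

theorem len_next {A : Type u} [Ring A] (δ : ℤ × ℤ)
    (K : HomologicalComplex (ModuleCat.{u} A) (ComplexShape.up' δ)) (x : ℤ × ℤ) :
    Module.length A (K.X (x + δ)) = Module.length A (K.homology (x + δ)) +
      Module.length A (LinearMap.range (K.d x (x + δ)).hom) +
      Module.length A (LinearMap.range (K.d (x + δ) (x + δ + δ)).hom) := by
  have h := len_homology (K.sc' x (x + δ) (x + δ + δ))
  have e : Module.length A (K.homology (x + δ)) = Module.length A (K.sc' x (x + δ) (x + δ + δ)).homology :=
    (ShortComplex.homologyMapIso (K.isoSc' x (x + δ) (x + δ + δ)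
      ((ComplexShape.up' δ).prev_eq' rfl) ((ComplexShape.up' δ).next_eq' rfl))).toLinearEquiv.length_eq
  rw [e]
  exact h

theorem length_zero_of_isZero {A : Type u} [Ring A] {M : ModuleCat.{u} A} (h : IsZero M) :
    Module.length A M = 0 := by
  have : Subsingleton M := ModuleCat.subsingleton_of_isZero h
  exact Module.length_eq_zero_iff.mpr this

theorem main {A : Type u} [Ring A]
    (E : E₂CohomologicalSpectralSequence (ModuleCat.{u} A)) (s : Finset (ℤ × ℤ))
    (hs : ∀ pq : ℤ × ℤ, pq ∉ s → IsZero ((E.page 2).X pq))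
    (hfl : ∀ pq : ℤ × ℤ, IsFiniteLength A ((E.page 2).X pq)) (n : ℕ) :
    (∀ pq : ℤ × ℤ, pq ∉ s → Module.length A ((E.page (2 + n) (by omega)).X pq) = 0) ∧
    (∀ pq : ℤ × ℤ, Module.length A ((E.page (2 + n) (by omega)).X pq) ≠ ⊤) ∧
    (s.sum fun pq => (((pq.1 + pq.2).negOnePow : ℤˣ) : ℤ) *
        ((Module.length A ((E.page (2 + n) (by omega)).X pq)).toNat : ℤ)) =
      s.sum fun pq => (((pq.1 + pq.2).negOnePow : ℤˣ) : ℤ) * ((Module.length A ((E.page 2).X pq)).toNat : ℤ) := by
  induction n with
  | zero =>
    have e : ∀ pq, Module.length A ((E.page (2 + ((0 : ℕ) : ℤ)) (by omega)).X pq) =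
        Module.length A ((E.page 2).X pq) := fun pq =>
      (E.pageXIsoOfEq pq (2 + ((0 : ℕ) : ℤ)) 2 (by simp)).toLinearEquiv.length_eq
    refine ⟨fun pq h => (e pq).trans (length_zero_of_isZero (hs pq h)),
      fun pq => by rw [e]; exact Module.length_ne_top_iff.mpr (hfl pq), ?_⟩
    simp only [e]
  | succ n ih =>
    obtain ⟨h0, hf, hsum⟩ := ih
    let r : ℤ := 2 + n
    let δ : ℤ × ℤ := (r, 1 - r)
    let K : HomologicalComplex (ModuleCat.{u} A) (ComplexShape.up' δ) := E.page r (by omega)
    have e : ∀ pq, Module.length A ((E.page (2 + ((n + 1 : ℕ) : ℤ)) (by omega)).X pq) =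
        Module.length A (K.homology pq) := fun pq =>
      (E.iso r (2 + ((n + 1 : ℕ) : ℤ)) pq (by push_cast; omega) (by omega)).toLinearEquiv.length_eq.symm
    let b : ℤ × ℤ → ℕ∞ := fun x => Module.length A (LinearMap.range (K.d x (x + δ)).hom)
    have key : ∀ pq, Module.length A (K.X pq) = Module.length A (K.homology pq) + b (pq - δ) + b pq := by
      intro pq
      obtain ⟨x, rfl⟩ : ∃ x, pq = x + δ := ⟨pq - δ, (sub_add_cancel pq δ).symm⟩
      rw [add_sub_cancel_right]
      exact len_next δ K x
    have hle : ∀ pq, Module.length A (K.homology pq) ≤ Module.length A (K.X pq) ∧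
        b (pq - δ) ≤ Module.length A (K.X pq) ∧ b pq ≤ Module.length A (K.X pq) := fun pq => by
      rw [key pq]
      exact ⟨le_add_right le_self_add, le_add_right le_add_self, le_add_self⟩
    have hbot : ∀ pq, pq ∉ s → b pq = 0 ∧ b (pq - δ) = 0 := fun pq h => by
      have hz : Module.length A (K.X pq) = 0 := h0 pq h
      exact ⟨nonpos_iff_eq_zero.mp (hz ▸ (hle pq).2.2), nonpos_iff_eq_zero.mp (hz ▸ (hle pq).2.1)⟩
    have hfin : ∀ pq, Module.length A (K.homology pq) ≠ ⊤ ∧ b (pq - δ) ≠ ⊤ ∧ b pq ≠ ⊤ := fun pq =>
      ⟨ne_top_of_le_ne_top (hf pq) (hle pq).1, ne_top_of_le_ne_top (hf pq) (hle pq).2.1,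
        ne_top_of_le_ne_top (hf pq) (hle pq).2.2⟩
    refine ⟨fun pq h => ?_, fun pq => by rw [e]; exact (hfin pq).1, ?_⟩
    · rw [e]
      exact nonpos_iff_eq_zero.mp ((h0 pq h) ▸ (hle pq).1)
    · rw [← hsum]
      simp only [e]
      let σ : ℤ × ℤ → ℤ := fun pq => (((pq.1 + pq.2).negOnePow : ℤˣ) : ℤ)
      have hσ : ∀ x, σ (x + δ) = - σ x := fun x => by
        simp only [σ, δ, Prod.fst_add, Prod.snd_add]
        rw [show x.1 + r + (x.2 + (1 - r)) = x.1 + x.2 + 1 by ring, Int.negOnePow_succ]
        rfl
      have hk : ∀ pq, ((Module.length A (K.X pq)).toNat : ℤ) =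
          (Module.length A (K.homology pq)).toNat + ((b (pq - δ)).toNat : ℤ) + (b pq).toNat := fun pq => by
        rw [key pq]
        erw [ENat.toNat_add (WithTop.add_ne_top.mpr ⟨(hfin pq).1, (hfin pq).2.1⟩) (hfin pq).2.2,
          ENat.toNat_add (hfin pq).1 (hfin pq).2.1]
        push_cast
        ring
      have hshift : s.sum (fun pq => σ pq * ((b (pq - δ)).toNat : ℤ)) =
          s.sum fun pq => - (σ pq * ((b pq).toNat : ℤ)) := by
        refine Finset.sum_bij_ne_zero (fun x _ _ => x - δ) (fun x hx hne => ?_)
          (fun a _ _ b _ _ h => sub_left_injective h) (fun y hy hne => ?_) (fun x _ _ => ?_)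
        · by_contra h
          exact hne (by rw [(hbot (x - δ) h).1]; simp)
        · refine ⟨y + δ, ?_, ?_, add_sub_cancel_right y δ⟩
          · by_contra h
            have := (hbot (y + δ) h).2
            rw [add_sub_cancel_right] at this
            exact hne (by rw [this]; simp)
          · intro h
            apply hne
            rw [add_sub_cancel_right, hσ, neg_mul] at h
            exact h
        · have := hσ (x - δ)
          rw [sub_add_cancel] at this
          rw [this, neg_mul]
      change s.sum (fun pq => σ pq * ((Module.length A (K.homology pq)).toNat : ℤ)) =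
        s.sum fun pq => σ pq * ((Module.length A (K.X pq)).toNat : ℤ)
      simp only [hk, mul_add, Finset.sum_add_distrib, hshift, Finset.sum_neg_distrib]
      ring

end

open CategoryTheory CategoryTheory.Limits in
/-- Let E be a cohomological spectral sequence of modules over a ring A, starting at page 2, such that
the E₂ terms have finite length and only finitely many of them (all inside the finite set s of
bidegrees) are nonzero. Then for every r ≥ 2 the Euler–Poincaré characteristic of page r, the
alternating sum over s of (-1)^{p+q} times the length of E_r^{pq}, equals that of page 2. -/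
theorem result {A : Type u} [Ring A]
    (E : E₂CohomologicalSpectralSequence (ModuleCat.{u} A)) (s : Finset (ℤ × ℤ))
    (hs : ∀ pq : ℤ × ℤ, pq ∉ s → IsZero ((E.page 2).X pq))
    (hfl : ∀ pq : ℤ × ℤ, IsFiniteLength A ((E.page 2).X pq)) (r : ℤ) (hr : 2 ≤ r) :
    (s.sum fun pq => (((pq.1 + pq.2).negOnePow : ℤˣ) : ℤ) * ((Module.length A ((E.page r hr).X pq)).toNat : ℤ)) =
      s.sum fun pq => (((pq.1 + pq.2).negOnePow : ℤˣ) : ℤ) * ((Module.length A ((E.page 2).X pq)).toNat : ℤ) := by
  obtain ⟨n, rfl⟩ : ∃ n : ℕ, r = 2 + (n : ℤ) := ⟨(r - 2).toNat, by omega⟩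
  exact (main E s hs hfl n).2.2

end Groth.Agent.S3544
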