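import Groth.Statements.S3553
import Groth.Agent.RelProjLib.Preimage

set_option autoImplicit false
universe u
open CategoryTheory CategoryTheory.Limits AlgebraicGeometry
open EGA2

namespace Groth.Agent.S3553

/-- In the case where the induced morphism is defined on all of Proj S: let φ : S' → S be a homomorphism
of graded rings such that S_+ is contained in the ideal generated by φ(S'_+), and suppose every
element of the kernel of φ is nilpotent. Then the induced morphism from Proj S to Proj S' has dense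
image. -/
theorem result {R A : Type u} [CommRing R] [CommRing A] [Algebra R A] (𝒜 : ℕ → Submodule R A) [GradedAlgebra 𝒜]
    {B : Type u} [CommRing B] [Algebra R B] (ℬ : ℕ → Submodule R B) [GradedAlgebra ℬ]
    (φ : 𝒜 →+*ᵍ ℬ) (hφ : HomogeneousIdeal.irrelevant ℬ ≤ (HomogeneousIdeal.irrelevant 𝒜).map φ)
    (hker : ∀ a : A, φ a = 0 → IsNilpotent a) :
    DenseRange (Proj.map φ hφ).base := by
  refine dense_iff_inter_open.2 fun O hO ⟨x, hx⟩ => ?_
  obtain ⟨_, ⟨g, rfl⟩, hxg, hgO⟩ :=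
    (ProjectiveSpectrum.isTopologicalBasis_basic_opens 𝒜).exists_subset_of_mem_open hx hO
  obtain ⟨i, hi⟩ : ∃ i, GradedRing.proj 𝒜 i g ∉ x.asHomogeneousIdeal :=
    TopologicalSpace.Opens.mem_iSup.1 ((ProjectiveSpectrum.basicOpen_eq_union_of_projection 𝒜 g).le hxg)
  obtain ⟨k, hk, t, ht, htx⟩ : ∃ k, 0 < k ∧ ∃ t ∈ 𝒜 k, t ∉ x.asHomogeneousIdeal := by
    by_contra hne
    push Not at hne
    exact x.not_irrelevant_le ((HomogeneousIdeal.irrelevant_le _).2 fun k hk t ht => hne k hk t ht)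
  have ha : GradedRing.proj 𝒜 i g * t ∈ 𝒜 (i + k) := SetLike.mul_mem_graded (SetLike.coe_mem _) ht
  have hax : GradedRing.proj 𝒜 i g * t ∉ x.asHomogeneousIdeal :=
    fun hm => (x.isPrime.mem_or_mem hm).elim hi htx
  obtain ⟨y, hy⟩ : ∃ y : Proj ℬ, φ (GradedRing.proj 𝒜 i g * t) ∉ y.asHomogeneousIdeal := by
    by_contra hne
    push Not at hne
    obtain ⟨n, hn⟩ := Groth.Agent.RelProjLib.isNilpotent_of_forall_mem (Nat.add_pos_right i hk)
      (φ.2 ha) hne
    rw [← map_pow] at hn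
    obtain ⟨m, hm⟩ := hker _ hn
    rw [← pow_mul] at hm
    exact hax (x.isPrime.mem_of_pow_mem (n * m) (hm ▸ zero_mem _))
  refine ⟨Proj.map φ hφ y, hgO ?_, y, rfl⟩
  exact (ProjectiveSpectrum.basicOpen_eq_union_of_projection 𝒜 g).ge
    (TopologicalSpace.Opens.mem_iSup.2 ⟨i, fun hm => hy (Ideal.mul_mem_right _ _ hm)⟩)

end Groth.Agent.S3553
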