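import Groth.Statements.S3554
import Groth.Agent.RelProjLib.AwayBaseChange
import Groth.Agent.RelProjLib.ProjMap

set_option autoImplicit false
universe u
open CategoryTheory CategoryTheory.Limits AlgebraicGeometry
open EGA2

namespace Groth.Agent.S3554

/-- Let A' → A be a ring homomorphism, S' a graded A'-algebra and S = S' ⊗_{A'} A with the induced
grading (here: any graded A-algebra S with a graded homomorphism S' → S exhibiting S as the base
change of S'). Then the square formed by Proj S → Proj S', the structure morphisms to Spec A and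
Spec A', and Spec A → Spec A' is cartesian. -/
theorem result {R R' A B : Type u} [CommRing R'] [CommRing R] [Algebra R' R]
    [CommRing B] [Algebra R' B] (ℬ : ℕ → Submodule R' B) [GradedAlgebra ℬ]
    [CommRing A] [Algebra R A] [Algebra R' A] [IsScalarTower R' R A] (𝒜 : ℕ → Submodule R A) [GradedAlgebra 𝒜]
    [Algebra B A] [IsScalarTower R' B A] [Algebra.IsPushout R' R B A]
    (φ : ℬ →+*ᵍ 𝒜) (hφA : ∀ b : B, φ b = algebraMap B A b)
    (hφ : HomogeneousIdeal.irrelevant 𝒜 ≤ (HomogeneousIdeal.irrelevant ℬ).map φ) :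
    IsPullback (Proj.map φ hφ)
      (Proj.toSpecZero 𝒜 ≫ Spec.map (CommRingCat.ofHom (algebraMap R (𝒜 0))))
      (Proj.toSpecZero ℬ ≫ Spec.map (CommRingCat.ofHom (algebraMap R' (ℬ 0))))
      (Spec.map (CommRingCat.ofHom (algebraMap R' R))) := by
  classical
  let s : R' →+* B := algebraMap R' B
  let s' : R →+* A := algebraMap R A
  have hs : ∀ r, s r ∈ ℬ 0 := fun r => SetLike.algebraMap_mem_graded ℬ r
  have hs' : ∀ r, s' r ∈ 𝒜 0 := fun r => SetLike.algebraMap_mem_graded 𝒜 r
  have hφ' : φ.toRingHom = algebraMap B A := RingHom.ext hφA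
  have H : IsPushout (CommRingCat.ofHom (algebraMap R' R)) (CommRingCat.ofHom s) (CommRingCat.ofHom s')
      (CommRingCat.ofHom φ.toRingHom) := by
    rw [hφ']
    exact CommRingCat.isPushout_of_isPushout R' R B A
  set sA := Proj.toSpecZero 𝒜 ≫ Spec.map (CommRingCat.ofHom (algebraMap R (𝒜 0))) with hsA
  set sB := Proj.toSpecZero ℬ ≫ Spec.map (CommRingCat.ofHom (algebraMap R' (ℬ 0))) with hsB
  have hA : ∀ (d : ℕ) (a : A) (hd : 0 < d) (ha : a ∈ 𝒜 d), Proj.awayι 𝒜 a ha hd ≫ sA =
      Spec.map (CommRingCat.ofHom (Groth.Agent.RelProjLib.zeroToAway s' hs' a)) := by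
    intro d a hd ha
    rw [hsA, Proj.awayι_toSpecZero_assoc, ← Spec.map_comp]
    rfl
  have hB : ∀ (d : ℕ) (a : B) (hd : 0 < d) (ha : a ∈ ℬ d), Proj.awayι ℬ a ha hd ≫ sB =
      Spec.map (CommRingCat.ofHom (Groth.Agent.RelProjLib.zeroToAway s hs a)) := by
    intro d a hd ha
    rw [hsB, Proj.awayι_toSpecZero_assoc, ← Spec.map_comp]
    rfl
  have hzero : (algebraMap R (𝒜 0)).comp (algebraMap R' R) =
      (Groth.Agent.RelProjLib.zeroHom φ).comp (algebraMap R' (ℬ 0)) :=
    RingHom.ext fun r => Subtype.ext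
      (((IsScalarTower.algebraMap_apply R' R A r).symm.trans (IsScalarTower.algebraMap_apply R' B A r)).trans
        (hφA _).symm)
  have w : Proj.map φ hφ ≫ sB = sA ≫ Spec.map (CommRingCat.ofHom (algebraMap R' R)) := by
    rw [hsB, hsA, ← Category.assoc, Groth.Agent.RelProjLib.map_toSpecZero φ hφ, Category.assoc, Category.assoc,
      ← Spec.map_comp, ← Spec.map_comp, ← CommRingCat.ofHom_comp, ← CommRingCat.ofHom_comp, hzero]
  let L : Proj 𝒜 ⟶ pullback sB (Spec.map (CommRingCat.ofHom (algebraMap R' R))) :=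
    pullback.lift (Proj.map φ hφ) sA w
  suffices IsIso L from IsPullback.of_iso_pullback ⟨w⟩ (asIso L) (pullback.lift_fst _ _ _) (pullback.lift_snd _ _ _)
  refine (IsZariskiLocalAtTarget.iff_of_openCover (P := MorphismProperty.isomorphisms Scheme)
    (Scheme.Pullback.openCoverOfLeft (Proj.affineOpenCover ℬ).openCover sB
      (Spec.map (CommRingCat.ofHom (algebraMap R' R))))).2 fun i => ?_
  obtain ⟨⟨d, hd⟩, ⟨f, hf⟩⟩ := i
  let a := Proj.awayι ℬ f hf hd
  let k : pullback (a ≫ sB) (Spec.map (CommRingCat.ofHom (algebraMap R' R))) ⟶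
      pullback sB (Spec.map (CommRingCat.ofHom (algebraMap R' R))) :=
    pullback.map _ _ _ _ a (𝟙 _) (𝟙 _) (Category.comp_id _) (by rw [Category.comp_id, Category.id_comp])
  change MorphismProperty.isomorphisms Scheme (pullback.snd L k)
  have pb0 : IsPullback (Spec.map (CommRingCat.ofHom (HomogeneousLocalization.Away.map φ f)))
      (Spec.map (CommRingCat.ofHom (Groth.Agent.RelProjLib.zeroToAway s' hs' (φ f)))) (a ≫ sB)
      (Spec.map (CommRingCat.ofHom (algebraMap R' R))) := by
    rw [show a ≫ sB = _ from hB d f hd hf]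
    exact (isPullback_SpecMap_of_isPushout _ _ _ _
      (Groth.Agent.RelProjLib.isPushout_away φ (algebraMap R' R) s s' hs hs' H hf)).flip
  let e := Proj.awayι 𝒜 (φ f) (φ.2 hf) hd
  have he : e ≫ L = pb0.isoPullback.hom ≫ k := by
    refine pullback.hom_ext ?_ ?_
    · rw [Category.assoc, Category.assoc, pullback.lift_fst, pullback.lift_fst, ← Category.assoc,
        pb0.isoPullback_hom_fst]
      exact Proj.awayι_comp_map φ hφ hd f hf
    · rw [Category.assoc, Category.assoc, pullback.lift_snd, pullback.lift_snd, Category.comp_id,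
        pb0.isoPullback_hom_snd]
      exact hA d (φ f) hd (φ.2 hf)
  have hrange : L ⁻¹ᵁ k.opensRange = e.opensRange := by
    rw [Proj.opensRange_awayι]
    refine TopologicalSpace.Opens.ext (Set.ext fun x => ?_)
    show L x ∈ Set.range k ↔ Proj.map φ hφ x ∈ Proj.basicOpen ℬ f
    rw [Scheme.Pullback.range_map, Set.mem_inter_iff, Set.mem_preimage, Set.mem_preimage,
      ← Scheme.Hom.comp_apply, ← Scheme.Hom.comp_apply, pullback.lift_fst, ← Proj.opensRange_awayι ℬ f hf hd]
    exact and_iff_left ⟨_, rfl⟩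
  have : IsOpenImmersion k := by infer_instance
  have pb := IsOpenImmersion.isPullback _ e k L he hrange
  rw [← pb.flip.isoPullback_inv_snd, MorphismProperty.cancel_left_of_respectsIso (MorphismProperty.isomorphisms Scheme)]
  exact MorphismProperty.isomorphisms.infer_property _

end Groth.Agent.S3554
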