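import Groth.Statements.S3555
import Groth.Agent.ProjTilde.Twists

set_option autoImplicit false
universe u
open CategoryTheory CategoryTheory.Limits AlgebraicGeometry
open EGA2

namespace Groth.Agent.S3555

/-- Let S be a graded ring whose irrelevant ideal S_+ is generated by the degree-one elements, X = Proj
S, and f homogeneous of degree d > 0. Then D_+(f) is the set of points p of X at which the global
section f/1 of O_X(d) does not vanish, i.e. at which its value generates the module of degree-d
fractions at p. -/
theorem result {R A : Type u} [CommRing R] [CommRing A] [Algebra R A] (𝒜 : ℕ → Submodule R A) [GradedAlgebra 𝒜]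
    (hgen : (HomogeneousIdeal.irrelevant 𝒜).toIdeal = Ideal.span (𝒜 1 : Set A))
    {d : ℕ} (hd : 0 < d) (f : 𝒜 d) (p : ProjectiveSpectrum 𝒜) :
    p ∈ ProjectiveSpectrum.basicOpen 𝒜 (f : A) ↔
      Submodule.span (Twist.A0 𝒜 p) {(Twist.globalOf 𝒜 f).1 ⟨p, trivial⟩} = ⊤ := by
  obtain ⟨g, hg, hgp⟩ := Groth.Agent.ProjTilde.exists_degree_one_not_mem hgen p
  exact Groth.Agent.ProjTilde.mem_basicOpen_iff_span (d := 1) (b := 1) (j := 0) hg SetLike.GradedOne.one_mem
    rfl (p := p) (by rw [mul_one]; exact hgp) (d : ℤ) (by push_cast; ring) f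

end Groth.Agent.S3555
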