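import Groth.Statements.S3557
import Groth.Agent.RelProjLib.Preimage
import Groth.Agent.RelProjLib.ProjMap

set_option autoImplicit false
universe u
open CategoryTheory CategoryTheory.Limits AlgebraicGeometry
open EGA2

namespace Groth.Agent.S3557

/-- Let S be a graded ring which is essentially reduced (S_+ contains no nonzero nilpotent). Then Proj S
is an integral scheme if and only if S is essentially integral, i.e. S_+ is nonzero and the product
of two nonzero elements of S_+ is nonzero. -/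
theorem result {R A : Type u} [CommRing R] [CommRing A] [Algebra R A] (𝒜 : ℕ → Submodule R A) [GradedAlgebra 𝒜]
    (hred : ∀ f ∈ (HomogeneousIdeal.irrelevant 𝒜).toIdeal, IsNilpotent f → f = 0) :
    AlgebraicGeometry.IsIntegral (Proj 𝒜) ↔
      ((∃ f ∈ (HomogeneousIdeal.irrelevant 𝒜).toIdeal, f ≠ 0) ∧
        ∀ f ∈ (HomogeneousIdeal.irrelevant 𝒜).toIdeal, ∀ g ∈ (HomogeneousIdeal.irrelevant 𝒜).toIdeal,
          f * g = 0 → f = 0 ∨ g = 0) := by
  classical
  have hne : ∀ {d : ℕ}, 0 < d → ∀ {a : A}, a ∈ 𝒜 d → a ≠ 0 → ∃ y : Proj 𝒜, a ∉ y.asHomogeneousIdeal := by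
    intro d hd a ha h0
    by_contra hn
    push Not at hn
    exact h0 (hred a (HomogeneousIdeal.mem_irrelevant_of_mem 𝒜 hd ha)
      (Groth.Agent.RelProjLib.isNilpotent_of_forall_mem hd ha hn))
  have hbasis : ∀ (y : Proj 𝒜) (O : Set (Proj 𝒜)), IsOpen O → y ∈ O →
      ∃ (d : ℕ) (a : A), 0 < d ∧ a ∈ 𝒜 d ∧ a ≠ 0 ∧ ∀ w : Proj 𝒜, a ∉ w.asHomogeneousIdeal → w ∈ O := by
    intro y O hO hy
    obtain ⟨_, ⟨g, rfl⟩, hyg, hgO⟩ :=
      (ProjectiveSpectrum.isTopologicalBasis_basic_opens 𝒜).exists_subset_of_mem_open hy hO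
    obtain ⟨i, hi⟩ := TopologicalSpace.Opens.mem_iSup.1
      ((ProjectiveSpectrum.basicOpen_eq_union_of_projection 𝒜 g).le hyg)
    have hi : GradedRing.proj 𝒜 i g ∉ y.asHomogeneousIdeal := hi
    obtain ⟨k, hk, t, ht, hty⟩ : ∃ k, 0 < k ∧ ∃ t ∈ 𝒜 k, t ∉ y.asHomogeneousIdeal := by
      by_contra hn
      push Not at hn
      exact y.not_irrelevant_le ((HomogeneousIdeal.irrelevant_le _).2 fun k hk t ht => hn k hk t ht)
    refine ⟨i + k, GradedRing.proj 𝒜 i g * t, Nat.add_pos_right i hk,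
      SetLike.mul_mem_graded (SetLike.coe_mem _) ht,
      fun h0 => (y.isPrime.mem_or_mem (h0 ▸ zero_mem _)).elim hi hty, fun w hw => hgO ?_⟩
    exact (ProjectiveSpectrum.basicOpen_eq_union_of_projection 𝒜 g).ge
      (TopologicalSpace.Opens.mem_iSup.2 ⟨i, fun hm => hw (Ideal.mul_mem_right _ _ hm)⟩)
  constructor
  · intro h
    obtain ⟨y⟩ : Nonempty (Proj 𝒜) := inferInstance
    refine ⟨?_, fun f hf g hg hfg => ?_⟩
    · obtain ⟨d, a, hd, ha, h0, -⟩ := hbasis y Set.univ isOpen_univ trivial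
      exact ⟨a, HomogeneousIdeal.mem_irrelevant_of_mem 𝒜 hd ha, h0⟩
    · let η : Proj 𝒜 := genericPoint (Proj 𝒜)
      have hkill : ∀ f ∈ (HomogeneousIdeal.irrelevant 𝒜).toIdeal, f ∈ η.asHomogeneousIdeal → f = 0 := by
        intro f hf hfη
        rw [← DirectSum.sum_support_decompose 𝒜 f]
        refine Finset.sum_eq_zero fun i _ => ?_
        rcases Nat.eq_zero_or_pos i with rfl | hi
        · exact (GradedRing.proj_apply 𝒜 0 f).symm.trans hf
        · by_contra h0
          obtain ⟨w, hw⟩ := hne hi (SetLike.coe_mem _) h0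
          exact ((genericPoint_spec (Proj 𝒜)).mem_open_set_iff
            (Proj.basicOpen 𝒜 (DirectSum.decompose 𝒜 f i : A)).2).2 ⟨w, trivial, hw⟩
              (η.asHomogeneousIdeal.isHomogeneous i hfη)
      exact (η.isPrime.mem_or_mem (hfg ▸ zero_mem η.asHomogeneousIdeal : f * g ∈ η.asHomogeneousIdeal)).imp
        (hkill f hf) (hkill g hg)
  · rintro ⟨⟨f, hf, hf0⟩, hdom⟩
    have : AlgebraicGeometry.IsReduced (Proj 𝒜) := Groth.Agent.RelProjLib.isReduced_proj 𝒜 hred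
    have : Nonempty (Proj 𝒜) := by
      obtain ⟨i, hi⟩ : ∃ i, (DirectSum.decompose 𝒜 f i : A) ≠ 0 := by
        by_contra hn
        push Not at hn
        exact hf0 (by rw [← DirectSum.sum_support_decompose 𝒜 f]; exact Finset.sum_eq_zero fun i _ => hn i)
      rcases Nat.eq_zero_or_pos i with rfl | hp
      · exact absurd ((GradedRing.proj_apply 𝒜 0 f).symm.trans hf) hi
      · exact ⟨(hne hp (SetLike.coe_mem _) hi).choose⟩
    have : PreirreducibleSpace (Proj 𝒜) := ⟨fun U V hU hV ⟨y, _, hy⟩ ⟨z, _, hz⟩ => by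
      obtain ⟨d, a, hd, ha, ha0, haU⟩ := hbasis y U hU hy
      obtain ⟨e, b, he, hb, hb0, hbV⟩ := hbasis z V hV hz
      have h0 : a * b ≠ 0 := fun h => (hdom a (HomogeneousIdeal.mem_irrelevant_of_mem 𝒜 hd ha) b
        (HomogeneousIdeal.mem_irrelevant_of_mem 𝒜 he hb) h).elim ha0 hb0
      obtain ⟨w, hw⟩ := hne (Nat.add_pos_left hd e) (SetLike.mul_mem_graded ha hb) h0
      exact ⟨w, trivial, haU w fun h => hw (Ideal.mul_mem_right _ _ h),
        hbV w fun h => hw (Ideal.mul_mem_left _ _ h)⟩⟩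
    have : IrreducibleSpace (Proj 𝒜) := ⟨inferInstance⟩
    exact isIntegral_of_irreducibleSpace_of_isReduced _

end Groth.Agent.S3557
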