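import Groth.Statements.S3560
import Groth.Agent.EGA2Gr.Irrelevant

set_option autoImplicit false
universe u
open CategoryTheory CategoryTheory.Limits AlgebraicGeometry
open EGA2

namespace Groth.Agent.S3560

/-- Let S be a graded ring whose irrelevant ideal S_+ is finitely generated. Then Proj S is empty if and
only if there is n such that S_k = 0 for all k ≥ n. -/
theorem result {R A : Type u} [CommRing R] [CommRing A] [Algebra R A] (𝒜 : ℕ → Submodule R A) [GradedAlgebra 𝒜]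
    (hfg : (HomogeneousIdeal.irrelevant 𝒜).toIdeal.FG) :
    IsEmpty (Proj 𝒜) ↔ ∃ n : ℕ, ∀ k : ℕ, n ≤ k → 𝒜 k = ⊥ := by
  refine (EGA2Gr.forall_isNilpotent_iff_isEmpty 𝒜).trans ⟨fun h ↦ ?_, fun ⟨n, hn⟩ f hf ↦ ?_⟩
  · have := EGA2Gr.finiteType_of_fg 𝒜 hfg
    obtain ⟨N, hN⟩ := Ideal.exists_pow_le_of_le_radical_of_fg (J := ⊥) (show
      (HomogeneousIdeal.irrelevant 𝒜).toIdeal ≤ (⊥ : Ideal A).radical from
        fun g hg ↦ by simpa [Ideal.radical, IsNilpotent] using h g hg) hfg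
    obtain ⟨m₀, hm⟩ := EGA2Gr.exists_forall_mem_irrelevant_pow 𝒜 N
    exact ⟨m₀, fun k hk ↦ eq_bot_iff.mpr fun x hx ↦
      (Submodule.mem_bot R).mpr (Ideal.mem_bot.mp (hN (hm k hk x hx)))⟩
  · suffices (HomogeneousIdeal.irrelevant 𝒜).toIdeal ≤ (⊥ : Ideal A).radical by
      simpa [Ideal.radical, IsNilpotent] using this hf
    refine (HomogeneousIdeal.toIdeal_irrelevant_le 𝒜).mpr fun i hi x hx ↦ ⟨n + 1, ?_⟩
    have h1 := SetLike.pow_mem_graded (A := 𝒜) (n + 1) (show x ∈ 𝒜 i from hx)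
    rw [smul_eq_mul, hn _ (le_trans (Nat.le_succ n) (Nat.le_mul_of_pos_right _ hi))] at h1
    simpa using h1

end Groth.Agent.S3560
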