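import Groth.Statements.S3567
-- import your own Groth.Agent.* helpers here

set_option autoImplicit false
universe u
open CategoryTheory CategoryTheory.Limits AlgebraicGeometry
open EGA2

namespace Groth.Agent.S3567

/-- Let h : U → V be a surjective morphism of schemes such that the map of sheaves of rings O_V → h_*O_U
is an isomorphism and the underlying space of V carries the quotient topology of that of U. Then for
every scheme W, composition with h is a bijection from the morphisms V → W onto the morphisms U → W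
whose underlying map is constant on each fibre of h. -/
theorem result {U V : Scheme.{u}} (h : U ⟶ V) [Surjective h]
    [IsIso h.c] (hq : Topology.IsQuotientMap h.base) (W : Scheme.{u}) :
    (∀ v₁ v₂ : V ⟶ W, h ≫ v₁ = h ≫ v₂ → v₁ = v₂) ∧
      ∀ u : U ⟶ W, (∀ x y : U, h.base x = h.base y → u.base x = u.base y) → ∃ v : V ⟶ W, h ≫ v = u := by
  constructor
  · intro v₁ v₂ he
    apply Scheme.Hom.ext'
    apply LocallyRingedSpace.Hom.ext'
    have hb : v₁.base = v₂.base := by
      ext y
      obtain ⟨x, rfl⟩ := h.surjective y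
      exact congrArg (fun a : U ⟶ W ↦ a x) he
    obtain ⟨⟨⟨b₁, c₁⟩, p₁⟩⟩ := v₁
    obtain ⟨⟨⟨b₂, c₂⟩, p₂⟩⟩ := v₂
    change b₁ = b₂ at hb
    subst hb
    suffices hc : c₁ = c₂ by subst hc; rfl
    apply NatTrans.ext
    funext O
    have h1 := PresheafedSpace.congr_app
      (congrArg (fun a : U ⟶ W ↦ a.toPshHom) he) O
    have h2 : c₁.app O ≫ h.c.app (Opposite.op ((TopologicalSpace.Opens.map b₁).obj O.unop)) =
        c₂.app O ≫ h.c.app (Opposite.op ((TopologicalSpace.Opens.map b₁).obj O.unop)) := by
      refine h1.trans ((congrArg _ ?_).trans (Category.comp_id _))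
      exact U.presheaf.map_id _
    exact (cancel_mono _).mp h2
  · intro u hu
    obtain ⟨⟨⟨u0, uc⟩, hul⟩⟩ := u
    change ∀ x y : U, h.base x = h.base y → u0 x = u0 y at hu
    obtain ⟨v0, e⟩ : ∃ v0 : V.carrier ⟶ W.carrier, h.base ≫ v0 = u0 := by
      choose g hg using h.surjective
      refine ⟨TopCat.ofHom ⟨fun y ↦ u0 (g y), ?_⟩, ?_⟩
      · rw [hq.continuous_iff]
        exact u0.hom.continuous.congr fun x ↦ hu x (g (h.base x)) (hg (h.base x)).symm
      · ext x
        exact (hu x (g (h.base x)) (hg (h.base x)).symm).symm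
    subst e
    let w : V.toPresheafedSpace ⟶ W.toPresheafedSpace :=
      ⟨v0, uc ≫ (TopCat.Presheaf.pushforward CommRingCat.{u} v0).map (inv h.c)⟩
    have hw : h.toPshHom ≫ w = ⟨h.base ≫ v0, uc⟩ := by
      refine PresheafedSpace.ext _ _ rfl ?_
      apply NatTrans.ext
      funext O
      change ((uc.app O ≫ (inv h.c).app (Opposite.op ((TopologicalSpace.Opens.map v0).obj O.unop))) ≫
        h.c.app (Opposite.op ((TopologicalSpace.Opens.map v0).obj O.unop))) ≫ U.presheaf.map _ = uc.app O
      have h3 := NatTrans.congr_app (IsIso.inv_hom_id h.c)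
        (Opposite.op ((TopologicalSpace.Opens.map v0).obj O.unop))
      refine ((congrArg₂ (· ≫ ·) ((Category.assoc _ _ _).trans
        ((congrArg (uc.app O ≫ ·) h3).trans (Category.comp_id _))) ?_).trans (Category.comp_id _))
      exact U.presheaf.map_id _
    have hloc : ∀ y, IsLocalHom (w.stalkMap y).hom := by
      intro y
      obtain ⟨x, rfl⟩ := h.surjective y
      have h1 : IsLocalHom ((h.toPshHom ≫ w).stalkMap x).hom := by rw [hw]; exact hul x
      rw [PresheafedSpace.stalkMap.comp] at h1
      have h2 : IsLocalHom ((CommRingCat.Hom.hom (h.stalkMap x)).comp (w.stalkMap (h.base x)).hom) := h1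
      exact isLocalHom_of_comp (w.stalkMap (h.base x)).hom (CommRingCat.Hom.hom (h.stalkMap x))
    refine ⟨⟨⟨w, hloc⟩⟩, ?_⟩
    apply Scheme.Hom.ext'
    apply LocallyRingedSpace.Hom.ext'
    exact hw

end Groth.Agent.S3567
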