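import Groth.Statements.S3568
import Groth.Agent.NormalSection.Basic

set_option autoImplicit false
set_option linter.style.haveILetI false
universe u
open CategoryTheory CategoryTheory.Limits AlgebraicGeometry
open EGA2

namespace Groth.Agent.S3568

/-- Let U be an integral scheme, V a normal integral scheme (all local rings integrally closed domains)
and h : U → V a morphism which is universally closed, radicial (universally injective) and
birational (it sends the generic point of U to that of V and induces an isomorphism of the residue
fields there). Then h is an isomorphism. (The source assumes only V normal; integrality of V, needed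
here to speak of its generic point, follows from the other hypotheses.) -/
theorem result {U V : Scheme.{u}} [AlgebraicGeometry.IsIntegral U] [AlgebraicGeometry.IsIntegral V]
    (hN : Pi1.IsNormalScheme V) (h : U ⟶ V) [UniversallyClosed h]
    [UniversallyInjective h] (hgen : h.base (genericPoint U) = genericPoint V)
    (hbir : Function.Bijective (h.residueFieldMap (genericPoint U)).hom) :
    IsIso h := by
  haveI : IsAffineHom h := by
    refine isAffineHom_of_isInducing h ?_ h.isClosedMap.isClosed_range
    exact (Topology.IsClosedEmbedding.of_continuous_injective_isClosedMap h.continuous h.injective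
      h.isClosedMap).isInducing
  haveI : IsIntegralHom h :=
    IsIntegralHom.iff_universallyClosed_and_isAffineHom.mpr ⟨inferInstance, inferInstance⟩
  let θ : V.functionField ⟶ U.functionField :=
    V.presheaf.stalkSpecializes (specializes_of_eq hgen) ≫ h.stalkMap (genericPoint U)
  have hθ : Function.Surjective θ := by
    intro y
    obtain ⟨r, hr⟩ := hbir.2 (U.residue (genericPoint U) y)
    obtain ⟨z, rfl⟩ := V.residue_surjective _ r
    refine ⟨V.presheaf.stalkSpecializes (specializes_of_eq hgen.symm) z, ?_⟩
    have hz : h.stalkMap (genericPoint U) z = y := by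
      refine RingHom.injective (U.residue (genericPoint U)).hom ?_
      refine (Eq.trans ?_ hr)
      exact (ConcreteCategory.congr_hom (Scheme.residue_residueFieldMap h (genericPoint U)) z).symm
    show h.stalkMap _ (V.presheaf.stalkSpecializes _ (V.presheaf.stalkSpecializes _ z)) = y
    rw [TopCat.Presheaf.stalkSpecializes_comp_apply, TopCat.Presheaf.stalkSpecializes_refl]
    exact hz
  have happ : ∀ W : V.Opens, IsAffineOpen W → ∀ hξ : genericPoint V ∈ W,
      Function.Bijective (h.app W) := by
    intro W hW hξ
    have hξU : genericPoint U ∈ h ⁻¹ᵁ W := show h (genericPoint U) ∈ W by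
      exact (show h (genericPoint U) = genericPoint V from hgen).symm ▸ hξ
    have key : ∀ a, θ (V.presheaf.germ W (genericPoint V) hξ a) =
        U.presheaf.germ (h ⁻¹ᵁ W) (genericPoint U) hξU (h.app W a) := by
      intro a
      show h.stalkMap _ (V.presheaf.stalkSpecializes _ (V.presheaf.germ W _ hξ a)) = _
      rw [TopCat.Presheaf.germ_stalkSpecializes_apply, Scheme.Hom.germ_stalkMap_apply]
    have hθi : Function.Injective θ := RingHom.injective θ.hom
    constructor
    · intro a b hab
      refine germ_injective_of_isIntegral V (genericPoint V) hξ (hθi ?_)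
      rw [key, key, hab]
    · intro b
      obtain ⟨z, hz⟩ := hθ (U.presheaf.germ (h ⁻¹ᵁ W) (genericPoint U) hξU b)
      obtain ⟨P, hP, hPb⟩ := h.isIntegral_app W hW b
      have hPz : Polynomial.eval₂ (V.presheaf.germ W (genericPoint V) hξ).hom z P = 0 := by
        refine hθi ?_
        change θ.hom (Polynomial.eval₂ _ z P) = θ.hom 0
        have hc : θ.hom.comp (V.presheaf.germ W (genericPoint V) hξ).hom =
            (U.presheaf.germ (h ⁻¹ᵁ W) (genericPoint U) hξU).hom.comp (h.app W).hom :=
          RingHom.ext key
        rw [Polynomial.hom_eval₂, map_zero, hc, show θ.hom z = _ from hz]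
        exact (Polynomial.hom_eval₂ P (h.app W).hom _ b).symm.trans (by rw [hPb, map_zero])
      obtain ⟨a, ha⟩ := NormalSection.exists_germ_eq hW hξ z fun p hp ↦ by
        haveI := (hN p).1
        haveI := (hN p).2
        refine IsIntegrallyClosed.isIntegral_iff.mp
          ⟨P.map (V.presheaf.germ W p hp).hom, hP.map _, ?_⟩
        have hcomp : (algebraMap (V.presheaf.stalk p) V.functionField).comp
            (V.presheaf.germ W p hp).hom = (V.presheaf.germ W (genericPoint V) hξ).hom :=
          congrArg CommRingCat.Hom.hom
            (V.presheaf.germ_stalkSpecializes hp (genericPoint_specializes p))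
        rw [Polynomial.eval₂_map, hcomp]
        exact hPz
      refine ⟨a, germ_injective_of_isIntegral U (genericPoint U) hξU ?_⟩
      rw [← key, ha, hz]
  have hcov : iSup (fun W : {W : V.Opens // IsAffineOpen W ∧ genericPoint V ∈ W} ↦ W.1) = ⊤ := by
    rw [eq_top_iff]
    intro p _
    obtain ⟨W, hW, hpW, -⟩ := exists_isAffineOpen_mem_and_subset (X := V) (x := p) (U := ⊤) trivial
    exact TopologicalSpace.Opens.mem_iSup.mpr
      ⟨⟨W, hW, NormalSection.genericPoint_mem hpW⟩, hpW⟩
  refine (IsZariskiLocalAtTarget.iff_of_iSup_eq_top (P := MorphismProperty.isomorphisms Scheme)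
    (fun W : {W : V.Opens // IsAffineOpen W ∧ genericPoint V ∈ W} ↦ W.1) hcov).mpr fun W ↦ ?_
  exact (isIso_morphismRestrict_iff_isIso_app h W.2.1).mpr
    ((ConcreteCategory.isIso_iff_bijective _).mpr (happ _ W.2.1 W.2.2))

end Groth.Agent.S3568
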