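import Groth.Statements.S3570
import Groth.Agent.AffAlgLib.Basic

set_option autoImplicit false
universe u
open CategoryTheory CategoryTheory.Limits AlgebraicGeometry
open EGA2

namespace Groth.Agent.S3570

/-- Let f : X → S and g : Y → S be affine morphisms and h : Y → X an S-morphism. Then h is an
isomorphism if and only if A(h) : f_*O_X → g_*O_Y is an isomorphism (of presheaves of rings on S). -/
theorem result {X Y S : Scheme.{u}} (f : X ⟶ S) [IsAffineHom f] (g : Y ⟶ S)
    [IsAffineHom g] (h : Y ⟶ X) (w : h ≫ f = g) :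
    IsIso h ↔ IsIso (AffAlg.algHom f g h w) := by
  constructor
  · intro hh
    rw [NatTrans.isIso_iff_isIso_app]
    intro U
    subst w
    rw [show U = Opposite.op U.unop from rfl, AffAlgLib.algHom_app]
    exact (inferInstance : IsIso (h.app (f ⁻¹ᵁ U.unop))) |> (Scheme.Hom.app_eq_appLE h ▸ ·)
  · intro hω
    have hc : g.c ≫ inv (AffAlg.algHom f g h w) = f.c := by
      rw [IsIso.comp_inv_eq]
      exact (AffAlg.algHom_comm f g h w).symm
    obtain ⟨k, wk, hk⟩ := AffAlgLib.exists_eq_algHom g f (inv (AffAlg.algHom f g h w)) hc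
    have comp : ∀ {A B C : Scheme.{u}} (a : A ⟶ S) (b : B ⟶ S) (c : C ⟶ S) (p : B ⟶ A) (q : C ⟶ B)
        (wp : p ≫ a = b) (wq : q ≫ b = c), AffAlg.algHom a c (q ≫ p) (by rw [Category.assoc, wp, wq]) =
          AffAlg.algHom a b p wp ≫ AffAlg.algHom b c q wq := by
      intro A B C a b c p q wp wq
      ext1 U
      change _ = (AffAlg.algHom a b p wp).app (Opposite.op U) ≫ (AffAlg.algHom b c q wq).app (Opposite.op U)
      rw [AffAlgLib.algHom_app, AffAlgLib.algHom_app,
        AffAlgLib.algHom_app, Scheme.Hom.appLE_comp_appLE]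
    have hid : ∀ {A : Scheme.{u}} (a : A ⟶ S),
        AffAlg.algHom a a (𝟙 A) (Category.id_comp a) = 𝟙 _ := by
      intro A a
      ext1 U
      rw [AffAlgLib.algHom_app, Scheme.Hom.appLE, Scheme.Hom.id_app]
      refine (Category.id_comp _).trans ?_
      exact A.presheaf.map_id _
    refine ⟨k, ?_, ?_⟩
    · have : (⟨h ≫ k, by rw [Category.assoc, wk, w]⟩ : AffAlg.over g g) = ⟨𝟙 Y, Category.id_comp g⟩ := by
        refine AffAlgLib.algOf_injective g g (Subtype.ext ?_)
        show AffAlg.algHom g g (h ≫ k) (by rw [Category.assoc, wk, w]) = AffAlg.algHom g g (𝟙 Y) (Category.id_comp g)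
        rw [comp g f g k h wk w, hid, hk, IsIso.inv_hom_id]
      exact congrArg Subtype.val this
    · have : (⟨k ≫ h, by rw [Category.assoc, w, wk]⟩ : AffAlg.over f f) = ⟨𝟙 X, Category.id_comp f⟩ := by
        refine AffAlgLib.algOf_injective f f (Subtype.ext ?_)
        show AffAlg.algHom f f (k ≫ h) (by rw [Category.assoc, w, wk]) = AffAlg.algHom f f (𝟙 X) (Category.id_comp f)
        rw [comp f g f h k w wk, hid, hk, IsIso.hom_inv_id]
      exact congrArg Subtype.val this

end Groth.Agent.S3570
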