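import Groth.Statements.S3571
import Groth.Agent.ModAlg.Sections
import Groth.Agent.S8255

set_option autoImplicit false
universe u
open CategoryTheory AlgebraicGeometry TopologicalSpace
open EGA2

namespace Groth.Agent.S3571

/-- Let S be a scheme and B a sheaf of commutative rings on S with a morphism O_S → B making B a
quasi-coherent O_S-module (a quasi-coherent O_S-algebra). Then there are a scheme X and an affine
morphism f : X → S together with an isomorphism of sheaves of rings B ≅ f_*O_X compatible with the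
two structure maps from O_S (X is the relative spectrum of B; it is in fact unique up to unique
S-isomorphism, but only existence is asserted here). -/
theorem result {S : Scheme.{u}}
    (B : Sheaf (Opens.grothendieckTopology S) CommRingCat.{u}) (φ : S.sheaf ⟶ B)
    (hB : Coh.IsQCoh ((SheafOfModules.restrictScalars
      ((sheafCompose (Opens.grothendieckTopology S) (forget₂ CommRingCat.{u} RingCat.{u})).map φ)).obj
      (SheafOfModules.unit ((sheafCompose (Opens.grothendieckTopology S) (forget₂ CommRingCat.{u} RingCat.{u})).obj B)))) :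
    ∃ (X : Scheme.{u}) (f : X ⟶ S) (_ : IsAffineHom f)
      (e : B ≅ (TopCat.Sheaf.pushforward CommRingCat.{u} f.base).obj X.sheaf),
      (φ ≫ e.hom).hom = f.c := by
  have hB' := Groth.Agent.ModAlg.isQCAlg_of_isQuasicoherent (φ := φ) hB
  have hqc : RelSpec.IsQC B.obj φ.hom := by
    intro U hU r
    let _ := (B.obj.map (homOfLE (S.basicOpen_le r)).op).hom.toAlgebra
    refine ⟨?_, fun z => ?_, fun {a b} hab => ?_⟩
    · rintro ⟨_, n, rfl⟩
      show IsUnit (Groth.Agent.ModAlg.bres B (S.basicOpen_le r)
        (Groth.Agent.ModAlg.phi φ U r ^ n))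
      rw [map_pow, Groth.Agent.ModAlg.bres_phi]
      exact Groth.Agent.ModAlg.isUnit_phi_basicOpen φ r n
    · obtain ⟨n, t, ht⟩ := Groth.Agent.ModAlg.exists_pow_smul_eq_fres φ (hB' U hU r) z
      refine ⟨(t, ⟨_, n, rfl⟩), ?_⟩
      show z * Groth.Agent.ModAlg.bres B (S.basicOpen_le r) (Groth.Agent.ModAlg.phi φ U r ^ n) =
        Groth.Agent.ModAlg.bres B (S.basicOpen_le r) t
      rw [map_pow, Groth.Agent.ModAlg.bres_phi, mul_comm]
      exact ht.symm
    · obtain ⟨n, hn⟩ := Groth.Agent.ModAlg.exists_pow_smul_eq_zero φ (hB' U hU r) (a - b)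
        ((map_sub (Groth.Agent.ModAlg.bres B (S.basicOpen_le r)) a b).trans (sub_eq_zero.mpr hab))
      refine ⟨⟨_, n, rfl⟩, sub_eq_zero.mp ((mul_sub _ a b).symm.trans ?_)⟩
      exact hn
  let A : RelSpec.QCAlg S :=
    { presheaf := B.obj, isSheaf := B.property, str := φ.hom, isQC := hqc }
  have := Groth.Agent.S8255.result A
  let g : (TopCat.Sheaf.pushforward CommRingCat.{u} A.π.base).obj A.spec.sheaf ⟶ B :=
    ⟨A.gammaMap⟩
  have : IsIso g :=
    have : IsIso ((sheafToPresheaf _ _).map g) := this
    (fullyFaithfulSheafToPresheaf _ _).isIso_of_isIso_map g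
  refine ⟨A.spec, A.π, inferInstance, (asIso g).symm, ?_⟩
  have h : φ.hom = A.π.c ≫ A.gammaMap := A.π_c_gammaMap.symm
  show φ.hom ≫ (inv g).hom = A.π.c
  have e : A.gammaMap ≫ (inv g).hom = 𝟙 _ :=
    congrArg (fun t : (TopCat.Sheaf.pushforward CommRingCat.{u} A.π.base).obj A.spec.sheaf ⟶ _ =>
      t.hom) (IsIso.hom_inv_id g)
  refine (congrArg (fun t => t ≫ (inv g).hom) h).trans ?_
  exact (Category.assoc _ _ _).trans ((congrArg (fun t => A.π.c ≫ t) e).trans (Category.comp_id _))

end Groth.Agent.S3571
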