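import Groth.Statements.S3578
import Groth.Agent.EGA2Gr.Irrelevant

set_option autoImplicit false
universe u
open EGA2

namespace Groth.Agent.S3578

/-- Via the correspondence between closed subsets of Proj S and radical graded ideals of S_+: let S be a
graded ring and Z a closed subset of Proj S, with J = S_+ ∩ (vanishing ideal of Z). Then Z is
irreducible if and only if J is a prime ideal of the ring-without-unit S_+: J ≠ S_+ and a product of
two elements of S_+ lies in J only if one factor does. -/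
theorem result {R A : Type u} [CommRing R] [CommRing A] [Algebra R A] (𝒜 : ℕ → Submodule R A) [GradedAlgebra 𝒜]
    (Z : Set (ProjectiveSpectrum 𝒜)) (hZ : IsClosed Z) :
    IsIrreducible Z ↔
      (¬ (HomogeneousIdeal.irrelevant 𝒜).toIdeal ≤ (ProjectiveSpectrum.vanishingIdeal Z).toIdeal ∧
        ∀ f ∈ (HomogeneousIdeal.irrelevant 𝒜).toIdeal, ∀ g ∈ (HomogeneousIdeal.irrelevant 𝒜).toIdeal,
          f * g ∈ (ProjectiveSpectrum.vanishingIdeal Z).toIdeal →
            f ∈ (ProjectiveSpectrum.vanishingIdeal Z).toIdeal ∨ g ∈ (ProjectiveSpectrum.vanishingIdeal Z).toIdeal) := by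
  constructor
  · rintro ⟨⟨x, hx⟩, hirr⟩
    refine ⟨fun hle ↦ x.not_irrelevant_le fun f hf ↦
      (ProjectiveSpectrum.mem_vanishingIdeal _ f).mp (hle hf) x hx, ?_⟩
    intro f _ g _ hfg
    have hsub : Z ⊆ ProjectiveSpectrum.zeroLocus 𝒜 {f} ∪ ProjectiveSpectrum.zeroLocus 𝒜 {g} := by
      rw [← ProjectiveSpectrum.zeroLocus_singleton_mul]
      rintro y hy _ rfl
      exact (ProjectiveSpectrum.mem_vanishingIdeal _ _).mp hfg y hy
    rcases isPreirreducible_iff_isClosed_union_isClosed.mp hirr _ _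
      (ProjectiveSpectrum.isClosed_zeroLocus 𝒜 _) (ProjectiveSpectrum.isClosed_zeroLocus 𝒜 _) hsub
      with h | h
    · exact .inl ((ProjectiveSpectrum.mem_vanishingIdeal _ f).mpr fun y hy ↦ h hy rfl)
    · exact .inr ((ProjectiveSpectrum.mem_vanishingIdeal _ g).mpr fun y hy ↦ h hy rfl)
  · rintro ⟨hne, hprime⟩
    refine ⟨?_, ?_⟩
    · rw [Set.nonempty_iff_ne_empty]
      rintro rfl
      refine hne fun f _ ↦ ?_
      exact (ProjectiveSpectrum.mem_vanishingIdeal _ f).mpr fun y hy ↦ hy.elim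
    · rw [isPreirreducible_iff_isClosed_union_isClosed]
      intro Z₁ Z₂ h₁ h₂ hsub
      by_contra! hcon
      obtain ⟨s₁, rfl⟩ := (ProjectiveSpectrum.isClosed_iff_zeroLocus 𝒜 Z₁).mp h₁
      obtain ⟨s₂, rfl⟩ := (ProjectiveSpectrum.isClosed_iff_zeroLocus 𝒜 Z₂).mp h₂
      have key : ∀ s : Set A, ¬ Z ⊆ ProjectiveSpectrum.zeroLocus 𝒜 s →
          ∃ b, b ∈ (HomogeneousIdeal.irrelevant 𝒜).toIdeal ∧
            b ∉ (ProjectiveSpectrum.vanishingIdeal Z).toIdeal ∧
            ∀ y ∈ ProjectiveSpectrum.zeroLocus 𝒜 s, b ∈ y.asHomogeneousIdeal.toIdeal := by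
        intro s hs
        obtain ⟨y, hy, hys⟩ := Set.not_subset.mp hs
        obtain ⟨a, ha, hay⟩ := Set.not_subset.mp hys
        obtain ⟨d, p, hd, hp, hpy⟩ := EGA2Gr.exists_homogeneous_notMem 𝒜 y
        refine ⟨a * p, Ideal.mul_mem_left _ _ (HomogeneousIdeal.mem_irrelevant_of_mem 𝒜 hd hp),
          fun h ↦ ?_, fun y' hy' ↦ Ideal.mul_mem_right _ _ (hy' ha)⟩
        rcases y.isPrime.mem_or_mem ((ProjectiveSpectrum.mem_vanishingIdeal _ _).mp h y hy) with h | h
        · exact hay h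
        · exact hpy h
      obtain ⟨b₁, hb₁, hb₁', hb₁''⟩ := key s₁ hcon.1
      obtain ⟨b₂, hb₂, hb₂', hb₂''⟩ := key s₂ hcon.2
      refine (hprime b₁ hb₁ b₂ hb₂ ?_).elim hb₁' hb₂'
      refine (ProjectiveSpectrum.mem_vanishingIdeal _ _).mpr fun y hy ↦ ?_
      rcases hsub hy with h | h
      · exact Ideal.mul_mem_right _ _ (hb₁'' y h)
      · exact Ideal.mul_mem_left _ _ (hb₂'' y h)

end Groth.Agent.S3578
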