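import Groth.Statements.S3579
import Groth.Agent.ProjTilde.Serre
import Groth.Agent.ProjTilde.Twists
import Groth.Agent.ProjTwist.Tensor

set_option autoImplicit false
universe u
open CategoryTheory CategoryTheory.Limits AlgebraicGeometry
open EGA2

namespace Groth.Agent.S3579

/-- Let S be a graded ring whose irrelevant ideal S_+ is generated by finitely many elements of degree
one, X = Proj S, and let F be an O_X-module that is quasi-coherent and of finite type. Then for some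
n₀ and all n ≥ n₀, the twist F(n) = F ⊗ O_X(n) is a quotient of a finite free module O_X^k (k
depending on n); in particular F(n) is generated by finitely many global sections. -/
theorem result {R A : Type u} [CommRing R] [CommRing A] [Algebra R A] (𝒜 : ℕ → Submodule R A) [GradedAlgebra 𝒜]
    (s : Finset A) (hs1 : ∀ f ∈ s, f ∈ 𝒜 1)
    (hs : (HomogeneousIdeal.irrelevant 𝒜).toIdeal = Ideal.span (s : Set A))
    (F : (Proj 𝒜).Modules) (hF : Coh.IsQCoh F) (hFT : CohB1.IsFT F) :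
    ∃ n₀ : ℕ, ∀ n : ℕ, n₀ ≤ n →
      ∃ (k : ℕ) (p : FlatMod.freeMod (Proj 𝒜) k ⟶ Twist.twistBy 𝒜 F (n : ℤ)), Epi p := by
  obtain ⟨r, g, hg, hcov⟩ := Groth.Agent.ProjTilde.exists_cover s hs1 hs
  haveI : F.IsQuasicoherent := hF
  haveI : SheafOfModules.IsFiniteType.{u} F := hFT
  obtain ⟨n₀, hn₀⟩ := Groth.Agent.ProjTilde.exists_epi_negative_twists g hg hcov F
  have hc : Groth.Agent.ProjTilde.CoveredBy 𝒜 1 ⊤ := fun x _ => by
    obtain ⟨l, hl⟩ := TopologicalSpace.Opens.mem_iSup.mp (hcov (TopologicalSpace.Opens.mem_top x))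
    exact ⟨1, 0, g l, 1, hg l, SetLike.GradedOne.one_mem, rfl, by rwa [mul_one]⟩
  refine ⟨n₀, fun n hn => ?_⟩
  obtain ⟨k, p, hp⟩ := hn₀ n hn
  let T := (DCoh.tensorBi (X := Proj 𝒜)).flip.obj (Twist.twist 𝒜 (n : ℤ))
  haveI : PreservesColimitsOfSize.{u, u} T :=
    Groth.Agent.KFlat.preservesColimitsOfSize_tensorBi_flip_obj (O := (Proj 𝒜).sheaf) _
  haveI : PreservesColimitsOfSize.{0, 0} T := preservesColimitsOfSize_shrink.{0, u, 0, u} T
  obtain ⟨φ⟩ := Groth.Agent.ProjTilde.nonempty_twist_tensor 𝒜 hc (-(n : ℤ)) (n : ℤ)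
  let ψ : Coh.structureModule (Proj 𝒜) ≅ T.obj (Twist.twist 𝒜 (-(n : ℤ))) :=
    Groth.Agent.ProjTwist.twistZeroIso 𝒜 ≪≫ eqToIso (by rw [neg_add_cancel]) ≪≫ φ.symm
  haveI := hp
  refine ⟨k, (Sigma.mapIso fun _ : Fin k => ψ).hom ≫
    (PreservesCoproduct.iso T fun _ : Fin k => Twist.twist 𝒜 (-(n : ℤ))).inv ≫ T.map p, ?_⟩
  haveI : Epi (T.map p) := T.map_epi p
  exact @epi_comp _ _ _ _ _ _ (@IsIso.epi_of_iso _ _ _ _ _ (Iso.isIso_hom _)) _
    (@epi_comp _ _ _ _ _ _ (@IsIso.epi_of_iso _ _ _ _ _ (Iso.isIso_inv _)) _ this)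

end Groth.Agent.S3579
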