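import Groth.Statements.S3582
import Groth.Agent.ProjSpec.Chart0

set_option autoImplicit false
universe u
open CategoryTheory CategoryTheory.Limits AlgebraicGeometry
open EGA2

namespace Groth.Agent.S3582

/-- For every scheme Y and every r ≥ 0 the structure morphism from projective r-space over Y to Y is
surjective. -/
theorem result (r : ℕ) (Y : Scheme.{u}) :
    Surjective (CohB1.ProjSpaceOver.toBase r Y) := by
  obtain ⟨s, hs⟩ := Groth.Agent.ProjSpec.exists_section r (ULift.{u} ℤ)
  have : (pullback.lift (specULiftZIsTerminal.from Y ≫ s) (𝟙 Y) (by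
      rw [Category.assoc, hs, Category.comp_id, Category.id_comp]) :
        Y ⟶ CohB1.ProjSpaceOver r Y) ≫ CohB1.ProjSpaceOver.toBase r Y = 𝟙 Y :=
    pullback.lift_snd _ _ _
  constructor
  intro y
  exact ⟨_, (Scheme.Hom.comp_apply _ _ _).symm.trans (congrArg (fun g : Y ⟶ Y => g y) this)⟩

end Groth.Agent.S3582
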