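import Groth.Statements.S3584
import Groth.Agent.Props.AmpleTwist

set_option autoImplicit false
universe u
open CategoryTheory CategoryTheory.Limits AlgebraicGeometry
open EGA2

namespace Groth.Agent.S3584

/-- Let S be a graded ring whose irrelevant ideal S_+ is generated by finitely many elements of degree
one. Then the twisting sheaf O_X(1) on X = Proj S is ample (X is quasi-compact and covered by the
affine non-vanishing loci of sections of the positive powers of O_X(1)). -/
theorem result {R A : Type u} [CommRing R] [CommRing A] [Algebra R A] (𝒜 : ℕ → Submodule R A) [GradedAlgebra 𝒜]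
    (s : Finset A) (hs1 : ∀ f ∈ s, f ∈ 𝒜 1)
    (hs : (HomogeneousIdeal.irrelevant 𝒜).toIdeal = Ideal.span (s : Set A)) :
    CohB1.IsAmple (Twist.twist 𝒜 1) := by
  have hcov : ⨆ f : s, Proj.basicOpen 𝒜 (f : A) = ⊤ :=
    Proj.iSup_basicOpen_eq_top 𝒜 _ (by rw [hs]; exact Ideal.span_mono fun a ha => ⟨⟨a, ha⟩, rfl⟩)
  have : CompactSpace (Proj 𝒜) := by
    refine ⟨?_⟩
    rw [← TopologicalSpace.Opens.coe_top, ← hcov, TopologicalSpace.Opens.coe_iSup]
    exact isCompact_iUnion fun f => (Proj.isAffineOpen_basicOpen 𝒜 _ (hs1 _ f.2) Nat.one_pos).isCompact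
  exact_mod_cast Props.AmpleTwist.isAmple_twist (F := fun f : s => (f : A)) Nat.one_pos
    (fun f => hs1 _ f.2) hcov

end Groth.Agent.S3584
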