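import Groth.Statements.S3585
import Groth.Agent.ProjMorph.Eventually
import Groth.Agent.AmpleLib.Rel
import Groth.Agent.ProperFin.PnBase
import Groth.Agent.ProjSpec.Chart0
import Groth.Agent.S3564

set_option autoImplicit false
universe u
open CategoryTheory CategoryTheory.Limits AlgebraicGeometry
open EGA2

namespace Groth.Agent.S3585

open Groth.Agent.ProjMor in
/-- A closed immersion into `P^n` over an affine base exhibits the source as a standard `Proj`. -/
theorem exists_proj_of_closedImmersion (A : Type u) [CommRing A] (n : ℕ) {X : Scheme.{u}}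
    (i : X ⟶ Proj (CohB1.polyGrading n A)) [IsClosedImmersion i] :
    ∃ (S : Type u) (_ : CommRing S) (_ : Algebra A S) (𝒮 : ℕ → Submodule A S) (_ : GradedAlgebra 𝒮) (s : Finset S),
      Function.Surjective (algebraMap A (𝒮 0)) ∧ (∀ g ∈ s, g ∈ 𝒮 1) ∧
      (HomogeneousIdeal.irrelevant 𝒮).toIdeal = Ideal.span (s : Set S) ∧
      ∃ e : X ≅ Proj 𝒮, e.hom ≫ Proj.toSpecZero 𝒮 ≫ Spec.map (CommRingCat.ofHom (algebraMap A (𝒮 0))) =
        i ≫ Proj.toSpecZero (CohB1.polyGrading n A) ≫
          Spec.map (CommRingCat.ofHom (algebraMap A (CohB1.polyGrading n A 0))) := by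
  classical
  set 𝒜 := CohB1.polyGrading n A with h𝒜
  let P := MvPolynomial (Fin (n + 1)) A
  let I : Ideal P := core (S3564.fam 𝒜 i)
  let π : P →ₐ[A] P ⧸ I := Ideal.Quotient.mkₐ A I
  have hs' : Function.Surjective π := Ideal.Quotient.mkₐ_surjective A I
  have hk : (RingHom.ker π).IsHomogeneous 𝒜 := by
    have h : RingHom.ker π = I := Ideal.Quotient.mkₐ_ker A I
    rw [h]
    exact core_isHomogeneous (S3564.fam 𝒜 i)
  let 𝒬 : ℕ → Submodule A (P ⧸ I) := fun n => (𝒜 n).map π.toLinearMap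
  let inst : GradedAlgebra 𝒬 := S3564.mapGraded 𝒜 π hs' hk
  let φ : 𝒜 →+*ᵍ 𝒬 :=
    { π.toRingHom with map_mem := fun {n x} hx => ⟨x, hx, rfl⟩ }
  have hφ : HomogeneousIdeal.irrelevant 𝒬 ≤
      (HomogeneousIdeal.irrelevant 𝒜).map φ := by
    rw [HomogeneousIdeal.irrelevant_le]
    rintro n hn _ ⟨a, ha, rfl⟩
    exact Ideal.mem_map_of_mem _ (HomogeneousIdeal.mem_irrelevant_of_mem _ hn ha)
  have hspan : ∀ d, 0 < d → ∀ p ∈ 𝒜 d,
      p ∈ Ideal.span (Set.range (MvPolynomial.X : Fin (n + 1) → P)) := by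
    intro d hd p hp
    rw [← Set.image_univ, MvPolynomial.mem_ideal_span_X_image]
    intro m hm
    by_contra h0
    push Not at h0
    have h := ((MvPolynomial.mem_homogeneousSubmodule d p).1 hp) (MvPolynomial.mem_support_iff.1 hm)
    rw [show m = 0 from Finsupp.ext fun k => h0 k (Set.mem_univ k)] at h
    simp at h
    omega
  have hci : IsClosedImmersion (Proj.map φ hφ) := RelProjLib.isClosedImmersion_map φ hφ hs'
  have hT : Covers (𝒜 := 𝒜) (fun _ : ULift.{u} (Fin (n + 1)) => 1)
      (fun j => (MvPolynomial.X j.down : P)) :=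
    ⟨fun _ => Nat.one_pos, fun j => ProjSpec.X_mem' n A j.down, fun d hd f hf => Ideal.le_radical
      (Ideal.span_mono (by rintro _ ⟨j, rfl⟩; exact ⟨⟨j⟩, rfl⟩) (hspan d hd f hf))⟩
  have hker : i.ker = (Proj.map φ hφ).ker :=
    S3564.ker_eq 𝒜 i φ hφ (fun x => Ideal.Quotient.eq_zero_iff_mem) hT
  have := IsClosedImmersion.isIso_lift i (Proj.map φ hφ) hker
  let e : X ≅ Proj 𝒬 :=
    (asIso (IsClosedImmersion.lift i (Proj.map φ hφ) hker.le)).symm
  have he : e.hom ≫ Proj.map φ hφ = i := by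
    rw [Iso.symm_hom, asIso_inv, IsIso.inv_comp_eq]
    exact (IsClosedImmersion.lift_fac _ _ _).symm
  refine ⟨P ⧸ I, inferInstance, inferInstance, 𝒬, inst,
    Finset.univ.image (fun j : Fin (n + 1) => π (MvPolynomial.X j)), ?_, ?_, ?_, e, ?_⟩
  · rintro ⟨_, a, ha, rfl⟩
    refine ⟨MvPolynomial.coeff 0 a, Subtype.ext ?_⟩
    have : a = MvPolynomial.C (MvPolynomial.coeff 0 a) :=
      MvPolynomial.totalDegree_eq_zero_iff_eq_C.1
        (Nat.le_zero.1 ((MvPolynomial.mem_homogeneousSubmodule 0 a).1 ha).totalDegree_le)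
    exact ((congrArg π this).trans (π.commutes _)).symm
  · intro g hg
    obtain ⟨j, -, rfl⟩ := Finset.mem_image.1 hg
    exact ⟨_, ProjSpec.X_mem' n A j, rfl⟩
  · refine le_antisymm ((HomogeneousIdeal.toIdeal_irrelevant_le _).2 fun d hd b hb => ?_)
      (Ideal.span_le.2 fun g hg => ?_)
    · obtain ⟨a, ha, rfl⟩ := hb
      have hm := Ideal.mem_map_of_mem π (hspan d hd a ha)
      rw [Ideal.map_span] at hm
      refine Ideal.span_mono ?_ hm
      rintro _ ⟨_, ⟨j, rfl⟩, rfl⟩
      exact Finset.mem_image_of_mem _ (Finset.mem_univ j)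
    · obtain ⟨j, -, rfl⟩ := Finset.mem_image.1 hg
      exact HomogeneousIdeal.mem_irrelevant_of_mem _ one_pos ⟨_, ProjSpec.X_mem' n A j, rfl⟩
  · rw [← he, Category.assoc, ← Category.assoc (Proj.map φ hφ), RelProjLib.map_toSpecZero φ hφ,
      Category.assoc, ← Spec.map_comp, ← CommRingCat.ofHom_comp]
    rw [show (RelProjLib.zeroHom φ).comp (algebraMap A (𝒜 0)) =
      algebraMap A (𝒬 0) from RingHom.ext fun r => Subtype.ext (π.commutes r)]

/-- Let A be a ring and f : X → Spec A a proper morphism, and suppose X carries an invertible O_X-module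
which is ample relative to f (so f is quasi-projective). Then f is projective: X is isomorphic over
Spec A to Proj S for some graded A-algebra S whose degree-zero part is the image of A and whose
irrelevant ideal is generated by finitely many elements of degree one. -/
theorem result {A : Type u} [CommRing A] {X : Scheme.{u}}
    (f : X ⟶ Spec (CommRingCat.of A)) [IsProper f]
    (L : X.Modules) (hL : PicF.IsInvertible L) (hamp : RelAmple.IsRelAmple f L) :
    ∃ (S : Type u) (_ : CommRing S) (_ : Algebra A S) (𝒮 : ℕ → Submodule A S) (_ : GradedAlgebra 𝒮) (s : Finset S),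
      Function.Surjective (algebraMap A (𝒮 0)) ∧ (∀ g ∈ s, g ∈ 𝒮 1) ∧
      (HomogeneousIdeal.irrelevant 𝒮).toIdeal = Ideal.span (s : Set S) ∧
      ∃ e : X ≅ Proj 𝒮, e.hom ≫ Proj.toSpecZero 𝒮 ≫ Spec.map (CommRingCat.ofHom (algebraMap A (𝒮 0))) = f := by
  classical
  have : QuasiCompact f := inferInstance
  have hL' : CohB1.IsAmple L := (AmpleLib.isRelAmple_iff_isAmple f).1 hamp
  obtain ⟨n₀, hn₀⟩ := ProjMorph.eventually_veryAmplePn f hL' hL
  obtain ⟨n, i, hi, hif, -⟩ := hn₀ n₀ le_rfl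
  obtain ⟨e, he⟩ := ProperFin.exists_iso_projSpaceOver n A
  let j : X ⟶ CohB1.ProjSpace n A := i ≫ e.hom
  have hj : j ≫ CohB1.ProjSpace.toSpec n A = f := by
    rw [Category.assoc, he]
    exact hif
  have : IsImmersion j := by
    have := hi
    infer_instance
  have : IsSeparated (CohB1.ProjSpace.toSpec n A) := by
    have h1 : IsSeparated (Proj.toSpecZero (CohB1.polyGrading n A)) := inferInstance
    exact MorphismProperty.comp_mem _ _ _ h1 inferInstance
  have : IsProper (j ≫ CohB1.ProjSpace.toSpec n A) := by rw [hj]; infer_instance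
  have : IsProper j := IsProper.of_comp j (CohB1.ProjSpace.toSpec n A)
  have : IsClosedImmersion j := IsClosedImmersion.of_isPreimmersion j j.isClosedMap.isClosed_range
  have hcl : IsClosedImmersion j := inferInstance
  obtain ⟨S, _, _, 𝒮, _, s, h1, h2, h3, e', he'⟩ := @exists_proj_of_closedImmersion A _ n X j hcl
  exact ⟨S, _, _, 𝒮, _, s, h1, h2, h3, e', he'.trans hj⟩

end Groth.Agent.S3585
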