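import Groth.Statements.S3588
import Groth.Agent.RelProjLib.ProjMap
import Groth.Agent.S3553

set_option autoImplicit false
universe u
open CategoryTheory CategoryTheory.Limits AlgebraicGeometry
open EGA2

namespace Groth.Agent.S3588

/-- Let S be a graded ring, N_+ the set of nilpotent elements of S_+ (an ideal of S), and S → S/N_+ the
quotient (here: any surjective homomorphism of graded rings φ : S → S' whose kernel is N_+). Then
the induced morphism Proj S' → Proj S is a closed immersion which is a homeomorphism of the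
underlying spaces, and Proj S' is reduced; thus Proj S' is the reduced closed subscheme (Proj
S)_red. -/
theorem result {R A : Type u} [CommRing R] [CommRing A] [Algebra R A] (𝒜 : ℕ → Submodule R A) [GradedAlgebra 𝒜]
    {B : Type u} [CommRing B] [Algebra R B] (ℬ : ℕ → Submodule R B) [GradedAlgebra ℬ]
    (φ : 𝒜 →+*ᵍ ℬ) (hsurj : Function.Surjective φ)
    (hker : ∀ a : A, φ a = 0 ↔ a ∈ (HomogeneousIdeal.irrelevant 𝒜).toIdeal ∧ IsNilpotent a)
    (hφ : HomogeneousIdeal.irrelevant ℬ ≤ (HomogeneousIdeal.irrelevant 𝒜).map φ) :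
    IsClosedImmersion (Proj.map φ hφ) ∧ IsHomeomorph (Proj.map φ hφ).base ∧
      AlgebraicGeometry.IsReduced (Proj ℬ) := by
  have hci : IsClosedImmersion (Proj.map φ hφ) :=
    Groth.Agent.RelProjLib.isClosedImmersion_map φ hφ hsurj
  have hemb : Topology.IsClosedEmbedding (Proj.map φ hφ).base := (Proj.map φ hφ).isClosedEmbedding
  refine ⟨hci, ?_, Groth.Agent.RelProjLib.isReduced_proj ℬ fun x hx hnil => ?_⟩
  · have hd := Groth.Agent.S3553.result 𝒜 ℬ φ hφ fun a ha => ((hker a).1 ha).2
    exact isHomeomorph_iff_isEmbedding_surjective.2 ⟨hemb.isEmbedding, Set.range_eq_univ.1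
      ((hemb.isClosed_range.closure_eq.symm).trans hd.closure_range)⟩
  · classical
    obtain ⟨a, rfl⟩ := hsurj x
    have h0 : φ (GradedRing.proj 𝒜 0 a) = 0 := by
      rw [GradedRing.proj_apply, GradedRingHom.map_directSumDecompose]
      exact hx
    have hmem : a - GradedRing.proj 𝒜 0 a ∈ (HomogeneousIdeal.irrelevant 𝒜).toIdeal := by
      change GradedRing.proj 𝒜 0 (a - GradedRing.proj 𝒜 0 a) = 0
      rw [map_sub, sub_eq_zero]
      exact (GradedRing.proj_apply 𝒜 0 _).trans
        (DirectSum.decompose_of_mem_same 𝒜 (SetLike.coe_mem _)) |>.symm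
    have hval : φ (a - GradedRing.proj 𝒜 0 a) = φ a := by rw [map_sub, h0, sub_zero]
    obtain ⟨n, hn⟩ := hnil
    rw [← hval, ← map_pow] at hn
    obtain ⟨m, hm⟩ := ((hker _).1 hn).2
    rw [← hval]
    exact (hker _).2 ⟨hmem, n * m, by rw [pow_mul, hm]⟩

end Groth.Agent.S3588
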