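import Groth.Statements.S3594
-- import your own Groth.Agent.* helpers here

set_option autoImplicit false
universe u
open CategoryTheory CategoryTheory.Limits AlgebraicGeometry
open EGA2

namespace Groth.Agent.S3594

/-- The closed immersion at infinity of a projective cone: let S be a graded R-algebra and Ŝ a graded
R-algebra over S such that the structure map φ : S → Ŝ is a graded homomorphism and Ŝ = S[z] is the
polynomial algebra on an element z of degree one (evaluation at z is a bijection S[T] → Ŝ); let ψ :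
Ŝ → S be a graded homomorphism retracting φ and killing z, with S₊ contained in the ideal generated
by ψ(Ŝ₊) so that j = Proj(ψ) : X = Proj S → Ĉ = Proj Ŝ is defined (it is the canonical closed
immersion). Then the image of j is exactly the complement of the open subset D₊(z) of Proj Ŝ (which
is the affine cone C = Spec S). -/
theorem result {R A : Type u} [CommRing R] [CommRing A] [Algebra R A] (𝒜 : ℕ → Submodule R A) [GradedAlgebra 𝒜]
    {B : Type u} [CommRing B] [Algebra R B] (ℬ : ℕ → Submodule R B) [GradedAlgebra ℬ]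
    [Algebra A B] [IsScalarTower R A B] (φ : 𝒜 →+*ᵍ ℬ) (hφ : ∀ a : A, φ a = algebraMap A B a)
    (z : B) (hz : z ∈ ℬ 1) (hhat : Function.Bijective (Polynomial.aeval (R := A) z))
    (ψ : ℬ →+*ᵍ 𝒜) (hψφ : ∀ a : A, ψ (φ a) = a) (hψz : ψ z = 0)
    (hψ : HomogeneousIdeal.irrelevant 𝒜 ≤ (HomogeneousIdeal.irrelevant ℬ).map ψ) :
    Set.range (Proj.map ψ hψ).base = ((Proj.basicOpen ℬ z : Set (Proj ℬ)))ᶜ := by
  classical
  ext y
  constructor
  · rintro ⟨x, rfl⟩
    exact fun hx => hx (show ψ z ∈ x.asHomogeneousIdeal by rw [hψz]; exact zero_mem _)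
  · intro hy
    have hzy : z ∈ y.asHomogeneousIdeal := not_not.1 hy
    have key : ∀ b : B, ∃ c, b = φ (ψ b) + z * c := by
      intro b
      obtain ⟨q, rfl⟩ := hhat.2 b
      refine ⟨Polynomial.aeval z q.divX, ?_⟩
      have h1 : Polynomial.aeval z q = algebraMap A B (q.coeff 0) + z * Polynomial.aeval z q.divX := by
        conv_lhs => rw [← Polynomial.X_mul_divX_add q]
        rw [map_add, map_mul, Polynomial.aeval_X, Polynomial.aeval_C, add_comm]
      have h2 : ψ (Polynomial.aeval z q) = q.coeff 0 := by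
        rw [h1, map_add, map_mul, hψz, zero_mul, add_zero, ← hφ, hψφ]
      rw [h2, hφ, ← h1]
    have hiff : ∀ b : B, φ (ψ b) ∈ y.asHomogeneousIdeal ↔ b ∈ y.asHomogeneousIdeal := by
      intro b
      obtain ⟨c, hc⟩ := key b
      have hzc : z * c ∈ y.asHomogeneousIdeal.toIdeal := Ideal.mul_mem_right _ _ hzy
      constructor
      · intro h
        rw [hc]
        exact y.asHomogeneousIdeal.toIdeal.add_mem h hzc
      · intro h
        have : b - z * c = φ (ψ b) := by rw [sub_eq_iff_eq_add]; exact hc
        rw [← this]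
        exact y.asHomogeneousIdeal.toIdeal.sub_mem h hzc
    have hp : ¬ HomogeneousIdeal.irrelevant 𝒜 ≤ y.asHomogeneousIdeal.comap φ := fun hle =>
      y.not_irrelevant_le ((HomogeneousIdeal.irrelevant_le _).2 fun d hd b hb =>
        (hiff b).1 (hle (HomogeneousIdeal.mem_irrelevant_of_mem 𝒜 hd (ψ.2 hb))))
    refine ⟨(⟨y.asHomogeneousIdeal.comap φ, y.isPrime.comap φ, hp⟩ : ProjectiveSpectrum 𝒜), ?_⟩
    exact ProjectiveSpectrum.ext (HomogeneousIdeal.ext (Ideal.ext hiff))

end Groth.Agent.S3594
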