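import Groth.Statements.S3598
import Groth.Agent.ProjSpec.ConeFibre

set_option autoImplicit false
universe u
open CategoryTheory CategoryTheory.Limits AlgebraicGeometry
open EGA2

namespace Groth.Agent.S3598

/-- Let S be a graded algebra over a ring (an affine base) whose irrelevant ideal is generated by its
degree-one elements, and let Ŝ = S[z] be the graded S-algebra obtained by adjoining a variable z of
degree 1 (given as a graded S-algebra together with z of degree 1 such that S[T] → Ŝ, T ↦ z, is
bijective). Let Ê be the pointed projective cone, covered by the charts Spec Ŝ_(f) for f ∈ S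
homogeneous of positive degree, and p : Ê → X = Proj S the canonical retraction, i.e. the morphism
which on each chart Spec Ŝ_(f) is induced by S_(f) → Ŝ_(f). Then p is of finite type (locally of
finite type and quasi-compact) and its fibre at every point x of X is isomorphic over k(x) to the
affine line Spec k(x)[T]. -/
theorem result {R A : Type u} [CommRing R] [CommRing A] [Algebra R A] (𝒜 : ℕ → Submodule R A) [GradedAlgebra 𝒜]
    {B : Type u} [CommRing B] [Algebra R B] (ℬ : ℕ → Submodule R B) [GradedAlgebra ℬ]
    [Algebra A B] [IsScalarTower R A B] (φ : 𝒜 →+*ᵍ ℬ) (hφ : ∀ a : A, φ a = algebraMap A B a)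
    (z : B) (hz : z ∈ ℬ 1) (hhat : Function.Bijective (Polynomial.aeval (R := A) z))
    (hgen : (HomogeneousIdeal.irrelevant 𝒜).toIdeal = Ideal.span (𝒜 1 : Set A))
    (p : (PCone.dom φ : Scheme.{u}) ⟶ Proj 𝒜) (hp : ∀ (d : ℕ) (f : A) (hd : 0 < d) (hf : f ∈ 𝒜 d),
        PCone.chart φ hf hd ≫ p =
          Spec.map (CommRingCat.ofHom (HomogeneousLocalization.Away.map φ f)) ≫ Proj.awayι 𝒜 f hf hd) (x : Proj 𝒜) :
    LocallyOfFiniteType p ∧ QuasiCompact p ∧
      ∃ e : pullback p ((Proj 𝒜).fromSpecResidueField x) ≅
          Spec (CommRingCat.of (Polynomial ((Proj 𝒜).residueField x))),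
        e.hom ≫ Spec.map (CommRingCat.ofHom (algebraMap ((Proj 𝒜).residueField x)
          (Polynomial ((Proj 𝒜).residueField x)))) = pullback.snd p ((Proj 𝒜).fromSpecResidueField x) := by
  classical
  have haff := Groth.Agent.ProjSpec.isAffineHom_map φ p hp
  have hc : ∀ (f : A) (hf : f ∈ 𝒜 1),
      p ⁻¹ᵁ (Proj.awayι 𝒜 f hf one_pos).opensRange = (PCone.chart φ hf one_pos).opensRange := by
    intro f hf
    rw [Proj.opensRange_awayι, Groth.Agent.ProjSpec.map_preimage φ p hp one_pos hf]
  refine ⟨Groth.Agent.ProjSpec.locallyOfFiniteType_of_charts hgen p fun f hf => ?_, inferInstance, ?_⟩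
  · obtain ⟨e, he⟩ := Groth.Agent.ProjSpec.exists_polynomial_equiv hφ hhat hf
    refine ⟨_, CommRingCat.ofHom (HomogeneousLocalization.Away.map φ f), PCone.chart φ hf one_pos,
      inferInstance, hp 1 f one_pos hf, hc f hf, ?_⟩
    have h : HomogeneousLocalization.Away.map φ f =
        e.toRingHom.comp (Polynomial.C : HomogeneousLocalization.Away 𝒜 f →+* _) :=
      RingHom.ext fun c => (he c).symm
    rw [CommRingCat.hom_ofHom, h]
    exact (RingHom.FiniteType.of_surjective _ e.surjective).comp
      (RingHom.finiteType_algebraMap.2 inferInstance :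
        (algebraMap (HomogeneousLocalization.Away 𝒜 f) (Polynomial (HomogeneousLocalization.Away 𝒜 f))).FiniteType)
  · obtain ⟨f, hf, hx⟩ := Groth.Agent.ProjSpec.exists_degOne hgen x
    obtain ⟨e, he⟩ := Groth.Agent.ProjSpec.exists_polynomial_equiv hφ hhat hf
    exact Groth.Agent.ProjSpec.fibre_iso_of_chart p (CommRingCat.ofHom (HomogeneousLocalization.Away.map φ f))
      (PCone.chart φ hf one_pos) (Proj.awayι 𝒜 f hf one_pos) (hp 1 f one_pos hf) (hc f hf) x hx
      _ (Groth.Agent.ProjSpec.exists_isPushout_polynomial _ e he)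

end Groth.Agent.S3598
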