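import Groth.Statements.S3599
import Groth.Agent.AmpleLib.FinModel.Descent
import Groth.Agent.AmpleLib.CompLemma

set_option autoImplicit false
universe u
open CategoryTheory CategoryTheory.Limits AlgebraicGeometry
open EGA2

namespace Groth.Agent.S3599

open Groth.Agent.AmpleLib Groth.Agent.AmpleLib.GenNorm Groth.Agent.AmpleLib.FinModel TopologicalSpace

theorem isIso_restrict_mono {X Z : Scheme.{u}} (h : Z ⟶ X) {U V : X.Opens} (hU : IsIso (h ∣_ U))
    (hVU : V ≤ U) : IsIso (h ∣_ V) := by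
  have e : U.ι ''ᵁ (U.ι ⁻¹ᵁ V) = V := by
    rw [Scheme.Hom.image_preimage_eq_opensRange_inf, Scheme.Opens.opensRange_ι]; exact inf_eq_right.2 hVU
  rw [← e]
  exact ((MorphismProperty.isomorphisms Scheme).arrow_mk_iso_iff
    (morphismRestrictRestrict h U (U.ι ⁻¹ᵁ V))).1 (inferInstanceAs (IsIso (h ∣_ U ∣_ U.ι ⁻¹ᵁ V)))

theorem isIso_restrict_iSup {X Z : Scheme.{u}} (h : Z ⟶ X) {ι : Type*} (U : ι → X.Opens)
    (hU : ∀ i, IsIso (h ∣_ U i)) {W : X.Opens} (hW : W ≤ iSup U) : IsIso (h ∣_ W) := by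
  refine (IsZariskiLocalAtTarget.iff_of_iSup_eq_top (P := MorphismProperty.isomorphisms Scheme)
    (fun i => W.ι ⁻¹ᵁ U i) ?_).2 fun i => ?_
  · exact top_le_iff.1 fun y _ => by
      obtain ⟨i, hi⟩ := Opens.mem_iSup.1 (hW y.2)
      exact Opens.mem_iSup.2 ⟨i, hi⟩
  · refine ((MorphismProperty.isomorphisms Scheme).arrow_mk_iso_iff
      (morphismRestrictRestrict h W (W.ι ⁻¹ᵁ U i))).2 ?_
    refine isIso_restrict_mono h (hU i) ?_
    rw [Scheme.Hom.image_preimage_eq_opensRange_inf, Scheme.Opens.opensRange_ι]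
    exact inf_le_right

/-- Let Y be an affine scheme, X a Noetherian reduced scheme, f : X → Y a quasi-compact morphism, g : X'
→ X a finite surjective morphism, and W an open subset of X such that at every point x of W either
the local ring of X is an integrally closed domain or the direct image of the structure sheaf of X'
is locally free on some open neighbourhood of x inside W. Then there are a reduced scheme Z and a
finite birational morphism h : Z → X (birational in the sense that h is an isomorphism over some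
dense open of X whose inverse image is dense in Z) which is an isomorphism over W, such that for
every invertible O_X-module L whose inverse image on X' is ample relative to f ∘ g, the inverse
image of L on Z is ample relative to f ∘ h. -/
theorem result {X X' Y : Scheme.{u}} [IsAffine Y]
    [IsNoetherian X] [IsReduced X] (f : X ⟶ Y) [QuasiCompact f] (g : X' ⟶ X) [IsFinite g] [Surjective g]
    (W : X.Opens)
    (hW : ∀ x ∈ W, (IsDomain (X.presheaf.stalk x) ∧ IsIntegrallyClosed (X.presheaf.stalk x)) ∨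
      ∃ T : X.Opens, x ∈ T ∧ T ≤ W ∧ FlatMod.IsFinLocFree (((Coh.push g).obj (Coh.structureModule X')).restrict T.ι)) :
    ∃ (Z : Scheme.{u}) (_ : IsReduced Z) (h : Z ⟶ X) (_ : IsFinite h),
      IsIso (h ∣_ W) ∧
        (∃ V : X.Opens, Dense (V : Set X) ∧ Dense ((h ⁻¹ᵁ V : Z.Opens) : Set Z) ∧ IsIso (h ∣_ V)) ∧
        ∀ L : X.Modules, PicF.IsInvertible L →
          RelAmple.IsRelAmple (g ≫ f) ((Scheme.Modules.pullback g).obj L) →
            RelAmple.IsRelAmple (h ≫ f) ((Scheme.Modules.pullback h).obj L) := by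
  classical
  have hfin : (gens X).Finite := genericPoints.finite NoetherianSpace.finite_irreducibleComponents
  let D := ∏ η ∈ hfin.toFinset, rk g η
  have hD : ∀ η ∈ gens X, rk g η * (D / rk g η) = D := fun η hη =>
    Nat.mul_div_cancel' (Finset.dvd_prod_of_mem _ (hfin.mem_toFinset.mpr hη))
  have hDpos : 0 < D := Finset.prod_pos fun η _ => rk_pos g η
  haveI := isFinite_toX hD
  haveI := isReduced_model hD
  refine ⟨model hD, inferInstance, toX hD, inferInstance, ?_, ?_, ?_⟩
  · have h : ∀ x : W, ∃ U : X.Opens, x.1 ∈ U ∧ IsIso (toX hD ∣_ U) := fun x => exists_iso_of hD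
      ((hW x.1 x.2).imp_right fun ⟨T, h1, _, h3⟩ => ⟨T, h1, h3⟩)
    choose U hxU hU using h
    exact isIso_restrict_iSup _ U hU fun x hx => Opens.mem_iSup.2 ⟨⟨x, hx⟩, hxU ⟨x, hx⟩⟩
  · have h : ∀ η : gens X, ∃ V : X.Opens, η.1 ∈ V ∧ IsIso (toX hD ∣_ V) := fun η =>
      exists_iso_gen hD η.2
    choose U hxU hU using h
    refine ⟨iSup U, ?_, ?_, isIso_restrict_iSup _ U hU le_rfl⟩
    · refine dense_iff_inter_open.2 fun O hO ⟨x, hx⟩ => ?_
      obtain ⟨η, hη, hs⟩ := exists_gen_specializes x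
      exact ⟨η, hs.mem_open hO hx, Opens.mem_iSup.2 ⟨⟨η, hη⟩, hxU ⟨η, hη⟩⟩⟩
    · refine dense_iff_inter_open.2 fun O hO ⟨x, hx⟩ => ?_
      obtain ⟨y, hyO, hy⟩ := exists_over_gens hD (O := ⟨O, hO⟩) hx
      exact ⟨y, hyO, Opens.mem_iSup.2 ⟨⟨_, hy⟩, hxU ⟨_, hy⟩⟩⟩
  · intro L hL hamp
    haveI : IsFinite (pullback.fst g (toX hD)) := MorphismProperty.pullback_fst _ _ inferInstance
    haveI : IsFinite (bc hD) := MorphismProperty.pullback_snd _ _ inferInstance
    haveI : Surjective (bc hD) := MorphismProperty.pullback_snd _ _ inferInstance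
    have hD' : ∀ η ∈ gens (model hD), rk (bc hD) η * (D / rk (bc hD) η) = D := fun η hη => by
      rw [rk_bc hD η hη]; exact hD _ (toX_mem_gens hD hη)
    rw [isRelAmple_iff] at hamp ⊢
    refine ⟨inferInstance, PicCl.isInvertible_pullback _ hL, fun V => ?_⟩
    refine ampleOn_of_pullback (bc hD) (D := D) (hasNm_bc hD) hDpos hD' (PicCl.isInvertible_pullback _ hL)
      ((toX hD ≫ f).isCompact_preimage V.2.isCompact) ?_
    have h1 := ampleOn_pullback_of_qa hamp.2.1 (pullback.fst g (toX hD)) le_rfl (hamp.2.2 V)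
      fun T hT hTle => by
        rw [inf_eq_left.mpr ((pullback.fst g (toX hD)).preimage_mono hTle)]
        exact isQuasiAffine_of_isAffineOpen (hT.preimage _)
    have e : (bc hD) ⁻¹ᵁ ((toX hD ≫ f) ⁻¹ᵁ V.1) = pullback.fst g (toX hD) ⁻¹ᵁ ((g ≫ f) ⁻¹ᵁ V.1) := by
      rw [← Scheme.Hom.comp_preimage, ← Scheme.Hom.comp_preimage, pullback.condition_assoc]
    rw [e]
    exact ampleOn_of_iso ((Scheme.Modules.pullbackComp _ _).app L ≪≫
      (Scheme.Modules.pullbackCongr pullback.condition).app L ≪≫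
      ((Scheme.Modules.pullbackComp _ _).app L).symm) h1

end Groth.Agent.S3599
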