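import Groth.Statements.S3602
import Groth.Agent.S11109
import Groth.Agent.LocCoh.TorLES
import Mathlib.CategoryTheory.Adjunction.FullyFaithful

set_option autoImplicit false
universe u
open CategoryTheory CategoryTheory.Limits AlgebraicGeometry
attribute [local instance] HasDerivedCategory.standard
open Dual3

namespace Groth.Agent.S3602

section Abstract

variable {A B : Type*} [Category A] [Category B] {P : ObjectProperty A} {Q : ObjectProperty B}

/-- an adjunction restricted to full subcategories -/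
def restrictAdj {L : A ⥤ B} {R : B ⥤ A} (adj : L ⊣ R) (hL : ∀ a : P.FullSubcategory, Q (L.obj a.obj))
    (hR : ∀ b : Q.FullSubcategory, P (R.obj b.obj)) : Q.lift (P.ι ⋙ L) hL ⊣ P.lift (Q.ι ⋙ R) hR :=
  Adjunction.mkOfHomEquiv
    { homEquiv := fun a b =>
        { toFun := fun φ => InducedCategory.homMk (adj.homEquiv a.obj b.obj φ.hom)
          invFun := fun ψ => InducedCategory.homMk ((adj.homEquiv a.obj b.obj).symm ψ.hom)
          left_inv := fun φ => InducedCategory.hom_ext ((adj.homEquiv a.obj b.obj).symm_apply_apply φ.hom)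
          right_inv := fun ψ => InducedCategory.hom_ext ((adj.homEquiv a.obj b.obj).apply_symm_apply ψ.hom) }
      homEquiv_naturality_left_symm := fun f g => InducedCategory.hom_ext (adj.homEquiv_naturality_left_symm f.hom g.hom)
      homEquiv_naturality_right := fun f g => InducedCategory.hom_ext (adj.homEquiv_naturality_right f.hom g.hom) }

end Abstract

section Bc

variable {CX CY CX' CY' : Type*} [Category CX] [Category CY] [Category CX'] [Category CY']
  {PX : ObjectProperty CX} {PY : ObjectProperty CY} {PX' : ObjectProperty CX'} {PY' : ObjectProperty CY'}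
  {F : CX ⥤ CY} {F' : CX' ⥤ CY'} {G : CY' ⥤ CY} {G' : CX' ⥤ CX} {LG : CY ⥤ CY'} {LG' : CX ⥤ CX'}
  {hF : ∀ x : PX.FullSubcategory, PY (F.obj x.obj)} {hF' : ∀ x : PX'.FullSubcategory, PY' (F'.obj x.obj)}
  {hG : ∀ x : PY'.FullSubcategory, PY (G.obj x.obj)} {hG' : ∀ x : PX'.FullSubcategory, PX (G'.obj x.obj)}
  (hLG : ∀ x : PY.FullSubcategory, PY' (LG.obj x.obj)) (hLG' : ∀ x : PX.FullSubcategory, PX' (LG'.obj x.obj))
  (adjG : LG ⊣ G) (adjG' : LG' ⊣ G') (e : G' ⋙ F ≅ F' ⋙ G)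

/-- an identification of composites restricted to full subcategories -/
def restrictIso : PX.lift (PX'.ι ⋙ G') hG' ⋙ PY.lift (PX.ι ⋙ F) hF ≅
    PY'.lift (PX'.ι ⋙ F') hF' ⋙ PY.lift (PY'.ι ⋙ G) hG :=
  NatIso.ofComponents (fun M => PY.isoMk (e.app M.obj)) fun φ => InducedCategory.hom_ext (e.hom.naturality φ.hom)

include hLG hLG' adjG adjG' in
lemma isIso_mate_restrict {a : PY.FullSubcategory ⥤ PX.FullSubcategory} {a' : PY'.FullSubcategory ⥤ PX'.FullSubcategory}
    (adj : PY.lift (PX.ι ⋙ F) hF ⊣ a) (adj' : PY'.lift (PX'.ι ⋙ F') hF' ⊣ a')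
    (hbc : ∀ x : PX.FullSubcategory,
      IsIso ((adjG.homEquiv _ _).symm (F.map (adjG'.unit.app x.obj) ≫ e.hom.app (LG'.obj x.obj))))
    (M : PY'.FullSubcategory) :
    IsIso (adj.homEquiv _ _ ((restrictIso (hF := hF) (hF' := hF') (hG := hG) (hG' := hG') e).hom.app (a'.obj M) ≫
      (PY.lift (PY'.ι ⋙ G) hG).map (adj'.counit.app M))) := by
  let FQ := PY.lift (PX.ι ⋙ F) hF
  let FQ' := PY'.lift (PX'.ι ⋙ F') hF'
  let GQ := PY.lift (PY'.ι ⋙ G) hG
  let GQ' := PX.lift (PX'.ι ⋙ G') hG'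
  let aG : PY'.lift (PY.ι ⋙ LG) hLG ⊣ GQ := restrictAdj adjG hLG hG
  let aG' : PX'.lift (PX.ι ⋙ LG') hLG' ⊣ GQ' := restrictAdj adjG' hLG' hG'
  let eQ : GQ' ⋙ FQ ≅ FQ' ⋙ GQ := restrictIso e
  let β : ∀ x : PX.FullSubcategory,
      (PY'.lift (PY.ι ⋙ LG) hLG).obj (FQ.obj x) ⟶ FQ'.obj ((PX'.lift (PX.ι ⋙ LG') hLG').obj x) :=
    fun x => InducedCategory.homMk ((adjG.homEquiv _ _).symm (F.map (adjG'.unit.app x.obj) ≫ e.hom.app (LG'.obj x.obj)))
  have hβ : ∀ x, IsIso (β x) := fun x => by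
    have : IsIso (PY'.ι.map (β x)) := hbc x
    exact PY'.fullyFaithfulι.isIso_of_isIso_map (β x)
  have hunit : ∀ x : PX.FullSubcategory, (aG'.unit.app x).hom = adjG'.unit.app x.obj := fun x => by
    simp [aG', restrictAdj, Adjunction.homEquiv_unit]
  have hkey : ∀ x, (aG.homEquiv _ _) (β x) = FQ.map (aG'.unit.app x) ≫ eQ.hom.app _ := fun x => by
    refine InducedCategory.hom_ext ?_
    show _ = F.map (aG'.unit.app x).hom ≫ e.hom.app _
    rw [hunit]
    simp [aG, β, restrictAdj]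
  refine isIso_of_yoneda_map_bijective _ fun x => ?_
  have heq : (fun t : x ⟶ GQ'.obj (a'.obj M) => t ≫ adj.homEquiv _ _ (eQ.hom.app (a'.obj M) ≫ GQ.map (adj'.counit.app M))) =
      (fun z => adj.homEquiv _ _ (aG.homEquiv _ _ (β x ≫ z))) ∘ fun t => (adj'.homEquiv _ _).symm ((aG'.homEquiv _ _).symm t) := by
    funext t
    obtain ⟨s, rfl⟩ := (aG'.homEquiv _ _).surjective t
    simp only [Function.comp_apply, Equiv.symm_apply_apply]
    rw [← adj.homEquiv_naturality_left, aG.homEquiv_naturality_right, hkey, Adjunction.homEquiv_counit,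
      aG'.homEquiv_unit, Functor.map_comp, Category.assoc, Category.assoc, Functor.map_comp]
    have h := eQ.hom.naturality_assoc s (GQ.map (adj'.counit.app M))
    simp only [Functor.comp_map] at h
    rw [h]
    rfl
  show Function.Bijective fun t : x ⟶ GQ'.obj (a'.obj M) =>
    t ≫ adj.homEquiv _ _ (eQ.hom.app (a'.obj M) ≫ GQ.map (adj'.counit.app M))
  rw [heq]
  exact (((adj.homEquiv _ _).bijective.comp (aG.homEquiv _ _).bijective).comp
    (haveI := hβ x; (asIso (β x)).homFromEquiv.symm.bijective)).comp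
      ((adj'.homEquiv _ _).symm.bijective.comp (aG'.homEquiv _ _).symm.bijective)

end Bc

lemma htor_of_flat {X Y Y' : Scheme.{u}} (f : X ⟶ Y) (g : Y' ⟶ Y) (hflat : Flat f ∨ Flat g)
    (U : Y.Opens) (hU : IsAffineOpen U) (U' : Y'.Opens) (hU'' : IsAffineOpen U') (hU' : U' ≤ g ⁻¹ᵁ U)
    (V : X.Opens) (hV' : IsAffineOpen V) (hV : V ≤ f ⁻¹ᵁ U) (i : ℕ) (hi : 0 < i) :
    Subsingleton (@DRing.Tor Γ(Y, U) _ i Γ(Y', U') Γ(X, V) _ (g.appLE U U' hU').hom.toModule _ (f.appLE U V hV).hom.toModule) := by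
  obtain ⟨n, rfl⟩ := Nat.exists_eq_add_of_le' hi
  letI := (g.appLE U U' hU').hom.toModule
  letI := (f.appLE U V hV).hom.toModule
  rcases hflat with h | h
  · haveI : Module.Flat Γ(Y, U) Γ(X, V) :=
      HasRingHomProperty.appLE (P := @Flat) f h ⟨U, hU⟩ ⟨V, hV'⟩ hV
    haveI : Subsingleton (DRing.Tor Γ(Y, U) (n + 1) Γ(X, V) Γ(Y', U')) :=
      subsingleton_of_forall_eq 0 fun x => Groth.Agent.LocCoh.Tor.tor_succ_eq_zero_of_flat _ n _ x
    exact Groth.Agent.CohBase.TorBC.subsingleton_tor_flip _ _ _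
  · haveI : Module.Flat Γ(Y, U) Γ(Y', U') :=
      HasRingHomProperty.appLE (P := @Flat) g h ⟨U, hU⟩ ⟨U', hU''⟩ hU'
    exact subsingleton_of_forall_eq 0 fun x => Groth.Agent.LocCoh.Tor.tor_succ_eq_zero_of_flat _ n _ x


/-- In the cases g flat or f flat (both are Tor independent squares). Consider a cartesian square of
quasi-compact quasi-separated schemes X' = Y' ×_Y X with maps f : X → Y, g : Y' → Y, f' : X' → Y',
g' : X' → X. Let the derived direct images on D_QCoh of all four maps be given (assumed to exist and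
to preserve quasi-coherence of cohomology), with right adjoints a of Rf_* and a' of Rf'_*. Then
there is an identification e : Rf_* ∘ Rg'_* ≅ Rg_* ∘ Rf'_* of the two composite derived direct
images for which the induced transformation ξ : Rg'_* ∘ a' → a ∘ Rg_* (adjoint to Rf_* Rg'_* a' ≅
Rg_* Rf'_* a' → Rg_*) is an isomorphism on every object. -/
theorem result (X Y X' Y' : Scheme.{u}) [CompactSpace X] [QuasiSeparatedSpace X] [CompactSpace Y] [QuasiSeparatedSpace Y] [CompactSpace X'] [QuasiSeparatedSpace X'] [CompactSpace Y'] [QuasiSeparatedSpace Y'] (f : X ⟶ Y) (g : Y' ⟶ Y) (f' : X' ⟶ Y') (g' : X' ⟶ X) (hsq : IsPullback g' f' f g) (hflat : Flat f ∨ Flat g) [DCoh.HasRpush f] [DCoh.HasRpush f'] [DCoh.HasRpush g] [DCoh.HasRpush g'] (hf : DCoh.RpushPreservesQCoh f) (hf' : DCoh.RpushPreservesQCoh f') (hg : DCoh.RpushPreservesQCoh g) (hg' : DCoh.RpushPreservesQCoh g') (a : DCoh.DQCoh Y ⥤ DCoh.DQCoh X) (a' : DCoh.DQCoh Y' ⥤ DCoh.DQCoh X') (adj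 : DCoh.RpushQ f hf ⊣ a) (adj' : DCoh.RpushQ f' hf' ⊣ a') : ∃ e : (DCoh.RpushQ g' hg' ⋙ DCoh.RpushQ f hf ≅ DCoh.RpushQ f' hf' ⋙ DCoh.RpushQ g hg), ∀ M : DCoh.DQCoh Y', IsIso (Dual3.xi adj adj' e M) := by
  haveI : QuasiCompact f := (quasiCompact_iff_compactSpace f).2 inferInstance
  haveI : QuasiSeparated f := QuasiSeparated.of_comp f (Limits.terminal.from Y)
  have hsq' := (Groth.Agent.S11109.result f g f' g' hsq (htor_of_flat f g hflat)
    (Groth.Agent.KFlat.DerivedAdj.adj g) (Groth.Agent.KFlat.DerivedAdj.adj g'))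
  obtain ⟨e₀, he₀⟩ := hsq'
  exact ⟨restrictIso e₀, fun M => isIso_mate_restrict
    (fun x => Groth.Agent.KFlat.QCohModel.isQCohD_Lpull g _ x.property)
    (fun x => Groth.Agent.KFlat.QCohModel.isQCohD_Lpull g' _ x.property)
    (Groth.Agent.KFlat.DerivedAdj.adj g) (Groth.Agent.KFlat.DerivedAdj.adj g') e₀ adj adj'
    (fun x => he₀ x.obj x.property) M⟩

end Groth.Agent.S3602
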