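import Groth.Statements.S3620
import Groth.Agent.DualCx.SchStalk
import Groth.Agent.Gor.FlatLocal
import Groth.Agent.KFlat.StalkCx
-- import your own Groth.Agent.* helpers here

set_option autoImplicit false
set_option backward.isDefEq.respectTransparency.types false
set_option maxHeartbeats 800000
universe u
open CategoryTheory CategoryTheory.Limits AlgebraicGeometry
attribute [local instance] HasDerivedCategory.standard
open Dual3

namespace Groth.Agent.S3620

open TopologicalSpace in
/-- stalk rings on a chart -/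
theorem stalk_equiv {X : Scheme.{u}} {A : Type u} [CommRing A] (j : Spec (CommRingCat.of A) ⟶ X)
    [IsOpenImmersion j] (p : PrimeSpectrum A) :
    Nonempty (X.presheaf.stalk (j.base p) ≃+* Localization.AtPrime p.1) :=
  ⟨((asIso (Scheme.Hom.stalkMap j p)) ≪≫ Spec.stalkIso (CommRingCat.of A) p).commRingCatIsoToRingEquiv⟩

theorem exact_tilde (A : CommRingCat.{u}) : (tilde.functor A).Additive ∧ PreservesFiniteColimits (tilde.functor A) := by
  refine ⟨Functor.additive_of_preserves_binary_products _, ?_⟩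
  have : PreservesColimitsOfSize.{0, 0} (tilde.functor A) := (tilde.adjunction (R := A)).leftAdjoint_preservesColimits
  exact PreservesColimitsOfSize0.preservesFiniteColimits _

section Helpers

variable {X : Scheme.{u}} [∀ (U V : Scheme.{u}) (j : U ⟶ V) [IsOpenImmersion j], PreservesFiniteLimits (Scheme.Modules.restrictFunctor j)]
  [∀ (R : CommRingCat.{u}), PreservesFiniteLimits (tilde.functor R)]

/-- the cohomology sheaves on a chart -/
theorem chart_homology {A : Type u} [CommRing A] (j : Spec (CommRingCat.of A) ⟶ X) [IsOpenImmersion j]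
    {K : DCoh.D X} {ω : Dual.D A} (e : (DCoh.restrictD j).obj K ≅ (DCoh.tildeD (CommRingCat.of A)).obj ω) (i : ℤ) :
    Nonempty ((Scheme.Modules.restrictFunctor j).obj (DCoh.HD K i) ≅
      (tilde.functor (CommRingCat.of A)).obj ((DerivedCategory.homologyFunctor (ModuleCat.{u} A) i).obj ω)) := by
  haveI := (exact_tilde (CommRingCat.of A)).1
  haveI := (exact_tilde (CommRingCat.of A)).2
  obtain ⟨e1⟩ := DualCx.SchStalk.nonempty_homology_iso (Scheme.Modules.restrictFunctor j) K i
  obtain ⟨e2⟩ := DualCx.SchStalk.nonempty_homology_iso (tilde.functor (CommRingCat.of A)) ω i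
  exact ⟨e1.symm ≪≫ (DerivedCategory.homologyFunctor _ i).mapIso e ≪≫ e2⟩

theorem isZero_restrict (U : X.Opens) (M : X.Modules) (h : ∀ y ∈ U, Subsingleton (M.presheaf.stalk y)) :
    IsZero ((Scheme.Modules.restrictFunctor U.ι).obj M) := by
  refine KFlat.StalkCx.isZero_of_isZero_stalk fun y => ModuleCat.isZero_iff_subsingleton.2 ?_
  haveI : Subsingleton ↑((Scheme.Modules.toPresheaf X ⋙ TopCat.Presheaf.stalkFunctor AddCommGrpCat.{u} (U.ι y)).obj M) :=
    h (U.ι y) (by exact y.2)
  exact (((Scheme.Modules.restrictStalkNatIso U.ι y).app M).addCommGroupIsoToAddEquiv).toEquiv.subsingleton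

theorem gorenstein_of_invertible [IsLocallyNoetherian X] {K : DCoh.D X} (hK : Dual2.IsDualizingSch X K)
    (h : Dual3.IsInvertibleD K) (x : X) : LocCoh.IsGorensteinLocalRing (X.presheaf.stalk x) := by
  obtain ⟨U, n, hxU, ⟨eU⟩⟩ := h x
  obtain ⟨V, hV, hxV, hVU⟩ := exists_isAffineOpen_mem_and_subset (x := x) (U := U) hxU
  haveI := hV.isOpenImmersion_fromSpec
  let A := Γ(X, V)
  let j : Spec (CommRingCat.of A) ⟶ X := hV.fromSpec
  haveI : IsOpenImmersion j := hV.isOpenImmersion_fromSpec
  obtain ⟨p, hp⟩ : x ∈ Set.range j.base := hV.range_fromSpec.symm ▸ hxV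
  obtain ⟨ω, hω, ⟨e⟩⟩ := hK A j
  have := hω.isNoetherianRing
  haveI := (exact_tilde (CommRingCat.of A)).1
  have hr : Set.range j.base ⊆ Set.range U.ι := by
    rw [Scheme.Opens.range_ι]; exact hV.range_fromSpec.le.trans hVU
  let l : Spec (CommRingCat.of A) ⟶ U.toScheme := IsOpenImmersion.lift U.ι j hr
  haveI : IsOpenImmersion (l ≫ U.ι) := by rw [IsOpenImmersion.lift_fac]; infer_instance
  haveI : IsOpenImmersion l := IsOpenImmersion.of_comp l U.ι
  have hH : ∀ i, Nonempty ((tilde.functor (CommRingCat.of A)).obj ((DerivedCategory.homologyFunctor (ModuleCat.{u} A) i).obj ω) ≅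
      (Scheme.Modules.restrictFunctor l).obj ((DerivedCategory.homologyFunctor _ (n + i)).obj
        (DCoh.inD (U : Scheme.{u}) (Coh.structureModule (U : Scheme.{u}))))) := by
    intro i
    obtain ⟨e1⟩ := chart_homology j e i
    obtain ⟨e2⟩ := DualCx.SchStalk.nonempty_homology_iso (Scheme.Modules.restrictFunctor U.ι) K i
    exact ⟨e1.symm ≪≫ (Scheme.Modules.restrictFunctorCongr (IsOpenImmersion.lift_fac U.ι j hr).symm).app _ ≪≫
      (Scheme.Modules.restrictFunctorComp l U.ι).app _ ≪≫ (Scheme.Modules.restrictFunctor l).mapIso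
        (e2.symm ≪≫ (DerivedCategory.homologyFunctor _ i).mapIso eU ≪≫
          ((DerivedCategory.homologyFunctor _ 0).shiftIso n i (n + i) rfl).app _)⟩
  obtain ⟨e0⟩ := hH (-n)
  let eM : (DerivedCategory.homologyFunctor (ModuleCat.{u} A) (-n)).obj ω ≅ ModuleCat.of A A :=
    tilde.fullyFaithfulFunctor.preimageIso (e0 ≪≫ (Scheme.Modules.restrictFunctor l).mapIso
      (eqToIso (congrArg (fun k => (DerivedCategory.homologyFunctor (U : Scheme.{u}).Modules k).obj
          (DCoh.inD (U : Scheme.{u}) (Coh.structureModule (U : Scheme.{u})))) (add_neg_cancel n)) ≪≫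
        (DerivedCategory.singleFunctorCompHomologyFunctorIso (U : Scheme.{u}).Modules 0).app _) ≪≫
      Scheme.Modules.restrictUnitIso l ≪≫ (tildeSelf (R := CommRingCat.of A)).symm)
  have hvan : ∀ i, i ≠ -n → DualCx.Dimfun.Z p (Dual.HD A ω i) := by
    intro i hi
    obtain ⟨ei⟩ := hH i
    have hz : IsZero ((DerivedCategory.homologyFunctor (ModuleCat.{u} A) i).obj ω) := by
      haveI : (tilde.functor (CommRingCat.of A)).Faithful := tilde.fullyFaithfulFunctor.faithful
      refine (IsZero.iff_id_eq_zero _).2 ((tilde.functor (CommRingCat.of A)).map_injective ?_)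
      refine ((IsZero.of_iso ?_ ei).eq_of_src _ _)
      refine Functor.map_isZero _ ?_
      rcases lt_or_gt_of_ne (show n + i ≠ 0 by omega) with h' | h'
      · exact DerivedCategory.isZero_of_isGE _ 0 _ h'
      · exact DerivedCategory.isZero_of_isLE _ 0 _ h'
    haveI := ModuleCat.subsingleton_of_isZero hz
    exact DualCx.Dimfun.Z_of_subsingleton p _
  let e' : Dual.HD A ω (-n) ≃ₗ[A] A := eM.toLinearEquiv
  have hT : ∀ a : A, LinearMap.toSpanSingleton A _ (e'.symm 1) a = e'.symm a := fun a => by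
    rw [LinearMap.toSpanSingleton_apply, ← map_smul, smul_eq_mul, mul_one]
  haveI : LocCoh.IsGorensteinLocalRing (Localization.AtPrime p.1) := by
    refine (DualCx.Locus.gorenstein_iff hω p).2 ⟨-n, e'.symm 1, hvan, ?_, ?_⟩
    · haveI : Subsingleton (LinearMap.ker (LinearMap.toSpanSingleton A _ (e'.symm 1))) := ⟨fun a b =>
        Subtype.ext (e'.symm.injective (((hT a.1).symm.trans a.2).trans ((hT b.1).symm.trans b.2).symm))⟩
      exact DualCx.Dimfun.Z_of_subsingleton p _
    · haveI : Subsingleton (Dual.HD A ω (-n) ⧸ LinearMap.range (LinearMap.toSpanSingleton A _ (e'.symm 1))) := by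
        refine Submodule.Quotient.subsingleton_iff.2 (eq_top_iff.2 fun y _ => ⟨e' y, (hT _).trans (e'.symm_apply_apply y)⟩)
      exact DualCx.Dimfun.Z_of_subsingleton p _
  obtain ⟨eS⟩ := stalk_equiv j p
  subst hp
  exact Gor.FlatLocal.gorenstein_of_ringEquiv eS.symm

theorem invertible_of_gorenstein [IsLocallyNoetherian X] {K : DCoh.D X} (hK : Dual2.IsDualizingSch X K)
    (h : Dual3.IsGorenstein X) : Dual3.IsInvertibleD K := by
  intro x
  obtain ⟨V, hV, hxV, -⟩ := exists_isAffineOpen_mem_and_subset (X := X) (TopologicalSpace.Opens.mem_top x)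
  let A := Γ(X, V)
  let j : Spec (CommRingCat.of A) ⟶ X := hV.fromSpec
  haveI : IsOpenImmersion j := hV.isOpenImmersion_fromSpec
  obtain ⟨p, rfl⟩ : x ∈ Set.range j.base := hV.range_fromSpec.symm ▸ hxV
  obtain ⟨ω, hω, ⟨e⟩⟩ := hK A j
  have := hω.isNoetherianRing
  haveI := (exact_tilde (CommRingCat.of A)).1
  haveI := (exact_tilde (CommRingCat.of A)).2
  obtain ⟨eS⟩ := stalk_equiv j p
  haveI := h.2 (j.base p)
  obtain ⟨j₀, m, hvan, hker, hcoker⟩ := (DualCx.Locus.gorenstein_iff hω p).1
    (Gor.FlatLocal.gorenstein_of_ringEquiv eS)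
  let T := LinearMap.toSpanSingleton A (Dual.HD A ω j₀) m
  haveI := hω.finite_cohomology j₀
  haveI : Module.Finite A (LinearMap.ker T) := Module.Finite.of_fg (IsNoetherian.noetherian _)
  let O : Set (PrimeSpectrum A) := {q | ∀ i, i ≠ j₀ → DualCx.Dimfun.Z q (DualCx.Devissage.E A ω i)} ∩
    ({q | DualCx.Dimfun.Z q (LinearMap.ker T)} ∩ {q | DualCx.Dimfun.Z q (Dual.HD A ω j₀ ⧸ LinearMap.range T)})
  have hO : IsOpen O := (DualCx.Locus.isOpen_single hω A j₀).inter
    ((DualCx.Locus.isOpen_Z _).inter (DualCx.Locus.isOpen_Z _))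
  let W : (Spec (CommRingCat.of A)).Opens := ⟨O, hO⟩
  let U : X.Opens := j ''ᵁ W
  refine ⟨U, -j₀, ⟨p, ⟨fun i hi => DualCx.Dimfun.Z_equiv (DualCx.Cx.homUnitEquivShift ω i).symm (hvan i hi),
    hker, hcoker⟩, rfl⟩, ?_⟩
  have hz : ∀ i, i ≠ j₀ → IsZero (DCoh.HD ((DCoh.restrictD U.ι).obj K) i) := by
    intro i hi
    obtain ⟨e2⟩ := DualCx.SchStalk.nonempty_homology_iso (Scheme.Modules.restrictFunctor U.ι) K i
    refine IsZero.of_iso (isZero_restrict U _ ?_) e2
    rintro _ ⟨q, hq, rfl⟩
    rw [← not_nontrivial_iff_subsingleton]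
    exact fun hn => (DualCx.SchStalk.chart j e q i).1 hn
      (DualCx.Dimfun.Z_equiv (DualCx.Cx.homUnitEquivShift ω i) (hq.1 i hi))
  let F := tilde.functor (CommRingCat.of A) ⋙ Scheme.Modules.restrictFunctor W.ι
  let f : ModuleCat.of A A ⟶ (DerivedCategory.homologyFunctor (ModuleCat.{u} A) j₀).obj ω := ModuleCat.ofHom T
  have hF : ∀ (M : ModuleCat.{u} A), (∀ q ∈ O, DualCx.Dimfun.Z q M) → IsZero (F.obj M) := by
    intro M hM
    refine isZero_restrict W _ fun q hq => ?_
    rw [← not_nontrivial_iff_subsingleton]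
    exact fun hn => (DualCx.SchStalk.nontrivial_stalk_tilde (R := CommRingCat.of A) M q).1 hn (hM q hq)
  haveI : Mono (F.map f) := Preadditive.mono_of_isZero_kernel _ (IsZero.of_iso
    (hF _ fun q hq => DualCx.Dimfun.Z_equiv (ModuleCat.kernelIsoKer f).symm.toLinearEquiv hq.2.1)
    (PreservesKernel.iso F f).symm)
  haveI : Epi (F.map f) := Preadditive.epi_of_isZero_cokernel _ (IsZero.of_iso
    (hF _ fun q hq => DualCx.Dimfun.Z_equiv (ModuleCat.cokernelIsoRangeQuotient f).symm.toLinearEquiv hq.2.2)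
    (PreservesCokernel.iso F f).symm)
  haveI := isIso_of_mono_of_epi (F.map f)
  let ι := j.isoImage W
  obtain ⟨e1⟩ := chart_homology j e j₀
  let eW : (Scheme.Modules.restrictFunctor ι.hom).obj ((Scheme.Modules.restrictFunctor U.ι).obj (DCoh.HD K j₀)) ≅
      Coh.structureModule (W : Scheme.{u}) :=
    ((Scheme.Modules.restrictFunctorComp ι.hom U.ι).app _).symm ≪≫
      (Scheme.Modules.restrictFunctorCongr (j.isoImage_hom_ι W)).app _ ≪≫
      (Scheme.Modules.restrictFunctorComp W.ι j).app _ ≪≫ (Scheme.Modules.restrictFunctor W.ι).mapIso e1 ≪≫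
      (asIso (F.map f)).symm ≪≫ (Scheme.Modules.restrictFunctor W.ι).mapIso (tildeSelf (R := CommRingCat.of A)) ≪≫
      Scheme.Modules.restrictUnitIso W.ι
  let eUH : (Scheme.Modules.restrictFunctor U.ι).obj (DCoh.HD K j₀) ≅ Coh.structureModule (U : Scheme.{u}) :=
    ((Scheme.Modules.restrictFunctorId.app _).symm ≪≫
      (Scheme.Modules.restrictFunctorCongr ι.inv_hom_id.symm).app _ ≪≫
      (Scheme.Modules.restrictFunctorComp ι.inv ι.hom).app _) ≪≫
      (Scheme.Modules.restrictFunctor ι.inv).mapIso eW ≪≫ Scheme.Modules.restrictUnitIso ι.inv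
  haveI : DerivedCategory.IsGE ((DCoh.restrictD U.ι).obj K) j₀ :=
    (DerivedCategory.isGE_iff _ _).2 fun i hi => hz i hi.ne
  haveI : DerivedCategory.IsLE ((DCoh.restrictD U.ι).obj K) j₀ :=
    (DerivedCategory.isLE_iff _ _).2 fun i hi => hz i hi.ne'
  obtain ⟨Y, ⟨eY⟩⟩ := DerivedCategory.exists_iso_singleFunctor_obj_of_isGE_of_isLE ((DCoh.restrictD U.ι).obj K) j₀
  obtain ⟨e3⟩ := DualCx.SchStalk.nonempty_homology_iso (Scheme.Modules.restrictFunctor U.ι) K j₀
  let eY' : Y ≅ Coh.structureModule (U : Scheme.{u}) :=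
    ((DerivedCategory.singleFunctorCompHomologyFunctorIso _ j₀).app Y).symm ≪≫
      (DerivedCategory.homologyFunctor _ j₀).mapIso eY.symm ≪≫ e3 ≪≫ eUH
  exact ⟨eY ≪≫ (DerivedCategory.singleFunctor _ j₀).mapIso eY' ≪≫
    (((DerivedCategory.singleFunctors (U : Scheme.{u}).Modules).shiftIso (-j₀) j₀ 0 (by omega)).app _).symm⟩

end Helpers

/-- Let X be a locally Noetherian scheme with a dualizing complex K (restriction to opens and the tilde
functors assumed exact, as in the definition of dualizing complexes on schemes). Then X is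
Gorenstein (all local rings Gorenstein) if and only if K is an invertible object of D(O_X), i.e.
locally isomorphic to a shift of the structure sheaf. -/
theorem result (X : Scheme.{u}) [IsLocallyNoetherian X] [∀ (U V : Scheme.{u}) (j : U ⟶ V) [IsOpenImmersion j], PreservesFiniteLimits (Scheme.Modules.restrictFunctor j)] [∀ (R : CommRingCat.{u}), PreservesFiniteLimits (tilde.functor R)] (K : DCoh.D X) (hK : Dual2.IsDualizingSch X K) : Dual3.IsGorenstein X ↔ Dual3.IsInvertibleD K := by
  exact ⟨fun h => invertible_of_gorenstein hK h,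
    fun h => ⟨inferInstance, fun x => gorenstein_of_invertible hK h x⟩⟩

end Groth.Agent.S3620
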