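import Groth.Statements.S3621
import Groth.Agent.DualCx.SchStalk
import Groth.Agent.Gor.FlatLocal
-- import your own Groth.Agent.* helpers here

set_option autoImplicit false
universe u
open CategoryTheory CategoryTheory.Limits AlgebraicGeometry
attribute [local instance] HasDerivedCategory.standard
open Dual3

namespace Groth.Agent.S3621

set_option backward.isDefEq.respectTransparency.types false in
theorem stalk_equiv {X : Scheme.{u}} {A : Type u} [CommRing A] (j : Spec (CommRingCat.of A) ⟶ X)
    [IsOpenImmersion j] (p : PrimeSpectrum A) :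
    Nonempty (X.presheaf.stalk (j.base p) ≃+* Localization.AtPrime p.1) :=
  ⟨((asIso (Scheme.Hom.stalkMap j p)) ≪≫ Spec.stalkIso (CommRingCat.of A) p).commRingCatIsoToRingEquiv⟩

/-- Let X be a locally Noetherian scheme which has a dualizing complex (exactness instances as in the
definition of dualizing complexes on schemes). Then the set of points x of X whose local ring
O_{X,x} is Gorenstein is open. -/
theorem result (X : Scheme.{u}) [IsLocallyNoetherian X] [∀ (U V : Scheme.{u}) (j : U ⟶ V) [IsOpenImmersion j], PreservesFiniteLimits (Scheme.Modules.restrictFunctor j)] [∀ (R : CommRingCat.{u}), PreservesFiniteLimits (tilde.functor R)] (K : DCoh.D X) (hK : Dual2.IsDualizingSch X K) : IsOpen {x : X | LocCoh.IsGorensteinLocalRing (X.presheaf.stalk x)} := by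
  refine isOpen_iff_forall_mem_open.mpr fun x hx => ?_
  obtain ⟨U, hU, hxU, -⟩ := TopologicalSpace.Opens.isBasis_iff_nbhd.mp X.isBasis_affineOpens
    (show x ∈ (⊤ : X.Opens) from trivial)
  haveI := hU.isOpenImmersion_fromSpec
  let j := hU.fromSpec
  haveI : IsOpenImmersion j := hU.isOpenImmersion_fromSpec
  obtain ⟨p, hp⟩ : x ∈ Set.range j := hU.range_fromSpec.symm ▸ hxU
  obtain ⟨ω', hω', -⟩ := hK Γ(X, U) j
  have := hω'.isNoetherianRing
  have eS : ∀ q : PrimeSpectrum Γ(X, U), Nonempty (X.presheaf.stalk (j q) ≃+* Localization.AtPrime q.1) :=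
    fun q => stalk_equiv (A := Γ(X, U)) j q
  refine ⟨j '' {q : PrimeSpectrum Γ(X, U) | LocCoh.IsGorensteinLocalRing (Localization.AtPrime q.asIdeal)}, ?_, ?_, p, ?_, hp⟩
  · rintro _ ⟨(q : PrimeSpectrum Γ(X, U)), hq, rfl⟩
    haveI : LocCoh.IsGorensteinLocalRing (Localization.AtPrime q.asIdeal) := hq
    exact Gor.FlatLocal.gorenstein_of_ringEquiv (eS q).some.symm
  · exact j.isOpenEmbedding.isOpenMap _ (DualCx.Locus.isOpen_gorenstein hω')
  · haveI : LocCoh.IsGorensteinLocalRing (X.presheaf.stalk (j p)) := hp ▸ hx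
    exact Gor.FlatLocal.gorenstein_of_ringEquiv (eS p).some

end Groth.Agent.S3621
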