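import Groth.Statements.S3622
import Groth.Agent.DualCx.SchStalk
import Groth.Agent.DualCx.Gorenstein
-- import your own Groth.Agent.* helpers here

set_option autoImplicit false
set_option backward.isDefEq.respectTransparency.types false
universe u
open CategoryTheory CategoryTheory.Limits AlgebraicGeometry
attribute [local instance] HasDerivedCategory.standard
open Dual3

namespace Groth.Agent.S3622

theorem exists_dim_bound {A : Type u} [CommRing A] [IsNoetherianRing A] {ω : Dual.D A}
    (hω : Dual.IsDualizing A ω) : ∃ d : ℕ, ringKrullDim A ≤ d := by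
  have h := DualCx.Dimfun.ringKrullDim_lt_top hω
  revert h
  rcases ringKrullDim A with _ | _ | n
  · exact fun _ => ⟨0, bot_le⟩
  · exact fun h => absurd h (lt_irrefl _)
  · exact fun _ => ⟨n, le_rfl⟩

theorem gorensteinRing_of_openImmersion {X : Scheme.{u}} (hX : Dual3.IsGorenstein X) {A : Type u} [CommRing A]
    [IsNoetherianRing A] (j : Spec (CommRingCat.of A) ⟶ X) [IsOpenImmersion j] : LocCoh.IsGorensteinRing A := by
  refine { isGorensteinLocalRing_localization := fun p hp => ?_ }
  let e : X.presheaf.stalk (j.base ⟨p, hp⟩) ≃+* Localization.AtPrime p :=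
    ((asIso (Scheme.Hom.stalkMap j ⟨p, hp⟩)) ≪≫
      Spec.stalkIso (CommRingCat.of A) ⟨p, hp⟩).commRingCatIsoToRingEquiv
  haveI := hX.2 (j.base ⟨p, hp⟩)
  exact Gor.FlatLocal.gorenstein_of_ringEquiv e

theorem restrictD_structure {X : Scheme.{u}} [∀ (U V : Scheme.{u}) (j : U ⟶ V) [IsOpenImmersion j], PreservesFiniteLimits (Scheme.Modules.restrictFunctor j)]
    [∀ (R : CommRingCat.{u}), PreservesFiniteLimits (tilde.functor R)] {A : Type u} [CommRing A]
    (j : Spec (CommRingCat.of A) ⟶ X) [IsOpenImmersion j] :
    Nonempty ((DCoh.restrictD j).obj (DCoh.inD X (Coh.structureModule X)) ≅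
      (DCoh.tildeD (CommRingCat.of A)).obj (Dual.inD A A)) := by
  haveI : (tilde.functor (CommRingCat.of A)).Additive := Functor.additive_of_preserves_binary_products _
  haveI : PreservesFiniteColimits (tilde.functor (CommRingCat.of A)) := by
    have : PreservesColimitsOfSize.{0, 0} (tilde.functor (CommRingCat.of A)) :=
      (tilde.adjunction (R := CommRingCat.of A)).leftAdjoint_preservesColimits
    exact PreservesColimitsOfSize0.preservesFiniteColimits _
  exact ⟨((Scheme.Modules.restrictFunctor j).mapDerivedCategorySingleFunctor 0).app (Coh.structureModule X) ≪≫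
    (DerivedCategory.singleFunctor (Spec (CommRingCat.of A)).Modules 0).mapIso
      (Scheme.Modules.restrictUnitIso j ≪≫ (tildeSelf (R := CommRingCat.of A)).symm) ≪≫
    (((tilde.functor (CommRingCat.of A)).mapDerivedCategorySingleFunctor 0).app (ModuleCat.of A A)).symm⟩

/-- Let X be a Gorenstein scheme (exactness instances as in the definition of dualizing complexes on
schemes). Then X has a dualizing complex if and only if the structure sheaf placed in degree 0 is a
dualizing complex on X. -/
theorem result (X : Scheme.{u}) (hX : Dual3.IsGorenstein X) [∀ (U V : Scheme.{u}) (j : U ⟶ V) [IsOpenImmersion j], PreservesFiniteLimits (Scheme.Modules.restrictFunctor j)] [∀ (R : CommRingCat.{u}), PreservesFiniteLimits (tilde.functor R)] : (∃ K : DCoh.D X, Dual2.IsDualizingSch X K) ↔ Dual2.IsDualizingSch X (DCoh.inD X (Coh.structureModule X)) := by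
  refine ⟨fun ⟨K, hK⟩ => fun A _ j _ => ?_, fun h => ⟨_, h⟩⟩
  obtain ⟨ω, hω, -⟩ := hK A j
  have := hω.isNoetherianRing
  obtain ⟨d, hd⟩ := exists_dim_bound hω
  exact ⟨Dual.inD A A, DualCx.Gorenstein.isDualizing_of_isGorensteinRing (gorensteinRing_of_openImmersion hX j) hd,
    restrictD_structure j⟩

end Groth.Agent.S3622
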