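import Groth.Statements.S3627
import Groth.Agent.AlgSp.GorNoeth
import Groth.Agent.FlatMor.CMFlat
-- import your own Groth.Agent.* helpers here

set_option autoImplicit false
universe u
open CategoryTheory CategoryTheory.Limits AlgebraicGeometry
attribute [local instance] HasDerivedCategory.standard
open Dual3

namespace Groth.Agent.S3627

/-- Let f : X → Y and g : Y → Z be morphisms such that the fibres of f, g and g ∘ f are locally
Noetherian, and let x be a point of X. (1) The composite g ∘ f is Gorenstein at x provided f is so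
at x and g is so at f(x). (3) Conversely, if f is flat at x and the composite is Gorenstein there,
then both factors are Gorenstein: f at x, and g at f(x). -/
theorem result (X Y Z : Scheme.{u}) (f : X ⟶ Y) (g : Y ⟶ Z) (hfibf : ∀ y, IsLocallyNoetherian (f.fiber y)) (hfibg : ∀ y, IsLocallyNoetherian (g.fiber y)) (hfibfg : ∀ z, IsLocallyNoetherian ((f ≫ g).fiber z)) (x : X) : (Dual3.IsGorensteinAt f x → Dual3.IsGorensteinAt g (f x) → Dual3.IsGorensteinAt (f ≫ g) x) ∧ (Dual3.IsGorensteinAt (f ≫ g) x → (f.stalkMap x).hom.Flat → Dual3.IsGorensteinAt f x ∧ Dual3.IsGorensteinAt g (f x)) := by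
  have hN : ∀ {U V : Scheme.{u}} (h : U ⟶ V), (∀ v, IsLocallyNoetherian (h.fiber v)) → ∀ u : U,
      IsNoetherianRing (U.presheaf.stalk u ⧸ Groth.Agent.AlgSp.GorCore.fibIdeal h u) :=
    fun h hh u => Groth.Agent.FlatMor.CMFlat.isNoetherianRing_quot h u (hh _)
  refine ⟨fun h1 h2 => (Groth.Agent.AlgSp.GorCore.isGorensteinAt_comp_iff f g x h1.1 (hN g hfibg _) (hN _ hfibfg _)).2 ⟨h2, h1⟩,
    fun h hf => ?_⟩
  exact ((Groth.Agent.AlgSp.GorCore.isGorensteinAt_comp_iff f g x hf (hN g hfibg _) (hN _ hfibfg _)).1 h).symm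

end Groth.Agent.S3627
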