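import Groth.Statements.S3629
import Groth.Agent.CohOps.LpullDual
import Groth.Agent.Gor.LCIFibre
-- import your own Groth.Agent.* helpers here

set_option autoImplicit false
set_option backward.isDefEq.respectTransparency.types false
universe u
open CategoryTheory CategoryTheory.Limits AlgebraicGeometry
attribute [local instance] HasDerivedCategory.standard
open Dual3

namespace Groth.Agent.S3629

theorem isGorensteinAt_of_lci {X Y : Scheme.{u}} [IsLocallyNoetherian X] [IsLocallyNoetherian Y] (f : X ⟶ Y)
    [Flat f] [LocallyOfFiniteType f] (hf : Dual3.IsLCIMor f) (x : X) : Dual3.IsGorensteinAt f x := by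
  obtain ⟨U, V, e, hx, hl⟩ := hf x
  letI := (f.appLE V.1 U.1 e).hom.toAlgebra
  haveI : Module.Flat Γ(Y, V.1) Γ(X, U.1) := HasRingHomProperty.appLE @Flat f inferInstance V U e
  haveI := U.2.isOpenImmersion_fromSpec
  haveI := V.2.isOpenImmersion_fromSpec
  haveI : IsNoetherianRing Γ(X, U.1) := IsLocallyNoetherian.component_noetherian U
  haveI : IsNoetherianRing Γ(Y, V.1) := IsLocallyNoetherian.component_noetherian V
  have hfac : U.2.fromSpec ≫ f = Spec.map (CommRingCat.ofHom (algebraMap Γ(Y, V.1) Γ(X, U.1))) ≫ V.2.fromSpec :=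
    (IsAffineOpen.SpecMap_appLE_fromSpec f V.2 U.2 e).symm
  obtain ⟨q, hq⟩ : x ∈ Set.range U.2.fromSpec.base := U.2.range_fromSpec.symm ▸ hx
  subst hq
  rw [← AlgSp.GorCore.isGorensteinAt_precomp U.2.fromSpec f q (CohOps.GorOpen.noeth_quot f _)
    (CohOps.GorOpen.noeth_quot (U.2.fromSpec ≫ f) _), hfac, AlgSp.GorCore.isGorensteinAt_postcomp]
  refine (CohOps.GorOpen.isGorensteinAt_Spec_iff q).2 ?_
  exact DualCx.GorFibre.gorenstein_quotient q.asIdeal (Gor.LCI.isGorensteinRing_fiber hl _)

/-- Let f : X → Y be a surjective flat local complete intersection morphism between locally Noetherian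
schemes, with derived pullback Lf^* (assumed to exist; exactness instances as in the definition of
dualizing complexes). Then, for K in D_QCoh(O_Y), K is dualizing on Y precisely when the pulled-back
complex Lf^*K is dualizing on X. -/
theorem result (X Y : Scheme.{u}) [IsLocallyNoetherian X] [IsLocallyNoetherian Y] [∀ (U V : Scheme.{u}) (j : U ⟶ V) [IsOpenImmersion j], PreservesFiniteLimits (Scheme.Modules.restrictFunctor j)] [∀ (R : CommRingCat.{u}), PreservesFiniteLimits (tilde.functor R)] (f : X ⟶ Y) [Surjective f] [Flat f] (hf : Dual3.IsLCIMor f) [DCoh.HasLpull f] (K : DCoh.DQCoh Y) : Dual2.IsDualizingSch Y K.obj ↔ Dual2.IsDualizingSch X ((DCoh.Lpull f).obj K.obj) := by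
  haveI : LocallyOfFiniteType f := by
    refine (HasRingHomProperty.iff_exists_appLE (P := @LocallyOfFiniteType) (RingHom.finiteType_stableUnderComposition.stableUnderCompositionWithLocalizationAway RingHom.finiteType_holdsForLocalizationAway).left).2 fun x => ?_
    obtain ⟨U, V, e, hx, hl⟩ := hf x
    exact ⟨V, U, hx, e, hl.1⟩
  have hG : Dual3.IsGorensteinMor f := fun x => isGorensteinAt_of_lci f hf x
  exact ⟨fun hK => CohOps.LpullDual.isDualizingSch_Lpull f hG hK,
    fun hK => CohOps.LpullDual.isDualizingSch_of_Lpull f K.property hK⟩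

end Groth.Agent.S3629
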