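import Groth.Statements.S3633
import Groth.Agent.Dual3RHom.Reflect
import Groth.Agent.KFlat.RHomCoh
import Groth.Agent.KFlat.RHomExists

set_option autoImplicit false
universe u
open CategoryTheory CategoryTheory.Limits AlgebraicGeometry
attribute [local instance] HasDerivedCategory.standard
open Dual3

namespace Groth.Agent.S3633

/-- Let i : Z → X be a closed immersion with X locally Noetherian and R Hom(O_Z, -) : D^+(O_X) →
D^+(O_Z) the right derived functor of the right adjoint of i_* (injective resolutions assumed). If K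
in D^+(O_X) has coherent cohomology sheaves then so does R Hom(O_Z, K). -/
theorem result (Z X : Scheme.{u}) [IsLocallyNoetherian X] (i : Z ⟶ X) [IsClosedImmersion i] [Dual3.HasHomO i] [EnoughInjectives X.Modules] (K : DerivedCategory.Plus X.Modules) (hK : DCoh.IsCohD K.obj) : DCoh.IsCohD ((Dual3.RHomOPlus i).obj K).obj := by
  intro j
  have := KFlat.LTensor.hasLTensorCx (Dual3RHom.Closed.E0 i)
  have := KFlat.RHomExists.hasRSheafHom (Dual3RHom.Closed.E0 i)
  obtain ⟨e⟩ := Dual3RHom.Reflect.nonempty_HD_iso i K j
  obtain ⟨a, ha⟩ := K.property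
  refine Dual3RHom.Reflect.isCoh_of_push i (CohDev.isCoh_of_iso e.symm ?_)
  exact KFlat.RHomCoh.isCoh_HD_RSheafHom (Dual3RHom.Closed.E0 i) (a - j - 1)
    (Dual3RHom.Reflect.isPseudoCoherentD_M0 i _) K.obj hK a j (by omega)

end Groth.Agent.S3633
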