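import Groth.Statements.S3639
import Groth.Agent.Dual3RHom.Reflect
import Groth.Agent.InjMod.ExtDivisor
import Groth.Agent.InjMod.ExtRegImmGlobal
import Groth.Agent.EulerChar.Cartier
import Groth.Agent.ModShf.GrothAb
import Groth.Agent.GrothSS.Main
import Groth.Agent.S6620
-- import your own Groth.Agent.* helpers here

set_option autoImplicit false
universe u
open CategoryTheory CategoryTheory.Limits AlgebraicGeometry
attribute [local instance] HasDerivedCategory.standard
open Dual3

namespace Groth.Agent.S3639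

theorem nonempty_homology_single {B : Type*} [Category B] [Abelian B] [HasDerivedCategory B] [EnoughInjectives B]
    {C : Type*} [Category C] [Abelian C] [HasDerivedCategory C] (F : B ⥤ C) [F.Additive]
    (X : B) (Y : DerivedCategory.Plus B) (e : Y.obj ≅ (DerivedCategory.singleFunctor B 0).obj X) (k : ℕ) :
    Nonempty ((DerivedCategory.homologyFunctor C (k : ℤ)).obj (F.rightDerivedFunctorPlus.obj Y).obj ≅
      (F.rightDerived k).obj X) := by
  let I : InjectiveResolution X := Classical.choice (HasInjectiveResolution.out (Z := X))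
  let L : CochainComplex.Plus (InjectiveObject B) :=
    ⟨HomologicalComplex.liftObjectProperty _ I.cochainComplex
      (fun i => inferInstanceAs (Injective (I.cochainComplex.X i))), ⟨0,
      (CochainComplex.isStrictlyGE_mapHomologicalComplex_obj_iff _ (InjectiveObject.ι B) 0).1
        (inferInstanceAs (I.cochainComplex.IsStrictlyGE 0))⟩⟩
  let J := DerivedCategory.Plus.Q.obj ((InjectiveObject.ι B).mapCochainComplexPlus.obj L)
  let eJ : J.obj ≅ (DerivedCategory.singleFunctor B 0).obj X :=
    (DerivedCategory.quotientCompQhIso B).app I.cochainComplex ≪≫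
      (asIso (DerivedCategory.Q.map I.ι')).symm ≪≫
      ((DerivedCategory.singleFunctorIsoCompQ B 0).app X).symm
  have e' : Y ≅ J := (DerivedCategory.Plus.ι (C := B)).preimageIso (e ≪≫ eJ.symm)
  obtain ⟨e₂⟩ := Groth.Agent.GrothSS.Main.nonempty_homology_resolution F I k
  exact ⟨(DerivedCategory.homologyFunctor C (k : ℤ)).mapIso
      ((DerivedCategory.Plus.ι).mapIso (F.rightDerivedFunctorPlus.mapIso e' ≪≫
        ((Groth.Agent.RDPlus.Basic.injIso F).app
          ((HomotopyCategory.Plus.quotient _).obj L)).symm) ≪≫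
        (DerivedCategory.quotientCompQhIso C).app _) ≪≫
    (DerivedCategory.homologyFunctorFactors C (k : ℤ)).app _ ≪≫ e₂⟩

theorem isRegImm {X : Scheme.{u}} (I : X.IdealSheafData) (hI : BlowUp.IsEffCartierIdeal I) :
    RegImm.IsRegularImmersionOfCodim RegImm.Kind.regular 1 I.subschemeι := by
  refine ⟨inferInstance, fun z => ?_⟩
  obtain ⟨U, hz, f, hf, he⟩ := hI (I.subschemeι z)
  refine ⟨U, hz, IsZariskiLocalAtTarget.restrict (P := @IsClosedImmersion) (inferInstanceAs (IsClosedImmersion I.subschemeι)) U.1, [f], rfl, ?_, ?_⟩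
  · refine ⟨(RingTheory.Sequence.isWeaklyRegular_cons_iff _ f []).2 ⟨?_, .nil _ _⟩, ?_⟩
    · exact fun a b hab => sub_eq_zero.1 ((mem_nonZeroDivisors_iff_right.mp hf) _
        (by rw [mul_comm, mul_sub, sub_eq_zero]; exact hab))
    · intro h
      have htop : I.ideal U = ⊤ := by
        rw [he, ← Ideal.ofList_singleton]
        simpa [smul_eq_mul] using h.symm
      have hmem : I.subschemeι z ∈ (I.support : Set X) ∩ U.1 :=
        ⟨I.range_subschemeι ▸ ⟨z, rfl⟩, hz⟩
      rw [I.coe_support_inter U, htop] at hmem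
      simp at hmem
  · rw [I.ker_subschemeι_app U, he, Ideal.ofList_singleton]

/-- Let X be a scheme and D ⊆ X an effective Cartier divisor, given by its ideal sheaf I (locally
generated by one nonzerodivisor) with closed immersion i : D → X; let L be an O_X-module inverse to
I for the tensor product (the module O_X(D)) and N = i^*L the normal sheaf. Let R Hom(O_D, -) :
D^+(O_X) → D^+(O_D) be the right derived functor of the right adjoint of i_* (assumed to exist,
injective resolutions assumed) and O an object of D^+(O_X) isomorphic to the structure sheaf in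
degree 0. Then H^j(R Hom(O_D, O)) = 0 for j ≠ 1 and H^1(R Hom(O_D, O)) is isomorphic to N; that is,
R Hom(O_D, O_X) = N[-1]. -/
theorem result (X : Scheme.{u}) (I : X.IdealSheafData) (hI : BlowUp.IsEffCartierIdeal I) [Dual3.HasHomO I.subschemeι] [EnoughInjectives X.Modules] (L : X.Modules) (hL : ClSub.IsInverseOf L (ClSub.idealMod I)) (O : DerivedCategory.Plus X.Modules) (hO : Nonempty (O.obj ≅ DCoh.inD X (Coh.structureModule X))) : (∀ j : ℤ, j ≠ 1 → IsZero (DCoh.HD ((Dual3.RHomOPlus I.subschemeι).obj O).obj j)) ∧ Nonempty (DCoh.HD ((Dual3.RHomOPlus I.subschemeι).obj O).obj 1 ≅ (Scheme.Modules.pullback I.subschemeι).obj L) := by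
  classical
  let i := I.subschemeι
  let O₀ := Coh.structureModule I.subscheme
  obtain ⟨eO⟩ := hO
  obtain ⟨h⟩ := hL
  have : HasInjectiveResolutions X.Modules := ModShf.hasInjectiveResolutions _
  have : HasInjectiveResolutions (ModSite.Mod X.sheaf) := ModShf.hasInjectiveResolutions _
  have hsh : ModSite.HasSheafHom (O := X.sheaf) ((Scheme.Modules.pushforward i).obj O₀) :=
    KFlat.hasSheafHom X.sheaf _
  let eT : ChgRings.T i O₀ ≅ Dual3.homO i :=
    ((ChgRings.adjT i O₀).ofNatIsoLeft (Functor.isoWhiskerRight (KFlat.ProjFormula.unitRight I.subscheme)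
      (Scheme.Modules.pushforward i) ≪≫ Functor.leftUnitor _)).rightAdjointUniq (Dual3.homOAdj i)
  have hreg := isRegImm I hI
  have key : ∀ k : ℕ, Nonempty ((Scheme.Modules.pushforward i).obj
      (DCoh.HD ((Dual3.RHomOPlus i).obj O).obj (k : ℤ)) ≅
      ((InjMod.homF ((Scheme.Modules.pushforward i).obj O₀)).rightDerived k).obj (Coh.structureModule X)) := by
    intro k
    obtain ⟨e₁⟩ := nonempty_homology_single (Dual3.homO i) (Coh.structureModule X) O eO k
    exact ⟨(Scheme.Modules.pushforward i).mapIso (e₁ ≪≫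
      ((ExtSuppLib.rightDerivedMapIso eT k).app _).symm) ≪≫
      (ChgRings.pushDerivedTIso i O₀ k).app _⟩
  refine ⟨fun j hj => ?_, ?_⟩
  · rcases lt_or_ge j 0 with hneg | hpos
    · have : DerivedCategory.IsGE O.obj 0 :=
        DerivedCategory.TStructure.t.isGE_of_iso eO.symm 0
      have : O.IsGE 0 := (DerivedCategory.Plus.isGE_ι_obj_iff _ _).1 this
      have h2 := Groth.Agent.S6620.result (Dual3.homO i) O 0
      have h3 : ((Dual3.RHomOPlus i).obj O).obj.IsGE 0 := (DerivedCategory.Plus.isGE_ι_obj_iff _ _).2 h2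
      exact DerivedCategory.isZero_of_isGE _ 0 j hneg
    · obtain ⟨k, rfl⟩ := Int.eq_ofNat_of_zero_le hpos
      obtain ⟨e⟩ := key k
      have hz := (InjMod.isZero_ext_unit i hreg k (by omega)).of_iso e
      rw [IsZero.iff_id_eq_zero]
      exact (Props.KilledSub.fullyFaithful i).map_injective (hz.eq_of_src _ _)
  · obtain ⟨e⟩ := key 1
    obtain ⟨e'⟩ := InjMod.nonempty_extSh_one_iso (ClSub.idealModι I) (ClSub.toSubscheme I)
      (kernel.condition _) (EulerChar.shortExact_ideal I) h (Coh.structureModule X)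
    exact ⟨(Props.KilledSub.fullyFaithful i).preimageIso (e ≪≫ e' ≪≫
      ((ModSite.tensorBi X.sheaf).obj _).mapIso ((KFlat.ProjFormula.unitRight X).app L) ≪≫
      ChgRings.commIso _ L ≪≫ (Dual3RHom.Closed.modIso i).app L)⟩

end Groth.Agent.S3639
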