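import Groth.Statements.S3665
import Groth.Agent.CohOps.Sections

open Groth.Agent

set_option autoImplicit false
universe u
open CategoryTheory CategoryTheory.Limits AlgebraicGeometry
attribute [local instance] HasDerivedCategory.standard
open Dual3

namespace Groth.Agent.S3665

/-- Let X be proper over a field k, I a quasi-coherent ideal with vanishing locus Z and F a coherent
O_X-module, so that H^0_c(X ∖ Z, F) = lim_n H^0(X, I^n F) = ⋂_n Γ(X, I^n F) inside Γ(X, F). Then a
global section s of F lies in the image of Γ(X, I^n F) for every n if and only if s restricts to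
zero on some open neighbourhood of Z. -/
theorem result (k : Type u) [Field k] (X : Scheme.{u}) (f : X ⟶ Spec (CommRingCat.of k)) [IsProper f] (I : X.IdealSheafData) (F : X.Modules) (hF : Coh.IsCoh F) (s : F.val.obj (Opposite.op ⊤)) : (∀ n : ℕ, ∃ t : ((Dual3.idealMul (I ^ n)).obj F).val.obj (Opposite.op ⊤), (Dual3.idealMulι (I ^ n) F).val.app (Opposite.op ⊤) t = s) ↔ ∃ V : X.Opens, I.supportSet ⊆ (V : Set X) ∧ F.val.map (homOfLE le_top : V ⟶ ⊤).op s = 0 := by
  haveI : IsNoetherian X := by
    haveI : IsLocallyNoetherian X := LocallyOfFiniteType.isLocallyNoetherian f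
    haveI : CompactSpace X := QuasiCompact.compactSpace_of_compactSpace f
    exact ⟨⟩
  haveI : F.IsQuasicoherent := hF.1
  constructor
  · intro h
    have key : ∀ x ∈ I.supportSet, ∃ O : X.Opens, x ∈ O ∧ QCoh.res F (le_top : O ≤ ⊤) s = 0 := by
      intro x hx
      obtain ⟨W, hW, hxW, -⟩ := exists_isAffineOpen_mem_and_subset (X := X) (TopologicalSpace.Opens.mem_top x)
      let W' : X.affineOpens := ⟨W, hW⟩
      haveI := IsLocallyNoetherian.component_noetherian W'
      haveI := CohDev.finite_sections hF hW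
      have hs : QCoh.res F (le_top : W ≤ ⊤) s ∈ (⨅ n : ℕ, I.ideal W' ^ n • (⊤ : Submodule Γ(X, W) Γ(F, W))) := by
        rw [Submodule.mem_iInf]
        intro n
        obtain ⟨t, ht⟩ := h n
        have h1 := CohOps.Sections.range_idealMulι (I ^ n) F W'
        rw [Scheme.IdealSheafData.ideal_pow, Pi.pow_apply] at h1
        refine h1.le ⟨QCoh.res _ (le_top : W ≤ ⊤) t, ?_⟩
        have h2 := ConcreteCategory.congr_hom
          ((Dual3.idealMulι (I ^ n) F).mapPresheaf.naturality (homOfLE (le_top : W ≤ ⊤)).op) t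
        exact h2.trans (congrArg (QCoh.res F (le_top : W ≤ ⊤)) ht)
      obtain ⟨r, hr⟩ := (Ideal.mem_iInf_smul_pow_eq_bot_iff _ _).1 hs
      refine ⟨X.basicOpen (1 - r.1), ?_, ?_⟩
      · rw [Scheme.mem_basicOpen X (1 - r.1) x hxW, map_sub, map_one]
        have hxz : x ∈ X.zeroLocus (U := W) (I.ideal W' : Set Γ(X, W)) :=
          ((Set.ext_iff.mp (I.coe_support_inter W') x).mp ⟨hx, hxW⟩).1
        have hnu : ¬ IsUnit (X.presheaf.germ W x hxW r.1) := fun hu =>
          (Scheme.mem_zeroLocus_iff (X := X) _ x).1 hxz r.1 r.2 ((Scheme.mem_basicOpen X r.1 x hxW).2 hu)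
        exact IsLocalRing.isUnit_one_sub_self_of_mem_nonunits _ hnu
      · have hkill : (1 - r.1) • QCoh.res F (le_top : W ≤ ⊤) s = 0 := by rw [sub_smul, one_smul, hr, sub_self]
        have hu : IsUnit (X.presheaf.map (homOfLE (X.basicOpen_le (1 - r.1))).op (1 - r.1)) :=
          RingedSpace.isUnit_res_basicOpen _ _
        have h2 := congrArg (QCoh.res F (X.basicOpen_le (1 - r.1))) hkill
        rw [QCoh.res_smul, QCoh.res_res, map_zero] at h2
        exact hu.smul_eq_zero.1 h2
    choose O hxO hO using key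
    refine ⟨⨆ x : I.supportSet, O x.1 x.2, fun x hx => TopologicalSpace.Opens.mem_iSup.2 ⟨⟨x, hx⟩, hxO x hx⟩, ?_⟩
    refine TopCat.Sheaf.eq_of_locally_eq' ⟨F.presheaf, F.isSheaf⟩ (fun x : I.supportSet => O x.1 x.2) _
      (fun x => homOfLE (le_iSup (fun x : I.supportSet => O x.1 x.2) x)) le_rfl _ _ (fun x => ?_)
    refine Eq.trans ?_ (map_zero _).symm
    exact (QCoh.res_res F le_top (le_iSup (fun x : I.supportSet => O x.1 x.2) x) s).trans (hO x.1 x.2)
  · rintro ⟨V, hV, hs⟩ n
    let J := I ^ n
    let η := (Scheme.Modules.pullbackPushforwardAdjunction J.subschemeι).unit.app F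
    let S := ShortComplex.mk (Dual3.idealMulι J F) η (kernel.condition _)
    have hS : S.Exact := S.exact_of_f_is_kernel (kernelIsKernel _)
    haveI : Mono S.f := inferInstanceAs (Mono (kernel.ι η))
    refine QCoh.exists_app_eq_of_app_eq_zero S hS ⊤ s ?_
    have hle : J.subschemeι ⁻¹ᵁ V = ⊤ := by
      refine top_unique fun z _ => hV ?_
      have hz : J.subschemeι z ∈ (J.support : Set X) := J.range_subschemeι.le ⟨z, rfl⟩
      rcases Nat.eq_zero_or_pos n with hn | hn
      · exfalso
        have hJ : J.support = ⊥ := by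
          show (I ^ n).support = ⊥
          rw [hn, pow_zero]
          exact Scheme.IdealSheafData.support_top
        exact Set.notMem_empty (J.subschemeι z) (by simpa [hJ] using hz)
      · rw [show J.support = I.support from I.support_pow n hn.ne'] at hz
        exact hz
    have h1 := ConcreteCategory.congr_hom (η.mapPresheaf.naturality (homOfLE (le_top : V ≤ ⊤)).op) s
    have h2 : ((Scheme.Modules.pushforward J.subschemeι).obj
        ((Scheme.Modules.pullback J.subschemeι).obj F)).presheaf.map (homOfLE (le_top : V ≤ ⊤)).op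
          (η.app ⊤ s) = 0 := h1.symm.trans ((congrArg (η.app V) hs).trans (map_zero _))
    haveI : IsIso (homOfLE (show J.subschemeι ⁻¹ᵁ V ≤ J.subschemeι ⁻¹ᵁ ⊤ from J.subschemeι.preimage_mono le_top)) := by
      refine ⟨homOfLE ?_, rfl, rfl⟩
      rw [hle]
      exact le_top
    refine (map_eq_zero_iff _ (ConcreteCategory.bijective_of_isIso
      (((Scheme.Modules.pullback J.subschemeι).obj F).presheaf.map
        (homOfLE (show J.subschemeι ⁻¹ᵁ V ≤ J.subschemeι ⁻¹ᵁ ⊤ from J.subschemeι.preimage_mono le_top)).op)).1).1 ?_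
    exact h2

end Groth.Agent.S3665
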