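import Groth.Statements.S3669
import Groth.Agent.Props.KilledSub

set_option autoImplicit false
universe u
open CategoryTheory CategoryTheory.Limits AlgebraicGeometry
attribute [local instance] HasDerivedCategory.standard
open Dual3

namespace Groth.Agent.S3669

/-- Let i : Z → X be a closed immersion of schemes with ideal sheaf I, Hom(O_Z, -) a right adjoint of
i_* on modules (it exists; here the chosen one) with counit i_* Hom(O_Z, F) → F. Then for every
O_X-module F and every affine open U ⊆ X, the counit on sections over U, Γ(i⁻¹U, Hom(O_Z, F)) → Γ(U,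
F), is injective with image exactly the sections s of F over U with I(U) · s = 0. -/
theorem result (Z X : Scheme.{u}) (i : Z ⟶ X) [IsClosedImmersion i] [Dual3.HasHomO i] (F : X.Modules) (U : X.affineOpens) : Function.Injective ⇑(ConcreteCategory.hom (((Dual3.homOAdj i).counit.app F).val.app (Opposite.op U.1))) ∧ Set.range ⇑(ConcreteCategory.hom (((Dual3.homOAdj i).counit.app F).val.app (Opposite.op U.1))) = ((LocCoh.torsionBy (i.ker.ideal U) (F.val.obj (Opposite.op U.1)) : Submodule Γ(X, U.1) (F.val.obj (Opposite.op U.1))) : Set (F.val.obj (Opposite.op U.1))) := by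
  obtain ⟨e, he⟩ := Groth.Agent.Props.KilledSub.exists_iso_counit i F
  let c := ((Dual3.homOAdj i).counit.app F).app U.1
  have hc : ⇑(ConcreteCategory.hom c) =
      ⇑(ConcreteCategory.hom ((Groth.Agent.Props.KilledSub.ι i F).app U.1)) ∘
        ⇑(ConcreteCategory.hom (e.hom.app U.1)) := by
    funext s
    simp only [c, ← he]
    rfl
  have hb : Function.Bijective (e.hom.app U.1) :=
    (ConcreteCategory.isIso_iff_bijective _).mp inferInstance
  change Function.Injective ⇑(ConcreteCategory.hom c) ∧ Set.range ⇑(ConcreteCategory.hom c) = _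
  rw [hc]
  refine ⟨(Groth.Agent.Props.SubSheaf.incl_injective _ U.1).comp hb.1, ?_⟩
  rw [Set.range_comp, hb.2.range_eq, Set.image_univ]
  ext m
  refine (Groth.Agent.Props.KilledSub.mem_range_iff i U m).trans ?_
  refine Iff.trans ?_ (Submodule.mem_torsionBySet_iff (M := F.val.obj (Opposite.op U.1)) _ _).symm
  exact ⟨fun h a => h a.1 a.2, fun h a ha => h ⟨a, ha⟩⟩

end Groth.Agent.S3669
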