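import Groth.Statements.S4267
import Groth.Agent.PCohD.TorComp
import Groth.Agent.PCohD.PerfAmp
import Groth.Agent.PerfExt.Affine
import Groth.Agent.PerfTri.Bounded
import Groth.Agent.EtShriekLib.Proper
import Groth.Agent.CohDev.Coh
import Groth.Agent.FlatMor.PC.Stalks
import Groth.Agent.S7256
import Groth.Agent.S6508
import Groth.Agent.S1513
set_option autoImplicit false
universe u
open CategoryTheory CategoryTheory.Limits AlgebraicGeometry
attribute [local instance] HasDerivedCategory.standard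
open KSix

namespace Groth.Agent.S4267

open Groth.Agent.DRing Groth.Agent.PCohD
open scoped TensorProduct

/-- Uniform version of `finTorDim_of_localization_base`. -/
theorem hasTorDimLE_localization_base {A A' C : Type u} [CommRing A] [CommRing A'] [CommRing C]
    [Algebra A A'] [Algebra A C] [Algebra A' C] [IsScalarTower A A' C] (M : Submonoid A)
    [IsLocalization M A'] {d : ℕ} (h : DRing.HasTorDimLE A d C) : DRing.HasTorDimLE A' d C := by
  have : Module.Flat A A' := IsLocalization.flat A' M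
  have : IsLocalization (Algebra.algebraMapSubmonoid C M) C := by
    refine IsLocalization.self ?_
    rintro _ ⟨m, hm, rfl⟩
    rw [IsUnit.mem_submonoid_iff, IsScalarTower.algebraMap_apply A A' C]
    exact (IsLocalization.map_units A' (⟨m, hm⟩ : M)).map _
  have : Algebra.IsPushout A A' C C := (Algebra.isPushout_of_isLocalization M A' C C).symm
  have hb : IsBaseChange A' (IsScalarTower.toAlgHom A C C).toLinearMap := Algebra.IsPushout.out
  exact FlatMor.PC.hasTorDimLE_congr hb.equiv (FlatMor.PC.hasTorDimLE_tensor h)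

/-- Stalks of a perfect morphism on an affine chart have tor dimension bounded by that of the chart. -/
theorem hasTorDimLE_stalk {X S : Scheme.{u}} (f : X ⟶ S) {U : X.Opens} {V : S.Opens}
    (hU : IsAffineOpen U) (hV : IsAffineOpen V) (e : U ≤ f ⁻¹ᵁ V) {d : ℕ}
    (h : letI := (f.appLE V U e).hom.toAlgebra
      DRing.HasTorDimLE Γ(S, V) d Γ(X, U)) (x : X) (hxU : x ∈ U) :
    letI := (f.stalkMap x).hom.toAlgebra
    DRing.HasTorDimLE ↑(S.presheaf.stalk (f x)) d ↑(X.presheaf.stalk x) := by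
  have hxV : f x ∈ V := e hxU
  let := (f.appLE V U e).hom.toAlgebra
  let := S.presheaf.algebra_section_stalk (⟨f x, hxV⟩ : V)
  let := X.presheaf.algebra_section_stalk (⟨x, hxU⟩ : U)
  let := (f.stalkMap x).hom.toAlgebra
  let : Algebra Γ(S, V) ↑(X.presheaf.stalk x) :=
    ((algebraMap Γ(X, U) ↑(X.presheaf.stalk x)).comp (f.appLE V U e).hom).toAlgebra
  have : IsScalarTower Γ(S, V) Γ(X, U) ↑(X.presheaf.stalk x) :=
    IsScalarTower.of_algebraMap_eq fun _ => rfl
  have : IsScalarTower Γ(S, V) ↑(S.presheaf.stalk (f x)) ↑(X.presheaf.stalk x) := by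
    refine IsScalarTower.of_algebraMap_eq fun r => ?_
    exact (congr($(Scheme.Hom.germ_stalkMap f V x hxV).hom r).trans
      (by simp [RingHom.algebraMap_toAlgebra, Scheme.Hom.appLE, TopCat.Presheaf.germ_res_apply])).symm
  have : IsLocalization.AtPrime ↑(S.presheaf.stalk (f x)) (hV.primeIdealOf ⟨f x, hxV⟩).asIdeal :=
    hV.isLocalization_stalk ⟨f x, hxV⟩
  have : IsLocalization.AtPrime ↑(X.presheaf.stalk x) (hU.primeIdealOf ⟨x, hxU⟩).asIdeal :=
    hU.isLocalization_stalk ⟨x, hxU⟩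
  have : Module.Flat Γ(X, U) ↑(X.presheaf.stalk x) :=
    IsLocalization.flat _ (hU.primeIdealOf ⟨x, hxU⟩).asIdeal.primeCompl
  exact hasTorDimLE_localization_base (hV.primeIdealOf ⟨f x, hxV⟩).asIdeal.primeCompl
    (FlatMor.PC.hasTorDimLE_trans h (FlatMor.PC.hasTorDimLE_of_flat 0 _))

/-- The unit has tor amplitude `[-d, 0]` where the local ring has tor dimension `≤ d`. -/
theorem unit_amp_at {X S : Scheme.{u}} (f : X ⟶ S) (x : X) {d : ℕ}
    (h : letI := (f.stalkMap x).hom.toAlgebra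
      DRing.HasTorDimLE ↑(S.presheaf.stalk (f x)) d ↑(X.presheaf.stalk x)) :
    DerSch.HasTorAmplitudeAt f (-(d : ℤ)) 0 (DerSch.unitCx X) x := by
  let := (f.stalkMap x).hom.toAlgebra
  obtain ⟨ε⟩ := Groth.Agent.DRing.PointHom.exists_unitStalkEquiv x
  have h' := (TorBalance.hasTorDimLE_iff d _).1 h
  refine TorAmp.torAmp_of_iso ((TorBalance.inDS0 _).symm ≪≫ DerivedCategory.Q.mapIso
    ((HomologicalComplex.single (ModuleCat.{u} (S.presheaf.stalk (f x))) (ComplexShape.up ℤ) 0).mapIso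
      ((ModuleCat.restrictScalars.{u} (f.stalkMap x).hom).mapIso ε.toModuleIso.symm) ≪≫
    ((HomologicalComplex.singleMapHomologicalComplex (DerSch.stalkOver f x) (ComplexShape.up ℤ) 0).app
      (Coh.structureModule X)).symm)) h'

/-- A perfect morphism with quasi-compact source has finite tor amplitude. -/
theorem exists_unit_amp {X S : Scheme.{u}} [CompactSpace X] (f : X ⟶ S) (hf : MoreMor.IsPerfectMor f) :
    ∃ d : ℕ, DerSch.HasTorAmplitude f (-(d : ℤ)) 0 (DerSch.unitCx X) := by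
  have hloc : ∀ x : X, ∃ U : X.Opens, x ∈ U ∧ ∃ d : ℕ, ∀ y ∈ U,
      DerSch.HasTorAmplitudeAt f (-(d : ℤ)) 0 (DerSch.unitCx X) y := fun x => by
    obtain ⟨V, hV, hxV, -⟩ := exists_isAffineOpen_mem_and_subset (show f x ∈ (⊤ : S.Opens) from trivial)
    obtain ⟨U, hU, hxU, e⟩ := exists_isAffineOpen_mem_and_subset (show x ∈ f ⁻¹ᵁ V from hxV)
    obtain ⟨d, hd⟩ := (hf U V hU hV e).2
    exact ⟨U, hxU, d, fun y hy => unit_amp_at f y (hasTorDimLE_stalk f hU hV e hd y hy)⟩
  choose U hxU d hd using hloc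
  obtain ⟨s, hs⟩ := (isCompact_univ (X := X)).elim_finite_subcover (fun x => (U x : Set X))
    (fun x => (U x).2) (fun x _ => Set.mem_iUnion.mpr ⟨x, hxU x⟩)
  refine ⟨s.sup d, fun y => ?_⟩
  obtain ⟨x, hx, hy⟩ := Set.mem_iUnion₂.mp (hs (Set.mem_univ y))
  have := Finset.le_sup (f := d) hx
  exact TorAmp.torAmp_mono (hd x y hy) (by omega) le_rfl

/-- A perfect object on a quasi-compact scheme has finite flat amplitude. -/
theorem exists_flatAmp_global {X : Scheme.{u}} [CompactSpace X] {K : DCoh.D X} (hK : DCoh.IsPerfect K) :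
    ∃ a b : ℤ, DCoh.HasFlatAmplitudeIn a b K := by
  have hloc : ∀ x : X, ∃ V : X.Opens, x ∈ V ∧ ∃ a b : ℤ,
      DCoh.HasFlatAmplitudeIn a b ((DCoh.restrictD V.ι).obj K) := fun x => by
    obtain ⟨V, a, b, hx, hV⟩ := ((PerfTor.isPerfect_iff K).1 hK).2 x
    exact ⟨V, hx, a, b, PerfTor.flatAmp_of_iso ((PerfTri.Perfect.restrQ V.ι _).symm ≪≫
      (DCoh.restrictD V.ι).mapIso (DerivedCategory.Q.objObjPreimageIso K))
      (hV _ ⟨DerivedCategory.Q.objObjPreimageIso K⟩)⟩
  choose V hx a b hV using hloc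
  obtain ⟨s, hs⟩ := (isCompact_univ (X := X)).elim_finite_subcover (fun x => (V x : Set X))
    (fun x => (V x).2) (fun x _ => Set.mem_iUnion.mpr ⟨x, hx x⟩)
  rcases isEmpty_or_nonempty X with h | h
  · exact ⟨0, 0, PerfAmp.flatAmp_of_local fun x => (IsEmpty.false x).elim⟩
  have hne : s.Nonempty := by
    obtain ⟨y⟩ := h
    obtain ⟨x, hx', -⟩ := Set.mem_iUnion₂.mp (hs (Set.mem_univ y))
    exact ⟨x, hx'⟩
  refine ⟨s.inf' hne a, s.sup' hne b, PerfAmp.flatAmp_of_local fun y => ?_⟩
  obtain ⟨x, hx', hy⟩ := Set.mem_iUnion₂.mp (hs (Set.mem_univ y))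
  obtain ⟨G, hv, hf, e⟩ := hV x
  have h1 := Finset.inf'_le a hx'
  have h2 := Finset.le_sup' b hx'
  exact ⟨V x, hy, G, fun i hi => hv i (by omega), hf, e⟩

/-- Relative tor amplitude of a perfect object along a perfect morphism. -/
theorem exists_relative_amp {X S : Scheme.{u}} [CompactSpace X] (f : X ⟶ S) (hf : MoreMor.IsPerfectMor f)
    (F : CochainComplex X.Modules ℤ) (hK : DCoh.IsPerfect (DCoh.toD X F)) :
    DerSch.HasFiniteTorAmplitude f F := by
  obtain ⟨a, b, hab⟩ := exists_flatAmp_global hK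
  obtain ⟨d, hd⟩ := exists_unit_amp f hf
  refine ⟨a + -(d : ℤ), b + 0, ?_⟩
  have := TorComp.hasTorAmplitude_comp (𝟙 X) f hd F
    ((PerfAmp.hasTorAmplitude_id_iff F a b).2 fun y => PerfAmp.stalk_torAmp hab y)
  rwa [Category.id_comp] at this

/-- The Noetherian case. -/
theorem noetherian_case {X S : Scheme.{u}} [IsNoetherian S] (f : X ⟶ S) [IsProper f] [DCoh.HasRpush f]
    (hf : MoreMor.IsPerfectMor f) (E : DCoh.D X) (hE : DCoh.IsPerfect E) :
    DCoh.IsPerfect ((DCoh.Rpush f).obj E) := by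
  let eK : DCoh.toD X (DerivedCategory.Q.objPreimage E) ≅ E := DerivedCategory.Q.objObjPreimageIso E
  have hF := PerfTri.Perfect.isPerfect_of_iso eK.symm hE
  have : IsLocallyNoetherian X := LocallyOfFiniteType.isLocallyNoetherian f
  have : CompactSpace X := QuasiCompact.compactSpace_of_compactSpace f
  have : IsNoetherian X := {}
  obtain ⟨hcoh, a, b, ha, hb⟩ := PerfTri.Bounded.perfect_isCohD_bounded _ hF
  refine PerfTri.Perfect.isPerfect_of_iso ((DCoh.Rpush f).mapIso eK)
    (Groth.Agent.S7256.result f _ hcoh ⟨a, b, ?_⟩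
      (fun i => EtShriekLib.ipo_of_isProper f (CohDev.isClosed_support (hcoh i)))
      (exists_relative_amp f hf _ hF))
  rintro i (hi | hi)
  · exact DerivedCategory.isZero_of_isGE _ a i hi
  · exact DerivedCategory.isZero_of_isLE _ b i hi

/-- In the case where the base is locally Noetherian: let f : X ⟶ Y be a proper morphism which is
perfect (affine-locally of finite tor-dimension and pseudo-coherent), with Y locally Noetherian, and
E a bounded below perfect object of D(O_X). Assuming Rf_* exists, Rf_*E is a perfect object of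
D(O_Y). -/
theorem result {X Y : Scheme.{u}} [IsLocallyNoetherian Y] (f : X ⟶ Y) [IsProper f]
    (hf : MoreMor.IsPerfectMor f) [DCoh.HasRpush f] (E : DCoh.D X) (b : ℤ) [E.IsGE b] (hE : DCoh.IsPerfect E) :
    DCoh.IsPerfect ((DCoh.Rpush f).obj E) := by
  refine PCohD.PerfTor.isPerfect_of_local fun y => ?_
  obtain ⟨V, hV, hyV, -⟩ := exists_isAffineOpen_mem_and_subset (show y ∈ (⊤ : Y.Opens) from trivial)
  have : IsAffine (V : Scheme.{u}) := hV
  have : IsLocallyNoetherian (V : Scheme.{u}) := isLocallyNoetherian_of_isOpenImmersion V.ι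
  have : IsNoetherian (V : Scheme.{u}) := {}
  have hfV : MoreMor.IsPerfectMor (f ∣_ V) :=
    Groth.Agent.S1513.result f (f ∣_ V) (f ⁻¹ᵁ V).ι V.ι (isPullback_morphismRestrict f V).flip hf
  have : DCoh.HasRpush (f ∣_ V) := KFlat.RPush.hasRpush (f ∣_ V)
  obtain ⟨e⟩ := Groth.Agent.S6508.result f V
  exact ⟨V, V.ι, inferInstance, ⟨⟨y, hyV⟩, rfl⟩, PerfTri.Perfect.isPerfect_of_iso (e.app E).symm
    (noetherian_case (f ∣_ V) hfV _ (PerfExt.isPerfect_restrict (f ⁻¹ᵁ V).ι hE))⟩

end Groth.Agent.S4267
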