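import Groth.Statements.S3678
import Groth.Agent.FEtCat.Full
import Groth.Agent.FBaseSep.Connected
import Groth.Agent.AlgSpB.RedInduced
import Groth.Agent.S1364
import Groth.Agent.S8533
import Groth.Agent.S9840
import Groth.Agent.S0679
import Groth.Agent.S14461
-- import your own Groth.Agent.* helpers here

set_option autoImplicit false
universe u
open Pi1

namespace Groth.Agent.S3678

open CategoryTheory CategoryTheory.Limits AlgebraicGeometry in
theorem geometricallyReduced_of_algClosed {X S : Scheme.{u}} (f : X ⟶ S)
    (h : ∀ (Ω : Type u) [Field Ω] [IsAlgClosed Ω] (s : Spec (CommRingCat.of Ω) ⟶ S),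
      IsReduced (pullback f s)) : GeometricallyReduced f := by
  rw [GeometricallyReduced.eq_geometrically, geometrically_iff_of_isClosedUnderIsomorphisms]
  intro K _ y
  let e : Spec (CommRingCat.of (AlgebraicClosure K)) ⟶ Spec (CommRingCat.of K) :=
    Spec.map (CommRingCat.ofHom (algebraMap K (AlgebraicClosure K)))
  have : Surjective e := ⟨fun x => ⟨default, Subsingleton.elim _ _⟩⟩
  have : Flat e := (HasRingHomProperty.Spec_iff (P := @Flat)).mpr
    (RingHom.flat_algebraMap_iff.mpr inferInstance)
  let m := pullback.snd f y
  have : IsReduced (pullback m e) := by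
    have := h (AlgebraicClosure K) (e ≫ y)
    exact isReduced_of_isOpenImmersion (pullbackLeftPullbackSndIso f y e).hom
  exact Groth.Agent.S9840.result (pullback.fst m e)

open CategoryTheory CategoryTheory.Limits AlgebraicGeometry in
theorem geometricallyReduced_etale_comp {X Y S : Scheme.{u}} (h : Y ⟶ X) (f : X ⟶ S) [Etale h]
    [GeometricallyReduced f] : GeometricallyReduced (h ≫ f) := by
  rw [GeometricallyReduced.eq_geometrically, geometrically_iff_of_isClosedUnderIsomorphisms]
  intro K _ y
  have : IsReduced (pullback f y) := pullback_of_geometrically GeometricallyReduced.geometrically_isReduced K y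
  have : IsReduced (pullback h (pullback.fst f y)) :=
    Groth.Agent.AlgSpB.isReduced_of_etale (pullback.snd h (pullback.fst f y))
  exact isReduced_of_isOpenImmersion (pullbackRightPullbackFstIso f y h).inv

open CategoryTheory CategoryTheory.Limits AlgebraicGeometry in
/-- A connected proper flat scheme with geometrically reduced fibres over a strictly henselian local
ring is geometrically connected. -/
theorem geometricallyConnected_of_connected {A : Type u} [CommRing A] [HenselianLocalRing A]
    [IsSepClosed (IsLocalRing.ResidueField A)] {W : Scheme.{u}} (g : W ⟶ Spec (CommRingCat.of A))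
    [IsProper g] [Flat g] [LocallyOfFinitePresentation g] [GeometricallyReduced g] [ConnectedSpace W] :
    GeometricallyConnected g := by
  let s : ↥(Spec (CommRingCat.of A)) := (IsLocalRing.closedPoint A : PrimeSpectrum A)
  have hb := Groth.Agent.S8533.result A g
  have : Subsingleton (_root_.ConnectedComponents W) := inferInstance
  have : Nonempty (_root_.ConnectedComponents W) := (inferInstance : Nonempty W).map _root_.ConnectedComponents.mk
  have : Subsingleton (_root_.ConnectedComponents (g.fiber s)) := hb.1.subsingleton
  have : Nonempty (_root_.ConnectedComponents (g.fiber s)) := (Equiv.ofBijective _ hb).nonempty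
  have hsep : IsSepClosed ((Spec (CommRingCat.of A)).residueField s) := by
    let e₁ : IsLocalRing.ResidueField A ≃+* (IsLocalRing.maximalIdeal A).ResidueField :=
      RingEquiv.ofBijective _ (IsLocalRing.maximalIdeal A).bijective_algebraMap_quotient_residueField
    have := Groth.Agent.S0679.isSepClosed_of_ringEquiv
      (e₁.trans (Scheme.Spec.residueFieldIso (CommRingCat.of A) s).commRingCatIsoToRingEquiv.symm)
    exact this
  have hone : MoreMor.nGeomConnComp g s = 1 := by
    let κ := (Spec (CommRingCat.of A)).residueField s
    let φ := CommRingCat.ofHom (algebraMap κ (SeparableClosure κ))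
    have : IsIso φ := (ConcreteCategory.isIso_iff_bijective φ).mpr
      ⟨(algebraMap κ (SeparableClosure κ)).injective, IsSepClosed.algebraMap_surjective κ (SeparableClosure κ)⟩
    let e := (asIso (pullback.fst (g.fiberToSpecResidueField s) (Spec.map φ))).hom.homeomorph
    have hc : Function.Bijective e.continuous.connectedComponentsMap := by
      refine Function.bijective_iff_has_inverse.mpr ⟨e.symm.continuous.connectedComponentsMap, ?_, ?_⟩ <;>
      · intro c
        obtain ⟨x, rfl⟩ := _root_.ConnectedComponents.surjective_coe c
        simp [Continuous.connectedComponentsMap]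
    have : Subsingleton (_root_.ConnectedComponents ↥(MoreMor.geomFiber g s)) := hc.1.subsingleton
    have : Nonempty (_root_.ConnectedComponents ↥(MoreMor.geomFiber g s)) := (Equiv.ofBijective _ hc).nonempty
    exact le_antisymm ((ENat.card_le_one_iff_subsingleton _).mpr inferInstance) ((ENat.one_le_card_iff_nonempty _).mpr inferInstance)
  have : PreconnectedSpace ↥(Spec (CommRingCat.of A)) := by
    refine preconnectedSpace_iff_clopen.mpr fun (U : Set (PrimeSpectrum A)) hU => ?_
    by_cases hc : IsLocalRing.closedPoint A ∈ U
    · exact Or.inr (Set.eq_univ_of_forall fun p => (IsLocalRing.specializes_closedPoint p).mem_open hU.2 hc)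
    · exact Or.inl (Set.eq_empty_of_forall_notMem fun p hp => absurd hc (not_not.mpr
        ((IsLocalRing.specializes_closedPoint p).mem_closed hU.1 hp)))
  rw [GeometricallyConnected.iff_geometricallyConnected_fiber]
  intro q
  have hq : ENat.card (_root_.ConnectedComponents ↥(MoreMor.geomFiber g q)) = 1 :=
    ((Groth.Agent.S1364.result g).apply_eq_of_preconnectedSpace q s).trans hone
  have hs : Subsingleton (_root_.ConnectedComponents ↥(MoreMor.geomFiber g q)) :=
    (ENat.card_le_one_iff_subsingleton _).mp hq.le
  have hn : Nonempty (_root_.ConnectedComponents ↥(MoreMor.geomFiber g q)) :=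
    (ENat.one_le_card_iff_nonempty _).mp hq.ge
  have : ConnectedSpace ↥(pullback (g.fiberToSpecResidueField q)
      (Groth.Agent.FBase.BC.specMap ((Spec (CommRingCat.of A)).residueField q)
        (SeparableClosure ((Spec (CommRingCat.of A)).residueField q)))) := by
    change ConnectedSpace ↥(MoreMor.geomFiber g q)
    exact
      { toPreconnectedSpace := preconnectedSpace_iff_connectedComponent.mpr fun x =>
          Set.eq_univ_of_forall fun z => _root_.ConnectedComponents.coe_eq_coe'.mp (hs.elim _ _)
        toNonempty := hn.elim fun c => ⟨(_root_.ConnectedComponents.surjective_coe c).choose⟩ }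
  exact Groth.Agent.FBaseSep.geometricallyConnected_of_sepClosure (k := (Spec (CommRingCat.of A)).residueField q)
    (g.fiberToSpecResidueField q)

open AlgebraicGeometry CategoryTheory CategoryTheory.Limits in
/-- Let A be a strictly henselian local ring (a henselian local ring with separably closed residue
field), f : X → Spec A a morphism which is proper, flat and of finite presentation and all of whose
geometric fibres are connected and reduced, and t : Spec Ω → Spec A a geometric point, with Ω an
algebraically closed field. Then the functor restricting finite étale covers of X to the geometric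
fibre X_t = X ×_{Spec A} Spec Ω is fully faithful; equivalently, the specialisation homomorphism
from the fundamental group of X_t to that of X is surjective. (The published statement is the
surjectivity of this homomorphism; it is stated here as full faithfulness of the restriction
functor.) -/
theorem result (A : Type u) [CommRing A] [HenselianLocalRing A]
    [IsSepClosed (IsLocalRing.ResidueField A)] {X : Scheme.{u}} (f : X ⟶ Spec (CommRingCat.of A))
    [IsProper f] [Flat f] [LocallyOfFinitePresentation f]
    (hfib : ∀ (Ω : Type u) [Field Ω] [IsAlgClosed Ω] (s : Spec (CommRingCat.of Ω) ⟶ Spec (CommRingCat.of A)),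
      ConnectedSpace ↥(pullback f s) ∧ IsReduced (pullback f s))
    (Ω : Type u) [Field Ω] [IsAlgClosed Ω] (t : Spec (CommRingCat.of Ω) ⟶ Spec (CommRingCat.of A)) :
    (FEt.restrict (pullback.fst f t)).Full ∧ (FEt.restrict (pullback.fst f t)).Faithful := by
  have := geometricallyReduced_of_algClosed f fun Ω _ _ s => (hfib Ω s).2
  suffices key : ∀ Y : FEt.Cat X, ∀ x : Y.left, IsClopen (_root_.connectedComponent x) ∧
      _root_.IsConnected (pullback.fst Y.hom (pullback.fst f t) ⁻¹' _root_.connectedComponent x) by
    refine FEtCat.Full.full_faithful _ (fun Y W hW hp => ?_) fun Y W' hW' => ?_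
    · refine Set.eq_empty_of_forall_notMem fun x hx => ?_
      obtain ⟨z, hz⟩ := (key Y x).2.nonempty
      exact Set.notMem_empty z (hp ▸ (hW.connectedComponent_subset hx hz))
    · let q := pullback.fst Y.hom (pullback.fst f t)
      let W : Set Y.left := {x | q ⁻¹' _root_.connectedComponent x ⊆ W'}
      have hloc : ∀ x y : Y.left, y ∈ _root_.connectedComponent x → (x ∈ W ↔ y ∈ W) := fun x y hy => by
        simp only [W, Set.mem_ofPred_eq, connectedComponent_eq hy]
      refine ⟨W, ⟨?_, ?_⟩, ?_⟩
      · rw [← isOpen_compl_iff, isOpen_iff_forall_mem_open]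
        exact fun x hx => ⟨_, fun y hy h => hx ((hloc x y hy).mpr h), (key Y x).1.2, mem_connectedComponent⟩
      · rw [isOpen_iff_forall_mem_open]
        exact fun x hx => ⟨_, fun y hy => (hloc x y hy).mp hx, (key Y x).1.2, mem_connectedComponent⟩
      · ext z
        exact ⟨fun h => h mem_connectedComponent,
          fun h => (key Y (q z)).2.isPreconnected.subset_isClopen hW' ⟨z, mem_connectedComponent, h⟩⟩
  intro Y x
  have : IsFinite Y.hom := Y.prop.1
  have : Etale Y.hom := Y.prop.2
  let g : Y.left ⟶ Spec (CommRingCat.of A) := Y.hom ≫ f
  have : Finite (_root_.ConnectedComponents Y.left) := by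
    let s : ↥(Spec (CommRingCat.of A)) := (IsLocalRing.closedPoint A : PrimeSpectrum A)
    have : IsLocallyNoetherian (g.fiber s) := LocallyOfFiniteType.isLocallyNoetherian (g.fiberToSpecResidueField s)
    have : CompactSpace (g.fiber s) := QuasiCompact.compactSpace_of_compactSpace (g.fiberToSpecResidueField s)
    have : IsNoetherian (g.fiber s) := { }
    have : DiscreteTopology (_root_.ConnectedComponents (g.fiber s)) := S14461.discrete_components _
    have : Finite (_root_.ConnectedComponents (g.fiber s)) := finite_of_compact_of_discrete
    exact Finite.of_surjective _ (S8533.result A g).2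
  have hcl : IsClopen (_root_.connectedComponent x) := by
    refine ⟨isClosed_connectedComponent, ?_⟩
    rw [← isClosed_compl_iff, ← connectedComponents_preimage_singleton, ← Set.preimage_compl]
    exact (Set.toFinite _).isClosed.preimage _root_.ConnectedComponents.continuous_coe
  refine ⟨hcl, ?_⟩
  let O : Y.left.Opens := ⟨_, hcl.2⟩
  have : IsClosedImmersion O.ι := .of_isPreimmersion _ (by rw [Scheme.Opens.range_ι]; exact hcl.1)
  have : ConnectedSpace (O : Scheme.{u}) := isConnected_iff_connectedSpace.mp isConnected_connectedComponent
  let h : (O : Scheme.{u}) ⟶ X := O.ι ≫ Y.hom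
  have := geometricallyReduced_etale_comp h f
  have := geometricallyConnected_of_connected (h ≫ f)
  have : ConnectedSpace ↥(pullback (h ≫ f) t) := inferInstance
  let m : pullback (h ≫ f) t ⟶ pullback Y.hom (pullback.fst f t) :=
    pullback.lift (pullback.fst _ _ ≫ O.ι)
      (pullback.lift (pullback.fst _ _ ≫ h) (pullback.snd _ _) ((Category.assoc _ _ _).trans pullback.condition))
      ((Category.assoc _ _ _).trans (pullback.lift_fst _ _ _).symm)
  have hr : pullback.fst Y.hom (pullback.fst f t) ⁻¹' _root_.connectedComponent x = Set.range m := by
    refine Set.Subset.antisymm (fun z hz => ?_) ?_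
    · let P := pullback.fst Y.hom (pullback.fst f t) ⁻¹ᵁ O
      let l : (P : Scheme.{u}) ⟶ (O : Scheme.{u}) := (pullback.fst Y.hom (pullback.fst f t)) ∣_ O
      have hl : l ≫ O.ι = P.ι ≫ pullback.fst _ _ := morphismRestrict_ι _ _
      let m' : (P : Scheme.{u}) ⟶ pullback (h ≫ f) t :=
        pullback.lift l (P.ι ≫ pullback.snd _ _ ≫ pullback.snd _ _) (by
          change l ≫ (O.ι ≫ Y.hom) ≫ f = _
          rw [Category.assoc, reassoc_of% hl, pullback.condition_assoc, pullback.condition]
          simp only [Category.assoc])
      have hm : m' ≫ m = P.ι := by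
        refine pullback.hom_ext ?_ (pullback.hom_ext ?_ ?_)
        · simp only [m, m', Category.assoc, pullback.lift_fst, pullback.lift_fst_assoc, hl]
        · rw [Category.assoc, Category.assoc, pullback.lift_snd_assoc, pullback.lift_fst, pullback.lift_fst_assoc,
            Category.assoc]
          change l ≫ O.ι ≫ Y.hom = _
          rw [reassoc_of% hl, pullback.condition]
        · simp only [m, m', Category.assoc, pullback.lift_snd]
      exact ⟨m' (⟨z, hz⟩ : P), congrArg (fun k : (P : Scheme.{u}) ⟶ _ => k ⟨z, hz⟩) hm⟩
    · rintro _ ⟨z, rfl⟩
      rw [Set.mem_preimage, ← Scheme.Hom.comp_apply, pullback.lift_fst, Scheme.Hom.comp_apply]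
      exact (pullback.fst (h ≫ f) t z).2
  rw [hr]
  exact isConnected_range m.continuous

end Groth.Agent.S3678
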