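import Groth.Statements.S3688
import Groth.Agent.EtRamLib.Kummer.KummerTame

set_option autoImplicit false
open CategoryTheory CategoryTheory.Limits AlgebraicGeometry
universe u
open SGA1t

namespace Groth.Agent.S3688

open Groth.Agent.EtRamLib.Kummer in
theorem cover_props {A : Type u} [CommRing A] {ι : Type} [Fintype ι] [DecidableEq ι] (a : ι → A) (n : ι → ℕ)
    [∀ i, NeZero (n i)] (hn : ∀ i, IsUnit ((n i : ℕ) : A))
    (hc : _root_.IsConnected (PrimeSpectrum.basicOpen (Basis.tt a n) : Set (PrimeSpectrum (kummer A a n))))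
    {S : Scheme.{u}} (f' : Spec (CommRingCat.of A) ⟶ S)
    {r : ℕ} (φ₁ : Fin r → Γ(Spec (CommRingCat.of A), ⊤)) (hU : SGA1t.compl φ₁ = Cover.U₀ a) :
    IsFinite (Cover.π a n ∣_ SGA1t.compl φ₁) ∧ Etale (Cover.π a n ∣_ SGA1t.compl φ₁) ∧
      ConnectedSpace ↥(Cover.π a n ⁻¹ᵁ SGA1t.compl φ₁) ∧
      ∀ [hF : IsFinite (Cover.π a n ∣_ SGA1t.compl φ₁)] [hE : Etale (Cover.π a n ∣_ SGA1t.compl φ₁)],
        SGA1t.IsRelTame f' φ₁ (MorphismProperty.Over.mk ⊤ (Cover.π a n ∣_ SGA1t.compl φ₁) ⟨hF, hE⟩) := by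
  refine ⟨MorphismProperty.of_isPullback (P := @IsFinite) (isPullback_morphismRestrict _ _).flip inferInstance,
    Cover.etale_restrict a n hn _ hU, Cover.connectedSpace_preimage a n hc _ hU, ?_⟩
  intro hF hE Ω _ _ σ _ y _ hy w h hne
  haveI : IsDiscreteValuationRing ((pullback f' σ).presheaf.stalk y) := hy
  let toY := ((pullback f' σ).presheaf.germ ⊤ y trivial).hom.comp (Cover.toRing (pullback.snd f' σ))
  have hnA : ∀ i, IsUnit ((n i : ℕ) : (pullback f' σ).presheaf.stalk y) := fun i => by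
    have := ((hn i).map (Cover.toRing (pullback.fst f' σ))).map ((pullback f' σ).presheaf.germ ⊤ y trivial).hom
    simpa only [map_natCast] using this
  have hnΩ : ∀ i, ((n i : ℕ) : Ω) ≠ 0 := fun i h0 => by
    have := (hnA i).ne_zero
    rw [← map_natCast toY, h0, map_zero] at this
    exact this rfl
  obtain ⟨k1, k2, k3⟩ := Cover.galois_residue_kummer a n (SGA1t.compl φ₁) hU (pullback.fst f' σ)
    (pullback.snd f' σ) hnΩ w
  let g := pullback.snd ((Cover.π a n ∣_ SGA1t.compl φ₁) ≫ (SGA1t.compl φ₁).ι) (pullback.fst f' σ)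
  letI : Algebra ((pullback f' σ).residueField (g.base w))
      ((pullback ((Cover.π a n ∣_ SGA1t.compl φ₁) ≫ (SGA1t.compl φ₁).ι) (pullback.fst f' σ)).residueField w) :=
    (g.residueFieldMap w).hom.toAlgebra
  letI : Algebra ((pullback f' σ).presheaf.stalk y) ((pullback f' σ).residueField (g.base w)) :=
    (Cyc.specMap y (g.base w) h).toAlgebra
  haveI := k1
  haveI := k2
  haveI : IsFractionRing ((pullback f' σ).presheaf.stalk y) ((pullback f' σ).residueField (g.base w)) :=
    EtRamLib.Kummer.isFractionRing_of_ne h hne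
  refine S18597.tame_of_galois ((pullback f' σ).presheaf.stalk y) ((pullback f' σ).residueField (g.base w))
    ((pullback ((Cover.π a n ∣_ SGA1t.compl φ₁) ≫ (SGA1t.compl φ₁).ι) (pullback.fst f' σ)).residueField w) ?_
  obtain ⟨c, hcc⟩ := k3
  have hu : IsUnit ((∏ i, n i : ℕ) : (pullback f' σ).presheaf.stalk y) := by
    rw [Nat.cast_prod]; exact IsUnit.prod_iff.mpr fun i _ => hnA i
  rw [hcc, Nat.cast_mul] at hu
  exact isUnit_of_mul_isUnit_left hu

/-- Let f : X -> S and let global sections φ_1, ..., φ_r of X cut out a strict normal crossings divisor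
relative to S, with complement U. Let x be a point where some φ_i vanishes, A = O_{X,x}, X_1 = Spec
A, U_1 the inverse image of U, and for the indices i with φ_i(x) = 0 let n_i ≥ 1 be integers
invertible in the residue field of x. Let X'_1 = Spec A[T_i]/(T_i^{n_i} - φ_i) (those i only) and
U'_1 its part over U_1. Then U'_1 -> U_1 is finite etale, U'_1 is connected, and U'_1 is tamely
ramified on X_1 along the divisor relatively to S. (The published statement also asserts smoothness
of the global Kummer scheme at the point over x; that first assertion is not stated here.) -/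
theorem result {X S : Scheme.{u}} (f : X ⟶ S) {r : ℕ} (φ : Fin r → Γ(X, ⊤))
    (hD : SGA1t.IsRelSNC f φ) (x : X) (hx : Nonempty (SGA1t.vanishingAt φ x))
    (n : SGA1t.vanishingAt φ x → ℕ) (hn1 : ∀ i, 1 ≤ n i) (hnu : ∀ i, IsUnit ((n i : ℕ) : X.residueField x)) :
    letI A := X.presheaf.stalk x
    letI a : SGA1t.vanishingAt φ x → A := fun i => (X.presheaf.germ ⊤ x trivial).hom (φ i.1)
    letI π : Spec (CommRingCat.of (SGA1t.kummer A a n)) ⟶ Spec (CommRingCat.of A) :=
      Spec.map (CommRingCat.ofHom (algebraMap A (SGA1t.kummer A a n)))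
    letI φ₁ : Fin r → Γ(Spec (CommRingCat.of A), ⊤) := fun i => (X.fromSpecStalk x).appTop (φ i)
    IsFinite (π ∣_ SGA1t.compl φ₁) ∧ Etale (π ∣_ SGA1t.compl φ₁) ∧
      ConnectedSpace ↥(π ⁻¹ᵁ SGA1t.compl φ₁) ∧
      ∀ [hF : IsFinite (π ∣_ SGA1t.compl φ₁)] [hE : Etale (π ∣_ SGA1t.compl φ₁)],
        SGA1t.IsRelTame (X.fromSpecStalk x ≫ f) φ₁ (MorphismProperty.Over.mk ⊤ (π ∣_ SGA1t.compl φ₁) ⟨hF, hE⟩) := by
  classical
  haveI := EtRamLib.Kummer.Cover.finite_vanishingAt φ x
  letI := Fintype.ofFinite (vanishingAt φ x)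
  haveI : ∀ i, NeZero (n i) := fun i => ⟨Nat.one_le_iff_ne_zero.mp (hn1 i)⟩
  haveI : IsLocalHom (algebraMap (X.presheaf.stalk x) (X.presheaf.stalk x)) := ⟨fun _ h => h⟩
  haveI : Algebra.WeaklyEtale (X.presheaf.stalk x) (X.presheaf.stalk x) := inferInstance
  have hn : ∀ i, IsUnit ((n i : ℕ) : X.presheaf.stalk x) := fun i =>
    EtRamLib.Kummer.Cover.isUnit_natCast_stalk x (hnu i)
  have hc := EtRamLib.Kummer.Cover.isConnected_of_SNC f φ hD x hx (X.presheaf.stalk x) n hn
  refine cover_props _ n hn hc (X.fromSpecStalk x ≫ f) _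
    (EtRamLib.Kummer.Cover.compl_specOf φ x (X.presheaf.stalk x) _ fun j => ?_)
  have := EtRamLib.Kummer.Cover.specOf_appTop φ x (X.presheaf.stalk x) j
  simpa using this

end Groth.Agent.S3688
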