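import Groth.Statements.S3692
import Groth.Agent.EtRamLib.Kummer.SNCConn
import Groth.Agent.AlgSp.GorCore

set_option autoImplicit false
open CategoryTheory CategoryTheory.Limits AlgebraicGeometry
universe u
open SGA1t

namespace Groth.Agent.S3692

open Groth.Agent.EtRamLib.Kummer in
theorem galois_aut {R : Type u} [CommRing R] [IsLocalRing R] [HenselianLocalRing R]
    [IsSepClosed (IsLocalRing.ResidueField R)] {ι : Type} [Fintype ι] [DecidableEq ι] (a : ι → R) (n : ι → ℕ)
    [∀ i, NeZero (n i)] (hn : ∀ i, IsUnit ((n i : ℕ) : R))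
    (hc : _root_.IsConnected (PrimeSpectrum.basicOpen (Basis.tt a n) : Set (PrimeSpectrum (kummer R a n))))
    (U : (Spec (CommRingCat.of R)).Opens) (hU : U = Cover.U₀ a)
    [hF : IsFinite (Cover.π a n ∣_ U)] [hE : Etale (Cover.π a n ∣_ U)] :
    PiSp.IsGaloisCover (Cover.Z a n U) ∧
      ∃ θ : ((i : ι) → ↥(rootsOfUnity (n i) R)) ≃* Aut (Cover.Z a n U),
        ∀ ζ, (θ ζ).hom.left ≫ (Cover.π a n ⁻¹ᵁ U).ι =
          (Cover.π a n ⁻¹ᵁ U).ι ≫ Spec.map (CommRingCat.ofHom (SGA1t.kummerTwist R a n ζ)) := by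
  haveI : ConnectedSpace (Cover.Z a n U).left := Cover.connectedSpace_preimage a n hc U hU
  have htr : ∀ (Ω : Type u) [Field Ω] (ξ : Spec (CommRingCat.of Ω) ⟶ (U : Scheme.{u}))
      (s t : FEt.fiberObj ξ (Cover.Z a n U)), ∃ ζ, (FEt.fiber ξ).map (Cover.θ a n U ζ).hom s = t :=
    fun Ω _ ξ s t => Cover.transitive a n U hU (fun g i x hx => Cover.exists_map_eq (hn i) g x hx) ξ s t
  refine ⟨⟨inferInstance, fun Ω _ _ ξ s t => let ⟨ζ, h⟩ := htr Ω ξ s t; ⟨_, h⟩⟩, ?_⟩
  let x₀ : (Cover.Z a n U).left := Classical.arbitrary _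
  let Ω := AlgebraicClosure ((Cover.Z a n U).left.residueField x₀)
  let p : Spec (CommRingCat.of Ω) ⟶ (Cover.Z a n U).left :=
    Spec.map (CommRingCat.ofHom (algebraMap ((Cover.Z a n U).left.residueField x₀) Ω)) ≫ (Cover.Z a n U).left.fromSpecResidueField x₀
  let s₀ : FEt.fiberObj (p ≫ (Cover.Z a n U).hom) (Cover.Z a n U) := ⟨p, rfl⟩
  have hinj : Function.Injective (Cover.θ a n U) := by
    rw [injective_iff_map_eq_one]
    intro ζ hζ
    refine Cover.free a n U hU (fun g i ζ h => Cover.eq_one_of_map_eq_one (hn i) g ζ h) _ s₀ ζ ?_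
    rw [hζ]
    exact congr($((FEt.fiber (p ≫ (Cover.Z a n U).hom)).map_id (Cover.Z a n U)) s₀)
  have hsurj : Function.Surjective (Cover.θ a n U) := by
    intro σ
    obtain ⟨ζ, hζ⟩ := htr Ω (p ≫ (Cover.Z a n U).hom) s₀ ((FEt.fiber (p ≫ (Cover.Z a n U).hom)).map σ.hom s₀)
    refine ⟨ζ, Iso.ext (MorphismProperty.Over.Hom.ext ?_)⟩
    haveI : IsFinite (Cover.Z a n U).hom := hF
    haveI : Etale (Cover.Z a n U).hom := hE
    exact Cover.eq_of_eq_at (Cover.Z a n U).hom _ _
      ((MorphismProperty.Over.w _).trans (MorphismProperty.Over.w _).symm) p (congrArg Subtype.val hζ)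
  exact ⟨MulEquiv.ofBijective (Cover.θ a n U) ⟨hinj, hsurj⟩, fun ζ => Cover.θ_left_ι a n U ζ⟩

/-- Structure of the Kummer covers along a relative normal crossings divisor: let f : X → S be a
morphism and φ_1, …, φ_r global functions on X cutting out a strict normal crossings divisor
relative to S, with complement U; let x be a point of the divisor, R a strict henselization of
O_{X,x}, U_1 the complement of the divisor in Spec R, and, for each index i with φ_i(x) = 0, an
integer n_i ≥ 1 invertible in the residue field of x. Let U'_1 be the part lying over U_1 of the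
spectrum of the Kummer algebra R[T_i]/(T_i^{n_i} − φ_i) (one variable for each such i). Then,
granted that U'_1 → U_1 is finite étale, U'_1 is a Galois cover of U_1, and there is a group
isomorphism from the product over i of the groups of n_i-th roots of unity in R onto the group of
U_1-automorphisms of U'_1 that sends a family ζ = (ζ_i) to the automorphism induced by T_i ↦ ζ_i
T_i. -/
theorem result {X S : Scheme.{u}} (f : X ⟶ S) {r : ℕ} (φ : Fin r → Γ(X, ⊤))
    (hD : SGA1t.IsRelSNC f φ) (x : X) (hx : Nonempty (SGA1t.vanishingAt φ x))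
    (R : Type u) [CommRing R] [IsLocalRing R] [Algebra (X.presheaf.stalk x) R]
    [IsLocalHom (algebraMap (X.presheaf.stalk x) R)] [Hensel.IsStrictHenselization (X.presheaf.stalk x) R]
    (n : SGA1t.vanishingAt φ x → ℕ) (hn1 : ∀ i, 1 ≤ n i) (hnu : ∀ i, IsUnit ((n i : ℕ) : X.residueField x)) :
    letI a : SGA1t.vanishingAt φ x → R := fun i =>
      algebraMap (X.presheaf.stalk x) R ((X.presheaf.germ ⊤ x trivial).hom (φ i.1))
    letI π : Spec (CommRingCat.of (SGA1t.kummer R a n)) ⟶ Spec (CommRingCat.of R) :=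
      Spec.map (CommRingCat.ofHom (algebraMap R (SGA1t.kummer R a n)))
    letI U₁ := SGA1t.compl (fun i => (Hens2.specOf X x R).appTop (φ i))
    ∀ [hF : IsFinite (π ∣_ U₁)] [hE : Etale (π ∣_ U₁)],
      PiSp.IsGaloisCover (MorphismProperty.Over.mk ⊤ (π ∣_ U₁) ⟨hF, hE⟩) ∧
      ∃ θ : ((i : SGA1t.vanishingAt φ x) → ↥(rootsOfUnity (n i) R)) ≃*
          Aut (MorphismProperty.Over.mk ⊤ (π ∣_ U₁) ⟨hF, hE⟩ : FEt.Cat (U₁ : Scheme.{u})),
        ∀ ζ, (θ ζ).hom.left ≫ (π ⁻¹ᵁ U₁).ι =
          (π ⁻¹ᵁ U₁).ι ≫ Spec.map (CommRingCat.ofHom (SGA1t.kummerTwist R a n ζ)) := by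
  classical
  haveI := EtRamLib.Kummer.Cover.finite_vanishingAt φ x
  letI := Fintype.ofFinite (vanishingAt φ x)
  haveI : ∀ i, NeZero (n i) := fun i => ⟨Nat.one_le_iff_ne_zero.mp (hn1 i)⟩
  haveI := Hensel.IsStrictHenselization.henselian (R := X.presheaf.stalk x) (S := R)
  haveI : IsSepClosed (IsLocalRing.ResidueField R) :=
    (Hensel.IsStrictHenselization.isSepClosure (R := X.presheaf.stalk x) (S := R)).sep_closed
  haveI := Groth.Agent.AlgSp.GorCore.weaklyEtale_of_isStrictHenselization (X.presheaf.stalk x) R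
  have hn : ∀ i, IsUnit ((n i : ℕ) : R) := fun i => by
    simpa using (EtRamLib.Kummer.Cover.isUnit_natCast_stalk x (hnu i)).map (algebraMap (X.presheaf.stalk x) R)
  have hc := EtRamLib.Kummer.Cover.isConnected_of_SNC f φ hD x hx R n hn
  intro hF hE
  exact galois_aut _ n hn hc _ (EtRamLib.Kummer.Cover.compl_specOf φ x R _
    (EtRamLib.Kummer.Cover.specOf_appTop φ x R))

end Groth.Agent.S3692
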