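import Groth.Statements.S3697
import Groth.Agent.FEtProperConn.Trivial
-- import your own Groth.Agent.* helpers here

set_option autoImplicit false
set_option maxHeartbeats 1000000
set_option backward.isDefEq.respectTransparency.types false
set_option backward.isDefEq.respectTransparency false
universe u
open SGA1

namespace Groth.Agent.S3697

open AlgebraicGeometry CategoryTheory CategoryTheory.Limits in
/-- The sufficiency (the necessity of the conditions is immediate). Let f : X -> S be proper, surjective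
and of finite presentation with geometrically connected fibres, and g : X' -> X proper of finite
presentation. Let s be a point of S and C a connected open and closed part of the fibre X'_s (a
connected component). Suppose that g is etale at the points of X' under C, and that C, mapped to the
fibre X_s, is a finite etale cover which splits completely after base change to an algebraic closure
of the residue field of s. Then some open neighbourhood of C in X' is X-isomorphic to X x_S S_1 for
a scheme S_1 etale over S. -/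
theorem result {X X' S : Scheme.{u}} (f : X ⟶ S) [IsProper f] [Surjective f]
    [LocallyOfFinitePresentation f]
    (hconn : ∀ (Ω : Type u) [Field Ω] [IsAlgClosed Ω] (σ : Spec (CommRingCat.of Ω) ⟶ S), ConnectedSpace ↥(pullback f σ))
    (g : X' ⟶ X) [IsProper g] [LocallyOfFinitePresentation g] (s : S)
    (C : (pullback (g ≫ f) (S.fromSpecResidueField s)).Opens) (hCcl : IsClosed (C : Set ↥(pullback (g ≫ f) (S.fromSpecResidueField s))))
    [ConnectedSpace ↥C]
    (het : ∀ c : C, (pullback.fst (g ≫ f) (S.fromSpecResidueField s)).base c.1 ∈ Pi1X.etaleLocus g)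
    [hF : IsFinite (C.ι ≫ pullback.map (g ≫ f) (S.fromSpecResidueField s) f (S.fromSpecResidueField s) g (𝟙 _) (𝟙 S)
      (Category.comp_id _) ((Category.comp_id _).trans (Category.id_comp _).symm))]
    [hE : Etale (C.ι ≫ pullback.map (g ≫ f) (S.fromSpecResidueField s) f (S.fromSpecResidueField s) g (𝟙 _) (𝟙 S)
      (Category.comp_id _) ((Category.comp_id _).trans (Category.id_comp _).symm))]
    (hsplit : Pi1.IsSplit ((FEt.restrict (pullback.fst (pullback.snd f (S.fromSpecResidueField s))
        (Spec.map (CommRingCat.ofHom (algebraMap (S.residueField s) (AlgebraicClosure (S.residueField s))))))).obj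
      (MorphismProperty.Over.mk ⊤ (C.ι ≫ pullback.map (g ≫ f) (S.fromSpecResidueField s) f (S.fromSpecResidueField s) g
        (𝟙 _) (𝟙 S) (Category.comp_id _) ((Category.comp_id _).trans (Category.id_comp _).symm)) ⟨hF, hE⟩))) :
    ∃ W : X'.Opens, (∀ c : C, (pullback.fst (g ≫ f) (S.fromSpecResidueField s)).base c.1 ∈ W) ∧
      ∃ (S₁ : Scheme.{u}) (e : S₁ ⟶ S) (_ : Etale e) (φ : (W : Scheme.{u}) ≅ pullback f e),
        φ.hom ≫ pullback.fst f e = W.ι ≫ g := by
  classical
  let i := S.fromSpecResidueField s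
  let K := AlgebraicClosure (S.residueField s)
  let σK := Spec.map (CommRingCat.ofHom (algebraMap (S.residueField s) K))
  let p₀ := pullback.fst (pullback.snd f i) σK
  let m : (C : Scheme.{u}) ⟶ pullback f i := C.ι ≫ pullback.map (g ≫ f) i f i g (𝟙 _) (𝟙 S)
    (Category.comp_id _) ((Category.comp_id _).trans (Category.id_comp _).symm)
  have hm1 : m ≫ pullback.fst f i = C.ι ≫ pullback.fst (g ≫ f) i ≫ g :=
    (Category.assoc _ _ _).trans (congrArg (C.ι ≫ ·) (pullback.lift_fst _ _ _))
  obtain ⟨ι, hι, e₀, he₀⟩ := hsplit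
  let P₀ := pullback (pullback.snd f i) σK
  let e : pullback m p₀ ≅ ∐ fun _ : ι => P₀ := e₀
  have he : ∀ j, Sigma.ι (fun _ : ι => P₀) j ≫ e.inv ≫ pullback.snd m p₀ = 𝟙 P₀ := he₀
  haveI : Surjective σK :=
    ⟨fun x => ⟨default, Subsingleton.elim (α := Spec (CommRingCat.of (S.residueField s))) _ _⟩⟩
  haveI : IsIntegralHom σK :=
    IsIntegralHom.SpecMap_iff.2 (Algebra.IsIntegral.isIntegral (R := S.residueField s) (A := K))
  haveI : IsIntegralHom p₀ := MorphismProperty.pullback_fst (P := @IsIntegralHom) _ _ ‹IsIntegralHom σK›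
  haveI : UniversallyOpen σK := inferInstance
  haveI : UniversallyOpen p₀ := inferInstance
  haveI : Surjective p₀ := MorphismProperty.pullback_fst (P := @Surjective) _ _ ‹Surjective σK›
  let fC := pullback.fst m p₀
  haveI : Surjective fC := MorphismProperty.pullback_fst (P := @Surjective) _ _ ‹Surjective p₀›
  haveI : IsIntegralHom fC := MorphismProperty.pullback_fst (P := @IsIntegralHom) _ _ ‹IsIntegralHom p₀›
  haveI : UniversallyOpen fC := inferInstance
  haveI : ConnectedSpace ↥(C : Scheme.{u}) := ‹ConnectedSpace ↥C›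
  obtain ⟨c₀⟩ := (inferInstance : Nonempty ↥(C : Scheme.{u}))
  obtain ⟨y₀, -⟩ := fC.surjective c₀
  obtain ⟨j, z₀, -⟩ := (sigmaOpenCover fun _ : ι => P₀).exists_eq (e.hom y₀)
  let ξ := σK ≫ i
  let P := pullback f ξ
  let π₀ : P ⟶ P₀ :=
    pullback.lift (pullback.lift (pullback.fst f ξ) (pullback.snd f ξ ≫ σK) (by
      rw [Category.assoc]; exact pullback.condition)) (pullback.snd f ξ) (pullback.lift_snd _ _ _)
  let π₁ : P₀ ⟶ P :=
    pullback.lift (p₀ ≫ pullback.fst f i) (pullback.snd (pullback.snd f i) σK) (by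
      simp only [p₀, ξ]
      rw [Category.assoc, pullback.condition, pullback.condition_assoc])
  have hπ : π₁ ≫ π₀ = 𝟙 P₀ := by
    apply pullback.hom_ext
    · apply pullback.hom_ext
      · simp [π₀, π₁, p₀]
      · simp [π₀, π₁, p₀, pullback.condition]
    · simp [π₀, π₁]
  let d : P ⟶ (C : Scheme.{u}) := π₀ ≫ Sigma.ι (fun _ : ι => P₀) j ≫ e.inv ≫ fC
  have hd : d ≫ m = π₀ ≫ p₀ := by
    simp only [d, fC, Category.assoc]
    rw [pullback.condition]
    exact congrArg (π₀ ≫ ·) ((Category.assoc _ _ _).symm.trans ((Category.assoc _ _ _).symm.trans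
      ((congrArg (· ≫ _) ((Category.assoc _ _ _).trans (he j))).trans (Category.id_comp _))))
  have hds : ∀ c : C, ∃ p, d p = c := by
    let J : ι → Set ↥(∐ fun _ : ι => P₀) := fun k => Set.range (Sigma.ι (fun _ : ι => P₀) k)
    have hJo : ∀ k, IsOpen (J k) := fun k => (Sigma.ι (fun _ : ι => P₀) k).isOpenEmbedding.isOpen_range
    have hJc : IsClosed (J j) := by
      have hco : (J j)ᶜ = ⋃ k : {k // k ≠ j}, J k.1 := by
        ext x
        obtain ⟨k, y, rfl⟩ : ∃ k y, Sigma.ι (fun _ : ι => P₀) k y = x :=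
          ⟨_, (sigmaOpenCover fun _ : ι => P₀).covers x⟩
        constructor
        · intro h
          exact Set.mem_iUnion.2 ⟨⟨k, fun hk => h (by subst hk; exact ⟨y, rfl⟩)⟩, y, rfl⟩
        · rintro h hj
          obtain ⟨⟨l, hl⟩, hx⟩ := Set.mem_iUnion.1 h
          exact Set.disjoint_left.1 (TopologicalSpace.Opens.coe_disjoint.2
            (disjoint_opensRange_sigmaι (fun _ : ι => P₀) l j hl)) hx hj
      exact isOpen_compl_iff.1 (hco ▸ isOpen_iUnion fun k => hJo k.1)
    let A : Set ↥(pullback m p₀) := e.hom ⁻¹' J j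
    have hA : IsClopen (fC '' A) :=
      ⟨fC.isClosedMap _ (hJc.preimage e.hom.continuous),
        fC.isOpenMap _ ((hJo j).preimage e.hom.continuous)⟩
    intro c
    have hu : fC '' A = Set.univ := hA.eq_univ ⟨fC (e.inv (Sigma.ι (fun _ : ι => P₀) j z₀)), _, by
      show e.hom (e.inv _) ∈ J j
      rw [← Scheme.Hom.comp_apply, e.inv_hom_id]
      exact ⟨z₀, rfl⟩, rfl⟩
    obtain ⟨a, ⟨b, hb⟩, rfl⟩ := hu.symm ▸ Set.mem_univ c
    refine ⟨π₁ b, ?_⟩
    have e1 : π₁ ≫ d = Sigma.ι (fun _ : ι => P₀) j ≫ e.inv ≫ fC := by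
      simp only [d, reassoc_of% hπ]
    rw [← Scheme.Hom.comp_apply, e1, Scheme.Hom.comp_apply, Scheme.Hom.comp_apply, hb,
      ← Scheme.Hom.comp_apply e.hom, e.hom_inv_id]
    rfl
  have hr : Set.range (d ≫ C.ι ≫ pullback.fst (g ≫ f) i) ⊆ Set.range (Pi1X.etaleLocus g).ι := by
    rw [Scheme.Opens.range_ι]
    rintro _ ⟨x, rfl⟩
    exact het (d x)
  let σ := IsOpenImmersion.lift (Pi1X.etaleLocus g).ι (d ≫ C.ι ≫ pullback.fst (g ≫ f) i) hr
  have hσι : σ ≫ (Pi1X.etaleLocus g).ι = d ≫ C.ι ≫ pullback.fst (g ≫ f) i := IsOpenImmersion.lift_fac _ _ _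
  have hσ : σ ≫ (Pi1X.etaleLocus g).ι ≫ g = pullback.fst f ξ := by
    rw [reassoc_of% hσι, ← hm1, reassoc_of% hd, pullback.lift_fst_assoc, pullback.lift_fst]
  obtain ⟨S₁, e₁, hEt, ψ, hψ, hψg, hrange⟩ :=
    Groth.Agent.FEtProperConn.exists_trivial_nbhd f hconn g ξ σ hσ
  refine ⟨ψ.opensRange, fun c => ?_, S₁, e₁, hEt, ψ.isoOpensRange.symm, ?_⟩
  · obtain ⟨p, rfl⟩ := hds c
    refine hrange ⟨p, ?_⟩
    rw [hσι, Scheme.Hom.comp_apply, Scheme.Hom.comp_apply]
    rfl
  · rw [Iso.symm_hom, Iso.inv_comp_eq, ← hψg, Scheme.Hom.isoOpensRange_hom_ι_assoc]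

end Groth.Agent.S3697
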