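import Groth.Statements.S3698
import Groth.Agent.EtaleGrp.Cover
import Groth.Agent.GrpScheme.AVComm
import Groth.Agent.GITLib.RigidGroup
import Mathlib.AlgebraicGeometry.Sites.Fpqc

set_option backward.isDefEq.respectTransparency false
set_option backward.isDefEq.respectTransparency.types false
set_option linter.style.haveILetI false

set_option autoImplicit false
universe u
open CategoryTheory MonoidalCategory CartesianMonoidalCategory MonObj GrpObj AlgebraicGeometry
open Pi1

open CategoryTheory CategoryTheory.Limits MonoidalCategory CartesianMonoidalCategory MonObj AlgebraicGeometry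

namespace Groth.Agent.S3698

/-- The fundamental group of an abelian variety, in the form underlying its computation: let k be an
algebraically closed field and A an abelian variety over k (a proper, geometrically integral group
scheme over k). Then every connected finite étale cover Z → A is dominated by a multiplication map:
for some integer d ≥ 1 there is a morphism A → Z over A, where A is viewed as a scheme over A
through multiplication by d. (Multiplication by d is the d-th power of the identity in the group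
Hom(A, A); consequently the fundamental group of A is the inverse limit of the groups of k-points of
the kernels of these multiplications.) -/
theorem result (k : Type u) [Field k] [IsAlgClosed k]
    (A : Over (Spec (CommRingCat.of k))) [GrpObj A] [IsProper A.hom] [GeometricallyIntegral A.hom]
    (Z : FEt.Cat A.left) [ConnectedSpace Z.left] :
    ∃ d : ℕ, 1 ≤ d ∧ ∃ ψ : A.left ⟶ Z.left, ψ ≫ Z.hom = ((𝟙 A) ^ (d : ℤ)).left := by
  haveI : IsFinite Z.hom := Z.prop.1
  haveI : Etale Z.hom := Z.prop.2
  haveI : IsIntegral A.left := GeometricallyIntegral.isIntegral_of_subsingleton A.hom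
  haveI hsurj : Surjective (Z.hom : Z.left ⟶ A.left) := by
    have key : ∀ {S : Scheme.{u}} (f : S ⟶ A.left) [IsFinite f] [Etale f] [ConnectedSpace S], Surjective f := by
      intro S f _ _ _
      refine ⟨Set.range_eq_univ.1 ?_⟩
      rcases isClopen_iff.1 ⟨f.isClosedMap.isClosed_range, f.isOpenMap.isOpen_range⟩ with h | h
      · exact absurd h (Set.range_nonempty f).ne_empty
      · exact h
    exact @key Z.left Z.hom Z.prop.1 Z.prop.2 ‹_›
  let Y : Over (Spec (CommRingCat.of k)) := Over.mk (Z.hom ≫ A.hom)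
  let φ : Y ⟶ A := Over.homMk Z.hom rfl
  haveI : IsFinite φ.left := ‹IsFinite Z.hom›
  haveI : Etale φ.left := ‹Etale Z.hom›
  haveI : Surjective φ.left := hsurj
  haveI : ConnectedSpace Y.left := ‹ConnectedSpace Z.left›
  obtain ⟨inst, hφ⟩ := Groth.Agent.EtaleGrp.exists_grpObj φ
  haveI : IsProper Y.hom := inferInstanceAs (IsProper (Z.hom ≫ A.hom))
  haveI : GeometricallyReduced A.hom :=
    Groth.Agent.FBase.BC.geometricallyReduced_of_isReduced_of_perfectField A.hom
  haveI : GrpObj (Over.mk A.hom) := inferInstanceAs (GrpObj A)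
  haveI : Smooth A.hom := smooth_of_grpObj A.hom
  haveI : Smooth Y.hom := inferInstanceAs (Smooth (Z.hom ≫ A.hom))
  haveI : IsIntegral Y.left := by
    letI : Y.left.Over (Spec (CommRingCat.of k)) := ⟨Y.hom⟩
    haveI : IsProper (Y.left ↘ Spec (CommRingCat.of k)) := ‹IsProper Y.hom›
    haveI : Smooth (Y.left ↘ Spec (CommRingCat.of k)) := ‹Smooth Y.hom›
    exact Groth.Agent.FFCurve.isIntegral_of_connected k
  haveI : GeometricallyIntegral Y.hom := Groth.Agent.AbRigid.Unital.Field.geometricallyIntegral Y.hom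
  haveI : IsCommMonObj Y := Groth.Agent.GrpScheme.AVComm.isCommMonObj Y
  -- the kernel on points
  let Φ : (𝟙_ (Over (Spec (CommRingCat.of k))) ⟶ Y) →* (𝟙_ (Over (Spec (CommRingCat.of k))) ⟶ A) :=
    MonoidHom.mk' (fun x => x ≫ φ) (fun a b => MonObj.mul_comp a b φ)
  haveI : Finite Φ.ker := by
    haveI := (IsFinite.finite_preimage_singleton φ.left
      ((1 : 𝟙_ (Over (Spec (CommRingCat.of k))) ⟶ A).left Groth.Agent.AbRigid.Unital.Field.pt)).to_subtype
    refine Finite.of_injective (β := ↥(φ.left ⁻¹'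
      {(1 : 𝟙_ (Over (Spec (CommRingCat.of k))) ⟶ A).left Groth.Agent.AbRigid.Unital.Field.pt}))
      (fun x => ⟨x.1.left Groth.Agent.AbRigid.Unital.Field.pt, ?_⟩) ?_
    · have h : x.1 ≫ φ = 1 := x.2
      show φ.left _ = _
      rw [← h]; rfl
    · intro a b hab
      exact Subtype.ext (Groth.Agent.AbRigid.Unital.Field.hom_ext_pt _ _ (congrArg Subtype.val hab))
  let d := Nat.card Φ.ker
  have hpow : ∀ a b : 𝟙_ (Over (Spec (CommRingCat.of k))) ⟶ Y, a ≫ φ = b ≫ φ →
      a ^ d = b ^ d := by
    intro a b hab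
    have hmem : a * b⁻¹ ∈ Φ.ker := by
      show Φ (a * b⁻¹) = 1
      rw [map_mul, map_inv, show Φ a = Φ b from hab, mul_inv_cancel]
    have h : (a * b⁻¹) ^ d = 1 := congrArg Subtype.val (pow_card_eq_one' (x := (⟨_, hmem⟩ : Φ.ker)))
    rw [mul_pow, inv_pow] at h
    exact mul_inv_eq_one.1 h
  -- descent
  let e : Y.left ⟶ Y.left := ((𝟙 Y) ^ d).left
  let P : Over (Spec (CommRingCat.of k)) := Over.mk (pullback.fst φ.left φ.left ≫ Y.hom)
  let p₁ : P ⟶ Y := Over.homMk (pullback.fst φ.left φ.left) rfl
  let p₂ : P ⟶ Y := Over.homMk (pullback.snd φ.left φ.left) (by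
    show pullback.snd φ.left φ.left ≫ Y.hom = pullback.fst φ.left φ.left ≫ Y.hom
    rw [← Over.w φ, ← Category.assoc, ← pullback.condition, Category.assoc])
  have hp : p₁ ≫ φ = p₂ ≫ φ := Over.OverMorphism.ext pullback.condition
  haveI : Smooth P.hom := inferInstanceAs (Smooth (pullback.fst φ.left φ.left ≫ Y.hom))
  haveI : IsReduced P.left := Groth.Agent.GITLib.Rigid.isReduced_of_smooth P.hom
  have hkey : p₁ ≫ (𝟙 Y) ^ d = p₂ ≫ (𝟙 Y) ^ d := by
    haveI : LocallyOfFiniteType ((p₁ ≫ (𝟙 Y) ^ d).left ≫ Y.hom) := by rw [Over.w]; infer_instance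
    refine Over.OverMorphism.ext (ext_of_apply_eq Y.hom Set.univ isClosed_univ.isLocallyClosed dense_univ ?_
      (by rw [Over.w, Over.w]))
    intro x _ hx
    let a : 𝟙_ (Over (Spec (CommRingCat.of k))) ⟶ P :=
      Over.homMk (pointOfClosedPoint P.hom x hx) (pointOfClosedPoint_comp P.hom x hx)
    have hax : a.left Groth.Agent.AbRigid.Unital.Field.pt = x := pointOfClosedPoint_apply P.hom x hx _
    have h : a ≫ p₁ ≫ (𝟙 Y) ^ d = a ≫ p₂ ≫ (𝟙 Y) ^ d := by
      rw [MonObj.comp_pow, MonObj.comp_pow, MonObj.comp_pow, MonObj.comp_pow, Category.comp_id,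
        Category.comp_id]
      exact hpow _ _ (by rw [Category.assoc, Category.assoc, hp])
    rw [← hax]
    exact congrArg (fun f => f.left Groth.Agent.AbRigid.Unital.Field.pt) h
  haveI : EffectiveEpi φ.left := inferInstance
  have hcoh : ∀ {T : Scheme.{u}} (g₁ g₂ : T ⟶ Y.left), g₁ ≫ φ.left = g₂ ≫ φ.left → g₁ ≫ e = g₂ ≫ e := by
    intro T g₁ g₂ h
    have h1 := congrArg (fun f => pullback.lift g₁ g₂ h ≫ f.left) hkey
    simpa [p₁, p₂, e] using h1
  refine ⟨d, Nat.card_pos, EffectiveEpi.desc φ.left e hcoh, ?_⟩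
  rw [← cancel_epi φ.left, ← Category.assoc, EffectiveEpi.fac]
  show ((𝟙 Y) ^ d).left ≫ φ.left = φ.left ≫ ((𝟙 A) ^ (d : ℤ)).left
  rw [← Over.comp_left, ← Over.comp_left, zpow_natCast, MonObj.comp_pow, MonObj.pow_comp,
    Category.id_comp, Category.comp_id]

end Groth.Agent.S3698
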