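import Groth.Statements.S3699
import Groth.Agent.SepCount.Main
import Groth.Agent.S2771
import Groth.Agent.S2259
import Groth.Agent.S10961
import Groth.Agent.CycLib.FlatBC
-- import your own Groth.Agent.* helpers here

set_option autoImplicit false
universe u
open SGA1

set_option backward.isDefEq.respectTransparency false

namespace Groth.Agent.S3699

section
open AlgebraicGeometry CategoryTheory CategoryTheory.Limits TopologicalSpace Wt.GeomPts

theorem geomCount {X Y : Scheme.{u}} (f : X ⟶ Y) [LocallyQuasiFinite f] [QuasiCompact f]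
    {K : Type u} [Field K] [IsAlgClosed K] (yb : Spec (CommRingCat.of K) ⟶ Y) {y : Y} (hy : pt yb = y) :
    Nat.card ↥(pullback f yb) = SepCount.sepSum f y := by
  classical
  haveI hfy : Finite {u : X // f u = y} := (f.finite_preimage_singleton y).to_subtype
  rw [← SepCount.card_geomFib_eq_sepSum f yb hy]
  let S := Spec (CommRingCat.of K)
  let π : pullback f yb ⟶ S := pullback.snd f yb
  let e := baseChangeEquiv (K := K) f (IsPullback.of_hasPullback f yb) (𝟙 S)
  rw [show GeomFib f yb = GeomFib f (𝟙 S ≫ yb) by rw [Category.id_comp], ← Nat.card_congr e]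
  refine (Nat.card_congr (Equiv.ofBijective (fun x : GeomFib π (𝟙 S) => pt x.1) ⟨?_, ?_⟩)).symm
  · intro a b hab
    refine (sigmaEquiv π (𝟙 S)).injective (Sigma.ext (Subtype.ext hab) ?_)
    have hsub : ∀ u : {u : ↥(pullback f yb) // π u = pt (𝟙 S)}, Subsingleton (Lifts π (𝟙 S) u) := fun u => by
      refine ⟨fun φ ψ => Subtype.ext ?_⟩
      let p := S.fromSpecResidueField (pt (𝟙 S))
      have h1 : Spec.map (emb (𝟙 S)) ≫ p = 𝟙 S := (S.SpecToEquivOfField K).symm_apply_apply (𝟙 S)
      have h2 : Spec.preimage p ≫ emb (𝟙 S) = 𝟙 _ := by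
        refine Spec.map_injective ?_
        rw [Spec.map_comp, Spec.map_preimage, h1, Spec.map_id]
      have hbij : Function.Bijective (emb (𝟙 S)).hom := ⟨RingHom.injective _, fun a =>
        ⟨(Spec.preimage p).hom a, congrArg (fun g => g.hom a) h2⟩⟩
      let e₁ := (RingEquiv.ofBijective _ hbij).symm.trans
        (S.residueFieldCongr u.2).commRingCatIsoToRingEquiv.symm
      haveI : IsAlgClosed (S.residueField (π u.1)) := IsAlgClosed.of_ringEquiv _ _ e₁
      letI := (π.residueFieldMap u.1).hom.toAlgebra
      haveI : Module.Finite (S.residueField (π u.1)) ((pullback f yb).residueField u.1) :=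
        residueFieldMap_finite π u.1
      have hs : Function.Surjective (π.residueFieldMap u.1).hom :=
        (IsAlgClosed.algebraMap_bijective_of_isIntegral
          (k := S.residueField (π u.1)) (K := (pullback f yb).residueField u.1)).2
      ext z
      obtain ⟨w, rfl⟩ := hs z
      exact (congrArg (fun g => g.hom w) φ.2).trans (congrArg (fun g => g.hom w) ψ.2).symm
    exact Subsingleton.helim (congrArg (Lifts π (𝟙 S)) (Subtype.ext hab)) _ _
  · intro p
    obtain ⟨x, hx⟩ := surjective_pt π (𝟙 S) ⟨p, Subsingleton.elim _ _⟩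
    exact ⟨x, congrArg Subtype.val hx⟩

theorem finrank_genFibre {X Y : Scheme.{u}} (f : X ⟶ Y) [IsSeparated f] [LocallyQuasiFinite f]
    [LocallyOfFiniteType f] [QuasiCompact f] [IsReduced X] (η : Y) (hη : IsField (Y.presheaf.stalk η))
    (hmax : ∀ x : X, f x = η → ∀ x' : X, x' ⤳ x → x' = x) :
    letI := (((pullback.snd f (Y.fromSpecResidueField η)).appTop).hom.comp
      (Scheme.ΓSpecIso (Y.residueField η)).inv.hom).toAlgebra
    Module.finrank (Y.residueField η) Γ(pullback f (Y.fromSpecResidueField η), ⊤) =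
      ∑ x ∈ (f.finite_preimage_singleton η).toFinset, EGA4loc.residueDegree f x := by
  classical
  let c : f.fiber η ⟶ Spec (CommRingCat.of (Y.residueField η)) := f.fiberToSpecResidueField η
  haveI : LocallyQuasiFinite c := inferInstanceAs (LocallyQuasiFinite (pullback.snd f _))
  haveI : QuasiCompact c := inferInstanceAs (QuasiCompact (pullback.snd f _))
  haveI : IsFinite c := IsFinite.of_locallyQuasiFinite c
  haveI := BddFibLib.finite_points c
  haveI := Fintype.ofFinite (f.fiber η)
  refine (S1868.sum_length_mul_residueDegree c).trans ?_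
  have himg : (f.finite_preimage_singleton η).toFinset = Finset.univ.image (f.fiberι η) :=
    Finset.coe_injective (by rw [Set.Finite.coe_toFinset, Finset.coe_image, Finset.coe_univ,
      Set.image_univ, f.range_fiberι])
  rw [himg, Finset.sum_image fun a _ b _ e => (f.fiberι η).isEmbedding.injective e]
  refine Finset.sum_congr rfl fun z _ => ?_
  rw [CycLib.FlatBC.residueDegree_fiberι]
  have hz : f (f.fiberι η z) = η := by
    rw [← Scheme.Hom.comp_apply, f.fiber_fac]
    exact Scheme.fromSpecResidueField_apply η _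
  let L := X.presheaf.stalk (f.fiberι η z)
  have hL : IsField L := S10961.isField_stalk _ (hmax _ hz)
  let φ : L →+* (f.fiber η).presheaf.stalk z := ((f.fiberι η).stalkMap z).hom
  have hφ : Function.Bijective φ := by
    letI := hL.toField
    exact ⟨φ.injective, (f.fiberι η).stalkMap_surjective z⟩
  have hF : IsField ((f.fiber η).presheaf.stalk z) :=
    MulEquiv.isField hL (RingEquiv.ofBijective φ hφ).symm.toMulEquiv
  have hlen : Module.length ((f.fiber η).presheaf.stalk z) ((f.fiber η).presheaf.stalk z) = 1 := by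
    letI := hF.toField
    exact Module.length_eq_one _ _
  rw [hlen, ENat.toNat_one, one_mul]
  rfl

end

open AlgebraicGeometry CategoryTheory CategoryTheory.Limits TopologicalSpace Wt.GeomPts in
/-- Let f : X -> Y be separated, quasi-finite and of finite type, with Y irreducible and locally
Noetherian, X reduced, and every irreducible component of X dominating Y (every maximal point of X
maps to the generic point η of Y). Let n be the degree of X over Y, the dimension over κ(η) of the
ring of global sections of the generic fibre (the sum of the degrees of the function fields of the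
components of X over that of Y), and for a point y let n(y) be the number of points of the geometric
fibre of f at y. If the local ring of Y at y is a normal domain, then n(y) ≤ n, with equality if and
only if over some open neighbourhood U of y the restriction of f is a finite etale cover of U. -/
theorem result {X Y : Scheme.{u}} (f : X ⟶ Y) [IsSeparated f] [LocallyQuasiFinite f]
    [LocallyOfFiniteType f] [QuasiCompact f] [IrreducibleSpace Y] [IsLocallyNoetherian Y] [IsReduced X]
    (hdom : ∀ x : X, (∀ x' : X, x' ⤳ x → x' = x) → f.base x = genericPoint Y)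
    (y : Y) [IsDomain (Y.presheaf.stalk y)] (hy : IsIntegrallyClosed (Y.presheaf.stalk y)) :
    letI := (((pullback.snd f (Y.fromSpecResidueField (genericPoint Y))).appTop).hom.comp
      (Scheme.ΓSpecIso (Y.residueField (genericPoint Y))).inv.hom).toAlgebra
    letI n := Module.finrank (Y.residueField (genericPoint Y)) Γ(pullback f (Y.fromSpecResidueField (genericPoint Y)), ⊤)
    letI ny := Nat.card ↥(pullback f (Spec.map (CommRingCat.ofHom (algebraMap (Y.residueField y)
      (AlgebraicClosure (Y.residueField y)))) ≫ Y.fromSpecResidueField y))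
    ny ≤ n ∧ (ny = n ↔ ∃ U : Y.Opens, y ∈ U ∧ IsFinite (f ∣_ U) ∧ Etale (f ∣_ U)) := by
  classical
  haveI : _root_.IsReduced (Y.presheaf.stalk y) := inferInstance
  obtain ⟨V, hyV, hVred⟩ := S2259.exists_reduced_nhd Y y
  have hηV : genericPoint Y ∈ V := (genericPoint_specializes y).mem_open V.2 hyV
  haveI : Nonempty V.toScheme := ⟨⟨y, hyV⟩⟩
  haveI : IrreducibleSpace V.toScheme := by
    haveI : Nonempty ↥(V : Set Y) := ⟨⟨y, hyV⟩⟩
    exact (isIrreducible_iff_irreducibleSpace (s := (V : Set Y))).mp
      ⟨⟨y, hyV⟩, (PreirreducibleSpace.isPreirreducible_univ (X := Y)).open_subset V.2 (Set.subset_univ _)⟩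
  haveI : IsIntegral V.toScheme := isIntegral_of_irreducibleSpace_of_isReduced _
  let η' : V.toScheme := ⟨genericPoint Y, hηV⟩
  let y' : V.toScheme := ⟨y, hyV⟩
  have hgV : genericPoint V.toScheme = η' := by
    refine ((genericPoint_specializes η').antisymm ?_).eq
    exact V.ι.isOpenEmbedding.isInducing.specializes_iff.mp (genericPoint_specializes _)
  let f' := f ∣_ V
  let W := f ⁻¹ᵁ V
  have hW : ∀ x : W.toScheme, (f' x).1 = f x.1 := fun x =>
    congrArg (fun g => g x) (morphismRestrict_ι f V)
  have hmax : ∀ x : X, f x = genericPoint Y → ∀ x' : X, x' ⤳ x → x' = x := by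
    intro x hx x' hx'
    have hfx' : f x' = genericPoint Y :=
      ((hx ▸ hx'.map f.continuous : f x' ⤳ genericPoint Y).antisymm (genericPoint_specializes _)).eq
    have := isDiscrete_iff_discreteTopology.mp (f.isDiscrete_preimage_singleton (genericPoint Y))
    have h : (⟨x', hfx'⟩ : f ⁻¹' {genericPoint Y}) ⤳ ⟨x, hx⟩ := (subtype_specializes_iff _ _).mpr hx'
    exact congrArg Subtype.val h.eq
  have hdom' : ∀ Z ∈ irreducibleComponents ↥W.toScheme, genericPoint V.toScheme ∈ f'.base '' Z := by
    intro Z hZ
    have hcl : IsClosed Z := isClosed_of_mem_irreducibleComponents Z hZ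
    obtain ⟨z, hz⟩ := QuasiSober.sober hZ.1 hcl
    refine ⟨z, hz.mem, ?_⟩
    rw [hgV]
    refine Subtype.ext ((hW z).trans (hdom z.1 fun x' hx' => ?_))
    let w : W.toScheme := ⟨x', hx'.mem_open W.2 z.2⟩
    have hwz : w ⤳ z := W.ι.isOpenEmbedding.isInducing.specializes_iff.mp hx'
    have hle : Z ⊆ closure {w} := hz.def ▸ hwz.closure_subset
    have hw : w ∈ Z := hZ.2 isIrreducible_singleton.closure hle (subset_closure rfl)
    exact congrArg Subtype.val (hwz.antisymm (hz.specializes hw)).eq
  have hfin' : (f'.base ⁻¹' {genericPoint V.toScheme}).Finite := f'.finite_preimage_singleton _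
  have hy' : IsIntegrallyClosed (V.toScheme.presheaf.stalk y') := by
    haveI := hy
    exact IsIntegrallyClosed.of_equiv (V.stalkIso y').commRingCatIsoToRingEquiv.symm
  let yb : Spec (CommRingCat.of (AlgebraicClosure (Y.residueField y))) ⟶ Y :=
    Spec.map (CommRingCat.ofHom (algebraMap (Y.residueField y) (AlgebraicClosure (Y.residueField y)))) ≫
      Y.fromSpecResidueField y
  have hyb : pt yb = y := Scheme.fromSpecResidueField_apply y _
  have hny : Nat.card ↥(pullback f yb) = SepCount.sepSum f' y' := by
    rw [geomCount f yb hyb]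
    haveI : Finite {u : X // f u = y} := (f.finite_preimage_singleton y).to_subtype
    haveI : Finite {u : W.toScheme // f' u = y'} := (f'.finite_preimage_singleton y').to_subtype
    rw [← SepCount.card_geomFib_eq_sepSum f yb hyb]
    have hr : Set.range yb ⊆ Set.range V.ι := by
      rintro _ ⟨q, rfl⟩
      rw [Scheme.Opens.range_ι, eq_pt yb q, hyb]
      exact hyV
    let yb' := IsOpenImmersion.lift V.ι yb hr
    have hyb' : yb' ≫ V.ι = yb := IsOpenImmersion.lift_fac _ _ _
    have hpt : pt yb' = y' := V.ι.isOpenEmbedding.injective (by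
      show (yb' ≫ V.ι) _ = _
      rw [hyb']
      exact hyb)
    rw [← SepCount.card_geomFib_eq_sepSum f' yb' hpt,
      Nat.card_congr (baseChangeEquiv f (isPullback_morphismRestrict f V).flip yb'), hyb']
  have hset : {x : W.toScheme | f'.base x = y' ∧ f'.QuasiFiniteAt x} = {x | f'.base x = y'} :=
    Set.ext fun x => ⟨fun h => h.1, fun h => ⟨h, Scheme.Hom.quasiFiniteAt f' x⟩⟩
  have hsep : SepCount.sepSum f' y' =
      ∑ᶠ x ∈ {x : W.toScheme | f'.base x = y' ∧ f'.QuasiFiniteAt x}, EGA4loc.residueSepDegree f' x := by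
    rw [hset, ← finsum_set_coe_eq_finsum_mem]
    rfl
  let hfinX := f.finite_preimage_singleton (genericPoint Y)
  have hdeg : ∀ x : W.toScheme, f'.residueDegree x = f.residueDegree x.1 := by
    intro x
    have h1 := CycLib.residueDegree_comp f' V.ι x
    rw [CycLib.residueDegree_closedImmersion V.ι, mul_one] at h1
    have h2 := CycLib.residueDegree_comp W.ι f x
    rw [CycLib.residueDegree_closedImmersion W.ι, one_mul] at h2
    rw [← h1, morphismRestrict_ι, h2]
    rfl
  have hsum : ∑ x ∈ hfin'.toFinset, EGA4loc.residueDegree f' x =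
      ∑ x ∈ hfinX.toFinset, EGA4loc.residueDegree f x := by
    refine Finset.sum_bij (fun x _ => x.1) (fun x hx => ?_) (fun _ _ _ _ h => Subtype.ext h)
      (fun x hx => ?_) (fun x _ => hdeg x)
    · rw [Set.Finite.mem_toFinset] at hx ⊢
      show f x.1 = _
      rw [← hW x, show f' x = η' from (hx : f' x = _).trans hgV]
    · have hx' : f x = genericPoint Y := hfinX.mem_toFinset.mp hx
      refine ⟨⟨x, show f x ∈ V by rw [hx']; exact hηV⟩, hfin'.mem_toFinset.mpr ?_, rfl⟩
      show f' _ = _
      rw [hgV]
      exact Subtype.ext ((hW _).trans hx')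
  have hn := finrank_genFibre f (genericPoint Y)
    (MulEquiv.isField (Field.toIsField V.toScheme.functionField)
      ((V.toScheme.presheaf.stalkCongr (.of_eq hgV)).trans (V.stalkIso η')).commRingCatIsoToRingEquiv.symm.toMulEquiv)
    hmax
  obtain ⟨-, h1, h2⟩ := S2770.main f' hdom' hfin' y' (Comod.isGeomUnibranch_of_normal _)
  have hP : ∀ {U : Y.Opens} (_ : IsFinite (f ∣_ U)) (_ : Etale (f ∣_ U)),
      ∀ U' : Y.Opens, U' ≤ U → IsFinite (f ∣_ U') ∧ Etale (f ∣_ U') := by
    intro U h₁ h₂ U' hle
    have himg : U.ι ''ᵁ (U.ι ⁻¹ᵁ U') = U' := by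
      rw [Scheme.Hom.image_preimage_eq_opensRange_inf, Scheme.Opens.opensRange_ι]
      exact inf_eq_right.mpr hle
    have e := morphismRestrictRestrict f U (U.ι ⁻¹ᵁ U') ≪≫ morphismRestrictEq f himg
    exact ⟨(MorphismProperty.arrow_mk_iso_iff @IsFinite e).mp
        (IsZariskiLocalAtTarget.restrict (P := @IsFinite) h₁ _),
      (MorphismProperty.arrow_mk_iso_iff @Etale e).mp
        (IsZariskiLocalAtTarget.restrict (P := @Etale) h₂ _)⟩
  have key := S2771.result f' hdom' hfin' y' hy'
  rw [← hsep, ← hny, hsum, ← hn] at key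
  rw [← hsep, ← hny] at h1
  refine ⟨h1.trans (h2.trans (le_of_eq (hsum.trans hn.symm))), ?_⟩
  constructor
  · intro h
    obtain ⟨U, hyU, hU₁, hU₂⟩ := key.mp ⟨(hset ▸ f'.finite_preimage_singleton y'), h⟩
    have e := morphismRestrictRestrict f V U
    exact ⟨V.ι ''ᵁ U, ⟨y', hyU, rfl⟩, (MorphismProperty.arrow_mk_iso_iff @IsFinite e).mp hU₁,
      (MorphismProperty.arrow_mk_iso_iff @Etale e).mp hU₂⟩
  · rintro ⟨U, hyU, hU₁, hU₂⟩
    obtain ⟨h₁, h₂⟩ := hP hU₁ hU₂ (V.ι ''ᵁ (V.ι ⁻¹ᵁ U)) (by
      rw [Scheme.Hom.image_preimage_eq_opensRange_inf]; exact inf_le_right)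
    have e := morphismRestrictRestrict f V (V.ι ⁻¹ᵁ U)
    exact (key.mpr ⟨V.ι ⁻¹ᵁ U, hyU, (MorphismProperty.arrow_mk_iso_iff @IsFinite e).mpr h₁,
      (MorphismProperty.arrow_mk_iso_iff @Etale e).mpr h₂⟩).2

end Groth.Agent.S3699
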