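import Groth.Statements.S3703
import Groth.Agent.EtRamLib.Kummer.UnitConst
import Groth.Agent.EtConsAb.SpecialCrit
import Groth.Agent.EtConsAb.ConstMod

set_option autoImplicit false
open CategoryTheory CategoryTheory.Limits AlgebraicGeometry
universe u
open SGA1t

namespace Groth.Agent.S3703

/-- A finite constant sheaf is constructible. -/
theorem isConstructible_const (X : Scheme.{u}) (M : Type) [AddCommGroup M] [Finite M] :
    EtPBC.IsConstructible (EtCoh.const X M) := by
  intro U _
  refine ⟨1, fun _ => (U : Scheme.{u}), fun _ => U.ι, fun _ => inferInstance, fun _ => ?_, fun i j hij => ?_, ?_,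
    fun _ => ?_⟩
  · rw [Scheme.Opens.range_ι, Subtype.coe_preimage_self]
    exact Topology.IsConstructible.univ
  · exact absurd (Subsingleton.elim i j) hij
  · rw [Set.iUnion_const, Scheme.Opens.range_ι]
  · intro _
    exact Groth.Agent.EtConsAb.isFLC_pull U.ι (Groth.Agent.EtConsAb.isFLC_const (M := ULift.{u + 1} M))

/-- Let f : X → S be a morphism and φ_1, …, φ_r global functions on X cutting out a strict normal
crossings divisor relative to S, with i : U → X the inclusion of the open complement. Then for every
finite abelian group M the direct image i_* M_U of the constant étale sheaf on U with value M is a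
constructible sheaf on X. The published statement covers more general coefficient sheaves; it is
stated here for a finite constant sheaf. -/
theorem result {X S : Scheme.{u}} (f : X ⟶ S) {r : ℕ} (φ : Fin r → Γ(X, ⊤))
    (hD : SGA1t.IsRelSNC f φ) (M : Type) [AddCommGroup M] [Finite M] :
    EtPBC.IsConstructible ((EtCoh.push (SGA1t.compl φ).ι).obj (EtCoh.const (SGA1t.compl φ : Scheme.{u}) M)) := by
  obtain ⟨hI, hS⟩ := EtRamLib.Kummer.Cover.clopen_of_isRelSNC f φ hD
  exact Groth.Agent.EtConsAb.isConstructible_of_iso
    (EtRamLib.Kummer.Cover.pushConstIso _ hI hS M).symm (isConstructible_const X M)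

end Groth.Agent.S3703
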