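import Groth.Statements.S3709
import Groth.Agent.SGA1Misc.EtaleSection
-- import your own Groth.Agent.* helpers here

set_option autoImplicit false
universe u
open SGA1

namespace Groth.Agent.S3709

open AlgebraicGeometry CategoryTheory CategoryTheory.Limits in
/-- A universally submersive morphism is a descent morphism for etale schemes (exactness of Hom_S(X, Y)
-> Hom_S'(X', Y') => Hom_S''(X'', Y'')): let g : S' -> S be universally submersive, X and Y schemes
over S with Y etale over S, X' and Y' their base changes along g, and f' : X' -> Y' an S'-morphism
whose two pullbacks to S'' = S' x_S S' coincide (equivalently: the two composites X'' -> X' -> Y' ->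
Y along the two projections agree). Then there is exactly one S-morphism u : X -> Y whose base
change is f'. -/
theorem result {S S' X Y : Scheme.{u}} (g : S' ⟶ S) (hg : SGA1.UnivSubmersive g)
    (p : X ⟶ S) (q : Y ⟶ S) [Etale q]
    (f' : pullback p g ⟶ pullback q g) (hf' : f' ≫ pullback.snd q g = pullback.snd p g)
    (hcoc : pullback.map p (pullback.fst g g ≫ g) p g (𝟙 X) (pullback.fst g g) (𝟙 S)
        ((Category.comp_id _).trans (Category.id_comp _).symm) (Category.comp_id _) ≫ f' ≫ pullback.fst q g =
      pullback.map p (pullback.fst g g ≫ g) p g (𝟙 X) (pullback.snd g g) (𝟙 S)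
        ((Category.comp_id _).trans (Category.id_comp _).symm) ((Category.comp_id _).trans pullback.condition) ≫
        f' ≫ pullback.fst q g) :
    ∃! u : X ⟶ Y, u ≫ q = p ∧ f' ≫ pullback.fst q g = pullback.fst p g ≫ u := by
  haveI : Etale (pullback.fst p q) := MorphismProperty.pullback_fst _ _ (inferInstanceAs (Etale q))
  let h := pullback.fst p g
  have hh : SGA1.UnivSubmersive h := Groth.Agent.SGA1Misc.univSubmersive_pullback_fst hg p
  haveI : Surjective h := Groth.Agent.SGA1Misc.univSubmersive_surjective hh
  let s' : pullback p g ⟶ pullback p q := pullback.lift h (f' ≫ pullback.fst q g) (by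
    rw [Category.assoc, pullback.condition (f := q) (g := g), reassoc_of% hf']
    exact pullback.condition)
  obtain ⟨s, hs, hs'⟩ := Groth.Agent.SGA1Misc.exists_section_of_univSubmersive (pullback.fst p q) h hh
    s' (pullback.lift_fst _ _ _) (by
    let m : pullback h h ⟶ pullback p (pullback.fst g g ≫ g) := pullback.lift
      (pullback.fst h h ≫ h)
      (pullback.lift (pullback.fst h h ≫ pullback.snd p g) (pullback.snd h h ≫ pullback.snd p g) (by
        simp only [h, Category.assoc, ← pullback.condition (f := p) (g := g)]
        exact pullback.condition_assoc p))
      (by simp only [h, Category.assoc, pullback.lift_fst_assoc, pullback.condition (f := p) (g := g)])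
    have m1 : m ≫ pullback.map p (pullback.fst g g ≫ g) p g (𝟙 X) (pullback.fst g g) (𝟙 S)
        ((Category.comp_id _).trans (Category.id_comp _).symm) (Category.comp_id _) =
        pullback.fst h h := by
      apply pullback.hom_ext <;>
        simp only [m, h, Category.assoc, pullback.lift_fst, pullback.lift_snd, Category.comp_id,
          pullback.lift_fst_assoc, pullback.lift_snd_assoc]
    have m2 : m ≫ pullback.map p (pullback.fst g g ≫ g) p g (𝟙 X) (pullback.snd g g) (𝟙 S)
        ((Category.comp_id _).trans (Category.id_comp _).symm)
        ((Category.comp_id _).trans pullback.condition) = pullback.snd h h := by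
      apply pullback.hom_ext
      · simp only [m, Category.assoc, pullback.lift_fst, pullback.lift_fst_assoc, Category.comp_id]
        exact pullback.condition
      · simp only [m, Category.assoc, pullback.lift_snd, pullback.lift_snd_assoc, Category.comp_id]
    apply pullback.hom_ext
    · simp only [s', Category.assoc, pullback.lift_fst]
      exact pullback.condition
    · simp only [s', Category.assoc, pullback.lift_snd]
      have := congrArg (m ≫ ·) hcoc
      simp only [reassoc_of% m1, reassoc_of% m2] at this
      exact this)
  refine ⟨s ≫ pullback.snd p q, ⟨?_, ?_⟩, ?_⟩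
  · rw [Category.assoc, ← pullback.condition, reassoc_of% hs]
  · have := congrArg (· ≫ pullback.snd p q) hs'
    simp only [s', Category.assoc, pullback.lift_snd] at this
    exact this.symm
  · rintro v ⟨hv1, hv2⟩
    refine Groth.Agent.SGA1Misc.eq_of_surjective_comp_eq q _ _ ?_ h ?_
    · rw [hv1, Category.assoc, ← pullback.condition, reassoc_of% hs]
    · have := congrArg (· ≫ pullback.snd p q) hs'
      simp only [s', Category.assoc, pullback.lift_snd] at this
      rw [this]; exact hv2.symm

end Groth.Agent.S3709
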