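import Groth.Statements.S3710
import Groth.Agent.EtRamLib.Kummer.SNCChart
import Mathlib.RingTheory.RingHom.Smooth

set_option autoImplicit false
open CategoryTheory CategoryTheory.Limits AlgebraicGeometry
universe u
open SGA1t

namespace Groth.Agent.S3710

open Groth.Agent.EtRamLib.Kummer

lemma assoc5 {C : Type*} [Category C] {a b c d e g h : C} (α : a ⟶ b) (β : b ⟶ c) (γ : c ⟶ d) (δ : d ⟶ e)
    (ε : e ⟶ g) (η : g ⟶ h) : ((α ≫ β ≫ γ ≫ δ) ≫ ε) ≫ η = α ≫ β ≫ γ ≫ δ ≫ ε ≫ η := by simp

lemma res_app_germ {Z Y : Scheme.{u}} (g : Z ⟶ Y) (U : Y.Opens) (z : Z) (hz : z ∈ g ⁻¹ᵁ U) :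
    Y.presheaf.map (homOfLE le_top).op ≫ g.app U ≫ Z.presheaf.germ (g ⁻¹ᵁ U) z hz =
      g.appTop ≫ Z.presheaf.germ ⊤ z trivial := by
  rw [Scheme.Hom.naturality_assoc]
  exact congrArg (g.appTop ≫ ·) (TopCat.Presheaf.germ_res _ _ _ _)

theorem formallySmooth_kummer {R A : Type u} [CommRing R] [CommRing A] [Algebra R A] {σ : Type u} (c : σ → A)
    (h : (MvPolynomial.eval₂Hom (algebraMap R A) c).FormallyEtale) {ι : Type} (e : ι → σ) (he : Function.Injective e)
    (a : ι → A) (ha : ∀ i, c (e i) = a i) (n : ι → ℕ) :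
    Algebra.FormallySmooth R (SGA1t.kummer A a n) := by
  letI : Algebra (MvPolynomial σ R) A := (MvPolynomial.eval₂Hom (algebraMap R A) c).toAlgebra
  haveI : Algebra.FormallyEtale (MvPolynomial σ R) A := h
  haveI : IsScalarTower R (MvPolynomial σ R) A := IsScalarTower.of_algebraMap_eq fun r =>
    (MvPolynomial.eval₂Hom_C (algebraMap R A) c r).symm
  refine Algebra.FormallySmooth.of_comp_surjective fun B _ _ I hI g => ?_
  have hs : Function.Surjective (Ideal.Quotient.mk I) := Ideal.Quotient.mk_surjective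
  let T : ι → SGA1t.kummer A a n := fun i => Ideal.Quotient.mk _ (MvPolynomial.X i)
  let t : ι → B := fun i => Function.surjInv hs (g (T i))
  have ht : ∀ i, Ideal.Quotient.mk I (t i) = g (T i) := fun i => Function.surjInv_eq hs _
  let y : σ → B := Function.extend e (fun i => t i ^ n i)
    (fun j => Function.surjInv hs (g (algebraMap A (SGA1t.kummer A a n) (c j))))
  have hT : ∀ i, T i ^ n i = algebraMap A (SGA1t.kummer A a n) (a i) := by
    intro i
    have hx : (Ideal.Quotient.mk (Ideal.span (Set.range fun i => (MvPolynomial.X i : MvPolynomial ι A) ^ n i -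
        MvPolynomial.C (a i)))) (MvPolynomial.X i ^ n i - MvPolynomial.C (a i)) = 0 :=
      Ideal.Quotient.eq_zero_iff_mem.mpr (Ideal.subset_span ⟨i, rfl⟩)
    rw [map_sub, map_pow, sub_eq_zero] at hx
    exact hx
  have hy : ∀ j, Ideal.Quotient.mk I (y j) = g (algebraMap A (SGA1t.kummer A a n) (c j)) := by
    intro j
    by_cases hj : ∃ i, e i = j
    · obtain ⟨i, rfl⟩ := hj
      rw [show y (e i) = t i ^ n i from he.extend_apply _ _ i, map_pow, ht, ← map_pow, hT, ha]
    · rw [show y j = _ from Function.extend_apply' _ _ j hj]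
      exact Function.surjInv_eq hs _
  letI : Algebra (MvPolynomial σ R) B := (MvPolynomial.eval₂Hom (algebraMap R B) y).toAlgebra
  let gA : A →ₐ[MvPolynomial σ R] B ⧸ I :=
    { g.toRingHom.comp (algebraMap A (SGA1t.kummer A a n)) with
      commutes' := fun P => by
        have e1 : (g.toRingHom.comp (algebraMap A (SGA1t.kummer A a n))).comp (MvPolynomial.eval₂Hom (algebraMap R A) c) =
            (Ideal.Quotient.mk I).comp (MvPolynomial.eval₂Hom (algebraMap R B) y) := by
          refine MvPolynomial.ringHom_ext (fun r => ?_) (fun j => ?_)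
          · simp only [RingHom.comp_apply, MvPolynomial.eval₂Hom_C, AlgHom.toRingHom_eq_coe, RingHom.coe_coe]
            rw [← IsScalarTower.algebraMap_apply R A (SGA1t.kummer A a n), AlgHom.commutes]
            rfl
          · simp only [RingHom.comp_apply, MvPolynomial.eval₂Hom_X', AlgHom.toRingHom_eq_coe, RingHom.coe_coe]
            exact (hy j).symm
        exact RingHom.congr_fun e1 P }
  obtain ⟨ψ, hψ⟩ := (Algebra.FormallyEtale.comp_bijective (MvPolynomial σ R) A I hI).2 gA
  have hψmk : ∀ x, Ideal.Quotient.mk I (ψ x) = g (algebraMap A (SGA1t.kummer A a n) x) := fun x =>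
    AlgHom.congr_fun hψ x
  have hψa : ∀ i, ψ (a i) = t i ^ n i := by
    intro i
    rw [← ha, show c (e i) = algebraMap (MvPolynomial σ R) A (MvPolynomial.X (e i)) from
      (MvPolynomial.eval₂Hom_X' (algebraMap R A) c (e i)).symm, AlgHom.commutes]
    exact (MvPolynomial.eval₂Hom_X' (algebraMap R B) y (e i)).trans (he.extend_apply _ _ i)
  let L : SGA1t.kummer A a n →+* B :=
    Ideal.Quotient.lift _ (MvPolynomial.eval₂Hom ψ.toRingHom t) (fun q hq => by
      have hle : Ideal.span (Set.range fun i => (MvPolynomial.X i : MvPolynomial ι A) ^ n i - MvPolynomial.C (a i)) ≤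
          RingHom.ker (MvPolynomial.eval₂Hom ψ.toRingHom t) := by
        rw [Ideal.span_le]
        rintro _ ⟨i, rfl⟩
        simp only [SetLike.mem_coe, RingHom.mem_ker, map_sub, map_pow, MvPolynomial.eval₂Hom_X',
          MvPolynomial.eval₂Hom_C, AlgHom.toRingHom_eq_coe, RingHom.coe_coe, hψa, sub_self]
      exact hle hq)
  have hLC : ∀ x, L (algebraMap A (SGA1t.kummer A a n) x) = ψ x := fun x => MvPolynomial.eval₂Hom_C _ _ x
  refine ⟨{ L with commutes' := fun r => ?_ }, ?_⟩
  · show L (algebraMap R (SGA1t.kummer A a n) r) = _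
    rw [IsScalarTower.algebraMap_apply R A (SGA1t.kummer A a n), hLC,
      IsScalarTower.algebraMap_apply R (MvPolynomial σ R) A, AlgHom.commutes]
    exact MvPolynomial.eval₂Hom_C (algebraMap R B) y r
  · apply AlgHom.coe_ringHom_injective
    refine Ideal.Quotient.ringHom_ext (MvPolynomial.ringHom_ext (fun x => ?_) fun i => ?_)
    · show Ideal.Quotient.mk I (L (algebraMap A (SGA1t.kummer A a n) x)) = g (algebraMap A (SGA1t.kummer A a n) x)
      rw [hLC, hψmk]
    · show Ideal.Quotient.mk I (L (T i)) = g (T i)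
      rw [show L (T i) = t i from MvPolynomial.eval₂Hom_X' _ _ i, ht]

/-- Let f : X -> S and φ_1, ..., φ_r cut out a strict normal crossings divisor relative to S, x a point
where some φ_i vanishes, A = O_{X,x}, and n_i ≥ 1 integers for the indices i with φ_i(x) = 0 (no
condition on the residue characteristic). Then the Kummer scheme X' = Spec A[T_i]/(T_i^{n_i} - φ_i)
is smooth over S at its point x' over x: the homomorphism from the local ring of S at the image
point to the local ring of X' at x' is formally smooth. -/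
theorem result {X S : Scheme.{u}} (f : X ⟶ S) {r : ℕ} (φ : Fin r → Γ(X, ⊤))
    (hD : SGA1t.IsRelSNC f φ) (x : X) (hx : Nonempty (SGA1t.vanishingAt φ x))
    (n : SGA1t.vanishingAt φ x → ℕ) (hn1 : ∀ i, 1 ≤ n i) :
    letI A := X.presheaf.stalk x
    letI a : SGA1t.vanishingAt φ x → A := fun i => (X.presheaf.germ ⊤ x trivial).hom (φ i.1)
    letI π : Spec (CommRingCat.of (SGA1t.kummer A a n)) ⟶ Spec (CommRingCat.of A) :=
      Spec.map (CommRingCat.ofHom (algebraMap A (SGA1t.kummer A a n)))
    ∀ x' : Spec (CommRingCat.of (SGA1t.kummer A a n)), π.base x' = IsLocalRing.closedPoint A →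
      ((π ≫ X.fromSpecStalk x ≫ f).stalkMap x').hom.FormallySmooth := by
  intro x' _
  let A := X.presheaf.stalk x
  let a : SGA1t.vanishingAt φ x → A := fun i => (X.presheaf.germ ⊤ x trivial).hom (φ i.1)
  obtain ⟨V, hV, hxV, d, c, e, he, hce, het⟩ := exists_chart f φ hD x hx
  let K := SGA1t.kummer A a n
  let π : Spec (CommRingCat.of K) ⟶ Spec (CommRingCat.of A) := Spec.map (CommRingCat.ofHom (algebraMap A K))
  let F := π ≫ X.fromSpecStalk x ≫ f
  letI : Algebra Γ(S, V) A := (S.presheaf.germ V (f x) hxV ≫ f.stalkMap x).hom.toAlgebra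
  have hK : Algebra.FormallySmooth Γ(S, V) K := formallySmooth_kummer c het e he a hce n
  have hsV : F.base x' ∈ V := by
    have h1 : (X.fromSpecStalk x).base (π.base x') ⤳ x := by
      have h2 : (X.fromSpecStalk x).base (π.base x') ∈ Set.range (X.fromSpecStalk x) := ⟨_, rfl⟩
      rw [Scheme.range_fromSpecStalk] at h2
      exact h2
    exact (h1.map f.continuous).mem_open V.2 hxV
  let θ := ((Scheme.ΓSpecIso (CommRingCat.of K)).inv ≫ (Spec (CommRingCat.of K)).presheaf.germ ⊤ x' trivial).hom
  have hθ : θ.FormallySmooth := by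
    have hA := isAffineOpen_top (Spec (CommRingCat.of K))
    letI := TopCat.Presheaf.algebra_section_stalk (Spec (CommRingCat.of K)).presheaf (⟨x', trivial⟩ : (⊤ : (Spec (CommRingCat.of K)).Opens))
    haveI := hA.isLocalization_stalk ⟨x', trivial⟩
    have h1 : ((Spec (CommRingCat.of K)).presheaf.germ ⊤ x' trivial).hom.FormallySmooth :=
      RingHom.formallySmooth_algebraMap.mpr (Algebra.FormallySmooth.of_isLocalization
        (hA.primeIdealOf ⟨x', trivial⟩).asIdeal.primeCompl)
    exact RingHom.FormallySmooth.comp (RingHom.FormallySmooth.of_bijective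
      (Scheme.ΓSpecIso (CommRingCat.of K)).symm.commRingCatIsoToRingEquiv.bijective) h1
  have hcomp : (S.presheaf.germ V (F.base x') hsV ≫ F.stalkMap x').hom = θ.comp (algebraMap Γ(S, V) K) := by
    have hfx : x ∈ f ⁻¹ᵁ V := hxV
    have key : S.presheaf.germ V (F.base x') hsV ≫ F.stalkMap x' =
        (S.presheaf.germ V (f x) hxV ≫ f.stalkMap x) ≫ CommRingCat.ofHom (algebraMap A K) ≫
          (Scheme.ΓSpecIso (CommRingCat.of K)).inv ≫ (Spec (CommRingCat.of K)).presheaf.germ ⊤ x' trivial := by
      rw [Scheme.Hom.germ_stalkMap, Scheme.Hom.germ_stalkMap, Scheme.ΓSpecIso_inv_naturality_assoc]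
      simp only [F, Scheme.Hom.comp_app, Category.assoc]
      erw [Scheme.fromSpecStalk_app hfx]
      refine (assoc5 _ _ _ _ _ _).trans ?_
      refine congrArg (fun m => f.app V ≫ X.presheaf.germ (f ⁻¹ᵁ V) x hfx ≫
        (Scheme.ΓSpecIso (X.presheaf.stalk x)).inv ≫ m) ?_
      exact res_app_germ π ((X.fromSpecStalk x ≫ f) ⁻¹ᵁ V) x' hsV
    rw [key]
    rfl
  letI := TopCat.Presheaf.algebra_section_stalk S.presheaf (⟨F.base x', hsV⟩ : V)
  haveI := hV.isLocalization_stalk ⟨F.base x', hsV⟩
  letI : Algebra (S.presheaf.stalk (F.base x')) ((Spec (CommRingCat.of K)).presheaf.stalk x') :=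
    (F.stalkMap x').hom.toAlgebra
  letI : Algebra Γ(S, V) ((Spec (CommRingCat.of K)).presheaf.stalk x') :=
    (S.presheaf.germ V (F.base x') hsV ≫ F.stalkMap x').hom.toAlgebra
  haveI : IsScalarTower Γ(S, V) (S.presheaf.stalk (F.base x')) ((Spec (CommRingCat.of K)).presheaf.stalk x') :=
    IsScalarTower.of_algebraMap_eq fun _ => rfl
  haveI : Algebra.FormallySmooth Γ(S, V) ((Spec (CommRingCat.of K)).presheaf.stalk x') := by
    have h2 : (θ.comp (algebraMap Γ(S, V) K)).FormallySmooth :=
      RingHom.FormallySmooth.comp (RingHom.formallySmooth_algebraMap.mpr hK) hθ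
    rw [← hcomp] at h2
    exact h2
  exact RingHom.formallySmooth_algebraMap.mpr
    (Algebra.FormallySmooth.localization_base (R := Γ(S, V)) (Rₘ := S.presheaf.stalk (F.base x'))
      (Sₘ := (Spec (CommRingCat.of K)).presheaf.stalk x') (hV.primeIdealOf ⟨F.base x', hsV⟩).asIdeal.primeCompl)

end Groth.Agent.S3710
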