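import Groth.Statements.S3711
import Groth.Agent.EtRamLib.Kummer.GaloisResidue

set_option autoImplicit false
open CategoryTheory CategoryTheory.Limits AlgebraicGeometry
universe u
open SGA1t

namespace Groth.Agent.S3711

/-- Case of a constant group: let f : X -> S and φ_1, ..., φ_r cut out a strict normal crossings divisor
relative to S with complement U, and let P be a principal C-cover of U for a finite group C whose
order is invertible in every residue field of S. Then P is tamely ramified on X relatively to S. -/
theorem result {X S : Scheme.{u}} (f : X ⟶ S) {r : ℕ} (φ : Fin r → Γ(X, ⊤))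
    (hD : SGA1t.IsRelSNC f φ) (C : Type) [Group C] [Finite C] (hC : ∀ s : S, IsUnit ((Nat.card C : ℕ) : S.residueField s))
    (P : FEt.Cat (SGA1t.compl φ : Scheme.{u})) (ρ : C →* Aut P) (hP : SGA1t.IsPrincipal C P ρ) :
    SGA1t.IsRelTame f φ P := by
  intro Ω _ _ σ _ y _ hy w h hne
  haveI : IsDiscreteValuationRing ((pullback f σ).presheaf.stalk y) := hy
  haveI : Etale P.hom := P.prop.2
  haveI : Etale (P.hom ≫ (SGA1t.compl φ).ι) := inferInstance
  set g := pullback.snd (P.hom ≫ (SGA1t.compl φ).ι) (pullback.fst f σ) with hg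
  haveI : Etale g := inferInstanceAs (Etale (pullback.snd (P.hom ≫ (SGA1t.compl φ).ι) (pullback.fst f σ)))
  let act : C → (pullback (P.hom ≫ (SGA1t.compl φ).ι) (pullback.fst f σ) ⟶ pullback (P.hom ≫ (SGA1t.compl φ).ι) (pullback.fst f σ)) :=
    fun c => pullback.lift (pullback.fst _ _ ≫ (ρ c).hom.left) g (by
      rw [Category.assoc, ← Category.assoc (ρ c).hom.left, MorphismProperty.Over.w]
      exact pullback.condition)
  have h1 : act 1 = 𝟙 _ := by
    apply pullback.hom_ext
    · rw [pullback.lift_fst, map_one]
      exact (Category.comp_id _).trans (Category.id_comp _).symm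
    · rw [pullback.lift_snd, Category.id_comp]
  have hmul : ∀ a b, act (a * b) = act b ≫ act a := by
    intro a b
    apply pullback.hom_ext
    · simp only [act, Category.assoc, pullback.lift_fst, pullback.lift_fst_assoc, map_mul]
      simp [Aut.Aut_mul_def]
    · simp only [act, Category.assoc, pullback.lift_snd]
      exact (pullback.lift_snd _ _ _).symm
  obtain ⟨hK1, hK2, hK3⟩ := EtRamLib.Kummer.galois_residue g C act h1 hmul (fun c => pullback.lift_snd _ _ _)
    (fun Ω' _ _ s t hst => by
      have hov : (s ≫ pullback.fst _ _) ≫ P.hom = (t ≫ pullback.fst _ _) ≫ P.hom := by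
        rw [← cancel_mono (SGA1t.compl φ).ι]
        simp only [Category.assoc, pullback.condition]
        rw [← Category.assoc, ← Category.assoc]
        exact congrArg (· ≫ pullback.fst f σ) hst
      obtain ⟨c, hc, -⟩ := hP.2 Ω' ((s ≫ pullback.fst _ _) ≫ P.hom) ⟨_, rfl⟩ ⟨_, hov.symm⟩
      refine ⟨c, pullback.hom_ext ?_ ?_⟩
      · rw [Category.assoc, pullback.lift_fst, ← Category.assoc]
        exact congrArg Subtype.val hc
      · rw [Category.assoc, pullback.lift_snd]
        exact hst) w
  letI : Algebra ((pullback f σ).residueField (g.base w)) ((pullback (P.hom ≫ (SGA1t.compl φ).ι) (pullback.fst f σ)).residueField w) :=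
    (g.residueFieldMap w).hom.toAlgebra
  letI : Algebra ((pullback f σ).presheaf.stalk y) ((pullback f σ).residueField (g.base w)) :=
    (Cyc.specMap y (g.base w) h).toAlgebra
  haveI := hK1
  haveI := hK2
  haveI : IsFractionRing ((pullback f σ).presheaf.stalk y) ((pullback f σ).residueField (g.base w)) :=
    EtRamLib.Kummer.isFractionRing_of_ne h hne
  have hΩ : IsUnit ((Nat.card C : ℕ) : Ω) := by
    obtain ⟨⟨s, r⟩, -⟩ := (Scheme.SpecToEquivOfField Ω S).symm.surjective σ
    have := (hC s).map r.hom
    rwa [map_natCast] at this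
  have hu : IsUnit ((Nat.card C : ℕ) : (pullback f σ).presheaf.stalk y) := by
    have := ((hΩ.map (Scheme.ΓSpecIso (CommRingCat.of Ω)).inv.hom).map (pullback.snd f σ).appTop.hom).map
      ((pullback f σ).presheaf.germ ⊤ y trivial).hom
    simpa only [map_natCast] using this
  refine S18597.tame_of_galois ((pullback f σ).presheaf.stalk y) ((pullback f σ).residueField (g.base w))
    ((pullback (P.hom ≫ (SGA1t.compl φ).ι) (pullback.fst f σ)).residueField w) ?_
  obtain ⟨c, hc⟩ := hK3
  rw [hc, Nat.cast_mul] at hu
  exact isUnit_of_mul_isUnit_left hu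

end Groth.Agent.S3711
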