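import Groth.Statements.S3713
import Groth.Agent.WittLib.Basic
import Mathlib.RingTheory.RingHom.StandardSmooth
import Mathlib.AlgebraicGeometry.Morphisms.Etale
-- import your own Groth.Agent.* helpers here

set_option autoImplicit false
set_option linter.style.haveILetI false
universe u
open SGA1

namespace Groth.Agent.S3713

open CategoryTheory CategoryTheory.Limits AlgebraicGeometry

/-- A morphism of affine schemes with standard smooth map on global functions has étale coordinates. -/
theorem exists_etale_vector {W T : Scheme.{u}} [IsAffine W] [IsAffine T] (ψ : W ⟶ T)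
    (h : ψ.appTop.hom.IsStandardSmooth) :
    ∃ (m : ℕ) (v : ULift.{u} (Fin m) → Γ(W, ⊤)), Etale (AffineSpace.homOfVector ψ v) := by
  obtain ⟨m, g, hgC, hg⟩ := h.exists_etale_mvPolynomial
  let e : MvPolynomial (ULift.{u} (Fin m)) Γ(T, ⊤) ≃+* MvPolynomial (Fin m) Γ(T, ⊤) :=
    (MvPolynomial.renameEquiv Γ(T, ⊤) Equiv.ulift).toRingEquiv
  let g' : MvPolynomial (ULift.{u} (Fin m)) Γ(T, ⊤) →+* Γ(W, ⊤) := g.comp e.toRingHom
  have hg' : g'.Etale := RingHom.Etale.respectsIso.2 g e hg
  refine ⟨m, fun k => g' (MvPolynomial.X k), ?_⟩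
  have key : AffineSpace.homOfVector ψ (fun k => g' (MvPolynomial.X k)) =
      W.isoSpec.hom ≫ Spec.map (CommRingCat.ofHom g') ≫ (AffineSpace.isoOfIsAffine _ T).inv := by
    refine AffineSpace.hom_ext ?_ fun k => ?_
    · have hC : CommRingCat.ofHom (MvPolynomial.C (R := Γ(T, ⊤)) (σ := ULift.{u} (Fin m))) ≫
          CommRingCat.ofHom g' = ψ.appTop := by
        ext a
        simpa [g', e] using DFunLike.congr_fun hgC a
      rw [AffineSpace.homOfVector_over, Category.assoc, Category.assoc,
        AffineSpace.isoOfIsAffine_inv_over, ← Spec.map_comp_assoc, hC,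
        Scheme.isoSpec_hom_naturality_assoc, Iso.hom_inv_id, Category.comp_id]
    · rw [AffineSpace.homOfVector_appTop_coord, Scheme.Hom.comp_appTop, Scheme.Hom.comp_appTop]
      simp only [ConcreteCategory.comp_apply]
      rw [AffineSpace.isoOfIsAffine_inv_appTop_coord]
      have h1 : (Spec.map (CommRingCat.ofHom g')).appTop ((Scheme.ΓSpecIso _).inv (MvPolynomial.X k)) =
          (Scheme.ΓSpecIso _).inv (g' (MvPolynomial.X k)) :=
        (congr($(Scheme.ΓSpecIso_inv_naturality (CommRingCat.ofHom g')) (MvPolynomial.X k))).symm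
      rw [h1, Scheme.isoSpec_hom, ← ConcreteCategory.comp_apply, Scheme.toSpecΓ_appTop, Iso.inv_hom_id]
      rfl
  rw [key]
  haveI : Etale (Spec.map (CommRingCat.ofHom g')) := HasRingHomProperty.Spec_iff.2 hg'
  infer_instance

/-- Translations of affine space. -/
noncomputable def translate {n : Type u} (S : Scheme.{u}) (c : n → Γ(S, ⊤)) : AffineSpace n S ⟶ AffineSpace n S :=
  AffineSpace.homOfVector (AffineSpace n S ↘ S) fun k => AffineSpace.coord S k + (AffineSpace n S ↘ S).appTop (c k)

theorem translate_comp {n : Type u} (S : Scheme.{u}) (c d : n → Γ(S, ⊤)) :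
    translate S c ≫ translate S d = translate S (fun k => c k + d k) := by
  refine AffineSpace.hom_ext ?_ fun k => ?_
  · simp [translate]
  · simp only [translate]
    rw [Scheme.Hom.comp_appTop, ConcreteCategory.comp_apply, AffineSpace.homOfVector_appTop_coord,
      AffineSpace.homOfVector_appTop_coord, map_add, AffineSpace.homOfVector_appTop_coord,
      ← ConcreteCategory.comp_apply, ← Scheme.Hom.comp_appTop, AffineSpace.homOfVector_over, map_add]
    abel

theorem translate_zero {n : Type u} (S : Scheme.{u}) : translate S (fun _ : n => 0) = 𝟙 _ := by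
  refine AffineSpace.hom_ext ?_ fun k => ?_
  · simp [translate]
  · simp only [translate]
    rw [AffineSpace.homOfVector_appTop_coord, map_zero, add_zero]
    rfl

instance {n : Type u} (S : Scheme.{u}) (c : n → Γ(S, ⊤)) : IsIso (translate S c) :=
  ⟨translate S fun k => - c k, by rw [translate_comp]; simp [translate_zero],
    by rw [translate_comp]; simp [translate_zero]⟩

/-- Base change of étale coordinates to opens. -/
theorem etale_homOfVector_restrict {W W' T T' : Scheme.{u}} {n : Type u} (ψ : W ⟶ T)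
    (v : n → Γ(W, ⊤)) [Etale (AffineSpace.homOfVector ψ v)] (a : W' ⟶ W) (b : T' ⟶ T)
    [IsOpenImmersion a] [IsOpenImmersion b] (ψ' : W' ⟶ T') (hc : ψ' ≫ b = a ≫ ψ) :
    Etale (AffineSpace.homOfVector ψ' (a.appTop ∘ v)) := by
  haveI : IsOpenImmersion (AffineSpace.map n b) :=
    MorphismProperty.of_isPullback (P := @IsOpenImmersion) (AffineSpace.isPullback_map b).flip inferInstance
  have key : AffineSpace.homOfVector ψ' (a.appTop ∘ v) ≫ AffineSpace.map n b =
      a ≫ AffineSpace.homOfVector ψ v := by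
    refine AffineSpace.hom_ext ?_ fun k => ?_
    · simp [hc]
    · rw [Scheme.Hom.comp_appTop, ConcreteCategory.comp_apply, AffineSpace.map_appTop_coord,
        AffineSpace.homOfVector_appTop_coord, Scheme.Hom.comp_appTop, ConcreteCategory.comp_apply,
        AffineSpace.homOfVector_appTop_coord]
      rfl
  haveI : Etale (AffineSpace.homOfVector ψ' (a.appTop ∘ v) ≫ AffineSpace.map n b) := by
    rw [key]; infer_instance
  exact Etale.of_comp _ (AffineSpace.map n b)

open AlgebraicGeometry CategoryTheory CategoryTheory.Limits in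
/-- Let Y be locally Noetherian, f : X -> Y locally of finite type, i a section of f and y a point of Y.
Then X is smooth over Y at i(y) (i(y) lies in the smooth locus of f) if and only if there are an
open neighbourhood U of y, an open V of X with i(U) ⊆ V ⊆ f^{-1}(U), and finitely many sections of
O_X over V, all vanishing along i(U), which define an etale U-morphism from V to an affine space
over U (so that this etale chart carries the section to the zero section). -/
theorem result {X Y : Scheme.{u}} [IsLocallyNoetherian Y] (f : X ⟶ Y)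
    [LocallyOfFiniteType f] [LocallyOfFinitePresentation f] (i : Y ⟶ X) (hi : i ≫ f = 𝟙 Y) (y : Y) :
    i.base y ∈ f.smoothLocus ↔
      ∃ (U : Y.Opens) (V : X.Opens) (_ : y ∈ U) (hUV : U ≤ i ⁻¹ᵁ V) (hVU : V ≤ f ⁻¹ᵁ U) (m : ℕ)
        (v : ULift.{u} (Fin m) → Γ(V, ⊤)),
        Etale (AffineSpace.homOfVector (f.resLE U V hVU) v) ∧ ∀ j, (i.resLE V U hUV).appTop (v j) = 0 := by
  constructor
  · intro hy
    let O := f.smoothLocus
    haveI : Smooth (O.ι ≫ f) := by
      rw [← Scheme.Hom.smoothLocus_eq_top_iff, ← Scheme.Hom.preimage_smoothLocus_eq]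
      exact O.ι_preimage_self
    obtain ⟨U', hU', V', hV', hyV', e', hstd⟩ := Smooth.exists_isStandardSmooth (O.ι ≫ f) ⟨i.base y, hy⟩
    haveI : IsAffine (V' : Scheme.{u}) := hV'
    haveI : IsAffine (U' : Scheme.{u}) := hU'
    let ψ : (V' : Scheme.{u}) ⟶ (U' : Scheme.{u}) := (O.ι ≫ f).resLE U' V' e'
    obtain ⟨m, v₀, hv₀⟩ := exists_etale_vector ψ
      ((RingHom.isStandardSmooth_respectsIso.arrow_mk_iso_iff (arrowResLEAppIso (O.ι ≫ f) U' V' e')).2 hstd)
    let V₁ : X.Opens := O.ι ''ᵁ V'
    let U : Y.Opens := i ⁻¹ᵁ V₁ ⊓ U'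
    let V : X.Opens := V₁ ⊓ f ⁻¹ᵁ U
    have hif : ∀ z, f (i z) = z := fun z => by rw [← Scheme.Hom.comp_apply, hi]; rfl
    have hyU : y ∈ U := by
      refine ⟨⟨⟨i.base y, hy⟩, hyV', rfl⟩, ?_⟩
      have := e' hyV'
      change f (i y) ∈ U' at this
      rwa [hif] at this
    have hUV : U ≤ i ⁻¹ᵁ V := fun z hz => ⟨hz.1, show f (i z) ∈ U by rw [hif]; exact hz⟩
    have hVU : V ≤ f ⁻¹ᵁ U := inf_le_right
    have hVj : Set.range V.ι ⊆ Set.range (V'.ι ≫ O.ι) := by
      rintro _ ⟨z, rfl⟩
      obtain ⟨o, ho, hoz⟩ := z.2.1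
      exact ⟨⟨o, ho⟩, hoz⟩
    let a : (V : Scheme.{u}) ⟶ (V' : Scheme.{u}) := IsOpenImmersion.lift (V'.ι ≫ O.ι) V.ι hVj
    have ha : a ≫ V'.ι ≫ O.ι = V.ι := IsOpenImmersion.lift_fac _ _ _
    haveI : IsOpenImmersion a := by
      haveI : IsOpenImmersion (a ≫ V'.ι ≫ O.ι) := by rw [ha]; infer_instance
      exact IsOpenImmersion.of_comp a (V'.ι ≫ O.ι)
    let b : (U : Scheme.{u}) ⟶ (U' : Scheme.{u}) := Y.homOfLE inf_le_right
    let w : ULift.{u} (Fin m) → Γ((V : Scheme.{u}), ⊤) := a.appTop ∘ v₀
    haveI := hv₀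
    haveI : Etale (AffineSpace.homOfVector (f.resLE U V hVU) w) :=
      etale_homOfVector_restrict ψ v₀ a b _ (by
        rw [← cancel_mono U'.ι, Category.assoc, Category.assoc, Scheme.homOfLE_ι,
          Scheme.Hom.resLE_comp_ι, Scheme.Hom.resLE_comp_ι, reassoc_of% ha])
    let c : ULift.{u} (Fin m) → Γ((U : Scheme.{u}), ⊤) := fun k => - (i.resLE V U hUV).appTop (w k)
    refine ⟨U, V, hyU, hUV, hVU, m, fun k => w k + (f.resLE U V hVU).appTop (c k), ?_, fun k => ?_⟩
    · have key : AffineSpace.homOfVector (f.resLE U V hVU) (fun k => w k + (f.resLE U V hVU).appTop (c k)) =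
          AffineSpace.homOfVector (f.resLE U V hVU) w ≫ translate _ c := by
        refine AffineSpace.hom_ext ?_ fun k => ?_
        · simp [translate]
        · simp only [translate]
          rw [Scheme.Hom.comp_appTop, ConcreteCategory.comp_apply, AffineSpace.homOfVector_appTop_coord,
            AffineSpace.homOfVector_appTop_coord, map_add, AffineSpace.homOfVector_appTop_coord,
            ← ConcreteCategory.comp_apply, ← Scheme.Hom.comp_appTop, AffineSpace.homOfVector_over]
      rw [key]
      infer_instance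
    · have hid : i.resLE V U hUV ≫ f.resLE U V hVU = 𝟙 _ := by
        rw [← cancel_mono U.ι, Category.assoc, Scheme.Hom.resLE_comp_ι, Scheme.Hom.resLE_comp_ι_assoc,
          hi, Category.comp_id, Category.id_comp]
      rw [map_add, ← ConcreteCategory.comp_apply, ← Scheme.Hom.comp_appTop, hid]
      simp [c]
  · rintro ⟨U, V, hyU, hUV, hVU, m, v, hv, -⟩
    haveI : Smooth (AffineSpace (ULift.{u} (Fin m)) (U : Scheme.{u}) ↘ (U : Scheme.{u})) :=
      Groth.Agent.WittLib.Basic.smooth_affineSpace _ _
    haveI : Smooth (f.resLE U V hVU) := by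
      rw [← AffineSpace.homOfVector_over (f.resLE U V hVU) v]
      infer_instance
    haveI : Smooth (V.ι ≫ f) := by
      rw [← Scheme.Hom.resLE_comp_ι f hVU]
      infer_instance
    have := (Scheme.Hom.preimage_smoothLocus_eq V.ι f).trans (Scheme.Hom.smoothLocus_eq_top _)
    exact this.ge (x := ⟨i.base y, hUV hyU⟩) trivial

end Groth.Agent.S3713
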