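import Groth.Statements.S3718
import Groth.Prelude.Def_PiSp
import Groth.Agent.GrpScheme.AVComm
import Groth.Agent.FEtCat.Count

set_option autoImplicit false
universe u
open CategoryTheory MonoidalCategory CartesianMonoidalCategory MonObj GrpObj AlgebraicGeometry
open Pi1

namespace Groth.Agent.S3718

noncomputable section
variable {k : Type u} [Field k] {A : Over (Spec (CommRingCat.of k))} [GrpObj A]

/-- The translation of `A` by a rational point. -/
abbrev trans (a : 𝟙_ (Over (Spec (CommRingCat.of k))) ⟶ A) : A ⟶ A := 𝟙 A * (toUnit A ≫ a)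

lemma comp_zpow_id {T : Over (Spec (CommRingCat.of k))} (c : T ⟶ A) (n : ℤ) :
    c ≫ (𝟙 A) ^ n = c ^ n := by
  rw [GrpObj.comp_zpow, Category.comp_id]

lemma comp_trans {T : Over (Spec (CommRingCat.of k))} (c : T ⟶ A) (a : 𝟙_ _ ⟶ A) :
    c ≫ trans a = c * (toUnit T ≫ a) := by
  rw [trans, MonObj.comp_mul, Category.comp_id, ← Category.assoc, comp_toUnit]

lemma trans_comp_trans (a b : 𝟙_ (Over (Spec (CommRingCat.of k))) ⟶ A) :
    trans a ≫ trans b = trans (a * b) := by
  rw [comp_trans, trans, trans, MonObj.comp_mul, _root_.mul_assoc]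

lemma trans_one : trans (1 : 𝟙_ (Over (Spec (CommRingCat.of k))) ⟶ A) = 𝟙 A := by
  rw [trans, MonObj.comp_one, _root_.mul_one]

variable [IsCommMonObj A]

lemma trans_comp_mul (a : 𝟙_ (Over (Spec (CommRingCat.of k))) ⟶ A) (n : ℤ) (ha : a ^ n = 1) :
    trans a ≫ (𝟙 A) ^ n = (𝟙 A) ^ n := by
  rw [comp_zpow_id, trans, mul_zpow, ← GrpObj.comp_zpow, ha, MonObj.comp_one, _root_.mul_one]

set_option backward.isDefEq.respectTransparency.types false in
/-- The translation by an `n`-torsion point as an automorphism of the cover `[n]`. -/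
noncomputable def transAut (a : 𝟙_ (Over (Spec (CommRingCat.of k))) ⟶ A) (n : ℤ) (ha : a ^ n = 1)
    (h : FEt.prop ((𝟙 A) ^ n).left) :
    Aut (MorphismProperty.Over.mk ⊤ ((𝟙 A) ^ n).left h : FEt.Cat A.left) where
  hom := MorphismProperty.Over.homMk (trans a).left (congrArg CommaMorphism.left (trans_comp_mul a n ha))
  inv := MorphismProperty.Over.homMk (trans a⁻¹).left
    (congrArg CommaMorphism.left (trans_comp_mul a⁻¹ n (by rw [inv_zpow, ha, inv_one])))
  hom_inv_id := MorphismProperty.Over.Hom.ext (by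
    change (trans a ≫ trans a⁻¹).left = _
    rw [trans_comp_trans, mul_inv_cancel, trans_one]
    rfl)
  inv_hom_id := MorphismProperty.Over.Hom.ext (by
    change (trans a⁻¹ ≫ trans a).left = _
    rw [trans_comp_trans, inv_mul_cancel, trans_one]
    rfl)

variable [IsAlgClosed k] [IsProper A.hom]

set_option backward.isDefEq.respectTransparency.types false in
/-- A point of `A` with values in a field which is killed by `n` comes from a rational point killed
by `n`, provided `[n]` is finite. -/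
lemma exists_point_eq (n : ℤ) [IsFinite ((𝟙 A) ^ n).left] {Ω : Type u} [Field Ω]
    (q : Spec (CommRingCat.of Ω) ⟶ Spec (CommRingCat.of k)) (d : Over.mk q ⟶ A) (hd : d ^ n = 1) :
    ∃ a : 𝟙_ _ ⟶ A, d = toUnit _ ≫ a := by
  have : JacobsonSpace A.left := LocallyOfFiniteType.jacobsonSpace (Y := Spec _) A.hom
  obtain ⟨⟨z, φ⟩, hφ⟩ := (Scheme.SpecToEquivOfField Ω A.left).symm.surjective d.left
  have hφ' : Spec.map φ ≫ A.left.fromSpecResidueField z = d.left := hφ
  have hzd : d.left (IsLocalRing.closedPoint Ω) = z := by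
    rw [← hφ', Scheme.Hom.comp_apply]
    exact Scheme.fromSpecResidueField_apply z _
  let e : A.left := η[A].left (IsLocalRing.closedPoint k)
  have he : IsClosed ({e} : Set A.left) := by
    have : IsClosedImmersion η[A].left :=
      isClosedImmersion_of_comp_eq_id A.hom η[A].left (Over.w η[A])
    have h := η[A].left.isClosedMap _ (isClosed_discrete {IsLocalRing.closedPoint k})
    convert! h
    exact Set.image_singleton.symm
  have hze : ((𝟙 A) ^ n).left z = e := by
    rw [← hzd, ← Scheme.Hom.comp_apply, ← Over.comp_left, comp_zpow_id, hd, Hom.one_def,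
      Over.comp_left, Scheme.Hom.comp_apply]
    exact congrArg η[A].left (Subsingleton.elim (α := Spec (CommRingCat.of k)) _ _)
  have hz : IsClosed ({z} : Set A.left) := by
    let C : Set A.left := closure {z}
    have hC : C.Finite := by
      refine ((((𝟙 A) ^ n).left).finite_preimage_singleton e).subset ?_
      exact closure_minimal (by simpa using hze) (he.preimage ((𝟙 A) ^ n).left.continuous)
    have h1 : IsClosed (C ∩ closedPoints A.left) := by
      rw [← Set.biUnion_of_singleton (C ∩ closedPoints A.left)]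
      exact (hC.inter_of_left _).isClosed_biUnion fun x hx => hx.2
    have h2 : closure (C ∩ closedPoints A.left) = C := closure_inter_closedPoints isClosed_closure
    rw [h1.closure_eq] at h2
    have : z ∈ C ∩ closedPoints A.left := by rw [h2]; exact subset_closure rfl
    exact this.2
  refine ⟨Over.homMk (pointOfClosedPoint A.hom z hz) (pointOfClosedPoint_comp A.hom z hz), ?_⟩
  ext1
  have hw : (Spec.map φ ≫ A.left.fromSpecResidueField z) ≫ A.hom = q := by
    rw [hφ']; exact Over.w d
  rw [Category.assoc, ← SpecMap_residueFieldIsoBase_inv A.hom z hz] at hw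
  have hq : Spec.map φ = q ≫ Spec.map (residueFieldIsoBase A.hom z hz).hom := by
    rw [← hw, Category.assoc, ← Spec.map_comp, Iso.hom_inv_id, Spec.map_id, Category.comp_id]
  rw [← hφ', hq, Category.assoc]
  rfl

end

/-- The covers that compute the prime-to-p part of the fundamental group of an abelian variety: let k be
algebraically closed, A an abelian variety over k (a proper, geometrically integral group scheme
over k) and n ≥ 1 an integer invertible in k. Granted that multiplication by n (the n-th power of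
the identity in the group Hom(A, A)) is a finite etale cover of A, it is a Galois cover, and its
automorphisms over A are exactly the translations x -> x + a by the k-points a of A with n a = 0,
each such a giving exactly one automorphism. (With the domination row this identifies the maximal
prime-to-p quotient of the fundamental group with the inverse limit of the prime-to-p torsion
points.) -/
theorem result (k : Type u) [Field k] [IsAlgClosed k]
    (A : Over (Spec (CommRingCat.of k))) [GrpObj A] [IsProper A.hom] [GeometricallyIntegral A.hom]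
    (n : ℕ) (hn1 : 1 ≤ n) (hn : IsUnit ((n : ℕ) : k)) :
    ∀ [hF : IsFinite ((𝟙 A) ^ (n : ℤ)).left] [hE : Etale ((𝟙 A) ^ (n : ℤ)).left],
      PiSp.IsGaloisCover (MorphismProperty.Over.mk ⊤ ((𝟙 A) ^ (n : ℤ)).left ⟨hF, hE⟩ : FEt.Cat A.left) ∧
      (∀ θ : Aut (MorphismProperty.Over.mk ⊤ ((𝟙 A) ^ (n : ℤ)).left ⟨hF, hE⟩ : FEt.Cat A.left),
        ∃! a : 𝟙_ (Over (Spec (CommRingCat.of k))) ⟶ A, a ^ (n : ℤ) = 1 ∧
          θ.hom.left = ((𝟙 A) * (toUnit A ≫ a)).left) ∧
      (∀ a : 𝟙_ (Over (Spec (CommRingCat.of k))) ⟶ A, a ^ (n : ℤ) = 1 →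
        ∃ θ : Aut (MorphismProperty.Over.mk ⊤ ((𝟙 A) ^ (n : ℤ)).left ⟨hF, hE⟩ : FEt.Cat A.left),
          θ.hom.left = ((𝟙 A) * (toUnit A ≫ a)).left) := by
  intro hF hE
  have := GrpScheme.AVComm.isCommMonObj A
  have : IsIntegral A.left := GeometricallyIntegral.isIntegral_of_subsingleton A.hom
  have : ConnectedSpace A.left := inferInstance
  refine ⟨⟨‹_›, fun Ω _ _ ξ s t => ?_⟩, fun θ => ?_, fun a ha => ⟨transAut a n ha ⟨hF, hE⟩, rfl⟩⟩
  · have hN : ((𝟙 A) ^ (n : ℤ)).left ≫ A.hom = A.hom := Over.w _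
    have hs : s.1 ≫ ((𝟙 A) ^ (n : ℤ)).left = ξ := s.2
    have ht : t.1 ≫ ((𝟙 A) ^ (n : ℤ)).left = ξ := t.2
    have hs' : s.1 ≫ A.hom = ξ ≫ A.hom :=
      (congrArg (s.1 ≫ ·) hN.symm).trans ((Category.assoc _ _ _).symm.trans (congrArg (· ≫ A.hom) hs))
    have ht' : t.1 ≫ A.hom = ξ ≫ A.hom :=
      (congrArg (t.1 ≫ ·) hN.symm).trans ((Category.assoc _ _ _).symm.trans (congrArg (· ≫ A.hom) ht))
    let s' : Over.mk (ξ ≫ A.hom) ⟶ A := Over.homMk s.1 hs'
    let t' : Over.mk (ξ ≫ A.hom) ⟶ A := Over.homMk t.1 ht'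
    have hd : (t' * s'⁻¹) ^ (n : ℤ) = 1 := by
      have h1 : t' ^ (n : ℤ) = s' ^ (n : ℤ) := by
        rw [← comp_zpow_id t', ← comp_zpow_id s']
        ext1
        exact ht.trans hs.symm
      rw [mul_zpow, inv_zpow, h1, mul_inv_cancel]
    obtain ⟨a, ha⟩ := exists_point_eq (n : ℤ) _ _ hd
    have han : a ^ (n : ℤ) = 1 := by
      have h1 : toUnit (Over.mk (ξ ≫ A.hom)) ≫ (a ^ (n : ℤ)) = toUnit _ ≫ (1 : 𝟙_ _ ⟶ A) := by
        rw [GrpObj.comp_zpow, ← ha, hd, MonObj.comp_one]
      ext1
      have h2 := congr(($(congrArg CommaMorphism.left h1)) (IsLocalRing.closedPoint Ω))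
      refine ext_of_apply_closedPoint_eq A.hom (Over.w _) (Over.w _) ?_
      refine Eq.trans ?_ (h2.trans ?_) <;>
        exact congrArg _ (Subsingleton.elim (α := Spec (CommRingCat.of k)) _ _)
    refine ⟨transAut a n han ⟨hF, hE⟩, Subtype.ext ?_⟩
    change (s' ≫ trans a).left = t'.left
    rw [comp_trans, ← ha, _root_.mul_comm t', mul_inv_cancel_left]
  · have hθ : θ.hom.left ≫ ((𝟙 A) ^ (n : ℤ)).left = ((𝟙 A) ^ (n : ℤ)).left := Over.w θ.hom.hom
    have hN : ((𝟙 A) ^ (n : ℤ)).left ≫ A.hom = A.hom := Over.w _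
    let θ' : A ⟶ A := Over.homMk θ.hom.left
      ((congrArg (θ.hom.left ≫ ·) hN.symm).trans ((Category.assoc _ _ _).symm.trans
        ((congrArg (· ≫ A.hom) hθ).trans hN)))
    have hθ' : θ' ^ (n : ℤ) = (𝟙 A) ^ (n : ℤ) := by
      rw [← comp_zpow_id θ']
      ext1
      exact hθ
    let δ : A ⟶ A := θ' * (𝟙 A)⁻¹
    have hδ : δ ^ (n : ℤ) = 1 := by rw [mul_zpow, inv_zpow, hθ', mul_inv_cancel]
    have han : (η[A] ≫ δ) ^ (n : ℤ) = 1 := by rw [← GrpObj.comp_zpow, hδ, MonObj.comp_one]
    have hδ' : δ = toUnit A ≫ η[A] ≫ δ := by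
      ext1
      refine FEtCat.Count.eq_of_comp_eq ((𝟙 A) ^ (n : ℤ)).left _ _ ?_ η[A].left ?_ ?_
      · rw [← Over.comp_left, ← Over.comp_left, comp_zpow_id, comp_zpow_id, hδ,
          ← GrpObj.comp_zpow, han, MonObj.comp_one]
      · rw [← Over.comp_left, ← Over.comp_left, ← Category.assoc η[A],
          toUnit_unique (η[A] ≫ toUnit A) (𝟙 _), Category.id_comp]
      · intro W hW hr
        exact hW.eq_univ ⟨_, hr ⟨IsLocalRing.closedPoint k, rfl⟩⟩
    refine ⟨η[A] ≫ δ, ⟨han, ?_⟩, ?_⟩
    · show θ'.left = _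
      rw [← hδ', ← _root_.mul_comm δ, show δ * 𝟙 A = θ' from inv_mul_cancel_right _ _]
    · rintro b ⟨-, hb⟩
      have : θ' = trans b := by ext1; exact hb
      have hb' : δ = toUnit A ≫ b := by
        rw [show δ = θ' * (𝟙 A)⁻¹ from rfl, this, trans, _root_.mul_comm (𝟙 A),
          mul_inv_cancel_right]
      rw [hb', ← Category.assoc, toUnit_unique (η[A] ≫ toUnit A) (𝟙 _), Category.id_comp]

end Groth.Agent.S3718
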