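import Groth.Statements.S3719
import Groth.Agent.HyperSec.Basic
import Groth.Agent.Props.AmpleTwist
import Groth.Agent.FormalFun.Stein
import Groth.Agent.Fibration.Basic
import Groth.Agent.S0388
import Groth.Agent.ProjProper.Basic
-- import your own Groth.Agent.* helpers here

set_option backward.isDefEq.respectTransparency.types false

set_option autoImplicit false
universe u
open Pi1

namespace Groth.Agent.S3719

open AlgebraicGeometry CategoryTheory CategoryTheory.Limits in
/-- Let k be algebraically closed, X a proper, irreducible, normal k-scheme, g : X -> P^r_k a k-morphism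
whose image has closure of dimension at least 2, H the hyperplane where a nonzero linear form ℓ
vanishes, and X' a connected finite etale cover of X. Then the inverse image of H in X' is
connected. (For X' = X this is the connectedness of the hyperplane section Y = g⁻¹(H), and the
general case is the surjectivity of the fundamental group of Y onto that of X.) -/
theorem result (k : Type u) [Field k] [IsAlgClosed k] (X : Scheme.{u})
    [X.Over (Spec (CommRingCat.of k))] [IsProper (X ↘ Spec (CommRingCat.of k))] [IrreducibleSpace X]
    (hN : Pi1.IsNormalScheme X) (r : ℕ) (g : X ⟶ CohB1.ProjSpace r k)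
    (hg : g ≫ CohB1.ProjSpace.toSpec r k = X ↘ Spec (CommRingCat.of k))
    (hdim : 2 ≤ topologicalKrullDim ↥(closure (Set.range g.base)))
    (ℓ : MvPolynomial (Fin (r + 1)) k) (hℓ : ℓ ∈ CohB1.polyGrading r k 1) (hℓ0 : ℓ ≠ 0)
    (X' : FEt.Cat X) [ConnectedSpace X'.left] :
    IsConnected (((X'.hom ≫ g).base ⁻¹' (Proj.basicOpen (CohB1.polyGrading r k) ℓ).carrier)ᶜ) := by
  classical
  let pX : X ⟶ Spec (CommRingCat.of k) := X ↘ Spec (CommRingCat.of k)
  have hprop : IsProper pX := inferInstance
  have : IsReduced X := by
    have : ∀ x : X, _root_.IsReduced (X.presheaf.stalk x) := fun x => by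
      have := (hN x).1
      infer_instance
    exact isReduced_of_isReduced_stalk X
  have : IsIntegral X := isIntegral_of_irreducibleSpace_of_isReduced X
  have : IsFinite X'.hom := X'.prop.1
  have : Etale X'.hom := X'.prop.2
  have : IsIntegral X'.left := FEtCat.Normal.isIntegral hN X'
  have hN' : Pi1.IsNormalScheme X'.left := EtNormal.isNormalScheme_of_etale X'.hom hN
  have hX' : Surjective X'.hom := ⟨fun (x : X) => by
    have hc : IsClopen (X := X) (Set.range X'.hom) :=
      ⟨X'.hom.isClosedMap.isClosed_range, X'.hom.isOpenMap.isOpen_range⟩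
    exact (hc.eq_univ ⟨_, genericPoint (X'.left : Scheme.{u}), rfl⟩).ge (Set.mem_univ x)⟩
  let pP := CohB1.ProjSpace.toSpec r k
  have : IsProper pP := ProjProper.Basic.isProper_toSpec r k
  have : IsLocallyNoetherian (CohB1.ProjSpace r k) := LocallyOfFiniteType.isLocallyNoetherian pP
  have : CompactSpace (CohB1.ProjSpace r k) := QuasiCompact.compactSpace_of_compactSpace pP
  have : CompactSpace (Proj (CohB1.polyGrading r k)) :=
    inferInstanceAs (CompactSpace (CohB1.ProjSpace r k))
  have : IsProper g := by
    have : IsProper (g ≫ pP) := by rw [hg]; exact hprop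
    exact IsProper.of_comp g pP
  let h := X'.hom ≫ g
  have : IsProper h := inferInstance
  let τ := h.toNormalization
  let ν := h.fromNormalization
  have : IsFinite ν := FormalFun.isFinite_fromNormalization h
  have hτν : τ ≫ ν = h := h.toNormalization_fromNormalization
  have hτp : IsProper τ := by
    have : IsProper (τ ≫ ν) := by rw [hτν]; infer_instance
    exact IsProper.of_comp τ ν
  obtain ⟨hgc, hiso⟩ := S0388.result h
  have : GeometricallyConnected τ := hgc
  have : IsProper pX := hprop
  have : IsLocallyNoetherian X'.left := LocallyOfFiniteType.isLocallyNoetherian (X'.hom ≫ pX)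
  have : CompactSpace X'.left := QuasiCompact.compactSpace_of_compactSpace (X'.hom ≫ pX)
  have : IsNoetherian X'.left := {}
  have : TopologicalSpace.NoetherianSpace ((𝟭 Scheme).obj X'.left) :=
    inferInstanceAs (TopologicalSpace.NoetherianSpace X'.left)
  have hZ : Pi1.IsNormalScheme h.normalization := Fibration.isNormalScheme_of_fibration τ hiso hN'
  have : IsReduced h.normalization := by
    have : ∀ x : h.normalization, _root_.IsReduced (h.normalization.presheaf.stalk x) := fun x => by
      have := (hZ x).1
      infer_instance
    exact isReduced_of_isReduced_stalk _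
  have : IrreducibleSpace h.normalization := by
    have hr : IrreducibleSpace X'.left := inferInstance
    exact (irreducibleSpace_def _).mpr <| by
      rw [Set.top_eq_univ, ← τ.surjective.range_eq, ← Set.image_univ]
      exact (IrreducibleSpace.isIrreducible_univ X'.left).image _ τ.continuous.continuousOn
  have : IsIntegral h.normalization := isIntegral_of_irreducibleSpace_of_isReduced _
  -- the dimension
  have hdimZ : (2 : WithBot ℕ∞) ≤ topologicalKrullDim h.normalization := by
    have hrange : Set.range ν.imageι = closure (Set.range g) := by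
      rw [Scheme.Hom.imageι, Scheme.IdealSheafData.range_subschemeι, Scheme.Hom.support_ker]
      congr 1
      have h1 : Set.range (τ ≫ ν) = Set.range ν := by
        rw [Scheme.Hom.comp_base, TopCat.coe_comp]
        exact τ.surjective.range_comp _
      rw [← h1, hτν]
      show Set.range (X'.hom ≫ g) = _
      rw [Scheme.Hom.comp_base, TopCat.coe_comp]
      exact X'.hom.surjective.range_comp _
    have hsurj : Surjective ν.toImage := ⟨by
      intro z
      have hm : ν.imageι z ∈ Set.range ν := by
        have h2 := ν.isClosedMap.isClosed_range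
        have h3 : ν.imageι z ∈ closure (Set.range ν) := by
          rw [← Scheme.Hom.support_ker]
          exact (Scheme.IdealSheafData.range_subschemeι ν.ker).le ⟨z, rfl⟩
        rwa [h2.closure_eq] at h3
      obtain ⟨w, hw⟩ := hm
      refine ⟨w, ν.imageι.isEmbedding.injective ?_⟩
      rw [← Scheme.Hom.comp_apply, Scheme.Hom.toImage_imageι, hw]⟩
    have h4 := AlgSpCov.IntegralDim.topologicalKrullDim_le_of_closed_surjective ν.toImage
      ν.toImage.isClosedMap
    have h5 : topologicalKrullDim ν.image = topologicalKrullDim ↥(closure (Set.range g.base)) :=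
      IsHomeomorph.topologicalKrullDim_eq _
        ((ν.imageι.isEmbedding.toHomeomorph).trans (Homeomorph.setCongr hrange)).isHomeomorph
    rw [h5] at h4
    exact hdim.trans h4
  -- the hyperplane
  have hcov : ⨆ i : ULift.{u} (Fin (r + 1)),
      Proj.basicOpen (CohB1.polyGrading r k) (MvPolynomial.X i.down) = ⊤ :=
    top_le_iff.mp fun x _ => by
      obtain ⟨i, hi⟩ := TopologicalSpace.Opens.mem_iSup.mp
        ((ProjTwist.iSup_stdOpen r k).ge (trivial : x ∈ (⊤ : (CohB1.ProjSpace r k).Opens)))
      exact TopologicalSpace.Opens.mem_iSup.mpr ⟨⟨i⟩, hi⟩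
  have hF : ∀ i : ULift.{u} (Fin (r + 1)), (MvPolynomial.X i.down : MvPolynomial (Fin (r + 1)) k) ∈
      CohB1.polyGrading r k 1 := fun i => MvPolynomial.isHomogeneous_X k i.down
  obtain ⟨s, hs⟩ := Props.AmpleTwist.exists_section hF hcov hℓ
  have hO := Props.AmpleTwist.isAmple_twist one_pos hF hcov
  have hL : CohB1.IsAmple (CohB1.tensorPow (Twist.twist (CohB1.polyGrading r k) ((1 : ℕ) : ℤ)) 1) :=
    (AmpleLib.isAmple_tensorPow_iff hO.1 one_pos).mpr hO
  have hL' := AmpleLib.isAmple_pullback_of_qaMor ν (AmpleFam.Pullback.qaMor_of_isAffineHom ν) hL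
  let e : Coh.structureModule h.normalization ≅
      (Scheme.Modules.pullback ν).obj (Coh.structureModule (CohB1.ProjSpace r k)) :=
    (QCoh.pullbackUnitIso ν).symm
  let s' := e.hom ≫ (Scheme.Modules.pullback ν).map s
  have hgen : CohB1.genLocus _ s' = ν ⁻¹ᵁ CohB1.genLocus _ s := S4413.result ν _ hL.1 s e
  have key : _root_.IsConnected ((CohB1.genLocus _ s' : Set h.normalization)ᶜ) := by
    by_cases hne : (CohB1.genLocus _ s' : Set h.normalization).Nonempty
    · have := HyperSec.mono_of_nonempty_genLocus s' hne
      have := HyperSec.isConnected_preimage k (ν ≫ pP) hZ (𝟙 h.normalization) hdimZ _ hL' s' this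
      convert this using 1
      ext z
      simp only [Set.mem_compl_iff, Set.mem_preimage, SetLike.mem_coe, S7681.mem_support_iff hL'.1]
      rfl
    · rw [Set.not_nonempty_iff_eq_empty.mp hne, Set.compl_empty]
      exact isConnected_univ
  have hq : Topology.IsQuotientMap τ := τ.isClosedMap.isQuotientMap τ.continuous τ.surjective
  have := Topology.IsCoinducing.isConnected_preimage_of_isClosed τ.isConnected_preimage_singleton
    hq.isCoinducing (CohB1.genLocus _ s').2.isClosed_compl key
  convert this using 1
  rw [hgen]
  erw [hs]
  ext z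
  simp only [Set.mem_compl_iff, Set.mem_preimage]
  rw [show h z = ν (τ z) by rw [← Scheme.Hom.comp_apply, hτν]]
  rfl

end Groth.Agent.S3719
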