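import Groth.Statements.S3720
import Groth.Agent.EtRamLib.Kummer.Monogenic

set_option autoImplicit false
open CategoryTheory CategoryTheory.Limits AlgebraicGeometry
universe u
open SGA1t

namespace Groth.Agent.S3720

open Groth.Agent.EtRamLib.Kummer

/-- In a local ring with `n` invertible, a root of unity congruent to `1` is `1`. -/
theorem eq_one_of_map_eq_one {A : Type u} [CommRing A] [IsLocalRing A] {n : ℕ} (hn : IsUnit (n : A))
    {z : A} (hz : z ^ n = 1) {K : Type u} [Field K] (x : A →+* K) (hx : x z = 1) : z = 1 := by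
  have h2 : IsUnit (∑ i ∈ Finset.range n, z ^ i) := by
    by_contra hnu
    have hm : z - 1 ∈ IsLocalRing.maximalIdeal A := by
      by_contra hzm
      have hu : IsUnit (z - 1) := by
        by_contra hh; exact hzm hh
      have := hu.map x
      rw [map_sub, hx, map_one, sub_self] at this
      exact not_isUnit_zero this
    apply (IsLocalRing.maximalIdeal.isMaximal A).ne_top
    refine Ideal.eq_top_of_isUnit_mem _ ?_ hn
    have h3 : ∀ i, (1 - z ^ i) ∈ IsLocalRing.maximalIdeal A := fun i => by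
      rw [← neg_sub]
      exact neg_mem (Ideal.mem_of_dvd _ (by simpa using sub_dvd_pow_sub_pow z 1 i) hm)
    have h4 : (n : A) = ∑ i ∈ Finset.range n, z ^ i + ∑ i ∈ Finset.range n, (1 - z ^ i) := by simp
    rw [h4]
    exact add_mem hnu (sum_mem fun i _ => h3 i)
  have h1 := geom_sum_mul z n
  rw [hz, sub_self] at h1
  exact sub_eq_zero.mp (h2.mul_right_eq_zero.mp h1)

/-- Roots of unity of a local ring with `n` invertible are distinguished in every field. -/
theorem root_injective {A : Type u} [CommRing A] [IsLocalRing A] {n : ℕ} (hn : IsUnit (n : A))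
    {K : Type u} [Field K] (x : A →+* K) {ζ η : ↥(rootsOfUnity n A)}
    (h : x ((ζ : Aˣ) : A) = x ((η : Aˣ) : A)) : ζ = η := by
  have h1 : (((ζ / η : ↥(rootsOfUnity n A)) : Aˣ) : A) = 1 := by
    refine eq_one_of_map_eq_one hn ?_ x ?_
    · have := (mem_rootsOfUnity n _).mp (ζ / η).2
      rw [← Units.val_pow_eq_pow_val, this, Units.val_one]
    · have h2 : ((ζ / η : ↥(rootsOfUnity n A)) : Aˣ) * (η : Aˣ) = (ζ : Aˣ) := by simp
      have h3 := congrArg (fun v : Aˣ => x v) h2
      simp only [Units.val_mul, map_mul] at h3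
      rw [h] at h3
      refine mul_right_cancel₀ (((η : Aˣ).isUnit.map x).ne_zero) ?_
      rw [_root_.one_mul]
      exact h3
  exact div_eq_one.mp (Subtype.ext (Units.ext h1))

theorem exists_eigen {A B : Type u} [CommRing A] [IsLocalRing A] [CommRing B] [Algebra A B] [Module.Finite A B]
    [Algebra.Etale A B] (n : ℕ) (hn0 : n ≠ 0) [Fintype ↥(rootsOfUnity n A)]
    {σ : ↥(rootsOfUnity n A) → (B →ₐ[A] B)} (h : IsTorsor A B σ) :
    ∃ (t : B) (a : Aˣ), t ^ n = algebraMap A B a ∧ IsUnit t ∧
      ∀ ζ, σ ζ t = algebraMap A B ((ζ : Aˣ) : A) * t := by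
  classical
  let y : B → B := fun b => ∑ g : ↥(rootsOfUnity n A), algebraMap A B (((g⁻¹ : ↥(rootsOfUnity n A)) : Aˣ) : A) * σ g b
  have hy : ∀ b k, σ k (y b) = algebraMap A B ((k : Aˣ) : A) * y b := by
    intro b k
    simp only [y, map_sum, map_mul, Finset.mul_sum]
    refine Fintype.sum_equiv (Equiv.mulRight k) _ _ fun g => ?_
    rw [Equiv.coe_mulRight, AlgHom.commutes, h.σ_mul, AlgHom.comp_apply, ← _root_.mul_assoc, ← map_mul]
    congr 2
    rw [← Units.val_mul]
    congr 1
    simp
  have hinv : ∀ b k, σ k (y b ^ n) = y b ^ n := by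
    intro b k
    rw [map_pow, hy, mul_pow, ← map_pow, ← Units.val_pow_eq_pow_val, (mem_rootsOfUnity n _).mp k.2]
    simp
  choose a ha using fun b => mem_range_of_invariant h (hinv b)
  obtain ⟨b, hb⟩ : ∃ b, IsUnit (a b) := by
    by_contra hno
    push Not at hno
    let k := IsLocalRing.ResidueField A
    let x : A →+* AlgebraicClosure k := (algebraMap k _).comp (IsLocalRing.residue A)
    obtain ⟨s, hs⟩ := h.exists_pt _ x
    have h0 := linearIndependent_points h s
      (fun g => x (((g⁻¹ : ↥(rootsOfUnity n A)) : Aˣ) : A)) fun b => by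
        have h1 : s (y b) ^ n = 0 := by
          rw [← map_pow, ← ha]
          refine (congr($hs (a b))).trans ?_
          simp only [x, RingHom.comp_apply]
          rw [(IsLocalRing.residue_eq_zero_iff _).mpr (hno b), map_zero]
        have h2 : s (y b) = 0 := eq_zero_of_pow_eq_zero h1
        simp only [y, map_sum, map_mul] at h2
        rw [← hs]
        exact h2
    exact (((1⁻¹ : ↥(rootsOfUnity n A)) : Aˣ).isUnit.map x).ne_zero (congrFun h0 1)
  refine ⟨y b, hb.unit, (ha b).symm, ?_, hy b⟩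
  exact (isUnit_pow_iff hn0).mp (by rw [← ha b]; exact hb.map _)

/-- Kummer theory over a local ring: let A be a local ring, n ≥ 1 an integer invertible in A, and
suppose A contains a primitive n-th root of unity (so that the group μ_n(A) of n-th roots of unity
in A is cyclic of order n). Then every principal μ_n(A)-cover P of Spec A is isomorphic over Spec A
to a Kummer cover Spec A[T]/(Tⁿ − a) for some unit a of A, compatibly with the actions: the given
action of a root of unity ζ on P corresponds to the automorphism of A[T]/(Tⁿ − a) induced by T ↦ ζT. -/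
theorem result (A : Type u) [CommRing A] [IsLocalRing A] (n : ℕ) (hn1 : 1 ≤ n)
    (hn : IsUnit ((n : ℕ) : A)) (ζ₀ : A) (hζ₀ : IsPrimitiveRoot ζ₀ n)
    (P : FEt.Cat (Spec (CommRingCat.of A))) (ρ : ↥(rootsOfUnity n A) →* Aut P)
    (hP : SGA1t.IsPrincipal ↥(rootsOfUnity n A) P ρ) :
    ∃ (a : Aˣ) (e : P.left ≅ Spec (CommRingCat.of (SGA1t.kummer A (fun _ : Unit => (a : A)) (fun _ => n)))),
      e.hom ≫ Spec.map (CommRingCat.ofHom (algebraMap A (SGA1t.kummer A (fun _ : Unit => (a : A)) (fun _ => n)))) = P.hom ∧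
      ∀ ζ : ↥(rootsOfUnity n A), (ρ ζ).hom.left ≫ e.hom =
        e.hom ≫ Spec.map (CommRingCat.ofHom (SGA1t.kummerTwist A (fun _ : Unit => (a : A)) (fun _ => n) (fun _ => ζ))) := by
  classical
  obtain ⟨B, _, _, _, _, σ, e, h, he, hσ⟩ := exists_algebra P ρ hP
  have hn0 : n ≠ 0 := by omega
  haveI : NeZero n := ⟨hn0⟩
  let x₀ : A →+* IsLocalRing.ResidueField A := IsLocalRing.residue A
  haveI : Fintype ↥(rootsOfUnity n (IsLocalRing.ResidueField A)) := Fintype.ofFinite _
  have hres : Function.Injective (restrictRootsOfUnity x₀ n) := fun ζ η hζη =>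
    root_injective hn x₀ (congrArg (fun v : ↥(rootsOfUnity n (IsLocalRing.ResidueField A)) => ((v : (IsLocalRing.ResidueField A)ˣ) : IsLocalRing.ResidueField A)) hζη)
  haveI : Finite ↥(rootsOfUnity n A) := Finite.of_injective _ hres
  letI : Fintype ↥(rootsOfUnity n A) := Fintype.ofFinite _
  have hcard : Fintype.card ↥(rootsOfUnity n A) = n := by
    refine le_antisymm ((Fintype.card_le_of_injective _ hres).trans (Nat.card_eq_fintype_card.symm.trans_le (card_rootsOfUnity (IsLocalRing.ResidueField A) n))) ?_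
    refine le_trans (le_of_eq (Fintype.card_fin n).symm) (Fintype.card_le_of_injective
      (fun i : Fin n => rootsOfUnity.mkOfPowEq (ζ₀ ^ (i : ℕ)) (by rw [← pow_mul, mul_comm, pow_mul, hζ₀.pow_eq_one, one_pow])) ?_)
    intro i j hij
    exact Fin.ext (hζ₀.pow_inj i.2 j.2 (by simpa using congrArg (fun v : ↥(rootsOfUnity n A) => ((v : Aˣ) : A)) hij))
  obtain ⟨t, a, ha, htu, hsh⟩ := exists_eigen n hn0 h
  let f : Polynomial A := Polynomial.X ^ n - Polynomial.C (a : A)
  have hf : f.Monic := Polynomial.monic_X_pow_sub_C _ hn0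
  have hsep : f.Separable := Polynomial.separable_X_pow_sub_C_unit a hn
  have hroot : f.eval₂ (Algebra.ofId A B).toRingHom t = 0 := by simp [f, ha, Algebra.ofId_apply]
  have hdist : ∀ (Ω : Type u) [Field Ω] [IsAlgClosed Ω] (s : B →+* Ω) (g g' : ↥(rootsOfUnity n A)),
      s (σ g t) = s (σ g' t) → g = g' := by
    intro Ω _ _ s g g' hgg
    rw [hsh, hsh, map_mul, map_mul] at hgg
    exact root_injective hn (s.comp (algebraMap A B)) (mul_right_cancel₀ (htu.map s).ne_zero hgg)
  have hbij := bijective_liftAlgHom h hf hsep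
    (by rw [Polynomial.natDegree_X_pow_sub_C, hcard]) t hroot hdist
  let Φ₀ := AdjoinRoot.liftAlgHom f (Algebra.ofId A B) t hroot
  let I : Ideal (MvPolynomial Unit A) := Ideal.span (Set.range fun _ : Unit =>
    (MvPolynomial.X () : MvPolynomial Unit A) ^ n - MvPolynomial.C (a : A))
  let q : SGA1t.kummer A (fun _ : Unit => (a : A)) (fun _ => n) →ₐ[A] AdjoinRoot f :=
    Ideal.Quotient.liftₐ _ (MvPolynomial.aeval fun _ => AdjoinRoot.root f) (fun g hg => by
      have hle : Ideal.span (Set.range fun _ : Unit => (MvPolynomial.X () : MvPolynomial Unit A) ^ n -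
          MvPolynomial.C (a : A)) ≤ RingHom.ker (MvPolynomial.aeval fun _ : Unit => AdjoinRoot.root f).toRingHom := by
        rw [Ideal.span_le]
        rintro _ ⟨i, rfl⟩
        have h1 := AdjoinRoot.eval₂_root f
        simp only [f, Polynomial.eval₂_sub, Polynomial.eval₂_pow, Polynomial.eval₂_X, Polynomial.eval₂_C] at h1
        simpa [AdjoinRoot.algebraMap_eq, sub_eq_zero] using sub_eq_zero.mp h1
      exact hle hg)
  let T : SGA1t.kummer A (fun _ : Unit => (a : A)) (fun _ => n) := Ideal.Quotient.mk _ (MvPolynomial.X ())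
  have hT : f.eval₂ (Algebra.ofId A (SGA1t.kummer A (fun _ : Unit => (a : A)) (fun _ => n))).toRingHom T = 0 := by
    have hx : (Ideal.Quotient.mk (Ideal.span (Set.range fun i : Unit => (MvPolynomial.X i : MvPolynomial Unit A) ^ n -
        MvPolynomial.C (a : A)))) (MvPolynomial.X () ^ n - MvPolynomial.C (a : A)) = 0 :=
      Ideal.Quotient.eq_zero_iff_mem.mpr (Ideal.subset_span ⟨(), rfl⟩)
    rw [map_sub, map_pow] at hx
    simp only [f, Polynomial.eval₂_sub, Polynomial.eval₂_pow, Polynomial.eval₂_X, Polynomial.eval₂_C]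
    exact hx
  let r := AdjoinRoot.liftAlgHom f (Algebra.ofId A (SGA1t.kummer A (fun _ : Unit => (a : A)) (fun _ => n))) T (by convert! hT using 1)
  have hqT : q T = AdjoinRoot.root f := MvPolynomial.aeval_X _ _
  have hqr : q.comp r = AlgHom.id A _ := AdjoinRoot.algHom_ext (by simp [r, hqT])
  have hrq : r.comp q = AlgHom.id A _ := by
    refine Ideal.Quotient.algHom_ext _ (MvPolynomial.algHom_ext fun i => ?_)
    show r (q T) = T
    rw [hqT, AdjoinRoot.liftAlgHom_root]
  let eq : SGA1t.kummer A (fun _ : Unit => (a : A)) (fun _ => n) ≃ₐ[A] AdjoinRoot f := AlgEquiv.ofAlgHom q r hqr hrq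
  let Φ := Φ₀.comp eq.toAlgHom
  have hΦ : Function.Bijective Φ := hbij.comp eq.bijective
  have hΦT : Φ T = t := by
    show Φ₀ (q T) = t
    rw [hqT, AdjoinRoot.liftAlgHom_root]
  have hΦC : ∀ c, Φ (Ideal.Quotient.mk _ (MvPolynomial.C c)) = algebraMap A B c := fun c => Φ.commutes c
  have hτ : ∀ g : ↥(rootsOfUnity n A),
      Φ.toRingHom.comp (SGA1t.kummerTwist A (fun _ : Unit => (a : A)) (fun _ => n) (fun _ => g)) =
      (σ g).toRingHom.comp Φ.toRingHom := by
    intro g
    refine Ideal.Quotient.ringHom_ext (MvPolynomial.ringHom_ext (fun c => ?_) fun i => ?_)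
    · simp only [RingHom.comp_apply, SGA1t.kummerTwist, Ideal.Quotient.lift_mk, AlgHom.toRingHom_eq_coe,
        RingHom.coe_coe, MvPolynomial.aeval_C, MvPolynomial.algebraMap_eq]
      rw [hΦC, AlgHom.commutes]
    · simp only [RingHom.comp_apply, SGA1t.kummerTwist, Ideal.Quotient.lift_mk, AlgHom.toRingHom_eq_coe,
        RingHom.coe_coe, MvPolynomial.aeval_X]
      rw [map_mul, map_mul, hΦC]
      show algebraMap A B _ * Φ T = σ g (Φ T)
      rw [hΦT, hsh]
  obtain ⟨e', he', hσ'⟩ := exists_iso e he hσ Φ hΦ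
    (fun g => SGA1t.kummerTwist A (fun _ : Unit => (a : A)) (fun _ => n) (fun _ => g)) hτ
  exact ⟨a, e', he', hσ'⟩

end Groth.Agent.S3720
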