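import Groth.Statements.S3721
import Groth.Agent.EtRamLib.Kummer.Monogenic

set_option autoImplicit false
open CategoryTheory CategoryTheory.Limits AlgebraicGeometry
universe u
open SGA1t

namespace Groth.Agent.S3721

open Groth.Agent.EtRamLib.Kummer

/-- A torsor algebra for `Z/p` has a shifted element. -/
theorem exists_shift {A B : Type u} [CommRing A] [CommRing B] [Algebra A B] [Module.Finite A B] [Algebra.Etale A B]
    (p : ℕ) [Fact p.Prime] [CharP A p] {σ : Multiplicative (ZMod p) → (B →ₐ[A] B)} (h : IsTorsor A B σ) :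
    ∃ (t : B) (a : A), t ^ p - t = algebraMap A B a ∧
      ∀ j : ZMod p, σ (Multiplicative.ofAdd j) t = t + algebraMap A B (ZMod.castHom (dvd_refl p) A j) := by
  classical
  let c : ZMod p →+* B := (algebraMap A B).comp (ZMod.castHom (dvd_refl p) A)
  let Tr : B →ₗ[A] B := ∑ g : Multiplicative (ZMod p), (σ g).toLinearMap
  have hTr : ∀ b, Tr b = ∑ g, σ g b := fun b => by simp [Tr]
  have hinv : ∀ b k, σ k (Tr b) = Tr b := by
    intro b k
    rw [hTr, map_sum]
    refine Fintype.sum_equiv (Equiv.mulRight k) _ _ fun g => ?_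
    simp [h.σ_mul]
  have hone : ∃ b, Tr b = 1 := by
    by_contra hne
    let I : Ideal A := Submodule.comap (Algebra.linearMap A B) (LinearMap.range Tr)
    have hI : I ≠ ⊤ := fun htop => hne (by
      obtain ⟨b, hb⟩ : (1 : A) ∈ I := htop ▸ Submodule.mem_top
      exact ⟨b, by simpa using hb⟩)
    obtain ⟨m, hm, hIm⟩ := Ideal.exists_le_maximal I hI
    letI := Ideal.Quotient.field m
    let x : A →+* AlgebraicClosure (A ⧸ m) := (algebraMap (A ⧸ m) _).comp (Ideal.Quotient.mk m)
    obtain ⟨s, hs⟩ := h.exists_pt _ x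
    have h0 := linearIndependent_points h s (fun _ => 1) fun b => by
      obtain ⟨a, ha⟩ := mem_range_of_invariant h (hinv b)
      have ha' : a ∈ I := ⟨b, ha.symm⟩
      have h1 : s (Tr b) = 0 := by
        rw [← ha]
        refine (congr($hs a)).trans ?_
        simp only [x, RingHom.comp_apply]
        rw [Ideal.Quotient.eq_zero_iff_mem.mpr (hIm ha'), map_zero]
      rw [hTr, map_sum] at h1
      simpa using h1
    exact one_ne_zero (congrFun h0 1)
  obtain ⟨b, hb⟩ := hone
  let t : B := -∑ j : ZMod p, c j * σ (Multiplicative.ofAdd j) b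
  have hshift : ∀ k : ZMod p, σ (Multiplicative.ofAdd k) t = t + c k := by
    intro k
    have h1 : σ (Multiplicative.ofAdd k) t = -∑ j : ZMod p, c j * σ (Multiplicative.ofAdd (j + k)) b := by
      simp only [t, map_neg, map_sum, map_mul]
      refine congrArg Neg.neg (Finset.sum_congr rfl fun j _ => ?_)
      rw [ofAdd_add, h.σ_mul]
      congr 1
      exact (σ _).commutes _
    have h2 : ∑ j : ZMod p, c j * σ (Multiplicative.ofAdd (j + k)) b =
        ∑ j : ZMod p, (c j - c k) * σ (Multiplicative.ofAdd j) b := by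
      refine Fintype.sum_equiv (Equiv.addRight k) _ _ fun j => ?_
      simp
    have h3 : ∑ j : ZMod p, σ (Multiplicative.ofAdd j) b = 1 := by
      rw [← hb, hTr]
      exact Fintype.sum_equiv Multiplicative.ofAdd _ _ fun j => rfl
    rw [h1, h2]
    simp only [sub_mul, Finset.sum_sub_distrib, ← Finset.mul_sum, h3, _root_.mul_one, t]
    ring
  have hp : (p : B) = 0 := by rw [← map_natCast (algebraMap A B), CharP.cast_eq_zero, map_zero]
  obtain ⟨a, ha⟩ := mem_range_of_invariant h (b := t ^ p - t) fun g => by
    obtain ⟨k, rfl⟩ := Multiplicative.ofAdd.surjective g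
    rw [map_sub, map_pow, hshift]
    obtain ⟨r, hr⟩ := exists_add_pow_prime_eq (Fact.out : p.Prime) t (c k)
    rw [hr, ← map_pow c k p, ZMod.pow_card, hp]
    ring
  exact ⟨t, a, ha.symm, hshift⟩

/-- Let p be a prime and A a commutative ring of characteristic p. Then every principal ℤ/p-cover P of
Spec A (a finite étale cover with an action of ℤ/p making it a torsor) is isomorphic over Spec A to
an Artin–Schreier cover Spec A[T]/(T^p − T − a) for some a ∈ A, compatibly with the actions: under
the isomorphism the given action of j ∈ ℤ/p on P corresponds to the automorphism of the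
Artin–Schreier cover induced by T ↦ T + j. The published statement is for any base S of
characteristic p on which Frobenius fixes no nonzero element of H¹(S, O_S); it is stated here for S
= Spec A affine. -/
theorem result (A : Type u) [CommRing A] (p : ℕ) [Fact p.Prime] [CharP A p]
    (P : FEt.Cat (Spec (CommRingCat.of A))) (ρ : Multiplicative (ZMod p) →* Aut P)
    (hP : SGA1t.IsPrincipal (Multiplicative (ZMod p)) P ρ) :
    ∃ (a : A) (e : P.left ≅ Spec (CommRingCat.of (SGA1t.artinSchreier A p a))),
      e.hom ≫ Spec.map (CommRingCat.ofHom (algebraMap A (SGA1t.artinSchreier A p a))) = P.hom ∧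
      ∀ j : ZMod p, (ρ (Multiplicative.ofAdd j)).hom.left ≫ e.hom =
        e.hom ≫ Spec.map (CommRingCat.ofHom (SGA1t.artinSchreierShift A p a j)) := by
  classical
  obtain ⟨B, _, _, _, _, σ, e, h, he, hσ⟩ := exists_algebra P ρ hP
  obtain ⟨t, a, ha, hsh⟩ := exists_shift p h
  haveI : Nontrivial A := CharP.nontrivial_of_char_ne_one (R := A) (v := p) (Fact.out : p.Prime).one_lt.ne'
  let f : Polynomial A := Polynomial.X ^ p - Polynomial.X - Polynomial.C a
  have hp1 := (Fact.out : p.Prime).one_lt
  have hdeg' : Polynomial.degree (Polynomial.X + Polynomial.C a : Polynomial A) < (p : WithBot ℕ) := by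
    rw [Polynomial.degree_X_add_C]; exact_mod_cast hp1
  have hfe : f = Polynomial.X ^ p - (Polynomial.X + Polynomial.C a) := by simp only [f]; ring
  have hf : f.Monic := by rw [hfe]; exact Polynomial.monic_X_pow_sub hdeg'
  have hnd : f.natDegree = p := by
    apply Polynomial.natDegree_eq_of_degree_eq_some
    rw [hfe, Polynomial.degree_sub_eq_left_of_degree_lt (by rwa [Polynomial.degree_X_pow]), Polynomial.degree_X_pow]
  have hsep : f.Separable := by
    rw [Polynomial.separable_def]
    refine ⟨0, -1, ?_⟩
    simp [f, Polynomial.derivative_X_pow, CharP.cast_eq_zero]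
  have hroot : f.eval₂ (Algebra.ofId A B).toRingHom t = 0 := by
    simp [f, ha, Algebra.ofId_apply]
  have hdist : ∀ (Ω : Type u) [Field Ω] [IsAlgClosed Ω] (s : B →+* Ω) (g g' : Multiplicative (ZMod p)),
      s (σ g t) = s (σ g' t) → g = g' := by
    intro Ω _ _ s g g' hgg
    obtain ⟨j, rfl⟩ := Multiplicative.ofAdd.surjective g
    obtain ⟨k, rfl⟩ := Multiplicative.ofAdd.surjective g'
    rw [hsh, hsh, map_add, map_add] at hgg
    exact congrArg _ (((s.comp (algebraMap A B)).comp (ZMod.castHom (dvd_refl p) A)).injective (add_left_cancel hgg))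
  have hbij := bijective_liftAlgHom h hf hsep (by rw [hnd, Fintype.card_multiplicative, ZMod.card]) t hroot hdist
  let Φ : SGA1t.artinSchreier A p a →ₐ[A] B := AdjoinRoot.liftAlgHom f (Algebra.ofId A B) t hroot
  have hτ : ∀ g : Multiplicative (ZMod p), Φ.toRingHom.comp (SGA1t.artinSchreierShift A p a g.toAdd) =
      (σ g).toRingHom.comp Φ.toRingHom := by
    intro g
    refine Ideal.Quotient.ringHom_ext (Polynomial.ringHom_ext (fun r => ?_) ?_)
    · simp only [RingHom.comp_apply, SGA1t.artinSchreierShift, Ideal.Quotient.lift_mk, AlgHom.toRingHom_eq_coe,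
        RingHom.coe_coe, Polynomial.aeval_C, Polynomial.algebraMap_eq]
      exact ((AdjoinRoot.liftAlgHom f (Algebra.ofId A B) t hroot).commutes r).trans
        ((σ g).commutes r |>.symm.trans (congrArg (σ g) ((AdjoinRoot.liftAlgHom f (Algebra.ofId A B) t hroot).commutes r).symm))
    · simp only [RingHom.comp_apply, SGA1t.artinSchreierShift, Ideal.Quotient.lift_mk, AlgHom.toRingHom_eq_coe,
        RingHom.coe_coe, Polynomial.aeval_X]
      have e1 : Φ (Ideal.Quotient.mk _ Polynomial.X) = t := AdjoinRoot.liftAlgHom_root _ _ _ _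
      have e2 : ∀ r, Φ (Ideal.Quotient.mk _ (Polynomial.C r)) = algebraMap A B r := fun r => Φ.commutes r
      rw [map_add, map_add, e1, e2]
      exact (hsh g.toAdd).symm
  obtain ⟨e', he', hσ'⟩ := exists_iso (C := SGA1t.artinSchreier A p a) e he hσ Φ hbij
    (fun g => SGA1t.artinSchreierShift A p a g.toAdd) hτ
  exact ⟨a, e', he', fun j => hσ' (Multiplicative.ofAdd j)⟩

end Groth.Agent.S3721
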