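import Groth.Statements.S3724
import Groth.Agent.Helper63.InjAmpPlus
import Groth.Agent.S6620

set_option autoImplicit false
set_option linter.style.haveILetI false
universe u
open CategoryTheory CategoryTheory.Limits AlgebraicGeometry Opposite
attribute [local instance] HasDerivedCategory.standard
open EtDl

namespace Groth.Agent.S3724

/-- Let f : X -> S be a morphism of quasi-compact quasi-separated schemes with a compactification c, Λ a
commutative ring with n·1 = 0 for some n ≥ 1, and Rf^! any right adjoint of Rf_! : D^+(X_et, Λ) ->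
D^+(S_et, Λ). Let L in D^b(S_et, Λ) have injective dimension at most m, in the sense that Hom(F,
L[i]) = 0 for every sheaf of Λ-modules F on S_et and every i > m. Then Rf^! L has injective
dimension at most m in the same sense on X_et. -/
theorem result {X S : Scheme.{u}} [CompactSpace ↥X] [QuasiSeparatedSpace ↥X] [CompactSpace ↥S] [QuasiSeparatedSpace ↥S]
    {f : X ⟶ S} (c : DEt.Compactification f)
    (Λ : Type (u + 1)) [CommRing Λ] (n : ℕ) (hn : 0 < n) (hΛ : (n : Λ) = 0)
    (G : DerivedCategory.Plus (EtModW.Mod Λ S) ⥤ DerivedCategory.Plus (EtModW.Mod Λ X))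
    (adj : EtDl.RshriekPlus Λ c ⊣ G) (L : DerivedCategory.Plus (EtModW.Mod Λ S)) (a b : ℤ)
    (ha : L.IsGE a) (hb : L.IsLE b) (m : ℤ)
    (hL : ∀ (F : EtModW.Mod Λ S) (i : ℤ), m < i →
      Subsingleton ((DerivedCategory.Plus.singleFunctor (EtModW.Mod Λ S) 0).obj F ⟶ L⟦i⟧))
    (F : EtModW.Mod Λ X) (i : ℤ) (hi : m < i) :
    Subsingleton ((DerivedCategory.Plus.singleFunctor (EtModW.Mod Λ X) 0).obj F ⟶ (G.obj L)⟦i⟧) := by
  let R := EtDl.RshriekPlus Λ c
  let A := DerivedCategory.Plus (EtModW.Mod Λ X)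
  let K : A := ((DerivedCategory.Plus.singleFunctor (EtModW.Mod Λ X) 0).obj F)⟦-i⟧
  haveI hK : K.IsGE i :=
    DerivedCategory.Plus.TStructure.t.isGE_shift _ 0 (-i) i (by omega)
  haveI : (R.obj K).IsGE i := by
    haveI := S6620.result (EtDl.extZeroMod Λ c.j) K i
    exact S6620.result (EtModW.push Λ c.fbar) ((EtDl.extZeroPlus Λ c.j).obj K) i
  haveI := ha
  have h : Subsingleton (R.obj K ⟶ L) :=
    Helper63.InjAmpPlus.subsingleton_hom L a m hL (R.obj K) i hi
  have h' : Subsingleton (K ⟶ G.obj L) := (adj.homEquiv K L).symm.subsingleton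
  exact @Equiv.subsingleton _ _ (((shiftEquiv A i).symm.toAdjunction).homEquiv _ _).symm h'

end Groth.Agent.S3724
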