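import Groth.Statements.S3743
import Groth.Agent.KRR49.ConnRank
import Groth.Agent.ResK0.Basic
import Groth.Agent.ResK0.VbKernel
import Groth.Agent.FormalExist.Cover
import Groth.Agent.AmpleLib.GlobGen
import Groth.Agent.PerfTri.Cone
import Groth.Agent.KFlat.TensorLocFree
import Groth.Agent.VBLib.Basic
import Groth.Agent.ProjTwist.Tensor

set_option autoImplicit false
universe v u
open CategoryTheory CategoryTheory.Limits AlgebraicGeometry
attribute [local instance] HasDerivedCategory.standard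
open KRR

noncomputable section

namespace Groth.Agent.S3743


section
variable {X : Scheme.{u}} {K : Type v} [CommRing K] [LambdaRing.LambdaOps K] {P : LambdaRing.PosStructure K}
  {φ : SGA6.Kvb X →+ K}

theorem isFinLocFree_of_rank {M : X.Modules} {r : ℕ} (h : FlatMod.IsFinLocFreeOfRank r M) :
    FlatMod.IsFinLocFree M := fun x => let ⟨U, hx, e⟩ := h x; ⟨U, r, hx, e⟩

theorem isFinLocFree_O (X : Scheme.{u}) : FlatMod.IsFinLocFree (Coh.structureModule X) :=
  isFinLocFree_of_rank (r := 1) (ProjTwist.isFinLocFreeOfRank_one (LFFrame.isInvertible_structureModule X))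

/-- classes of tensor powers -/
theorem cl_tensorPow (hK : KRR.IsModel X K P φ) {L : X.Modules} (hL : FlatMod.IsFinLocFree L) :
    ∀ n : ℕ, FlatMod.IsFinLocFree (CohB1.tensorPow L n) ∧
      φ (KRR.cl X (CohB1.tensorPow L n)) = φ (KRR.cl X L) ^ n
  | 0 => ⟨isFinLocFree_O X, by rw [pow_zero]; exact hK.map_one⟩
  | n + 1 => by
    obtain ⟨h1, h2⟩ := cl_tensorPow hK hL n
    exact ⟨KFlat.TensorLocFree.isFinLocFree_tensM h1 hL,
      by rw [pow_succ, ← h2]; exact (hK.map_mul _ _ h1 hL).symm⟩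

/-- `O^(k+1)` as an iterated biproduct -/
def P' (X : Scheme.{u}) : ℕ → X.Modules
  | 0 => Coh.structureModule X
  | k + 1 => P' X k ⊞ Coh.structureModule X

theorem isFinLocFree_P' (X : Scheme.{u}) : ∀ k, FlatMod.IsFinLocFree (P' X k)
  | 0 => isFinLocFree_O X
  | k + 1 => PerfTri.Cone.isFinLocFree_biprod (isFinLocFree_P' X k) (isFinLocFree_O X)

theorem cl_P' (hK : KRR.IsModel X K P φ) : ∀ k : ℕ, φ (KRR.cl X (P' X k)) = ((k + 1 : ℕ) : K)
  | 0 => by simpa [P'] using hK.map_one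
  | k + 1 => by
    show φ (KZero.clSub (KRR.vbP X) (P' X k ⊞ Coh.structureModule X)) = _
    rw [ResK0.Basic.clSub_add (KRR.vbP X)
      (ShortComplex.Splitting.ofHasBinaryBiproduct (P' X k) (Coh.structureModule X)).shortExact
      (isFinLocFree_P' X k) (isFinLocFree_P' X (k + 1)) (isFinLocFree_O X), map_add]
    exact (congrArg₂ (· + ·) (cl_P' hK k) hK.map_one).trans (by push_cast; rfl)

theorem exists_ι (G : X.Modules) : ∀ (k : ℕ) (f : ℕ → (Coh.structureModule X ⟶ G)),
    ∃ σ : P' X k ⟶ G, ∀ i, i ≤ k → ∃ ι : Coh.structureModule X ⟶ P' X k, ι ≫ σ = f i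
  | 0, f => ⟨f 0, fun i hi => ⟨𝟙 _, by obtain rfl : i = 0 := (by omega); exact Category.id_comp _⟩⟩
  | k + 1, f => by
    obtain ⟨σ, hσ⟩ := exists_ι G k f
    refine ⟨biprod.desc σ (f (k + 1)), fun i hi => ?_⟩
    rcases Nat.lt_or_eq_of_le hi with h | rfl
    · obtain ⟨ι, hι⟩ := hσ i (by omega)
      exact ⟨ι ≫ (biprod.inl : P' X k ⟶ P' X k ⊞ Coh.structureModule X),
        (Category.assoc _ _ _).trans ((congrArg (ι ≫ ·) (biprod.inl_desc _ _)).trans hι)⟩
    · exact ⟨biprod.inr, biprod.inr_desc _ _⟩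

end

/-- Let X be a connected Noetherian scheme and (K, P, φ) a model of the λ-ring K(X) of finite locally
free modules with its positive structure (classes of bundles, augmentation = rank). If L is an ample
invertible O_X-module, then u = [L] is an ample line element of K(X): u is a line element and for
every x ∈ K(X) and all sufficiently large n, u^n x is a positive element minus a natural number. -/
theorem result (X : Scheme.{u}) [IsNoetherian X] [ConnectedSpace ↥X]
    (K : Type v) [CommRing K] [LambdaRing.LambdaOps K] (P : LambdaRing.PosStructure K) (φ : SGA6.Kvb X →+ K) (hK : KRR.IsModel X K P φ)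
    (L : X.Modules) (hL : CohB1.IsAmple L) :
    KRR.IsAmpleElt P (φ (KRR.cl X L)) := by
  haveI : IsLocallyNoetherian X := inferInstance
  have hLrk := ProjTwist.isFinLocFreeOfRank_one hL.1
  have hLf := isFinLocFree_of_rank hLrk
  refine ⟨⟨(hK.mem_pos_iff _).2 ⟨1, L, le_rfl, hLrk, rfl⟩, by simpa using hK.aug_cl 1 L hLrk⟩, fun x => ?_⟩
  obtain ⟨a, b, ha, hb, rfl⟩ := P.exists_sub x
  obtain ⟨q, B, -, hBrk, rfl⟩ := (hK.mem_pos_iff b).1 hb
  have hBf := isFinLocFree_of_rank hBrk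
  have hBc := VBLib.isCoh_of_isFinLocFree hBf
  haveI := hBc.1
  obtain ⟨n₀, hn₀⟩ := AmpleLib.eventually_globallyGenerated hL hBc.1 hBc.2
  refine ⟨n₀, fun n hn => ?_⟩
  obtain ⟨hPf, hPc⟩ := cl_tensorPow hK hLf n
  have hG : FlatMod.IsFinLocFree (CohB1.tensorMod B (CohB1.tensorPow L n)) :=
    KFlat.TensorLocFree.isFinLocFree_tensM hBf hPf
  obtain ⟨I, hI, f, hf⟩ := FormalExist.Cover.exists_fin_epi (VBLib.isCoh_of_isFinLocFree hG) (hn₀ n hn)
  haveI := hI
  haveI := Fintype.ofFinite I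
  let N := Fintype.card I
  let eI := Fintype.equivFin I
  let ψ : (∐ fun _ : Fin N => Coh.structureModule X) ⟶ CohB1.tensorMod B (CohB1.tensorPow L n) :=
    Sigma.desc fun l => f (eI.symm l)
  have hψ : Epi ψ := by
    have h1 : (Sigma.desc fun l : I => Sigma.ι (fun _ : Fin N => Coh.structureModule X) (eI l)) ≫ ψ =
        Sigma.desc f := Sigma.hom_ext _ _ fun l => by simp [ψ]
    exact @epi_of_epi_fac _ _ _ _ _ _ _ _ hf h1
  obtain ⟨r, hr⟩ := KRR49.exists_ofRank hG
  obtain ⟨σ, hσ⟩ := exists_ι (CohB1.tensorMod B (CohB1.tensorPow L n)) (N + r)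
    (fun i => if h : i < N then Sigma.ι (fun _ : Fin N => Coh.structureModule X) ⟨i, h⟩ ≫ ψ else 0)
  have hσe : Epi σ := by
    choose ι hι using fun i : Fin N => hσ i.1 (by omega)
    have h1 : Sigma.desc ι ≫ σ = ψ := Sigma.hom_ext _ _ fun i => by
      rw [Sigma.ι_desc_assoc, hι i, dif_pos i.2]
    exact @epi_of_epi_fac _ _ _ _ _ _ _ _ hψ h1
  have hS := ResK0.Basic.shortExact_kernel σ
  have hKf : FlatMod.IsFinLocFree (kernel σ) :=
    ResK0.VbKernel.isFinLocFree_X₁ hS (isFinLocFree_P' X _) hG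
  obtain ⟨m, hm⟩ := KRR49.exists_ofRank hKf
  have hadd := congrArg φ (ResK0.Basic.clSub_add (KRR.vbP X) hS hKf (isFinLocFree_P' X (N + r)) hG)
  rw [map_add] at hadd
  change φ (KRR.cl X (P' X (N + r))) = φ (KRR.cl X (kernel σ)) +
    φ (KRR.cl X (CohB1.tensorMod B (CohB1.tensorPow L n))) at hadd
  rw [cl_P' hK] at hadd
  have haug := congrArg P.aug hadd
  rw [map_add, map_natCast, hK.aug_cl m _ hm, hK.aug_cl r _ hr] at haug
  have hKpos : φ (KRR.cl X (kernel σ)) ∈ P.pos :=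
    (hK.mem_pos_iff _).2 ⟨m, kernel σ, by omega, hm, rfl⟩
  have hGc : φ (KRR.cl X (CohB1.tensorMod B (CohB1.tensorPow L n))) =
      φ (KRR.cl X B) * φ (KRR.cl X L) ^ n := by
    rw [← hPc]; exact (hK.map_mul _ _ hBf hPf).symm
  have huna : φ (KRR.cl X L) ^ n * a ∈ P.pos := by
    have hpowpos : ∀ j : ℕ, φ (KRR.cl X L) ^ j ∈ P.pos := fun j => by
      induction j with
      | zero => rw [pow_zero]; simpa using P.natCast_mem 1 Nat.one_pos
      | succ j ih => rw [pow_succ]; exact P.mul_mem _ _ ih ((hK.mem_pos_iff _).2 ⟨1, L, le_rfl, hLrk, rfl⟩)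
    exact P.mul_mem _ _ (hpowpos n) ha
  refine ⟨φ (KRR.cl X L) ^ n * a + φ (KRR.cl X (kernel σ)), N + r + 1, P.add_mem _ _ huna hKpos, ?_⟩
  rw [hadd, hGc]
  ring

end Groth.Agent.S3743
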