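import Groth.Statements.S3749
import Groth.Agent.KRR49.BCSquare
import Groth.Agent.S12131
-- import your own Groth.Agent.* helpers here

set_option autoImplicit false
universe v u
open CategoryTheory CategoryTheory.Limits AlgebraicGeometry
attribute [local instance] HasDerivedCategory.standard
open KRR

namespace Groth.Agent.S3749

/-- Let F : P ⟶ M be a regular closed imbedding and φ : Y ⟶ M a morphism, and form the fibre square X =
P ×_M Y with projections f : X ⟶ Y, ψ : X ⟶ P. Assume f is a regular closed imbedding of the same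
codimension as F (both conormal modules finite locally free of the same rank d). All schemes are
connected and Noetherian, and on M and on Y every coherent module is a quotient of a finite locally
free one. Then on the K-rings (through models, pull-backs φ^K, ψ^K and push-forwards F_K, f_K) one
has φ^K (F_K p) = f_K (ψ^K p) for every p ∈ K(P). -/
theorem result {X Y P M : Scheme.{u}} (F : P ⟶ M) (φ : Y ⟶ M) (f : X ⟶ Y) (ψ : X ⟶ P)
    (hsq : IsPullback f ψ φ F) (hF : Mor2.IsRegularClosedImmersion F) (hf : Mor2.IsRegularClosedImmersion f) (d : ℕ)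
    (hcF : FlatMod.IsFinLocFreeOfRank d (Omega.conormal F)) (hcf : FlatMod.IsFinLocFreeOfRank d (Omega.conormal f))
    [IsNoetherian X] [ConnectedSpace ↥X] [IsNoetherian P] [ConnectedSpace ↥P] [IsNoetherian Y] [ConnectedSpace ↥Y] (hYe : KRR.HasEnoughLocFree Y) [IsNoetherian M] [ConnectedSpace ↥M] (hMe : KRR.HasEnoughLocFree M)
    (KX : Type v) [CommRing KX] [LambdaRing.LambdaOps KX] (PX : LambdaRing.PosStructure KX) (φX : SGA6.Kvb X →+ KX) (hKX : KRR.IsModel X KX PX φX)
    (KY : Type v) [CommRing KY] [LambdaRing.LambdaOps KY] (PY : LambdaRing.PosStructure KY) (φY : SGA6.Kvb Y →+ KY) (hKY : KRR.IsModel Y KY PY φY)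
    (KP : Type v) [CommRing KP] [LambdaRing.LambdaOps KP] (PP : LambdaRing.PosStructure KP) (φP : SGA6.Kvb P →+ KP) (hKP : KRR.IsModel P KP PP φP)
    (KM : Type v) [CommRing KM] [LambdaRing.LambdaOps KM] (PM : LambdaRing.PosStructure KM) (φM : SGA6.Kvb M →+ KM) (hKM : KRR.IsModel M KM PM φM)
    (gφ : KM →+ KY) (hgφ : KRR.IsPull φ φM φY gφ) (gψ : KP →+ KX) (hgψ : KRR.IsPull ψ φP φX gψ)
    (gF : KP →+ KM) (hgF : KRR.IsPushCl F φP φM gF) (gf : KX →+ KY) (hgf : KRR.IsPushCl f φX φY gf)
    (p : KP) : gφ (gF p) = gf (gψ p) := by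
  haveI := hF.1
  haveI := hf.1
  refine DFunLike.congr_fun (?_ : gφ.comp gF = gf.comp gψ) p
  refine AddMonoidHom.ext fun q => ?_
  obtain ⟨a, rfl⟩ := hKP.bijective.2 q
  suffices h : (gφ.comp gF).comp φP = (gf.comp gψ).comp φP from DFunLike.congr_fun h a
  refine Groth.Agent.ResK0.Functorial.hom_ext fun G hG => ?_
  obtain ⟨hc, n, hn⟩ := Groth.Agent.ResK0.RegPush.exists_syzP F hMe hF hG
  haveI : Coh.IsQCoh G := PerfTri.Betti.isQuasicoherent_of_isFinLocFree hG
  have hiso := Groth.Agent.S12131.result F φ ψ f hsq.flip G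
  let e : (Scheme.Modules.pullback φ).obj ((Scheme.Modules.pushforward F).obj G) ≅
      (Scheme.Modules.pushforward f).obj ((Scheme.Modules.pullback ψ).obj G) := @asIso _ _ _ _ _ hiso
  obtain ⟨hs, hv⟩ := Groth.Agent.KRR49.BCSquare.pull_val φ hYe hMe hgφ n _ hc hn
    (Groth.Agent.KRR49.BCSquare.stalk_TA F φ f ψ hsq hF hf hcF hcf hG)
  have H' := Groth.Agent.ResK0.PdSyz.hyp hYe
  have hψG : FlatMod.IsFinLocFree ((Scheme.Modules.pullback ψ).obj G) := KFlat.LocFree.isFinLocFree_pull ψ hG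
  have hcf' := ProperFin.isCoh_push_of_isFinite f _ (PerfTri.Bounded.isCoh_of_isFinLocFree hψG)
  show gφ (gF (φP (KRR.cl P G))) = gf (gψ (φP (KRR.cl P G)))
  rw [Groth.Agent.ResK0.Functorial.isPushCl_eq_val hMe hgF hG hc hn, hv, hgψ G hG,
    Groth.Agent.ResK0.Functorial.isPushCl_eq_val hYe hgf hψG hcf' (H'.syzP_iso n e hs),
    H'.val_iso (H'.inv n) e (ZClosLib.CohDescent.isCoh_pullback φ _ hc) hs]

end Groth.Agent.S3749
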