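import Groth.Statements.S3750
import Groth.Agent.ResK0.Functorial
import Groth.Agent.KRRLib.PullVb
import Groth.Agent.KFlat.FlatPull
import Groth.Agent.KFlat.ProjFormula

set_option autoImplicit false
universe v u
open CategoryTheory CategoryTheory.Limits AlgebraicGeometry
attribute [local instance] HasDerivedCategory.standard
open KRR

namespace Groth.Agent.S3750
open AlgebraicGeometry CategoryTheory CategoryTheory.Limits Groth.Agent.ResK0
open scoped ZeroObject

theorem clSub_iso {C : Type*} [Category C] [Abelian C] (P : ObjectProperty C) {Z A B : C} (hZ : IsZero Z) (hPZ : P Z)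
    (e : A ≅ B) (hA : P A) (hB : P B) : KZero.clSub P A = KZero.clSub P B := by
  have h0 : KZero.clSub P Z = 0 := by
    have hS : (ShortComplex.mk (𝟙 Z) (0 : Z ⟶ Z) (by simp)).ShortExact :=
      have : Epi (0 : Z ⟶ Z) := ⟨fun _ _ _ => hZ.eq_of_src _ _⟩
      { exact := ShortComplex.exact_of_isZero_X₂ _ hZ
        mono_f := inferInstance
        epi_g := inferInstance }
    simpa using Basic.clSub_add P hS hPZ hPZ hPZ
  have hS : (ShortComplex.mk (0 : Z ⟶ A) e.hom (by simp)).ShortExact :=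
    have : Mono (0 : Z ⟶ A) := ⟨fun _ _ _ => hZ.eq_of_tgt _ _⟩
    { exact := by
        rw [ShortComplex.exact_iff_mono _ rfl]
        dsimp
        infer_instance
      mono_f := inferInstance
      epi_g := inferInstance }
  have := Basic.clSub_add P hS hPZ hA hB
  simpa [h0] using this

/-- An exact functor to a scheme without any hypothesis computes the value where the image is a bundle. -/
theorem map_val_cl {X X' : Scheme.{u}} [AlgebraicGeometry.IsNoetherian X] [IsLocallyNoetherian X']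
    (hX : KRR.HasEnoughLocFree X) (T : X.Modules ⥤ X'.Modules) [T.Additive] [PreservesFiniteLimits T]
    [PreservesFiniteColimits T] (hvb : ∀ M, KRR.vbP X M → KRR.vbP X' (T.obj M)) :
    ∀ (n : ℕ) (M : X.Modules), Coh.IsCoh M → Basic.SyzP (KRR.vbP X) n M → KRR.vbP X' (T.obj M) →
      SGA6.mapSub T (KRR.vbP X) (KRR.vbP X') hvb (Basic.val (KRR.vbP X) n M) =
        KZero.clSub (KRR.vbP X') (T.obj M) := by
  have hmap : ∀ E, KRR.vbP X E → SGA6.mapSub T (KRR.vbP X) (KRR.vbP X') hvb (KZero.clSub (KRR.vbP X) E) =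
      KZero.clSub (KRR.vbP X') (T.obj E) := fun E hE => by
    simp only [KZero.clSub, dif_pos hE, dif_pos (hvb E hE), SGA6.mapSub, QuotientAddGroup.map_mk,
      FreeAbelianGroup.map_of_apply, SGA6.objMap]
  intro n
  induction n with
  | zero => exact fun M _ hn _ => hmap M hn
  | succ n ih =>
    intro M hM hn hTM
    have H := PdSyz.hyp hX
    obtain ⟨L, p, hp, hL⟩ := H.exists_cover M hM
    have hS := (Basic.shortExact_kernel p).map_of_exact T
    have hTK : KRR.vbP X' (T.obj (kernel p)) := VbKernel.isFinLocFree_X₁ hS (hvb L hL) hTM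
    rw [H.val_succ (H.inv n) hM hn p hL, map_sub, hmap L hL,
      ih _ (H.kernel₁ p (H.le _ hL) hM) (hn L p hp hL) hTK, sub_eq_iff_eq_add']
    exact Basic.clSub_add (KRR.vbP X') hS hTK (hvb L hL) hTM


/-- Let F : P ⟶ M and f : X ⟶ Y be regular closed imbeddings whose conormal sheaves are locally free of
the same rank d, fitting in a cartesian square with φ : Y ⟶ M and ψ : X ⟶ P (so X = Y ×_M P), all
these schemes Noetherian and connected and Y, M having enough locally free sheaves. Let k : Z ⟶ Y be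
a morphism from a connected Noetherian scheme whose image is disjoint from f(X), and h = k ≫ φ : Z ⟶
M. Then, on models of the λ-rings K(P), K(M) and K(Z), the pull-back h^K : K(M) → K(Z) kills the
image of the push-forward F_K : K(P) → K(M): h^K(F_K(p)) = 0 for every p ∈ K(P). -/
theorem result {X Y P M Z : Scheme.{u}} (F : P ⟶ M) (φ : Y ⟶ M) (f : X ⟶ Y) (ψ : X ⟶ P)
    (hsq : IsPullback f ψ φ F) (hF : Mor2.IsRegularClosedImmersion F) (hf : Mor2.IsRegularClosedImmersion f) (d : ℕ)
    (hcF : FlatMod.IsFinLocFreeOfRank d (Omega.conormal F)) (hcf : FlatMod.IsFinLocFreeOfRank d (Omega.conormal f))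
    (k : Z ⟶ Y) (hk : Disjoint (Set.range k.base) (Set.range f.base))
    [IsNoetherian X] [ConnectedSpace ↥X] [IsNoetherian P] [ConnectedSpace ↥P] [IsNoetherian Z] [ConnectedSpace ↥Z] [IsNoetherian Y] [ConnectedSpace ↥Y] (hYe : KRR.HasEnoughLocFree Y) [IsNoetherian M] [ConnectedSpace ↥M] (hMe : KRR.HasEnoughLocFree M)
    (KP : Type v) [CommRing KP] [LambdaRing.LambdaOps KP] (PP : LambdaRing.PosStructure KP) (φP : SGA6.Kvb P →+ KP) (hKP : KRR.IsModel P KP PP φP)
    (KM : Type v) [CommRing KM] [LambdaRing.LambdaOps KM] (PM : LambdaRing.PosStructure KM) (φM : SGA6.Kvb M →+ KM) (hKM : KRR.IsModel M KM PM φM)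
    (KZ : Type v) [CommRing KZ] [LambdaRing.LambdaOps KZ] (PZ : LambdaRing.PosStructure KZ) (φZ : SGA6.Kvb Z →+ KZ) (hKZ : KRR.IsModel Z KZ PZ φZ)
    (gh : KM →+ KZ) (hgh : KRR.IsPull (k ≫ φ) φM φZ gh)
    (gF : KP →+ KM) (hgF : KRR.IsPushCl F φP φM gF) (p : KP) : gh (gF p) = 0 := by
  haveI := hF.1
  let U : M.Opens := ⟨(Set.range F)ᶜ, F.isClosedEmbedding.isClosed_range.isOpen_compl⟩
  have hdis : ∀ z, (k ≫ φ) z ∈ U := fun z ⟨q, hq⟩ => by
    obtain ⟨x, hx, -⟩ := Scheme.Pullback.exists_preimage_pullback (f := φ) (g := F) (k z) q hq.symm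
    refine Set.disjoint_left.1 hk ⟨z, rfl⟩ ⟨hsq.isoPullback.inv x, ?_⟩
    rw [← hx, ← hsq.isoPullback_inv_fst]
    rfl
  let k' : Z ⟶ U.toScheme := IsOpenImmersion.lift U.ι (k ≫ φ) (by
    rintro _ ⟨z, rfl⟩
    rw [Scheme.Opens.range_ι]
    exact hdis z)
  have hk' : k' ≫ U.ι = k ≫ φ := IsOpenImmersion.lift_fac _ _ _
  let T := Scheme.Modules.pullback U.ι
  haveI : T.IsLeftAdjoint := (Scheme.Modules.pullbackPushforwardAdjunction U.ι).isLeftAdjoint
  haveI : PreservesFiniteColimits T := inferInstance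
  haveI : PreservesFiniteLimits T := KFlat.FlatPull.preservesFiniteLimits_pullback U.ι
  have hvb : ∀ E, KRR.vbP M E → KRR.vbP U.toScheme (T.obj E) := fun E hE => KFlat.LocFree.isFinLocFree_pull U.ι hE
  obtain ⟨G₀, hG₀⟩ := S3203.exists_desc (X := U.toScheme)
    (fun E _ => φZ (KRR.cl Z ((Scheme.Modules.pullback k').obj E))) fun S h₁ h₂ h₃ hS => by
      rw [← map_add]
      exact congrArg φZ (Basic.clSub_add _ (KRRLib.shortExact_pull k' hS h₃) (KFlat.LocFree.isFinLocFree_pull k' h₁)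
        (KFlat.LocFree.isFinLocFree_pull k' h₂) (KFlat.LocFree.isFinLocFree_pull k' h₃))
  have key : gh.comp φM = G₀.comp (SGA6.mapSub T (KRR.vbP M) (KRR.vbP U.toScheme) hvb) :=
    Functorial.hom_ext fun E hE => by
      show gh (φM (KRR.cl M E)) = G₀ (SGA6.mapSub T (KRR.vbP M) (KRR.vbP U.toScheme) hvb (KRR.cl M E))
      have e : SGA6.mapSub T (KRR.vbP M) (KRR.vbP U.toScheme) hvb (KRR.cl M E) = KRR.cl U.toScheme (T.obj E) := by
        simp only [KRR.cl, KZero.clSub, dif_pos hE, dif_pos (hvb E hE), SGA6.mapSub, QuotientAddGroup.map_mk,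
          FreeAbelianGroup.map_of_apply, SGA6.objMap]
      rw [e, hgh E hE]
      refine Eq.trans (congrArg φZ ?_) (hG₀ _ (hvb E hE)).symm
      have hz : FlatMod.IsFinLocFree (FlatMod.freeMod Z 0) := fun z =>
        ⟨⊤, 0, trivial, ⟨(Scheme.Modules.restrictFunctorIsoPullback (⊤ : Z.Opens).ι).app _ ≪≫
          KFlat.LocFree.pullFreeIso (⊤ : Z.Opens).ι 0⟩⟩
      exact clSub_iso (KRR.vbP Z) (Z := FlatMod.freeMod Z 0)
        ((IsZero.iff_id_eq_zero _).mpr (Sigma.hom_ext _ _ fun i => Fin.elim0 i)) hz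
        (((Scheme.Modules.pullbackCongr hk').app E).symm ≪≫ ((Scheme.Modules.pullbackComp k' U.ι).app E).symm)
        (KFlat.LocFree.isFinLocFree_pull _ hE) (KFlat.LocFree.isFinLocFree_pull k' (hvb E hE))
  obtain ⟨c, rfl⟩ := hKP.bijective.2 p
  suffices h : (gh.comp gF).comp φP = 0 from DFunLike.congr_fun h c
  refine Functorial.hom_ext fun G hG => ?_
  obtain ⟨hc, n, hn⟩ := RegPush.exists_syzP F hMe hF hG
  have hzero : IsZero (T.obj ((Scheme.Modules.pushforward F).obj G)) := by
    have hs : ∀ u, Subsingleton ((T.obj ((Scheme.Modules.pushforward F).obj G)).presheaf.stalk u) := fun u =>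
      ModuleCat.subsingleton_of_isZero (KFlat.ProjFormula.subsingleton_stalk_pull U.ι _ u
        (KFlat.ProjFormula.isZero_stalk_push F G u.2))
    haveI : Mono (0 : T.obj ((Scheme.Modules.pushforward F).obj G) ⟶ 0) :=
      KFlat.StalkTensor.mono_of_stalk_injective _ fun u _ _ _ => (hs u).elim _ _
    exact IsZero.of_mono (0 : T.obj ((Scheme.Modules.pushforward F).obj G) ⟶ 0) (isZero_zero _)
  have hz' : FlatMod.IsFinLocFree (T.obj ((Scheme.Modules.pushforward F).obj G)) :=
    KFlat.LocFree.isFinLocFree_of_iso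
      (((IsZero.iff_id_eq_zero _).mpr (Sigma.hom_ext _ _ fun i => Fin.elim0 i) : IsZero (FlatMod.freeMod U.toScheme 0)).iso hzero)
      (fun z => ⟨⊤, 0, trivial, ⟨(Scheme.Modules.restrictFunctorIsoPullback (⊤ : U.toScheme.Opens).ι).app _ ≪≫
          KFlat.LocFree.pullFreeIso (⊤ : U.toScheme.Opens).ι 0⟩⟩)
  show gh (gF (φP (KRR.cl P G))) = 0
  rw [Functorial.isPushCl_eq_val hMe hgF hG hc hn]
  refine (DFunLike.congr_fun key _).trans ?_
  show G₀ (SGA6.mapSub T (KRR.vbP M) (KRR.vbP U.toScheme) hvb _) = 0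
  rw [map_val_cl hMe T hvb n _ hc hn hz']
  have h0 : KZero.clSub (KRR.vbP U.toScheme) (T.obj ((Scheme.Modules.pushforward F).obj G)) = 0 := by
    have hS : (ShortComplex.mk (𝟙 (T.obj ((Scheme.Modules.pushforward F).obj G))) (0 : _ ⟶ T.obj ((Scheme.Modules.pushforward F).obj G)) (by simp)).ShortExact :=
      have : Epi (0 : T.obj ((Scheme.Modules.pushforward F).obj G) ⟶ T.obj ((Scheme.Modules.pushforward F).obj G)) :=
        ⟨fun _ _ _ => hzero.eq_of_src _ _⟩
      { exact := ShortComplex.exact_of_isZero_X₂ _ hzero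
        mono_f := inferInstance
        epi_g := inferInstance }
    simpa using Basic.clSub_add (KRR.vbP U.toScheme) hS hz' hz' hz'
  rw [h0, map_zero]

end Groth.Agent.S3750
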