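import Groth.Statements.S3760
import Groth.Agent.KRR49.PushTwist

set_option autoImplicit false
universe v u
open CategoryTheory CategoryTheory.Limits AlgebraicGeometry
attribute [local instance] HasDerivedCategory.standard
open KRR

namespace Groth.Agent.S3760

/-- f_K[O(m)] = [Sym^m E] for m ≥ 0, here with E = O_Y^{n+1}: let Y be a connected Noetherian scheme, p
: P = P^n_Y ⟶ Y, with models of K(P), K(Y) and g = p_K. Then for every m ≥ 0, p_K [O_P(m)] = C(n+m,
m) · 1 in K(Y) (the class of Sym^m of a free module of rank n+1). Here O_P(m) is written O(m) ⊗ O_P. -/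
theorem result (n : ℕ) (Y : Scheme.{u}) [IsNoetherian Y] [ConnectedSpace ↥Y]
    (KP : Type v) [CommRing KP] [LambdaRing.LambdaOps KP] (PP : LambdaRing.PosStructure KP) (φP : SGA6.Kvb (KRR.PY n Y) →+ KP) (hKP : KRR.IsModel (KRR.PY n Y) KP PP φP)
    (KY : Type v) [CommRing KY] [LambdaRing.LambdaOps KY] (PY : LambdaRing.PosStructure KY) (φY : SGA6.Kvb Y →+ KY) (hKY : KRR.IsModel Y KY PY φY)
    (g : KP →+ KY) (hg : KRR.IsPushPr n Y φP φY g) (m : ℕ) :
    g (φP (KRR.cl (KRR.PY n Y) (KRR.twF n Y (m : ℤ) (Coh.structureModule (KRR.PY n Y))))) = (Nat.choose (n + m) m : KY) := by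
  let w : ℕ → KY := fun j => g (φP (KRR.cl (KRR.PY n Y) (Twist.twistOver n Y ((j : ℤ) - n))))
  have hzero : w n = 1 := by
    have e : Twist.twistOver n Y ((n : ℤ) - n) ≅ Coh.structureModule (KRR.PY n Y) :=
      eqToIso (by rw [sub_self]) ≪≫ KRRLib.twistZero
    show g (φP (KRR.cl (KRR.PY n Y) (Twist.twistOver n Y ((n : ℤ) - n)))) = 1
    rw [show KRR.cl (KRR.PY n Y) (Twist.twistOver n Y ((n : ℤ) - n)) =
        KRR.cl (KRR.PY n Y) (Coh.structureModule (KRR.PY n Y)) from
      S3205.clSub_congr e.hom (KRR49.isFinLocFree_one (LFFrame.isInvertible_structureModule _))]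
    exact S3759.result n Y KP PP φP hKP KY PY φY hKY g hg
  have hw : ∀ j, w j = ((j.choose n : ℕ) : KY) := by
    intro j
    induction j using Nat.strong_induction_on with
    | _ j ih =>
      rcases lt_trichotomy j n with h | h | h
      · rw [Nat.choose_eq_zero_of_lt h, Nat.cast_zero]
        have := KRR49.push_twistOver_neg φP φY g hg (n - j) (by omega) (by omega)
        show g (φP (KRR.cl (KRR.PY n Y) (Twist.twistOver n Y ((j : ℤ) - n)))) = 0
        rw [show (j : ℤ) - n = -((n - j : ℕ) : ℤ) by omega]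
        exact this
      · subst h
        rw [Nat.choose_self, Nat.cast_one]
        exact hzero
      · obtain ⟨i, rfl⟩ : ∃ i, j = i + (n + 1) := ⟨j - (n + 1), by omega⟩
        have h1 : w i = KRR49.R n (fun k => w (i + k)) := by
          show g (φP (KRR.cl (KRR.PY n Y) (Twist.twistOver n Y ((i : ℤ) - n)))) = _
          rw [KRR49.relation_twistOver, KRR49.map_R φP, KRR49.map_R g]
          exact KRR49.R_congr n fun k _ => by
            show _ = g (φP (KRR.cl (KRR.PY n Y) (Twist.twistOver n Y (((i + k : ℕ) : ℤ) - n))))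
            rw [show (k : ℤ) + ((i : ℤ) - n) = ((i + k : ℕ) : ℤ) - n by push_cast; ring]
        have h2 : ((i.choose n : ℕ) : KY) = KRR49.R n (fun k => (((i + k).choose n : ℕ) : KY)) := by
          have := congrArg (Int.castAddHom KY) (KRR49.choose_eq_R n i)
          rw [KRR49.map_R] at this
          simpa using this
        rw [ih i (by omega), h2] at h1
        simp only [KRR49.R] at h1
        have hs : ∀ p ∈ Finset.range n, ((-1 : ℤ) ^ p * ((n + 1).choose (p + 1) : ℤ)) • w (i + (n - p)) =
            ((-1 : ℤ) ^ p * ((n + 1).choose (p + 1) : ℤ)) • (((i + (n - p)).choose n : ℕ) : KY) :=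
          fun p _ => by rw [ih (i + (n - p)) (by omega)]
        rw [Finset.sum_congr rfl hs] at h1
        have h3 := congrArg (fun x => (-1 : ℤ) ^ n • x) h1
        simp only [KRR49.smul_smul_negOne] at h3
        exact (sub_left_injective h3).symm
  have e : KRR.twF n Y (m : ℤ) (Coh.structureModule (KRR.PY n Y)) ≅ Twist.twistOver n Y (((n + m : ℕ) : ℤ) - n) :=
    ProjTwist.tensOne (Twist.twistOver n Y (m : ℤ)) ≪≫ eqToIso (by congr 1; push_cast; ring)
  rw [show KRR.cl (KRR.PY n Y) (KRR.twF n Y (m : ℤ) (Coh.structureModule (KRR.PY n Y))) =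
      KRR.cl (KRR.PY n Y) (Twist.twistOver n Y (((n + m : ℕ) : ℤ) - n)) from
    S3205.clSub_congr e.hom (KRR49.isFinLocFree_twistOver _), Nat.choose_symm_add.symm]
  exact hw (n + m)

end Groth.Agent.S3760
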