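import Groth.Statements.S8664
import Groth.Agent.BigVol.FibRegMain
import Groth.Agent.CohOps.PnSmooth
import Groth.Agent.IntProd70.Family
import Groth.Agent.KFlat.LocFree

set_option autoImplicit false
set_option linter.style.haveILetI false
set_option maxHeartbeats 1600000
set_option synthInstance.maxHeartbeats 400000
universe v u
open CategoryTheory CategoryTheory.Limits AlgebraicGeometry
attribute [local instance] HasDerivedCategory.standard
open SGA6

namespace Groth.Agent.S8664

section helpers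
open CategoryTheory CategoryTheory.Limits AlgebraicGeometry TopologicalSpace
open Groth.Agent Groth.Agent.ProjTwist

variable {S : Scheme.{u}} (n : ℕ)

theorem lfp_toBase (S : Scheme.{u}) : LocallyOfFinitePresentation (CohB1.ProjSpaceOver.toBase n S) := by
  haveI := CohOps.PnSmooth.smooth_toSpec n (ULift.{u} ℤ)
  haveI : LocallyOfFinitePresentation (CohB1.ProjSpace.toSpec n (ULift.{u} ℤ)) := inferInstance
  exact inferInstanceAs (LocallyOfFinitePresentation (pullback.snd _ _))

/-- Each fibre is regular for some twist, and vanishing above the relative dimension is automatic. -/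
theorem exists_fibre_bound {Q : (CohB1.ProjSpaceOver n S).Modules} (hQ : CohB1.IsFP Q) [Q.IsQuasicoherent]
    (s : S) [IsProper (CohB1.ProjSpaceOver.toBase n S)] :
    ∃ d₀ : ℤ, ∀ (d : ℤ) (i : ℕ), 1 ≤ i → (d₀ ≤ d ∨ n < i) →
      Subsingleton (CohIII.fiberH (CohB1.ProjSpaceOver.toBase n S)
        (CohB1.tensorMod Q (Twist.twistOver n S d)) s i) := by
  obtain ⟨ε, hε⟩ := BigVol.FibReg.exists_fibreIso n s
  let K : Type u := S.residueField s
  let q := (CohB1.ProjSpaceOver.toBase n S).fiberι s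
  let F := (Scheme.Modules.pullback q).obj Q
  have hF : Coh.IsCoh F := BigVol.HilbBC.isCoh_fibre (f := CohB1.ProjSpaceOver.toBase n S) hQ s
  haveI : Coh.IsQCoh F := hF.1
  haveI : IsClosedImmersion ε.hom := inferInstance
  let θ : ∀ d : ℤ, (Scheme.Modules.pullback q).obj (CohB1.tensorMod Q (Twist.twistOver n S d)) ≅
      Pic13.twistOn K ε.hom F d := fun d =>
    KFlat.PullTensor.pullTensorIso q Q _ ≪≫ tensCongr (Iso.refl _) (hε d).some
  have hP : Coh.IsCoh ((Coh.push ε.hom).obj F) := ProperFin.isCoh_push_of_isFinite ε.hom F hF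
  obtain ⟨d₀, hd₀⟩ := Pn.serre_vanishing _ hP
  refine ⟨d₀, fun d i hi hd => ?_⟩
  refine (CohLin.hIso (θ d) i).toEquiv.subsingleton_congr.mpr ?_
  rw [CMReg.subsingleton_twistOn_iff ε.hom F d i]
  rcases hd with hd | hd
  · exact hd₀ d hd i hi
  · exact Pn.subsingleton_above _ (Pn.isQCoh_tw _ hP.1 d) i hd

/-- Uniform regularity over a quasi-compact base. -/
theorem exists_uniform [CompactSpace S] {Q : (CohB1.ProjSpaceOver n S).Modules} (hQ : CohB1.IsFP Q)
    (hfl : FlatMod.IsFlatOver (CohB1.ProjSpaceOver.toBase n S) Q) :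
    ∃ n₀ : ℕ, ∀ d : ℕ, n₀ ≤ d → ∀ (s : S) (i : ℕ), 1 ≤ i →
      Subsingleton (CohIII.fiberH (CohB1.ProjSpaceOver.toBase n S)
        (CohB1.tensorMod Q (Twist.twistOver n S (d : ℤ))) s i) := by
  classical
  haveI : IsProper (CohB1.ProjSpaceOver.toBase n S) := TwistFlat.isProper_toBase n S
  haveI := lfp_toBase n S
  haveI : Q.IsQuasicoherent := CBC.isQuasicoherent_of_fp hQ
  let U : ℕ → Set S := fun m => ⋂ i ∈ Finset.Icc 1 n, {s | Subsingleton
    (CohIII.fiberH (CohB1.ProjSpaceOver.toBase n S) (CohB1.tensorMod Q (Twist.twistOver n S ((m : ℤ) - i))) s i)}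
  have hU : ∀ m, IsOpen (U m) := fun m => isOpen_biInter_finset fun i _ => by
    have hinv := TwistFlat.isInvertible_twistOver n S ((m : ℤ) - i)
    haveI := (IntProd70.isFP_tensor hQ hinv).1
    exact CBC.isOpen_setOf_subsingleton_fiberH (IntProd70.isFP_tensor hQ hinv).2
      (TwistFlat.isFlatOver_tensor _ Q hinv hfl) i
  have hcov : (Set.univ : Set S) ⊆ ⋃ m, U m := fun s _ => by
    obtain ⟨d₀, hd₀⟩ := exists_fibre_bound n hQ s
    refine Set.mem_iUnion.2 ⟨d₀.toNat + n, Set.mem_iInter₂.2 fun i hi => ?_⟩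
    obtain ⟨h1, h2⟩ := Finset.mem_Icc.1 hi
    exact hd₀ _ i h1 (Or.inl (by omega))
  obtain ⟨κ, hκ⟩ := isCompact_univ.elim_finite_subcover U hU hcov
  refine ⟨κ.sup id, fun d hd s i hi => ?_⟩
  obtain ⟨m, hm, hs⟩ := Set.mem_iUnion₂.1 (hκ (Set.mem_univ s))
  refine (BigVol.FibReg.fibre_props n hQ (m : ℤ) s (fun j hj => ?_) (d : ℤ)
    (by have := Finset.le_sup (f := id) hm; simp only [id] at this; omega)).1 i hi
  by_cases hjn : j ≤ n
  · exact Set.mem_iInter₂.1 hs j (Finset.mem_Icc.2 ⟨hj, hjn⟩)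
  · obtain ⟨d₀, hd₀⟩ := exists_fibre_bound n hQ s
    exact hd₀ _ j hj (Or.inr (by omega))

end helpers


/-- Let S be a quasi-compact scheme, f : P = P^r_S ⟶ S the projection, and F a finitely presented
O_P-module which is flat over S (all stalks of F flat over the corresponding local rings of S). Then
there is n₀ such that for all n ≥ n₀ one has R^q f_*(F(n)) = 0 for every q ≥ 1 (higher direct images
of the underlying abelian sheaf) and f_*(F(n)) is finite locally free on S, with F(n) = O_P(n) ⊗ F.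
(The published statement is for the projective bundle of any finite locally free O_S-module and also
asserts (iii) that ⊕_{n ≥ n₀} f_*(F(n)) is a finitely presented graded module over the symmetric
algebra; this row takes the trivial bundle and states (i), (ii) only.) -/
theorem result (S : Scheme.{u}) [CompactSpace ↥S] (r : ℕ)
    (F : (KRR.PY r S).Modules) (hF : CohB1.IsFP F) (hfl : FlatMod.IsFlatOver (KRR.pr r S) F) :
    ∃ n₀ : ℕ, ∀ n : ℕ, n₀ ≤ n →
      (∀ q : ℕ, 1 ≤ q → IsZero ((Coh.RpushAb (KRR.pr r S) q).obj (Coh.toAb (KRR.twF r S (n : ℤ) F)))) ∧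
      FlatMod.IsFinLocFree ((Scheme.Modules.pushforward (KRR.pr r S)).obj (KRR.twF r S (n : ℤ) F)) := by
  open CategoryTheory.Limits Groth.Agent Groth.Agent.ProjTwist in
  obtain ⟨n₀, h⟩ := exists_uniform r hF hfl
  haveI : IsProper (CohB1.ProjSpaceOver.toBase r S) := Groth.Agent.TwistFlat.isProper_toBase r S
  haveI := lfp_toBase r S
  haveI : F.IsQuasicoherent := Groth.Agent.CBC.isQuasicoherent_of_fp hF
  refine ⟨n₀, fun n hn => ?_⟩
  let f := CohB1.ProjSpaceOver.toBase r S
  have hinv := Groth.Agent.TwistFlat.isInvertible_twistOver r S (n : ℤ)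
  let G := CohB1.tensorMod F (Twist.twistOver r S (n : ℤ))
  have hGfp : CohB1.IsFP G := (Groth.Agent.IntProd70.isFP_tensor hF hinv).2
  haveI : G.IsQuasicoherent := (Groth.Agent.IntProd70.isFP_tensor hF hinv).1
  have hGfl : FlatMod.IsFlatOver f G := Groth.Agent.TwistFlat.isFlatOver_tensor f F hinv hfl
  let e : KRR.twF r S (n : ℤ) F ≅ G := Groth.Agent.ProjTwist.tensComm _ _
  refine ⟨fun q hq => ?_, ?_⟩
  · have hz : Limits.IsZero ((Coh.Rpush f q).obj G) := Groth.Agent.CBC.isZero_Rpush hGfp hGfl fun y => h n hn y q hq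
    exact (((Groth.Agent.ModShf.toAbFunctor S).map_isZero hz).of_iso
      ((Groth.Agent.ModShf.rpushCompToAb f q).app G).symm).of_iso
        ((Coh.RpushAb f q).mapIso ((Groth.Agent.ModShf.toAbFunctor _).mapIso e))
  · refine Groth.Agent.KFlat.LocFree.isFinLocFree_of_iso ((Scheme.Modules.pushforward f).mapIso e).symm fun y => ?_
    obtain ⟨N, h1, -, h2⟩ := Groth.Agent.CBC.exists_rExact_zero_of_fibres hGfp hGfl ⊤
      (fun y _ => h n hn y 1 le_rfl) (s := y) trivial
    exact N.exists_free_nhd₀ hGfl h2 y h1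

end Groth.Agent.S8664
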