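import Groth.Statements.S8669
import Groth.Agent.S8664
import Groth.Agent.KRR49.PushReg
import Groth.Agent.Props.QProj
import Groth.Agent.PerfTri.Betti
import Groth.Agent.FormalFun.HomMonoEpi

set_option autoImplicit false
set_option linter.style.haveILetI false
set_option maxHeartbeats 1600000
set_option synthInstance.maxHeartbeats 400000
universe v u
open CategoryTheory CategoryTheory.Limits AlgebraicGeometry
attribute [local instance] HasDerivedCategory.standard
open SGA6

namespace Groth.Agent.S8669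

section helpers
open CategoryTheory CategoryTheory.Limits AlgebraicGeometry
open Groth.Agent Groth.Agent.KRR49

variable {S : Scheme.{u}} {r : ℕ}

theorem exists_good [CompactSpace S] {M : (KRR.PY r S).Modules} (hM : FlatMod.IsFinLocFree M) :
    ∃ n₀ : ℕ, ∀ n : ℕ, n₀ ≤ n →
      (∀ q : ℕ, 1 ≤ q → IsZero ((Coh.RpushAb (KRR.pr r S) q).obj (Coh.toAb (KRR.twF r S (n : ℤ) M)))) ∧
      FlatMod.IsFinLocFree ((Scheme.Modules.pushforward (KRR.pr r S)).obj (KRR.twF r S (n : ℤ) M)) := by
  haveI : M.IsQuasicoherent := PerfTri.Betti.isQuasicoherent_of_isFinLocFree hM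
  haveI := CohOps.PnSmooth.smooth_toSpec r (ULift.{u} ℤ)
  haveI : Flat (CohB1.ProjSpace.toSpec r (ULift.{u} ℤ)) := inferInstance
  haveI : Flat (KRR.pr r S) := inferInstanceAs (Flat (pullback.snd _ _))
  exact S8664.result S r M (Props.QProj.isFP M hM) (FormalFun.isFlatOver_of_isFinLocFree' _ hM)

theorem shortExact_push {T : ShortComplex (KRR.PY r S).Modules} (hT : T.ShortExact)
    (hz : IsZero ((Coh.RpushAb (KRR.pr r S) 1).obj (Coh.toAb T.X₁))) :
    (T.map (Scheme.Modules.pushforward (KRR.pr r S))).ShortExact := by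
  haveI : (Scheme.Modules.pushforward (KRR.pr r S)).IsRightAdjoint :=
    (Scheme.Modules.pullbackPushforwardAdjunction (KRR.pr r S)).isRightAdjoint
  haveI : PreservesFiniteLimits (Scheme.Modules.pushforward (KRR.pr r S)) := inferInstance
  haveI := hT.mono_f
  have hA := KFlat.QCohAcy.shortExact_toAb hT
  have he : Epi ((Coh.pushAb (KRR.pr r S)).rightDerived 0 |>.map
      ((ModShf.toAbFunctor (KRR.PY r S)).map T.g)) :=
    ((KRRLib.les r S).exact₃ _ hA 0 1 rfl).epi_f (hz.eq_of_tgt _ _)
  have he' : Epi ((Coh.pushAb (KRR.pr r S)).map ((ModShf.toAbFunctor (KRR.PY r S)).map T.g)) := by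
    rw [← NatIso.naturality_1 (Coh.pushAb (KRR.pr r S)).rightDerivedZeroIsoSelf]
    exact @epi_comp _ _ _ _ _ _ inferInstance _ (@epi_comp _ _ _ _ _ _ he _ inferInstance)
  have he'' : Epi ((ModShf.toAbFunctor S).map ((Scheme.Modules.pushforward (KRR.pr r S)).map T.g)) := he'
  haveI : (ModShf.toAbFunctor S).Faithful := inferInstanceAs (SheafOfModules.toSheaf S.ringCatSheaf).Faithful
  exact
    { exact := hT.exact.map_of_mono_of_preservesKernel _ hT.mono_f inferInstance
      mono_f := inferInstanceAs (Mono ((Scheme.Modules.pushforward (KRR.pr r S)).map T.f))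
      epi_g := (ModShf.toAbFunctor S).epi_of_epi_map he'' }

variable (S r)

/-- `M ↦ [p_* M(n)]` on the free group. -/
noncomputable def pushTw (n : ℕ) :
    FreeAbelianGroup (Subtype (KRR.vbP (KRR.PY r S))) →+ SGA6.Kvb S :=
  FreeAbelianGroup.lift fun M => KRR.cl S ((Scheme.Modules.pushforward (KRR.pr r S)).obj (KRR.twF r S (n : ℤ) M.1))

variable {S r}

theorem eventually_zero [CompactSpace S] {x : FreeAbelianGroup (Subtype (KRR.vbP (KRR.PY r S)))}
    (hx : x ∈ KZero.relSub (KRR.vbP (KRR.PY r S))) : ∃ n₀ : ℕ, ∀ n : ℕ, n₀ ≤ n → pushTw S r n x = 0 := by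
  rw [KZero.relSub] at hx
  induction hx using AddSubgroup.closure_induction with
  | mem x hx =>
    obtain ⟨T, h₁, h₂, h₃, hT, rfl⟩ := hx
    obtain ⟨a, ha⟩ := exists_good h₁
    obtain ⟨b, hb⟩ := exists_good h₂
    obtain ⟨c, hc⟩ := exists_good h₃
    refine ⟨max a (max b c), fun n hn => ?_⟩
    have hse := shortExact_push (KRRLib.shortExact_tw hT (n : ℤ)) ((ha n (by omega)).1 1 le_rfl)
    simp only [map_sub, pushTw, FreeAbelianGroup.lift_apply_of]
    have h : KRR.cl S ((Scheme.Modules.pushforward (KRR.pr r S)).obj (KRR.twF r S (n : ℤ) T.X₂)) =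
        KRR.cl S ((Scheme.Modules.pushforward (KRR.pr r S)).obj (KRR.twF r S (n : ℤ) T.X₁)) +
          KRR.cl S ((Scheme.Modules.pushforward (KRR.pr r S)).obj (KRR.twF r S (n : ℤ) T.X₃)) :=
      ResK0.Basic.clSub_add (KRR.vbP S) hse (ha n (by omega)).2 (hb n (by omega)).2 (hc n (by omega)).2
    rw [h]
    abel
  | zero => exact ⟨0, fun n _ => map_zero _⟩
  | add x y _ _ hx hy =>
    obtain ⟨a, ha⟩ := hx
    obtain ⟨b, hb⟩ := hy
    exact ⟨max a b, fun n hn => by rw [map_add, ha n (by omega), hb n (by omega), add_zero]⟩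
  | neg x _ hx =>
    obtain ⟨a, ha⟩ := hx
    exact ⟨a, fun n hn => by rw [map_neg, ha n hn, neg_zero]⟩

end helpers


/-- Let S be a quasi-compact scheme, f : P = P^r_S ⟶ S the projection, and F, G finite locally free
O_P-modules whose classes in K₀ of finite locally free O_P-modules coincide. Then there is n₀ such
that for every n ≥ n₀ the modules f_*(F(n)) and f_*(G(n)) are finite locally free on S and have the
same class in K₀ of finite locally free O_S-modules, where F(n) = O_P(n) ⊗ F. (The published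
statement is for the projective bundle of any finite locally free module of rank r + 1; this row
takes the trivial bundle.) -/
theorem result (S : Scheme.{u}) [CompactSpace ↥S] (r : ℕ)
    (F G : (KRR.PY r S).Modules) (hF : FlatMod.IsFinLocFree F) (hG : FlatMod.IsFinLocFree G)
    (h : KRR.cl (KRR.PY r S) F = KRR.cl (KRR.PY r S) G) :
    ∃ n₀ : ℕ, ∀ n : ℕ, n₀ ≤ n →
      FlatMod.IsFinLocFree ((Scheme.Modules.pushforward (KRR.pr r S)).obj (KRR.twF r S (n : ℤ) F)) ∧
      FlatMod.IsFinLocFree ((Scheme.Modules.pushforward (KRR.pr r S)).obj (KRR.twF r S (n : ℤ) G)) ∧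
      KRR.cl S ((Scheme.Modules.pushforward (KRR.pr r S)).obj (KRR.twF r S (n : ℤ) F)) =
        KRR.cl S ((Scheme.Modules.pushforward (KRR.pr r S)).obj (KRR.twF r S (n : ℤ) G)) := by
  obtain ⟨a, ha⟩ := exists_good hF
  obtain ⟨b, hb⟩ := exists_good hG
  simp only [KRR.cl, KZero.clSub, dif_pos (show KRR.vbP (KRR.PY r S) F from hF),
    dif_pos (show KRR.vbP (KRR.PY r S) G from hG)] at h
  rw [QuotientAddGroup.eq_iff_sub_mem] at h
  obtain ⟨c, hc⟩ := eventually_zero h
  refine ⟨max a (max b c), fun n hn => ⟨(ha n (by omega)).2, (hb n (by omega)).2, sub_eq_zero.1 ?_⟩⟩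
  have h0 := hc n (by omega)
  simp only [map_sub, pushTw, FreeAbelianGroup.lift_apply_of] at h0
  exact h0

end Groth.Agent.S8669
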