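import Groth.Statements.S3770
import Groth.Agent.S8664
import Groth.Agent.S8669
import Groth.Agent.BigVol.Bc0Fin
import Groth.Agent.BigVol.HilbFlat
import Groth.Agent.BigVol.FieldPoint
import Groth.Agent.KRRReg49.Vanish

set_option autoImplicit false
set_option linter.style.haveILetI false
set_option maxHeartbeats 1600000
set_option synthInstance.maxHeartbeats 400000
universe v u
open CategoryTheory CategoryTheory.Limits AlgebraicGeometry
attribute [local instance] HasDerivedCategory.standard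
open KRR

namespace Groth.Agent.S3770

section helpers
open CategoryTheory CategoryTheory.Limits AlgebraicGeometry TopologicalSpace
open scoped TensorProduct
open Groth.Agent Groth.Agent.ProjTwist Groth.Agent.CBC

theorem subsingleton_sections_of_isZero' {S : Scheme.{u}} {M : S.Modules} (h : IsZero M)
    (V : S.Opens) : Subsingleton Γ(M, V) := by
  suffices H : ∀ a : Γ(M, V), a = 0 from ⟨fun a b => (H a).trans (H b).symm⟩
  intro a
  have h1 : (𝟙 M : M ⟶ M) = 0 := h.eq_of_src _ _
  calc a = (𝟙 M : M ⟶ M).app V a := rfl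
    _ = (0 : M ⟶ M).app V a := by rw [h1]
    _ = 0 := rfl

/-- A vanishing direct image and vanishing fibres one degree up give vanishing fibres. -/
theorem fibre_vanish_pred {X S : Scheme.{u}} {f : X ⟶ S} [IsProper f] [LocallyOfFinitePresentation f]
    {F : X.Modules} [F.IsQuasicoherent] (hF : CohB1.IsFP F) (hfl : FlatMod.IsFlatOver f F) {p : ℕ}
    (h : ∀ y, Subsingleton (CohIII.fiberH f F y (p + 1)))
    (hz : IsZero ((Coh.RpushAb f p).obj (Coh.toAb F))) (s : S) :
    Subsingleton (CohIII.fiberH f F s p) := by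
  obtain ⟨N, hs⟩ := exists_nhd hF hfl s
  have hR : (N.D.K F).RExact p := N.rExact_pred hfl (N.exact_of_fibres_zero fun y _ => h y).2.1
  have := (N.w p).fp
  have := (N.w p).rExact_iff.1 hR
  have hz' : IsZero ((ModShf.toAbFunctor S).obj ((Coh.Rpush f p).obj F)) :=
    hz.of_iso ((ModShf.rpushCompToAb f p).app F)
  haveI : (ModShf.toAbFunctor S).Faithful := inferInstanceAs (SheafOfModules.toSheaf S.ringCatSheaf).Faithful
  have hz'' : IsZero ((Coh.Rpush f p).obj F) := by
    rw [IsZero.iff_id_eq_zero]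
    exact (ModShf.toAbFunctor S).map_injective (hz'.eq_of_src _ _)
  haveI : Subsingleton Γ((Coh.Rpush f p).obj F, N.V) := subsingleton_sections_of_isZero' hz'' N.V
  haveI : Subsingleton (LinearMap.ker (N.w p).u) := (N.secKer p).symm.toEquiv.subsingleton
  refine (subsingleton_fiberH_iff N.hV s hs N.D (N.w p)).2 ?_
  rw [fiberRank_eq N.hV s hs N.D (N.w p)]
  let K := (N.hV.primeIdealOf ⟨s, hs⟩).asIdeal.ResidueField
  haveI : Subsingleton (LinearMap.ker ((N.w p).u.baseChange K)) :=
    (kerBC_bijective_of_flat (N.w p).u K).2.subsingleton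
  exact Module.finrank_zero_of_subsingleton

/-- Vanishing of fibre cohomology at the image point gives it at any field-valued point. -/
theorem fieldPoint_vanish {X S : Scheme.{u}} {f : X ⟶ S} [IsProper f] {F : X.Modules}
    (hFy : ∀ y : S, Coh.IsCoh ((Scheme.Modules.pullback (f.fiberι y)).obj F)) {i : ℕ}
    (hv : ∀ y, Subsingleton (CohIII.fiberH f F y i)) {K : Type u} [Field K] (g : Spec (CommRingCat.of K) ⟶ S)
    {X' : Scheme.{u}} (p : X' ⟶ X) (q : X' ⟶ Spec (CommRingCat.of K)) (H : IsPullback p q f g) :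
    Subsingleton (Coh.HH X' ((Scheme.Modules.pullback p).obj F) i) := by
  obtain ⟨⟨y, φ⟩, rfl⟩ := (Scheme.SpecToEquivOfField K S).symm.surjective g
  change IsPullback p q f (Spec.map φ ≫ S.fromSpecResidueField _) at H
  haveI : IsProper (f.fiberToSpecResidueField y) :=
    inferInstanceAs (IsProper (pullback.snd f (S.fromSpecResidueField y)))
  let p' : X' ⟶ f.fiber y := pullback.lift p (q ≫ Spec.map φ) (by rw [H.w, Category.assoc])
  have hp' : p' ≫ f.fiberι y = p := pullback.lift_fst _ _ _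
  have hsq : IsPullback p' q (f.fiberToSpecResidueField y) (Spec.map φ) := by
    refine IsPullback.of_right (h₁₂ := f.fiberι y) (v₁₃ := f) (h₂₂ := S.fromSpecResidueField y) ?_
      (pullback.lift_snd _ _ _) (IsPullback.of_hasPullback f (S.fromSpecResidueField y))
    rw [hp']
    exact H
  letI : Algebra (S.residueField y) K := φ.hom.toAlgebra
  have h := (CMReg.subsingleton_baseChange_iff (k := (S.residueField y : Type u)) (f := f.fiberToSpecResidueField y) p' q hsq
    ((Scheme.Modules.pullback (f.fiberι y)).obj F) (hFy y) i).2 (hv y)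
  exact (CohLin.hIso ((Scheme.Modules.pullbackCongr hp'.symm).app F ≪≫
    ((Scheme.Modules.pullbackComp p' (f.fiberι y)).app F).symm) i).toEquiv.subsingleton_congr.mpr h

/-- Regular bundles have regular fibres. -/
theorem fibre_vanish_of_reg {n : ℕ} {Y : Scheme.{u}} {F : (KRR.PY n Y).Modules} (hfp : CohB1.IsFP F)
    [F.IsQuasicoherent] (hfl : FlatMod.IsFlatOver (KRR.pr n Y) F) (hreg : KRR.IsRegSheaf n Y F)
    (i : ℕ) (hi : 1 ≤ i) (d : ℤ) (hd : -(i : ℤ) ≤ d) (y : Y) :
    Subsingleton (CohIII.fiberH (CohB1.ProjSpaceOver.toBase n Y)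
      (CohB1.tensorMod F (Twist.twistOver n Y d)) y i) := by
  haveI : IsProper (CohB1.ProjSpaceOver.toBase n Y) := TwistFlat.isProper_toBase n Y
  haveI := S8664.lfp_toBase n Y
  have hinv := TwistFlat.isInvertible_twistOver n Y d
  haveI := (IntProd70.isFP_tensor hfp hinv).1
  suffices H : ∀ (k j : ℕ), i ≤ j → n < j + k → ∀ y : Y, Subsingleton (CohIII.fiberH
      (CohB1.ProjSpaceOver.toBase n Y) (CohB1.tensorMod F (Twist.twistOver n Y d)) y j) from
    H (n + 1) i le_rfl (by omega) y
  intro k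
  induction k with
  | zero =>
    intro j hj hn y
    obtain ⟨d₀, hd₀⟩ := S8664.exists_fibre_bound n hfp y
    exact hd₀ d j (by omega) (Or.inr (by omega))
  | succ k ih =>
    intro j hj hn y
    refine fibre_vanish_pred (IntProd70.isFP_tensor hfp hinv).2
      (TwistFlat.isFlatOver_tensor _ F hinv hfl) (ih (j + 1) (by omega) (by omega)) ?_ y
    exact (KRRReg49.isZero_twF_of_isRegSheaf (inferInstance : F.IsQuasicoherent) hreg j (by omega) d
      (by omega)).of_iso ((Coh.RpushAb _ j).mapIso ((ModShf.toAbFunctor _).mapIso (tensComm _ _)))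

end helpers


/-- For P = P^n_Y: let Y, Y₁ be Noetherian schemes, φ : Y₁ ⟶ Y, p : P^n_Y ⟶ Y and p₁ : P^n_{Y₁} ⟶ Y₁ the
projections and ψ : P^n_{Y₁} ⟶ P^n_Y the induced morphism (so ψ ≫ p = p₁ ≫ φ, recorded as hsq). If F
is a finite locally free O-module on P^n_Y which is regular relative to p, then ψ^* F is regular
relative to p₁ and the base-change morphism φ^* p_* F ⟶ (p₁)_* ψ^* F (adjoint to p₁^* φ^* p_* F ≅
ψ^* p^* p_* F ⟶ ψ^* F) is an isomorphism. (The source's standing hypotheses place all schemes in its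
quasi-projective category; the proof is local on Y and Y₁.) -/
theorem result (n : ℕ) {Y Y₁ : Scheme.{u}} [IsNoetherian Y] [IsNoetherian Y₁] (φ : Y₁ ⟶ Y)
    (hsq : KRR.projSpaceMap n φ ≫ KRR.pr n Y = KRR.pr n Y₁ ≫ φ)
    (F : (KRR.PY n Y).Modules) (hF : FlatMod.IsFinLocFree F) (hreg : KRR.IsRegSheaf n Y F) :
    KRR.IsRegSheaf n Y₁ ((Scheme.Modules.pullback (KRR.projSpaceMap n φ)).obj F) ∧ IsIso (KRR.bcMap n φ hsq F) := by
  open CategoryTheory.Limits Groth.Agent Groth.Agent.ProjTwist in
  haveI : F.IsQuasicoherent := Groth.Agent.PerfTri.Betti.isQuasicoherent_of_isFinLocFree hF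
  have hfp := Groth.Agent.Props.QProj.isFP F hF
  haveI := Groth.Agent.CohOps.PnSmooth.smooth_toSpec n (ULift.{u} ℤ)
  haveI : Flat (CohB1.ProjSpace.toSpec n (ULift.{u} ℤ)) := inferInstance
  haveI : Flat (KRR.pr n Y) := inferInstanceAs (Flat (Limits.pullback.snd _ _))
  have hfl := Groth.Agent.FormalFun.isFlatOver_of_isFinLocFree' (KRR.pr n Y) hF
  haveI : IsProper (CohB1.ProjSpaceOver.toBase n Y) := Groth.Agent.TwistFlat.isProper_toBase n Y
  haveI : IsProper (CohB1.ProjSpaceOver.toBase n Y₁) := Groth.Agent.TwistFlat.isProper_toBase n Y₁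
  haveI := Groth.Agent.S8664.lfp_toBase n Y
  haveI := Groth.Agent.S8664.lfp_toBase n Y₁
  constructor
  · intro i hi
    let ψ := FGA.projMap n φ
    let G := CohB1.tensorMod F (Twist.twistOver n Y (-(i : ℤ)))
    have hinv := Groth.Agent.TwistFlat.isInvertible_twistOver n Y (-(i : ℤ))
    haveI : G.IsQuasicoherent := (Groth.Agent.IntProd70.isFP_tensor hfp hinv).1
    have hG := (Groth.Agent.IntProd70.isFP_tensor hfp hinv).2
    obtain ⟨hq', hG'⟩ := Groth.Agent.ConsPairLib.isFP_pullback ψ G hG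
    haveI := hq'
    have hfl' : FlatMod.IsFlatOver (CohB1.ProjSpaceOver.toBase n Y₁) ((Scheme.Modules.pullback ψ).obj G) :=
      Groth.Agent.BigVol.HilbFlat.isFlatOver_bc (Groth.Agent.TwistFlat.isPullback_projMap n φ)
        (Groth.Agent.TwistFlat.isFlatOver_tensor _ F hinv hfl)
    have hv : ∀ t : Y₁, Subsingleton (CohIII.fiberH (CohB1.ProjSpaceOver.toBase n Y₁)
        ((Scheme.Modules.pullback ψ).obj G) t i) := fun t => by
      let f' := CohB1.ProjSpaceOver.toBase n Y₁
      have hbig := (IsPullback.of_hasPullback f' (Y₁.fromSpecResidueField t)).paste_horiz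
        (Groth.Agent.TwistFlat.isPullback_projMap n φ)
      have h := fieldPoint_vanish (fun y => Groth.Agent.BigVol.HilbBC.isCoh_fibre hG y)
        (fun y => fibre_vanish_of_reg hfp hfl hreg i hi _ le_rfl y) (K := Y₁.residueField t) _ _ _ hbig
      exact (Groth.Agent.CohLin.hIso ((Scheme.Modules.pullbackComp (f'.fiberι t) ψ).app G) i).toEquiv.subsingleton_congr.mpr h
    have hz : Limits.IsZero ((Coh.Rpush (CohB1.ProjSpaceOver.toBase n Y₁) i).obj ((Scheme.Modules.pullback ψ).obj G)) :=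
      Groth.Agent.CBC.isZero_Rpush hG' hfl' hv
    obtain ⟨e1⟩ := Groth.Agent.BigVol.HilbModel.nonempty_pullback_twistOver n φ (-(i : ℤ))
    let e : KRR.twF n Y₁ (-(i : ℤ)) ((Scheme.Modules.pullback ψ).obj F) ≅ (Scheme.Modules.pullback ψ).obj G :=
      Groth.Agent.ProjTwist.tensComm _ _ ≪≫ Groth.Agent.ProjTwist.tensCongr (Iso.refl _) e1.symm ≪≫
        (Groth.Agent.KFlat.PullTensor.pullTensorIso ψ F _).symm
    exact (((Groth.Agent.ModShf.toAbFunctor Y₁).map_isZero hz).of_iso
      ((Groth.Agent.ModShf.rpushCompToAb _ i).app _).symm).of_iso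
        ((Coh.RpushAb _ i).mapIso ((Groth.Agent.ModShf.toAbFunctor _).mapIso e))
  · rw [Groth.Agent.BigVol.Bc0Fin.bcMap_eq]
    let e : CohB1.tensorMod F (Twist.twistOver n Y 0) ≅ F :=
      Groth.Agent.ProjTwist.tensComm _ _ ≪≫ (Groth.Agent.KRRLib.twFunZero (n := n) (T := Y)).app F
    have hinv := Groth.Agent.TwistFlat.isInvertible_twistOver n Y 0
    haveI := (Groth.Agent.IntProd70.isFP_tensor hfp hinv).1
    refine Groth.Agent.BigVol.Bc0Twist.isIso_bc_congr n φ e ?_
    refine Groth.Agent.CBC.isIso_bc0_of_rExact (Groth.Agent.TwistFlat.isPullback_projMap n φ) fun z => ?_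
    obtain ⟨N, h1, -, h2⟩ := Groth.Agent.CBC.exists_rExact_zero_of_fibres
      (Groth.Agent.IntProd70.isFP_tensor hfp hinv).2
      (Groth.Agent.TwistFlat.isFlatOver_tensor _ F hinv hfl) ⊤
      (fun y _ => fibre_vanish_of_reg hfp hfl hreg 1 le_rfl 0 (by norm_num) y) (s := φ z) trivial
    exact ⟨N, h1, h2⟩

end Groth.Agent.S3770
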