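import Groth.Statements.S3778
import Groth.Agent.Lambda.ElemExt
-- import your own Groth.Agent.* helpers here

set_option autoImplicit false
universe v u
open CategoryTheory CategoryTheory.Limits AlgebraicGeometry
attribute [local instance] HasDerivedCategory.standard
open KRR

namespace Groth.Agent.S3778

/-- Let K be a λ-ring with a positive structure having the splitting property, e a positive element, m =
ε(e) its augmentation, p_e(T) = Σ_{i ≤ m} (−1)^i λ^i(e) T^{m−i}, and K_e = K[T]/(p_e) with canonical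
generator ℓ (the class of T). Then there are a λ-ring structure and a positive structure on K_e such
that the map K ⟶ K_e commutes with the λ-operations, λ^i(ℓ) = 0 for i ≥ 2 (so λ_t(ℓ) = 1 + ℓt), K ⟶
K_e is an extension of λ-rings with positive structure, ℓ is a line element, and, when m ≥ 2, e − ℓ
is positive in K_e. The published statement also asserts uniqueness of this λ-structure among
special λ-rings; only existence is stated here. -/
theorem result (K : Type v) [CommRing K] [LambdaRing.LambdaOps K] (P : LambdaRing.PosStructure K) (hK : LambdaRing.HasSplitting K P) (e : K) (he : e ∈ P.pos) :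
    ∃ (inst : LambdaRing.LambdaOps (AdjoinRoot (KRR.extPoly P e))) (Pe : @LambdaRing.PosStructure _ _ inst),
      (∀ (i : ℕ) (x : K), @LambdaRing.LambdaOps.lam _ _ inst i (AdjoinRoot.of (KRR.extPoly P e) x) =
        AdjoinRoot.of (KRR.extPoly P e) (LambdaRing.LambdaOps.lam i x)) ∧
      (∀ i : ℕ, 2 ≤ i → @LambdaRing.LambdaOps.lam _ _ inst i (AdjoinRoot.root (KRR.extPoly P e)) = 0) ∧
      @LambdaRing.IsExtension K _ _ _ _ inst P Pe (AdjoinRoot.of (KRR.extPoly P e)) ∧
      @LambdaRing.PosStructure.IsLine _ _ inst Pe (AdjoinRoot.root (KRR.extPoly P e)) ∧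
      (2 ≤ P.aug e → AdjoinRoot.of (KRR.extPoly P e) e - AdjoinRoot.root (KRR.extPoly P e) ∈
        (@LambdaRing.PosStructure.pos _ _ inst Pe)) := by
  obtain ⟨n, hn⟩ : ∃ n : ℕ, P.aug e = n + 1 := ⟨(P.aug e).toNat - 1, by have := P.aug_pos e he; omega⟩
  have hroot0 : (KRR.extPoly P e).eval₂ P.aug 1 = 0 := by
    rw [KRR.extPoly, Polynomial.eval₂_finsetSum]
    simp only [Polynomial.eval₂_mul, Polynomial.eval₂_C, Polynomial.eval₂_pow, Polynomial.eval₂_X, Polynomial.eval₂_neg, Polynomial.eval₂_one,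
      one_pow, mul_one, map_mul, map_pow, map_neg, map_one, Groth.Agent.Lambda.aug_lam_pos hK he]
    rw [Int.alternating_sum_range_choose, if_neg (by omega)]
  have hof : Function.Injective (AdjoinRoot.of (KRR.extPoly P e)) := by
    intro a b hab
    haveI : Nontrivial K := P.aug.domain_nontrivial
    rw [← AdjoinRoot.mk_C, ← AdjoinRoot.mk_C, AdjoinRoot.mk_eq_mk, ← map_sub] at hab
    have h0 := (Polynomial.modByMonic_eq_zero_iff_dvd (Groth.Agent.Lambda.monic_extPoly P e)).2 hab
    rw [Polynomial.modByMonic_eq_self_iff (Groth.Agent.Lambda.monic_extPoly P e) |>.2] at h0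
    · exact sub_eq_zero.1 (Polynomial.C_eq_zero.1 h0)
    · refine Polynomial.degree_C_le.trans_lt ?_
      rw [Polynomial.degree_eq_natDegree (Groth.Agent.Lambda.monic_extPoly P e).ne_zero, Groth.Agent.Lambda.natDegree_extPoly,
        show (P.aug e).toNat = n + 1 by omega]
      exact_mod_cast Nat.succ_pos n
  let inst := Groth.Agent.Lambda.extOps P e
  letI := inst
  have hser : ∀ z, LambdaRing.lamSeries z = Groth.Agent.Lambda.extSer P e z := fun z => Groth.Agent.Lambda.lamSeries_ofSeries _ _ _ _ z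
  have hlam : ∀ (i : ℕ) z, LambdaRing.LambdaOps.lam i z = PowerSeries.coeff i (Groth.Agent.Lambda.extSer P e z) := fun i z => rfl
  have hofl : ∀ (i : ℕ) (x : K), LambdaRing.LambdaOps.lam i (AdjoinRoot.of (KRR.extPoly P e) x) =
      AdjoinRoot.of (KRR.extPoly P e) (LambdaRing.LambdaOps.lam i x) := fun i x => by
    rw [hlam, Groth.Agent.Lambda.extSer_of he hn hK, PowerSeries.coeff_map, Groth.Agent.Lambda.coeff_lamSeries]
  have hl : ∀ i, 2 ≤ i → LambdaRing.LambdaOps.lam i (AdjoinRoot.root (KRR.extPoly P e)) = 0 := fun i hi => by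
    obtain ⟨m, rfl⟩ : ∃ m, i = m + 1 := ⟨i - 1, by omega⟩
    rw [hlam, Groth.Agent.Lambda.extSer_root he hn hK, Groth.Agent.Lambda.coeff_lin_succ, if_neg (by omega)]
  let ε : AdjoinRoot (KRR.extPoly P e) →+* ℤ := AdjoinRoot.lift P.aug 1 hroot0
  have hεof : ∀ x, ε (AdjoinRoot.of _ x) = P.aug x := fun x => AdjoinRoot.lift_of hroot0
  have hεl : ε (AdjoinRoot.root _) = 1 := AdjoinRoot.lift_root hroot0
  let E : Set (AdjoinRoot (KRR.extPoly P e)) := {x | 0 < ε x ∧ (∀ i : ℕ, ε x < i → LambdaRing.LambdaOps.lam i x = 0) ∧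
    IsUnit (LambdaRing.LambdaOps.lam (ε x).toNat x)}
  have hadd : ∀ a b, a ∈ E → b ∈ E → a + b ∈ E := by
    rintro a b ⟨ha, ha1, ha2⟩ ⟨hb, hb1, hb2⟩
    refine ⟨by rw [map_add]; omega, fun i hi => ?_, ?_⟩
    · rw [LambdaRing.LambdaOps.lam_add]
      refine Finset.sum_eq_zero fun k hk => ?_
      by_cases h : ε a < k
      · rw [ha1 k h, zero_mul]
      · rw [hb1 (i - k) (by rw [map_add] at hi; have := Finset.mem_range_succ_iff.1 hk; omega), mul_zero]
    · rw [map_add, Int.toNat_add ha.le hb.le, LambdaRing.LambdaOps.lam_add, Finset.sum_eq_single (ε a).toNat,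
        Nat.add_sub_cancel_left]
      · exact ha2.mul hb2
      · intro k hk hne
        rcases Nat.lt_or_gt_of_ne hne with h | h
        · rw [hb1 _ (by have := Finset.mem_range_succ_iff.1 hk; omega), mul_zero]
        · rw [ha1 k (by omega), zero_mul]
      · intro h; exact absurd (Finset.mem_range_succ_iff.2 (Nat.le_add_right _ _)) h
  have hmul : ∀ a b, a ∈ E → b ∈ E → a * b ∈ E := by
    rintro a b ⟨ha, ha1, ha2⟩ ⟨hb, hb1, hb2⟩
    obtain ⟨h1, h2⟩ := Groth.Agent.Lambda.Pser_rank (ε a).toNat (ε b).toNat _ _ (Groth.Agent.Lambda.cc_lamSeries a) (Groth.Agent.Lambda.cc_lamSeries b)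
      (fun i hi => by rw [Groth.Agent.Lambda.coeff_lamSeries]; exact ha1 i (by omega))
      (fun i hi => by rw [Groth.Agent.Lambda.coeff_lamSeries]; exact hb1 i (by omega))
    have hm : LambdaRing.lamSeries (a * b) = Groth.Agent.Lambda.Pser (LambdaRing.lamSeries a) (LambdaRing.lamSeries b) := by
      rw [hser, hser, hser]; exact Groth.Agent.Lambda.extSer_mul he hn hK a b
    have hnn : (ε (a * b)).toNat = (ε a).toNat * (ε b).toNat := by
      rw [map_mul, Int.toNat_mul ha.le hb.le]
    refine ⟨by rw [map_mul]; exact Int.mul_pos ha hb, fun i hi => ?_, ?_⟩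
    · rw [← Groth.Agent.Lambda.coeff_lamSeries, hm, h1 i]
      rw [← hnn]
      have hp := Int.mul_pos ha hb
      rw [← map_mul] at hp
      omega
    · rw [hnn, ← Groth.Agent.Lambda.coeff_lamSeries, hm, h2, Groth.Agent.Lambda.coeff_lamSeries, Groth.Agent.Lambda.coeff_lamSeries]
      exact (ha2.pow _).mul (hb2.pow _)
  have hofpos : ∀ x ∈ P.pos, AdjoinRoot.of (KRR.extPoly P e) x ∈ E := fun x hx =>
    ⟨by rw [hεof]; exact P.aug_pos x hx,
      fun i hi => by rw [hofl, P.lam_eq_zero x hx i (by rwa [hεof] at hi), map_zero],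
      by rw [hεof, hofl]; exact (P.isUnit_lam x hx).map _⟩
  have hrest := Groth.Agent.Lambda.restSer_bound he hn
  have htop : IsUnit (AdjoinRoot.root (KRR.extPoly P e) * PowerSeries.coeff n (Groth.Agent.Lambda.restSer P e)) := by
    have h := congrArg (PowerSeries.coeff (n + 1)) (Groth.Agent.Lambda.lin_mul_restSer (P := P) (e := e))
    rw [Groth.Agent.Lambda.lin, add_mul, one_mul, map_add, hrest _ (Nat.lt_succ_self n), zero_add, mul_assoc,
      PowerSeries.coeff_C_mul, PowerSeries.coeff_succ_X_mul, PowerSeries.coeff_map, Groth.Agent.Lambda.coeff_lamSeries] at h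
    rw [h]
    have := P.isUnit_lam e he
    rw [show (P.aug e).toNat = n + 1 by omega] at this
    exact this.map _
  have hlmem : AdjoinRoot.root (KRR.extPoly P e) ∈ E := by
    refine ⟨by rw [hεl]; exact one_pos, fun i hi => hl i (by rw [hεl] at hi; omega), ?_⟩
    rw [hεl, Int.toNat_one, LambdaRing.LambdaOps.lam_one]
    exact isUnit_of_mul_isUnit_left htop
  have hqser : LambdaRing.lamSeries (AdjoinRoot.of (KRR.extPoly P e) e - AdjoinRoot.root (KRR.extPoly P e)) =
      Groth.Agent.Lambda.restSer P e := by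
    rw [sub_eq_add_neg, Groth.Agent.Lambda.lamSeries_add, Groth.Agent.Lambda.lamSeries_neg, hser, hser, Groth.Agent.Lambda.extSer_of he hn hK,
      Groth.Agent.Lambda.extSer_root he hn hK, Groth.Agent.Lambda.restSer, mul_comm]
  have hsub : ∀ x, ∃ a b, a ∈ E ∧ b ∈ E ∧ x = a - b := by
    intro x
    obtain ⟨q, rfl⟩ := AdjoinRoot.mk_surjective x
    induction q using Polynomial.induction_on' with
    | add p p' hp hp' =>
      obtain ⟨a, b, ha, hb, h⟩ := hp
      obtain ⟨a', b', ha', hb', h'⟩ := hp'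
      exact ⟨a + a', b + b', hadd a a' ha ha', hadd b b' hb hb', by rw [map_add, h, h']; ring⟩
    | monomial k c =>
      obtain ⟨a, b, ha, hb, rfl⟩ := P.exists_sub c
      have hpow : ∀ (k : ℕ) (y), y ∈ E → y * AdjoinRoot.root (KRR.extPoly P e) ^ k ∈ E := fun k => by
        induction k with
        | zero => intro y hy; rwa [pow_zero, mul_one]
        | succ k ih => intro y hy; rw [pow_succ', ← mul_assoc]; exact ih _ (hmul _ _ hy hlmem)
      refine ⟨_, _, hpow k _ (hofpos a ha), hpow k _ (hofpos b hb), ?_⟩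
      rw [← Polynomial.C_mul_X_pow_eq_monomial, map_mul, map_pow, AdjoinRoot.mk_C, AdjoinRoot.mk_X, map_sub, sub_mul]
  let Pe : LambdaRing.PosStructure (AdjoinRoot (KRR.extPoly P e)) :=
    { aug := ε
      aug_surjective := fun z => by
        obtain ⟨x, hx⟩ := P.aug_surjective z
        exact ⟨AdjoinRoot.of _ x, by rw [hεof, hx]⟩
      pos := E
      add_mem := hadd
      mul_mem := hmul
      natCast_mem := fun k hk => by rw [← map_natCast (AdjoinRoot.of (KRR.extPoly P e))]; exact hofpos _ (P.natCast_mem k hk)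
      exists_sub := hsub
      aug_pos := fun x hx => hx.1
      lam_eq_zero := fun x hx => hx.2.1
      isUnit_lam := fun x hx => hx.2.2 }
  refine ⟨inst, Pe, hofl, hl, ⟨fun i x => (hofl i x).symm, hof, hεof, hofpos⟩, ⟨hlmem, hεl⟩, fun h2 => ?_⟩
  have hεq : ε (AdjoinRoot.of (KRR.extPoly P e) e - AdjoinRoot.root (KRR.extPoly P e)) = n := by
    rw [map_sub, hεof, hεl, hn]; ring
  refine ⟨by rw [hεq]; omega, fun i hi => ?_, ?_⟩
  · rw [← Groth.Agent.Lambda.coeff_lamSeries, hqser]
    exact hrest i (by rw [hεq] at hi; omega)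
  · rw [hεq, Int.toNat_natCast, ← Groth.Agent.Lambda.coeff_lamSeries, hqser]
    exact isUnit_of_mul_isUnit_right htop

end Groth.Agent.S3778
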