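import Groth.Statements.S3780
import Groth.Agent.Lambda.Elementary
-- import your own Groth.Agent.* helpers here

set_option autoImplicit false
universe v u
open CategoryTheory CategoryTheory.Limits AlgebraicGeometry
attribute [local instance] HasDerivedCategory.standard
open KRR

namespace Groth.Agent.S3780

open Finset LambdaRing

/-- Let K be a λ-ring with positive structure admitting a splitting, e a positive element of
augmentation ε(e) = r + 1, K_e = K[T]/(p_e(T)) the elementary extension of K with ℓ the class of T,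
and f : K_e → K a K-linear functional with f(ℓ^i) = σ^i(e) for i ≤ r. For any λ-operations on K_e
extending those of K with λ^i(ℓ) = 0 for i ≥ 2, and q = e − ℓ ∈ K_e, one has f(λ^0(q)) = 1 and
f(λ^i(q)) = 0 for all i ≥ 1; that is, f(λ_t(q)) = 1. -/
theorem result (K : Type v) [CommRing K] [LambdaRing.LambdaOps K] (P : LambdaRing.PosStructure K) (hK : LambdaRing.HasSplitting K P) (e : K) (he : e ∈ P.pos) (r : ℕ) (hr : P.aug e = r + 1)
    (inst : LambdaRing.LambdaOps (AdjoinRoot (KRR.extPoly P e)))
    (hext : ∀ (i : ℕ) (x : K), @LambdaRing.LambdaOps.lam _ _ inst i (AdjoinRoot.of (KRR.extPoly P e) x) =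
      AdjoinRoot.of (KRR.extPoly P e) (LambdaRing.LambdaOps.lam i x))
    (hroot : ∀ i : ℕ, 2 ≤ i → @LambdaRing.LambdaOps.lam _ _ inst i (AdjoinRoot.root (KRR.extPoly P e)) = 0)
    (f : AdjoinRoot (KRR.extPoly P e) →ₗ[K] K)
    (hf : ∀ i : ℕ, i ≤ r → f (AdjoinRoot.root (KRR.extPoly P e) ^ i) = KRR.sigma i e) (i : ℕ) :
    f (@LambdaRing.LambdaOps.lam _ _ inst i (AdjoinRoot.of (KRR.extPoly P e) e - AdjoinRoot.root (KRR.extPoly P e))) =
      if i = 0 then 1 else 0 := by
  have hpw := Groth.Agent.Lambda.functional_pow P he hr f hf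
  have hq : ∀ i, @LambdaRing.LambdaOps.lam _ _ inst i (AdjoinRoot.of (KRR.extPoly P e) e - AdjoinRoot.root (KRR.extPoly P e)) =
      ∑ k ∈ range (i + 1), (LambdaRing.LambdaOps.lam k e * (-1 : K) ^ (i - k)) • AdjoinRoot.root (KRR.extPoly P e) ^ (i - k) := by
    intro i
    letI := inst
    rw [← Groth.Agent.Lambda.coeff_lamSeries, sub_eq_add_neg, Groth.Agent.Lambda.lamSeries_add, Groth.Agent.Lambda.lamSeries_neg, Groth.Agent.Lambda.lamSeries_eq_lin hroot,
      Groth.Agent.Lambda.inv1_lin, PowerSeries.coeff_mul, Finset.Nat.sum_antidiagonal_eq_sum_range_succ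
        (fun a b => PowerSeries.coeff a (lamSeries (AdjoinRoot.of (KRR.extPoly P e) e)) *
          PowerSeries.coeff b (PowerSeries.mk fun k => (-AdjoinRoot.root (KRR.extPoly P e)) ^ k))]
    refine Finset.sum_congr rfl fun k _ => ?_
    rw [Groth.Agent.Lambda.coeff_lamSeries, PowerSeries.coeff_mk, hext, Algebra.smul_def, map_mul, map_pow, map_neg, map_one,
      AdjoinRoot.algebraMap_eq, mul_assoc, ← mul_pow, neg_one_mul]
  have hfl : ∀ i, f (@LambdaRing.LambdaOps.lam _ _ inst i (AdjoinRoot.of (KRR.extPoly P e) e - AdjoinRoot.root (KRR.extPoly P e))) =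
      if i = 0 then 1 else 0 := by
    intro i
    rw [hq, map_sum]
    simp only [map_smul, hpw, smul_eq_mul]
    have h := Groth.Agent.Lambda.sigma_rec e i
    split_ifs with h0
    · subst h0
      simpa using h
    · rw [if_neg h0] at h
      calc ∑ k ∈ range (i + 1), LambdaRing.LambdaOps.lam k e * (-1 : K) ^ (i - k) * KRR.sigma (i - k) e
          = (-1 : K) ^ i * ∑ k ∈ range (i + 1), (-1 : K) ^ k * LambdaRing.LambdaOps.lam k e * KRR.sigma (i - k) e := by
            rw [Finset.mul_sum]
            refine Finset.sum_congr rfl fun k hk => ?_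
            have := Finset.mem_range_succ_iff.1 hk
            rw [← mul_assoc, ← mul_assoc, ← pow_add, show i + k = (i - k) + 2 * k by omega, pow_add, pow_mul,
              neg_one_sq, one_pow, mul_one]
            ring
        _ = 0 := by rw [h, mul_zero]
  exact hfl i

end Groth.Agent.S3780
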