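import Groth.Statements.S3781
import Groth.Agent.Lambda.PserIdent
import Groth.Agent.Lambda.Splitting
import Groth.Agent.S3290
-- import your own Groth.Agent.* helpers here

set_option autoImplicit false
universe v u
open CategoryTheory CategoryTheory.Limits AlgebraicGeometry
attribute [local instance] HasDerivedCategory.standard
open KRR

namespace Groth.Agent.S3781

open LambdaRing Finset

variable {K : Type v} [CommRing K] [LambdaRing.LambdaOps K]

/-- the determinant of a positive element, as a unit -/
noncomputable def det (P : PosStructure K) (e : K) (he : e ∈ P.pos) : Kˣ := (P.isUnit_lam e he).unit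

theorem det_val (P : PosStructure K) (e : K) (he : e ∈ P.pos) :
    (det P e he : K) = LambdaOps.lam (P.aug e).toNat e := rfl

theorem det_add (P : PosStructure K) {e f : K} (he : e ∈ P.pos) (hf : f ∈ P.pos) :
    det P (e + f) (P.add_mem e f he hf) = det P e he * det P f hf := by
  ext
  have ha := P.aug_pos e he
  have hb := P.aug_pos f hf
  rw [Units.val_mul, det_val, det_val, det_val, map_add, Int.toNat_add ha.le hb.le, LambdaOps.lam_add,
    Finset.sum_eq_single (P.aug e).toNat, Nat.add_sub_cancel_left]
  · intro k hk hne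
    rcases Nat.lt_or_gt_of_ne hne with h | h
    · rw [P.lam_eq_zero f hf _ (by have := Finset.mem_range_succ_iff.1 hk; omega), mul_zero]
    · rw [P.lam_eq_zero e he k (by omega), zero_mul]
  · intro h; exact absurd (Finset.mem_range_succ_iff.2 (Nat.le_add_right _ _)) h

theorem det_congr (P : PosStructure K) {e f : K} (he : e ∈ P.pos) (hf : f ∈ P.pos) (h : e = f) :
    det P e he = det P f hf := by subst h; rfl

/-- `δ` on all of `K` -/
noncomputable def dlt (P : PosStructure K) (x : K) : Kˣ :=
  det P _ (P.exists_sub x).choose_spec.choose_spec.1 * (det P _ (P.exists_sub x).choose_spec.choose_spec.2.1)⁻¹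

theorem dlt_eq (P : PosStructure K) {e f : K} (he : e ∈ P.pos) (hf : f ∈ P.pos) :
    dlt P (e - f) = det P e he * (det P f hf)⁻¹ := by
  obtain ⟨ha, hb, hab⟩ := (P.exists_sub (e - f)).choose_spec.choose_spec
  rw [dlt, mul_inv_eq_iff_eq_mul, mul_right_comm, eq_mul_inv_iff_mul_eq, ← det_add P ha hf, ← det_add P he hb]
  exact det_congr P _ _ (by linear_combination -hab)

theorem dlt_add (P : PosStructure K) (x y : K) : dlt P (x + y) = dlt P x * dlt P y := by
  obtain ⟨a, b, ha, hb, rfl⟩ := P.exists_sub x
  obtain ⟨c, d, hc, hd, rfl⟩ := P.exists_sub y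
  rw [show a - b + (c - d) = (a + c) - (b + d) by ring, dlt_eq P (P.add_mem a c ha hc) (P.add_mem b d hb hd),
    dlt_eq P ha hb, dlt_eq P hc hd, det_add P ha hc, det_add P hb hd, mul_inv_rev]
  exact Units.ext (by push_cast; ring)

/-- `δ` as a homomorphism -/
noncomputable def dltHom (P : PosStructure K) : K →+ Additive Kˣ :=
  AddMonoidHom.mk' (fun x => Additive.ofMul (dlt P x)) fun x y => congrArg Additive.ofMul (dlt_add P x y)

theorem dlt_zero (P : PosStructure K) : dlt P 0 = 1 := congrArg Additive.toMul (map_zero (dltHom P))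

theorem dlt_neg (P : PosStructure K) (x : K) : dlt P (-x) = (dlt P x)⁻¹ :=
  congrArg Additive.toMul (map_neg (dltHom P) x)

theorem dlt_zsmul (P : PosStructure K) (n : ℤ) (x : K) : dlt P (n • x) = dlt P x ^ n :=
  congrArg Additive.toMul (map_zsmul (dltHom P) n x)

theorem dlt_one (P : PosStructure K) : dlt P 1 = 1 := by
  have h1 : (1 : K) ∈ P.pos := by simpa using P.natCast_mem 1 one_pos
  rw [show (1 : K) = (1 + 1) - 1 by ring, dlt_eq P (P.add_mem 1 1 h1 h1) h1, det_add P h1 h1, mul_inv_cancel_right]
  ext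
  rw [det_val, map_one, Int.toNat_one, LambdaOps.lam_one, Units.val_one]

theorem det_mul (P : PosStructure K) (hA : LambdaRing.IsSpecial K) {e f : K} (he : e ∈ P.pos) (hf : f ∈ P.pos) :
    det P (e * f) (P.mul_mem e f he hf) = det P e he ^ (P.aug f).toNat * det P f hf ^ (P.aug e).toNat := by
  ext
  have ha := P.aug_pos e he
  have hb := P.aug_pos f hf
  obtain ⟨-, h2⟩ := Groth.Agent.Lambda.Pser_rank (P.aug e).toNat (P.aug f).toNat _ _ (Groth.Agent.Lambda.cc_lamSeries e) (Groth.Agent.Lambda.cc_lamSeries f)
    (fun i hi => by rw [Groth.Agent.Lambda.coeff_lamSeries]; exact P.lam_eq_zero e he i (by omega))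
    (fun i hi => by rw [Groth.Agent.Lambda.coeff_lamSeries]; exact P.lam_eq_zero f hf i (by omega))
  rw [← Groth.Agent.Lambda.Special.lamSeries_mul hA, Groth.Agent.Lambda.coeff_lamSeries, Groth.Agent.Lambda.coeff_lamSeries, Groth.Agent.Lambda.coeff_lamSeries] at h2
  rw [Units.val_mul, Units.val_pow_eq_pow_val, Units.val_pow_eq_pow_val, det_val, det_val, det_val, map_mul,
    Int.toNat_mul ha.le hb.le, h2]

theorem dlt_mul (P : PosStructure K) (hA : LambdaRing.IsSpecial K) (x y : K) :
    dlt P (x * y) = dlt P x ^ P.aug y * dlt P y ^ P.aug x := by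
  obtain ⟨a, b, ha, hb, rfl⟩ := P.exists_sub x
  obtain ⟨c, d, hc, hd, rfl⟩ := P.exists_sub y
  have hp : ∀ (e f : K) (he : e ∈ P.pos) (hf : f ∈ P.pos),
      dlt P (e * f) = det P e he ^ P.aug f * det P f hf ^ P.aug e := by
    intro e f he hf
    have h1 : (1 : K) ∈ P.pos := by simpa using P.natCast_mem 1 one_pos
    have := dlt_add P (e * f) 1
    rw [dlt_one, mul_one, show e * f + 1 = (e * f + 1 + 1) - 1 by ring,
      dlt_eq P (P.add_mem _ 1 (P.add_mem _ 1 (P.mul_mem e f he hf) h1) h1) h1, det_add P (P.add_mem _ 1 (P.mul_mem e f he hf) h1) h1,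
      mul_inv_cancel_right, det_add P (P.mul_mem e f he hf) h1] at this
    rw [← this, det_mul P hA he hf, ← zpow_natCast, ← zpow_natCast, Int.toNat_of_nonneg (P.aug_pos f hf).le,
      Int.toNat_of_nonneg (P.aug_pos e he).le]
    convert mul_one _
    ext
    rw [det_val, map_one, Int.toNat_one, LambdaOps.lam_one, Units.val_one]
  rw [show (a - b) * (c - d) = (a * c + b * d) + -(a * d + b * c) by ring, dlt_add, dlt_neg, dlt_add, dlt_add,
    hp a c ha hc, hp b d hb hd, hp a d ha hd, hp b c hb hc, dlt_eq P ha hb, dlt_eq P hc hd, map_sub, map_sub,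
    mul_zpow, mul_zpow, inv_zpow', inv_zpow']
  simp only [zpow_sub, mul_inv_rev, inv_zpow', neg_sub, ← zpow_neg]
  apply Additive.ofMul.injective
  simp only [ofMul_mul, ofMul_zpow, sub_eq_add_neg, add_smul, neg_smul]
  abel

theorem dlt_map {L : Type v} [CommRing L] [LambdaOps L] {P : PosStructure K} {Q : PosStructure L} {f : K →+* L}
    (hf : IsExtension P Q f) (x : K) : dlt Q (f x) = Units.map f (dlt P x) := by
  obtain ⟨a, b, ha, hb, rfl⟩ := P.exists_sub x
  have hd : ∀ e (he : e ∈ P.pos), det Q (f e) (hf.pos_subset e he) = Units.map f (det P e he) := by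
    intro e he
    ext
    rw [det_val, hf.aug_comp, Units.coe_map, MonoidHom.coe_coe, det_val, hf.isLambdaHom]
  rw [map_sub, dlt_eq Q (hf.pos_subset a ha) (hf.pos_subset b hb), dlt_eq P ha hb, map_mul, map_inv, hd a ha, hd b hb]

theorem det_eq_sum (P : PosStructure K) {e : K} (he : e ∈ P.pos) :
    (det P e he : K) = ∑ i ∈ range ((P.aug e).toNat + 1), gamma i (e - ((P.aug e).toNat : K)) := by
  have h := congrArg (Polynomial.eval (1 : K)) (Groth.Agent.S3290.result K P e he)
  simp only [Polynomial.eval_finsetSum, Polynomial.eval_mul, Polynomial.eval_C, Polynomial.eval_pow,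
    Polynomial.eval_X, Polynomial.eval_sub, Polynomial.eval_one, one_pow, mul_one, sub_self] at h
  rw [h, Finset.sum_eq_single (P.aug e).toNat]
  · rw [Nat.sub_self, pow_zero, mul_one, det_val]
  · intro i hi hne
    rw [zero_pow (by have := Finset.mem_range_succ_iff.1 hi; omega), mul_zero]
  · intro h'; exact absurd (Finset.mem_range_succ_iff.2 le_rfl) h'

theorem dlt_fil2 (P : PosStructure K) (hK : HasSplitting K P) {x : K} (hx : x ∈ gammaFiltration P 2) :
    dlt P x = 1 := by
  have hA := Groth.Agent.Lambda.isSpecial_of_splitting hK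
  have hpair : ∀ a b : K, P.aug a = 0 → P.aug b = 0 → dlt P (a * b) = 1 := fun a b ha hb => by
    rw [dlt_mul P hA, ha, hb, zpow_zero, zpow_zero, mul_one]
  have haugg : ∀ r a, P.aug a = 0 → 1 ≤ r → P.aug (gamma r a) = 0 := by
    intro r a ha hr
    letI := Groth.Agent.Lambda.intOps
    rw [(Groth.Agent.Lambda.lHom_aug hK).map_gamma, ha, Groth.Agent.Lambda.gamma_of_zero r (by omega)]
  have hgam : ∀ r a, P.aug a = 0 → 2 ≤ r → dlt P (gamma r a) = 1 := by
    intro r
    induction r using Nat.strong_induction_on with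
    | _ r ih =>
    intro a ha hr
    obtain ⟨e, f, he, hf, rfl⟩ := P.exists_sub a
    rw [map_sub, sub_eq_zero] at ha
    have hone : ∀ g (hg : g ∈ P.pos), dlt P (gamma r (g - ((P.aug g).toNat : K))) = 1 := by
      intro g hg
      obtain ⟨L, φ, hφ, hL, h⟩ := Groth.Agent.Lambda.split_list hK [g] (by simpa using hg)
      obtain ⟨s, hs, hsg⟩ := h g (by simp)
      have hm : (P.aug g).toNat = Multiset.card s := by
        rw [← hφ.aug_comp, ← hsg, Groth.Agent.Lambda.aug_sum_lines s hs, Int.toNat_natCast]
      apply Units.map_injective (f := φ.toMonoidHom) hφ.injective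
      rw [map_one]
      refine (dlt_map hφ _).symm.trans ?_
      rw [(Groth.Agent.Lambda.IsExtension.lHom hφ).map_gamma, map_sub, map_natCast, ← hsg, hm, ← Groth.Agent.Lambda.coeff_gammaSeries,
        Groth.Agent.Lambda.gammaSeries_lines_sub (Groth.Agent.Lambda.pos_lam_one L.posStr) s (fun v hv => Groth.Agent.Lambda.line_lam (hs v hv)), Groth.Agent.Lambda.coeff_prodLin]
      have hprod : ∀ t : Multiset L.carrier, Multiset.card t = r → (∀ v ∈ t, L.posStr.aug v = 0) →
          dlt L.posStr t.prod = 1 := by
        intro t ht h0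
        obtain ⟨v, t', rfl⟩ : ∃ v t', t = v ::ₘ t' := by
          obtain ⟨v, hv⟩ := Multiset.card_pos_iff_exists_mem.1 (by omega : 0 < Multiset.card t)
          exact ⟨v, _, (Multiset.exists_cons_of_mem hv).choose_spec⟩
        obtain ⟨w, hw⟩ := Multiset.card_pos_iff_exists_mem.1
          (show 0 < Multiset.card t' by rw [Multiset.card_cons] at ht; omega)
        have h1 : L.posStr.aug t'.prod = 0 := by
          rw [map_multiset_prod]
          exact Multiset.prod_eq_zero (Multiset.mem_map.2 ⟨w, hw, h0 w (Multiset.mem_cons_of_mem hw)⟩)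
        rw [Multiset.prod_cons, dlt_mul _ (Groth.Agent.Lambda.isSpecial_of_splitting hL), h0 v (Multiset.mem_cons_self _ _), h1,
          zpow_zero, zpow_zero, mul_one]
      have hsum : ∀ M : Multiset L.carrier, (∀ y ∈ M, dlt L.posStr y = 1) → dlt L.posStr M.sum = 1 := by
        intro M hM
        induction M using Multiset.induction with
        | empty => exact dlt_zero _
        | cons y M ihM =>
          rw [Multiset.sum_cons, dlt_add, hM y (Multiset.mem_cons_self _ _),
            ihM (fun z hz => hM z (Multiset.mem_cons_of_mem hz)), mul_one]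
      refine hsum _ fun y hy => ?_
      obtain ⟨t, ht, rfl⟩ := Multiset.mem_map.1 hy
      obtain ⟨htle, htc⟩ := Multiset.mem_powersetCard.1 ht
      refine hprod t htc fun v hv => ?_
      obtain ⟨u, hu, rfl⟩ := Multiset.mem_map.1 (Multiset.subset_of_le htle hv)
      rw [map_sub, map_one, (hs u hu).2, sub_self]
    have he0 : P.aug (e - ((P.aug e).toNat : K)) = 0 := by
      rw [map_sub, map_natCast, Int.toNat_of_nonneg (P.aug_pos e he).le, sub_self]
    have hef : (e - f) + (f - ((P.aug f).toNat : K)) = e - ((P.aug e).toNat : K) := by rw [ha]; ring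
    have hsplit : ∀ a b, P.aug a = 0 → P.aug b = 0 →
        dlt P (gamma r (a + b)) = dlt P (gamma r a) * dlt P (gamma r b) := by
      intro a b ha hb
      rw [← Groth.Agent.Lambda.coeff_gammaSeries, Groth.Agent.Lambda.gammaSeries_add, PowerSeries.coeff_mul,
        Finset.Nat.sum_antidiagonal_eq_sum_range_succ
          (fun i k => PowerSeries.coeff i (Groth.Agent.Lambda.gammaSeries a) * PowerSeries.coeff k (Groth.Agent.Lambda.gammaSeries b)),
        Finset.sum_range_succ, Nat.sub_self]
      obtain ⟨q, rfl⟩ : ∃ q, r = q + 1 := ⟨r - 1, by omega⟩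
      rw [Finset.sum_range_succ', Nat.sub_zero, Groth.Agent.Lambda.coeff_gammaSeries, Groth.Agent.Lambda.coeff_gammaSeries, Groth.Agent.Lambda.coeff_gammaSeries,
        Groth.Agent.Lambda.coeff_gammaSeries, Groth.Agent.Lambda.gamma_zero_op, Groth.Agent.Lambda.gamma_zero_op, one_mul, mul_one]
      have hmid : ∀ M : Finset ℕ, (∀ i ∈ M, i < q) → dlt P (∑ i ∈ M, PowerSeries.coeff (i + 1) (Groth.Agent.Lambda.gammaSeries a) *
          PowerSeries.coeff (q + 1 - (i + 1)) (Groth.Agent.Lambda.gammaSeries b)) = 1 := by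
        intro M hM
        induction M using Finset.induction with
        | empty => exact dlt_zero P
        | @insert i M hi ihM =>
          rw [Finset.sum_insert hi, dlt_add, ihM (fun j hj => hM j (Finset.mem_insert_of_mem hj)), mul_one,
            Groth.Agent.Lambda.coeff_gammaSeries, Groth.Agent.Lambda.coeff_gammaSeries]
          exact hpair _ _ (haugg _ a ha (by omega))
            (haugg _ b hb (by have := hM i (Finset.mem_insert_self i M); omega))
      rw [dlt_add, dlt_add, hmid _ (fun i hi => Finset.mem_range.1 hi), one_mul, mul_comm]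
    have := hsplit (e - f) (f - ((P.aug f).toNat : K)) (by rw [map_sub, ha, sub_self])
      (by rw [map_sub, map_natCast, Int.toNat_of_nonneg (P.aug_pos f hf).le, sub_self])
    rw [hef, hone e he, hone f hf, mul_one] at this
    exact this.symm
  rw [gammaFiltration, if_neg two_ne_zero] at hx
  induction hx using AddSubgroup.closure_induction with
  | mem y hy =>
    obtain ⟨l, hl, hs, rfl⟩ := hy
    clear * - hl hs hgam haugg hpair
    induction l with
    | nil => simp at hs
    | cons p l ih =>
      have hl' : ∀ q ∈ l, P.aug q.2 = 0 := fun q hq => hl q (List.mem_cons_of_mem _ hq)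
      have hp := hl p List.mem_cons_self
      rw [List.map_cons, List.sum_cons] at hs
      rw [List.map_cons, List.prod_cons]
      by_cases h0 : (l.map Prod.fst).sum = 0
      · have h1 : (l.map fun q => gamma q.1 q.2).prod = 1 := List.prod_eq_one fun y hy => by
          obtain ⟨q, hq, rfl⟩ := List.mem_map.1 hy
          have := List.sum_eq_zero_iff.1 h0 q.1 (List.mem_map.2 ⟨q, hq, rfl⟩)
          rw [this, Groth.Agent.Lambda.gamma_zero_op]
        rw [h1, mul_one]
        exact hgam _ _ hp (by omega)
      rcases Nat.eq_zero_or_pos p.1 with hp0 | hp0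
      · rw [hp0, Groth.Agent.Lambda.gamma_zero_op, one_mul]
        exact ih hl' (by omega)
      refine hpair _ _ (haugg _ _ hp hp0) ?_
      obtain ⟨k, hk, hk0⟩ : ∃ k ∈ l, k.1 ≠ 0 := by
        by_contra hcon
        push Not at hcon
        exact h0 (List.sum_eq_zero fun y hy => by obtain ⟨q, hq, rfl⟩ := List.mem_map.1 hy; exact hcon q hq)
      rw [map_list_prod]
      refine List.prod_eq_zero (List.mem_map.2 ⟨_, List.mem_map.2 ⟨k, hk, rfl⟩, haugg _ _ (hl' k hk) (Nat.pos_of_ne_zero hk0)⟩)
  | zero => exact dlt_zero P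
  | add a b _ _ ha hb => rw [dlt_add, ha, hb, mul_one]
  | neg a _ ha => rw [dlt_neg, ha, inv_one]

theorem dlt_line_sub_one (P : PosStructure K) {u : K} (hu : P.IsLine u) : (dlt P (u - 1) : K) = u := by
  have h1 : (1 : K) ∈ P.pos := by simpa using P.natCast_mem 1 one_pos
  rw [dlt_eq P hu.1 h1]
  have : det P 1 h1 = 1 := by
    ext; rw [det_val, map_one, Int.toNat_one, LambdaOps.lam_one, Units.val_one]
  rw [this, inv_one, mul_one, det_val, hu.2, Int.toNat_one, LambdaOps.lam_one]

/-- Let K be a λ-ring with positive structure having the splitting property, L its group of line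
elements and F^n the γ-filtration. Assume moreover that the inverse of a line element is a line
element and that for a positive e with ε(e) = r the element det e = λ^r(e) is positive (hence a line
element); these are part of the published setting but are not implied by the axioms used here, so
they are hypotheses. Then u ↦ u − 1 induces an isomorphism L ≅ Gr^1 K = F^1/F^2: every x ∈ F^1 is
congruent modulo F^2 to u − 1 for some line element u, and line elements u, v with u − v ∈ F^2 are
equal. -/
theorem result (K : Type v) [CommRing K] [LambdaRing.LambdaOps K] (P : LambdaRing.PosStructure K) (hK : LambdaRing.HasSplitting K P)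
    (hLinv : ∀ w : K, P.IsLine w → ∃ w' : K, P.IsLine w' ∧ w * w' = 1)
    (hdet : ∀ e : K, e ∈ P.pos → LambdaRing.LambdaOps.lam (P.aug e).toNat e ∈ P.pos) :
    (∀ x : K, x ∈ LambdaRing.gammaFiltration P 1 → ∃ u : K, P.IsLine u ∧ x - (u - 1) ∈ LambdaRing.gammaFiltration P 2) ∧
    ∀ u v : K, P.IsLine u → P.IsLine v → u - v ∈ LambdaRing.gammaFiltration P 2 → u = v := by
  letI := Groth.Agent.Lambda.intOps
  refine ⟨fun x hx => ?_, fun u v hu hv h => ?_⟩
  · have hx0 : P.aug x = 0 := by
      rw [gammaFiltration, if_neg one_ne_zero] at hx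
      induction hx using AddSubgroup.closure_induction with
      | mem y hy =>
        obtain ⟨l, hl, hs, rfl⟩ := hy
        obtain ⟨k, hk, hk0⟩ : ∃ k ∈ l, k.1 ≠ 0 := by
          by_contra hcon
          push Not at hcon
          have : (l.map Prod.fst).sum = 0 :=
            List.sum_eq_zero fun y hy => by obtain ⟨q, hq, rfl⟩ := List.mem_map.1 hy; exact hcon q hq
          omega
        rw [map_list_prod]
        refine List.prod_eq_zero (List.mem_map.2 ⟨_, List.mem_map.2 ⟨k, hk, rfl⟩, ?_⟩)
        rw [(Groth.Agent.Lambda.lHom_aug hK).map_gamma, hl k hk, Groth.Agent.Lambda.gamma_of_zero _ hk0]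
      | zero => exact map_zero _
      | add a b _ _ ha hb => rw [map_add, ha, hb, add_zero]
      | neg a _ ha => rw [map_neg, ha, neg_zero]
    obtain ⟨e, f, he, hf, rfl⟩ := P.exists_sub x
    have hline : ∀ g (hg : g ∈ P.pos), P.IsLine (det P g hg : K) := fun g hg =>
      ⟨hdet g hg, by rw [det_val, Groth.Agent.Lambda.aug_lam_pos hK hg, Nat.choose_self, Nat.cast_one]⟩
    have hmain : ∀ g (hg : g ∈ P.pos),
        ((det P g hg : K) - 1) - (g - ((P.aug g).toNat : K)) ∈ gammaFil P.aug 2 := by
      intro g hg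
      have h0 : P.aug (g - ((P.aug g).toNat : K)) = 0 := by
        rw [map_sub, map_natCast, Int.toNat_of_nonneg (P.aug_pos g hg).le, sub_self]
      obtain ⟨m, hm⟩ : ∃ m, (P.aug g).toNat = m + 1 := ⟨(P.aug g).toNat - 1, by have := P.aug_pos g hg; omega⟩
      rw [det_eq_sum P hg, hm, Finset.sum_range_succ', Finset.sum_range_succ', Groth.Agent.Lambda.gamma_zero_op,
        show (0 : ℕ) + 1 = 1 from rfl, Groth.Agent.Lambda.gamma_one_op, add_sub_cancel_right, add_sub_cancel_right]
      refine Ideal.sum_mem _ fun i _ => (Groth.Agent.Lambda.filFam P.aug).anti (show 2 ≤ i + 1 + 1 by omega) ?_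
      rw [← hm]
      exact Groth.Agent.Lambda.gamma_mem_gammaFil P.aug h0 _
    obtain ⟨w, hw, hw1⟩ := hLinv _ (hline f hf)
    refine ⟨(det P e he : K) * w, Groth.Agent.Lambda.line_mul (hline e he) hw, ?_⟩
    rw [Groth.Agent.Lambda.mem_gammaFiltration_iff]
    have hef : (P.aug e).toNat = (P.aug f).toNat := by
      rw [map_sub, sub_eq_zero] at hx0; rw [hx0]
    have h1 := sub_mem (hmain e he) (hmain f hf)
    have hu1 : ∀ z, P.IsLine z → z - 1 ∈ gammaFil P.aug 1 := fun z hz => by
      rw [← Groth.Agent.Lambda.gamma_one_op (z - 1)]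
      exact Groth.Agent.Lambda.gamma_mem_gammaFil P.aug (by rw [map_sub, map_one, hz.2, sub_self]) 1
    have h2 := (Groth.Agent.Lambda.filFam P.aug).mul (hu1 _ (Groth.Agent.Lambda.line_mul (hline e he) hw)) (hu1 _ (hline f hf))
    rw [hef] at h1
    have := sub_mem h2 h1
    convert this using 1
    linear_combination (-(det P e he : K)) * hw1
  · have h1 := congrArg Units.val (dlt_fil2 P hK h)
    rw [show u - v = (u - 1) + -(v - 1) by ring, dlt_add, dlt_neg, Units.val_mul, Units.val_one,
      dlt_line_sub_one P hu] at h1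
    calc u = u * (((dlt P (v - 1))⁻¹ : Kˣ) : K) * (dlt P (v - 1) : K) := by rw [Units.inv_mul_cancel_right]
      _ = v := by rw [h1, one_mul, dlt_line_sub_one P hv]

end Groth.Agent.S3781
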