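import Groth.Statements.S3782
import Groth.Agent.Lambda.Elementary
import Groth.Agent.S3290
-- import your own Groth.Agent.* helpers here

set_option autoImplicit false
universe v u
open CategoryTheory CategoryTheory.Limits AlgebraicGeometry
attribute [local instance] HasDerivedCategory.standard
open KRR

namespace Groth.Agent.S3782

open Finset LambdaRing

theorem core {K : Type v} [CommRing K] [LambdaOps K] (P : PosStructure K) (e : K) (he : e ∈ P.pos) (r : ℕ)
    (hr : P.aug e = r + 1) [LambdaOps (AdjoinRoot (KRR.extPoly P e))]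
    (Pe : PosStructure (AdjoinRoot (KRR.extPoly P e))) (hext : IsExtension P Pe (AdjoinRoot.of (KRR.extPoly P e)))
    (hline : Pe.IsLine (AdjoinRoot.root (KRR.extPoly P e)))
    (hsplit : HasSplitting (AdjoinRoot (KRR.extPoly P e)) Pe) (k : ℕ) :
    gammaFiltration Pe k = ⨆ i ∈ Finset.range (r + 1), AddSubgroup.map
        ((AddMonoidHom.mulRight ((AdjoinRoot.root (KRR.extPoly P e) - 1) ^ i)).comp
          (AdjoinRoot.of (KRR.extPoly P e)).toAddMonoidHom)
        (gammaFiltration P (k - i)) := by
  letI := Groth.Agent.Lambda.intOps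
  have hA := Groth.Agent.Lambda.isSpecial_of_splitting hsplit
  have hLf := Groth.Agent.Lambda.IsExtension.lHom hext
  set l := AdjoinRoot.root (KRR.extPoly P e) with hl
  set ι := AdjoinRoot.of (KRR.extPoly P e) with hι
  set w := l - 1 with hw
  have hwaug : Pe.aug w = 0 := by rw [hw, map_sub, hline.2, map_one, sub_self]
  have hFK := Groth.Agent.Lambda.filFam P.aug
  have hFe := Groth.Agent.Lambda.filFam Pe.aug
  have himg : ∀ j a, a ∈ gammaFil P.aug j → ι a ∈ gammaFil Pe.aug j := by
    intro j a ha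
    refine (Ideal.span_le (I := (gammaFil Pe.aug j).comap ι)).2 ?_ ha
    rintro _ ⟨t, ht, hs, rfl⟩
    rw [SetLike.mem_coe, Ideal.mem_comap, map_list_prod, List.map_map]
    refine Ideal.subset_span ⟨t.map fun p => (p.1, ι p.2), ?_, ?_, ?_⟩
    · intro p hp
      obtain ⟨q, hq, rfl⟩ := List.mem_map.1 hp
      rw [hι, hext.aug_comp]; exact ht q hq
    · simpa [List.map_map, Function.comp_def] using hs
    · rw [List.map_map]
      congr 1
      exact List.map_congr_left fun p _ => hLf.map_gamma p.1 p.2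
  let N : ℕ → AddSubgroup (AdjoinRoot (KRR.extPoly P e)) := fun k => AddSubgroup.closure
    {y | ∃ (i : ℕ) (a : K), a ∈ gammaFil P.aug (k - i) ∧ y = ι a * w ^ i}
  have hNmem : ∀ k i a, a ∈ gammaFil P.aug (k - i) → ι a * w ^ i ∈ N k :=
    fun k i a ha => AddSubgroup.subset_closure ⟨i, a, ha, rfl⟩
  have hNw : ∀ k y, y ∈ N k → y * w ∈ N k := by
    intro k y hy
    refine (AddSubgroup.closure_le ((N k).comap (AddMonoidHom.mulRight w))).2 ?_ hy
    rintro _ ⟨i, a, ha, rfl⟩
    show ι a * w ^ i * w ∈ N k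
    rw [mul_assoc, ← pow_succ]
    exact hNmem k (i + 1) a (hFK.anti (by omega) ha)
  have hNb : ∀ k b y, y ∈ N k → y * ι b ∈ N k := by
    intro k b y hy
    refine (AddSubgroup.closure_le ((N k).comap (AddMonoidHom.mulRight (ι b)))).2 ?_ hy
    rintro _ ⟨i, a, ha, rfl⟩
    show ι a * w ^ i * ι b ∈ N k
    rw [mul_right_comm, ← map_mul]
    exact hNmem k i _ (Ideal.mul_mem_right _ _ ha)
  have hNl : ∀ k y, y ∈ N k → y * l ∈ N k := fun k y hy => by
    rw [show l = w + 1 by rw [hw]; ring, mul_add, mul_one]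
    exact add_mem (hNw k y hy) hy
  have hNideal : ∀ k c y, y ∈ N k → c * y ∈ N k := by
    intro k c y hy
    obtain ⟨q, rfl⟩ := AdjoinRoot.mk_surjective c
    induction q using Polynomial.induction_on' with
    | add p p' hp hp' => rw [map_add, add_mul]; exact add_mem hp hp'
    | monomial n b =>
      rw [← Polynomial.C_mul_X_pow_eq_monomial, map_mul, map_pow, AdjoinRoot.mk_C, AdjoinRoot.mk_X, ← hl, ← hι,
        mul_comm]
      induction n with
      | zero => rw [pow_zero, mul_one]; exact hNb k b y hy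
      | succ n ih => rw [pow_succ, ← mul_assoc (ι b), ← mul_assoc y]; exact hNl k _ ih
  let J : ℕ → Ideal (AdjoinRoot (KRR.extPoly P e)) := fun k =>
    { carrier := N k
      zero_mem' := zero_mem _
      add_mem' := fun ha hb => add_mem ha hb
      smul_mem' := fun c y hy => hNideal k c y hy }
  have hJ : Groth.Agent.Lambda.FiltFam J := by
    refine ⟨?_, fun {m n} hmn => ?_, fun {m n a b} ha hb => ?_⟩
    · rw [Ideal.eq_top_iff_one]
      show (1 : AdjoinRoot (KRR.extPoly P e)) ∈ N 0
      have := hNmem 0 0 1 (by rw [hFK.zero]; trivial)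
      rwa [map_one, pow_zero, one_mul] at this
    · show N n ≤ N m
      refine (AddSubgroup.closure_le _).2 ?_
      rintro _ ⟨i, a, ha, rfl⟩
      exact hNmem m i a (hFK.anti (by omega) ha)
    · show a * b ∈ N (m + n)
      refine (AddSubgroup.closure_le ((N (m + n)).comap (AddMonoidHom.mulRight b))).2 ?_ ha
      rintro _ ⟨i, a', ha', rfl⟩
      show ι a' * w ^ i * b ∈ N (m + n)
      refine (AddSubgroup.closure_le ((N (m + n)).comap (AddMonoidHom.mulLeft (ι a' * w ^ i)))).2 ?_ hb
      rintro _ ⟨i', b', hb', rfl⟩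
      show ι a' * w ^ i * (ι b' * w ^ i') ∈ N (m + n)
      rw [mul_mul_mul_comm, ← map_mul, ← pow_add]
      exact hNmem _ _ _ (hFK.anti (by omega) (hFK.mul ha' hb'))
  have hgood : ∀ k, gammaFil Pe.aug k ≤ J k := by
    refine fun k => Groth.Agent.Lambda.gammaFil_le_fam Pe.aug hJ (fun z hz => ?_) k
    let T := Groth.Agent.Lambda.goodSub (K := ℤ) Groth.Agent.Lambda.isBinomial_int hA (Groth.Agent.Lambda.isLambdaAlg_int Pe) hJ 1
    have hT : ∀ x, x ∈ T ↔ ∀ i, LambdaRing.gamma i x ∈ J i := by
      intro x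
      constructor
      · intro hx i
        rcases Nat.eq_zero_or_pos i with rfl | hi
        · rw [hJ.zero]; trivial
        · exact hJ.anti (le_max_left i 1) (hx i hi)
      · intro hx i hi
        rw [max_eq_left hi]; exact hx i
    have hTmul : ∀ x y, x ∈ T → y ∈ T → x * y ∈ T := by
      intro x y hx hy
      rw [hT] at hx hy
      have h := Groth.Agent.Lambda.evalAt_mem_good (K := ℤ) Groth.Agent.Lambda.isBinomial_int hA (Groth.Agent.Lambda.isLambdaAlg_int Pe) hJ (σ := Bool)
        (fun g => if g then x else y) (fun g k => by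
          split
          · exact hx k
          · exact hy k) le_rfl
        (Ideal.mul_mem_left _ (Groth.Agent.Lambda.gen true) (Groth.Agent.Lambda.gen_mem_ord_one (σ := Bool) false))
      rw [map_mul, Groth.Agent.Lambda.evalAt_gen, Groth.Agent.Lambda.evalAt_gen] at h
      exact h
    suffices hall : ∀ x, x - (Pe.aug x : AdjoinRoot (KRR.extPoly P e)) ∈ T by
      have := hall z
      rw [hz, Int.cast_zero, sub_zero] at this
      exact (hT z).1 this
    have hprod : ∀ x y, x - (Pe.aug x : AdjoinRoot (KRR.extPoly P e)) ∈ T →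
        y - (Pe.aug y : AdjoinRoot (KRR.extPoly P e)) ∈ T →
        x * y - (Pe.aug (x * y) : AdjoinRoot (KRR.extPoly P e)) ∈ T := by
      intro x y hx hy
      rw [show x * y - (Pe.aug (x * y) : AdjoinRoot (KRR.extPoly P e)) =
        (x - (Pe.aug x : AdjoinRoot (KRR.extPoly P e))) * (y - (Pe.aug y : AdjoinRoot (KRR.extPoly P e))) +
          Pe.aug x • (y - (Pe.aug y : AdjoinRoot (KRR.extPoly P e))) +
          Pe.aug y • (x - (Pe.aug x : AdjoinRoot (KRR.extPoly P e))) by
        rw [map_mul, zsmul_eq_mul, zsmul_eq_mul, Int.cast_mul]; ring]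
      exact add_mem (add_mem (hTmul _ _ hx hy) (T.smul_mem _ hy)) (T.smul_mem _ hx)
    have hof : ∀ b, ι b - (Pe.aug (ι b) : AdjoinRoot (KRR.extPoly P e)) ∈ T := by
      intro b
      rw [hι, hext.aug_comp, ← map_intCast ι, ← map_sub, hT]
      intro i
      rw [← hLf.map_gamma]
      have := hNmem i 0 _ (by
        rw [Nat.sub_zero]
        exact Groth.Agent.Lambda.gamma_mem_gammaFil P.aug (show P.aug (b - (P.aug b : K)) = 0 by rw [map_sub, map_intCast, Int.cast_id, sub_self]) i)
      rwa [pow_zero, mul_one] at this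
    have hlT : l - (Pe.aug l : AdjoinRoot (KRR.extPoly P e)) ∈ T := by
      rw [hline.2, Int.cast_one, hT]
      intro i
      rw [← Groth.Agent.Lambda.coeff_gammaSeries, Groth.Agent.Lambda.gammaSeries_sub_one (Groth.Agent.Lambda.pos_lam_one Pe) (Groth.Agent.Lambda.line_lam hline)]
      rcases i with _ | _ | i
      · rw [hJ.zero]; trivial
      · rw [Groth.Agent.Lambda.coeff_lin_succ, if_pos rfl]
        have := hNmem 1 1 1 (by rw [Nat.sub_self, hFK.zero]; trivial)
        rw [map_one, one_mul, pow_one] at this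
        exact this
      · rw [Groth.Agent.Lambda.coeff_lin_succ, if_neg (Nat.succ_ne_zero i)]; exact zero_mem _
    intro x
    obtain ⟨q, rfl⟩ := AdjoinRoot.mk_surjective x
    induction q using Polynomial.induction_on' with
    | add p p' hp hp' =>
      rw [map_add, map_add, Int.cast_add, add_sub_add_comm]
      exact add_mem hp hp'
    | monomial n b =>
      rw [← Polynomial.C_mul_X_pow_eq_monomial, map_mul (AdjoinRoot.mk _), map_pow, AdjoinRoot.mk_C, AdjoinRoot.mk_X,
        ← hl, ← hι]
      induction n with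
      | zero => rw [pow_zero, mul_one]; exact hof b
      | succ n ih => rw [pow_succ, ← mul_assoc]; exact hprod _ _ ih hlT
  have hrel : w ^ (r + 1) = -∑ i ∈ range (r + 1),
      ι ((-1 : K) ^ (i + 1) * LambdaRing.gamma (i + 1) (e - ((r + 1 : ℕ) : K))) * w ^ (r - i) := by
    have hm : (P.aug e).toNat = r + 1 := by omega
    have h := congrArg (Polynomial.eval₂ ι (1 - l)) (Groth.Agent.S3290.result K P e he)
    simp only [hm, Polynomial.eval₂_finsetSum, Polynomial.eval₂_mul, Polynomial.eval₂_C, Polynomial.eval₂_pow,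
      Polynomial.eval₂_X, Polynomial.eval₂_sub, Polynomial.eval₂_one, show (1 : AdjoinRoot (KRR.extPoly P e)) - l - 1 = -l by ring] at h
    have h0 := Groth.Agent.Lambda.extPoly_root P e (m := r + 1) (by rw [hr]; push_cast; ring)
    have hR : ∑ i ∈ range (r + 1 + 1), ι (LambdaRing.LambdaOps.lam i e) * (-l) ^ (r + 1 - i) = 0 := by
      have h1 := congrArg (fun z => (-1 : AdjoinRoot (KRR.extPoly P e)) ^ (r + 1) * z) h0
      simp only [mul_zero, Finset.mul_sum] at h1
      rw [← h1]
      refine Finset.sum_congr rfl fun i hi => ?_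
      have := Finset.mem_range_succ_iff.1 hi
      rw [Algebra.smul_def, map_mul, map_pow, map_neg, map_one, AdjoinRoot.algebraMap_eq, neg_pow l, ← hι, ← hl]
      have hs : ((-1 : AdjoinRoot (KRR.extPoly P e))) ^ (r + 1) * (-1) ^ i = (-1) ^ (r + 1 - i) := by
        rw [← pow_add, show r + 1 + i = (r + 1 - i) + 2 * i by omega, pow_add, pow_mul, neg_one_sq, one_pow, mul_one]
      linear_combination -(ι (LambdaRing.LambdaOps.lam i e) * l ^ (r + 1 - i)) * hs
    rw [hR, Finset.sum_range_succ', Groth.Agent.Lambda.gamma_zero_op, map_one, one_mul, Nat.sub_zero,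
      show (1 : AdjoinRoot (KRR.extPoly P e)) - l = -w by rw [hw]; ring] at h
    have h2 := congrArg (fun z => (-1 : AdjoinRoot (KRR.extPoly P e)) ^ (r + 1) * z) h
    simp only [mul_zero, mul_add, Finset.mul_sum, ← mul_pow, neg_one_mul, neg_neg] at h2
    refine eq_neg_of_add_eq_zero_right (Eq.trans (congrArg (· + w ^ (r + 1)) (Finset.sum_congr rfl fun i hi => ?_)) h2)
    have := Finset.mem_range_succ_iff.1 hi
    rw [Nat.add_sub_add_right, map_mul, map_pow, map_neg, map_one, neg_pow w,
      show (-1 : AdjoinRoot (KRR.extPoly P e)) ^ (i + 1) = (-1) ^ (r + 1) * (-1) ^ (r - i) by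
        rw [← pow_add, show r + 1 + (r - i) = i + 1 + 2 * (r - i) by omega, pow_add _ (i + 1), pow_mul, neg_one_sq, one_pow, mul_one]]
    ring
  set S := ⨆ i ∈ Finset.range (r + 1), AddSubgroup.map
        ((AddMonoidHom.mulRight (w ^ i)).comp ι.toAddMonoidHom) (gammaFiltration P (k - i)) with hS
  have hbig : ∀ i a, a ∈ gammaFil P.aug (k - i) → ι a * w ^ i ∈ S := by
    intro i
    induction i using Nat.strong_induction_on with
    | _ i ih =>
      intro a ha
      by_cases hi : i < r + 1
      · exact (le_iSup₂_of_le i (Finset.mem_range.2 hi) le_rfl :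
          AddSubgroup.map ((AddMonoidHom.mulRight (w ^ i)).comp ι.toAddMonoidHom) (gammaFiltration P (k - i)) ≤ S)
          ⟨a, (Groth.Agent.Lambda.mem_gammaFiltration_iff P _ a).2 ha, rfl⟩
      obtain ⟨d, rfl⟩ : ∃ d, i = d + (r + 1) := ⟨i - (r + 1), by omega⟩
      rw [pow_add, hrel, mul_neg, mul_neg, Finset.mul_sum, Finset.mul_sum]
      refine neg_mem (sum_mem fun j hj => ?_)
      have := Finset.mem_range_succ_iff.1 hj
      have hstep := ih (d + (r - j)) (by omega) (a * ((-1 : K) ^ (j + 1) * LambdaRing.gamma (j + 1) (e - ((r + 1 : ℕ) : K))))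
        (hFK.anti (show k - (d + (r - j)) ≤ (k - (d + (r + 1))) + (j + 1) by omega)
          (hFK.mul ha (Ideal.mul_mem_left _ _ (Groth.Agent.Lambda.gamma_mem_gammaFil P.aug
            (by rw [map_sub, map_natCast, hr]; push_cast; ring) (j + 1)))))
      rw [map_mul ι a, pow_add] at hstep
      convert hstep using 1
      ring
  refine le_antisymm (fun z hz => ?_) ?_
  · rw [Groth.Agent.Lambda.mem_gammaFiltration_iff] at hz
    refine (AddSubgroup.closure_le S).2 ?_ (hgood k hz)
    rintro _ ⟨i, a, ha, rfl⟩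
    exact hbig i a ha
  · refine iSup₂_le fun i _ => ?_
    rintro _ ⟨a, ha, rfl⟩
    rw [SetLike.mem_coe, Groth.Agent.Lambda.mem_gammaFiltration_iff] at ha
    rw [Groth.Agent.Lambda.mem_gammaFiltration_iff]
    show ι a * w ^ i ∈ gammaFil Pe.aug k
    have hwi : ∀ i, w ^ i ∈ gammaFil Pe.aug i := fun i => by
      induction i with
      | zero => rw [hFe.zero]; trivial
      | succ i ih =>
        rw [pow_succ]
        refine hFe.mul ih ?_
        rw [← Groth.Agent.Lambda.gamma_one_op w]
        exact Groth.Agent.Lambda.gamma_mem_gammaFil Pe.aug hwaug 1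
    exact hFe.anti (by omega) (hFe.mul (himg _ a ha) (hwi i))

/-- Let K be a λ-ring with positive structure having the splitting property, e positive with ε(e) = r +
1, and K_e = K[T]/(p_e) with generator ℓ, equipped with a λ-structure extending that of K with
λ^i(ℓ) = 0 for i ≥ 2 and a positive structure making K ⟶ K_e an extension with ℓ a line element and
again having the splitting property. Then for every k ≥ 0 the γ-filtration of K_e is F^k K_e =
Σ_{i=0}^{r} F^{k-i}K · (ℓ - 1)^i (F^j K = K for j ≤ 0). In particular F^k K_e ∩ K = F^k K. -/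
theorem result (K : Type v) [CommRing K] [LambdaRing.LambdaOps K] (P : LambdaRing.PosStructure K) (hK : LambdaRing.HasSplitting K P) (e : K) (he : e ∈ P.pos) (r : ℕ) (hr : P.aug e = r + 1)
    (inst : LambdaRing.LambdaOps (AdjoinRoot (KRR.extPoly P e))) (Pe : @LambdaRing.PosStructure _ _ inst)
    (hext : @LambdaRing.IsExtension K _ _ _ _ inst P Pe (AdjoinRoot.of (KRR.extPoly P e)))
    (hroot : ∀ i : ℕ, 2 ≤ i → @LambdaRing.LambdaOps.lam _ _ inst i (AdjoinRoot.root (KRR.extPoly P e)) = 0)
    (hline : @LambdaRing.PosStructure.IsLine _ _ inst Pe (AdjoinRoot.root (KRR.extPoly P e)))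
    (hsplit : @LambdaRing.HasSplitting _ _ inst Pe) (k : ℕ) :
    @LambdaRing.gammaFiltration _ _ inst Pe k =
      ⨆ i ∈ Finset.range (r + 1), AddSubgroup.map
        ((AddMonoidHom.mulRight ((AdjoinRoot.root (KRR.extPoly P e) - 1) ^ i)).comp
          (AdjoinRoot.of (KRR.extPoly P e)).toAddMonoidHom)
        (LambdaRing.gammaFiltration P (k - i)) := by
  exact @core K _ _ P e he r hr inst Pe hext hline hsplit k

end Groth.Agent.S3782
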