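import Groth.Statements.S3783
import Groth.Agent.ResK0.PullLam
import Groth.Agent.KRRLib.PullVb
import Groth.Agent.Chow.Strata

set_option autoImplicit false
universe v u
open CategoryTheory CategoryTheory.Limits AlgebraicGeometry
attribute [local instance] HasDerivedCategory.standard
open KRR

namespace Groth.Agent.S3783

/-- For P = P^n_Y: let Y be a connected Noetherian scheme, p : P^n_Y ⟶ Y, with models of K(P), K(Y)
having the splitting property and q = p^K the pull-back. Then for every k, an element y ∈ K(Y) lies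
in F^k K(Y) if and only if p^K y lies in F^k K(P) (γ-filtrations). -/
theorem result (n : ℕ) (Y : Scheme.{u}) [IsNoetherian Y] [ConnectedSpace ↥Y]
    (KP : Type v) [CommRing KP] [LambdaRing.LambdaOps KP] (PP : LambdaRing.PosStructure KP) (φP : SGA6.Kvb (KRR.PY n Y) →+ KP) (hKP : KRR.IsModel (KRR.PY n Y) KP PP φP) (hsP : LambdaRing.HasSplitting KP PP)
    (KY : Type v) [CommRing KY] [LambdaRing.LambdaOps KY] (PY : LambdaRing.PosStructure KY) (φY : SGA6.Kvb Y →+ KY) (hKY : KRR.IsModel Y KY PY φY) (hsY : LambdaRing.HasSplitting KY PY)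
    (q : KY →+ KP) (hq : KRR.IsPull (KRR.pr n Y) φY φP q) (k : ℕ) :
    (LambdaRing.gammaFiltration PP k).comap q = LambdaRing.gammaFiltration PY k := by
  obtain ⟨s, hs, -⟩ := Groth.Agent.Chow.exists_section_coord n Y (0 : Fin (n + 1))
  obtain ⟨t, ht, -⟩ := Groth.Agent.KRRLib.existsUnique_isPull (KX := KY) s φY φP hKP.bijective
  ext y
  refine ⟨fun hy => ?_, fun hy => Groth.Agent.ResK0.PullLam.map_gammaFiltration hKP hKY hq k hy⟩
  have h : t (q y) = y := by
    suffices ∀ e ∈ PY.pos, t (q e) = e by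
      obtain ⟨a, b, ha, hb, rfl⟩ := PY.exists_sub y
      rw [map_sub, map_sub, this a ha, this b hb]
    intro e he
    obtain ⟨m, E, -, hE, rfl⟩ := (hKY.mem_pos_iff e).1 he
    have hE' := Groth.Agent.VBLib.isFinLocFree_of_ofRank hE
    have hp := Groth.Agent.KFlat.LocFree.isFinLocFree_pull (KRR.pr n Y) hE'
    rw [hq E hE', ht _ hp]
    exact congrArg φY (Groth.Agent.ResK0.PullLam.cl_iso
      ((Scheme.Modules.pullbackComp s (KRR.pr n Y)).app E ≪≫ (Scheme.Modules.pullbackCongr hs).app E ≪≫
        (Scheme.Modules.pullbackId Y).app E) (Groth.Agent.KFlat.LocFree.isFinLocFree_pull s hp))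
  rw [← h]
  exact Groth.Agent.ResK0.PullLam.map_gammaFiltration hKY hKP ht k hy

end Groth.Agent.S3783
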