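import Groth.Statements.S3788
import Groth.Agent.ResK0.PullLam
import Groth.Agent.ResK0.KerVb
import Groth.Agent.ResK0.LamPrime
import Groth.Agent.ResK0.Rank

set_option autoImplicit false
universe v u
open CategoryTheory CategoryTheory.Limits AlgebraicGeometry
attribute [local instance] HasDerivedCategory.standard
open KRR

namespace Groth.Agent.S3788

/-- The relation satisfied by the tautological class: let X be a connected Noetherian scheme, E finite
locally free of rank r + 1, and (π : P ⟶ X, O(1), q) its projective bundle P(E) (universal property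
for invertible quotients of pull-backs of E), P connected Noetherian. With models of K(X), K(P), g =
π^K, e = [E] and ℓ = [O(1)]: Σ_{i=0}^{r+1} (-1)^i π^K(λ^i e) ℓ^{r+1-i} = 0 in K(P). -/
theorem result (X P : Scheme.{u}) [IsNoetherian X] [ConnectedSpace ↥X] [IsNoetherian P] [ConnectedSpace ↥P]
    (r : ℕ) (E : X.Modules) (hE : FlatMod.IsFinLocFreeOfRank (r + 1) E)
    (π : P ⟶ X) (O1 : P.Modules) (q : (Scheme.Modules.pullback π).obj E ⟶ O1) (hPB : KRR.IsProjBundle π E O1 q)
    (KX : Type v) [CommRing KX] [LambdaRing.LambdaOps KX] (PX : LambdaRing.PosStructure KX) (φX : SGA6.Kvb X →+ KX) (hKX : KRR.IsModel X KX PX φX)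
    (KP : Type v) [CommRing KP] [LambdaRing.LambdaOps KP] (PP : LambdaRing.PosStructure KP) (φP : SGA6.Kvb P →+ KP) (hKP : KRR.IsModel P KP PP φP)
    (g : KX →+ KP) (hg : KRR.IsPull π φX φP g) :
    ∑ i ∈ Finset.range (r + 2), (-1 : KP) ^ i * g (LambdaRing.LambdaOps.lam i (φX (KRR.cl X E))) * φP (KRR.cl P O1) ^ (r + 1 - i) = 0 := by
  have hEf := Groth.Agent.VBLib.isFinLocFree_of_ofRank hE
  haveI := hPB.epi
  have hπE := Groth.Agent.KFlat.LocFree.isFinLocFree_pull π hEf
  have hO1 := Groth.Agent.VBLib.isFinLocFree_of_ofRank hPB.invertible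
  have hF := Groth.Agent.ResK0.KerVb.isFinLocFree_kernel q hπE hO1
  obtain ⟨k, hk⟩ := Groth.Agent.ResK0.Rank.exists_ofRank hF
  set ℓ := φP (KRR.cl P O1) with hℓ
  set f := φP (KRR.cl P (kernel q)) with hf
  have he : g (φX (KRR.cl X E)) = f + ℓ := by
    rw [hg E hEf, hf, hℓ, ← map_add]
    exact congrArg φP (Groth.Agent.ResK0.Basic.clSub_add (KRR.vbP P) (Groth.Agent.ResK0.Basic.shortExact_kernel q)
      hF hπE hO1)
  have hkr : k = r := by
    have h1 := congrArg PP.aug he
    rw [Groth.Agent.ResK0.PullLam.aug_map hKP hKX hg, map_add, hKX.aug_cl _ E hE, hKP.aug_cl k _ hk,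
      hKP.aug_cl 1 _ hPB.invertible] at h1
    have h2 : ((r + 1 : ℕ) : ℤ) = ((k + 1 : ℕ) : ℤ) := by push_cast at h1 ⊢; linarith
    have := Int.natCast_inj.1 h2
    omega
  subst hkr
  have htop : LambdaRing.LambdaOps.lam (k + 1) f = 0 := by
    rcases Nat.eq_zero_or_pos k with h0 | h0
    · subst h0
      rw [hf, Groth.Agent.ResK0.Rank.cl_eq_zero_of_isZero (Groth.Agent.ResK0.Rank.isZero_of_rank_zero hk) hF,
        map_zero]
      exact Groth.Agent.ResK0.LamPrime.lam_zero_elt 1 one_pos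
    · refine PP.lam_eq_zero _ ((hKP.mem_pos_iff _).2 ⟨k, _, h0, hk, rfl⟩) _ ?_
      rw [hKP.aug_cl k _ hk]
      omega
  have hℓp : ℓ ∈ PP.pos := (hKP.mem_pos_iff _).2 ⟨1, O1, le_rfl, hPB.invertible, rfl⟩
  have hℓ0 : ∀ j, 1 < j → LambdaRing.LambdaOps.lam j ℓ = 0 := fun j hj => by
    refine PP.lam_eq_zero _ hℓp _ ?_
    rw [hKP.aug_cl 1 O1 hPB.invertible]
    omega
  have hstep : ∀ i, g (LambdaRing.LambdaOps.lam (i + 1) (φX (KRR.cl X E))) =
      LambdaRing.LambdaOps.lam (i + 1) f + ℓ * LambdaRing.LambdaOps.lam i f := fun i => by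
    rw [Groth.Agent.ResK0.PullLam.map_lam hKP hKX hg, he, LambdaRing.LambdaOps.lam_add, Finset.sum_range_succ,
      Finset.sum_range_succ, Finset.sum_eq_zero fun j hj => by
        rw [hℓ0 _ (by have := Finset.mem_range.1 hj; omega), mul_zero]]
    rw [zero_add, Nat.sub_self, LambdaRing.LambdaOps.lam_zero, mul_one, Nat.add_sub_cancel_left,
      LambdaRing.LambdaOps.lam_one, add_comm, mul_comm]
  have key : ∀ N, N ≤ k + 1 →
      ∑ i ∈ Finset.range (N + 1), (-1 : KP) ^ i * g (LambdaRing.LambdaOps.lam i (φX (KRR.cl X E))) * ℓ ^ (k + 1 - i) =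
        (-1 : KP) ^ N * LambdaRing.LambdaOps.lam N f * ℓ ^ (k + 1 - N) := by
    intro N
    induction N with
    | zero =>
      intro _
      simp [LambdaRing.LambdaOps.lam_zero, Groth.Agent.ResK0.PullLam.map_one hKP hKX hg]
    | succ N ih =>
      intro hN
      rw [Finset.sum_range_succ, ih (by omega), hstep, show k + 1 - N = (k + 1 - (N + 1)) + 1 by omega, pow_succ,
        pow_succ]
      ring
  rw [key (k + 1) le_rfl, htop, mul_zero, zero_mul]

end Groth.Agent.S3788
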