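import Groth.Statements.S3791
import Groth.Agent.Lambda.Splitting
import Groth.Prelude.Def_KRR
-- import your own Groth.Agent.* helpers here

set_option autoImplicit false
universe v u
open CategoryTheory CategoryTheory.Limits AlgebraicGeometry
attribute [local instance] HasDerivedCategory.standard
open KRR

namespace Groth.Agent.S3791

open Finset LambdaRing

/-- Let K be a λ-ring with positive structure P and u an ample line element (for every x, u^n x is a
positive element minus a natural number for all large n). Then for every line element v, the element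
v - 1 is nilpotent. -/
theorem result (K : Type v) [CommRing K] [LambdaRing.LambdaOps K] (P : LambdaRing.PosStructure K)
    (u : K) (hu : KRR.IsAmpleElt P u) (w : K) (hw : P.IsLine w) : IsNilpotent (w - 1) := by
  have key : ∀ v : K, P.IsLine v → ∀ m : ℕ, (m : K) - v ∈ P.pos → IsNilpotent (v - 1) := by
    intro v hv m hpos
    have hm1 : P.aug ((m : K) - v) = (m : ℤ) - 1 := by rw [map_sub, map_natCast, hv.2]
    have hEpos := P.aug_pos _ hpos
    let E : Polynomial K := ∑ i ∈ range m,
      Polynomial.C (LambdaRing.LambdaOps.lam i ((m : K) - v)) * Polynomial.X ^ i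
    have hE : (E : PowerSeries K) = LambdaRing.lamSeries ((m : K) - v) := by
      ext n
      rw [Polynomial.coeff_coe, Polynomial.finsetSum_coeff, Groth.Agent.Lambda.coeff_lamSeries]
      simp only [Polynomial.coeff_C_mul, Polynomial.coeff_X_pow, mul_ite, mul_one, mul_zero,
        Finset.sum_ite_eq, Finset.mem_range]
      split_ifs with h
      · rfl
      · exact (P.lam_eq_zero _ hpos n (by rw [hm1]; omega)).symm
    have hprod : E * (1 + Polynomial.C v * Polynomial.X) = (1 + Polynomial.X) ^ m := by
      apply Polynomial.coe_injective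
      rw [Polynomial.coe_mul, hE, Polynomial.coe_pow]
      have h := Groth.Agent.Lambda.lamSeries_add ((m : K) - v) v
      rw [sub_add_cancel, Groth.Agent.Lambda.lamSeries_natCast (Groth.Agent.Lambda.pos_lam_one P), Groth.Agent.Lambda.lamSeries_eq_lin (Groth.Agent.Lambda.line_lam hv),
        Groth.Agent.Lambda.lin] at h
      simpa using h.symm
    have hu' := P.isUnit_lam v hv.1
    rw [hv.2, Int.toNat_one, LambdaRing.LambdaOps.lam_one] at hu'
    obtain ⟨b, hb⟩ := hu'.exists_right_inv
    have h2 := congrArg (Polynomial.eval (-b)) hprod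
    simp only [Polynomial.eval_mul, Polynomial.eval_add, Polynomial.eval_one, Polynomial.eval_C,
      Polynomial.eval_X, Polynomial.eval_pow, mul_neg, hb, add_neg_cancel, mul_zero] at h2
    refine ⟨m, ?_⟩
    calc (v - 1) ^ m = (v * (1 + -b)) ^ m := by rw [mul_add, mul_one, mul_neg, hb, sub_eq_add_neg]
      _ = 0 := by rw [mul_pow, ← h2, mul_zero]
  have hline : ∀ n : ℕ, P.IsLine (u ^ n) := fun n => by
    induction n with
    | zero => rw [pow_zero]; exact Groth.Agent.Lambda.line_one P
    | succ n ih => rw [pow_succ]; exact Groth.Agent.Lambda.line_mul ih hu.1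
  obtain ⟨n0, h0⟩ := hu.2 (-1)
  have hpown : ∀ n, n0 ≤ n → IsNilpotent (u ^ n - 1) := fun n hn => by
    obtain ⟨e, m, he, h⟩ := h0 n hn
    refine key _ (hline n) m ?_
    rwa [show (m : K) - u ^ n = e by linear_combination h]
  obtain ⟨n1, h1⟩ := hu.2 (-w)
  obtain ⟨e, m, he, h⟩ := h1 (max n0 n1) (le_max_right _ _)
  have hnil := key (u ^ max n0 n1 * w) (Groth.Agent.Lambda.line_mul (hline _) hw) m (by
    rwa [show (m : K) - u ^ max n0 n1 * w = e by linear_combination h])
  have hn := hpown (max n0 n1) (le_max_left _ _)
  have hsub := (Commute.all _ _).isNilpotent_sub hnil ((Commute.all w _).isNilpotent_mul_left hn)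
  have e1 : u ^ max n0 n1 * w - 1 - w * (u ^ max n0 n1 - 1) = w - 1 := by ring
  rwa [e1] at hsub

end Groth.Agent.S3791
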