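import Groth.Statements.S3792
import Groth.Agent.Lambda.Elementary
import Mathlib.RingTheory.Polynomial.Vieta
-- import your own Groth.Agent.* helpers here

set_option autoImplicit false
universe v u
open CategoryTheory CategoryTheory.Limits AlgebraicGeometry
attribute [local instance] HasDerivedCategory.standard
open KRR

namespace Groth.Agent.S3792

/-- Let K be a λ-ring with positive structure having the splitting property, e a positive element and j
≥ 1. Then ψ^j(λ_{-1}(e)) = λ_{-1}(e) · θ^j(e), where λ_{-1}(e) = Σ_{i ≤ ε(e)} (-1)^i λ^i(e), ψ^j is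
the Adams operation and θ^j(e) is Bott's cannibalistic class (the universal polynomial in the λ^i(e)
which is Π (1 + u_i + ⋯ + u_i^{j-1}) on a splitting e = Σ u_i). -/
theorem result (K : Type v) [CommRing K] [LambdaRing.LambdaOps K] (P : LambdaRing.PosStructure K) (hK : LambdaRing.HasSplitting K P) (e : K) (he : e ∈ P.pos) (j : ℕ) (hj : 1 ≤ j) :
    LambdaRing.adams P j (KRR.lamAlt P e) = KRR.lamAlt P e * KRR.bott P j e := by
  obtain ⟨L, f, hf, hL, h⟩ := Groth.Agent.Lambda.split_list hK [e] (by simpa using he)
  obtain ⟨s, hs, hse⟩ := h e (by simp)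
  set m := (P.aug e).toNat with hm
  have hcard : Multiset.card s = m := by
    rw [hm, ← hf.aug_comp, ← hse, Groth.Agent.Lambda.aug_sum_lines s hs, Int.toNat_natCast]
  have hlam : ∀ i, f (LambdaRing.LambdaOps.lam i e) = s.esymm i := fun i => by
    rw [(Groth.Agent.Lambda.IsExtension.lHom hf).map_lam, ← hse, Groth.Agent.Lambda.lam_sum_lines s fun v hv => Groth.Agent.Lambda.line_lam (hs v hv)]
  apply hf.injective
  have halt : f (KRR.lamAlt P e) = (s.map fun v => 1 - v).prod := by
    have h2 := congrArg (Polynomial.eval (1 : L.carrier)) (Multiset.prod_X_add_C_eq_sum_esymm (s.map Neg.neg))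
    rw [Polynomial.eval_multiset_prod, Polynomial.eval_finsetSum, Multiset.map_map, Multiset.map_map,
      Multiset.card_map, hcard] at h2
    simp only [Function.comp_def, Polynomial.eval_add, Polynomial.eval_X, Polynomial.eval_C,
      Polynomial.eval_mul, Polynomial.eval_pow, one_pow, mul_one, ← sub_eq_add_neg, Multiset.esymm_neg] at h2
    rw [h2, KRR.lamAlt, map_sum]
    exact Finset.sum_congr rfl fun i _ => by rw [map_mul, map_pow, map_neg, map_one, hlam]
  have hbott : f (KRR.bott P j e) = (s.map fun v => ∑ k ∈ Finset.range j, v ^ k).prod := by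
    obtain ⟨v, hv⟩ : ∃ v : Fin m → L.carrier, Finset.univ.val.map v = s := by
      have : ∀ (n : ℕ) (t : Multiset L.carrier), Multiset.card t = n → ∃ v : Fin n → L.carrier, Finset.univ.val.map v = t := by
        rintro n ⟨l⟩ rfl
        exact ⟨l.get, (Fin.univ_val_map _).trans (congrArg _ (List.ofFn_get l))⟩
      exact this m s hcard
    have h2 : MvPolynomial.aeval v ((MvPolynomial.esymmAlgEquiv (Fin m) ℤ (Fintype.card_fin m)
        (KRR.bottPoly j m) : MvPolynomial (Fin m) ℤ)) = (s.map fun v => ∑ k ∈ Finset.range j, v ^ k).prod := by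
      rw [KRR.bottPoly, AlgEquiv.apply_symm_apply, ← hv, Multiset.map_map]
      simp only [KRR.bottSym, Finset.prod, map_multiset_prod, Multiset.map_map, Function.comp_def, map_sum, map_pow, MvPolynomial.aeval_X]
    rw [KRR.bott, ← h2]
    show _ = MvPolynomial.aeval v (MvPolynomial.esymmAlgHom (Fin m) ℤ m (KRR.bottPoly j m)).val
    rw [MvPolynomial.esymmAlgHom_apply, MvPolynomial.aeval_eq_bind₁, MvPolynomial.aeval_bind₁, Groth.Agent.Lambda.hom_aeval']
    congr 2
    funext i
    rw [hlam, MvPolynomial.aeval_esymm_eq_multiset_esymm, hv]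
  have hA := Groth.Agent.Lambda.isSpecial_of_splitting hL
  rw [map_mul, halt, hbott, Groth.Agent.Lambda.adams_eq P hj, (Groth.Agent.Lambda.IsExtension.lHom hf).map_adamsOp, halt]
  show Groth.Agent.Lambda.Special.adamsHom hA j hj _ = _
  rw [map_multiset_prod, Multiset.map_map, ← Multiset.prod_map_mul]
  refine congrArg _ (Multiset.map_congr rfl fun v hv => ?_)
  show Groth.Agent.Lambda.Special.adamsHom hA j hj (1 - v) = _
  rw [map_sub, map_one, mul_neg_geom_sum]
  show 1 - LambdaRing.adamsOp j v = _
  rw [Groth.Agent.Lambda.adamsOp_line (Groth.Agent.Lambda.line_lam (hs v hv)) j hj]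

end Groth.Agent.S3792
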