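import Groth.Statements.S3795
import Groth.Agent.Lambda.Splitting
-- import your own Groth.Agent.* helpers here

set_option autoImplicit false
universe v u
open CategoryTheory CategoryTheory.Limits AlgebraicGeometry
attribute [local instance] HasDerivedCategory.standard
open KRR

namespace Groth.Agent.S3795

open Finset LambdaRing

/-- Let K be a λ-ring with positive structure having the splitting property, j ≥ 2, n ≥ 0 and x ∈ K. If
ψ^j(x) - j^n x lies in ℚF^{n+1} (some positive multiple lies in F^{n+1}, γ-filtration), then x lies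
in ℚF^n (some positive multiple of x lies in F^n). -/
theorem result (K : Type v) [CommRing K] [LambdaRing.LambdaOps K] (P : LambdaRing.PosStructure K) (hK : LambdaRing.HasSplitting K P) (j : ℕ) (hj : 2 ≤ j) (n : ℕ) (x : K)
    (hx : ∃ N : ℕ, 1 ≤ N ∧ (N : K) * (LambdaRing.adams P j x - (j : K) ^ n * x) ∈ LambdaRing.gammaFiltration P (n + 1)) :
    ∃ N : ℕ, 1 ≤ N ∧ (N : K) * x ∈ LambdaRing.gammaFiltration P n := by
  letI := Groth.Agent.Lambda.intOps
  obtain ⟨M, hM, hx⟩ := hx
  rw [Groth.Agent.Lambda.mem_gammaFiltration_iff, Groth.Agent.Lambda.adams_eq P (show 1 ≤ j by omega)] at hx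
  suffices h : ∀ k, k ≤ n → ∃ N : ℕ, 1 ≤ N ∧ (N : K) * x ∈ gammaFil P.aug k by
    obtain ⟨N, hN, h⟩ := h n le_rfl
    exact ⟨N, hN, (Groth.Agent.Lambda.mem_gammaFiltration_iff P n _).2 h⟩
  intro k hk
  induction k with
  | zero => exact ⟨1, le_rfl, by rw [(Groth.Agent.Lambda.filFam P.aug).zero]; trivial⟩
  | succ k ih =>
    obtain ⟨N, hN, hNx⟩ := ih (by omega)
    have hpow : j ^ k < j ^ n := Nat.pow_lt_pow_right hj (by omega)
    refine ⟨N * M * (j ^ n - j ^ k), Nat.mul_pos (Nat.mul_pos hN hM) (Nat.sub_pos_of_lt hpow), ?_⟩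
    have h1 := Groth.Agent.Lambda.adams_sub_mem hK (show 1 ≤ j by omega) hNx
    rw [show LambdaRing.adamsOp j ((N : K) * x) = (N : K) * LambdaRing.adamsOp j x by
      have := map_nsmul (Groth.Agent.Lambda.adamsAdd (K := K) j) N x
      simpa [nsmul_eq_mul, Groth.Agent.Lambda.adamsAdd] using this] at h1
    have h2 := (Groth.Agent.Lambda.filFam P.aug).anti (show k + 1 ≤ n + 1 by omega) hx
    have := sub_mem (Ideal.mul_mem_left _ (M : K) h1) (Ideal.mul_mem_left _ (N : K) h2)
    convert this using 1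
    push_cast [Nat.cast_sub hpow.le]
    ring

end Groth.Agent.S3795
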