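import Groth.Statements.S3800
import Groth.Agent.KRR49.Gen
import Groth.Agent.S3762

set_option autoImplicit false
universe v u
open CategoryTheory CategoryTheory.Limits AlgebraicGeometry
attribute [local instance] HasDerivedCategory.standard
open KRR

namespace Groth.Agent.S3800

/-- Case of a projection (excess dimension 0), for the trivial bundle: let Y, Y₁ be connected Noetherian
schemes, φ : Y₁ ⟶ Y, p : P^n_Y ⟶ Y and p₁ : P^n_{Y₁} ⟶ Y₁ the projections and ψ : P^n_{Y₁} ⟶ P^n_Y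
the induced morphism. With models of the four K-rings, pull-backs φ^K, ψ^K and push-forwards p_K,
(p₁)_K (via regular sheaves): φ^K (p_K z) = (p₁)_K (ψ^K z) for every z ∈ K(P^n_Y). -/
theorem result (n : ℕ) {Y Y₁ : Scheme.{u}} [IsNoetherian Y] [ConnectedSpace ↥Y] [IsNoetherian Y₁] [ConnectedSpace ↥Y₁]
    (φ : Y₁ ⟶ Y)
    (KP : Type v) [CommRing KP] [LambdaRing.LambdaOps KP] (PP : LambdaRing.PosStructure KP) (φP : SGA6.Kvb (KRR.PY n Y) →+ KP) (hKP : KRR.IsModel (KRR.PY n Y) KP PP φP)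
    (KY : Type v) [CommRing KY] [LambdaRing.LambdaOps KY] (PY : LambdaRing.PosStructure KY) (φY : SGA6.Kvb Y →+ KY) (hKY : KRR.IsModel Y KY PY φY)
    (KP₁ : Type v) [CommRing KP₁] [LambdaRing.LambdaOps KP₁] (PP₁ : LambdaRing.PosStructure KP₁) (φP₁ : SGA6.Kvb (KRR.PY n Y₁) →+ KP₁) (hKP₁ : KRR.IsModel (KRR.PY n Y₁) KP₁ PP₁ φP₁)
    (KY₁ : Type v) [CommRing KY₁] [LambdaRing.LambdaOps KY₁] (PY₁ : LambdaRing.PosStructure KY₁) (φY₁ : SGA6.Kvb Y₁ →+ KY₁) (hKY₁ : KRR.IsModel Y₁ KY₁ PY₁ φY₁)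
    (gφ : KY →+ KY₁) (hgφ : KRR.IsPull φ φY φY₁ gφ)
    (gψ : KP →+ KP₁) (hgψ : KRR.IsPull (KRR.projSpaceMap n φ) φP φP₁ gψ)
    (b : KP →+ KY) (hb : KRR.IsPushPr n Y φP φY b) (b₁ : KP₁ →+ KY₁) (hb₁ : KRR.IsPushPr n Y₁ φP₁ φY₁ b₁)
    (z : KP) : gφ (b z) = b₁ (gψ z) := by
  obtain ⟨q, hq, -⟩ := KRRLib.existsUnique_isPull (KX := KP) (KY := KY) (KRR.pr n Y) φP φY hKY.bijective
  obtain ⟨q₁, hq₁, -⟩ := KRRLib.existsUnique_isPull (KX := KP₁) (KY := KY₁) (KRR.pr n Y₁) φP₁ φY₁ hKY₁.bijective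
  have hsq : KRR.projSpaceMap n φ ≫ KRR.pr n Y = KRR.pr n Y₁ ≫ φ := pullback.lift_snd _ _ _
  have hfst : KRR.projSpaceMap n φ ≫ KRRLib.toPZ n Y = KRRLib.toPZ n Y₁ :=
    (pullback.lift_fst _ _ _).trans (Category.comp_id _)
  have key : ((gφ.comp b).comp φP) = ((b₁.comp gψ).comp φP) := by
    refine KRR49.hom_ext_pull fun E hE k hk => ?_
    have hP := KFlat.LocFree.isFinLocFree_pull (KRR.pr n Y) hE
    have hφE := KFlat.LocFree.isFinLocFree_pull φ hE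
    have hP₁ := KFlat.LocFree.isFinLocFree_pull (KRR.pr n Y₁) hφE
    have hO := KRR49.isFinLocFree_twistOver (n := n) (Y := Y) (-(k : ℤ))
    have hO₁ := KRR49.isFinLocFree_twistOver (n := n) (Y := Y₁) (-(k : ℤ))
    let e : (Scheme.Modules.pullback (KRR.projSpaceMap n φ)).obj
        (KRR.twF n Y (-(k : ℤ)) ((Scheme.Modules.pullback (KRR.pr n Y)).obj E)) ≅
        KRR.twF n Y₁ (-(k : ℤ)) ((Scheme.Modules.pullback (KRR.pr n Y₁)).obj
          ((Scheme.Modules.pullback φ).obj E)) :=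
      KFlat.PullTensor.pullTensorIso (KRR.projSpaceMap n φ) (Twist.twistOver n Y (-(k : ℤ)))
          ((Scheme.Modules.pullback (KRR.pr n Y)).obj E) ≪≫
        ProjTwist.tensCongr
          ((Scheme.Modules.pullbackComp _ _).app _ ≪≫ (Scheme.Modules.pullbackCongr hfst).app _)
          ((Scheme.Modules.pullbackComp _ _).app _ ≪≫ (Scheme.Modules.pullbackCongr hsq).app _ ≪≫
            ((Scheme.Modules.pullbackComp _ _).app _).symm)
    have hL : φP (KRR.cl (KRR.PY n Y) (KRR.twF n Y (-(k : ℤ)) ((Scheme.Modules.pullback (KRR.pr n Y)).obj E))) =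
        φP (KRR.cl (KRR.PY n Y) (Twist.twistOver n Y (-(k : ℤ)))) * q (φY (KRR.cl Y E)) := by
      rw [hq E hE, hKP.map_mul _ _ hO hP]
      rfl
    have hR : gψ (φP (KRR.cl (KRR.PY n Y) (KRR.twF n Y (-(k : ℤ)) ((Scheme.Modules.pullback (KRR.pr n Y)).obj E)))) =
        φP₁ (KRR.cl (KRR.PY n Y₁) (Twist.twistOver n Y₁ (-(k : ℤ)))) *
          q₁ (φY₁ (KRR.cl Y₁ ((Scheme.Modules.pullback φ).obj E))) := by
      rw [hgψ _ (KRR49.isFinLocFree_twF hP _), hq₁ _ hφE, hKP₁.map_mul _ _ hO₁ hP₁]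
      exact congrArg φP₁ (S3205.clSub_congr e.hom (KRR49.isFinLocFree_twF hP₁ _))
    show gφ (b (φP _)) = b₁ (gψ (φP _))
    rw [hR, hL, S3762.result n Y KP PP φP hKP KY PY φY hKY b hb q hq,
      S3762.result n Y₁ KP₁ PP₁ φP₁ hKP₁ KY₁ PY₁ φY₁ hKY₁ b₁ hb₁ q₁ hq₁,
      KRR49.push_twistOver_cases φP φY b hb k hk, KRR49.push_twistOver_cases φP₁ φY₁ b₁ hb₁ k hk]
    split_ifs with h0
    · rw [hKY.map_one, hKY₁.map_one, one_mul, one_mul, hgφ E hE]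
    · rw [zero_mul, zero_mul, map_zero]
  obtain ⟨w, rfl⟩ := hKP.bijective.2 z
  exact DFunLike.congr_fun key w

end Groth.Agent.S3800
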