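import Groth.Statements.S3802
import Groth.Agent.Lambda.Elementary
-- import your own Groth.Agent.* helpers here

set_option autoImplicit false
universe v u
open CategoryTheory CategoryTheory.Limits AlgebraicGeometry
attribute [local instance] HasDerivedCategory.standard
open KRR

namespace Groth.Agent.S3802

open Finset LambdaRing

/-- Let K be a λ-ring with positive structure having the splitting property, c positive with ε(c) = r +
1, and K_c = K[T]/(p_c) with generator ℓ, equipped with a λ-structure extending that of K with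
λ^i(ℓ) = 0 for i ≥ 2 and a positive structure making K ⟶ K_c an extension with ℓ a line element and
c - ℓ positive (when r ≥ 1), having the splitting property; let f : K_c ⟶ K be the associated
K-linear functional (f(ℓ^i) = σ^i(c) for i ≤ r). If z ∈ K_c satisfies z (1 - ℓ) = 0, then z = f(z) ·
λ_{-1}(c - ℓ), where λ_{-1}(c - ℓ) = Σ_{i ≤ r} (-1)^i λ^i(c - ℓ). -/
theorem result (K : Type v) [CommRing K] [LambdaRing.LambdaOps K] (P : LambdaRing.PosStructure K) (hK : LambdaRing.HasSplitting K P) (c : K) (hc : c ∈ P.pos) (r : ℕ) (hr : P.aug c = r + 1)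
    (inst : LambdaRing.LambdaOps (AdjoinRoot (KRR.extPoly P c))) (Pc : @LambdaRing.PosStructure _ _ inst)
    (hext : @LambdaRing.IsExtension K _ _ _ _ inst P Pc (AdjoinRoot.of (KRR.extPoly P c)))
    (hroot : ∀ i : ℕ, 2 ≤ i → @LambdaRing.LambdaOps.lam _ _ inst i (AdjoinRoot.root (KRR.extPoly P c)) = 0)
    (hline : @LambdaRing.PosStructure.IsLine _ _ inst Pc (AdjoinRoot.root (KRR.extPoly P c)))
    (hpos : 1 ≤ r → AdjoinRoot.of (KRR.extPoly P c) c - AdjoinRoot.root (KRR.extPoly P c) ∈ (@LambdaRing.PosStructure.pos _ _ inst Pc))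
    (hsplit : @LambdaRing.HasSplitting _ _ inst Pc)
    (f : AdjoinRoot (KRR.extPoly P c) →ₗ[K] K)
    (hf : ∀ i : ℕ, i ≤ r → f (AdjoinRoot.root (KRR.extPoly P c) ^ i) = KRR.sigma i c)
    (z : AdjoinRoot (KRR.extPoly P c)) (hz : z * (1 - AdjoinRoot.root (KRR.extPoly P c)) = 0) :
    z = AdjoinRoot.of (KRR.extPoly P c) (f z) *
      @KRR.lamAlt _ _ inst Pc (AdjoinRoot.of (KRR.extPoly P c) c - AdjoinRoot.root (KRR.extPoly P c)) := by
  have hpw := Groth.Agent.Lambda.functional_pow P hc hr f hf
  have hq : ∀ i, @LambdaRing.LambdaOps.lam _ _ inst i (AdjoinRoot.of (KRR.extPoly P c) c - AdjoinRoot.root (KRR.extPoly P c)) =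
      ∑ k ∈ range (i + 1), (LambdaRing.LambdaOps.lam k c * (-1 : K) ^ (i - k)) • AdjoinRoot.root (KRR.extPoly P c) ^ (i - k) := by
    intro i
    letI := inst
    rw [← Groth.Agent.Lambda.coeff_lamSeries, sub_eq_add_neg, Groth.Agent.Lambda.lamSeries_add, Groth.Agent.Lambda.lamSeries_neg, Groth.Agent.Lambda.lamSeries_eq_lin hroot,
      Groth.Agent.Lambda.inv1_lin, PowerSeries.coeff_mul, Finset.Nat.sum_antidiagonal_eq_sum_range_succ
        (fun a b => PowerSeries.coeff a (lamSeries (AdjoinRoot.of (KRR.extPoly P c) c)) *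
          PowerSeries.coeff b (PowerSeries.mk fun k => (-AdjoinRoot.root (KRR.extPoly P c)) ^ k))]
    refine Finset.sum_congr rfl fun k _ => ?_
    rw [Groth.Agent.Lambda.coeff_lamSeries, PowerSeries.coeff_mk, ← hext.isLambdaHom, Algebra.smul_def, map_mul, map_pow, map_neg, map_one,
      AdjoinRoot.algebraMap_eq, mul_assoc, ← mul_pow, neg_one_mul]
  have hfl : ∀ i, f (@LambdaRing.LambdaOps.lam _ _ inst i (AdjoinRoot.of (KRR.extPoly P c) c - AdjoinRoot.root (KRR.extPoly P c))) =
      if i = 0 then 1 else 0 := by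
    intro i
    rw [hq, map_sum]
    simp only [map_smul, hpw, smul_eq_mul]
    have h := Groth.Agent.Lambda.sigma_rec c i
    split_ifs with h0
    · subst h0
      simpa using h
    · rw [if_neg h0] at h
      calc ∑ k ∈ range (i + 1), LambdaRing.LambdaOps.lam k c * (-1 : K) ^ (i - k) * KRR.sigma (i - k) c
          = (-1 : K) ^ i * ∑ k ∈ range (i + 1), (-1 : K) ^ k * LambdaRing.LambdaOps.lam k c * KRR.sigma (i - k) c := by
            rw [Finset.mul_sum]
            refine Finset.sum_congr rfl fun k hk => ?_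
            have := Finset.mem_range_succ_iff.1 hk
            rw [← mul_assoc, ← mul_assoc, ← pow_add, show i + k = (i - k) + 2 * k by omega, pow_add, pow_mul,
              neg_one_sq, one_pow, mul_one]
            ring
        _ = 0 := by rw [h, mul_zero]
  have hm : P.aug c = ((r + 1 : ℕ) : ℤ) := by rw [hr]; push_cast; ring
  haveI : Nontrivial K := P.aug.domain_nontrivial
  have hqrank : Pc.aug (AdjoinRoot.of (KRR.extPoly P c) c - (AdjoinRoot.root (KRR.extPoly P c))) = r := by
    rw [map_sub, hext.aug_comp, hline.2, hr]; ring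
  have halt : f (KRR.lamAlt Pc (AdjoinRoot.of (KRR.extPoly P c) c - (AdjoinRoot.root (KRR.extPoly P c)))) = 1 := by
    have hneg : ∀ k, ((-1 : AdjoinRoot (KRR.extPoly P c)) ^ k) = algebraMap K _ ((-1) ^ k) := fun k => by simp
    rw [KRR.lamAlt, map_sum, hqrank, Int.toNat_natCast]
    simp only [hneg, ← Algebra.smul_def, map_smul, hfl, smul_eq_mul, mul_ite, mul_one, mul_zero,
      Finset.sum_ite_eq', Finset.mem_range, Nat.succ_pos, if_true, pow_zero]
  set h : Polynomial K := ∑ i ∈ range (r + 1), Polynomial.C ((-1 : K) ^ i) *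
    ∑ k ∈ range (i + 1), Polynomial.C (LambdaRing.LambdaOps.lam k c * (-1 : K) ^ (i - k)) * Polynomial.X ^ (i - k) with hh
  have hhl : Polynomial.aeval (AdjoinRoot.root (KRR.extPoly P c)) h = KRR.lamAlt Pc (AdjoinRoot.of (KRR.extPoly P c) c - (AdjoinRoot.root (KRR.extPoly P c))) := by
    rw [KRR.lamAlt, hqrank, Int.toNat_natCast, hh, map_sum]
    refine Finset.sum_congr rfl fun i _ => ?_
    rw [map_mul, Polynomial.aeval_C, map_pow, map_neg, map_one, map_sum, hq i]
    congr 1
    exact Finset.sum_congr rfl fun k _ => by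
      rw [map_mul, Polynomial.aeval_C, map_pow, Polynomial.aeval_X, ← Algebra.smul_def]
  have hpdef : (KRR.extPoly P c) = ∑ i ∈ range (r + 1 + 1),
      Polynomial.C ((-1 : K) ^ i * LambdaRing.LambdaOps.lam i c) * Polynomial.X ^ (r + 1 - i) := by
    rw [KRR.extPoly, hm, Int.toNat_natCast]
  have hfac : (Polynomial.X - 1) * h = (KRR.extPoly P c) - Polynomial.C (Polynomial.eval 1 (KRR.extPoly P c)) := by
    have key : ∀ n, (Polynomial.X - 1) * (∑ i ∈ range n, Polynomial.C ((-1 : K) ^ i) *
        ∑ k ∈ range (i + 1), Polynomial.C (LambdaRing.LambdaOps.lam k c * (-1 : K) ^ (i - k)) * Polynomial.X ^ (i - k)) =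
        ∑ i ∈ range (n + 1), Polynomial.C ((-1 : K) ^ i * LambdaRing.LambdaOps.lam i c) * (Polynomial.X ^ (n - i) - 1) := by
      intro n
      induction n with
      | zero => simp
      | succ n ih =>
        rw [Finset.sum_range_succ, mul_add, ih, Finset.sum_range_succ _ (n + 1), Nat.sub_self, pow_zero, sub_self,
          mul_zero, add_zero, Finset.mul_sum, Finset.mul_sum, ← Finset.sum_add_distrib]
        refine Finset.sum_congr rfl fun i hi => ?_
        have := Finset.mem_range_succ_iff.1 hi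
        rw [show n + 1 - i = (n - i) + 1 by omega, pow_succ]
        simp only [map_mul, map_pow, map_neg, map_one]
        have hs : ((-1 : Polynomial K)) ^ n * (-1) ^ (n - i) = (-1) ^ i := by
          rw [← pow_add, show n + (n - i) = i + 2 * (n - i) by omega, pow_add, pow_mul, neg_one_sq, one_pow, mul_one]
        linear_combination ((Polynomial.X - 1) * Polynomial.X ^ (n - i) * Polynomial.C (LambdaRing.LambdaOps.lam i c)) * hs
    rw [hh, key, hpdef, Polynomial.eval_finsetSum, map_sum, ← Finset.sum_sub_distrib]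
    refine Finset.sum_congr rfl fun i _ => ?_
    simp [mul_sub]
  obtain ⟨Z0, rfl⟩ := AdjoinRoot.mk_surjective z
  obtain ⟨a, haeq⟩ : ∃ a : K, (Polynomial.X - 1) * (Z0 %ₘ (KRR.extPoly P c)) = Polynomial.C a * (KRR.extPoly P c) := by
    have hd : (KRR.extPoly P c) ∣ (Polynomial.X - 1) * (Z0 %ₘ (KRR.extPoly P c)) := by
      rw [← AdjoinRoot.mk_eq_zero, map_mul, ← AdjoinRoot.modByMonicHom_mk (Groth.Agent.Lambda.monic_extPoly P c)]
      rw [show AdjoinRoot.mk (KRR.extPoly P c) (AdjoinRoot.modByMonicHom (Groth.Agent.Lambda.monic_extPoly P c) (AdjoinRoot.mk (KRR.extPoly P c) Z0)) = AdjoinRoot.mk (KRR.extPoly P c) Z0 from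
        AdjoinRoot.mk_leftInverse (Groth.Agent.Lambda.monic_extPoly P c) _, map_sub, map_one, AdjoinRoot.mk_X, mul_comm,
        ← neg_sub, mul_neg, hz, neg_zero]
    obtain ⟨Q, hQ⟩ := hd
    refine ⟨Q.coeff 0, ?_⟩
    rw [hQ, mul_comm]
    congr 1
    refine Polynomial.eq_C_of_natDegree_le_zero ?_
    by_cases hQ0 : Q = 0
    · simp [hQ0]
    have hpd : (KRR.extPoly P c).natDegree = r + 1 := by rw [Groth.Agent.Lambda.natDegree_extPoly, hm, Int.toNat_natCast]
    have h2 : (Z0 %ₘ (KRR.extPoly P c)).natDegree < r + 1 := by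
      rw [← hpd]
      exact Polynomial.natDegree_modByMonic_lt Z0 (Groth.Agent.Lambda.monic_extPoly P c) (fun h1 => by simp [h1] at hpd)
    have h1 : ((Polynomial.X - 1) * (Z0 %ₘ (KRR.extPoly P c))).natDegree ≤ r + 1 := by
      have h3 : (Polynomial.X - 1 : Polynomial K).natDegree ≤ 1 := (Polynomial.natDegree_sub_le _ _).trans (by simp)
      exact Polynomial.natDegree_mul_le.trans (by omega)
    rw [hQ, ((Groth.Agent.Lambda.monic_extPoly P c)).natDegree_mul' hQ0, hpd] at h1
    omega
  have ha1 : a * Polynomial.eval 1 (KRR.extPoly P c) = 0 := by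
    have := congrArg (Polynomial.eval 1) haeq
    simpa using this.symm
  have hZ : Z0 %ₘ (KRR.extPoly P c) = Polynomial.C a * h := by
    have hmon : (Polynomial.X - 1 : Polynomial K).Monic := by simpa using Polynomial.monic_X_sub_C (1 : K)
    refine hmon.isRegular.left ?_
    show (Polynomial.X - 1) * _ = (Polynomial.X - 1) * _
    rw [haeq, mul_left_comm, hfac, mul_sub, ← map_mul, ha1, map_zero, sub_zero]
  have hz' : AdjoinRoot.mk (KRR.extPoly P c) Z0 = AdjoinRoot.of (KRR.extPoly P c) a * KRR.lamAlt Pc (AdjoinRoot.of (KRR.extPoly P c) c - (AdjoinRoot.root (KRR.extPoly P c))) := by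
    rw [← hhl, AdjoinRoot.aeval_eq, ← AdjoinRoot.mk_C, ← map_mul, ← hZ]
    exact (AdjoinRoot.mk_leftInverse (Groth.Agent.Lambda.monic_extPoly P c) _).symm
  have hfa : f (AdjoinRoot.mk (KRR.extPoly P c) Z0) = a := by
    rw [hz', show ∀ X : AdjoinRoot (KRR.extPoly P c), AdjoinRoot.of (KRR.extPoly P c) a * X = a • X from fun X => (Algebra.smul_def a X).symm, map_smul, halt, smul_eq_mul, mul_one]
  rw [hfa]
  exact hz'

end Groth.Agent.S3802
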