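import Groth.Statements.S3804
import Groth.Agent.Lambda.ElemRR
-- import your own Groth.Agent.* helpers here

set_option autoImplicit false
universe v u
open CategoryTheory CategoryTheory.Limits AlgebraicGeometry
attribute [local instance] HasDerivedCategory.standard
open scoped TensorProduct
open KRR

namespace Groth.Agent.S3804

open LambdaRing Finset
open scoped TensorProduct

theorem core {R : Type} [CommRing R] [Nontrivial R] {K : Type v} [CommRing K] [LambdaOps K] (P : PosStructure K) (hK : HasSplitting K P) (e : K)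
    (he : e ∈ P.pos) (r : ℕ) (hr : P.aug e = r + 1)
    [LambdaOps (AdjoinRoot (KRR.extPoly P e))]
    (Pe : PosStructure (AdjoinRoot (KRR.extPoly P e)))
    (hext : IsExtension P Pe (AdjoinRoot.of (KRR.extPoly P e)))
    (hline : Pe.IsLine (AdjoinRoot.root (KRR.extPoly P e)))
    (hsplit : HasSplitting (AdjoinRoot (KRR.extPoly P e)) Pe) (N : ℕ) (hN : gammaFiltration Pe N = ⊥)
    (f : AdjoinRoot (KRR.extPoly P e) →ₗ[K] K)
    (hf : ∀ i : ℕ, i ≤ r → f (AdjoinRoot.root (KRR.extPoly P e) ^ i) = KRR.sigma i e)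
    (linv : AdjoinRoot (KRR.extPoly P e)) (hlinv : linv * AdjoinRoot.root (KRR.extPoly P e) = 1)
    (j : ℕ) (hj : 1 ≤ j) (hjR : IsUnit (j : R)) :
    (∃ w : R ⊗[ℤ] AdjoinRoot (KRR.extPoly P e), w * ((1 : R) ⊗ₜ[ℤ] KRR.bott Pe j (AdjoinRoot.of (KRR.extPoly P e) e * linv)) = 1) ∧
    ∀ w : R ⊗[ℤ] AdjoinRoot (KRR.extPoly P e), w * ((1 : R) ⊗ₜ[ℤ] KRR.bott Pe j (AdjoinRoot.of (KRR.extPoly P e) e * linv)) = 1 →
      ∀ x : AdjoinRoot (KRR.extPoly P e),
        (1 : R) ⊗ₜ[ℤ] adams P j (f x) =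
          LinearMap.lTensor (R) f.toAddMonoidHom.toIntLinearMap
            ((j : R ⊗[ℤ] AdjoinRoot (KRR.extPoly P e)) * w * ((1 : R) ⊗ₜ[ℤ] adams Pe j x)) := by
  letI := Groth.Agent.Lambda.intOps
  have hAe := Groth.Agent.Lambda.isSpecial_of_splitting hsplit
  have hA := Groth.Agent.Lambda.isSpecial_of_splitting hK
  have hLf := Groth.Agent.Lambda.IsExtension.lHom hext
  have hlser : lamSeries linv = Groth.Agent.Lambda.lin linv := by
    have h1 : lamSeries (1 : AdjoinRoot (KRR.extPoly P e)) = Groth.Agent.Lambda.lin 1 := Groth.Agent.Lambda.lamSeries_eq_lin (Groth.Agent.Lambda.pos_lam_one Pe)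
    have hPl : ∀ (a : AdjoinRoot (KRR.extPoly P e)) (g : PowerSeries (AdjoinRoot (KRR.extPoly P e))), Groth.Agent.Lambda.CC g →
        Groth.Agent.Lambda.Pser (Groth.Agent.Lambda.lin a) g = PowerSeries.rescale a g := by
      intro a g hg
      obtain ⟨G', hG', rfl, -⟩ := Groth.Agent.Lambda.exists_cc_lift (Groth.Agent.Lambda.coverMap _) Groth.Agent.Lambda.coverMap_surjective hg
      obtain ⟨a', rfl⟩ := Groth.Agent.Lambda.coverMap_surjective a
      rw [← Groth.Agent.Lambda.map_lin, ← Groth.Agent.Lambda.map_Pser, ← Groth.Agent.Lambda.map_rescale']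
      congr 1
      refine Groth.Agent.Lambda.eq_of_psi Groth.Agent.Lambda.natTorsionFree_cover (Groth.Agent.Lambda.cc_Pser _ _) (Groth.Agent.Lambda.cc_rescale' hG' _) fun k hk => ?_
      rw [Groth.Agent.Lambda.psi_Pser (Groth.Agent.Lambda.cc_lin _) hG', Groth.Agent.Lambda.psi_lin _ k hk, Groth.Agent.Lambda.psi_rescale hG']
    have h := Groth.Agent.Lambda.Special.lamSeries_mul hAe (AdjoinRoot.root (KRR.extPoly P e)) linv
    rw [mul_comm (AdjoinRoot.root (KRR.extPoly P e)) linv, hlinv, h1, Groth.Agent.Lambda.lamSeries_eq_lin (Groth.Agent.Lambda.line_lam hline), hPl _ _ (Groth.Agent.Lambda.cc_lamSeries linv)] at h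
    have h2 := congrArg (PowerSeries.rescale linv) h
    rw [PowerSeries.rescale_rescale, mul_comm (AdjoinRoot.root (KRR.extPoly P e)) linv, hlinv, PowerSeries.rescale_one, Groth.Agent.Lambda.rescale_lin, mul_one] at h2
    exact h2.symm
  have hlaml : ∀ k, LambdaOps.lam k ((AdjoinRoot.of (KRR.extPoly P e)) e * linv) = (AdjoinRoot.of (KRR.extPoly P e)) (LambdaOps.lam k e) * linv ^ k := by
    intro k
    have hPl : Groth.Agent.Lambda.Pser (lamSeries ((AdjoinRoot.of (KRR.extPoly P e)) e)) (Groth.Agent.Lambda.lin linv) = PowerSeries.rescale linv (lamSeries ((AdjoinRoot.of (KRR.extPoly P e)) e)) := by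
      have h := Groth.Agent.Lambda.Pser_rescale (Groth.Agent.Lambda.cc_lamSeries ((AdjoinRoot.of (KRR.extPoly P e)) e)) (Groth.Agent.Lambda.cc_lin (1 : AdjoinRoot (KRR.extPoly P e))) 1 linv
      rw [PowerSeries.rescale_one, Groth.Agent.Lambda.rescale_lin, mul_one, one_mul] at h
      have h1 : Groth.Agent.Lambda.Pser (lamSeries ((AdjoinRoot.of (KRR.extPoly P e)) e)) (Groth.Agent.Lambda.lin 1) = lamSeries ((AdjoinRoot.of (KRR.extPoly P e)) e) := by
        rw [← Groth.Agent.Lambda.lamSeries_eq_lin (Groth.Agent.Lambda.pos_lam_one Pe), ← Groth.Agent.Lambda.Special.lamSeries_mul hAe, mul_one]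
      rw [h1] at h
      exact h
    rw [← Groth.Agent.Lambda.coeff_lamSeries, Groth.Agent.Lambda.Special.lamSeries_mul hAe, hlser, hPl, PowerSeries.coeff_rescale,
      Groth.Agent.Lambda.coeff_lamSeries, hLf.map_lam, mul_comm]
  have haugl : Pe.aug linv = 1 := by
    have h := congrArg Pe.aug hlinv
    rw [map_mul, hline.2, mul_one, map_one] at h
    exact h
  have haugt : (Pe.aug ((AdjoinRoot.of (KRR.extPoly P e)) e * linv)).toNat = r + 1 := by
    rw [map_mul, haugl, mul_one, hext.aug_comp, hr]; omega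
  set θ := KRR.bott Pe j ((AdjoinRoot.of (KRR.extPoly P e)) e * linv) with hθ
  have hθval : θ = MvPolynomial.aeval (fun k : Fin (r + 1) => (AdjoinRoot.of (KRR.extPoly P e)) (LambdaOps.lam (k.1 + 1) e) * linv ^ (k.1 + 1))
      (KRR.bottPoly j (r + 1)) := by
    rw [hθ, KRR.bott]
    generalize (Pe.aug ((AdjoinRoot.of (KRR.extPoly P e)) e * linv)).toNat = n at haugt ⊢
    subst haugt
    simp only [hlaml]
    rfl
  have hθaug : Pe.aug θ = (j : ℤ) ^ (r + 1) := by
    rw [hθval, Groth.Agent.Lambda.hom_aeval']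
    have hval : (fun k : Fin (r + 1) => Pe.aug ((AdjoinRoot.of (KRR.extPoly P e)) (LambdaOps.lam (k.1 + 1) e) * linv ^ (k.1 + 1))) =
        fun k : Fin (r + 1) => ((univ : Finset (Fin (r + 1))).val.map fun _ => (1 : ℤ)).esymm (k.1 + 1) := by
      funext k
      rw [map_mul, map_pow, haugl, one_pow, mul_one, hext.aug_comp, Groth.Agent.Lambda.aug_lam_pos hK he, hr,
        show ((r : ℤ) + 1).toNat = r + 1 by omega, Multiset.map_const', Multiset.esymm,
        Multiset.map_congr rfl (g := fun _ => (1 : ℤ)) fun t ht => Multiset.prod_eq_one fun a ha =>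
          Multiset.eq_of_mem_replicate (Multiset.subset_of_le (Multiset.mem_powersetCard.1 ht).1 ha)]
      rw [Multiset.map_const', Multiset.sum_replicate, Multiset.card_powersetCard, Multiset.card_replicate,
        Finset.card_val, Finset.card_univ, Fintype.card_fin, nsmul_eq_mul, mul_one]
    simp only [hval]
    have h2 : MvPolynomial.aeval (fun _ : Fin (r + 1) => (1 : ℤ))
        ((MvPolynomial.esymmAlgEquiv (Fin (r + 1)) ℤ (Fintype.card_fin _)
          (KRR.bottPoly j (r + 1)) : MvPolynomial (Fin (r + 1)) ℤ)) = (j : ℤ) ^ (r + 1) := by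
      rw [KRR.bottPoly, AlgEquiv.apply_symm_apply]
      simp [KRR.bottSym]
    rw [← h2]
    show _ = MvPolynomial.aeval _ (MvPolynomial.esymmAlgHom (Fin (r + 1)) ℤ (r + 1) (KRR.bottPoly j (r + 1))).val
    rw [MvPolynomial.esymmAlgHom_apply, MvPolynomial.aeval_eq_bind₁, MvPolynomial.aeval_bind₁]
    simp only [MvPolynomial.aeval_esymm_eq_multiset_esymm]
  have hnil : IsNilpotent (θ - ((j ^ (r + 1) : ℕ) : AdjoinRoot (KRR.extPoly P e))) := by
    refine ⟨N, ?_⟩
    have h0 : Pe.aug (θ - ((j ^ (r + 1) : ℕ) : AdjoinRoot (KRR.extPoly P e))) = 0 := by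
      rw [map_sub, map_natCast, hθaug, Nat.cast_pow, sub_self]
    generalize θ - ((j ^ (r + 1) : ℕ) : AdjoinRoot (KRR.extPoly P e)) = z at h0 ⊢
    have hz : ∀ n, z ^ n ∈ gammaFiltration Pe n := fun n => by
      induction n with
      | zero => simp [gammaFiltration]
      | succ n ih =>
        rw [Groth.Agent.Lambda.mem_gammaFiltration_iff] at ih ⊢
        rw [pow_succ]
        refine (Groth.Agent.Lambda.filFam Pe.aug).mul ih ?_
        rw [← Groth.Agent.Lambda.gamma_one_op z]
        exact Groth.Agent.Lambda.gamma_mem_gammaFil Pe.aug h0 1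
    have := hz N
    rw [hN, AddSubgroup.mem_bot] at this
    exact this
  have hunit : IsUnit ((1 : R) ⊗ₜ[ℤ] θ) := by
    let inc : AdjoinRoot (KRR.extPoly P e) →+* R ⊗[ℤ] AdjoinRoot (KRR.extPoly P e) :=
      (Algebra.TensorProduct.includeRight : AdjoinRoot (KRR.extPoly P e) →ₐ[ℤ] _).toRingHom
    show IsUnit (inc θ)
    have hju : IsUnit (inc ((j ^ (r + 1) : ℕ) : AdjoinRoot (KRR.extPoly P e))) := by
      rw [map_natCast, ← map_natCast (Algebra.TensorProduct.includeLeftRingHom :
        R →+* R ⊗[ℤ] AdjoinRoot (KRR.extPoly P e)), Nat.cast_pow]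
      exact (hjR.pow _).map _
    have := IsNilpotent.isUnit_add_left_of_commute (hnil.map inc) hju (Commute.all _ _)
    rwa [← map_add, add_sub_cancel] at this
  refine ⟨hunit.exists_left_inv, fun w hw => ?_⟩
  -- transfer to polynomials over `R ⊗ K`
  let inK : K →+* R ⊗[ℤ] K :=
    (Algebra.TensorProduct.includeRight : K →ₐ[ℤ] _).toRingHom
  set F := PowerSeries.map inK (lamSeries e) with hF
  have hFc : Groth.Agent.Lambda.CC F := (Groth.Agent.Lambda.cc_lamSeries e).map _
  have hFb : ∀ i, r + 1 < i → PowerSeries.coeff i F = 0 := fun i hi => by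
    rw [hF, PowerSeries.coeff_map, Groth.Agent.Lambda.coeff_lamSeries, P.lam_eq_zero e he i (by rw [hr]; omega), map_zero]
  obtain ⟨c, hc⟩ : ∃ c, c * PowerSeries.coeff (r + 1) F = 1 := by
    have := P.isUnit_lam e he
    rw [show (P.aug e).toNat = r + 1 by omega] at this
    rw [hF, PowerSeries.coeff_map, Groth.Agent.Lambda.coeff_lamSeries]
    exact (this.map inK).exists_left_inv
  have hpdef : Groth.Agent.Lambda.polP (r + 1) F = (KRR.extPoly P e).map inK := by
    rw [KRR.extPoly, show (P.aug e).toNat = r + 1 by omega, Groth.Agent.Lambda.polP, Polynomial.map_sum]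
    simp [hF, Groth.Agent.Lambda.coeff_lamSeries]
  set pF := Groth.Agent.Lambda.polP (r + 1) F with hpF
  have hmon : pF.Monic := by rw [hpdef]; exact (Groth.Agent.Lambda.monic_extPoly P e).map _
  haveI : Nontrivial (R ⊗[ℤ] K) :=
    (Algebra.TensorProduct.lift (AlgHom.id ℤ (R))
      ((Algebra.ofId ℤ (R)).comp P.aug.toIntAlgHom)
      (fun _ _ => Commute.all _ _)).toRingHom.domain_nontrivial
  haveI : Nontrivial K := P.aug.domain_nontrivial
  have hdeg : pF.natDegree = r + 1 := by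
    rw [hpdef, (Groth.Agent.Lambda.monic_extPoly P e).natDegree_map, Groth.Agent.Lambda.natDegree_extPoly]
    omega
  let gK : AdjoinRoot (KRR.extPoly P e) →+* AdjoinRoot pF := AdjoinRoot.lift ((AdjoinRoot.of pF).comp inK) (AdjoinRoot.root pF)
    (by rw [← Polynomial.eval₂_map, ← hpdef, AdjoinRoot.eval₂_root])
  let χ : R ⊗[ℤ] AdjoinRoot (KRR.extPoly P e) →ₐ[ℤ] AdjoinRoot pF :=
    Algebra.TensorProduct.productMap ((AdjoinRoot.of pF).comp Algebra.TensorProduct.includeLeftRingHom).toIntAlgHom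
      gK.toIntAlgHom
  have hgmk : ∀ g : Polynomial K, gK (AdjoinRoot.mk (KRR.extPoly P e) g) = AdjoinRoot.mk pF (g.map inK) := by
    intro g
    show AdjoinRoot.lift _ _ _ (AdjoinRoot.mk (KRR.extPoly P e) g) = _
    rw [AdjoinRoot.lift_mk, ← Polynomial.eval₂_map, ← AdjoinRoot.aeval_eq]
    rfl
  have hχ1 : ∀ y, χ ((1 : R) ⊗ₜ[ℤ] y) = gK y := fun y => by
    show Algebra.TensorProduct.productMap _ _ _ = _
    erw [Algebra.TensorProduct.productMap_apply_tmul, map_one, one_mul]
    rfl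
  have hgl : gK linv = AdjoinRoot.mk pF (Groth.Agent.Lambda.linvP r F c) := by
    have h1 : gK linv * AdjoinRoot.root pF = 1 := by
      rw [show AdjoinRoot.root pF = gK (AdjoinRoot.root (KRR.extPoly P e)) from (AdjoinRoot.lift_root _).symm, ← map_mul, hlinv, map_one]
    have h2 : AdjoinRoot.root pF * AdjoinRoot.mk pF (Groth.Agent.Lambda.linvP r F c) = 1 := by
      rw [← AdjoinRoot.mk_X, ← map_mul, Groth.Agent.Lambda.X_mul_linvP r hc, ← hpF, map_add, map_one, map_mul, AdjoinRoot.mk_self,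
        mul_zero, add_zero]
    calc gK linv = gK linv * (AdjoinRoot.root pF * AdjoinRoot.mk pF (Groth.Agent.Lambda.linvP r F c)) := by rw [h2, mul_one]
      _ = _ := by rw [← mul_assoc, h1, one_mul]
  have hgθ : gK θ = AdjoinRoot.mk pF (Groth.Agent.Lambda.thetaP j r F c) := by
    rw [hθval, Groth.Agent.Lambda.thetaP, Groth.Agent.Lambda.hom_aeval', Groth.Agent.Lambda.hom_aeval']
    congr 2
    funext k
    rw [map_mul, map_pow, hgl, ← AdjoinRoot.mk_C, hgmk, map_mul, map_pow, hF, PowerSeries.coeff_map,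
      Groth.Agent.Lambda.coeff_lamSeries, Polynomial.map_C]
  obtain ⟨wp, hwp⟩ := AdjoinRoot.mk_surjective (χ w)
  have hdvd : pF ∣ wp * Groth.Agent.Lambda.thetaP j r F c - 1 := by
    rw [← AdjoinRoot.mk_eq_zero, map_sub, map_mul, map_one, hwp, ← hgθ, ← hχ1, ← map_mul, hw, map_one, sub_self]
  have hcop : IsCoprime pF (Groth.Agent.Lambda.thetaP j r F c) := by
    obtain ⟨u, hu⟩ := hdvd
    exact ⟨-u, wp, by linear_combination hu⟩
  have hkey : ∀ n, (j : R ⊗[ℤ] K) * Groth.Agent.Lambda.phi0 F (wp * Polynomial.X ^ (n * j)) =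
      Groth.Agent.Lambda.sigS (Groth.Agent.Lambda.Rser j F) n := fun n =>
    Groth.Agent.Lambda.specialized_identity hj hFc hFb hc ⟨hdeg, hmon⟩ hcop
      (Polynomial.natDegree_sum_le_of_forall_le _ _ fun i _ =>
        (Polynomial.natDegree_C_mul_X_pow_le _ _).trans (Nat.sub_le _ i)) wp hdvd n
  let φA : AdjoinRoot pF → R ⊗[ℤ] K := fun z =>
    Groth.Agent.Lambda.phi0 F (AdjoinRoot.modByMonicHom hmon z)
  have hφmk : ∀ g, φA (AdjoinRoot.mk pF g) = Groth.Agent.Lambda.phi0 F g := by
    intro g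
    show Groth.Agent.Lambda.phi0 F (AdjoinRoot.modByMonicHom hmon (AdjoinRoot.mk pF g)) = _
    rw [AdjoinRoot.modByMonicHom_mk]
    conv_rhs => rw [← Polynomial.modByMonic_add_div g pF]
    rw [map_add, mul_comm pF, Groth.Agent.Lambda.phi0_polP_mul (r + 1) (Nat.succ_pos r) hFc hFb, add_zero]
  have hfphi : ∀ g, f (AdjoinRoot.mk (KRR.extPoly P e) g) = Groth.Agent.Lambda.phi0 (lamSeries e) g := by
    intro g
    induction g using Polynomial.induction_on' with
    | add p q hp hq => rw [map_add, map_add, hp, hq, map_add]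
    | monomial n a =>
      rw [← Polynomial.C_mul_X_pow_eq_monomial, Groth.Agent.Lambda.phi0_monomial, map_mul, map_pow, AdjoinRoot.mk_C,
        AdjoinRoot.mk_X, ← AdjoinRoot.algebraMap_eq, ← Algebra.smul_def, map_smul,
        Groth.Agent.Lambda.functional_pow P he hr f hf, smul_eq_mul]
      rfl
  have hcomm : ∀ z, LinearMap.lTensor (R) f.toAddMonoidHom.toIntLinearMap z = φA (χ z) := by
    intro z
    induction z with
    | zero => simp [φA]
    | add a b ha hb => rw [map_add, map_add, ha, hb]; simp [φA]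
    | tmul s y =>
      obtain ⟨g, rfl⟩ := AdjoinRoot.mk_surjective y
      rw [LinearMap.lTensor_tmul, show χ (s ⊗ₜ[ℤ] AdjoinRoot.mk (KRR.extPoly P e) g) =
        AdjoinRoot.mk pF (Polynomial.C (s ⊗ₜ[ℤ] (1 : K)) * g.map inK) by
          show Algebra.TensorProduct.productMap _ _ _ = _
          erw [Algebra.TensorProduct.productMap_apply_tmul, map_mul, AdjoinRoot.mk_C, ← hgmk]
          rfl,
        hφmk, ← Polynomial.smul_eq_C_mul, map_smul, smul_eq_mul, hF, ← Groth.Agent.Lambda.map_phi0 inK (Groth.Agent.Lambda.cc_lamSeries e)]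
      show s ⊗ₜ[ℤ] f (AdjoinRoot.mk (KRR.extPoly P e) g) = (s ⊗ₜ[ℤ] (1 : K)) * ((1 : R) ⊗ₜ[ℤ] _)
      rw [hfphi, Algebra.TensorProduct.tmul_mul_tmul, mul_one, one_mul]
  let ψK : K →+* K := Groth.Agent.Lambda.Special.adamsHom hA j hj
  have hψσ : ∀ n, inK (adams P j (KRR.sigma n e)) = Groth.Agent.Lambda.sigS (Groth.Agent.Lambda.Rser j F) n := by
    intro n
    rw [Groth.Agent.Lambda.adams_eq P hj]
    show inK (ψK (Groth.Agent.Lambda.sigS (lamSeries e) n)) = _
    rw [Groth.Agent.Lambda.map_sigS ψK (Groth.Agent.Lambda.cc_lamSeries e), Groth.Agent.Lambda.Special.map_adamsHom_lamSeries hA hj,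
      Groth.Agent.Lambda.map_sigS inK (Groth.Agent.Lambda.cc_Rser hj _), Groth.Agent.Lambda.map_Rser, hF]
  intro x
  obtain ⟨g, rfl⟩ := AdjoinRoot.mk_surjective x
  induction g using Polynomial.induction_on' with
  | add p q hp hq =>
    rw [map_add, map_add, ← Groth.Agent.Lambda.adamsRingHom_apply hK, ← Groth.Agent.Lambda.adamsRingHom_apply hsplit, map_add, map_add,
      Groth.Agent.Lambda.adamsRingHom_apply hK, Groth.Agent.Lambda.adamsRingHom_apply hK, Groth.Agent.Lambda.adamsRingHom_apply hsplit,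
      Groth.Agent.Lambda.adamsRingHom_apply hsplit, TensorProduct.tmul_add, TensorProduct.tmul_add, mul_add, map_add, hp, hq]
  | monomial n a =>
    have hψx : adams Pe j (AdjoinRoot.mk (KRR.extPoly P e) (Polynomial.monomial n a)) =
        AdjoinRoot.mk (KRR.extPoly P e) (Polynomial.C (adams P j a) * Polynomial.X ^ (n * j)) := by
      rw [← Polynomial.C_mul_X_pow_eq_monomial, map_mul, map_mul, map_pow, map_pow, AdjoinRoot.mk_C,
        AdjoinRoot.mk_C, AdjoinRoot.mk_X, ← Groth.Agent.Lambda.adamsRingHom_apply hsplit, map_mul, map_pow,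
        Groth.Agent.Lambda.adamsRingHom_apply hsplit, Groth.Agent.Lambda.adamsRingHom_apply hsplit, Groth.Agent.Lambda.adams_eq Pe hj,
        Groth.Agent.Lambda.adams_eq Pe hj, Groth.Agent.Lambda.adams_eq P hj, hLf.map_adamsOp, Groth.Agent.Lambda.adamsOp_line (Groth.Agent.Lambda.line_lam hline) j hj,
        ← pow_mul, Nat.mul_comm j n]
    rw [hcomm, map_mul, map_mul, map_natCast, hχ1, hψx, hgmk, ← hwp,
      ← map_natCast (AdjoinRoot.mk pF), ← map_mul, ← map_mul, hφmk, Polynomial.map_mul, Polynomial.map_C,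
      Polynomial.map_pow, Polynomial.map_X,
      show (j : Polynomial (R ⊗[ℤ] K)) * wp * (Polynomial.C (inK (adams P j a)) * Polynomial.X ^ (n * j)) =
        Polynomial.C (inK (adams P j a) * (j : R ⊗[ℤ] K)) * (wp * Polynomial.X ^ (n * j)) by
          rw [map_mul, map_natCast]; ring,
      ← Polynomial.smul_eq_C_mul, map_smul, smul_eq_mul, mul_assoc, hkey, ← hψσ, ← map_mul, hfphi,
      ← Polynomial.C_mul_X_pow_eq_monomial, Groth.Agent.Lambda.phi0_monomial, ← Groth.Agent.Lambda.adamsRingHom_apply hK, map_mul,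
      Groth.Agent.Lambda.adamsRingHom_apply hK, Groth.Agent.Lambda.adamsRingHom_apply hK]
    rfl

/-- For the model elementary projection: let K be a λ-ring with positive structure having the splitting
property, e positive with ε(e) = r + 1, K_e = K[T]/(p_e) with generator ℓ (a unit, inverse linv),
carrying a λ-structure extending that of K with λ^i(ℓ) = 0 for i ≥ 2 and a positive structure making
K ⟶ K_e an extension with ℓ a line element and e - ℓ positive (when r ≥ 1), having the splitting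
property, and with F^N K_e = 0 for some N (the published statement assumes instead that 1 - u is
nilpotent for all line elements u of the rings in play). Let f : K_e ⟶ K be the associated K-linear
functional (f(ℓ^i) = σ^i(e), i ≤ r) and j ≥ 1. The published statement's hypothesis 'j invertible in
K' is read here after tensoring with R = ℤ[1/j] (no λ-ring with an augmentation onto ℤ has j
invertible for j ≥ 2). Then 1 ⊗ θ^j(e ℓ⁻¹) is invertible in R ⊗ K_e, and for every inverse w of it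
and every x ∈ K_e: 1 ⊗ ψ^j(f(x)) = (R ⊗ f)(j · w · (1 ⊗ ψ^j(x))) in R ⊗ K. -/
theorem result (K : Type v) [CommRing K] [LambdaRing.LambdaOps K] (P : LambdaRing.PosStructure K) (hK : LambdaRing.HasSplitting K P) (e : K) (he : e ∈ P.pos) (r : ℕ) (hr : P.aug e = r + 1)
    (inst : LambdaRing.LambdaOps (AdjoinRoot (KRR.extPoly P e))) (Pe : @LambdaRing.PosStructure _ _ inst)
    (hext : @LambdaRing.IsExtension K _ _ _ _ inst P Pe (AdjoinRoot.of (KRR.extPoly P e)))
    (hroot : ∀ i : ℕ, 2 ≤ i → @LambdaRing.LambdaOps.lam _ _ inst i (AdjoinRoot.root (KRR.extPoly P e)) = 0)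
    (hline : @LambdaRing.PosStructure.IsLine _ _ inst Pe (AdjoinRoot.root (KRR.extPoly P e)))
    (hpos : 1 ≤ r → AdjoinRoot.of (KRR.extPoly P e) e - AdjoinRoot.root (KRR.extPoly P e) ∈ (@LambdaRing.PosStructure.pos _ _ inst Pe))
    (hsplit : @LambdaRing.HasSplitting _ _ inst Pe) (N : ℕ) (hN : @LambdaRing.gammaFiltration _ _ inst Pe N = ⊥)
    (f : AdjoinRoot (KRR.extPoly P e) →ₗ[K] K)
    (hf : ∀ i : ℕ, i ≤ r → f (AdjoinRoot.root (KRR.extPoly P e) ^ i) = KRR.sigma i e)
    (linv : AdjoinRoot (KRR.extPoly P e)) (hlinv : linv * AdjoinRoot.root (KRR.extPoly P e) = 1)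
    (j : ℕ) (hj : 1 ≤ j) :
    (∃ w : TensorProduct ℤ (Localization.Away (j : ℤ)) (AdjoinRoot (KRR.extPoly P e)), w * ((1 : Localization.Away (j : ℤ)) ⊗ₜ[ℤ] @KRR.bott _ _ inst Pe j (AdjoinRoot.of (KRR.extPoly P e) e * linv)) = 1) ∧
    ∀ w : TensorProduct ℤ (Localization.Away (j : ℤ)) (AdjoinRoot (KRR.extPoly P e)), w * ((1 : Localization.Away (j : ℤ)) ⊗ₜ[ℤ] @KRR.bott _ _ inst Pe j (AdjoinRoot.of (KRR.extPoly P e) e * linv)) = 1 →
      ∀ x : AdjoinRoot (KRR.extPoly P e),
        (1 : Localization.Away (j : ℤ)) ⊗ₜ[ℤ] LambdaRing.adams P j (f x) =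
          LinearMap.lTensor (Localization.Away (j : ℤ)) f.toAddMonoidHom.toIntLinearMap
            ((j : TensorProduct ℤ (Localization.Away (j : ℤ)) (AdjoinRoot (KRR.extPoly P e))) * w * ((1 : Localization.Away (j : ℤ)) ⊗ₜ[ℤ] @LambdaRing.adams _ _ inst Pe j x)) := by
  haveI : Nontrivial (Localization.Away (j : ℤ)) := (IsLocalization.injective (Localization.Away (j : ℤ))
    (powers_le_nonZeroDivisors_of_noZeroDivisors (show (j : ℤ) ≠ 0 by omega))).nontrivial
  exact @core (Localization.Away (j : ℤ)) _ _ K _ _ P hK e he r hr inst Pe hext hline hsplit N hN f hf linv hlinv j hj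
    (by have := IsLocalization.Away.algebraMap_isUnit (S := Localization.Away (j : ℤ)) (j : ℤ); rwa [map_natCast] at this)

end Groth.Agent.S3804
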