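import Groth.Statements.S3806
import Groth.Agent.PP16.Maps

set_option autoImplicit false
universe u
open scoped TensorProduct
attribute [local instance] PP16.mapAlgebra PP16.isScalarTower_mapAlgebra
open PP16

namespace Groth.Agent.S3806

/-- Let A → A' be a ring map, B an A-algebra and B' = B ⊗_A A'. Then the canonical map P^n_{B/A} ⊗_B B'
→ P^n_{B'/A'} induced by functoriality of principal parts is an isomorphism; that is, the square B →
P^n_{B/A}, B → B', with P^n_{B'/A'} in the corner, is a pushout of rings. -/
theorem result (n : ℕ) (A B A' B' : Type u) [CommRing A] [CommRing B] [Algebra A B]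
    [CommRing A'] [CommRing B'] [Algebra A' B'] [Algebra A A'] [Algebra B B'] [Algebra A B']
    [IsScalarTower A A' B'] [IsScalarTower A B B'] [Algebra.IsPushout A B A' B'] :
    Algebra.IsPushout B (PP16.P n A B) B' (PP16.P n A' B') := by
  let g : B' →ₐ[A] B' ⊗[B] PP16.P n A B :=
    Algebra.pushoutDesc B'
      ({ toRingHom := (Algebra.TensorProduct.includeRight :
            PP16.P n A B →ₐ[B] B' ⊗[B] PP16.P n A B).toRingHom.comp (PP16.dn n A B).toRingHom
         commutes' := fun a => by
           change (1 : B') ⊗ₜ[B] PP16.dn n A B (algebraMap A B a) = algebraMap A B' a ⊗ₜ[B] (1 : PP16.P n A B)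
           rw [AlgHom.commutes, IsScalarTower.algebraMap_apply A B (PP16.P n A B),
             IsScalarTower.algebraMap_apply A B B']
           exact (Groth.Agent.PP16.algebraMap_tmul_one _).symm } :
        B →ₐ[A] B' ⊗[B] PP16.P n A B)
      ((Algebra.TensorProduct.includeLeft : B' →ₐ[A] B' ⊗[B] PP16.P n A B).comp
        (IsScalarTower.toAlgHom A A' B'))
      fun _ _ => Groth.Agent.PP16.tensor_mul_comm _ _
  refine (Groth.Agent.PP16.isPushout_P n A B A' B' g
    (fun b => Algebra.pushoutDesc_left _ _ _ _ b) (fun a => Algebra.pushoutDesc_right _ _ _ _ a)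
    fun f f' h1 h2 => ?_).symm
  have hA : f.comp (algebraMap A B') = f'.comp (algebraMap A B') := by
    rw [IsScalarTower.algebraMap_eq A B B', ← RingHom.comp_assoc, h1, RingHom.comp_assoc]
  letI := (f.comp (algebraMap A B')).toAlgebra
  exact congrArg AlgHom.toRingHom (Algebra.IsPushout.algHom_ext (R := A) (S := B) (R' := A')
    (S' := B') (f := ({ toRingHom := f, commutes' := fun _ => rfl } : B' →ₐ[A] _))
    (g := { toRingHom := f', commutes' := fun a => (DFunLike.congr_fun hA a).symm })
    (AlgHom.ext fun a => DFunLike.congr_fun h2 a) (AlgHom.ext fun b => DFunLike.congr_fun h1 b))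
end Groth.Agent.S3806
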