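import Groth.Statements.S3807
import Groth.Agent.PP16.Maps

set_option autoImplicit false
universe u
open scoped TensorProduct
attribute [local instance] PP16.mapAlgebra PP16.isScalarTower_mapAlgebra
open PP16

namespace Groth.Agent.S3807

/-- Let B be an A-algebra, S a multiplicative subset of B and B' = S⁻¹B. Then the canonical map
S⁻¹P^n_{B/A} → P^n_{B'/A} induced by functoriality is an isomorphism: P^n_{B'/A} is the localization
of P^n_{B/A} at the image of S. -/
theorem result (n : ℕ) (A B B' : Type u) [CommRing A] [CommRing B] [Algebra A B]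
    [CommRing B'] [Algebra B B'] [Algebra A B'] [IsScalarTower A B B'] (S : Submonoid B) [IsLocalization S B'] :
    IsLocalization (S.map (algebraMap B (PP16.P n A B))) (PP16.P n A B') := by
  let f₀ : B →+* B' ⊗[B] PP16.P n A B :=
    (Algebra.TensorProduct.includeRight :
      PP16.P n A B →ₐ[B] B' ⊗[B] PP16.P n A B).toRingHom.comp (PP16.dn n A B).toRingHom
  have hu : ∀ y : S, IsUnit (f₀ y) := fun y => by
    have h := Groth.Agent.PP16.isUnit_tmul_add (B := B) (IsLocalization.map_units B' y)
      (Groth.Agent.PP16.isNilpotent_delta n A (y : B))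
    have e : f₀ (y : B) = algebraMap B B' y ⊗ₜ[B] (1 : PP16.P n A B) +
        (1 : B') ⊗ₜ[B] Ideal.Quotient.mk _ (Groth.Agent.PP16.delta A (y : B)) := by
      rw [Algebra.algebraMap_eq_smul_one, TensorProduct.smul_tmul, ← TensorProduct.tmul_add,
        ← Algebra.algebraMap_eq_smul_one]
      change (1 : B') ⊗ₜ[B] Ideal.Quotient.mk _ ((1 : B) ⊗ₜ[A] (y : B)) = _
      congr 1
      change _ = Ideal.Quotient.mk _ _ + Ideal.Quotient.mk _ _
      rw [← map_add]
      exact congrArg _ (Groth.Agent.PP16.one_tmul_eq A (y : B))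
    rw [e]; exact h
  let g : B' →ₐ[A] B' ⊗[B] PP16.P n A B :=
    { toRingHom := Groth.Agent.PP16.liftU S f₀ hu
      commutes' := fun a => by
        change Groth.Agent.PP16.liftU S f₀ hu (algebraMap A B' a) = algebraMap A B' a ⊗ₜ[B] (1 : PP16.P n A B)
        rw [IsScalarTower.algebraMap_apply A B B', Groth.Agent.PP16.liftU_eq]
        change (1 : B') ⊗ₜ[B] PP16.dn n A B (algebraMap A B a) = _
        rw [AlgHom.commutes, IsScalarTower.algebraMap_apply A B (PP16.P n A B)]
        exact (Groth.Agent.PP16.algebraMap_tmul_one _).symm }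
  have h := Groth.Agent.PP16.isPushout_P n A B A B' g (fun b => Groth.Agent.PP16.liftU_eq S f₀ hu b)
    g.commutes fun f f' h _ => IsLocalization.ringHom_ext S h
  exact (Algebra.isLocalization_iff_isPushout S B').2 h.symm
end Groth.Agent.S3807
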