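import Groth.Statements.S3812
import Groth.Agent.PP16.Basic
import Mathlib.RingTheory.MvPolynomial.Ideal

set_option autoImplicit false
universe u
open scoped TensorProduct
open PP16

namespace Groth.Agent.S3812

/-- Let B = A[T_i] be a polynomial algebra. There is an isomorphism of B-algebras from P^n_{B/A} onto
B[U_i]/(U)^(n+1), where (U) is the ideal generated by the new indeterminates, sending the principal
part d^n T_i to the class of T_i + U_i for every i (so d^n F(T) goes to the class of F(T + U)). -/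
theorem result (n : ℕ) (A : Type u) [CommRing A] (σ : Type u) :
    ∃ e : PP16.P n A (MvPolynomial σ A) ≃ₐ[MvPolynomial σ A]
        (MvPolynomial σ (MvPolynomial σ A) ⧸
          Ideal.span (Set.range (MvPolynomial.X : σ → MvPolynomial σ (MvPolynomial σ A))) ^ (n + 1)),
      ∀ i : σ, e (PP16.dn n A (MvPolynomial σ A) (MvPolynomial.X i)) =
        Ideal.Quotient.mk _ (MvPolynomial.C (MvPolynomial.X i : MvPolynomial σ A) +
          (MvPolynomial.X i : MvPolynomial σ (MvPolynomial σ A))) := by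
  open Groth.Agent.PP16 in
  let B := MvPolynomial σ A
  let J : Ideal (MvPolynomial σ B) := Ideal.span (Set.range (MvPolynomial.X : σ → MvPolynomial σ B))
  let I := KaehlerDifferential.ideal A B
  let T := MvPolynomial σ B ⧸ J ^ (n + 1)
  let ψ : B →ₐ[A] MvPolynomial σ B :=
    MvPolynomial.aeval fun i => MvPolynomial.C (MvPolynomial.X i) + MvPolynomial.X i
  let Ψ : B ⊗[A] B →ₐ[B] MvPolynomial σ B :=
    Algebra.TensorProduct.lift (Algebra.ofId B _) ψ fun _ _ => Commute.all _ _
  have hψX : ∀ i, ψ (MvPolynomial.X i) = MvPolynomial.C (MvPolynomial.X i : B) + MvPolynomial.X i :=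
    fun i => MvPolynomial.aeval_X _ i
  have hψ : ∀ b : B, ψ b - MvPolynomial.C b ∈ J := by
    intro b
    induction b using MvPolynomial.induction_on with
    | C a => simp [ψ, IsScalarTower.algebraMap_apply A B (MvPolynomial σ B), B,
        MvPolynomial.algebraMap_eq]
    | add p q hp hq => rw [map_add, map_add, add_sub_add_comm]; exact add_mem hp hq
    | mul_X p j hp =>
      rw [map_mul, map_mul, show ψ p * ψ (MvPolynomial.X j) - MvPolynomial.C p * MvPolynomial.C (MvPolynomial.X j) =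
        (ψ p - MvPolynomial.C p) * ψ (MvPolynomial.X j) +
          MvPolynomial.C p * (ψ (MvPolynomial.X j) - MvPolynomial.C (MvPolynomial.X j)) by ring]
      refine add_mem (Ideal.mul_mem_right _ _ hp) (Ideal.mul_mem_left _ _ ?_)
      rw [hψX, add_sub_cancel_left]
      exact Ideal.subset_span ⟨j, rfl⟩
  have hI : I.map Ψ ≤ J := by
    change (KaehlerDifferential.ideal A B).map Ψ ≤ J
    rw [ideal_eq_span A, Ideal.map_span, Ideal.span_le]
    rintro _ ⟨_, ⟨b, rfl⟩, rfl⟩
    simpa [Ψ, delta] using! hψ b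
  have hIn : ∀ x ∈ I ^ (n + 1), (Ideal.Quotient.mkₐ B (J ^ (n + 1))).comp Ψ x = 0 := fun x hx => by
    rw [AlgHom.comp_apply, Ideal.Quotient.mkₐ_eq_mk, Ideal.Quotient.eq_zero_iff_mem]
    exact Ideal.pow_right_mono hI _ (by rw [← Ideal.map_pow]; exact Ideal.mem_map_of_mem _ hx)
  let Z : σ → PP16.P n A B := fun i =>
    PP16.dn n A B (MvPolynomial.X i) - algebraMap B (PP16.P n A B) (MvPolynomial.X i)
  let g : MvPolynomial σ B →ₐ[B] PP16.P n A B := MvPolynomial.aeval Z
  have hg : J.map g ≤ I.map (Ideal.Quotient.mk (I ^ (n + 1))) := by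
    rw [Ideal.map_span, Ideal.span_le]
    rintro _ ⟨_, ⟨i, rfl⟩, rfl⟩
    simp only [g, MvPolynomial.aeval_X, SetLike.mem_coe, Z]
    exact Ideal.mem_map_of_mem (Ideal.Quotient.mk _) (delta_mem A (MvPolynomial.X i : B))
  have hgn : ∀ x ∈ J ^ (n + 1), g x = 0 := fun x hx => by
    have := Ideal.pow_right_mono hg (n + 1) (by rw [← Ideal.map_pow]; exact Ideal.mem_map_of_mem _ hx)
    rwa [← Ideal.map_pow, Ideal.map_quotient_self, Ideal.mem_bot] at this
  let F : PP16.P n A B →ₐ[B] T := Ideal.Quotient.liftₐ _ ((Ideal.Quotient.mkₐ B _).comp Ψ) hIn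
  let G : T →ₐ[B] PP16.P n A B := Ideal.Quotient.liftₐ _ g hgn
  have hF : ∀ b : B, F (PP16.dn n A B b) = Ideal.Quotient.mk _ (ψ b) := fun b => by
    change Ideal.Quotient.mk _ (Ψ ((1 : B) ⊗ₜ[A] b)) = _
    simp [Ψ]
  refine ⟨AlgEquiv.ofAlgHom F G ?_ ?_, fun i => ?_⟩
  · refine Ideal.Quotient.algHom_ext _ (MvPolynomial.algHom_ext fun i => ?_)
    change F (g (MvPolynomial.X i)) = Ideal.Quotient.mk _ (MvPolynomial.X i)
    simp only [g, MvPolynomial.aeval_X, Z]
    rw [map_sub, AlgHom.commutes, hF, ← Ideal.Quotient.mk_algebraMap, ← map_sub]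
    rw [hψX, MvPolynomial.algebraMap_eq, add_sub_cancel_left]
  · refine Ideal.Quotient.algHom_ext _ (Algebra.TensorProduct.ext (Algebra.ext_id _ _ _) ?_)
    refine MvPolynomial.algHom_ext fun i => ?_
    change G (F (PP16.dn n A B (MvPolynomial.X i))) = PP16.dn n A B (MvPolynomial.X i)
    rw [hF]
    change g (ψ (MvPolynomial.X i)) = _
    rw [hψX, map_add, MvPolynomial.aeval_X]
    rw [show g (MvPolynomial.C (MvPolynomial.X i : B)) = algebraMap B _ (MvPolynomial.X i) from g.commutes _]
    exact add_sub_cancel _ _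
  · refine (hF _).trans ?_
    rw [hψX]

end Groth.Agent.S3812
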