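import Groth.Statements.S3818
import Groth.Agent.PP16.MonBasis

set_option autoImplicit false
universe u
open scoped TensorProduct
open scoped BigOperators
open PP16

namespace Groth.Agent.S3818

/-- Last assertion (affine form, finite family): let B be an A-algebra, z_1, …, z_r elements of B whose
differentials generate the module of differentials, and (D_p) a family of differential operators B →
B (each of some finite order) with D_p(z^q) = (∏ binom(q_i, p_i)) z^(q-p). Then D_p has order at
most |p|, and every differential operator B → B of order at most m relative to A can be written in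
exactly one way as a B-linear combination ∑_{|p| ≤ m} a_p D_p. -/
theorem result (A B : Type u) [CommRing A] [CommRing B] [Algebra A B]
    (ι : Type) [Fintype ι] [DecidableEq ι] (z : ι → B)
    (hz : Submodule.span B (Set.range fun i => KaehlerDifferential.D A B (z i)) = ⊤)
    (Dp : (ι → ℕ) → (B →ₗ[A] B)) (hD : ∀ p, ∃ k : ℕ, Diff16.IsDiffOpLE A B B B k (Dp p))
    (hDz : ∀ p q : ι → ℕ, Dp p (∏ i, z i ^ q i) =
        ((∏ i, Nat.choose (q i) (p i) : ℕ) : B) * ∏ i, z i ^ (q i - p i)) :
    (∀ p, Diff16.IsDiffOpLE A B B B (∑ i, p i) (Dp p)) ∧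
      ∀ (m : ℕ) (D : B →ₗ[A] B), Diff16.IsDiffOpLE A B B B m D →
        ∃! a : {p : ι → ℕ // ∑ i, p i ≤ m} →₀ B, D = a.sum fun p c => c • Dp p.1 := by
  refine ⟨fun p => Groth.Agent.PP16.dp_order A z hz Dp hD hDz _ p rfl, fun m D hDm => ?_⟩
  let _ : Fintype {p : ι → ℕ // ∑ i, p i ≤ m} :=
    Fintype.subtype (Groth.Agent.PP16.degLE ι m) fun p => Groth.Agent.PP16.mem_degLE
  have hlin : ∀ a : {p : ι → ℕ // ∑ i, p i ≤ m} →₀ B, ∀ q : {p : ι → ℕ // ∑ i, p i ≤ m},
      Groth.Agent.PP16.linB A (a.sum fun p c => c • Dp p.1) (Groth.Agent.PP16.deltaPow A z q.1) = a q := by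
    intro a q
    have e : ∀ (c : B) (E : B →ₗ[A] B) (x : B ⊗[A] B),
        Groth.Agent.PP16.linB A (c • E) x = c * Groth.Agent.PP16.linB A E x := fun c E x => by
      induction x using TensorProduct.induction_on with
      | zero => simp
      | tmul s t => simp [Groth.Agent.PP16.linB_apply, Groth.Agent.Diff16.linearize_tmul, mul_left_comm]
      | add x y hx hy => rw [map_add, map_add, hx, hy, mul_add]
    have esum : ∀ (S : Finset {p : ι → ℕ // ∑ i, p i ≤ m}) (x : B ⊗[A] B),
        Groth.Agent.PP16.linB A (∑ p ∈ S, a p • Dp p.1) x =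
          ∑ p ∈ S, a p * Groth.Agent.PP16.linB A (Dp p.1) x := fun S x => by
      induction x using TensorProduct.induction_on with
      | zero => simp
      | tmul s t => simp [Groth.Agent.PP16.linB_apply, Groth.Agent.Diff16.linearize_tmul,
          LinearMap.sum_apply, Finset.mul_sum, mul_left_comm]
      | add x y hx hy =>
        simp only [map_add, hx, hy, mul_add, Finset.sum_add_distrib]
    rw [show (a.sum fun p c => c • Dp p.1) = ∑ p, a p • Dp p.1 from Finsupp.sum_fintype _ _ (fun i => zero_smul B _), esum, Finset.sum_eq_single q]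
    · rw [Groth.Agent.PP16.linB_dp_deltaPow A z hz Dp hD hDz _ _ _ rfl, if_pos rfl, mul_one]
    · intro p _ hp
      rw [Groth.Agent.PP16.linB_dp_deltaPow A z hz Dp hD hDz _ _ _ rfl,
        if_neg (fun h => hp (Subtype.ext h.symm)), mul_zero]
    · simp
  refine ⟨Finsupp.equivFunOnFinite.symm fun p =>
    Groth.Agent.PP16.linB A D (Groth.Agent.PP16.deltaPow A z p.1), ?_, ?_⟩
  · set a := Finsupp.equivFunOnFinite.symm fun p : {p : ι → ℕ // ∑ i, p i ≤ m} =>
      Groth.Agent.PP16.linB A D (Groth.Agent.PP16.deltaPow A z p.1) with ha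
    set E := a.sum fun p c => c • Dp p.1 with hE
    have hEm : Diff16.IsDiffOpLE A B B B m E :=
      Groth.Agent.Diff16.IsDiffOpLE.sum a.support _ fun p _ => Groth.Agent.Diff16.IsDiffOpLE.smul _
        (Groth.Agent.Diff16.IsDiffOpLE.mono p.2 (Groth.Agent.PP16.dp_order A z hz Dp hD hDz _ p.1 rfl))
    refine LinearMap.ext fun b => ?_
    have h1 : ∀ x, Groth.Agent.PP16.linB A D x = Groth.Agent.PP16.linB A E x := by
      intro x
      obtain ⟨s, hs, r, hr, rfl⟩ := Submodule.mem_sup.1
        (Groth.Agent.PP16.top_le_monomials A z hz m (Submodule.mem_top (x := x)))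
      rw [map_add, map_add, Groth.Agent.PP16.linB_zero_of_le A hDm le_rfl hr,
        Groth.Agent.PP16.linB_zero_of_le A hEm le_rfl hr, add_zero, add_zero]
      induction hs using Submodule.span_induction with
      | mem y hy =>
        obtain ⟨q, hq, rfl⟩ := hy
        rw [hE, hlin a ⟨q, hq⟩, ha]
        rfl
      | zero => simp
      | add u v _ _ hu hv => rw [map_add, map_add, hu, hv]
      | smul c u _ hu => rw [map_smul, map_smul, hu]
    have h2 := h1 ((1 : B) ⊗ₜ[A] b)
    simp only [Groth.Agent.PP16.linB_apply, Groth.Agent.Diff16.linearize_tmul, one_smul] at h2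
    exact h2
  · intro a' ha'
    refine Finsupp.ext fun q => ?_
    simp only [Finsupp.coe_equivFunOnFinite_symm]
    rw [← hlin a' q, ← ha']
end Groth.Agent.S3818
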