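import Groth.Statements.S3825
import Groth.Agent.QReg.Basic

set_option autoImplicit false
universe u
open QReg16

namespace Groth.Agent.S3825

/-- a) iff c) (affine local form): let A be a local ring and I a proper ideal generated by some
quasi-regular sequence. For a finite family (f_i) of elements of I, the following are equivalent:
(a) (f_i) is a quasi-regular sequence generating I; (c) the classes of the f_i form a basis of the
A/I-module I/I² (equivalently, b): (f_i) is a minimal system of generators of I). -/
theorem result {A : Type u} [CommRing A] [IsLocalRing A]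
    (I : Ideal A) (hI : I ≤ IsLocalRing.maximalIdeal A)
    (hq : ∃ (r : ℕ) (g : Fin r → A), CAlgX.IsQuasiRegular g ∧ Ideal.span (Set.range g) = I)
    {m : ℕ} (f : Fin m → I) :
    (CAlgX.IsQuasiRegular (fun i => (f i : A)) ∧ Ideal.span (Set.range fun i => (f i : A)) = I) ↔
      (LinearIndependent (A ⧸ I) (fun i => I.toCotangent (f i)) ∧
        Submodule.span (A ⧸ I) (Set.range fun i => I.toCotangent (f i)) = ⊤) := by
  classical
  obtain ⟨r, g, hg, hgI⟩ := hq
  haveI : Nontrivial (A ⧸ I) := Ideal.Quotient.nontrivial_iff.2 fun h =>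
    (IsLocalRing.maximalIdeal.isMaximal A).ne_top (top_le_iff.1 (h ▸ hI))
  have hbasis : ∀ {k : ℕ} (e : Fin k → I), CAlgX.IsQuasiRegular (fun i => (e i : A)) →
      Ideal.span (Set.range fun i => (e i : A)) = I →
      LinearIndependent (A ⧸ I) (fun i => I.toCotangent (e i)) ∧
        Submodule.span (A ⧸ I) (Set.range fun i => I.toCotangent (e i)) = ⊤ := by
    intro k e he hsp
    refine ⟨Fintype.linearIndependent_iff.2 fun c hc i => ?_, ?_⟩
    · choose c' hc' using fun j => Ideal.Quotient.mk_surjective (c j)
      rw [← hc' i, Ideal.Quotient.eq_zero_iff_mem]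
      refine hsp.le (Groth.Agent.QReg.coeff_mem_of_sum_mem_sq he c' ?_ i)
      rw [hsp]
      have h0 : I.toCotangent (∑ j, c' j • e j) = 0 := by
        rw [map_sum, ← hc]
        refine Finset.sum_congr rfl fun j _ => ?_
        rw [map_smul, ← hc' j, ← algebraMap_smul (A ⧸ I) (c' j)]
        rfl
      rw [Ideal.toCotangent_eq_zero] at h0
      simpa [Submodule.coe_sum] using h0
    · rw [eq_top_iff]
      intro v _
      obtain ⟨⟨x, hx⟩, rfl⟩ := I.toCotangent_surjective v
      obtain ⟨c, hc⟩ := (Submodule.mem_span_range_iff_exists_fun A).1 (hsp.symm ▸ hx :)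
      have : I.toCotangent ⟨x, hx⟩ = ∑ j, c j • I.toCotangent (e j) := by
        rw [show (⟨x, hx⟩ : I) = ∑ j, c j • e j from Subtype.ext (by simp [Submodule.coe_sum, ← hc]),
          map_sum]
        simp
      rw [this]
      refine Submodule.sum_mem _ fun j _ => ?_
      rw [← algebraMap_smul (A ⧸ I) (c j)]
      exact Submodule.smul_mem _ _ (Submodule.subset_span ⟨j, rfl⟩)
  constructor
  · exact fun h => hbasis f h.1 h.2
  · rintro ⟨hli, hsp⟩
    let g' : Fin r → I := fun i => ⟨g i, hgI ▸ Ideal.subset_span (Set.mem_range_self i)⟩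
    obtain ⟨hli', hsp'⟩ := hbasis g' hg hgI
    obtain rfl : m = r := by
      have h1 := Module.finrank_eq_card_basis (Module.Basis.mk hli hsp.ge)
      have h2 := Module.finrank_eq_card_basis (Module.Basis.mk hli' hsp'.ge)
      rw [h1, Fintype.card_fin, Fintype.card_fin] at h2
      exact h2
    have hspan : Ideal.span (Set.range fun i => (f i : A)) = I := by
      refine le_antisymm (Ideal.span_le.2 (Set.range_subset_iff.2 fun i => (f i).2)) ?_
      refine Submodule.le_of_le_smul_of_le_jacobson_bot
        (hgI ▸ Submodule.fg_span (Set.finite_range g))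
        (hI.trans (IsLocalRing.maximalIdeal_le_jacobson ⊥)) ?_
      intro x hx
      have hmem : I.toCotangent ⟨x, hx⟩ ∈
          Submodule.span (A ⧸ I) (Set.range fun i => I.toCotangent (f i)) := hsp ▸ trivial
      obtain ⟨c, hc⟩ := (Submodule.mem_span_range_iff_exists_fun (A ⧸ I)).1 hmem
      choose c' hc' using fun j => Ideal.Quotient.mk_surjective (c j)
      have h0 : I.toCotangent (⟨x, hx⟩ - ∑ j, c' j • f j) = 0 := by
        rw [map_sub, map_sum, ← hc, sub_eq_zero]
        refine Finset.sum_congr rfl fun j _ => ?_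
        rw [map_smul, ← hc' j, ← algebraMap_smul (A ⧸ I) (c' j)]
        rfl
      rw [Ideal.toCotangent_eq_zero] at h0
      refine Submodule.mem_sup.2 ⟨∑ j, c' j * (f j : A), Submodule.sum_mem _ fun j _ =>
        Ideal.mul_mem_left _ _ (Ideal.subset_span (Set.mem_range_self j)), _, ?_, add_sub_cancel _ x⟩
      rw [smul_eq_mul, ← pow_two]
      simpa [Submodule.coe_sum] using h0
    exact ⟨Groth.Agent.QReg.isQuasiRegular_of_span_eq g _ hg (hspan.trans hgI.symm), hspan⟩

end Groth.Agent.S3825
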