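import Groth.Statements.S3829
import Groth.Agent.Omega.QuasiSmoothScheme

set_option autoImplicit false
universe u
open CategoryTheory CategoryTheory.Limits AlgebraicGeometry TopologicalSpace
open Unram17

namespace Groth.Agent.S3829

/-- c) implies a) (case of a closed immersion): let f : X → S and h : Y → S be locally of finite
presentation, j : Y → X a closed immersion over S and y a point of Y. If h is smooth on a
neighbourhood of y and, on some affine open neighbourhood of j(y) in X, the ideal of j is generated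
by a regular sequence (j is a regular immersion near y), then f is smooth on an open neighbourhood
of j(y). -/
theorem result {X Y S : Scheme.{u}} (f : X ⟶ S) (h : Y ⟶ S)
    [LocallyOfFinitePresentation f] [LocallyOfFinitePresentation h] (j : Y ⟶ X) [IsClosedImmersion j]
    (hj : j ≫ f = h) (y : ↥Y) (hy : ∃ V : Y.Opens, y ∈ V ∧ Smooth (V.ι ≫ h))
    (hreg : ∃ (U : X.Opens) (hU : IsAffineOpen U), j y ∈ U ∧
      ∃ rs : List Γ(X, U), RingTheory.Sequence.IsRegular Γ(X, U) rs ∧ j.ker.ideal ⟨U, hU⟩ = Ideal.ofList rs) :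
    ∃ U : X.Opens, j y ∈ U ∧ Smooth (U.ι ≫ f) := by
  obtain ⟨U, hU, hyU, rs, hrs, hker⟩ := hreg
  rw [Scheme.Hom.ker_apply] at hker
  refine ⟨f.smoothLocus, Omega.QuasiSmooth.mem_smoothLocus_of_quasi f j h hj y
    (Omega.SmoothPoint.mem_smoothLocus_of_nhd h hy)
    ⟨⟨U, hU⟩, hyU, inferInstance, rs, Omega.quasi_of_isRegular hrs, hker⟩, ?_⟩
  rw [← Scheme.Hom.smoothLocus_eq_top_iff, ← Scheme.Hom.preimage_smoothLocus_eq]
  exact f.smoothLocus.ι_preimage_self

end Groth.Agent.S3829
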