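import Groth.Statements.S3832
import Groth.Agent.BlowUpSmooth.Scheme
import Groth.Agent.S0115
-- import your own Groth.Agent.* helpers here

set_option autoImplicit false
universe u
open CategoryTheory CategoryTheory.Limits AlgebraicGeometry TopologicalSpace
open CInt19

namespace Groth.Agent.S3832

/-- Let g : X → S be locally of finite presentation, 𝓘 a quasi-coherent ideal of O_X whose closed
subscheme Y is locally of finite presentation and flat over S, with O_X normally flat along Y at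
every point of Y, and let b : X' → X be a blowing-up along 𝓘 with exceptional divisor Y'. Suppose
moreover that some morphism Y' → Y compatible with b is smooth, and let x' be a point of Y' with
image x in Y. Then Y is smooth over S on a neighbourhood of x if and only if Y' is smooth over S on
a neighbourhood of x'; and when this holds, X' is smooth over S on a neighbourhood of x'. -/
theorem result {X X' S : Scheme.{u}} (g : X ⟶ S) [LocallyOfFinitePresentation g]
    (𝓘 : X.IdealSheafData) [LocallyOfFinitePresentation (𝓘.subschemeι ≫ g)] [Flat (𝓘.subschemeι ≫ g)]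
    (hnf : ∀ y : ↥𝓘.subscheme, EGA4.IsNormallyFlat (RingHom.ker (𝓘.subschemeι.stalkMap y).hom)
      ↑(X.presheaf.stalk (𝓘.subschemeι y)))
    (b : X' ⟶ X) (hb : BlowUp.IsBlowUp b 𝓘)
    (f : (BlowUp.exceptional b 𝓘).subscheme ⟶ 𝓘.subscheme)
    (hf : f ≫ 𝓘.subschemeι = (BlowUp.exceptional b 𝓘).subschemeι ≫ b) [Smooth f]
    (x' : ↥(BlowUp.exceptional b 𝓘).subscheme) :
    ((∃ V : 𝓘.subscheme.Opens, f x' ∈ V ∧ Smooth (V.ι ≫ 𝓘.subschemeι ≫ g)) ↔
        ∃ V' : (BlowUp.exceptional b 𝓘).subscheme.Opens, x' ∈ V' ∧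
          Smooth (V'.ι ≫ (BlowUp.exceptional b 𝓘).subschemeι ≫ b ≫ g)) ∧
      ((∃ V' : (BlowUp.exceptional b 𝓘).subscheme.Opens, x' ∈ V' ∧
          Smooth (V'.ι ≫ (BlowUp.exceptional b 𝓘).subschemeι ≫ b ≫ g)) →
        ∃ W : X'.Opens, (BlowUp.exceptional b 𝓘).subschemeι x' ∈ W ∧ Smooth (W.ι ≫ b ≫ g)) := by
  refine ⟨⟨?_, ?_⟩, fun ⟨V', hx', hV'⟩ => Groth.Agent.BlowUpSmooth.smooth_blowUp_near g 𝓘 b hb x' V' hx' hV'⟩
  · rintro ⟨V, hV, hVs⟩
    refine ⟨f ⁻¹ᵁ V, hV, ?_⟩
    rw [← reassoc_of% hf, ← morphismRestrict_ι_assoc]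
    infer_instance
  · rintro ⟨V', hx', hV'⟩
    let V : 𝓘.subscheme.Opens := ⟨f '' (V' : Set _), f.isOpenMap _ V'.2⟩
    have hle : V' ≤ f ⁻¹ᵁ V := fun z hz => ⟨z, hz, rfl⟩
    refine ⟨V, ⟨x', hx', rfl⟩, ?_⟩
    haveI : Smooth (f.resLE V V' hle) := by
      rw [show f.resLE V V' hle = (BlowUp.exceptional b 𝓘).subscheme.homOfLE hle ≫ (f ∣_ V) from rfl]
      infer_instance
    haveI : Surjective (f.resLE V V' hle) := ⟨fun v => by
      obtain ⟨z, hz, hzv⟩ := v.2
      refine ⟨⟨z, hz⟩, Subtype.ext ?_⟩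
      rw [← hzv]
      exact congrArg (fun φ => φ (⟨z, hz⟩ : V'.toScheme)) (Scheme.Hom.resLE_comp_ι f hle)⟩
    haveI : Smooth (f.resLE V V' hle ≫ V.ι ≫ 𝓘.subschemeι ≫ g) := by
      rw [Scheme.Hom.resLE_comp_ι_assoc, reassoc_of% hf]
      exact hV'
    exact Groth.Agent.S0115.result (f.resLE V V' hle) _

end Groth.Agent.S3832
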