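import Groth.Statements.S3833
-- import your own Groth.Agent.* helpers here

set_option autoImplicit false
universe u
open CategoryTheory CategoryTheory.Limits AlgebraicGeometry TopologicalSpace
open Rat20

namespace Groth.Agent.S3833

/-- Stated for a global section, the case of a section over an open subset U being the same statement
for the open subscheme U: let X be a scheme and s a global section of O_X which is regular in the
sense that its germ at every point x is a non-zero-divisor of the local ring O_{X,x} (on an affine
scheme this is the same as being a non-zero-divisor of Γ(X, O_X), but not in general). Then the open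
subset X_s where s is invertible is schematically dense in X. -/
theorem result (X : Scheme.{u}) (s : Γ(X, ⊤))
    (hs : ∀ x : ↥X, (X.presheaf.germ ⊤ x trivial s) ∈ nonZeroDivisors ↑(X.presheaf.stalk x)) :
    CInt.IsSchematicallyDense (X.basicOpen s) := by
  intro V
  rw [injective_iff_map_eq_zero]
  intro t ht
  apply TopCat.Presheaf.section_ext X.sheaf V
  intro x hx
  obtain ⟨U, hU, hxU, hUV⟩ := exists_isAffineOpen_mem_and_subset (X := X) hx
  replace hUV : U ≤ V := hUV
  obtain ⟨n, hn⟩ := exists_pow_mul_eq_zero_of_res_basicOpen_eq_zero_of_isAffineOpen X hU
    (X.presheaf.map (homOfLE hUV).op t) (X.presheaf.map (homOfLE (le_top : U ≤ ⊤)).op s) (by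
      have hle : X.basicOpen (X.presheaf.map (homOfLE (le_top : U ≤ ⊤)).op s) ≤ V ⊓ X.basicOpen s := by
        rw [Scheme.basicOpen_res]
        exact inf_le_inf_right _ hUV
      have := congrArg (fun a => (X.presheaf.map (homOfLE hle).op) a) ht
      simp only [map_zero] at this
      rw [← this]
      simp only [TopCat.Presheaf.restrictOpen, TopCat.Presheaf.restrict,
        ← CategoryTheory.ConcreteCategory.comp_apply, ← Functor.map_comp, ← op_comp]
      rfl)
  have hg := congrArg (fun a => X.presheaf.germ U x hxU a) hn
  simp only [map_mul, map_pow, map_zero, TopCat.Presheaf.germ_res_apply] at hg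
  have h1 : (X.presheaf.germ ⊤ x trivial s) ^ n ∈ nonZeroDivisors _ := pow_mem (hs x) n
  refine Eq.trans ?_ (map_zero (X.presheaf.germ V x hx).hom).symm
  exact (mul_right_mem_nonZeroDivisors_eq_zero_iff h1).mp ((mul_comm _ _).trans hg)

end Groth.Agent.S3833
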