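import Groth.Statements.S3835
import Groth.Agent.S3843
import Groth.Agent.SchDense.Basic
import Mathlib.AlgebraicGeometry.Sites.Fpqc

set_option autoImplicit false
universe u
open CategoryTheory CategoryTheory.Limits AlgebraicGeometry TopologicalSpace
open Rat20

namespace Groth.Agent.S3835

/-- Let Y be separated over S, X an S-scheme with a schematically dense open subscheme U, h : U → Y an
S-morphism (a representative of a pseudo-morphism from X to Y over S), and f : X' → X a flat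
morphism locally of finite presentation, X' being regarded as an S-scheme through f. Let x' be a
point of X' with image x = f(x'). If there is an S-morphism from an open neighbourhood V' of x' to Y
agreeing with h ∘ f on f⁻¹(U) ∩ V' (the pulled-back pseudo-morphism is defined at x'), then there is
an S-morphism from an open neighbourhood V of x to Y agreeing with h on U ∩ V (the pseudo-morphism
is defined at x). -/
theorem result {X X' Y S : Scheme.{u}} (pX : X ⟶ S) (pY : Y ⟶ S)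
    [IsSeparated pY] (U : X.Opens) (hU : CInt.IsSchematicallyDense U) (h : (U : Scheme.{u}) ⟶ Y)
    (hh : h ≫ pY = U.ι ≫ pX) (f : X' ⟶ X) [Flat f] [LocallyOfFinitePresentation f] (x' : ↥X')
    (V' : X'.Opens) (hx' : x' ∈ V') (v' : (V' : Scheme.{u}) ⟶ Y) (hv'S : v' ≫ pY = V'.ι ≫ f ≫ pX)
    (hv' : X'.homOfLE (inf_le_right : f ⁻¹ᵁ U ⊓ V' ≤ V') ≫ v' =
      X'.homOfLE (inf_le_left : f ⁻¹ᵁ U ⊓ V' ≤ f ⁻¹ᵁ U) ≫ (f ∣_ U) ≫ h) :
    ∃ (V : X.Opens) (v : (V : Scheme.{u}) ⟶ Y), f x' ∈ V ∧ v ≫ pY = V.ι ≫ pX ∧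
      X.homOfLE (inf_le_right : U ⊓ V ≤ V) ≫ v = X.homOfLE (inf_le_left : U ⊓ V ≤ U) ≫ h := by
  let V : X.Opens := ⟨f '' (V' : Set X'), f.isOpenMap _ V'.2⟩
  have hr : Set.range (V'.ι ≫ f) ⊆ Set.range V.ι := by
    rw [Scheme.Opens.range_ι]
    rintro _ ⟨t, rfl⟩
    exact ⟨t.1, t.2, rfl⟩
  let f' := IsOpenImmersion.lift V.ι (V'.ι ≫ f) hr
  have hf' : f' ≫ V.ι = V'.ι ≫ f := IsOpenImmersion.lift_fac _ _ _
  have hsq : IsPullback (𝟙 _) f' (V'.ι ≫ f) V.ι :=
    ⟨⟨by rw [Category.id_comp, hf']⟩, ⟨Limits.PullbackCone.IsLimit.mk _ (fun s => s.fst)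
      (fun s => Category.comp_id _)
      (fun s => by rw [← cancel_mono V.ι, Category.assoc, hf', s.condition])
      (fun s m h1 _ => (Category.comp_id m).symm.trans h1)⟩⟩
  haveI : Flat f' := MorphismProperty.of_isPullback hsq inferInstance
  haveI : LocallyOfFinitePresentation f' := MorphismProperty.of_isPullback hsq inferInstance
  haveI : Surjective f' := ⟨fun t => by
    obtain ⟨a, ha, hat⟩ := t.2
    refine ⟨⟨a, ha⟩, V.ι.isOpenEmbedding.injective ?_⟩
    rw [← Scheme.Hom.comp_apply, hf']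
    exact hat⟩
  have hcomp : ∀ {Z : Scheme.{u}} (g₁ g₂ : Z ⟶ (V' : Scheme.{u})),
      g₁ ≫ f' = g₂ ≫ f' → g₁ ≫ v' = g₂ ≫ v' := by
    intro Z g₁ g₂ hg
    suffices e : Limits.pullback.fst f' f' ≫ v' = Limits.pullback.snd f' f' ≫ v' by
      have := congrArg (Limits.pullback.lift g₁ g₂ hg ≫ ·) e
      simpa only [Limits.pullback.lift_fst_assoc, Limits.pullback.lift_snd_assoc] using this
    let p := Limits.pullback.fst f' f'
    let r := Limits.pullback.snd f' f'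
    let q := (p ≫ f') ≫ V.ι
    have hO := Groth.Agent.S3843.result q U hU
    have hp : q = p ≫ V'.ι ≫ f := by simp only [q, Category.assoc, hf']
    have hq : q = r ≫ V'.ι ≫ f := by
      show (p ≫ f') ≫ V.ι = _
      rw [Limits.pullback.condition, Category.assoc, hf']
    haveI : IsSeparated (Over.mk pY).hom := ‹IsSeparated pY›
    refine congrArg (·.left) (Groth.Agent.SchDense.eq_of_isSeparated (X := Over.mk (q ≫ pX))
      (Y := Over.mk pY) (q ⁻¹ᵁ U) hO (Over.homMk (p ≫ v') (by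
        show (p ≫ v') ≫ pY = q ≫ pX
        rw [hp, Category.assoc, hv'S]; simp only [Category.assoc]))
      (Over.homMk (r ≫ v') (by
        show (r ≫ v') ≫ pY = q ≫ pX
        rw [hq, Category.assoc, hv'S]; simp only [Category.assoc])) ?_)
    show (q ⁻¹ᵁ U).ι ≫ p ≫ v' = (q ⁻¹ᵁ U).ι ≫ r ≫ v'
    have key : ∀ a : Limits.pullback f' f' ⟶ (V' : Scheme.{u}), q = a ≫ V'.ι ≫ f →
        ∀ (ha : Set.range ((q ⁻¹ᵁ U).ι ≫ a ≫ V'.ι) ⊆ Set.range (f ⁻¹ᵁ U ⊓ V').ι),
          (q ⁻¹ᵁ U).ι ≫ a ≫ v' = (q ∣_ U) ≫ h := by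
      intro a hqa ha
      let ℓ := IsOpenImmersion.lift (f ⁻¹ᵁ U ⊓ V').ι _ ha
      have hℓ : ℓ ≫ (f ⁻¹ᵁ U ⊓ V').ι = (q ⁻¹ᵁ U).ι ≫ a ≫ V'.ι := IsOpenImmersion.lift_fac _ _ _
      have h1 : (q ⁻¹ᵁ U).ι ≫ a = ℓ ≫ X'.homOfLE inf_le_right := by
        rw [← cancel_mono V'.ι]
        simp only [Category.assoc, Scheme.homOfLE_ι, hℓ]
      have h2 : ℓ ≫ X'.homOfLE inf_le_left ≫ (f ∣_ U) = q ∣_ U := by
        rw [← cancel_mono U.ι]
        simp only [Category.assoc, morphismRestrict_ι, Scheme.homOfLE_ι_assoc]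
        rw [reassoc_of% hℓ, hqa]
      rw [reassoc_of% h1, hv', reassoc_of% h2]
    have hrange : ∀ a : Limits.pullback f' f' ⟶ (V' : Scheme.{u}), q = a ≫ V'.ι ≫ f →
        Set.range ((q ⁻¹ᵁ U).ι ≫ a ≫ V'.ι) ⊆ Set.range (f ⁻¹ᵁ U ⊓ V').ι := by
      intro a hqa
      rw [Scheme.Opens.range_ι]
      rintro _ ⟨t, rfl⟩
      refine ⟨?_, (a t.1).2⟩
      have := show q.base t.1 ∈ U from t.2
      rw [congrArg (fun m : _ ⟶ X => m.base t.1) hqa] at this
      exact this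
    rw [key p hp (hrange p hp), key r hq (hrange r hq)]
  let v := EffectiveEpi.desc f' v' hcomp
  have hv : f' ≫ v = v' := EffectiveEpi.fac f' v' hcomp
  refine ⟨V, v, ⟨x', hx', rfl⟩, ?_, ?_⟩
  · rw [← cancel_epi f', reassoc_of% hv, hv'S, reassoc_of% hf']
  · let j := X.homOfLE (inf_le_right : U ⊓ V ≤ V)
    let W := Limits.pullback f' j
    haveI : Surjective (Limits.pullback.snd f' j) :=
      MorphismProperty.pullback_snd (P := @Surjective) _ _ inferInstance
    rw [← cancel_epi (Limits.pullback.snd f' j)]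
    have h0 : Limits.pullback.fst f' j ≫ f' = Limits.pullback.snd f' j ≫ j := Limits.pullback.condition
    have hmem : ∀ t : W, f (V'.ι (Limits.pullback.fst f' j t)) ∈ U := by
      intro t
      have e : V'.ι ≫ f = f' ≫ V.ι := hf'.symm
      rw [← Scheme.Hom.comp_apply, e, ← Scheme.Hom.comp_apply, reassoc_of% h0]
      rw [Scheme.homOfLE_ι, Scheme.Hom.comp_apply]
      exact (Limits.pullback.snd f' j t).2.1
    have hl : Set.range (Limits.pullback.fst f' j ≫ V'.ι) ⊆ Set.range (f ⁻¹ᵁ U ⊓ V').ι := by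
      rw [Scheme.Opens.range_ι]
      rintro _ ⟨t, rfl⟩
      exact ⟨hmem t, (Limits.pullback.fst f' j t).2⟩
    let ℓ := IsOpenImmersion.lift (f ⁻¹ᵁ U ⊓ V').ι _ hl
    have hℓ : ℓ ≫ (f ⁻¹ᵁ U ⊓ V').ι = Limits.pullback.fst f' j ≫ V'.ι := IsOpenImmersion.lift_fac _ _ _
    have h1 : Limits.pullback.fst f' j = ℓ ≫ X'.homOfLE inf_le_right := by
      rw [← cancel_mono V'.ι]
      simp only [Category.assoc, Scheme.homOfLE_ι, hℓ]
    have h2 : ℓ ≫ X'.homOfLE inf_le_left ≫ (f ∣_ U) =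
        Limits.pullback.snd f' j ≫ X.homOfLE (inf_le_left : U ⊓ V ≤ U) := by
      rw [← cancel_mono U.ι]
      simp only [Category.assoc, morphismRestrict_ι, Scheme.homOfLE_ι, Scheme.homOfLE_ι_assoc]
      rw [reassoc_of% hℓ, ← hf', reassoc_of% h0, Scheme.homOfLE_ι]
    rw [← reassoc_of% h0, hv, h1, Category.assoc, hv', reassoc_of% h2]

end Groth.Agent.S3835
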