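import Groth.Statements.S3837
import Groth.Agent.RatMapExt.Basic
-- import your own Groth.Agent.* helpers here

set_option autoImplicit false
universe u
open CategoryTheory CategoryTheory.Limits AlgebraicGeometry TopologicalSpace
open Rat20

namespace Groth.Agent.S3837

/-- Let X be a normal S-scheme (locally integral with integrally closed local rings), Y an S-scheme
locally of finite type and separated over S, h : U → Y an S-morphism on a dense open subset (a
rational S-map ω), and f : X' → X a morphism locally of finite type and universally open with X'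
reduced, so that f⁻¹(U) is dense and ω ∘ f is defined. Then for x' in X' with image x, ω is defined
at x if and only if ω ∘ f is defined at x': some S-morphism on an open neighbourhood of x agrees
with h on U if and only if some S-morphism on an open neighbourhood of x' agrees with h ∘ f on the
preimage of U. -/
theorem result {X X' Y S : Scheme.{u}} (pX : X ⟶ S) (pY : Y ⟶ S)
    [LocallyOfFiniteType pY] [IsSeparated pY] (hX : ∀ y : ↥X, ∃ W : X.Opens, y ∈ W ∧ IsIntegral (W : Scheme.{u}))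
    (hXn : ∀ y : ↥X, IsIntegrallyClosed (X.presheaf.stalk y))
    (U : X.Opens) (hU : Dense (U : Set ↥X)) (h : (U : Scheme.{u}) ⟶ Y) (hh : h ≫ pY = U.ι ≫ pX)
    (f : X' ⟶ X) [LocallyOfFiniteType f] [UniversallyOpen f] [IsReduced X'] (x' : ↥X') :
    (∃ (V : X.Opens) (v : (V : Scheme.{u}) ⟶ Y), f x' ∈ V ∧ v ≫ pY = V.ι ≫ pX ∧
        X.homOfLE (inf_le_right : U ⊓ V ≤ V) ≫ v = X.homOfLE (inf_le_left : U ⊓ V ≤ U) ≫ h) ↔
      ∃ (V' : X'.Opens) (v' : (V' : Scheme.{u}) ⟶ Y), x' ∈ V' ∧ v' ≫ pY = V'.ι ≫ f ≫ pX ∧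
        X'.homOfLE (inf_le_right : f ⁻¹ᵁ U ⊓ V' ≤ V') ≫ v' =
          X'.homOfLE (inf_le_left : f ⁻¹ᵁ U ⊓ V' ≤ f ⁻¹ᵁ U) ≫ (f ∣_ U) ≫ h := by
  constructor
  · rintro ⟨V, v, hxV, hv, hres⟩
    refine ⟨f ⁻¹ᵁ V, (f ∣_ V) ≫ v, hxV, ?_, ?_⟩
    · rw [Category.assoc, hv, ← Category.assoc, morphismRestrict_ι, Category.assoc]
    · have hle : Set.range ((X'.homOfLE (inf_le_left : f ⁻¹ᵁ U ⊓ f ⁻¹ᵁ V ≤ f ⁻¹ᵁ U) ≫ (f ∣_ U)) ≫ U.ι) ⊆
          Set.range (U ⊓ V : X.Opens).ι := by
        rintro _ ⟨w, rfl⟩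
        rw [Scheme.Opens.range_ι, Category.assoc, morphismRestrict_ι, Scheme.homOfLE_ι_assoc]
        exact w.2
      let l := IsOpenImmersion.lift (U ⊓ V : X.Opens).ι _ hle
      have hl : l ≫ (U ⊓ V : X.Opens).ι = _ := IsOpenImmersion.lift_fac _ _ hle
      have h1 : l ≫ X.homOfLE inf_le_left =
          X'.homOfLE (inf_le_left : f ⁻¹ᵁ U ⊓ f ⁻¹ᵁ V ≤ f ⁻¹ᵁ U) ≫ (f ∣_ U) := by
        rw [← cancel_mono U.ι, Category.assoc, Scheme.homOfLE_ι, hl]
      have h2 : l ≫ X.homOfLE inf_le_right =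
          X'.homOfLE (inf_le_right : f ⁻¹ᵁ U ⊓ f ⁻¹ᵁ V ≤ f ⁻¹ᵁ V) ≫ (f ∣_ V) := by
        rw [← cancel_mono V.ι, Category.assoc, Scheme.homOfLE_ι, hl]
        simp only [Category.assoc, morphismRestrict_ι, Scheme.homOfLE_ι_assoc]
      rw [← reassoc_of% h2, hres, reassoc_of% h1]
  · rintro ⟨V', v', hxV', hv', hres⟩
    set x := f x' with hxdef
    obtain ⟨W₀, hxW₀, hW₀⟩ := hX x
    haveI := hW₀
    obtain ⟨W, hW, hxW, hWle⟩ := exists_isAffineOpen_mem_and_subset (x := x) (U := W₀) hxW₀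
    haveI : Nonempty (W : Scheme.{u}) := ⟨⟨x, hxW⟩⟩
    haveI : IsIntegral (W : Scheme.{u}) := isIntegral_of_isOpenImmersion (X.homOfLE hWle)
    haveI : IsDomain Γ(X, W) := W.topIso.symm.commRingCatIsoToRingEquiv.toMulEquiv.isDomain
    have hUW : ((U ⊓ W : X.Opens) : Set X).Nonempty :=
      (hU.inter_open_nonempty W W.2 ⟨x, hxW⟩).mono fun w hw => ⟨hw.2, hw.1⟩
    have hh' : U.ι ≫ pX = h ≫ pY := hh.symm
    set g := pullback.lift U.ι h hh' with hg
    let π : pullback (f ≫ pX) pY ⟶ pullback pX pY :=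
      pullback.lift (pullback.fst (f ≫ pX) pY ≫ f) (pullback.snd (f ≫ pX) pY)
        (by rw [Category.assoc, pullback.condition])
    have hπ : IsPullback π (pullback.fst (f ≫ pX) pY) (pullback.fst pX pY) f := by
      refine IsPullback.of_right (h₁₂ := pullback.snd pX pY) (v₁₃ := pY) (h₂₂ := pX) ?_ ?_
        (IsPullback.of_hasPullback pX pY).flip
      · have : π ≫ pullback.snd pX pY = pullback.snd (f ≫ pX) pY := pullback.lift_snd _ _ _
        rw [this]
        exact (IsPullback.of_hasPullback (f ≫ pX) pY).flip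
      · exact pullback.lift_fst _ _ _
    haveI : UniversallyOpen π := MorphismProperty.of_isPullback hπ.flip ‹UniversallyOpen f›
    have hh'' : (f ⁻¹ᵁ U).ι ≫ f ≫ pX = ((f ∣_ U) ≫ h) ≫ pY := by
      rw [Category.assoc, hh, ← Category.assoc, ← morphismRestrict_ι, Category.assoc]
    set g' := pullback.lift (f ⁻¹ᵁ U).ι ((f ∣_ U) ≫ h) hh'' with hg'
    have hgπ : (f ∣_ U) ≫ g = g' ≫ π := by
      apply pullback.hom_ext
      · rw [Category.assoc, Category.assoc, hg, hg', pullback.lift_fst, pullback.lift_fst]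
        erw [pullback.lift_fst_assoc]
        exact morphismRestrict_ι f U
      · rw [Category.assoc, Category.assoc, hg, hg', pullback.lift_snd, pullback.lift_snd]
        erw [pullback.lift_snd]
    have hpb : IsPullback (f ∣_ U) g' g π := by
      refine IsPullback.of_bot ?_ hgπ hπ
      rw [hg, hg', pullback.lift_fst, pullback.lift_fst]
      exact isPullback_morphismRestrict f U
    have hrange : π ⁻¹' Set.range g = Set.range g' := by
      refine Set.Subset.antisymm ?_ ?_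
      · rintro p ⟨w, hw⟩
        obtain ⟨q, hq, -⟩ := Scheme.Pullback.exists_preimage_pullback (f := π) (g := g) p w hw.symm
        refine ⟨hpb.flip.isoPullback.inv q, ?_⟩
        rw [← Scheme.Hom.comp_apply, hpb.flip.isoPullback_inv_fst, hq]
      · rintro _ ⟨w, rfl⟩
        exact ⟨(f ∣_ U) w, by rw [← Scheme.Hom.comp_apply, hgπ, Scheme.Hom.comp_apply]⟩
    have hv'' : V'.ι ≫ f ≫ pX = v' ≫ pY := hv'.symm
    set γ := pullback.lift V'.ι v' hv'' with hγ
    -- over `V'` the closure of the graph is the graph of `v'`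
    have hclosed : ∀ p ∈ closure (Set.range g'), pullback.fst (f ≫ pX) pY p ∈ V' → p ∈ Set.range γ := by
      intro p hp hpV
      let O := pullback.fst (f ≫ pX) pY ⁻¹ᵁ V'
      let w' : (V' : Scheme.{u}) ⟶ O := IsOpenImmersion.lift O.ι γ (by
        rintro _ ⟨t, rfl⟩
        rw [Scheme.Opens.range_ι]
        show pullback.fst (f ≫ pX) pY (γ t) ∈ V'
        rw [← Scheme.Hom.comp_apply, hγ, pullback.lift_fst]
        exact t.2)
      have hw' : w' ≫ O.ι = γ := IsOpenImmersion.lift_fac _ _ _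
      have hid : w' ≫ (pullback.fst (f ≫ pX) pY ∣_ V') = 𝟙 _ := by
        rw [← cancel_mono V'.ι, Category.assoc, morphismRestrict_ι, reassoc_of% hw', hγ,
          pullback.lift_fst, Category.id_comp]
      haveI : IsClosedImmersion (w' ≫ (pullback.fst (f ≫ pX) pY ∣_ V')) := by rw [hid]; infer_instance
      haveI : IsClosedImmersion w' := IsClosedImmersion.of_comp w' (pullback.fst (f ≫ pX) pY ∣_ V')
      have hcl : (⟨p, hpV⟩ : O) ∈ closure (Subtype.val ⁻¹' Set.range g') :=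
        (O.2.isOpenMap_subtype_val.preimage_closure_eq_closure_preimage continuous_subtype_val _).subset hp
      have hsub : (Subtype.val ⁻¹' Set.range g' : Set O) ⊆ Set.range w' := by
        rintro ⟨_, hq⟩ ⟨t, rfl⟩
        have ht : (f ⁻¹ᵁ U).ι t ∈ V' := by
          have : pullback.fst (f ≫ pX) pY (g' t) ∈ V' := hq
          rwa [← Scheme.Hom.comp_apply, hg', pullback.lift_fst] at this
        let t' : ((f ⁻¹ᵁ U ⊓ V' : X'.Opens) : Scheme.{u}) := ⟨(f ⁻¹ᵁ U).ι t, t.2, ht⟩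
        have e1 : X'.homOfLE (inf_le_left : f ⁻¹ᵁ U ⊓ V' ≤ f ⁻¹ᵁ U) t' = t :=
          (f ⁻¹ᵁ U).ι.isOpenEmbedding.injective
            (by rw [← Scheme.Hom.comp_apply, Scheme.homOfLE_ι]; rfl)
        have e2 : X'.homOfLE (inf_le_left : f ⁻¹ᵁ U ⊓ V' ≤ f ⁻¹ᵁ U) ≫ g' =
            X'.homOfLE (inf_le_right : f ⁻¹ᵁ U ⊓ V' ≤ V') ≫ γ := by
          apply pullback.hom_ext
          · rw [Category.assoc, Category.assoc, hg', hγ]
            erw [pullback.lift_fst, pullback.lift_fst, Scheme.homOfLE_ι, Scheme.homOfLE_ι]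
          · simp only [g', γ, Category.assoc, pullback.lift_snd]
            exact hres.symm
        refine ⟨X'.homOfLE (inf_le_right : f ⁻¹ᵁ U ⊓ V' ≤ V') t', Subtype.ext ?_⟩
        show O.ι (w' _) = g' t
        rw [← Scheme.Hom.comp_apply w', hw', ← Scheme.Hom.comp_apply, ← e2, Scheme.Hom.comp_apply, e1]
      obtain ⟨t, ht⟩ := closure_minimal hsub w'.isClosedEmbedding.isClosed_range hcl
      refine ⟨t, ?_⟩
      rw [← hw', Scheme.Hom.comp_apply, ht]
      rfl
    let p₀ := γ ⟨x', hxV'⟩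
    have hp₀fst : pullback.fst (f ≫ pX) pY p₀ = x' := by
      rw [← Scheme.Hom.comp_apply, hγ, pullback.lift_fst]; rfl
    have hp₀cl : p₀ ∈ closure (Set.range g') := by
      have hd : Dense (V'.ι ⁻¹' (f ⁻¹ᵁ U : Set X')) :=
        (hU.preimage f.isOpenMap).preimage V'.ι.isOpenEmbedding.isOpenMap
      have hmem : p₀ ∈ closure (γ '' (V'.ι ⁻¹' (f ⁻¹ᵁ U : Set X'))) :=
        image_closure_subset_closure_image γ.continuous ⟨_, hd ⟨x', hxV'⟩, rfl⟩
      refine closure_mono ?_ hmem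
      rintro _ ⟨t, ht, rfl⟩
      refine ⟨X'.homOfLE (inf_le_left : f ⁻¹ᵁ U ⊓ V' ≤ f ⁻¹ᵁ U) ⟨V'.ι t, ht, t.2⟩, ?_⟩
      have e2 : X'.homOfLE (inf_le_left : f ⁻¹ᵁ U ⊓ V' ≤ f ⁻¹ᵁ U) ≫ g' =
          X'.homOfLE (inf_le_right : f ⁻¹ᵁ U ⊓ V' ≤ V') ≫ γ := by
        apply pullback.hom_ext
        · rw [Category.assoc, Category.assoc, hg', hγ]
          erw [pullback.lift_fst, pullback.lift_fst, Scheme.homOfLE_ι, Scheme.homOfLE_ι]
        · simp only [g', γ, Category.assoc, pullback.lift_snd]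
          exact hres.symm
      rw [← Scheme.Hom.comp_apply, e2, Scheme.Hom.comp_apply]
      congr 1
      exact V'.ι.isOpenEmbedding.injective
        (by rw [← Scheme.Hom.comp_apply, Scheme.homOfLE_ι]; rfl)
    have hzΓ : π p₀ ∈ closure (Set.range g) := by
      refine closure_mono ?_ (image_closure_subset_closure_image π.continuous ⟨_, hp₀cl, rfl⟩)
      rintro _ ⟨_, ⟨w, rfl⟩, rfl⟩
      exact ⟨(f ∣_ U) w, by rw [← Scheme.Hom.comp_apply, hgπ, Scheme.Hom.comp_apply]⟩
    have hz : pullback.fst pX pY (π p₀) = x := by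
      rw [← Scheme.Hom.comp_apply π, hπ.w, Scheme.Hom.comp_apply, hp₀fst]
    obtain ⟨V, v, hxV, -, hv, hvres⟩ := Groth.Agent.RatMapExt.exists_extension_of_isolated pX pY U h hh'
      hW hUW x hxW (hXn x) (π p₀) hz hzΓ ⟨⊤, by
        refine Set.Subset.antisymm ?_ (by rintro _ rfl; exact ⟨⟨trivial, hzΓ⟩, hz⟩)
        rintro p ⟨⟨-, hp⟩, hpx⟩
        obtain ⟨q, hq1, hq2⟩ := Scheme.Pullback.exists_preimage_pullback
          (f := pullback.fst pX pY) (g := f) p x' hpx
        obtain ⟨r, rfl⟩ : ∃ r, hπ.isoPullback.hom r = q :=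
          ⟨hπ.isoPullback.inv q, by rw [← Scheme.Hom.comp_apply, Iso.inv_hom_id]; rfl⟩
        rw [← Scheme.Hom.comp_apply, hπ.isoPullback_hom_fst] at hq1
        rw [← Scheme.Hom.comp_apply, hπ.isoPullback_hom_snd] at hq2
        have hr : r ∈ closure (Set.range g') := by
          rw [← hrange]
          rw [← π.isOpenMap.preimage_closure_eq_closure_preimage π.continuous, Set.mem_preimage, hq1]
          exact hp
        obtain ⟨t, ht⟩ := hclosed r hr (hq2 ▸ hxV')
        have ht' : t = ⟨x', hxV'⟩ := by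
          apply V'.ι.isOpenEmbedding.injective
          rw [← ht, ← Scheme.Hom.comp_apply, hγ, pullback.lift_fst] at hq2
          exact hq2
        rw [Set.mem_singleton_iff, ← hq1, ← ht, ht']⟩
    exact ⟨V, v, hxV, hv, hvres⟩

end Groth.Agent.S3837
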