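import Groth.Statements.S3839
import Groth.Agent.DescFlat.IdealDesc
-- import your own Groth.Agent.* helpers here

set_option autoImplicit false
universe u
open CategoryTheory CategoryTheory.Limits AlgebraicGeometry TopologicalSpace
open Div21

namespace Groth.Agent.S3839

/-- Case of effective divisors: let f : X → Y be a faithfully flat morphism between locally Noetherian
schemes, with f quasi-compact or open; assume Y is normal and that the fibre X_y is integral
whenever y is a point of Y whose local ring has dimension 1. An effective Cartier divisor D' on X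
with ideal sheaf 𝓙 is then the pullback of some effective Cartier divisor on Y if and only if, at
each maximal point η of Y, the pullback of D' to the fibre X_η is zero (its ideal is the unit
ideal). -/
theorem result {X Y : Scheme.{u}} [IsLocallyNoetherian X]
    [IsLocallyNoetherian Y] (f : X ⟶ Y) [Flat f] [Surjective f] (hf : QuasiCompact f ∨ IsOpenMap f)
    (hY : Pi1.IsNormalScheme Y)
    (hfib : ∀ y : ↥Y, ringKrullDim ↑(Y.presheaf.stalk y) = 1 → IsIntegral (f.fiber y))
    (𝓙 : X.IdealSheafData) (hJ : BlowUp.IsEffCartierIdeal 𝓙) :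
    (∃ 𝓘 : Y.IdealSheafData, BlowUp.IsEffCartierIdeal 𝓘 ∧ 𝓘.comap f = 𝓙) ↔
      ∀ η : ↥Y, (∀ z : ↥Y, z ⤳ η → z = η) → 𝓙.comap (f.fiberι η) = ⊤ := by
  refine ⟨?_, fun htriv => Groth.Agent.DescFlat.exists_ideal_descent f 𝓙 hY hfib hf hJ htriv⟩
  rintro ⟨𝓘, h𝓘, rfl⟩ η hη
  rw [← Scheme.IdealSheafData.comap_comp]
  refine Groth.Agent.IdealSh.Comap.comap_eq_top_of_disjoint _ _ (Set.disjoint_left.mpr ?_)
  rintro y ⟨w, rfl⟩ hy
  have hw : f.fiberι η w ∈ f ⁻¹' {η} := f.range_fiberι η ▸ ⟨w, rfl⟩
  rw [Scheme.Hom.comp_apply, show f (f.fiberι η w) = η from hw] at hy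
  exact Groth.Agent.IdealSh.Regular.not_mem_support_of_maximal h𝓘 η hη hy

end Groth.Agent.S3839
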