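import Groth.Statements.S3841
import Groth.Agent.Div61.Global
-- import your own Groth.Agent.* helpers here

set_option autoImplicit false
universe u
open CategoryTheory CategoryTheory.Limits AlgebraicGeometry TopologicalSpace
open Div21

namespace Groth.Agent.S3841

open CategoryTheory AlgebraicGeometry TopologicalSpace

/-- Let X be a Noetherian (locally Noetherian and quasi-compact) integral scheme; points of codimension
1 are the points of coheight 1 in the specialization order. The following are equivalent. (1) For
every point ζ of codimension 1 there is a global section g of O_X cutting out the closure of ζ with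
its reduced structure: at each specialization x of ζ the ideal of that closure in O_{X,x} (the prime
ideal of O_{X,x} corresponding to ζ, the preimage of the maximal ideal of O_{X,ζ}) is generated by
the germ of g, and g is invertible at the points outside the closure. (2) X is normal and every
prime cycle of codimension 1 is principal: for every point x₀ of codimension 1 there is a nonzero
rational function with order of vanishing 1 at x₀ and 0 at every other point of codimension 1. (3)
Every local ring of X is a unique factorisation domain and every invertible O_X-module is trivial.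
(4) X is normal and for every open subset U of X every invertible O_U-module is trivial. (The
published statement assumes X only locally Noetherian; quasi-compactness, which its published proof
uses, is added here.) -/
theorem result (X : Scheme.{u}) [IsIntegral X]
    [IsLocallyNoetherian X] [CompactSpace X] :
    List.TFAE [
      ∀ ζ : ↥X, Order.coheight ζ = 1 → ∃ g : Γ(X, ⊤),
        (∀ (x : ↥X) (h : ζ ⤳ x),
          (IsLocalRing.maximalIdeal ↑(X.presheaf.stalk ζ)).comap (X.presheaf.stalkSpecializes h).hom =
            Ideal.span {X.presheaf.germ ⊤ x trivial g}) ∧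
        ∀ x : ↥X, ¬ ζ ⤳ x → IsUnit (X.presheaf.germ ⊤ x trivial g),
      Pi1.IsNormalScheme X ∧ ∀ x₀ : ↥X, Order.coheight x₀ = 1 → ∃ f : ↑X.functionField, f ≠ 0 ∧
        Scheme.ord f x₀ = 1 ∧ ∀ x : ↥X, x ≠ x₀ → Order.coheight x = 1 → Scheme.ord f x = 0,
      (∀ x : ↥X, UniqueFactorizationMonoid ↑(X.presheaf.stalk x)) ∧
        ∀ L : X.Modules, PicF.IsInvertible L → Nonempty (L ≅ Coh.structureModule X),
      Pi1.IsNormalScheme X ∧ ∀ (U : X.Opens) (L : (U : Scheme.{u}).Modules),
        PicF.IsInvertible L → Nonempty (L ≅ Coh.structureModule (U : Scheme.{u}))] := by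

  open Groth.Agent.Ref1 Groth.Agent.Div61 in
  classical
  have hsucc : ∀ ζ y : X, Order.coheight ζ = 1 → Order.coheight y = 1 → ζ ⤳ y → y = ζ := fun ζ y hζ hy h => by
    by_contra hne
    have hlt : y < ζ := lt_of_le_not_ge h fun h' => hne (Specializes.antisymm h' h).eq
    have h1 := Order.coheight_add_one_le hlt
    rw [hζ, hy] at h1
    exact absurd h1 (by norm_num)
  tfae_have 1 → 3 := by
    intro h
    have hufd : ∀ x : X, UniqueFactorizationMonoid (X.presheaf.stalk x) := fun x => by
      refine Div61.ufd_of_height_one fun p hp hp1 => ?_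
      obtain ⟨ζ, hζx, hζp⟩ := CDivLib.exists_genPrime_eq p
      have hζ : Order.coheight ζ = 1 := by rw [← CDivLib.height_genPrime hζx, hζp, hp1]
      obtain ⟨g, hg, -⟩ := h ζ hζ
      exact ⟨⟨_, hζp.symm.trans (hg x hζx)⟩⟩
    have hX : Pi1.IsNormalScheme X := fun x => by
      haveI := hufd x
      exact ⟨inferInstance, inferInstance⟩
    refine ⟨hufd, fun L hL => ?_⟩
    have hF := ExtPowSt.isRef1_of_isInvertible hL
    obtain ⟨s, hs⟩ := IsRankOne.exists_ne_zero (rankOne_of_isRef1 hF)
    choose U hU hfin using fun x => finite_ordS_ne_zero L hF.2.2 hs x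
    obtain ⟨t, -, ht⟩ := (isCompact_univ : IsCompact (Set.univ : Set X)).elim_nhds_subcover U fun x _ => hU x
    let B : Set X := ⋃ x ∈ t, {y : X | y ∈ U x ∧ Order.coheight y = 1 ∧ ordS L y s ≠ 0}
    have hB : B.Finite := t.finite_toSet.biUnion fun x _ => hfin x
    choose g hg hgu using h
    let φ : X → X.functionField := fun ζ =>
      if hζ : Order.coheight ζ = 1 then X.presheaf.germ ⊤ (genericPoint X) trivial (g ζ hζ) else 1
    have hφ0 : ∀ ζ, φ ζ ≠ 0 := fun ζ => by
      simp only [φ]
      split_ifs with hζ
      · intro h0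
        have h1 := hg ζ hζ ζ (specializes_refl ζ)
        have h2 : toK ζ (X.presheaf.germ ⊤ ζ trivial (g ζ hζ)) = 0 :=
          (spR_germ (U := ⊤) (hsp ζ) trivial (g ζ hζ)).trans h0
        rw [show X.presheaf.germ ⊤ ζ trivial (g ζ hζ) = 0 from toK_injective ζ (h2.trans (map_zero _).symm)] at h1
        obtain ⟨_, hD⟩ := VarDim.isDiscreteValuationRing_stalk_of_coheight_eq_one hX ζ hζ
        refine IsDiscreteValuationRing.not_a_field (X.presheaf.stalk ζ) ?_
        have h3 : CDivLib.genPrime (specializes_refl ζ) = IsLocalRing.maximalIdeal (X.presheaf.stalk ζ) := by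
          simp [CDivLib.genPrime]
        rw [← h3, CDivLib.genPrime, h1, Ideal.span_singleton_eq_bot]
      · exact one_ne_zero
    have hφ : ∀ ζ y, Order.coheight ζ = 1 → Order.coheight y = 1 →
        Scheme.ord (φ ζ) y = if y = ζ then 1 else 0 := fun ζ y hζ hy => by
      have e : φ ζ = algebraMap _ X.functionField (X.presheaf.germ ⊤ y trivial (g ζ hζ)) := by
        simp only [φ, dif_pos hζ]
        exact ((toK_eq_algebraMap y _).symm.trans (spR_germ (U := ⊤) (hsp y) trivial (g ζ hζ))).symm
      by_cases hy' : ζ ⤳ y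
      · have hyz := hsucc ζ y hζ hy hy'
        subst hyz
        rw [e]
        refine CDivLib.ord_generator (specializes_refl y) hζ ?_ (hg y hζ y (specializes_refl y)) (specializes_refl y) hy
        intro h0
        exact hφ0 y (by rw [e, h0, map_zero])
      · rw [if_neg (fun he : y = ζ => hy' (by rw [he]))]
        rw [e, ← toK_eq_algebraMap]
        exact ord_toK_of_isUnit hy (hgu ζ hζ y hy')
    let D : X → ℤ := fun y => ordS L y s
    let f : X.functionField := ∏ ζ ∈ hB.toFinset, φ ζ ^ D ζ
    have hf : f ≠ 0 := Finset.prod_ne_zero_iff.mpr fun ζ _ => zpow_ne_zero _ (hφ0 ζ)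
    have hford : ∀ y, Order.coheight y = 1 → Scheme.ord f y = D y := fun y hy => by
      have key : ∀ S : Finset X, (∀ ζ ∈ S, Order.coheight ζ = 1) →
          Scheme.ord (∏ ζ ∈ S, φ ζ ^ D ζ) y = if y ∈ S then D y else 0 := fun S => by
        induction S using Finset.induction with
        | empty =>
          intro _
          rw [Finset.prod_empty, if_neg (Finset.notMem_empty y)]
          have := ord_toK_of_isUnit hy (isUnit_one : IsUnit (1 : X.presheaf.stalk y))
          rwa [map_one] at this
        | @insert a S ha ih =>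
          intro hS
          rw [Finset.prod_insert ha]
          have h2 := Scheme.ord_mul (x := y) (f := φ a ^ D a) (g := ∏ ζ ∈ S, φ ζ ^ D ζ) (zpow_ne_zero _ (hφ0 a))
            (Finset.prod_ne_zero_iff.mpr fun ζ _ => zpow_ne_zero _ (hφ0 ζ))
          rw [h2, ih fun ζ hζ => hS ζ (Finset.mem_insert_of_mem hζ), Div61.ord_zpow (hφ0 a) hy,
            hφ a y (hS a (Finset.mem_insert_self a S)) hy]
          by_cases hya : y = a
          · subst hya
            simp [ha]
          · simp [hya]
      rw [key _ fun ζ hζ => by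
        obtain ⟨x, -, hx⟩ := Set.mem_iUnion₂.mp (hB.mem_toFinset.mp hζ)
        exact hx.2.1]
      split_ifs with hyB
      · rfl
      · by_contra hD
        obtain ⟨x, hx, hxy⟩ := Set.mem_iUnion₂.mp (ht (Set.mem_univ y))
        exact hyB (hB.mem_toFinset.mpr (Set.mem_biUnion hx ⟨hxy, hy, fun h0 => hD h0.symm⟩))
    have hO := isRef1_structureModule (X := X)
    let one : (Coh.structureModule X).presheaf.stalk (genericPoint X) :=
      HomShQC.unitStalk (genericPoint X) (1 : X.presheaf.stalk (genericPoint X))
    have h1 : one ≠ 0 := fun h0 => one_ne_zero ((HomShQC.unitStalk (genericPoint X)).injective (h0.trans (map_zero _).symm))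
    let f' : X.presheaf.stalk (genericPoint X) := f
    have hf' : f' ≠ 0 := hf
    refine iso_of_ordS_eq hX hF hO hs
      (t := f' • one) (fun h0 => h1 (((rankOne_of_isRef1 hO).eq_zero_or _ _ h0).resolve_left hf')) fun y hy => ?_
    rw [ordS_smul hX hO hy h1 hf', ordS_one hy, zero_add]
    exact (hford y hy).symm
  tfae_have 3 → 4 := by
    rintro ⟨hufd, hpic⟩
    refine ⟨fun x => by haveI := hufd x; exact ⟨inferInstance, inferInstance⟩, fun U L hL => ?_⟩
    obtain ⟨L', hL', ⟨e⟩⟩ := S0234.result X U L hL fun x _ => hufd x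
    obtain ⟨e'⟩ := hpic L' hL'
    exact ⟨e.symm ≪≫ (Scheme.Modules.restrictFunctor U.ι).mapIso e' ≪≫ Scheme.Modules.restrictUnitIso _⟩
  tfae_have 4 → 2 := by
    rintro ⟨hX, hpic⟩
    refine ⟨hX, fun x₀ hx₀ => ?_⟩
    obtain ⟨F, hF, s, hs, hord⟩ := exists_ref1_of_divisor hX (fun y => if y = x₀ then 1 else 0)
      (fun z => ⟨Set.univ, Filter.univ_mem, (Set.finite_singleton x₀).subset fun w hw => by
        by_contra hne
        exact hw.2 (if_neg hne)⟩) fun y hy => if_neg fun he : y = x₀ => hy (by rw [he]; exact hx₀)
    let G : X.Opens := ⟨{x | PrincipalAt F s x}, isOpen_principal hX hF hs⟩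
    have hsmall : ∀ x : X, Order.coheight x ≤ 1 → x ∈ G := fun x hx =>
      principalAt_of_coheight_le_one hX hF hs hx
    have hinv : PicF.IsInvertible (F.restrict G.ι) :=
      ParaFLib.Factorial.isInvertible_restrict _ F fun x hx =>
        exists_triv_of_stalks F hF.1 G (fun y hy => nonempty_basis_of_principal hX hF hs hy) hx
    obtain ⟨ψ⟩ := hpic G _ hinv
    obtain ⟨g, hg⟩ := LFFrame.exists_isFrame_of_split (M := F) (fun _ : Fin 1 => ψ.inv) (fun _ => ψ.hom)
      (fun i j => by simp [Subsingleton.elim i j]) (by simp)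
    have hη : genericPoint X ∈ G := (hsp x₀).mem_open G.2 (hsmall x₀ hx₀.le)
    have hrk := rankOne_of_isRef1 hF
    obtain ⟨φ, hsφ⟩ := hrk.exists_smul (isGenAt_of_frame hg hη).2 s
    have hφ : φ ≠ 0 := fun h => hs (by rw [hsφ, h, zero_smul])
    have key : ∀ y, Order.coheight y = 1 → Scheme.ord φ y = if y = x₀ then 1 else 0 := fun y hy => by
      refine Eq.trans ?_ (hord y hy)
      rw [← ordS_eq hrk hy (isGenAt_of_frame hg (hsmall y hy.le)) hφ, hsφ]
      refine congrArg (fun t => ordS F y (φ • t)) ?_
      exact ((sp_germ F _ hη _).trans (sp_germ F (hsp y) (hsmall y hy.le) (g 0)).symm).symm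
    exact ⟨φ, hφ, (key x₀ hx₀).trans (if_pos rfl), fun x hne hx => (key x hx).trans (if_neg hne)⟩
  tfae_have 2 → 1 := by
    rintro ⟨hX, h⟩ ζ hζ
    obtain ⟨f, hf, h1, h0⟩ := h ζ hζ
    exact Div61.exists_equation_of_principal hX hζ hf h1 h0
  tfae_finish

end Groth.Agent.S3841
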