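import Groth.Statements.S3842
import Groth.Agent.SchDense.Dense

set_option autoImplicit false
universe u
open CategoryTheory CategoryTheory.Limits AlgebraicGeometry TopologicalSpace
open Rat20

namespace Groth.Agent.S3842

/-- For the open subset U = X; the general case is the same statement over the open subscheme U: let f :
X' → X be a morphism of schemes with X' reduced, suppose the irreducible components of X form a
locally finite family and that every irreducible component of X' dominates an irreducible component
of X (the closure of its image is an irreducible component of X). Then for every schematically dense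
open subset V of X, the preimage f⁻¹(V) is schematically dense in X'. -/
theorem result {X X' : Scheme.{u}} (f : X' ⟶ X) [IsReduced X']
    (hfin : ∀ x : ↥X, ∃ W : X.Opens, x ∈ W ∧ {Z ∈ irreducibleComponents ↥X | (Z ∩ (W : Set ↥X)).Nonempty}.Finite)
    (hdom : ∀ Z' ∈ irreducibleComponents ↥X', closure (f '' Z') ∈ irreducibleComponents ↥X)
    (V : X.Opens) (hV : CInt.IsSchematicallyDense V) : CInt.IsSchematicallyDense (f ⁻¹ᵁ V) := by
  apply SchDense.schDense_of_dense
  rw [dense_iff_inter_open]
  rintro W' hW' ⟨x, hx⟩
  have hZ' := irreducibleComponent_mem_irreducibleComponents x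
  have hη' := hZ'.1.isGenericPoint_genericPoint (isClosed_of_mem_irreducibleComponents _ hZ')
  refine ⟨hZ'.1.genericPoint, (hη'.specializes mem_irreducibleComponent).mem_open hW' hx, ?_⟩
  have hZ := hdom _ hZ'
  have hη : IsGenericPoint (f hZ'.1.genericPoint) (closure (f '' irreducibleComponent x)) :=
    hη'.image f.continuous
  obtain ⟨W, hW, hfin⟩ := hfin (f hZ'.1.genericPoint)
  exact SchDense.genericPoint_mem_of_dense (SchDense.dense_of_schDense hV) V.2 W.2 hfin hZ hη hW

end Groth.Agent.S3842
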