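import Groth.Statements.S3844
import Groth.Agent.AlgSp.DenseFlat
import Groth.Agent.RegImm44.Affine
import Mathlib.LinearAlgebra.TensorProduct.Pi

set_option autoImplicit false
universe u
open CategoryTheory CategoryTheory.Limits AlgebraicGeometry TopologicalSpace
open Rat20

namespace Groth.Agent.S3844

/-- For the open subset U = X: let f : X' → X be flat with X locally Noetherian. Then for every
schematically dense open subset V of X, the preimage f⁻¹(V) is schematically dense in X'. -/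
theorem result {X X' : Scheme.{u}} (f : X' ⟶ X) [Flat f]
    [IsLocallyNoetherian X] (V : X.Opens) (hV : CInt.IsSchematicallyDense V) :
    CInt.IsSchematicallyDense (f ⁻¹ᵁ V) := by
  classical
  intro W
  rw [injective_iff_map_eq_zero]
  intro s hs
  refine Groth.Agent.AlgSp.DenseFlat.eq_zero_of_locally s fun x hx => ?_
  obtain ⟨U, hU, hxU, -⟩ := exists_isAffineOpen_mem_and_subset (show f x ∈ (⊤ : X.Opens) from trivial)
  obtain ⟨O, hO, hxO, hle⟩ := exists_isAffineOpen_mem_and_subset (show x ∈ W ⊓ f ⁻¹ᵁ U from ⟨hx, hxU⟩)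
  have hOW : O ≤ W := le_trans (show O ≤ W ⊓ f ⁻¹ᵁ U from hle) inf_le_left
  have e : O ≤ f ⁻¹ᵁ U := le_trans (show O ≤ W ⊓ f ⁻¹ᵁ U from hle) inf_le_right
  refine ⟨O, hOW, hxO, ?_⟩
  set t := X'.presheaf.map (homOfLE hOW).op s
  have ht : X'.presheaf.map (homOfLE (inf_le_left : O ⊓ f ⁻¹ᵁ V ≤ O)).op t = 0 := by
    rw [Groth.Agent.AlgSp.DenseFlat.res_trans]
    exact Groth.Agent.AlgSp.DenseFlat.res_eq_zero_mono inf_le_left (inf_le_inf_right _ hOW) s hs
  haveI : IsNoetherianRing Γ(X, U) := IsLocallyNoetherian.component_noetherian ⟨U, hU⟩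
  -- finitely many basic opens cover `U ∩ V`
  let T : Set (PrimeSpectrum Γ(X, U)) := hU.fromSpec ⁻¹' ((V : Set X)ᶜ)
  have hT : IsClosed T := V.2.isClosed_compl.preimage hU.fromSpec.continuous
  obtain ⟨G, hG⟩ := IsNoetherian.noetherian (PrimeSpectrum.vanishingIdeal T)
  have hmem : ∀ (g : Γ(X, U)) (z : X) (hz : z ∈ U),
      g ∈ (hU.primeIdealOf ⟨z, hz⟩).asIdeal ↔ z ∉ X.basicOpen g := fun g z hz =>
    ⟨fun h h' => (Groth.Agent.RegImm44.mem_basicOpen_iff hU ⟨z, hz⟩ g).1 h' h, fun h => by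
      by_contra hc
      exact h ((Groth.Agent.RegImm44.mem_basicOpen_iff hU ⟨z, hz⟩ g).2 hc)⟩
  have hGV : ∀ g ∈ G, X.basicOpen g ≤ V := fun g hg z hz => by
    have hzU : z ∈ U := X.basicOpen_le g hz
    by_contra hzV
    refine (hmem g z hzU).1 ?_ hz
    refine (PrimeSpectrum.mem_vanishingIdeal _ _).1 (hG.le (Ideal.subset_span hg)) _ ?_
    show hU.fromSpec (hU.primeIdealOf ⟨z, hzU⟩) ∉ V
    rw [hU.fromSpec_primeIdealOf ⟨z, hzU⟩]
    exact hzV
  have hcov : ∀ z ∈ U ⊓ V, ∃ g ∈ G, z ∈ X.basicOpen g := fun z hz => by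
    by_contra h
    push Not at h
    have hI : PrimeSpectrum.vanishingIdeal T ≤ (hU.primeIdealOf ⟨z, hz.1⟩).asIdeal := by
      rw [← hG]
      exact Ideal.span_le.2 fun g hg => (hmem g z hz.1).2 (h g hg)
    have h2 : hU.primeIdealOf ⟨z, hz.1⟩ ∈ PrimeSpectrum.zeroLocus (PrimeSpectrum.vanishingIdeal T : Set Γ(X, U)) := hI
    rw [PrimeSpectrum.zeroLocus_vanishingIdeal_eq_closure, hT.closure_eq] at h2
    refine h2 ?_
    show hU.fromSpec (hU.primeIdealOf ⟨z, hz.1⟩) ∈ V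
    rw [hU.fromSpec_primeIdealOf ⟨z, hz.1⟩]
    exact hz.2
  algebraize [(f.appLE U O e).hom]
  haveI : Module.Flat Γ(X, U) Γ(X', O) := f.flat_appLE hU hO e
  have hN : ∀ g ∈ G, ∃ N : ℕ, algebraMap Γ(X, U) Γ(X', O) g ^ N * t = 0 := fun g hg => by
    have hle' : X'.basicOpen (f.appLE U O e g) ≤ O ⊓ f ⁻¹ᵁ V :=
      le_inf (X'.basicOpen_le _) (by
        rw [Scheme.basicOpen_appLE]
        exact inf_le_right.trans (f.preimage_mono (hGV g hg)))
    have h0 := Groth.Agent.AlgSp.DenseFlat.res_eq_zero_mono inf_le_left hle' t ht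
    exact exists_pow_mul_eq_zero_of_res_basicOpen_eq_zero_of_isAffineOpen X' hO t (f.appLE U O e g) h0
  choose! N hN using hN
  let M := G.sup N
  let φ : Γ(X, U) →ₗ[Γ(X, U)] (G → Γ(X, U)) :=
    LinearMap.pi fun g => LinearMap.lsmul Γ(X, U) Γ(X, U) ((g : Γ(X, U)) ^ M)
  have hφ : Function.Injective φ := by
    rw [injective_iff_map_eq_zero]
    intro m hm
    refine hV U ?_
    rw [map_zero]
    refine Groth.Agent.AlgSp.DenseFlat.eq_zero_of_locally _ fun z hz => ?_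
    obtain ⟨g, hg, hzg⟩ := hcov z hz
    have hle' : X.basicOpen g ≤ U ⊓ V := le_inf (X.basicOpen_le g) (hGV g hg)
    refine ⟨X.basicOpen g, hle', hzg, ?_⟩
    rw [Groth.Agent.AlgSp.DenseFlat.res_trans]
    exact Groth.Agent.AlgSp.DenseFlat.res_basicOpen_eq_zero hU m g M (congr_fun hm ⟨g, hg⟩)
  have h1 := Module.Flat.lTensor_preserves_injective_linearMap (M := Γ(X', O)) φ hφ
  have h2 : φ.lTensor Γ(X', O) (t ⊗ₜ[Γ(X, U)] (1 : Γ(X, U))) = 0 := by
    apply (TensorProduct.piRight Γ(X, U) Γ(X, U) Γ(X', O) (fun _ : G => Γ(X, U))).injective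
    rw [map_zero]
    funext g
    rw [LinearMap.lTensor_tmul, TensorProduct.piRight_apply, TensorProduct.piRightHom_tmul]
    show t ⊗ₜ[Γ(X, U)] ((g : Γ(X, U)) ^ M • (1 : Γ(X, U))) = 0
    rw [← TensorProduct.smul_tmul]
    have hM : N g ≤ M := Finset.le_sup g.2
    have : ((g : Γ(X, U)) ^ M) • t = 0 := by
      rw [Algebra.smul_def, map_pow, ← Nat.sub_add_cancel hM, pow_add, mul_assoc,
        hN g g.2, mul_zero]
    rw [this, TensorProduct.zero_tmul]
  have h3 : t ⊗ₜ[Γ(X, U)] (1 : Γ(X, U)) = 0 := h1 (h2.trans (map_zero _).symm)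
  have h4 := congrArg (TensorProduct.rid Γ(X, U) Γ(X', O)) h3
  rwa [TensorProduct.rid_tmul, one_smul, map_zero] at h4

end Groth.Agent.S3844
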