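import Groth.Statements.S3845
import Mathlib.AlgebraicGeometry.Morphisms.FormallyUnramified
import Mathlib.AlgebraicGeometry.Morphisms.FinitePresentation
-- import your own Groth.Agent.* helpers here

set_option autoImplicit false
universe u
open CategoryTheory CategoryTheory.Limits AlgebraicGeometry TopologicalSpace
open Unram17

namespace Groth.Agent.S3845

/-- a) iff b): let f : X → Y be locally of finite presentation and x a point of X. Then f is unramified
on some open neighbourhood of x if and only if the diagonal X → X ×_Y X is a local isomorphism at x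
(its restriction to some open neighbourhood of x is an open immersion). -/
theorem result {X Y : Scheme.{u}} (f : X ⟶ Y)
    [LocallyOfFinitePresentation f] (x : ↥X) :
    (∃ U : X.Opens, x ∈ U ∧ FormallyUnramified (U.ι ≫ f)) ↔
      SchLoc.IsLocalIsoAt (pullback.diagonal f) x := by
  let m (U : X.Opens) := Limits.pullback.map (U.ι ≫ f) (U.ι ≫ f) f f U.ι U.ι (𝟙 Y)
    (Category.comp_id _) (Category.comp_id _)
  have key : ∀ U : X.Opens, Limits.pullback.diagonal (U.ι ≫ f) ≫ m U = U.ι ≫ Limits.pullback.diagonal f :=
    fun U => Limits.pullback.hom_ext (by simp [m, Limits.pullback.map, Limits.pullback.lift_fst]) (by simp [m, Limits.pullback.map, Limits.pullback.lift_snd])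
  refine ⟨fun ⟨U, hx, hU⟩ => ⟨U, hx, ?_⟩, fun ⟨U, hx, hU⟩ => ⟨U, hx, ?_⟩⟩
  · rw [← key U]
    infer_instance
  · rw [← key U] at hU
    have : IsOpenImmersion (Limits.pullback.diagonal (U.ι ≫ f)) := IsOpenImmersion.of_comp _ (m U)
    infer_instance

end Groth.Agent.S3845
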