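import Groth.Statements.S3846
import Groth.Agent.S3845
import Groth.Agent.Omega.UnramSection
-- import your own Groth.Agent.* helpers here

set_option autoImplicit false
universe u
open CategoryTheory CategoryTheory.Limits AlgebraicGeometry TopologicalSpace
open Unram17

namespace Groth.Agent.S3846

/-- a) iff b''): let f : X → Y be locally of finite presentation and x a point of X. Then f is
unramified on some open neighbourhood of x if and only if, for every base change g : Y' → Y and
every section s' of X ×_Y Y' → Y', s' is a local isomorphism at every point y' of Y' such that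
s'(y') lies over x. -/
theorem result {X Y : Scheme.{u}} (f : X ⟶ Y) [LocallyOfFinitePresentation f]
    (x : ↥X) :
    (∃ U : X.Opens, x ∈ U ∧ FormallyUnramified (U.ι ≫ f)) ↔
      ∀ (Y' : Scheme.{u}) (g : Y' ⟶ Y) (s' : Y' ⟶ pullback f g), s' ≫ pullback.snd f g = 𝟙 Y' →
        ∀ y' : ↥Y', pullback.fst f g (s' y') = x → SchLoc.IsLocalIsoAt s' y' := by
  constructor
  · rintro ⟨U, hx, hU⟩ Y' g s' hs y' hy
    let V := Limits.pullback.fst f g ⁻¹ᵁ U
    have hsq : IsPullback (Limits.pullback.fst f g ∣_ U) (V.ι ≫ Limits.pullback.snd f g) (U.ι ≫ f) g :=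
      (isPullback_morphismRestrict (Limits.pullback.fst f g) U).paste_vert (IsPullback.of_hasPullback f g)
    have : FormallyUnramified (V.ι ≫ Limits.pullback.snd f g) := MorphismProperty.of_isPullback hsq hU
    let O := s' ⁻¹ᵁ V
    have hcomp : (s' ∣_ V) ≫ V.ι ≫ Limits.pullback.snd f g = O.ι := by
      rw [morphismRestrict_ι_assoc, hs, Category.comp_id]
    have : IsOpenImmersion ((s' ∣_ V) ≫ V.ι ≫ Limits.pullback.snd f g) := by rw [hcomp]; infer_instance
    have := Groth.Agent.Omega.UnramSection.isOpenImmersion_of_comp (s' ∣_ V) (V.ι ≫ Limits.pullback.snd f g)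
    refine ⟨O, ?_, ?_⟩
    · change Limits.pullback.fst f g (s' y') ∈ U
      rw [hy]
      exact hx
    · rw [← morphismRestrict_ι]
      infer_instance
  · intro h
    refine (Groth.Agent.S3845.result f x).mpr
      (h X f (Limits.pullback.diagonal f) (Limits.pullback.diagonal_snd f) x ?_)
    exact congr($(Limits.pullback.diagonal_fst f) x)

end Groth.Agent.S3846
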