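import Groth.Statements.S3849
import Groth.Agent.RatMapExt.Sections
-- import your own Groth.Agent.* helpers here

set_option autoImplicit false
universe u
open CategoryTheory CategoryTheory.Limits AlgebraicGeometry TopologicalSpace
open Rat20

namespace Groth.Agent.S3849

/-- In the case S = X (sections of q : Y → X): let X be a locally Noetherian scheme, q : Y → X
separated, locally of finite type and locally quasi-finite, U a dense open subset of X, h : U → Y a
section of q over U, and x a point of X outside U whose local ring is an integrally closed domain.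
Then h extends to a section of q over an open subset containing U and x if and only if there exist a
discrete valuation ring R, a morphism u : Spec R → X sending the closed point to x and the generic
point into U, and a morphism Spec R → Y over X agreeing with h at the generic point. -/
theorem result {X Y : Scheme.{u}} [IsLocallyNoetherian X] (q : Y ⟶ X)
    [LocallyOfFiniteType q] [IsSeparated q] [LocallyQuasiFinite q] (U : X.Opens) (hU : Dense (U : Set ↥X))
    (h : (U : Scheme.{u}) ⟶ Y) (hh : h ≫ q = U.ι) (x : ↥X) (hxU : x ∉ U) [IsDomain ↑(X.presheaf.stalk x)]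
    (hx : IsIntegrallyClosed ↑(X.presheaf.stalk x)) :
    (∃ (U' : X.Opens) (hUU' : U ≤ U') (h' : (U' : Scheme.{u}) ⟶ Y),
        x ∈ U' ∧ h' ≫ q = U'.ι ∧ X.homOfLE hUU' ≫ h' = h) ↔
      ∃ (R : Type u) (_ : CommRing R) (_ : IsDomain R) (_ : IsDiscreteValuationRing R)
        (u : Spec (CommRingCat.of R) ⟶ X) (ub : Spec (CommRingCat.of (FractionRing R)) ⟶ (U : Scheme.{u}))
        (h₁ : Spec (CommRingCat.of R) ⟶ Y),
        u (IsLocalRing.closedPoint R) = x ∧
          ub ≫ U.ι = Spec.map (CommRingCat.ofHom (algebraMap R (FractionRing R))) ≫ u ∧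
          h₁ ≫ q = u ∧ Spec.map (CommRingCat.ofHom (algebraMap R (FractionRing R))) ≫ h₁ = ub ≫ h := by
  obtain ⟨W, hW, hWd, hxW, -⟩ := Groth.Agent.RatMapExt.exists_affine_domain_nhd x ⊤ trivial
  have hUW : ((U ⊓ W : X.Opens) : Set X).Nonempty :=
    (hU.inter_open_nonempty W W.2 ⟨x, hxW⟩).mono fun w hw => ⟨hw.2, hw.1⟩
  constructor
  · rintro ⟨U', hUU', h', hxU', hq', hres⟩
    obtain ⟨R, i1, i2, i3, u, ub, hu, hub⟩ :=
      Groth.Agent.RatMapExt.exists_dvr_centred hW x hxW U hUW hxU
    letI := i1; letI := i2; letI := i3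
    have hrange := Groth.Agent.RatMapExt.range_subset_of_closedPoint u U' (hu ▸ hxU')
    let l := IsOpenImmersion.lift U'.ι u (by simpa using hrange)
    have hl : l ≫ U'.ι = u := IsOpenImmersion.lift_fac _ _ _
    refine ⟨R, i1, i2, i3, u, ub, l ≫ h', hu, hub, by rw [Category.assoc, hq', hl], ?_⟩
    have hfac : Spec.map (CommRingCat.ofHom (algebraMap R (FractionRing R))) ≫ l =
        ub ≫ X.homOfLE hUU' := by
      rw [← cancel_mono U'.ι, Category.assoc, Category.assoc, hl, Scheme.homOfLE_ι, hub]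
    rw [reassoc_of% hfac, hres]
  · rintro ⟨R, i1, i2, i3, u, ub, h₁, hu, hub, hh₁, hgen⟩
    letI := i1; letI := i2; letI := i3
    have hh' : U.ι ≫ 𝟙 X = h ≫ q := by rw [hh, Category.comp_id]
    have hh₁' : u ≫ 𝟙 X = h₁ ≫ q := by rw [hh₁, Category.comp_id]
    set z := pullback.lift u h₁ hh₁' (IsLocalRing.closedPoint R)
    have hzΓ := Groth.Agent.RatMapExt.mem_closure_graph (𝟙 X) q U h hh' u ub hub h₁ hh₁' hgen
    have hz : pullback.fst (𝟙 X) q z = x := by
      rw [← Scheme.Hom.comp_apply, pullback.lift_fst, hu]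
    have hd : _root_.IsDiscrete (pullback.fst (𝟙 X) q ⁻¹' {x}) :=
      Scheme.Hom.isDiscrete_preimage_singleton _ x
    obtain ⟨O, hO, hOz⟩ := isDiscrete_iff_forall_exists_isOpen.mp hd z hz
    obtain ⟨V, v, hxV, -, hv, hv'⟩ := Groth.Agent.RatMapExt.exists_extension_of_isolated
      (𝟙 X) q U h hh' hW hUW x hxW hx z hz hzΓ ⟨⟨O, hO⟩, by
        refine Set.Subset.antisymm (fun w hw => hOz ▸ ⟨hw.1.1, hw.2⟩) ?_
        rintro w rfl
        exact ⟨⟨(hOz.ge rfl).1, hzΓ⟩, hz⟩⟩
    obtain ⟨U', hUU', hVU', c, -, hc, -, hcq⟩ := Groth.Agent.RatMapExt.exists_glue U V h v hv'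
    refine ⟨U', hUU', c, hVU' hxV, ?_, hc⟩
    simpa using hcq q (𝟙 X) (by rw [hh, Category.comp_id]) hv

end Groth.Agent.S3849
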