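import Groth.Statements.S5074
import Groth.Agent.DerExt61.GeomReg
-- import your own Groth.Agent.* helpers here

set_option autoImplicit false
universe u
open EGA418 TensorProduct

namespace Groth.Agent.S5074

/-- Let k be a field of characteristic exponent p such that k is finite over k^p (the Frobenius
endomorphism of k is a finite ring map), A a complete Noetherian local k-algebra whose residue field
is a finite extension of k, and P a prime ideal of A such that A_P is geometrically regular over k.
Then for every minimal prime q of A contained in P (there is exactly one), the A_P-module obtained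
by localising at P the completion of the module of differentials of A over k is free of rank equal
to dim(A/q). -/
theorem result (p : ℕ) (k A : Type u) [Field k] [ExpChar k p]
    (hk : (frobenius k p).Finite) [CommRing A] [IsLocalRing A] [IsNoetherianRing A] [Algebra k A]
    [IsAdicComplete (IsLocalRing.maximalIdeal A) A] [Module.Finite k (IsLocalRing.ResidueField A)]
    (P : Ideal A) [P.IsPrime] (hP : CAlg.IsGeometricallyRegular k (Localization.AtPrime P))
    (q : Ideal A) (hq : q ∈ minimalPrimes A) (hqP : q ≤ P) (n : ℕ) (hn : ringKrullDim (A ⧸ q) = n) :
    Module.Free (Localization.AtPrime P) (LocalizedModule P.primeCompl (AdicCompletion (IsLocalRing.maximalIdeal A) (KaehlerDifferential k A))) ∧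
      Module.finrank (Localization.AtPrime P) (LocalizedModule P.primeCompl (AdicCompletion (IsLocalRing.maximalIdeal A) (KaehlerDifferential k A))) = n := by

  classical
  have : q.IsPrime := hq.1.1
  have hreg : IsRegularLocalRing (Localization.AtPrime P) := by
    have hR : IsRegularRing (k ⊗[k] Localization.AtPrime P) := hP k inferInstance
    have : IsRegularRing (Localization.AtPrime P) :=
      IsRegularRing.of_ringEquiv (Algebra.TensorProduct.lid k (Localization.AtPrime P)).toRingEquiv
    exact IsRegularLocalRing.of_isRegularRing_of_isLocalRing _
  have := RegLoc.isDomain (Localization.AtPrime P)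
  let M := AdicCompletion (IsLocalRing.maximalIdeal A) (KaehlerDifferential k A)
  have : Module.Finite A M := (DerExt61.Rank.finite_and_surjective (k := k) (A := A)).1
  have hd := DerExt61.GeomReg.fibre_le p hk P hP q hq hqP n hn
  obtain ⟨y, hy⟩ := DerExt61.Rank.exists_gens M P
  have hge := DerExt61.Rank.le_of_gens P q hqP hn y hy
  obtain he : Module.finrank P.ResidueField (P.ResidueField ⊗[A] M) = n := le_antisymm hd hge
  refine DerExt61.Etale.free_of_gens P q hq hqP hn (fun i => y (Fin.cast he.symm i)) fun z => ?_
  obtain ⟨t, ht, htz⟩ := hy z
  refine ⟨t, ht, ?_⟩
  have : Set.range (fun i => y (Fin.cast he.symm i)) = Set.range y :=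
    (finCongr he.symm).surjective.range_comp y
  rwa [this]

end Groth.Agent.S5074
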