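import Groth.Statements.S3851
import Groth.Agent.DerExt61.EtaleBC
import Groth.Agent.S5074
import Groth.Agent.S2672
import Groth.Agent.Dim.LocalHom
import Groth.Agent.RegLoc.Homological
-- import your own Groth.Agent.* helpers here

set_option autoImplicit false
set_option linter.style.haveILetI false
universe u
open scoped TensorProduct
open EGA418

namespace Groth.Agent.S3851


open IsLocalRing

attribute [local instance] Algebra.TensorProduct.rightAlgebra

variable {k A : Type u} [Field k] [CommRing A] [IsLocalRing A] [IsNoetherianRing A] [Algebra k A]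
  [IsAdicComplete (maximalIdeal A) A] [Module.Finite k (ResidueField A)]

theorem isGeometricallyRegular_of_perfect {k' S : Type u} [Field k'] [PerfectField k'] [CommRing S] [Algebra k' S]
    [IsRegularLocalRing S] : CAlg.IsGeometricallyRegular k' S := by
  haveI : IsRegularRing S := isRegularRing_iff.mpr fun q _ => RegLoc.Homological.isRegularLocalRing_localization q
  refine (S2672.result k' S).1.mpr fun L _ _ hfin hpi => ?_
  haveI := hfin
  haveI := hpi
  haveI : Algebra.IsAlgebraic k' L := Algebra.IsAlgebraic.of_finite k' L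
  haveI : Algebra.IsSeparable k' L := Algebra.IsAlgebraic.isSeparable_of_perfectField
  let e : k' ≃ₐ[k'] L := AlgEquiv.ofBijective (Algebra.ofId k' L)
    ⟨(algebraMap k' L).injective, IsPurelyInseparable.surjective_algebraMap_of_isSeparable k' L⟩
  exact IsRegularRing.of_ringEquiv
    ((Algebra.TensorProduct.lid k' S).symm.trans (Algebra.TensorProduct.congr e AlgEquiv.refl)).toRingEquiv

theorem nonempty_maximal (k A k' : Type u) [Field k] [CommRing A] [IsLocalRing A] [IsNoetherianRing A]
    [Algebra k A] [Field k'] [Algebra k k'] : Nonempty (MaximalSpectrum (DerExt61.CompTensor.C k A k')) := by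
  set I := (maximalIdeal A).map (algebraMap A (A ⊗[k] k'))
  let g : A ⊗[k] k' →ₐ[k] (A ⧸ maximalIdeal A) ⊗[k] k' :=
    Algebra.TensorProduct.map (Ideal.Quotient.mkₐ k (maximalIdeal A)) (AlgHom.id k k')
  have hI : I ≤ RingHom.ker g.toRingHom := Ideal.map_le_iff_le_comap.mpr fun a ha => by
    show g (a ⊗ₜ[k] 1) = 0
    simp [g, Ideal.Quotient.eq_zero_iff_mem.mpr ha]
  have hne : I ^ 1 ≠ ⊤ := fun h => by
    rw [pow_one] at h
    have h1 := hI (h ▸ trivial : (1 : A ⊗[k] k') ∈ I)
    rw [RingHom.mem_ker, map_one] at h1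
    exact one_ne_zero h1
  haveI : Nontrivial ((A ⊗[k] k') ⧸ I ^ 1) := Ideal.Quotient.nontrivial_iff.mpr hne
  haveI : Nontrivial (DerExt61.CompTensor.C k A k') := (AdicCompletion.evalₐ I 1).toRingHom.domain_nontrivial
  infer_instance

theorem gens_of_regular (p : Ideal A) [p.IsPrime] (n : ℕ)
    (hn₁ : ∀ q ∈ minimalPrimes A, q ≤ p → ringKrullDim (A ⧸ q) ≤ n)
    (k' : Type u) [Field k'] [Algebra k k'] [PerfectField k']
    (p' : Ideal (DerExt61.CompTensor.C k A k')) [p'.IsPrime]
    (hp' : p'.comap (algebraMap A (DerExt61.CompTensor.C k A k')) = p)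
    (hreg : IsRegularLocalRing (Localization.AtPrime p')) :
    ∃ y : Fin n → AdicCompletion (maximalIdeal A) (KaehlerDifferential k A),
      ∀ z, ∃ t ∉ p, t • z ∈ Submodule.span A (Set.range y) := by
  classical
  let C := DerExt61.CompTensor.C k A k'
  obtain ⟨M, hM, hp'M⟩ := Ideal.exists_le_maximal p' (Ideal.IsPrime.ne_top ‹p'.IsPrime›)
  let B := Localization.AtPrime M
  have hd : Disjoint (M.primeCompl : Set C) (p' : Set C) :=
    Set.disjoint_left.mpr fun c hc hcp => hc (hp'M hcp)
  let P : Ideal B := p'.map (algebraMap C B)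
  haveI hPp : P.IsPrime := IsLocalization.isPrime_of_isPrime_disjoint M.primeCompl B p' inferInstance hd
  have hPc : P.comap (algebraMap C B) = p' := IsLocalization.comap_map_of_isPrime_disjoint M.primeCompl B inferInstance hd
  have hPA : P.comap (algebraMap A B) = p := by
    rw [IsScalarTower.algebraMap_eq A C B, ← Ideal.comap_comap, hPc, hp']
  haveI : IsRegularLocalRing (Localization.AtPrime (P.comap (algebraMap C B))) := by
    have key : ∀ Q : Ideal C, ∀ hQ : Q.IsPrime, Q = p' → IsRegularLocalRing (Localization.AtPrime Q) := by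
      rintro Q hQ rfl
      exact hreg
    exact key _ inferInstance hPc
  haveI : IsRegularLocalRing (Localization.AtPrime P) :=
    IsRegularLocalRing.of_ringEquiv (IsLocalization.localizationLocalizationAtPrimeIsoLocalization M.primeCompl P).toRingEquiv
  haveI : P.LiesOver p := ⟨hPA.symm⟩
  letI : Algebra (Localization.AtPrime p) (Localization.AtPrime P) := Localization.AtPrime.algebraOfLiesOver p P
  haveI : Module.Flat A (Localization.AtPrime P) := Module.Flat.trans A B _
  haveI : Module.Flat (Localization.AtPrime p) (Localization.AtPrime P) :=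
    (Module.flat_iff_of_isLocalization (Localization.AtPrime p) p.primeCompl _).mpr inferInstance
  haveI hregA : IsRegularLocalRing (Localization.AtPrime p) :=
    RegLoc.Homological.isRegularLocalRing_of_flat (Localization.AtPrime P)
  haveI := RegLoc.isDomain (Localization.AtPrime p)
  -- the unique component through `p`
  let q₀ := RingHom.ker (algebraMap A (Localization.AtPrime p))
  haveI : q₀.IsPrime := RingHom.ker_isPrime _
  have hq₀le : ∀ q : Ideal A, q.IsPrime → q ≤ p → q₀ ≤ q := fun q hq hqp a ha => by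
    obtain ⟨s, hs⟩ := (IsLocalization.map_eq_zero_iff p.primeCompl _ a).mp ha
    exact (hq.mem_or_mem (hs ▸ q.zero_mem)).resolve_left fun h => s.2 (hqp h)
  have hq₀p : q₀ ≤ p := hq₀le p inferInstance le_rfl
  have hq₀min : q₀ ∈ minimalPrimes A :=
    ⟨⟨inferInstance, bot_le⟩, fun R hR hle => hq₀le R hR.1 (hle.trans hq₀p)⟩
  obtain ⟨q', hq', hq'P⟩ := Ideal.exists_minimalPrimes_le (bot_le : (⊥ : Ideal B) ≤ P)
  haveI := hq'.1.1
  have hq'A : q₀ ≤ q'.comap (algebraMap A B) :=
    hq₀le _ inferInstance ((Ideal.comap_mono hq'P).trans_eq hPA)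
  obtain ⟨n', hn'⟩ := DerExt61.Rank.exists_natCast_eq_ringKrullDim_quotient (A := B) q'
  have hle : n' ≤ n := by
    letI : Algebra (A ⧸ q₀) (B ⧸ q') := (Ideal.quotientMap q' (algebraMap A B) hq'A).toAlgebra
    haveI : IsLocalRing (A ⧸ q₀) := IsLocalRing.of_surjective' _ Ideal.Quotient.mk_surjective
    haveI : IsLocalRing (B ⧸ q') := IsLocalRing.of_surjective' _ Ideal.Quotient.mk_surjective
    have hmA := IsLocalRing.map_maximalIdeal_of_surjective (Ideal.Quotient.mk q₀) Ideal.Quotient.mk_surjective
    have hmap : (maximalIdeal (A ⧸ q₀)).map (algebraMap (A ⧸ q₀) (B ⧸ q')) =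
        ((maximalIdeal A).map (algebraMap A B)).map (Ideal.Quotient.mk q') := by
      rw [← hmA, Ideal.map_map, Ideal.map_map]
      exact congrArg (fun φ => Ideal.map φ (maximalIdeal A)) (RingHom.ext fun a => rfl)
    have hmle : (maximalIdeal (A ⧸ q₀)).map (algebraMap (A ⧸ q₀) (B ⧸ q')) ≤ maximalIdeal (B ⧸ q') := by
      rw [hmap]
      exact (Ideal.map_mono (DerExt61.CompTensor.map_le_maximalIdeal M)).trans_eq
        (IsLocalRing.map_maximalIdeal_of_surjective _ Ideal.Quotient.mk_surjective)
    haveI : IsLocalHom (algebraMap (A ⧸ q₀) (B ⧸ q')) :=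
      ((local_hom_TFAE (algebraMap (A ⧸ q₀) (B ⧸ q'))).out 0 2).mpr hmle
    have h := Dim.ringKrullDim_le_add_fibre (A ⧸ q₀) (B ⧸ q')
    haveI : Nontrivial ((B ⧸ q') ⧸ (maximalIdeal (A ⧸ q₀)).map (algebraMap (A ⧸ q₀) (B ⧸ q'))) :=
      Ideal.Quotient.nontrivial_iff.2 (ne_top_of_le_ne_top (maximalIdeal.isMaximal _).ne_top hmle)
    haveI := DerExt61.CompTensor.isArtinianRing_quotient (k := k) (A := A) (k' := k')
    haveI : IsArtinianRing ((B ⧸ q') ⧸ (maximalIdeal (A ⧸ q₀)).map (algebraMap (A ⧸ q₀) (B ⧸ q'))) := by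
      refine Function.Surjective.isArtinianRing
        (f := Ideal.Quotient.lift ((maximalIdeal A).map (algebraMap A C))
          ((Ideal.Quotient.mk _).comp ((Ideal.Quotient.mk q').comp (algebraMap C B))) fun x hx => ?_) ?_
      · rw [RingHom.comp_apply, Ideal.Quotient.eq_zero_iff_mem, hmap, IsScalarTower.algebraMap_eq A C B,
          ← Ideal.map_map]
        exact Ideal.mem_map_of_mem _ (Ideal.mem_map_of_mem _ hx)
      · exact Ideal.Quotient.lift_surjective_of_surjective _ _ (Ideal.Quotient.mk_surjective.comp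
          (Ideal.Quotient.mk_surjective.comp (DerExt61.CompTensor.surjective_algebraMap M)))
    have h0 := (isArtinianRing_iff_isNoetherianRing_krullDimLE_zero
      (R := (B ⧸ q') ⧸ (maximalIdeal (A ⧸ q₀)).map (algebraMap (A ⧸ q₀) (B ⧸ q')))).mp inferInstance
    rw [(ringKrullDimZero_iff_ringKrullDim_eq_zero
      (R := (B ⧸ q') ⧸ (maximalIdeal (A ⧸ q₀)).map (algebraMap (A ⧸ q₀) (B ⧸ q')))).mp h0.2,
      add_zero, hn'] at h
    exact_mod_cast h.trans (hn₁ q₀ hq₀min hq₀p)
  -- differentials of the factor
  have hfr : (frobenius k' (ringExpChar k')).Finite :=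
    RingHom.Finite.of_surjective _ (bijective_frobenius k' (ringExpChar k')).2
  obtain ⟨hfree, hrank⟩ := S5074.result (ringExpChar k') k' B hfr P isGeometricallyRegular_of_perfect q' hq' hq'P n' hn'
  haveI := DerExt61.Rank.finite_completedKaehler (k := k') (A := B)
  let b := Module.finBasisOfFinrankEq (Localization.AtPrime P) _ hrank
  obtain ⟨yB, hyB⟩ := DerExt61.Unram.exists_gens_of_localized P b b.span_eq
  have hfib := DerExt61.CompTensor.finrank_le M p P hPA yB hyB
  haveI := DerExt61.Rank.finite_completedKaehler (k := k) (A := A)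
  obtain ⟨y, hy⟩ := DerExt61.Rank.exists_gens (AdicCompletion (maximalIdeal A) (KaehlerDifferential k A)) p
  refine ⟨fun i => if h : (i : ℕ) < Module.finrank p.ResidueField
      (p.ResidueField ⊗[A] AdicCompletion (maximalIdeal A) (KaehlerDifferential k A)) then y ⟨i, h⟩ else 0,
    fun z => ?_⟩
  obtain ⟨t, ht, htz⟩ := hy z
  refine ⟨t, ht, Submodule.span_mono ?_ htz⟩
  rintro _ ⟨j, rfl⟩
  refine ⟨Fin.castLE (hfib.trans hle) j, ?_⟩
  dsimp only [Fin.val_castLE]
  rw [dif_pos j.2]

/-- a) iff a') iff b), and b) implies d): let k be a field, A a complete Noetherian local k-algebra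
whose residue field is finite over k, p a non-maximal prime of A, n the largest dimension of an
irreducible component of Spec A containing p, and Ω̂ the completion of the module of differentials
of A over k for the topology of the maximal ideal. For a field extension k' of k write A' = A ⊗̂_k
k' (the completion of A ⊗_k k' for the extension of the maximal ideal). The following are
equivalent: (a) for every extension k' and every prime p' of A' over p, A'_{p'} is regular; (a') for
some perfect extension k' and some prime p' of A' over p, A'_{p'} is regular; (b) Ω̂_p is a free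
A_p-module of rank n. Moreover (b) implies (d): A_p is geometrically regular over k. (The converse
of the last implication, valid when [k : k^p] is finite, is not stated.) -/
theorem result (k A : Type u) [Field k] [CommRing A]
    [IsLocalRing A] [IsNoetherianRing A] [Algebra k A] [IsAdicComplete (IsLocalRing.maximalIdeal A) A]
    [Module.Finite k (IsLocalRing.ResidueField A)] (p : Ideal A) [p.IsPrime] (hp : p ≠ IsLocalRing.maximalIdeal A)
    (n : ℕ) (hn₁ : ∀ q ∈ minimalPrimes A, q ≤ p → ringKrullDim (A ⧸ q) ≤ n)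
    (hn₂ : ∃ q ∈ minimalPrimes A, q ≤ p ∧ ringKrullDim (A ⧸ q) = n) :
    List.TFAE [
      ∀ (k' : Type u) [Field k'] [Algebra k k']
        (p' : Ideal (AdicCompletion ((IsLocalRing.maximalIdeal A).map
          (Algebra.TensorProduct.includeLeft : A →ₐ[k] A ⊗[k] k')) (A ⊗[k] k'))) [p'.IsPrime],
        (p'.comap (algebraMap (A ⊗[k] k') _)).comap
            (Algebra.TensorProduct.includeLeft : A →ₐ[k] A ⊗[k] k').toRingHom = p →
          IsRegularLocalRing (Localization.AtPrime p'),
      ∃ (k' : Type u) (_ : Field k') (_ : Algebra k k') (_ : PerfectField k')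
        (p' : Ideal (AdicCompletion ((IsLocalRing.maximalIdeal A).map
          (Algebra.TensorProduct.includeLeft : A →ₐ[k] A ⊗[k] k')) (A ⊗[k] k'))) (_ : p'.IsPrime),
        (p'.comap (algebraMap (A ⊗[k] k') _)).comap
            (Algebra.TensorProduct.includeLeft : A →ₐ[k] A ⊗[k] k').toRingHom = p ∧
          IsRegularLocalRing (Localization.AtPrime p'),
      Module.Free (Localization.AtPrime p)
          (LocalizedModule p.primeCompl (AdicCompletion (IsLocalRing.maximalIdeal A) (KaehlerDifferential k A))) ∧
        Module.finrank (Localization.AtPrime p)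
          (LocalizedModule p.primeCompl (AdicCompletion (IsLocalRing.maximalIdeal A) (KaehlerDifferential k A))) = n] ∧
    ((Module.Free (Localization.AtPrime p)
          (LocalizedModule p.primeCompl (AdicCompletion (IsLocalRing.maximalIdeal A) (KaehlerDifferential k A))) ∧
        Module.finrank (Localization.AtPrime p)
          (LocalizedModule p.primeCompl (AdicCompletion (IsLocalRing.maximalIdeal A) (KaehlerDifferential k A))) = n) →
      CAlg.IsGeometricallyRegular k (Localization.AtPrime p)) := by

  classical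
  open IsLocalRing in
  obtain ⟨q₀, hq₀, hq₀p, hq₀dim⟩ := hn₂
  haveI : q₀.IsPrime := hq₀.1.1
  have hn₂' : ∃ q ∈ minimalPrimes A, q ≤ p ∧ ringKrullDim (A ⧸ q) = n := ⟨q₀, hq₀, hq₀p, hq₀dim⟩
  have hgens : (Module.Free (Localization.AtPrime p)
          (LocalizedModule p.primeCompl (AdicCompletion (IsLocalRing.maximalIdeal A) (KaehlerDifferential k A))) ∧
        Module.finrank (Localization.AtPrime p)
          (LocalizedModule p.primeCompl (AdicCompletion (IsLocalRing.maximalIdeal A) (KaehlerDifferential k A))) = n) →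
      ∃ y : Fin n → AdicCompletion (IsLocalRing.maximalIdeal A) (KaehlerDifferential k A),
        ∀ z, ∃ t ∉ p, t • z ∈ Submodule.span A (Set.range y) := fun ⟨hfree, hrank⟩ => by
    haveI := DerExt61.Rank.finite_completedKaehler (k := k) (A := A)
    let b := Module.finBasisOfFinrankEq (Localization.AtPrime p) _ hrank
    exact DerExt61.Unram.exists_gens_of_localized p b b.span_eq
  refine ⟨?_, fun hb => ?_⟩
  · tfae_have 1 → 2 := fun ha => by
      obtain ⟨M⟩ := nonempty_maximal k A (AlgebraicClosure k)
      haveI := M.isMaximal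
      obtain ⟨⟨P, hPp⟩, hP⟩ := PrimeSpectrum.comap_surjective_of_faithfullyFlat
        (A := A) (B := Localization.AtPrime M.asIdeal) ⟨p, inferInstance⟩
      have hp' : P.comap (algebraMap A (Localization.AtPrime M.asIdeal)) = p := congrArg (·.asIdeal) hP
      rw [IsScalarTower.algebraMap_eq A (DerExt61.CompTensor.C k A (AlgebraicClosure k))
        (Localization.AtPrime M.asIdeal), ← Ideal.comap_comap] at hp'
      let p' := P.comap (algebraMap (DerExt61.CompTensor.C k A (AlgebraicClosure k)) (Localization.AtPrime M.asIdeal))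
      have hp'' : p'.IsPrime := Ideal.IsPrime.comap _
      exact ⟨AlgebraicClosure k, inferInstance, inferInstance, inferInstance, p', hp'', hp',
        @ha (AlgebraicClosure k) inferInstance inferInstance p' hp'' hp'⟩
    tfae_have 2 → 3 := fun ⟨k', _, _, _, p', hpr, hp', hreg⟩ => by
      let q : Ideal (DerExt61.CompTensor.C k A k') := p'
      haveI : q.IsPrime := hpr
      obtain ⟨y, hy⟩ := gens_of_regular p n hn₁ k' q hp' hreg
      obtain ⟨J, hJ, hJp, _, _, _, _, _, hregJ⟩ := DerExt61.Cut.exists_model p hp n hn₁ hn₂' y hy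
      obtain ⟨e⟩ := DerExt61.Cut.exists_localization_algEquiv p J hJ
      haveI : IsRegularLocalRing (Localization.AtPrime p) := IsRegularLocalRing.of_ringEquiv e.symm.toRingEquiv
      haveI := RegLoc.isDomain (Localization.AtPrime p)
      exact DerExt61.Etale.free_of_gens p q₀ hq₀ hq₀p hq₀dim y hy
    tfae_have 3 → 1 := fun hb k' _ _ p' hpr hp' => by
      let q : Ideal (DerExt61.CompTensor.C k A k') := p'
      haveI : q.IsPrime := hpr
      obtain ⟨y, hy⟩ := hgens hb
      obtain ⟨J, hJ, hJp, _, _, hx, _, _, _⟩ := DerExt61.Cut.exists_model p hp n hn₁ hn₂' y hy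
      exact DerExt61.EtaleBC.isRegularLocalRing_of_model p (n := n) J hJ hx q hp'
    tfae_finish
  · obtain ⟨y, hy⟩ := hgens hb
    obtain ⟨J, hJ, hJp, _, _, _, _, _, _⟩ := DerExt61.Cut.exists_model p hp n hn₁ hn₂' y hy
    haveI : IsRegularLocalRing (MvPowerSeries (Fin n) k) := PSLoc.isRegularLocalRing k n
    haveI : Algebra.FinitePresentation (MvPowerSeries (Fin n) k) (A ⧸ J) :=
      Algebra.FinitePresentation.of_finiteType.mp inferInstance
    have hg := DerExt61.Etale.isGeometricallyRegular_of_etaleAt (k := k) (n := n) (p.map (Ideal.Quotient.mk J))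
    obtain ⟨e⟩ := DerExt61.Cut.exists_localization_algEquiv p J hJ
    intro L _ _ hL
    haveI := hg L hL
    exact IsRegularRing.of_ringEquiv (Algebra.TensorProduct.congr (AlgEquiv.refl : L ≃ₐ[k] L) (e.symm.restrictScalars k)).toRingEquiv

end Groth.Agent.S3851
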