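import Groth.Statements.S3852
import Groth.Agent.Adic.PowLe
-- import your own Groth.Agent.* helpers here

set_option autoImplicit false
universe u
open FCompl

namespace Groth.Agent.S3852

open AlgebraicGeometry in
/-- Second assertion; stated for quasi-coherent ideal sheaves, with the condition on supports as an
inclusion, which is what the proof uses: Let X be a Noetherian scheme and I, J ideal sheaves such
that the zero locus of J is contained in the zero locus of I. Then I^n ≤ J for some n ≥ 1. -/
theorem result
    (X : Scheme.{u}) [IsNoetherian X] (I J : X.IdealSheafData)
    (h : (J.support : Set X) ⊆ I.support) :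
    ∃ n : ℕ, I ^ (n + 1) ≤ J := by
  obtain ⟨n, hn⟩ := Groth.Agent.Adic.PowLe.exists_pow_le I J (fun U => by
    have := IsLocallyNoetherian.component_noetherian U
    exact IsNoetherian.noetherian _) h
  exact ⟨n, hn (n + 1) (Nat.le_succ n)⟩

end Groth.Agent.S3852
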