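import Groth.Statements.S3856
import Groth.Agent.Adic.Basic
import Groth.Agent.RegLoc.AdicNoeth
import Mathlib.RingTheory.Finiteness.Ideal
-- import your own Groth.Agent.* helpers here

set_option autoImplicit false
universe u
open AdicRing

namespace Groth.Agent.S3856

/-- Let A be a ring that is complete and separated for the J-adic topology of an ideal J. If A/J² is
Noetherian (equivalently, A/J is Noetherian and J/J² is a finitely generated A/J-module), then A is
Noetherian. The published statement is phrased for a formal spectrum Spf(A) all of whose levels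
Spec(A/J^(n+1)) are Noetherian; it is stated here with the weaker hypothesis that A/J² is
Noetherian. -/
theorem result (A : Type u) [CommRing A]
    (J : Ideal A) [IsAdicComplete J A] [IsNoetherianRing (A ⧸ J ^ 2)] : IsNoetherianRing A := by
  classical
  have hJA : IsNoetherianRing (A ⧸ J) := by
    have hle : J ^ 2 ≤ J := Ideal.pow_le_self two_ne_zero
    exact isNoetherianRing_of_surjective (A ⧸ J ^ 2) (A ⧸ J) (Ideal.Quotient.factor hle)
      (Ideal.Quotient.factor_surjective hle)
  obtain ⟨s, hs⟩ := IsNoetherian.noetherian (J.map (Ideal.Quotient.mk (J ^ 2)))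
  have hex : ∀ x : s, ∃ a : J, Ideal.Quotient.mk (J ^ 2) (a : A) = x := by
    intro x
    have hx : (x : A ⧸ J ^ 2) ∈ J.map (Ideal.Quotient.mk (J ^ 2)) := hs ▸ Submodule.subset_span x.2
    rw [Ideal.mem_map_iff_of_surjective _ Ideal.Quotient.mk_surjective] at hx
    obtain ⟨a, ha, e⟩ := hx
    exact ⟨⟨a, ha⟩, e⟩
  choose a ha using hex
  have hH : IsHausdorff J J := ⟨fun x hx => Subtype.ext <|
    IsHausdorff.haus (inferInstance : IsHausdorff J A) (x : A) fun n => by
      rw [SModEq.zero]
      have h1 : (Submodule.subtype J) x ∈ (J ^ n • (⊤ : Submodule A J)).map (Submodule.subtype J) :=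
        Submodule.mem_map_of_mem (SModEq.zero.1 (hx n))
      rw [Submodule.map_smul''] at h1
      exact SetLike.le_def.1 (smul_mono_right _ le_top) h1⟩
  have hfin : Module.Finite A J := by
    refine Groth.Agent.Adic.finite_of_finite_quot J ?_
    refine Module.Finite.of_surjective
      ((Submodule.mkQ _) ∘ₗ (Fintype.linearCombination A a : (s → A) →ₗ[A] J)) fun y => ?_
    obtain ⟨y, rfl⟩ := Submodule.mkQ_surjective _ y
    have hy : Ideal.Quotient.mk (J ^ 2) (y : A) ∈ Submodule.span (A ⧸ J ^ 2) (s : Set _) :=
      hs.symm ▸ Ideal.mem_map_of_mem _ y.2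
    rw [Submodule.mem_span_finset'] at hy
    obtain ⟨c, hc⟩ := hy
    choose c' hc' using fun x : s => Ideal.Quotient.mk_surjective (c x)
    refine ⟨c', (Submodule.Quotient.eq _).2 ?_⟩
    have : ((Fintype.linearCombination A a c' - y : J) : A) ∈ J ^ 2 := by
      rw [← Ideal.Quotient.eq_zero_iff_mem]
      simp [Fintype.linearCombination_apply, map_sum, hc', ha, ← hc]
    refine (Submodule.mem_smul_top_iff J J _).2 ?_
    exact SetLike.le_def.1 (le_of_eq (pow_two J)) this
  exact Groth.Agent.RegLoc.AdicNoeth.isNoetherianRing_of_isAdicComplete J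
    (Module.Finite.iff_fg.1 hfin)

end Groth.Agent.S3856
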