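import Groth.Statements.S3858
import Groth.Agent.Adic.AdicHom

set_option autoImplicit false
universe u
open FCompl CategoryTheory Limits

namespace Groth.Agent.S3858

open AlgebraicGeometry in
/-- Formal schemes are presented as systems of thickenings (X_n)_n and fibre products of systems are
taken levelwise. Let X → S be an adic morphism of systems (every square X_n → X_(n+1), S_n → S_(n+1)
is cartesian) whose level-0 morphism X_0 → S_0 is locally of finite type, and S' → S a morphism from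
a locally Noetherian adic formal system S'. Then the levelwise fibre product (X_n ×_(S_n) S'_n)_n is
a locally Noetherian adic formal system, its projection to S' is adic, and the level-0 projection
X_0 ×_(S_0) S'_0 → S'_0 is locally of finite type. The published statement concerns the fibre
product of formal schemes, which the levelwise fibre product presents because X is adic over S, and
also assumes X and S locally Noetherian, which is not assumed here. -/
theorem result {𝔛 𝔖 𝔖' : FSch.Sys.{u}} (f : 𝔛 ⟶ 𝔖) (g : 𝔖' ⟶ 𝔖)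
    (h𝔖' : 𝔖'.IsLocNoethFormal) (hf : FSch.IsAdicHom f) [LocallyOfFiniteType ((f : FSch.Hom 𝔛 𝔖).app 0)] :
    (FSch.pullbackSys f g).IsLocNoethFormal ∧ FSch.IsAdicHom (FSch.pullbackSnd f g) ∧
      LocallyOfFiniteType ((FSch.pullbackSnd f g : FSch.Hom _ _).app 0) := by

  have hsnd : FSch.IsAdicHom (FSch.pullbackSnd f g) := fun n => by
    have hn : IsPullback (pullback.fst ((f : FSch.Hom 𝔛 𝔖).app (n + 1)) ((g : FSch.Hom 𝔖' 𝔖).app (n + 1)))
        (pullback.snd _ _) ((f : FSch.Hom 𝔛 𝔖).app (n + 1)) ((g : FSch.Hom 𝔖' 𝔖).app (n + 1)) :=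
      IsPullback.of_hasPullback _ _
    have h0 : IsPullback (pullback.fst ((f : FSch.Hom 𝔛 𝔖).app n) ((g : FSch.Hom 𝔖' 𝔖).app n) ≫ 𝔛.ι n)
        (pullback.snd _ _) ((f : FSch.Hom 𝔛 𝔖).app (n + 1))
        (𝔖'.ι n ≫ (g : FSch.Hom 𝔖' 𝔖).app (n + 1)) := by
      rw [← (g : FSch.Hom 𝔖' 𝔖).comm n]
      exact (IsPullback.of_hasPullback _ _).paste_horiz (hf n)
    refine IsPullback.of_right ?_ ?_ hn
    · have e : (FSch.pullbackSys f g).ι n ≫
          pullback.fst ((f : FSch.Hom 𝔛 𝔖).app (n + 1)) ((g : FSch.Hom 𝔖' 𝔖).app (n + 1)) =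
          pullback.fst ((f : FSch.Hom 𝔛 𝔖).app n) ((g : FSch.Hom 𝔖' 𝔖).app n) ≫ 𝔛.ι n :=
        pullback.lift_fst _ _ _
      rw [e]
      exact h0
    · exact pullback.lift_snd _ _ _
  have hlft : LocallyOfFiniteType ((FSch.pullbackSnd f g : FSch.Hom _ _).app 0) :=
    inferInstanceAs (LocallyOfFiniteType (pullback.snd _ _))
  have := h𝔖'.2.2 0
  have : IsLocallyNoetherian ((FSch.pullbackSys f g).X 0) :=
    LocallyOfFiniteType.isLocallyNoetherian ((FSch.pullbackSnd f g : FSch.Hom _ _).app 0)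
  exact ⟨⟨Groth.Agent.Adic.AdicHom.isFormal _ h𝔖'.1 hsnd,
    Groth.Agent.Adic.AdicHom.isAdic _ h𝔖'.1 hsnd h𝔖'.2.1,
    Groth.Agent.Adic.AdicHom.isLocallyNoetherian _ h𝔖'.1 hsnd h𝔖'.2.1 h𝔖'.2.2⟩, hsnd, hlft⟩

end Groth.Agent.S3858
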