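import Groth.Statements.S3859
-- import your own Groth.Agent.* helpers here

set_option autoImplicit false
universe u
open FCompl

namespace Groth.Agent.S3859

open AlgebraicGeometry in
open CategoryTheory in
/-- In the presentation by systems of thickenings: For morphisms of systems X -> S and Y -> S, the
levelwise fibre product with its two projections is a fibre product in the category of systems; it
presents the fibre product of formal schemes when one factor is adic over the base, and otherwise
only up to cofinality of the levels. -/
theorem result {𝔛 𝔜 𝔖 : FSch.Sys.{u}} (f : 𝔛 ⟶ 𝔖) (g : 𝔜 ⟶ 𝔖) :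
    IsPullback (FSch.pullbackFst f g) (FSch.pullbackSnd f g) f g := by
  refine ⟨⟨FSch.Hom.ext (funext fun n => Limits.pullback.condition)⟩, ⟨?_⟩⟩
  refine Limits.PullbackCone.IsLimit.mk _
    (fun s => ⟨fun n => Limits.pullback.lift ((s.fst : FSch.Hom _ _).app n)
      ((s.snd : FSch.Hom _ _).app n) (congrArg (fun φ => (φ : FSch.Hom _ _).app n) s.condition),
      fun n => ?_⟩) (fun s => FSch.Hom.ext (funext fun n => Limits.pullback.lift_fst _ _ _))
    (fun s => FSch.Hom.ext (funext fun n => Limits.pullback.lift_snd _ _ _))
    (fun s m h1 h2 => FSch.Hom.ext (funext fun n => ?_))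
  · refine Limits.pullback.hom_ext ?_ ?_
    · simp only [FSch.pullbackSys, Category.assoc, Limits.pullback.map, Limits.pullback.lift_fst,
        Limits.pullback.lift_fst_assoc]
      exact (s.fst : FSch.Hom _ _).comm n
    · simp only [FSch.pullbackSys, Category.assoc, Limits.pullback.map, Limits.pullback.lift_snd,
        Limits.pullback.lift_snd_assoc]
      exact (s.snd : FSch.Hom _ _).comm n
  · refine Limits.pullback.hom_ext ?_ ?_
    · rw [Limits.pullback.lift_fst]
      exact congrArg (fun φ => (φ : FSch.Hom _ _).app n) h1
    · rw [Limits.pullback.lift_snd]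
      exact congrArg (fun φ => (φ : FSch.Hom _ _).app n) h2

end Groth.Agent.S3859
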