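import Groth.Statements.S3874
import Groth.Agent.Adic.CV.Trunc

set_option autoImplicit false
universe u
open FCompl

namespace Groth.Agent.S3874

/-- Let A be a Noetherian ring, J an ideal, f ∈ A and n ≥ 0, and let A_{f} be the completion of the
localization A_f for the topology defined by the extension of J. There is a ring isomorphism from
the localization of A/J^(n+1) away from the class of f onto A_{f} modulo the (n+1)-st power of the
extension of J to A_{f}, compatible with the canonical maps from A (and hence unique). In terms of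
formal spectra: the open D(f) of Spf(A) is Spf(A_{f}), and at level n its ring is the ring
(A/J^(n+1))_f of the open D(f) of Spec(A/J^(n+1)). -/
theorem result (A : Type u) [CommRing A] [IsNoetherianRing A] (J : Ideal A)
    (f : A) (n : ℕ) :
    ∃ e : Localization.Away (Ideal.Quotient.mk (J ^ (n + 1)) f) ≃+*
        FSch.cAway A J f ⧸ (J.map (algebraMap A (FSch.cAway A J f))) ^ (n + 1),
      ∀ a : A, e (algebraMap (A ⧸ J ^ (n + 1)) _ (Ideal.Quotient.mk (J ^ (n + 1)) a)) =
        Ideal.Quotient.mk _ (algebraMap A (FSch.cAway A J f) a) := by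

  let L := Localization.Away f
  let I : Ideal A := J ^ (n + 1)
  haveI : IsLocalization.Away (Ideal.Quotient.mk I f) (L ⧸ I.map (algebraMap A L)) := by
    have h : Algebra.algebraMapSubmonoid (A ⧸ I) (Submonoid.powers f) =
        Submonoid.powers (Ideal.Quotient.mk I f) := by
      simp [Algebra.algebraMapSubmonoid, Submonoid.map_powers]
    show IsLocalization (Submonoid.powers _) _
    rw [← h]
    infer_instance
  have hJ : J.FG := IsNoetherian.noetherian J
  let e1 : Localization.Away (Ideal.Quotient.mk I f) ≃ₐ[A ⧸ I] L ⧸ I.map (algebraMap A L) :=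
    IsLocalization.algEquiv (Submonoid.powers (Ideal.Quotient.mk I f)) _ _
  have h2 : I.map (algebraMap A L) = (J.map (algebraMap A L)) ^ (n + 1) := Ideal.map_pow _ _ _
  have h3 : (J ^ (n + 1)).map (algebraMap A (FSch.cAway A J f)) =
      (J.map (algebraMap A (FSch.cAway A J f))) ^ (n + 1) := Ideal.map_pow _ _ _
  let e2 := Groth.Agent.Adic.CV.quotComplOver (C := L) (I := J) A hJ (n + 1)
  refine ⟨(e1.toRingEquiv.trans (Ideal.quotEquivOfEq h2)).trans
    (e2.symm.toRingEquiv.trans (Ideal.quotEquivOfEq h3)), fun a => ?_⟩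
  change Ideal.quotEquivOfEq h3 (e2.symm (Ideal.quotEquivOfEq h2 (e1 (algebraMap (A ⧸ I) _ (Ideal.Quotient.mk I a))))) = _
  rw [AlgEquiv.commutes]
  have h4 : Ideal.quotEquivOfEq h2 (algebraMap (A ⧸ I) (L ⧸ I.map (algebraMap A L)) (Ideal.Quotient.mk I a)) =
      algebraMap A (L ⧸ (J.map (algebraMap A L)) ^ (n + 1)) a := rfl
  rw [h4, AlgEquiv.commutes]
  rfl

end Groth.Agent.S3874
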