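import Groth.Statements.S3880
import Groth.Agent.HyperLib.PathFill
import Groth.Agent.HyperLib.Ops

set_option autoImplicit false
universe u
open CategoryTheory
open Hyper

namespace Groth.Agent.S3880

open Opposite CategoryTheory.Limits Simplicial HyperLib.Points HyperLib.PathObj in
lemma exists_homotopy {D : Type u} [SmallCategory D] [HasFiniteLimits (FormalCoproduct.{u} D)]
    {J : GrothendieckTopology D} {K L : SimplicialObject (FormalCoproduct.{u} D)}
    (hK : HC K J) (hL : HC L J) (a b : K ⟶ L) :
    ∃ (M : SimplicialObject (FormalCoproduct.{u} D)) (c : M ⟶ K),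
      HC M J ∧ Nonempty (SimplicialObject.Homotopy (c ≫ a) (c ≫ b)) := by
  let ab : K ⟶ L ⨯ L := prod.lift a b
  let be : path L ⟶ L ⨯ L := prod.lift (bot L) (top L)
  have hprod : ∀ k, IsLimit (BinaryFan.mk ((prod.fst : L ⨯ L ⟶ L).app k) ((prod.snd : L ⨯ L ⟶ L).app k)) :=
    fun k => mapIsLimitOfPreservesOfIsLimit ((evaluation _ _).obj k) _ _ (prodIsProd L L)
  have hbe1 : ∀ k, be.app k ≫ (prod.fst : L ⨯ L ⟶ L).app k = (bot L).app k := fun k =>
    congrArg (fun t : path L ⟶ L => t.app k) (prod.lift_fst (bot L) (top L))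
  have hbe2 : ∀ k, be.app k ≫ (prod.snd : L ⨯ L ⟶ L).app k = (top L).app k := fun k =>
    congrArg (fun t : path L ⟶ L => t.app k) (prod.lift_snd (bot L) (top L))
  refine ⟨pullback ab be, pullback.fst ab be, HyperLib.Ops.hc_pullback
    (fun k => (IsPullback.of_hasPullback ab be).map ((evaluation _ _).obj k)) hK
    (fun W x => ?_) (fun n W z hz x hx => ?_), ?_⟩
  · refine J.superset_covering ?_ (hL.fill 0 W
      ![x ≫ (prod.snd : L ⨯ L ⟶ L).app _, x ≫ (prod.fst : L ⨯ L ⟶ L).app _]
      (fun m hm => absurd hm (by omega)))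
    rintro W' g ⟨w, hw⟩
    refine ⟨plift (m := 0) (fun _ => w) (fun i => i.elim0), BinaryFan.IsLimit.hom_ext (hprod _) ?_ ?_⟩
    · refine (Category.assoc _ _ _).trans ((congrArg (_ ≫ ·) (hbe1 _)).trans ?_)
      refine (Category.assoc _ _ _).symm.trans ((congrArg (· ≫ L.δ _) (plift_π _ _ _)).trans ?_)
      exact (hw 1).trans (Category.assoc _ _ _).symm
    · refine (Category.assoc _ _ _).trans ((congrArg (_ ≫ ·) (hbe2 _)).trans ?_)
      refine (Category.assoc _ _ _).symm.trans ((congrArg (· ≫ L.δ _) (plift_π _ _ _)).trans ?_)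
      exact (hw 0).trans (Category.assoc _ _ _).symm
  · have hbd : HyperLib.PathFill.Bdry z (x ≫ (prod.fst : L ⨯ L ⟶ L).app _)
        (x ≫ (prod.snd : L ⨯ L ⟶ L).app _) := by
      refine ⟨hz, fun j => ?_, fun j => ?_⟩
      · rw [Category.assoc, HyperLib.Ops.app_δ, reassoc_of% (hx j), hbe1]
      · rw [Category.assoc, HyperLib.Ops.app_δ, reassoc_of% (hx j), hbe2]
    obtain ⟨R, hR, hfill⟩ := HyperLib.PathFill.exists_fill hL hbd
    refine ⟨R, hR, fun g hg => ?_⟩
    obtain ⟨y, hy1, hy2, hy3⟩ := hfill g hg
    refine ⟨y, BinaryFan.IsLimit.hom_ext (hprod _) ?_ ?_, hy3⟩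
    · refine (Category.assoc _ _ _).trans ((congrArg (y ≫ ·) (hbe1 _)).trans ?_)
      exact hy1.trans (Category.assoc _ _ _).symm
    · refine (Category.assoc _ _ _).trans ((congrArg (y ≫ ·) (hbe2 _)).trans ?_)
      exact hy2.trans (Category.assoc _ _ _).symm
  · have e1 : pullback.fst ab be ≫ a = pullback.snd ab be ≫ bot L :=
      ((congrArg (_ ≫ ·) (prod.lift_fst a b).symm).trans (Category.assoc _ _ _).symm).trans
        ((congrArg (· ≫ prod.fst) pullback.condition).trans
          ((Category.assoc _ _ _).trans (congrArg (_ ≫ ·) (prod.lift_fst (bot L) (top L)))))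
    have e2 : pullback.fst ab be ≫ b = pullback.snd ab be ≫ top L :=
      ((congrArg (_ ≫ ·) (prod.lift_snd a b).symm).trans (Category.assoc _ _ _).symm).trans
        ((congrArg (· ≫ prod.snd) pullback.condition).trans
          ((Category.assoc _ _ _).trans (congrArg (_ ≫ ·) (prod.lift_snd (bot L) (top L)))))
    rw [e1, e2]
    exact ⟨homotopy _⟩

open Opposite CategoryTheory.Limits in
/-- For hypercoverings of an object X of a small site with fibre products (coskeleta assumed to exist):
(a) any two hypercoverings K, L of X receive morphisms from a common hypercovering M; (b) for any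
two morphisms a, b : K -> L of hypercoverings there is a morphism of hypercoverings c : M -> K such
that c followed by a and c followed by b are homotopic (simplicial homotopy in the combinatorial
sense, equivalent to a morphism from the product of M with the simplicial interval). In other words
the opposite of the category of hypercoverings up to homotopy is filtered. -/
theorem result {C : Type u} [SmallCategory C] [HasPullbacks C]
    (J : GrothendieckTopology C) (X : C)
    [∀ (n : ℕ) (F : (SimplexCategory.Truncated n)ᵒᵖ ⥤ Limits.FormalCoproduct.{u} (Over X)),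
      (SimplexCategory.Truncated.inclusion n).op.HasRightKanExtension F]
    (K L : SimplicialObject (FormalCoproduct.{u} (Over X)))
    (hK : Hyper.IsHypercovering J X K) (hL : Hyper.IsHypercovering J X L) :
    (∃ (M : SimplicialObject (FormalCoproduct.{u} (Over X))) (_ : M ⟶ K) (_ : M ⟶ L),
      Hyper.IsHypercovering J X M) ∧
    ∀ (a b : K ⟶ L), ∃ (M : SimplicialObject (FormalCoproduct.{u} (Over X))) (c : M ⟶ K),
      Hyper.IsHypercovering J X M ∧ Nonempty (SimplicialObject.Homotopy (c ≫ a) (c ≫ b)) := by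
  have := HyperLib.Refine.hasFiniteLimits_formalCoproduct (D := Over X)
  have hK' := HyperLib.Points.hc_of_isHypercovering hK
  have hL' := HyperLib.Points.hc_of_isHypercovering hL
  refine ⟨⟨K ⨯ L, prod.fst, prod.snd, HyperLib.Points.isHypercovering_of_hc
    (HyperLib.Ops.hc_prod ?_ ?_ hK' hL' (p₁ := prod.fst) (p₂ := prod.snd))⟩, fun a b => ?_⟩
  · intro k T x y
    have hl := mapIsLimitOfPreservesOfIsLimit ((evaluation _ _).obj k) _ _ (prodIsProd K L)
    obtain ⟨l, h1, h2⟩ := BinaryFan.IsLimit.lift' hl x y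
    exact ⟨l, h1, h2⟩
  · intro k T l l' h1 h2
    exact BinaryFan.IsLimit.hom_ext
      (mapIsLimitOfPreservesOfIsLimit ((evaluation _ _).obj k) _ _ (prodIsProd K L)) h1 h2
  · obtain ⟨M, c, hM, hh⟩ := exists_homotopy hK' hL' a b
    exact ⟨M, c, HyperLib.Points.isHypercovering_of_hc hM, hh⟩

end Groth.Agent.S3880
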