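import Groth.Statements.S3883
import Groth.Agent.EtaleSite.SetPushImage
-- import your own Groth.Agent.* helpers here

set_option autoImplicit false
open CategoryTheory CategoryTheory.Limits AlgebraicGeometry Opposite
universe u
open EtDesc

namespace Groth.Agent.S3883

/-- Let i : Y -> X be a closed immersion and j : U -> X an open immersion whose image is the complement
of the image of i. Then the direct image functor i_* on etale sheaves of sets is fully faithful, and
a sheaf of sets F on X is isomorphic to some i_* G if and only if j^* F is a final object. -/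
theorem result {Y X U : Scheme.{u}} (i : Y ⟶ X)
    [IsClosedImmersion i] (j : U ⟶ X) [IsOpenImmersion j]
    (hU : Set.range j.base = (Set.range i.base)ᶜ) :
    (EtDesc.pushSh i).Full ∧ (EtDesc.pushSh i).Faithful ∧
    ∀ F : EtDesc.Sh X, (EtDesc.pushSh i).essImage F ↔ IsIso (terminal.from ((EtDesc.pullSh j).obj F)) := by
  have P := Groth.Agent.EtaleSite.SetPush.fullyFaithfulPushSh i
    (Groth.Agent.EtaleSite.SetPush.isIso_counit i)
  refine ⟨P.full, P.faithful, fun F => ?_⟩
  rw [Groth.Agent.EtaleSite.SetPush.isIso_terminal_iff]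
  constructor
  · rintro ⟨G, ⟨e⟩⟩ Ω _ _ ξ
    let e' := ((Groth.Agent.EtaleSite.SetStalk.stalkPullShIso j ξ).app F ≪≫
      (Groth.Agent.EtaleSite.SetStalk.stalkSh (ξ ≫ j)).mapIso e.symm).toEquiv
    obtain ⟨h₁, h₂⟩ := Groth.Agent.EtaleSite.SetPush.unique_stalk_push i (ξ ≫ j)
      (fun h => (hU.le ⟨ξ default, rfl⟩ : j (ξ default) ∈ _) h) G
    exact ⟨h₁.map e'.symm, @Equiv.subsingleton _ _ e' h₂⟩
  · intro h
    have hu : IsIso ((EtDesc.adjSh i).unit.app F) := by
      refine Groth.Agent.EtaleSite.SetPush.isIso_unit_of_unique i F fun Ω _ _ η hη => ?_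
      have hr : Set.range η ⊆ Set.range j := by
        rintro _ ⟨o, rfl⟩
        refine hU.ge ?_
        rwa [Subsingleton.elim (α := Spec (CommRingCat.of Ω)) o default]
      let ξ := IsOpenImmersion.lift j η hr
      obtain ⟨h₁, h₂⟩ := h Ω ξ
      have e : ξ ≫ j = η := IsOpenImmersion.lift_fac _ _ _
      let e' := ((Groth.Agent.EtaleSite.SetStalk.stalkPullShIso j ξ).app F).toEquiv
      rw [← e]
      exact ⟨h₁.map e', @Equiv.subsingleton _ _ e'.symm h₂⟩
    exact ⟨_, ⟨(asIso ((EtDesc.adjSh i).unit.app F)).symm⟩⟩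
end Groth.Agent.S3883
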