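import Groth.Statements.S3886
import Mathlib.AlgebraicTopology.SimplicialObject.ChainHomotopy
import Mathlib.CategoryTheory.Preadditive.Opposite

set_option autoImplicit false
universe u
open CategoryTheory
open Hyper

namespace Groth.Agent.S3886

open Opposite CategoryTheory.Limits AlgebraicTopology Simplicial in
lemma coface_d_eq {E : Type*} [Category E] {A : Type*} [Category A] [Preadditive A] (G : Eᵒᵖ ⥤ A)
    (K : SimplicialObject E) (n : ℕ) :
    ((alternatingCofaceMapComplex A).obj (K.rightOp ⋙ G)).d n (n + 1) =
      (((alternatingFaceMapComplex Aᵒᵖ).obj (K ⋙ G.rightOp)).d (n + 1) n).unop := by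
  rw [alternatingFaceMapComplex_obj_d]
  simp only [alternatingCofaceMapComplex, AlternatingCofaceMapComplex.obj, CochainComplex.of_d,
    AlternatingCofaceMapComplex.objD, AlternatingFaceMapComplex.objD, unop_sum, unop_zsmul]
  rfl

open Opposite CategoryTheory.Limits in
/-- Let a, b : L -> K be two morphisms of simplicial semi-representable objects over an object X of a
small category (simplicial objects in formal coproducts of objects over X), homotopic in the
combinatorial (simplicial) sense. Then for every presheaf of abelian groups P and every p, a and b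
induce the same map from the p-th Cech cohomology group of P with respect to K to that with respect
to L. -/
theorem result {C : Type u} [SmallCategory C] (X : C)
    {K L : SimplicialObject (FormalCoproduct.{u} (Over X))} (a b : L ⟶ K)
    (h : Nonempty (SimplicialObject.Homotopy a b)) (P : Cᵒᵖ ⥤ AddCommGrpCat.{u}) (p : ℕ) :
    Hyper.cechHMap X a P p = Hyper.cechHMap X b P p := by
  obtain ⟨H⟩ := h
  let G := (FormalCoproduct.evalOp.{u} (Over X) AddCommGrpCat.{u}).obj ((Over.forget X).op ⋙ P)
  let hc := (H.whiskerRight G.rightOp).toChainHomotopy
  have hd : ∀ (W : SimplicialObject (FormalCoproduct.{u} (Over X))) (n : ℕ),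
      (Hyper.cechCx X W P).d n (n + 1) =
        (((AlgebraicTopology.alternatingFaceMapComplex AddCommGrpCat.{u}ᵒᵖ).obj (W ⋙ G.rightOp)).d (n + 1) n).unop :=
    fun W n => coface_d_eq G W n
  let hom : _root_.Homotopy (Hyper.cechMap X a P) (Hyper.cechMap X b P) :=
    { hom := fun i j => (hc.hom j i).unop
      zero := fun i j hij => by
        rw [hc.zero j i hij]
        rfl
      comm := fun n => by
        have hn := congrArg Quiver.Hom.unop (hc.comm n)
        rw [prevD_eq _ (w := (rfl : n + 1 = n + 1))] at hn
        rw [dNext_eq _ (w := (rfl : n + 1 = n + 1))]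
        cases n with
        | zero =>
          rw [dNext_eq_zero _ _ (by simp), zero_add, unop_add, unop_comp] at hn
          rw [prevD_eq_zero _ _ (by simp), add_zero, hd]
          exact hn
        | succ m =>
          rw [dNext_eq _ (w := (rfl : m + 1 = m + 1)), unop_add, unop_add, unop_comp, unop_comp] at hn
          rw [prevD_eq _ (w := (rfl : m + 1 = m + 1)), hd, hd]
          exact hn.trans (by rw [add_comm (_ ≫ _) (_ ≫ _)]; rfl) }
  exact congrArg AddCommGrpCat.Hom.hom (hom.homologyMap_eq p)

end Groth.Agent.S3886
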