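import Groth.Statements.S3890
import Groth.Agent.EtLimit.BigGmGa
import Groth.Agent.EtLimit.SysMap

set_option autoImplicit false
open CategoryTheory CategoryTheory.Limits AlgebraicGeometry Opposite
universe u
open EtLim

namespace Groth.Agent.S3890

set_option maxHeartbeats 2000000 in
/-- For the additive group (the source treats any commutative group scheme locally of finite
presentation over some stage): let ι be a nonempty directed preordered set, (X_i) an inverse system
of quasi-compact quasi-separated schemes indexed by ι with affine transition morphisms, and X a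
limit with projections u_i. Then the pullback maps H^n(X_i, G_a) -> H^n(X, G_a) on etale cohomology
identify H^n(X, G_a) with the directed colimit of the H^n(X_i, G_a), in the concrete sense: every
class on X comes from some stage, and a class at stage j mapping to zero on X already maps to zero
at some stage k ≥ j. (Exactness of pullback of abelian sheaves, which always holds, is carried as an
instance hypothesis.) -/
theorem result {ι : Type u} [Preorder ι] [Nonempty ι] [IsDirected ι (· ≤ ·)] (Xs : ιᵒᵖ ⥤ Scheme.{u})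
    (haff : ∀ ⦃a b : ιᵒᵖ⦄ (h : a ⟶ b), IsAffineHom (Xs.map h))
    (hqc : ∀ a, CompactSpace ↥(Xs.obj a)) (hqs : ∀ a, QuasiSeparatedSpace ↥(Xs.obj a))
    (c : Cone Xs) (hc : IsLimit c) (n : ℕ)
    [∀ a, PreservesFiniteLimits (EtCoh.pull (c.π.app a))]
    [∀ ⦃a b : ιᵒᵖ⦄ (h : a ⟶ b), PreservesFiniteLimits (EtCoh.pull (Xs.map h))] :
    (∀ ξ : EtCoh.H c.pt (EtCoh.Ga c.pt) n,
      ∃ (j : ι) (ξj : EtCoh.H (Xs.obj (op j)) (EtCoh.Ga (Xs.obj (op j))) n),
        EtLim.HGaPull (c.π.app (op j)) n ξj = ξ) ∧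
    (∀ (j : ι) (ξj : EtCoh.H (Xs.obj (op j)) (EtCoh.Ga (Xs.obj (op j))) n),
      EtLim.HGaPull (c.π.app (op j)) n ξj = 0 →
        ∃ (k : ι) (hk : j ≤ k), EtLim.HGaPull (Xs.map (homOfLE hk).op) n ξj = 0) := by
  haveI : ∀ (a b : ιᵒᵖ) (h : a ⟶ b), IsAffineHom (Xs.map h) := fun a b h => haff h
  let S := Groth.Agent.EtLimit.bigSys EtCoh.ΓAdd EtCoh.isSheaf_ΓAdd Xs
  obtain ⟨hK⟩ := Groth.Agent.EtLimit.nonempty_isColimit_bigCocone c EtCoh.ΓAdd EtCoh.isSheaf_ΓAdd hc
    Groth.Agent.EtLimit.limitContinuous_ΓAdd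
  let s : ∀ {j i : ιᵒᵖ} (a : j ⟶ i), (EtCoh.pull (Xs.map a)).obj (S.E i) ⟶ S.E j :=
    fun {j i} a => (S.σ a).desc
  let ψ : ∀ i : ιᵒᵖ, (EtCoh.pull (c.π.app i)).obj (S.E i) ≅ (S.pullDiag c).obj (op i) :=
    fun i => Iso.refl _
  have hψ : ∀ (j i : ιᵒᵖ) (a : j ⟶ i), (EtCoh.pull (c.π.app j)).map (s a) ≫ (ψ j).hom =
      (Groth.Agent.EtLimit.FHom.κ (c.π.app j) (Xs.map a) (c.w a) (S.E i)).hom ≫
        (ψ i).hom ≫ (S.pullDiag c).map a.op := fun j i a =>
    (Category.comp_id _).trans ((S.pull_desc_σ c j i a).trans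
      (congrArg (_ ≫ ·) (Category.id_comp _).symm))
  refine ⟨fun ξ => ?_, fun j ξj h => ?_⟩
  · obtain ⟨j, η, hη⟩ := Groth.Agent.EtLimit.sys_surjective hc s hK ψ hψ n ξ
    exact ⟨j.unop, η, (Groth.Agent.EtLimit.HGaPull_apply (c.π.app j) n η).trans
      ((congrArg (fun q => Sheaf.H.map q n _) (Category.id_comp _).symm).trans hη)⟩
  · obtain ⟨k, a, ha⟩ := Groth.Agent.EtLimit.sys_injective hc s hK ψ hψ
      (fun k j i b a => S.desc_σ_comp k j i b a) n (op j) ξj
      ((congrArg (fun q => Sheaf.H.map q n _) (Category.id_comp _)).trans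
        ((Groth.Agent.EtLimit.HGaPull_apply (c.π.app (op j)) n ξj).symm.trans h))
    exact ⟨k.unop, leOfHom a.unop, (Groth.Agent.EtLimit.HGaPull_apply (Xs.map a) n ξj).trans ha⟩

end Groth.Agent.S3890
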