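import Groth.Statements.S3894
import Mathlib
-- import your own Groth.Agent.* helpers here

set_option autoImplicit false
universe u
open CategoryTheory CategoryTheory.Limits Opposite
open Tors

namespace Groth.Agent.S3894

/-- A torsor P under an abelian sheaf G is trivial, i.e. equivariantly isomorphic to G acting on itself
by translations, if and only if P has a global section (a morphism from the final sheaf of sets). -/
theorem result {C : Type u} [SmallCategory C] {J : GrothendieckTopology C}
    {G : Sheaf J AddCommGrpCat.{u}} (T : Tors.Torsor G) : T.IsTrivial ↔ T.HasSection := by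
  let Z : Sheaf J (Type u) := ⟨(Functor.const Cᵒᵖ).obj PUnit.{u + 1}, by
    rw [isSheaf_iff_isSheaf_of_type]
    intro U S _ x _
    exact ⟨PUnit.unit, fun V u hu => rfl, fun _ _ => rfl⟩⟩
  constructor
  · rintro ⟨e, -⟩
    let z : Z ⟶ (sheafCompose J (forget AddCommGrpCat.{u})).obj G :=
      ⟨{ app := fun U => ↾fun _ => (0 : G.obj.obj U)
         naturality := fun U V u => by
           ext _
           exact (map_zero (G.obj.map u).hom).symm }⟩
    let tZ : (⊤_ (Sheaf J (Type u))) ⟶ Z :=
      ⟨{ app := fun U => ↾fun _ => PUnit.unit, naturality := fun U V u => by ext _; rfl }⟩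
    exact ⟨tZ ≫ z ≫ e.hom⟩
  · rintro ⟨s⟩
    let σ : Z ⟶ T.P := Limits.terminal.from Z ≫ s
    let pt : ∀ U, T.P.obj.obj U := fun U => σ.hom.app U PUnit.unit
    have hpt : ∀ {U V : Cᵒᵖ} (u : U ⟶ V), T.P.obj.map u (pt U) = pt V := fun {U V} u =>
      (CategoryTheory.NatTrans.naturality_apply σ.hom u PUnit.unit).symm
    have hbij : ∀ U, Function.Bijective (fun g : G.obj.obj U => T.vadd g (pt U)) := fun U =>
      ⟨fun a b e => (T.free_transitive (pt U) _).unique e rfl, fun q => (T.free_transitive (pt U) q).exists⟩
    let iso : ((sheafCompose J (forget AddCommGrpCat.{u})).obj G).obj ≅ T.P.obj :=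
      NatIso.ofComponents (fun U => (Equiv.ofBijective _ (hbij U)).toIso) (fun {U V} u => by
        ext g
        show T.vadd (G.obj.map u g) (pt V) = T.P.obj.map u (T.vadd g (pt U))
        exact (congrArg _ (hpt u).symm).trans (T.map_vadd u g (pt U)).symm)
    refine ⟨(fullyFaithfulSheafToPresheaf J (Type u)).preimageIso iso, fun U g h => ?_⟩
    exact T.add_vadd g h (pt U)

end Groth.Agent.S3894
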