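import Groth.Statements.S3895
import Groth.Agent.TorsH1.Basic
-- import your own Groth.Agent.* helpers here

set_option autoImplicit false
universe u
open CategoryTheory CategoryTheory.Limits Opposite
open Tors

namespace Groth.Agent.S3895

/-- In a map-free form (small site, abelian sheaf G): the first cohomology group H^1(G) (Ext^1 out of
the constant sheaf Z) is zero if and only if every G-torsor has a global section. The source's
statement is stronger: a canonical bijection between isomorphism classes of G-torsors and H^1(G). -/
theorem result {C : Type u} [SmallCategory C] {J : GrothendieckTopology C}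
    (G : Sheaf J AddCommGrpCat.{u}) :
    Subsingleton (Sheaf.H.{u} G 1) ↔ ∀ T : Tors.Torsor G, T.HasSection := by
  classical
  let S : ShortComplex (Sheaf J AddCommGrpCat.{u}) :=
    ShortComplex.mk (Injective.ι G) (cokernel.π (Injective.ι G)) (cokernel.condition _)
  have hS : S.ShortExact :=
    { exact := ShortComplex.exact_of_g_is_cokernel S (cokernelIsCokernel (Injective.ι G))
      mono_f := by dsimp [S]; infer_instance
      epi_g := by dsimp [S]; infer_instance }
  have : Injective S.X₂ := by dsimp [S]; infer_instance
  constructor
  · intro h T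
    have : Subsingleton (Abelian.Ext (TorsH1.Zc J) S.X₁ 1) := h
    exact TorsH1.hasSection_of_ext_subsingleton hS T
  · intro h
    refine subsingleton_of_forall_eq 0 fun x => ?_
    show (x : Abelian.Ext (TorsH1.Zc J) S.X₁ 1) = 0
    have h0 : (x : Abelian.Ext (TorsH1.Zc J) S.X₁ 1).comp (Abelian.Ext.mk₀ S.f) (add_zero 1) = 0 :=
      Abelian.Ext.eq_zero_of_injective _
    obtain ⟨x₃, hx₃⟩ := Abelian.Ext.covariant_sequence_exact₁ (TorsH1.Zc J) hS x h0 (zero_add 1)
    obtain ⟨σ, rfl⟩ := (Abelian.Ext.mk₀_bijective _ _).2 x₃
    rw [← hx₃]
    exact TorsH1.comp_extClass_eq_zero_of_hasSection hS σ (h _)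

end Groth.Agent.S3895
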