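import Groth.Statements.S3898
import Groth.Agent.SiteCoh.ColimHelp
import Groth.Agent.SiteCoh.ColimFive

set_option autoImplicit false
open CategoryTheory CategoryTheory.Limits Opposite
universe u
open ToposFin

namespace Groth.Agent.S3898

/-- For a single coherent open (topos of sheaves on a small site): let E be a coherent topos (algebraic
with coherent final object) and U a coherent subobject of the final object, with closed complement
Z. Then for every q the functor F ↦ H^q_Z(E, F) (Ext groups out of Z/Z_U) preserves colimits indexed
by any small filtered category. The source states this for the family of supports attached to a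
decreasing filtered family of such U, which is the filtered colimit of these cases. -/
theorem result {C : Type u} [SmallCategory C]
    {J : GrothendieckTopology C} (hE : ToposFin.IsAlgebraic J) (hT : ToposFin.IsCoherent (⊤_ (ToposFin.Sh J)))
    (U : ToposFin.Sh J) [Mono (terminal.from U)] (hU : ToposFin.IsCoherent U)
    (Λ : Type u) [SmallCategory Λ] [IsFiltered Λ] (q : ℕ) :
    PreservesColimitsOfShape Λ (ToposFin.HZFunctor U q) := by
  let f := (ToposFin.freeAb J).map (terminal.from U)
  have : Mono f := by
    let g := (sheafToPresheaf J (Type u)).map (terminal.from U)
    have hg : Mono g := inferInstance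
    have : Mono (Functor.whiskerRight g AddCommGrpCat.free.{u}) := by
      have : ∀ X, Mono ((Functor.whiskerRight g AddCommGrpCat.free.{u}).app X) := fun X => by
        have : Mono (g.app X) := inferInstance
        exact AddCommGrpCat.free.{u}.map_mono (g.app X)
      exact NatTrans.mono_of_mono_app _
    exact (presheafToSheaf J AddCommGrpCat.{u}).map_mono (Functor.whiskerRight g AddCommGrpCat.free.{u})
  have hS : (ShortComplex.mk f (cokernel.π f) (cokernel.condition f)).ShortExact :=
    { exact := ShortComplex.exact_of_g_is_cokernel _ (cokernelIsCokernel f) }
  refine ⟨fun {D} => ?_⟩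
  have h := SiteCoh.ColimFive.stage_X₃ hS D
    (SiteCoh.SheafColim.liftsExt_and_vanishesExt (SiteCoh.ColimCls.cls_coherent hE) (T := U) hU · D)
    (SiteCoh.SheafColim.liftsExt_and_vanishesExt (SiteCoh.ColimCls.cls_coherent hE) (T := ⊤_ (ToposFin.Sh J)) hT · D) q
  exact SiteCoh.AbColim.preservesColimit_extFunctor _ q D h.1 h.2

end Groth.Agent.S3898
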