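import Groth.Statements.S4024
import Mathlib.RingTheory.MvPolynomial.EulerIdentity

set_option autoImplicit false
universe u
open CategoryTheory CategoryTheory.Limits AlgebraicGeometry
open LefPen

namespace Groth.Agent.S4024

section

open MvPolynomial

variable {k : Type u} [Field k] {r d : ℕ}

/-- The differential of a polynomial at `v`. -/
noncomputable def dv (v : Fin (r + 1) → k) :
    MvPolynomial (Fin (r + 1)) k →ₗ[k] Module.Dual k (Fin (r + 1) → k) where
  toFun G := ∑ i, eval v (pderiv i G) • LinearMap.proj i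
  map_add' G H := by simp [add_smul, Finset.sum_add_distrib]
  map_smul' c G := by simp [Finset.smul_sum, smul_smul]

theorem dv_apply (v w : Fin (r + 1) → k) (G : MvPolynomial (Fin (r + 1)) k) :
    dv v G w = ∑ i, w i * eval v (pderiv i G) := by simp [dv, mul_comm]

theorem dv_mul (v : Fin (r + 1) → k) (G H : MvPolynomial (Fin (r + 1)) k) :
    dv v (G * H) = eval v G • dv v H + eval v H • dv v G := by
  refine LinearMap.ext fun w => ?_
  simp only [dv_apply, pderiv_mul, map_add, map_mul, mul_add, Finset.sum_add_distrib, LinearMap.add_apply,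
    LinearMap.smul_apply, smul_eq_mul, Finset.mul_sum]
  rw [add_comm]
  congr 1 <;> exact Finset.sum_congr rfl fun i _ => by ring

/-- A linear form as a polynomial. -/
noncomputable def lin (l : Module.Dual k (Fin (r + 1) → k)) : MvPolynomial (Fin (r + 1)) k :=
  ∑ i, C (l (Pi.single i 1)) * X i

theorem sum_single (l : Module.Dual k (Fin (r + 1) → k)) (w : Fin (r + 1) → k) :
    ∑ i, w i * l (Pi.single i 1) = l w := by
  conv_rhs => rw [pi_eq_sum_univ' w]
  simp [map_sum]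

theorem eval_lin (l : Module.Dual k (Fin (r + 1) → k)) (v : Fin (r + 1) → k) : eval v (lin l) = l v := by
  rw [← sum_single l v]
  simp [lin, mul_comm]

theorem dv_lin (l : Module.Dual k (Fin (r + 1) → k)) (v : Fin (r + 1) → k) : dv v (lin l) = l := by
  refine LinearMap.ext fun w => ?_
  rw [dv_apply, ← sum_single l w]
  refine Finset.sum_congr rfl fun i _ => ?_
  congr 1
  simp [lin, pderiv_X, Pi.single_apply, apply_ite (eval v)]

theorem lin_mem (l : Module.Dual k (Fin (r + 1) → k)) :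
    lin l ∈ homogeneousSubmodule (Fin (r + 1)) k 1 :=
  sum_mem fun i _ => isHomogeneous_C_mul_X _ i

theorem dv_lin_pow (l : Module.Dual k (Fin (r + 1) → k)) (v : Fin (r + 1) → k) (hl : l v = 1) :
    ∀ n : ℕ, dv v (lin l ^ n) = (n : k) • l
  | 0 => by
    refine LinearMap.ext fun w => ?_
    simp [dv_apply]
  | n + 1 => by
    rw [pow_succ, dv_mul, dv_lin, dv_lin_pow l v hl n, map_pow, eval_lin, hl]
    simp [add_smul, add_comm]

/-- Value and differential at `v`, along `U`. -/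
noncomputable def ψ (U : Submodule k (Fin (r + 1) → k)) (v : Fin (r + 1) → k) :
    LefPen.Form r k d →ₗ[k] k × Module.Dual k U :=
  LinearMap.prod ((aeval v).toLinearMap ∘ₗ (CohB1.polyGrading r k d).subtype)
    (LinearMap.lcomp k k U.subtype ∘ₗ dv v ∘ₗ (CohB1.polyGrading r k d).subtype)

theorem dv_self (v : Fin (r + 1) → k) (G : LefPen.Form r k d) : dv v G.1 v = (d : k) * eval v G.1 := by
  have h := congrArg (eval v) ((show G.1.IsHomogeneous d from G.2).sum_X_mul_pderiv)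
  simpa [dv_apply, map_sum] using h

theorem ψ_eq_zero_iff {U : Submodule k (Fin (r + 1) → k)} {v : Fin (r + 1) → k} {G : LefPen.Form r k d} :
    ψ U v G = 0 ↔ eval v G.1 = 0 ∧ ∀ u ∈ U, dv v G.1 u = 0 := by
  simp [ψ, LinearMap.ext_iff, aeval_eq_eval]

theorem tangLin_eq_zero_iff {W : Submodule k (Fin (r + 1) → k)} {v : Fin (r + 1) → k} {G : LefPen.Form r k d} :
    LefPen.tangLin k W v G = 0 ↔ eval v G.1 = 0 ∧ ∀ w ∈ W, dv v G.1 w = 0 := by
  simp [LefPen.tangLin, funext_iff, dv_apply, aeval_eq_eval]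

theorem exists_compl {W : Submodule k (Fin (r + 1) → k)} {v : Fin (r + 1) → k} (hv : v ∈ W) (hv0 : v ≠ 0) :
    ∃ U : Submodule k (Fin (r + 1) → k), U ≤ W ∧ v ∉ U ∧ (k ∙ v) ⊔ U = W ∧
      Module.finrank k U + 1 = Module.finrank k W := by
  obtain ⟨C, hC⟩ := Submodule.exists_isCompl (k ∙ v)
  have hle : (k ∙ v) ≤ W := (Submodule.span_singleton_le_iff_mem v W).2 hv
  have hsup : (k ∙ v) ⊔ (C ⊓ W) = W := by
    rw [← sup_inf_assoc_of_le C hle, hC.sup_eq_top, top_inf_eq]
  refine ⟨C ⊓ W, inf_le_right, fun h => hv0 ?_, hsup, ?_⟩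
  · exact (Submodule.disjoint_def.1 hC.disjoint) v (Submodule.mem_span_singleton_self v) h.1
  · have h := Submodule.finrank_sup_add_finrank_inf_eq (k ∙ v) (C ⊓ W)
    rw [hsup, finrank_span_singleton hv0, ← inf_assoc, hC.inf_eq_bot, bot_inf_eq, finrank_bot] at h
    omega

theorem ψ_ker {W U : Submodule k (Fin (r + 1) → k)} {v : Fin (r + 1) → k} (hW : (k ∙ v) ⊔ U = W) :
    LinearMap.ker (LefPen.tangLin k W v : LefPen.Form r k d →ₗ[k] _) = LinearMap.ker (ψ U v) := by
  ext G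
  simp only [LinearMap.mem_ker, tangLin_eq_zero_iff, ψ_eq_zero_iff]
  refine and_congr_right fun h0 => ⟨fun h u hu => h u (hW ▸ Submodule.mem_sup_right hu), fun h w hw => ?_⟩
  rw [← hW, Submodule.mem_sup] at hw
  obtain ⟨_, hs, u, hu, rfl⟩ := hw
  obtain ⟨c, rfl⟩ := Submodule.mem_span_singleton.1 hs
  rw [map_add, map_smul, dv_self, h0, mul_zero, smul_zero, zero_add, h u hu]

/-- Prescribe value and differential at `v`, with an `L`-th factor vanishing at the other point. -/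
theorem exists_form (hd : 1 ≤ d) {U : Submodule k (Fin (r + 1) → k)} {v : Fin (r + 1) → k} (hvU : v ∉ U)
    (l : Module.Dual k (Fin (r + 1) → k)) (hl : l v = 1) (a : k) (φ : Module.Dual k U) :
    ∃ (m : Module.Dual k (Fin (r + 1) → k)) (G : LefPen.Form r k d),
      G.1 = lin l ^ (d - 1) * lin m ∧ ψ U v G = (a, φ) := by
  obtain ⟨e, he, heU⟩ := Submodule.exists_dual_map_eq_bot_of_notMem hvU inferInstance
  obtain ⟨φ', hφ'⟩ := LinearMap.exists_extend (φ - (((d - 1 : ℕ) : k) * a) • l ∘ₗ U.subtype)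
  have heU' : ∀ u ∈ U, e u = 0 := fun u hu =>
    (Submodule.mem_bot k).1 (heU ▸ Submodule.mem_map_of_mem hu)
  let m : Module.Dual k (Fin (r + 1) → k) := φ' + ((a - φ' v) / e v) • e
  have hmv : m v = a := by
    simp [m, div_mul_cancel₀ _ he]
  have hmem : lin l ^ (d - 1) * lin m ∈ CohB1.polyGrading r k d := by
    show (lin l ^ (d - 1) * lin m).IsHomogeneous d
    have h := ((show (lin l).IsHomogeneous 1 from lin_mem l).pow (d - 1)).mul (show (lin m).IsHomogeneous 1 from lin_mem m)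
    rwa [one_mul, Nat.sub_add_cancel hd] at h
  refine ⟨m, ⟨_, hmem⟩, rfl, Prod.ext ?_ (LinearMap.ext fun u => ?_)⟩
  · simp [ψ, aeval_eq_eval, eval_lin, hl, hmv]
  · have h := LinearMap.congr_fun hφ' u
    simp only [LinearMap.comp_apply, Submodule.coe_subtype, LinearMap.sub_apply, LinearMap.smul_apply,
      smul_eq_mul] at h
    have hmu : m u = φ' u := by simp [m, heU' u u.2]
    simp [ψ, dv_mul, dv_lin, dv_lin_pow l v hl, eval_lin, hl, hmv, hmu, h]
    ring

theorem finrank_eq (hd : 2 ≤ d) {W₁ W₂ : Submodule k (Fin (r + 1) → k)} {v₁ v₂ : Fin (r + 1) → k}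
    (h₁ : v₁ ∈ W₁) (h₂ : v₂ ∈ W₂) (hv : LinearIndependent k ![v₁, v₂])
    (h : 3 ≤ d ∨ v₁ ∉ W₂) :
    Module.finrank k (LefPen.Form r k d) =
      Module.finrank k ↥(LefPen.tangentForms k d W₁ v₁ W₂ v₂) + (Module.finrank k W₁ + Module.finrank k W₂) := by
  have hp := LinearIndependent.pair_iff.1 hv
  have hn₁ : v₁ ≠ 0 := by simpa using hv.ne_zero 0
  have hn₂ : v₂ ≠ 0 := by simpa using hv.ne_zero 1
  have hn12 : v₁ ∉ (k ∙ v₂) := fun hm => by
    obtain ⟨c, hc⟩ := Submodule.mem_span_singleton.1 hm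
    exact one_ne_zero (hp 1 (-c) (by rw [← hc]; module)).1
  have hn21 : v₂ ∉ (k ∙ v₁) := fun hm => by
    obtain ⟨c, hc⟩ := Submodule.mem_span_singleton.1 hm
    exact one_ne_zero (hp (-c) 1 (by rw [← hc]; module)).2
  obtain ⟨U₁, -, hvU₁, hW₁, hr₁⟩ := exists_compl h₁ hn₁
  obtain ⟨U₂, hU₂, hvU₂, hW₂, hr₂⟩ := exists_compl h₂ hn₂
  let Φ : LefPen.Form r k d →ₗ[k] (k × Module.Dual k U₁) × (k × Module.Dual k U₂) := (ψ U₁ v₁).prod (ψ U₂ v₂)
  have mk : ∀ {v : Fin (r + 1) → k} {p : Submodule k (Fin (r + 1) → k)}, v ∉ p →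
      ∃ l : Module.Dual k (Fin (r + 1) → k), l v = 1 ∧ ∀ u ∈ p, l u = 0 := fun {v p} hvp => by
    obtain ⟨e, he, hep⟩ := Submodule.exists_dual_map_eq_bot_of_notMem hvp inferInstance
    exact ⟨(e v)⁻¹ • e, by simp [he], fun u hu => by
      simp [(Submodule.mem_bot k).1 (hep ▸ Submodule.mem_map_of_mem hu : e u ∈ (⊥ : Submodule k k))]⟩
  obtain ⟨l₁, hl₁, hl₁0, hl₁U⟩ : ∃ l : Module.Dual k (Fin (r + 1) → k), l v₁ = 1 ∧ l v₂ = 0 ∧
      (d = 2 → ∀ u ∈ U₂, l u = 0) := by
    rcases h with h | h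
    · obtain ⟨l, hl, hl0⟩ := mk hn12
      exact ⟨l, hl, hl0 _ (Submodule.mem_span_singleton_self v₂), fun hd2 => absurd hd2 (by omega)⟩
    · obtain ⟨l, hl, hl0⟩ := mk h
      exact ⟨l, hl, hl0 _ h₂, fun _ u hu => hl0 u (hU₂ hu)⟩
  obtain ⟨l₂, hl₂, hl₂0⟩ := mk hn21
  have hsurj : Function.Surjective Φ := fun ⟨t₁, t₂⟩ => by
    obtain ⟨m₂, G₂, -, hG₂⟩ := exists_form (d := d) (by omega) hvU₂ l₂ hl₂ t₂.1 t₂.2
    obtain ⟨m₁, G₁, hG₁e, hG₁⟩ := exists_form (d := d) (by omega) hvU₁ l₁ hl₁ (t₁ - ψ U₁ v₁ G₂).1 (t₁ - ψ U₁ v₁ G₂).2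
    have hz : ψ U₂ v₂ G₁ = 0 := by
      rw [ψ_eq_zero_iff, hG₁e, map_mul, map_pow, eval_lin, hl₁0, zero_pow (by omega), zero_mul]
      refine ⟨rfl, fun u hu => ?_⟩
      obtain ⟨n, hn⟩ : ∃ n, d - 1 = n + 1 := ⟨d - 2, by omega⟩
      rw [hn, pow_succ, dv_mul, dv_mul, map_mul, map_pow, eval_lin, hl₁0, dv_lin]
      rcases Nat.eq_zero_or_pos n with rfl | hn0
      · simp [dv_lin, hl₁U (by omega) u hu]
      · simp [zero_pow hn0.ne']
    refine ⟨G₁ + G₂, ?_⟩
    show (ψ U₁ v₁ (G₁ + G₂), ψ U₂ v₂ (G₁ + G₂)) = _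
    simp only [map_add, hG₁, hG₂, hz, zero_add, Prod.mk.eta, sub_add_cancel]
  have hker : LefPen.tangentForms k d W₁ v₁ W₂ v₂ = LinearMap.ker Φ := by
    rw [LinearMap.ker_prod, LefPen.tangentForms, ψ_ker hW₁, ψ_ker hW₂]
  haveI : Module.Finite k (LefPen.Form r k d) :=
    Module.Finite.iff_fg.2 (MvPolynomial.homogeneousSubmodule_fg ..)
  have hf := LinearMap.finrank_range_add_finrank_ker Φ
  rw [LinearMap.range_eq_top.2 hsurj, finrank_top, Module.finrank_prod, Module.finrank_prod,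
    Module.finrank_prod, Module.finrank_self, Subspace.dual_finrank_eq, Subspace.dual_finrank_eq, ← hker] at hf
  omega

theorem dv_symm (G : LefPen.Form r k 2) (a b : Fin (r + 1) → k) : dv a G.1 b = dv b G.1 a := by
  have h : G.1 ∈ homogeneousSubmodule (Fin (r + 1)) k 1 ^ 2 := by
    rw [homogeneousSubmodule_one_pow]; exact G.2
  rw [pow_two] at h
  refine Submodule.mul_induction_on h (fun p hp q hq => ?_) fun p q hp hq => ?_
  ·
    rw [homogeneousSubmodule_one_eq_span_X] at hp hq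
    have hl : ∀ {p}, p ∈ Submodule.span k (Set.range (X : Fin (r + 1) → MvPolynomial (Fin (r + 1)) k)) →
        ∀ a b, dv a p b = eval b p := fun {p} hp a b => by
      induction hp using Submodule.span_induction with
      | mem x hx => obtain ⟨i, rfl⟩ := hx; simp [dv_apply, pderiv_X, Pi.single_apply, apply_ite (eval a)]
      | zero => simp
      | add x y _ _ hx hy => simp [hx, hy]
      | smul c x _ hx => simp [hx]
    simp [dv_mul, hl hp, hl hq]
    ring
  · simp [hp, hq]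

end

/-- Let k be a field (the source works over an algebraically closed field; the count is the same over
any field), d ≥ 2, x₁ = [v₁] and x₂ = [v₂] two distinct points of projective r-space and P(W₁) ∋ x₁,
P(W₂) ∋ x₂ linear subspaces. In the space of degree-d forms, those whose hypersurface passes through
x₁ tangentially to P(W₁) and through x₂ tangentially to P(W₂) form a linear subspace of codimension
dim P(W₁) + dim P(W₂) + 2 = dim W₁ + dim W₂ when d ≥ 3 or when the line x₁x₂ is not contained in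
both P(W₁) and P(W₂), and of codimension dim W₁ + dim W₂ - 1 when d = 2 and the line x₁x₂ lies in
P(W₁) ∩ P(W₂). -/
theorem result (k : Type u) [Field k] (r d : ℕ) (hd : 2 ≤ d)
    (W₁ W₂ : Submodule k (Fin (r + 1) → k)) (v₁ v₂ : Fin (r + 1) → k) (h₁ : v₁ ∈ W₁) (h₂ : v₂ ∈ W₂)
    (hv : LinearIndependent k ![v₁, v₂]) :
    ((3 ≤ d ∨ ¬ (v₂ ∈ W₁ ∧ v₁ ∈ W₂)) →
      Module.finrank k (LefPen.Form r k d) =
        Module.finrank k ↥(LefPen.tangentForms k d W₁ v₁ W₂ v₂) + (Module.finrank k ↥W₁ + Module.finrank k ↥W₂)) ∧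
    ((d = 2 ∧ v₂ ∈ W₁ ∧ v₁ ∈ W₂) →
      Module.finrank k (LefPen.Form r k d) + 1 =
        Module.finrank k ↥(LefPen.tangentForms k d W₁ v₁ W₂ v₂) + (Module.finrank k ↥W₁ + Module.finrank k ↥W₂)) := by
  constructor
  · rintro (h | h)
    · exact finrank_eq hd h₁ h₂ hv (Or.inl h)
    · by_cases hv₂ : v₂ ∈ W₁
      · exact finrank_eq hd h₁ h₂ hv (Or.inr fun hm => h ⟨hv₂, hm⟩)
      · have hs : LefPen.tangentForms k d W₁ v₁ W₂ v₂ = LefPen.tangentForms k d W₂ v₂ W₁ v₁ := inf_comm _ _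
        have := finrank_eq (d := d) hd h₂ h₁ (LinearIndependent.pair_symm_iff.1 hv) (Or.inr hv₂)
        rw [hs]; omega
  · rintro ⟨rfl, hv₂, hv₁⟩
    have hn₂ : v₂ ≠ 0 := by simpa using hv.ne_zero 1
    obtain ⟨C, hC, hvC, hsup, hr'⟩ := exists_compl hv₂ hn₂
    have hn21 : v₂ ∉ (k ∙ v₁) := fun hm => by
      obtain ⟨c, hc⟩ := Submodule.mem_span_singleton.1 hm
      exact one_ne_zero (LinearIndependent.pair_iff.1 hv (-c) 1 (by rw [← hc]; module)).2
    have hle1 : (k ∙ v₁) ≤ W₁ := (Submodule.span_singleton_le_iff_mem _ _).2 h₁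
    -- a complement of `v₂` in `W₁` through `v₁`
    obtain ⟨C', hC'⟩ := Submodule.exists_isCompl ((k ∙ v₁) ⊔ (k ∙ v₂))
    let W' := (k ∙ v₁) ⊔ (C' ⊓ W₁)
    have hle : (k ∙ v₁) ⊔ (k ∙ v₂) ≤ W₁ := sup_le hle1 ((Submodule.span_singleton_le_iff_mem _ _).2 hv₂)
    have hW' : (k ∙ v₂) ⊔ W' = W₁ := by
      rw [← sup_assoc, sup_comm (k ∙ v₂), ← sup_inf_assoc_of_le C' hle, hC'.sup_eq_top, top_inf_eq]
    have hv₂W' : v₂ ∉ W' := fun hm => by
      obtain ⟨x, hx, c, hc, e⟩ := Submodule.mem_sup.1 hm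
      have hc0 : c = 0 := by
        refine (Submodule.disjoint_def.1 hC'.disjoint) c ?_ hc.1
        rw [show c = v₂ - x by rw [← e]; abel]
        exact sub_mem (Submodule.mem_sup_right (Submodule.mem_span_singleton_self _)) (Submodule.mem_sup_left hx)
      rw [hc0, add_zero] at e
      exact hn21 (e ▸ hx)
    have hr : Module.finrank k W' + 1 = Module.finrank k W₁ := by
      have h := Submodule.finrank_sup_add_finrank_inf_eq (k ∙ v₂) W'
      rw [hW', finrank_span_singleton hn₂,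
        (Submodule.disjoint_span_singleton' hn₂).2 hv₂W' |>.symm.eq_bot, finrank_bot] at h
      omega
    have ht : LefPen.tangentForms k 2 W₁ v₁ W₂ v₂ = LefPen.tangentForms k 2 W₂ v₂ W' v₁ := by
      ext G
      simp only [LefPen.tangentForms, Submodule.mem_inf, LinearMap.mem_ker, tangLin_eq_zero_iff]
      constructor
      · rintro ⟨⟨a, b⟩, h2⟩
        exact ⟨h2, a, fun w hw => b w (hW' ▸ Submodule.mem_sup_right hw)⟩
      · rintro ⟨⟨a, b⟩, a', b'⟩
        refine ⟨⟨a', fun w hw => ?_⟩, a, b⟩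
        rw [← hW', Submodule.mem_sup] at hw
        obtain ⟨_, hs, u, hu, rfl⟩ := hw
        obtain ⟨c, rfl⟩ := Submodule.mem_span_singleton.1 hs
        rw [map_add, map_smul, dv_symm G v₁ v₂, b v₁ hv₁, b' u hu, smul_zero, add_zero]
    have := finrank_eq (d := 2) hd h₂ (Submodule.mem_sup_left (Submodule.mem_span_singleton_self v₁) : v₁ ∈ W')
      (LinearIndependent.pair_symm_iff.1 hv) (Or.inr hv₂W')
    simp only [W'] at this ht hr ⊢
    rw [ht]; omega

end Groth.Agent.S4024
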