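import Groth.Statements.S4027
import Mathlib.Algebra.MvPolynomial.Nilpotent
import Mathlib.RingTheory.Polynomial.GaussLemma
import Mathlib.RingTheory.Polynomial.UniqueFactorization

set_option autoImplicit false
universe u
open LefPen

namespace Groth.Agent.S4027

section

open Polynomial

variable {k : Type u} [Field k] {r : ℕ}

/-- `X_j ↦ X_j T`. -/
noncomputable def σ : Polynomial (MvPolynomial (Fin r) k) →+* Polynomial (MvPolynomial (Fin r) k) :=
  eval₂RingHom (MvPolynomial.eval₂Hom (C.comp MvPolynomial.C) fun j => C (MvPolynomial.X j) * X) X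

theorem σ_injective : Function.Injective (σ (k := k) (r := r)) := by
  let E := FractionRing (Polynomial (MvPolynomial (Fin r) k))
  let i : Polynomial (MvPolynomial (Fin r) k) →+* E := algebraMap _ E
  let τ : Polynomial (MvPolynomial (Fin r) k) →+* E :=
    eval₂RingHom (MvPolynomial.eval₂Hom (i.comp (C.comp MvPolynomial.C))
      fun j => i (C (MvPolynomial.X j)) / i X) (i X)
  have hX : i X ≠ 0 := (map_ne_zero_iff i (IsFractionRing.injective _ E)).2 X_ne_zero
  have h : τ.comp σ = i := by
    refine ringHom_ext' (MvPolynomial.ringHom_ext (fun c => ?_) fun j => ?_) ?_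
    · simp [τ, σ]
    · simp [τ, σ]; exact div_mul_cancel₀ _ hX
    · simp [τ, σ]
  exact fun x y e => IsFractionRing.injective _ E
    (show i x = i y by rw [← h]; exact congrArg τ e)

theorem eval_one_σ (a : Polynomial (MvPolynomial (Fin r) k)) : (σ a).eval 1 = a.eval 1 := by
  have h : (evalRingHom (1 : MvPolynomial (Fin r) k)).comp σ = evalRingHom 1 := by
    refine ringHom_ext' (MvPolynomial.ringHom_ext (fun c => ?_) fun j => ?_) ?_ <;> simp [σ]
  exact RingHom.congr_fun h a

theorem exists_σ_eq (a : Polynomial (MvPolynomial (Fin r) k)) :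
    ∃ (n : ℕ) (α : Polynomial (MvPolynomial (Fin r) k)), σ α = X ^ n * a := by
  induction a using Polynomial.induction_on' with
  | add p q hp hq =>
    obtain ⟨n, α, hα⟩ := hp
    obtain ⟨m, β, hβ⟩ := hq
    exact ⟨n + m, X ^ m * α + X ^ n * β, by simp [σ] at *; rw [hα, hβ]; ring⟩
  | monomial i c =>
    suffices ∃ (n : ℕ) (α : Polynomial (MvPolynomial (Fin r) k)), σ α = X ^ n * C c by
      obtain ⟨n, α, hα⟩ := this
      exact ⟨n, α * X ^ i, by rw [map_mul, map_pow, hα, ← C_mul_X_pow_eq_monomial]; simp [σ]; ring⟩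
    induction c using MvPolynomial.induction_on with
    | C c => exact ⟨0, C (MvPolynomial.C c), by simp [σ]⟩
    | add p q hp hq =>
      obtain ⟨n, α, hα⟩ := hp
      obtain ⟨m, β, hβ⟩ := hq
      exact ⟨n + m, X ^ m * α + X ^ n * β, by simp [σ] at *; rw [hα, hβ]; ring⟩
    | mul_X p j hp =>
      obtain ⟨n, α, hα⟩ := hp
      exact ⟨n + 1, α * C (MvPolynomial.X j), by rw [map_mul, hα, C_mul]; simp [σ]; ring⟩

theorem eq_monomial_of_mul {R : Type u} [CommRing R] [IsDomain R] {α β : Polynomial R} {c : R} {n : ℕ}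
    (hc : c ≠ 0) (h : α * β = monomial n c) : α = monomial α.natDegree α.leadingCoeff := by
  have h0 : α * β ≠ 0 := by rw [h]; simpa using hc
  obtain ⟨hα, hβ⟩ := ne_zero_and_ne_zero_of_mul h0
  have h1 : (α * β).natTrailingDegree = (α * β).natDegree := by
    rw [h, natTrailingDegree_monomial hc, natDegree_monomial_eq n hc]
  rw [natTrailingDegree_mul hα hβ, natDegree_mul hα hβ] at h1
  have h2 := natTrailingDegree_le_natDegree α
  have h3 := natTrailingDegree_le_natDegree β
  ext i
  rcases lt_trichotomy i α.natDegree with hi | hi | hi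
  · rw [coeff_monomial, if_neg hi.ne', coeff_eq_zero_of_lt_natTrailingDegree (by omega)]
  · subst hi; rw [coeff_monomial, if_pos rfl, coeff_natDegree]
  · rw [coeff_monomial, if_neg hi.ne, coeff_eq_zero_of_natDegree_lt hi]

theorem isUnit_factor {F : MvPolynomial (Fin r) k} (hF : F ≠ 0) (hF0 : (σ (C F)).coeff 0 ≠ 0)
    {a b : Polynomial (MvPolynomial (Fin r) k)} (h : a * b = σ (C F)) (hu : IsUnit (a.eval 1)) : IsUnit a := by
  obtain ⟨n, α, hα⟩ := exists_σ_eq a
  obtain ⟨m, β, hβ⟩ := exists_σ_eq b
  have hprod : α * β = monomial (n + m) F := σ_injective (by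
    rw [map_mul, hα, hβ, ← C_mul_X_pow_eq_monomial, map_mul, map_pow, ← h]
    simp [σ]; ring)
  have hm := eq_monomial_of_mul hF hprod
  have hlc : α.leadingCoeff = a.eval 1 := by
    have e := congrArg (eval 1) hm
    rw [eval_monomial, one_pow, mul_one] at e
    rw [← e, ← eval_one_σ, hα]
    simp
  obtain ⟨e, he, hec⟩ := MvPolynomial.isUnit_iff_eq_C_of_isReduced.1 hu
  have ha : X ^ n * a = X ^ α.natDegree * C (a.eval 1) := by
    rw [← hα]
    conv_lhs => rw [hm, ← C_mul_X_pow_eq_monomial, hlc, map_mul, map_pow, hec]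
    simp only [σ, coe_eval₂RingHom, eval₂_C, eval₂_X, MvPolynomial.coe_eval₂Hom, MvPolynomial.eval₂_C, RingHom.comp_apply]
    rw [mul_comm, hec]
  have hd : α.natDegree = n := by
    have ha0 : a.coeff 0 ≠ 0 := fun z => hF0 (by rw [← h, mul_coeff_zero, z, zero_mul])
    by_contra hne
    have e := congrArg (fun p => Polynomial.coeff p n) ha
    simp only [coeff_X_pow_mul'] at e
    rw [if_pos le_rfl, Nat.sub_self] at e
    rcases lt_or_gt_of_ne hne with hlt | hgt
    · rw [if_pos hlt.le, coeff_C, if_neg (Nat.sub_ne_zero_of_lt hlt)] at e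
      exact ha0 e
    · rw [if_neg (not_le.2 hgt)] at e
      exact ha0 e
  rw [hd] at ha
  rw [mul_left_cancel₀ (pow_ne_zero n X_ne_zero) ha]
  exact hu.map C

end

/-- Let k be an algebraically closed field, r ≥ 2, and F ∈ k[X_1, …, X_r] an irreducible polynomial with
F(0) ≠ 0 (in the source the origin is the base point of the lines considered and lies off the
hypersurface F = 0; without this the claim fails, e.g. for X_1 - X_2^2). Then the polynomial G(T) =
F(X_1 T, …, X_r T), with coefficients in the field of rational functions k(X_1, …, X_r), is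
irreducible. -/
theorem result (k : Type u) [Field k] [IsAlgClosed k] (r : ℕ) (hr : 2 ≤ r)
    (F : MvPolynomial (Fin r) k) (hF : Irreducible F) (hF0 : MvPolynomial.eval (fun _ => (0 : k)) F ≠ 0) :
    Irreducible ((MvPolynomial.eval₂ (Polynomial.C.comp MvPolynomial.C)
        (fun j => Polynomial.C (MvPolynomial.X j) * Polynomial.X) F).map
      (algebraMap (MvPolynomial (Fin r) k) (FractionRing (MvPolynomial (Fin r) k)))) := by
  set G := MvPolynomial.eval₂ (Polynomial.C.comp MvPolynomial.C)
    (fun j => Polynomial.C (MvPolynomial.X j) * Polynomial.X) F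
  have hG : σ (Polynomial.C F) = G := by simp [σ, G]
  have hc0 : G.coeff 0 = MvPolynomial.C (MvPolynomial.eval (fun _ => (0 : k)) F) := by
    rw [Polynomial.coeff_zero_eq_eval_zero]
    have key : (Polynomial.evalRingHom 0).comp (MvPolynomial.eval₂Hom (Polynomial.C.comp MvPolynomial.C)
        (fun j => Polynomial.C (MvPolynomial.X (R := k) j) * Polynomial.X)) =
        (MvPolynomial.C : k →+* MvPolynomial (Fin r) k).comp (MvPolynomial.eval fun _ => (0 : k)) := by
      refine MvPolynomial.ringHom_ext (fun c => ?_) fun j => ?_ <;> simp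
    exact RingHom.congr_fun key F
  have hc : IsUnit (G.coeff 0) := hc0 ▸ (isUnit_iff_ne_zero.2 hF0).map MvPolynomial.C
  have hprim : G.IsPrimitive := fun c hcdvd => isUnit_of_dvd_unit ((Polynomial.C_dvd_iff_dvd_coeff c G).1 hcdvd 0) hc
  rw [← Polynomial.IsPrimitive.irreducible_iff_irreducible_map_fraction_map hprim, irreducible_iff]
  have h1 : G.eval 1 = F := by rw [← hG, eval_one_σ, Polynomial.eval_C]
  refine ⟨fun h => hF.not_isUnit (h1 ▸ h.map (Polynomial.evalRingHom (1 : MvPolynomial (Fin r) k))), fun a b hab => ?_⟩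
  have hne : (σ (Polynomial.C F)).coeff 0 ≠ 0 := by rw [hG]; exact hc.ne_zero
  rcases hF.isUnit_or_isUnit (show F = a.eval 1 * b.eval 1 by rw [← Polynomial.eval_mul, ← hab, h1]) with hu | hu
  · exact Or.inl (isUnit_factor hF.ne_zero hne (hab.symm.trans hG.symm) hu)
  · exact Or.inr (isUnit_factor hF.ne_zero hne (by rw [mul_comm, ← hab, hG]) hu)

end Groth.Agent.S4027
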