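import Groth.Statements.S4040
import Groth.Agent.DualAbs.CIHodge
-- import your own Groth.Agent.* helpers here

set_option autoImplicit false
universe u
open CategoryTheory CategoryTheory.Limits AlgebraicGeometry
open LefPen

namespace Groth.Agent.S4040

/-- Over a field (base Spec k): let k be a field and Y ⊆ P^{n+d}_k the common zero scheme of d ≥ 1 forms
of degrees a_j ≥ 1, smooth over k of relative dimension n (a smooth complete intersection of
dimension n); let Ω = Ω^1_{Y/k} (the conormal sheaf of the diagonal) and L an O_Y-module which is a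
j-th exterior power of Ω. Then H^i(Y, L) = 0 for all i, j with i ≠ j and i + j ≠ n. -/
theorem result (k : Type u) [Field k] (n d : ℕ) (hd : 1 ≤ d) (a : Fin d → ℕ) (ha : ∀ j, 1 ≤ a j)
    (G : ∀ j : Fin d, LefPen.Form (n + d) k (a j))
    [SmoothOfRelativeDimension n ((LefPen.ciIdeal G).subschemeι ≫ CohB1.ProjSpace.toSpec (n + d) k)]
    (j : ℕ) (L : (LefPen.ciIdeal G).subscheme.Modules) (hL : ExtPow.IsExtPow j (Omega.sheaf ((LefPen.ciIdeal G).subschemeι ≫ CohB1.ProjSpace.toSpec (n + d) k)) L)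
    (i : ℕ) (hij : i ≠ j) (hijn : i + j ≠ n) :
    Subsingleton (Coh.HH (LefPen.ciIdeal G).subscheme L i) := by
  letI : (LefPen.ciIdeal G).subscheme.Over (Spec (CommRingCat.of k)) :=
    ⟨(LefPen.ciIdeal G).subschemeι ≫ CohB1.ProjSpace.toSpec (n + d) k⟩
  have hov : (LefPen.ciIdeal G).subscheme ↘ Spec (CommRingCat.of k) =
      (LefPen.ciIdeal G).subschemeι ≫ CohB1.ProjSpace.toSpec (n + d) k := rfl
  rcases Nat.lt_or_ge n i with h | h
  · exact Groth.Agent.DualAbs.CIHodge.subsingleton_of_gt G hov (Or.inl h) hL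
  rcases Nat.lt_or_ge n j with h' | h'
  · exact Groth.Agent.DualAbs.CIHodge.subsingleton_of_gt G hov (Or.inr h') hL
  haveI := Groth.Agent.DualAbs.CIHodge.isProper_ci G hov
  haveI := Groth.Agent.EulerChar.isLocallyNoetherian k (X := (LefPen.ciIdeal G).subscheme)
  haveI := Groth.Agent.EulerChar.isNoetherian k (X := (LefPen.ciIdeal G).subscheme)
  haveI : (Omega.sheaf ((LefPen.ciIdeal G).subschemeι ≫ CohB1.ProjSpace.toSpec (n + d) k)).IsQuasicoherent := by
    haveI : IsProper (CohB1.ProjSpace.toSpec (n + d) k) := Groth.Agent.ProjProper.Basic.isProper_toSpec (n + d) k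
    exact (Groth.Agent.VBLib.isCoh_of_ofRank (Groth.Agent.CanonTriv.isFinLocFreeOfRank_omega
      ((LefPen.ciIdeal G).subschemeι ≫ CohB1.ProjSpace.toSpec (n + d) k) n)).1
  haveI : Smooth ((LefPen.ciIdeal G).subschemeι ≫ CohB1.ProjSpace.toSpec (n + d) k) :=
    SmoothOfRelativeDimension.smooth n _
  have hc : Coh.IsCoh L := by
    haveI : IsProper (CohB1.ProjSpace.toSpec (n + d) k) := Groth.Agent.ProjProper.Basic.isProper_toSpec (n + d) k
    exact Groth.Agent.ExtPowSt.isCoh ⟨hL.choose, hL.choose_spec⟩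
      (Groth.Agent.VBLib.isCoh_of_ofRank (Groth.Agent.CanonTriv.isFinLocFreeOfRank_omega
        ((LefPen.ciIdeal G).subschemeι ≫ CohB1.ProjSpace.toSpec (n + d) k) n))
  haveI := Groth.Agent.EulerChar.finite_HH k L hc i
  rcases isEmpty_or_nonempty ↥(LefPen.ciIdeal G).subscheme with he | he
  · refine subsingleton_of_forall_eq 0 fun x => ?_
    have hz : IsZero L := Groth.Agent.DualAbs.isZero_of_stalks fun y => (he.false y).elim
    have h1 : Groth.Agent.CohLES.mapL k (𝟙 L) i = Groth.Agent.CohLES.mapL k (0 : L ⟶ L) i := by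
      rw [hz.eq_of_src (𝟙 _) 0]
    rw [Groth.Agent.CohLES.mapL_id, Groth.Agent.CohLES.mapL_zero] at h1
    exact LinearMap.congr_fun h1 x
  rw [← Module.finrank_zero_iff (R := k)]
  rcases Nat.lt_or_ge (i + j) n with hlt | hge
  · rw [Groth.Agent.DualAbs.CIHodge.finrank_low G ha hov hd hlt hL, if_neg hij]
  · obtain ⟨L', hL'⟩ := Groth.Agent.ExtPowSt.Exists.exists_isExtPow (n - j)
      (Omega.sheaf ((LefPen.ciIdeal G).subschemeι ≫ CohB1.ProjSpace.toSpec (n + d) k))
    rw [Groth.Agent.DualAbs.CIHodge.finrank_symm G ha hov h' h hL hL',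
      Groth.Agent.DualAbs.CIHodge.finrank_low G ha hov hd (by omega) hL', if_neg (by omega)]

end Groth.Agent.S4040
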