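import Groth.Statements.S4041
import Groth.Agent.DualAbs.CIHodge
-- import your own Groth.Agent.* helpers here

set_option autoImplicit false
universe u
open CategoryTheory CategoryTheory.Limits AlgebraicGeometry
open LefPen

namespace Groth.Agent.S4041

/-- Let k be a field, n ≥ 0 and d ≥ 1 integers, a_1, …, a_d ≥ 1, and G_1, …, G_d homogeneous forms over
k in n + d + 1 variables with G_j of degree a_j; let Y ⊂ P^{n+d}_k be the closed subscheme defined
by the ideal generated by the G_j, and assume that the composite Y → P^{n+d}_k → Spec k is smooth of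
relative dimension n. Let Ω be the sheaf of relative differentials of Y over k (for this composite
morphism) and L an i-th exterior power of Ω. Then, for 0 ≤ i ≤ n with 2i ≠ n, the k-vector space
H^i(Y, L) = H^i(Y, Ω^i) has dimension one. Only the dimension statement over a field is given here.
(The published statement moreover names a basis: η^i for 2i < n, and for n < 2i the element α_i dual
to η^{n-i}, which satisfies η^i = (Π a_j) α_i; η the Hodge class of a hyperplane section. The
k-structure on cohomology is the one induced by the structure morphism, supplied as the Over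
instance, which is required to agree with the composite Y → P^{n+d}_k → Spec k.) -/
theorem result (k : Type u) [Field k] (n d : ℕ) (hd : 1 ≤ d) (a : Fin d → ℕ) (ha : ∀ j, 1 ≤ a j)
    (G : ∀ j : Fin d, LefPen.Form (n + d) k (a j))
    [SmoothOfRelativeDimension n ((LefPen.ciIdeal G).subschemeι ≫ CohB1.ProjSpace.toSpec (n + d) k)]
    [hO : (LefPen.ciIdeal G).subscheme.Over (Spec (CommRingCat.of k))] (hover : (LefPen.ciIdeal G).subscheme ↘ Spec (CommRingCat.of k) = ((LefPen.ciIdeal G).subschemeι ≫ CohB1.ProjSpace.toSpec (n + d) k))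
    (i : ℕ) (hi : i ≤ n) (hin : 2 * i ≠ n) (L : (LefPen.ciIdeal G).subscheme.Modules) (hL : ExtPow.IsExtPow i (Omega.sheaf ((LefPen.ciIdeal G).subschemeι ≫ CohB1.ProjSpace.toSpec (n + d) k)) L) :
    Module.finrank k (Coh.HH (LefPen.ciIdeal G).subscheme L i) = 1 := by
  haveI := Groth.Agent.DualAbs.CIHodge.isProper_ci G hover
  haveI := Groth.Agent.EulerChar.isLocallyNoetherian k (X := (LefPen.ciIdeal G).subscheme)
  haveI := Groth.Agent.EulerChar.isNoetherian k (X := (LefPen.ciIdeal G).subscheme)
  haveI : (Omega.sheaf ((LefPen.ciIdeal G).subschemeι ≫ CohB1.ProjSpace.toSpec (n + d) k)).IsQuasicoherent := by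
    haveI : IsProper (CohB1.ProjSpace.toSpec (n + d) k) := Groth.Agent.ProjProper.Basic.isProper_toSpec (n + d) k
    exact (Groth.Agent.VBLib.isCoh_of_ofRank (Groth.Agent.CanonTriv.isFinLocFreeOfRank_omega
      ((LefPen.ciIdeal G).subschemeι ≫ CohB1.ProjSpace.toSpec (n + d) k) n)).1
  obtain ⟨L₀, hL₀⟩ := Groth.Agent.ExtPowSt.Exists.exists_isExtPow 0
    (Omega.sheaf ((LefPen.ciIdeal G).subschemeι ≫ CohB1.ProjSpace.toSpec (n + d) k))
  haveI : Nonempty ↥(LefPen.ciIdeal G).subscheme := by
    rcases isEmpty_or_nonempty ↥(LefPen.ciIdeal G).subscheme with he | he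
    · exfalso
      have h0 := Groth.Agent.DualAbs.CIHodge.finrank_low G ha hover hd (p := 0) (i := 0) (by omega) hL₀
      have hz : IsZero L₀ := Groth.Agent.DualAbs.isZero_of_stalks fun y => (he.false y).elim
      have h1 : Groth.Agent.CohLES.mapL k (𝟙 L₀) 0 = Groth.Agent.CohLES.mapL k (0 : L₀ ⟶ L₀) 0 := by
        rw [hz.eq_of_src (𝟙 _) 0]
      rw [Groth.Agent.CohLES.mapL_id, Groth.Agent.CohLES.mapL_zero] at h1
      haveI : Subsingleton (Coh.HH (LefPen.ciIdeal G).subscheme L₀ 0) :=
        subsingleton_of_forall_eq 0 fun x => LinearMap.congr_fun h1 x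
      rw [Module.finrank_zero_of_subsingleton] at h0
      simp at h0
    · exact he
  rcases Nat.lt_or_ge (2 * i) n with hlt | hge
  · rw [Groth.Agent.DualAbs.CIHodge.finrank_low G ha hover hd (by omega) hL, if_pos rfl]
  · obtain ⟨L', hL'⟩ := Groth.Agent.ExtPowSt.Exists.exists_isExtPow (n - i)
      (Omega.sheaf ((LefPen.ciIdeal G).subschemeι ≫ CohB1.ProjSpace.toSpec (n + d) k))
    rw [Groth.Agent.DualAbs.CIHodge.finrank_symm G ha hover hi hi hL hL',
      Groth.Agent.DualAbs.CIHodge.finrank_low G ha hover hd (by omega) hL', if_pos rfl]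

end Groth.Agent.S4041
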