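import Groth.Statements.S4047
import Groth.Agent.AxDiv.Digits
import Mathlib.RingTheory.WittVector.Complete
import Mathlib.RingTheory.WittVector.Domain
import Mathlib.RingTheory.WittVector.Teichmuller
import Mathlib.RingTheory.WittVector.DiscreteValuationRing
import Mathlib.FieldTheory.Finite.Basic

set_option autoImplicit false
universe u
open LefPen

namespace Groth.Agent.S4047

section aux

variable {p : ℕ} [hp : Fact p.Prime] {k : Type*} [Field k] [CharP k p]

open WittVector

lemma p_dvd_of_coeff_zero [Fintype k] {y : WittVector p k}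
    (hy : WittVector.constantCoeff y = 0) : (p : WittVector p k) ∣ y := by
  have := (WittVector.mem_span_p_pow_iff_le_coeff_eq_zero y 1).mpr fun m hm => by
    obtain rfl : m = 0 := by omega
    exact hy
  simpa [Ideal.mem_span_singleton] using this

lemma witt_sum_pow_teichmuller [Fintype k] (A : ℕ) (hA : ¬ Fintype.card k - 1 ∣ A) :
    ∑ y : k, WittVector.teichmuller p y ^ A = 0 := by
  classical
  obtain ⟨g, hg⟩ : ∃ g : kˣ, g ^ A ≠ 1 := by
    by_contra h
    push Not at h
    exact hA ((FiniteField.forall_pow_eq_one_iff k A).mp h)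
  have h1 : ∑ y : k, WittVector.teichmuller p y ^ A =
      WittVector.teichmuller p ((g : k) ^ A) * ∑ y : k, WittVector.teichmuller p y ^ A := by
    conv_lhs => rw [← Equiv.sum_comp (Equiv.mulLeft₀ (g : k) g.ne_zero)]
    rw [Finset.mul_sum]
    refine Finset.sum_congr rfl fun y _ => ?_
    show WittVector.teichmuller p ((g : k) * y) ^ A = _
    rw [← map_pow, ← map_pow, ← map_mul, ← mul_pow]
  have h2 : (WittVector.teichmuller p ((g : k) ^ A) - 1) *
      ∑ y : k, WittVector.teichmuller p y ^ A = 0 := by
    rw [sub_mul, one_mul, ← h1, sub_self]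
  rcases mul_eq_zero.mp h2 with h | h
  · exfalso
    apply hg
    have h3 := congrArg WittVector.constantCoeff h
    rw [map_sub, map_one, map_zero, sub_eq_zero] at h3
    refine Units.ext ?_
    rw [Units.val_pow_eq_pow_val, Units.val_one, ← h3]
    exact (WittVector.teichmuller_coeff_zero p _).symm
  · exact h

lemma pow_dvd_of_natCast [Fintype k] (J : ℕ) (n : ℕ)
    (h : (p : WittVector p k) ^ J ∣ (n : WittVector p k)) : p ^ J ∣ n := by
  induction J generalizing n with
  | zero => simp
  | succ J ih =>
    obtain ⟨m, hm⟩ : p ∣ n := by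
      refine (CharP.cast_eq_zero_iff k p n).mp ?_
      obtain ⟨z, hz⟩ := h
      have := congrArg WittVector.constantCoeff hz
      rw [map_natCast, map_mul, map_pow, map_natCast, CharP.cast_eq_zero k p, zero_pow (by omega),
        zero_mul] at this
      exact this
    subst hm
    rw [pow_succ']
    refine Nat.mul_dvd_mul_left p (ih m ?_)
    rw [Nat.cast_mul, pow_succ'] at h
    exact (mul_dvd_mul_iff_left (WittVector.p_nonzero p k)).mp h

lemma pow_sub_indicator [Fintype k] {f : ℕ} (hf : 0 < f) (hcard : Fintype.card k = p ^ f)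
    (j : ℕ) (y : WittVector p k) [Decidable (WittVector.constantCoeff y = 0)] :
    (p : WittVector p k) ^ (f * j) ∣ y ^ ((p ^ f - 1) * p ^ (f * j)) -
      (if WittVector.constantCoeff y = 0 then 0 else 1) := by
  split_ifs with h
  · rw [sub_zero]
    refine dvd_trans ?_ (pow_dvd_pow_of_dvd (p_dvd_of_coeff_zero h) _)
    refine pow_dvd_pow _ ?_
    have h1 : 0 < p ^ f - 1 := by
      have : 1 < p ^ f := Nat.one_lt_pow hf.ne' hp.out.two_le
      omega
    exact (Nat.lt_pow_self hp.out.one_lt).le.trans (Nat.le_mul_of_pos_left _ h1)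
  · have h1 : (p : WittVector p k) ∣ y ^ (p ^ f - 1) - 1 := by
      refine p_dvd_of_coeff_zero ?_
      rw [map_sub, map_one, map_pow, ← hcard, FiniteField.pow_card_sub_one_eq_one _ h, sub_self]
    have h2 := dvd_sub_pow_of_dvd_sub h1 (f * j)
    rw [one_pow, ← pow_mul] at h2
    exact dvd_trans (pow_dvd_pow _ (Nat.le_succ _)) h2

theorem ax {n : ℕ} [Fintype k] [DecidableEq k] {f : ℕ} (hf : 0 < f)
    (hcard : Fintype.card k = p ^ f) {d j : ℕ} (hd : 0 < d)
    (F : MvPolynomial (Fin n) k) (hF : F.IsHomogeneous d) (hj : j * d < n) :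
    (p ^ f) ^ j ∣ Fintype.card {x : Fin n → k // MvPolynomial.eval x F = 0} := by
  classical
  let τ : k →* WittVector p k := WittVector.teichmuller p
  have hτ : ∀ r, WittVector.constantCoeff (τ r) = r := fun r => WittVector.teichmuller_coeff_zero p r
  let G : (Fin n → k) → WittVector p k :=
    fun x => ∑ m ∈ F.support, τ (F.coeff m) * ∏ l, τ (x l) ^ m l
  have hG : ∀ x, WittVector.constantCoeff (G x) = MvPolynomial.eval x F := by
    intro x
    rw [MvPolynomial.eval_eq']
    simp only [G, map_sum, map_mul, map_prod, map_pow, hτ]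
  let E := (p ^ f - 1) * p ^ (f * j)
  let P : WittVector p k := (p : WittVector p k) ^ (f * j)
  -- the power sum is divisible
  have hB : P ∣ ∑ x, G x ^ E := by
    have hexp : ∑ x, G x ^ E = ∑ e ∈ F.support.piAntidiag E,
        (Nat.multinomial F.support e : WittVector p k) * ((∏ m ∈ F.support, τ (F.coeff m) ^ e m) *
          ∏ l, ∑ y : k, τ y ^ (∑ m ∈ F.support, m l * e m)) := by
      rw [Finset.sum_congr rfl fun x _ => Finset.sum_pow_eq_sum_piAntidiag _ _ _, Finset.sum_comm]
      refine Finset.sum_congr rfl fun e _ => ?_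
      rw [← Finset.mul_sum]
      congr 1
      rw [Fintype.prod_sum, Finset.mul_sum]
      refine Finset.sum_congr rfl fun x _ => ?_
      simp only [mul_pow, Finset.prod_mul_distrib]
      congr 1
      rw [Finset.prod_congr rfl fun m _ => (Finset.prod_pow _ _ _).symm, Finset.prod_comm]
      refine Finset.prod_congr rfl fun l _ => ?_
      rw [Finset.prod_congr rfl fun m _ => (pow_mul _ _ _).symm, Finset.prod_pow_eq_pow_sum]
    rw [hexp]
    refine Finset.dvd_sum fun e he => ?_
    rw [Finset.mem_piAntidiag] at he
    by_cases hall : ∀ l : Fin n, p ^ f - 1 ∣ ∑ m ∈ F.support, m l * e m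
    · have hcomb := AxDiv.le_padicValNat_multinomial_add (p := p) hf F.support e
        (fun m l => m l) (β := Fin n) hd
        (fun m hm => ?_) (by simpa using hj) (f * j) he.1 hall
      · refine dvd_trans (pow_dvd_pow (p : WittVector p k) hcomb) ?_
        rw [pow_add, pow_mul]
        refine mul_dvd_mul ?_ (dvd_mul_of_dvd_right ?_ _)
        · rw [← Nat.cast_pow]
          exact Nat.cast_dvd_cast pow_padicValNat_dvd
        · refine dvd_trans (dvd_of_eq ?_)
            (Finset.prod_dvd_prod_of_subset _ _ _ (Finset.subset_univ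
              (Finset.univ.filter fun l : Fin n => ∑ m ∈ F.support, m l * e m = 0)))
          rw [← Finset.prod_const]
          refine Finset.prod_congr rfl fun l hl => ?_
          rw [(Finset.mem_filter.mp hl).2]
          simp [hcard]
      · have := hF (MvPolynomial.mem_support_iff.mp hm)
        rw [← this, Finsupp.weight_apply, Finsupp.sum_fintype _ _ (by simp)]
        simp
    · push Not at hall
      obtain ⟨l, hl⟩ := hall
      rw [Finset.prod_eq_zero (Finset.mem_univ l)
        (witt_sum_pow_teichmuller _ (by rwa [hcard])), mul_zero, mul_zero]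
      exact dvd_zero _
  -- compare with the indicator
  have hA : P ∣ ∑ x : Fin n → k, (G x ^ E - (if MvPolynomial.eval x F = 0 then 0 else 1)) := by
    refine Finset.dvd_sum fun x _ => ?_
    have := pow_sub_indicator hf hcard j (G x)
    rw [hG] at this
    exact this
  rw [Finset.sum_sub_distrib] at hA
  have hI : P ∣ ∑ x : Fin n → k,
      (if MvPolynomial.eval x F = 0 then (0 : WittVector p k) else 1) := by
    have := dvd_sub hB hA
    rwa [sub_sub_cancel] at this
  rw [← pow_mul]
  refine pow_dvd_of_natCast (k := k) _ _ ?_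
  have htot : (Fintype.card {x : Fin n → k // MvPolynomial.eval x F = 0} : WittVector p k) +
      ∑ x : Fin n → k, (if MvPolynomial.eval x F = 0 then (0 : WittVector p k) else 1) =
      ((p : WittVector p k) ^ f) ^ n := by
    rw [Fintype.card_subtype, Finset.natCast_card_filter, ← Finset.sum_add_distrib,
      ← Nat.cast_pow, ← Nat.cast_pow, ← hcard,
      show Fintype.card k ^ n = Fintype.card (Fin n → k) by simp]
    have : ∀ x : Fin n → k, ((if MvPolynomial.eval x F = 0 then (1 : WittVector p k) else 0) +
        if MvPolynomial.eval x F = 0 then 0 else 1) = 1 := fun x => by split_ifs <;> simp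
    simp [this]
  rw [eq_sub_of_add_eq htot]
  refine dvd_sub ?_ hI
  rw [← pow_mul]
  refine pow_dvd_pow _ (Nat.mul_le_mul_left f ?_)
  exact (Nat.le_mul_of_pos_right j hd).trans hj.le

end aux

/-- Let k be a finite field with q elements, F a homogeneous form of degree d > 0 in N variables over k,
and j a natural number with j d < N. Then q^j divides the number of zeros of F in k^N. -/
theorem result (k : Type u) [Field k] [Fintype k] [DecidableEq k] (N d j : ℕ)
    (hd : 0 < d) (F : MvPolynomial (Fin N) k) (hF : F.IsHomogeneous d) (hj : j * d < N) :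
    Fintype.card k ^ j ∣ Fintype.card {x : Fin N → k // MvPolynomial.eval x F = 0} := by
  obtain ⟨p, hchar⟩ := CharP.exists k
  obtain ⟨f, hp, hcard⟩ := FiniteField.card k p
  have : Fact p.Prime := ⟨hp⟩
  rw [hcard]
  exact ax f.pos hcard hd F hF hj

end Groth.Agent.S4047
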