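import Groth.Statements.S4062
import Groth.Agent.SGA7Lib.InertiaExt
import Groth.Agent.TameGal67.Basic
import Mathlib.NumberTheory.Padics.PadicIntegers
import Mathlib.FieldTheory.IsAlgClosed.Spectrum
import Mathlib.FieldTheory.IsAlgClosed.AlgebraicClosure
import Mathlib.LinearAlgebra.Matrix.Charpoly.Eigs
import Mathlib.RingTheory.RootsOfUnity.EnoughRootsOfUnity
import Mathlib.RingTheory.RootsOfUnity.AlgebraicallyClosed
import Mathlib.Algebra.BigOperators.Field
import Mathlib.Topology.Instances.Matrix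
import Mathlib.Topology.Algebra.OpenSubgroup

set_option autoImplicit false
set_option maxHeartbeats 400000
universe u
open CategoryTheory CategoryTheory.Limits AlgebraicGeometry
open SGA7

noncomputable section

namespace Groth.Agent.S4062

section unipotent

variable {l : ℕ} [hl : Fact l.Prime]

/-- roots of unity congruent to one modulo `l²` in an integral extension of `ℤ_l` are trivial -/
theorem eq_one_of_congr {L : Type*} [Field L] [Algebra (PadicInt l) L] [FaithfulSMul (PadicInt l) L]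
    (mu : L) (hmu : IsIntegral (PadicInt l) mu) (M : ℕ) (hM : 0 < M)
    (h : (1 + (l : L) ^ 2 * mu) ^ M = 1) : 1 + (l : L) ^ 2 * mu = 1 := by
  set C := integralClosure (PadicInt l) L
  have key : ∀ (m : C) (p : ℕ), p.Prime → (1 + (l : C) ^ 2 * m) ^ p = 1 → 1 + (l : C) ^ 2 * m = 1 := by
    intro m p hp hm
    by_contra hne
    have hnu : ¬ IsUnit (l : C) := fun hu => by
      have : IsUnit (l : PadicInt l) := (Algebra.IsIntegral.isLocalHom (PadicInt l) C).map_nonunit _ (by rwa [map_natCast])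
      exact PadicInt.prime_p.not_unit this
    have hsum : ∑ i ∈ Finset.range p, (1 + (l : C) ^ 2 * m) ^ i = 0 := by
      have := geom_sum_mul (1 + (l : C) ^ 2 * m) p
      rw [hm, sub_self, mul_eq_zero] at this
      exact this.resolve_right (sub_ne_zero.2 hne)
    have hx : ∀ i, ∃ r : C, (1 + (l : C) ^ 2 * m) ^ i = 1 + (l : C) ^ 2 * r := fun i => by
      induction i with
      | zero => exact ⟨0, by simp⟩
      | succ i ih => obtain ⟨r, hr⟩ := ih; exact ⟨r + m + (l : C) ^ 2 * r * m, by rw [pow_succ, hr]; ring⟩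
    choose r hr using hx
    simp only [hr, Finset.sum_add_distrib, Finset.sum_const, Finset.card_range, ← Finset.mul_sum, nsmul_eq_mul,
      mul_one] at hsum
    by_cases hpl : p = l
    · subst hpl
      have hl0 : (p : C) ≠ 0 := fun h0 => by
        have : algebraMap (PadicInt p) L (p : PadicInt p) = algebraMap (PadicInt p) L 0 := by
          rw [map_natCast, map_zero]; simpa using congrArg Subtype.val h0
        exact PadicInt.prime_p.ne_zero (FaithfulSMul.algebraMap_injective _ _ this)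
      apply hnu
      refine IsUnit.of_mul_eq_one (-∑ i ∈ Finset.range p, r i) (mul_left_cancel₀ hl0 ?_)
      linear_combination -hsum
    · apply hnu
      obtain ⟨a, b, hab⟩ := Int.isCoprime_iff_gcd_eq_one.2
        (show Int.gcd (l : ℤ) (p : ℤ) = 1 by
          rw [Int.gcd_natCast_natCast]; exact (Nat.coprime_primes hl.out hp).2 (Ne.symm hpl))
      have e : (a : C) * (l : C) + (b : C) * (p : C) = 1 := by
        have := congrArg (fun z : ℤ => (z : C)) hab
        simpa using this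
      refine IsUnit.of_mul_eq_one ((a : C) - (b : C) * (l : C) * ∑ i ∈ Finset.range p, r i) ?_
      linear_combination e - (b : C) * hsum
  -- reduce to prime exponents
  lift mu to C using hmu
  suffices 1 + (l : C) ^ 2 * mu = 1 by simpa using congrArg Subtype.val this
  replace h : (1 + (l : C) ^ 2 * mu) ^ M = 1 := Subtype.ext (by simpa using h)
  induction M using Nat.strong_induction_on with
  | _ M ih =>
    by_cases hM1 : M = 1
    · rwa [hM1, pow_one] at h
    obtain ⟨p, hp, k, rfl⟩ := Nat.exists_prime_and_dvd hM1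
    have hk : 0 < k := pos_of_mul_pos_right hM (Nat.zero_le p)
    obtain ⟨r, hr⟩ : ∃ r, (1 + (l : C) ^ 2 * mu) ^ k = 1 + (l : C) ^ 2 * r := by
      clear ih h hk hM hM1
      induction k with
      | zero => exact ⟨0, by simp⟩
      | succ i ih' => obtain ⟨r, hr⟩ := ih'; exact ⟨r + mu + (l : C) ^ 2 * r * mu, by rw [pow_succ, hr]; ring⟩
    have := key r p hp (by rw [← hr, ← pow_mul, Nat.mul_comm]; exact h)
    exact ih k (lt_mul_of_one_lt_left hk hp.one_lt) hk (hr.trans this)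

/-- A matrix congruent to one modulo `l²` which is conjugate to its `q`-th power is unipotent. -/
theorem isNilpotent_sub_one {n : ℕ} (A B : Matrix.GeneralLinearGroup (Fin n) (Padic l))
    (X : Matrix (Fin n) (Fin n) (PadicInt l))
    (hA : (A : Matrix (Fin n) (Fin n) (Padic l)) = 1 + (l : Padic l) ^ 2 • X.map (algebraMap (PadicInt l) (Padic l)))
    (q : ℕ) (hq : 2 ≤ q) (h : B * A * B⁻¹ = A ^ q) :
    IsNilpotent ((A : Matrix (Fin n) (Fin n) (Padic l)) - 1) := by
  let Qp := Padic l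
  let L := AlgebraicClosure Qp
  let f : Qp →+* L := algebraMap Qp L
  let mf := RingHom.mapMatrix (m := Fin n) f
  let A' := Matrix.GeneralLinearGroup.map f A
  let B' := Matrix.GeneralLinearGroup.map f B
  have h' : B' * A' * B'⁻¹ = A' ^ q := by
    rw [← map_mul, ← map_inv, ← map_mul, ← map_pow, h]
  let S := spectrum L (A' : Matrix (Fin n) (Fin n) L)
  have hS : (fun x => x ^ q) '' S = S := by
    rw [← spectrum.map_pow_of_pos _ (by omega), ← Units.val_pow_eq_pow_val, ← h', Units.val_mul, Units.val_mul,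
      spectrum.units_conjugate]
  haveI : Fintype S := ((A' : Matrix (Fin n) (Fin n) L).finite_spectrum).fintype
  let φ : S → S := fun x => ⟨(x : L) ^ q, hS.le (Set.mem_image_of_mem _ x.2)⟩
  have hφs : Function.Surjective φ := fun y => by
    obtain ⟨x, hx, hxy⟩ := hS.ge y.2
    exact ⟨⟨x, hx⟩, Subtype.ext hxy⟩
  let e := Equiv.ofBijective φ ⟨Finite.injective_iff_surjective.2 hφs, hφs⟩
  haveI : FaithfulSMul (PadicInt l) L := (faithfulSMul_iff_algebraMap_injective _ _).2 (by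
    rw [IsScalarTower.algebraMap_eq (PadicInt l) Qp L]
    exact f.injective.comp (IsFractionRing.injective (PadicInt l) Qp))
  have hroot : ∀ x ∈ S, x = 1 := by
    intro x hx
    have hx0 : x ≠ 0 := fun h0 => by
      rw [h0] at hx
      exact (spectrum.zero_mem_iff L).1 hx A'.isUnit
    have hiter : ∀ (k : ℕ) (y : S), (((e ^ k) y : S) : L) = (y : L) ^ (q ^ k) := by
      intro k
      induction k with
      | zero => simp
      | succ k ih => intro y; rw [pow_succ, Equiv.Perm.mul_apply, ih, pow_succ, mul_comm, pow_mul]; rfl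
    have hM := hiter (orderOf (e : Equiv.Perm S)) ⟨x, hx⟩
    rw [pow_orderOf_eq_one, Equiv.Perm.one_apply] at hM
    have hr : 0 < orderOf (e : Equiv.Perm S) := orderOf_pos _
    have hM1 : x ^ (q ^ orderOf (e : Equiv.Perm S) - 1) = 1 := by
      apply mul_left_cancel₀ hx0
      rw [mul_one, ← pow_succ', Nat.sub_add_cancel (Nat.one_le_pow _ _ (by omega))]
      exact hM.symm
    -- x is one plus l² times an integral element
    have hl2 : (l : L) ^ 2 ≠ 0 := pow_ne_zero _ (Nat.cast_ne_zero.2 hl.out.ne_zero)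
    let mu := (x - 1) / (l : L) ^ 2
    have hxmu : x = 1 + (l : L) ^ 2 * mu := by
      show x = 1 + (l : L) ^ 2 * ((x - 1) / (l : L) ^ 2)
      rw [mul_div_cancel₀ _ hl2]; ring
    let Xl : Matrix (Fin n) (Fin n) L := X.map (algebraMap (PadicInt l) L)
    have hA' : (A' : Matrix (Fin n) (Fin n) L) = 1 + (l : L) ^ 2 • Xl := by
      have e1 : (A' : Matrix (Fin n) (Fin n) L) = mf A := rfl
      rw [e1, hA]
      ext i j
      simp [mf, Xl, f, Qp, Matrix.one_apply, apply_ite (algebraMap (Padic l) L), Matrix.map_apply, IsScalarTower.algebraMap_apply (PadicInt l) (Padic l) L]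
    have hmur : mu ∈ spectrum L Xl := by
      rw [spectrum.mem_iff]
      intro hu
      apply spectrum.mem_iff.1 hx
      have : algebraMap L (Matrix (Fin n) (Fin n) L) x - (A' : Matrix (Fin n) (Fin n) L) =
          ((l : L) ^ 2) • (algebraMap L (Matrix (Fin n) (Fin n) L) mu - Xl) := by
        rw [hA', hxmu, map_add, map_one, map_mul, smul_sub, Algebra.smul_def ((l : L) ^ 2) (algebraMap L _ mu)]
        abel
      rw [this]
      exact (isUnit_smul_iff (Units.mk0 _ hl2) _).2 hu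
    have hmui : IsIntegral (PadicInt l) mu := by
      refine ⟨X.charpoly, X.charpoly_monic, ?_⟩
      rw [← Polynomial.eval_map, ← Matrix.charpoly_map]
      exact Matrix.mem_spectrum_iff_isRoot_charpoly.1 hmur
    rw [hxmu] at hM1 ⊢
    exact eq_one_of_congr mu hmui _ (Nat.sub_pos_of_lt (Nat.one_lt_pow hr.ne' (by omega))) hM1
  -- all roots of the characteristic polynomial of A - 1 vanish
  let N := (A : Matrix (Fin n) (Fin n) Qp) - 1
  suffices IsNilpotent (mf N) by
    obtain ⟨k, hk⟩ := this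
    refine ⟨k, Matrix.map_injective f.injective ?_⟩
    show mf (N ^ k) = mf 0
    rw [map_pow, map_zero]; exact hk
  have hspec : ∀ y, (mf N).charpoly.IsRoot y → y = 0 := fun y hy => by
    have hy' := Matrix.mem_spectrum_iff_isRoot_charpoly.2 hy
    have : mf N = (A' : Matrix (Fin n) (Fin n) L) - algebraMap L _ 1 := by
      rw [map_one, map_sub, map_one]; rfl
    rw [this, ← spectrum.sub_singleton_eq] at hy'
    obtain ⟨x, hx, z, hz, rfl⟩ := hy'
    rw [Set.mem_singleton_iff] at hz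
    show x - z = 0
    rw [hz, hroot x hx, sub_self]
  have hsplit : (mf N).charpoly = Polynomial.X ^ (mf N).charpoly.natDegree := by
    conv_lhs => rw [(IsAlgClosed.splits (mf N).charpoly).eq_prod_roots_of_monic (Matrix.charpoly_monic _)]
    rw [Multiset.map_congr rfl (g := fun _ => Polynomial.X) fun y hy => by
      rw [hspec y (Polynomial.isRoot_of_mem_roots hy), Polynomial.C_0, sub_zero]]
    rw [Multiset.map_const', Multiset.prod_replicate, (IsAlgClosed.splits (mf N).charpoly).natDegree_eq_card_roots]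
  refine ⟨(mf N).charpoly.natDegree, ?_⟩
  have := Matrix.aeval_self_charpoly (mf N)
  rwa [hsplit, map_pow, Polynomial.aeval_X] at this

/-- congruence subgroups -/
def gamma (n N : ℕ) : Subgroup (Matrix.GeneralLinearGroup (Fin n) (Padic l)) where
  carrier := {A | (∃ X : Matrix (Fin n) (Fin n) (PadicInt l), (A : Matrix (Fin n) (Fin n) (Padic l)) =
      1 + (l : Padic l) ^ N • X.map (algebraMap (PadicInt l) (Padic l))) ∧
    ∃ X : Matrix (Fin n) (Fin n) (PadicInt l), ((A⁻¹ : Matrix.GeneralLinearGroup (Fin n) (Padic l)) : Matrix (Fin n) (Fin n) (Padic l)) =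
      1 + (l : Padic l) ^ N • X.map (algebraMap (PadicInt l) (Padic l))}
  one_mem' := ⟨⟨0, by ext i j; simp⟩, ⟨0, by ext i j; simp⟩⟩
  mul_mem' := by
    rintro A B ⟨⟨X, hX⟩, ⟨X', hX'⟩⟩ ⟨⟨Y, hY⟩, ⟨Y', hY'⟩⟩
    have key : ∀ (P Q : Matrix (Fin n) (Fin n) (PadicInt l)),
        (1 + (l : Padic l) ^ N • P.map (algebraMap (PadicInt l) (Padic l))) *
          (1 + (l : Padic l) ^ N • Q.map (algebraMap (PadicInt l) (Padic l))) =
        1 + (l : Padic l) ^ N • (P + Q + (l : PadicInt l) ^ N • (P * Q)).map (algebraMap (PadicInt l) (Padic l)) := by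
      intro P Q
      have e : ((P + Q + (l : PadicInt l) ^ N • (P * Q))).map (algebraMap (PadicInt l) (Padic l)) =
          P.map (algebraMap (PadicInt l) (Padic l)) + Q.map (algebraMap (PadicInt l) (Padic l)) +
            (l : Padic l) ^ N • (P.map (algebraMap (PadicInt l) (Padic l)) * Q.map (algebraMap (PadicInt l) (Padic l))) := by
        ext i j
        simp [Matrix.map_apply, Matrix.mul_apply]
      rw [e, smul_add, smul_add, add_mul, one_mul, mul_add, mul_one, smul_mul_assoc, mul_smul_comm]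
      abel
    exact ⟨⟨_, by rw [Units.val_mul, hX, hY, key]⟩, ⟨_, by rw [mul_inv_rev, Units.val_mul, hY', hX', key]⟩⟩
  inv_mem' := by
    rintro A ⟨h1, h2⟩
    exact ⟨h2, by rwa [inv_inv]⟩

theorem gamma_mem_nhds (n N : ℕ) : (gamma (l := l) n N : Set (Matrix.GeneralLinearGroup (Fin n) (Padic l))) ∈ nhds 1 := by
  have hball : ∀ i j : Fin n, Filter.Eventually (fun A : Matrix.GeneralLinearGroup (Fin n) (Padic l) =>
      ‖(A : Matrix (Fin n) (Fin n) (Padic l)) i j - (1 : Matrix (Fin n) (Fin n) (Padic l)) i j‖ ≤ (l : ℝ) ^ (-(N : ℤ))) (nhds 1) := by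
    intro i j
    have hc : Continuous fun A : Matrix.GeneralLinearGroup (Fin n) (Padic l) =>
        ‖(A : Matrix (Fin n) (Fin n) (Padic l)) i j - (1 : Matrix (Fin n) (Fin n) (Padic l)) i j‖ :=
      ((Units.continuous_val.matrix_elem i j).sub continuous_const).norm
    exact (hc.continuousAt.eventually_lt continuousAt_const
      (by simp; exact pow_pos (by exact_mod_cast hl.out.pos) _)).mono fun A hA => hA.le
  have hX : Filter.Eventually (fun A : Matrix.GeneralLinearGroup (Fin n) (Padic l) =>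
      ∃ X : Matrix (Fin n) (Fin n) (PadicInt l), (A : Matrix (Fin n) (Fin n) (Padic l)) =
        1 + (l : Padic l) ^ N • X.map (algebraMap (PadicInt l) (Padic l))) (nhds 1) := by
    filter_upwards [Filter.eventually_all.2 fun i => Filter.eventually_all.2 (hball i)] with A hA
    refine ⟨Matrix.of fun i j => ⟨((A : Matrix (Fin n) (Fin n) (Padic l)) i j -
      (1 : Matrix (Fin n) (Fin n) (Padic l)) i j) / (l : Padic l) ^ N, ?_⟩, ?_⟩
    · rw [norm_div, norm_pow, Padic.norm_p, inv_pow, div_inv_eq_mul]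
      have := hA i j
      rw [zpow_neg, zpow_natCast] at this
      have hp : (0 : ℝ) < (l : ℝ) ^ N := by have := hl.out.pos; positivity
      calc _ ≤ ((l : ℝ) ^ N)⁻¹ * (l : ℝ) ^ N := by gcongr
        _ = 1 := inv_mul_cancel₀ hp.ne'
    · ext i j
      have hl0 : (l : Padic l) ≠ 0 := Nat.cast_ne_zero.2 hl.out.ne_zero
      rw [Matrix.add_apply, Matrix.smul_apply, Matrix.map_apply, smul_eq_mul]
      show (A : Matrix (Fin n) (Fin n) (Padic l)) i j = (1 : Matrix (Fin n) (Fin n) (Padic l)) i j + (l : Padic l) ^ N *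
        (((A : Matrix (Fin n) (Fin n) (Padic l)) i j - (1 : Matrix (Fin n) (Fin n) (Padic l)) i j) / (l : Padic l) ^ N)
      rw [mul_div_cancel₀ _ (pow_ne_zero _ hl0)]
      ring
  have hinv : Filter.Tendsto (fun A : Matrix.GeneralLinearGroup (Fin n) (Padic l) => A⁻¹) (nhds 1) (nhds 1) := by
    simpa using (continuous_inv.tendsto (1 : Matrix.GeneralLinearGroup (Fin n) (Padic l)))
  exact hX.and (hinv.eventually hX)

theorem gamma_succ {n N : ℕ} (hN : 1 ≤ N) {A : Matrix.GeneralLinearGroup (Fin n) (Padic l)} (hA : A ∈ gamma n N) :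
    A ^ l ∈ gamma n (N + 1) := by
  have key : ∀ (A : Matrix.GeneralLinearGroup (Fin n) (Padic l)) (X : Matrix (Fin n) (Fin n) (PadicInt l)),
      (A : Matrix (Fin n) (Fin n) (Padic l)) = 1 + (l : Padic l) ^ N • X.map (algebraMap (PadicInt l) (Padic l)) →
      ∃ Y : Matrix (Fin n) (Fin n) (PadicInt l), ((A ^ l : Matrix.GeneralLinearGroup (Fin n) (Padic l)) : Matrix (Fin n) (Fin n) (Padic l)) =
        1 + (l : Padic l) ^ (N + 1) • Y.map (algebraMap (PadicInt l) (Padic l)) := by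
    intro A X hX
    have hk : ∀ k : ℕ, ∃ Y : Matrix (Fin n) (Fin n) (PadicInt l), (1 + (l : PadicInt l) ^ N • X) ^ k =
        1 + (k : PadicInt l) • ((l : PadicInt l) ^ N • X) + (l : PadicInt l) ^ (N + 1) • Y := by
      intro k
      induction k with
      | zero => exact ⟨0, by simp⟩
      | succ k ih =>
        obtain ⟨Y, hY⟩ := ih
        obtain ⟨M, rfl⟩ : ∃ M, N = M + 1 := ⟨N - 1, by omega⟩
        refine ⟨Y + (l : PadicInt l) ^ (M + 1) • (Y * X) + ((k : PadicInt l) * (l : PadicInt l) ^ M) • (X * X), ?_⟩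
        rw [pow_succ, hY]
        simp only [Nat.cast_succ, add_smul, one_smul, mul_add, add_mul, one_mul, mul_one, smul_mul_assoc, mul_smul_comm,
          smul_smul, smul_add]
        module
    obtain ⟨Y, hY⟩ := hk l
    refine ⟨X + Y, ?_⟩
    rw [Units.val_pow_eq_pow_val, hX]
    have e := congrArg (RingHom.mapMatrix (algebraMap (PadicInt l) (Padic l))) hY
    have e2 : ∀ (c : PadicInt l) (Z : Matrix (Fin n) (Fin n) (PadicInt l)),
        (c • Z).map (algebraMap (PadicInt l) (Padic l)) = algebraMap (PadicInt l) (Padic l) c • Z.map (algebraMap (PadicInt l) (Padic l)) :=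
      fun c Z => by ext i j; simp [Matrix.map_apply]
    simp only [map_pow, map_add, map_one, RingHom.mapMatrix_apply, e2, map_natCast] at e
    rw [e, Matrix.map_add _ (map_add _), smul_smul, ← pow_succ', smul_add]
    abel
  obtain ⟨⟨X, hX⟩, ⟨X', hX'⟩⟩ := hA
  exact ⟨key A X hX, by rw [← inv_pow]; exact key A⁻¹ X' hX'⟩

theorem gamma_pow {n : ℕ} {A : Matrix.GeneralLinearGroup (Fin n) (Padic l)} (hA : A ∈ gamma n 2) (a : ℕ) :
    A ^ (l ^ a) ∈ gamma n (2 + a) := by
  induction a with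
  | zero => simpa using hA
  | succ a ih => rw [pow_succ, pow_mul]; exact gamma_succ (N := 2 + a) (by omega) ih

theorem eq_one_of_forall_gamma {n : ℕ} {A : Matrix.GeneralLinearGroup (Fin n) (Padic l)}
    (hA : ∀ a, A ∈ gamma n (2 + a)) : A = 1 := by
  refine Units.ext (Matrix.ext fun i j => ?_)
  by_contra hne
  have h0 : 0 < ‖(A : Matrix (Fin n) (Fin n) (Padic l)) i j - (1 : Matrix (Fin n) (Fin n) (Padic l)) i j‖ :=
    norm_pos_iff.2 (sub_ne_zero.2 hne)
  obtain ⟨a, ha⟩ := exists_pow_lt_of_lt_one h0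
    (inv_lt_one_of_one_lt₀ (show (1 : ℝ) < l from by exact_mod_cast hl.out.one_lt))
  obtain ⟨⟨X, hX⟩, -⟩ := hA a
  rw [hX] at ha
  simp only [Matrix.add_apply, Matrix.smul_apply, Matrix.map_apply, smul_eq_mul, add_sub_cancel_left, norm_mul, norm_pow,
    Padic.norm_p, PadicInt.algebraMap_apply, PadicInt.padic_norm_e_of_padicInt] at ha
  have h1 : ((l : ℝ)⁻¹) ^ (2 + a) * ‖X i j‖ ≤ ((l : ℝ)⁻¹) ^ a := by
    calc _ ≤ ((l : ℝ)⁻¹) ^ (2 + a) * 1 := by gcongr; exact PadicInt.norm_le_one _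
      _ ≤ _ := by rw [mul_one]; exact pow_le_pow_of_le_one (by positivity) (inv_le_one_of_one_le₀ (by exact_mod_cast hl.out.one_le)) (by omega)
  linarith

theorem gamma_conj {n N : ℕ} {A B : Matrix.GeneralLinearGroup (Fin n) (Padic l)} (hA : A ∈ gamma n 2)
    (hB : B ∈ gamma n N) : A * B * A⁻¹ ∈ gamma n N := by
  obtain ⟨⟨P, hP⟩, ⟨P', hP'⟩⟩ := hA
  let ι₀ := RingHom.mapMatrix (m := Fin n) (algebraMap (PadicInt l) (Padic l))
  have e : ∀ (P : Matrix (Fin n) (Fin n) (PadicInt l)),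
      (1 : Matrix (Fin n) (Fin n) (Padic l)) + (l : Padic l) ^ 2 • P.map (algebraMap (PadicInt l) (Padic l)) =
        (1 + (l : PadicInt l) ^ 2 • P).map (algebraMap (PadicInt l) (Padic l)) := fun P => by
    ext i j
    simp [Matrix.map_apply, Matrix.one_apply]
    split_ifs <;> simp
  have h1 : (A : Matrix (Fin n) (Fin n) (Padic l)) * ((A⁻¹ : Matrix.GeneralLinearGroup (Fin n) (Padic l)) :
      Matrix (Fin n) (Fin n) (Padic l)) = 1 := by rw [← Units.val_mul, mul_inv_cancel, Units.val_one]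
  have key : ∀ (B : Matrix.GeneralLinearGroup (Fin n) (Padic l)) (X : Matrix (Fin n) (Fin n) (PadicInt l)),
      (B : Matrix (Fin n) (Fin n) (Padic l)) = 1 + (l : Padic l) ^ N • X.map (algebraMap (PadicInt l) (Padic l)) →
      ∃ Y : Matrix (Fin n) (Fin n) (PadicInt l), ((A * B * A⁻¹ : Matrix.GeneralLinearGroup (Fin n) (Padic l)) :
        Matrix (Fin n) (Fin n) (Padic l)) = 1 + (l : Padic l) ^ N • Y.map (algebraMap (PadicInt l) (Padic l)) := by
    intro B X hX
    refine ⟨(1 + (l : PadicInt l) ^ 2 • P) * X * (1 + (l : PadicInt l) ^ 2 • P'), ?_⟩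
    rw [Matrix.map_mul, Matrix.map_mul, ← e, ← e, ← hP, ← hP', Units.val_mul, Units.val_mul, hX, mul_add, mul_one,
      add_mul, h1, mul_smul_comm, smul_mul_assoc]
  obtain ⟨⟨X, hX⟩, ⟨X', hX'⟩⟩ := hB
  refine ⟨key B X hX, ?_⟩
  rw [mul_inv_rev, mul_inv_rev, inv_inv, ← mul_assoc]
  exact key B⁻¹ X' hX'

/-- powers of an element one plus `l^c` times a unit exhaust the congruence class modulo powers of `l` -/
theorem exists_pow_modEq {c : ℕ} (hc : 2 ≤ c) (e : ℤ) (he : (l : ℤ) ^ c ∣ e - 1)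
    (he' : ¬ (l : ℤ) ^ (c + 1) ∣ e - 1) (i : ℕ) : ∃ j : ℕ, (l : ℤ) ^ i ∣ e ^ j - (1 + (l : ℤ) ^ c) := by
  have hlp : Prime (l : ℤ) := Nat.prime_iff_prime_int.1 hl.out
  obtain ⟨a, ha⟩ := he
  have hal : ¬ (l : ℤ) ∣ a := fun h => he' (by rw [ha, pow_succ]; exact mul_dvd_mul_left _ h)
  have hlift : ∀ d : ℕ, ∃ b : ℤ, e ^ (l ^ d) = 1 + (l : ℤ) ^ (c + d) * b ∧ ¬ (l : ℤ) ∣ b := by
    intro d
    induction d with
    | zero => exact ⟨a, by simp; linarith, hal⟩
    | succ d ih =>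
      obtain ⟨b, hb, hbl⟩ := ih
      obtain ⟨M, hM⟩ : ∃ M, c + d = M + 2 := ⟨c + d - 2, by omega⟩
      have hk : ∀ k : ℕ, ∃ r : ℤ, (1 + (l : ℤ) ^ (c + d) * b) ^ k = 1 + k * ((l : ℤ) ^ (c + d) * b) + (l : ℤ) ^ (c + d + 2) * r := by
        intro k
        induction k with
        | zero => exact ⟨0, by simp⟩
        | succ k ih =>
          obtain ⟨r, hr⟩ := ih
          refine ⟨r + r * (l : ℤ) ^ (c + d) * b + k * b * b * (l : ℤ) ^ M, ?_⟩
          rw [pow_succ, hr, hM]
          push_cast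
          ring
      obtain ⟨r, hr⟩ := hk l
      refine ⟨b + (l : ℤ) * r, ?_, fun h => hbl ((dvd_add_left (dvd_mul_right _ _)).1 h)⟩
      rw [pow_succ, pow_mul, hb, hr]
      ring
  suffices ∀ i, ∃ j : ℕ, (l : ℤ) ^ (c + i) ∣ e ^ j - (1 + (l : ℤ) ^ c) by
    obtain ⟨j, hj⟩ := this i
    exact ⟨j, (pow_dvd_pow _ (by omega)).trans hj⟩
  intro i
  induction i with
  | zero => exact ⟨0, ⟨-1, by simp⟩⟩
  | succ i ih =>
    obtain ⟨j, d, hd⟩ := ih
    obtain ⟨b, hb, hbl⟩ := hlift i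
    obtain ⟨u, v, huv⟩ : IsCoprime (l : ℤ) b := hlp.coprime_iff_not_dvd.2 hbl
    -- multiply by a power of e^(l^i) to kill d
    obtain ⟨t, ht⟩ : ∃ t : ℕ, (l : ℤ) ∣ d + t * b := by
      refine ⟨((-d * v) % l).toNat, ?_⟩
      rw [Int.toNat_of_nonneg (Int.emod_nonneg _ (by exact_mod_cast hl.out.ne_zero)), Int.emod_def]
      refine ⟨d * u - (-d * v) / l * b, ?_⟩
      linear_combination (-d) * huv
    have hk : ∀ k : ℕ, ∃ r : ℤ, (1 + (l : ℤ) ^ (c + i) * b) ^ k = 1 + k * ((l : ℤ) ^ (c + i) * b) + (l : ℤ) ^ (c + i + 1) * r := by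
      obtain ⟨M, hM⟩ : ∃ M, c + i = M + 1 := ⟨c + i - 1, by omega⟩
      intro k
      induction k with
      | zero => exact ⟨0, by simp⟩
      | succ k ih =>
        obtain ⟨r, hr⟩ := ih
        refine ⟨r + r * (l : ℤ) ^ (c + i) * b + k * b * b * (l : ℤ) ^ M, ?_⟩
        rw [pow_succ, hr, hM]
        push_cast
        ring
    obtain ⟨r, hr⟩ := hk t
    refine ⟨j + l ^ i * t, ?_⟩
    obtain ⟨s, hs⟩ := ht
    obtain ⟨c', rfl⟩ : ∃ c', c = c' + 1 := ⟨c - 1, by omega⟩
    refine ⟨s + r * e ^ j + t * b * (l : ℤ) ^ c' + (l : ℤ) ^ (c' + i) * d * t * b, ?_⟩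
    rw [pow_add, pow_mul, hb, hr]
    linear_combination hd + (l : ℤ) ^ (c' + 1 + i) * hs + (t * ((l : ℤ) ^ (c' + 1 + i) * b)) * hd

end unipotent

section galois

variable {R K Ω : Type u} [CommRing R] [IsDomain R] [IsDiscreteValuationRing R] [HenselianLocalRing R]
  [Field K] [Algebra R K] [IsFractionRing R K] [Field Ω] [Algebra K Ω] [Algebra R Ω] [IsScalarTower R K Ω]
  [IsSepClosure K Ω] {W : ValuationSubring Ω}

/-- reduction, extended by zero -/
def res (W : ValuationSubring Ω) (x : Ω) : IsLocalRing.ResidueField W :=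
  open scoped Classical in if h : x ∈ W then IsLocalRing.residue W ⟨x, h⟩ else 0

omit [CommRing R] in
theorem res_coe (x : W) : res W (x : Ω) = IsLocalRing.residue W x := dif_pos x.2

theorem res_mul {x y : Ω} (hx : x ∈ W) (hy : y ∈ W) : res W (x * y) = res W x * res W y := by
  rw [show x * y = ((⟨x, hx⟩ * ⟨y, hy⟩ : W) : Ω) from rfl, res_coe, map_mul, ← res_coe, ← res_coe]

theorem res_pow {x : Ω} (hx : x ∈ W) (k : ℕ) : res W (x ^ k) = res W x ^ k := by
  rw [show x ^ k = (((⟨x, hx⟩ : W) ^ k : W) : Ω) from rfl, res_coe, map_pow, ← res_coe]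

theorem res_eq_iff {x y : Ω} (hx : x ∈ W) (hy : y ∈ W) : res W x = res W y ↔ W.valuation (x - y) < 1 := by
  rw [show x = ((⟨x, hx⟩ : W) : Ω) from rfl, show y = ((⟨y, hy⟩ : W) : Ω) from rfl, res_coe, res_coe, ← sub_eq_zero,
    ← map_sub, IsLocalRing.residue_eq_zero_iff, ValuationSubring.valuation_lt_one_iff]
  rfl

variable (hW : SGA7.LiesOver K R W)

include hW in
theorem stable (g : Ω ≃ₐ[K] Ω) {x : Ω} (hx : x ∈ W) : g x ∈ W :=
  SGA7Lib.InertiaExt.mem_of_isIntegral W hW ((SGA7Lib.InertiaExt.isIntegral_of_mem W hW hx).map (g.restrictScalars R).toAlgHom)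

include hW in
theorem val_lt_one (g : Ω ≃ₐ[K] Ω) {x : Ω} (hx : W.valuation x < 1) : W.valuation (g x) < 1 := by
  have hxW : x ∈ W := (W.valuation_le_one_iff _).1 hx.le
  refine lt_of_le_of_ne ((W.valuation_le_one_iff _).2 (stable hW g hxW)) fun h => hx.ne ?_
  have hgx : g x ≠ 0 := fun h0 => by rw [h0, map_zero] at h; exact zero_ne_one h
  have hinv : (g x)⁻¹ ∈ W := (W.valuation_le_one_iff _).1 (by rw [map_inv₀, h, inv_one])
  have := stable hW g⁻¹ hinv
  rw [map_inv₀, AlgEquiv.aut_inv, AlgEquiv.symm_apply_apply] at this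
  refine le_antisymm hx.le ?_
  have h2 := (W.valuation_le_one_iff _).2 this
  rw [map_inv₀] at h2
  exact (inv_le_one₀ (zero_lt_iff.2 ((Valuation.ne_zero_iff _).2 (fun h0 => hgx (by rw [h0, map_zero]))))).1 h2

include hW in
/-- Galois preserves valuations -/
theorem div_mem (g : Ω ≃ₐ[K] Ω) {y : Ω} (hy : y ≠ 0) : g y / y ∈ W := by
  haveI := IsSepClosure.separable (k := K) (K := Ω)
  by_contra h
  have h1 : W.valuation (y / g y) < 1 := by
    have hgy : g y ≠ 0 := (map_ne_zero g).2 hy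
    refine lt_of_le_of_ne ((W.valuation_le_one_iff _).2 (by
      have := (W.mem_or_inv_mem (g y / y)).resolve_left h; rwa [inv_div] at this)) fun h' => h ?_
    apply (W.valuation_le_one_iff _).1
    rw [← inv_div, map_inv₀, h', inv_one]
  -- a power of g fixes y
  obtain ⟨n, hn0, hn⟩ : ∃ n : ℕ, 0 < n ∧ (g ^ n) y = y := by
    have hroot : ∀ k : ℕ, Polynomial.aeval ((g ^ k) y) (minpoly K y) = 0 := fun k => by
      rw [show (g ^ k) y = (g ^ k).toAlgHom y from rfl, Polynomial.aeval_algHom_apply, minpoly.aeval, map_zero]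
    have hne := minpoly.ne_zero (Algebra.IsSeparable.isIntegral K y)
    obtain ⟨a, -, b, -, hab, he⟩ := Set.Infinite.exists_ne_map_eq_of_mapsTo (Set.infinite_univ (α := ℕ))
      (f := fun k => (g ^ k) y) (t := {z | Polynomial.aeval z (minpoly K y) = 0})
      (fun k _ => hroot k) (by
        classical
        refine ((minpoly K y).aroots Ω).toFinset.finite_toSet.subset fun z hz => ?_
        rw [Finset.mem_coe, Multiset.mem_toFinset, Polynomial.mem_aroots]
        exact ⟨hne, hz⟩)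
    wlog hlt : a < b generalizing a b
    · exact this b a (Ne.symm hab) he.symm (lt_of_le_of_ne (not_lt.1 hlt) (Ne.symm hab))
    refine ⟨b - a, Nat.sub_pos_of_lt hlt, (g ^ a).injective ?_⟩
    rw [← AlgEquiv.mul_apply, ← pow_add, Nat.add_sub_cancel' hlt.le]
    exact he.symm
  have key : ∀ k : ℕ, 0 < k → W.valuation (y / (g ^ k) y) < 1 := by
    intro k
    induction k with
    | zero => simp
    | succ k ih =>
      intro _
      rcases Nat.eq_zero_or_pos k with rfl | hk
      · simpa using h1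
      · have hgk : (g ^ k) y ≠ 0 := (map_ne_zero _).2 hy
        rw [← div_mul_div_cancel₀ hgk, map_mul]
        refine mul_lt_one_of_nonneg_of_lt_one_left zero_le (ih hk) ?_
        have := val_lt_one hW (g ^ k) h1
        rw [map_div₀, ← AlgEquiv.mul_apply, ← pow_succ] at this
        exact this.le
  have := key n hn0
  rw [hn, div_self hy, map_one] at this
  exact lt_irrefl _ this

include hW in
theorem res_galois (g : Ω ≃ₐ[K] Ω) {x y : Ω} (hx : x ∈ W) (hy : y ∈ W) (h : res W x = res W y) :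
    res W (g x) = res W (g y) := by
  rw [res_eq_iff (stable hW g hx) (stable hW g hy), ← map_sub]
  exact val_lt_one hW g ((res_eq_iff hx hy).1 h)

/-- the tame symbol -/
def th (W : ValuationSubring Ω) (y : Ω) (σ : Ω ≃ₐ[K] Ω) : IsLocalRing.ResidueField W := res W (σ y / y)

include hW in
theorem th_mul {σ : Ω ≃ₐ[K] Ω} (hσ : SGA7.IsInertia W σ) (τ : Ω ≃ₐ[K] Ω) {y : Ω} (hy : y ≠ 0) :
    th W y (σ * τ) = th W y τ * th W y σ := by
  have hτ := div_mem hW τ hy
  have hσy := div_mem hW σ hy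
  have e : (σ * τ) y / y = σ (τ y / y) * (σ y / y) := by
    rw [AlgEquiv.mul_apply, map_div₀]
    field_simp [(map_ne_zero σ).2 hy]
  show res W _ = _
  rw [e, res_mul (stable hW σ hτ) hσy, (res_eq_iff (stable hW σ hτ) hτ).2 (hσ _ hτ).2]
  rfl

theorem isInertia_one : SGA7.IsInertia W (1 : Ω ≃ₐ[K] Ω) := fun x hx => ⟨hx, by simp⟩

theorem isInertia_mul {σ τ : Ω ≃ₐ[K] Ω} (hσ : SGA7.IsInertia W σ) (hτ : SGA7.IsInertia W τ) :
    SGA7.IsInertia W (σ * τ) := fun x hx => by
  obtain ⟨h1, h2⟩ := hτ x hx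
  obtain ⟨h3, h4⟩ := hσ _ h1
  refine ⟨h3, ?_⟩
  rw [AlgEquiv.mul_apply, ← sub_add_sub_cancel (σ (τ x)) (τ x) x]
  exact W.valuation.map_add_lt h4 h2

include hW in
theorem isInertia_inv {σ : Ω ≃ₐ[K] Ω} (hσ : SGA7.IsInertia W σ) : SGA7.IsInertia W σ⁻¹ := fun x hx => by
  have h := stable hW σ⁻¹ hx
  refine ⟨h, ?_⟩
  have := (hσ _ h).2
  rw [AlgEquiv.aut_inv, AlgEquiv.apply_symm_apply, ← W.valuation.map_neg, neg_sub] at this
  exact this

theorem isInertia_pow {σ : Ω ≃ₐ[K] Ω} (hσ : SGA7.IsInertia W σ) (k : ℕ) : SGA7.IsInertia W (σ ^ k) := by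
  induction k with
  | zero => exact isInertia_one
  | succ k ih => rw [pow_succ]; exact isInertia_mul ih hσ

include hW in
theorem isInertia_conj {σ : Ω ≃ₐ[K] Ω} (hσ : SGA7.IsInertia W σ) (g : Ω ≃ₐ[K] Ω) :
    SGA7.IsInertia W (g * σ * g⁻¹) := fun x hx => by
  obtain ⟨h1, h2⟩ := hσ _ (stable hW g⁻¹ hx)
  refine ⟨stable hW g h1, ?_⟩
  have := val_lt_one hW g h2
  rwa [map_sub, show g (g⁻¹ x) = x from g.apply_symm_apply x] at this

include hW in
theorem th_pow {σ : Ω ≃ₐ[K] Ω} (hσ : SGA7.IsInertia W σ) {y : Ω} (hy : y ≠ 0) (k : ℕ) :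
    th W y (σ ^ k) = th W y σ ^ k := by
  induction k with
  | zero =>
    show res W (y / y) = _
    rw [div_self hy, pow_zero, show (1 : Ω) = ((1 : W) : Ω) from rfl, res_coe, map_one]
  | succ k ih => rw [pow_succ', th_mul hW hσ _ hy, ih, pow_succ]

include hW in
/-- an element of finite order prime to the residue characteristic with trivial symbols fixes the point -/
theorem fixes_of_th_eq_one {s : Ω ≃ₐ[K] Ω} (hs : SGA7.IsInertia W s) (n : ℕ)
    (hn : (n : IsLocalRing.ResidueField R) ≠ 0) (x : Ω) (hx : (s ^ n) x = x)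
    (h : s x - x ≠ 0 → th W (s x - x) s = 1) : s x = x := by
  by_contra hne
  let a := s x - x
  have ha : a ≠ 0 := sub_ne_zero.2 hne
  have hcomm : (s ^ n) (s x) = s x := by
    rw [← AlgEquiv.mul_apply, ← pow_succ, pow_succ', AlgEquiv.mul_apply, hx]
  have haf : (s ^ n) a = a := by rw [map_sub, hcomm, hx]
  have hsum : ∑ i ∈ Finset.range n, (s ^ i) a / a = 0 := by
    rw [← Finset.sum_div]
    have : ∑ i ∈ Finset.range n, (s ^ i) a = ∑ i ∈ Finset.range n, ((s ^ (i + 1)) x - (s ^ i) x) :=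
      Finset.sum_congr rfl fun i _ => by rw [map_sub, pow_succ, AlgEquiv.mul_apply]
    rw [this, Finset.sum_range_sub fun i => (s ^ i) x, hx, pow_zero, AlgEquiv.one_apply, sub_self, zero_div]
  have hres : IsLocalRing.residue W (∑ i ∈ Finset.range n, (⟨(s ^ i) a / a, div_mem hW _ ha⟩ : W)) = (n : IsLocalRing.ResidueField W) := by
    rw [map_sum]
    have hi : ∀ i, IsLocalRing.residue W (⟨(s ^ i) a / a, div_mem hW _ ha⟩ : W) = 1 := fun i => by
      rw [← res_coe]
      show th W a (s ^ i) = 1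
      rw [th_pow hW hs ha, h ha, one_pow]
    rw [Finset.sum_congr rfl fun i _ => hi i]
    simp
  rw [show (∑ i ∈ Finset.range n, (⟨(s ^ i) a / a, div_mem hW _ ha⟩ : W)) = 0 from Subtype.ext (by
    push_cast; exact hsum), map_zero] at hres
  have h1 := TameGal67.natCast_not_mem (K := K) hW hn
  have h2 : ((n : W) : W) ∈ IsLocalRing.maximalIdeal W := (IsLocalRing.residue_eq_zero_iff _).1 (by rw [map_natCast]; exact hres.symm)
  rw [ValuationSubring.valuation_lt_one_iff] at h2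
  push_cast at h2
  exact h2.ne h1

end galois

section cyclo

variable {R K Ω : Type u} [CommRing R] [IsDomain R] [IsDiscreteValuationRing R] [HenselianLocalRing R]
  [Field K] [Algebra R K] [IsFractionRing R K] [Field Ω] [Algebra K Ω] [Algebra R Ω] [IsScalarTower R K Ω]
  [IsSepClosure K Ω] {W : ValuationSubring Ω} {l : ℕ} [hl : Fact l.Prime]

/-- An automorphism acting on roots of unity of `l`-power order by a fixed integer power. -/
theorem exists_cyclotomic (hW : SGA7.LiesOver K R W) (hlam : (l : IsLocalRing.ResidueField R) ≠ 0)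
    (hstar : ∀ (k' : Type u) [Field k'] [Algebra (IsLocalRing.ResidueField R) k'],
      FiniteDimensional (IsLocalRing.ResidueField R) k' → ∃ m : ℕ, ∀ ζ : k', ¬ IsPrimitiveRoot ζ (l ^ m)) :
    ∃ (q : ℕ) (g : Ω ≃ₐ[K] Ω), 2 ≤ q ∧ ∀ (m : ℕ) (ζ : Ω), ζ ^ (l ^ m) = 1 → g ζ = ζ ^ q := by
  haveI := IsSepClosure.separable (k := K) (K := Ω)
  haveI : IsGalois K Ω := { to_isSeparable := inferInstance, to_normal := inferInstance }
  haveI := IsSepClosure.sep_closed (k := K) (K := Ω)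
  haveI hl0 : NeZero (l : Ω) := ⟨TameGal67.ne_zero_cast (K := K) hW hlam⟩
  have hprim : ∀ m : ℕ, ∃ ζ : Ω, IsPrimitiveRoot ζ (l ^ m) := fun m => by
    haveI : NeZero ((l ^ m : ℕ) : Ω) := ⟨by rw [Nat.cast_pow]; exact pow_ne_zero _ hl0.out⟩
    exact HasEnoughRootsOfUnity.exists_primitiveRoot Ω (l ^ m)
  choose z hz using hprim
  -- some automorphism fixes the l²-th roots but moves higher ones
  obtain ⟨g₀, hg₀, M, hM⟩ : ∃ g₀ : Ω ≃ₐ[K] Ω, g₀ (z 2) = z 2 ∧ ∃ M, g₀ (z M) ≠ z M := by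
    by_contra hcon
    push Not at hcon
    let F := IntermediateField.adjoin K {z 2}
    haveI : FiniteDimensional K F := IntermediateField.adjoin.finiteDimensional (Algebra.IsSeparable.isIntegral K _)
    have hzF : ∀ m, z m ∈ F := fun m => by
      rw [← InfiniteGalois.fixedField_fixingSubgroup F, IntermediateField.mem_fixedField_iff]
      intro σ hσ
      rw [IntermediateField.mem_fixingSubgroup_iff] at hσ
      exact hcon σ (hσ _ (IntermediateField.mem_adjoin_simple_self K _)) m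
    haveI : Algebra.IsSeparable K F := Algebra.isSeparable_tower_bot_of_isSeparable K F Ω
    let C := integralClosure R F
    haveI : Module.Finite R C := IsIntegralClosure.finite R K F C
    let ψ : C →+* W := (F.val.toRingHom.comp C.val.toRingHom).codRestrict W.toSubring fun c =>
      SGA7Lib.InertiaExt.mem_of_isIntegral W hW (c.2.map (F.val.restrictScalars R))
    let P : Ideal C := (IsLocalRing.maximalIdeal W).comap ψ
    have hP : ∀ r ∈ IsLocalRing.maximalIdeal R, algebraMap R C r ∈ P := fun r hr => by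
      rw [Ideal.mem_comap, ValuationSubring.valuation_lt_one_iff]
      have e : ((ψ (algebraMap R C r) : W) : Ω) = algebraMap R Ω r := rfl
      rw [e, IsScalarTower.algebraMap_apply R K Ω]
      exact hW.2 r hr
    haveI : P.LiesOver (IsLocalRing.maximalIdeal R) := ⟨((IsLocalRing.maximalIdeal.isMaximal R).eq_of_le
      (Ideal.IsPrime.ne_top inferInstance) hP)⟩
    haveI : P.IsMaximal := Ideal.IsMaximal.of_liesOver_isMaximal P (IsLocalRing.maximalIdeal R)
    letI : Field (C ⧸ P) := Ideal.Quotient.field P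
    letI : Algebra (IsLocalRing.ResidueField R) (C ⧸ P) := inferInstanceAs (Algebra (R ⧸ IsLocalRing.maximalIdeal R) (C ⧸ P))
    haveI : IsScalarTower R (IsLocalRing.ResidueField R) (C ⧸ P) := IsScalarTower.of_algebraMap_eq fun r => rfl
    haveI : FiniteDimensional (IsLocalRing.ResidueField R) (C ⧸ P) := Module.Finite.of_restrictScalars_finite R _ _
    obtain ⟨m, hm⟩ := hstar (C ⧸ P) inferInstance
    have hzi : IsIntegral R (⟨z m, hzF m⟩ : F) := ⟨Polynomial.X ^ (l ^ m) - Polynomial.C 1,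
      Polynomial.monic_X_pow_sub_C _ (pow_ne_zero _ hl.out.ne_zero), by
        simp only [Polynomial.eval₂_sub, Polynomial.eval₂_pow, Polynomial.eval₂_X, map_one, Polynomial.eval₂_one]
        rw [sub_eq_zero]
        exact Subtype.ext (hz m).pow_eq_one⟩
    let ζ : C := ⟨⟨z m, hzF m⟩, hzi⟩
    refine hm (Ideal.Quotient.mk P ζ) ⟨?_, fun j hj => ?_⟩
    · rw [← map_pow, show ζ ^ (l ^ m) = 1 from Subtype.ext (Subtype.ext (hz m).pow_eq_one), map_one]
    · refine (hz m).dvd_of_pow_eq_one j ?_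
      refine TameGal67.eq_one_of_pow (K := K) hW (r := l ^ m) (by rw [Nat.cast_pow]; exact pow_ne_zero _ hlam)
        (by rw [← pow_mul, mul_comm, pow_mul, (hz m).pow_eq_one, one_pow]) ?_
      rw [← map_pow, ← (Ideal.Quotient.mk P).map_one, Ideal.Quotient.eq, Ideal.mem_comap,
        ValuationSubring.valuation_lt_one_iff] at hj
      exact hj
  -- its exponent
  have hmove : ∀ (σ : Ω ≃ₐ[K] Ω) (m : ℕ), ∃ e : ℕ, ∀ ζ : Ω, ζ ^ (l ^ m) = 1 → σ ζ = ζ ^ e := fun σ m => by
    haveI : NeZero (l ^ m) := ⟨pow_ne_zero _ hl.out.ne_zero⟩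
    obtain ⟨e, -, he⟩ := (hz m).eq_pow_of_pow_eq_one (ξ := σ (z m)) (by rw [← map_pow, (hz m).pow_eq_one, map_one])
    refine ⟨e, fun ζ hζ => ?_⟩
    obtain ⟨i, -, rfl⟩ := (hz m).eq_pow_of_pow_eq_one hζ
    rw [map_pow, ← he, ← pow_mul, ← pow_mul, mul_comm]
  have hle : ∀ {m m' : ℕ}, m ≤ m' → ∀ ζ : Ω, ζ ^ (l ^ m) = 1 → ζ ^ (l ^ m') = 1 := fun h ζ hζ => by
    rw [← Nat.add_sub_cancel' h, pow_add, pow_mul, hζ, one_pow]
  have hint : ∀ (m : ℕ) (a b : ℕ), ((l : ℤ) ^ m ∣ (a : ℤ) - b) ↔ z m ^ a = z m ^ b := fun m a b => by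
    have h0 : z m ≠ 0 := (hz m).ne_zero (pow_ne_zero _ hl.out.ne_zero)
    have := (hz m).zpow_eq_one_iff_dvd ((a : ℤ) - b)
    rw [Nat.cast_pow] at this
    rw [← this, zpow_sub₀ h0, zpow_natCast, zpow_natCast, div_eq_one_iff_eq (pow_ne_zero _ h0)]
  obtain ⟨e₀, he₀⟩ := hmove g₀ M
  obtain ⟨c, hc2, hcM, hcd, hcn⟩ : ∃ c, 2 ≤ c ∧ c < M ∧ (l : ℤ) ^ c ∣ (e₀ : ℤ) - 1 ∧ ¬ (l : ℤ) ^ (c + 1) ∣ (e₀ : ℤ) - 1 := by
    have hM2 : 2 < M := by
      by_contra h
      apply hM
      obtain ⟨i, -, hi⟩ := (hz 2).eq_pow_of_pow_eq_one (hle (not_lt.1 h) _ (hz M).pow_eq_one)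
      rw [← hi, map_pow, hg₀]
    have h2 : (l : ℤ) ^ 2 ∣ (e₀ : ℤ) - 1 := by
      refine (hint 2 e₀ 1).2 ?_
      rw [pow_one, ← he₀ _ (hle hM2.le _ (hz 2).pow_eq_one), hg₀]
    have hnM : ¬ (l : ℤ) ^ M ∣ (e₀ : ℤ) - 1 := fun h => hM (by
      rw [he₀ _ (hz M).pow_eq_one, ((hint M e₀ 1).1 h), pow_one])
    classical
    have hex : ∃ j, ¬ (l : ℤ) ^ j ∣ (e₀ : ℤ) - 1 := ⟨M, hnM⟩
    have h0 : 2 < Nat.find hex := (Nat.lt_find_iff _ _).2 fun j hj => not_not.2 ((pow_dvd_pow _ hj).trans h2)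
    have h1 : Nat.find hex ≤ M := Nat.find_le hnM
    refine ⟨Nat.find hex - 1, by omega, by omega, not_not.1 (Nat.find_min hex (by omega)), ?_⟩
    rw [Nat.sub_add_cancel (by omega)]
    exact Nat.find_spec hex
  refine ⟨1 + l ^ c, ?_⟩
  -- compactness
  let t : ℕ → Set (Ω ≃ₐ[K] Ω) := fun m => {σ | ∀ ζ : Ω, ζ ^ (l ^ m) = 1 → σ ζ = ζ ^ (1 + l ^ c)}
  have hne : ∀ m, (t m).Nonempty := fun m => by
    let m' := max m M
    obtain ⟨e, he⟩ := hmove g₀ m'
    have hee : (l : ℤ) ^ M ∣ (e : ℤ) - e₀ := (hint M e e₀).2 (by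
      rw [← he _ (hle (le_max_right _ _) _ (hz M).pow_eq_one), he₀ _ (hz M).pow_eq_one])
    have hd : ∀ {j}, j ≤ M → ((l : ℤ) ^ j ∣ (e : ℤ) - 1 ↔ (l : ℤ) ^ j ∣ (e₀ : ℤ) - 1) := fun {j} hj => by
      have h := (pow_dvd_pow (l : ℤ) hj).trans hee
      rw [← dvd_add_right h (c := (e₀ : ℤ) - 1), show (e : ℤ) - e₀ + (e₀ - 1) = e - 1 by ring]
    obtain ⟨j, hj⟩ := exists_pow_modEq hc2 (e : ℤ) ((hd hcM.le).2 hcd) (fun h => hcn ((hd hcM).1 h)) m'
    refine ⟨g₀ ^ j, fun ζ hζ => ?_⟩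
    have hpow : ∀ (i : ℕ) (ξ : Ω), ξ ^ (l ^ m') = 1 → (g₀ ^ i) ξ = ξ ^ (e ^ i) := by
      intro i
      induction i with
      | zero => intro ξ _; simp
      | succ i ih => intro ξ hξ; rw [pow_succ', AlgEquiv.mul_apply, ih ξ hξ, map_pow, he ξ hξ, ← pow_mul, pow_succ']
    have hζ' := hle (le_max_left m M) ζ hζ
    rw [hpow j ζ hζ']
    haveI : NeZero (l ^ m') := ⟨pow_ne_zero _ hl.out.ne_zero⟩
    obtain ⟨i, -, rfl⟩ := (hz m').eq_pow_of_pow_eq_one hζ'
    rw [← pow_mul, ← pow_mul, mul_comm i, mul_comm i, pow_mul, pow_mul, (hint m' _ _).1 (by push_cast; exact hj)]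
  have hcl : ∀ m, IsClosed (t m) := fun m => by
    let F := IntermediateField.adjoin K {z m}
    haveI : FiniteDimensional K F := IntermediateField.adjoin.finiteDimensional (Algebra.IsSeparable.isIntegral K _)
    have hmem : ∀ ζ : Ω, ζ ^ (l ^ m) = 1 → ζ ∈ F := fun ζ hζ => by
      haveI : NeZero (l ^ m) := ⟨pow_ne_zero _ hl.out.ne_zero⟩
      obtain ⟨i, -, rfl⟩ := (hz m).eq_pow_of_pow_eq_one hζ
      exact pow_mem (IntermediateField.mem_adjoin_simple_self K _) i
    rw [← isOpen_compl_iff, isOpen_iff_mem_nhds]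
    intro σ hσ
    refine Filter.mem_of_superset ((F.fixingSubgroup_isOpen.leftCoset σ).mem_nhds ⟨1, one_mem _, mul_one σ⟩) ?_
    rintro _ ⟨τ, hτ, rfl⟩ h
    refine hσ fun ζ hζ => ?_
    have := h ζ hζ
    change (σ * τ) ζ = _ at this
    rwa [AlgEquiv.mul_apply, (IntermediateField.mem_fixingSubgroup_iff _ _).1 hτ ζ (hmem ζ hζ)] at this
  obtain ⟨g, hg⟩ := IsCompact.nonempty_iInter_of_sequence_nonempty_isCompact_isClosed t
    (fun m σ hσ ζ hζ => hσ ζ (hle (Nat.le_succ m) ζ hζ)) hne ((hcl 0).isCompact) hcl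
  refine ⟨g, ?_, fun m ζ hζ => Set.mem_iInter.1 hg m ζ hζ⟩
  have := Nat.one_le_pow c l hl.out.pos
  omega

end cyclo

/-- Let R be a henselian discrete valuation ring with fraction field K and residue field k, λ a prime
invertible in k, Ω a separable closure of K (Aut_K(Ω) carries the Krull topology), W a valuation
subring of Ω lying over R, and ρ a continuous homomorphism from Aut_K(Ω) to GL_n(ℚ_λ). Assume that
no finite extension of k contains all roots of unity of λ-power order (for every finite extension k'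
there is some λ^m such that k' has no primitive λ^m-th root of unity). Then there is an open
subgroup I₁ of Aut_K(Ω) such that ρ(σ) is unipotent for every σ in I₁ lying in the inertia group at
W. -/
theorem result (R K Ω : Type u) [CommRing R] [IsDomain R]
    [IsDiscreteValuationRing R] [HenselianLocalRing R] [Field K] [Algebra R K] [IsFractionRing R K]
    [Field Ω] [Algebra K Ω] [IsSepClosure K Ω] (W : ValuationSubring Ω) (hW : SGA7.LiesOver K R W)
    (lam : ℕ) [Fact lam.Prime] (hlam : (lam : IsLocalRing.ResidueField R) ≠ 0)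
    (hstar : ∀ (k' : Type u) [Field k'] [Algebra (IsLocalRing.ResidueField R) k'],
      FiniteDimensional (IsLocalRing.ResidueField R) k' → ∃ m : ℕ, ∀ ζ : k', ¬ IsPrimitiveRoot ζ (lam ^ m))
    (n : ℕ) (ρ : (Ω ≃ₐ[K] Ω) →* Matrix.GeneralLinearGroup (Fin n) (Padic lam)) (hρ : Continuous ρ) :
    ∃ I₁ : OpenSubgroup (Ω ≃ₐ[K] Ω), ∀ σ : Ω ≃ₐ[K] Ω, σ ∈ I₁ → SGA7.IsInertia W σ →
      IsNilpotent ((ρ σ : Matrix (Fin n) (Fin n) (Padic lam)) - 1) := by
  haveI := IsSepClosure.separable (k := K) (K := Ω)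
  haveI : IsGalois K Ω := { to_isSeparable := inferInstance, to_normal := inferInstance }
  haveI := IsSepClosure.sep_closed (k := K) (K := Ω)
  letI : Algebra R Ω := ((algebraMap K Ω).comp (algebraMap R K)).toAlgebra
  haveI : IsScalarTower R K Ω := IsScalarTower.of_algebraMap_eq fun _ => rfl
  haveI hl0 : NeZero (lam : Ω) := ⟨TameGal67.ne_zero_cast (K := K) hW hlam⟩
  obtain ⟨E, hE, hEn, hEsub⟩ := (krullTopology_mem_nhds_one_iff_of_normal K Ω _).1
    (hρ.continuousAt.preimage_mem_nhds (by rw [map_one]; exact gamma_mem_nhds n 2))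
  obtain ⟨q, g, hq, hg⟩ := exists_cyclotomic hW hlam hstar
  refine ⟨⟨E.fixingSubgroup, E.fixingSubgroup_isOpen⟩, fun τ hτ hin => ?_⟩
  haveI : Normal K E := hEn
  have hconj : ∀ σ ∈ E.fixingSubgroup, g * σ * g⁻¹ ∈ E.fixingSubgroup := fun σ hσ => by
    rw [IntermediateField.mem_fixingSubgroup_iff] at hσ ⊢
    intro x hx
    have hmem : g⁻¹ x ∈ E := (IntermediateField.normal_iff_forall_map_le'.1 hEn g⁻¹) ⟨x, hx, rfl⟩
    rw [AlgEquiv.mul_apply, AlgEquiv.mul_apply, hσ _ hmem]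
    exact g.apply_symm_apply x
  have hgam : ∀ σ ∈ E.fixingSubgroup, ρ σ ∈ gamma n 2 := fun σ hσ => hEsub hσ
  suffices hrel : ρ g * ρ τ * (ρ g)⁻¹ = (ρ τ) ^ q by
    obtain ⟨X, hX⟩ := (hgam τ hτ).1
    exact isNilpotent_sub_one (ρ τ) (ρ g) X hX q hq hrel
  obtain ⟨s, hs⟩ : ∃ s, s = g * τ * g⁻¹ * (τ ^ q)⁻¹ := ⟨_, rfl⟩
  have hsI : SGA7.IsInertia W s := hs ▸ isInertia_mul (isInertia_conj hW hin g) (isInertia_inv hW (isInertia_pow hin q))
  suffices hs1 : ρ s = 1 by
    rwa [hs, map_mul, map_inv, mul_inv_eq_one, map_mul, map_mul, map_inv, map_pow] at hs1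
  refine eq_one_of_forall_gamma fun a => ?_
  let H : Subgroup (Ω ≃ₐ[K] Ω) := (gamma n (2 + a)).comap ρ
  have hHo : IsOpen (H : Set (Ω ≃ₐ[K] Ω)) := H.isOpen_of_mem_nhds (g := 1)
    (hρ.continuousAt.preimage_mem_nhds (by rw [map_one]; exact gamma_mem_nhds n (2 + a)))
  let Hc : ClosedSubgroup (Ω ≃ₐ[K] Ω) := ⟨H, H.isClosed_of_isOpen hHo⟩
  show s ∈ H
  rw [show H = (IntermediateField.fixedField H).fixingSubgroup from (InfiniteGalois.fixingSubgroup_fixedField Hc).symm,
    IntermediateField.mem_fixingSubgroup_iff]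
  intro x hx
  have hfix : ∀ σ ∈ E.fixingSubgroup, (σ ^ (lam ^ a)) x = x := fun σ hσ => by
    refine (IntermediateField.mem_fixedField_iff H x).1 hx _ ?_
    show ρ (σ ^ (lam ^ a)) ∈ gamma n (2 + a)
    rw [map_pow]
    exact gamma_pow (hgam σ hσ) a
  have hsE : s ∈ E.fixingSubgroup := hs ▸ mul_mem (hconj τ hτ) (inv_mem (pow_mem hτ q))
  have hN0 : ((lam ^ a : ℕ) : IsLocalRing.ResidueField R) ≠ 0 := by rw [Nat.cast_pow]; exact pow_ne_zero _ hlam
  refine fixes_of_th_eq_one hW hsI (lam ^ a) hN0 x (hfix s hsE) fun hy0 => ?_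
  let y := s x - x
  have hyH : ∀ σ ∈ H, σ y = y := fun σ hσ => by
    have hσ' : s⁻¹ * σ * s ∈ H := by
      show ρ (s⁻¹ * σ * s) ∈ gamma n (2 + a)
      have := gamma_conj (N := 2 + a) (inv_mem (hgam s hsE)) (show ρ σ ∈ gamma n (2 + a) from hσ)
      rw [inv_inv] at this
      rwa [map_mul, map_mul, map_inv]
    show σ (s x - x) = s x - x
    rw [map_sub, (IntermediateField.mem_fixedField_iff H x).1 hx σ hσ]
    congr 1
    have := congrArg s ((IntermediateField.mem_fixedField_iff H x).1 hx _ hσ')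
    rw [AlgEquiv.mul_apply, AlgEquiv.mul_apply] at this
    rwa [show s (s⁻¹ (σ (s x))) = σ (s x) from s.apply_symm_apply _] at this
  have hτy : (τ ^ (lam ^ a)) y = y := hyH _ (by
    show ρ (τ ^ (lam ^ a)) ∈ gamma n (2 + a)
    rw [map_pow]
    exact gamma_pow (hgam τ hτ) a)
  let θ := th W y τ
  have hθ : θ ^ (lam ^ a) = 1 := by
    rw [← th_pow hW hin hy0]
    show res W ((τ ^ (lam ^ a)) y / y) = 1
    rw [hτy, div_self hy0, show (1 : Ω) = ((1 : W) : Ω) from rfl, res_coe, map_one]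
  -- lift the symbol to a root of unity
  obtain ⟨ζ, hζ1, hζW, hζres⟩ : ∃ ζ : Ω, ζ ^ (lam ^ a) = 1 ∧ ζ ∈ W ∧ res W ζ = θ := by
    haveI : NeZero ((lam ^ a : ℕ) : Ω) := ⟨by rw [Nat.cast_pow]; exact pow_ne_zero _ hl0.out⟩
    haveI : NeZero (lam ^ a) := ⟨pow_ne_zero _ (Fact.out : lam.Prime).ne_zero⟩
    obtain ⟨w, hw⟩ := HasEnoughRootsOfUnity.exists_primitiveRoot Ω (lam ^ a)
    have hwW : w ∈ W := SGA7Lib.InertiaExt.mem_of_isIntegral W hW
      ⟨Polynomial.X ^ (lam ^ a) - Polynomial.C 1, Polynomial.monic_X_pow_sub_C _ (NeZero.ne _), by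
        simp [hw.pow_eq_one]⟩
    have hprim : IsPrimitiveRoot (res W w) (lam ^ a) := by
      refine ⟨by rw [← res_pow hwW, hw.pow_eq_one, show (1 : Ω) = ((1 : W) : Ω) from rfl, res_coe, map_one], fun j hj => ?_⟩
      refine hw.dvd_of_pow_eq_one j (TameGal67.eq_one_of_pow (K := K) hW hN0
        (by rw [← pow_mul, mul_comm, pow_mul, hw.pow_eq_one, one_pow]) ?_)
      refine (res_eq_iff (pow_mem hwW j) (one_mem W)).1 ?_
      rw [res_pow hwW, hj, show (1 : Ω) = ((1 : W) : Ω) from rfl, res_coe, map_one]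
    obtain ⟨i, -, hi⟩ := hprim.eq_pow_of_pow_eq_one hθ
    exact ⟨w ^ i, by rw [← pow_mul, mul_comm, pow_mul, hw.pow_eq_one, one_pow], pow_mem hwW i, (res_pow hwW i).trans hi⟩
  let z := g⁻¹ y
  have hz0 : z ≠ 0 := (map_ne_zero g⁻¹).2 hy0
  have hzth : th W z τ = θ := by
    have hu := div_mem hW g⁻¹ hy0
    have hu0 : z / y ≠ 0 := div_ne_zero hz0 hy0
    have e : τ z / z * (z / y) = τ (z / y) * (τ y / y) := by
      rw [map_div₀, div_mul_div_cancel₀ hz0, div_mul_div_cancel₀ ((map_ne_zero τ).2 hy0)]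
    have := congrArg (res W) e
    rw [res_mul (div_mem hW τ hz0) hu, res_mul (stable hW τ hu) (div_mem hW τ hy0),
      (res_eq_iff (stable hW τ hu) hu).2 (hin _ hu).2, mul_comm (res W (z / y))] at this
    refine mul_right_cancel₀ ?_ this
    intro h0
    have hu' : y / z ∈ W := by
      have := div_mem hW g hz0
      rwa [show g z = y from g.apply_symm_apply y] at this
    have := res_mul hu hu'
    rw [h0, zero_mul, div_mul_div_cancel₀ hy0, div_self hz0, show (1 : Ω) = ((1 : W) : Ω) from rfl, res_coe, map_one] at this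
    exact one_ne_zero this
  have hC : th W y (g * τ * g⁻¹) = θ ^ q := by
    show res W ((g * τ * g⁻¹) y / y) = _
    rw [show (g * τ * g⁻¹) y / y = g (τ z / z) by
      rw [map_div₀, show g z = y from g.apply_symm_apply y]; rfl,
      res_galois hW g (div_mem hW τ hz0) hζW (hzth.trans hζres.symm), hg a ζ hζ1, res_pow hζW, hζres]
  have := th_mul hW hsI (τ ^ q) hy0
  rw [show s * τ ^ q = g * τ * g⁻¹ by rw [hs, inv_mul_cancel_right], hC, th_pow hW hin hy0] at this
  have hθ0 : θ ^ q ≠ 0 := pow_ne_zero _ fun h0 => by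
    rw [h0, zero_pow (pow_ne_zero _ (Fact.out : lam.Prime).ne_zero)] at hθ
    exact zero_ne_one hθ
  exact (mul_eq_left₀ hθ0).1 this.symm

end Groth.Agent.S4062
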