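import Groth.Statements.S4064
import Groth.Agent.BlendExt.Realize

set_option autoImplicit false
universe w v v'
open CategoryTheory CategoryTheory.Abelian
open SGA7
open CategoryTheory.Limits

namespace Groth.Agent.S4064

/-- Let P -> F -> R and R -> E -> Q be short exact sequences in an abelian category (F an extension of R
by P, E an extension of Q by R). A blended extension of E by F is an object X with a monomorphism i
: F -> X and an epimorphism p : X -> E such that P -> X -> E (via i) and F -> X -> Q (via p) are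
short exact and F -> X -> E is the composite F -> R -> E. Such an X exists if and only if the
composite of the two extension classes, an element of Ext^2(Q, P), is zero. -/
theorem result {C : Type w} [Category.{v} C] [Abelian C]
    [HasExt.{v'} C] {P F R E Q : C} (a : P ⟶ F) (b : F ⟶ R) (wF : a ≫ b = 0)
    (hF : (ShortComplex.mk a b wF).ShortExact) (c : R ⟶ E) (d : E ⟶ Q) (wE : c ≫ d = 0)
    (hE : (ShortComplex.mk c d wE).ShortExact) :
    (∃ (X : C) (i : F ⟶ X) (p : X ⟶ E), i ≫ p = b ≫ c ∧
        (∃ w : (a ≫ i) ≫ p = 0, (ShortComplex.mk (a ≫ i) p w).ShortExact) ∧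
        (∃ w : i ≫ (p ≫ d) = 0, (ShortComplex.mk i (p ≫ d) w).ShortExact)) ↔
      hE.extClass.comp hF.extClass (rfl : 1 + 1 = 2) = 0 := by
  constructor
  · rintro ⟨X, i, p, hip, ⟨w1, h1⟩, -⟩
    let φ : ShortComplex.mk a b wF ⟶ ShortComplex.mk (a ≫ i) p w1 :=
      { τ₁ := 𝟙 P, τ₂ := i, τ₃ := c, comm₁₂ := by simp, comm₂₃ := hip }
    have hn := ShortComplex.ShortExact.extClass_naturality hF h1 φ
    have e : hF.extClass = (Ext.mk₀ c).comp h1.extClass (zero_add 1) := by
      rw [← hn]
      exact (Ext.comp_mk₀_id _).symm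
    rw [e]
    exact hE.extClass_comp_assoc h1.extClass
  · intro h
    obtain ⟨ξ, hξ⟩ := Ext.contravariant_sequence_exact₁ hE P hF.extClass (rfl : 1 + 1 = 2) h
    obtain ⟨X, p₀, q, w, i, hX, hi, hiq⟩ := Groth.Agent.BlendExt.exists_over hF c ξ hξ
    have hi' : a ≫ i = p₀ := hi
    have hiq' : i ≫ q = b ≫ c := hiq
    subst hi'
    refine ⟨X, i, q, hiq', ⟨w, hX⟩, ⟨by rw [← Category.assoc, hiq', Category.assoc, wE, comp_zero], ?_⟩⟩
    haveI : Mono (a ≫ i) := hX.mono_f
    haveI : Epi q := hX.epi_g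
    haveI : Epi d := hE.epi_g
    haveI : Mono c := hE.mono_f
    haveI : Epi b := hF.epi_g
    refine ShortComplex.ShortExact.mk' ?_ ?_ (inferInstanceAs (Epi (q ≫ d)))
    · rw [ShortComplex.exact_iff_exact_up_to_refinements]
      intro T t ht
      change t ≫ q ≫ d = 0 at ht
      obtain ⟨T₁, π₁, hπ₁, r, hr⟩ :=
        (ShortComplex.exact_iff_exact_up_to_refinements _).1 hE.exact (t ≫ q) (by
          show (t ≫ q) ≫ d = 0
          rw [Category.assoc, ht])
      change π₁ ≫ t ≫ q = r ≫ c at hr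
      obtain ⟨T₂, π₂, hπ₂, f, hf⟩ := surjective_up_to_refinements_of_epi b r
      obtain ⟨T₃, π₃, hπ₃, s, hs⟩ := (ShortComplex.exact_iff_exact_up_to_refinements _).1 hX.exact
        (π₂ ≫ π₁ ≫ t - f ≫ i) (by
          show (π₂ ≫ π₁ ≫ t - f ≫ i) ≫ q = 0
          rw [Preadditive.sub_comp, sub_eq_zero]
          simp only [Category.assoc]
          rw [hr, hiq', ← Category.assoc f b, ← hf, Category.assoc])
      change π₃ ≫ (π₂ ≫ π₁ ≫ t - f ≫ i) = s ≫ a ≫ i at hs
      refine ⟨T₃, π₃ ≫ π₂ ≫ π₁, inferInstance, π₃ ≫ f + s ≫ a, ?_⟩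
      show (π₃ ≫ π₂ ≫ π₁) ≫ t = (π₃ ≫ f + s ≫ a) ≫ i
      rw [Preadditive.add_comp, Category.assoc s, ← hs, Preadditive.comp_sub]
      simp only [Category.assoc, add_sub_cancel]
    · refine Preadditive.mono_of_cancel_zero _ fun {T} t ht => ?_
      change t ≫ i = 0 at ht
      have htb : t ≫ b = 0 := by
        rw [← cancel_mono c, Category.assoc, zero_comp]
        exact (congrArg (t ≫ ·) hiq').symm.trans (by rw [← Category.assoc, ht, zero_comp])
      haveI : Mono (ShortComplex.mk a b wF).f := hF.mono_f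
      have e := hF.exact.lift_f t htb
      change hF.exact.lift t htb ≫ a = t at e
      have h0 : hF.exact.lift t htb = 0 := by
        rw [← cancel_mono (a ≫ i), ← Category.assoc, e, ht, zero_comp]
      rw [← e, h0, zero_comp]

end Groth.Agent.S4064
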