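import Groth.Statements.S4065
-- import your own Groth.Agent.* helpers here

set_option autoImplicit false
universe w v
open CategoryTheory
open SGA7

namespace Groth.Agent.S4065

/-- Let P -> F -> R and R -> E -> Q be short exact sequences in an abelian category and X a blended
extension of E by F: i : F -> X and p : X -> E with i, p composing to F -> R -> E and with P -> X ->
E and F -> X -> Q short exact. Then u ↦ 1_X + (X -> E -> Q -> P -> F -> X) is a bijection from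
Hom(Q, P) onto the set of endomorphisms φ of X with i φ = i and φ p = p (the automorphisms of the
blended extension; every such φ is invertible), and it turns addition into composition (a group
isomorphism Hom(Q, P) ≅ Aut(X)). -/
theorem result {C : Type w} [Category.{v} C] [Abelian C]
    {P F R E Q X : C} (a : P ⟶ F) (b : F ⟶ R) (wF : a ≫ b = 0)
    (hF : (ShortComplex.mk a b wF).ShortExact) (c : R ⟶ E) (d : E ⟶ Q) (wE : c ≫ d = 0)
    (hE : (ShortComplex.mk c d wE).ShortExact) (i : F ⟶ X) (p : X ⟶ E) (hip : i ≫ p = b ≫ c)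
    (w₁ : (a ≫ i) ≫ p = 0) (h₁ : (ShortComplex.mk (a ≫ i) p w₁).ShortExact)
    (w₂ : i ≫ (p ≫ d) = 0) (h₂ : (ShortComplex.mk i (p ≫ d) w₂).ShortExact) :
    Set.BijOn (fun v : Q ⟶ P => 𝟙 X + p ≫ d ≫ v ≫ a ≫ i) Set.univ
      {φ : X ⟶ X | i ≫ φ = i ∧ φ ≫ p = p} ∧
      ∀ v v' : Q ⟶ P, 𝟙 X + p ≫ d ≫ (v + v') ≫ a ≫ i =
        (𝟙 X + p ≫ d ≫ v ≫ a ≫ i) ≫ (𝟙 X + p ≫ d ≫ v' ≫ a ≫ i) := by
  have hb : Epi b := hF.epi_g
  have hd : Epi d := hE.epi_g
  have hpd : Epi (p ≫ d) := h₂.epi_g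
  have hai : Mono (a ≫ i) := h₁.mono_f
  have hi : Mono i := h₂.mono_f
  have hp : Epi p := h₁.epi_g
  have e1 : i ≫ p ≫ d = 0 := w₂
  have e2 : a ≫ i ≫ p = 0 := by rw [← Category.assoc]; exact w₁
  refine ⟨⟨fun v _ => ⟨?_, ?_⟩, ?_, ?_⟩, fun v v' => ?_⟩
  · simp [reassoc_of% e1]
  · simp [e2]
  · intro v _ v' _ h
    have h' := add_left_cancel h
    simp only [← Category.assoc] at h'
    rw [Category.assoc _ a i, Category.assoc _ a i] at h'
    exact (cancel_epi (p ≫ d)).1 ((cancel_mono (a ≫ i)).1 h')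
  · rintro φ ⟨h1, h2⟩
    obtain ⟨l, hl⟩ : ∃ l : X ⟶ P, l ≫ a ≫ i = φ - 𝟙 X :=
      h₁.exact.lift' (φ - 𝟙 X) (by simp [h2])
    have hil : i ≫ l = 0 := by
      rw [← cancel_mono (a ≫ i)]
      simp [hl, h1]
    obtain ⟨v, hv⟩ : ∃ v : Q ⟶ P, (p ≫ d) ≫ v = l :=
      h₂.exact.desc' l hil
    refine ⟨v, trivial, ?_⟩
    show 𝟙 X + p ≫ d ≫ v ≫ a ≫ i = φ
    rw [← add_sub_cancel (𝟙 X) φ, ← hl, ← hv]
    simp
  · simp only [Preadditive.add_comp, Preadditive.comp_add, Category.id_comp, Category.comp_id,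
      Category.assoc]
    simp [reassoc_of% e1, add_assoc]

end Groth.Agent.S4065
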