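import Groth.Statements.S4070
import Groth.Agent.NeronMap.Sections
import Mathlib.Topology.NoetherianSpace
import Mathlib.AlgebraicGeometry.Noetherian
import Mathlib.Topology.Connected.Basic

set_option autoImplicit false
universe u
open CategoryTheory CategoryTheory.Limits AlgebraicGeometry MonObj
open MonoidalCategory
open SGA7

namespace Groth.Agent.S4070

section Top

variable {α : Type*} [TopologicalSpace α] [TopologicalSpace.NoetherianSpace α] (P : Set α)

theorem irreducibleComponent_mem (p : P) : irreducibleComponent p ∈ irreducibleComponents P :=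
  irreducibleComponent_mem_irreducibleComponents p

theorem finite_range_connectedComponent : (Set.range (connectedComponent : P → Set P)).Finite := by
  haveI : TopologicalSpace.NoetherianSpace P := TopologicalSpace.NoetherianSpace.set P
  have hfin := TopologicalSpace.NoetherianSpace.finite_irreducibleComponents (α := P)
  refine (hfin.image fun Z => ⋃ q ∈ Z, connectedComponent q).subset ?_
  rintro _ ⟨p, rfl⟩
  refine ⟨irreducibleComponent p, irreducibleComponent_mem P p, ?_⟩
  apply le_antisymm
  · refine Set.iUnion₂_subset fun q hq => le_of_eq ?_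
    exact connectedComponent_eq
      (isIrreducible_irreducibleComponent.isConnected.isPreconnected.subset_connectedComponent
        hq mem_irreducibleComponent)
  · exact Set.subset_iUnion₂ (s := fun q _ => connectedComponent q) p mem_irreducibleComponent

theorem finite_connectedComponentIn : (Set.range fun p : P => connectedComponentIn P p).Finite := by
  refine ((finite_range_connectedComponent P).image (Subtype.val '' ·)).subset ?_
  rintro _ ⟨p, rfl⟩
  exact ⟨_, ⟨p, rfl⟩, (connectedComponentIn_eq_image p.2).symm⟩

theorem exists_open {z : α} (hz : z ∈ P) :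
    ∃ V : Set α, IsOpen V ∧ z ∈ V ∧ V ∩ P ⊆ connectedComponentIn P z := by
  have ho : IsOpen (connectedComponent (⟨z, hz⟩ : P)) := by
    have h : (connectedComponent (⟨z, hz⟩ : P))ᶜ =
        ⋃ C ∈ Set.range (connectedComponent : P → Set P) \ {connectedComponent ⟨z, hz⟩}, C := by
      ext q
      simp only [Set.mem_compl_iff, Set.mem_iUnion, exists_prop]
      constructor
      · intro hq
        exact ⟨connectedComponent q, ⟨⟨q, rfl⟩, fun he =>
          hq ((Set.mem_singleton_iff.1 he) ▸ mem_connectedComponent)⟩, mem_connectedComponent⟩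
      · rintro ⟨_, ⟨⟨w, rfl⟩, hne⟩, hqw⟩ hq
        exact hne (Set.mem_singleton_iff.2 ((connectedComponent_eq hqw).trans (connectedComponent_eq hq).symm))
    rw [← isClosed_compl_iff, h]
    refine Set.Finite.isClosed_biUnion ((finite_range_connectedComponent P).sdiff) ?_
    rintro _ ⟨⟨w, rfl⟩, -⟩
    exact isClosed_connectedComponent
  obtain ⟨V, hV, hVP⟩ := isOpen_induced_iff.1 ho
  refine ⟨V, hV, (hVP.symm ▸ mem_connectedComponent : (⟨z, hz⟩ : P) ∈ Subtype.val ⁻¹' V), ?_⟩
  rintro q ⟨hqV, hqP⟩
  rw [connectedComponentIn_eq_image hz, ← hVP]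
  exact ⟨⟨q, hqP⟩, hqV, rfl⟩

end Top

variable {R : Type u} [CommRing R] [IsLocalRing R] (N : Over (Spec (CommRingCat.of R))) [GrpObj N]

noncomputable abbrev transl (a : 𝟙_ (Over (Spec (CommRingCat.of R))) ⟶ N) : N ⟶ N :=
  𝟙 N * (CartesianMonoidalCategory.toUnit N ≫ a)

theorem comp_transl {T : Over (Spec (CommRingCat.of R))} (x : T ⟶ N)
    (a : 𝟙_ (Over (Spec (CommRingCat.of R))) ⟶ N) :
    x ≫ transl N a = x * (CartesianMonoidalCategory.toUnit T ≫ a) := by
  rw [transl, MonObj.comp_mul, Category.comp_id, ← Category.assoc]
  congr 1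
  congr 1
  exact CartesianMonoidalCategory.toUnit_unique _ _

theorem comp_transl' (x a : 𝟙_ (Over (Spec (CommRingCat.of R))) ⟶ N) : x ≫ transl N a = x * a := by
  rw [comp_transl]
  congr 1

theorem transl_transl (a b : 𝟙_ (Over (Spec (CommRingCat.of R))) ⟶ N) :
    transl N a ≫ transl N b = transl N (a * b) := by
  rw [comp_transl, transl, transl, _root_.mul_assoc, MonObj.comp_mul]

theorem transl_one : transl N 1 = 𝟙 N := by
  rw [transl, MonObj.comp_one, _root_.mul_one]

/-- translation as an isomorphism -/
noncomputable def translIso (a : 𝟙_ (Over (Spec (CommRingCat.of R))) ⟶ N) : N ≅ N where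
  hom := transl N a
  inv := transl N a⁻¹
  hom_inv_id := by rw [transl_transl, mul_inv_cancel, transl_one]
  inv_hom_id := by rw [transl_transl, inv_mul_cancel, transl_one]

theorem secComp_mul (x a : 𝟙_ (Over (Spec (CommRingCat.of R))) ⟶ N) :
    SGA7.secComp R N (x * a) = (transl N a).left.base '' SGA7.secComp R N x := by
  let e : N.left ≃ₜ N.left := Scheme.homeoOfIso ((Over.forget _).mapIso (translIso N a))
  have he : ∀ q, e q = (transl N a).left.base q := fun q => rfl
  have hP : e '' SGA7.specialFibreSet R N = SGA7.specialFibreSet R N := by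
    rw [Homeomorph.image_eq_preimage_symm]
    ext q
    have : N.hom.base (e.symm q) = N.hom.base q :=
      congrArg (fun g : N.left ⟶ Spec (CommRingCat.of R) => g.base q) (Over.w (translIso N a).inv)
    simp only [SGA7.specialFibreSet, Set.mem_preimage, Set.mem_singleton_iff]
    exact Eq.congr this rfl
  have hxP : x.left.base (IsLocalRing.closedPoint R) ∈ SGA7.specialFibreSet R N :=
    congrArg (fun g : Spec (CommRingCat.of R) ⟶ Spec (CommRingCat.of R) => g.base (IsLocalRing.closedPoint R)) (Over.w x)
  have h := Homeomorph.image_connectedComponentIn e hxP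
  rw [hP, he] at h
  rw [SGA7.secComp, SGA7.secComp, ← comp_transl']
  exact h.symm

/-- Let R be a strictly henselian discrete valuation ring (henselian, separably closed residue field)
with fraction field K and N a group scheme over Spec R which is a Néron model of its generic fibre,
an abelian variety A over K, so that sections of N over Spec R are the K-points of A. Then the
special fibre of N has finitely many connected components, every one of them is met by a section,
and two sections x, y meet the same connected component if and only if x · y⁻¹ meets the connected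
component of the unit section: the component group of the special fibre is A(K) modulo the subgroup
of points reducing into the identity component. -/
theorem result (R K : Type u) [CommRing R] [IsDomain R] [IsDiscreteValuationRing R] [HenselianLocalRing R]
    [IsSepClosed (IsLocalRing.ResidueField R)] [Field K] [Algebra R K] [IsFractionRing R K]
    (N : Over (Spec (CommRingCat.of R))) [GrpObj N] (hN : SGA7.IsNeron R K N)
    [IsProper ((SGA7.genFib R K).obj N).hom] [GeometricallyIntegral ((SGA7.genFib R K).obj N).hom] :
    (Set.range (SGA7.secComp R N)).Finite ∧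
    (∀ z ∈ SGA7.specialFibreSet R N, ∃ x : 𝟙_ (Over (Spec (CommRingCat.of R))) ⟶ N, z ∈ SGA7.secComp R N x) ∧
      ∀ x y : 𝟙_ (Over (Spec (CommRingCat.of R))) ⟶ N,
        SGA7.secComp R N x = SGA7.secComp R N y ↔ x * y⁻¹ ∈ SGA7.secUnitComp R N := by
  obtain ⟨_, _, _, _⟩ := hN
  haveI : IsNoetherian N.left := by
    haveI : IsLocallyNoetherian N.left := LocallyOfFiniteType.isLocallyNoetherian N.hom
    haveI : CompactSpace N.left := QuasiCompact.compactSpace_of_compactSpace N.hom
    exact {}
  have hmemP : ∀ x : 𝟙_ (Over (Spec (CommRingCat.of R))) ⟶ N,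
      x.left.base (IsLocalRing.closedPoint R) ∈ SGA7.specialFibreSet R N := fun x =>
    congrArg (fun g : Spec (CommRingCat.of R) ⟶ Spec (CommRingCat.of R) => g.base (IsLocalRing.closedPoint R)) (Over.w x)
  refine ⟨?_, ?_, ?_⟩
  · refine (finite_connectedComponentIn (SGA7.specialFibreSet R N)).subset ?_
    rintro _ ⟨x, rfl⟩
    exact ⟨⟨_, hmemP x⟩, rfl⟩
  · intro z hz
    obtain ⟨V, hV, hzV, hVP⟩ := exists_open (SGA7.specialFibreSet R N) hz
    obtain ⟨x, hx, hxV⟩ := NeronMap.Sections.exists_section_mem N.hom ⟨V, hV⟩ hzV hz
    refine ⟨Over.homMk x hx, ?_⟩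
    have hmem := hVP ⟨hxV, hmemP (Over.homMk x hx)⟩
    change z ∈ connectedComponentIn _ (x.base (IsLocalRing.closedPoint R))
    rw [← connectedComponentIn_eq hmem]
    exact mem_connectedComponentIn hz
  · intro x y
    have h1 : (1 : 𝟙_ (Over (Spec (CommRingCat.of R))) ⟶ N) = η[N] := by
      rw [Hom.one_def, CartesianMonoidalCategory.toUnit_unique (CartesianMonoidalCategory.toUnit _) (𝟙 _),
        Category.id_comp]
    have key : ∀ w : 𝟙_ (Over (Spec (CommRingCat.of R))) ⟶ N,
        w ∈ SGA7.secUnitComp R N ↔ SGA7.secComp R N w = SGA7.secComp R N 1 := fun w => by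
      rw [h1]
      exact ⟨fun h => (connectedComponentIn_eq h).symm, fun h =>
        (Set.ext_iff.1 h _).1 (mem_connectedComponentIn (hmemP w))⟩
    rw [key]
    constructor
    · intro h
      rw [secComp_mul, h, ← secComp_mul, _root_.mul_inv_cancel]
    · intro h
      rw [← inv_mul_cancel_right x y, secComp_mul, h, ← secComp_mul, _root_.one_mul]

end Groth.Agent.S4070
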