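import Groth.Statements.S5114
import Groth.Agent.Hensel.QFinite
import Groth.Agent.SGA1Quot.Sigma
import Mathlib.RingTheory.ZariskisMainTheorem
-- import your own Groth.Agent.* helpers here

set_option autoImplicit false
set_option linter.style.haveILetI false
universe u
open SGA1

namespace Groth.Agent.S5114

open AlgebraicGeometry CategoryTheory CategoryTheory.Limits Topology

/-- A point of the (finite) closed fibre of a finite type algebra is split off by an idempotent with
finite factor. -/
theorem exists_idempotent (A : Type u) [CommRing A] [HenselianLocalRing A] (B : Type u) [CommRing B]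
    [Algebra A B] [Algebra.FiniteType A B] (q : PrimeSpectrum B)
    (hq : q.comap (algebraMap A B) = IsLocalRing.closedPoint A)
    (hfin : (PrimeSpectrum.comap (algebraMap A B) ⁻¹' {IsLocalRing.closedPoint A}).Finite) :
    ∃ e : B, IsIdempotentElem e ∧ e ∉ q.asIdeal ∧ Module.Finite A (B ⧸ Ideal.span {1 - e}) := by
  haveI : Algebra.QuasiFiniteAt A q.asIdeal := by
    rw [Algebra.quasiFiniteAt_iff_isOpen_singleton_fiber]
    haveI : Finite ↥(PrimeSpectrum.comap (algebraMap A B) ⁻¹' {q.comap (algebraMap A B)}) := by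
      rw [hq]; exact hfin.to_subtype
    let e := PrimeSpectrum.preimageHomeomorphFiber A B (q.comap (algebraMap A B))
    haveI : Finite (PrimeSpectrum ((q.comap (algebraMap A B)).asIdeal.Fiber B)) :=
      Finite.of_equiv _ e.toEquiv
    haveI : IsJacobsonRing ((q.comap (algebraMap A B)).asIdeal.Fiber B) :=
      isJacobsonRing_of_finiteType (A := (q.comap (algebraMap A B)).asIdeal.ResidueField)
    haveI := e.symm.discreteTopology
    exact isOpen_discrete _
  haveI : q.asIdeal.LiesOver (IsLocalRing.maximalIdeal A) :=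
    ⟨(congrArg PrimeSpectrum.asIdeal hq).symm⟩
  obtain ⟨e, he, heq, hfe, -⟩ := Hensel.exists_idempotent_of_quasiFiniteAt (R := A) q.asIdeal
  exact ⟨e, he, heq, hfe⟩

/-- Around a point of the finite closed fibre there is an open, finite over the base. -/
theorem exists_finite_nbhd (A : Type u) [CommRing A] [HenselianLocalRing A] {S' : Scheme.{u}}
    (g : S' ⟶ Spec (CommRingCat.of A)) [LocallyOfFiniteType g]
    (hfin : (g.base ⁻¹' {IsLocalRing.closedPoint A}).Finite) (s : S')
    (hs : g.base s = IsLocalRing.closedPoint A) :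
    ∃ (T : Scheme.{u}) (h : T ⟶ S'), IsOpenImmersion h ∧ IsFinite (h ≫ g) ∧ s ∈ Set.range h := by
  obtain ⟨U, hU, hsU, -⟩ := exists_isAffineOpen_mem_and_subset (show s ∈ (⊤ : S'.Opens) from trivial)
  obtain ⟨φ, hφ⟩ := Spec.map_surjective (hU.fromSpec ≫ g)
  have hft : φ.hom.FiniteType := by
    rw [← HasRingHomProperty.Spec_iff (P := @LocallyOfFiniteType), hφ]
    infer_instance
  algebraize [φ.hom]
  obtain ⟨q, hqs⟩ : s ∈ Set.range hU.fromSpec := by rw [hU.range_fromSpec]; exact hsU
  have hcomp : ∀ z : PrimeSpectrum Γ(S', U), z.comap (algebraMap A Γ(S', U)) = g (hU.fromSpec z) :=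
    fun z => (congrArg (fun m => m z) hφ : _)
  have hfin' : (PrimeSpectrum.comap (algebraMap A Γ(S', U)) ⁻¹' {IsLocalRing.closedPoint A}).Finite :=
    (hfin.preimage hU.fromSpec.isOpenEmbedding.injective.injOn).subset fun z hz =>
      (hcomp z).symm.trans hz
  obtain ⟨e, he, heq, hfe⟩ := exists_idempotent A Γ(S', U) q
    ((hcomp q).trans (by rw [hqs]; exact hs)) hfin'
  haveI := IsLocalization.away_of_isIdempotentElem he (Ideal.mk_ker (I := Ideal.span {1 - e}))
    Ideal.Quotient.mk_surjective
  let ψ : Γ(S', U) ⟶ CommRingCat.of (Γ(S', U) ⧸ Ideal.span {1 - e}) :=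
    CommRingCat.ofHom (algebraMap Γ(S', U) (Γ(S', U) ⧸ Ideal.span {1 - e}))
  haveI : IsOpenImmersion (Spec.map ψ) :=
    IsOpenImmersion.of_isLocalization (R := Γ(S', U)) (S := Γ(S', U) ⧸ Ideal.span {1 - e}) e
  refine ⟨_, Spec.map ψ ≫ hU.fromSpec, inferInstance, ?_, ?_⟩
  · rw [Category.assoc, ← hφ, ← Spec.map_comp, IsFinite.SpecMap_iff]
    exact RingHom.finite_algebraMap.2 hfe
  · obtain ⟨z, hz⟩ := (PrimeSpectrum.localization_away_comap_range
      (Γ(S', U) ⧸ Ideal.span {1 - e}) e).ge (show q ∈ PrimeSpectrum.basicOpen e from heq)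
    exact ⟨z, by rw [Scheme.Hom.comp_apply, ← hqs, ← hz]; rfl⟩

/-- Let A be a complete Noetherian local ring, S = Spec A, and g : S' ⟶ S a surjective morphism of
finite type whose fibre over the closed point s is finite. If every point of S' specialises to some
point of the fibre over s (equivalently: the disjoint union of the spectra of the local rings of S'
at the points over s maps onto S'), then g is universally submersive. (The published statement
asserts an equivalence and does not mention surjectivity of g; the converse fails: for A a complete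
discrete valuation ring with fraction field K, S' = S ⊔ Spec K ⟶ S has a section, hence is
universally submersive, while the isolated point Spec K specialises to no point over s. This row
states the implication the published proof establishes, with the surjectivity it uses.) -/
theorem result (A : Type u) [CommRing A]
    [IsNoetherianRing A] [IsLocalRing A] [IsAdicComplete (IsLocalRing.maximalIdeal A) A]
    {S' : Scheme.{u}} (g : S' ⟶ Spec (CommRingCat.of A)) [LocallyOfFiniteType g] [QuasiCompact g]
    [Surjective g]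
    (hfin : (g.base ⁻¹' {IsLocalRing.closedPoint A}).Finite)
    (hsp : ∀ t : S', ∃ s' : S', g.base s' = IsLocalRing.closedPoint A ∧ t ⤳ s') :
    SGA1.UnivSubmersive g := by
  haveI : HenselianLocalRing A := .mk fun f hf a₀ h₁ h₂ => by
    refine HenselianRing.is_henselian (I := IsLocalRing.maximalIdeal A) f hf a₀ h₁ ?_
    exact h₂.map _
  haveI : Finite ↥(g.base ⁻¹' {IsLocalRing.closedPoint A}) := hfin.to_subtype
  choose T h hoi hf hmem using fun s : ↥(g.base ⁻¹' {IsLocalRing.closedPoint A}) =>
    exists_finite_nbhd A g hfin s.1 s.2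
  let H : (∐ T) ⟶ S' := Sigma.desc h
  haveI : ∀ s, IsFinite (h s ≫ g) := hf
  haveI : IsFinite (H ≫ g) := by
    rw [show H ≫ g = Sigma.desc fun s => h s ≫ g from Sigma.hom_ext _ _ fun s => by simp [H]]
    exact Groth.Agent.SGA1Quot.isFinite_sigmaDesc ↥(g.base ⁻¹' {IsLocalRing.closedPoint A}) T (fun s => h s ≫ g) hf
  haveI : Surjective H := ⟨fun t => by
    obtain ⟨s, hs, hts⟩ := hsp t
    haveI := hoi ⟨s, hs⟩
    obtain ⟨z, hz⟩ := hts.mem_open (h ⟨s, hs⟩).isOpenEmbedding.isOpen_range (hmem ⟨s, hs⟩)
    exact ⟨Sigma.ι T ⟨s, hs⟩ z, by rw [← Scheme.Hom.comp_apply, Sigma.ι_desc]; exact hz⟩⟩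
  intro X Y i₁ i₂ g' sq
  have hq := Groth.Agent.SGA1Quot.univSubmersive_of_isFinite_of_surjective (H ≫ g) _ _ _
    ((IsPullback.of_hasPullback i₁ H).flip.paste_vert sq.flip).flip
  exact Topology.IsQuotientMap.of_comp (Scheme.Hom.continuous (pullback.fst i₁ H)) g'.continuous
    (by rw [← TopCat.coe_comp, ← Scheme.Hom.comp_base]; exact hq)

end Groth.Agent.S5114
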