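import Groth.Statements.S4075
import Groth.Agent.SGA7Lib.TorsionEtale
import Groth.Agent.SGA7Lib.InertiaExt
import Groth.Agent.S5114
import Groth.Agent.S7139
import Groth.Agent.NeronMap.Sections
import Mathlib.AlgebraicGeometry.Group.Abelian
import Mathlib.RingTheory.Unramified.LocalStructure
import Mathlib.AlgebraicGeometry.Morphisms.QuasiFinite

set_option autoImplicit false
set_option linter.style.haveILetI false
universe u
open CategoryTheory CategoryTheory.Limits AlgebraicGeometry MonObj
open SGA7
open scoped TensorProduct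

namespace Groth.Agent.S4075

open MonoidalCategory CartesianMonoidalCategory in
theorem isCommMonObj_neron {R K : Type u} [CommRing R] [IsDomain R] [IsDiscreteValuationRing R] [Field K]
    [Algebra R K] [IsFractionRing R K]
    (N : Over (Spec (CommRingCat.of R))) [GrpObj N] (hN : SGA7.IsNeron R K N)
    [IsProper ((SGA7.genFib R K).obj N).hom] [GeometricallyIntegral ((SGA7.genFib R K).obj N).hom] :
    IsCommMonObj N := by
  obtain ⟨hsm, -, -, hb⟩ := hN
  letI : GrpObj ((SGA7.genFib R K).obj N) := Functor.grpObjObj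
  haveI : IsCommMonObj ((SGA7.genFib R K).obj N) := isCommMonObj_of_isProper_of_geometricallyIntegral _
  have hY : Smooth (N ⊗ N).hom := by
    haveI := hsm
    exact inferInstanceAs (Smooth (pullback.fst N.hom N.hom ≫ N.hom))
  have hcomm : (snd N N * fst N N : N ⊗ N ⟶ N) = fst N N * snd N N := by
    refine (hb _ hY).1 ?_
    have hm := map_mul (Functor.homMonoidHom (X := N ⊗ N) (M := N) (SGA7.genFib R K))
    exact (hm _ _).trans ((mul_comm _ _).trans (hm _ _).symm)
  refine ⟨?_⟩
  have hβ : (β_ N N).hom = lift (snd N N) (fst N N) := by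
    apply CartesianMonoidalCategory.hom_ext <;> simp
  rw [hβ, ← Hom.mul_def, hcomm, Hom.mul_def]
  simp

theorem locallyQuasiFinite_of_etale {X Y : Scheme.{u}} (g : X ⟶ Y) [Etale g] : LocallyQuasiFinite g := by
  rw [HasRingHomProperty.iff_appLE (P := @LocallyQuasiFinite)]
  intro V U e
  have h : (g.appLE V.1 U.1 e).hom.Etale := HasRingHomProperty.appLE @Etale g ‹_› V U e
  algebraize [(g.appLE V.1 U.1 e).hom]
  exact (inferInstance : Algebra.QuasiFinite Γ(Y, V) Γ(X, U))

open MonoidalCategory CartesianMonoidalCategory in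
/-- a torsion point specialising to the closed fibre is fixed by inertia -/
theorem galAct_eq_of_specializes {R K Ω : Type u} [CommRing R] [IsDomain R] [IsDiscreteValuationRing R]
    [HenselianLocalRing R] [Field K] [Algebra R K] [IsFractionRing R K] [Field Ω] [Algebra K Ω]
    (W : ValuationSubring Ω) (hW : SGA7.LiesOver K R W)
    (N : Over (Spec (CommRingCat.of R))) [GrpObj N] [IsCommMonObj N] [Smooth N.hom] [IsSeparated N.hom]
    [QuasiCompact N.hom] (m : ℕ) (hm : (m : IsLocalRing.ResidueField R) ≠ 0)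
    (x : SGA7.Pts Ω ((SGA7.genFib R K).obj N)) (hx : x ^ m = 1) (z : N.left)
    (hz : z ∈ SGA7.specialFibreSet R N)
    (hsp : (x.left ≫ pullback.fst N.hom (Spec.map (CommRingCat.ofHom (algebraMap R K)))).base
          (IsLocalRing.closedPoint Ω) ⤳ z)
    (σ : Ω ≃ₐ[K] Ω) (hσ : SGA7.IsInertia W σ) : SGA7.galAct σ x = x := by
  let t := Spec.map (CommRingCat.ofHom (algebraMap R K))
  let F := Over.pullback t
  let P : Over (Spec (CommRingCat.of K)) := SGA7.pt Ω
  let E := (Over.mapPullbackAdj t).homEquiv P N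
  letI : Algebra R Ω := ((algebraMap K Ω).comp (algebraMap R K)).toAlgebra
  haveI : IsScalarTower R K Ω := IsScalarTower.of_algebraMap_eq fun _ => rfl
  let x₀ : (Over.map t).obj P ⟶ N := E.symm x
  have hE : ∀ k, E (x₀ ^ k) = x ^ k := fun k => by
    have hz' : E x₀ = x := E.apply_symm_apply x
    rw [← hz', Adjunction.homEquiv_unit, Adjunction.homEquiv_unit, ← MonObj.comp_pow]
    congr 1
    exact map_pow (Functor.homMonoidHom (X := (Over.map t).obj P) (M := N) F) x₀ k
  have hx₀ : x₀ ^ m = 1 := E.injective (by rw [← pow_zero x₀, hE, hE, hx, pow_zero])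
  have hx₀l : x₀.left = x.left ≫ pullback.fst N.hom t := by
    simp [x₀, E, Adjunction.homEquiv_counit]
  rw [← hx₀l] at hsp
  haveI : Etale ((𝟙 N : N ⟶ N) ^ m).left := by
    refine SGA7Lib.etale_pow N (fun s => inferInstance) m fun p h0 => ?_
    have hu : IsUnit (m : R) :=
      (IsLocalRing.residue_ne_zero_iff_isUnit _).1 (by rwa [map_natCast])
    let φ : R →+* (Spec (CommRingCat.of R)).residueField p :=
      (Spec.preimage ((Spec (CommRingCat.of R)).fromSpecResidueField p)).hom
    exact not_isUnit_zero (h0 ▸ map_natCast φ m ▸ hu.map φ)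
  -- the torsion scheme
  let f : N ⟶ N := 𝟙 N ^ m
  let e : Spec (CommRingCat.of R) ⟶ N.left := η[N].left
  have he : e ≫ N.hom = 𝟙 _ := Over.w η[N]
  haveI : IsClosedImmersion e := by
    haveI : IsClosedImmersion (e ≫ N.hom) := by rw [he]; infer_instance
    exact IsClosedImmersion.of_comp e N.hom
  let i : pullback f.left e ⟶ N.left := pullback.fst f.left e
  let πK : pullback f.left e ⟶ Spec (CommRingCat.of R) := pullback.snd f.left e
  haveI : IsClosedImmersion i := inferInstanceAs (IsClosedImmersion (pullback.fst _ _))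
  haveI : Etale πK := inferInstanceAs (Etale (pullback.snd _ _))
  have hiπ : i ≫ N.hom = πK := by
    have : i ≫ f.left = πK ≫ e := pullback.condition
    rw [← Over.w f, ← Category.assoc, this, Category.assoc, he, Category.comp_id]
  have hw : x₀.left ≫ f.left = ((Over.map t).obj P).hom ≫ e := by
    rw [← Over.comp_left, MonObj.comp_pow, Category.comp_id, hx₀, Hom.one_def, Over.comp_left]
    rfl
  let xK : Spec (CommRingCat.of Ω) ⟶ pullback f.left e := pullback.lift x₀.left ((Over.map t).obj P).hom hw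
  have hxK : xK ≫ i = x₀.left := pullback.lift_fst _ _ _
  have hxK' : xK ≫ πK = ((Over.map t).obj P).hom := pullback.lift_snd _ _ _
  have hpi : i.base (xK.base (IsLocalRing.closedPoint Ω)) = x₀.left.base (IsLocalRing.closedPoint Ω) := by
    exact (Scheme.Hom.comp_apply xK i _).symm.trans (by rw [hxK])
  obtain ⟨z', hz'⟩ : z ∈ Set.range i.base :=
    hsp.mem_closed i.isClosedEmbedding.isClosed_range ⟨_, hpi⟩
  have hsp' : xK.base (IsLocalRing.closedPoint Ω) ⤳ z' :=
    i.isEmbedding.isInducing.specializes_iff.1 (by rw [hpi, hz']; exact hsp)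
  have hz'0 : πK.base z' = IsLocalRing.closedPoint R := by
    rw [← hiπ, Scheme.Hom.comp_apply, hz']; exact hz
  haveI : QuasiCompact i := inferInstance
  haveI : QuasiCompact πK := hiπ ▸ inferInstance
  haveI := locallyQuasiFinite_of_etale πK
  obtain ⟨T, h, hh, hfin, hzT⟩ := S5114.exists_finite_nbhd R πK
    (πK.finite_preimage_singleton _) z' hz'0
  have hrange : Set.range xK.base ⊆ Set.range h.base := by
    rintro _ ⟨q, rfl⟩
    rw [Subsingleton.elim q (IsLocalRing.closedPoint Ω)]
    exact hsp'.mem_open h.isOpenEmbedding.isOpen_range hzT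
  let xT : Spec (CommRingCat.of Ω) ⟶ T := IsOpenImmersion.lift h xK hrange
  have hxT : xT ≫ h = xK := IsOpenImmersion.lift_fac _ _ _
  haveI : IsAffine T := isAffine_of_isAffineHom (h ≫ πK)
  let ψ : Γ(T, ⊤) ⟶ CommRingCat.of Ω := Spec.preimage (xT ≫ T.isoSpec.hom)
  let ρ : R →+* Γ(T, ⊤) := (Spec.preimage (T.isoSpec.inv ≫ h ≫ πK)).hom
  have hρ : ψ.hom.comp ρ = algebraMap R Ω := by
    have h1 : Spec.map (CommRingCat.ofHom (ψ.hom.comp ρ)) = ((Over.map t).obj P).hom := by
      rw [CommRingCat.ofHom_comp, Spec.map_comp]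
      show Spec.map ψ ≫ Spec.map (Spec.preimage (T.isoSpec.inv ≫ h ≫ πK)) = _
      rw [Spec.map_preimage, Spec.map_preimage, Category.assoc, Iso.hom_inv_id_assoc, reassoc_of% hxT,
        hxK']
    have h2 : ((Over.map t).obj P).hom = Spec.map (CommRingCat.ofHom (algebraMap R Ω)) := by
      show Spec.map (CommRingCat.ofHom (algebraMap K Ω)) ≫ t = _
      rw [← Spec.map_comp, ← CommRingCat.ofHom_comp]
    exact congrArg CommRingCat.Hom.hom (Spec.map_injective (h1.trans h2))
  have hρfin : ρ.Finite := by
    haveI : IsFinite (T.isoSpec.inv ≫ h ≫ πK) := inferInstance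
    have := (IsFinite.SpecMap_iff (Spec.preimage (T.isoSpec.inv ≫ h ≫ πK))).1
      (by rw [Spec.map_preimage]; infer_instance)
    exact this
  letI : Algebra R Γ(T, ⊤) := ρ.toAlgebra
  haveI : Module.Finite R Γ(T, ⊤) := hρfin
  let ψR : Γ(T, ⊤) →ₐ[R] Ω := { toRingHom := ψ.hom, commutes' := fun r => RingHom.congr_fun hρ r }
  let ψW : Γ(T, ⊤) →+* W := ψ.hom.codRestrict W.toSubring fun c =>
    SGA7Lib.InertiaExt.mem_of_isIntegral W hW ((Algebra.IsIntegral.isIntegral (R := R) c).map ψR)
  let σW : W →+* W := ((σ : Ω →+* Ω).comp W.subtype).codRestrict W.toSubring fun x => (hσ x x.2).1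
  have hres : (IsLocalRing.residue W).comp σW = IsLocalRing.residue W := by
    ext y
    show IsLocalRing.residue W (σW y) = IsLocalRing.residue W y
    rw [← sub_eq_zero, ← map_sub, IsLocalRing.residue_eq_zero_iff]
    exact (W.valuation_lt_one_iff _).2 (hσ y y.2).2
  let j := Spec.map (CommRingCat.ofHom W.subtype)
  let a : Spec (CommRingCat.of W) ⟶ T := Spec.map (CommRingCat.ofHom ψW) ≫ T.isoSpec.inv
  have hja : j ≫ a = xT := by
    show Spec.map _ ≫ Spec.map _ ≫ T.isoSpec.inv = xT
    rw [← Category.assoc, ← Spec.map_comp]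
    show Spec.map ψ ≫ T.isoSpec.inv = xT
    rw [Spec.map_preimage, Category.assoc, Iso.hom_inv_id, Category.comp_id]
  let s := Spec.map (CommRingCat.ofHom σW)
  have hsa : s ≫ a = a := by
    haveI : Etale (h ≫ πK) := inferInstance
    haveI : FormallyUnramified (h ≫ πK) := inferInstance
    refine SGA7Lib.eq_of_unramified (h ≫ πK) _ _ ?_ ?_
    · show (s ≫ Spec.map (CommRingCat.ofHom ψW) ≫ T.isoSpec.inv) ≫ h ≫ πK =
        (Spec.map (CommRingCat.ofHom ψW) ≫ T.isoSpec.inv) ≫ h ≫ πK
      simp only [Category.assoc]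
      rw [← Spec.map_preimage (T.isoSpec.inv ≫ h ≫ πK), ← Spec.map_comp, ← Spec.map_comp]
      congr 1
      ext r
      show (σ (ψ.hom (ρ r)) : Ω) = ψ.hom (ρ r)
      rw [show ψ.hom (ρ r) = algebraMap R Ω r from RingHom.congr_fun hρ r]
      exact σ.commutes _
    · rw [← Category.assoc]
      congr 1
      show Spec.map _ ≫ Spec.map _ = _
      rw [← Spec.map_comp, ← CommRingCat.ofHom_comp, hres]
  refine E.symm.injective ?_
  show E.symm (SGA7.specAut σ ≫ x) = x₀
  rw [Adjunction.homEquiv_naturality_left_symm]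
  ext1
  show Spec.map (CommRingCat.ofHom (σ : Ω →+* Ω)) ≫ x₀.left = x₀.left
  have hsj : Spec.map (CommRingCat.ofHom (σ : Ω →+* Ω)) ≫ j = j ≫ s := by
    rw [← Spec.map_comp, ← Spec.map_comp]
    rfl
  rw [← hxK, ← hxT, ← hja]
  simp only [Category.assoc]
  rw [reassoc_of% hsj, reassoc_of% hsa]

set_option synthInstance.maxHeartbeats 400000 in
set_option maxHeartbeats 1600000 in
open MonoidalCategory CartesianMonoidalCategory in
/-- a point fixed by inertia specialises to the closed fibre -/
theorem specializes_of_fixed {R K Ω : Type u} [CommRing R] [IsDomain R] [IsDiscreteValuationRing R]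
    [HenselianLocalRing R] [Field K] [Algebra R K] [IsFractionRing R K] [Field Ω] [Algebra K Ω]
    [IsSepClosure K Ω] (W : ValuationSubring Ω) (hW : SGA7.LiesOver K R W)
    (N : Over (Spec (CommRingCat.of R))) (hN : SGA7.IsNeron R K N)
    (x : SGA7.Pts Ω ((SGA7.genFib R K).obj N))
    (hfix : ∀ σ : Ω ≃ₐ[K] Ω, SGA7.IsInertia W σ → SGA7.galAct σ x = x) :
    ∃ z ∈ SGA7.specialFibreSet R N,
      (x.left ≫ pullback.fst N.hom (Spec.map (CommRingCat.ofHom (algebraMap R K)))).base
          (IsLocalRing.closedPoint Ω) ⤳ z := by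
  obtain ⟨hsm, -, -, hb⟩ := hN
  haveI := hsm
  letI : Algebra R Ω := ((algebraMap K Ω).comp (algebraMap R K)).toAlgebra
  haveI : IsScalarTower R K Ω := IsScalarTower.of_algebraMap_eq fun _ => rfl
  haveI : IsGalois K Ω :=
    { to_isSeparable := IsSepClosure.separable, to_normal := inferInstance }
  let t := Spec.map (CommRingCat.ofHom (algebraMap R K))
  let x₁ : Spec (CommRingCat.of Ω) ⟶ N.left := x.left ≫ pullback.fst N.hom t
  let p := x₁.base (IsLocalRing.closedPoint Ω)
  obtain ⟨_, ⟨U, hU, rfl⟩, hpU, -⟩ := N.left.isBasis_affineOpens.exists_subset_of_mem_open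
    (Set.mem_univ p) isOpen_univ
  replace hU : IsAffineOpen U := hU
  haveI : IsOpenImmersion hU.fromSpec := inferInstance
  obtain ⟨ψ, hψ⟩ := NeronMap.Sections.exists_ringHom hU x₁ (by
    rintro _ ⟨q, rfl⟩
    rwa [Subsingleton.elim q (IsLocalRing.closedPoint Ω)])
  let φ : R →+* Γ(N.left, U) :=
    (N.hom.appLE ⊤ U le_top).hom.comp (Scheme.ΓSpecIso (CommRingCat.of R)).inv.hom
  have hψφ : ψ.comp φ = algebraMap R Ω := by
    have h1 := NeronMap.Sections.point_comp N.hom hU ψ
    rw [← Category.assoc, hψ] at h1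
    have h2 : x₁ ≫ N.hom = Spec.map (CommRingCat.ofHom (algebraMap R Ω)) := by
      have hw : x.left ≫ pullback.snd N.hom t = Spec.map (CommRingCat.ofHom (algebraMap K Ω)) := Over.w x
      rw [Category.assoc, pullback.condition, reassoc_of% hw, ← Spec.map_comp, ← CommRingCat.ofHom_comp]
    exact (congrArg CommRingCat.Hom.hom (Spec.map_injective (h2.symm.trans h1))).symm
  letI : Algebra R Γ(N.left, U) := φ.toAlgebra
  haveI : Algebra.Smooth R Γ(N.left, U) := NeronMap.Sections.algebra_smooth N.hom hU
  obtain ⟨S, hS⟩ : (⊤ : Subalgebra R Γ(N.left, U)).FG := Algebra.FiniteType.out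
  let L := IntermediateField.adjoin K (ψ '' (S : Set Γ(N.left, U)))
  haveI : Algebra.IsSeparable K Ω := IsSepClosure.separable
  haveI : FiniteDimensional K L := by
    haveI : Finite ↥(ψ '' (S : Set Γ(N.left, U))) := (S.finite_toSet.image ψ).to_subtype
    exact IntermediateField.finiteDimensional_adjoin fun y _ => Algebra.IsSeparable.isIntegral K y
  let M := IntermediateField.normalClosure K L Ω
  haveI : Algebra.IsSeparable K M := Algebra.isSeparable_tower_bot_of_isSeparable K M Ω
  haveI : IsGalois K M := { to_normal := inferInstance, to_isSeparable := inferInstance }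
  haveI : IsScalarTower R M Ω := IsScalarTower.of_algebraMap_eq fun r => by
    rw [IsScalarTower.algebraMap_apply R K Ω, IsScalarTower.algebraMap_apply R K M]; rfl
  let ψR : Γ(N.left, U) →ₐ[R] Ω := { toRingHom := ψ, commutes' := fun r => RingHom.congr_fun hψφ r }
  have hψM : ∀ c, ψ c ∈ M := by
    intro c
    have : (⊤ : Subalgebra R Γ(N.left, U)).map ψR ≤ M.toSubalgebra.restrictScalars R := by
      rw [← hS, AlgHom.map_adjoin, Algebra.adjoin_le_iff]
      exact fun y hy => L.le_normalClosure (IntermediateField.subset_adjoin K _ hy)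
    exact this ⟨c, trivial, rfl⟩
  let B := integralClosure R M
  haveI : IsLocalRing B := WEtale.Olivier.isLocalRing_of_integral (A := R)
  haveI : SMulCommClass (M ≃ₐ[K] M) R M := ⟨fun g r y => by
    show g (r • y) = r • g y
    rw [← algebraMap_smul K r y, ← algebraMap_smul K r (g y), map_smul]⟩
  let m := IsLocalRing.maximalIdeal B
  let H := m.inertia (M ≃ₐ[K] M)
  let Fx := IntermediateField.fixedField H
  have hfixψ : ∀ c, (⟨ψ c, hψM c⟩ : M) ∈ Fx := by
    intro c
    rw [IntermediateField.mem_fixedField_iff]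
    intro σ hσ
    obtain ⟨τ, hτ, hτσ⟩ := SGA7Lib.InertiaExt.exists_isInertia_extension W hW M σ fun y hy => by
      have hy' : IsIntegral R y :=
        (isIntegral_algHom_iff (IsScalarTower.toAlgHom R M Ω) (algebraMap M Ω).injective).1 hy
      exact (SGA7Lib.InertiaExt.valuation_lt_one_iff W hW
        ((IsScalarTower.toAlgHom R M Ω).comp B.val) (σ • (⟨y, hy'⟩ : B) - ⟨y, hy'⟩)).2 (hσ ⟨y, hy'⟩)
    have h1 : Spec.map (CommRingCat.ofHom (τ : Ω →+* Ω)) ≫ x₁ = x₁ :=
      (Category.assoc _ _ _).symm.trans (congrArg (· ≫ pullback.fst N.hom t)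
        (congrArg (fun q => q.left) (hfix τ hτ)))
    rw [← hψ, ← Category.assoc, cancel_mono, ← Spec.map_comp] at h1
    have h2 := RingHom.congr_fun (congrArg CommRingCat.Hom.hom (Spec.map_injective h1)) c
    exact Subtype.ext ((hτσ ⟨ψ c, hψM c⟩).symm.trans h2)
  haveI : IsScalarTower R Fx M := IsScalarTower.of_algebraMap_eq fun r => by
    rw [IsScalarTower.algebraMap_apply R K M, IsScalarTower.algebraMap_apply R K Fx]; rfl
  let B' := integralClosure R Fx
  letI : Algebra B' B := ((IsScalarTower.toAlgHom R Fx M).mapIntegralClosure).toRingHom.toAlgebra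
  haveI : IsScalarTower R B' B := IsScalarTower.of_algebraMap_eq fun r => Subtype.ext rfl
  haveI : IsScalarTower B' B M := IsScalarTower.of_algebraMap_eq fun _ => rfl
  haveI : IsScalarTower B' Fx M := IsScalarTower.of_algebraMap_eq fun _ => rfl
  haveI : IsLocalRing B' := WEtale.Olivier.isLocalRing_of_integral (A := R)
  obtain ⟨-, het⟩ := S7139.result R K M B (fun σ b => rfl) m B'
  haveI : Algebra.IsIntegral B' B := Algebra.IsIntegral.tower_top (R := R)
  haveI : (m.comap (algebraMap B' B)).IsMaximal :=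
    Ideal.isMaximal_comap_of_isIntegral_of_isMaximal m
  haveI := het
  haveI : Algebra.Etale R B' := by
    let q := m.comap (algebraMap B' B)
    have hu : q.primeCompl ≤ IsUnit.submonoid B' := fun y hy => by
      by_contra hy'
      have hq : q = IsLocalRing.maximalIdeal B' := IsLocalRing.eq_maximalIdeal inferInstance
      exact hy ((SetLike.ext_iff.1 hq y).2 hy')
    let e := (IsLocalization.atUnits B' q.primeCompl (S := Localization.AtPrime q) hu).restrictScalars R
    exact Algebra.Etale.of_equiv e.symm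
  let Y : Over (Spec (CommRingCat.of R)) := Over.mk (Spec.map (CommRingCat.ofHom (algebraMap R B')))
  have hY : Smooth Y.hom := by
    haveI : Etale (Spec.map (CommRingCat.ofHom (algebraMap R B'))) :=
      (HasRingHomProperty.Spec_iff (P := @Etale)).2 (RingHom.etale_algebraMap.2 ‹_›)
    exact inferInstanceAs (Smooth (Spec.map (CommRingCat.ofHom (algebraMap R B'))))
  let ψF : Γ(N.left, U) →+* Fx :=
    { toFun := fun c => ⟨⟨ψ c, hψM c⟩, hfixψ c⟩
      map_one' := Subtype.ext (Subtype.ext (map_one ψ))
      map_zero' := Subtype.ext (Subtype.ext (map_zero ψ))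
      map_add' := fun c d => Subtype.ext (Subtype.ext (map_add ψ c d))
      map_mul' := fun c d => Subtype.ext (Subtype.ext (map_mul ψ c d)) }
  have hψF : ψF.comp φ = algebraMap R Fx := RingHom.ext fun r =>
    Subtype.ext (Subtype.ext (RingHom.congr_fun hψφ r))
  haveI : IsLocalization (Algebra.algebraMapSubmonoid B' (nonZeroDivisors R)) Fx :=
    IsIntegralClosure.isLocalization R K Fx B'
  haveI : Algebra.IsPushout R B' K Fx :=
    Algebra.isPushout_of_isLocalization (nonZeroDivisors R) K B' Fx
  let e : B' ⊗[R] K ≃ₐ[R] Fx := (Algebra.IsPushout.equiv R B' K Fx).restrictScalars R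
  let c : pullback Y.hom t ⟶ Spec (CommRingCat.of Fx) :=
    (pullbackSpecIso R B' K).hom ≫ Spec.map (CommRingCat.ofHom (e.symm : Fx →+* B' ⊗[R] K))
  have hc : c ≫ Spec.map (CommRingCat.ofHom (algebraMap R Fx)) = pullback.fst Y.hom t ≫ Y.hom := by
    show ((pullbackSpecIso R B' K).hom ≫ _) ≫ _ = pullback.fst _ _ ≫ Spec.map _
    rw [Category.assoc, ← Spec.map_comp, ← CommRingCat.ofHom_comp,
      show (e.symm : Fx →+* B' ⊗[R] K).comp (algebraMap R Fx) = algebraMap R (B' ⊗[R] K) from
        RingHom.ext e.symm.commutes, pullbackSpecIso_hom_base]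
  let b : (SGA7.genFib R K).obj Y ⟶ (SGA7.genFib R K).obj N :=
    Over.homMk (pullback.lift (c ≫ Spec.map (CommRingCat.ofHom ψF) ≫ hU.fromSpec) (pullback.snd Y.hom t) (by
      simp only [Category.assoc]
      rw [NeronMap.Sections.point_comp N.hom hU, hψF, hc, pullback.condition]))
      (pullback.lift_snd _ _ _)
  obtain ⟨g, hg⟩ := (hb Y hY).2 b
  refine ⟨g.left.base (IsLocalRing.closedPoint B'), ?_, ?_⟩
  · show N.hom.base (g.left.base (IsLocalRing.closedPoint B')) = _
    refine (Scheme.Hom.comp_apply g.left N.hom _).symm.trans ?_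
    rw [Over.w g]
    haveI : IsLocalHom (algebraMap R B') := inferInstance
    exact IsLocalRing.comap_closedPoint (algebraMap R B')
  · have hfst : pullback.fst Y.hom t ≫ g.left = c ≫ Spec.map (CommRingCat.ofHom ψF) ≫ hU.fromSpec := by
      have h1 := congrArg (fun q => q.left ≫ pullback.fst N.hom t) hg
      dsimp [SGA7.genFib, Over.pullback] at h1
      simp only [b, Over.homMk_left] at h1
      erw [pullback.lift_fst, pullback.lift_fst] at h1
      exact h1
    obtain ⟨q⟩ : Nonempty (pullback Y.hom t : Scheme.{u}) :=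
      ⟨(pullbackSpecIso R B' K).inv.base ((Spec.map (CommRingCat.ofHom (e : B' ⊗[R] K →+* Fx))).base
        (IsLocalRing.closedPoint Fx))⟩
    have hval : (algebraMap M Ω).comp ((algebraMap Fx M).comp ψF) = ψ := rfl
    have hp : p = (c ≫ Spec.map (CommRingCat.ofHom ψF) ≫ hU.fromSpec).base q := by
      show x₁.base _ = _
      rw [← hψ, ← hval, CommRingCat.ofHom_comp, CommRingCat.ofHom_comp, Spec.map_comp, Spec.map_comp]
      simp only [Scheme.Hom.comp_apply]
      exact congrArg (fun y => hU.fromSpec.base ((Spec.map (CommRingCat.ofHom ψF)).base y))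
        (Subsingleton.elim (α := Spec (CommRingCat.of Fx)) _ _)
    show p ⤳ _
    rw [hp, ← hfst, Scheme.Hom.comp_apply]
    exact (IsLocalRing.specializes_closedPoint _).map g.left.continuous

/-- Let R be a henselian discrete valuation ring with fraction field K, Ω a separable closure of K, W a
valuation subring of Ω lying over R, N a group scheme over Spec R which is a Néron model of its
generic fibre A = N_K, an abelian variety, and m an integer invertible in the residue field. For an
m-torsion Ω-point x of A, the inertia group at W fixes x if and only if the point of N underlying x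
specialises to a point of the special fibre of N (x factors through the finite part of the m-torsion
of N): the fixed part of the m-torsion is the inertia invariants. -/
theorem result (R K Ω : Type u) [CommRing R] [IsDomain R]
    [IsDiscreteValuationRing R] [HenselianLocalRing R] [Field K] [Algebra R K] [IsFractionRing R K]
    [Field Ω] [Algebra K Ω] [IsSepClosure K Ω] (W : ValuationSubring Ω) (hW : SGA7.LiesOver K R W)
    (N : Over (Spec (CommRingCat.of R))) [GrpObj N] (hN : SGA7.IsNeron R K N)
    [IsProper ((SGA7.genFib R K).obj N).hom] [GeometricallyIntegral ((SGA7.genFib R K).obj N).hom]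
    (m : ℕ) (hm : (m : IsLocalRing.ResidueField R) ≠ 0)
    (x : SGA7.Pts Ω ((SGA7.genFib R K).obj N)) (hx : x ^ m = 1) :
    (∀ σ : Ω ≃ₐ[K] Ω, SGA7.IsInertia W σ → SGA7.galAct σ x = x) ↔
      ∃ z ∈ SGA7.specialFibreSet R N,
        (x.left ≫ pullback.fst N.hom (Spec.map (CommRingCat.ofHom (algebraMap R K)))).base
          (IsLocalRing.closedPoint Ω) ⤳ z := by
  haveI := isCommMonObj_neron N hN
  constructor
  · exact specializes_of_fixed W hW N hN x
  · rintro ⟨z, hz, hsp⟩ σ hσ
    obtain ⟨hsm, hsep, hqc, -⟩ := hN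
    exact galAct_eq_of_specializes W hW N m hm x hx z hz hsp σ hσ

end Groth.Agent.S4075
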