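import Groth.Statements.S4071
import Groth.Agent.S4070
import Groth.Agent.S4075
import Groth.Agent.GrpSGA.Fibre

set_option autoImplicit false
universe u
open CategoryTheory CategoryTheory.Limits AlgebraicGeometry MonObj
open MonoidalCategory
open SGA7

namespace Groth.Agent.S4071

open CartesianMonoidalCategory in
theorem isIrreducible_unitComp {S : Scheme.{u}} (N : Over S) [GrpObj N] (s : S) :
    IsIrreducible (connectedComponentIn (N.hom.base ⁻¹' {s}) (η[N].left.base s)) := by
  open GrpSGA.Fibre GrpScheme in
  have hcomp : connectedComponentIn (N.hom.base ⁻¹' {s}) (η[N].left.base s) =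
      fibι N s '' irreducibleComponent (IdComponent.e₀ (fib N s)) := by
    have hemb := isEmbedding_fibι N s
    rw [← range_fibι, ← fibι_unit]
    refine subset_antisymm ?_ ?_
    · intro x hx
      have hsub := connectedComponentIn_subset (Set.range (fibι N s))
        (fibι N s (IdComponent.e₀ (fib N s)))
      obtain ⟨y, rfl⟩ := hsub hx
      refine ⟨y, ?_, rfl⟩
      have hpre : _root_.IsPreconnected (fibι N s ⁻¹' connectedComponentIn (Set.range (fibι N s))
          (fibι N s (IdComponent.e₀ (fib N s)))) := by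
        rw [← hemb.isInducing.isPreconnected_image, Set.image_preimage_eq_of_subset hsub]
        exact isPreconnected_connectedComponentIn
      rw [← IdComponent.connectedComponent_eq]
      exact hpre.subset_connectedComponent (mem_connectedComponentIn ⟨_, rfl⟩) hx
    · rw [← IdComponent.connectedComponent_eq]
      exact (isPreconnected_connectedComponent.image _
        (fibι N s).continuous.continuousOn).subset_connectedComponentIn
        ⟨_, mem_connectedComponent, rfl⟩ (Set.image_subset_range _ _)
  rw [hcomp]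
  exact isIrreducible_irreducibleComponent.image _ (GrpSGA.Fibre.fibι N s).continuous.continuousOn

/-- Let R be a strictly henselian discrete valuation ring with fraction field K, N a group scheme over
Spec R which is a Néron model of its generic fibre, an abelian variety A over K, and n an integer
invertible in the residue field of R. If x is a section of N (a K-point of A) whose n-th power meets
the connected component of the unit section in the special fibre, then there is a section y with y^n
= 1 such that x · y⁻¹ meets the connected component of the unit section: the n-torsion of the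
component group is the image of the n-torsion of A(K). -/
theorem result (R K : Type u) [CommRing R] [IsDomain R] [IsDiscreteValuationRing R] [HenselianLocalRing R]
    [IsSepClosed (IsLocalRing.ResidueField R)] [Field K] [Algebra R K] [IsFractionRing R K]
    (N : Over (Spec (CommRingCat.of R))) [GrpObj N] (hN : SGA7.IsNeron R K N)
    [IsProper ((SGA7.genFib R K).obj N).hom] [GeometricallyIntegral ((SGA7.genFib R K).obj N).hom]
    (n : ℕ) (hn : (n : IsLocalRing.ResidueField R) ≠ 0)
    (x : 𝟙_ (Over (Spec (CommRingCat.of R))) ⟶ N) (hx : x ^ n ∈ SGA7.secUnitComp R N) :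
    ∃ y : 𝟙_ (Over (Spec (CommRingCat.of R))) ⟶ N, y ^ n = 1 ∧ x * y⁻¹ ∈ SGA7.secUnitComp R N := by
  classical
  haveI : IsCommMonObj N := S4075.isCommMonObj_neron N hN
  obtain ⟨_, _, _, _⟩ := hN
  haveI : IsNoetherian N.left := by
    haveI : IsLocallyNoetherian N.left := LocallyOfFiniteType.isLocallyNoetherian N.hom
    haveI : CompactSpace N.left := QuasiCompact.compactSpace_of_compactSpace N.hom
    exact {}
  let s := IsLocalRing.closedPoint R
  let P := SGA7.specialFibreSet R N
  let C := connectedComponentIn P (η[N].left.base s)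
  have hmemP : ∀ a : 𝟙_ (Over (Spec (CommRingCat.of R))) ⟶ N, a.left.base s ∈ P := fun a =>
    congrArg (fun g : Spec (CommRingCat.of R) ⟶ Spec (CommRingCat.of R) => g.base s) (Over.w a)
  have hη : η[N] = (1 : 𝟙_ (Over (Spec (CommRingCat.of R))) ⟶ N) := by
    rw [Hom.one_def, CartesianMonoidalCategory.toUnit_unique (CartesianMonoidalCategory.toUnit _) (𝟙 _),
      Category.id_comp]
  have heP : η[N].left.base s ∈ P := hmemP η[N]
  have hC1 : SGA7.secComp R N 1 = C := by rw [SGA7.secComp, ← hη]
  have key : ∀ w, w ∈ SGA7.secUnitComp R N ↔ SGA7.secComp R N w = SGA7.secComp R N 1 := fun w => by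
    rw [hC1]
    exact ⟨fun h => (connectedComponentIn_eq h).symm, fun h =>
      (Set.ext_iff.1 h _).1 (mem_connectedComponentIn (hmemP w))⟩
  have hmul : ∀ a b, a ∈ SGA7.secUnitComp R N → b ∈ SGA7.secUnitComp R N →
      a * b ∈ SGA7.secUnitComp R N := fun a b ha hb => by
    rw [key] at ha hb ⊢
    rw [S4070.secComp_mul, ha, ← S4070.secComp_mul, _root_.one_mul, hb]
  -- the power map
  let f : N ⟶ N := 𝟙 N ^ n
  haveI : Etale f.left := by
    refine SGA7Lib.etale_pow N (fun s => inferInstance) n fun p h0 => ?_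
    have hu : IsUnit (n : R) :=
      (IsLocalRing.residue_ne_zero_iff_isUnit _).1 (by rwa [map_natCast])
    let φ : R →+* (Spec (CommRingCat.of R)).residueField p :=
      (Spec.preimage ((Spec (CommRingCat.of R)).fromSpecResidueField p)).hom
    exact not_isUnit_zero (h0 ▸ map_natCast φ n ▸ hu.map φ)
  have hf : ∀ a : 𝟙_ (Over (Spec (CommRingCat.of R))) ⟶ N, a ≫ f = a ^ n := fun a => by
    rw [MonObj.comp_pow, Category.comp_id]
  have hfP : ∀ q, f.left.base q ∈ P ↔ q ∈ P := fun q => by
    have : N.hom.base (f.left.base q) = N.hom.base q :=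
      congrArg (fun g : N.left ⟶ Spec (CommRingCat.of R) => g.base q) (Over.w f)
    simp only [P, SGA7.specialFibreSet, Set.mem_preimage, Set.mem_singleton_iff]
    rw [this]
  obtain ⟨V, hV, heV, hVP⟩ := S4070.exists_open P heP
  -- enlarge to a neighbourhood of the whole component
  have hCopen : ∃ V' : N.left.Opens, ∀ q ∈ P, q ∈ V' ↔ q ∈ C := by
    choose W hW hmW hWC using fun z : C => S4070.exists_open P (connectedComponentIn_subset _ _ z.2)
    refine ⟨⟨⋃ z, W z, isOpen_iUnion hW⟩, fun q hq => ⟨?_, fun h => Set.mem_iUnion.2 ⟨⟨q, h⟩, hmW _⟩⟩⟩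
    rintro ⟨_, ⟨z, rfl⟩, hz⟩
    have := hWC z ⟨hz, hq⟩
    rwa [← connectedComponentIn_eq z.2] at this
  obtain ⟨V', hV'⟩ := hCopen
  have hfC : ∀ q ∈ C, f.left.base q ∈ C := fun q hq => by
    have hpre : _root_.IsPreconnected (f.left.base '' C) :=
      isPreconnected_connectedComponentIn.image _ f.left.continuous.continuousOn
    refine hpre.subset_connectedComponentIn ?_ ?_ ⟨q, hq, rfl⟩
    · refine ⟨η[N].left.base s, mem_connectedComponentIn heP, ?_⟩
      refine (Scheme.Hom.comp_apply η[N].left f.left s).symm.trans ?_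
      rw [← Over.comp_left, hf, hη, one_pow]
    · rintro _ ⟨q', hq', rfl⟩
      exact (hfP q').2 (connectedComponentIn_subset _ _ hq')
  let O : Set N.left := f.left.base '' (V' : Set N.left)
  have hO : IsOpen O := f.left.isOpenMap _ V'.2
  -- sections reducing into the image of the component are powers
  have hroot : ∀ b : 𝟙_ (Over (Spec (CommRingCat.of R))) ⟶ N, b.left.base s ∈ O →
      ∃ c ∈ SGA7.secUnitComp R N, c ^ n = b := by
    rintro b ⟨q, hq, hqb⟩
    obtain ⟨q', hq'1, hq'2⟩ :=
      Scheme.Pullback.exists_preimage_pullback (f := f.left) (g := b.left) q s hqb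
    haveI : Smooth (pullback.snd f.left b.left) := inferInstance
    obtain ⟨v, hv, hvW⟩ := NeronMap.Sections.exists_section_mem (pullback.snd f.left b.left)
      (pullback.fst f.left b.left ⁻¹ᵁ V') (z := q') (by show _ ∈ V'; rw [hq'1]; exact hq) hq'2
    have hvf : (v ≫ pullback.fst f.left b.left) ≫ f.left = b.left := by
      rw [Category.assoc, pullback.condition, ← Category.assoc, hv]
      exact Category.id_comp _
    have hvN : (v ≫ pullback.fst f.left b.left) ≫ N.hom = 𝟙 _ := by
      rw [← Over.w f, ← Category.assoc, hvf]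
      exact Over.w b
    let c : 𝟙_ (Over (Spec (CommRingCat.of R))) ⟶ N := Over.homMk (v ≫ pullback.fst f.left b.left) hvN
    refine ⟨c, (hV' _ (hmemP c)).1 hvW, ?_⟩
    rw [← hf]
    exact Over.OverMorphism.ext hvf
  have hdiv : ∀ z ∈ SGA7.secUnitComp R N, ∃ w ∈ SGA7.secUnitComp R N, w ^ n = z := by
    intro z hz
    have hinv : ∀ a : 𝟙_ (Over (Spec (CommRingCat.of R))) ⟶ N,
        a ≫ ((CartesianMonoidalCategory.toUnit N ≫ z) * (𝟙 N)⁻¹) = z * a⁻¹ := fun a => by
      rw [MonObj.comp_mul, GrpObj.comp_inv, Category.comp_id, ← Category.assoc,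
        CartesianMonoidalCategory.toUnit_unique (a ≫ CartesianMonoidalCategory.toUnit N) (𝟙 _),
        Category.id_comp]
    let τ : N ⟶ N := (CartesianMonoidalCategory.toUnit N ≫ z) * (𝟙 N)⁻¹
    have hττ : τ ≫ τ = 𝟙 N := by
      show τ ≫ ((CartesianMonoidalCategory.toUnit N ≫ z) * (𝟙 N)⁻¹) = 𝟙 N
      rw [MonObj.comp_mul, GrpObj.comp_inv, Category.comp_id, ← Category.assoc,
        CartesianMonoidalCategory.toUnit_unique (τ ≫ CartesianMonoidalCategory.toUnit N)
          (CartesianMonoidalCategory.toUnit N)]
      show (CartesianMonoidalCategory.toUnit N ≫ z) *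
        ((CartesianMonoidalCategory.toUnit N ≫ z) * (𝟙 N)⁻¹)⁻¹ = 𝟙 N
      rw [mul_inv_rev, inv_inv, mul_comm (𝟙 N), ← _root_.mul_assoc, _root_.mul_inv_cancel,
        _root_.one_mul]
    have hττ' : ∀ q, τ.left.base (τ.left.base q) = q := fun q => by
      refine (Scheme.Hom.comp_apply τ.left τ.left q).symm.trans ?_
      rw [← Over.comp_left, hττ]
      rfl
    have hτP : ∀ q, τ.left.base q ∈ P ↔ q ∈ P := fun q => by
      have : N.hom.base (τ.left.base q) = N.hom.base q :=
        congrArg (fun g : N.left ⟶ Spec (CommRingCat.of R) => g.base q) (Over.w τ)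
      simp only [P, SGA7.specialFibreSet, Set.mem_preimage, Set.mem_singleton_iff]
      rw [this]
    have hτC : ∀ q ∈ C, τ.left.base q ∈ C := fun q hq => by
      have hpre : _root_.IsPreconnected (τ.left.base '' C) :=
        isPreconnected_connectedComponentIn.image _ τ.left.continuous.continuousOn
      have hsub : τ.left.base '' C ⊆ connectedComponentIn P (z.left.base s) := by
        refine hpre.subset_connectedComponentIn ?_ ?_
        · refine ⟨η[N].left.base s, mem_connectedComponentIn heP, ?_⟩
          refine (Scheme.Hom.comp_apply η[N].left τ.left s).symm.trans ?_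
          rw [← Over.comp_left, hinv, hη, inv_one, _root_.mul_one]
        · rintro _ ⟨q', hq', rfl⟩
          exact (hτP q').2 (connectedComponentIn_subset _ _ hq')
      have := hsub ⟨q, hq, rfl⟩
      rwa [← connectedComponentIn_eq hz] at this
    let O' : Set N.left := τ.left.base ⁻¹' O
    have hO' : IsOpen O' := hO.preimage τ.left.continuous
    have he : η[N].left.base s ∈ C := mem_connectedComponentIn heP
    have h1 : (C ∩ (O ∩ ↑V')).Nonempty := ⟨f.left.base (η[N].left.base s), hfC _ he,
      ⟨_, (hV' _ heP).2 he, rfl⟩, (hV' _ ((hfP _).2 heP)).2 (hfC _ he)⟩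
    have h2 : (C ∩ O').Nonempty := ⟨τ.left.base (f.left.base (η[N].left.base s)), hτC _ (hfC _ he),
      by show _ ∈ O; rw [hττ']; exact ⟨_, (hV' _ heP).2 he, rfl⟩⟩
    obtain ⟨q, hqC, hqO, hqO'⟩ := (isIrreducible_unitComp N s).isPreirreducible _ _
      (hO.inter V'.2) hO' h1 h2
    obtain ⟨b₀, hb₀, hb₀W⟩ := NeronMap.Sections.exists_section_mem N.hom
      (⟨O ∩ O', hO.inter hO'⟩ : N.left.Opens) (z := q) ⟨hqO.1, hqO'⟩
      (connectedComponentIn_subset P _ hqC)
    let b : 𝟙_ (Over (Spec (CommRingCat.of R))) ⟶ N := Over.homMk b₀ hb₀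
    obtain ⟨c, hc, hcb⟩ := hroot b hb₀W.1
    obtain ⟨d, hd, hdb⟩ := hroot (b ≫ τ) hb₀W.2
    refine ⟨d * c, hmul d c hd hc, ?_⟩
    rw [mul_pow, hdb, hcb, hinv, inv_mul_cancel_right]
  obtain ⟨w, hw, hwx⟩ := hdiv _ hx
  refine ⟨x * w⁻¹, by rw [mul_pow, inv_pow, hwx, mul_inv_cancel], ?_⟩
  rwa [mul_inv_rev, inv_inv, mul_comm w, ← _root_.mul_assoc, _root_.mul_inv_cancel, _root_.one_mul]

end Groth.Agent.S4071
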