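import Groth.Statements.S4088
import Groth.Agent.GrpdLib.Cover4088.Main
import Groth.Agent.ProjMor.QProj
import Mathlib.AlgebraicGeometry.Morphisms.Proper

set_option autoImplicit false
universe u
open CategoryTheory MonoidalCategory CartesianMonoidalCategory MonObj GrpObj AlgebraicGeometry CategoryTheory.Limits
open GrpQ

namespace Groth.Agent.S4088

open Groth.Agent.GrpdLib

/-- With the object scheme assumed to admit an S-immersion into some P^n_S (a special case of
quasi-projective): let S be locally noetherian and (U, R, s, t, c) a groupoid scheme over S such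
that s is proper and flat, U admits an immersion e into P^n_S over S, and j = (t, s) : R → U ×_S U
is quasi-finite (locally quasi-finite and locally of finite type). Then (t, s) has a coequalizer p :
U → Y in schemes together with q : Y → S through which U → S factors; p is surjective, open, proper
and of finite presentation, q is separated and of finite presentation; R → U ×_Y U is surjective;
and if j is a monomorphism then R ≅ U ×_Y U and p is flat. -/
theorem result (S : Scheme.{u}) [IsLocallyNoetherian S] (G : Grpd.GroupoidScheme S)
    [IsProper G.s] [Flat G.s] (n : ℕ) (e : G.U ⟶ CohB1.ProjSpaceOver n S) [IsImmersion e]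
    (he : e ≫ CohB1.ProjSpaceOver.toBase n S = G.pU) [LocallyQuasiFinite G.j] [LocallyOfFiniteType G.j] :
    ∃ (Y : Scheme.{u}) (p : G.U ⟶ Y) (w : G.t ≫ p = G.s ≫ p) (q : Y ⟶ S),
      Nonempty (IsColimit (Cofork.ofπ p w)) ∧ p ≫ q = G.pU ∧ Surjective p ∧ IsOpenMap p.base ∧ IsProper p ∧
      LocallyOfFinitePresentation p ∧ IsSeparated q ∧ LocallyOfFinitePresentation q ∧ QuasiCompact q ∧
      Function.Surjective (pullback.lift G.t G.s w).base ∧
      (Mono G.j → IsPullback G.t G.s p p ∧ Flat p) := by
  have := Groth.Agent.ProjProper.Basic.isProper_toBase n S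
  have : IsLocallyNoetherian (CohB1.ProjSpaceOver n S) :=
    LocallyOfFiniteType.isLocallyNoetherian (CohB1.ProjSpaceOver.toBase n S)
  have : LocallyOfFiniteType G.pU := by rw [← he]; infer_instance
  have : QuasiCompact e := by rw [← e.liftCoborder_ι]; infer_instance
  have : QuasiCompact G.pU := by rw [← he]; infer_instance
  have : IsSeparated G.pU := by rw [← he]; infer_instance
  have hU := ProjMor.isQuasiProjective_of_immersion G.pU n e he
  have hcov := Cover4088.exists_goodOpen G hU
  let q : Cover4088.glued G ⟶ S :=
    (Cover4088.isColimitP hcov).desc (Cofork.ofπ G.pU (by rw [G.t_over, G.s_over]))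
  have hq : Cover4088.P hcov ≫ q = G.pU := Cofork.IsColimit.π_desc (Cover4088.isColimitP hcov)
  have := Cover4088.surjective_P hcov
  have := Cover4088.universallyClosed_P hcov
  have : LocallyOfFiniteType q := Cover4088.locallyOfFiniteType_desc hcov q hq
  have hqc : QuasiCompact q := by
    have : QuasiCompact (Cover4088.P hcov ≫ q) := by rw [hq]; infer_instance
    refine ⟨fun O hO hOc => ?_⟩
    rw [← Set.image_preimage_eq (q ⁻¹' O) (Cover4088.P hcov).surjective, ← Set.preimage_comp]
    exact (QuasiCompact.isCompact_preimage (f := Cover4088.P hcov ≫ q) O hO hOc).image (Cover4088.P hcov).continuous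
  have hsep : IsSeparated q := by
    have : UniversallyClosed (G.j ≫ pullback.snd G.pU G.pU) := by rw [GrpdLib.j_snd]; infer_instance
    have : UniversallyClosed G.j := UniversallyClosed.of_comp_of_isSeparated G.j (pullback.snd G.pU G.pU)
    let PP : pullback G.pU G.pU ⟶ pullback q q :=
      pullback.map _ _ _ _ (Cover4088.P hcov) (Cover4088.P hcov) (𝟙 S)
        (by rw [hq, Category.comp_id]) (by rw [hq, Category.comp_id])
    have hPP : UniversallyClosed PP :=
      MorphismProperty.pullbackMap (P := @UniversallyClosed) inferInstance inferInstance hq.symm hq.symm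
    have e : G.j ≫ PP = (G.t ≫ Cover4088.P hcov) ≫ pullback.diagonal q := by
      apply pullback.hom_ext
      · simp only [PP, Category.assoc, pullback.lift_fst, pullback.diagonal_fst, Category.comp_id, GrpdLib.j_fst_assoc, pullback.map]
      · simp only [PP, Category.assoc, pullback.lift_snd, pullback.diagonal_snd, Category.comp_id, GrpdLib.j_snd_assoc, pullback.map, Cover4088.P_condition hcov]
    have : Surjective G.t := ⟨fun x => ⟨G.e x, GrpdLib.t_e_apply G x⟩⟩
    have hr : Set.range (pullback.diagonal q) = PP '' Set.range G.j := by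
      rw [← Set.range_comp]
      have e' : (⇑PP ∘ ⇑G.j) = ⇑(pullback.diagonal q) ∘ ⇑(G.t ≫ Cover4088.P hcov) := funext fun z => by
        simp only [Function.comp_apply]
        rw [← Scheme.Hom.comp_apply, e, Scheme.Hom.comp_apply]
      rw [e', (G.t ≫ Cover4088.P hcov).surjective.range_comp]
    refine ⟨IsClosedImmersion.of_isPreimmersion _ ?_⟩
    rw [hr]
    exact PP.isClosedMap _ G.j.isClosedMap.isClosed_range
  have : IsLocallyNoetherian (Cover4088.glued G) := LocallyOfFiniteType.isLocallyNoetherian q
  have : LocallyOfFiniteType (Cover4088.P hcov ≫ q) := by rw [hq]; infer_instance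
  have : LocallyOfFiniteType (Cover4088.P hcov) := locallyOfFiniteType_of_comp _ q
  have : IsSeparated (Cover4088.P hcov ≫ q) := by rw [hq]; infer_instance
  have : IsSeparated (Cover4088.P hcov) := IsSeparated.of_comp _ q
  exact ⟨_, Cover4088.P hcov, Cover4088.P_condition hcov, q, ⟨Cover4088.isColimitP hcov⟩, hq,
    inferInstance, Cover4088.isOpenMap_P hcov, {}, inferInstance, hsep, inferInstance, hqc,
    Cover4088.surjective_lift_P hcov, fun _ => ⟨Cover4088.isPullback_P hcov, Cover4088.flat_P hcov⟩⟩

end Groth.Agent.S4088
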