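import Groth.Statements.S4090
import Groth.Agent.GrpdLib.Cover4090.Main
import Groth.Agent.GrpdLib.FppfSourceDescentScheme
import Mathlib.AlgebraicGeometry.Morphisms.LocalFlatDescent

set_option autoImplicit false
universe u
open CategoryTheory MonoidalCategory CartesianMonoidalCategory MonObj GrpObj AlgebraicGeometry CategoryTheory.Limits
open GrpQ

namespace Groth.Agent.S4090

set_option backward.isDefEq.respectTransparency false

open Groth.Agent.GrpdLib

/-- With the object scheme assumed to admit an S-immersion into some P^n_S, a special case of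
quasi-projective: let S be any scheme and (U, R, s, t, c) a groupoid scheme over S with U → S of
finite presentation, U admitting a quasi-compact immersion into P^n_S over S, s proper, flat and of
finite presentation, and j = (t, s) quasi-finite. Then (t, s) has a coequalizer p : U → Y in schemes
with q : Y → S factoring U → S; p is surjective, open and universally closed; R → U ×_Y U is
surjective; and if j is a monomorphism then R ≅ U ×_Y U, p is flat and of finite presentation and q
is of finite presentation. -/
theorem result (S : Scheme.{u}) (G : Grpd.GroupoidScheme S)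
    [LocallyOfFinitePresentation G.pU] [QuasiCompact G.pU] [QuasiSeparated G.pU]
    (n : ℕ) (e : G.U ⟶ CohB1.ProjSpaceOver n S) [IsImmersion e] [QuasiCompact e]
    (he : e ≫ CohB1.ProjSpaceOver.toBase n S = G.pU)
    [IsProper G.s] [Flat G.s] [LocallyOfFinitePresentation G.s] [LocallyQuasiFinite G.j] [LocallyOfFiniteType G.j] :
    ∃ (Y : Scheme.{u}) (p : G.U ⟶ Y) (w : G.t ≫ p = G.s ≫ p) (q : Y ⟶ S),
      Nonempty (IsColimit (Cofork.ofπ p w)) ∧ p ≫ q = G.pU ∧ Surjective p ∧ IsOpenMap p.base ∧ UniversallyClosed p ∧
      Function.Surjective (pullback.lift G.t G.s w).base ∧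
      (Mono G.j → IsPullback G.t G.s p p ∧ Flat p ∧ LocallyOfFinitePresentation p ∧ QuasiCompact p ∧ QuasiSeparated p ∧
        LocallyOfFinitePresentation q ∧ QuasiCompact q ∧ QuasiSeparated q) := by
  have hcov := Cover4090.exists_goodOpen G n e he
  let q : Cover4088.glued G ⟶ S :=
    (Cover4088.isColimitP hcov).desc (Cofork.ofπ G.pU (by rw [G.t_over, G.s_over]))
  have hq : Cover4088.P hcov ≫ q = G.pU := Cofork.IsColimit.π_desc (Cover4088.isColimitP hcov)
  have := Cover4088.surjective_P hcov
  have := Cover4088.universallyClosed_P hcov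
  refine ⟨_, Cover4088.P hcov, Cover4088.P_condition hcov, q, ⟨Cover4088.isColimitP hcov⟩, hq,
    inferInstance, Cover4088.isOpenMap_P hcov, inferInstance, Cover4088.surjective_lift_P hcov, fun _ => ?_⟩
  have hpb := Cover4088.isPullback_P hcov
  have hfl : Flat (Cover4088.P hcov) := Cover4088.flat_P hcov
  have : LocallyOfFinitePresentation G.t :=
    GrpdLib.t_property G (P := @LocallyOfFinitePresentation.{u}) inferInstance
  have hlfp : LocallyOfFinitePresentation (Cover4088.P hcov) :=
    MorphismProperty.of_isPullback_of_descendsAlong (P := @LocallyOfFinitePresentation)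
      (Q := @Surjective ⊓ @Flat ⊓ @QuasiCompact) hpb ⟨⟨inferInstance, hfl⟩, inferInstance⟩ inferInstance
  have : QuasiSeparated (Cover4088.P hcov ≫ q) := by rw [hq]; infer_instance
  have : QuasiCompact (Cover4088.P hcov ≫ q) := by rw [hq]; infer_instance
  have : LocallyOfFinitePresentation (Cover4088.P hcov ≫ q) := by rw [hq]; infer_instance
  exact ⟨hpb, hfl, hlfp, inferInstance, QuasiSeparated.of_comp _ q,
    FppfSourceDescent.locallyOfFinitePresentation_of_comp_fppf (Cover4088.P hcov) q,
    FppfSourceDescent.quasiCompact_of_comp_surjective (Cover4088.P hcov) q,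
    FppfSourceDescent.quasiSeparated_of_comp_surjective (Cover4088.P hcov) q⟩

end Groth.Agent.S4090
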