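import Groth.Statements.S4092
import Groth.Agent.GrpdLib.EpiMonoFactor

set_option autoImplicit false
universe u
open CategoryTheory MonoidalCategory CartesianMonoidalCategory MonObj GrpObj AlgebraicGeometry CategoryTheory.Limits
open GrpQ

namespace Groth.Agent.S4092

/-- Let f : X → Y be a morphism of schemes which is locally of finite presentation. Then f factors as f
= f'' ∘ f' with f' : X → X' surjective, flat and locally of finite presentation and f'' : X' → Y a
monomorphism if and only if the first projection X ×_Y X → X is flat. Moreover two such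
factorisations are isomorphic: there is an isomorphism of the middle schemes compatible with both
maps. -/
theorem result {X Y : Scheme.{u}} (f : X ⟶ Y) [LocallyOfFinitePresentation f] :
    ((∃ (X' : Scheme.{u}) (f' : X ⟶ X') (f'' : X' ⟶ Y),
        Surjective f' ∧ Flat f' ∧ LocallyOfFinitePresentation f' ∧ Mono f'' ∧ f' ≫ f'' = f) ↔
      Flat (pullback.fst f f)) ∧
    (∀ (X₁ X₂ : Scheme.{u}) (g₁ : X ⟶ X₁) (h₁ : X₁ ⟶ Y) (g₂ : X ⟶ X₂) (h₂ : X₂ ⟶ Y),
      Surjective g₁ → Flat g₁ → LocallyOfFinitePresentation g₁ → Mono h₁ → g₁ ≫ h₁ = f →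
      Surjective g₂ → Flat g₂ → LocallyOfFinitePresentation g₂ → Mono h₂ → g₂ ≫ h₂ = f →
      ∃ φ : X₁ ≅ X₂, g₁ ≫ φ.hom = g₂ ∧ φ.hom ≫ h₂ = h₁) := by
  refine ⟨⟨?_, fun h => GrpdLib.EpiMonoFactor.exists_factor f h⟩, ?_⟩
  · rintro ⟨X', f', f'', hs, hf, hp, hm, rfl⟩
    let e : pullback (f' ≫ f'') (f' ≫ f'') ≅ pullback f' f' :=
      { hom := pullback.lift (pullback.fst _ _) (pullback.snd _ _) (by
          rw [← cancel_mono f'', Category.assoc, Category.assoc]; exact pullback.condition)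
        inv := pullback.lift (pullback.fst _ _) (pullback.snd _ _) (by rw [pullback.condition_assoc])
        hom_inv_id := by
          apply pullback.hom_ext <;> simp [pullback.lift_fst, pullback.lift_snd]
        inv_hom_id := by
          apply pullback.hom_ext <;> simp [pullback.lift_fst, pullback.lift_snd] }
    rw [show pullback.fst (f' ≫ f'') (f' ≫ f'') = e.hom ≫ pullback.fst f' f' from
      (pullback.lift_fst _ _ _).symm]
    have : IsIso e.hom := e.isIso_hom
    exact MorphismProperty.comp_mem _ _ _ (MorphismProperty.of_isIso @Flat e.hom)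
      (MorphismProperty.pullback_fst f' f' hf)
  · intro X₁ X₂ g₁ h₁ g₂ h₂ _ _ _ _ e₁ _ _ _ _ e₂
    have k₁₂ : ∀ {Z : Scheme.{u}} (a b : Z ⟶ X), a ≫ g₁ = b ≫ g₁ → a ≫ g₂ = b ≫ g₂ := fun a b h => by
      rw [← cancel_mono h₂, Category.assoc, Category.assoc, e₂, ← e₁, reassoc_of% h]
    have k₂₁ : ∀ {Z : Scheme.{u}} (a b : Z ⟶ X), a ≫ g₂ = b ≫ g₂ → a ≫ g₁ = b ≫ g₁ := fun a b h => by
      rw [← cancel_mono h₁, Category.assoc, Category.assoc, e₁, ← e₂, reassoc_of% h]
    let d := EffectiveEpi.desc g₁ g₂ k₁₂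
    let d' := EffectiveEpi.desc g₂ g₁ k₂₁
    have hd : g₁ ≫ d = g₂ := EffectiveEpi.fac _ _ _
    have hd' : g₂ ≫ d' = g₁ := EffectiveEpi.fac _ _ _
    refine ⟨⟨d, d', ?_, ?_⟩, hd, ?_⟩
    · rw [← cancel_epi g₁, reassoc_of% hd, hd', Category.comp_id]
    · rw [← cancel_epi g₂, reassoc_of% hd', hd, Category.comp_id]
    · rw [← cancel_epi g₁, reassoc_of% hd, e₂, e₁]

end Groth.Agent.S4092
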