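import Groth.Statements.S4095
import Groth.Agent.GrpdLib.DenseSat
import Groth.Agent.GrpdLib.ActionGrpd

set_option autoImplicit false
universe u
open CategoryTheory MonoidalCategory CartesianMonoidalCategory MonObj GrpObj AlgebraicGeometry CategoryTheory.Limits
open GrpQ

namespace Groth.Agent.S4095

set_option backward.isDefEq.respectTransparency false

/-- Let S be noetherian, G an S-group scheme flat and of finite type over S acting on an S-scheme X of
finite type, with action d₀ : G ×_S X → X and projection d₁, and suppose the stabilizer F of the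
diagonal (the pullback of (d₀, d₁) : G ×_S X → X ×_S X along the diagonal) is quasi-finite over X.
Then there is a dense open U of X, saturated (d₀⁻¹(U) = d₁⁻¹(U)), such that the pair d₀|, d₁| :
d₁⁻¹(U) ⇉ U has a coequalizer p : U → V in schemes, with V of finite presentation over S and p
surjective, open and of finite presentation, and d₁⁻¹(U) → U ×_V U surjective; if moreover G acts
freely ((d₀, d₁) a monomorphism) then d₁⁻¹(U) ≅ U ×_V U via (d₀, d₁) and p is faithfully flat (U is
a G-torsor over V for the fppf topology). -/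
theorem result (S : Scheme.{u}) [IsNoetherian S] (G X : Over S) [GrpObj G]
    [Flat G.hom] [LocallyOfFiniteType G.hom] [QuasiCompact G.hom] [LocallyOfFiniteType X.hom] [QuasiCompact X.hom]
    (a : AlgGrp.Action G X)
    (hF : LocallyQuasiFinite (pullback.snd (lift a.act (snd G X)) (lift (𝟙 X) (𝟙 X))).left) :
    ∃ (U : X.left.Opens) (hU : a.act.left ⁻¹ᵁ U = (snd G X).left ⁻¹ᵁ U), Dense (U : Set X.left) ∧
      ∃ (V : Scheme.{u}) (p : (U : Scheme.{u}) ⟶ V)
        (w : a.act.left.resLE U ((snd G X).left ⁻¹ᵁ U) hU.ge ≫ p = ((snd G X).left ∣_ U) ≫ p) (q : V ⟶ S),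
        Nonempty (IsColimit (Cofork.ofπ p w)) ∧ p ≫ q = U.ι ≫ X.hom ∧
        Surjective p ∧ IsOpenMap p.base ∧ LocallyOfFinitePresentation p ∧
        LocallyOfFinitePresentation q ∧ QuasiCompact q ∧ QuasiSeparated q ∧
        Function.Surjective (pullback.lift (a.act.left.resLE U ((snd G X).left ⁻¹ᵁ U) hU.ge) ((snd G X).left ∣_ U) w).base ∧
        (Mono (lift a.act (snd G X)) →
          IsPullback (a.act.left.resLE U ((snd G X).left ⁻¹ᵁ U) hU.ge) ((snd G X).left ∣_ U) p p ∧ Flat p) := by
  have hs₁ : Flat (snd G X).left := GrpScheme.Basic.snd_left_mem @Flat inferInstance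
  have hs₂ : LocallyOfFiniteType (snd G X).left :=
    GrpScheme.Basic.snd_left_mem @LocallyOfFiniteType inferInstance
  have hs₃ : QuasiCompact (snd G X).left := GrpScheme.Basic.snd_left_mem @QuasiCompact inferInstance
  have hR₁ : LocallyOfFiniteType (G ⊗ X).hom := by
    rw [← Over.w (snd G X)]; infer_instance
  have hR₂ : QuasiCompact (G ⊗ X).hom := by
    rw [← Over.w (snd G X)]; infer_instance
  have : IsLocallyNoetherian (G ⊗ X).left := LocallyOfFiniteType.isLocallyNoetherian (G ⊗ X).hom
  have : CompactSpace (G ⊗ X).left := QuasiCompact.compactSpace_of_compactSpace (G ⊗ X).hom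
  have : IsNoetherian (G ⊗ X).left := {}
  have : LocallyOfFiniteType (lift a.act (snd G X)).left := by
    have : LocallyOfFiniteType ((lift a.act (snd G X)).left ≫ (X ⊗ X).hom) := by
      rw [Over.w]; exact hR₁
    exact locallyOfFiniteType_of_comp _ (X ⊗ X).hom
  let H := GrpdLib.ActionGrpd.grpd a
  have : Flat H.s := hs₁
  have : LocallyOfFiniteType H.s := hs₂
  have : QuasiCompact H.s := hs₃
  have : LocallyOfFiniteType H.pU := ‹LocallyOfFiniteType X.hom›
  have : QuasiCompact H.pU := ‹QuasiCompact X.hom›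
  have : LocallyQuasiFinite H.j := by
    rw [GrpdLib.ActionGrpd.grpd_j]; exact GrpdLib.ActionGrpd.lqf_graph a hF
  have : LocallyOfFiniteType H.j := by
    rw [GrpdLib.ActionGrpd.grpd_j]; assumption
  obtain ⟨W, hW, hd, V, p, w, q, h1, h2, h3, h4, h5, h6, h7, h8, h9, h10⟩ :=
    GrpdLib.DenseSat.exists_dense_saturated_open_quotient H
  exact ⟨W, hW, hd, V, p, w, q, h1, h2, h3, h4, h5, h6, h7, h8, h9,
    fun hm => h10 (@GrpdLib.ActionGrpd.mono_j _ _ _ _ a hm)⟩

end Groth.Agent.S4095
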