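import Groth.Statements.S4096
import Groth.Agent.S4092
import Groth.Agent.GrpScheme.Basic
import Groth.Agent.GrpdLib.GrpOver
import Groth.Agent.GrpdLib.FppfSourceDescentScheme

set_option autoImplicit false
universe u
open CategoryTheory MonoidalCategory CartesianMonoidalCategory MonObj GrpObj AlgebraicGeometry CategoryTheory.Limits
open GrpQ

namespace Groth.Agent.S4096

/-- Let S be noetherian, G an S-group scheme flat and of finite type acting on an S-scheme X of finite
type, d = (d₀, d₁) : G ×_S X → X ×_S X, and F the stabilizer of the diagonal. Then a) d factors as ψ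
: G ×_S X → Y surjective, flat and locally of finite presentation followed by a monomorphism τ : Y →
X ×_S X (Y represents the sheaf image of d) if and only if F is flat over X; b) in that case the two
morphisms Y → X induced by the projections are surjective, flat and of finite presentation. -/
theorem result (S : Scheme.{u}) [IsNoetherian S] (G X : Over S) [GrpObj G]
    [Flat G.hom] [LocallyOfFiniteType G.hom] [QuasiCompact G.hom] [LocallyOfFiniteType X.hom] [QuasiCompact X.hom]
    (a : AlgGrp.Action G X) :
    ((∃ (Y : Over S) (ψ : G ⊗ X ⟶ Y) (τ : Y ⟶ X ⊗ X), ψ ≫ τ = lift a.act (snd G X) ∧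
        Surjective ψ.left ∧ Flat ψ.left ∧ LocallyOfFinitePresentation ψ.left ∧ Mono τ) ↔
      Flat (pullback.snd (lift a.act (snd G X)) (lift (𝟙 X) (𝟙 X))).left) ∧
    (∀ (Y : Over S) (ψ : G ⊗ X ⟶ Y) (τ : Y ⟶ X ⊗ X), ψ ≫ τ = lift a.act (snd G X) →
      Surjective ψ.left → Flat ψ.left → LocallyOfFinitePresentation ψ.left → Mono τ →
      (Surjective (τ ≫ fst X X).left ∧ Flat (τ ≫ fst X X).left ∧ LocallyOfFinitePresentation (τ ≫ fst X X).left ∧
        QuasiCompact (τ ≫ fst X X).left ∧ QuasiSeparated (τ ≫ fst X X).left ∧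
       Surjective (τ ≫ snd X X).left ∧ Flat (τ ≫ snd X X).left ∧ LocallyOfFinitePresentation (τ ≫ snd X X).left ∧
        QuasiCompact (τ ≫ snd X X).left ∧ QuasiSeparated (τ ≫ snd X X).left)) := by
  let d := lift a.act (snd G X)
  let e := lift (𝟙 X) (𝟙 X)
  have : IsLocallyNoetherian X.left := LocallyOfFiniteType.isLocallyNoetherian X.hom
  have : LocallyOfFinitePresentation G.hom := inferInstance
  have hsq : IsPullback (pullback.fst d d).left (pullback.snd d d).left d.left d.left :=
    GrpdLib.GrpOver.isPullback_left (IsPullback.of_hasPullback d d)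
  have hflat : Flat (pullback.fst d.left d.left) ↔ Flat (pullback.snd d e).left := by
    have e0 : Flat (pullback.fst d d).left ↔ Flat (pullback.fst d.left d.left) := by
      rw [← hsq.isoPullback_hom_fst]
      exact MorphismProperty.cancel_left_of_respectsIso @Flat _ _
    rw [← e0]
    let pF := pullback.snd d e
    have hF₁ : pullback.fst d e ≫ a.act = pF := by
      have h := congr($(pullback.condition (f := d) (g := e)) ≫ fst X X)
      simpa [d, e, pF] using h
    have hF₂ : pullback.fst d e ≫ snd G X = pF := by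
      have h := congr($(pullback.condition (f := d) (g := e)) ≫ snd X X)
      simpa [d, e, pF] using h
    let p := pullback.fst d d
    let p' := pullback.snd d d
    have hK₁ : GrpScheme.Basic.smul a (p ≫ fst G X) (p ≫ snd G X) =
        GrpScheme.Basic.smul a (p' ≫ fst G X) (p' ≫ snd G X) := by
      have h := congr($(pullback.condition (f := d) (g := d)) ≫ fst X X)
      simp only [GrpScheme.Basic.smul, ← comp_lift_assoc, lift_fst_snd, Category.comp_id]
      simpa [d, p, p'] using h
    have hK₂ : p ≫ snd G X = p' ≫ snd G X := by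
      have h := congr($(pullback.condition (f := d) (g := d)) ≫ snd X X)
      simpa [d, p, p'] using h
    have hm : lift ((p ≫ fst G X)⁻¹ * (p' ≫ fst G X)) (p ≫ snd G X) ≫ d = (p ≫ snd G X) ≫ e := by
      simp only [d, e, comp_lift, lift_snd, Category.comp_id]
      congr 1
      show GrpScheme.Basic.smul a _ _ = _
      rw [GrpScheme.Basic.mul_smul']
      conv_lhs => enter [3]; rw [hK₂, ← hK₁]
      rw [GrpScheme.Basic.inv_smul_smul']
    let m := pullback.lift (lift ((p ≫ fst G X)⁻¹ * (p' ≫ fst G X)) (p ≫ snd G X)) (p ≫ snd G X) hm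
    have hmfst : m ≫ pullback.fst d e = lift ((p ≫ fst G X)⁻¹ * (p' ≫ fst G X)) (p ≫ snd G X) :=
      pullback.lift_fst _ _ _
    have big : IsPullback p m (snd G X) pF := by
      refine IsPullback.of_isLimit' ⟨(pullback.lift_snd _ _ _).symm⟩ (PullbackCone.IsLimit.mk _
        (fun c => pullback.lift c.fst (lift ((c.fst ≫ fst G X) * (c.snd ≫ pullback.fst d e ≫ fst G X))
          (c.fst ≫ snd G X)) ?_) (fun c => pullback.lift_fst _ _ _) (fun c => ?_) (fun c n h₁ h₂ => ?_))
      · simp only [d, comp_lift, lift_snd]
        congr 1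
        have h₁ : GrpScheme.Basic.smul a (c.snd ≫ pullback.fst d e ≫ fst G X) (c.fst ≫ snd G X) =
            c.fst ≫ snd G X := by
          have hc : c.fst ≫ snd G X = (c.snd ≫ pullback.fst d e) ≫ snd G X := by
            rw [Category.assoc, hF₂]
            exact c.condition
          rw [hc, ← Category.assoc c.snd]
          simp only [GrpScheme.Basic.smul, ← comp_lift_assoc, ← comp_lift, lift_fst_snd, Category.comp_id]
          rw [Category.assoc, Category.assoc, hF₁, hF₂]
        show _ = GrpScheme.Basic.smul a _ _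
        rw [GrpScheme.Basic.mul_smul', h₁]
        simp [GrpScheme.Basic.smul, ← comp_lift_assoc]
      · refine pullback.hom_ext ?_ ?_
        · rw [Category.assoc, hmfst, comp_lift]
          refine CartesianMonoidalCategory.hom_ext _ _ ?_ ?_
          · simp only [lift_fst, MonObj.comp_mul, GrpObj.comp_inv, Category.assoc, p, p',
              pullback.lift_fst_assoc, pullback.lift_snd_assoc, inv_mul_cancel_left]
          · simp only [lift_snd, Category.assoc, p, pullback.lift_fst_assoc]
            rw [hF₂]
            exact c.condition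
        · rw [Category.assoc]
          simp only [m, p, pullback.lift_snd, pullback.lift_fst_assoc]
          exact c.condition
      · refine pullback.hom_ext (h₁.trans (pullback.lift_fst _ _ _).symm) ?_
        rw [pullback.lift_snd]
        refine CartesianMonoidalCategory.hom_ext _ _ ?_ ?_
        · rw [lift_fst, ← h₁, ← h₂]
          simp only [Category.assoc, reassoc_of% hmfst, lift_fst, MonObj.comp_mul, GrpObj.comp_inv,
            mul_inv_cancel_left, p']
        · rw [lift_snd, ← h₁]
          simp only [Category.assoc]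
          rw [hK₂]
    constructor
    · intro h
      let ε : X ⟶ G ⊗ X := lift 1 (𝟙 X)
      have hε : ε ≫ d = e := by
        simp only [ε, d, e, comp_lift, lift_snd]
        congr 1
        exact GrpScheme.Basic.one_smul' a (𝟙 X)
      have hεs : ε ≫ snd G X = 𝟙 X := lift_snd _ _
      let n : pullback d e ⟶ pullback d d := pullback.lift (pF ≫ ε) (pullback.fst d e) (by
        rw [Category.assoc, hε]; exact pullback.condition.symm)
      have hnm : n ≫ m = 𝟙 _ := by
        refine pullback.hom_ext ?_ ?_
        · rw [Category.assoc, hmfst, Category.id_comp]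
          refine CartesianMonoidalCategory.hom_ext _ _ ?_ ?_
          · simp only [Category.assoc, lift_fst, MonObj.comp_mul, GrpObj.comp_inv]
            simp [n, p, p', ε, pullback.lift_fst_assoc, pullback.lift_snd_assoc]
          · simp only [Category.assoc, lift_snd]
            simp only [n, p, pullback.lift_fst_assoc, Category.assoc, hεs, Category.comp_id]
            exact hF₂.symm
        · simp only [n, m, p, Category.assoc, pullback.lift_snd, pullback.lift_fst_assoc, hεs,
            Category.comp_id, Category.id_comp]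
          rfl
      have sq : IsPullback n pF p ε := by
        refine IsPullback.of_right (h₁₂ := m) (h₂₂ := snd G X) (v₁₃ := pF) ?_ (pullback.lift_fst _ _ _) big.flip
        rw [hnm, hεs]
        exact IsPullback.of_horiz_isIso ⟨by simp⟩
      exact MorphismProperty.of_isPullback (GrpdLib.GrpOver.isPullback_left sq) h
    · intro h
      exact MorphismProperty.of_isPullback (GrpdLib.GrpOver.isPullback_left big.flip) h
  have hG : LocallyOfFiniteType (G ⊗ X).hom :=
    inferInstanceAs (LocallyOfFiniteType (pullback.fst G.hom X.hom ≫ G.hom))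
  have : LocallyOfFiniteType (X ⊗ X).hom :=
    inferInstanceAs (LocallyOfFiniteType (pullback.fst X.hom X.hom ≫ X.hom))
  have : IsLocallyNoetherian (X ⊗ X).left := LocallyOfFiniteType.isLocallyNoetherian (X ⊗ X).hom
  have : LocallyOfFiniteType (d.left ≫ (X ⊗ X).hom) := by rw [Over.w d]; exact hG
  have : LocallyOfFiniteType d.left := locallyOfFiniteType_of_comp d.left (X ⊗ X).hom
  have : LocallyOfFinitePresentation d.left :=
    (@LocallyOfFinitePresentation.iff_locallyOfFiniteType _ _ d.left ‹_›).mpr ‹_›
  refine ⟨⟨?_, fun h => ?_⟩, ?_⟩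
  · rintro ⟨Y, ψ, τ, hψ, h₁, h₂, h₃, hτ⟩
    exact hflat.mp (((S4092.result d.left).1).mp ⟨Y.left, ψ.left, τ.left, h₁, h₂, h₃,
      (Over.forget S).map_mono τ, congr(($hψ).left)⟩)
  · obtain ⟨Y', ψ', τ', h₁, h₂, h₃, hτ, e'⟩ :=
      ((S4092.result d.left).1).mpr (hflat.mpr h)
    let ψ : G ⊗ X ⟶ Over.mk (τ' ≫ (X ⊗ X).hom) := Over.homMk ψ' (by
      show ψ' ≫ τ' ≫ (X ⊗ X).hom = _
      rw [reassoc_of% e', Over.w d])
    let τ : Over.mk (τ' ≫ (X ⊗ X).hom) ⟶ X ⊗ X := Over.homMk τ' rfl
    exact ⟨_, ψ, τ, Over.OverMorphism.ext e', h₁, h₂, h₃,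
      (Over.forget S).mono_of_mono_map (show Mono τ' from hτ)⟩
  · intro Y ψ τ hψ h₁ h₂ h₃ hτ
    have hsnd : ψ ≫ τ ≫ snd X X = snd G X := by rw [reassoc_of% hψ, lift_snd]
    have hfst : ψ ≫ τ ≫ fst X X = a.act := by rw [reassoc_of% hψ, lift_fst]
    have : Mono τ.left := (Over.forget S).map_mono τ
    have : IsSeparated τ.left := inferInstance
    have key : ∀ (π : X ⊗ X ⟶ X) (b : G ⊗ X ⟶ X), ψ ≫ τ ≫ π = b →
        QuasiSeparated π.left → Surjective b.left → Flat b.left → LocallyOfFinitePresentation b.left →
        QuasiCompact b.left →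
        Surjective (τ ≫ π).left ∧ Flat (τ ≫ π).left ∧ LocallyOfFinitePresentation (τ ≫ π).left ∧
          QuasiCompact (τ ≫ π).left ∧ QuasiSeparated (τ ≫ π).left := by
      intro π b hb _ _ _ _ _
      have he : ψ.left ≫ (τ ≫ π).left = b.left := congr(($hb).left)
      have : Surjective (ψ.left ≫ (τ ≫ π).left) := by rw [he]; infer_instance
      have : Flat (ψ.left ≫ (τ ≫ π).left) := by rw [he]; infer_instance
      have : LocallyOfFinitePresentation (ψ.left ≫ (τ ≫ π).left) := by rw [he]; infer_instance
      have : QuasiCompact (ψ.left ≫ (τ ≫ π).left) := by rw [he]; infer_instance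
      refine ⟨Surjective.of_comp ψ.left _, ?_,
        GrpdLib.FppfSourceDescent.locallyOfFinitePresentation_of_comp_fppf ψ.left _,
        GrpdLib.FppfSourceDescent.quasiCompact_of_comp_surjective ψ.left _,
        inferInstanceAs (QuasiSeparated (τ.left ≫ π.left))⟩
      exact GrpdLib.FppfSourceDescent.of_comp_fppf (P := @Flat)
        (fun _ _ _ _ _ _ f g _ hg hh => AlgSpCov.flat_of_comp_of_faithfullyFlat f g hg hh) ψ.left _
        inferInstance
    have hsurj : Surjective G.hom := ⟨fun s => ⟨(η[G]).left s, congr($(Over.w η[G]) s)⟩⟩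
    have hXqs : QuasiSeparated X.hom := inferInstance
    obtain ⟨a₁, a₂, a₃, a₄, a₅⟩ := key (fst X X) a.act hfst
      (MorphismProperty.pullback_fst X.hom X.hom hXqs)
      (GrpScheme.Basic.act_mem @Surjective a hsurj) (GrpScheme.Basic.act_mem @Flat a inferInstance)
      (GrpScheme.Basic.act_mem @LocallyOfFinitePresentation a inferInstance)
      (GrpScheme.Basic.act_mem @QuasiCompact a inferInstance)
    obtain ⟨b₁, b₂, b₃, b₄, b₅⟩ := key (snd X X) (snd G X) hsnd
      (MorphismProperty.pullback_snd X.hom X.hom hXqs)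
      (GrpScheme.Basic.snd_left_mem @Surjective hsurj) (GrpScheme.Basic.snd_left_mem @Flat inferInstance)
      (GrpScheme.Basic.snd_left_mem @LocallyOfFinitePresentation inferInstance)
      (GrpScheme.Basic.snd_left_mem @QuasiCompact inferInstance)
    exact ⟨a₁, a₂, a₃, a₄, a₅, b₁, b₂, b₃, b₄, b₅⟩

end Groth.Agent.S4096
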