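import Groth.Statements.S4097
import Groth.Agent.GrpdLib.DenseQuot
import Groth.Agent.GrpdLib.ActionStab
import Groth.Agent.S4096
import Groth.Agent.S0414

set_option autoImplicit false
universe u
open CategoryTheory MonoidalCategory CartesianMonoidalCategory MonObj GrpObj AlgebraicGeometry CategoryTheory.Limits
open GrpQ

namespace Groth.Agent.S4097

set_option backward.isDefEq.respectTransparency false
set_option maxHeartbeats 1600000

/-- Let S be noetherian, G an S-group scheme flat and of finite type acting on an S-scheme X of finite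
type, and suppose that the stabilizer F of the diagonal is flat over X, or that X is reduced. Then
there is a dense open U of X, saturated for the action, and a coequalizer p : U → V in schemes of
the induced pair d₀|, d₁| : d₁⁻¹(U) ⇉ U, with V of finite type over S and p surjective, flat and of
finite presentation. -/
theorem result (S : Scheme.{u}) [IsNoetherian S] (G X : Over S) [GrpObj G]
    [Flat G.hom] [LocallyOfFiniteType G.hom] [QuasiCompact G.hom] [LocallyOfFiniteType X.hom] [QuasiCompact X.hom]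
    (a : AlgGrp.Action G X)
    (hF : Flat (pullback.snd (lift a.act (snd G X)) (lift (𝟙 X) (𝟙 X))).left ∨ IsReduced X.left) :
    ∃ (U : X.left.Opens) (hU : a.act.left ⁻¹ᵁ U = (snd G X).left ⁻¹ᵁ U), Dense (U : Set X.left) ∧
      ∃ (V : Scheme.{u}) (p : (U : Scheme.{u}) ⟶ V)
        (w : a.act.left.resLE U ((snd G X).left ⁻¹ᵁ U) hU.ge ≫ p = ((snd G X).left ∣_ U) ≫ p) (q : V ⟶ S),
        Nonempty (IsColimit (Cofork.ofπ p w)) ∧ p ≫ q = U.ι ≫ X.hom ∧
        Surjective p ∧ Flat p ∧ LocallyOfFinitePresentation p ∧ LocallyOfFiniteType q ∧ QuasiCompact q := by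
  classical
  let d := lift a.act (snd G X)
  let e := lift (𝟙 X) (𝟙 X)
  have : IsLocallyNoetherian X.left := LocallyOfFiniteType.isLocallyNoetherian X.hom
  have : LocallyOfFinitePresentation G.hom := inferInstance
  have hsG : Surjective G.hom := ⟨fun s => ⟨(η[G]).left s, congr($(Over.w η[G]) s)⟩⟩
  have : CompactSpace X.left := QuasiCompact.compactSpace_of_compactSpace X.hom
  have : QuasiSeparated X.hom := inferInstance
  -- an invariant dense open with flat stabilizer
  obtain ⟨U0, hU0, hfl, hinv⟩ : ∃ U0 : X.left.Opens, Dense (U0 : Set X.left) ∧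
      Flat ((pullback.snd d e).left ∣_ U0) ∧ a.act.left ⁻¹ᵁ U0 = (snd G X).left ⁻¹ᵁ U0 := by
    obtain ⟨W, hW, hinv, hmax⟩ := GrpdLib.ActionStab.exists_invariant_flat_open a
    refine ⟨W, ?_, hW, hinv⟩
    rcases hF with hF | hF
    · have hle : (⊤ : X.left.Opens) ≤ W := hmax _ inferInstance
      exact dense_univ.mono fun x _ => hle trivial
    · have : LocallyOfFiniteType (G ⊗ X).hom :=
        inferInstanceAs (LocallyOfFiniteType (pullback.fst G.hom X.hom ≫ G.hom))
      have : QuasiCompact (G ⊗ X).hom :=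
        inferInstanceAs (QuasiCompact (pullback.fst G.hom X.hom ≫ G.hom))
      have : QuasiSeparated (X ⊗ X).hom :=
        inferInstanceAs (QuasiSeparated (pullback.fst X.hom X.hom ≫ X.hom))
      have : LocallyOfFiniteType (d.left ≫ (X ⊗ X).hom) := by rw [Over.w d]; infer_instance
      have : LocallyOfFiniteType d.left := locallyOfFiniteType_of_comp d.left (X ⊗ X).hom
      have : QuasiCompact (d.left ≫ (X ⊗ X).hom) := by rw [Over.w d]; infer_instance
      have : QuasiCompact d.left := QuasiCompact.of_comp d.left (X ⊗ X).hom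
      have sq := GrpdLib.GrpOver.isPullback_left (IsPullback.of_hasPullback d e)
      have : LocallyOfFiniteType (pullback.snd d e).left :=
        MorphismProperty.of_isPullback sq (inferInstance : LocallyOfFiniteType d.left)
      have : QuasiCompact (pullback.snd d e).left :=
        MorphismProperty.of_isPullback sq (inferInstance : QuasiCompact d.left)
      obtain ⟨V, hV, hVf, -⟩ := Groth.Agent.S0414.result (pullback.snd d e).left
      exact hV.mono (hmax V hVf)
  -- the restricted action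
  let X0 : Over S := Over.mk (U0.ι ≫ X.hom)
  let j : X0 ⟶ X := Over.homMk U0.ι rfl
  have : IsOpenImmersion j.left := inferInstanceAs (IsOpenImmersion U0.ι)
  have : Mono j := (Over.forget S).mono_of_mono_map (inferInstanceAs (Mono j.left))
  have : LocallyOfFiniteType X0.hom := inferInstanceAs (LocallyOfFiniteType (U0.ι ≫ X.hom))
  have : IsLocallyNoetherian X0.left := LocallyOfFiniteType.isLocallyNoetherian X0.hom
  have : QuasiCompact X0.hom := inferInstanceAs (QuasiCompact (U0.ι ≫ X.hom))
  have hr0 : Set.range ((G ◁ j) ≫ a.act).left ⊆ Set.range j.left := by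
    rintro _ ⟨p, rfl⟩
    show _ ∈ Set.range U0.ι
    rw [Scheme.Opens.range_ι]
    show (G ◁ j).left p ∈ a.act.left ⁻¹ᵁ U0
    rw [hinv]
    show ((G ◁ j) ≫ snd G X).left p ∈ U0
    rw [whiskerLeft_snd]
    exact ((snd G X0).left p).2
  let act0 : G ⊗ X0 ⟶ X0 := Over.homMk (IsOpenImmersion.lift j.left ((G ◁ j) ≫ a.act).left hr0) (by
    rw [← Over.w j, IsOpenImmersion.lift_fac_assoc, Over.w ((G ◁ j) ≫ a.act)])
  have hact0 : act0 ≫ j = (G ◁ j) ≫ a.act := Over.OverMorphism.ext (IsOpenImmersion.lift_fac _ _ _)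
  let a0 : AlgGrp.Action G X0 :=
    { act := act0
      one_act := by
        rw [← cancel_mono j, Category.assoc, hact0, ← whisker_exchange_assoc, a.one_act, leftUnitor_naturality]
      mul_act := by
        rw [← cancel_mono j, Category.assoc, hact0, Category.assoc, Category.assoc, hact0,
          ← whisker_exchange_assoc, a.mul_act, ← MonoidalCategory.whiskerLeft_comp_assoc, hact0,
          MonoidalCategory.whiskerLeft_comp_assoc, associator_naturality_right_assoc] }
  let d0 := lift a0.act (snd G X0)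
  let e0 := lift (𝟙 X0) (𝟙 X0)
  have hF0 : Flat (pullback.snd d0 e0).left := by
    have hd : (G ◁ j) ≫ d = d0 ≫ (j ⊗ₘ j) := by
      simp only [d, d0, lift_map, comp_lift, whiskerLeft_snd, a0, hact0]
    have he : j ≫ e = e0 ≫ (j ⊗ₘ j) := by simp [e, e0, lift_map]
    let n : pullback d0 e0 ⟶ pullback d e := pullback.lift (pullback.fst d0 e0 ≫ (G ◁ j))
      (pullback.snd d0 e0 ≫ j) (by rw [Category.assoc, hd, Category.assoc, he, pullback.condition_assoc])
    have hjj : IsPullback j e0 e (j ⊗ₘ j) := by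
      refine IsPullback.of_isLimit' ⟨he⟩ (PullbackCone.IsLimit.mk _ (fun c => c.snd ≫ fst X0 X0)
        (fun c => ?_) (fun c => ?_) (fun c m h₁ h₂ => ?_))
      · have h := c.condition =≫ fst X X
        simpa [e] using h.symm
      · have h1 := c.condition =≫ fst X X
        have h2 := c.condition =≫ snd X X
        simp [e] at h1 h2
        refine CartesianMonoidalCategory.hom_ext _ _ (by simp [e0]) ?_
        rw [← cancel_mono j]
        simp [e0, ← h1, ← h2]
      · rw [← h₂]; simp [e0]
    have hdd : IsPullback (G ◁ j) d0 d (j ⊗ₘ j) := by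
      refine IsPullback.of_isLimit' ⟨hd⟩ (PullbackCone.IsLimit.mk _
        (fun c => lift (c.fst ≫ fst G X) (c.snd ≫ snd X0 X0))
        (fun c => ?_) (fun c => ?_) (fun c m h₁ h₂ => ?_))
      · have h2 := c.condition =≫ snd X X
        simp [d] at h2
        refine CartesianMonoidalCategory.hom_ext _ _ (by simp) ?_
        simp [h2]
      · have h1 := c.condition =≫ fst X X
        have h2 := c.condition =≫ snd X X
        simp [d] at h1 h2
        refine CartesianMonoidalCategory.hom_ext _ _ ?_ (by simp [d0])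
        rw [← cancel_mono j]
        simp only [d0, a0, Category.assoc, lift_fst, hact0, lift_whiskerLeft_assoc, ← h2, ← comp_lift_assoc,
          lift_fst_snd, Category.id_comp]
        exact h1
      · rw [← h₁, ← h₂]
        exact CartesianMonoidalCategory.hom_ext _ _ (by simp) (by simp [d0])
    have sq : IsPullback n (pullback.snd d0 e0) (pullback.snd d e) j := by
      refine IsPullback.of_right ?_ (pullback.lift_snd _ _ _) (IsPullback.of_hasPullback d e).flip.flip
      have h := ((IsPullback.of_hasPullback d0 e0).paste_horiz hdd)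
      rw [← he] at h
      simpa only [n, pullback.lift_fst] using h
    have sq' := GrpdLib.GrpOver.isPullback_left sq
    have hm := (isPullback_morphismRestrict (pullback.snd d e).left U0).flip
    rw [← IsPullback.isoIsPullback_hom_snd _ _ sq' hm]
    exact (MorphismProperty.cancel_left_of_respectsIso @Flat _ _).2 hfl
  obtain ⟨h4096, hprops⟩ := Groth.Agent.S4096.result S G X0 a0
  obtain ⟨R, ψ, τ, hψ, hψs, hψf, hψp, hτ⟩ := h4096.2 hF0
  obtain ⟨_, _, _, _, _, hs1, hs2, hs3, hs4, -⟩ := hprops R ψ τ hψ hψs hψf hψp hτ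
  let t := τ ≫ fst X0 X0
  let s := τ ≫ snd X0 X0
  have hψt : ψ ≫ t = a0.act := by rw [← Category.assoc, hψ, lift_fst]
  have hψs' : ψ ≫ s = snd G X0 := by rw [← Category.assoc, hψ, lift_snd]
  have hinj : ∀ {T : Over S} (r r' : T ⟶ R), r ≫ t = r' ≫ t → r ≫ s = r' ≫ s → r = r' := fun r r' h₁ h₂ => by
    rw [← cancel_mono τ]
    exact CartesianMonoidalCategory.hom_ext _ _ (by simpa [t] using h₁) (by simpa [s] using h₂)
  have hψqc : QuasiCompact ψ.left := by
    have : QuasiCompact (ψ.left ≫ s.left) := by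
      rw [← Over.comp_left, hψs']
      exact GrpScheme.Basic.snd_left_mem @QuasiCompact inferInstance
    have : QuasiSeparated (snd X0 X0).left := MorphismProperty.pullback_snd X0.hom X0.hom inferInstance
    have : Mono τ.left := (Over.forget S).map_mono τ
    have : QuasiSeparated s.left := inferInstanceAs (QuasiSeparated (τ.left ≫ (snd X0 X0).left))
    exact QuasiCompact.of_comp ψ.left s.left
  -- the relation on points
  have fwd : ∀ {T : Over S} (r : T ⟶ R), ∃ (T' : Over S) (c : T' ⟶ T) (g : T' ⟶ G),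
      (Flat c.left ∧ Surjective c.left ∧ QuasiCompact c.left) ∧
        GrpScheme.Basic.smul a0 g (c ≫ r ≫ s) = c ≫ r ≫ t := fun r => by
    obtain ⟨T', c, g, h1, h2, h3, -, hg⟩ := GrpdLib.GrpOver.exists_lift ψ r
    refine ⟨T', c, g ≫ fst G X0, ⟨h1, h2, h3⟩, ?_⟩
    rw [← reassoc_of% hg, hψs', ← reassoc_of% hg, hψt]
    simp only [GrpScheme.Basic.smul, ← comp_lift_assoc, lift_fst_snd, Category.id_comp]
  have bwd : ∀ {T T' : Over S} (x y : T ⟶ X0) (c : T' ⟶ T) (g : T' ⟶ G),
      (Flat c.left ∧ Surjective c.left ∧ QuasiCompact c.left) →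
      GrpScheme.Basic.smul a0 g (c ≫ y) = c ≫ x → ∃ r : T ⟶ R, r ≫ t = x ∧ r ≫ s = y := by
    intro T T' x y c g hc h
    obtain ⟨_, _, _⟩ := hc
    obtain ⟨r, hr, -⟩ := GrpdLib.GrpOver.existsUnique_desc c (lift g (c ≫ y) ≫ ψ) fun T'' u v huv => by
      refine hinj _ _ ?_ ?_
      · simp only [Category.assoc, hψt]
        show u ≫ GrpScheme.Basic.smul a0 g (c ≫ y) = v ≫ GrpScheme.Basic.smul a0 g (c ≫ y)
        rw [h, reassoc_of% huv]
      · simp only [Category.assoc, hψs', lift_snd, reassoc_of% huv]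
    refine ⟨r, GrpdLib.GrpOver.cancel_left c ?_, GrpdLib.GrpOver.cancel_left c ?_⟩
    · rw [reassoc_of% hr, hψt]
      exact h
    · rw [reassoc_of% hr, hψs', lift_snd]
  have heq : _root_.AlgSp.IsEqvRel s t := by
    refine ⟨fun T r r' h₁ h₂ => hinj r r' h₁ h₂, fun T => ⟨fun x => ?_, ?_, ?_⟩⟩
    · exact ⟨lift 1 x ≫ ψ, by rw [Category.assoc, hψt]; exact GrpScheme.Basic.one_smul' a0 x,
        by rw [Category.assoc, hψs', lift_snd]⟩
    · rintro x y ⟨r, rfl, rfl⟩
      obtain ⟨T', c, g, hc, hg⟩ := fwd r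
      refine bwd _ _ c g⁻¹ hc ?_
      rw [← hg, GrpScheme.Basic.inv_smul_smul']
    · rintro x y z ⟨r, rfl, rfl⟩ ⟨r', h', rfl⟩
      obtain ⟨T', c, g, ⟨_, _, _⟩, hg⟩ := fwd r
      obtain ⟨T'', c', g', ⟨_, _, _⟩, hg'⟩ := fwd (c ≫ r')
      refine bwd _ _ (c' ≫ c) ((c' ≫ g) * g') ?_ ?_
      · rw [Over.comp_left]; exact ⟨inferInstance, inferInstance, inferInstance⟩
      · rw [GrpScheme.Basic.mul_smul', Category.assoc]
        simp only [Category.assoc] at hg'
        rw [hg', ← GrpScheme.Basic.comp_smul, h', hg, Category.assoc]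
  have hqc : QuasiCompact (prod.lift t s).left := by
    let i : X0 ⨯ X0 ≅ X0 ⊗ X0 :=
      { hom := lift prod.fst prod.snd
        inv := prod.lift (fst X0 X0) (snd X0 X0)
        hom_inv_id := by apply prod.hom_ext <;> simp [prod.lift_fst, prod.lift_snd]
        inv_hom_id := by
          refine CartesianMonoidalCategory.hom_ext _ _ ?_ ?_ <;> simp [prod.lift_fst, prod.lift_snd] }
    have e : prod.lift t s = τ ≫ i.inv := by
      apply prod.hom_ext <;> simp [i, t, s, prod.lift_fst, prod.lift_snd]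
    have : QuasiCompact (τ.left ≫ (snd X0 X0).left) := hs4
    have : QuasiSeparated (snd X0 X0).left := MorphismProperty.pullback_snd X0.hom X0.hom inferInstance
    have : QuasiCompact τ.left := QuasiCompact.of_comp τ.left (snd X0 X0).left
    have : IsIso i.inv := Iso.isIso_inv i
    have : IsIso i.inv.left := GrpScheme.Basic.isIso_left _
    rw [e, Over.comp_left]
    infer_instance
  have : Flat s.left := hs2
  have : Surjective s.left := hs1
  have : LocallyOfFinitePresentation s.left := hs3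
  obtain ⟨W, g, V, p, hg, hgd, hWinv, hpf, hps, hpp, hker, hVqs⟩ :=
    GrpdLib.DenseQuot.exists_dense_open_quotient heq hqc
  -- W as an open of X
  let k : W ⟶ X := g ≫ j
  have : IsOpenImmersion k.left := inferInstanceAs (IsOpenImmersion (g.left ≫ j.left))
  let O : X.left.Opens := k.left.opensRange
  obtain ⟨actW, hactW⟩ : ∃ b : G ⊗ W ⟶ W, b ≫ g = (G ◁ g) ≫ a0.act := by
    obtain ⟨b, hb⟩ := (hWinv (G ⊗ W) ((G ◁ g) ≫ ψ)).2 ⟨snd G W, by rw [Category.assoc, hψs', whiskerLeft_snd]⟩
    exact ⟨b, by rw [hb, Category.assoc, hψt]⟩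
  have hactk : actW ≫ k = (G ◁ k) ≫ a.act := by
    rw [← Category.assoc, hactW, Category.assoc]
    show _ ≫ act0 ≫ j = _
    rw [hact0, ← MonoidalCategory.whiskerLeft_comp_assoc]
  have hrk : Set.range (G ◁ k).left = (snd G X).left ⁻¹' (O : Set X.left) := by
    refine Set.Subset.antisymm ?_ fun q hq => ?_
    · rintro _ ⟨w, rfl⟩
      refine ⟨(snd G W).left w, ?_⟩
      show (snd G W ≫ k).left w = ((G ◁ k) ≫ snd G X).left w
      rw [whiskerLeft_snd]
    · obtain ⟨w, hw⟩ := hq
      obtain ⟨w', hw', -⟩ := Scheme.exists_preimage_of_isPullback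
        ((GrpScheme.Basic.isPullback_whiskerLeft (R := G) k).map (Over.forget _)) q w hw.symm
      exact ⟨w', hw'⟩
  have hO : a.act.left ⁻¹ᵁ O = (snd G X).left ⁻¹ᵁ O := by
    have h1 : ∀ q, (snd G X).left q ∈ O → a.act.left q ∈ O := fun q hq => by
      obtain ⟨w, rfl⟩ : q ∈ Set.range (G ◁ k).left := hrk ▸ hq
      refine ⟨actW.left w, ?_⟩
      show (actW ≫ k).left w = ((G ◁ k) ≫ a.act).left w
      rw [hactk]
    let σ : G ⊗ X ⟶ G ⊗ X := lift (fst G X)⁻¹ a.act
    have hσ₂ : σ ≫ a.act = snd G X := by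
      have := GrpScheme.Basic.inv_smul_smul' a (fst G X) (snd G X)
      simpa [GrpScheme.Basic.smul, σ] using this
    refine TopologicalSpace.Opens.ext (Set.ext fun q => ⟨fun hq => ?_, h1 q⟩)
    have h2 := h1 (σ.left q) (by
      show (σ ≫ snd G X).left q ∈ O
      rw [lift_snd]
      exact hq)
    change (σ ≫ a.act).left q ∈ O at h2
    rwa [hσ₂] at h2
  refine ⟨O, hO, ?_, ?_⟩
  · have : (O : Set X.left) = U0.ι '' Set.range g.left := by
      show Set.range (g.left ≫ j.left) = _
      rw [← Set.range_comp]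
      rfl
    rw [this, dense_iff_inter_open]
    intro E hE hne
    obtain ⟨x, hx, hxU⟩ := dense_iff_inter_open.1 hU0 E hE hne
    obtain ⟨w, hw, hw'⟩ := dense_iff_inter_open.1 hgd (U0.ι ⁻¹' E) (hE.preimage U0.ι.continuous)
      ⟨⟨x, hxU⟩, hx⟩
    exact ⟨U0.ι w, hw, w, hw', rfl⟩
  let eW : W.left ≅ (O : Scheme.{u}) := k.left.isoOpensRange
  have heW : eW.hom ≫ O.ι = k.left := Scheme.Hom.isoOpensRange_hom_ι _
  have hκr : Set.range (G ◁ k).left = Set.range ((snd G X).left ⁻¹ᵁ O).ι := by
    rw [hrk, Scheme.Opens.range_ι]; rfl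
  have : IsOpenImmersion (G ◁ k).left := GrpScheme.Basic.whiskerLeft_mem _ k G ‹IsOpenImmersion k.left›
  let κ : (G ⊗ W).left ≅ ((snd G X).left ⁻¹ᵁ O : Scheme.{u}) :=
    IsOpenImmersion.isoOfRangeEq (G ◁ k).left ((snd G X).left ⁻¹ᵁ O).ι hκr
  have hκ : κ.hom ≫ ((snd G X).left ⁻¹ᵁ O).ι = (G ◁ k).left := IsOpenImmersion.isoOfRangeEq_hom_fac _ _ _
  have hκa : κ.hom ≫ a.act.left.resLE O ((snd G X).left ⁻¹ᵁ O) hO.ge = actW.left ≫ eW.hom := by
    rw [← cancel_mono O.ι, Category.assoc, Scheme.Hom.resLE_comp_ι, Category.assoc, heW, reassoc_of% hκ]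
    exact congrArg Over.Hom.left hactk.symm
  have hκs : κ.hom ≫ ((snd G X).left ∣_ O) = (snd G W).left ≫ eW.hom := by
    rw [← cancel_mono O.ι, Category.assoc, morphismRestrict_ι, Category.assoc, heW, reassoc_of% hκ]
    exact congrArg Over.Hom.left (whiskerLeft_snd G k)
  have hWp : actW ≫ p = snd G W ≫ p :=
    (hker _ _ _).2 ⟨(G ◁ g) ≫ ψ, by rw [Category.assoc, hψt, hactW],
      by rw [Category.assoc, hψs', whiskerLeft_snd]⟩
  have : QuasiCompact W.hom := by
    rw [← Over.w g]
    infer_instance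
  have : CompactSpace W.left := QuasiCompact.compactSpace_of_compactSpace W.hom
  have : LocallyOfFiniteType W.hom := by rw [← Over.w g]; infer_instance
  have : LocallyOfFinitePresentation (p.left ≫ V.hom) := by rw [Over.w p]; infer_instance
  have : LocallyOfFinitePresentation V.hom :=
    GrpdLib.FppfSourceDescent.locallyOfFinitePresentation_of_comp_fppf p.left V.hom
  have : QuasiCompact (p.left ≫ V.hom) := by rw [Over.w p]; infer_instance
  have : QuasiCompact V.hom := GrpdLib.FppfSourceDescent.quasiCompact_of_comp_surjective p.left V.hom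
  have : QuasiCompact p.left := QuasiCompact.of_comp p.left V.hom
  have hw : a.act.left.resLE O ((snd G X).left ⁻¹ᵁ O) hO.ge ≫ eW.inv ≫ p.left =
      ((snd G X).left ∣_ O) ≫ eW.inv ≫ p.left := by
    rw [← cancel_epi κ.hom, reassoc_of% hκa, reassoc_of% hκs]
    simp only [Category.assoc, Iso.hom_inv_id_assoc]
    exact congrArg Over.Hom.left hWp
  refine ⟨V.left, eW.inv ≫ p.left, hw, V.hom, ⟨?_⟩, ?_, inferInstance, inferInstance, inferInstance,
    inferInstance, inferInstance⟩
  · refine Cofork.IsColimit.mk' _ fun c => ?_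
    have hc : actW.left ≫ eW.hom ≫ c.π = (snd G W).left ≫ eW.hom ≫ c.π := by
      rw [← Category.assoc, ← hκa, ← Category.assoc (snd G W).left, ← hκs, Category.assoc, Category.assoc,
        c.condition]
    have hdesc : ∀ {Z : Scheme.{u}} (g₁ g₂ : Z ⟶ W.left), g₁ ≫ p.left = g₂ ≫ p.left →
        g₁ ≫ eW.hom ≫ c.π = g₂ ≫ eW.hom ≫ c.π := by
      intro Z g₁ g₂ e
      let u : Over.mk (g₁ ≫ W.hom) ⟶ W := Over.homMk g₁ rfl
      let v : Over.mk (g₁ ≫ W.hom) ⟶ W := Over.homMk g₂ (by
        show g₂ ≫ W.hom = g₁ ≫ W.hom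
        rw [← Over.w p, reassoc_of% e])
      obtain ⟨r, hr1, hr2⟩ := (hker _ u v).1 (Over.OverMorphism.ext e)
      obtain ⟨T', c', h, ⟨_, _, _⟩, hh⟩ := fwd r
      have key : c' ≫ u = lift h (c' ≫ v) ≫ actW := by
        have : Mono g := (Over.forget S).mono_of_mono_map (inferInstanceAs (Mono g.left))
        rw [← cancel_mono g, Category.assoc, Category.assoc, hactW, lift_whiskerLeft_assoc, Category.assoc,
          ← hr1, ← hr2]
        exact hh.symm
      have : Epi c'.left := inferInstance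
      rw [← cancel_epi c'.left]
      show c'.left ≫ u.left ≫ _ = c'.left ≫ v.left ≫ _
      rw [← Category.assoc, ← Over.comp_left, key, Over.comp_left, Category.assoc, hc,
        ← Category.assoc, ← Over.comp_left, lift_snd, Over.comp_left, Category.assoc]
    refine ⟨EffectiveEpi.desc p.left (eW.hom ≫ c.π) hdesc, ?_, fun {m} hm => ?_⟩
    · show (eW.inv ≫ p.left) ≫ EffectiveEpi.desc _ _ hdesc = c.π
      rw [Category.assoc, EffectiveEpi.fac, Iso.inv_hom_id_assoc]
    · refine (cancel_epi p.left).1 ?_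
      rw [EffectiveEpi.fac, ← hm]
      show p.left ≫ m = eW.hom ≫ (eW.inv ≫ p.left) ≫ m
      rw [Category.assoc, Iso.hom_inv_id_assoc]
  · rw [Category.assoc, Over.w p, Iso.inv_comp_eq, reassoc_of% heW, ← Over.w k]

end Groth.Agent.S4097
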