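import Groth.Statements.S4101
import Groth.Agent.EssFreeLocus.Basic

set_option autoImplicit false
universe u
open CategoryTheory MonoidalCategory CartesianMonoidalCategory MonObj GrpObj AlgebraicGeometry CategoryTheory.Limits
open SGA3

namespace Groth.Agent.S4101

/-- Let f : Z → S be essentially free (every point of S has an affine open neighbourhood U and a flat
surjective morphism S' → U from an affine scheme S' such that Z ×_S S' is covered by affine opens
whose rings of sections are projective Γ(S')-modules) and j : Y → Z a closed immersion. Then there
is a closed immersion t : T → S such that a morphism g : S' → S factors through T exactly when the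
closed immersion Y ×_Z Z_{S'} → Z_{S'} deduced from j by base change is an isomorphism; if moreover
Z is quasi-compact over S and j is of finite presentation, then t is of finite presentation. (The
published statement omits the quasi-compactness of Z over S in the last clause; it is stated here
with it.) -/
theorem result (S Z Y : Scheme.{u}) (f : Z ⟶ S)
    (hf : SGA3x.IsEssentiallyFree f) (j : Y ⟶ Z) [IsClosedImmersion j] :
    ∃ (T : Scheme.{u}) (t : T ⟶ S), IsClosedImmersion t ∧
      (∀ (S' : Scheme.{u}) (g : S' ⟶ S),
        (∃ g' : S' ⟶ T, g' ≫ t = g) ↔ IsIso (pullback.snd j (pullback.fst f g))) ∧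
      (QuasiCompact f → LocallyOfFinitePresentation j → LocallyOfFinitePresentation t) := by
  obtain ⟨T, t, ht, hrep, hfp⟩ := Groth.Agent.EssFreeLocus.exists_closed_lands f j hf
  refine ⟨T, t, ht, fun S' g => (hrep S' g).trans ⟨?_, fun h => ?_⟩, hfp⟩
  · rintro ⟨l, hl⟩
    refine ⟨pullback.lift l (𝟙 _) (by rw [Category.id_comp, hl]), ?_, pullback.lift_snd _ _ _⟩
    rw [← cancel_mono (pullback.snd j (pullback.fst f g))]
    rw [Category.assoc, pullback.lift_snd, Category.comp_id, Category.id_comp]
  · exact ⟨inv (pullback.snd j (pullback.fst f g)) ≫ pullback.fst j (pullback.fst f g), by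
      rw [Category.assoc, pullback.condition, IsIso.inv_hom_id_assoc]⟩

end Groth.Agent.S4101
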