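import Groth.Statements.S4102
import Groth.Agent.Solv19.Bound

set_option autoImplicit false
universe u
open CategoryTheory MonoidalCategory CartesianMonoidalCategory MonObj GrpObj AlgebraicGeometry CategoryTheory.Limits
open SGA3

namespace Groth.Agent.S4102

/-- Let G be an S-group scheme which is smooth, quasi-compact and separated over S. Then the set of
points s of S such that the geometric fibre of G at s is a solvable group is closed in S. (Part (i):
without flatness and separation the set is only locally constructible.) -/
theorem result (S : Scheme.{u}) (G : Over S) [GrpObj G]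
    [Smooth G.hom] [QuasiCompact G.hom] [IsSeparated G.hom] :
    IsClosed {s : S | Red.IsSolvableGrp (Red.geomFibre s G)} := by
  rw [← isOpen_compl_iff, isOpen_iff_forall_mem_open]
  intro s hs
  obtain ⟨U, hU, hsU, -⟩ := exists_isAffineOpen_mem_and_subset (X := S) (x := s) (U := ⊤) trivial
  obtain ⟨N, hN⟩ := Solv19.exists_bound G hU
  refine ⟨(U : Set S) ∩ {t | derivedSeries ((Over.map (Red.geomPt t)).obj (𝟙_ _) ⟶ G) N ≠ ⊥},
    fun t ht hZ => ht.2 (hN t ht.1 hZ), U.isOpen.inter (Solv19.isOpen_setOf_derivedSeries_ne_bot G N), hsU,
    fun h => hs ((Solv19.isSolvableGrp_iff G s).2 ⟨N, h⟩)⟩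

end Groth.Agent.S4102
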