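import Groth.Statements.S4104
import Groth.Agent.HopfSub.Main

set_option autoImplicit false
universe u
open CategoryTheory MonoidalCategory CartesianMonoidalCategory MonObj GrpObj AlgebraicGeometry CategoryTheory.Limits
open SGA3

namespace Groth.Agent.S4104
open scoped TensorProduct
set_option linter.style.haveILetI false

/-- Let φ : A' → A be a bialgebra map between commutative Hopf algebras over a field k (a homomorphism
of affine k-groups Spec A → Spec A', not necessarily of finite type). If the corresponding morphism
of schemes is a monomorphism, i.e. φ is an epimorphism in the category of commutative rings, then φ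
is surjective (the homomorphism is a closed immersion). -/
theorem result (k : Type u) [Field k] (A' A : Type u) [CommRing A'] [HopfAlgebra k A']
    [CommRing A] [HopfAlgebra k A] (φ : A' →ₐc[k] A)
    (hepi : ∀ (R : Type u) [CommRing R] (f g : A →+* R), f.comp (φ : A' →+* A) = g.comp (φ : A' →+* A) → f = g) :
    Function.Surjective φ := by
  have hS : ∀ x : A', HopfAlgebra.antipode k (φ x) = φ (HopfAlgebra.antipode k x) := by
    have h1 : WithConv.toConv ((φ : A' →ₐ[k] A).comp (HopfAlgebra.antipodeAlgHom k A')) *
        WithConv.toConv (φ : A' →ₐ[k] A) = 1 := inv_mul_cancel _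
    have h2 : WithConv.toConv (φ : A' →ₐ[k] A) *
        WithConv.toConv ((HopfAlgebra.antipodeAlgHom k A).comp (φ : A' →ₐ[k] A)) = 1 := by
      have h := AlgHom.convMul_comp_bialgHom_distrib (WithConv.toConv (AlgHom.id k A))
        (WithConv.toConv (HopfAlgebra.antipodeAlgHom k A)) φ
      have h' : (WithConv.toConv (AlgHom.id k A)) *
          WithConv.toConv (HopfAlgebra.antipodeAlgHom k A) = 1 := mul_inv_cancel _
      rw [h', WithConv.ofConv_toConv, WithConv.ofConv_toConv, AlgHom.id_comp] at h
      refine WithConv.ext (h.symm.trans (AlgHom.ext fun x => ?_))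
      change algebraMap k A (Coalgebra.counit (φ x)) = algebraMap k A (Coalgebra.counit x)
      rw [CoalgHomClass.counit_comp_apply]
    have h3 := left_inv_eq_right_inv h1 h2
    intro x
    exact (congrArg (fun f : WithConv (A' →ₐ[k] A) => f x) h3).symm
  let B : Subalgebra k A := (φ : A' →ₐ[k] A).range
  have hB : SGA3.IsHopfSubalgebra k A B := by
    refine ⟨?_, ?_⟩
    · rintro _ ⟨x, rfl⟩
      refine ⟨TensorProduct.map (φ : A' →ₐ[k] A).rangeRestrict.toLinearMap
        (φ : A' →ₐ[k] A).rangeRestrict.toLinearMap (Coalgebra.comul x), ?_⟩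
      rw [← LinearMap.comp_apply, ← TensorProduct.map_comp]
      exact CoalgHomClass.map_comp_comul_apply φ x
    · rintro _ ⟨x, rfl⟩
      exact ⟨HopfAlgebra.antipode k x, (hS x).symm⟩
  letI := Groth.Agent.HopfSub.hopfAlgebra hB
  haveI : Module.FaithfullyFlat B A :=
    Groth.Agent.HopfSub.faithfullyFlat (Groth.Agent.HopfSub.incl hB) (fun _ => rfl)
      Subtype.val_injective
  have heq : ∀ a : A, (1 : A) ⊗ₜ[B] a = a ⊗ₜ[B] (1 : A) := by
    have h := hepi (A ⊗[B] A) Algebra.TensorProduct.includeRight.toRingHom
      Algebra.TensorProduct.includeLeftRingHom (RingHom.ext fun x => by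
        have h1 := (Algebra.TensorProduct.includeRight : A →ₐ[B] A ⊗[B] A).commutes ⟨φ x, x, rfl⟩
        exact h1)
    exact fun a => congrArg (fun f => f a) h
  have hsurj : Function.Surjective ((Algebra.linearMap B A).lTensor A) := by
    intro w
    induction w with
    | zero => exact ⟨0, map_zero _⟩
    | tmul a b =>
      refine ⟨(a * b) ⊗ₜ 1, ?_⟩
      rw [LinearMap.lTensor_tmul, Algebra.linearMap_apply, map_one]
      have := congrArg (fun w => (a ⊗ₜ[B] (1 : A)) * w) (heq b)
      simpa [Algebra.TensorProduct.tmul_mul_tmul] using this.symm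
    | add x y hx hy =>
      obtain ⟨x', rfl⟩ := hx
      obtain ⟨y', rfl⟩ := hy
      exact ⟨x' + y', map_add _ _ _⟩
  intro a
  obtain ⟨⟨_, x, rfl⟩, rfl⟩ :=
    (Module.FaithfullyFlat.lTensor_surjective_iff_surjective B A _).mp hsurj a
  exact ⟨x, rfl⟩


end Groth.Agent.S4104
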