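import Groth.Statements.S4107
import Groth.Agent.GrpAff.Smooth
import Groth.Agent.GrpdLib.AntiAffineRigid
-- import your own Groth.Agent.* helpers here

set_option autoImplicit false
universe u
open CategoryTheory MonoidalCategory CartesianMonoidalCategory MonObj GrpObj AlgebraicGeometry CategoryTheory.Limits
open SGA3

namespace Groth.Agent.S4107

/-- Let G be an algebraic group over a field k, ρ : G → Spec O(G) the canonical morphism and N = Ker ρ,
the fibre of ρ over the image of the unit section. Then O(N) = k (the structure morphism N → Spec k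
induces an isomorphism on global sections), and N is smooth over k and connected. (The source adds
that N is commutative and characteristic in G.) -/
theorem result (k : Type u) [Field k] (G : Over (Spec (CommRingCat.of k))) [GrpObj G]
    [LocallyOfFiniteType G.hom] [QuasiCompact G.hom] :
    IsIso (pullback.snd G.left.toSpecΓ (η[G].left ≫ G.left.toSpecΓ) ≫ (𝟙_ (Over (Spec (CommRingCat.of k)))).hom).appTop ∧
    Smooth (pullback.snd G.left.toSpecΓ (η[G].left ≫ G.left.toSpecΓ) ≫ (𝟙_ (Over (Spec (CommRingCat.of k)))).hom) ∧
    ConnectedSpace ↥(pullback G.left.toSpecΓ (η[G].left ≫ G.left.toSpecΓ)) := by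
  obtain ⟨N, hN, i, hi, hci, hpb, hiso⟩ := GrpAff.exists_antiAffine_kernel G
  haveI : LocallyOfFiniteType N.hom := by rw [← Over.w i]; infer_instance
  haveI : QuasiCompact N.hom := by rw [← Over.w i]; infer_instance
  have e : pullback.snd G.left.toSpecΓ (η[G].left ≫ G.left.toSpecΓ) ≫
      (𝟙_ (Over (Spec (CommRingCat.of k)))).hom = hpb.isoPullback.inv ≫ N.hom := by
    rw [Iso.eq_inv_comp, hpb.isoPullback_hom_snd_assoc, Over.w]
  haveI : Smooth N.hom := GrpAff.smooth_of_antiAffine N hiso
  refine ⟨?_, ?_, ?_⟩
  · rw [e, Scheme.Hom.comp_appTop]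
    haveI : IsIso hpb.isoPullback.inv.appTop := inferInstanceAs (IsIso (Scheme.Γ.map hpb.isoPullback.inv.op))
    infer_instance
  · rw [e]
    infer_instance
  · haveI := GrpdLib.AntiAffineRigid.connectedSpace_of_antiAffine
      ((GrpScheme.AntiAffine.bijective_iff_isIso N).2 hiso)
    exact hpb.isoPullback.hom.homeomorph.surjective.connectedSpace hpb.isoPullback.hom.homeomorph.continuous

end Groth.Agent.S4107
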