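import Groth.Statements.S4110
import Groth.Agent.FiniteGrp.Local

set_option autoImplicit false
universe u
open CategoryTheory MonoidalCategory CartesianMonoidalCategory MonObj GrpObj AlgebraicGeometry CategoryTheory.Limits
open SGA3
open scoped TensorProduct

namespace Groth.Agent.S4110

/-- (iv) ⟹ (ii), over a local base: let R be a local ring of prime characteristic p and A a commutative
Hopf algebra over R which is of finite presentation and flat over R (an R-group G locally of finite
presentation and flat; finiteness is then a consequence) and of height ≤ 1: every element a of the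
augmentation ideal satisfies a^p = 0 (the Frobenius of G is trivial). Then A is isomorphic as an
R-algebra to R[X₁, …, Xₙ]/(X₁^p, …, Xₙ^p) for some n (n is the rank of the conormal module ω_G,
which is free). -/
theorem result (p : ℕ) [Fact p.Prime] (R : Type u) [CommRing R]
    [IsLocalRing R] [CharP R p] (A : Type u) [CommRing A] [HopfAlgebra R A] [Algebra.FinitePresentation R A] [Module.Flat R A]
    (h1 : ∀ a : A, Bialgebra.counitAlgHom R A a = 0 → a ^ p = 0) :
    ∃ n : ℕ, Nonempty (A ≃ₐ[R] (MvPolynomial (Fin n) R ⧸
      Ideal.span (Set.range fun i : Fin n => (MvPolynomial.X i : MvPolynomial (Fin n) R) ^ p))) := by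
  classical
  open Groth.Agent.FiniteGrp in
  have hp : p.Prime := Fact.out
  set eps := Bialgebra.counitAlgHom R A with heps
  have hnilA : ∀ a : A, eps a = 0 → IsNilpotent a := fun a ha => ⟨p, h1 a ha⟩
  obtain ⟨s, hs⟩ := (inferInstance : Algebra.FiniteType R A).out
  let y : s → A := fun a => (a : A) - algebraMap R A (eps a)
  have hy0 : ∀ a, eps (y a) = 0 := fun a => by simp [y]
  have hconstA : ∀ a : A, ∃ c : R, a - algebraMap R A c ∈ Ideal.span (Set.range y) := by
    intro a
    have ha : a ∈ Algebra.adjoin R (s : Set A) := by rw [hs]; trivial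
    induction ha using Algebra.adjoin_induction with
    | mem x hx => exact ⟨eps x, Ideal.subset_span ⟨⟨x, hx⟩, rfl⟩⟩
    | algebraMap r => exact ⟨r, by simp⟩
    | add x z _ _ hx hz =>
      obtain ⟨c, hc⟩ := hx
      obtain ⟨d, hd⟩ := hz
      exact ⟨c + d, by rw [map_add, add_sub_add_comm]; exact add_mem hc hd⟩
    | mul x z _ _ hx hz =>
      obtain ⟨c, hc⟩ := hx
      obtain ⟨d, hd⟩ := hz
      refine ⟨c * d, ?_⟩
      have : x * z - algebraMap R A (c * d) =
          x * (z - algebraMap R A d) + algebraMap R A d * (x - algebraMap R A c) := by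
        rw [map_mul]; ring
      rw [this]
      exact add_mem (Ideal.mul_mem_left _ _ hd) (Ideal.mul_mem_left _ _ hc)
  haveI hfin : Module.Finite R A := by
    let m := Fintype.card s
    let ye : Fin m → A := y ∘ (Fintype.equivFin s).symm
    have hrange : Set.range ye = Set.range y := (Fintype.equivFin s).symm.surjective.range_comp y
    have hnil : IsNilpotent (Ideal.span (Set.range y)) := by
      rw [Ideal.FG.isNilpotent_iff_le_nilradical ⟨Finset.univ.image y, by simp⟩, Ideal.span_le]
      rintro _ ⟨a, rfl⟩
      exact mem_nilradical.mpr (hnilA _ (hy0 a))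
    have hsp := Monomials.span_mon_eq_top (⊥ : Subalgebra R A) (Ideal.span (Set.range y)) hp.pos ye
      hnil (fun i => Ideal.subset_span ⟨_, rfl⟩) (by rw [hrange]) hconstA
      (fun i => by rw [show ye i ^ p = 0 from h1 _ (hy0 _)]; exact zero_mem _)
    refine ⟨⟨Finset.univ.image (fun α : Fin m → Fin p => Monomials.mon ye α), ?_⟩⟩
    rw [Finset.coe_image, Finset.coe_univ, Set.image_univ]
    refine eq_top_iff.mpr fun a _ => ?_
    have ha : a ∈ Submodule.span (⊥ : Subalgebra R A) (Set.range fun α : Fin m → Fin p =>
      Monomials.mon ye α) := by rw [hsp]; trivial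
    induction ha using Submodule.span_induction with
    | mem x hx => exact Submodule.subset_span hx
    | zero => exact zero_mem _
    | add x z _ _ hx hz => exact add_mem (hx trivial) (hz trivial)
    | smul c x _ hx =>
      obtain ⟨r, hr⟩ := Algebra.mem_bot.mp c.2
      rw [Subalgebra.smul_def, ← hr, algebraMap_smul]
      exact Submodule.smul_mem _ r (hx trivial)
  haveI : Module.FinitePresentation R A :=
    Module.FinitePresentation.of_finite_of_finitePresentation R A
  haveI : Module.Free R A := Module.free_of_flat_of_isLocalRing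
  let κ := IsLocalRing.ResidueField R
  let B := κ ⊗[R] A
  haveI : CharP κ p := (CharP.charP_iff_prime_eq_zero hp).mpr (by
    rw [← map_natCast (algebraMap R κ), CharP.cast_eq_zero, map_zero])
  set epsB := Bialgebra.counitAlgHom κ B with hepsB
  haveI : Nontrivial B := epsB.toRingHom.domain_nontrivial
  haveI : CharP B p := Local.charP_alg (k := κ) p
  have hB : ∀ b : B, (b - algebraMap κ B (epsB b)) ^ p = 0 := by
    intro b
    induction b using TensorProduct.induction_on with
    | zero => simp [hp.ne_zero]
    | add u v hu hv => rw [map_add, map_add, add_sub_add_comm, add_pow_char, hu, hv, add_zero]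
    | tmul c a =>
      have : c ⊗ₜ[R] a - algebraMap κ B (epsB (c ⊗ₜ[R] a)) =
          c ⊗ₜ[R] (a - algebraMap R A (eps a)) := by
        have h2 : epsB (c ⊗ₜ[R] a) = eps a • c := by
          show Coalgebra.counit (R := κ) (c ⊗ₜ[R] a) = _
          rw [TensorProduct.counit_tmul]
          rfl
        rw [h2, TensorProduct.tmul_sub, Algebra.algebraMap_eq_smul_one (A := A),
          ← TensorProduct.smul_tmul]
        congr 1
      rw [this, Algebra.TensorProduct.tmul_pow, h1 _ (by simp [heps]), TensorProduct.tmul_zero]
  let J : Ideal B := ⊥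
  obtain ⟨hl, d, x', D, hnilQ, hxM, hgen, hconst, hD⟩ :=
    Local.exists_system (k := κ) J (fun a ha => by rw [show a = 0 from ha, map_zero])
      (fun a ha => by
        refine IsUnit.map _ ?_
        have hn : IsNilpotent (a - algebraMap κ B (epsB a)) := ⟨p, hB a⟩
        have h := IsNilpotent.isUnit_add_left_of_commute hn
          ((Ne.isUnit ha).map (algebraMap κ B)) (Commute.all _ _)
        rwa [show algebraMap κ B (Bialgebra.counitAlgHom κ B a) = algebraMap κ B (epsB a) from rfl,
          add_sub_cancel] at h)
      (fun ξ h _ a ha => by rw [show a = 0 from ha, map_zero]; rfl)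
  let Q := B ⧸ J
  let π : A →ₐ[R] Q := ((Ideal.Quotient.mkₐ κ J).restrictScalars R).comp
    Algebra.TensorProduct.includeRight
  have hres : Function.Surjective (algebraMap R κ) := IsLocalRing.residue_surjective
  have hπ : Function.Surjective π := by
    intro q
    obtain ⟨b, rfl⟩ := Ideal.Quotient.mk_surjective q
    induction b using TensorProduct.induction_on with
    | zero => exact ⟨0, by simp⟩
    | add u v hu hv =>
      obtain ⟨a, ha⟩ := hu
      obtain ⟨a', ha'⟩ := hv
      exact ⟨a + a', by rw [map_add, map_add, ha, ha']⟩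
    | tmul c a =>
      obtain ⟨r, rfl⟩ := hres c
      refine ⟨r • a, ?_⟩
      show Ideal.Quotient.mk J ((1 : κ) ⊗ₜ[R] (r • a)) = _
      rw [← TensorProduct.smul_tmul, Algebra.algebraMap_eq_smul_one]
  choose a0 ha0 using fun i => hπ (x' i)
  let x : Fin d → A := fun i => a0 i - algebraMap R A (eps (a0 i))
  have hxp : ∀ i, x i ^ p = 0 := fun i => h1 _ (by simp [x, heps])
  haveI : CharP Q p := Local.charP_alg (k := κ) p
  have hπx : ∀ i, π (x i) = x' i := by
    intro i
    have h2 : π (x i) = x' i - algebraMap κ Q (algebraMap R κ (eps (a0 i))) := by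
      simp only [x, map_sub, ha0, AlgHom.commutes, ← IsScalarTower.algebraMap_apply R κ Q]
    have h3 : IsNilpotent (algebraMap κ Q (algebraMap R κ (eps (a0 i)))) := by
      have hx' : IsNilpotent (x' i) := by
        obtain ⟨n, hn⟩ := hnilQ
        exact ⟨n, by simpa [hn] using Ideal.pow_mem_pow (hxM i) n⟩
      have hx : IsNilpotent (π (x i)) := ⟨p, by rw [← map_pow, hxp, map_zero]⟩
      have := Commute.isNilpotent_sub (Commute.all _ _) hx' hx
      rwa [h2, sub_sub_cancel] at this
    have h4 : algebraMap R κ (eps (a0 i)) = 0 :=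
      ((IsNilpotent.map_iff (algebraMap κ Q).injective).mp h3).eq_zero
    rw [h2, h4, map_zero, sub_zero]
  have hx'p : ∀ i, x' i ^ p = 0 := fun i => by rw [← hπx, ← map_pow, hxp, map_zero]
  have hmon : ∀ α : Fin d → Fin p, π (Monomials.mon x α) = Monomials.mon x' α := fun α => by
    simp [Monomials.mon, map_prod, hπx]
  have hspanQ := Monomials.span_mon_eq_top (⊥ : Subalgebra κ Q) _ hp.pos x' hnilQ hxM hgen hconst
    (fun i => by rw [hx'p]; exact zero_mem _)
  have hliQ : LinearIndependent κ (fun α : Fin d → Fin p => Monomials.mon x' α) := by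
    rw [Fintype.linearIndependent_iff]
    intro g hg i
    have := Monomials.eq_zero_of_sum_eq_zero x' D hxM hD (fun m hm hmp => by
        rw [IsLocalRing.mem_maximalIdeal, mem_nonunits_iff, not_not]
        have : (m : κ) ≠ 0 := fun h0 => by
          have := Nat.le_of_dvd hm ((CharP.cast_eq_zero_iff κ p m).mp h0)
          omega
        have h5 := (Ne.isUnit this).map (algebraMap κ Q)
        rwa [map_natCast] at h5)
      (fun α => algebraMap κ Q (g α)) (fun j α => (D j).map_algebraMap _)
      (by simpa [Algebra.smul_def] using hg)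
    simpa using congrFun this i
  have hspanκ : ⊤ ≤ Submodule.span κ (Set.range fun α : Fin d → Fin p => Monomials.mon x' α) := by
    intro q _
    have hq : q ∈ Submodule.span (⊥ : Subalgebra κ Q) (Set.range fun α : Fin d → Fin p =>
        Monomials.mon x' α) := by rw [hspanQ]; trivial
    induction hq using Submodule.span_induction with
    | mem z hz => exact Submodule.subset_span hz
    | zero => exact zero_mem _
    | add u v _ _ hu hv => exact add_mem (hu trivial) (hv trivial)
    | smul c z _ hz =>
      obtain ⟨r, hr⟩ := Algebra.mem_bot.mp c.2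
      rw [Subalgebra.smul_def, ← hr, algebraMap_smul]
      exact Submodule.smul_mem _ r (hz trivial)
  let eQ : B ≃ₗ[κ] Q := LinearEquiv.ofBijective (Ideal.Quotient.mkₐ κ J).toLinearMap
    ⟨fun u v huv => by
      have := Ideal.Quotient.eq.mp huv
      exact sub_eq_zero.mp this, Ideal.Quotient.mk_surjective⟩
  let bQ := Module.Basis.mk hliQ hspanκ
  let bB := bQ.map eQ.symm
  have hspanA : Submodule.span R (Set.range fun α : Fin d → Fin p => Monomials.mon x α) = ⊤ :=
    IsLocalRing.span_eq_top_of_tmul_eq_basis _ bB (fun α => by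
      apply eQ.injective
      simp only [bB, Module.Basis.map_apply, LinearEquiv.apply_symm_apply, bQ, Module.Basis.mk_apply]
      rw [← hmon]
      rfl)
  have hliA : LinearIndependent R (fun α : Fin d → Fin p => Monomials.mon x α) := by
    apply linearIndependent_of_top_le_span_of_card_eq_finrank hspanA.ge
    rw [← Module.finrank_eq_card_basis bB, Module.finrank_baseChange]
  let P := MvPolynomial (Fin d) R
  let I : Ideal P := Ideal.span (Set.range fun i : Fin d => (MvPolynomial.X i : P) ^ p)
  let φ0 : P →ₐ[R] A := MvPolynomial.aeval x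
  have hI : ∀ a ∈ I, φ0 a = 0 := by
    intro a ha
    refine Ideal.span_le (I := RingHom.ker φ0.toRingHom).mpr ?_ ha
    rintro _ ⟨i, rfl⟩
    show φ0 ((MvPolynomial.X i) ^ p) = 0
    rw [map_pow, show φ0 (MvPolynomial.X i) = x i from MvPolynomial.aeval_X x i, hxp]
  let φ : (P ⧸ I) →ₐ[R] A := Ideal.Quotient.liftₐ I φ0 hI
  let X' : Fin d → P ⧸ I := fun i => Ideal.Quotient.mk I (MvPolynomial.X i)
  have hφmon : ∀ α : Fin d → Fin p, φ (Monomials.mon X' α) = Monomials.mon x α := fun α => by
    have : ∀ i, φ (X' i) = x i := fun i => MvPolynomial.aeval_X x i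
    simp [Monomials.mon, map_prod, this]
  have hX'p : ∀ i, X' i ^ p = 0 := fun i => by
    rw [← map_pow, Ideal.Quotient.eq_zero_iff_mem]
    exact Ideal.subset_span ⟨i, rfl⟩
  have hspanP := Monomials.span_mon_eq_top (⊥ : Subalgebra R (P ⧸ I)) (Ideal.span (Set.range X'))
    hp.pos X'
    (by
      rw [Ideal.FG.isNilpotent_iff_le_nilradical ⟨Finset.univ.image X', by simp⟩, Ideal.span_le]
      rintro _ ⟨i, rfl⟩
      exact mem_nilradical.mpr ⟨p, hX'p i⟩)
    (fun i => Ideal.subset_span ⟨i, rfl⟩) le_rfl
    (fun q => by
      obtain ⟨f, rfl⟩ := Ideal.Quotient.mk_surjective q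
      induction f using MvPolynomial.induction_on with
      | C r => exact ⟨r, by simp [IsScalarTower.algebraMap_apply R P (P ⧸ I), P]⟩
      | add f g hf hg =>
        obtain ⟨c, hc⟩ := hf
        obtain ⟨c', hc'⟩ := hg
        exact ⟨c + c', by rw [map_add, map_add, add_sub_add_comm]; exact add_mem hc hc'⟩
      | mul_X f i _ =>
        exact ⟨0, by
          rw [map_mul, map_zero, sub_zero]
          exact Ideal.mul_mem_left _ _ (Ideal.subset_span ⟨i, rfl⟩)⟩)
    (fun i => by rw [hX'p]; exact zero_mem _)
  have hφ : Function.Bijective φ := by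
    constructor
    · refine (injective_iff_map_eq_zero φ).mpr fun q hq => ?_
      have : q ∈ Submodule.span (⊥ : Subalgebra R (P ⧸ I)) (Set.range fun α : Fin d → Fin p =>
        Monomials.mon X' α) := by rw [hspanP]; trivial
      obtain ⟨c, hc⟩ := Submodule.mem_span_range_iff_exists_fun _ |>.mp this
      choose r hr using fun α => Algebra.mem_bot.mp (c α).2
      have hq' : q = ∑ α, r α • Monomials.mon X' α := by
        rw [← hc]
        refine Finset.sum_congr rfl fun α _ => ?_
        rw [Subalgebra.smul_def, ← hr, algebraMap_smul]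
      rw [hq', map_sum] at hq
      simp only [map_smul, hφmon] at hq
      rw [hq', Finset.sum_eq_zero fun α _ => by rw [Fintype.linearIndependent_iff.mp hliA r hq α, zero_smul]]
    · intro a
      have ha : a ∈ Submodule.span R (Set.range fun α : Fin d → Fin p => Monomials.mon x α) := by
        rw [hspanA]; trivial
      obtain ⟨c, hc⟩ := Submodule.mem_span_range_iff_exists_fun _ |>.mp ha
      exact ⟨∑ α, c α • Monomials.mon X' α, by simp [map_sum, hφmon, hc]⟩
  exact ⟨d, ⟨(AlgEquiv.ofBijective φ hφ).symm⟩⟩

end Groth.Agent.S4110
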