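import Groth.Statements.S4111
import Mathlib
import Groth.Agent.GrpScheme.EtaleEndo
import Groth.Agent.S9566
-- import your own Groth.Agent.* helpers here

set_option autoImplicit false
universe u
open CategoryTheory MonoidalCategory CartesianMonoidalCategory MonObj GrpObj AlgebraicGeometry CategoryTheory.Limits
open SGA3
set_option backward.isDefEq.respectTransparency false

namespace Groth.Agent.S4111

open Groth.Agent.GrpScheme in
lemma etale_near_unit {k : Type u} [Field k] (G : Over (Spec (CommRingCat.of k))) [GrpObj G]
    [LocallyOfFiniteType G.hom] (d : ℤ) (hd : (d : k) ≠ 0) :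
    ∃ U : G.left.Opens, Cartier.unitPt G ∈ U ∧ Etale (U.ι ≫ (𝟙 G ^ d : G ⟶ G).left) := by
  let P : G ⟶ G := 𝟙 G ^ d
  let f := P.left
  let x := Cartier.unitPt G
  have hx : P.left x = x := EtaleEndo.zpow_unitPt G d
  have : IsLocallyNoetherian G.left := LocallyOfFiniteType.isLocallyNoetherian G.hom
  have : LocallyOfFiniteType (P.left ≫ G.hom) := by rw [Over.w P]; infer_instance
  have : LocallyOfFiniteType P.left := locallyOfFiniteType_of_comp P.left G.hom
  let σ := G.left.presheaf.stalkSpecializes (specializes_of_eq hx)
  have hbij : Function.Bijective σ.hom :=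
    (G.left.presheaf.stalkCongr (.of_eq hx.symm)).commRingCatIsoToRingEquiv.bijective
  have hcomp : (Tangent.endo G P hx).toRingHom = (P.left.stalkMap x).hom.comp σ.hom := rfl
  refine (Groth.Agent.S9566.result P.left x).mpr ⟨?_, ?_, ?_⟩
  · have h := EtaleEndo.flat_endo G d hd
    rw [hcomp] at h
    exact (RingHom.Flat.comp_iff_of_bijective_right hbij).mp h
  · have h := EtaleEndo.map_maximalIdeal_endo G d hd
    rw [hcomp, ← Ideal.map_map, IsLocalRing.map_maximalIdeal_of_surjective σ.hom hbij.2] at h
    exact h
  · let : Algebra (G.left.residueField (P.left x)) (G.left.residueField x) := (P.left.residueFieldMap x).hom.toAlgebra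
    have hs : Function.Surjective (Algebra.ofId (G.left.residueField (P.left x)) (G.left.residueField x)) := by
      intro z
      obtain ⟨b, rfl⟩ := G.left.residue_surjective x z
      let c : Cartier.stalkUnit G := algebraMap k _ (Cartier.aug G b)
      have hc : (P.left.stalkMap x).hom (σ.hom c) = c := by
        have h := AlgHom.commutes (Tangent.endo G P hx) (Cartier.aug G b)
        exact h
      refine ⟨(G.left.residue (P.left x)).hom (σ.hom c), ?_⟩
      show (P.left.residueFieldMap x).hom ((G.left.residue (P.left x)).hom (σ.hom c)) = _
      have h2 := congr($(Scheme.residue_residueFieldMap P.left x).hom (σ.hom c))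
      refine h2.trans ?_
      show (G.left.residue x).hom ((P.left.stalkMap x).hom (σ.hom c)) = (G.left.residue x).hom b
      rw [hc]
      have hm : b - c ∈ IsLocalRing.maximalIdeal (Cartier.stalkUnit G) := Cartier.sub_aug_mem G b
      symm
      exact Ideal.Quotient.eq.mpr hm
    have hb : Function.Bijective (Algebra.ofId (G.left.residueField (P.left x)) (G.left.residueField x)) :=
      ⟨RingHom.injective _, hs⟩
    let e := AlgEquiv.ofBijective _ hb
    exact ⟨Module.Finite.equiv e.toLinearEquiv, AlgEquiv.Algebra.isSeparable e⟩

/-- The published statement says that the power map is etale; stated here as etale at the unit section,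
which holds for every G (for commutative G the global form is the companion statement): let G be an
algebraic group over a field k and n a natural number invertible in k. Then the n-th power morphism
G → G, g ↦ gⁿ, is etale at the points of the unit section: there is an open U of G containing the
unit section on which it is etale. -/
theorem result (k : Type u) [Field k] (G : Over (Spec (CommRingCat.of k))) [GrpObj G]
    [LocallyOfFiniteType G.hom] [QuasiCompact G.hom] (n : ℕ) (hn : (n : k) ≠ 0) :
    ∃ U : G.left.Opens, (∀ p : ↥(𝟙_ (Over (Spec (CommRingCat.of k)))).left, η[G].left.base p ∈ U) ∧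
      Etale (U.ι ≫ ((𝟙 G : G ⟶ G) ^ n).left) := by
  obtain ⟨U, hU, hE⟩ := etale_near_unit G (n : ℤ) (by rwa [Int.cast_natCast])
  refine ⟨U, fun p => ?_, by rwa [zpow_natCast] at hE⟩
  rw [Subsingleton.elim (α := PrimeSpectrum k) p (IsLocalRing.closedPoint k)]
  exact hU

end Groth.Agent.S4111
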