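import Groth.Statements.S4113
import Groth.Agent.FiniteGrp.Order

set_option autoImplicit false
universe u
open CategoryTheory MonoidalCategory CartesianMonoidalCategory MonObj GrpObj AlgebraicGeometry CategoryTheory.Limits
open SGA3
open scoped TensorProduct

namespace Groth.Agent.S4113

open Groth.Agent.FiniteGrp in
theorem formallyEtale_algClosed (k : Type u) [Field k] [IsAlgClosed k] (A : Type u) [CommRing A]
    [HopfAlgebra k A] [Module.Finite k A] (h : (Module.finrank k A : k) ≠ 0) :
    Algebra.Etale k A := by
  classical
  haveI := Order.finite_points (k := k) (A := A)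
  haveI := Fintype.ofFinite (WithConv (A →ₐ[k] k))
  obtain ⟨e, he, hε, hg0⟩ := Order.exists_idem (k := k) (A := A)
  have hloc : ∀ a, Bialgebra.counitAlgHom k A a ≠ 0 → IsUnit (a * e + (1 - e)) := by
    intro a ha
    refine Order.isUnit_of_points (k := k) fun g => ?_
    rw [map_add, map_mul, map_sub, map_one]
    by_cases hg : WithConv.toConv g = 1
    · have : g = Bialgebra.counitAlgHom k A := by
        ext b
        rw [show g b = (WithConv.toConv g).ofConv b from rfl, hg]
        simp [AlgHom.convOne_def]
      rw [this, hε, sub_self, add_zero, _root_.mul_one]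
      exact ha
    · rw [show g e = 0 from hg0 _ hg]
      simp
  have hdim := Order.finrank_eq_card_mul he hε hg0
  have h1 : Module.finrank k (A ⧸ Local.j0 e) = 1 := by
    rcases CharP.exists' k with hk | ⟨p, hp, hk⟩
    · exact Local.finrank_eq_one he hε hloc
    · haveI := hk
      haveI := hp
      obtain ⟨v, hv⟩ := Local.finrank_pow he hε hloc p
      cases v with
      | zero => simpa using hv
      | succ v =>
        exfalso
        apply h
        rw [hdim, hv, Nat.cast_mul, Nat.cast_pow, CharP.cast_eq_zero k p, zero_pow (Nat.succ_ne_zero v),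
          mul_zero]
  rw [h1, _root_.mul_one] at hdim
  let ev : A →ₐ[k] (WithConv (A →ₐ[k] k) → k) := Pi.algHom k (fun _ => k) (fun g => g.ofConv)
  have hsurj : Function.Surjective ev := by
    intro f
    refine ⟨∑ g, f g • Order.τ g⁻¹ e, ?_⟩
    funext g'
    show g'.ofConv (∑ g, f g • Order.τ g⁻¹ e) = f g'
    rw [map_sum, Finset.sum_eq_single g']
    · rw [map_smul]
      have : g'.ofConv (Order.τ g'⁻¹ e) = 1 := by
        rw [← AlgHom.comp_apply, show g'.ofConv.comp (Order.τ g'⁻¹) =
          (WithConv.toConv (g'.ofConv.comp (Order.τ g'⁻¹))).ofConv from rfl,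
          Order.toConv_point_comp_τ, WithConv.toConv_ofConv, mul_inv_cancel]
        simpa [AlgHom.convOne_def] using hε
      rw [this, smul_eq_mul, _root_.mul_one]
    · intro g _ hne
      rw [map_smul, ← AlgHom.comp_apply, show g'.ofConv.comp (Order.τ g⁻¹) =
          (WithConv.toConv (g'.ofConv.comp (Order.τ g⁻¹))).ofConv from rfl,
          Order.toConv_point_comp_τ, WithConv.toConv_ofConv, hg0 _ (fun h2 => hne (mul_inv_eq_one.mp h2).symm),
          smul_zero]
    · simp
  have hbij : Function.Bijective ev :=
    ⟨(LinearMap.injective_iff_surjective_of_finrank_eq_finrank (f := ev.toLinearMap)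
      (by rw [hdim, Module.finrank_fintype_fun_eq_card, Nat.card_eq_fintype_card])).mpr hsurj, hsurj⟩
  exact Algebra.Etale.of_equiv (AlgEquiv.ofBijective ev hbij).symm

/-- Let A be a finite-dimensional commutative Hopf algebra over a field k (a finite algebraic k-group of
rank dim A). If the rank is invertible in k then A is an etale k-algebra. -/
theorem result (k : Type u) [Field k] (A : Type u) [CommRing A] [HopfAlgebra k A]
    [Module.Finite k A] (h : (Module.finrank k A : k) ≠ 0) : Algebra.Etale k A := by
  let K := AlgebraicClosure k
  haveI := formallyEtale_algClosed K (K ⊗[k] A) (by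
    rw [Module.finrank_baseChange]
    intro h0
    apply h
    have : algebraMap k K (Module.finrank k A : k) = 0 := by rw [map_natCast]; exact h0
    exact (map_eq_zero _).mp this)
  exact Algebra.Etale.of_etale_tensorProduct_of_faithfullyFlat (R := k) (S := A) (T := K)

end Groth.Agent.S4113
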