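import Groth.Statements.S4114
import Groth.Agent.S3044
import Groth.Agent.AffGrp.Bridge

set_option autoImplicit false
universe u
open CategoryTheory MonoidalCategory CartesianMonoidalCategory MonObj GrpObj AlgebraicGeometry CategoryTheory.Limits
open SGA3
open scoped TensorProduct
set_option linter.style.haveILetI false

namespace Groth.Agent.S4114

theorem pow_eq_one_alg (R : Type u) [CommRing R] [_root_.IsReduced R] (A : Type u) [CommRing A]
    [HopfAlgebra R A] [Module.Finite R A] [Module.Projective R A] (n : ℕ)
    (hn : ∀ p : PrimeSpectrum R, Module.rankAtStalk (R := R) A p = n) :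
    (WithConv.toConv (AlgHom.id R A)) ^ n = 1 := by
  set f := (WithConv.toConv (AlgHom.id R A)) ^ n
  apply WithConv.ofConv_injective
  apply AlgHom.ext
  intro a
  rw [← sub_eq_zero, ← Module.forall_dual_apply_eq_zero_iff R]
  intro φ
  set d := f.ofConv a - (1 : WithConv (A →ₐ[R] A)).ofConv a
  have hall : ∀ p : Ideal R, p.IsPrime → φ d ∈ p := by
    intro p hp
    let K := p.ResidueField
    let Φ : WithConv (K ⊗[R] A →ₐ[K] K ⊗[R] A) →* WithConv (A →ₐ[R] K ⊗[R] A) :=
      { toFun := fun f =>
          WithConv.toConv ((f.ofConv.restrictScalars R).comp Algebra.TensorProduct.includeRight)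
        map_one' := by
          apply WithConv.ofConv_injective
          ext a
          simp [AlgHom.convOne_def, IsScalarTower.algebraMap_apply R K (K ⊗[R] A),
            Algebra.algebraMap_eq_smul_one]
        map_mul' := fun f g => by
          apply WithConv.ofConv_injective
          apply AlgHom.ext
          intro a
          show (f * g) (1 ⊗ₜ[R] a) =
            (WithConv.toConv ((f.ofConv.restrictScalars R).comp Algebra.TensorProduct.includeRight) *
              WithConv.toConv ((g.ofConv.restrictScalars R).comp Algebra.TensorProduct.includeRight)) a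
          rw [AlgHom.convMul_apply, AlgHom.convMul_apply]
          obtain ⟨s, hs⟩ := TensorProduct.exists_finset (Coalgebra.comul (R := R) a)
          rw [TensorProduct.comul_tmul, hs]
          simp [TensorProduct.tmul_sum] }
    have hK := Groth.Agent.S3044.result K (K ⊗[R] A)
    have hrk : Module.finrank K (K ⊗[R] A) = n := by
      rw [← hn ⟨p, hp⟩, Module.rankAtStalk_eq]
    rw [hrk] at hK
    have h := congrArg Φ hK
    rw [map_pow, map_one] at h
    let incl : A →ₐ[R] K ⊗[R] A := Algebra.TensorProduct.includeRight
    have hf : ∀ m : ℕ, WithConv.toConv (incl.comp ((WithConv.toConv (AlgHom.id R A)) ^ m).ofConv) =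
        (WithConv.toConv incl) ^ m := by
      intro m
      induction m with
      | zero =>
        apply WithConv.ofConv_injective
        ext b
        simp [AlgHom.convOne_def]
      | succ m ih =>
        rw [pow_succ, pow_succ, ← ih, AlgHom.comp_convMul_distrib]
        rfl
    have h1 : incl (f.ofConv a) = incl ((1 : WithConv (A →ₐ[R] A)).ofConv a) := by
      have h2 : (WithConv.toConv incl) ^ n = 1 := h
      rw [← hf n] at h2
      have h3 := AlgHom.congr_fun (congrArg WithConv.ofConv h2) a
      refine h3.trans ?_
      simp [AlgHom.convOne_def]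
    have hd : (1 : K) ⊗ₜ[R] d = 0 := by
      show incl d = 0
      rw [map_sub, h1, sub_self]
    have := congrArg (Module.Dual.baseChange K φ) hd
    rw [map_zero] at this
    have h4 : algebraMap R K (φ d) = 0 := by
      simpa [Algebra.algebraMap_eq_smul_one] using this
    rwa [Ideal.algebraMap_residueField_eq_zero] at h4
  have : φ d ∈ nilradical R := by
    rw [nilradical_eq_sInf, Ideal.mem_sInf]
    exact fun p hp => hall p hp
  rwa [nilradical_eq_zero, Ideal.zero_eq_bot, Ideal.mem_bot] at this

theorem pow_eq_one_affine (R : CommRingCat.{u}) [_root_.IsReduced R] (G : Over (Spec R)) [GrpObj G]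
    (n : ℕ) (hG : Mor2.IsFinLocFreeOfDeg n G.hom) : (𝟙 G : G ⟶ G) ^ n = 1 := by
  obtain ⟨⟨hfin, hflat, hlfp⟩, hrk⟩ := hG
  haveI : IsAffine G.left := isAffine_of_isAffineHom G.hom
  obtain ⟨A, hA, e, he⟩ := Groth.Agent.AffGrp.Bridge.exists_iso G
  haveI := he
  let eL : Spec (CommRingCat.of A) ⟶ G.left := e.hom.left
  have hhom : eL ≫ G.hom = Spec.map (CommRingCat.ofHom (algebraMap R A)) := Over.w e.hom
  haveI : IsIso eL := (Over.forget _).map_isIso e.hom
  haveI : IsFinite (Spec.map (CommRingCat.ofHom (algebraMap R A))) := hhom ▸ inferInstance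
  haveI : Flat (Spec.map (CommRingCat.ofHom (algebraMap R A))) := hhom ▸ inferInstance
  haveI : LocallyOfFinitePresentation (Spec.map (CommRingCat.ofHom (algebraMap R A))) :=
    hhom ▸ inferInstance
  haveI : Module.Finite R A :=
    RingHom.finite_algebraMap.mp ((IsFinite.SpecMap_iff _).mp ‹_› : (algebraMap R A).Finite)
  haveI : Module.Flat R A :=
    RingHom.flat_algebraMap_iff.mp (Flat.SpecMap_iff.mp ‹_› : (algebraMap R A).Flat)
  haveI : Algebra.FinitePresentation R A :=
    RingHom.finitePresentation_algebraMap.mp
      ((HasRingHomProperty.Spec_iff (P := @LocallyOfFinitePresentation)).mp ‹_› : (algebraMap R A).FinitePresentation)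
  haveI : Module.FinitePresentation R A := .of_finite_of_finitePresentation R A
  haveI : Module.Projective R A := Module.Flat.projective_of_finitePresentation
  have halg := pow_eq_one_alg R A n (fun p => by
    rw [← Scheme.Hom.finrank_SpecMap_algebraMap R A p, ← hhom, Scheme.Hom.finrank_comp_left_of_isIso]
    exact hrk p)
  have h2 := congrArg (Spec.mapMulEquiv (R := R) (S := A) (T := A)) halg
  rw [map_pow, map_one] at h2
  have h3 : (𝟙 ((Spec A).asOver (Spec R)) : _ ⟶ _) ^ n = 1 := by
    have : Spec.mapMulEquiv (R := R) (S := A) (T := A) (WithConv.toConv (AlgHom.id R A)) =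
        𝟙 ((Spec A).asOver (Spec R)) := by
      ext1
      exact Spec.map_id A
    rwa [this] at h2
  rw [← cancel_epi e.hom, MonObj.comp_pow, Category.comp_id, MonObj.comp_one]
  rw [← Category.id_comp e.hom, ← MonObj.pow_comp, h3, MonObj.one_comp]


/-- Let S be a reduced scheme and G an S-group scheme which is finite locally free of constant rank n
over S. Then the n-th power morphism of G is the trivial endomorphism (g ↦ gⁿ factors through the
unit section). -/
theorem result (S : Scheme.{u}) [IsReduced S] (G : Over S) [GrpObj G] (n : ℕ)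
    (hG : Mor2.IsFinLocFreeOfDeg n G.hom) : (𝟙 G : G ⟶ G) ^ n = 1 := by
  obtain ⟨⟨hfin, hflat, hlfp⟩, hrk⟩ := hG
  ext1
  refine Scheme.Cover.hom_ext ((S.affineOpenCover.openCover).pullback₁ G.hom) _ _ (fun i => ?_)
  let j : Spec (S.affineOpenCover.X i) ⟶ S := S.affineOpenCover.f i
  haveI : IsOpenImmersion j := S.affineOpenCover.map_prop i
  haveI hr : IsReduced (Spec (S.affineOpenCover.X i)) := isReduced_of_isOpenImmersion j
  let F := Over.pullback j
  letI : GrpObj (F.obj G) := Functor.grpObjObj
  haveI : _root_.IsReduced (S.affineOpenCover.X i) := (affine_isReduced_iff _).mp hr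
  have hF : (𝟙 (F.obj G) : F.obj G ⟶ F.obj G) ^ n = 1 := by
    refine pow_eq_one_affine _ (F.obj G) n ⟨⟨?_, ?_, ?_⟩, fun y => ?_⟩
    · exact (inferInstance : IsFinite (Limits.pullback.snd G.hom j))
    · exact (inferInstance : Flat (Limits.pullback.snd G.hom j))
    · exact (inferInstance : LocallyOfFinitePresentation (Limits.pullback.snd G.hom j))
    · show (Limits.pullback.snd G.hom j).finrank y = n
      rw [Scheme.Hom.finrank_pullback_snd, hrk]
  have h : F.map ((𝟙 G : G ⟶ G) ^ n) = F.map 1 := by
    have h1 : F.map ((𝟙 G : G ⟶ G) ^ n) = (F.map (𝟙 G)) ^ n :=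
      map_pow (F.homMonoidHom (X := G) (M := G)) _ n
    rw [h1, CategoryTheory.Functor.map_id, hF]
    exact (map_one (F.homMonoidHom (X := G) (M := G))).symm
  have h2 := congrArg (fun φ => φ.left ≫ Limits.pullback.fst G.hom j) h
  simp only [F, Over.pullback, Over.homMk_left, Limits.pullback.lift_fst] at h2
  exact h2

end Groth.Agent.S4114
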