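import Groth.Statements.S4118
import Groth.Agent.MaxTorus.Fibre

set_option autoImplicit false
universe u
open CategoryTheory MonoidalCategory CartesianMonoidalCategory MonObj GrpObj AlgebraicGeometry CategoryTheory.Limits
open SGA3x

namespace Groth.Agent.S4118

/-- Let G be an S-group scheme, smooth, separated and of finite type over S, and i : T → G a maximal
torus. Then the centralizer of T is represented by a closed subgroup scheme c : C → G which is a
Cartan subgroup of G (smooth over S with Cartan geometric fibres); T factors through C as a maximal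
torus of C, and every maximal torus of C coincides with T (as a subgroup of C). -/
theorem result (S : Scheme.{u}) (G : Over S) [GrpObj G]
    [Smooth G.hom] [IsSeparated G.hom] [QuasiCompact G.hom]
    (T : Over S) [GrpObj T] (i : T ⟶ G) (hT : Red.IsMaximalTorus i) :
    ∃ (C : Over S) (_ : GrpObj C) (c : C ⟶ G), Red.IsCentralizerOf i c ∧ IsClosedImmersion c.left ∧ SGA3x.IsCartan c ∧
      ∃ i' : T ⟶ C, i' ≫ c = i ∧ Red.IsMaximalTorus i' ∧
        ∀ (T' : Over S) [GrpObj T'] (j : T' ⟶ C), Red.IsMaximalTorus j → ∃ φ : T' ≅ T, φ.hom ≫ i' = j := by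
  obtain ⟨him, himono, hTt, hmax⟩ := id hT
  obtain ⟨C, inst, c, hcent, hci, hsm⟩ := Groth.Agent.MaxTorus.exists_centralizer hTt i
  obtain ⟨hcm, hcmono, hpts⟩ := id hcent
  have hM := Groth.Agent.DiagRig.multTypeFT_of_torus hTt
  have hTc : ∀ (X : Over S) (a b : X ⟶ T), a * b = b * a := fun X a b =>
    Groth.Agent.DiagRig.mul_comm_of_splitFpqc (Groth.Agent.DiagRig.splitFpqc_of_multTypeFT T hM) a b
  have := hci
  have := hsm
  have : QuasiCompact C.hom := by rw [← Over.w c]; infer_instance
  have : QuasiSeparated C.hom := by rw [← Over.w c]; infer_instance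
  obtain ⟨i', hi'⟩ := (hpts T i).mpr fun X' x h => by
    rw [← MonObj.mul_comp, ← MonObj.mul_comp, hTc]
  have hi'm : IsMonHom i' := Groth.Agent.DiagRig.isMonHom_of_pts _ fun X x y => by
    rw [← cancel_mono c, Category.assoc, hi', MonObj.mul_comp, MonObj.mul_comp, Category.assoc, Category.assoc, hi']
  have hi'mono : Mono i' := by
    have : Mono (i' ≫ c) := hi'.symm ▸ himono
    exact mono_of_mono i' c
  have hi'max : Red.IsMaximalTorus i' := ⟨hi'm, hi'mono, hTt, fun s T' _ j _ _ f hT' hf => by
    have := Groth.Agent.DiagRig.isMonHom_bcMap (Red.geomPt s) c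
    let cs : Red.geomFibre s C ⟶ Red.geomFibre s G := (Over.pullback (Red.geomPt s)).map c
    have : Mono ((Over.pullback (Red.geomPt s)).map c) := inferInstance
    exact hmax s T' (j ≫ (Over.pullback (Red.geomPt s)).map c) f hT' (by
      rw [← Category.assoc, hf, ← Functor.map_comp, hi'])⟩
  refine ⟨C, inst, c, hcent, hci, ⟨hcm, hcmono, hsm, fun s => ?_⟩, i', hi', hi'max, fun T' _ j hj => ?_⟩
  · exact ⟨Groth.Agent.DiagRig.isMonHom_bcMap _ c, inferInstance, _, inferInstance,
      (Over.pullback (Red.geomPt s)).map i, Groth.Agent.MaxTorus.isMaximalTorus_geomFibre i hT s,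
      Groth.Agent.MaxTorus.isCentralizerOf_bc _ i c hcent⟩
  · obtain ⟨hjm, hjmono, hT't, -⟩ := id hj
    have hcomm : ∀ (X : Over S) (t : X ⟶ T) (r : X ⟶ T'), (t ≫ i) * (r ≫ j ≫ c) = (r ≫ j ≫ c) * (t ≫ i) :=
      fun X t r => by
        have h := (hpts X (r ≫ j ≫ c)).mp ⟨r ≫ j, Category.assoc _ _ _⟩ X (𝟙 X) t
        rw [Category.id_comp] at h
        exact h.symm
    obtain ⟨a, ha⟩ := Groth.Agent.MaxTorus.factor_maximalTorus i hT hT't (j ≫ c) hcomm
    have ha' : a ≫ i' = j := by rw [← cancel_mono c, Category.assoc, hi', ha]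
    obtain ⟨b, hb⟩ := Groth.Agent.MaxTorus.factor_maximalTorus j hj hTt i' fun X t r => by
      rw [← cancel_mono c, MonObj.mul_comp, MonObj.mul_comp, Category.assoc, Category.assoc, hi']
      exact (hcomm X r t).symm
    exact ⟨⟨a, b, by rw [← cancel_mono j, Category.assoc, hb, ha', Category.id_comp],
      by rw [← cancel_mono i', Category.assoc, ha', hb, Category.id_comp]⟩, ha'⟩

end Groth.Agent.S4118
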