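import Groth.Statements.S4135
import Groth.Agent.CMM.Surj

set_option autoImplicit false
universe u
open TensorProduct
attribute [local instance] LieRing.ofAssociativeRing
open SGA3y

namespace Groth.Agent.S4135

/-- Let k be a field of characteristic zero and H a cocommutative bialgebra over k which is connected
(every nonzero subcoalgebra contains 1). Then the canonical algebra homomorphism from the universal
enveloping algebra of the Lie algebra of primitive elements of H to H is bijective. -/
theorem result (k : Type u) [Field k] [CharZero k] (H : Type u) [Ring H]
    [Bialgebra k H] [Coalgebra.IsCocomm k H] (hconn : SGA3y.IsConnectedCoalg k H) :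
    Function.Bijective (UniversalEnvelopingAlgebra.lift k (SGA3y.primLie k H).incl) := by
  classical
  letI : LinearOrder (Module.Free.ChooseBasisIndex k (SGA3y.primLie k H)) :=
    linearOrderOfSTO WellOrderingRel
  exact Groth.Agent.CMM.lift_bijective hconn
    (Module.Free.chooseBasis k (SGA3y.primLie k H))

end Groth.Agent.S4135
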