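import Groth.Statements.S4137
import Groth.Agent.GenOpen19.Closed
import Groth.Agent.GenOpen19.EssFree
import Groth.Agent.GenOpen19.CentNorm
-- import your own Groth.Agent.* helpers here

set_option autoImplicit false
universe u
open CategoryTheory MonoidalCategory CartesianMonoidalCategory MonObj GrpObj AlgebraicGeometry CategoryTheory.Limits
open SGA3
set_option linter.style.haveILetI false

namespace Groth.Agent.S4137

/-- Let S be an integral scheme, G and H S-group schemes of finite presentation over S and i : H → G a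
homomorphism which is a quasi-compact monomorphism. Then there is a non-empty open U of S over which
i becomes a closed immersion and the centralizer and the normalizer of H_U in G_U are representable
by closed subgroup schemes of G_U of finite presentation over U. -/
theorem result (S : Scheme.{u}) [IsIntegral S] (G H : Over S)
    [GrpObj G] [GrpObj H] [LocallyOfFinitePresentation G.hom] [QuasiCompact G.hom] [QuasiSeparated G.hom]
    [LocallyOfFinitePresentation H.hom] [QuasiCompact H.hom] [QuasiSeparated H.hom]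
    (i : H ⟶ G) [IsMonHom i] [Mono i] [QuasiCompact i.left] :
    ∃ U : S.Opens, (U : Set S).Nonempty ∧ IsClosedImmersion ((Over.pullback U.ι).map i).left ∧
      ∃ (C N : Over (U : Scheme.{u})) (_ : GrpObj C) (_ : GrpObj N) (c : C ⟶ Red.bc U.ι G) (n : N ⟶ Red.bc U.ι G),
        Red.IsCentralizerOf ((Over.pullback U.ι).map i) c ∧ IsClosedImmersion c.left ∧
          LocallyOfFinitePresentation C.hom ∧ QuasiCompact C.hom ∧
        Red.IsNormalizerOf ((Over.pullback U.ι).map i) n ∧ IsClosedImmersion n.left ∧
          LocallyOfFinitePresentation N.hom ∧ QuasiCompact N.hom := by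
  obtain ⟨U₁, hU₁, hsep⟩ := GenOpen19.exists_open_separated G
  obtain ⟨U₂, hU₂, hci⟩ := GenOpen19.exists_open_mono_hom G H i
  obtain ⟨U₃, hU₃, hU₃a, hcov⟩ := GenOpen19.exists_open_hasProjCover H.hom
  have hmem : ∀ V : S.Opens, (V : Set S).Nonempty → genericPoint S ∈ V := fun V hV =>
    ((genericPoint_spec S).mem_open_set_iff V.2).2 (by simpa using hV)
  obtain ⟨U, hU, hηU, hle⟩ := exists_isAffineOpen_mem_and_subset
    (show genericPoint S ∈ U₁ ⊓ U₂ ⊓ U₃ from ⟨⟨hmem _ hU₁, hmem _ hU₂⟩, hmem _ hU₃⟩)
  have hle' : U ≤ U₁ ⊓ U₂ ⊓ U₃ := hle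
  have hle₁ : U ≤ U₁ := hle'.trans (inf_le_left.trans inf_le_left)
  have hle₂ : U ≤ U₂ := hle'.trans (inf_le_left.trans inf_le_right)
  have hle₃ : U ≤ U₃ := hle'.trans inf_le_right
  haveI : IsAffine U.toScheme := hU
  haveI : IsAffine U₃.toScheme := hU₃a
  let GU := Red.bc U.ι G
  let HU := Red.bc U.ι H
  let iU : HU ⟶ GU := (Over.pullback U.ι).map i
  haveI : IsSeparated GU.hom := by
    have h := hsep U.toScheme (S.homOfLE hle₁)
    rw [Scheme.homOfLE_ι] at h
    exact h
  haveI hiU : IsClosedImmersion iU.left := by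
    have h := hci U.toScheme (S.homOfLE hle₂)
    rw [Scheme.homOfLE_ι] at h
    exact h
  haveI : LocallyOfFinitePresentation GU.hom := inferInstanceAs (LocallyOfFinitePresentation (pullback.snd G.hom U.ι))
  haveI : LocallyOfFinitePresentation HU.hom := inferInstanceAs (LocallyOfFinitePresentation (pullback.snd H.hom U.ι))
  haveI : QuasiCompact GU.hom := inferInstanceAs (QuasiCompact (pullback.snd G.hom U.ι))
  haveI : QuasiCompact HU.hom := inferInstanceAs (QuasiCompact (pullback.snd H.hom U.ι))
  have hHU : SGA3x.IsEssentiallyFree HU.hom := by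
    refine GenOpen19.isEssentiallyFree_of_hasProjCover _ ?_
    let π : pullback H.hom U.ι ⟶ pullback H.hom U₃.ι :=
      pullback.lift (pullback.fst H.hom U.ι) (pullback.snd H.hom U.ι ≫ S.homOfLE hle₃)
        (by rw [Category.assoc, Scheme.homOfLE_ι, pullback.condition])
    refine hcov.of_isPullback (π := π) (t := S.homOfLE hle₃) ?_
    refine IsPullback.of_right ?_ (pullback.lift_snd _ _ _) (IsPullback.of_hasPullback H.hom U₃.ι)
    rw [show π ≫ pullback.fst H.hom U₃.ι = pullback.fst H.hom U.ι from pullback.lift_fst _ _ _,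
      Scheme.homOfLE_ι]
    exact IsPullback.of_hasPullback H.hom U.ι
  haveI : IsMonHom iU := by
    show IsMonHom ((Over.pullback U.ι).map i)
    infer_instance
  obtain ⟨C, gC, c, hc, hcc, hcf⟩ := GenOpen19.exists_centralizer GU HU hHU iU
  obtain ⟨N, gN, n, hn, hnc, hnf⟩ := GenOpen19.exists_normalizer GU HU hHU iU
  refine ⟨U, ⟨_, hηU⟩, hiU, C, N, gC, gN, c, n, hc, hcc, ?_, ?_, hn, hnc, ?_, ?_⟩
  · rw [← Over.w c]; infer_instance
  · rw [← Over.w c]; infer_instance
  · rw [← Over.w n]; infer_instance
  · rw [← Over.w n]; infer_instance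

end Groth.Agent.S4137
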