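import Groth.Statements.S5334
-- import your own Groth.Agent.* helpers here
import Groth.Agent.S5325
import Groth.Agent.S5330
import Groth.Agent.GrpScheme.Basic
import Groth.Agent.ProConsX.Basic
import Groth.Agent.ConsPairLib.Loci
import Groth.Agent.LimTop.Descend
import Groth.Agent.OpenAt.Basic
import Groth.Agent.AlgSpD.FibreDimBC

set_option autoImplicit false
universe u
open CategoryTheory CategoryTheory.Limits MonoidalCategory CartesianMonoidalCategory MonObj GrpObj AlgebraicGeometry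
open SGA3

namespace Groth.Agent.S5334

open Groth.Agent.GrpScheme.Basic Groth.Agent.GrpSGA

variable {S : Scheme.{u}}

lemma isIndConstructible_inter {X : Scheme.{u}} {A B : Set X} (hA : ProCons.IsIndConstructible A)
    (hB : ProCons.IsIndConstructible B) : ProCons.IsIndConstructible (A ∩ B) := by
  refine ProConsX.Basic.isIndConstructible_iff.mpr fun W hW => ?_
  rw [Set.preimage_inter]
  exact @IsOpen.inter _ (constructibleTopology _) _ _ (ProConsX.Basic.isIndConstructible_iff.mp hA W hW)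
    (ProConsX.Basic.isIndConstructible_iff.mp hB W hW)

/-- An open is separated over the base as soon as limits of the diagonal inside it stay on the diagonal. -/
lemma isSeparated_of_closure {X T : Scheme.{u}} (f : X ⟶ T) (V : X.Opens)
    (h : ∀ q, q ∈ closure (Set.range (pullback.diagonal f)) → pullback.fst f f q ∈ V →
      pullback.snd f f q ∈ V → q ∈ Set.range (pullback.diagonal f)) : IsSeparated (V.ι ≫ f) := by
  let m := pullback.map (V.ι ≫ f) (V.ι ≫ f) f f V.ι V.ι (𝟙 T) (by simp) (by simp)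
  have hcomm : pullback.diagonal (V.ι ≫ f) ≫ m = V.ι ≫ pullback.diagonal f := by
    apply pullback.hom_ext
    · simp only [m, Category.assoc, pullback.lift_fst, pullback.diagonal_fst_assoc, pullback.diagonal_fst,
        Category.comp_id]
    · simp only [m, Category.assoc, pullback.lift_snd, pullback.diagonal_snd_assoc, pullback.diagonal_snd,
        Category.comp_id]
  have hc : ∀ w, m (pullback.diagonal (V.ι ≫ f) w) = pullback.diagonal f (V.ι w) := fun w => by
    rw [← Scheme.Hom.comp_apply, hcomm, Scheme.Hom.comp_apply]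
  have hrange : Set.range (pullback.diagonal (V.ι ≫ f)) = m ⁻¹' closure (Set.range (pullback.diagonal f)) := by
    ext r
    constructor
    · rintro ⟨w, rfl⟩
      exact subset_closure ⟨V.ι w, (hc w).symm⟩
    · intro hr
      have h1 : pullback.fst f f (m r) ∈ V := by
        rw [← Scheme.Hom.comp_apply, pullback.lift_fst, Scheme.Hom.comp_apply]
        exact (pullback.fst (V.ι ≫ f) (V.ι ≫ f) r).2
      have h2 : pullback.snd f f (m r) ∈ V := by
        rw [← Scheme.Hom.comp_apply, pullback.lift_snd, Scheme.Hom.comp_apply]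
        exact (pullback.snd (V.ι ≫ f) (V.ι ≫ f) r).2
      obtain ⟨w, hw⟩ := h _ hr h1 h2
      have hwV : w ∈ V := by
        rw [← hw, ← Scheme.Hom.comp_apply, pullback.diagonal_fst] at h1
        exact h1
      refine ⟨⟨w, hwV⟩, m.isOpenEmbedding.injective ?_⟩
      rw [hc]
      exact hw
  refine ⟨IsClosedImmersion.of_isPreimmersion _ ?_⟩
  rw [hrange]
  exact isClosed_closure.preimage m.continuous

/-- Conversely, limits of the diagonal inside a separated open stay on the diagonal. -/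
lemma mem_range_diagonal {X T : Scheme.{u}} (f : X ⟶ T) (U : X.Opens) (hU : IsSeparated (U.ι ≫ f))
    (q : ↥(pullback f f)) (hq : q ∈ closure (Set.range (pullback.diagonal f)))
    (h1 : pullback.fst f f q ∈ U) (h2 : pullback.snd f f q ∈ U) : q ∈ Set.range (pullback.diagonal f) := by
  let m := pullback.map (U.ι ≫ f) (U.ι ≫ f) f f U.ι U.ι (𝟙 T) (by simp) (by simp)
  have hcomm : pullback.diagonal (U.ι ≫ f) ≫ m = U.ι ≫ pullback.diagonal f := by
    apply pullback.hom_ext
    · simp only [m, Category.assoc, pullback.lift_fst, pullback.diagonal_fst_assoc, pullback.diagonal_fst,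
        Category.comp_id]
    · simp only [m, Category.assoc, pullback.lift_snd, pullback.diagonal_snd_assoc, pullback.diagonal_snd,
        Category.comp_id]
  have hc : ∀ w, m (pullback.diagonal (U.ι ≫ f) w) = pullback.diagonal f (U.ι w) := fun w => by
    rw [← Scheme.Hom.comp_apply, hcomm, Scheme.Hom.comp_apply]
  obtain ⟨r, rfl⟩ : q ∈ Set.range m := by
    rw [Scheme.Pullback.range_map, Scheme.Opens.range_ι]
    exact ⟨h1, h2⟩
  have hsub : m ⁻¹' Set.range (pullback.diagonal f) ⊆ Set.range (pullback.diagonal (U.ι ≫ f)) := by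
    rintro r' ⟨w, hw⟩
    have hwU : w ∈ U := by
      have : pullback.fst f f (m r') ∈ U := by
        rw [← Scheme.Hom.comp_apply, pullback.lift_fst, Scheme.Hom.comp_apply]
        exact (pullback.fst (U.ι ≫ f) (U.ι ≫ f) r').2
      rw [← hw, ← Scheme.Hom.comp_apply, pullback.diagonal_fst] at this
      exact this
    refine ⟨⟨w, hwU⟩, m.isOpenEmbedding.injective ?_⟩
    rw [hc]
    exact hw
  have hr : r ∈ closure (m ⁻¹' Set.range (pullback.diagonal f)) := by
    rw [← m.isOpenEmbedding.isOpenMap.preimage_closure_eq_closure_preimage m.continuous]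
    exact hq
  obtain ⟨w, rfl⟩ := (pullback.diagonal (U.ι ≫ f)).isClosedEmbedding.isClosed_range.closure_subset_iff.mpr hsub hr
  exact ⟨U.ι w, (hc w).symm⟩

variable (G : Over S) [GrpObj G]

lemma pb (Y : Over S) : IsPullback (fst G Y).left (snd G Y).left G.hom Y.hom :=
  IsPullback.of_hasPullback G.hom Y.hom

/-- The unit section of `G ⊗ Y` over `Y`. -/
noncomputable def sec (Y : Over S) : Y ⟶ G ⊗ Y := lift (toUnit Y ≫ η[G]) (𝟙 Y)

lemma sec_snd (Y : Over S) : (sec G Y).left ≫ (snd G Y).left = 𝟙 Y.left := by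
  rw [← Over.comp_left, sec, lift_snd]; rfl

lemma sec_fst (Y : Over S) : (sec G Y).left ≫ (fst G Y).left = Y.hom ≫ NeutralCons.unitSec G := by
  rw [← Over.comp_left, sec, lift_fst, Over.comp_left, Over.toUnit_left]

lemma hom_fst_apply (Y : Over S) (n : ↥(G ⊗ Y).left) :
    G.hom ((fst G Y).left n) = Y.hom ((snd G Y).left n) := by
  rw [← Scheme.Hom.comp_apply, ← Scheme.Hom.comp_apply, (pb G Y).w]

variable [LocallyOfFinitePresentation G.hom]

/-- The component through the unit section of a fibre of `G ⊗ Y → Y` is the neutral part. -/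
lemma mem_fibre_component (Y : Over S) (y : Y.left) (n : ↥(G ⊗ Y).left) :
    n ∈ connectedComponentIn ((snd G Y).left ⁻¹' {y}) ((sec G Y).left y) ↔
      (fst G Y).left n ∈ SGA3x.neutralSet G ∧ (snd G Y).left n = y := by
  rw [SecComp.mem_component_iff G.hom (NeutralCons.unitSec G) (Over.w η[G]) (snd G Y).left (fst G Y).left
    Y.hom (pb G Y) (sec G Y).left (sec_snd G Y) (sec_fst G Y) y]
  constructor
  · rintro ⟨h1, h2⟩
    exact ⟨(NeutralCons.connected_eq G ((hom_fst_apply G Y n).trans (congrArg _ h2))).mpr h1, h2⟩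
  · rintro ⟨h1, h2⟩
    exact ⟨(NeutralCons.connected_eq G ((hom_fst_apply G Y n).trans (congrArg _ h2))).mp h1, h2⟩

lemma isIrreducible_fibre_component (Y : Over S) (y : Y.left) :
    IsIrreducible (connectedComponentIn ((snd G Y).left ⁻¹' {y}) ((sec G Y).left y)) :=
  SecDim.isIrreducible_baseChange_at G.hom (NeutralCons.unitSec G) (Over.w η[G]) (pb G Y) (sec_snd G Y)
    (sec_fst G Y) (fun K _ _ => S5330.preimage_component_irreducible G (Y.hom y) K) rfl

lemma exists_generization (hdim : IsLocallyConstant (fun s : S => topologicalKrullDim ↥(G.hom.base ⁻¹' {s})))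
    (Y : Over S) {x y : Y.left} (hy : y ⤳ x) (p : ↥(G ⊗ Y).left)
    (hp : (fst G Y).left p ∈ SGA3x.neutralSet G) (hpx : (snd G Y).left p = x) :
    ∃ z : ↥(G ⊗ Y).left, (fst G Y).left z ∈ SGA3x.neutralSet G ∧ (snd G Y).left z = y ∧ z ⤳ p := by
  have : LocallyOfFiniteType (snd G Y).left := MorphismProperty.of_isPullback (pb G Y) inferInstance
  have hd : ∀ w, FlatMor.fibreDimAt (snd G Y).left ((sec G Y).left w) =
      topologicalKrullDim ↥(G.hom.base ⁻¹' {Y.hom w}) := fun w => by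
    rw [AlgSpD.fibreDimAt_of_isPullback G.hom (pb G Y), ← Scheme.Hom.comp_apply, sec_fst,
      Scheme.Hom.comp_apply]
    exact (S5330.dim_at G _ _ (NeutralCons.hom_unitSec G _)).symm
  obtain ⟨z, hzy, hzs, -, hcl⟩ := SecDim.subset_closure_of_fibreDimAt (snd G Y).left (sec G Y).left
    (sec_snd G Y) hy (isIrreducible_fibre_component G Y x) (by
      rw [hd, hd]
      exact le_of_eq ((hy.map Y.hom.continuous).mem_open (hdim.isOpen_fiber _) rfl).symm)
  have hsy : (snd G Y).left ((sec G Y).left y) = y := by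
    rw [← Scheme.Hom.comp_apply, sec_snd]; rfl
  refine ⟨z, ((mem_fibre_component G Y y z).mp
    (SecDim.mem_component_of_specializes _ hzy hsy hzy hzs specializes_rfl)).1, hzy, ?_⟩
  exact specializes_iff_mem_closure.mpr (hcl ((mem_fibre_component G Y x p).mpr ⟨hp, hpx⟩))

lemma mem_closure_preimage (hdim : IsLocallyConstant (fun s : S => topologicalKrullDim ↥(G.hom.base ⁻¹' {s})))
    (Y : Over S) (D : Set Y.left) (n : ↥(G ⊗ Y).left) (hn : (fst G Y).left n ∈ SGA3x.neutralSet G)
    (hq : (snd G Y).left n ∈ closure D) : n ∈ closure ((snd G Y).left ⁻¹' D) := by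
  have h1 : EGA43.IsUnivOpenAt G.hom ((fst G Y).left n) :=
    ((S5330.result S G (G.hom ((fst G Y).left n))).2).mpr
      ⟨_, (hdim.isOpen_fiber _).mem_nhds rfl, fun t ht => ht⟩ _ ⟨hn, rfl⟩
  have h2 : EGA43.IsUnivOpenAt (snd G Y).left n := OpenAt.isUnivOpenAt_of_isPullback h1 (pb G Y) n rfl
  have h3 : EGA43.IsOpenAt (snd G Y).left n := by
    intro W hW
    have e : IsPullback (𝟙 _) (snd G Y).left (snd G Y).left (𝟙 _) := IsPullback.of_id_fst
    have := OpenAt.isOpenAt_of_isPullback h2 e n rfl W hW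
    simpa using this
  rw [mem_closure_iff_nhds]
  intro W hW
  obtain ⟨_, ⟨m, hm, rfl⟩, hmD⟩ := mem_closure_iff_nhds.mp hq _ (h3 W hW)
  exact ⟨m, hm, hmD⟩

lemma act_eq {X : Over S} (a : AlgGrp.Action G X) : smul a (fst G X) (snd G X) = a.act := by
  simp [smul]

/-- The set `G⁰ · U`. -/
def orbitSet {X : Over S} (a : AlgGrp.Action G X) (U : X.left.Opens) : Set X.left :=
  a.act.left.base '' {z : ↥(G ⊗ X).left | (fst G X).left.base z ∈ SGA3x.neutralSet G ∧ (snd G X).left.base z ∈ U}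

/-- Points of `G⁰ · U` through the inverse action. -/
lemma mem_orbitSet_iff {X : Over S} (a : AlgGrp.Action G X) (U : X.left.Opens) (x : X.left) :
    x ∈ orbitSet G a U ↔ ∃ p : ↥(G ⊗ X).left, (fst G X).left p ∈ SGA3x.neutralSet G ∧ (snd G X).left p = x ∧
      (smul a (fst G X)⁻¹ (snd G X)).left p ∈ U := by
  constructor
  · rintro ⟨z, ⟨hz1, hz2⟩, rfl⟩
    refine ⟨(lift (fst G X) a.act).left z, ?_, ?_, ?_⟩
    · rw [← Scheme.Hom.comp_apply, ← Over.comp_left, lift_fst]; exact hz1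
    · rw [← Scheme.Hom.comp_apply, ← Over.comp_left, lift_snd]
    · have : lift (fst G X) a.act ≫ smul a (fst G X)⁻¹ (snd G X) = snd G X := by
        rw [comp_smul, GrpObj.comp_inv, lift_fst, lift_snd, ← act_eq G a, inv_smul_smul']
      rw [← Scheme.Hom.comp_apply, ← Over.comp_left, this]; exact hz2
  · rintro ⟨p, hp1, rfl, hp2⟩
    refine ⟨(lift (fst G X) (smul a (fst G X)⁻¹ (snd G X))).left p, ⟨?_, ?_⟩, ?_⟩
    · show (fst G X).left ((lift (fst G X) (smul a (fst G X)⁻¹ (snd G X))).left p) ∈ _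
      rw [← Scheme.Hom.comp_apply, ← Over.comp_left, lift_fst]; exact hp1
    · show (snd G X).left ((lift (fst G X) (smul a (fst G X)⁻¹ (snd G X))).left p) ∈ U
      rw [← Scheme.Hom.comp_apply, ← Over.comp_left, lift_snd]; exact hp2
    · have : lift (fst G X) (smul a (fst G X)⁻¹ (snd G X)) ≫ a.act = snd G X :=
        smul_inv_smul' a (fst G X) (snd G X)
      rw [← Scheme.Hom.comp_apply, ← Over.comp_left, this]

lemma isOpen_orbitSet (hdim : IsLocallyConstant (fun s : S => topologicalKrullDim ↥(G.hom.base ⁻¹' {s})))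
    {X : Over S} (a : AlgGrp.Action G X) (U : X.left.Opens) : IsOpen (orbitSet G a U) := by
  have : LocallyOfFinitePresentation a.act.left := act_mem @LocallyOfFinitePresentation a inferInstance
  have hic : ProCons.IsIndConstructible (orbitSet G a U) :=
    ProConsX.Basic.isIndConstructible_image a.act.left (isIndConstructible_inter
      (ConsPairLib.isIndConstructible_preimage (fst G X).left (S5325.result S G).1)
      (LimTop.isIndConstructible_of_isOpen ((snd G X).left ⁻¹ᵁ U).2))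
  rw [← interior_eq_iff_isOpen]
  refine Set.Subset.antisymm interior_subset fun x hx => (ProConsX.Basic.mem_interior_iff hic x).mpr
    fun y hy => ?_
  obtain ⟨p, hp1, hp2, hp3⟩ := (mem_orbitSet_iff G a U x).mp hx
  obtain ⟨z, hz1, hz2, hzp⟩ := exists_generization G hdim X hy p hp1 hp2
  exact (mem_orbitSet_iff G a U y).mpr
    ⟨z, hz1, hz2, hzp.mem_open ((smul a (fst G X)⁻¹ (snd G X)).left ⁻¹ᵁ U).2 hp3⟩

/-- Over a point of `X ⊗ X` with both projections in `G⁰ · U`, both translations are simultaneously possible. -/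
lemma exists_common {X : Over S} (a : AlgGrp.Action G X) (U : X.left.Opens) (q : ↥(X ⊗ X).left)
    (h1 : (fst X X).left q ∈ orbitSet G a U) (h2 : (snd X X).left q ∈ orbitSet G a U) :
    ∃ n : ↥(G ⊗ (X ⊗ X)).left, (fst G (X ⊗ X)).left n ∈ SGA3x.neutralSet G ∧ (snd G (X ⊗ X)).left n = q ∧
      (G ◁ fst X X ≫ smul a (fst G X)⁻¹ (snd G X)).left n ∈ U ∧
      (G ◁ snd X X ≫ smul a (fst G X)⁻¹ (snd G X)).left n ∈ U := by
  have key : ∀ π : X ⊗ X ⟶ X, π.left q ∈ orbitSet G a U →
      (connectedComponentIn ((snd G (X ⊗ X)).left ⁻¹' {q}) ((sec G (X ⊗ X)).left q) ∩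
        ((G ◁ π ≫ smul a (fst G X)⁻¹ (snd G X)).left ⁻¹ᵁ U : Set ↥(G ⊗ (X ⊗ X)).left)).Nonempty := by
    intro π hπ
    obtain ⟨p, hp1, hp2, hp3⟩ := (mem_orbitSet_iff G a U _).mp hπ
    obtain ⟨n, hn1, hn2⟩ := Scheme.exists_preimage_of_isPullback
      ((isPullback_whiskerLeft (R := G) π).map (Over.forget S)) p q hp2
    refine ⟨n, (mem_fibre_component G (X ⊗ X) q n).mpr ⟨?_, hn2⟩, ?_⟩
    · rw [← whiskerLeft_fst G π, Over.comp_left, Scheme.Hom.comp_apply]
      exact hn1.symm ▸ hp1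
    · show (G ◁ π ≫ smul a (fst G X)⁻¹ (snd G X)).left n ∈ U
      rw [Over.comp_left, Scheme.Hom.comp_apply]
      exact hn1.symm ▸ hp3
  obtain ⟨n, hn, hna, hnb⟩ := (isIrreducible_fibre_component G (X ⊗ X) q).2 _ _
    ((G ◁ fst X X ≫ smul a (fst G X)⁻¹ (snd G X)).left ⁻¹ᵁ U).2
    ((G ◁ snd X X ≫ smul a (fst G X)⁻¹ (snd G X)).left ⁻¹ᵁ U).2 (key _ h1) (key _ h2)
  obtain ⟨hn1, hn2⟩ := (mem_fibre_component G (X ⊗ X) q n).mp hn
  exact ⟨n, hn1, hn2, hna, hnb⟩

lemma mem_diagonal {X : Over S} (a : AlgGrp.Action G X)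
    (hdim : IsLocallyConstant (fun s : S => topologicalKrullDim ↥(G.hom.base ⁻¹' {s})))
    (U : X.left.Opens) (hU : IsSeparated (U.ι ≫ X.hom)) (q : ↥(X ⊗ X).left)
    (hq : q ∈ closure (Set.range (lift (𝟙 X) (𝟙 X)).left))
    (h1 : (fst X X).left q ∈ orbitSet G a U) (h2 : (snd X X).left q ∈ orbitSet G a U) :
    q ∈ Set.range (lift (𝟙 X) (𝟙 X)).left := by
  let ψ := smul a (fst G X)⁻¹ (snd G X)
  let Δ : X ⟶ X ⊗ X := lift (𝟙 X) (𝟙 X)
  let Φ : G ⊗ (X ⊗ X) ⟶ X ⊗ X := lift (G ◁ fst X X ≫ ψ) (G ◁ snd X X ≫ ψ)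
  let Ψ : G ⊗ (X ⊗ X) ⟶ G ⊗ (X ⊗ X) := lift (fst _ _) Φ
  let Ψ' : G ⊗ (X ⊗ X) ⟶ G ⊗ (X ⊗ X) := lift (fst _ _) (lift (G ◁ fst X X ≫ a.act) (G ◁ snd X X ≫ a.act))
  obtain ⟨n, hn1, hn2, hna, hnb⟩ := exists_common G a U q h1 h2
  subst hn2
  have eΦ : (G ◁ Δ) ≫ Φ = ψ ≫ Δ := by
    refine CartesianMonoidalCategory.hom_ext _ _ ?_ ?_ <;>
      simp [Φ, Δ, ← whiskerLeft_comp_assoc]
  have eΨ' : (G ◁ Δ) ≫ Ψ' ≫ snd G (X ⊗ X) = a.act ≫ Δ := by
    refine CartesianMonoidalCategory.hom_ext _ _ ?_ ?_ <;>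
      simp [Ψ', Δ, ← whiskerLeft_comp_assoc]
  have eΨ : Ψ ≫ Ψ' ≫ snd G (X ⊗ X) = snd G (X ⊗ X) := by
    have hπ : ∀ π : X ⊗ X ⟶ X, G ◁ π = lift (fst G (X ⊗ X)) (snd G (X ⊗ X) ≫ π) := fun π =>
      CartesianMonoidalCategory.hom_ext _ _ (by simp) (by simp)
    have hact : ∀ π : X ⊗ X ⟶ X, G ◁ π ≫ a.act = smul a (fst _ _) (snd G (X ⊗ X) ≫ π) := fun π => by
      rw [hπ]; rfl
    have hψ : ∀ π : X ⊗ X ⟶ X, G ◁ π ≫ ψ = smul a (fst G (X ⊗ X))⁻¹ (snd G (X ⊗ X) ≫ π) := fun π => by
      rw [comp_smul, GrpObj.comp_inv, whiskerLeft_fst, whiskerLeft_snd]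
    refine CartesianMonoidalCategory.hom_ext _ _ ?_ ?_
    · simp only [Ψ', Category.assoc, lift_snd_assoc, lift_fst, hact, comp_smul, Ψ, lift_snd,
        Φ, hψ, smul_inv_smul']
    · simp only [Ψ', Category.assoc, lift_snd_assoc, lift_snd, hact, comp_smul, Ψ, lift_fst,
        Φ, hψ, smul_inv_smul']
  -- preimages of the diagonal along the projection are mapped into the diagonal
  have hmaps : ∀ (θ : G ⊗ (X ⊗ X) ⟶ X ⊗ X) (ρ : G ⊗ X ⟶ X), G ◁ Δ ≫ θ = ρ ≫ Δ →
      ∀ m, (snd G (X ⊗ X)).left m ∈ Set.range Δ.left → θ.left m ∈ Set.range Δ.left := by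
    intro θ ρ hθ m hm
    obtain ⟨w, hw⟩ := hm
    obtain ⟨m', -, hm'⟩ := Scheme.exists_preimage_of_isPullback
      ((isPullback_whiskerLeft (R := G) Δ).map (Over.forget S)).flip w m hw
    subst hm'
    refine ⟨ρ.left m', ?_⟩
    show Δ.left (ρ.left m') = θ.left ((G ◁ Δ).left m')
    rw [← Scheme.Hom.comp_apply, ← Scheme.Hom.comp_apply, ← Over.comp_left, ← Over.comp_left, hθ]
  have hΦn : Φ.left n ∈ closure (Set.range Δ.left) := by
    refine closure_mono (s := Φ.left '' ((snd G (X ⊗ X)).left ⁻¹' Set.range Δ.left))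
      (by rintro _ ⟨m, hm, rfl⟩; exact hmaps Φ ψ eΦ m hm)
      (image_closure_subset_closure_image Φ.left.continuous
        ⟨n, mem_closure_preimage G hdim (X ⊗ X) _ n hn1 hq, rfl⟩)
  have hD : Φ.left n ∈ Set.range Δ.left := by
    refine mem_range_diagonal X.hom U hU (Φ.left n) hΦn ?_ ?_
    · show ((fst X X).left) (Φ.left n) ∈ U
      rw [← Scheme.Hom.comp_apply, ← Over.comp_left, lift_fst]; exact hna
    · show ((snd X X).left) (Φ.left n) ∈ U
      rw [← Scheme.Hom.comp_apply, ← Over.comp_left, lift_snd]; exact hnb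
  have hm := hmaps (Ψ' ≫ snd G (X ⊗ X)) a.act eΨ' (Ψ.left n) (by
    rw [← Scheme.Hom.comp_apply, ← Over.comp_left, lift_snd]; exact hD)
  rw [← Scheme.Hom.comp_apply, ← Over.comp_left, eΨ] at hm
  exact hm

/-- Let G be an S-group scheme locally of finite presentation over S such that s ↦ dim G_s is locally
constant on S, acting on an S-scheme X, and let U be an open subscheme of X separated over S. Let
G⁰·U be the image under the action G ×_S X → X of the set of points whose projection to G lies in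
the union G⁰ of the neutral components of the fibres and whose projection to X lies in U. Then G⁰·U
is open in X and the open subscheme it carries is separated over S. -/
theorem result (S : Scheme.{u}) (G X : Over S) [GrpObj G]
    [LocallyOfFinitePresentation G.hom]
    (hdim : IsLocallyConstant (fun s : S => topologicalKrullDim ↥(G.hom.base ⁻¹' {s})))
    (a : AlgGrp.Action G X) (U : X.left.Opens) (hU : IsSeparated (U.ι ≫ X.hom)) :
    ∃ V : X.left.Opens, (V : Set X.left) =
        a.act.left.base '' {z : ↥(G ⊗ X).left | (fst G X).left.base z ∈ SGA3x.neutralSet G ∧ (snd G X).left.base z ∈ U} ∧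
      IsSeparated (V.ι ≫ X.hom) := by
  refine ⟨⟨orbitSet G a U, isOpen_orbitSet G hdim a U⟩, rfl, isSeparated_of_closure X.hom _ fun q hq h1 h2 => ?_⟩
  exact mem_diagonal G a hdim U hU q hq h1 h2

end Groth.Agent.S5334
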