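import Groth.Statements.S4140
import Groth.Agent.S5334
import Groth.Agent.LimLib.Props
-- import your own Groth.Agent.* helpers here

set_option autoImplicit false
universe u
open CategoryTheory MonoidalCategory CartesianMonoidalCategory MonObj GrpObj AlgebraicGeometry CategoryTheory.Limits
open SGA3

namespace Groth.Agent.S4140

theorem isPullback_diagonal_of_mono {S W X : Scheme.{u}} (g : X ⟶ S) (v : W ⟶ X) [Mono v] :
    IsPullback v (pullback.diagonal (v ≫ g)) (pullback.diagonal g)
      (pullback.lift (pullback.fst (v ≫ g) (v ≫ g) ≫ v) (pullback.snd (v ≫ g) (v ≫ g) ≫ v)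
        (by simp [pullback.condition])) := by
  refine ⟨⟨by
    apply pullback.hom_ext
    · rw [Category.assoc, Category.assoc, pullback.diagonal_fst, pullback.lift_fst, pullback.diagonal_fst_assoc,
        Category.comp_id]
    · rw [Category.assoc, Category.assoc, pullback.diagonal_snd, pullback.lift_snd, pullback.diagonal_snd_assoc,
        Category.comp_id]⟩, ⟨PullbackCone.IsLimit.mk _
    (fun s => s.snd ≫ pullback.fst (v ≫ g) (v ≫ g)) (fun s => ?_) (fun s => ?_) (fun s m h1 h2 => ?_)⟩⟩
  · have e1 := congrArg (· ≫ pullback.fst g g) s.condition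
    simp only [Category.assoc, pullback.diagonal_fst, pullback.lift_fst, Category.comp_id] at e1
    exact (Category.assoc _ _ _).trans e1.symm
  · have e1 := congrArg (· ≫ pullback.fst g g) s.condition
    have e2 := congrArg (· ≫ pullback.snd g g) s.condition
    simp only [Category.assoc, pullback.diagonal_fst, pullback.diagonal_snd, pullback.lift_fst, pullback.lift_snd,
      Category.comp_id] at e1 e2
    apply pullback.hom_ext
    · simp
    · simp only [Category.assoc, pullback.diagonal_snd, Category.comp_id]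
      rw [← cancel_mono v]
      simp only [Category.assoc]
      exact e1.symm.trans e2
  · rw [← h2]; simp

variable {S : Scheme.{u}} (G : Over S) [GrpObj G]

/-- left translation -/
noncomputable def selfAction : AlgGrp.Action G G where
  act := μ[G]
  one_act := MonObj.one_mul G
  mul_act := MonObj.mul_assoc G

theorem exists_separated_nhd [LocallyOfFinitePresentation G.hom]
    (hdim : IsLocallyConstant (fun s : S => topologicalKrullDim ↥(G.hom.base ⁻¹' {s}))) (s : S) :
    ∃ (S₀ : S.Opens) (V : G.left.Opens), s ∈ S₀ ∧ IsSeparated (V.ι ≫ G.hom) ∧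
      ∀ x ∈ SGA3x.neutralSet G, G.hom x ∈ S₀ → x ∈ V := by
  obtain ⟨U, hU, hsU, -⟩ := exists_isAffineOpen_mem_and_subset
    (show η[G].left s ∈ (⊤ : G.left.Opens) from trivial)
  haveI : IsAffine U.toScheme := hU
  have hUs : IsSeparated (U.ι ≫ G.hom) := inferInstance
  obtain ⟨V, hV, hVs⟩ := S5334.result S G G hdim (selfAction G) U hUs
  refine ⟨η[G].left ⁻¹ᵁ U, V, hsU, hVs, fun x hx hxU => ?_⟩
  show x ∈ (V : Set G.left)
  rw [hV]
  let z := (lift (𝟙 G) (toUnit G ≫ η[G])).left x
  have h1 : (fst G G).left z = x := by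
    show ((lift (𝟙 G) (toUnit G ≫ η[G])).left ≫ (fst G G).left) x = x
    rw [← Over.comp_left, lift_fst]; rfl
  have h2 : (snd G G).left z = η[G].left (G.hom x) := by
    show ((lift (𝟙 G) (toUnit G ≫ η[G])).left ≫ (snd G G).left) x = _
    rw [← Over.comp_left, lift_snd, Over.comp_left, Scheme.Hom.comp_apply]
    rfl
  refine ⟨z, ⟨?_, ?_⟩, ?_⟩
  · show (fst G G).left z ∈ SGA3x.neutralSet G
    rw [h1]; exact hx
  · show (snd G G).left z ∈ U
    rw [h2]; exact hxU
  · show ((lift (𝟙 G) (toUnit G ≫ η[G])).left ≫ μ[G].left) x = x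
    rw [← Over.comp_left, MonObj.lift_comp_one_right]; rfl

end Groth.Agent.S4140

namespace Groth.Agent.S4140

/-- Let G be an S-group scheme locally of finite presentation over S such that s ↦ dim G_s is locally
constant, and σ, τ two S-points of G with values in the neutral component G⁰ (their images lie in
the union of the neutral components of the fibres). Then the subscheme of coincidences of σ and τ
(the pullback of the diagonal of G along (σ, τ)) is a closed subscheme of S. -/
theorem result (S : Scheme.{u}) (G : Over S) [GrpObj G]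
    [LocallyOfFinitePresentation G.hom]
    (hdim : IsLocallyConstant (fun s : S => topologicalKrullDim ↥(G.hom.base ⁻¹' {s})))
    (σ τ : 𝟙_ (Over S) ⟶ G) (hσ : Set.range σ.left.base ⊆ SGA3x.neutralSet G)
    (hτ : Set.range τ.left.base ⊆ SGA3x.neutralSet G) :
    IsClosedImmersion (pullback.fst (lift σ τ) (lift (𝟙 G) (𝟙 G))).left := by
  let Δ : G ⟶ G ⊗ G := lift (𝟙 G) (𝟙 G)
  have hΔ : Δ.left = pullback.diagonal G.hom := by
    apply pullback.hom_ext
    · rw [pullback.diagonal_fst]
      exact congrArg CommaMorphism.left (lift_fst (𝟙 G) (𝟙 G))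
    · rw [pullback.diagonal_snd]
      exact congrArg CommaMorphism.left (lift_snd (𝟙 G) (𝟙 G))
  let e := (pullback.fst (lift σ τ) Δ).left
  have sq : IsPullback (pullback.snd (lift σ τ) Δ).left e (pullback.diagonal G.hom) (lift σ τ).left := by
    rw [← hΔ]
    exact ((IsPullback.of_hasPullback (lift σ τ) Δ).flip).map (Over.forget S)
  choose S₀ V hs hVs hmem using exists_separated_nhd G hdim
  refine IsZariskiLocalAtTarget.of_iSup_eq_top (P := @IsClosedImmersion) (U := S₀)
    (top_le_iff.mp fun s _ => TopologicalSpace.Opens.mem_iSup.mpr ⟨s, hs s⟩) fun s => ?_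
  have hrange : ∀ (ρ : 𝟙_ (Over S) ⟶ G), Set.range ρ.left.base ⊆ SGA3x.neutralSet G →
      Set.range ((S₀ s).ι ≫ ρ.left) ⊆ Set.range (V s).ι := by
    rintro ρ hρ _ ⟨t, rfl⟩
    rw [Scheme.Opens.range_ι]
    refine hmem s _ (hρ ⟨_, rfl⟩) ?_
    show G.hom (ρ.left t.1) ∈ S₀ s
    rw [← Scheme.Hom.comp_apply, Over.w ρ]
    exact t.2
  let ls := IsOpenImmersion.lift (V s).ι ((S₀ s).ι ≫ σ.left) (hrange σ hσ)
  let lt := IsOpenImmersion.lift (V s).ι ((S₀ s).ι ≫ τ.left) (hrange τ hτ)
  have els : ls ≫ (V s).ι = (S₀ s).ι ≫ σ.left := IsOpenImmersion.lift_fac _ _ _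
  have elt : lt ≫ (V s).ι = (S₀ s).ι ≫ τ.left := IsOpenImmersion.lift_fac _ _ _
  haveI := hVs s
  let w : (S₀ s).toScheme ⟶ pullback ((V s).ι ≫ G.hom) ((V s).ι ≫ G.hom) := pullback.lift ls lt (by
    rw [reassoc_of% els, reassoc_of% elt, Over.w σ, Over.w τ])
  refine LimLib.property_of_factor (P := @IsClosedImmersion) (isPullback_diagonal_of_mono G.hom (V s).ι)
    ((isPullback_morphismRestrict e (S₀ s)).flip.paste_horiz sq) w ?_ (IsSeparated.isClosedImmersion_diagonal)
  refine pullback.hom_ext ?_ ?_
  · simp only [w, Category.assoc, pullback.lift_fst, pullback.lift_fst_assoc, els]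
    exact congrArg ((S₀ s).ι ≫ ·) (congrArg CommaMorphism.left (lift_fst σ τ)).symm
  · simp only [w, Category.assoc, pullback.lift_snd, pullback.lift_snd_assoc, elt]
    exact congrArg ((S₀ s).ι ≫ ·) (congrArg CommaMorphism.left (lift_snd σ τ)).symm

end Groth.Agent.S4140
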