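import Groth.Statements.S4149
import Groth.Agent.RedCentre.Exists
import Groth.Agent.RedCentre.NilCentral
import Groth.Agent.GrpScheme.Component
import Groth.Agent.FBase.BC
-- import your own Groth.Agent.* helpers here

set_option autoImplicit false
universe u
open CategoryTheory MonoidalCategory CartesianMonoidalCategory MonObj GrpObj AlgebraicGeometry CategoryTheory.Limits
open SGA3x

namespace Groth.Agent.S4149

open Groth.Agent.DiagRig

set_option backward.isDefEq.respectTransparency.types false

/-- Let G be an affine, connected algebraic group over a field k which is nilpotent (for some n the n-th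
term of the lower central series of G(X) is trivial for every k-scheme X). Then G has a largest
subgroup of multiplicative type M — a closed subgroup scheme of multiplicative type and of finite
type through which every such subgroup factors — and M is central in G. (The source adds that M is
characteristic and G/M unipotent.) -/
theorem result (k : Type u) [Field k] (G : Over (Spec (CommRingCat.of k)))
    [GrpObj G] [IsAffine G.left] [LocallyOfFiniteType G.hom] [ConnectedSpace ↥G.left]
    (hnil : ∃ n : ℕ, ∀ X : Over (Spec (CommRingCat.of k)), (⊤ : Subgroup (X ⟶ G)).lowerCentralSeries n = ⊥) :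
    ∃ (M : Over (Spec (CommRingCat.of k))) (_ : GrpObj M) (m : M ⟶ G), IsMonHom m ∧ IsClosedImmersion m.left ∧
      SGA3x.IsMultTypeFT M ∧
      (∀ (M' : Over (Spec (CommRingCat.of k))) [GrpObj M'] (m' : M' ⟶ G) [IsMonHom m'] [Mono m'],
        SGA3x.IsMultTypeFT M' → ∃ f : M' ⟶ M, f ≫ m = m') ∧
      ∀ (X : Over (Spec (CommRingCat.of k))) (x : X ⟶ M) (g : X ⟶ G), (x ≫ m) * g = g * (x ≫ m) := by
  obtain ⟨n, hnil⟩ := hnil
  haveI : IsAffineHom G.hom := isAffineHom_of_isAffine G.hom
  haveI : LocallyOfFinitePresentation G.hom := by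
    rw [HasRingHomProperty.iff_of_isAffine (P := @LocallyOfFinitePresentation)]
    haveI : IsNoetherianRing Γ(Spec (CommRingCat.of k), ⊤) :=
      isNoetherianRing_of_ringEquiv k (Scheme.ΓSpecIso (CommRingCat.of k)).symm.commRingCatIsoToRingEquiv
    exact RingHom.FinitePresentation.of_finiteType.1
      ((HasRingHomProperty.iff_of_isAffine (P := @LocallyOfFiniteType)).1 inferInstance)
  haveI : GeometricallyConnected G.hom := by
    haveI : IrreducibleSpace G.left := by
      refine (irreducibleSpace_def _).2 ?_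
      rw [Set.top_eq_univ, ← PreconnectedSpace.connectedComponent_eq_univ (GrpScheme.IdComponent.e₀ G),
        GrpScheme.IdComponent.connectedComponent_eq]
      exact isIrreducible_irreducibleComponent
    haveI := GrpScheme.Component.geometricallyIrreducible_of_irreducibleSpace G
    exact FBase.BC.geometricallyConnected_of_geometricallyIrreducible G.hom
  obtain ⟨M, _, m, hm, hcl, hMT, hc, hu⟩ := RedCentre.exists_redCentre k G
  refine ⟨M, inferInstance, m, hm, hcl, hMT, fun M' _ m' _ _ hM' => ?_, hc⟩
  have hcen := fun (X : Over (Spec (CommRingCat.of k))) (a : X ⟶ M') (g : X ⟶ G) =>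
    RedCentre.NilCentral.central hM' m' hnil X a g
  let e : ∀ X : Over (Spec (CommRingCat.of k)), (Over.map (𝟙 (Spec (CommRingCat.of k)))).obj X ≅ X := fun X =>
    Over.isoMk (Iso.refl _) (by simp)
  let v : M' ⟶ Red.bc (𝟙 _) G := bcUn (𝟙 _) ((e M').hom ≫ m')
  have hv : ∀ {X : Over (Spec (CommRingCat.of k))} (x : X ⟶ M'),
      bcTr (𝟙 _) (x ≫ v) = (e X).hom ≫ x ≫ m' := fun {X} x => by
    rw [bcTr_comp, bcTr_bcUn, ← Category.assoc, ← Category.assoc]
    rfl
  have : IsMonHom v := isMonHom_of_pts v fun X x y => by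
    rw [← bcUn_bcTr (𝟙 _) ((x * y) ≫ v), ← bcUn_bcTr (𝟙 _) (x ≫ v * (y ≫ v)), hv, bcTr_mul, hv, hv,
      MonObj.mul_comp, MonObj.comp_mul]
  obtain ⟨w, hw⟩ := hu _ (𝟙 _) M' v hM' fun X x g => by
    rw [← bcUn_bcTr (𝟙 _) (x ≫ v * g), ← bcUn_bcTr (𝟙 _) (g * (x ≫ v)), bcTr_mul, bcTr_mul, hv, ← Category.assoc,
      hcen]
  refine ⟨(e M').inv ≫ bcTr (𝟙 _) w, ?_⟩
  have h := congrArg (bcTr (𝟙 (Spec (CommRingCat.of k)))) hw
  rw [show bcTr (𝟙 _) (w ≫ (Over.pullback (𝟙 _)).map m) = bcTr (𝟙 _) w ≫ m from
    Adjunction.homEquiv_naturality_right_symm _ _ _, bcTr_bcUn] at h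
  rw [Category.assoc, h, Iso.inv_hom_id_assoc]

end Groth.Agent.S4149
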