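import Groth.Statements.S5352
import Groth.Agent.GrpSGA.AbelianSub
import Groth.Agent.GrpdLib.AffNormalQuot

set_option autoImplicit false
universe u
open CategoryTheory CategoryTheory.Limits MonoidalCategory CartesianMonoidalCategory MonObj GrpObj AlgebraicGeometry
open SGA3

namespace Groth.Agent.S5352

open Groth.Agent.GrpSGA Groth.Agent.GrpdLib

lemma comm_of_mono {S : Scheme.{u}} {N A : Over S} [GrpObj N] [GrpObj A] [IsCommMonObj A] (i : N ⟶ A)
    [IsMonHom i] [Mono i] : IsCommMonObj N := by
  refine ⟨?_⟩
  rw [← cancel_mono i, Category.assoc, IsMonHom.mul_hom, ← BraidedCategory.braiding_naturality_assoc,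
    IsCommMonObj.mul_comm]

lemma comm_of_quot {S : Scheme.{u}} {A Q : Over S} [GrpObj Q] [GrpObj A] [IsCommMonObj A] (q : A ⟶ Q)
    [IsMonHom q] (hf : Flat q.left) (hs : Surjective q.left) (hqc : QuasiCompact q.left) :
    IsCommMonObj Q := by
  refine ⟨AbelianSub.cancel_tensor q hf hs hqc ?_⟩
  rw [BraidedCategory.braiding_naturality_assoc, ← IsMonHom.mul_hom, ← Category.assoc,
    IsCommMonObj.mul_comm]

/-- Let k be a field. The category of commutative affine algebraic k-groups (commutative group objects
in k-schemes whose underlying scheme is affine and of finite type over k, as a full subcategory of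
commutative group objects over Spec k) is an abelian category. -/
theorem result (k : Type u) [Field k] :
    Nonempty (Abelian (ObjectProperty.FullSubcategory
      (fun G : CommGrp (Over (Spec (CommRingCat.of k))) => LocallyOfFiniteType G.X.hom ∧ QuasiCompact G.X.hom ∧ IsAffine G.X.left))) := by
  refine AbelianSub.nonempty_abelian ⟨?_, ?_, ?_, ?_⟩
  · exact ⟨inferInstanceAs (LocallyOfFiniteType (𝟙 (Spec (CommRingCat.of k)))),
      inferInstanceAs (QuasiCompact (𝟙 (Spec (CommRingCat.of k)))), inferInstanceAs (IsAffine (Spec (CommRingCat.of k)))⟩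
  · rintro A B ⟨_, _, _⟩ ⟨_, _, _⟩
    refine ⟨?_, ?_, ?_⟩
    · exact inferInstanceAs (LocallyOfFiniteType (pullback.fst A.X.hom B.X.hom ≫ A.X.hom))
    · exact inferInstanceAs (QuasiCompact (pullback.fst A.X.hom B.X.hom ≫ A.X.hom))
    · have : IsAffineHom B.X.hom := isAffineHom_of_isAffine _
      have : IsAffineHom (pullback.fst A.X.hom B.X.hom) := MorphismProperty.pullback_fst _ _ inferInstance
      exact isAffine_of_isAffineHom (pullback.fst A.X.hom B.X.hom)
  · rintro A B f ⟨_, _, _⟩ ⟨_, _, _⟩
    obtain ⟨N, g, i, _, hker⟩ := GrpScheme.AffineHom.exists_kernel (AbelianSub.un f)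
    have : Mono i := GrpOver.kernel_mono hker
    have := comm_of_mono i
    have hsep := GrpScheme.IdComponent.isSeparated B.X
    have hη : IsClosedImmersion η[B.X].left := by
      have : IsClosedImmersion (η[B.X].left ≫ B.X.hom) := by
        rw [Over.w η[B.X]]; exact inferInstanceAs (IsClosedImmersion (𝟙 _))
      exact IsClosedImmersion.of_comp η[B.X].left B.X.hom
    have hci : IsClosedImmersion i.left :=
      MorphismProperty.of_isPullback (GrpOver.isPullback_left hker).flip hη
    refine ⟨CommGrp.mk N, AbelianSub.mkHom (A := CommGrp.mk N) i, ⟨?_, ?_, ?_⟩, hker⟩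
    · show LocallyOfFiniteType N.hom
      rw [← Over.w i]; infer_instance
    · show QuasiCompact N.hom
      rw [← Over.w i]; infer_instance
    · exact isAffine_of_isAffineHom i.left
  · rintro N A i ⟨_, _, _⟩ ⟨_, _, _⟩ _
    obtain ⟨Q, _, q, _, hQa, hQft, hf, hs, hker⟩ := AffNormalQuot.exists_affine_quotient A.X N.X (AbelianSub.un i)
      (fun T g n => ⟨n, mul_inv_cancel_comm g _⟩)
    have hqc : QuasiCompact q.left := GrpOver.quasiCompact_left q
    have := comm_of_quot q hf hs hqc
    have : IsAffineHom Q.hom := isAffineHom_of_isAffine _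
    exact ⟨CommGrp.mk Q, AbelianSub.mkHom (B := CommGrp.mk Q) q, ⟨hQft, inferInstanceAs (QuasiCompact Q.hom), hQa⟩,
      hf, hs, hqc, hker⟩

end Groth.Agent.S5352
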