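import Groth.Statements.S4150
import Groth.Agent.S5352
import Groth.Agent.GrpQuot19.Props
import Groth.Agent.S3036
import Groth.Agent.S5369
import Groth.Agent.S5371
import Groth.Agent.S5372

set_option autoImplicit false
set_option backward.isDefEq.respectTransparency false
set_option synthInstance.maxHeartbeats 200000
universe u
open CategoryTheory MonoidalCategory CartesianMonoidalCategory MonObj GrpObj AlgebraicGeometry CategoryTheory.Limits
open SGA3

namespace Groth.Agent.S4150

open Groth.Agent.GrpSGA Groth.Agent.GrpdLib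

/-- Let k be a field. The category of commutative algebraic k-groups (commutative group objects in
k-schemes whose underlying scheme is of finite type over k, as a full subcategory of commutative
group objects over Spec k) is an abelian category. -/
theorem result (k : Type u) [Field k] :
    Nonempty (Abelian (ObjectProperty.FullSubcategory
      (fun G : CommGrp (Over (Spec (CommRingCat.of k))) => LocallyOfFiniteType G.X.hom ∧ QuasiCompact G.X.hom))) := by
  refine AbelianSub.nonempty_abelian ⟨?_, ?_, ?_, ?_⟩
  · exact ⟨inferInstanceAs (LocallyOfFiniteType (𝟙 (Spec (CommRingCat.of k)))),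
      inferInstanceAs (QuasiCompact (𝟙 (Spec (CommRingCat.of k))))⟩
  · rintro A B ⟨_, _⟩ ⟨_, _⟩
    exact ⟨inferInstanceAs (LocallyOfFiniteType (pullback.fst A.X.hom B.X.hom ≫ A.X.hom)),
      inferInstanceAs (QuasiCompact (pullback.fst A.X.hom B.X.hom ≫ A.X.hom))⟩
  · rintro A B f ⟨_, _⟩ ⟨_, _⟩
    obtain ⟨N, g, i, _, hker⟩ := GrpScheme.AffineHom.exists_kernel (AbelianSub.un f)
    have : Mono i := GrpOver.kernel_mono hker
    have := S5352.comm_of_mono i
    have hsep := GrpScheme.IdComponent.isSeparated B.X
    have hη : IsClosedImmersion η[B.X].left := by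
      have : IsClosedImmersion (η[B.X].left ≫ B.X.hom) := by
        rw [Over.w η[B.X]]; exact inferInstanceAs (IsClosedImmersion (𝟙 _))
      exact IsClosedImmersion.of_comp η[B.X].left B.X.hom
    have hci : IsClosedImmersion i.left :=
      MorphismProperty.of_isPullback (GrpOver.isPullback_left hker).flip hη
    refine ⟨CommGrp.mk N, AbelianSub.mkHom (A := CommGrp.mk N) i, ⟨?_, ?_⟩, hker⟩
    · show LocallyOfFiniteType N.hom
      rw [← Over.w i]; infer_instance
    · show QuasiCompact N.hom
      rw [← Over.w i]; infer_instance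
  · rintro N A i ⟨_, _⟩ ⟨_, _⟩ hm
    let u := AbelianSub.un i
    have : QuasiCompact u.left := GrpOver.quasiCompact_left u
    have : IsClosedImmersion u.left := Groth.Agent.S3036.result k N.X A.X u
    obtain ⟨Q, q, hf, hs, hl, hsq⟩ := GrpQuot19.Field.exists_quotient_of_closedSubgroup u
    obtain ⟨hQ, hq, -⟩ := Groth.Agent.S5372.result _ A.X N.X Q u q (GrpQuot19.hcov q) hsq
      (fun T g n => ⟨n, mul_inv_cancel_comm g _⟩)
    letI := hQ; haveI := hq
    have h71 := (Groth.Agent.S5371.result _ A.X N.X Q u q (GrpQuot19.hcov q) hsq).2.1 hf hl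
    have hQft : LocallyOfFiniteType Q.hom := h71.2.1 ‹_›
    have hQqc : QuasiCompact Q.hom := h71.2.2.1 ‹_› ‹_›
    have hqc : QuasiCompact q.left := GrpOver.quasiCompact_left q
    have := S5352.comm_of_quot q hf hs hqc
    have hk := (Groth.Agent.S5369.result _ A.X N.X Q u q (GrpQuot19.hcov q) hsq).1
    rw [IsMonHom.one_hom] at hk
    exact ⟨CommGrp.mk Q, AbelianSub.mkHom (B := CommGrp.mk Q) q, ⟨hQft, hQqc⟩, hf, hs, hqc, hk⟩

end Groth.Agent.S4150
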