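import Groth.Statements.S4263
import Groth.Agent.EtaleSite.HpullFunctor
import Groth.Agent.EtHull16.RelPerf
import Groth.Prelude.Def_W4c3convisocdirimgFrobIter
-- import your own Groth.Agent.* helpers here

set_option autoImplicit false
universe u
open CategoryTheory CategoryTheory.Limits AlgebraicGeometry Opposite
open scoped BigOperators
open SGA4h

namespace Groth.Agent.S4263

open EtaleSite in
section
open CategoryTheory CategoryTheory.Limits AlgebraicGeometry Opposite

variable {X : Scheme.{u}}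

/-- Inverse image along an endomorphism whose base change functor is the identity. -/
noncomputable def pullIdOf {f : X ⟶ X} (e : EtCoh.bc f ≅ 𝟭 X.Etale) : EtCoh.pull f ≅ 𝟭 (EtCoh.Ab X) :=
  Adjunction.leftAdjointUniq (EtCoh.pullPushAdj f)
    (Adjunction.id.ofNatIsoRight
      (Functor.sheafPushforwardContinuousId' e AddCommGrpCat.{u + 1} X.smallEtaleTopology).symm)

theorem pullConst_idOf {f : X ⟶ X} (e : EtCoh.bc f ≅ 𝟭 X.Etale) (M : AddCommGrpCat.{u + 1}) :
    (EtCore.pullConstIso f).inv.app M ≫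
      (pullIdOf e).hom.app ((constantSheaf X.smallEtaleTopology AddCommGrpCat.{u + 1}).obj M) = 𝟙 _ := by
  apply ((EtCore.constAdj X).homEquiv _ _).injective
  refine (EtaleSite.HpullComp.pullConst_homEquiv f M _).trans ?_
  refine (congrArg (fun t => ((EtCore.constAdj X).homEquiv M _ t) ≫
    (EtCore.pushGsecIso f).hom.app
      ((constantSheaf X.smallEtaleTopology AddCommGrpCat.{u + 1}).obj M))
    (Adjunction.homEquiv_leftAdjointUniq_hom_app (EtCoh.pullPushAdj f)
      (Adjunction.id.ofNatIsoRight (Functor.sheafPushforwardContinuousId' e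
        AddCommGrpCat.{u + 1} X.smallEtaleTopology).symm) _)).trans ?_
  let F := (constantSheaf X.smallEtaleTopology AddCommGrpCat.{u + 1}).obj M
  rw [Adjunction.homEquiv_unit, Adjunction.homEquiv_unit, Category.assoc]
  congr 1
  change (𝟙 _ ≫ F.obj.map _) ≫ F.obj.map _ = 𝟙 _
  rw [Category.id_comp, ← F.obj.map_comp, ← F.obj.map_id]
  congr 1
  apply Quiver.Hom.unop_inj
  exact (EtCore.topIsTerminal X).hom_ext _ _

theorem Hpull_idOf {f : X ⟶ X} (e : EtCoh.bc f ≅ 𝟭 X.Etale) [PreservesFiniteLimits (EtCoh.pull f)]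
    (n : ℕ) (G : EtCoh.Ab X) (x : EtCoh.H X G n) :
    (EtCore.Hpull f G n x).comp (Abelian.Ext.mk₀ ((pullIdOf e).hom.app G)) (add_zero n) = x := by
  induction n generalizing G with
  | zero =>
    obtain ⟨x, rfl⟩ := (Abelian.Ext.mk₀_bijective _ _).2 x
    rw [EtaleSite.HpullComp.Hpull_mk₀, Abelian.Ext.mk₀_comp_mk₀]
    congr 1
    refine (Category.assoc _ _ _).trans ?_
    refine (congrArg ((EtCore.pullConst f ℤ).inv ≫ ·) ((pullIdOf e).hom.naturality x)).trans ?_
    refine (Category.assoc _ _ _).symm.trans ?_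
    exact (congrArg (· ≫ x) (pullConst_idOf e (AddCommGrpCat.of (ULift.{u + 1} ℤ)))).trans (Category.id_comp x)
  | succ n ih =>
    let S : ShortComplex (EtCoh.Ab X) :=
      ShortComplex.mk (Injective.ι G) (cokernel.π (Injective.ι G)) (cokernel.condition _)
    have hS : S.ShortExact :=
      { exact := ShortComplex.exact_of_g_is_cokernel _ (cokernelIsCokernel _) }
    have h0 : x.comp (Abelian.Ext.mk₀ S.f) (add_zero (n + 1)) = 0 :=
      Abelian.Ext.eq_zero_of_injective _
    obtain ⟨y, rfl⟩ := Abelian.Ext.covariant_sequence_exact₁ _ hS x h0 rfl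
    change (EtCore.Hpull f S.X₁ (n + 1) _).comp _ _ = _
    rw [EtaleSite.HpullSeq.Hpull_extClass (f := f)]
    have := (hS.map_of_exact (EtCoh.pull f)).extClass_naturality hS
      (S.mapNatTrans (pullIdOf e).hom)
    refine (Abelian.Ext.comp_assoc _ _ _ rfl (add_zero 1) (by omega)).trans ?_
    refine Eq.trans (congrArg (fun t => Abelian.Ext.comp (EtCore.Hpull f S.X₃ n y) t
      (rfl : n + 1 = n + 1)) this) ?_
    refine (Abelian.Ext.comp_assoc _ _ _ (add_zero n) (zero_add 1) (by omega)).symm.trans ?_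
    exact congrArg (fun t => Abelian.Ext.comp t hS.extClass (rfl : n + 1 = n + 1)) (ih S.X₃ y)

variable {Λ : Type} [CommRing Λ] [Fact FinFr.PullExact.{u}]

theorem endConstAdd_of_bc {f : X ⟶ X} (e : EtCoh.bc f ≅ 𝟭 X.Etale) (n : ℕ)
    (x : EtCoh.H X (EtCoh.const X Λ) n) : FinFr.endConstAdd (Λ := Λ) f n x = x := by
  haveI := FinFr.pullExact_out f
  change (EtCore.Hpull f _ n x).comp (Abelian.Ext.mk₀ (EtCore.pullConst f Λ).hom) (add_zero n) = x
  have h : (EtCore.pullConst f Λ).hom = (pullIdOf e).hom.app (EtCoh.const X Λ) := by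
    refine (cancel_epi (EtCore.pullConst f Λ).inv).1 ?_
    exact (EtCore.pullConst f Λ).inv_hom_id.trans (pullConst_idOf e _).symm
  rw [h]
  exact Hpull_idOf e n _ x

theorem endConstAdd_comp (g h : X ⟶ X) (n : ℕ) (x : EtCoh.H X (EtCoh.const X Λ) n) :
    FinFr.endConstAdd (Λ := Λ) (g ≫ h) n x =
      FinFr.endConstAdd (Λ := Λ) g n (FinFr.endConstAdd (Λ := Λ) h n x) := by
  haveI := FinFr.pullExact_out g
  haveI := FinFr.pullExact_out h
  haveI := FinFr.pullExact_out (g ≫ h)
  let M := AddCommGrpCat.of (ULift.{u + 1} Λ)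
  refine (EtaleSite.HpullFunctor.Hpull_comp_comp g h n x (EtCore.pullConst h Λ).hom
    (EtCore.pullConst g Λ).hom (EtCore.pullConst (g ≫ h) Λ).hom ?_).symm
  have key := EtaleSite.HpullComp.pullConst_comp g h M
  refine (cancel_epi ((EtCore.pullConstIso (g ≫ h)).inv.app M)).1 ?_
  refine Eq.trans ?_ ((EtCore.pullConstIso (g ≫ h)).inv_hom_id_app M).symm
  refine (Category.assoc _ _ _).symm.trans ?_
  refine (congrArg (· ≫ _) key).trans ?_
  refine (Category.assoc _ _ _).trans ?_
  rw [← (EtCoh.pull g).map_comp_assoc,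
    show (EtCore.pullConstIso h).inv.app M ≫ (EtCore.pullConst h Λ).hom = 𝟙 _ from
      (EtCore.pullConstIso h).inv_hom_id_app M]
  erw [CategoryTheory.Functor.map_id, Category.id_comp]
  exact (EtCore.pullConstIso g).inv_hom_id_app M

omit [Fact FinFr.PullExact.{u}]

/-- The relative Frobenius of an étale scheme over `X`. -/
noncomputable abbrev relF {X : Scheme.{u}} (p : ℕ) [Fact p.Prime] [FrobSch.IsCharP X p] (V : X.Etale) :
    V.left ⟶ pullback (V.hom : V.left ⟶ X) (FrobSch.frob X p) :=
  FrobSch.relFrob (X := V.left) (S := X) V.hom p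

theorem relF_snd {X : Scheme.{u}} (p : ℕ) [Fact p.Prime] [FrobSch.IsCharP X p] (V : X.Etale) :
    relF p V ≫ pullback.snd (V.hom : V.left ⟶ X) (FrobSch.frob X p) = V.hom :=
  FrobSch.relFrob_snd (X := V.left) (S := X) V.hom p

theorem relF_fst {X : Scheme.{u}} (p : ℕ) [Fact p.Prime] [FrobSch.IsCharP X p] (V : X.Etale)
    [FrobSch.IsCharP V.left p] :
    relF p V ≫ pullback.fst (V.hom : V.left ⟶ X) (FrobSch.frob X p) = FrobSch.frob V.left p :=
  FrobSch.relFrob_fst (X := V.left) (S := X) V.hom p

set_option backward.isDefEq.respectTransparency.types false in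
/-- Base change along the absolute Frobenius of étale schemes is the identity. -/
noncomputable def bcFrob (X : Scheme.{u}) (p : ℕ) [Fact p.Prime] [FrobSch.IsCharP X p] :
    EtCoh.bc (FrobSch.frob X p) ≅ 𝟭 X.Etale :=
  (NatIso.ofComponents (fun V => (MorphismProperty.Over.isoMk
      (haveI : AlgebraicGeometry.Etale (Y := X) V.hom := V.prop
       @asIso _ _ _ _ (relF p V) (EtHull16.isIso_relFrob_of_etale (X := V.left) (S := X) V.hom) : V.left ≅ ((EtCoh.bc (FrobSch.frob X p)).obj V).left)
      (relF_snd p V) : V ≅ (EtCoh.bc (FrobSch.frob X p)).obj V))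
    (fun {V W} g => by
      haveI : FrobSch.IsCharP V.left p := FrobSch.IsCharP.of_hom (Y := X) V.hom p
      haveI : FrobSch.IsCharP W.left p := FrobSch.IsCharP.of_hom (Y := X) W.hom p
      refine MorphismProperty.Over.Hom.ext (pullback.hom_ext ?_ ?_)
      · change (g.left ≫ relF p W) ≫ pullback.fst W.hom _ =
          (relF p V ≫ ((EtCoh.bc (FrobSch.frob X p)).map g).left) ≫ pullback.fst W.hom _
        refine Eq.trans ?_ (Eq.trans (congrArg (relF p V ≫ ·)
          (EtCoh.isPullback_bc_map (FrobSch.frob X p) g).w.symm) (Category.assoc _ _ _).symm)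
        rw [Category.assoc, relF_fst]
        refine Eq.trans ?_ (Category.assoc _ _ _)
        refine Eq.trans ?_ (congrArg (· ≫ g.left) (relF_fst p V)).symm
        exact (FrobSch.frob_comp p g.left).symm
      · change (g.left ≫ relF p W) ≫ pullback.snd W.hom _ =
          (relF p V ≫ ((EtCoh.bc (FrobSch.frob X p)).map g).left) ≫ pullback.snd W.hom _
        refine Eq.trans ?_ (Eq.trans ((congrArg (relF p V ≫ ·)
          (MorphismProperty.Over.w ((EtCoh.bc (FrobSch.frob X p)).map g))).symm) (Category.assoc _ _ _).symm)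
        rw [Category.assoc, relF_snd]
        exact (MorphismProperty.Over.w g).trans (relF_snd p V).symm)).symm

variable [Fact FinFr.PullExact.{u}]

theorem endConstAdd_frobIter (p : ℕ) [Fact p.Prime] [FrobSch.IsCharP X p] (m n : ℕ)
    (x : EtCoh.H X (EtCoh.const X Λ) n) : FinFr.endConstAdd (Λ := Λ) (FrobSch.frobIter X p m) n x = x := by
  induction m generalizing x with
  | zero => exact endConstAdd_of_bc (EtaleSite.HpullComp.bcId X) n x
  | succ m ih => rw [FrobSch.frobIter_succ, endConstAdd_comp, ih, endConstAdd_of_bc (bcFrob X p)]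

theorem frobIter_comp {Y : Scheme.{u}} (p : ℕ) [Fact p.Prime] [FrobSch.IsCharP X p]
    [FrobSch.IsCharP Y p] (f : X ⟶ Y) (m : ℕ) :
    FrobSch.frobIter X p m ≫ f = f ≫ FrobSch.frobIter Y p m := by
  induction m with
  | zero => simp
  | succ m ih =>
    rw [FrobSch.frobIter_succ, FrobSch.frobIter_succ, Category.assoc, ih, ← Category.assoc,
      FrobSch.frob_comp, Category.assoc]

theorem frobIter_Spec (A : Type u) [CommRing A] (p : ℕ) [Fact p.Prime]
    [FrobSch.IsCharP (Spec (CommRingCat.of A)) p] (m : ℕ) (ψ : A →+* A)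
    (hψ : ∀ a, ψ a = a ^ p ^ m) :
    FrobSch.frobIter (Spec (CommRingCat.of A)) p m = Spec.map (CommRingCat.ofHom ψ) := by
  have hA : ∀ (j : ℕ) (s : Γ(Spec (CommRingCat.of A), ⊤)),
      (FrobSch.frobIter (Spec (CommRingCat.of A)) p j).appTop s = s ^ p ^ j := by
    intro j
    induction j with
    | zero => intro s; simp
    | succ j ih =>
      intro s
      rw [FrobSch.frobIter_succ]
      simp only [Scheme.Hom.comp_appTop, CommRingCat.comp_apply]
      rw [ih, FrobSch.frob_appTop, ← pow_mul, pow_succ]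
  refine ext_of_isAffine ?_
  rw [← cancel_mono (Scheme.ΓSpecIso (CommRingCat.of A)).hom, Scheme.ΓSpecIso_naturality]
  refine CommRingCat.hom_ext (RingHom.ext fun s => ?_)
  simp [hA, hψ]

variable {k K : Type u} [Field k] [Field K] [Algebra k K] {X₀ : Scheme.{u}}
  (a : X₀ ⟶ Spec (CommRingCat.of k))

theorem galAct_symm_comp (σ : K ≃ₐ[k] K) : FinFr.galAct a σ ≫ FinFr.galAct a σ.symm = 𝟙 _ := by
  apply pullback.hom_ext
  · rw [Category.assoc, FinFr.galAct_fst, FinFr.galAct_fst, Category.id_comp]
  · rw [Category.assoc, FinFr.galAct_snd, ← Category.assoc, FinFr.galAct_snd, Category.assoc,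
      ← Spec.map_comp, Category.id_comp]
    conv_rhs => rw [← Category.comp_id (pullback.snd a _)]
    congr 1
    rw [← Spec.map_id]
    congr 1
    refine CommRingCat.hom_ext (RingHom.ext fun t => ?_)
    exact σ.apply_symm_apply t

theorem galH_const (σ : K ≃ₐ[k] K) (n : ℕ)
    (x : EtCoh.H (FinFr.ext K a) ((EtCoh.pull (FinFr.extπ K a)).obj (EtCoh.const X₀ Λ)) n) :
    FinFr.galH a σ (EtCoh.const X₀ Λ) n x =
      Sheaf.H.map (EtCore.pullConst (FinFr.extπ K a) Λ).inv n
        (FinFr.endConstAdd (Λ := Λ) (FinFr.galAct a σ) n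
          (Sheaf.H.map (EtCore.pullConst (FinFr.extπ K a) Λ).hom n x)) := by
  generalize hg : FinFr.galAct a σ = g
  have w : g ≫ FinFr.extπ K a = FinFr.extπ K a := hg ▸ FinFr.galAct_fst a σ
  haveI := FinFr.pullExact_out g
  trans EtCore.HpullVia g (FinFr.extπ K a) (FinFr.extπ K a) w (EtCoh.const X₀ Λ) n x
  · subst hg; rfl
  change (EtCore.Hpull g _ n x).comp (Abelian.Ext.mk₀ _) (add_zero n) =
    ((EtCore.Hpull g _ n (x.comp (Abelian.Ext.mk₀ (EtCore.pullConst (FinFr.extπ K a) Λ).hom)
      (add_zero n))).comp (Abelian.Ext.mk₀ (EtCore.pullConst g Λ).hom) (add_zero n)).comp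
        (Abelian.Ext.mk₀ (EtCore.pullConst (FinFr.extπ K a) Λ).inv) (add_zero n)
  rw [EtaleSite.HpullSeq.Hpull_postcomp, Abelian.Ext.comp_assoc_of_third_deg_zero,
    Abelian.Ext.mk₀_comp_mk₀, Abelian.Ext.comp_assoc_of_third_deg_zero, Abelian.Ext.mk₀_comp_mk₀]
  congr 2
  let M := AddCommGrpCat.of (ULift.{u + 1} Λ)
  have key := EtaleSite.HpullComp.pullConst_comp g (FinFr.extπ K a) M
  have hcg : ∀ {f f' : FinFr.ext K a ⟶ X₀} (h : f = f'),
      (EtCore.pullConstIso f).inv.app M ≫ (EtCore.pullCongr h).hom.app _ =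
        (EtCore.pullConstIso f').inv.app M := by
    rintro f _ rfl
    simp [EtCore.pullCongr]
  refine (cancel_epi ((EtCoh.pull g).map ((EtCore.pullConstIso (FinFr.extπ K a)).inv.app M))).1 ?_
  refine (cancel_epi ((EtCore.pullConstIso g).inv.app M)).1 ?_
  refine Eq.trans ((Category.assoc _ _ _).symm.trans (congrArg (· ≫ _) key.symm)) ?_
  trans (EtCore.pullConstIso (FinFr.extπ K a)).inv.app M
  · refine (Category.assoc _ _ _).trans ?_
    refine Eq.trans (congrArg (_ ≫ ·) ?_) (hcg w)
    change _ ≫ ((EtCore.pullComp g (FinFr.extπ K a)).inv.app _ ≫ (EtCore.pullCongr w).hom.app _) = _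
    rw [← Category.assoc, Iso.hom_inv_id_app]
    exact Category.id_comp _
  · rw [← (EtCoh.pull g).map_comp_assoc]
    erw [Iso.inv_hom_id_app, CategoryTheory.Functor.map_id, Category.id_comp,
      ← Category.assoc, Iso.inv_hom_id_app, Category.id_comp]
    rfl

end

/-- For an affine scheme and constant coefficients, pullback along the Frobenius endomorphism equals the
geometric Frobenius on cohomology: let k be a finite field with q elements, K an algebraic
extension, R a k-algebra, X₀ = Spec R, φ_R : R → R the ring endomorphism r ↦ r^q (the Frobenius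
endomorphism F of X₀ is Spec φ_R, a k-morphism), and Λ a coefficient ring. Then for every n the
endomorphism of H^n(X₀ ⊗_k K, Λ) induced by pullback along F × id (using the identifications of the
inverse images of the constant sheaf Λ with Λ) coincides with the geometric Frobenius F^* defined as
transport of structure by the inverse of the arithmetic Frobenius x ↦ x^q of K. -/
theorem result (k K : Type u) [Field k] [Fintype k] [Field K] [Algebra k K]
    [Algebra.IsAlgebraic k K] (Λ : Type) [CommRing Λ] [Fact FinFr.PullExact.{u}]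
    (R : Type u) [CommRing R] [Algebra k R] (φ : R →+* R) (hφ : ∀ r : R, φ r = r ^ Fintype.card k)
    (hw : Spec.map (CommRingCat.ofHom φ) ≫ Spec.map (CommRingCat.ofHom (algebraMap k R)) =
      Spec.map (CommRingCat.ofHom (algebraMap k R))) (n : ℕ)
    (x : EtCoh.H (FinFr.ext K (Spec.map (CommRingCat.ofHom (algebraMap k R))))
      (EtLam.pullback (FinFr.extπ K (Spec.map (CommRingCat.ofHom (algebraMap k R)))) (FinFr.constLam Λ (Spec (CommRingCat.of R)))).carrier n) :
    FinFr.frob (K := K) (Spec.map (CommRingCat.ofHom (algebraMap k R))) (FinFr.constLam Λ (Spec (CommRingCat.of R))) n x =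
      Sheaf.H.map (EtCore.pullConst (FinFr.extπ K (Spec.map (CommRingCat.ofHom (algebraMap k R)))) Λ).inv n
        (FinFr.endConstAdd (Λ := Λ) (FinFr.extHom K (Spec.map (CommRingCat.ofHom (algebraMap k R))) (Spec.map (CommRingCat.ofHom φ)) hw) n
          (Sheaf.H.map (EtCore.pullConst (FinFr.extπ K (Spec.map (CommRingCat.ofHom (algebraMap k R)))) Λ).hom n x)) := by
  classical
  obtain ⟨p, hp⟩ := CharP.exists k
  obtain ⟨m, hpp, hcard⟩ := FiniteField.card k p
  haveI : Fact p.Prime := ⟨hpp⟩
  haveI : CharP K p := charP_of_injective_algebraMap (algebraMap k K).injective p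
  let a : Spec (CommRingCat.of R) ⟶ Spec (CommRingCat.of k) :=
    Spec.map (CommRingCat.ofHom (algebraMap k R))
  haveI : FrobSch.IsCharP (Spec (CommRingCat.of R)) p := FrobSch.IsCharP.of_hom a p
  haveI : FrobSch.IsCharP (FinFr.ext K a) p := FrobSch.IsCharP.of_hom (FinFr.extStr K a) p
  have hR : FrobSch.frobIter (Spec (CommRingCat.of R)) p m = Spec.map (CommRingCat.ofHom φ) :=
    frobIter_Spec R p m φ fun r => by rw [hφ, hcard]
  have hK : FrobSch.frobIter (Spec (CommRingCat.of K)) p m =
      Spec.map (CommRingCat.ofHom (FinFr.arith k K : K →+* K)) :=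
    frobIter_Spec K p m _ fun r => by
      rw [← hcard]
      simp [FinFr.arith]
  have hΦ : FrobSch.frobIter (FinFr.ext K a) p m ≫ FinFr.galAct a (FinFr.arith k K).symm =
      FinFr.extHom K a (Spec.map (CommRingCat.ofHom φ)) hw := by
    have h1 : FrobSch.frobIter (FinFr.ext K a) p m =
        FinFr.extHom K a (Spec.map (CommRingCat.ofHom φ)) hw ≫ FinFr.galAct a (FinFr.arith k K) := by
      apply pullback.hom_ext
      · rw [Category.assoc, FinFr.galAct_fst, FinFr.extHom_fst, frobIter_comp, hR]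
      · rw [Category.assoc, FinFr.galAct_snd, frobIter_comp, hK]
        refine Eq.symm ((Category.assoc _ _ _).symm.trans (congrArg (· ≫ _) ?_))
        exact (pullback.lift_snd _ _ _).trans (Category.comp_id _)
    rw [h1, Category.assoc, galAct_symm_comp, Category.comp_id]
  refine (galH_const (Λ := Λ) a (FinFr.arith k K).symm n x).trans ?_
  rw [← hΦ, endConstAdd_comp, endConstAdd_frobIter]


end Groth.Agent.S4263
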