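import Groth.Statements.S4183
import Groth.Agent.AnPts.Basic

set_option autoImplicit false
open CategoryTheory AlgebraicGeometry Topology TopologicalSpace
open An

namespace Groth.Agent.S4183

/-- For affine n-space over ℂ, the map sending a ℂ-point to the values of the n coordinate functions is
a homeomorphism from its space of ℂ-points, with the complex topology of this problem, onto ℂ^n with
its usual topology. -/
theorem result (n : ℕ) :
    IsHomeomorph (fun (x : An.Pts (𝔸(Fin n; An.SC))) (i : Fin n) => x.evTop (AffineSpace.coord An.SC i)) := by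
  haveI : IsAffine 𝔸(Fin n; An.SC) := inferInstance
  let s : Fin n → Γ(𝔸(Fin n; An.SC), ⊤) := AffineSpace.coord An.SC
  have hbij : Function.Bijective (MvPolynomial.eval₂Hom (An.strHom 𝔸(Fin n; An.SC)) s) := by
    haveI : IsIso (AffineSpace.SpecIso (Fin n) (CommRingCat.of ℂ)).hom.appTop := by
      have : IsIso (AffineSpace.SpecIso (Fin n) (CommRingCat.of ℂ)).hom := inferInstance
      exact ⟨(AffineSpace.SpecIso (Fin n) (CommRingCat.of ℂ)).inv.appTop,
        by rw [← Scheme.Hom.comp_appTop, Iso.inv_hom_id, Scheme.Hom.id_appTop],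
        by rw [← Scheme.Hom.comp_appTop, Iso.hom_inv_id, Scheme.Hom.id_appTop]⟩
    have h := ConcreteCategory.bijective_of_isIso (AffineSpace.SpecIso (Fin n) (CommRingCat.of ℂ)).hom.appTop
    rw [AffineSpace.SpecIso_hom_appTop] at h
    have h2 : Function.Bijective (Scheme.ΓSpecIso (CommRingCat.of (MvPolynomial (Fin n) ℂ))).inv :=
      ConcreteCategory.bijective_of_isIso _
    convert! h.comp h2 using 1
    funext q
    simp only [Function.comp_apply, CommRingCat.comp_apply]
    rw [← CommRingCat.comp_apply (Scheme.ΓSpecIso (CommRingCat.of (MvPolynomial (Fin n) ℂ))).inv, Iso.inv_hom_id]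
    rfl
  obtain ⟨hemb, hrange⟩ := AnPts.isEmbedding_of_generators s hbij.2
  refine (isHomeomorph_iff_isEmbedding_surjective).2 ⟨hemb, fun v => ?_⟩
  rw [← Set.mem_range, hrange]
  intro q hq
  rw [hbij.1 (hq.trans (map_zero _).symm), map_zero]

end Groth.Agent.S4183
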