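import Groth.Statements.S4185
import Groth.Agent.AnPts.Basic

set_option autoImplicit false
open CategoryTheory AlgebraicGeometry Topology TopologicalSpace
open An

namespace Groth.Agent.S4185

/-- For X locally of finite type over ℂ the space X(ℂ) with its complex topology is locally compact. -/
theorem result (X : Scheme.{0}) [X.Over An.SC] [LocallyOfFiniteType (X ↘ An.SC)] :
    LocallyCompactSpace (An.Pts X) := by
  constructor
  intro x N hN
  obtain ⟨_, ⟨(U : X.Opens), hU, rfl⟩, hxU, -⟩ :=
    X.isBasis_affineOpens.exists_subset_of_mem_open (Set.mem_univ x.pt) isOpen_univ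
  replace hU : IsAffineOpen U := hU
  letI : (U : Scheme).Over An.SC := AnPts.opensOver U
  haveI : U.ι.IsOver An.SC := ⟨rfl⟩
  haveI : IsAffine U := hU
  haveI : LocallyOfFiniteType ((U : Scheme) ↘ An.SC) :=
    inferInstanceAs (LocallyOfFiniteType (U.ι ≫ X ↘ An.SC))
  obtain ⟨n, s, hs⟩ := AnPts.exists_generators (U : Scheme)
  haveI : LocallyCompactSpace (An.Pts (U : Scheme)) :=
    (AnPts.isClosedEmbedding_of_generators s hs).locallyCompactSpace
  have hι := AnPts.isOpenEmbedding_map U.ι
  obtain ⟨z, rfl⟩ : x ∈ Set.range (An.Pts.map U.ι) := by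
    rw [AnPts.range_map_of_isOpenImmersion]
    exact ⟨⟨x.pt, hxU⟩, rfl⟩
  obtain ⟨K, hK, hKN, hKc⟩ := local_compact_nhds (hι.continuous.continuousAt.preimage_mem_nhds hN)
  refine ⟨An.Pts.map U.ι '' K, ?_, Set.image_subset_iff.2 hKN, hKc.image hι.continuous⟩
  rw [← hι.map_nhds_eq]
  exact Filter.image_mem_map hK

end Groth.Agent.S4185
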