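import Groth.Statements.S4186
import Groth.Agent.AnPts.Basic
import Mathlib.Analysis.Complex.Polynomial.Basic

set_option autoImplicit false
open CategoryTheory AlgebraicGeometry Topology TopologicalSpace
open An

namespace Groth.Agent.S4186

/-- A scheme locally of finite type over ℂ is nonempty if and only if it has a ℂ-point. -/
theorem result (X : Scheme.{0}) [X.Over An.SC] [LocallyOfFiniteType (X ↘ An.SC)] :
    Nonempty ↥X ↔ Nonempty (An.Pts X) := by
  refine ⟨fun h => ?_, fun ⟨x⟩ => ⟨x.pt⟩⟩
  haveI : JacobsonSpace X := LocallyOfFiniteType.jacobsonSpace (X ↘ An.SC)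
  obtain ⟨x, -, hx⟩ := nonempty_inter_closedPoints (Z := (Set.univ : Set X))
    ⟨h.some, trivial⟩ isOpen_univ.isLocallyClosed
  exact ⟨(pointEquivClosedPoint (X ↘ An.SC)).symm ⟨x, hx⟩⟩

end Groth.Agent.S4186
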