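import Groth.Statements.S4187
import Groth.Agent.AnPts.Closure
-- import your own Groth.Agent.* helpers here

set_option autoImplicit false
open CategoryTheory AlgebraicGeometry Topology TopologicalSpace
open An

namespace Groth.Agent.S4187

/-- For X locally of finite type over ℂ, the underlying space of X is discrete if and only if the space
X(ℂ) (complex topology) is discrete. -/
theorem result (X : Scheme.{0}) [X.Over An.SC] [LocallyOfFiniteType (X ↘ An.SC)] :
    DiscreteTopology ↥X ↔ DiscreteTopology (An.Pts X) := by
  refine ⟨fun _ => DiscreteTopology.of_continuous_injective An.Pts.continuous_pt AnPts.pt_injective, fun _ => ?_⟩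
  have hopen : ∀ x : An.Pts X, IsOpen ({x.pt} : Set X) := by
    intro x
    have h := AnPts.isClosed_iff (AnPts.isLocallyConstructible_compl
      (AnPts.isLocallyConstructible_of_isClosed (AnPts.isClosed_pt x)))
    rw [← isClosed_compl_iff, h]
    exact isClosed_discrete _
  have hall : ∀ p : X, ∃ x : An.Pts X, x.pt = p := by
    intro p
    by_contra hp
    have hc : IsClosed (Set.range (An.Pts.pt : An.Pts X → X))ᶜ := by
      rw [isClosed_compl_iff, ← Set.iUnion_singleton_eq_range]
      exact isOpen_iUnion hopen
    obtain ⟨x, hx⟩ := AnPts.exists_pts_of_isLocallyClosed (Z := (Set.range (An.Pts.pt : An.Pts X → X))ᶜ)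
      ⟨p, hp⟩ hc.isLocallyClosed
    exact hx ⟨x, rfl⟩
  refine discreteTopology_iff_isOpen_singleton.2 fun p => ?_
  obtain ⟨x, rfl⟩ := hall p
  exact hopen x

end Groth.Agent.S4187
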