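import Groth.Statements.S4189
import Groth.Agent.AnPts.Closure
-- import your own Groth.Agent.* helpers here

set_option autoImplicit false
open CategoryTheory AlgebraicGeometry Topology TopologicalSpace
open An

namespace Groth.Agent.S4189

/-- Open case; the closed case follows by complements: for X locally of finite type over ℂ and T ⊆ X
locally constructible, T is open if and only if the set of ℂ-points lying in T is open in X(ℂ). -/
theorem result (X : Scheme.{0}) [X.Over An.SC] [LocallyOfFiniteType (X ↘ An.SC)]
    (T : Set ↥X) (hT : IsLocallyConstructible T) :
    IsOpen T ↔ IsOpen (An.Pts.pt ⁻¹' T : Set (An.Pts X)) := by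
  have h := AnPts.isClosed_iff (AnPts.isLocallyConstructible_compl hT)
  rwa [isClosed_compl_iff, Set.preimage_compl, isClosed_compl_iff] at h

end Groth.Agent.S4189
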