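import Groth.Statements.S4194
import Groth.Agent.AnPts.Closure
-- import your own Groth.Agent.* helpers here

set_option autoImplicit false
open CategoryTheory AlgebraicGeometry Topology TopologicalSpace
open An

namespace Groth.Agent.S4194

/-- A morphism f : X → Y of schemes locally of finite type over ℂ is injective (on underlying points) if
and only if the induced map X(ℂ) → Y(ℂ) is injective. -/
theorem result (X Y : Scheme.{0}) [X.Over An.SC] [LocallyOfFiniteType (X ↘ An.SC)]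
    [Y.Over An.SC] [LocallyOfFiniteType (Y ↘ An.SC)] (f : X ⟶ Y) [f.IsOver An.SC] :
    Function.Injective f.base ↔ Function.Injective (An.Pts.map f) := by
  refine ⟨fun h x y hxy => AnPts.pt_injective (h ?_), fun h a b hab => ?_⟩
  · change f x.pt = f y.pt
    rw [← An.Pts.pt_map, ← An.Pts.pt_map, hxy]
  by_contra hne
  have key : ∀ a b : X, f a = f b → b ∉ closure {a} → False := by
    intro a b hab hb
    obtain ⟨_, ⟨(W : Y.Opens), hW, rfl⟩, haW, -⟩ :=
      Y.isBasis_affineOpens.exists_subset_of_mem_open (Set.mem_univ (f a)) isOpen_univ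
    obtain ⟨_, ⟨(U : X.Opens), hU, rfl⟩, haU, hUW⟩ :=
      X.isBasis_affineOpens.exists_subset_of_mem_open (show a ∈ f ⁻¹ᵁ W from haW) (f ⁻¹ᵁ W).isOpen
    obtain ⟨_, ⟨(V : X.Opens), hV, rfl⟩, hbV, hVW⟩ :=
      X.isBasis_affineOpens.exists_subset_of_mem_open (show b ∈ f ⁻¹ᵁ W from (show f b ∈ W from hab ▸ haW)) (f ⁻¹ᵁ W).isOpen
    have himg : ∀ (U : X.Opens), IsAffineOpen U → U ≤ f ⁻¹ᵁ W → ∀ S : Set X, IsLocallyConstructible S →
        IsLocallyConstructible (W.ι ⁻¹' (f '' ((U : Set X) ∩ S))) := by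
      intro U hU hUW S hS
      letI : (U : Scheme).Over An.SC := AnPts.opensOver U
      letI : (W : Scheme).Over An.SC := AnPts.opensOver W
      haveI : IsAffine (U : Scheme) := hU
      haveI : IsAffine (W : Scheme) := hW
      haveI : LocallyOfFiniteType ((U : Scheme) ↘ An.SC) := inferInstanceAs (LocallyOfFiniteType (U.ι ≫ X ↘ An.SC))
      haveI : LocallyOfFiniteType ((W : Scheme) ↘ An.SC) := inferInstanceAs (LocallyOfFiniteType (W.ι ≫ Y ↘ An.SC))
      haveI : (f.resLE W U hUW).IsOver An.SC := ⟨by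
        change f.resLE W U hUW ≫ W.ι ≫ (Y ↘ An.SC) = U.ι ≫ (X ↘ An.SC)
        rw [← Category.assoc, Scheme.Hom.resLE_comp_ι, Category.assoc, comp_over f]⟩
      convert! AnPts.isLocallyConstructible_image (f.resLE W U hUW) (hS.preimage_of_isOpenEmbedding U.ι.isOpenEmbedding) using 1
      have hw : ∀ z : (U : Scheme), W.ι (f.resLE W U hUW z) = f (U.ι z) := fun z => by
        rw [← Scheme.Hom.comp_apply, Scheme.Hom.resLE_comp_ι, Scheme.Hom.comp_apply]
      ext w
      refine ⟨fun ⟨p, ⟨hpU, hpS⟩, hpw⟩ => ⟨⟨p, hpU⟩, hpS, Subtype.ext ((hw _).trans hpw)⟩, ?_⟩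
      rintro ⟨z, hz, rfl⟩
      exact ⟨U.ι z, ⟨z.2, hz⟩, (hw z).symm⟩
    have h1 := himg U hU hUW _ (AnPts.isLocallyConstructible_of_isClosed (isClosed_closure (s := {a})))
    have h2 := himg V hV hVW _ (AnPts.isLocallyConstructible_compl
      (AnPts.isLocallyConstructible_of_isClosed (isClosed_closure (s := {a}))))
    letI : (W : Scheme).Over An.SC := AnPts.opensOver W
    haveI : W.ι.IsOver An.SC := ⟨rfl⟩
    haveI : LocallyOfFiniteType ((W : Scheme) ↘ An.SC) := inferInstanceAs (LocallyOfFiniteType (W.ι ≫ Y ↘ An.SC))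
    obtain ⟨y, hy1, hy2⟩ := AnPts.exists_pts_of_isLocallyConstructible (X := (W : Scheme)) (h1.inter h2)
      ⟨⟨f a, haW⟩, ⟨a, ⟨haU, subset_closure rfl⟩, rfl⟩, ⟨b, ⟨hbV, hb⟩, hab.symm⟩⟩
    have hy : ∀ S : Set X, W.ι y.pt ∈ f '' S → (An.Pts.map W.ι y).pt ∈ f '' S := fun S h => by rwa [An.Pts.pt_map]
    obtain ⟨x1, ⟨-, hx1⟩, h1'⟩ := (AnPts.range_map f (U.isOpen.isLocallyClosed.inter isClosed_closure.isLocallyClosed)).ge (hy _ hy1)
    obtain ⟨x2, ⟨-, hx2⟩, h2'⟩ := (AnPts.range_map f (V.isOpen.isLocallyClosed.inter isClosed_closure.isOpen_compl.isLocallyClosed)).ge (hy _ hy2)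
    exact hx2 (h (h1'.trans h2'.symm) ▸ hx1)
  refine key a b hab fun hb => key b a hab.symm fun ha => hne ?_
  exact ((specializes_iff_mem_closure.2 hb).antisymm (specializes_iff_mem_closure.2 ha)).eq

end Groth.Agent.S4194
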