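import Groth.Statements.S4198
import Groth.Agent.AnPts.Closure
-- import your own Groth.Agent.* helpers here

set_option autoImplicit false
open CategoryTheory AlgebraicGeometry Topology TopologicalSpace
open An

namespace Groth.Agent.S4198

/-- Let f : X → Y be a morphism of finite type (here: quasi-compact, X and Y being locally of finite
type over ℂ). Then f is surjective if and only if the induced map on complex points X(ℂ) → Y(ℂ) is
surjective. (The finite-type hypothesis cannot be dropped.) -/
theorem result (X Y : Scheme.{0}) [X.Over An.SC] [LocallyOfFiniteType (X ↘ An.SC)]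
    [Y.Over An.SC] [LocallyOfFiniteType (Y ↘ An.SC)] (f : X ⟶ Y) [f.IsOver An.SC] [QuasiCompact f] :
    Function.Surjective f.base ↔ Function.Surjective (An.Pts.map f) := by
  rw [← Set.range_eq_univ, ← Set.range_eq_univ, AnPts.range_map_eq]
  refine ⟨fun h => by rw [h, Set.preimage_univ], fun h => ?_⟩
  by_contra hne
  obtain ⟨y, hy⟩ := AnPts.exists_pts_of_isLocallyConstructible
    (AnPts.isLocallyConstructible_compl (AnPts.isLocallyConstructible_range f)) (Set.nonempty_compl.2 hne)
  exact hy (Set.eq_univ_iff_forall.1 h y)

end Groth.Agent.S4198
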