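import Groth.Statements.S4201
import Groth.Agent.AnPts.Basic

set_option autoImplicit false
open CategoryTheory AlgebraicGeometry Topology TopologicalSpace
open An

namespace Groth.Agent.S4201

/-- The direction from schemes to spaces: an immersion f : X → Y of schemes locally of finite type over
ℂ induces an embedding X(ℂ) → Y(ℂ) whose image is locally closed. -/
theorem result (X Y : Scheme.{0}) [X.Over An.SC] [LocallyOfFiniteType (X ↘ An.SC)]
    [Y.Over An.SC] [LocallyOfFiniteType (Y ↘ An.SC)] (f : X ⟶ Y) [f.IsOver An.SC] [IsImmersion f] :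
    Topology.IsEmbedding (An.Pts.map f) ∧ IsLocallyClosed (Set.range (An.Pts.map f)) := by
  letI : (f.coborderRange : Scheme).Over An.SC := AnPts.opensOver f.coborderRange
  haveI : f.coborderRange.ι.IsOver An.SC := ⟨rfl⟩
  haveI : f.liftCoborder.IsOver An.SC := ⟨by
    change f.liftCoborder ≫ f.coborderRange.ι ≫ (Y ↘ An.SC) = X ↘ An.SC
    rw [← Category.assoc, f.liftCoborder_ι, comp_over]⟩
  have h : An.Pts.map f = An.Pts.map f.coborderRange.ι ∘ An.Pts.map f.liftCoborder :=
    funext fun x => Subtype.ext (by simp)
  have h1 := AnPts.isOpenEmbedding_map f.coborderRange.ι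
  have h2 := AnPts.isClosedEmbedding_map f.liftCoborder
  rw [h]
  refine ⟨h1.isEmbedding.comp h2.isEmbedding, ?_⟩
  rw [Set.range_comp]
  exact h2.isClosed_range.isLocallyClosed.image h1.isInducing h1.isOpen_range.isLocallyClosed

end Groth.Agent.S4201
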