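import Groth.Statements.S4204
import Groth.Agent.AnPts.Separated
-- import your own Groth.Agent.* helpers here

set_option autoImplicit false
open CategoryTheory AlgebraicGeometry Topology TopologicalSpace
open An

namespace Groth.Agent.S4204

/-- Let X be a scheme locally of finite type over ℂ. Then X is separated over ℂ if and only if X(ℂ) with
the complex topology is Hausdorff. -/
theorem result (X : Scheme.{0}) [X.Over An.SC] [LocallyOfFiniteType (X ↘ An.SC)] :
    IsSeparated (X ↘ An.SC) ↔ T2Space (An.Pts X) := by
  haveI : (X ↘ An.SC).IsOver An.SC := ⟨Category.comp_id _⟩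
  rw [AnPts.isSeparated_iff]
  have hsub : Subsingleton (An.Pts An.SC) := ⟨fun a b => Subtype.ext (by
    have ha := a.2
    have hb := b.2
    simp only [over] at ha hb
    exact (Category.comp_id a.1).symm.trans (ha.trans (hb.symm.trans (Category.comp_id b.1))))⟩
  refine ⟨fun h => ⟨fun x y hne => h x y (hsub.elim _ _) hne⟩, fun _ => T2Space.isSeparatedMap _⟩

end Groth.Agent.S4204
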