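import Groth.Statements.S4206
import Groth.Agent.AnPts.Etale
import Groth.Agent.AnPts.ProperFinite
import Mathlib.Topology.Covering.Basic
-- import your own Groth.Agent.* helpers here

set_option autoImplicit false
open CategoryTheory AlgebraicGeometry Topology TopologicalSpace
open An

namespace Groth.Agent.S4206

/-- A finite etale morphism f : X → Y of schemes locally of finite type over ℂ (f a ℂ-morphism) induces
a covering map X(ℂ) → Y(ℂ) with finite fibres for the complex topologies. -/
theorem result (X Y : Scheme.{0}) [X.Over An.SC] [LocallyOfFiniteType (X ↘ An.SC)]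
    [Y.Over An.SC] [LocallyOfFiniteType (Y ↘ An.SC)] (f : X ⟶ Y) [f.IsOver An.SC] [IsFinite f] [Etale f] :
    IsCoveringMap (An.Pts.map f) ∧ ∀ y : An.Pts Y, (An.Pts.map f ⁻¹' {y}).Finite := by
  have hfin := AnPts.finite_preimage_singleton f
  refine ⟨isCoveringMap_iff_isCoveringMapOn_univ.2 fun y _ => ?_, hfin⟩
  obtain ⟨_, ⟨(W : Y.Opens), hW, rfl⟩, hyW, -⟩ := Y.isBasis_affineOpens.exists_subset_of_mem_open
    (Set.mem_univ y.pt) isOpen_univ
  let s : Set (An.Pts Y) := An.Pts.pt ⁻¹' (W : Set Y)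
  have hs : IsOpen s := An.Pts.isOpen_preimage_pt W
  let U : X.Opens := f ⁻¹ᵁ W
  letI : (U : Scheme).Over An.SC := AnPts.opensOver U
  haveI : U.ι.IsOver An.SC := ⟨rfl⟩
  haveI : IsAffine (U : Scheme) := IsAffineHom.isAffine_preimage (f := f) W hW
  haveI : LocallyOfFiniteType ((U : Scheme) ↘ An.SC) :=
    inferInstanceAs (LocallyOfFiniteType (U.ι ≫ X ↘ An.SC))
  obtain ⟨n, t, ht⟩ := AnPts.exists_generators (U : Scheme)
  haveI : T2Space (An.Pts (U : Scheme)) := (AnPts.isEmbedding_of_generators t ht).1.t2Space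
  have heq : An.Pts.map f ⁻¹' s = Set.range (An.Pts.map U.ι) := by
    rw [AnPts.range_map_of_isOpenImmersion]
    ext z
    change (An.Pts.map f z).pt ∈ W ↔ _
    rw [An.Pts.pt_map]
    exact ⟨fun h => ⟨⟨z.pt, h⟩, rfl⟩, fun ⟨p, hp⟩ => hp ▸ p.2⟩
  haveI : T2Space (Set.range (An.Pts.map U.ι)) :=
    (AnPts.isOpenEmbedding_map U.ι).isEmbedding.toHomeomorph.t2Space
  haveI : T2Space (An.Pts.map f ⁻¹' s) := heq ▸ inferInstance
  have hLH := AnPts.isLocalHomeomorph_map f
  refine IsCoveringMapOn.of_isCoveringMap_restrictPreimage _ hs (hs.preimage (An.Pts.continuous_map f)) ?_ y hyW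
  refine isCoveringMap_iff_isCoveringMapOn_univ.2 ?_
  have hprop := (AnPts.isProperMap_map f).restrictPreimage s
  refine IsClosedMap.isCoveringMapOn_of_isLocalHomeomorphOn hprop.isClosedMap (fun x _ => ?_) ?_
  · refine Set.Finite.subset ((hfin x.1).preimage Subtype.val_injective.injOn) fun z hz => ?_
    exact congrArg Subtype.val hz
  · refine IsLocalHomeomorph.isLocalHomeomorphOn ?_
    exact IsLocalHomeomorph.of_comp
      (hLH.comp (hs.preimage (An.Pts.continuous_map f)).isOpenEmbedding_subtypeVal.isLocalHomeomorph :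
        IsLocalHomeomorph (Subtype.val ∘ s.restrictPreimage (An.Pts.map f)))
      hs.isOpenEmbedding_subtypeVal.isLocalHomeomorph hprop.continuous

end Groth.Agent.S4206
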