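import Groth.Statements.S4228
import Groth.Agent.Bertini.Affine

set_option autoImplicit false
open CategoryTheory AlgebraicGeometry
universe u
open An

namespace Groth.Agent.S4228

/-- In the affine hyperplane case to which the proof reduces (the published statement is for a
projective scheme V ⊆ P^n_k of pure dimension r and a general linear subspace of any dimension,
parametrised by a dense open subset of the Grassmannian; part (ii), hypersurfaces of degree ≥ 2
through a point, is not stated here): let k be an infinite field (for a finite field the condition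
below on coefficient vectors could hold at no rational point, so the dense-open formulation is
rendered only for infinite k) and A = k[x_1, …, x_n]/I a quotient of the polynomial ring (V = Spec A
⊆ A^n_k) such that every irreducible component of V has dimension r. Then there is a nonzero
polynomial g in the n + 1 coefficients such that for every a = (a_0, …, a_n) with g(a) ≠ 0 the
hyperplane a_0 + Σ a_i x_i = 0 cuts V transversally at every point of the hyperplane section where V
is smooth over k: the section Spec (A/(a_0 + Σ a_i x_i)) is smooth over k of relative dimension r −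
1 on a neighbourhood of each such point. -/
theorem result (k : Type u) [Field k] [Infinite k] (n r : ℕ) (A : Type u) [CommRing A]
    [Algebra k A] (x : Fin n → A)
    (hx : Function.Surjective (MvPolynomial.aeval x : MvPolynomial (Fin n) k →ₐ[k] A))
    (hdim : ∀ P ∈ minimalPrimes A, ringKrullDim (A ⧸ P) = r) :
    ∃ g : MvPolynomial (Fin (n + 1)) k, g ≠ 0 ∧
      ∀ a : Fin (n + 1) → k, MvPolynomial.eval a g ≠ 0 →
        ∀ (q : Ideal (A ⧸ Ideal.span {algebraMap k A (a 0) + ∑ i : Fin n, algebraMap k A (a i.succ) * x i}))
          (_ : q.IsPrime),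
          (∃ f : A, f ∉ q.comap (Ideal.Quotient.mk _) ∧
            Smooth (Spec.map (CommRingCat.ofHom (algebraMap k (Localization.Away f))))) →
          ∃ f : A ⧸ Ideal.span {algebraMap k A (a 0) + ∑ i : Fin n, algebraMap k A (a i.succ) * x i},
            f ∉ q ∧ SmoothOfRelativeDimension (r - 1)
              (Spec.map (CommRingCat.ofHom (algebraMap k (Localization.Away f)))) := by
  classical
  haveI : Algebra.FiniteType k A := Algebra.FiniteType.of_surjective (MvPolynomial.aeval x) hx
  haveI : IsNoetherianRing A := Algebra.FiniteType.isNoetherianRing k A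
  let sm : Set A := {f | Smooth (Spec.map (CommRingCat.ofHom (algebraMap k (Localization.Away f))))}
  obtain ⟨s, hs⟩ : (Ideal.span sm).FG := IsNoetherian.noetherian _
  choose T hT hTs using fun z : (s : Set A) =>
    Submodule.mem_span_finite_of_mem_span (R := A) (show (z : A) ∈ Submodule.span A sm from hs.le (Submodule.subset_span z.2))
  let S : Finset A := Finset.univ.biUnion T
  have hS : ∀ f ∈ S, f ∈ sm := fun f hf => by
    obtain ⟨z, -, hz⟩ := Finset.mem_biUnion.1 hf
    exact hT z hz
  have hspan : Ideal.span sm ≤ Ideal.span (S : Set A) := by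
    refine hs.ge.trans (Submodule.span_le.2 fun z hz => ?_)
    exact Submodule.span_mono (fun w hw => Finset.mem_biUnion.2 ⟨⟨z, hz⟩, Finset.mem_univ _, hw⟩) (hTs ⟨z, hz⟩)
  have hsmooth : ∀ f ∈ sm, Algebra.Smooth k (Localization.Away f) := fun f hf =>
    RingHom.smooth_algebraMap.1 ((HasRingHomProperty.Spec_iff (P := @Smooth)).1 hf)
  have hg : ∀ f ∈ sm, ∃ g : MvPolynomial (Fin (n + 1)) k, g ≠ 0 ∧ ∀ a : Fin (n + 1) → k, MvPolynomial.eval a g ≠ 0 →
      ∀ (P : Ideal (Localization.Away f)) [P.IsPrime],
        algebraMap A (Localization.Away f) (algebraMap k A (a 0) + ∑ i : Fin n, algebraMap k A (a i.succ) * x i) ∈ P →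
          TensorProduct.tmul (Localization.Away f) (1 : P.ResidueField) (KaehlerDifferential.D k (Localization.Away f)
            (algebraMap A (Localization.Away f) (algebraMap k A (a 0) + ∑ i : Fin n, algebraMap k A (a i.succ) * x i))) ≠ 0 := by
    intro f hf
    haveI := hsmooth f hf
    obtain ⟨g, hg0, hg⟩ := Groth.Agent.Bertini.exists_poly_tangent (fun i => algebraMap A (Localization.Away f) (x i))
      (Groth.Agent.Bertini.span_D_away x hx f)
    refine ⟨g, hg0, fun a ha P _ => ?_⟩
    have := hg a ha P
    simpa [map_add, map_sum, map_mul, ← IsScalarTower.algebraMap_apply] using this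
  choose! g hg0 hg using hg
  refine ⟨∏ f ∈ S, g f, Finset.prod_ne_zero_iff.2 fun f hf => hg0 f (hS f hf), fun a ha q hq hf₀ => ?_⟩
  obtain ⟨f₀, hf₀, hf₀s⟩ := hf₀
  obtain ⟨f, hfS, hfP⟩ : ∃ f ∈ S, f ∉ q.comap (Ideal.Quotient.mk _) := by
    by_contra hne
    push Not at hne
    exact hf₀ (Ideal.span_le.2 hne (hspan (Ideal.subset_span hf₀s)))
  haveI := hsmooth f (hS f hfS)
  rw [map_prod, Finset.prod_ne_zero_iff] at ha
  exact Groth.Agent.Bertini.exists_smooth_section r hdim _ q f hfP (fun P _ hP => hg f (hS f hfS) a (ha f hfS) P hP)

end Groth.Agent.S4228
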