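import Groth.Statements.S4243
import Mathlib.FieldTheory.Finite.Polynomial

set_option autoImplicit false
open SGA4h

namespace Groth.Agent.S4243

/-- Let k be a finite field with q elements and P a nonzero homogeneous polynomial of degree d in r+1
variables over k. If P vanishes at every point of k^{r+1} (that is, the hypersurface P = 0 in
projective r-space passes through every rational point), then d ≥ q + 1. -/
theorem result (k : Type) [Field k] [Fintype k] (r d : ℕ)
    (P : MvPolynomial (Fin (r + 1)) k) (hP : P.IsHomogeneous d) (hP0 : P ≠ 0)
    (hvan : ∀ x : Fin (r + 1) → k, MvPolynomial.eval x P = 0) :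
    Fintype.card k + 1 ≤ d := by
  classical
  by_contra hd
  push Not at hd
  apply hP0
  apply MvPolynomial.eq_zero_of_eval_eq_zero _ _ P hvan
  rw [MvPolynomial.mem_restrictDegree]
  intro s hs i
  rw [MvPolynomial.mem_support_iff] at hs
  have hdeg : s.degree = d := by
    by_contra h
    exact hs (hP.coeff_eq_zero h)
  have hle : s i ≤ d := hdeg ▸ Finsupp.le_degree i s
  rcases Nat.lt_or_ge (s i) d with h | h
  · omega
  · exfalso
    have hsi : s i = d := le_antisymm hle h
    have huniq : ∀ t : Fin (r + 1) →₀ ℕ, t.degree = d → t i = d → t = Finsupp.single i d := by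
      intro t ht hti
      ext j
      by_cases hj : j = i
      · subst hj; simp [hti]
      · have := Finset.sum_le_sum_of_subset (f := fun a => t a) (Finset.subset_univ {i, j})
        rw [Finset.sum_pair (Ne.symm hj), ← Finsupp.degree_eq_sum, ht, hti] at this
        simp [hj]; omega
    have hv := hvan (Pi.single i 1)
    rw [MvPolynomial.eval_eq'] at hv
    rw [Finset.sum_eq_single s] at hv
    · rw [huniq s hdeg hsi] at hv hs
      refine hs ?_
      have : ∏ j, (Pi.single i 1 : Fin (r + 1) → k) j ^ (Finsupp.single i d) j = 1 := by
        rw [Finset.prod_eq_single i] <;> simp +contextual [Pi.single_apply, Finsupp.single_apply]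
      rwa [this, mul_one] at hv
    · intro t ht hts
      rw [MvPolynomial.mem_support_iff] at ht
      have htd : t.degree = d := by
        by_contra h
        exact ht (hP.coeff_eq_zero h)
      have : ∃ j, j ≠ i ∧ t j ≠ 0 := by
        by_contra hc
        push Not at hc
        apply hts
        rw [huniq s hdeg hsi]
        apply huniq t htd
        rw [← htd, Finsupp.degree_eq_sum, Finset.sum_eq_single i] <;> simp +contextual [hc]
      obtain ⟨j, hj, htj⟩ := this
      rw [Finset.prod_eq_zero (Finset.mem_univ j), mul_zero]
      simp [hj, htj]
    · intro h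
      exact absurd h (by simpa using hs)

end Groth.Agent.S4243
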