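import Groth.Statements.S4256
import Mathlib.Algebra.BigOperators.Ring.Finset

set_option autoImplicit false
open scoped BigOperators
open SGA4h

namespace Groth.Agent.S4256

/-- Let k be a finite field, ψ a nontrivial additive character of k with values in a domain R, and n ≥
1. Then the generalised Kloosterman sum with parameter 0, Σ ψ(x_1 + ⋯ + x_n) over all (x_1, …, x_n)
∈ k^n with x_1 ⋯ x_n = 0, equals (-1)^{n-1}. -/
theorem result (k : Type) [Field k] [Fintype k] [DecidableEq k] (R : Type) [CommRing R] [IsDomain R]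
    (ψ : AddChar k R) (hψ : ψ ≠ 1) (n : ℕ) (hn : 1 ≤ n) :
    ∑ x ∈ (Finset.univ : Finset (Fin n → k)).filter (fun x => ∏ i, x i = 0), ψ (∑ i, x i) = (-1) ^ (n - 1) := by
  classical
  have hsum : ∀ f : Fin n → k, ψ (∑ i, f i) = ∏ i, ψ (f i) := fun f => by
    exact map_prod ψ.toMonoidHom (fun i => Multiplicative.ofAdd (f i)) Finset.univ
  have h1 := Finset.sum_filter_add_sum_filter_not (Finset.univ : Finset (Fin n → k))
    (fun x => ∏ i, x i = 0) (fun x => ψ (∑ i, x i))
  have h0 : ∑ a : k, ψ a = 0 := AddChar.sum_eq_zero_of_ne_one hψ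
  have hall : ∑ x : Fin n → k, ψ (∑ i, x i) = 0 := by
    simp only [hsum]
    rw [← Fintype.prod_sum, h0, Finset.prod_const, zero_pow (by simp; omega)]
  have hne : ∑ x ∈ (Finset.univ : Finset (Fin n → k)).filter (fun x => ¬ ∏ i, x i = 0),
      ψ (∑ i, x i) = (-1) ^ n := by
    have : (Finset.univ : Finset (Fin n → k)).filter (fun x => ¬ ∏ i, x i = 0) =
        Fintype.piFinset (fun _ : Fin n => Finset.univ.erase (0 : k)) := by
      ext x; simp [Finset.prod_eq_zero_iff]
    rw [this]
    simp only [hsum]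
    rw [Finset.sum_prod_piFinset]
    simp [Finset.sum_erase_eq_sub, h0]
  rw [hall, hne] at h1
  obtain ⟨m, rfl⟩ : ∃ m, n = m + 1 := ⟨n - 1, by omega⟩
  simp only [pow_succ, Nat.add_sub_cancel] at h1 ⊢
  linear_combination h1

end Groth.Agent.S4256
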