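import Groth.Statements.S4268
import Groth.Agent.PCohD.PushPerfect
import Groth.Agent.KFlat.FlatProper
import Groth.Agent.CohOps.PnSmooth
import Groth.Agent.ProjProper.Basic
import Groth.Agent.S1510
-- import your own Groth.Agent.* helpers here

set_option autoImplicit false
set_option backward.isDefEq.respectTransparency false
set_option maxHeartbeats 1000000
universe u
open CategoryTheory CategoryTheory.Limits AlgebraicGeometry
attribute [local instance] HasDerivedCategory.standard
open KSix

namespace Groth.Agent.S4268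

theorem key {X P Y : Scheme.{u}} (i : X ⟶ P) (p : P ⟶ Y) [IsProper p] [Smooth p] [DCoh.HasRpush i]
    [DCoh.HasRpush p] [DCoh.HasRpush (i ≫ p)] (E : DCoh.D X) (h : DCoh.IsPerfect ((DCoh.Rpush i).obj E)) :
    DCoh.IsPerfect ((DCoh.Rpush (i ≫ p)).obj E) :=
  Groth.Agent.PerfTri.Perfect.isPerfect_of_iso ((Groth.Agent.KFlat.RPush.rpushCompIso i p).app E)
    (Groth.Agent.KFlat.FlatProper.isPerfect_Rpush p _ h)

/-- In the case where f is projective, over an arbitrary base: let Y be a scheme, i : X ⟶ P^r_Y a closed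
immersion and f : X ⟶ Y the composite with the projection; suppose f is a perfect morphism and let E
be a bounded below perfect object of D(O_X). Assuming Rf_* exists, Rf_*E is perfect on Y. (The
source allows a closed immersion into any P(F) with F quasi-coherent of finite type on Y.) -/
theorem result {X Y : Scheme.{u}} (r : ℕ)
    (i : X ⟶ CohB1.ProjSpaceOver r Y) [IsClosedImmersion i]
    (hf : MoreMor.IsPerfectMor (i ≫ CohB1.ProjSpaceOver.toBase r Y)) [DCoh.HasRpush (i ≫ CohB1.ProjSpaceOver.toBase r Y)]
    (E : DCoh.D X) (b : ℤ) [E.IsGE b] (hE : DCoh.IsPerfect E) :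
    DCoh.IsPerfect ((DCoh.Rpush (i ≫ CohB1.ProjSpaceOver.toBase r Y)).obj E) := by
  have : Smooth (CohB1.ProjSpaceOver.toBase r Y) := Groth.Agent.CohOps.PnSmooth.smooth_toBase r Y
  have : IsProper (CohB1.ProjSpaceOver.toBase r Y) := Groth.Agent.ProjProper.Basic.isProper_toBase r Y
  have := Groth.Agent.KFlat.RPush.hasRpush i
  have := Groth.Agent.KFlat.RPush.hasRpush (CohB1.ProjSpaceOver.toBase r Y)
  have hi : MoreMor.IsPerfectMor i := Groth.Agent.S1510.result i _ hf
  have h1 : DCoh.IsPerfect ((DCoh.Rpush i).obj E) :=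
    Groth.Agent.PCohD.PushPerfect.isPerfect_Rpush i hi E hE
  exact key i (CohB1.ProjSpaceOver.toBase r Y) E h1

end Groth.Agent.S4268
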