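import Groth.Statements.S4273
import Groth.Agent.PerfRP.Ample
-- import your own Groth.Agent.* helpers here

set_option autoImplicit false
universe u
open CategoryTheory CategoryTheory.Limits AlgebraicGeometry
attribute [local instance] HasDerivedCategory.standard
open KSix

attribute [-instance] CategoryTheory.ReflQuiver.toQuiver

namespace Groth.Agent.S4273

/-- The converse is immediate): let X be a scheme with an ample family (L_i) of invertible modules, and
assume X separated or Noetherian. If E ∈ D(O_X) has perfect amplitude in [m, n], then E is
isomorphic in D(O_X) to (the image of) a complex F with F^i = 0 for i outside [m, n], F^i a finite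
direct sum of modules L_j^{⊗ -k} (k > 0) for i > m, and F^m finite locally free. -/
theorem result (X : Scheme.{u}) {ι : Type u} (L : ι → X.Modules)
    (hL : KSix.IsAmpleFamily L) (hX : X.IsSeparated ∨ IsNoetherian X)
    (E : DCoh.D X) (m n : ℤ) (hE : KSix.HasPerfectAmplitudeIn m n E) :
    ∃ F : CochainComplex X.Modules ℤ, DCoh.VanishesOutside F m n ∧ (∀ i : ℤ, m < i → KSix.InAddL L (F.X i)) ∧
      FlatMod.IsFinLocFree (F.X m) ∧ Nonempty (DCoh.toD X F ≅ E) := by
  exact Groth.Agent.PerfRP.exists_ample_resolution hL E m n hE

end Groth.Agent.S4273
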