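import Groth.Statements.S4279
import Groth.Agent.NumTriv.Family
import Groth.Agent.NumTriv.AmpleDeg
import Groth.Agent.AmpCrit.NegVan
-- import your own Groth.Agent.* helpers here

set_option autoImplicit false
universe u
open CategoryTheory CategoryTheory.Limits AlgebraicGeometry
open Pic13

namespace Groth.Agent.S4279

/-- Let k be an algebraically closed field, X a proper k-scheme carrying an ample invertible module H,
and L an invertible O_X-module with inverse L' (L ⊗ L' ≅ O_X). If L^{⊗ m} ⊗ H and L'^{⊗ m} ⊗ H are
ample for every m ≥ 0 (that is, L^{⊗ m}(1) is ample for every integer m), then L is τ-equivalent to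
zero. -/
theorem result (k : Type u) [Field k] [IsAlgClosed k] (X : Scheme.{u}) [X.Over (Spec (CommRingCat.of k))]
    [IsProper (X ↘ Spec (CommRingCat.of k))]
    (H : X.Modules) (hH : CohB1.IsAmple H) (L L' : X.Modules) (hL : PicF.IsInvertible L)
    (hLL' : Nonempty (CohB1.tensorMod L L' ≅ Coh.structureModule X))
    (hamp : ∀ m : ℕ, CohB1.IsAmple (CohB1.tensorMod (CohB1.tensorPow L m) H) ∧ CohB1.IsAmple (CohB1.tensorMod (CohB1.tensorPow L' m) H)) :
    Pic13.IsTauEquivZero k X L := by
  have : Infinite k := IsAlgClosed.instInfinite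
  obtain ⟨e⟩ := hLL'
  have hL' : PicF.IsInvertible L' := AmpCrit.NegVan.isInvertible_of_inverse hL e
  have hnum : NumTriv.Num1 k L :=
    NumTriv.num1_of_ample_translates k hL hH.1 hL' e (fun m => (hamp m).1) (fun m => (hamp m).2)
  obtain ⟨n, i, hi, hi'⟩ := NumTriv.exists_closedImmersion_of_ample (k := k) hH
  exact NumTriv.isTauEquivZero_of_isBounded_pow (NumTriv.isBounded_num1 i hi')
    (fun M hM => hM.1) (fun j => NumTriv.num1_pow k hnum j)

end Groth.Agent.S4279
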