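import Groth.Statements.S4285
import Groth.Agent.EulerFam.RegBounded

set_option autoImplicit false
universe u
open CategoryTheory CategoryTheory.Limits AlgebraicGeometry
open Pic13

namespace Groth.Agent.S4285

/-- (iii) implies (i), over the base S = Spec k with k algebraically closed: let X ⊆ P^n_k be a closed
subscheme, m an integer and φ a polynomial. The family of coherent O_X-modules F which are m-regular
(H^q(X, F(m - q)) = 0 for q ≥ 1) and have Hilbert polynomial φ (χ(F(d)) = φ(d) for all integers d)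
is bounded. (The source allows a finite set of Hilbert polynomials and a projective X over a
Noetherian base with O_X(1) generated by global sections on the fibres.) -/
theorem result (k : Type u) [Field k] [IsAlgClosed k] (n : ℕ) (X : Scheme.{u}) [X.Over (Spec (CommRingCat.of k))]
    (i : X ⟶ CohB1.ProjSpace n k) [IsClosedImmersion i] (hi : i ≫ CohB1.ProjSpace.toSpec n k = X ↘ Spec (CommRingCat.of k))
    (m : ℤ) (φ : Polynomial ℚ) :
    Pic13.IsBounded k X (fun F : X.Modules => Coh.IsCoh F ∧ Pic13.IsMRegular k i F m ∧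
      ∀ d : ℤ, (FGA.eulerCharLE k X (Pic13.twistOn k i F d) n : ℚ) = φ.eval (d : ℚ)) := by
  haveI := Groth.Agent.ProjProper.Basic.isProper_toSpec n k
  haveI : IsProper (X ↘ Spec (CommRingCat.of k)) := by rw [← hi]; infer_instance
  let p : ℕ := ⌊φ.eval (m : ℚ)⌋.toNat
  let B := ∐ fun _ : Fin p => Twist.twistProjSpace n k (-m)
  let A := ∐ fun _ : Fin (Groth.Agent.ProjTwist.Pn.h0Tw B (m + 1)) =>
    Twist.twistProjSpace n k (-(m + 1))
  have hB : Coh.IsCoh B := Groth.Agent.ProjTwist.Pn.isCoh_sum _ fun _ =>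
    Groth.Agent.ProjTwist.Pn.isCoh_twistProjSpace n k _
  have hA : Coh.IsCoh A := Groth.Agent.ProjTwist.Pn.isCoh_sum _ fun _ =>
    Groth.Agent.ProjTwist.Pn.isCoh_twistProjSpace n k _
  obtain ⟨T, q, hft, hqc, U, hU, hfib⟩ := Groth.Agent.EulerFam.isBounded_cokernel (k := k) (X := X)
    (Groth.Agent.ZClosLib.CohDescent.isCoh_pullback i A hA)
    (Groth.Agent.ZClosLib.CohDescent.isCoh_pullback i B hB)
  refine ⟨T, q, hft, hqc, U, hU, fun F hF => hfib F ?_⟩
  obtain ⟨hF, hreg, hχ⟩ := hF
  haveI : Coh.IsQCoh F := hF.1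
  refine Groth.Agent.EulerFam.exists_iso_cokernel i hF hreg (p := p) ?_
  have hG : Coh.IsCoh ((Coh.push i).obj F) := Groth.Agent.ProperFin.isCoh_push_of_isFinite i F hF
  have h0 := Groth.Agent.EulerFam.h0Tw_eq_chi hG (Groth.Agent.CMReg.isMRegular_push i hreg)
  have h1 : FGA.eulerCharLE k X (Pic13.twistOn k i F m) n =
      Groth.Agent.ProjTwist.Pn.chi ((Coh.push i).obj F) m := by
    rw [Groth.Agent.CMReg.chi_eq_eulerCharLE k _ hG m]
    exact Finset.sum_congr rfl fun j _ => by rw [Groth.Agent.CMReg.finrank_twistOn i hi F m j]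
  have h2 : φ.eval (m : ℚ) = ((Groth.Agent.ProjTwist.Pn.h0Tw ((Coh.push i).obj F) m : ℤ) : ℚ) := by
    rw [← hχ m, h1, h0]
  show ((⌊φ.eval (m : ℚ)⌋.toNat : ℕ) : ℤ) = _
  rw [h2, Int.floor_intCast, Int.toNat_natCast, h0]

end Groth.Agent.S4285
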