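import Groth.Statements.S4286
import Groth.Agent.NumTriv.BddHilb
-- import your own Groth.Agent.* helpers here

set_option autoImplicit false
universe u
open CategoryTheory CategoryTheory.Limits AlgebraicGeometry
open Pic13

namespace Groth.Agent.S4286

/-- (i) implies (iii), over the base S = Spec k with k algebraically closed: let X ⊆ P^n_k be a closed
subscheme and P a bounded family of coherent O_X-modules. Then there is an integer m such that every
member of P is m-regular, and the Hilbert polynomials d ↦ χ(F(d)) of the members of P form a finite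
set. -/
theorem result (k : Type u) [Field k] [IsAlgClosed k] (n : ℕ) (X : Scheme.{u}) [X.Over (Spec (CommRingCat.of k))]
    (i : X ⟶ CohB1.ProjSpace n k) [IsClosedImmersion i] (hi : i ≫ CohB1.ProjSpace.toSpec n k = X ↘ Spec (CommRingCat.of k))
    (P : X.Modules → Prop) (hP : ∀ F, P F → Coh.IsCoh F) (hb : Pic13.IsBounded k X P) :
    (∃ m : ℤ, ∀ F, P F → Pic13.IsMRegular k i F m) ∧
      ∃ s : Finset (Polynomial ℚ), ∀ F, P F → ∃ φ ∈ s, ∀ d : ℤ, (FGA.eulerCharLE k X (Pic13.twistOn k i F d) n : ℚ) = φ.eval (d : ℚ) := by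
  haveI := Groth.Agent.ProjProper.Basic.isProper_toSpec n k
  haveI : IsProper (X ↘ Spec (CommRingCat.of k)) := by rw [← hi]; infer_instance
  obtain ⟨s, hs⟩ := Groth.Agent.NumTriv.BddHilb.finite_hilb i hi hP hb
  refine ⟨Groth.Agent.NumTriv.BddHilb.exists_regular i hi hP hb, s, fun F hF => ?_⟩
  obtain ⟨φ, hφ, hχ⟩ := hs F hF
  exact ⟨φ, hφ, fun d => by
    rw [← (Groth.Agent.NumTriv.BddHilb.chi_push_eq i hi F (hP F hF) d).1]; exact hχ d⟩

end Groth.Agent.S4286
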