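import Groth.Statements.S4287
import Groth.Agent.NumTriv.AmpleIff

set_option autoImplicit false
universe u
open CategoryTheory CategoryTheory.Limits AlgebraicGeometry
open Pic13

namespace Groth.Agent.S4287

/-- (i) if and only if (iv), over the base S = Spec k with k algebraically closed: let X be a proper
integral k-scheme carrying an ample invertible module H, and P a family of invertible O_X-modules.
Then P is bounded if and only if there is an integer N such that H^{⊗ N} ⊗ L and H^{⊗ N} ⊗ L' are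
ample for every member L of P and every inverse L' of L (L ⊗ L' ≅ O_X). (The source: X projective
over a Noetherian S with integral geometric fibres of dimension r, H relatively ample.) -/
theorem result (k : Type u) [Field k] [IsAlgClosed k] (X : Scheme.{u}) [X.Over (Spec (CommRingCat.of k))]
    [IsProper (X ↘ Spec (CommRingCat.of k))] [IsIntegral X]
    (H : X.Modules) (hH : CohB1.IsAmple H) (P : X.Modules → Prop) (hP : ∀ L, P L → PicF.IsInvertible L) :
    Pic13.IsBounded k X P ↔ ∃ N : ℕ, ∀ L L' : X.Modules, P L → Nonempty (CohB1.tensorMod L L' ≅ Coh.structureModule X) →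
      CohB1.IsAmple (CohB1.tensorMod (CohB1.tensorPow H N) L) ∧ CohB1.IsAmple (CohB1.tensorMod (CohB1.tensorPow H N) L') := by
  haveI := EulerChar.isNoetherian k (X := X)
  obtain ⟨a, n, i, ha, hic, hi, ⟨eH⟩⟩ := Groth.Agent.NumTriv.Section.exists_embedding_pow (k := k) hH
  haveI := hic
  constructor
  · intro hb
    obtain ⟨N₁, h₁⟩ := Groth.Agent.NumTriv.AmpleIff.exists_ample_of_bounded i hi hH hP hb
    have hP' : ∀ L' : X.Modules, (∃ L, P L ∧
        Nonempty (CohB1.tensorMod L L' ≅ Coh.structureModule X)) → PicF.IsInvertible L' :=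
      fun L' ⟨L, hL, ⟨e⟩⟩ => Groth.Agent.NumTriv.AmpleIff.isInvertible_inverse (hP L hL) e
    obtain ⟨N₂, h₂⟩ := Groth.Agent.NumTriv.AmpleIff.exists_ample_of_bounded i hi hH hP'
      (Groth.Agent.NumTriv.AmpleIff.isBounded_inverse i hi hP hb)
    exact ⟨max N₁ N₂, fun L L' hL he =>
      ⟨h₁ _ (le_max_left _ _) L hL, h₂ _ (le_max_right _ _) L' ⟨L, hL, he⟩⟩⟩
  · rintro ⟨N, h⟩
    obtain ⟨M, hM⟩ := Groth.Agent.NumTriv.AmpleIff.exists_amp i hH ha eH N
    obtain ⟨D, hD⟩ : ∃ e : ℕ, topologicalKrullDim X = (e : WithBot ℕ∞) := by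
      refine ⟨Groth.Agent.VarDim.dimPt k X (genericPoint X), ?_⟩
      rw [← Groth.Agent.NumTriv.Wall.dim_closure k (genericPoint X), genericPoint_closure]
      exact (IsHomeomorph.topologicalKrullDim_eq _ (Homeomorph.Set.univ X).isHomeomorph).symm
    obtain ⟨T, q, hft, hqc, F, hF, hb⟩ :=
      Groth.Agent.NumTriv.AmpleBdd.isBounded_amp D i hi hD M
    refine ⟨T, q, hft, hqc, F, hF, fun L hL => hb L ?_⟩
    obtain ⟨L', -, ⟨e⟩⟩ := Groth.Agent.PicLaw.exists_inverse (hP L hL)
    obtain ⟨hA, hB⟩ := h L L' hL ⟨e⟩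
    exact hM L L' (hP L hL) e hA hB

end Groth.Agent.S4287
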