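import Groth.Statements.S4290
import Groth.Agent.NumTriv.IndexThm
import Groth.Agent.IntProd70.Nakai

set_option autoImplicit false
universe u
open CategoryTheory CategoryTheory.Limits AlgebraicGeometry
open Pic13

namespace Groth.Agent.S4290

/-- Let k be an algebraically closed field, X an irreducible proper k-scheme of dimension r = s + 2 ≥ 2
carrying an ample invertible module H, and L an invertible module with (c₁(L)·c₁(H)^{r-1}) = 0 and
(c₁(L)²·c₁(H)^{r-2}) ≥ 0. Then L is numerically equivalent to zero. Intersection numbers are those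
of FGA.intNum, which takes inverses H', L' of H, L as arguments. -/
theorem result (k : Type u) [Field k] [IsAlgClosed k] (X : Scheme.{u}) [X.Over (Spec (CommRingCat.of k))]
    [IsProper (X ↘ Spec (CommRingCat.of k))] [IrreducibleSpace X] (s : ℕ) (hdim : topologicalKrullDim X = (s + 2 : ℕ))
    (H H' L L' : X.Modules) (hH : CohB1.IsAmple H) (hL : PicF.IsInvertible L)
    (hHH' : Nonempty (CohB1.tensorMod H H' ≅ Coh.structureModule X)) (hLL' : Nonempty (CohB1.tensorMod L L' ≅ Coh.structureModule X))
    (horth : FGA.intNum k X (s + 2) (Matrix.vecCons L' (fun _ : Fin (s + 1) => H')) (Coh.structureModule X) = 0)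
    (hsq : 0 ≤ FGA.intNum k X (s + 2) (Matrix.vecCons L' (Matrix.vecCons L' (fun _ : Fin s => H'))) (Coh.structureModule X)) :
    Pic13.IsNumEquivZero k X L := by
  obtain ⟨eH⟩ := hHH'
  obtain ⟨eL⟩ := hLL'
  have hH' : PicF.IsInvertible H' := Groth.Agent.PicLaw.isInvertible_of_tensor_left hH.1
    (Groth.Agent.PicCl.isInvertible_of_iso eH.symm (Groth.Agent.LFFrame.isInvertible_structureModule X))
  have hL' : PicF.IsInvertible L' := Groth.Agent.PicLaw.isInvertible_of_tensor_left hL
    (Groth.Agent.PicCl.isInvertible_of_iso eL.symm (Groth.Agent.LFFrame.isInvertible_structureModule X))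
  haveI := Groth.Agent.EulerChar.isNoetherian k (X := X)
  have hO := Groth.Agent.ProperFin.isCoh_structureModule X
  have hdO : topologicalKrullDim ↥(CohB1.support (Coh.structureModule X)) ≤ ((s + 2 : ℕ) : WithBot ℕ∞) :=
    Groth.Agent.EulerChar.dim_support_le hdim.le
  have key : ∀ {A B : Fin (s + 2) → X.Modules}, (∀ i, PicF.IsInvertible (A i)) → (∀ i, PicF.IsInvertible (B i)) →
      (∀ i, Nonempty (CohB1.tensorMod (A i) (B i) ≅ Coh.structureModule X)) →
      Groth.Agent.NefPos.iC k (List.ofFn A) (Coh.structureModule X) =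
        FGA.intNum k X (s + 2) B (Coh.structureModule X) := by
    intro A B hA hB e
    rw [← Groth.Agent.NefPos.iC_ofFn k hA hO, Groth.Agent.IntProd70.intC,
      Groth.Agent.IntProd70.intE_inverse k hA hB e hO hdO, ← mul_assoc, ← pow_add, ← two_mul, pow_mul,
      Groth.Agent.Snapper.intNum_eq k hdim.le]
    simp
  have h1 : Groth.Agent.NefPos.iC k (L :: List.replicate (s + 1) H) (Coh.structureModule X) = 0 := by
    have h := key (A := Matrix.vecCons L (fun _ : Fin (s + 1) => H))
      (B := Matrix.vecCons L' (fun _ : Fin (s + 1) => H')) (Fin.cases hL fun _ => hH.1)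
      (Fin.cases hL' fun _ => hH') (Fin.cases ⟨eL⟩ fun _ => ⟨eH⟩)
    rw [horth, List.ofFn_succ] at h
    simpa [List.ofFn_const, List.replicate_succ] using h
  have h2 : 0 ≤ Groth.Agent.NefPos.iC k (L :: L :: List.replicate s H) (Coh.structureModule X) := by
    have h := key (A := Matrix.vecCons L (Matrix.vecCons L (fun _ : Fin s => H)))
      (B := Matrix.vecCons L' (Matrix.vecCons L' (fun _ : Fin s => H'))) (Fin.cases hL (Fin.cases hL fun _ => hH.1))
      (Fin.cases hL' (Fin.cases hL' fun _ => hH')) (Fin.cases ⟨eL⟩ (Fin.cases ⟨eL⟩ fun _ => ⟨eH⟩))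
    rw [List.ofFn_succ, List.ofFn_succ] at h
    simp only [Matrix.cons_val_zero, Matrix.cons_val_succ, List.ofFn_const] at h
    omega
  exact Groth.Agent.NumTriv.Section.isNumEquivZero_of_num1
    (Groth.Agent.NumTriv.IndexThm.num1_of_irreducible k hH hL hdim h1 h2)

end Groth.Agent.S4290
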