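import Groth.Statements.S4291
import Groth.Agent.NumTriv.PullPreimage
-- import your own Groth.Agent.* helpers here

set_option autoImplicit false
universe u
open CategoryTheory CategoryTheory.Limits AlgebraicGeometry
open Pic13

namespace Groth.Agent.S4291

/-- Let k be an algebraically closed field, f : X ⟶ Y a surjective k-morphism of proper k-schemes, and P
a bounded family of O_X-modules. Then the family of invertible O_Y-modules M whose pullback f^*M is
isomorphic to a member of P is bounded. -/
theorem result (k : Type u) [Field k] [IsAlgClosed k] (X Y : Scheme.{u})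
    [X.Over (Spec (CommRingCat.of k))] [Y.Over (Spec (CommRingCat.of k))]
    [IsProper (X ↘ Spec (CommRingCat.of k))] [IsProper (Y ↘ Spec (CommRingCat.of k))]
    (f : X ⟶ Y) (hf : f ≫ (Y ↘ Spec (CommRingCat.of k)) = X ↘ Spec (CommRingCat.of k)) [Surjective f]
    (P : X.Modules → Prop) (hP : Pic13.IsBounded k X P) :
    Pic13.IsBounded k Y (fun M : Y.Modules => PicF.IsInvertible M ∧ ∃ L : X.Modules, P L ∧ Nonempty ((Scheme.Modules.pullback f).obj M ≅ L)) := by
  exact Groth.Agent.NumTriv.PullPreimage.isBounded_preimage (k := k) f
    (fun N hN h => Groth.Agent.NumTriv.Descend.num1_of_surjective f hf hN h) hP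

end Groth.Agent.S4291
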