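import Groth.Statements.S4293
import Groth.Agent.NumTriv.Section
-- import your own Groth.Agent.* helpers here

set_option autoImplicit false
universe u
open CategoryTheory CategoryTheory.Limits AlgebraicGeometry
open Pic13

namespace Groth.Agent.S4293

/-- First assertion: over S = Spec k with k algebraically closed: let Y be a proper k-scheme with an
ample invertible module H, φ a global section of H, and i : X ⟶ Y the inclusion of the zero scheme
of φ. Assume that for every irreducible component Z of Y, every irreducible component of Z ∩ X has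
dimension ≥ 2. Then for every bounded family P of O_X-modules, the family of invertible O_Y-modules
whose restriction to X is isomorphic to a member of P is bounded. -/
theorem result (k : Type u) [Field k] [IsAlgClosed k] (Y : Scheme.{u}) [Y.Over (Spec (CommRingCat.of k))]
    [IsProper (Y ↘ Spec (CommRingCat.of k))] (H : Y.Modules) (hH : CohB1.IsAmple H) (φ : Coh.structureModule Y ⟶ H)
    (hdim : ∀ Z ∈ irreducibleComponents (Y : Type u),
      ∀ W ∈ irreducibleComponents ↥(Z ∩ Set.range (PicF2.zeroScheme H φ).subschemeι.base), 2 ≤ topologicalKrullDim ↥W)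
    (P : ((PicF2.zeroScheme H φ).subscheme).Modules → Prop)
    (hP : @Pic13.IsBounded k _ (PicF2.zeroScheme H φ).subscheme ⟨(PicF2.zeroScheme H φ).subschemeι ≫ (Y ↘ Spec (CommRingCat.of k))⟩ P) :
    Pic13.IsBounded k Y (fun M : Y.Modules => PicF.IsInvertible M ∧
      ∃ L, P L ∧ Nonempty ((Scheme.Modules.pullback (PicF2.zeroScheme H φ).subschemeι).obj M ≅ L)) := by
  letI : (PicF2.zeroScheme H φ).subscheme.Over (Spec (CommRingCat.of k)) :=
    ⟨(PicF2.zeroScheme H φ).subschemeι ≫ (Y ↘ Spec (CommRingCat.of k))⟩
  haveI : IsProper ((PicF2.zeroScheme H φ).subscheme ↘ Spec (CommRingCat.of k)) :=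
    inferInstanceAs (IsProper ((PicF2.zeroScheme H φ).subschemeι ≫ (Y ↘ Spec (CommRingCat.of k))))
  exact Groth.Agent.NumTriv.PullPreimage.isBounded_preimage (k := k)
    (PicF2.zeroScheme H φ).subschemeι
    (fun N hN h => Groth.Agent.NumTriv.Section.num1_of_zeroScheme hH φ hdim hN h) hP

end Groth.Agent.S4293
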