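import Groth.Statements.S4296
import Groth.Agent.DHA.PCohAPI

set_option autoImplicit false
universe w v u
open CategoryTheory CategoryTheory.Limits
open PCoh

namespace Groth.Agent.S4296

open Groth.Agent.DHA PCohQis PCohFT PCohCore PCohStability PCohLimit PCohAPI

/-- Punctual site: fullness of K⁻(C₀)/(acyclic complexes) ⟶ D(C): let C be an abelian category and C₀ a
strictly full additive subcategory, quasi-stable under kernels of epimorphisms and quasi-liftable.
For bounded above complexes E, E' with terms in C₀ and any morphism α : E ⟶ E' in D(C), there are a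
bounded above complex E'' with terms in C₀, a quasi-isomorphism s : E'' ⟶ E and a chain map f : E''
⟶ E' with s ≫ α = f in D(C). -/
theorem result {C : Type u} [Category.{v} C] [Abelian C] [HasDerivedCategory.{w} C]
    (P : ObjectProperty C) [P.IsClosedUnderIsomorphisms] [P.ContainsZero] (hsum : ∀ X Y : C, P X → P Y → P (X ⨯ Y))
    (hqs : PCoh.IsQuasiStableUnderKernels P) (hql : PCoh.IsQuasiLiftable P)
    (E E' : CochainComplex C ℤ) (hE : PCoh.IsStrictPCAll P E) (hE' : PCoh.IsStrictPCAll P E')
    (α : DerivedCategory.Q.obj E ⟶ DerivedCategory.Q.obj E') :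
    ∃ (E'' : CochainComplex C ℤ) (s : E'' ⟶ E) (f : E'' ⟶ E'), PCoh.IsStrictPCAll P E'' ∧ QuasiIso s ∧
      DerivedCategory.Q.map s ≫ α = DerivedCategory.Q.map f := by
  obtain ⟨Z, s, hs, f, rfl⟩ := DerivedCategory.right_fac α
  have : QuasiIso s := (DerivedCategory.isIso_Q_map_iff_quasiIso (C := C) s).1 hs
  obtain ⟨b, hb⟩ := hE.1
  have hzero : ∀ i, b + 1 ≤ i → IsZero (Z.homology i) := fun i hi =>
    (isZero_homology_of_isZero_X E i (hb i (by omega))).of_iso
      (asIso (HomologicalComplex.homologyMap s i))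
  obtain ⟨G, g, hG, -, hg⟩ := exists_all_resolution hsum hql (topFT_of_quasiStable hqs) (X := Z)
    (fun k => ⟨E, isStrictPC_of_all hE k, ⟨(asIso (DerivedCategory.Q.map s)).symm⟩⟩) (b + 1) hzero
  exact ⟨G, g ≫ s, g ≫ f, hG, inferInstance, by simp⟩

end Groth.Agent.S4296
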