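import Groth.Statements.S4297
import Groth.Agent.DHA.PCohAPI

set_option autoImplicit false
universe w v u
open CategoryTheory CategoryTheory.Limits
open PCoh

namespace Groth.Agent.S4297

open Groth.Agent.DHA PCohQis PCohFT PCohCore PCohStability PCohLimit PCohAPI

/-- Punctual site: faithfulness of K⁻(C₀)/(acyclic complexes) ⟶ D(C): let C be an abelian category and
C₀ a strictly full additive subcategory, quasi-stable under kernels of epimorphisms and
quasi-liftable. If two chain maps f, g : E ⟶ E' between bounded above complexes with terms in C₀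
have the same image in D(C), then there are a bounded above complex E'' with terms in C₀ and a
quasi-isomorphism s : E'' ⟶ E such that s ≫ f and s ≫ g are homotopic. -/
theorem result {C : Type u} [Category.{v} C] [Abelian C] [HasDerivedCategory.{w} C]
    (P : ObjectProperty C) [P.IsClosedUnderIsomorphisms] [P.ContainsZero] (hsum : ∀ X Y : C, P X → P Y → P (X ⨯ Y))
    (hqs : PCoh.IsQuasiStableUnderKernels P) (hql : PCoh.IsQuasiLiftable P)
    (E E' : CochainComplex C ℤ) (hE : PCoh.IsStrictPCAll P E) (hE' : PCoh.IsStrictPCAll P E')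
    (f g : E ⟶ E') (hfg : DerivedCategory.Q.map f = DerivedCategory.Q.map g) :
    ∃ (E'' : CochainComplex C ℤ) (s : E'' ⟶ E), PCoh.IsStrictPCAll P E'' ∧ QuasiIso s ∧ Nonempty (Homotopy (s ≫ f) (s ≫ g)) := by
  have hq : DerivedCategory.Qh.map ((HomotopyCategory.quotient C (ComplexShape.up ℤ)).map f) =
      DerivedCategory.Qh.map ((HomotopyCategory.quotient C (ComplexShape.up ℤ)).map g) := hfg
  obtain ⟨Z, s, hs, hsfg⟩ := (MorphismProperty.map_eq_iff_precomp DerivedCategory.Qh
    (HomotopyCategory.quasiIso C (ComplexShape.up ℤ)) _ _).1 hq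
  obtain ⟨Z, rfl⟩ := HomotopyCategory.quotient_obj_surjective Z
  obtain ⟨s, rfl⟩ := (HomotopyCategory.quotient _ _).map_surjective s
  rw [HomotopyCategory.quotient_map_mem_quasiIso_iff] at hs
  have : QuasiIso s := hs
  have : IsIso (DerivedCategory.Q.map s) :=
    (DerivedCategory.isIso_Q_map_iff_quasiIso (C := C) s).2 this
  obtain ⟨b, hb⟩ := hE.1
  have hzero : ∀ i, b + 1 ≤ i → IsZero (Z.homology i) := fun i hi =>
    (isZero_homology_of_isZero_X E i (hb i (by omega))).of_iso
      (asIso (HomologicalComplex.homologyMap s i))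
  obtain ⟨G, t, hG, -, ht⟩ := exists_all_resolution hsum hql (topFT_of_quasiStable hqs) (X := Z)
    (fun k => ⟨E, isStrictPC_of_all hE k, ⟨(asIso (DerivedCategory.Q.map s)).symm⟩⟩) (b + 1) hzero
  refine ⟨G, t ≫ s, hG, inferInstance, ⟨HomotopyCategory.homotopyOfEq _ _ ?_⟩⟩
  simp only [Functor.map_comp, Category.assoc]
  exact congrArg _ hsfg

end Groth.Agent.S4297
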