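import Groth.Statements.S4302
import Groth.Agent.ProjAmp.Basic
import Groth.Agent.KFlat.FlatProperPC
import Groth.Agent.ProjProper.Basic
import Groth.Agent.CohOps.PnSmooth
import Groth.Agent.S4275
import Groth.Agent.S0913

set_option autoImplicit false
universe u
open CategoryTheory CategoryTheory.Limits AlgebraicGeometry
attribute [local instance] HasDerivedCategory.standard
open KSix

namespace Groth.Agent.S4302

/-- Over an affine base Y, through the embedding criterion for perfect amplitude: let i : X ⟶ P^r_Y be a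
closed immersion with Y affine, f : X ⟶ Y the composite with the projection, and E a bounded object
of D(O_X) such that Ri_*E has perfect amplitude in [a, b] on P^r_Y. Assuming the derived functors
exist, Rf_*E has perfect amplitude in [a, b + r] on Y (r bounds the cohomological dimension of f on
quasi-coherent modules). -/
theorem result {X Y : Scheme.{u}} [IsAffine Y] (r : ℕ)
    (i : X ⟶ CohB1.ProjSpaceOver r Y) [IsClosedImmersion i]
    [DCoh.HasRpush i] [DCoh.HasRpush (i ≫ CohB1.ProjSpaceOver.toBase r Y)]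
    (E : DCoh.D X) (a₀ b₀ : ℤ) [E.IsGE a₀] [E.IsLE b₀] (a b : ℤ)
    (hE : KSix.HasPerfectAmplitudeIn a b ((DCoh.Rpush i).obj E)) :
    KSix.HasPerfectAmplitudeIn a (b + r) ((DCoh.Rpush (i ≫ CohB1.ProjSpaceOver.toBase r Y)).obj E) := by
  let f := CohB1.ProjSpaceOver.toBase r Y
  haveI : IsProper f := Groth.Agent.ProjProper.Basic.isProper_toBase r Y
  haveI : Smooth f := Groth.Agent.CohOps.PnSmooth.smooth_toBase r Y
  haveI : DCoh.HasRpush f := Groth.Agent.KFlat.RPush.hasRpush _
  let K := (DCoh.Rpush i).obj E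
  let eR : (DCoh.Rpush f).obj K ≅ (DCoh.Rpush (i ≫ f)).obj E :=
    (Groth.Agent.KFlat.RPush.rpushCompIso i f).app E
  rcases le_or_gt a b with hab | hab
  · obtain ⟨hpc1, E', hv, hfl, ⟨e'⟩⟩ := (Groth.Agent.S4275.result _ K a b hab).1 hE
    have hperf : DCoh.IsPerfect K := Groth.Agent.S0913.result K a b hab ⟨E', hv, hfl, ⟨e'⟩⟩ hpc1
    have hpc : ∀ n, DCoh.IsPseudoCoherentD n (DCoh.toD _ E') := fun n =>
      Groth.Agent.PCohD.pc_of_iso e'.symm (Groth.Agent.PCohD.pc_of_perfect hperf n)
    have hq : DCoh.IsQCohD (DCoh.toD _ E') := Groth.Agent.KFlat.FlatProper.isQCohD_of_pc hpc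
    have h := Groth.Agent.ProjAmp.torAmp_Rpush_of_bound f (fun A : Y.affineOpens => A.1) r
      (fun U x hx => by
        obtain ⟨A, hA, hxA, hAU⟩ := exists_isAffineOpen_mem_and_subset hx
        exact ⟨⟨A, hA⟩, hxA, hAU⟩)
      (Groth.Agent.ProjAmp.van_toBase Y r) E' hq a b fun M P hP q hqi j hj =>
        Groth.Agent.KFlat.RelTor.isZero_homology_pull_tensor f E' P hP M q a b
          (Groth.Agent.ProjAmp.hasTorAmplitude_of_flat f E' a b hv hfl) j hj
    rw [max_eq_right (by omega : a ≤ b + (r : ℤ))] at h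
    have hflat := (Groth.Agent.S0912.result _ a (b + r) (by omega)
      (fun G => Groth.Agent.KFlat.LTensorMod.hasLTensorMod G)).1 h
    obtain ⟨E'', h1, h2, ⟨e''⟩⟩ := hflat
    exact (Groth.Agent.S4275.result _ _ a (b + r) (by omega)).2
      ⟨Groth.Agent.PCohD.pc_of_iso ((DCoh.Rpush f).mapIso e' ≪≫ eR)
        (Groth.Agent.KFlat.FlatProper.pc_Rpush f _ hpc (a - 1)),
        E'', h1, h2, ⟨e'' ≪≫ (DCoh.Rpush f).mapIso e' ≪≫ eR⟩⟩
  · have hmono : ∀ c d : ℤ, KSix.HasPerfectAmplitudeIn c d K := fun c d x => by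
      obtain ⟨V, hx, hV⟩ := hE x
      refine ⟨V, hx, fun F hF => ?_⟩
      obtain ⟨E', hv, hlf, he⟩ := hV F hF
      exact ⟨E', fun j _ => hv j (by omega), hlf, he⟩
    have hz : IsZero K := Groth.Agent.CohDerLib.QC.isZero_of_homology _ fun j => by
      obtain ⟨-, E', hv, -, ⟨e'⟩⟩ := (Groth.Agent.S4275.result _ K (j + 1) (j + 1) le_rfl).1 (hmono _ _)
      exact (((HomologicalComplex.exactAt_iff_isZero_homology E' j).1 (HomologicalComplex.ExactAt.of_isZero (K := E') (i := j)
        (hv j (Or.inl (by omega))))).of_iso ((DerivedCategory.homologyFunctorFactors _ j).app E')).of_iso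
          ((DerivedCategory.homologyFunctor _ j).mapIso e'.symm)
    have hz' : IsZero ((DCoh.Rpush (i ≫ f)).obj E) := ((DCoh.Rpush f).map_isZero hz).of_iso eR.symm
    intro x
    let U : Y.Opens := ⊤
    let P := HomologicalComplex.zero (V := (U : Scheme.{u}).Modules) (c := ComplexShape.up ℤ)
    have hP : IsZero P := HomologicalComplex.isZero_zero
    refine ⟨U, trivial, fun F ⟨eF⟩ => ⟨P, fun j _ => ?_, fun j => ?_, ⟨?_⟩⟩⟩
    · exact (HomologicalComplex.eval _ _ j).map_isZero hP
    · intro y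
      haveI : (Scheme.Modules.restrictFunctor (⊤ : (U : Scheme.{u}).Opens).ι).IsLeftAdjoint :=
        (Scheme.Modules.restrictAdjunction _).isLeftAdjoint
      have h0 : IsZero (FlatMod.freeMod ((⊤ : (U : Scheme.{u}).Opens) : Scheme.{u}) 0) :=
        (IsZero.iff_id_eq_zero _).2 (Sigma.hom_ext _ _ fun k => k.elim0)
      exact ⟨⊤, 0, trivial, ⟨((Scheme.Modules.restrictFunctor _).map_isZero
        ((HomologicalComplex.eval _ _ j).map_isZero hP)).iso h0⟩⟩
    · refine IsZero.iso ?_ (DerivedCategory.Q.map_isZero hP)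
      exact ((DCoh.restrictD U.ι).map_isZero (hz'.of_iso eF)).of_iso
        ((Scheme.Modules.restrictFunctor U.ι).mapDerivedCategoryFactors.app F).symm

end Groth.Agent.S4302
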