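import Groth.Statements.S4303
import Groth.Agent.EulerFam.IntBound
import Groth.Agent.PicLaw.Swap

set_option autoImplicit false
universe u
open CategoryTheory CategoryTheory.Limits AlgebraicGeometry
open Pic13

namespace Groth.Agent.S4303

/-- (i) implies (iii), over S = Spec k with k algebraically closed: let X be a proper integral k-scheme
of dimension r = s + 2 ≥ 2 carrying an ample invertible module H with inverse H', and P a family of
invertible O_X-modules. Condition (iii): as L runs through P (with inverse L'), the degree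
(c₁(L)·c₁(H)^{r-1}) stays bounded and (c₁(L)²·c₁(H)^{r-2}) stays bounded below; condition (i): P is
bounded. Intersection numbers are those of FGA.intNum, taking the inverse modules as arguments. -/
theorem result (k : Type u) [Field k] [IsAlgClosed k] (X : Scheme.{u})
    [X.Over (Spec (CommRingCat.of k))] [IsProper (X ↘ Spec (CommRingCat.of k))] [IsIntegral X] (s : ℕ)
    (hdim : topologicalKrullDim X = (s + 2 : ℕ)) (H H' : X.Modules) (hH : CohB1.IsAmple H)
    (hHH' : Nonempty (CohB1.tensorMod H H' ≅ Coh.structureModule X))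
    (P : X.Modules → Prop) (hP : ∀ L, P L → PicF.IsInvertible L)
    (hb : Pic13.IsBounded k X P) :
    ∃ B : ℤ, ∀ L L' : X.Modules, P L → Nonempty (CohB1.tensorMod L L' ≅ Coh.structureModule X) →
      |FGA.intNum k X (s + 2) (Matrix.vecCons L' (fun _ : Fin (s + 1) => H')) (Coh.structureModule X)| ≤ B ∧
      -B ≤ FGA.intNum k X (s + 2) (Matrix.vecCons L' (Matrix.vecCons L' (fun _ : Fin s => H'))) (Coh.structureModule X) := by
  obtain ⟨eH⟩ := hHH'
  obtain ⟨T, q, hft, hqc, F, hF, hfib⟩ := hb
  haveI := hft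
  haveI := hqc
  haveI := Groth.Agent.EulerChar.isNoetherian k (X := X)
  have hO := Groth.Agent.LFFrame.isInvertible_structureModule X
  have hOc := Groth.Agent.ProperFin.isCoh_structureModule X
  have hH' : PicF.IsInvertible H' := Groth.Agent.PicLaw.isInvertible_of_tensor_left hH.1
    (Groth.Agent.PicCl.isInvertible_of_iso eH.symm hO)
  have hC1 : ∀ i : Fin (s + 1), PicF.IsInvertible ((fun _ => H') i) := fun _ => hH'
  have hC0 : ∀ i : Fin s, PicF.IsInvertible ((fun _ => H') i) := fun _ => hH'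
  obtain ⟨B1, hB1⟩ := Groth.Agent.EulerFam.exists_bound_intE q hF hC1
  obtain ⟨B2, hB2⟩ := Groth.Agent.EulerFam.exists_bound_intE q hF hC0
  obtain ⟨B3, hB3⟩ := Groth.Agent.EulerFam.exists_bound_intE q
    (Groth.Agent.EulerFam.isCoh_tensor_coh hF hF) hC0
  let c1 := Groth.Agent.Snapper.intE k (fun _ : Fin (s + 1) => H') (Coh.structureModule X)
  let c0 := Groth.Agent.Snapper.intE k (fun _ : Fin s => H') (Coh.structureModule X)
  refine ⟨|B1| + |c1| + (|B3| + 2 * |B2| + |c0|), fun L L' hPL ⟨eL⟩ => ?_⟩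
  have hL := hP L hPL
  have hL' : PicF.IsInvertible L' := Groth.Agent.PicLaw.isInvertible_of_tensor_left hL
    (Groth.Agent.PicCl.isInvertible_of_iso eL.symm hO)
  obtain ⟨t, ht, ⟨e⟩⟩ := hfib L hPL
  have hd : topologicalKrullDim X ≤ (s + 2 : ℕ) := hdim.le
  have hdO := Groth.Agent.EulerChar.dim_support_le hd (G := Coh.structureModule X)
  have b1 : |Groth.Agent.Snapper.intE k (fun _ : Fin (s + 1) => H') L| ≤ |B1| := by
    rw [← Groth.Agent.EulerFam.intE_congr _ e]
    exact (hB1 t ht).trans (le_abs_self B1)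
  have b2 : |Groth.Agent.Snapper.intE k (fun _ : Fin s => H') L| ≤ |B2| := by
    rw [← Groth.Agent.EulerFam.intE_congr _ e]
    exact (hB2 t ht).trans (le_abs_self B2)
  have b3 : |Groth.Agent.Snapper.intE k (fun _ : Fin s => H') (CohB1.tensorMod L L)| ≤ |B3| := by
    have ee : Pic13.fibreMod k X q t ht (CohB1.tensorMod F F) ≅ CohB1.tensorMod L L :=
      Groth.Agent.KFlat.PullTensor.pullTensorIso _ F F ≪≫ Groth.Agent.ProjTwist.tensCongr e e
    rw [← Groth.Agent.EulerFam.intE_congr _ ee]
    exact (hB3 t ht).trans (le_abs_self B3)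
  have hLO : Coh.IsCoh (CohB1.tensorMod L (Coh.structureModule X)) :=
    Groth.Agent.Snapper.isCoh_tensorMod k hL hOc
  have hM1 : ∀ i, PicF.IsInvertible ((Fin.cons L' (fun _ : Fin s => H') : Fin (s + 1) → X.Modules) i) :=
    Fin.cases hL' hC0
  have hM : ∀ i, PicF.IsInvertible
      ((Fin.cons L' (fun _ : Fin (s + 1) => H') : Fin (s + 2) → X.Modules) i) := Fin.cases hL' hC1
  have hM2 : ∀ i, PicF.IsInvertible ((Fin.cons L' (Fin.cons L' (fun _ : Fin s => H')) :
      Fin (s + 2) → X.Modules) i) := Fin.cases hL' hM1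
  have v1 : FGA.intNum k X (s + 2) (Matrix.vecCons L' (fun _ : Fin (s + 1) => H')) (Coh.structureModule X) =
      Groth.Agent.Snapper.intE k (fun _ : Fin (s + 1) => H') L - c1 := by
    rw [Groth.Agent.Snapper.intNum_eq k hd]
    refine ((Groth.Agent.EulerFam.intE_twist_top (k := k) hM hL hOc hdO).symm.trans
      (Groth.Agent.EulerFam.intE_cons_shift (k := k) hC1 hL hL' eL hOc)).trans ?_
    rw [Groth.Agent.EulerFam.intE_congr _ (Groth.Agent.ProjTwist.tensOne L)]
  have v2 : FGA.intNum k X (s + 2) (Matrix.vecCons L' (Matrix.vecCons L' (fun _ : Fin s => H')))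
      (Coh.structureModule X) =
      Groth.Agent.Snapper.intE k (fun _ : Fin s => H') (CohB1.tensorMod L L) -
        2 * Groth.Agent.Snapper.intE k (fun _ : Fin s => H') L + c0 := by
    rw [Groth.Agent.Snapper.intNum_eq k hd]
    have s1 := Groth.Agent.EulerFam.intE_twist_top (k := k) hM2 hL hOc hdO
    have hdLO : topologicalKrullDim ↥(CohB1.support (CohB1.tensorMod L (Coh.structureModule X))) ≤
        ((s + 2 : ℕ) : WithBot ℕ∞) := Groth.Agent.EulerChar.dim_support_le hd
    have s2 := Groth.Agent.EulerFam.intE_twist_top (k := k) hM2 hL hLO hdLO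
    refine ((s2.trans s1).symm.trans
      (Groth.Agent.EulerFam.intE_cons_shift (k := k) hM1 hL hL' eL hLO)).trans ?_
    rw [Groth.Agent.EulerFam.intE_cons_shift (k := k) hC0 hL hL' eL hLO,
      Groth.Agent.EulerFam.intE_cons_shift (k := k) hC0 hL hL' eL hOc,
      Groth.Agent.EulerFam.intE_congr _ (Groth.Agent.ProjTwist.tensCongr (Iso.refl L)
        (Groth.Agent.ProjTwist.tensOne L)),
      Groth.Agent.EulerFam.intE_congr _ (Groth.Agent.ProjTwist.tensOne L)]
    ring
  have hc0 := abs_le.1 (le_refl |c0|)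
  have hc1 := abs_le.1 (le_refl |c1|)
  have h1 := abs_le.1 b1
  have h2 := abs_le.1 b2
  have h3 := abs_le.1 b3
  have p1 := abs_nonneg B1
  have p2 := abs_nonneg B2
  have p3 := abs_nonneg B3
  have p4 := abs_nonneg c0
  have p5 := abs_nonneg c1
  rw [v1, v2, abs_le]
  refine ⟨⟨?_, ?_⟩, ?_⟩ <;> linarith

end Groth.Agent.S4303
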