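import Groth.Statements.S4304
import Groth.Agent.NumTriv.FinCl
import Groth.Agent.IntProd70.Nakai

set_option autoImplicit false
universe u
open CategoryTheory CategoryTheory.Limits AlgebraicGeometry
open Pic13

namespace Groth.Agent.S4304

/-- (iii) implies (i), over S = Spec k with k algebraically closed: let X be a proper integral k-scheme
of dimension r = s + 2 ≥ 2 carrying an ample invertible module H with inverse H', and P a family of
invertible O_X-modules. Condition (iii): as L runs through P (with inverse L'), the degree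
(c₁(L)·c₁(H)^{r-1}) stays bounded and (c₁(L)²·c₁(H)^{r-2}) stays bounded below; condition (i): P is
bounded. Intersection numbers are those of FGA.intNum, taking the inverse modules as arguments. -/
theorem result (k : Type u) [Field k] [IsAlgClosed k] (X : Scheme.{u})
    [X.Over (Spec (CommRingCat.of k))] [IsProper (X ↘ Spec (CommRingCat.of k))] [IsIntegral X] (s : ℕ)
    (hdim : topologicalKrullDim X = (s + 2 : ℕ)) (H H' : X.Modules) (hH : CohB1.IsAmple H)
    (hHH' : Nonempty (CohB1.tensorMod H H' ≅ Coh.structureModule X))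
    (P : X.Modules → Prop) (hP : ∀ L, P L → PicF.IsInvertible L)
    (hiii : ∃ B : ℤ, ∀ L L' : X.Modules, P L → Nonempty (CohB1.tensorMod L L' ≅ Coh.structureModule X) →
      |FGA.intNum k X (s + 2) (Matrix.vecCons L' (fun _ : Fin (s + 1) => H')) (Coh.structureModule X)| ≤ B ∧
      -B ≤ FGA.intNum k X (s + 2) (Matrix.vecCons L' (Matrix.vecCons L' (fun _ : Fin s => H'))) (Coh.structureModule X)) :
    Pic13.IsBounded k X P := by
  classical
  obtain ⟨B, hB⟩ := hiii
  obtain ⟨eH⟩ := hHH'
  have hH' : PicF.IsInvertible H' := Groth.Agent.PicLaw.isInvertible_of_tensor_left hH.1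
    (Groth.Agent.PicCl.isInvertible_of_iso eH.symm (Groth.Agent.LFFrame.isInvertible_structureModule X))
  haveI := Groth.Agent.EulerChar.isNoetherian k (X := X)
  have hO := Groth.Agent.ProperFin.isCoh_structureModule X
  have hdO : topologicalKrullDim ↥(CohB1.support (Coh.structureModule X)) ≤ ((s + 2 : ℕ) : WithBot ℕ∞) :=
    Groth.Agent.EulerChar.dim_support_le hdim.le
  let O := Coh.structureModule X
  let iC := fun l : List X.Modules => Groth.Agent.NefPos.iC k l O
  let d : X.Modules → ℤ := fun L => iC (L :: List.replicate (s + 1) H)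
  let sq : X.Modules → ℤ := fun L => iC (L :: L :: List.replicate s H)
  have key : ∀ {A C : Fin (s + 2) → X.Modules}, (∀ i, PicF.IsInvertible (A i)) → (∀ i, PicF.IsInvertible (C i)) →
      (∀ i, Nonempty (CohB1.tensorMod (A i) (C i) ≅ Coh.structureModule X)) →
      iC (List.ofFn A) = FGA.intNum k X (s + 2) C (Coh.structureModule X) := by
    intro A C hA hC e
    show Groth.Agent.NefPos.iC k (List.ofFn A) (Coh.structureModule X) = _
    rw [← Groth.Agent.NefPos.iC_ofFn k hA hO, Groth.Agent.IntProd70.intC,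
      Groth.Agent.IntProd70.intE_inverse k hA hC e hO hdO, ← mul_assoc, ← pow_add, ← two_mul, pow_mul,
      Groth.Agent.Snapper.intNum_eq k hdim.le]
    simp
  have hbound : ∀ L, P L → |d L| ≤ B ∧ -B ≤ sq L := fun L hPL => by
    obtain ⟨L', hL', ⟨eL⟩⟩ := Groth.Agent.PicLaw.exists_inverse (hP L hPL)
    have hL := hP L hPL
    obtain ⟨b1, b2⟩ := hB L L' hPL ⟨eL⟩
    have e1 := key (A := Matrix.vecCons L (fun _ : Fin (s + 1) => H))
      (C := Matrix.vecCons L' (fun _ : Fin (s + 1) => H')) (Fin.cases hL fun _ => hH.1)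
      (Fin.cases hL' fun _ => hH') (Fin.cases ⟨eL⟩ fun _ => ⟨eH⟩)
    have e2 := key (A := Matrix.vecCons L (Matrix.vecCons L (fun _ : Fin s => H)))
      (C := Matrix.vecCons L' (Matrix.vecCons L' (fun _ : Fin s => H')))
      (Fin.cases hL (Fin.cases hL fun _ => hH.1)) (Fin.cases hL' (Fin.cases hL' fun _ => hH'))
      (Fin.cases ⟨eL⟩ (Fin.cases ⟨eL⟩ fun _ => ⟨eH⟩))
    rw [List.ofFn_succ] at e1
    rw [List.ofFn_succ, List.ofFn_succ] at e2
    simp only [Matrix.cons_val_zero, Matrix.cons_val_succ, List.ofFn_const] at e1 e2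
    exact ⟨by rw [show d L = _ from e1]; exact b1, by rw [show sq L = _ from e2]; exact b2⟩
  have hrep : ∀ j, ∀ C ∈ List.replicate j H, PicF.IsInvertible C := fun j C hC =>
    (List.eq_of_mem_replicate hC) ▸ hH.1
  let e := iC (List.replicate (s + 2) H)
  have hepos : 0 < e := by
    have h := Groth.Agent.NefPos.pos_ample k hH H hdim (Groth.Agent.NefPos.dim_support_structure hdim)
    simpa [e, iC, O, Groth.Agent.NefPos.Dfun, Groth.Agent.NefPos.word] using h
  have hdl : ∀ l : List X.Modules, l.length = s + 1 →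
      topologicalKrullDim ↥(CohB1.support O) ≤ ((l.length + 1 : ℕ) : WithBot ℕ∞) := fun l hl => by
    rw [hl]; exact hdO
  have hpow : ∀ (A : X.Modules), PicF.IsInvertible A → ∀ (j : ℕ) (l : List X.Modules),
      (∀ C ∈ l, PicF.IsInvertible C) → l.length = s + 1 →
      iC (CohB1.tensorPow A j :: l) = j * iC (A :: l) := fun A hA j l hl hlen =>
    Groth.Agent.NefPos.iC_pow k (l := l) hl hA hO (hdl l hlen) j
  have hneg : ∀ l : List X.Modules, (∀ C ∈ l, PicF.IsInvertible C) → l.length = s + 1 →
      iC (H' :: l) = - iC (H :: l) := fun l hl hlen => by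
    have h := Groth.Agent.NefPos.iC_mul k (l := l) hl hH.1 hH' hO (hdl l hlen)
    rw [Groth.Agent.NefPos.iC_congr k eH l, Groth.Agent.NefPos.iC_cons,
      Groth.Agent.NefPos.iC_iso k l (Groth.Agent.ProjTwist.oneTens (Coh.structureModule X)), sub_self] at h
    show Groth.Agent.NefPos.iC k _ (Coh.structureModule X) = - Groth.Agent.NefPos.iC k _ (Coh.structureModule X)
    omega
  let G : ℤ → X.Modules := fun z =>
    if 0 ≤ z then CohB1.tensorPow H' z.toNat else CohB1.tensorPow H (-z).toNat
  have hGi : ∀ z, PicF.IsInvertible (G z) := fun z => by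
    simp only [G]; split_ifs
    · exact Groth.Agent.AmpleLib.isInvertible_tensorPow hH' _
    · exact Groth.Agent.AmpleLib.isInvertible_tensorPow hH.1 _
  have hG : ∀ (z : ℤ) (l : List X.Modules), (∀ C ∈ l, PicF.IsInvertible C) → l.length = s + 1 →
      iC (G z :: l) = - z * iC (H :: l) := fun z l hl hlen => by
    simp only [G]; split_ifs with h
    · rw [hpow H' hH' _ l hl hlen, hneg l hl hlen, Int.toNat_of_nonneg h]; ring
    · rw [hpow H hH.1 _ l hl hlen, Int.toNat_of_nonneg (by omega)]
  let D : X.Modules → X.Modules := fun L => CohB1.tensorMod (CohB1.tensorPow L e.toNat) (G (d L))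
  have hDi : ∀ L, PicF.IsInvertible L → PicF.IsInvertible (D L) := fun L hL =>
    Groth.Agent.AmpleLib.isInvertible_tensorMod (Groth.Agent.AmpleLib.isInvertible_tensorPow hL _) (hGi _)
  have hD : ∀ L, PicF.IsInvertible L → ∀ l : List X.Modules, (∀ C ∈ l, PicF.IsInvertible C) →
      l.length = s + 1 → iC (D L :: l) = e * iC (L :: l) - d L * iC (H :: l) := fun L hL l hl hlen => by
    have h := Groth.Agent.NefPos.iC_mul k (l := l) hl (Groth.Agent.AmpleLib.isInvertible_tensorPow hL e.toNat)
      (hGi (d L)) hO (hdl l hlen)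
    refine h.trans ?_
    show iC (_ :: l) + iC (_ :: l) = _
    rw [hpow L hL _ l hl hlen, hG _ l hl hlen, Int.toNat_of_nonneg hepos.le]; ring
  obtain ⟨ι, hι, cl, hcl⟩ := Groth.Agent.NumTriv.FinCl.finCl s k X H (e * (e * B + B * B)) hH hdim
  haveI := hι
  have hmem : ∀ L, P L → PicF.IsInvertible (D L) ∧ iC (D L :: List.replicate (s + 1) H) = 0 ∧
      -(e * (e * B + B * B)) ≤ iC (D L :: D L :: List.replicate s H) := fun L hPL => by
    have hL := hP L hPL
    have h1 : iC (D L :: List.replicate (s + 1) H) = 0 := by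
      rw [hD L hL _ (hrep _) (by simp)]
      show e * d L - d L * e = 0
      ring
    refine ⟨hDi L hL, h1, ?_⟩
    obtain ⟨b1, b2⟩ := hbound L hPL
    have sw : ∀ (A C : X.Modules) (l : List X.Modules), iC (A :: C :: l) = iC (C :: A :: l) := fun A C l =>
      Groth.Agent.NefPos.iC_perm k (List.Perm.swap _ _ _) O
    have h2 : iC (D L :: L :: List.replicate s H) = e * sq L - d L * d L := by
      rw [hD L hL _ (List.forall_mem_cons.2 ⟨hL, hrep _⟩) (by simp), sw H L]
      rfl
    have h3 : iC (H :: D L :: List.replicate s H) = 0 := by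
      rw [sw H (D L)]; exact h1
    rw [hD L hL _ (List.forall_mem_cons.2 ⟨hDi L hL, hrep _⟩) (by simp), h3, sw L (D L), h2, mul_zero, sub_zero]
    have hsq : d L * d L ≤ B * B := by
      have := abs_le.1 b1
      nlinarith
    nlinarith [mul_le_mul_of_nonneg_left b2 hepos.le]
  refine Groth.Agent.NumTriv.Translate.isBounded_of_classes
    (fun (a : ↥(Finset.Icc (-B) B) × ι) L => d L = a.1.1 ∧ cl (D L) = a.2) hP
    (fun L hPL => ⟨(⟨d L, Finset.mem_Icc.2 (abs_le.1 (hbound L hPL).1)⟩, cl (D L)), rfl, rfl⟩)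
    fun a L M hL hM ha hb F hF hdF => ?_
  have h := hcl (D L) (D M) (hmem L hL) (hmem M hM) (ha.2.trans hb.2.symm) F hF hdF
  have hpowL := Groth.Agent.AmpleLib.isInvertible_tensorPow (hP L hL) e.toNat
  have hpowM := Groth.Agent.AmpleLib.isInvertible_tensorPow (hP M hM) e.toNat
  simp only [D] at h
  rw [Groth.Agent.NumTriv.deg1_tens k hF hdF hpowL (hGi _),
    Groth.Agent.NumTriv.deg1_tens k hF hdF hpowM (hGi _), Groth.Agent.NumTriv.deg1_pow k hF hdF (hP L hL),
    Groth.Agent.NumTriv.deg1_pow k hF hdF (hP M hM), ha.1.trans hb.1.symm] at h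
  exact mul_left_cancel₀ (by omega : ((e.toNat : ℕ) : ℤ) ≠ 0) (add_right_cancel h)

end Groth.Agent.S4304
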