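import Groth.Statements.S4305
import Groth.Agent.EulerFam.Tau
import Groth.Agent.Snapper.Basic
import Groth.Agent.PicLaw.Swap
import Groth.Agent.ProperFin.Supp

set_option autoImplicit false
universe u
open CategoryTheory CategoryTheory.Limits AlgebraicGeometry
open Pic13

namespace Groth.Agent.S4305

/-- Let k be an algebraically closed field, X an irreducible proper k-scheme of dimension ≤ d carrying
an ample invertible module H with inverse H', and L an invertible module with inverse L'. Condition
(v): χ(L^{⊗ m} ⊗ H^{⊗ n}) = χ(H^{⊗ n}) for all integers m, n — written with natural exponents on L,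
L', H, H' to cover all signs, Euler characteristics in degrees ≤ d; condition (i): L is τ-equivalent
to zero. -/
theorem result (k : Type u) [Field k] [IsAlgClosed k] (X : Scheme.{u})
    [X.Over (Spec (CommRingCat.of k))] [IsProper (X ↘ Spec (CommRingCat.of k))] [IrreducibleSpace X]
    (d : ℕ) (hd : topologicalKrullDim X ≤ d) (H H' L L' : X.Modules) (hH : CohB1.IsAmple H) (hL : PicF.IsInvertible L)
    (hHH' : Nonempty (CohB1.tensorMod H H' ≅ Coh.structureModule X)) (hLL' : Nonempty (CohB1.tensorMod L L' ≅ Coh.structureModule X))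
    (hτ : Pic13.IsTauEquivZero k X L) :
    ∀ m n : ℕ,
      FGA.eulerCharLE k X (CohB1.tensorMod (CohB1.tensorPow L m) (CohB1.tensorPow H n)) d = FGA.eulerCharLE k X (CohB1.tensorPow H n) d ∧
      FGA.eulerCharLE k X (CohB1.tensorMod (CohB1.tensorPow L m) (CohB1.tensorPow H' n)) d = FGA.eulerCharLE k X (CohB1.tensorPow H' n) d ∧
      FGA.eulerCharLE k X (CohB1.tensorMod (CohB1.tensorPow L' m) (CohB1.tensorPow H n)) d = FGA.eulerCharLE k X (CohB1.tensorPow H n) d ∧
      FGA.eulerCharLE k X (CohB1.tensorMod (CohB1.tensorPow L' m) (CohB1.tensorPow H' n)) d = FGA.eulerCharLE k X (CohB1.tensorPow H' n) d := by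
  obtain ⟨eH⟩ := hHH'
  obtain ⟨eL⟩ := hLL'
  have hO := Groth.Agent.LFFrame.isInvertible_structureModule X
  have hHi : PicF.IsInvertible H := hH.1
  have hH'i : PicF.IsInvertible H' := Groth.Agent.PicLaw.isInvertible_of_tensor_left hHi
    (Groth.Agent.PicCl.isInvertible_of_iso eH.symm hO)
  have hL'i : PicF.IsInvertible L' := Groth.Agent.PicLaw.isInvertible_of_tensor_left hL
    (Groth.Agent.PicCl.isInvertible_of_iso eL.symm hO)
  have hcoh : ∀ M : X.Modules, PicF.IsInvertible M → Coh.IsCoh M := fun M hM =>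
    Groth.Agent.CohDev.isCoh_of_iso (Groth.Agent.ProjTwist.tensOne M)
      (Groth.Agent.Snapper.isCoh_tensorMod k hM (Groth.Agent.ProperFin.isCoh_structureModule X))
  have key : ∀ (G : X.Modules), PicF.IsInvertible G → ∀ m : ℕ,
      Curv2.euler k X (CohB1.tensorMod (CohB1.tensorPow L m) G) = Curv2.euler k X G ∧
      Curv2.euler k X (CohB1.tensorMod (CohB1.tensorPow L' m) G) = Curv2.euler k X G := by
    intro G hG m
    refine ⟨(Groth.Agent.EulerChar.euler_iso k (Groth.Agent.ProjTwist.tensComm _ G)).trans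
      (Groth.Agent.EulerFam.euler_pow_tensor_of_isTauEquivZero hL hτ (hcoh G hG) m), ?_⟩
    induction m generalizing G with
    | zero => exact Groth.Agent.EulerChar.euler_iso k (Groth.Agent.ProjTwist.oneTens G)
    | succ m ih =>
      have hG' := Groth.Agent.AmpleLib.isInvertible_tensorMod hL'i hG
      refine ((Groth.Agent.EulerChar.euler_iso k
        (Groth.Agent.ProjTwist.tensAssoc (CohB1.tensorPow L' m) L' G)).trans (ih _ hG')).trans ?_
      rw [← Groth.Agent.EulerFam.euler_tensor_of_isTauEquivZero hL hτ (hcoh _ hG')]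
      exact Groth.Agent.EulerChar.euler_iso k (Groth.Agent.ProjTwist.tensComm _ L ≪≫
        (Groth.Agent.ProjTwist.tensAssoc L L' G).symm ≪≫
        Groth.Agent.ProjTwist.tensCongr eL (Iso.refl G) ≪≫ Groth.Agent.ProjTwist.oneTens G)
  intro m n
  simp only [Groth.Agent.Snapper.eulerCharLE_eq k hd]
  exact ⟨(key _ (Groth.Agent.AmpleLib.isInvertible_tensorPow hHi n) m).1,
    (key _ (Groth.Agent.AmpleLib.isInvertible_tensorPow hH'i n) m).1,
    (key _ (Groth.Agent.AmpleLib.isInvertible_tensorPow hHi n) m).2,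
    (key _ (Groth.Agent.AmpleLib.isInvertible_tensorPow hH'i n) m).2⟩

end Groth.Agent.S4305
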