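import Groth.Statements.S4306
import Groth.Agent.S4290
import Groth.Agent.S4277

set_option autoImplicit false
universe u
open CategoryTheory CategoryTheory.Limits AlgebraicGeometry
open Pic13

namespace Groth.Agent.S4306

/-- Let k be an algebraically closed field, X an irreducible proper k-scheme of dimension ≤ d carrying
an ample invertible module H with inverse H', and L an invertible module with inverse L'. Condition
(v): χ(L^{⊗ m} ⊗ H^{⊗ n}) = χ(H^{⊗ n}) for all integers m, n — written with natural exponents on L,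
L', H, H' to cover all signs, Euler characteristics in degrees ≤ d; condition (i): L is τ-equivalent
to zero. -/
theorem result (k : Type u) [Field k] [IsAlgClosed k] (X : Scheme.{u})
    [X.Over (Spec (CommRingCat.of k))] [IsProper (X ↘ Spec (CommRingCat.of k))] [IrreducibleSpace X]
    (d : ℕ) (hd : topologicalKrullDim X ≤ d) (H H' L L' : X.Modules) (hH : CohB1.IsAmple H) (hL : PicF.IsInvertible L)
    (hHH' : Nonempty (CohB1.tensorMod H H' ≅ Coh.structureModule X)) (hLL' : Nonempty (CohB1.tensorMod L L' ≅ Coh.structureModule X))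
    (hv : ∀ m n : ℕ,
      FGA.eulerCharLE k X (CohB1.tensorMod (CohB1.tensorPow L m) (CohB1.tensorPow H n)) d = FGA.eulerCharLE k X (CohB1.tensorPow H n) d ∧
      FGA.eulerCharLE k X (CohB1.tensorMod (CohB1.tensorPow L m) (CohB1.tensorPow H' n)) d = FGA.eulerCharLE k X (CohB1.tensorPow H' n) d ∧
      FGA.eulerCharLE k X (CohB1.tensorMod (CohB1.tensorPow L' m) (CohB1.tensorPow H n)) d = FGA.eulerCharLE k X (CohB1.tensorPow H n) d ∧
      FGA.eulerCharLE k X (CohB1.tensorMod (CohB1.tensorPow L' m) (CohB1.tensorPow H' n)) d = FGA.eulerCharLE k X (CohB1.tensorPow H' n) d) :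
    Pic13.IsTauEquivZero k X L := by
  refine Groth.Agent.S4277.result k X L hL ?_
  obtain ⟨e, he⟩ : ∃ e : ℕ, topologicalKrullDim X = (e : WithBot ℕ∞) := by
    obtain ⟨e, he⟩ : ∃ e : ℕ∞, topologicalKrullDim X = (e : WithBot ℕ∞) := by
      rcases hX : topologicalKrullDim X with _ | e
      · have h : 0 ≤ topologicalKrullDim X := by
          haveI : Nonempty (TopologicalSpace.IrreducibleCloseds X) :=
            ⟨⟨Set.univ, IrreducibleSpace.isIrreducible_univ X, isClosed_univ⟩⟩
          exact Order.krullDim_nonneg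
        rw [hX] at h
        exact absurd h (WithBot.not_coe_le_bot (0 : ℕ∞))
      · exact ⟨e, rfl⟩
    have hed : e ≤ (d : ℕ∞) := by exact_mod_cast he ▸ hd
    obtain ⟨e', rfl, -⟩ := ENat.le_coe_iff.1 hed
    exact ⟨e', he⟩
  haveI := Groth.Agent.EulerChar.isNoetherian k (X := X)
  have hχ : ∀ a b : ℕ, Curv2.euler k X (CohB1.tensorMod (CohB1.tensorPow L a) (CohB1.tensorPow H b)) =
      Curv2.euler k X (CohB1.tensorPow H b) := fun a b => by
    rw [← Groth.Agent.Snapper.eulerCharLE_eq k hd, ← Groth.Agent.Snapper.eulerCharLE_eq k hd]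
    exact (hv a b).1
  have hiC : ∀ j a b : ℕ, Groth.Agent.NefPos.iC k (List.replicate j H)
      (CohB1.tensorMod (CohB1.tensorPow L a) (CohB1.tensorPow H b)) =
      Groth.Agent.NefPos.iC k (List.replicate j H) (CohB1.tensorPow H b) := by
    intro j
    induction j with
    | zero => exact hχ
    | succ j IH =>
      intro a b
      let P := CohB1.tensorPow L a
      let Q := CohB1.tensorPow H b
      let e₁ : CohB1.tensorMod H (CohB1.tensorMod P Q) ≅ CohB1.tensorMod P (CohB1.tensorMod Q H) :=
        Groth.Agent.ProjTwist.tensComm H (CohB1.tensorMod P Q) ≪≫ Groth.Agent.ProjTwist.tensAssoc P Q H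
      rw [List.replicate_succ, Groth.Agent.NefPos.iC_cons, Groth.Agent.NefPos.iC_cons,
        Groth.Agent.NefPos.iC_iso k _ e₁,
        Groth.Agent.NefPos.iC_iso k _ (Groth.Agent.ProjTwist.tensComm H Q), IH a b]
      exact congrArg (fun z => z - _) (IH a (b + 1))
  have hLO : ∀ j : ℕ, Groth.Agent.NefPos.iC k (List.replicate j H) (CohB1.tensorMod L (Coh.structureModule X)) =
      Groth.Agent.NefPos.iC k (List.replicate j H) (Coh.structureModule X) := fun j => by
    rw [← Groth.Agent.NefPos.iC_iso k _ (Groth.Agent.ProjTwist.tensCongr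
      (Groth.Agent.ProjTwist.oneTens L) (Iso.refl (Coh.structureModule X)))]
    exact hiC j 1 0
  have hLLO : ∀ j : ℕ, Groth.Agent.NefPos.iC k (List.replicate j H)
      (CohB1.tensorMod L (CohB1.tensorMod L (Coh.structureModule X))) =
      Groth.Agent.NefPos.iC k (List.replicate j H) (Coh.structureModule X) := fun j => by
    rw [← Groth.Agent.NefPos.iC_iso k _ ((Groth.Agent.ProjTwist.tensAssoc L L (Coh.structureModule X))),
      ← Groth.Agent.NefPos.iC_iso k _ (Groth.Agent.ProjTwist.tensCongr (Groth.Agent.ProjTwist.tensCongr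
        (Groth.Agent.ProjTwist.oneTens L) (Iso.refl L)) (Iso.refl (Coh.structureModule X)))]
    exact hiC j 2 0
  rcases Nat.lt_or_ge e 2 with he2 | he2
  · obtain ⟨hξd, m, hm0, hm⟩ := Groth.Agent.NumTriv.IndexThm.exists_generic_mult k hH he
    rcases Nat.eq_zero_or_pos e with rfl | hepos
    · intro C ι _ hC hC1
      have h := ι.isEmbedding.isInducing.topologicalKrullDim_le
      rw [hC1, he] at h
      exact absurd h (by simp)
    obtain rfl : e = 1 := by omega
    have h1 : Groth.Agent.NefPos.iC k [L] (Coh.structureModule X) = 0 :=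
      sub_eq_zero.2 (hLO 0)
    rw [hm _ (by simpa using hL) rfl] at h1
    have hN := Groth.Agent.NumTriv.IndexThm.numOn_curve k hL _ hξd
      ((mul_eq_zero.1 h1).resolve_left (by exact_mod_cast hm0.ne'))
    rw [show closure ({genericPoint X} : Set X) = Set.univ from genericPoint_spec X] at hN
    exact Groth.Agent.NumTriv.Section.isNumEquivZero_of_num1
      ⟨hL, fun F hF hF1 => hN.2 F hF (Set.subset_univ _) hF1⟩
  obtain ⟨t, rfl⟩ : ∃ t, e = t + 2 := ⟨e - 2, by omega⟩
  refine Groth.Agent.NumTriv.Section.isNumEquivZero_of_num1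
    (Groth.Agent.NumTriv.IndexThm.num1_of_irreducible k hH hL he ?_ ?_)
  · rw [Groth.Agent.NefPos.iC_cons, hLO, sub_self]
  · rw [Groth.Agent.NefPos.iC_cons, Groth.Agent.NefPos.iC_cons, Groth.Agent.NefPos.iC_cons,
      hLO, hLLO, sub_self]

end Groth.Agent.S4306
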