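import Groth.Statements.S4307
import Groth.Agent.AnPts.Rational
import Mathlib.Analysis.Calculus.Deriv.Inv
import Mathlib.Analysis.Calculus.FDeriv.Pow
-- import your own Groth.Agent.* helpers here

set_option autoImplicit false
open CategoryTheory AlgebraicGeometry Topology TopologicalSpace
open An

namespace Groth.Agent.S4307

/-- A sanity check of the definition of holomorphic functions: for an open set U of complex points of
affine n-space over ℂ and g : U → ℂ, g is holomorphic (satisfies the local predicate An.holPred of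
the prelude) if and only if g = G ∘ (coordinates) for some G : ℂ^n → ℂ complex-differentiable on the
image of U in ℂ^n. -/
theorem result (n : ℕ) (U : TopologicalSpace.Opens (An.Pts (𝔸(Fin n; An.SC))))
    (g : U → ℂ) :
    (An.holPred (𝔸(Fin n; An.SC))).pred g ↔
      ∃ G : (Fin n → ℂ) → ℂ,
        DifferentiableOn ℂ G ((fun (x : An.Pts (𝔸(Fin n; An.SC))) (i : Fin n) =>
          x.evTop (AffineSpace.coord An.SC i)) '' (U : Set (An.Pts (𝔸(Fin n; An.SC))))) ∧
        ∀ x : U, g x = G (fun i => (x : An.Pts (𝔸(Fin n; An.SC))).evTop (AffineSpace.coord An.SC i)) := by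
  have hs := (AnPts.bijective_coord n)
  obtain ⟨hemb, hrange⟩ := AnPts.isEmbedding_of_generators (AffineSpace.coord An.SC) hs.2
  let Φ : An.Pts (𝔸(Fin n; An.SC)) → (Fin n → ℂ) := fun x i => x.evTop (AffineSpace.coord An.SC i)
  have hΦ : IsHomeomorph Φ := (isHomeomorph_iff_isEmbedding_surjective).2 ⟨hemb, fun v => by
    rw [← Set.mem_range, hrange]
    intro q hq
    rw [hs.1 (hq.trans (map_zero _).symm), map_zero]⟩
  constructor
  · intro hg
    classical
    let e := hΦ.homeomorph
    let G : (Fin n → ℂ) → ℂ := fun v => if h : e.symm v ∈ U then g ⟨e.symm v, h⟩ else 0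
    have hG : ∀ x : U, G (Φ x) = g x := fun x => by
      have h : e.symm (Φ x.1) = x.1 := e.symm_apply_apply x.1
      simp only [G, h]
      exact dif_pos x.2
    refine ⟨G, ?_, fun x => (hG x).symm⟩
    rintro _ ⟨x, hx, rfl⟩
    refine DifferentiableAt.differentiableWithinAt ?_
    obtain ⟨V, hxV, i, hV⟩ := hg ⟨x, hx⟩
    have key : ∀ h ∈ An.chartAlg V, ∀ y : V, ∃ H : (Fin n → ℂ) → ℂ, DifferentiableAt ℂ H (Φ y.1) ∧
        ∀ᶠ z in 𝓝 (Φ y.1), ∀ hz : e.symm z ∈ V, h ⟨e.symm z, hz⟩ = H z := by
      intro h hh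
      induction hh using Algebra.adjoin_induction with
      | algebraMap c => exact fun y => ⟨fun _ => c, differentiableAt_const c, Filter.Eventually.of_forall fun z hz => rfl⟩
      | add a b _ _ ha hb =>
        intro y
        obtain ⟨A, hA, hA'⟩ := ha y
        obtain ⟨B, hB, hB'⟩ := hb y
        refine ⟨fun z => A z + B z, hA.add hB, ?_⟩
        filter_upwards [hA', hB'] with z h1 h2 hz
        rw [← h1 hz, ← h2 hz]
        rfl
      | mul a b _ _ ha hb =>
        intro y
        obtain ⟨A, hA, hA'⟩ := ha y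
        obtain ⟨B, hB, hB'⟩ := hb y
        refine ⟨fun z => A z * B z, hA.mul hB, ?_⟩
        filter_upwards [hA', hB'] with z h1 h2 hz
        rw [← h1 hz, ← h2 hz]
        rfl
      | mem a ha =>
        intro y
        obtain ⟨W, hW, k, s, V', G', hV', hG', hg'⟩ := ha
        choose b c m hb hbc using fun j => AnPts.exists_ev_eq_div
          (isAffineOpen_top 𝔸(Fin n; An.SC)) (s j) (hW y) (Opens.mem_top _)
        choose qb hqb using fun j => hs.2 (b j)
        choose qc hqc using fun j => hs.2 (c j)
        let R : Fin k → (Fin n → ℂ) → ℂ := fun j v => MvPolynomial.eval v (qc j) / MvPolynomial.eval v (qb j) ^ m j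
        have hev : ∀ j, ∀ z : An.Pts (𝔸(Fin n; An.SC)), z.evTop (b j) = MvPolynomial.eval (Φ z) (qb j) ∧
            z.evTop (c j) = MvPolynomial.eval (Φ z) (qc j) := fun j z =>
          ⟨by rw [← hqb j]; exact AnPts.evTop_eval₂Hom _ z _, by rw [← hqc j]; exact AnPts.evTop_eval₂Hom _ z _⟩
        have hb' : ∀ j, MvPolynomial.eval (Φ y.1) (qb j) ≠ 0 := fun j => by rw [← (hev j y.1).1]; exact hb j
        have hRd : DifferentiableAt ℂ (fun v j => R j v) (Φ y.1) := differentiableAt_pi.2 fun j =>
          DifferentiableAt.mul (AnPts.differentiable_eval (qc j)).differentiableAt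
            (((AnPts.differentiable_eval (qb j)).differentiableAt.pow (m j)).inv (pow_ne_zero _ (hb' j)))
        have hsy : (fun j => An.Pts.ev y.1 W (hW y) (s j)) = fun j => R j (Φ y.1) := funext fun j => by
          obtain ⟨_, he⟩ := hbc j y.1 (Opens.mem_top _) (hb j)
          rw [he]
          change y.1.evTop (c j) / y.1.evTop (b j) ^ m j = _
          rw [(hev j y.1).1, (hev j y.1).2]
        refine ⟨fun v => G' (fun j => R j v), ?_, ?_⟩
        · refine DifferentiableAt.comp (Φ y.1) (hG'.differentiableAt (hV'.mem_nhds ?_)) hRd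
          exact hsy ▸ (hg' y).1
        · have hne : ∀ᶠ z in 𝓝 (Φ y.1), ∀ j, MvPolynomial.eval z (qb j) ≠ 0 := Filter.eventually_all.2 fun j =>
            (MvPolynomial.continuous_eval (qb j)).continuousAt.eventually_ne (hb' j)
          filter_upwards [hne] with z hz hzV
          rw [(hg' ⟨e.symm z, hzV⟩).2]
          congr 1
          funext j
          have hzz : Φ (e.symm z) = z := e.apply_symm_apply z
          obtain ⟨_, he⟩ := hbc j (e.symm z) (Opens.mem_top _)
            (show (e.symm z).evTop (b j) ≠ 0 by rw [(hev j _).1, hzz]; exact hz j)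
          rw [he]
          change (e.symm z).evTop (c j) / (e.symm z).evTop (b j) ^ m j = _
          rw [(hev j _).1, (hev j _).2, hzz]
    obtain ⟨H, hH, hH'⟩ := key _ hV ⟨x, hxV⟩
    refine hH.congr_of_eventuallyEq ?_
    have hVn : ∀ᶠ z in 𝓝 (Φ x), e.symm z ∈ V :=
      e.symm.continuous.continuousAt.eventually_mem (by
        rw [show e.symm (Φ x) = x from e.symm_apply_apply x]; exact V.isOpen.mem_nhds hxV)
    filter_upwards [hH', hVn] with z hz hzV
    rw [← hz hzV]
    exact dif_pos (i.le hzV)
  · rintro ⟨G, hG, hg⟩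
    refine An.holPred_of_chartAlg (Algebra.subset_adjoin ?_)
    exact ⟨⊤, fun _ => Opens.mem_top _, n, AffineSpace.coord An.SC, Φ '' (U : Set _), G,
      hΦ.isOpenMap _ U.isOpen, hG, fun x => ⟨⟨x.1, x.2, rfl⟩, hg x⟩⟩

end Groth.Agent.S4307
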