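import Groth.Statements.S4308
import Groth.Agent.AnStalk.ModStalk
import Groth.Agent.AnEps.FullFaithful
import Groth.Agent.PullStalk.Exact
import Mathlib.CategoryTheory.Abelian.Exact
import Mathlib.CategoryTheory.Adjunction.Additive

set_option autoImplicit false
open CategoryTheory AlgebraicGeometry Topology TopologicalSpace
open An

namespace Groth.Agent.S4308

open Groth.Agent.AnStalk TensorProduct in
theorem injective_stalkA {X : Scheme.{0}} [X.Over An.SC] [LocallyOfFiniteType (X ↘ An.SC)] [IsReduced X]
    {M N : X.Modules} (φ : M ⟶ N) (x : An.Pts X)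
    (h : Function.Injective ((TopCat.Presheaf.stalkFunctor Ab x.pt).map φ.mapPresheaf)) :
    Function.Injective (stalkA x ((An.analytify X).map φ)) := by
  letI := stalkAlgebra x
  letI := moduleOver M x
  letI := moduleOver N x
  haveI : IsScalarTower (X.presheaf.stalk x.pt) (Stk x) (MStk ((An.analytify X).obj M) x) :=
    IsScalarTower.of_algebraMap_smul fun _ _ => rfl
  haveI : IsScalarTower (X.presheaf.stalk x.pt) (Stk x) (MStk ((An.analytify X).obj N) x) :=
    IsScalarTower.of_algebraMap_smul fun _ _ => rfl
  haveI := isNoetherianRing_stalk (X := X) x.pt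
  haveI := (sameCompletion x).flat
  let eM := (isBaseChange_unitStalk M x).equiv
  let eN := (isBaseChange_unitStalk N x).equiv
  let ψ := Groth.Agent.PullStalk.Exact.stalkLin φ x.pt
  have h1 : ∀ z, stalkA x ((An.analytify X).map φ) (eM z) = eN (ψ.lTensor (Stk x) z) := fun z => by
    induction z using TensorProduct.induction_on with
    | zero => simp only [map_zero]
    | add u v hu hv => simp only [map_add, hu, hv]
    | tmul s t =>
      simp only [eM, eN, LinearMap.lTensor_tmul, IsBaseChange.equiv_tmul, map_smul]
      exact congrArg (s • ·) (stalkA_unit φ x t)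
  intro a b hab
  obtain ⟨a, rfl⟩ := eM.surjective a
  obtain ⟨b, rfl⟩ := eM.surjective b
  rw [h1, h1] at hab
  exact congrArg eM (Module.Flat.lTensor_preserves_injective_linearMap ψ h (eN.injective hab))

open Groth.Agent.AnStalk in
theorem faithful {X : Scheme.{0}} [X.Over An.SC] [LocallyOfFiniteType (X ↘ An.SC)] [IsReduced X]
    {M N : X.Modules} (φ : M ⟶ N) (h : (An.analytify X).map φ = 0) : φ = 0 := by
  have hpt : ∀ (x : An.Pts X) (t : M.presheaf.stalk x.pt),
      (TopCat.Presheaf.stalkFunctor Ab x.pt).map φ.mapPresheaf t = 0 := fun x t => by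
    letI := stalkAlgebra x
    letI := moduleOver N x
    haveI : IsScalarTower (X.presheaf.stalk x.pt) (Stk x) (MStk ((An.analytify X).obj N) x) :=
      IsScalarTower.of_algebraMap_smul fun _ _ => rfl
    haveI := isNoetherianRing_stalk (X := X) x.pt
    haveI := (sameCompletion x).faithfullyFlat
    have h1 : unitStalkHom N x ((TopCat.Presheaf.stalkFunctor Ab x.pt).map φ.mapPresheaf t) = 0 := by
      rw [← stalkA_unit, h]
      obtain ⟨U, hU, m, hm⟩ := exists_germA_eq _ x (unitStalkHom M x t)
      rw [← hm, stalkA_germ]
      exact map_zero _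
    refine Module.FaithfullyFlat.tensorProduct_mk_injective (A := X.presheaf.stalk x.pt) (B := Stk x)
      (N.presheaf.stalk x.pt) (Eq.trans ?_ (LinearMap.map_zero _).symm)
    refine (LinearEquiv.map_eq_zero_iff (isBaseChange_unitStalk N x).equiv).1 ?_
    exact (IsBaseChange.equiv_tmul (isBaseChange_unitStalk N x) (1 : Stk x) _).trans ((one_smul _ _).trans h1)
  ext U m
  change φ.app U m = 0
  refine TopCat.Presheaf.section_ext (C := Ab) ⟨N.presheaf, N.isSheaf⟩ U _ _ fun p hp => ?_
  refine Eq.trans ?_ (map_zero (N.presheaf.germ U p hp).hom).symm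
  by_contra hne
  let T : X.Opens := ⟨{q | ∃ hq : q ∈ U, N.presheaf.germ U q hq (φ.app U m) = 0}, by
    refine isOpen_iff_forall_mem_open.2 fun q hq => ?_
    obtain ⟨hqU, hq0⟩ := hq
    obtain ⟨W, hqW, iU, iV, e⟩ := N.presheaf.germ_eq q hqU hqU (φ.app U m) 0
      (hq0.trans (map_zero (N.presheaf.germ U q hqU).hom).symm)
    refine ⟨W, fun r hr => ⟨iU.le hr, ?_⟩, W.isOpen, hqW⟩
    rw [← N.presheaf.germ_res_apply iU r hr, e, map_zero]
    exact map_zero _⟩
  obtain ⟨x, hxU, hxT⟩ := AnPts.exists_pts_of_isLocallyClosed (X := X) (Z := (U : Set X) ∩ (T : Set X)ᶜ)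
    ⟨p, hp, fun hT => hne hT.2⟩ ⟨U, _, U.isOpen, T.isOpen.isClosed_compl, rfl⟩
  refine hxT ⟨hxU, ?_⟩
  exact (TopCat.Presheaf.stalkFunctor_map_germ_apply U x.pt hxU φ.mapPresheaf m).symm.trans
    (hpt x (M.presheaf.germ U x.pt hxU m))

/-- For X reduced, where the associated analytic space is X(ℂ) with the sheaf of holomorphic functions:
the functor M ↦ M^an from O_X-modules to O_{X^an}-modules is exact, faithful and conservative (right
exactness being automatic for this left adjoint, the content is left exactness, faithfulness and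
conservativity). -/
theorem result (X : Scheme.{0}) [X.Over An.SC] [LocallyOfFiniteType (X ↘ An.SC)] [IsReduced X] :
    Limits.PreservesFiniteLimits (An.analytify X) ∧ Limits.PreservesFiniteColimits (An.analytify X) ∧
      (An.analytify X).Faithful ∧ (An.analytify X).ReflectsIsomorphisms := by
  haveI := (An.analytifyAdj X).leftAdjoint_preservesColimits.{0, 0}
  haveI : Limits.PreservesFiniteColimits (An.analytify X) := Limits.PreservesColimitsOfSize.preservesFiniteColimits _
  haveI := (An.analytifyAdj X).rightAdjoint_preservesLimits.{0, 0}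
  haveI : (An.anPush X).Additive := Functor.additive_of_preserves_binary_products _
  haveI : (An.analytify X).Additive := Adjunction.left_adjoint_additive (An.analytifyAdj X)
  haveI : (An.analytify X).PreservesMonomorphisms := ⟨fun {M N} φ hφ => by
    refine Groth.Agent.AnStalk.mono_of_injective _ fun x => injective_stalkA φ x ?_
    refine TopCat.Presheaf.stalkFunctor_map_injective_of_app_injective (fun U => ?_) x.pt
    have := (Scheme.Modules.toPresheaf X).map_mono φ
    exact (AddCommGrpCat.mono_iff_injective _).1 ((NatTrans.mono_iff_mono_app _).1 this (Opposite.op U))⟩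
  haveI : (An.analytify X).PreservesHomology := Functor.preservesHomology_of_preservesMonos_and_cokernels _
  haveI : (An.analytify X).Faithful := ⟨fun {M N} φ ψ h => sub_eq_zero.1 (faithful (φ - ψ) (by
    rw [Functor.map_sub, h, sub_self]))⟩
  exact ⟨Functor.preservesFiniteLimits_of_preservesHomology _, inferInstance, inferInstance,
    reflectsIsomorphisms_of_reflectsMonomorphisms_of_reflectsEpimorphisms _⟩

end Groth.Agent.S4308
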