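import Groth.Statements.S4315
import Groth.Agent.AnStalk.Map

set_option autoImplicit false
open CategoryTheory AlgebraicGeometry Topology TopologicalSpace
open An

namespace Groth.Agent.S4315

/-- For X and Y reduced and locally of finite type over ℂ (associated analytic spaces = ℂ-points with
holomorphic functions): a morphism f : X → Y over ℂ is an isomorphism if and only if f^an is, i.e.
if and only if the induced map X(ℂ) → Y(ℂ) is a homeomorphism whose inverse is holomorphic. -/
theorem result (X Y : Scheme.{0}) [X.Over An.SC] [Y.Over An.SC]
    [LocallyOfFiniteType (X ↘ An.SC)] [LocallyOfFiniteType (Y ↘ An.SC)] [IsReduced X] [IsReduced Y]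
    (f : X ⟶ Y) [f.IsOver An.SC] :
    IsIso f ↔ ∃ e : An.Pts X ≃ₜ An.Pts Y, (⇑e = An.Pts.map f) ∧
      An.IsHolMap (⟨e.symm, e.symm.continuous⟩ : C(An.Pts Y, An.Pts X)) := by
  constructor
  · intro hf
    haveI : (inv f).IsOver An.SC := ⟨by rw [IsIso.inv_comp_eq]; exact (CategoryTheory.comp_over f An.SC).symm⟩
    refine ⟨{ toFun := An.Pts.map f
              invFun := An.Pts.map (inv f)
              left_inv := fun z => Subtype.ext (by simp)
              right_inv := fun z => Subtype.ext (by simp)
              continuous_toFun := An.Pts.continuous_map f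
              continuous_invFun := An.Pts.continuous_map (inv f) }, rfl, fun V g hg => ?_⟩
    exact An.holPred_comp (inv f) V g hg
  · rintro ⟨e, he, hhol⟩
    haveI := (Groth.Agent.AnStalk.etale_iff_bijective f).2
      (Groth.Agent.AnStalk.bijective_anStalk_of_homeomorph f e he hhol)
    exact Groth.Agent.AnStalk.isIso_of_etale_of_bijective f (he ▸ e.bijective)

end Groth.Agent.S4315
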