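import Groth.Statements.S4317
import Groth.Agent.AnStalk.Basic

set_option autoImplicit false
open CategoryTheory AlgebraicGeometry Topology TopologicalSpace
open An

namespace Groth.Agent.S4317

/-- Let X be a reduced scheme locally of finite type over ℂ and x a ℂ-point of X, and write O_{X^an,x}
for the stalk at x of the sheaf of holomorphic functions on X(ℂ). The local ring O_{X,x} is regular
exactly when O_{X^an,x} is regular. The published statement is global (X has the property if and
only if its associated analytic space does); here it is stated pointwise, comparing the two local
rings at one ℂ-point. -/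
theorem result (X : Scheme.{0}) [X.Over An.SC] [LocallyOfFiniteType (X ↘ An.SC)] [IsReduced X] (x : An.Pts X) :
    IsRegularLocalRing ↑(X.presheaf.stalk x.pt) ↔ IsRegularLocalRing ↑((An.anSpace X).presheaf.stalk x) := by
  haveI := AnStalk.isNoetherianRing_stalk (X := X) x.pt
  letI := AnStalk.stalkAlgebra x
  exact (AnStalk.sameCompletion x).isRegularLocalRing_iff

end Groth.Agent.S4317
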