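import Groth.Statements.S4324
import Groth.Agent.AnStalk.Map

set_option autoImplicit false
open CategoryTheory AlgebraicGeometry Topology TopologicalSpace
open An

namespace Groth.Agent.S4324

/-- Let X and Y be reduced schemes locally of finite type over ℂ and f : X → Y a morphism over ℂ. Then f
is etale if and only if f^an is etale, i.e. a local isomorphism of analytic spaces, i.e. if and only
if for every ℂ-point x of X the map on stalks O_{Y^an, f(x)} → O_{X^an, x} induced by f^an is
bijective. -/
theorem result (X Y : Scheme.{0}) [X.Over An.SC] [Y.Over An.SC] [LocallyOfFiniteType (X ↘ An.SC)]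
    [LocallyOfFiniteType (Y ↘ An.SC)] [IsReduced X] [IsReduced Y] (f : X ⟶ Y) [f.IsOver An.SC] :
    Etale f ↔ ∀ x : An.Pts X, Function.Bijective (PresheafedSpace.Hom.stalkMap (An.anMap f) x).hom := by
  exact Groth.Agent.AnStalk.etale_iff_bijective f

end Groth.Agent.S4324
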