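import Groth.Statements.S4334
import Groth.Agent.S0227
import Groth.Agent.S2768
import Groth.Agent.FlatMisc.FibreDimScheme
import Groth.Agent.VarDim.Curve

set_option autoImplicit false
universe u
open CategoryTheory CategoryTheory.Limits AlgebraicGeometry Opposite
open EtSix

namespace Groth.Agent.S4334

/-- The degree-two step in canonical form: let X be a smooth projective curve over an algebraically
closed field k (here: X integral, with a proper morphism X -> Spec k that is smooth of relative
dimension 1), and n an integer that is nonzero in k, so that the n-th power map on G_m is an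
epimorphism of sheaves on the small etale site (taken as the hypothesis h). Then the boundary map
H^1(X, G_m) -> H^2(X, μ_n) of the Kummer sequence is surjective, and its kernel is the image of
multiplication by n on H^1(X, G_m). -/
theorem result (k : Type u) [Field k] [IsAlgClosed k] {X : Scheme.{u}} [IsIntegral X]
    (f : X ⟶ Spec (CommRingCat.of k)) [IsProper f] [SmoothOfRelativeDimension 1 f]
    (n : ℕ) (hn : (n : k) ≠ 0) (h : Epi (EtCoh.powMap X n)) :
    Function.Surjective (EtSix.kummerBoundary h 1) ∧
      (EtSix.kummerBoundary h 1).ker = (n • AddMonoidHom.id (EtCoh.H X (EtCoh.Gm X) 1)).range := by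
  letI : X.Over (Spec (CommRingCat.of k)) := ⟨f⟩
  haveI : SmoothOfRelativeDimension 1 (X ↘ Spec (CommRingCat.of k)) :=
    inferInstanceAs (SmoothOfRelativeDimension 1 f)
  haveI : Smooth f := SmoothOfRelativeDimension.smooth (n := 1) f
  haveI : LocallyOfFiniteType (X ↘ Spec (CommRingCat.of k)) := inferInstanceAs (LocallyOfFiniteType f)
  have hdim : topologicalKrullDim X = 1 := by
    have h := Groth.Agent.S2768.result 1 f (genericPoint X)
    rw [Groth.Agent.FlatMisc.FibreDimScheme.fibreDimAt_eq] at h
    have hu : (f ⁻¹' {f (genericPoint X)}) = Set.univ := Set.eq_univ_of_forall fun y =>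
      show f y = f (genericPoint X) from Subsingleton.elim (α := PrimeSpectrum k) _ _
    let e : ↥(f ⁻¹' {f (genericPoint X)}) ≃ₜ X := (Homeomorph.setCongr hu).trans (Homeomorph.Set.univ X)
    have h1 : FlatMor.localDim X (genericPoint X) = ((1 : ℕ) : WithBot ℕ∞) := by
      refine le_antisymm ?_ ?_
      · rw [← h]
        exact Groth.Agent.FlatMisc.FibreDimScheme.localDim_homeo e ⟨genericPoint X, rfl⟩
      · rw [← h]
        exact Groth.Agent.FlatMisc.FibreDimScheme.localDim_homeo e.symm (genericPoint X)
    obtain ⟨c, hc, hld⟩ := Groth.Agent.VarDim.localDim_eq_coheight_add k (genericPoint X)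
    rw [h1] at hld
    have hc0 : Order.coheight (genericPoint X) = 0 :=
      Order.coheight_eq_zero.mpr fun y _ => genericPoint_specializes y
    rw [hc0] at hc
    have : c = 0 := by exact_mod_cast hc.symm
    subst this
    rw [Groth.Agent.VarDim.topologicalKrullDim_eq_of_irreducible k (X := X)]
    simpa using hld.symm
  haveI := Groth.Agent.S0227.result k X f hdim 2 le_rfl
  have hpow : ∀ x : EtCoh.H X (EtCoh.Gm X) 1,
      x.comp (Abelian.Ext.mk₀ (EtCoh.powMap X n)) (add_zero 1) = n • x := by
    intro x
    rw [EtCoh.powMap]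
    clear h hn
    induction n with
    | zero => simp
    | succ m ih => simp [succ_nsmul, Abelian.Ext.mk₀_add, Abelian.Ext.comp_add, ih]
  constructor
  · intro y
    obtain ⟨x, hx⟩ := Abelian.Ext.covariant_sequence_exact₁ _ (EtSix.kummerShortExact h) y
      (Subsingleton.elim (α := EtCoh.H X (EtCoh.Gm X) 2) _ _) (rfl : (1 : ℕ) + 1 = 2)
    exact ⟨x, hx⟩
  · ext x
    constructor
    · intro hx
      obtain ⟨z, hz⟩ := Abelian.Ext.covariant_sequence_exact₃ _ (EtSix.kummerShortExact h) x
        (rfl : (1 : ℕ) + 1 = 1 + 1) hx
      exact ⟨z, (hpow z).symm.trans hz⟩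
    · rintro ⟨z, rfl⟩
      change ((EtSix.kummerShortExact h).extClass.postcomp _ rfl) (n • z) = 0
      rw [← hpow z]
      change ((z.comp (Abelian.Ext.mk₀ (EtCoh.powMap X n)) (add_zero 1))).comp
        (EtSix.kummerShortExact h).extClass rfl = 0
      refine (Abelian.Ext.comp_assoc_of_second_deg_zero z _ _ _).trans ?_
      have h0 : (Abelian.Ext.mk₀ (EtCoh.powMap X n)).comp (EtSix.kummerShortExact h).extClass (zero_add 1) = 0 :=
        (EtSix.kummerShortExact h).comp_extClass
      exact (congrArg (fun c => z.comp c rfl) h0).trans (Abelian.Ext.comp_zero _ _ _ _ _)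

end Groth.Agent.S4334
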