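import Groth.Statements.S4337
import Groth.Agent.LinTopLib.Series
import Mathlib.RingTheory.Nakayama
import Mathlib.LinearAlgebra.TensorProduct.Quotient

set_option autoImplicit false
universe u
open LinTop

namespace Groth.Agent.S4337

open Groth.Agent.LinTopLib Filter Topology

/-- Let A be an admissible ring, J an ideal of definition, and u : M -> N a homomorphism of A-modules
with N of finite type. Then u is surjective if and only if u tensored with A/J is surjective. -/
theorem result
    (A : Type u) [CommRing A] [UniformSpace A] [IsUniformAddGroup A] [IsTopologicalRing A]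
    (hA : LinTop.IsAdmissible A) (J : Ideal A) (hJ : LinTop.IsIdealOfDefinition A J)
    (M N : Type u) [AddCommGroup M] [Module A M] [AddCommGroup N] [Module A N] [Module.Finite A N]
    (u : M →ₗ[A] N) :
    Function.Surjective u ↔ Function.Surjective (u.rTensor (A ⧸ J)) := by
  obtain ⟨⟨hl, -⟩, ht, hc⟩ := hA
  have hjac := le_jacobson_of_topNilp (isWeakIdealOfDefinition_of_isIdealOfDefinition hJ).2
  refine ⟨fun h => LinearMap.rTensor_surjective _ h, fun h => ?_⟩
  let q := (LinearMap.range u).mkQ
  have hq : Function.Surjective (q.rTensor (A ⧸ J)) :=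
    LinearMap.rTensor_surjective _ (Submodule.mkQ_surjective _)
  have hz : ∀ t : TensorProduct A (N ⧸ LinearMap.range u) (A ⧸ J), t = 0 := fun t => by
    obtain ⟨s, rfl⟩ := hq t
    obtain ⟨r, rfl⟩ := h s
    rw [← LinearMap.rTensor_comp_apply]
    have : q ∘ₗ u = 0 := by ext x; simp [q]
    simp [this]
  have htop : (⊤ : Submodule A (N ⧸ LinearMap.range u)) ≤ J • ⊤ := by
    intro x _
    rw [← Submodule.Quotient.mk_eq_zero]
    exact (TensorProduct.tensorQuotEquivQuotSMul (N ⧸ LinearMap.range u) J).symm.injective
      ((hz _).trans (hz _).symm)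
  have hbot := Submodule.eq_bot_of_le_smul_of_le_jacobson_bot J ⊤ Module.Finite.fg_top htop hjac
  intro y
  have : Submodule.Quotient.mk y ∈ (⊤ : Submodule A (N ⧸ LinearMap.range u)) := trivial
  rw [hbot, Submodule.mem_bot, Submodule.Quotient.mk_eq_zero] at this
  exact this

end Groth.Agent.S4337
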