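import Groth.Statements.S4342
import Groth.Agent.LimTop.SubExtGen

set_option autoImplicit false
universe u
open QCohSup

namespace Groth.Agent.S4342

open AlgebraicGeometry in
open CategoryTheory in
open Opposite in
/-- In the sectionwise form its proof gives. Let X be a scheme whose underlying space is locally
Noetherian and F a quasi-coherent O_X-module. For every affine open U and every section s of F over
U there is a quasi-coherent sub-O_X-module of finite type of F having s among its sections over U;
hence F is the inductive limit of its quasi-coherent submodules of finite type. -/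
theorem result
    {X : Scheme.{u}}
    (hX : ∀ x : X, ∃ U : X.Opens, x ∈ U ∧ TopologicalSpace.NoetherianSpace (U : Set X))
    (F : X.Modules) [Coh.IsQCoh F]
    (U : X.affineOpens) (s : F.val.obj (op (U : X.Opens))) :
    ∃ (G' : X.Modules) (i' : G' ⟶ F), Mono i' ∧ Coh.IsQCoh G' ∧ CohB1.IsFT G' ∧
      ∃ g : G'.val.obj (op (U : X.Opens)), (i'.val.app (op (U : X.Opens))).hom g = s := by
  classical
  have : F.IsQuasicoherent := ‹_›
  let S₀ : Props.SubMod.StalkSub F := fun y => if hy : y ∈ U.1 then
    Props.SubMod.spanGerm (M := F) (V := U.1) ({s} : Set _) y hy else ⊥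
  have h0 : Props.SubMod.GenBy S₀ U.1 ({s} : Set _) := fun y hy => dif_pos hy
  have hS₀ : Props.SubMod.FTOn S₀ U.1 :=
    fun x hx => ⟨U.1, U.2, hx, le_rfl, {s}, fun y hy => (h0 y hy).trans
      (congrArg (fun t => Props.SubMod.spanGerm (M := F) t y hy) (Finset.coe_singleton _).symm)⟩
  obtain ⟨S', hS', h1⟩ := LimTop.SubExtGen.exists_global_locallyNoetherian hX U.1 S₀ hS₀
  obtain ⟨g, hg⟩ := (Props.SubSheaf.mem_range_incl S' (V := U.1) s).mpr fun y hy => by
    rw [h1 y hy, h0 y hy]
    exact Submodule.subset_span ⟨s, rfl, rfl⟩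
  exact ⟨_, Props.SubSheaf.incl S', inferInstance, Props.SubSheaf.isQuasicoherent_sub hS',
    Props.SubSheaf.isFiniteType_sub hS', g, hg⟩

end Groth.Agent.S4342
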