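import Groth.Statements.S4344
-- import your own Groth.Agent.* helpers here

set_option autoImplicit false
universe u
open RatMapD

namespace Groth.Agent.S4344

open AlgebraicGeometry in
open CategoryTheory in
/-- Let X be a reduced S-scheme, Y an S-scheme separated over S and f an S-rational map from X to Y.
There is a representative g of f which is an S-morphism and of which every S-morphism representing f
is a restriction; in particular g is the unique S-morphism of the class of f defined on the largest
open where some S-representative is defined. (The published statement speaks of the domain of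
definition among all representatives; over a base that is not separated that domain can be larger
than the one on which an S-representative exists, and this row takes the latter.) -/
theorem result
    (S X Y : Scheme.{u}) [X.Over S] [Y.Over S] [IsReduced X] [IsSeparated (Y ↘ S)]
    (f : X ⤏ Y) [f.IsOver S] :
    ∃ g : X.PartialMap Y, g.IsOver S ∧ g.toRationalMap = f ∧
      ∀ h : X.PartialMap Y, h.IsOver S → h.toRationalMap = f →
        ∃ hle : h.domain ≤ g.domain, h = g.restrict h.domain h.dense_domain hle := by
  let I := { h : X.PartialMap Y // h.IsOver S ∧ h.toRationalMap = f }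
  let U : I → X.Opens := fun i => i.1.domain
  let 𝒰 := Scheme.Opens.iSupOpenCover U
  let φ : ∀ i : 𝒰.I₀, 𝒰.X i ⟶ Y := fun i => i.1.hom
  have compat : ∀ i j, Limits.pullback.fst (𝒰.f i) (𝒰.f j) ≫ φ i =
      Limits.pullback.snd (𝒰.f i) (𝒰.f j) ≫ φ j := by
    intro i j
    refine (cancel_epi (isPullback_opens_inf_le (le_iSup U i) (le_iSup U j)).isoPullback.hom).mp ?_
    erw [IsPullback.isoPullback_hom_fst_assoc, IsPullback.isoPullback_hom_snd_assoc]
    have := i.2.1
    have := j.2.1
    exact (Scheme.PartialMap.equiv_iff_of_isSeparated (S := S) (f := i.1) (g := j.1)).mp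
      (Scheme.PartialMap.toRationalMap_eq_iff.mp (i.2.2.trans j.2.2.symm))
  obtain ⟨h₀, h₀S, h₀f⟩ := f.exists_partialMap_over S
  let i₀ : I := ⟨h₀, h₀S, h₀f⟩
  let g : X.PartialMap Y :=
    ⟨⨆ i, U i, h₀.dense_domain.mono (SetLike.coe_subset_coe.mpr (le_iSup U i₀)),
      𝒰.glueMorphisms φ compat⟩
  have hg : ∀ i : I, X.homOfLE (le_iSup U i) ≫ g.hom = i.1.hom := fun i =>
    𝒰.ι_glueMorphisms φ compat i
  have hgS : g.IsOver S := by
    refine ⟨𝒰.hom_ext _ _ fun i => ?_⟩
    have := i.2.1.comp_over
    change X.homOfLE (le_iSup U i) ≫ g.hom ≫ _ = X.homOfLE (le_iSup U i) ≫ _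
    rw [reassoc_of% (hg i), this]
    change (U i).ι ≫ (X ↘ S) = X.homOfLE (le_iSup U i) ≫ (⨆ i, U i).ι ≫ (X ↘ S)
    simp
  have hres : ∀ i : I, i.1 = g.restrict i.1.domain i.1.dense_domain (le_iSup U i) := by
    intro i
    refine Scheme.PartialMap.ext _ _ rfl ?_
    simp only [Scheme.PartialMap.restrict_hom, hg i]
    have hid : (X.isoOfEq (rfl : i.1.domain = i.1.domain)).hom = 𝟙 _ := by
      rw [← cancel_mono i.1.domain.ι, Scheme.isoOfEq_hom_ι, Category.id_comp]
    exact ((congrArg (· ≫ i.1.hom) hid).trans (Category.id_comp _)).symm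
  refine ⟨g, hgS, ?_, fun h hS hf => ⟨le_iSup U ⟨h, hS, hf⟩, hres ⟨h, hS, hf⟩⟩⟩
  rw [← h₀f, show h₀ = i₀.1 from rfl, hres i₀, Scheme.PartialMap.restrict_toRationalMap]

end Groth.Agent.S4344
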