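import Groth.Statements.S4345
import Groth.Agent.LocalSub.Basic

set_option autoImplicit false
universe u
open SchLoc

namespace Groth.Agent.S4345

/-- Let A and B be subrings of a field R, C the subring generated by A and B, and for a subring E let
L(E) be the set of local subrings E_p of R, p a prime ideal of E. The following are equivalent: (i)
for every local subring Q of R containing A and B, the localizations of A and of B at the traces of
the maximal ideal of Q coincide; (ii) for every prime ideal r of C the localizations of A and B at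
the traces of r coincide; (iii) two members of L(A) and L(B) dominated by a common local subring of
R are equal; (iv) the intersection of L(A) and L(B) is L(C). -/
theorem result
    (R : Type u) [Field R] (A B : Subring R) :
    [ ∀ (Q : LocalSubring R) (hA : A ≤ Q.toSubring) (hB : B ≤ Q.toSubring),
        LocalSubring.ofPrime A ((IsLocalRing.maximalIdeal Q.toSubring).comap (Subring.inclusion hA)) =
          LocalSubring.ofPrime B ((IsLocalRing.maximalIdeal Q.toSubring).comap (Subring.inclusion hB)),
      ∀ r : PrimeSpectrum ↥(A ⊔ B),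
        LocalSubring.ofPrime A (r.asIdeal.comap (Subring.inclusion (le_sup_left : A ≤ A ⊔ B))) =
          LocalSubring.ofPrime B (r.asIdeal.comap (Subring.inclusion (le_sup_right : B ≤ A ⊔ B))),
      ∀ (p : PrimeSpectrum A) (q : PrimeSpectrum B),
        (∃ Q : LocalSubring R, LocalSubring.ofPrime A p.asIdeal ≤ Q ∧ LocalSubring.ofPrime B q.asIdeal ≤ Q) →
          LocalSubring.ofPrime A p.asIdeal = LocalSubring.ofPrime B q.asIdeal,
      Set.range (fun p : PrimeSpectrum A ↦ LocalSubring.ofPrime A p.asIdeal) ∩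
          Set.range (fun q : PrimeSpectrum B ↦ LocalSubring.ofPrime B q.asIdeal) =
        Set.range (fun r : PrimeSpectrum ↥(A ⊔ B) ↦ LocalSubring.ofPrime (A ⊔ B) r.asIdeal) ].TFAE := by
  open Groth.Agent.LocalSub in
  tfae_have 1 → 2 := by
    intro h r
    have e := comap_maximalIdeal_ofPrime (A ⊔ B) r.asIdeal
    refine (ofPrime_congr A ?_).trans ((h (LocalSubring.ofPrime (A ⊔ B) r.asIdeal)
      (le_sup_left.trans (LocalSubring.le_ofPrime _ _))
      (le_sup_right.trans (LocalSubring.le_ofPrime _ _))).trans (ofPrime_congr B ?_))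
    · conv_lhs => rw [← e]
      rw [Ideal.comap_comap]; rfl
    · conv_rhs => rw [← e]
      rw [Ideal.comap_comap]; rfl
  open Groth.Agent.LocalSub in
  tfae_have 2 → 3 := by
    rintro h p q ⟨Q, hp, hq⟩
    obtain ⟨hA, ep⟩ := (ofPrime_le_iff A p.asIdeal Q).mp hp
    obtain ⟨hB, eq⟩ := (ofPrime_le_iff B q.asIdeal Q).mp hq
    refine (ofPrime_congr A ?_).trans ((h ⟨(IsLocalRing.maximalIdeal Q.toSubring).comap
      (Subring.inclusion (sup_le hA hB)), inferInstance⟩).trans (ofPrime_congr B ?_))
    · rw [Ideal.comap_comap]; exact ep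
    · rw [Ideal.comap_comap]; exact eq.symm
  open Groth.Agent.LocalSub in
  tfae_have 3 → 1 := by
    intro h Q hA hB
    exact h ⟨(IsLocalRing.maximalIdeal Q.toSubring).comap (Subring.inclusion hA), inferInstance⟩
      ⟨(IsLocalRing.maximalIdeal Q.toSubring).comap (Subring.inclusion hB), inferInstance⟩
      ⟨Q, (ofPrime_le_iff A _ Q).mpr ⟨hA, rfl⟩, (ofPrime_le_iff B _ Q).mpr ⟨hB, rfl⟩⟩
  open Groth.Agent.LocalSub in
  tfae_have 2 → 4 := by
    intro h
    refine Set.Subset.antisymm ?_ ?_
    · rintro L ⟨⟨p, rfl⟩, ⟨q, hq⟩⟩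
      have hA : A ≤ (LocalSubring.ofPrime A p.asIdeal).toSubring := LocalSubring.le_ofPrime _ _
      have hB : B ≤ (LocalSubring.ofPrime A p.asIdeal).toSubring := by
        have hq' : LocalSubring.ofPrime B q.asIdeal = LocalSubring.ofPrime A p.asIdeal := hq
        rw [← hq']; exact LocalSubring.le_ofPrime _ _
      let r : PrimeSpectrum ↥(A ⊔ B) :=
        ⟨(IsLocalRing.maximalIdeal (LocalSubring.ofPrime A p.asIdeal).toSubring).comap
          (Subring.inclusion (sup_le hA hB)), inferInstance⟩
      refine ⟨r, le_antisymm ((ofPrime_le_iff _ _ _).mpr ⟨sup_le hA hB, rfl⟩) ?_⟩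
      refine (ofPrime_le_iff _ _ _).mpr ⟨le_sup_left.trans (LocalSubring.le_ofPrime _ _), ?_⟩
      have e := comap_maximalIdeal_ofPrime (A ⊔ B) r.asIdeal
      have e2 : p.asIdeal = r.asIdeal.comap (Subring.inclusion le_sup_left) := by
        rw [Ideal.comap_comap]; exact (comap_maximalIdeal_ofPrime A p.asIdeal).symm
      rw [e2]
      conv_lhs => rw [← e]
      rw [Ideal.comap_comap]; rfl
    · rintro L ⟨r, rfl⟩
      let a := r.asIdeal.comap (Subring.inclusion (le_sup_left : A ≤ A ⊔ B))
      have hab := h r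
      have e := comap_maximalIdeal_ofPrime (A ⊔ B) r.asIdeal
      have hle : LocalSubring.ofPrime A a ≤ LocalSubring.ofPrime (A ⊔ B) r.asIdeal := by
        refine (ofPrime_le_iff _ _ _).mpr ⟨le_sup_left.trans (LocalSubring.le_ofPrime _ _), ?_⟩
        simp only [a]
        conv_lhs => rw [← e]
        rw [Ideal.comap_comap]; rfl
      have hC : A ⊔ B ≤ (LocalSubring.ofPrime A a).toSubring :=
        sup_le (LocalSubring.le_ofPrime _ _) (by rw [show LocalSubring.ofPrime A a = _ from hab]
                                                 exact LocalSubring.le_ofPrime _ _)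
      have hge : LocalSubring.ofPrime (A ⊔ B) r.asIdeal ≤ LocalSubring.ofPrime A a := by
        refine (ofPrime_le_iff _ _ _).mpr ⟨hC, ?_⟩
        conv_lhs => rw [← e]
        rw [← @IsLocalRing.maximalIdeal_comap _ _ _ _ _ _ (Subring.inclusion hle.1) hle.2,
          Ideal.comap_comap]
        rfl
      exact ⟨⟨⟨a, inferInstance⟩, le_antisymm hle hge⟩,
        ⟨⟨r.asIdeal.comap (Subring.inclusion le_sup_right), inferInstance⟩,
          hab.symm.trans (le_antisymm hle hge)⟩⟩
  open Groth.Agent.LocalSub in
  tfae_have 4 → 2 := by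
    intro h r
    obtain ⟨⟨p, hp⟩, ⟨q, hq⟩⟩ := h.ge ⟨r, rfl⟩
    obtain ⟨hA, ep⟩ := (ofPrime_le_iff A p.asIdeal _).mp hp.le
    obtain ⟨hB, eq⟩ := (ofPrime_le_iff B q.asIdeal _).mp hq.le
    have e := comap_maximalIdeal_ofPrime (A ⊔ B) r.asIdeal
    refine ((ofPrime_congr A ?_).trans hp).trans (hq.symm.trans (ofPrime_congr B ?_))
    · rw [ep]
      conv_lhs => rw [← e]
      rw [Ideal.comap_comap]; rfl
    · rw [eq]
      conv_rhs => rw [← e]
      rw [Ideal.comap_comap]; rfl
  tfae_finish

end Groth.Agent.S4345
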