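import Groth.Statements.S4349
import Mathlib.CategoryTheory.Limits.ConcreteCategory.Basic
import Mathlib.CategoryTheory.Filtered.Basic
import Mathlib.Algebra.Category.Ring.FilteredColimits
-- import your own Groth.Agent.* helpers here

set_option autoImplicit false
universe u
open RatFun

namespace Groth.Agent.S4349

open AlgebraicGeometry CategoryTheory in
lemma isFiltered_dense (X : Scheme.{u}) : IsFiltered ((RatFun.IsDenseOpen X).FullSubcategory)ᵒᵖ := by
  haveI : Nonempty (RatFun.IsDenseOpen X).FullSubcategory := ⟨⟨⊤, by simp [RatFun.IsDenseOpen, TopologicalSpace.Opens.coe_top, dense_univ]⟩⟩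
  haveI : IsCofiltered (RatFun.IsDenseOpen X).FullSubcategory := by
    haveI : IsCofilteredOrEmpty (RatFun.IsDenseOpen X).FullSubcategory :=
      ⟨fun U V => ⟨⟨U.obj ⊓ V.obj, U.property.inter_of_isOpen_left V.property U.obj.isOpen⟩,
          ObjectProperty.homMk (homOfLE inf_le_left), ObjectProperty.homMk (homOfLE inf_le_right), trivial⟩,
        fun U V f g => ⟨U, 𝟙 U, by
          have : f = g := ObjectProperty.hom_ext _ (Subsingleton.elim _ _)
          rw [this]⟩⟩
    exact ⟨⟩
  exact inferInstance


open AlgebraicGeometry in
/-- Second assertion (in the form: sections over a dense open inject into the ring of rational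
functions). Let X be a reduced scheme and V a dense open subset of X. The canonical map from the
sections of O_X over V to the ring R(X) of rational functions on X is injective. (The published
statement also assumes X locally integral or locally Noetherian; that hypothesis serves the
quasi-coherence of the sheaf of rational functions and is not needed here.) -/
theorem result (X : Scheme.{u}) [IsReduced X]
    (V : X.Opens) (hV : Dense (V : Set X)) :
    Function.Injective (RatFun.toRing X V hV) := by
  intro s t hst
  haveI := isFiltered_dense X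
  obtain ⟨⟨W⟩, f, g, hfg⟩ := CategoryTheory.Limits.Concrete.colimit_exists_of_rep_eq (RatFun.sectionsOnDense X) _ _ hst
  have hle : W.obj ≤ V := CategoryTheory.leOfHom f.unop.hom
  have hfg' : (X.presheaf.map (CategoryTheory.homOfLE hle).op) s = (X.presheaf.map (CategoryTheory.homOfLE hle).op) t := hfg
  rw [← sub_eq_zero]
  apply eq_zero_of_basicOpen_eq_bot
  by_contra hne
  obtain ⟨z, hz⟩ := TopologicalSpace.Opens.ne_bot_iff_nonempty _ |>.mp hne
  obtain ⟨w, hw1, hw2⟩ := W.property.inter_open_nonempty _ (X.basicOpen (s - t)).isOpen ⟨z, hz⟩
  have h3 : X.basicOpen (X.presheaf.map (CategoryTheory.homOfLE hle).op (s - t)) = ⊥ := by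
    rw [map_sub, hfg', sub_self, Scheme.basicOpen_zero]
  rw [Scheme.basicOpen_res] at h3
  have h4 : w ∈ W.obj ⊓ X.basicOpen (s - t) := ⟨hw2, hw1⟩
  rw [h3] at h4
  exact h4.elim

end Groth.Agent.S4349
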