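import Groth.Statements.S4356
import Groth.Agent.TFreeGen
import Groth.Agent.CohDev.Coh

set_option autoImplicit false
universe u
open TorSh

namespace Groth.Agent.S4356

open AlgebraicGeometry CategoryTheory TopologicalSpace Groth.Agent.PullStalk.Sky Groth.Agent.TFreeGen
  Groth.Agent.QCoh

set_option backward.isDefEq.respectTransparency.types false

variable {X : Scheme.{u}} [IsIntegral X] {G : X.Modules}
  (i : G ⟶ (Scheme.Modules.pushforward (j X)).obj
    (Coh.structureModule (Spec (X.presheaf.stalk (genericPoint X)))))

theorem inU_surjective {U : X.Opens} (hU : genericPoint X ∈ U) : Function.Surjective (inU U) := by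
  have h1 : IsIso ((Spec (X.presheaf.stalk (genericPoint X))).presheaf.map
      (homOfLE (le_top : j X ⁻¹ᵁ U ≤ ⊤)).op) := by
    have : IsIso (homOfLE (le_top : j X ⁻¹ᵁ U ≤ ⊤)) :=
      ⟨homOfLE (preimage_eq_top hU).ge, Subsingleton.elim _ _, Subsingleton.elim _ _⟩
    infer_instance
  exact (ConcreteCategory.bijective_of_isIso ((Scheme.ΓSpecIso (X.presheaf.stalk (genericPoint X))).inv ≫
    (Spec (X.presheaf.stalk (genericPoint X))).presheaf.map (homOfLE le_top).op)).2

/-- The value in the function field of a section. -/
noncomputable def c {W : X.Opens} (hW : genericPoint X ∈ W) (m : Γ(G, W)) : X.presheaf.stalk (genericPoint X) :=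
  (inU_surjective hW (show Γ(Spec (X.presheaf.stalk (genericPoint X)), j X ⁻¹ᵁ W) from i.app W m)).choose

theorem c_spec {W : X.Opens} (hW : genericPoint X ∈ W) (m : Γ(G, W)) :
    inU W (c i hW m) = (show Γ(Spec (X.presheaf.stalk (genericPoint X)), j X ⁻¹ᵁ W) from i.app W m) :=
  (inU_surjective hW _).choose_spec

theorem c_res {W W' : X.Opens} (h : W' ≤ W) (hW' : genericPoint X ∈ W') (m : Γ(G, W)) :
    c i hW' (res G h m) = c i (h hW') m := by
  refine inU_injective hW' ?_
  rw [c_spec, ← inU_res h, c_spec]
  exact NatTrans.naturality_apply i.mapPresheaf (homOfLE h).op m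

theorem c_smul {W : X.Opens} (hW : genericPoint X ∈ W) (r : Γ(X, W)) (m : Γ(G, W)) :
    c i hW (r • m) = X.presheaf.germ W _ hW r * c i hW m := by
  refine inU_injective hW ?_
  rw [map_mul, c_spec, c_spec, inU_germ]
  exact i.app_smul r m

theorem c_zero {W : X.Opens} (hW : genericPoint X ∈ W) : c i hW (0 : Γ(G, W)) = 0 := by
  refine inU_injective hW ?_
  rw [c_spec]
  exact (map_zero (i.app W).hom).trans (map_zero (inU W)).symm

variable [Mono i]

theorem c_injective {W : X.Opens} (hW : genericPoint X ∈ W) : Function.Injective (c i (W := W) hW) := by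
  intro m m' h
  have := congrArg (inU W) h
  rw [c_spec, c_spec] at this
  exact app_injective_of_mono i W this

open AlgebraicGeometry in
open CategoryTheory in
/-- Converse assertion (the sheaf of rational functions of the integral scheme X being modelled as the
direct image of the structure sheaf of Spec of the function field under its canonical morphism to
X). On an integral scheme, a nonzero quasi-coherent sub-O_X-module of the sheaf of rational
functions is torsion-free of rank 1: every stalk is a torsion-free module over the local ring, and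
the stalk at the generic point is one-dimensional over the function field. (The published statement
does not exclude the zero submodule, whose generic stalk has dimension 0; it is excluded here.) -/
theorem result
    (X : Scheme.{u}) [IsIntegral X] (G : X.Modules) [Coh.IsQCoh G]
    (i : G ⟶ (Scheme.Modules.pushforward (X.fromSpecStalk (genericPoint X))).obj
        (Coh.structureModule (Spec (X.presheaf.stalk (genericPoint X))))) [Mono i]
    (hG : ¬ Limits.IsZero G) :
    TorSh.IsTorsionFree G ∧
      Module.finrank (X.presheaf.stalk (genericPoint X)) (G.presheaf.stalk (genericPoint X)) = 1 := by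
  have hη : ∀ {W : X.Opens} {x : X}, x ∈ W → genericPoint X ∈ W := fun {W x} hx =>
    ((genericPoint_spec X).specializes trivial).mem_open W.2 hx
  refine ⟨fun x => ?_, ?_⟩
  · refine Module.IsTorsionFree.mk fun a ha => ?_
    refine (injective_iff_map_eq_zero (DistribSMul.toAddMonoidHom _ a)).2 fun t ht => ?_
    obtain ⟨U₁, h₁, r, rfl⟩ := X.presheaf.exists_germ_eq (x := x) a
    obtain ⟨U₂, h₂, m, rfl⟩ := exists_germM_eq G x t
    let W := U₁ ⊓ U₂
    have hW : x ∈ W := ⟨h₁, h₂⟩
    have e : germM G W x hW (X.presheaf.map (homOfLE (inf_le_left : W ≤ U₁)).op r • res G inf_le_right m) = 0 := by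
      refine (germM_smul G W x hW _ _).trans (Eq.trans ?_ ht)
      exact congrArg₂ (· • ·) (X.presheaf.germ_res_apply _ x hW r) (G.presheaf.germ_res_apply _ x hW m)
    obtain ⟨V, hxV, iV, iV', e'⟩ := G.presheaf.germ_eq x hW hW _ 0 (e.trans (map_zero _).symm)
    have e2 : c i (hη hxV) (res G iV.le (X.presheaf.map (homOfLE (inf_le_left : W ≤ U₁)).op r •
        res G inf_le_right m)) = 0 := by
      refine (congrArg (c i (hη hxV)) (e'.trans (map_zero _))).trans (c_zero i _)
    rw [c_res i iV.le (hη hxV), c_smul] at e2
    rcases mul_eq_zero.1 e2 with h | h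
    · exfalso
      have h' : X.presheaf.map (homOfLE (inf_le_left : W ≤ U₁)).op r = 0 :=
        germ_injective_of_isIntegral X _ (hη hW) (h.trans (map_zero _).symm)
      refine ha.ne_zero ?_
      rw [← X.presheaf.germ_res_apply (homOfLE (inf_le_left : W ≤ U₁)) x hW r, h', map_zero]
    · have h0 : res G (inf_le_right : W ≤ U₂) m = 0 :=
        c_injective i (hη hW) (h.trans (c_zero i _).symm)
      exact (G.presheaf.germ_res_apply (homOfLE (inf_le_right : W ≤ U₂)) x hW m).symm.trans
        ((congrArg (G.presheaf.germ W x hW) h0).trans (map_zero _))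
  · letI : Field (X.presheaf.stalk (genericPoint X)) := inferInstanceAs (Field X.functionField)
    obtain ⟨t₀, ht₀⟩ : ∃ t : G.presheaf.stalk (genericPoint X), t ≠ 0 := by
      by_contra hall
      push Not at hall
      refine hG (Groth.Agent.CohDev.isZero_of_support_eq_empty (Set.eq_empty_iff_forall_notMem.2 fun x hx => hx
        (subsingleton_of_forall_eq 0 fun t => ?_)))
      obtain ⟨U, hxU, m, rfl⟩ := exists_germM_eq G x t
      obtain ⟨V, hV, iV, iV', e⟩ := G.presheaf.germ_eq (genericPoint X) (hη hxU) (hη hxU) m 0
        ((hall (germM G U _ (hη hxU) m)).trans (map_zero _).symm)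
      have hm : m = 0 := c_injective i (hη hxU) (by
        rw [c_zero, ← c_res i iV.le hV]
        exact (congrArg (c i hV) (e.trans (map_zero _))).trans (c_zero i _))
      rw [hm]
      exact map_zero _
    refine finrank_eq_one t₀ ht₀ fun t => ?_
    obtain ⟨U₁, h₁, m₁, rfl⟩ := exists_germM_eq G _ t₀
    obtain ⟨U₂, h₂, m₂, rfl⟩ := exists_germM_eq G _ t
    have hc : c i h₁ m₁ ≠ 0 := fun h => ht₀ (by
      rw [c_injective i h₁ (h.trans (c_zero i h₁).symm)]
      exact map_zero _)
    obtain ⟨U₃, h₃, r, hr⟩ := X.presheaf.exists_germ_eq (x := genericPoint X) (c i h₂ m₂ / c i h₁ m₁)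
    refine ⟨c i h₂ m₂ / c i h₁ m₁, ?_⟩
    let W := U₁ ⊓ U₂ ⊓ U₃
    have hW : genericPoint X ∈ W := ⟨⟨h₁, h₂⟩, h₃⟩
    have e : X.presheaf.map (homOfLE (inf_le_right : W ≤ U₃)).op r •
        res G (inf_le_left.trans inf_le_left : W ≤ U₁) m₁ = res G (inf_le_left.trans inf_le_right : W ≤ U₂) m₂ := by
      refine c_injective i hW ?_
      rw [c_smul, c_res, c_res, X.presheaf.germ_res_apply, hr, div_mul_cancel₀ _ hc]
    have e' := congrArg (germM G W (genericPoint X) hW) e
    rw [germM_smul, X.presheaf.germ_res_apply, hr] at e'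
    exact ((congrArg (_ • ·) (G.presheaf.germ_res_apply _ _ hW m₁).symm).trans e').trans
      (G.presheaf.germ_res_apply _ _ hW m₂)

end Groth.Agent.S4356
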