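import Groth.Statements.S4369
-- import your own Groth.Agent.* helpers here

set_option autoImplicit false
universe u
open AffSch

namespace Groth.Agent.S4369

/-- Let φ : A' -> A be a ring homomorphism such that every f in A can be written f = h φ(f') with h
invertible in A (this holds in particular when φ is surjective). Then the associated continuous map
Spec A -> Spec A' is a homeomorphism onto its image. -/
theorem result
    {A' A : Type u} [CommRing A'] [CommRing A] (φ : A' →+* A)
    (h : ∀ f : A, ∃ (u : Aˣ) (f' : A'), f = (u : A) * φ f') :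
    Topology.IsEmbedding (PrimeSpectrum.comap φ) := by
  refine ⟨⟨le_antisymm ?_ ?_⟩, fun p q hpq => ?_⟩
  · exact continuous_iff_le_induced.mp (PrimeSpectrum.continuous_comap φ)
  · refine le_of_le_of_eq ?_ PrimeSpectrum.isTopologicalBasis_basic_opens.eq_generateFrom.symm
    refine le_generateFrom ?_
    rintro _ ⟨f, rfl⟩
    obtain ⟨v, f', rfl⟩ := h f
    refine ⟨PrimeSpectrum.basicOpen f', PrimeSpectrum.isOpen_basicOpen, ?_⟩
    ext p
    simp only [Set.mem_preimage, SetLike.mem_coe, PrimeSpectrum.mem_basicOpen]
    rw [show ((v : A) * φ f' ∈ p.asIdeal) ↔ φ f' ∈ p.asIdeal from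
      p.asIdeal.unit_mul_mem_iff_mem v.isUnit]
    rfl
  · ext f
    obtain ⟨v, f', rfl⟩ := h f
    rw [p.asIdeal.unit_mul_mem_iff_mem v.isUnit, q.asIdeal.unit_mul_mem_iff_mem v.isUnit]
    exact (SetLike.ext_iff.mp (congrArg PrimeSpectrum.asIdeal hpq) f')

end Groth.Agent.S4369
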