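import Groth.Statements.S4370
import Groth.Agent.RedSub.Basic

set_option autoImplicit false
universe u
open RedSep

namespace Groth.Agent.S4370

open AlgebraicGeometry in
open CategoryTheory in
/-- Let f : X -> Y be an open immersion and let g : X_red -> Y_red be the morphism of reduced schemes
induced by f, i.e. the morphism between the closed subschemes defined by the nilradicals whose
composite with the inclusion of Y_red in Y is the inclusion of X_red in X followed by f. Then g is
an open immersion. -/
theorem result
    {X Y : Scheme.{u}} (f : X ⟶ Y) [IsOpenImmersion f]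
    (g : X.nilradical.subscheme ⟶ Y.nilradical.subscheme)
    (hg : g ≫ Y.nilradical.subschemeι = X.nilradical.subschemeι ≫ f) :
    IsOpenImmersion g := by
  have hX : IsReduced X.nilradical.subscheme := by
    rw [← Scheme.IdealSheafData.vanishingIdeal_top]; infer_instance
  have hY : IsReduced Y.nilradical.subscheme := by
    rw [← Scheme.IdealSheafData.vanishingIdeal_top]; infer_instance
  have : IsImmersion (g ≫ Y.nilradical.subschemeι) := by rw [hg]; infer_instance
  have : IsImmersion g := .of_comp g Y.nilradical.subschemeι
  refine Groth.Agent.RedSub.isOpenImmersion_of_isOpen_range g ?_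
  have hs : ∀ W : Scheme.{u}, Set.range W.nilradical.subschemeι = Set.univ := fun W => by
    rw [← Scheme.IdealSheafData.vanishingIdeal_top,
      Groth.Agent.RedSub.range_vanishingIdeal_subschemeι]
    rfl
  have e : Set.range g = Y.nilradical.subschemeι ⁻¹' Set.range f := by
    ext w
    constructor
    · rintro ⟨a, rfl⟩
      exact ⟨X.nilradical.subschemeι a, congr($hg a).symm⟩
    · rintro ⟨x, hx⟩
      obtain ⟨a, rfl⟩ := (hs X).ge (Set.mem_univ x)
      exact ⟨a, Y.nilradical.subschemeι.isEmbedding.injective ((congr($hg a)).trans hx)⟩
  rw [e]
  exact f.isOpenEmbedding.isOpen_range.preimage Y.nilradical.subschemeι.continuous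

end Groth.Agent.S4370
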