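import Groth.Statements.S4371
import Mathlib.AlgebraicGeometry.FunctionField
import Mathlib.Algebra.MvPolynomial.Division

set_option autoImplicit false
universe u
open RedSep

namespace Groth.Agent.S4371

open AlgebraicGeometry CategoryTheory in
/-- If `s` is prime and does not divide `t`, sections on `D(s) ∪ D(t)` extend. -/
lemma span_eq_top {Y : Scheme.{u}} [IsIntegral Y] [IsAffine Y] (s t : Γ(Y, ⊤)) (hs : Prime s)
    (ht : ¬ s ∣ t) (hsn : Nonempty (Y.basicOpen s)) (htn : Nonempty (Y.basicOpen t))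
    (hst : Nonempty (Y.basicOpen s ⊓ Y.basicOpen t : Y.Opens))
    (hU : IsAffineOpen (Y.basicOpen s ⊔ Y.basicOpen t)) :
    Ideal.span {s, t} = ⊤ := by
  let U := Y.basicOpen s ⊔ Y.basicOpen t
  let W := Y.basicOpen s ⊓ Y.basicOpen t
  have hUn : Nonempty U := ⟨⟨hsn.some.1, Or.inl hsn.some.2⟩⟩
  let r := Y.presheaf.map (homOfLE (le_top : U ≤ ⊤)).op
  -- every section on `U` extends
  have ext : Function.Surjective r := by
    intro a
    let as := Y.presheaf.map (homOfLE (le_sup_left : Y.basicOpen s ≤ U)).op a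
    let at' := Y.presheaf.map (homOfLE (le_sup_right : Y.basicOpen t ≤ U)).op a
    have := (isAffineOpen_top Y).isLocalization_basicOpen s
    have := (isAffineOpen_top Y).isLocalization_basicOpen t
    obtain ⟨⟨p, ⟨_, m, rfl⟩⟩, hp⟩ := IsLocalization.surj (Submonoid.powers s) as
    obtain ⟨⟨q, ⟨_, n, rfl⟩⟩, hq⟩ := IsLocalization.surj (Submonoid.powers t) at'
    dsimp only at hp hq
    change as * Y.presheaf.map _ (s ^ m) = Y.presheaf.map _ p at hp
    change at' * Y.presheaf.map _ (t ^ n) = Y.presheaf.map _ q at hq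
    have e : p * t ^ n = q * s ^ m := by
      refine map_injective_of_isIntegral Y (homOfLE (le_top : W ≤ ⊤)) ?_
      have h1 := congr(Y.presheaf.map (homOfLE (inf_le_left : W ≤ Y.basicOpen s)).op $hp)
      have h2 := congr(Y.presheaf.map (homOfLE (inf_le_right : W ≤ Y.basicOpen t)).op $hq)
      simp only [as, at', map_mul, ← CategoryTheory.comp_apply, ← Functor.map_comp] at h1 h2
      simp only [map_mul]
      rw [show (homOfLE (le_top : W ≤ ⊤)).op = _ ≫ (homOfLE (inf_le_left : W ≤ Y.basicOpen s)).op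
        from rfl]
      refine (congrArg (· * _) h1.symm).trans ?_
      refine Eq.trans ?_ (congrArg (· * _) h2)
      exact mul_right_comm _ _ _
    obtain ⟨c, rfl⟩ : s ^ m ∣ p := by
      refine hs.pow_dvd_of_dvd_mul_right m ?_ ⟨q, e.trans (mul_comm _ _)⟩
      intro h
      exact ht (hs.dvd_of_dvd_pow h)
    refine ⟨c, map_injective_of_isIntegral Y (homOfLE (le_sup_left : Y.basicOpen s ≤ U)) ?_⟩
    simp only [r, ← CategoryTheory.comp_apply, ← Functor.map_comp]
    have : IsUnit (algebraMap Γ(Y, ⊤) Γ(Y, Y.basicOpen s) (s ^ m)) :=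
      IsLocalization.map_units (M := Submonoid.powers s) _ ⟨_, m, rfl⟩
    refine this.mul_right_cancel ?_
    refine Eq.trans ?_ hp.symm
    rw [map_mul, mul_comm]
    rfl
  -- `1 = α s + β t` on `U`
  have htop : U ≤ ⨆ x : ({r s, r t} : Set Γ(Y, U)), Y.basicOpen (x : Γ(Y, U)) := by
    intro x hx
    rw [TopologicalSpace.Opens.mem_iSup]
    rcases hx with hx | hx
    · exact ⟨⟨r s, Or.inl rfl⟩, by rw [Scheme.basicOpen_res]; exact ⟨Or.inl hx, hx⟩⟩
    · exact ⟨⟨r t, Or.inr rfl⟩, by rw [Scheme.basicOpen_res]; exact ⟨Or.inr hx, hx⟩⟩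
  have h1 := hU.self_le_iSup_basicOpen_iff.mp htop
  obtain ⟨α, β, hab⟩ := Ideal.mem_span_pair.mp (h1.ge (Submodule.mem_top (x := (1 : Γ(Y, U)))))
  obtain ⟨c, rfl⟩ := ext α
  obtain ⟨d, rfl⟩ := ext β
  rw [← map_mul, ← map_mul, ← map_add, ← map_one r.hom] at hab
  rw [Ideal.eq_top_iff_one, Ideal.mem_span_pair]
  exact ⟨c, d, map_injective_of_isIntegral Y (homOfLE (le_top : U ≤ ⊤)) hab⟩

open AlgebraicGeometry in
open CategoryTheory in
/-- Let K be a field and Y = Spec K[s, t] the affine plane over K. The open subset D(s) ∪ D(t) of Y, the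
complement of the closed point s = t = 0, is not affine. -/
theorem result
    (K : Type u) [Field K] :
    ¬ IsAffineOpen (X := Spec (CommRingCat.of (MvPolynomial (Fin 2) K)))
      (PrimeSpectrum.basicOpen (MvPolynomial.X 0 : MvPolynomial (Fin 2) K) ⊔
        PrimeSpectrum.basicOpen (MvPolynomial.X 1 : MvPolynomial (Fin 2) K)) := by
  intro hU
  let A := CommRingCat.of (MvPolynomial (Fin 2) K)
  let e := (Scheme.ΓSpecIso A).symm.commRingCatIsoToRingEquiv
  let X₀ : MvPolynomial (Fin 2) K := MvPolynomial.X 0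
  let X₁ : MvPolynomial (Fin 2) K := MvPolynomial.X 1
  have hne : ∀ f : MvPolynomial (Fin 2) K, f ≠ 0 → ((Spec A).basicOpen (e f)) ≠ ⊥ := by
    intro f hf h
    rw [show e f = (Scheme.ΓSpecIso A).inv f from rfl, basicOpen_eq_of_affine] at h
    exact hf ((PrimeSpectrum.basicOpen_eq_bot_iff (R := MvPolynomial (Fin 2) K) f).mp h).eq_zero
  have hne' : ∀ f : MvPolynomial (Fin 2) K, f ≠ 0 → Nonempty ((Spec A).basicOpen (e f)) :=
    fun f hf => by
      rw [← not_isEmpty_iff]
      intro h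
      exact hne f hf (eq_bot_iff.mpr fun x hx => (h.false ⟨x, hx⟩).elim)
  have h := span_eq_top (Y := Spec A) (e X₀) (e X₁)
    ((MulEquiv.prime_iff e.toMulEquiv).mpr MvPolynomial.X_prime)
    (by rw [map_dvd_iff, MvPolynomial.X_dvd_X]; decide)
    (hne' _ (MvPolynomial.X_ne_zero 0)) (hne' _ (MvPolynomial.X_ne_zero 1))
    (by
      rw [← Scheme.basicOpen_mul, ← map_mul]
      exact hne' _ (mul_ne_zero (MvPolynomial.X_ne_zero 0) (MvPolynomial.X_ne_zero 1)))
    (by
      rw [show e X₀ = (Scheme.ΓSpecIso A).inv X₀ from rfl,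
        show e X₁ = (Scheme.ΓSpecIso A).inv X₁ from rfl, basicOpen_eq_of_affine,
        basicOpen_eq_of_affine]
      exact hU)
  have := congrArg (Ideal.map e.symm.toRingHom) h
  rw [Ideal.map_span, Ideal.map_top, Set.image_pair] at this
  simp only [RingEquiv.toRingHom_eq_coe, RingHom.coe_coe, RingEquiv.symm_apply_apply] at this
  obtain ⟨a, b, hab⟩ := Ideal.mem_span_pair.mp (this.ge (Submodule.mem_top (x := (1 : MvPolynomial (Fin 2) K))))
  have := congrArg (MvPolynomial.eval (fun _ => (0 : K))) hab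
  simp [X₀, X₁] at this

end Groth.Agent.S4371
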