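import Groth.Statements.S4372
import Groth.Agent.RedSub.Basic

set_option autoImplicit false
universe u
open RedSep

namespace Groth.Agent.S4372

open AlgebraicGeometry in
open CategoryTheory in
/-- Let h : Z -> X be an immersion with Z reduced (a reduced subscheme of X), and let W be the reduced
closed subscheme of X whose underlying space is the closure of h(Z). Then Z is an open subscheme of
W: h factors as an open immersion Z -> W followed by the closed immersion W -> X. Stated as the
existence of such a factorization through a reduced scheme W closed-immersed onto the closure of the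
image. -/
theorem result
    {Z X : Scheme.{u}} (h : Z ⟶ X) [IsImmersion h] [IsReduced Z] :
    ∃ (W : Scheme.{u}) (j : Z ⟶ W) (i : W ⟶ X), IsOpenImmersion j ∧ IsClosedImmersion i ∧
      IsReduced W ∧ Set.range i = closure (Set.range h) ∧ j ≫ i = h := by
  let C : TopologicalSpace.Closeds X := ⟨closure (Set.range h), isClosed_closure⟩
  let I := Scheme.IdealSheafData.vanishingIdeal C
  have hI : Set.range I.subschemeι = closure (Set.range h) :=
    Groth.Agent.RedSub.range_vanishingIdeal_subschemeι C
  obtain ⟨j, hj⟩ := Groth.Agent.RedSub.exists_lift_closed I.subschemeι h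
    (by rw [hI]; exact subset_closure)
  have : IsImmersion (j ≫ I.subschemeι) := hj ▸ inferInstance
  have : IsImmersion j := .of_comp j I.subschemeι
  refine ⟨I.subscheme, j, I.subschemeι, ?_, inferInstance, inferInstance, hI, hj⟩
  refine Groth.Agent.RedSub.isOpenImmersion_of_isOpen_range j ?_
  have e : Set.range j = I.subschemeι ⁻¹' coborder (Set.range h) := by
    ext w
    constructor
    · rintro ⟨z, rfl⟩
      exact subset_coborder ⟨z, congr($hj z).symm⟩
    · intro hw
      have : I.subschemeι w ∈ Set.range h := by
        rw [← coborder_inter_closure (s := Set.range h)]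
        exact ⟨hw, hI.le ⟨w, rfl⟩⟩
      obtain ⟨z, hz⟩ := this
      exact ⟨z, I.subschemeι.isEmbedding.injective ((congr($hj z)).trans hz)⟩
  rw [e]
  exact h.isLocallyClosed_range.isOpen_coborder.preimage I.subschemeι.continuous

end Groth.Agent.S4372
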