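import Groth.Statements.S4374
import Groth.Agent.Props.AmpleTensor
import Groth.Agent.LFFrame.Basic

set_option autoImplicit false
universe u
open CategoryTheory CategoryTheory.Limits AlgebraicGeometry
open EGA2

namespace Groth.Agent.S4374

/-- Let X be a quasi-compact scheme and L, L' two O_X-modules with L ⊗ L' ≅ O_X (so L' is an inverse of
L). If L and L' are both ample, then X is quasi-affine. -/
theorem result (X : Scheme.{u}) [CompactSpace X] (L L' : X.Modules)
    (hinv : ClSub.IsInverseOf L L') (hL : CohB1.IsAmple L) (hL' : CohB1.IsAmple L') : X.IsQuasiAffine := by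
  obtain ⟨φ⟩ := hinv
  have hO : CohB1.IsAmple (Coh.structureModule X) :=
    Props.AmpleTensor.isAmple_of_frameMap2 hL hL'.1 Nat.one_pos Nat.one_pos
      ((Props.AmpleTensor.FrameMap2.tensor L L').compMap (Props.AmpleFrames.FrameMap.ofIso φ))
      (fun x => let ⟨n, t, hx, _⟩ := hL'.2.2 x; ⟨n, t, hx⟩)
  refine Scheme.IsQuasiAffine.of_forall_exists_mem_basicOpen X fun z => ?_
  obtain ⟨n, s, hz, hs⟩ := hO.2.2 z
  obtain ⟨r, hr⟩ := Props.AmpleFrames.exists_fun_of_hom s
  exact ⟨r, hr ▸ hs, hr ▸ hz⟩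

end Groth.Agent.S4374
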