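import Groth.Statements.S4375
import Groth.Agent.SerreCrit.Quot

set_option autoImplicit false
universe u
open CategoryTheory CategoryTheory.Limits AlgebraicGeometry
open EGA2

namespace Groth.Agent.S4375

/-- (c') ⇒ (a): let X be a quasi-compact separated scheme. Suppose that for every n, every
quasi-coherent O_X-module F admitting a monomorphism into the free module O_X^n, and every
epimorphism p : F → F'' onto a quasi-coherent O_X-module, the map induced by p on global sections is
surjective. Then X is affine. (The published statement also allows X to be a scheme whose underlying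
space is Noetherian; this row assumes it quasi-compact and separated.) -/
theorem result (X : Scheme.{u}) [CompactSpace X] [X.IsSeparated]
    (h : ∀ (n : ℕ) (F F'' : X.Modules) (i : F ⟶ FlatMod.freeMod X n) (p : F ⟶ F''),
      Mono i → Epi p → Coh.IsQCoh F → Coh.IsQCoh F'' →
        Function.Surjective (p.val.app (Opposite.op ⊤)).hom) :
    IsAffine X := by
  refine Groth.Agent.SerreCrit.isAffine_of_closedLift fun C =>
    ⟨_, (Groth.Agent.SerreCrit.closedIdeal C).subschemeι, inferInstance,
      Groth.Agent.SerreCrit.range_closedIdeal_subschemeι C, ?_⟩
  let i : Coh.structureModule X ⟶ FlatMod.freeMod X 1 :=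
    Sigma.ι (fun _ : Fin 1 => Coh.structureModule X) 0
  have : Mono i := mono_of_mono_fac
    (show i ≫ Sigma.desc (fun _ : Fin 1 => 𝟙 (Coh.structureModule X)) = 𝟙 _ from Sigma.ι_desc _ _)
  exact Groth.Agent.SerreCrit.surjective_of_toSubscheme C (h 1 (Coh.structureModule X) _ i
    (ClSub.toSubscheme (Groth.Agent.SerreCrit.closedIdeal C)) this (Groth.Agent.SerreCrit.epi_toSubscheme C)
    (Groth.Agent.ProjTwist.isQuasicoherent_structureModule X)
    (Groth.Agent.SerreCrit.isQuasicoherent_closedQuot C))

end Groth.Agent.S4375
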