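import Groth.Statements.S4377
import Groth.Agent.SerreCrit.Quot
import Groth.Agent.AmpCrit.AffineHom
import Groth.Agent.GrModLib.EventExact

set_option autoImplicit false
universe u
open CategoryTheory CategoryTheory.Limits AlgebraicGeometry
open EGA2

namespace Groth.Agent.S4377

/-- (c') ⇒ (a): let f : X → Y be a separated quasi-compact morphism such that R¹f_*(J) = 0 (first higher
direct image of the underlying abelian sheaf) for every quasi-coherent submodule J of O_X. Then f is
an affine morphism. -/
theorem result {X Y : Scheme.{u}} (f : X ⟶ Y) [IsSeparated f] [QuasiCompact f]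
    (h : ∀ (J : X.Modules) (i : J ⟶ Coh.structureModule X), Mono i → Coh.IsQCoh J →
      Limits.IsZero ((Coh.RpushAb f 1).obj (Coh.toAb J))) :
    IsAffineHom f := by
  refine Groth.Agent.SerreCrit.isAffineHom_of_closedLift f fun C U hU =>
    ⟨_, (Groth.Agent.SerreCrit.closedIdeal C).subschemeι, inferInstance,
      Groth.Agent.SerreCrit.range_closedIdeal_subschemeι C, ?_⟩
  let I := Groth.Agent.SerreCrit.closedIdeal C
  have hm : Mono (ClSub.idealModι I) := inferInstanceAs (Mono (kernel.ι (ClSub.toSubscheme I)))
  have hq : (ClSub.idealMod I).IsQuasicoherent := Groth.Agent.AmpleLib.isQCoh_idealMod I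
  have hR := h _ (ClSub.idealModι I) hm hq
  have := Groth.Agent.SerreCrit.epi_toSubscheme C
  let S := ShortComplex.mk (ClSub.idealModι I) (ClSub.toSubscheme I) (kernel.condition _)
  have hS : S.ShortExact :=
    ShortComplex.ShortExact.mk (mono_f := hm) (epi_g := Groth.Agent.SerreCrit.epi_toSubscheme C)
      (ShortComplex.exact_of_f_is_kernel _ (kernelIsKernel _))
  let F := Scheme.Modules.restrictFunctor (f ⁻¹ᵁ U).ι
  have : Functor.PreservesZeroMorphisms F := by infer_instance
  have : PreservesFiniteLimits F := Groth.Agent.Props.SubExt.preservesFiniteLimits_restrict _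
  have : PreservesColimitsOfSize.{0, 0} F :=
    (Scheme.Modules.restrictAdjunction (f ⁻¹ᵁ U).ι).leftAdjoint_preservesColimits
  have hS' := hS.map_of_exact F
  have : Subsingleton (Coh.HH (f ⁻¹ᵁ U : X.Opens) (S.map F).X₁ 1) :=
    Groth.Agent.AmpCrit.subsingleton_restrict f (ClSub.idealMod I) hR hU
  have hs := Groth.Agent.GrModLib.topMap_g_surjective hS'
  have key : ∀ W : X.Opens, W = f ⁻¹ᵁ U → Function.Surjective (S.g.app W) →
      Function.Surjective (S.g.app (f ⁻¹ᵁ U)) := by
    rintro W rfl hW
    exact hW
  exact Groth.Agent.SerreCrit.surjective_of_toSubscheme C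
    (key _ (Scheme.Opens.ι_image_top _) hs)

end Groth.Agent.S4377
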