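import Groth.Statements.S4378
-- import your own Groth.Agent.* helpers here

set_option autoImplicit false
universe u
open CategoryTheory CategoryTheory.Limits AlgebraicGeometry
open EGA2

namespace Groth.Agent.S4378

/-- Let q : Y → S be separated and of finite type, and f : X → Y a morphism such that X is also
separated and of finite type over S through f ≫ q. Then f is proper if and only if for every scheme
S' over S the morphism X ×_S S' → Y ×_S S' induced by f is closed (as a map of topological spaces). -/
theorem result {X Y S : Scheme.{u}} (q : Y ⟶ S) (f : X ⟶ Y)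
    [IsSeparated q] [LocallyOfFiniteType q] [QuasiCompact q]
    [IsSeparated (f ≫ q)] [LocallyOfFiniteType (f ≫ q)] [QuasiCompact (f ≫ q)] :
    IsProper f ↔ ∀ (S' : Scheme.{u}) (g : S' ⟶ S),
      IsClosedMap (pullback.map (f ≫ q) g q g f (𝟙 S') (𝟙 S) (Category.comp_id (f ≫ q))
        ((Category.comp_id g).trans (Category.id_comp g).symm)).base := by
  constructor
  · intro _ S' g
    have sq : IsPullback (pullback.map (f ≫ q) g q g f (𝟙 S') (𝟙 S) (Category.comp_id (f ≫ q))
        ((Category.comp_id g).trans (Category.id_comp g).symm)) (pullback.fst (f ≫ q) g)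
        (pullback.fst q g) f := by
      refine (IsPullback.of_bot ?_ (pullback.lift_fst _ _ _).symm
        (IsPullback.of_hasPullback q g)).flip
      rw [pullback.lift_snd, Category.comp_id]
      exact IsPullback.of_hasPullback (f ≫ q) g
    have : IsProper (pullback.map (f ≫ q) g q g f (𝟙 S') (𝟙 S) (Category.comp_id (f ≫ q))
        ((Category.comp_id g).trans (Category.id_comp g).symm)) :=
      MorphismProperty.of_isPullback sq.flip ‹_›
    exact Scheme.Hom.isClosedMap _
  · intro H
    have : IsSeparated f := IsSeparated.of_comp f q
    have : LocallyOfFiniteType f := locallyOfFiniteType_of_comp f q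
    have : QuasiCompact f := QuasiCompact.of_comp f q
    have : UniversallyClosed f := by
      refine ⟨MorphismProperty.universally_mk' _ _ fun {W} y' _ ↦ ?_⟩
      suffices hs : IsClosedMap (pullback.snd f y') by
        have e : pullback.fst y' f = (pullbackSymmetry y' f).hom ≫ pullback.snd f y' :=
          (pullbackSymmetry_hom_comp_snd y' f).symm
        show IsClosedMap (pullback.fst y' f)
        rw [e, Scheme.Hom.comp_base, TopCat.coe_comp]
        exact hs.comp ((pullbackSymmetry y' f).hom.homeomorph.isClosedMap)
      intro C hC
      let j : pullback f y' ⟶ pullback (f ≫ q) (y' ≫ q) := pullback.mapDesc f y' q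
      let Γ : W ⟶ pullback q (y' ≫ q) := pullback.lift y' (𝟙 W) (by simp)
      have hΓ : Γ ≫ pullback.snd q (y' ≫ q) = 𝟙 W := pullback.lift_snd _ _ _
      have : IsClosedImmersion (Γ ≫ pullback.snd q (y' ≫ q)) := by rw [hΓ]; infer_instance
      have : IsClosedImmersion Γ := IsClosedImmersion.of_comp Γ (pullback.snd q (y' ≫ q))
      let m := pullback.map (f ≫ q) (y' ≫ q) q (y' ≫ q) f (𝟙 W) (𝟙 S) (Category.comp_id (f ≫ q))
        ((Category.comp_id _).trans (Category.id_comp _).symm)
      have hj : pullback.snd f y' ≫ Γ = j ≫ m := by
        apply pullback.hom_ext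
        · calc (pullback.snd f y' ≫ Γ) ≫ pullback.fst q (y' ≫ q)
              = pullback.snd f y' ≫ y' := (Category.assoc _ _ _).trans (congrArg _ (pullback.lift_fst _ _ _))
            _ = pullback.fst f y' ≫ f := pullback.condition.symm
            _ = (j ≫ pullback.fst (f ≫ q) (y' ≫ q)) ≫ f :=
                congrArg (· ≫ f) ((pullback.lift_fst _ _ _).trans (Category.comp_id _)).symm
            _ = j ≫ pullback.fst (f ≫ q) (y' ≫ q) ≫ f := Category.assoc _ _ _
            _ = j ≫ m ≫ pullback.fst q (y' ≫ q) := congrArg _ (pullback.lift_fst _ _ _).symm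
            _ = _ := (Category.assoc _ _ _).symm
        · calc (pullback.snd f y' ≫ Γ) ≫ pullback.snd q (y' ≫ q)
              = pullback.snd f y' := (Category.assoc _ _ _).trans
                ((congrArg _ hΓ).trans (Category.comp_id _))
            _ = j ≫ pullback.snd (f ≫ q) (y' ≫ q) :=
                ((pullback.lift_snd _ _ _).trans (Category.comp_id _)).symm
            _ = j ≫ m ≫ pullback.snd q (y' ≫ q) :=
                congrArg _ ((pullback.lift_snd _ _ _).trans (Category.comp_id _)).symm
            _ = _ := (Category.assoc _ _ _).symm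
      have h1 : IsClosed (m '' (j '' C)) := H W (y' ≫ q) _ (j.isClosedEmbedding.isClosedMap C hC)
      have h2 : m '' (j '' C) = Γ '' (pullback.snd f y' '' C) := by
        rw [Set.image_image, Set.image_image]
        refine Set.image_congr fun c _ ↦ ?_
        exact congrArg (fun a : pullback f y' ⟶ pullback q (y' ≫ q) ↦ a c) hj.symm
      rw [h2] at h1
      exact Γ.isClosedEmbedding.isClosed_iff_image_isClosed.mpr h1
    exact {}

end Groth.Agent.S4378
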