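import Groth.Statements.S4380
import Groth.Agent.AmpleLib.Functorial

set_option autoImplicit false
set_option linter.style.haveILetI false
universe u
open CategoryTheory CategoryTheory.Limits AlgebraicGeometry
open EGA2

namespace Groth.Agent.S4380

/-- Let f : X → Y be a quasi-compact morphism, L an O_X-module and (U_i) a cover of Y by open subsets.
Then L is ample relative to f if and only if, for every i, the restriction of L to f⁻¹(U_i) is ample
relative to the restriction f⁻¹(U_i) → U_i of f. -/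
theorem result {X Y : Scheme.{u}} (f : X ⟶ Y) [QuasiCompact f] (L : X.Modules)
    {ι : Type u} (U : ι → Y.Opens) (hU : ⨆ i, U i = ⊤) :
    RelAmple.IsRelAmple f L ↔ ∀ i, RelAmple.IsRelAmple (f ∣_ (U i)) (L.restrict (f ⁻¹ᵁ (U i)).ι) := by
  have key : ∀ (i : ι) (W : (U i).toScheme.Opens),
      (f ⁻¹ᵁ U i).ι ''ᵁ ((f ∣_ U i) ⁻¹ᵁ W) = f ⁻¹ᵁ ((U i).ι ''ᵁ W) :=
    fun i W ↦ image_morphismRestrict_preimage f (U i) W
  constructor
  · intro h i
    obtain ⟨-, hL, hV⟩ := AmpleLib.isRelAmple_iff.mp h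
    refine ⟨inferInstance, fun W ↦ ?_⟩
    rw [AmpleLib.isAmple_restrict_restrict_iff hL, key]
    exact hV ⟨_, W.2.image_of_isOpenImmersion _⟩
  · intro h
    have hL : PicF.IsInvertible L := AmpleLib.isInvertible_of_forall_restrict (fun i ↦ f ⁻¹ᵁ U i)
      (by rw [← Scheme.Hom.preimage_iSup, hU]; rfl) fun i ↦ AmpleLib.isInvertible_of_isRelAmple (h i)
    refine AmpleLib.isRelAmple_of_cover f
      (fun p : Σ i, (U i).toScheme.affineOpens ↦ (U p.1).ι ''ᵁ p.2.1) ?_ hL fun p ↦ ?_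
    · intro y _
      obtain ⟨i, hi⟩ := TopologicalSpace.Opens.mem_iSup.mp (hU.ge (trivial : y ∈ (⊤ : Y.Opens)))
      obtain ⟨W, hW, hyW, -⟩ := exists_isAffineOpen_mem_and_subset (X := (U i).toScheme)
        (x := ⟨y, hi⟩) (U := ⊤) trivial
      exact TopologicalSpace.Opens.mem_iSup.mpr ⟨⟨i, W, hW⟩, ⟨⟨y, hi⟩, hyW, rfl⟩⟩
    · obtain ⟨i, W⟩ := p
      have := (h i).2 W
      rwa [AmpleLib.isAmple_restrict_restrict_iff hL, key] at this

end Groth.Agent.S4380
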