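import Groth.Statements.S4382
import Groth.Agent.AmpleLib.GenOn
import Groth.Agent.S2297

set_option autoImplicit false
set_option linter.style.haveILetI false
universe u
open CategoryTheory CategoryTheory.Limits AlgebraicGeometry
open EGA2

namespace Groth.Agent.S4382

/-- Let X be a quasi-compact separated scheme, f : X → Y a separated quasi-compact morphism and L an
invertible O_X-module. Then L is ample relative to f if and only if for every quasi-coherent
O_X-module F of finite type there is n₀ > 0 such that for every n ≥ n₀ the canonical morphism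
f^*(f_*(F ⊗ L^{⊗n})) → F ⊗ L^{⊗n} (the counit of the adjunction between f^* and f_*) is an
epimorphism. (The published statement also allows X to be a scheme whose underlying space is
Noetherian; this row assumes X quasi-compact and separated.) -/
theorem result {X Y : Scheme.{u}} [CompactSpace X] [X.IsSeparated] (f : X ⟶ Y)
    [IsSeparated f] [QuasiCompact f] (L : X.Modules) (hL : PicF.IsInvertible L) :
    RelAmple.IsRelAmple f L ↔ ∀ F : X.Modules, Coh.IsQCoh F → CohB1.IsFT F →
      ∃ n₀ : ℕ, 0 < n₀ ∧ ∀ n : ℕ, n₀ ≤ n →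
        Epi ((Scheme.Modules.pullbackPushforwardAdjunction f).counit.app (CohB1.tensorMod F (CohB1.tensorPow L n))) := by
  constructor
  · intro hA F hF hFT
    obtain ⟨-, -, hV⟩ := AmpleLib.isRelAmple_iff.mp hA
    choose V hVa hxV _ using fun x : X =>
      exists_isAffineOpen_mem_and_subset (X := Y) (x := f x) (U := ⊤) trivial
    obtain ⟨t, ht⟩ := isCompact_univ.elim_finite_subcover
      (fun x : X => ((f ⁻¹ᵁ V x : X.Opens) : Set X)) (fun x => (f ⁻¹ᵁ V x).2)
      fun x _ => Set.mem_iUnion.mpr ⟨x, hxV x⟩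
    choose N hN using fun p : t => AmpleLib.eventually_spanAt hL (hV ⟨V p.1, hVa p.1⟩)
      (f.isQuasiSeparated_preimage (hVa p.1).isQuasiSeparated) hF hFT
    obtain ⟨N₀, hN₀⟩ : ∃ N₀, ∀ p, N p ≤ N₀ := Finite.exists_le N
    refine ⟨N₀ + 1, Nat.succ_pos _, fun n hn => AmpleLib.epi_counit_of_spanAt f fun x => ?_⟩
    obtain ⟨y, hy, hxy⟩ := Set.mem_iUnion₂.mp (ht (Set.mem_univ x))
    exact ⟨V y, hxy, fun W hxW m => hN ⟨y, hy⟩ n ((hN₀ _).trans (Nat.le_of_succ_le hn)) x hxy W hxW m⟩
  · intro h
    refine AmpleLib.isRelAmple_of_ideals f hL fun I hI => ?_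
    haveI : Coh.IsQCoh (ClSub.idealMod I) := AmpleLib.isQCoh_idealMod I
    obtain ⟨n, hn, hepi⟩ := h (ClSub.idealMod I) inferInstance (AmpleLib.isFT_idealMod hI)
    haveI : Coh.IsQCoh (CohB1.tensorPow L n) :=
      ProjTwist.isQCoh_of_isInvertible (AmpleLib.isInvertible_tensorPow hL n)
    exact ⟨n, hn, fun V hV x hx W hxW m => AmpleLib.spanAt_eq_top_of_epi f
      (S2297.result _ _).1 (hepi n le_rfl) hV hx hxW m⟩

end Groth.Agent.S4382
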