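import Groth.Statements.S4388
import Groth.Agent.AmpleLib.Tensor

set_option autoImplicit false
set_option linter.style.haveILetI false
universe u
open CategoryTheory CategoryTheory.Limits AlgebraicGeometry
open EGA2

namespace Groth.Agent.S4388

/-- Let f : X → Y be a quasi-compact morphism, L an O_X-module ample relative to f and L' an invertible
O_X-module such that, for some n > 0, the canonical morphism f^*(f_*(L'^{⊗n})) → L'^{⊗n} (counit of
the adjunction between f^* and f_*) is an epimorphism. Then L ⊗ L' is ample relative to f. -/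
theorem result {X Y : Scheme.{u}} (f : X ⟶ Y) [QuasiCompact f] (L L' : X.Modules)
    (hL : RelAmple.IsRelAmple f L) (hL' : PicF.IsInvertible L') (n : ℕ) (hn : 0 < n)
    (hepi : Epi ((Scheme.Modules.pullbackPushforwardAdjunction f).counit.app (CohB1.tensorPow L' n))) :
    RelAmple.IsRelAmple f (CohB1.tensorMod L L') := by
  obtain ⟨-, hLi, hV⟩ := AmpleLib.isRelAmple_iff.mp hL
  haveI := AmpleLib.isSeparated_of_isRelAmple hL
  have hM := AmpleLib.isInvertible_tensorPow hL' n
  refine AmpleLib.isRelAmple_iff.mpr ⟨inferInstance, AmpleLib.isInvertible_tensorMod hLi hL',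
    fun V => AmpleLib.ampleOn_tensor hLi hL' (hV V) fun x hx => ?_⟩
  obtain ⟨τ, hτ⟩ := AmpleLib.exists_locus_mem hM hx fun W hxW m =>
    AmpleLib.spanAt_eq_top_of_epi f (ProjTwist.isQCoh_of_isInvertible hM) hepi V.2 hx hxW m
  exact ⟨n, τ, hn, hτ⟩

end Groth.Agent.S4388
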