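import Groth.Statements.S4392
import Groth.Agent.EGA2Gr.Irrelevant

set_option autoImplicit false
universe u
open EGA2

namespace Groth.Agent.S4392

/-- Let S be a ring graded in nonnegative degrees which is an S_0-algebra of finite type, and M a
finitely generated graded S-module, graded in nonnegative degrees. Then there exist an integer n₁
and an integer h > 0 such that M_{n+h} = S_h M_n for every n ≥ n₁. (The published statement allows M
graded in all integer degrees; this row takes M graded in nonnegative degrees.) -/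
theorem result {R A : Type u} [CommRing R] [CommRing A] [Algebra R A] (𝒜 : ℕ → Submodule R A) [GradedAlgebra 𝒜] [Algebra.FiniteType (𝒜 0) A]
    {M : Type u} [AddCommGroup M] [Module R M] [Module A M] [IsScalarTower R A M] (ℳ : ℕ → Submodule R M) [DirectSum.Decomposition ℳ] [SetLike.GradedSMul 𝒜 ℳ] [Module.Finite A M] :
    ∃ (n₁ h : ℕ), 0 < h ∧ ∀ n : ℕ, n₁ ≤ n → ℳ (n + h) = (𝒜 h : Submodule R A) • (ℳ n : Submodule R M) := by
  classical
  obtain ⟨D, hD, n₀, h⟩ := EGA2Gr.exists_degree_add_eq_mul 𝒜
  obtain ⟨G, hG⟩ := (Module.Finite.fg_top : (⊤ : Submodule A M).FG)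
  let Z : Finset M := G.biUnion fun g ↦
    (DirectSum.decompose ℳ g).support.image fun i ↦ (DirectSum.decompose ℳ g i : M)
  have hZ : ∀ z ∈ Z, ∃ i, z ∈ ℳ i := fun z hz ↦ by
    obtain ⟨g, -, hz⟩ := Finset.mem_biUnion.mp hz
    obtain ⟨i, -, rfl⟩ := Finset.mem_image.mp hz
    exact ⟨i, SetLike.coe_mem _⟩
  choose! deg hdeg using hZ
  have htop : Submodule.span A (Z : Set M) = ⊤ := by
    rw [← top_le_iff, ← hG, Submodule.span_le]
    intro g hg
    rw [← DirectSum.sum_support_decompose ℳ g]
    exact sum_mem fun i hi ↦ Submodule.subset_span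
      (Finset.mem_biUnion.mpr ⟨g, hg, Finset.mem_image.mpr ⟨i, hi, rfl⟩⟩)
  refine ⟨Z.sup deg + n₀, D, hD, fun n hn ↦ le_antisymm ?_ ?_⟩
  · intro y hy
    refine EGA2Gr.mem_of_forall_generators 𝒜 ℳ hdeg htop
      (P := ((𝒜 D : Submodule R A) • ℳ n).toAddSubmonoid) ?_ hy
    intro z hz i hi a ha
    have hle : deg z ≤ Z.sup deg := Finset.le_sup hz
    have ha' : a ∈ 𝒜 D * 𝒜 (i - D) := by
      rw [← h _ (by omega), Nat.sub_add_cancel (by omega)]; exact ha
    show a • z ∈ (𝒜 D : Submodule R A) • ℳ n
    clear ha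
    induction ha' using Submodule.mul_induction_on' with
    | mem_mul_mem p hp q hq =>
      rw [mul_smul]
      refine Submodule.smul_mem_smul hp ?_
      have hqz : q • z ∈ ℳ (i - D + deg z) := SetLike.GradedSMul.smul_mem hq (hdeg z hz)
      rwa [show i - D + deg z = n by omega] at hqz
    | add p _ q _ hp hq =>
      rw [add_smul]
      exact add_mem hp hq
  · rw [Submodule.smul_le]
    intro a ha x hx
    rw [add_comm n]
    exact SetLike.GradedSMul.smul_mem ha hx

end Groth.Agent.S4392
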