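import Groth.Statements.S4393
import Groth.Agent.EGA2Gr.Irrelevant

set_option autoImplicit false
universe u
open EGA2

namespace Groth.Agent.S4393

/-- Let S be a ring graded in nonnegative degrees which is an S_0-algebra of finite type. Then there is
an integer h > 0 such that S_{mh} = (S_h)^m (the S_0-submodule spanned by m-fold products of
elements of S_h) for every m > 0. -/
theorem result {R A : Type u} [CommRing R] [CommRing A] [Algebra R A] (𝒜 : ℕ → Submodule R A) [GradedAlgebra 𝒜] [Algebra.FiniteType (𝒜 0) A] :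
    ∃ h : ℕ, 0 < h ∧ ∀ m : ℕ, 0 < m → 𝒜 (m * h) = (𝒜 h : Submodule R A) ^ m := by
  obtain ⟨D, hD, n₀, h⟩ := EGA2Gr.exists_degree_add_eq_mul 𝒜
  refine ⟨(n₀ + 1) * D, by positivity, fun m hm ↦ ?_⟩
  have hstep : ∀ k n, n₀ ≤ n → 𝒜 (n + k * D) = 𝒜 D ^ k * 𝒜 n := by
    intro k n hn
    induction k with
    | zero => simp
    | succ k ih =>
      rw [Nat.succ_mul, ← add_assoc, h _ (le_trans hn (Nat.le_add_right _ _)), ih, pow_succ',
        mul_assoc]
  have hle : ∀ k, (𝒜 D : Submodule R A) ^ k ≤ 𝒜 (k * D) := by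
    intro k
    induction k with
    | zero =>
      rw [pow_zero, Nat.zero_mul, Submodule.one_le]
      exact SetLike.one_mem_graded 𝒜
    | succ k ih =>
      rw [pow_succ, Nat.succ_mul]
      refine (mul_le_mul' ih le_rfl).trans (Submodule.mul_le.mpr fun p hp q hq ↦ ?_)
      exact SetLike.mul_mem_graded hp hq
  set h' := (n₀ + 1) * D with hh'
  have hn₀ : n₀ ≤ h' := le_trans (Nat.le_succ n₀) (Nat.le_mul_of_pos_right _ hD)
  obtain ⟨m, rfl⟩ : ∃ k, m = k + 1 := ⟨m - 1, by omega⟩
  refine le_antisymm ?_ ?_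
  · rw [show (m + 1) * h' = h' + (m * (n₀ + 1)) * D by rw [hh']; ring, hstep _ _ hn₀, pow_succ,
      mul_comm m (n₀ + 1), pow_mul]
    gcongr
    exact hle _
  · clear hm
    generalize m + 1 = k
    induction k with
    | zero =>
      rw [pow_zero, Nat.zero_mul, Submodule.one_le]
      exact SetLike.one_mem_graded 𝒜
    | succ k ih =>
      rw [pow_succ, Nat.succ_mul]
      refine (mul_le_mul' ih le_rfl).trans (Submodule.mul_le.mpr fun p hp q hq ↦ ?_)
      exact SetLike.mul_mem_graded hp hq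

end Groth.Agent.S4393
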