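import Groth.Statements.S4395
import Mathlib.RingTheory.GradedAlgebra.Radical
-- import your own Groth.Agent.* helpers here

set_option autoImplicit false
universe u
open EGA2

namespace Groth.Agent.S4395

/-- Let S be a ring graded in nonnegative degrees, n₀ > 0 an integer and, for every n ≥ n₀, p_n an
additive subgroup of S_n. Then there is a graded prime ideal p of S not containing S_+ with p ∩ S_n
= p_n for all n ≥ n₀ if and only if: (1) S_m p_n ⊆ p_{m+n} for all m ≥ 0 and n ≥ n₀; (2) for m ≥ n₀,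
n ≥ n₀, f ∈ S_m, g ∈ S_n, fg ∈ p_{m+n} implies f ∈ p_m or g ∈ p_n; (3) p_n ≠ S_n for at least one n
≥ n₀. Moreover such a graded prime ideal is unique. -/
theorem result {R A : Type u} [CommRing R] [CommRing A] [Algebra R A] (𝒜 : ℕ → Submodule R A) [GradedAlgebra 𝒜]
    (n₀ : ℕ) (hn₀ : 0 < n₀) (p : ℕ → AddSubgroup A) (hp : ∀ n : ℕ, n₀ ≤ n → (p n : Set A) ⊆ 𝒜 n) :
    ((∃ 𝔭 : HomogeneousIdeal 𝒜, 𝔭.toIdeal.IsPrime ∧ ¬ HomogeneousIdeal.irrelevant 𝒜 ≤ 𝔭 ∧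
        ∀ n : ℕ, n₀ ≤ n → (𝔭.toIdeal : Set A) ∩ 𝒜 n = p n) ↔
      ((∀ m n : ℕ, n₀ ≤ n → ∀ a ∈ 𝒜 m, ∀ b ∈ p n, a * b ∈ p (m + n)) ∧
        (∀ m n : ℕ, n₀ ≤ m → n₀ ≤ n → ∀ f ∈ 𝒜 m, ∀ g ∈ 𝒜 n, f * g ∈ p (m + n) → f ∈ p m ∨ g ∈ p n) ∧
        ∃ n : ℕ, n₀ ≤ n ∧ (p n : Set A) ≠ 𝒜 n)) ∧
    ∀ 𝔭 𝔮 : HomogeneousIdeal 𝒜, 𝔭.toIdeal.IsPrime → 𝔮.toIdeal.IsPrime →
      ¬ HomogeneousIdeal.irrelevant 𝒜 ≤ 𝔭 → ¬ HomogeneousIdeal.irrelevant 𝒜 ≤ 𝔮 →
      (∀ n : ℕ, n₀ ≤ n → (𝔭.toIdeal : Set A) ∩ 𝒜 n = p n) → (∀ n : ℕ, n₀ ≤ n → (𝔮.toIdeal : Set A) ∩ 𝒜 n = p n) →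
      𝔭 = 𝔮 := by
  classical
  have exists_f : ∀ 𝔭 : HomogeneousIdeal 𝒜, 𝔭.toIdeal.IsPrime → ¬ HomogeneousIdeal.irrelevant 𝒜 ≤ 𝔭 →
      (∀ n : ℕ, n₀ ≤ n → (𝔭.toIdeal : Set A) ∩ 𝒜 n = p n) → ∃ n, n₀ ≤ n ∧ ∃ f ∈ 𝒜 n, f ∉ p n := by
    intro 𝔭 hP hirr heq
    by_contra hcon
    push_neg at hcon
    apply hirr
    intro x hx
    show x ∈ 𝔭.toIdeal
    rw [← DirectSum.sum_support_decompose 𝒜 x]
    refine Ideal.sum_mem _ fun i hi => ?_
    have hi0 : i ≠ 0 := fun h0 => by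
      subst h0
      refine (DFinsupp.mem_support_iff.1 hi) (Subtype.ext ?_)
      have hx' := (HomogeneousIdeal.mem_irrelevant_iff 𝒜 x).1 hx
      simpa using hx'
    refine hP.mem_of_pow_mem n₀ ?_
    have hmem : ((DirectSum.decompose 𝒜 x i : 𝒜 i) : A) ^ n₀ ∈ 𝒜 (n₀ • i) :=
      SetLike.pow_mem_graded n₀ (DirectSum.decompose 𝒜 x i).2
    have hle : n₀ ≤ n₀ • i := by simpa using Nat.le_mul_of_pos_right n₀ (Nat.pos_of_ne_zero hi0)
    have h' := hcon _ hle _ hmem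
    rw [← SetLike.mem_coe, ← heq _ hle] at h'
    exact h'.1
  refine ⟨⟨?_, ?_⟩, ?_⟩
  · rintro ⟨𝔭, hP, hirr, heq⟩
    have hmem : ∀ n, n₀ ≤ n → ∀ a, a ∈ p n ↔ a ∈ 𝔭.toIdeal ∧ a ∈ 𝒜 n := fun n hn a => by
      rw [← SetLike.mem_coe, ← heq n hn]; rfl
    refine ⟨fun m n hn a ha b hb => ?_, fun m n hm hn f hf g hg hfg => ?_, ?_⟩
    · obtain ⟨hb1, hb2⟩ := (hmem n hn b).1 hb
      exact (hmem _ (hn.trans (Nat.le_add_left n m)) _).2 ⟨Ideal.mul_mem_left _ a hb1, SetLike.mul_mem_graded ha hb2⟩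
    · rcases hP.mem_or_mem ((hmem _ (hm.trans (Nat.le_add_right m n)) _).1 hfg).1 with h | h
      · exact Or.inl ((hmem m hm f).2 ⟨h, hf⟩)
      · exact Or.inr ((hmem n hn g).2 ⟨h, hg⟩)
    · obtain ⟨n, hn, f, hf, hfp⟩ := exists_f 𝔭 hP hirr heq
      exact ⟨n, hn, fun h => hfp (by rw [← SetLike.mem_coe, h]; exact hf)⟩
  · rintro ⟨h1, h2, n, hn, hne⟩
    obtain ⟨f, hf, hfp⟩ := Set.exists_of_ssubset ((hp n hn).ssubset_of_ne hne)
    let cond : A → Prop := fun x => ∀ m, ((DirectSum.decompose 𝒜 x m : 𝒜 m) : A) * f ∈ p (m + n)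
    have chom : ∀ i, ∀ a ∈ 𝒜 i, (cond a ↔ a * f ∈ p (i + n)) := by
      intro i a ha
      refine ⟨fun h => by simpa [DirectSum.decompose_of_mem_same 𝒜 ha] using h i, fun h m => ?_⟩
      by_cases hm : i = m
      · subst hm; rwa [DirectSum.decompose_of_mem_same 𝒜 ha]
      · rw [DirectSum.decompose_of_mem_ne 𝒜 ha hm, zero_mul]; exact zero_mem _
    have cadd : ∀ x y, cond x → cond y → cond (x + y) := fun x y hx hy m => by
      rw [DirectSum.decompose_add, DirectSum.add_apply, Submodule.coe_add, add_mul]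
      exact add_mem (hx m) (hy m)
    have czero : cond 0 := fun m => by simp
    have cmul : ∀ r x, cond x → cond (r * x) := by
      intro r x hx
      rw [← DirectSum.sum_support_decompose 𝒜 x, Finset.mul_sum]
      refine Finset.sum_induction _ cond cadd czero fun i _ => ?_
      induction r using DirectSum.Decomposition.inductionOn 𝒜 with
      | zero => simpa using czero
      | @homogeneous j a =>
        refine (chom (j + i) _ (SetLike.mul_mem_graded a.2 (DirectSum.decompose 𝒜 x i).2)).2 ?_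
        rw [mul_assoc, add_assoc]
        exact h1 j (i + n) (hn.trans (Nat.le_add_left n i)) _ a.2 _ (hx i)
      | add r s hr hs => rw [add_mul]; exact cadd _ _ hr hs
    let I : Ideal A := { carrier := setOf cond, add_mem' := fun hx hy => cadd _ _ hx hy, zero_mem' := czero, smul_mem' := cmul }
    have hI : I.IsHomogeneous 𝒜 := fun i x hx => (chom i _ (DirectSum.decompose 𝒜 x i).2).2 (hx i)
    have hfI : f ∉ I := fun h => by
      rcases h2 n n hn hn f hf f hf ((chom n f hf).1 h) with h' | h' <;> exact hfp h'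
    refine ⟨⟨I, hI⟩, ?_, ?_, ?_⟩
    · refine Ideal.IsHomogeneous.isPrime_of_homogeneous_mem_or_mem hI (fun h => hfI ((Ideal.eq_top_iff_one I).1 h |> fun h1 => by simpa using I.mul_mem_left f h1)) ?_
      rintro a b ⟨i, ha⟩ ⟨j, hb⟩ hab
      have h := (chom (i + j) _ (SetLike.mul_mem_graded ha hb)).1 hab
      have h' : (a * f) * (b * f) ∈ p ((i + n) + (j + n)) := by
        rw [show i + n + (j + n) = n + (i + j + n) by omega, show a * f * (b * f) = f * (a * b * f) by ring]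
        exact h1 n (i + j + n) (hn.trans (Nat.le_add_left n (i + j))) f hf _ h
      rcases h2 (i + n) (j + n) (hn.trans (Nat.le_add_left n i)) (hn.trans (Nat.le_add_left n j)) _
        (SetLike.mul_mem_graded ha hf) _ (SetLike.mul_mem_graded hb hf) h' with h'' | h''
      · exact Or.inl ((chom i a ha).2 h'')
      · exact Or.inr ((chom j b hb).2 h'')
    · exact fun h => hfI (h (HomogeneousIdeal.mem_irrelevant_of_mem 𝒜 (hn₀.trans_le hn) hf))
    · intro m hm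
      ext a
      constructor
      · rintro ⟨ha, ham⟩
        exact (h2 m n hm hn a ham f hf ((chom m a ham).1 ha)).resolve_right hfp
      · intro ha
        refine ⟨(chom m a (hp m hm ha)).2 ?_, hp m hm ha⟩
        rw [mul_comm, add_comm]
        exact h1 n m hm f hf a ha
  · intro 𝔭 𝔮 hP hQ hP' hQ' heP heQ
    obtain ⟨n, hn, f, hf, hfp⟩ := exists_f 𝔭 hP hP' heP
    have aux : ∀ 𝔞 𝔟 : HomogeneousIdeal 𝒜, 𝔟.toIdeal.IsPrime →
        (∀ n : ℕ, n₀ ≤ n → (𝔞.toIdeal : Set A) ∩ 𝒜 n = p n) →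
        (∀ n : ℕ, n₀ ≤ n → (𝔟.toIdeal : Set A) ∩ 𝒜 n = p n) → 𝔞 ≤ 𝔟 := by
      intro 𝔞 𝔟 hb hea heb x hx
      show x ∈ 𝔟.toIdeal
      rw [← DirectSum.sum_support_decompose 𝒜 x]
      refine Ideal.sum_mem _ fun i _ => ?_
      have hxi : ((DirectSum.decompose 𝒜 x i : 𝒜 i) : A) ∈ 𝔞.toIdeal := 𝔞.isHomogeneous i hx
      have hle : n₀ ≤ i + n := hn.trans (Nat.le_add_left n i)
      have h3 : ((DirectSum.decompose 𝒜 x i : 𝒜 i) : A) * f ∈ p (i + n) := by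
        rw [← SetLike.mem_coe, ← hea _ hle]
        exact ⟨Ideal.mul_mem_right _ _ hxi, SetLike.mul_mem_graded (DirectSum.decompose 𝒜 x i).2 hf⟩
      rw [← SetLike.mem_coe, ← heb _ hle] at h3
      refine (hb.mem_or_mem h3.1).resolve_right fun h4 => hfp ?_
      rw [← SetLike.mem_coe, ← heb n hn]
      exact ⟨h4, hf⟩
    exact le_antisymm (aux 𝔭 𝔮 hQ heP heQ) (aux 𝔮 𝔭 hP heQ heP)

end Groth.Agent.S4395
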