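import Groth.Statements.S4396
import Groth.Agent.ProjSpec.Veronese
import Groth.Agent.ProjMorph.Chart
import Groth.Agent.ZetaLib.ProjPoints

set_option autoImplicit false
universe u
open AlgebraicGeometry
open EGA2

namespace Groth.Agent.S4396

/-- Let S be a ring graded in nonnegative degrees, d > 0, and S^{(d)} the graded ring whose degree-n
part is S_{nd} (given here as any graded ring S' with an injective algebra homomorphism φ : S' → S
carrying S'_n onto S_{nd} for every n); let f' ∈ S'_1, with image f = φ(f') ∈ S_d. Then there is a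
ring isomorphism between the degree-zero homogeneous localization S_(f) and the quotient S'/(f' -
1)S', whose inverse sends the class of an element x of S'_n to the fraction φ(x)/f^n. (The module
part of the published statement is not stated here.) -/
theorem result {R A : Type u} [CommRing R] [CommRing A] [Algebra R A] (𝒜 : ℕ → Submodule R A) [GradedAlgebra 𝒜]
    {B : Type u} [CommRing B] [Algebra R B] (ℬ : ℕ → Submodule R B) [GradedAlgebra ℬ]
    (d : ℕ) (hd : 0 < d) (φ : B →ₐ[R] A) (hφ : Function.Injective φ)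
    (hdeg : ∀ n : ℕ, Submodule.map φ.toLinearMap (ℬ n) = 𝒜 (n * d)) (f' : B) (hf' : f' ∈ ℬ 1) :
    ∃ e : HomogeneousLocalization.Away 𝒜 (φ f') ≃+* B ⧸ Ideal.span {f' - 1},
      ∀ (n : ℕ) (x : B), x ∈ ℬ n →
        (e.symm (Ideal.Quotient.mk (Ideal.span {f' - 1}) x)).val =
          Localization.mk (φ x) ⟨φ f' ^ n, pow_mem (Submonoid.mem_powers (φ f')) n⟩ := by
  classical
  let dh := Groth.Agent.ZetaLib.dehom ℬ hf'
  have hf1 : dh f' = 1 := by
    rw [Groth.Agent.ZetaLib.dehom_of_mem ℬ hf' hf']
    refine HomogeneousLocalization.val_injective _ ?_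
    simp [Localization.mk_self ⟨f', Submonoid.mem_powers f'⟩]
  have hI : ∀ b ∈ Ideal.span {f' - 1}, dh b = 0 := by
    intro b hb
    obtain ⟨c, rfl⟩ := Ideal.mem_span_singleton'.1 hb
    rw [map_mul, map_sub, hf1, map_one, sub_self, mul_zero]
  let q : B →+* B ⧸ Ideal.span {f' - 1} := Ideal.Quotient.mk _
  have hq : q f' = 1 := Ideal.Quotient.eq.2 (Ideal.subset_span rfl)
  have hu : IsUnit (q f') := hq ▸ isUnit_one
  have hinv : ∀ b, Groth.Agent.ProjMorph.liftAway ℬ q hu (dh b) = q b := by
    intro b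
    rw [← DirectSum.sum_support_decompose ℬ b]
    simp only [map_sum]
    refine Finset.sum_congr rfl fun i _ => ?_
    have h := Groth.Agent.ProjMorph.liftAway_mk (𝒜 := ℬ) q hu hf' i (DirectSum.decompose ℬ b i : B) (by simp)
    rw [hq, one_pow, mul_one] at h
    exact (congrArg _ (Groth.Agent.ZetaLib.dehom_of_mem ℬ hf' (SetLike.coe_mem _))).trans h
  have hbij : Function.Bijective (Ideal.Quotient.lift (Ideal.span {f' - 1}) dh hI) := by
    refine ⟨Function.LeftInverse.injective (g := Groth.Agent.ProjMorph.liftAway ℬ q hu) fun y => ?_, fun z => ?_⟩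
    · obtain ⟨b, rfl⟩ := Ideal.Quotient.mk_surjective y
      rw [Ideal.Quotient.lift_mk]
      exact hinv b
    · obtain ⟨b, rfl⟩ := Groth.Agent.ZetaLib.dehom_surjective ℬ hf' z
      exact ⟨q b, Ideal.Quotient.lift_mk _ _ _⟩
  refine ⟨(RingEquiv.ofBijective _ (Groth.Agent.ProjSpec.verAway_bijective hdeg hφ hf')).symm.trans
    (RingEquiv.ofBijective _ hbij).symm, fun n x hx => ?_⟩
  rw [RingEquiv.symm_trans_apply, RingEquiv.symm_symm, RingEquiv.symm_symm]
  show (Groth.Agent.ProjSpec.verAway hdeg hf' (dh x)).val = _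
  rw [show dh x = _ from Groth.Agent.ZetaLib.dehom_of_mem ℬ hf' hx,
    Groth.Agent.ProjSpec.verAway_mk hdeg hf' n x (by simpa using hx)
      (Groth.Agent.ProjSpec.smul_mem hdeg (by simpa using hx)), HomogeneousLocalization.Away.val_mk]

end Groth.Agent.S4396
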