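import Groth.Statements.S4401
import Groth.Agent.ProjTilde.GlobSec

set_option autoImplicit false
universe u
open CategoryTheory CategoryTheory.Limits AlgebraicGeometry
open EGA2

namespace Groth.Agent.S4401

/-- Let S be a ring graded in nonnegative degrees whose irrelevant ideal S_+ is generated by finitely
many elements of degree one, and X = Proj S. Then for every integer n ≥ 0 there exist an integer k
and an epimorphism of O_X-modules O_X^k → O_X(n). -/
theorem result {R A : Type u} [CommRing R] [CommRing A] [Algebra R A] (𝒜 : ℕ → Submodule R A) [GradedAlgebra 𝒜]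
    (s : Finset A) (hs1 : ∀ f ∈ s, f ∈ 𝒜 1)
    (hs : (HomogeneousIdeal.irrelevant 𝒜).toIdeal = Ideal.span (s : Set A)) (n : ℕ) :
    ∃ (k : ℕ) (p : FlatMod.freeMod (Proj 𝒜) k ⟶ Twist.twist 𝒜 (n : ℤ)), Epi p := by
  classical
  refine ⟨s.card, _, Groth.Agent.ProjTilde.epi_desc_of_isGen
    (fun i => Groth.Agent.ProjTilde.powSec 𝒜 (hs1 _ (s.equivFin.symm i).2) n)
    (fun i => Proj.basicOpen 𝒜 (s.equivFin.symm i).1) ?_
    fun i => Groth.Agent.ProjTilde.isGen_powSec (hs1 _ (s.equivFin.symm i).2) n le_rfl⟩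
  intro x _
  by_contra hx
  refine (show ProjectiveSpectrum 𝒜 from x).not_irrelevant_le
    (show (HomogeneousIdeal.irrelevant 𝒜).toIdeal ≤ _ from ?_)
  rw [hs]
  refine Ideal.span_le.mpr fun f hf => by_contra fun hfx => hx ?_
  exact TopologicalSpace.Opens.mem_iSup.mpr ⟨s.equivFin ⟨f, hf⟩,
    by simp only [Equiv.symm_apply_apply]; exact hfx⟩

end Groth.Agent.S4401
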