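import Groth.Statements.S4404
import Groth.Agent.EGA2Gr.Irrelevant

set_option autoImplicit false
universe u
open EGA2

namespace Groth.Agent.S4404

/-- (a) ⇔ (b): let S be a ring graded in nonnegative degrees and E a subset of the irrelevant ideal S_+.
Then V_+(E) is the whole of Proj S if and only if every element of E is nilpotent. -/
theorem result {R A : Type u} [CommRing R] [CommRing A] [Algebra R A] (𝒜 : ℕ → Submodule R A) [GradedAlgebra 𝒜]
    (E : Set A) (hE : E ⊆ (HomogeneousIdeal.irrelevant 𝒜).toIdeal) :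
    ProjectiveSpectrum.zeroLocus 𝒜 E = Set.univ ↔ ∀ e ∈ E, IsNilpotent e := by
  constructor
  · intro h e he
    have := EGA2Gr.mem_radical_of_forall 𝒜 (Ideal.IsHomogeneous.bot 𝒜) (hE he) fun x _ ↦ by
      have hx : x ∈ ProjectiveSpectrum.zeroLocus 𝒜 E := h ▸ trivial
      exact hx he
    simpa [Ideal.radical, IsNilpotent] using this
  · intro h
    refine Set.eq_univ_of_forall fun x e he ↦ ?_
    obtain ⟨n, hn⟩ := h e he
    exact x.isPrime.mem_of_pow_mem n (hn ▸ zero_mem _)

end Groth.Agent.S4404
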