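import Groth.Statements.S4409
import Groth.Agent.AmpleLib.GenOn
import Groth.Agent.Props.AmpleBase

set_option autoImplicit false
set_option linter.style.haveILetI false
universe u
open CategoryTheory CategoryTheory.Limits AlgebraicGeometry
open EGA2

namespace Groth.Agent.S4409

/-- (a) ⇔ (d): let f : X → Y be a quasi-compact morphism. Then f is quasi-affine (the preimage of every
affine open of Y is a quasi-affine scheme) if and only if f is separated and, for every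
quasi-coherent O_X-module F, the canonical morphism f^*(f_*(F)) → F (counit of the adjunction
between f^* and f_*) is an epimorphism. -/
theorem result {X Y : Scheme.{u}} (f : X ⟶ Y) [QuasiCompact f] :
    Mor2.IsQuasiAffine f ↔ (IsSeparated f ∧ ∀ F : X.Modules, Coh.IsQCoh F →
      Epi ((Scheme.Modules.pullbackPushforwardAdjunction f).counit.app F)) := by
  constructor
  · intro hf
    haveI := QAffLib.isSeparated_of_qaMor f hf
    refine ⟨inferInstance, fun F hF => AmpleLib.epi_counit_of_spanAt f fun x => ?_⟩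
    haveI : F.IsQuasicoherent := hF
    obtain ⟨V, hV, hxV, -⟩ := exists_isAffineOpen_mem_and_subset (X := Y) (x := f x) (U := ⊤) trivial
    refine ⟨V, hxV, fun W hxW m => ?_⟩
    have hx : x ∈ f ⁻¹ᵁ V := hxV
    haveI := hf.2 V hV
    obtain ⟨_, ⟨_, ⟨r, hr, rfl⟩, rfl⟩, hxr, hrW⟩ :=
      (Scheme.IsQuasiAffine.isBasis_basicOpen (f ⁻¹ᵁ V).toScheme).exists_subset_of_mem_open
        (show (⟨x, hx⟩ : (f ⁻¹ᵁ V).toScheme) ∈ (f ⁻¹ᵁ V).ι ⁻¹ᵁ W from hxW)
        ((f ⁻¹ᵁ V).ι ⁻¹ᵁ W).2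
    have himg : (f ⁻¹ᵁ V).ι ''ᵁ ((f ⁻¹ᵁ V).toScheme.basicOpen r) =
        X.basicOpen ((f ⁻¹ᵁ V).topIso.hom r) := by
      rw [Scheme.image_basicOpen]
      simp only [Scheme.Opens.ι_appIso, Scheme.Opens.topIso]
      exact (Scheme.basicOpen_res_eq _ _ _).symm
    have hle : X.basicOpen ((f ⁻¹ᵁ V).topIso.hom r) ≤ W := by
      rw [← himg]; rintro _ ⟨z, hz, rfl⟩; exact hrW hz
    have hxD : x ∈ X.basicOpen ((f ⁻¹ᵁ V).topIso.hom r) := himg ▸ ⟨⟨x, hx⟩, hxr, rfl⟩
    obtain ⟨n, t, ht⟩ := (QCoh.isLocalizingAt_of_qcqs F (f.isCompact_preimage hV.isCompact)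
      (f.isQuasiSeparated_preimage hV.isQuasiSeparated) ((f ⁻¹ᵁ V).topIso.hom r)).surj
      (QCoh.res F hle m)
    obtain ⟨w, hw⟩ : IsUnit (QCoh.rres (X.basicOpen_le ((f ⁻¹ᵁ V).topIso.hom r))
        ((f ⁻¹ᵁ V).topIso.hom r) ^ n) :=
      (RingedSpace.isUnit_res_basicOpen _ _).pow n
    rw [← hw] at ht
    have e : QCoh.res F hle m =
        (↑w⁻¹ : Γ(X, X.basicOpen ((f ⁻¹ᵁ V).topIso.hom r))) • QCoh.res F (X.basicOpen_le _) t := by
      rw [ht, smul_smul, Units.inv_mul, one_smul]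
    rw [show PullStalk.Sky.germM F W x hxW m = PullStalk.Sky.germM F _ x hxD (QCoh.res F hle m) from
      (F.presheaf.germ_res_apply _ x hxD m).symm, e, PullStalk.Sky.germM_smul]
    exact Submodule.smul_mem _ _
      (Submodule.subset_span ⟨t, (F.presheaf.germ_res_apply _ x hxD t).symm⟩)
  · rintro ⟨hsep, h⟩
    refine ⟨inferInstance, fun V hV => Props.AmpleBase.isQuasiAffine_opens
      (f.isCompact_preimage hV.isCompact) fun x hx => ?_⟩
    obtain ⟨T, hT, hxT, hTV⟩ :=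
      exists_isAffineOpen_mem_and_subset (X := X) (x := x) (U := f ⁻¹ᵁ V) hx
    let Z : TopologicalSpace.Closeds X := ⟨(T : Set X)ᶜ, T.2.isClosed_compl⟩
    let I := Scheme.IdealSheafData.vanishingIdeal Z
    have hsupp : (I.support : Set X) = (T : Set X)ᶜ := by
      simp [I, Z]
    have hnx : x ∉ X.zeroLocus (I.ideal ⟨T, hT⟩ : Set Γ(X, T)) := fun h => by
      have := ((Scheme.IdealSheafData.mem_support_iff_of_mem (I := I) (U := ⟨T, hT⟩) hxT)).mpr h
      rw [← SetLike.mem_coe, hsupp] at this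
      exact this hxT
    rw [Scheme.mem_zeroLocus_iff] at hnx
    push Not at hnx
    obtain ⟨g, hg, hxg⟩ := hnx
    obtain ⟨φ, hφ⟩ := IdealSh.IdealMod.exists_sect I T g
      ((IdealSh.IdealMod.mem_ideal_iff I ⟨T, hT⟩ g).mp hg)
    obtain ⟨W, hW, hWO, hxW, hmem⟩ := AmpleLib.exists_res_mem_span_on φ hx hxT
      (AmpleLib.spanAt_eq_top_of_epi f (AmpleLib.isQCoh_idealMod I)
        (h _ (AmpleLib.isQCoh_idealMod I)) hV hx hxT φ)
    obtain ⟨_, ⟨σ, rfl⟩, hσ⟩ := AmpleLib.exists_basicOpen_of_mem_span (OmegaSh.idealSect I W)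
      (fun a n => Omega.Stalks.idealSect_smul I W a n) hxW _ hmem (by
        rw [Omega.Stalks.idealSect_map, hφ, Scheme.basicOpen_res]
        exact ⟨hxW, hxg⟩)
    rw [Omega.Stalks.idealSect_map, Scheme.basicOpen_res] at hσ
    have hle : X.basicOpen (OmegaSh.idealSect I (f ⁻¹ᵁ V) σ) ≤ T := by
      intro y hy
      by_contra hyT
      obtain ⟨P, hP, hyP, hPV⟩ := exists_isAffineOpen_mem_and_subset (X := X) (x := y)
        (U := f ⁻¹ᵁ V) (X.basicOpen_le _ hy)
      have hz := (Scheme.IdealSheafData.mem_support_iff_of_mem (I := I) (U := ⟨P, hP⟩) hyP).mp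
        (by rw [← SetLike.mem_coe, hsupp]; exact hyT)
      rw [Scheme.mem_zeroLocus_iff] at hz
      refine hz _ (IdealSh.IdealMod.sect_mem I ⟨P, hP⟩ (QCoh.res _ hPV σ)) ?_
      rw [Omega.Stalks.idealSect_map, Scheme.basicOpen_res]
      exact ⟨hyP, hy⟩
    refine ⟨OmegaSh.idealSect I (f ⁻¹ᵁ V) σ, ?_, hσ.2⟩
    have h1 := hT.basicOpen (QCoh.rres hTV (OmegaSh.idealSect I (f ⁻¹ᵁ V) σ))
    rwa [Scheme.basicOpen_res, inf_eq_right.mpr hle] at h1

end Groth.Agent.S4409
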