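import Groth.Statements.S4410
import Groth.Agent.RelSpecLib.ImmFTStage
import Groth.Agent.RelSpecLib.QAffImm

set_option autoImplicit false
universe u
open CategoryTheory CategoryTheory.Limits AlgebraicGeometry
open EGA2

namespace Groth.Agent.S4410

/-- Let Y be a quasi-compact separated scheme and f : X → Y a quasi-affine morphism of finite type. Then
there are a scheme X'', an affine morphism of finite type g : X'' → Y and an immersion j : X → X''
with j ≫ g = f. (The published statement also allows Y to be a scheme whose underlying space is
Noetherian; this row assumes it quasi-compact and separated. The published statement realises X'' as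
the relative spectrum of a quasi-coherent sub-algebra of finite type of f_*O_X, and says every
larger such sub-algebra also works; only the resulting factorisation is stated here.) -/
theorem result {X Y : Scheme.{u}} [CompactSpace Y] [Y.IsSeparated]
    (f : X ⟶ Y) (hf : Mor2.IsQuasiAffine f) [LocallyOfFiniteType f] :
    ∃ (X'' : Scheme.{u}) (g : X'' ⟶ Y) (j : X ⟶ X''), IsAffineHom g ∧ LocallyOfFiniteType g ∧ IsImmersion j ∧ j ≫ g = f := by
  haveI := hf.1
  haveI := RelSpecLib.isSeparated_of_quasiAffine f hf
  obtain ⟨g, hg, hgo⟩ := RelSpecLib.exists_openImmersion_directImage f hf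
  obtain ⟨C', φ, -, hft, himm⟩ := RelSpecLib.exists_immersion_subalgebra f _ g hg
  refine ⟨C'.spec, C'.π, g ≫ RelSpec.QCAlg.specMap φ, inferInstance, ?_, himm, ?_⟩
  · refine RelSpecLib.π_property (A := C') @LocallyOfFiniteType fun U hU => ?_
    exact (HasRingHomProperty.Spec_iff (P := @LocallyOfFiniteType)).2 (hft ⟨U, hU⟩)
  · rw [Category.assoc, RelSpec.QCAlg.specMap_π, hg]

end Groth.Agent.S4410
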