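import Groth.Statements.S4416
import Groth.Agent.ProjMor.ChowQcqs
import Groth.Agent.ProjMor.HProj
import Groth.Agent.ProjMor.Local
-- import your own Groth.Agent.* helpers here

set_option autoImplicit false
universe u
open CategoryTheory CategoryTheory.Limits AlgebraicGeometry
open EGA2

namespace Groth.Agent.S4416

set_option backward.isDefEq.respectTransparency.types false

/-- Let r : X → S be separated of finite type, and assume either S Noetherian, or S quasi-compact and
separated with X having finitely many irreducible components. Then r is proper if and only if there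
are a scheme X' and a surjective morphism f : X' → X with f ≫ r projective. Moreover, when r is
proper, f can be chosen so that in addition there is a dense open U of X with f⁻¹(U) dense in X'
over which f is an isomorphism, and with X' irreducible (resp. reduced) if X is. (The published
statement also remarks that f is then projective; that is not stated here.) -/
theorem result {X S : Scheme.{u}} (r : X ⟶ S) [IsSeparated r] [LocallyOfFiniteType r] [QuasiCompact r]
    (h : IsNoetherian S ∨ (CompactSpace S ∧ S.IsSeparated ∧ (irreducibleComponents X).Finite)) :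
    (IsProper r ↔ ∃ (X' : Scheme.{u}) (f : X' ⟶ X), Surjective f ∧ RelProj.IsProjective (f ≫ r)) ∧
    (IsProper r → ∃ (X' : Scheme.{u}) (f : X' ⟶ X), Surjective f ∧ RelProj.IsProjective (f ≫ r) ∧
        (∃ U : X.Opens, Dense (U : Set X) ∧ Dense ((f ⁻¹ᵁ U : X'.Opens) : Set X') ∧ IsIso (f ∣_ U)) ∧
        (IrreducibleSpace X → IrreducibleSpace X') ∧ (IsReduced X → IsReduced X')) := by
  have hS : CompactSpace S ∧ QuasiSeparatedSpace S ∧ (irreducibleComponents X).Finite := by
    rcases h with hN | ⟨hc, hs, hi⟩
    · have hloc : IsLocallyNoetherian X := LocallyOfFiniteType.isLocallyNoetherian r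
      have hcX : CompactSpace X := QuasiCompact.compactSpace_of_compactSpace r
      have : IsNoetherian X := ⟨⟩
      exact ⟨inferInstance, inferInstance, TopologicalSpace.NoetherianSpace.finite_irreducibleComponents⟩
    · exact ⟨hc, inferInstance, hi⟩
  obtain ⟨hc, hq, hirr⟩ := hS
  have key : IsProper r → ∃ (X' : Scheme.{u}) (f : X' ⟶ X), Surjective f ∧ RelProj.IsProjective (f ≫ r) ∧
        (∃ U : X.Opens, Dense (U : Set X) ∧ Dense ((f ⁻¹ᵁ U : X'.Opens) : Set X') ∧ IsIso (f ∣_ U)) ∧
        (IrreducibleSpace X → IrreducibleSpace X') ∧ (IsReduced X → IsReduced X') := by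
    intro hr
    obtain ⟨N, X', π, j, W, hπP, hπ, hsurj, hj, hjb, hW, hW', hiso, hred, hirr'⟩ :=
      ProjMor.chow_finite_components r hirr
    have hp : IsProper (j ≫ CohB1.ProjSpaceOver.toBase N S) := hjb.symm ▸ inferInstance
    have := Groth.Agent.ProjProper.Basic.isProper_toBase N S
    have hjp : IsProper j := IsProper.of_comp j (CohB1.ProjSpaceOver.toBase N S)
    have hjc : IsClosedImmersion j :=
      IsClosedImmersion.of_isPreimmersion j j.isClosedMap.isClosed_range
    exact ⟨X', π, hsurj, ProjMor.isProjective_of_isHProjective _ ⟨N, j, hjc, hjb⟩,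
      ⟨W, hW, hW', hiso⟩, hirr', hred⟩
  refine ⟨⟨fun hr => ?_, fun ⟨X', f, hf, hfr⟩ => ?_⟩, key⟩
  · obtain ⟨X', f, hf, hfr, -⟩ := key hr
    exact ⟨X', f, hf, hfr⟩
  · have := ProjMor.isProper_of_isProjective hfr
    have : UniversallyClosed (f ≫ r) := inferInstance
    have hu : UniversallyClosed r := UniversallyClosed.of_comp_surjective f r
    exact ⟨⟩

end Groth.Agent.S4416
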