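import Groth.Statements.S4420
import Groth.Agent.ProjBundleLib.PnAmpleBase
import Groth.Agent.S4418
-- import your own Groth.Agent.* helpers here

set_option autoImplicit false
universe u
open CategoryTheory CategoryTheory.Limits AlgebraicGeometry
open EGA2

namespace Groth.Agent.S4420

/-- Let Y be a quasi-compact separated scheme possessing an ample invertible O_Y-module and f : X → Y a
morphism. Then f is projective if and only if there are r ≥ 0 and a closed immersion of X into
projective r-space over Y compatible with the projections (f is H-projective). -/
theorem result {X Y : Scheme.{u}} [CompactSpace Y] [Y.IsSeparated]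
    (hY : ∃ M : Y.Modules, CohB1.IsAmple M) (f : X ⟶ Y) :
    RelProj.IsProjective f ↔ RelProj.IsHProjective f := by
  obtain ⟨M, hM⟩ := hY
  constructor
  · intro hf
    obtain ⟨hq, hp⟩ := S4418.result f hf
    obtain ⟨r, i, hi, hif⟩ := ProjBundleLib.exists_immersion_pn hM hq
    have := Groth.Agent.ProjProper.Basic.isProper_toBase r Y
    have : IsProper (i ≫ CohB1.ProjSpaceOver.toBase r Y) := by rw [hif]; exact hp
    have : IsProper i := IsProper.of_comp i (CohB1.ProjSpaceOver.toBase r Y)
    exact ⟨r, i, IsClosedImmersion.of_isPreimmersion i i.isClosedMap.isClosed_range, hif⟩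
  · exact fun hf => ProjMor.isProjective_of_isHProjective f hf

end Groth.Agent.S4420
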