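import Groth.Statements.S4425
import Groth.Agent.ProjBundleLib.DenseEmb
import Groth.Agent.ProjBundleLib.VAmple
-- import your own Groth.Agent.* helpers here

set_option autoImplicit false
universe u
open CategoryTheory CategoryTheory.Limits AlgebraicGeometry
open EGA2

namespace Groth.Agent.S4425

/-- (a) ⇔ (c): let Y be a quasi-compact separated scheme and f : X → Y a morphism. Then f is
quasi-projective if and only if f is of finite type and there are a quasi-coherent graded
O_Y-algebra 𝒮, generated by its degree-one part with that part of finite type, a relative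
homogeneous spectrum p : P → Y of 𝒮 (given with its charts over affine opens), and an open immersion
j : X → P with dense image such that j ≫ p = f. (The published statement also allows Y whose
underlying space is Noetherian, and adds a third equivalent condition, an immersion into some P(E);
this row assumes Y quasi-compact and separated and states only the equivalence of the other two.) -/
theorem result {X Y : Scheme.{u}} [CompactSpace Y] [Y.IsSeparated] (f : X ⟶ Y) :
    RelProj.IsQuasiProjective f ↔
      (LocallyOfFiniteType f ∧ QuasiCompact f ∧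
        ∃ (𝒮 : RelProj.QCGrAlg Y) (P : Scheme.{u}) (p : P ⟶ Y)
          (chart : ∀ (U : Y.Opens) (hU : IsAffineOpen U), ((p ⁻¹ᵁ U : P.Opens) : Scheme.{u}) ≅ Proj (𝒮.deg U hU))
          (j : X ⟶ P), 𝒮.IsGenDegOne ∧ 𝒮.IsFTDeg 1 ∧ RelProj.IsRelProj 𝒮 p chart ∧
            IsOpenImmersion j ∧ Dense (Set.range j.base) ∧ j ≫ p = f) := by
  constructor
  · intro hf
    obtain ⟨E, hE, B, i, hft, hi, hip⟩ := ProjBundleLib.exists_ft_bundle_of_isQuasiProjective hf
    have := hf.2.1
    obtain ⟨𝒮, P, p, chart, O1, lam, j, h1, h2, h3, -, h5, h6, h7, -⟩ :=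
      ProjBundleLib.exists_dense_openImmersion hft B i hip
    exact ⟨hf.1, hf.2.1, 𝒮, P, p, chart, j, h1, h2, h3, h5, h6, h7⟩
  · rintro ⟨hlft, hqc, 𝒮, P, p, chart, j, h1, h2, h3, h5, -, h7⟩
    obtain ⟨E, hE, B, i, -, hi, hip⟩ := ProjBundleLib.exists_of_isProjective
      (f := p) ⟨𝒮, P, p, chart, Iso.refl P, h1, h2, h3, Category.id_comp p⟩
    have hji : (j ≫ i) ≫ B.p = f := by rw [Category.assoc, hip, h7]
    exact ⟨hlft, hqc, (Scheme.Modules.pullback (j ≫ i)).obj B.O1, ProjBundleLib.isRelAmple_of_isRelVeryAmple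
      (PicCl.isInvertible_pullback (j ≫ i) (ProjBundleLib.isInvertible_O1 B))
      ⟨E, hE, B.alg, B.j, B.hj, B.P, B.p, B.chart, B.hP, B.O1, B.lam, B.hO1, j ≫ i, inferInstance, hji, ⟨Iso.refl _⟩⟩⟩

end Groth.Agent.S4425
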