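import Groth.Statements.S4431
import Mathlib.LinearAlgebra.Charpoly.BaseChange

-- import your own Groth.Agent.* helpers here

set_option autoImplicit false
universe u
open EGA2

namespace Groth.Agent.S4431

/-- Let A be an integral domain with fraction field K, E a finitely generated torsion-free A-module and
u an endomorphism of E whose characteristic-polynomial coefficients (those of u ⊗ 1 on K ⊗_A E) all
lie in A. If the determinant of u is the image of a unit of A, then u is an automorphism of E. -/
theorem result (A : Type u) [CommRing A] [IsDomain A] (K : Type u) [Field K]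
    [Algebra A K] [IsFractionRing A K] (E : Type u) [AddCommGroup E] [Module A E] [Module.Finite A E]
    [Module.IsTorsionFree A E]
    (u : E →ₗ[A] E) (hcoeff : ∀ i : ℕ, ((u.baseChange K).charpoly).coeff i ∈ (algebraMap A K).range)
    (a : A) (ha : algebraMap A K a = LinearMap.det (u.baseChange K)) (hunit : IsUnit a) :
    Function.Bijective u := by
  classical
  obtain ⟨q, hq⟩ : ∃ q : Polynomial A, q.map (algebraMap A K) = (u.baseChange K).charpoly :=
    (Polynomial.mem_lifts _).1 ((Polynomial.lifts_iff_coeff_lifts _).2 fun i => hcoeff i)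
  have : IsLocalizedModule (nonZeroDivisors A) (TensorProduct.mk A K E 1) :=
    (isLocalizedModule_iff_isBaseChange (nonZeroDivisors A) K _).2 (TensorProduct.isBaseChange A E K)
  have hinj : ∀ e : E, TensorProduct.mk A K E 1 e = 0 → e = 0 := fun e he => by
    obtain ⟨⟨c, hc⟩, hce⟩ := (IsLocalizedModule.eq_zero_iff (nonZeroDivisors A) _).1 he
    exact (smul_eq_zero.1 hce).resolve_left (nonZeroDivisors.ne_zero hc)
  have h0 : Polynomial.aeval u q = 0 := by
    have h1 : (Polynomial.aeval u q).baseChange K = 0 := by
      have e := Polynomial.aeval_algHom_apply (Module.End.baseChangeHom A K E) u q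
      rw [← LinearMap.aeval_self_charpoly (u.baseChange K), ← hq, Polynomial.aeval_map_algebraMap]
      exact e.symm
    refine LinearMap.ext fun e => hinj _ ?_
    have := congr($h1 ((1 : K) ⊗ₜ[A] e))
    simpa using this
  have hdet : IsUnit (q.coeff 0) := by
    have h2 : algebraMap A K (q.coeff 0) = (u.baseChange K).charpoly.coeff 0 := by
      rw [← hq, Polynomial.coeff_map]
    have h3 := LinearMap.det_eq_sign_charpoly_coeff (u.baseChange K)
    rw [← ha, ← h2, ← map_one (algebraMap A K), ← map_neg, ← map_pow, ← map_mul] at h3
    exact isUnit_of_mul_isUnit_right ((IsFractionRing.injective A K h3) ▸ hunit)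
  obtain ⟨c, hc⟩ := isUnit_iff_exists_inv.1 hdet
  let r := Polynomial.aeval u q.divX
  have hd : u * r + algebraMap A (Module.End A E) (q.coeff 0) = 0 := by
    have e := congrArg (Polynomial.aeval u) (Polynomial.X_mul_divX_add q)
    rwa [map_add, map_mul, Polynomial.aeval_X, Polynomial.aeval_C, h0] at e
  have hcomm : u * r = r * u := by
    have e1 : Polynomial.aeval u (Polynomial.X * q.divX) = u * r := by rw [map_mul, Polynomial.aeval_X]
    have e2 : Polynomial.aeval u (q.divX * Polynomial.X) = r * u := by rw [map_mul, Polynomial.aeval_X]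
    rw [← e1, ← e2, Polynomial.X_mul]
  refine (Module.End.isUnit_iff u).1 ⟨⟨u, -(c • r), ?_, ?_⟩, rfl⟩
  · rw [mul_neg, mul_smul_comm, eq_neg_of_add_eq_zero_left hd, smul_neg, neg_neg,
      Algebra.smul_def, ← map_mul, mul_comm, hc, map_one]
  · rw [neg_mul, smul_mul_assoc, ← hcomm, eq_neg_of_add_eq_zero_left hd, smul_neg, neg_neg,
      Algebra.smul_def, ← map_mul, mul_comm, hc, map_one]

end Groth.Agent.S4431
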