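import Groth.Statements.S4435
import Mathlib.AlgebraicGeometry.FunctionField
import Mathlib.AlgebraicGeometry.Morphisms.Integral
import Mathlib.AlgebraicGeometry.Morphisms.Finite
-- import your own Groth.Agent.* helpers here

set_option autoImplicit false
universe u
open CategoryTheory CategoryTheory.Limits AlgebraicGeometry
open EGA2

namespace Groth.Agent.S4435

/-- Let X, S be integral schemes and f : X ⟶ S a dominant morphism. If f is integral, the field of
rational functions of X is algebraic over that of S; if f is finite, it is a finite extension. Here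
the extension is given by the stalk map of f at the generic point of X, whose source is the local
ring of S at the generic point of S (f being dominant), i.e. the function field of S. -/
theorem result {X S : Scheme.{u}} [IsIntegral X] [IsIntegral S]
    (f : X ⟶ S) [IsDominant f] :
    (IsIntegralHom f → (f.stalkMap (genericPoint X)).hom.IsIntegral) ∧
      (IsFinite f → (f.stalkMap (genericPoint X)).hom.Finite) := by
  set ψ := f.stalkMap (genericPoint X)
  have hη : f (genericPoint X) = genericPoint S := by
    have h := (genericPoint_spec X).image f.continuous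
    rw [Set.image_univ, f.denseRange.closure_eq] at h
    exact h.eq (genericPoint_spec S)
  have hF : IsField (S.presheaf.stalk (f (genericPoint X))) := by
    rw [hη]
    exact Field.toIsField S.functionField
  let : Field (S.presheaf.stalk (f (genericPoint X))) := hF.toField
  let : Algebra (S.presheaf.stalk (f (genericPoint X))) X.functionField := ψ.hom.toAlgebra
  obtain ⟨_, ⟨V, hV, rfl⟩, hηV, -⟩ :=
    S.isBasis_affineOpens.exists_subset_of_mem_open (Set.mem_univ (f (genericPoint X))) isOpen_univ
  let U := f ⁻¹ᵁ V
  have hne : Nonempty U := ⟨⟨genericPoint X, hηV⟩⟩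
  let g : Γ(X, U) ⟶ X.functionField := X.presheaf.germ U (genericPoint X) hηV
  have hcomm : S.presheaf.germ V (f (genericPoint X)) hηV ≫ ψ = f.app V ≫ g := f.germ_stalkMap V _ hηV
  have key : IsAffineHom f → (f.app V).hom.IsIntegral →
      Algebra.IsIntegral (S.presheaf.stalk (f (genericPoint X))) X.functionField ∧
      ∀ A : Subalgebra (S.presheaf.stalk (f (genericPoint X))) X.functionField,
        (∀ a, g.hom a ∈ A) → A = ⊤ := by
    intro haff hint
    have hU : IsAffineOpen U := hV.preimage f
    have : IsFractionRing Γ(X, U) X.functionField := functionField_isFractionRing_of_isAffineOpen X U hU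
    have hg : ∀ a, IsIntegral (S.presheaf.stalk (f (genericPoint X))) (g.hom a) := fun a => by
      obtain ⟨q, hq, hqa⟩ := hint a
      refine ⟨q.map (S.presheaf.germ V (f (genericPoint X)) hηV).hom, hq.map _, ?_⟩
      rw [Polynomial.eval₂_map]
      show Polynomial.eval₂ (S.presheaf.germ V (f (genericPoint X)) hηV ≫ ψ).hom _ _ = 0
      rw [hcomm, CommRingCat.hom_comp, ← Polynomial.hom_eval₂, hqa, map_zero]
    have hz : ∀ z : X.functionField, ∃ a b, g.hom a / g.hom b = z := fun z => by
      obtain ⟨a, b, -, h⟩ := IsFractionRing.div_surjective (A := Γ(X, U)) z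
      exact ⟨a, b, h⟩
    have hint' : Algebra.IsIntegral (S.presheaf.stalk (f (genericPoint X))) X.functionField := ⟨fun z => by
      obtain ⟨a, b, rfl⟩ := hz z
      rw [div_eq_mul_inv]
      exact (hg a).mul (hg b).inv⟩
    refine ⟨hint', fun A hA => eq_top_iff.2 fun z _ => ?_⟩
    obtain ⟨a, b, rfl⟩ := hz z
    rw [div_eq_mul_inv]
    exact mul_mem (hA a) (A.inv_mem_of_algebraic (x := ⟨_, hA b⟩) (hint'.isIntegral _).isAlgebraic)
  refine ⟨fun _ => (key inferInstance (IsIntegralHom.isIntegral_app f V hV)).1.isIntegral, fun _ => ?_⟩
  have hfin : (f.app V).hom.Finite := IsFinite.finite_app f V hV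
  obtain ⟨hint, htop⟩ := key inferInstance hfin.to_isIntegral
  let : Algebra Γ(S, V) Γ(X, U) := (f.app V).hom.toAlgebra
  obtain ⟨T, hT⟩ := (show Module.Finite Γ(S, V) Γ(X, U) from hfin).fg_top
  classical
  let A := Algebra.adjoin (S.presheaf.stalk (f (genericPoint X))) ((T.image g.hom : Finset X.functionField) : Set X.functionField)
  have hA : A = ⊤ := htop A fun a => by
    have ha : a ∈ Submodule.span Γ(S, V) (T : Set Γ(X, U)) := hT ▸ Submodule.mem_top
    induction ha using Submodule.span_induction with
    | mem a ha => exact Algebra.subset_adjoin (Finset.mem_image.2 ⟨a, ha, rfl⟩)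
    | zero => rw [map_zero]; exact zero_mem _
    | add a b _ _ ha hb => rw [map_add]; exact add_mem ha hb
    | smul r a _ ha =>
      rw [Algebra.smul_def, map_mul]
      refine mul_mem ?_ ha
      show g.hom ((f.app V).hom r) ∈ A
      rw [show g.hom ((f.app V).hom r) = ψ.hom ((S.presheaf.germ V (f (genericPoint X)) hηV).hom r) from
        congr($(hcomm).hom r).symm]
      exact A.algebraMap_mem _
  have : Algebra.FiniteType (S.presheaf.stalk (f (genericPoint X))) X.functionField := ⟨⟨_, hA⟩⟩
  exact Algebra.IsIntegral.finite

end Groth.Agent.S4435
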