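import Groth.Statements.S4436
import Groth.Agent.LFFrame.Basic
import Groth.Agent.Props.QProj
import Groth.Agent.PerfTri.Betti
import Mathlib.RingTheory.Localization.Module

set_option autoImplicit false
universe u
open CategoryTheory CategoryTheory.Limits AlgebraicGeometry
open EGA2

namespace Groth.Agent.S4436

open CategoryTheory CategoryTheory.Limits AlgebraicGeometry TopologicalSpace Opposite
open Groth.Agent.PullStalk.Sky Groth.Agent.Props.QStalk Groth.Agent.LFFrame Groth.Agent.QCoh

/-- A basis of sections over an affine open gives a trivialization of that rank. -/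
theorem restrict_iso_free {X : Scheme.{u}} (M : X.Modules) [M.IsQuasicoherent] {V : X.Opens}
    (hV : IsAffineOpen V) {n : ℕ} (b : Module.Basis (Fin n) Γ(X, V) Γ(M, V)) :
    Nonempty (M.restrict V.ι ≅ FlatMod.freeMod V n) := by
  let N : (Spec Γ(X, V)).Modules := toSpec hV M
  have : N.IsQuasicoherent := Scheme.Modules.isQuasicoherent_restrictFunctor _ M
  have := Scheme.Modules.isIso_fromTildeΓ_of_isQuasicoherent N
  let b' : Module.Basis (ULift.{u} (Fin n)) Γ(X, V) Γ(N, ⊤) :=
    (b.reindex Equiv.ulift.symm).map (toSpecTopLinearEquiv hV M).symm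
  let eΓ : (moduleSpecΓFunctor (R := Γ(X, V))).obj N ≅
      ModuleCat.of Γ(X, V) (ULift.{u} (Fin n) →₀ Γ(X, V)) :=
    LinearEquiv.toModuleIso (X₁ := (moduleSpecΓFunctor (R := Γ(X, V))).obj N) b'.repr
  let e₁ : N ≅ (SheafOfModules.free.{u} (ULift.{u} (Fin n)) : (Spec Γ(X, V)).Modules) :=
    (asIso N.fromTildeΓ).symm ≪≫ (tilde.functor _).mapIso eΓ ≪≫ tildeFinsupp _
  have := hV.isOpenImmersion_fromSpec
  let e₂ : Scheme.Modules.restrictFunctor hV.fromSpec ⋙ Scheme.Modules.restrictFunctor
      hV.isoSpec.hom ≅ Scheme.Modules.restrictFunctor V.ι :=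
    (Scheme.Modules.restrictFunctorComp _ _).symm ≪≫
      Scheme.Modules.restrictFunctorCongr hV.isoSpec_hom_fromSpec
  exact ⟨(e₂.app M).symm ≪≫ (Scheme.Modules.restrictFunctor hV.isoSpec.hom).mapIso e₁ ≪≫
    Groth.Agent.Props.QProj.restrictFreeIso hV.isoSpec.hom _ ≪≫ Groth.Agent.Props.QProj.freeModIso _ n⟩

/-- Stalk basis from a basis of sections. -/
theorem stalk_basis {X : Scheme.{u}} (M : X.Modules) [M.IsQuasicoherent] {W : X.Opens} (hW : IsAffineOpen W)
    {r : ℕ} (b : Module.Basis (Fin r) Γ(X, W) Γ(M, W)) {z : X} (hz : z ∈ W) :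
    ∃ bz : Module.Basis (Fin r) (X.presheaf.stalk z) (M.presheaf.stalk z), ∀ i, bz i = germM M W z hz (b i) := by
  let _ := moduleSections M hz
  let _ := X.presheaf.algebra_section_stalk ⟨z, hz⟩
  have : IsScalarTower Γ(X, W) (X.presheaf.stalk z) (M.presheaf.stalk z) :=
    IsScalarTower.of_algebraMap_smul fun _ _ ↦ rfl
  have hL := isLocalizedModule_germLin M hz hW
  have hA : IsLocalization.AtPrime (X.presheaf.stalk z) (hW.primeIdealOf ⟨z, hz⟩).asIdeal :=
    hW.isLocalization_stalk ⟨z, hz⟩
  exact ⟨b.ofIsLocalizedModule (X.presheaf.stalk z) (hW.primeIdealOf ⟨z, hz⟩).asIdeal.primeCompl (germLin M hz),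
    fun i => Module.Basis.ofIsLocalizedModule_apply (Rₛ := X.presheaf.stalk z)
      (S := (hW.primeIdealOf ⟨z, hz⟩).asIdeal.primeCompl) (f := germLin M hz) b i⟩

/-- Generation of the stalks by `r` sections is an open condition. -/
theorem isOpen_gen {X : Scheme.{u}} (M : X.Modules) [M.IsQuasicoherent] {r : ℕ}
    (hloc : ∀ y : X, ∃ W : X.Opens, y ∈ W ∧ IsAffineOpen W ∧ Nonempty (Module.Basis (Fin r) Γ(X, W) Γ(M, W)))
    {V : X.Opens} (m : Fin r → Γ(M, V)) :
    IsOpen {y : X | ∃ hy : y ∈ V, Function.Bijective (stalkComb M m y hy)} := by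
  classical
  rw [isOpen_iff_forall_mem_open]
  rintro y ⟨hy, hbij⟩
  obtain ⟨W, hyW, hW, ⟨b⟩⟩ := hloc y
  obtain ⟨_, ⟨W', hW', rfl⟩, hyW', hle⟩ := X.isBasis_affineOpens.exists_subset_of_mem_open
    (show y ∈ V ⊓ W from ⟨hy, hyW⟩) (V ⊓ W).2
  obtain ⟨g, hgle, hyg⟩ := hW.exists_basicOpen_le (⟨y, hyW'⟩ : (W' : X.Opens)) hyW
  have hgV : X.basicOpen g ≤ V := fun z hz => (hle (hgle hz)).1
  let _ : Fact (IsAffineOpen W) := ⟨hW⟩
  let t : Fin r → Γ(M, X.basicOpen g) := fun i => M.presheaf.map (homOfLE hgV).op (m i)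
  have := hW.isLocalization_basicOpen g
  let bg := b.ofIsLocalizedModule Γ(X, X.basicOpen g) (Submonoid.powers g) (resLin M g)
  let A : Matrix (Fin r) (Fin r) Γ(X, X.basicOpen g) := bg.toMatrix t
  have hdet : ∀ (z : X) (hz : z ∈ X.basicOpen g),
      Function.Bijective (stalkComb M m z (hgV hz)) ↔ z ∈ X.basicOpen A.det := by
    intro z hz
    obtain ⟨bz, hbz⟩ := stalk_basis M (hW.basicOpen g) bg hz
    have hv : ∀ j, germM M V z (hgV hz) (m j) = ∑ i, X.presheaf.germ _ z hz (A i j) • bz i := by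
      intro j
      have e : t j = comb M (fun i => bg i) le_rfl (fun i => A i j) := by
        simp only [comb, A, Module.Basis.toMatrix_apply]
        conv_lhs => rw [← bg.sum_repr (t j)]
        simp
      have e2 := congrArg (germM M (X.basicOpen g) z hz) e
      rw [germ_comb] at e2
      simp only [← hbz] at e2
      exact (M.presheaf.germ_res_apply (homOfLE hgV) z hz (m j)).symm.trans e2
    have hM : bz.toMatrix (fun j => germM M V z (hgV hz) (m j)) = A.map (X.presheaf.germ _ z hz).hom := by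
      ext i j
      rw [Module.Basis.toMatrix_apply, hv, map_sum, Finsupp.finsetSum_apply, Finset.sum_eq_single i]
      · simp
      · intro k _ hk; simp [hk]
      · simp
    rw [X.mem_basicOpen A.det z hz]
    rw [show X.presheaf.germ _ z hz A.det = (bz.toMatrix (fun j => germM M V z (hgV hz) (m j))).det by
      rw [hM]; exact RingHom.map_det (X.presheaf.germ _ z hz).hom A]
    rw [← Module.Basis.det_apply, ← Module.Basis.is_basis_iff_det]
    constructor
    · intro h
      exact ⟨LinearIndependent.of_comp LinearMap.id (by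
          rw [linearIndependent_iff_injective_fintypeLinearCombination]; exact h.1), by
        rw [← Fintype.range_linearCombination, LinearMap.range_eq_top]; exact h.2⟩
    · rintro ⟨h1, h2⟩
      exact ⟨linearIndependent_iff_injective_fintypeLinearCombination.1 h1,
        LinearMap.range_eq_top.1 ((Fintype.range_linearCombination _ _).trans h2)⟩
  refine ⟨(X.basicOpen A.det : X.Opens), fun z hz => ?_, (X.basicOpen A.det).2, (hdet y hyg).1 hbij⟩
  have hz' : z ∈ X.basicOpen g := X.basicOpen_le _ hz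
  exact ⟨hgV hz', (hdet z hz').2 hz⟩

/-- Let f : X' ⟶ X be a finite morphism and F' a locally free O_{X'}-module of rank r. Then every point
of X has an open neighbourhood U over whose inverse image F' is free of rank r; this is the content
of the statement that the direct image of F' is a locally free module of rank r over the direct
image of O_{X'} (the converse implication being immediate). -/
theorem result {X' X : Scheme.{u}} (f : X' ⟶ X) [IsFinite f] (r : ℕ)
    (F : X'.Modules) (hF : FlatMod.IsFinLocFreeOfRank r F) (x : X) :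
    ∃ U : X.Opens, x ∈ U ∧ Nonempty (F.restrict (f ⁻¹ᵁ U).ι ≅ FlatMod.freeMod (↑(f ⁻¹ᵁ U)) r) := by
  classical
  have hqc : F.IsQuasicoherent := Groth.Agent.PerfTri.Betti.isQuasicoherent_of_isFinLocFree (fun y => by
    obtain ⟨U, hy, he⟩ := hF y; exact ⟨U, r, hy, he⟩)
  have hloc : ∀ y : X', ∃ W : X'.Opens, y ∈ W ∧ IsAffineOpen W ∧ Nonempty (Module.Basis (Fin r) Γ(X', W) Γ(F, W)) := by
    intro y
    obtain ⟨U, hy, ⟨e⟩⟩ := hF y
    obtain ⟨_, ⟨W, hW, rfl⟩, hyW, hWU⟩ := X'.isBasis_affineOpens.exists_subset_of_mem_open hy U.2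
    exact ⟨W, hyW, hW, Groth.Agent.Props.QProj.free_sections_of_restrict_iso F e hW hWU⟩
  obtain ⟨_, ⟨U₀, hU₀, rfl⟩, hx, -⟩ := X.isBasis_affineOpens.exists_subset_of_mem_open (Set.mem_univ x) isOpen_univ
  replace hU₀ : IsAffineOpen U₀ := hU₀
  set V := f ⁻¹ᵁ U₀
  have hV : IsAffineOpen V := hU₀.preimage f
  have hfin := f.finite_preimage_singleton x
  have hdis := f.isDiscrete_preimage_singleton x
  let T := hfin.toFinset
  have hT : ∀ y : T, (y : X') ∈ V := fun y => by
    have := hfin.mem_toFinset.1 y.2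
    show f y ∈ U₀
    rw [show f (y : X') = x from this]; exact hx
  -- functions separating the points of the fibre
  have hsep : ∀ y : T, ∃ c : Γ(X', V), (y : X') ∈ X'.basicOpen c ∧ ∀ y' : T, y' ≠ y → (y' : X') ∉ X'.basicOpen c := by
    intro y
    let Z : Set X' := ⋃ y' ∈ ({y' | y' ≠ y} : Set T), closure {(y' : X')}
    have hZ : IsClosed Z := Set.toFinite _ |>.isClosed_biUnion fun _ _ => isClosed_closure
    have hyZ : (y : X') ∉ Z := by
      simp only [Z, Set.mem_iUnion, not_exists]
      intro y' hy' hspec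
      apply hy'
      apply Subtype.ext
      exact hdis.eq_of_specializes (specializes_iff_mem_closure.2 hspec) (hfin.mem_toFinset.1 y'.2)
        (hfin.mem_toFinset.1 y.2)
    obtain ⟨c, hc, hyc⟩ := hV.exists_basicOpen_le (⟨(y : X'), hyZ⟩ : (⟨Zᶜ, hZ.isOpen_compl⟩ : X'.Opens)) (hT y)
    refine ⟨c, hyc, fun y' hy' h => hc h ?_⟩
    simp only [Z, Set.mem_iUnion]
    exact ⟨y', hy', subset_closure rfl⟩
  choose c hc hc' using hsep
  -- generators at each point of the fibre
  have hgen : ∀ y : T, ∃ n : Fin r → Γ(F, V), Function.Bijective (stalkComb F n y (hT y)) := by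
    intro y
    obtain ⟨W, hyW, hW, ⟨b⟩⟩ := hloc y
    obtain ⟨bz, -⟩ := stalk_basis F hW b hyW
    let _ := moduleSections F (hT y)
    let _ := X'.presheaf.algebra_section_stalk ⟨(y : X'), hT y⟩
    have : IsScalarTower Γ(X', V) (X'.presheaf.stalk (y : X')) (F.presheaf.stalk (y : X')) :=
      IsScalarTower.of_algebraMap_smul fun _ _ ↦ rfl
    have hL := isLocalizedModule_germLin F (hT y) hV
    have hA : IsLocalization.AtPrime (X'.presheaf.stalk (y : X')) (hV.primeIdealOf ⟨(y : X'), hT y⟩).asIdeal :=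
      hV.isLocalization_stalk ⟨(y : X'), hT y⟩
    choose p hp using fun i => IsLocalizedModule.surj (hV.primeIdealOf ⟨(y : X'), hT y⟩).asIdeal.primeCompl
      (germLin F (hT y)) (bz i)
    let u : Fin r → (X'.presheaf.stalk (y : X'))ˣ := fun i =>
      (IsLocalization.map_units (X'.presheaf.stalk (y : X')) (p i).2).unit
    refine ⟨fun i => (p i).1, ?_⟩
    have e : (fun i => germM F V y (hT y) (p i).1) = fun i => bz.unitsSMul u i := by
      funext i
      rw [Module.Basis.unitsSMul_apply]
      refine (hp i).symm.trans ?_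
      exact (algebraMap_smul (X'.presheaf.stalk (y : X')) ((p i).2 : Γ(X', V)) (bz i)).symm
    show Function.Bijective (Fintype.linearCombination (X'.presheaf.stalk (y : X')) (fun i => germM F V y (hT y) (p i).1))
    rw [e]
    exact ⟨linearIndependent_iff_injective_fintypeLinearCombination.1 (bz.unitsSMul u).linearIndependent,
      LinearMap.range_eq_top.1 ((Fintype.range_linearCombination _ _).trans (bz.unitsSMul u).span_eq)⟩
  choose n hn using hgen
  let m : Fin r → Γ(F, V) := fun i => ∑ y : T, c y • n y i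
  have hm : ∀ y : T, Function.Surjective (stalkComb F m y (hT y)) := by
    intro y
    set R := X'.presheaf.stalk (y : X')
    set cy := X'.presheaf.germ V y (hT y) (c y)
    have hu : IsUnit cy := (X'.mem_basicOpen _ _ _).1 (hc y)
    have key : ∀ i, germM F V y (hT y) (m i) - cy • germM F V y (hT y) (n y i) ∈
        IsLocalRing.maximalIdeal R • (⊤ : Submodule R (F.presheaf.stalk (y : X'))) := by
      intro i
      have e : germM F V y (hT y) (m i) = ∑ y' : T, X'.presheaf.germ V y (hT y) (c y') • germM F V y (hT y) (n y' i) := by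
        refine (map_sum (F.presheaf.germ V y (hT y)).hom _ _).trans ?_
        exact Finset.sum_congr rfl fun y' _ => germM_smul F V y (hT y) _ _
      rw [e, ← Finset.add_sum_erase _ _ (Finset.mem_univ y), add_sub_cancel_left]
      refine Submodule.sum_mem _ fun y' hy' => Submodule.smul_mem_smul ?_ Submodule.mem_top
      rw [IsLocalRing.mem_maximalIdeal, mem_nonunits_iff]
      exact fun h => hc' y' y (Finset.ne_of_mem_erase hy').symm ((X'.mem_basicOpen _ _ _).2 h)
    obtain ⟨W, hyW, hW, ⟨b⟩⟩ := hloc y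
    obtain ⟨bz, -⟩ := stalk_basis F hW b hyW
    have : Module.Finite R (F.presheaf.stalk (y : X')) := .of_basis bz
    rw [← LinearMap.range_eq_top, eq_top_iff]
    refine Submodule.le_of_le_smul_of_le_jacobson_bot Module.Finite.fg_top
      (IsLocalRing.maximalIdeal_le_jacobson (⊥ : Ideal R)) ?_
    intro t _
    obtain ⟨a, rfl⟩ := (hn y).2 t
    rw [show stalkComb F (n y) y (hT y) a = ∑ i, (a i * (hu.unit⁻¹ : Rˣ)) • (cy • germM F V y (hT y) (n y i)) by
      simp [stalkComb, Fintype.linearCombination_apply, smul_smul, mul_assoc]]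
    refine Submodule.sum_mem _ fun i _ => Submodule.smul_mem _ _ ?_
    have : cy • germM F V y (hT y) (n y i) = germM F V y (hT y) (m i) -
        (germM F V y (hT y) (m i) - cy • germM F V y (hT y) (n y i)) := (sub_sub_cancel _ _).symm
    rw [this]
    refine Submodule.sub_mem _ (Submodule.mem_sup_left ⟨Pi.single i 1, ?_⟩) (Submodule.mem_sup_right (key i))
    simp [stalkComb, Fintype.linearCombination_apply, Pi.single_apply]
  have hmb : ∀ y : T, Function.Bijective (stalkComb F m y (hT y)) := by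
    intro y
    obtain ⟨W, hyW, hW, ⟨b⟩⟩ := hloc y
    obtain ⟨bz, -⟩ := stalk_basis F hW b hyW
    refine ⟨?_, hm y⟩
    have : Function.Injective (bz.equivFun.toLinearMap ∘ₗ stalkComb F m y (hT y)) :=
      OrzechProperty.injective_of_surjective_endomorphism _ (bz.equivFun.surjective.comp (hm y))
    exact Function.Injective.of_comp (f := bz.equivFun) this
  let G : Set X' := {y : X' | ∃ hy : y ∈ V, Function.Bijective (stalkComb F m y hy)}
  have hG : IsOpen G := isOpen_gen F hloc m
  have hcl : IsClosed (f '' Gᶜ) := f.isClosedMap _ hG.isClosed_compl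
  have hxU : x ∈ U₀ ⊓ (⟨(f '' Gᶜ)ᶜ, hcl.isOpen_compl⟩ : X.Opens) := by
    refine ⟨hx, ?_⟩
    rintro ⟨y, hy, hyx⟩
    exact hy ⟨hT ⟨y, hfin.mem_toFinset.2 hyx⟩, hmb ⟨y, hfin.mem_toFinset.2 hyx⟩⟩
  obtain ⟨_, ⟨U, hU, rfl⟩, hxU', hUle⟩ := X.isBasis_affineOpens.exists_subset_of_mem_open hxU (Opens.isOpen _)
  replace hU : IsAffineOpen U := hU
  refine ⟨U, hxU', ?_⟩
  have hUV : f ⁻¹ᵁ U ≤ V := fun y hy => (hUle hy).1
  have hframe : IsFrame F (f ⁻¹ᵁ U) (fun i => F.presheaf.map (homOfLE hUV).op (m i)) := by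
    refine isFrame_of_stalkComb_bijective fun y hy => ?_
    have hyG : y ∈ G := by_contra fun h => (hUle hy).2 ⟨y, h, rfl⟩
    obtain ⟨_, hb⟩ := hyG
    convert hb using 2
    show Fintype.linearCombination _ _ = Fintype.linearCombination _ _
    congr 1
    funext i
    exact F.presheaf.germ_res_apply (homOfLE hUV) y hy (m i)
  let L : (Fin r → Γ(X', f ⁻¹ᵁ U)) →ₗ[Γ(X', f ⁻¹ᵁ U)] Γ(F, f ⁻¹ᵁ U) :=
    Fintype.linearCombination Γ(X', f ⁻¹ᵁ U) (fun i => F.presheaf.map (homOfLE hUV).op (m i))
  have hL : Function.Bijective L := by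
    have e : (L : _ → _) = comb F (fun i => F.presheaf.map (homOfLE hUV).op (m i)) le_rfl := by
      funext a
      simp [L, comb, Fintype.linearCombination_apply]
    rw [e]
    exact hframe _ le_rfl
  exact restrict_iso_free F (hU.preimage f) (Module.Basis.ofEquivFun (LinearEquiv.ofBijective L hL).symm)

end Groth.Agent.S4436
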