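import Groth.Statements.S4438
import Groth.Agent.AmpleNorm.Main

set_option autoImplicit false
universe u
open CategoryTheory CategoryTheory.Limits AlgebraicGeometry
open EGA2

namespace Groth.Agent.S4438

/-- In existence form: let f : X ⟶ Y be a quasi-compact morphism and g : X' ⟶ X a finite surjective
morphism such that the direct image of O_{X'} is a finite locally free O_X-module. Then there is an
invertible O_X-module ample relative to f if and only if there is an invertible O_{X'}-module ample
relative to f ∘ g. (For the descent direction the published statement names the module on X, the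
norm of the given one; this row asserts existence only. The other direction is the inverse image
along the affine morphism g.) -/
theorem result {X X' Y : Scheme.{u}} (f : X ⟶ Y) [QuasiCompact f]
    (g : X' ⟶ X) [IsFinite g] [Surjective g]
    (hfree : FlatMod.IsFinLocFree ((Coh.push g).obj (Coh.structureModule X'))) :
    (∃ L : X.Modules, PicF.IsInvertible L ∧ RelAmple.IsRelAmple f L) ↔
      ∃ L' : X'.Modules, PicF.IsInvertible L' ∧ RelAmple.IsRelAmple (g ≫ f) L' := by
  constructor
  · rintro ⟨L, hL, h⟩
    exact ⟨_, Groth.Agent.PicCl.isInvertible_pullback g hL,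
      (Groth.Agent.AmpleLib.isRelAmple_iff_pullback g hfree f hL).1 h⟩
  · rintro ⟨L', hL', h⟩
    obtain ⟨M, hM, hA⟩ := Groth.Agent.AmpleNorm.exists_normModule (g := g)
      (Groth.Agent.AmpleNorm.Fam.ofLocFree hfree) hL'
    rw [Groth.Agent.AmpleLib.isRelAmple_iff] at h
    obtain ⟨_, _, h⟩ := h
    refine ⟨M, hM, ?_⟩
    rw [Groth.Agent.AmpleLib.isRelAmple_iff]
    refine ⟨inferInstance, hM, fun V => hA _ (f.isCompact_preimage V.2.isCompact) ?_⟩
    rw [← Scheme.Hom.comp_preimage]
    exact h V

end Groth.Agent.S4438
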