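import Groth.Statements.S4439
import Mathlib.AlgebraicGeometry.ValuativeCriterion
-- import your own Groth.Agent.* helpers here

set_option autoImplicit false
universe u
open CategoryTheory CategoryTheory.Limits AlgebraicGeometry
open EGA2

namespace Groth.Agent.S4439

set_option backward.isDefEq.respectTransparency false in
/-- Let A be a valuation ring with field of fractions K and f : X ⟶ Spec A a separated morphism whose
underlying map is closed. Then restriction to the generic point is a bijection from sections of f to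
K-rational points of the generic fibre: every morphism Spec K ⟶ X over Spec A extends to exactly one
section of f. -/
theorem result (A : Type u) [CommRing A] [IsDomain A]
    [ValuationRing A] (K : Type u) [Field K] [Algebra A K] [IsFractionRing A K] (X : Scheme.{u})
    (f : X ⟶ Spec (CommRingCat.of A)) [IsSeparated f] (hf : IsClosedMap f.base)
    (x : Spec (CommRingCat.of K) ⟶ X) (hx : x ≫ f = Spec.map (CommRingCat.ofHom (algebraMap A K))) :
    ∃! s : Spec (CommRingCat.of A) ⟶ X, s ≫ f = 𝟙 _ ∧ Spec.map (CommRingCat.ofHom (algebraMap A K)) ≫ s = x := by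
  have hex : ∃ s : Spec (CommRingCat.of A) ⟶ X, s ≫ f = 𝟙 _ ∧ Spec.map (CommRingCat.ofHom (algebraMap A K)) ≫ s = x := by
    have : IsDomain (CommRingCat.of A) := ‹_›
    have : ValuationRing (CommRingCat.of A) := ‹_›
    let : Field (CommRingCat.of K) := ‹_›
    obtain ⟨p, h₁, h₂⟩ := hf.specializingMap (a := x (IsLocalRing.closedPoint (CommRingCat.of K)))
      (IsLocalRing.specializes_closedPoint (R := A) _)
    let e : CommRingCat.of A ≅ (Spec (CommRingCat.of A)).presheaf.stalk (f p) :=
      (stalkClosedPointIso (.of A)).symm ≪≫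
        (Spec (CommRingCat.of A)).presheaf.stalkCongr (.of_eq h₂.symm)
    let α := e.hom ≫ f.stalkMap p
    have : IsLocalHom e.hom.hom := isLocalHom_of_isIso e.hom
    have : IsLocalHom α.hom := inferInstanceAs
      (IsLocalHom ((f.stalkMap p).hom.comp e.hom.hom))
    let β := X.presheaf.stalkSpecializes h₁ ≫ Scheme.stalkClosedPointTo x
    have hαβ : α ≫ β = CommRingCat.ofHom (algebraMap A K) := by
      simp only [Iso.trans_hom, Iso.symm_hom, TopCat.Presheaf.stalkCongr_hom,
        Category.assoc, α, e, β, stalkClosedPointIso_inv, StructureSheaf.toStalk]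
      change (Scheme.ΓSpecIso (.of A)).inv ≫ (Spec (CommRingCat.of A)).presheaf.germ _ _ _ ≫ _ = _
      simp only [TopCat.Presheaf.germ_stalkSpecializes_assoc, Scheme.Hom.germ_stalkMap_assoc]
      simp only [TopologicalSpace.Opens.map_top]
      rw [Scheme.germ_stalkClosedPointTo x ⊤ trivial]
      erw [← Scheme.Hom.comp_app_assoc x f]
      rw [hx]
      simp
    have hbij := bijective_rangeRestrict_comp_of_valuationRing (R := A) (K := K) α.hom β.hom
      (CommRingCat.hom_ext_iff.mp hαβ)
    let φ : X.presheaf.stalk p ⟶ CommRingCat.of A := CommRingCat.ofHom <|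
      (RingEquiv.ofBijective _ hbij).symm.toRingHom.comp β.hom.rangeRestrict
    have hαφ : α ≫ φ = 𝟙 _ := by ext z; exact (RingEquiv.ofBijective _ hbij).symm_apply_apply z
    have hαφ' : f.stalkMap p ≫ φ = e.inv := by
      rw [← cancel_epi e.hom, ← Category.assoc, hαφ, e.hom_inv_id]
    have hφβ : φ ≫ CommRingCat.ofHom (algebraMap A K) = β :=
      hαβ ▸ CommRingCat.hom_ext (RingHom.ext fun z ↦ congr_arg Subtype.val
        ((RingEquiv.ofBijective _ hbij).apply_symm_apply (β.hom.rangeRestrict z)))
    refine ⟨Spec.map φ ≫ X.fromSpecStalk p, ?_, ?_⟩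
    · rw [Category.assoc, ← Scheme.SpecMap_stalkMap_fromSpecStalk, ← Spec.map_comp_assoc, hαφ']
      simp only [Iso.trans_inv, TopCat.Presheaf.stalkCongr_inv, Iso.symm_inv, Spec.map_comp,
        Category.assoc, Scheme.SpecMap_stalkSpecializes_fromSpecStalk, e]
      rw [← Spec_stalkClosedPointIso, ← Spec.map_comp,
        Iso.inv_hom_id, Spec.map_id]
    · rw [← Spec.map_comp_assoc, hφβ]
      simp only [Spec.map_comp, Category.assoc, Scheme.SpecMap_stalkSpecializes_fromSpecStalk, β]
      exact Scheme.Spec_stalkClosedPointTo_fromSpecStalk x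
  obtain ⟨s, hs⟩ := hex
  refine ⟨s, hs, fun s' hs' => ?_⟩
  have hu : ValuativeCriterion.Uniqueness f := by
    have h : IsSeparated f := inferInstance
    rw [IsSeparated.eq_valuativeCriterion] at h
    exact h.1
  let S : ValuativeCommSq f :=
    { R := A, K := K, i₁ := x, i₂ := 𝟙 _, commSq := ⟨by rw [Category.comp_id]; exact hx⟩ }
  exact congrArg CommSq.LiftStruct.l ((hu S).elim ⟨s', hs'.2, hs'.1⟩ ⟨s, hs.2, hs.1⟩)

end Groth.Agent.S4439
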