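import Groth.Statements.S4441

-- import your own Groth.Agent.* helpers here

set_option autoImplicit false
universe u
open CategoryTheory CategoryTheory.Limits AlgebraicGeometry
open EGA2

namespace Groth.Agent.S4441

/-- Let X and Y be integral separated schemes and f : X ⟶ Y a dominant, quasi-compact, universally
closed morphism, ξ the generic point of X. Every valuation subring R of the function field K(X) of X
which dominates the local ring of Y at a point y (via O_{Y,y} → O_{Y,f(ξ)} → K(X): image inside R,
maximal ideal into the maximal ideal of R) also dominates the local ring of X at some point x (via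
O_{X,x} → K(X)). -/
theorem result {X Y : Scheme.{u}} [IsIntegral X] [IsIntegral Y]
    [X.IsSeparated] [Y.IsSeparated] (f : X ⟶ Y) [IsDominant f] [QuasiCompact f] [UniversallyClosed f]
    (R : ValuationSubring X.functionField) (y : Y) (hy : f.base (genericPoint X) ⤳ y)
    (hdom : (∀ a : Y.presheaf.stalk y, (Y.presheaf.stalkSpecializes hy ≫ f.stalkMap (genericPoint X)).hom a ∈ R) ∧
      ∀ a ∈ IsLocalRing.maximalIdeal (Y.presheaf.stalk y),
        R.valuation ((Y.presheaf.stalkSpecializes hy ≫ f.stalkMap (genericPoint X)).hom a) < 1) :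
    ∃ x : X, (∀ a : X.presheaf.stalk x, algebraMap (X.presheaf.stalk x) X.functionField a ∈ R) ∧
      ∀ a ∈ IsLocalRing.maximalIdeal (X.presheaf.stalk x), R.valuation (algebraMap (X.presheaf.stalk x) X.functionField a) < 1 := by
  obtain ⟨hmem, hmax⟩ := hdom
  let ψ : Y.presheaf.stalk y ⟶ X.functionField := Y.presheaf.stalkSpecializes hy ≫ f.stalkMap (genericPoint X)
  let χ : Y.presheaf.stalk y ⟶ CommRingCat.of R := CommRingCat.ofHom (ψ.hom.codRestrict R.toSubring hmem)
  have w : X.fromSpecStalk (genericPoint X) ≫ f =
      Spec.map (CommRingCat.ofHom (algebraMap R X.functionField)) ≫ Spec.map χ ≫ Y.fromSpecStalk y := by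
    rw [← Scheme.SpecMap_stalkMap_fromSpecStalk, ← Scheme.SpecMap_stalkSpecializes_fromSpecStalk hy]
    simp_rw [← Spec.map_comp_assoc]
    rfl
  have hE : ValuativeCriterion.Existence f :=
    ((congrFun (congrFun (congrFun UniversallyClosed.eq_valuativeCriterion X) Y) f).mp ‹_›).1
  obtain ⟨l, hl₁, -⟩ := (hE { R := R, K := X.functionField, commSq := ⟨w⟩, .. }).exists_lift
  dsimp only at hl₁
  let x := l (IsLocalRing.closedPoint R)
  let σ : X.presheaf.stalk x ⟶ CommRingCat.of R := Scheme.stalkClosedPointTo (R := CommRingCat.of R) l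
  have hσl : Spec.map σ ≫ X.fromSpecStalk x = l := Scheme.Spec_stalkClosedPointTo_fromSpecStalk l
  have hσ : σ ≫ CommRingCat.ofHom (algebraMap R X.functionField) =
      X.presheaf.stalkSpecializes ((genericPoint_spec X).specializes trivial : genericPoint X ⤳ x) := by
    refine Spec.map_injective ((cancel_mono (X.fromSpecStalk x)).1 ?_)
    rw [Spec.map_comp, Category.assoc, hσl, Scheme.SpecMap_stalkSpecializes_fromSpecStalk]
    exact hl₁
  refine ⟨x, fun a => ?_, fun a ha => ?_⟩
  · show (X.presheaf.stalkSpecializes _).hom a ∈ R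
    rw [← hσ]
    exact (σ.hom a).2
  · show R.valuation ((X.presheaf.stalkSpecializes _).hom a) < 1
    rw [← hσ]
    exact (R.valuation_lt_one_iff (σ.hom a)).1 fun hu => ha ((inferInstance : IsLocalHom σ.hom).map_nonunit a hu)

end Groth.Agent.S4441
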