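import Groth.Statements.S4442
import Groth.Agent.VarDim.Scheme

set_option autoImplicit false
universe u
open CategoryTheory CategoryTheory.Limits AlgebraicGeometry
attribute [local instance] Curv2.resAlgebra
open EGA2

namespace Groth.Agent.S4442

/-- (a) ⇔ (b): let X be a scheme of finite type over a field k. The residue fields of the generic points
of the irreducible components of X all have transcendence degree one over k if and only if the local
ring of X at every closed point has dimension one. (The published statement has a third equivalent
condition: the irreducible closed subsets of X other than the irreducible components are exactly the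
closed points of X. This row states only the equivalence of the first two.) -/
theorem result (k : Type u) [Field k] (X : Scheme.{u})
    [X.Over (Spec (CommRingCat.of k))] [LocallyOfFiniteType (X ↘ (Spec (CommRingCat.of k)))]
    [QuasiCompact (X ↘ (Spec (CommRingCat.of k)))] :
    (∀ x : X, closure ({x} : Set X) ∈ irreducibleComponents (X : Type u) → Algebra.trdeg k (X.residueField x) = 1) ↔
      ∀ x : X, IsClosed ({x} : Set X) → ringKrullDim (X.presheaf.stalk x) = 1 := by
  have hcast : ∀ (x : X) (n : ℕ), Algebra.trdeg k (X.residueField x) = n ↔ Groth.Agent.VarDim.dimPt k X x = n := by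
    intro x n
    rw [Groth.Agent.VarDim.trdeg_residueField (X := X) k x, Nat.cast_inj]
  have hcl : ∀ x : X, IsClosed ({x} : Set X) ↔ Groth.Agent.VarDim.dimPt k X x = 0 := by
    refine fun x => ⟨fun h => ?_, fun h => closure_subset_iff_isClosed.1 fun y hy => ?_⟩
    · obtain ⟨y, hyx, -, hy0⟩ := Groth.Agent.VarDim.exists_le_dimPt_eq_zero k x ⊤ trivial
      rwa [show y = x from Set.mem_singleton_iff.1
        (Specializes.mem_closed (s := ({x} : Set X)) (hyx : x ⤳ y) h rfl)] at hy0
    · have hle : y ≤ x := specializes_iff_mem_closure.mpr hy
      by_contra hne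
      have hlt : y < x := lt_of_le_not_ge hle fun h' =>
        hne (Inseparable.eq (Specializes.antisymm h' hle))
      have := Groth.Agent.VarDim.dimPt_lt_of_lt k hlt
      omega
  have hmax : ∀ y : X, ∃ η : X, y ≤ η ∧ closure ({η} : Set X) ∈ irreducibleComponents (X : Type u) := by
    intro y
    have hC := irreducibleComponent_mem_irreducibleComponents y
    have hg : closure ({(hC.1).genericPoint} : Set X) = irreducibleComponent y := by
      rw [(hC.1).isGenericPoint_genericPoint_closure.def, isClosed_irreducibleComponent.closure_eq]
    refine ⟨(hC.1).genericPoint, specializes_iff_mem_closure.mpr ?_, hg.symm ▸ hC⟩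
    rw [hg]
    exact mem_irreducibleComponent
  refine ⟨fun h x hx => ?_, fun h η hη => (hcast η 1).2 ?_ |>.trans Nat.cast_one⟩
  · have hx0 := (hcl x).1 hx
    have hub : ∀ y, x ≤ y → Groth.Agent.VarDim.dimPt k X y ≤ 1 := fun y _ => by
      obtain ⟨η, hyη, hη⟩ := hmax y
      have h1 := (hcast η 1).1 ((h η hη).trans Nat.cast_one.symm)
      obtain ⟨hle, -⟩ := Groth.Agent.VarDim.exists_ltSeries_of_le k hyη
      omega
    obtain ⟨η, hxη, hη⟩ := hmax x
    have h1 := (hcast η 1).1 ((h η hη).trans Nat.cast_one.symm)
    rw [ringKrullDim_stalk_eq_coheight]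
    refine congrArg WithBot.some (le_antisymm ?_ ?_)
    · exact (Groth.Agent.VarDim.coheight_le_of_forall k hub).trans (by simp [hx0])
    · have := Groth.Agent.VarDim.le_coheight k hxη
      simpa [h1, hx0] using this
  · obtain ⟨y, hyη, -, hy0⟩ := Groth.Agent.VarDim.exists_le_dimPt_eq_zero k η ⊤ trivial
    have hy1 := h y ((hcl y).2 hy0)
    rw [ringKrullDim_stalk_eq_coheight] at hy1
    have hy1' : Order.coheight y = 1 := WithBot.coe_injective hy1
    have h2 := Groth.Agent.VarDim.le_coheight k hyη
    rw [hy1', hy0] at h2
    have h3 : Groth.Agent.VarDim.dimPt k X η ≤ 1 := by simpa using h2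
    by_contra hne
    have h0 : Groth.Agent.VarDim.dimPt k X η = 0 := by omega
    have hη1 := h η ((hcl η).2 h0)
    rw [ringKrullDim_stalk_eq_coheight] at hη1
    have hmin : Order.coheight η = 0 := by
      rw [Order.coheight_eq_zero]
      intro z hz
      have hsub : closure ({η} : Set X) ⊆ closure {z} :=
        closure_minimal (Set.singleton_subset_iff.2 (specializes_iff_mem_closure.1 hz)) isClosed_closure
      exact specializes_iff_mem_closure.mpr
        (hη.2 isIrreducible_singleton.closure hsub (subset_closure rfl))
    rw [hmin] at hη1
    exact zero_ne_one (WithBot.coe_injective hη1)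

end Groth.Agent.S4442
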