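import Groth.Statements.S4443

-- import your own Groth.Agent.* helpers here

set_option autoImplicit false
universe u
open CategoryTheory CategoryTheory.Limits AlgebraicGeometry
open EGA2

namespace Groth.Agent.S4443

/-- Let X be an irreducible algebraic curve over a field k (separated and of finite type over k,
nonempty, irreducible, local rings at closed points of dimension one). Then the generic point is the
only non-closed point of X, and the closed subsets of X distinct from X are exactly the finite sets
of closed points. (The published statement adds that these are also exactly the subsets of X that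
are not dense in X, an immediate consequence; this row does not state it.) -/
theorem result (k : Type u) [Field k] (X : Scheme.{u})
    [X.Over (Spec (CommRingCat.of k))] [LocallyOfFiniteType (X ↘ (Spec (CommRingCat.of k)))]
    [QuasiCompact (X ↘ (Spec (CommRingCat.of k)))] [IsSeparated (X ↘ (Spec (CommRingCat.of k)))]
    [Nonempty X] [IrreducibleSpace X] (hcurve : ∀ x : X, IsClosed ({x} : Set X) → ringKrullDim (X.presheaf.stalk x) = 1) :
    (∀ x : X, ¬ IsClosed ({x} : Set X) → x = genericPoint X) ∧
      ∀ F : Set X, IsClosed F → (F ≠ Set.univ ↔ (F.Finite ∧ ∀ x ∈ F, IsClosed ({x} : Set X))) := by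
  classical
  have hJ : JacobsonSpace X := LocallyOfFiniteType.jacobsonSpace (X ↘ Spec (CommRingCat.of k))
  have : CompactSpace X := QuasiCompact.compactSpace_of_compactSpace (X ↘ Spec (CommRingCat.of k))
  have : IsLocallyNoetherian X := LocallyOfFiniteType.isLocallyNoetherian (X ↘ Spec (CommRingCat.of k))
  have : IsNoetherian X := ⟨⟩
  have hgen : ∀ y : X, genericPoint X ⤳ y := fun y => (genericPoint_spec X).specializes trivial
  have h1 : ∀ x : X, ¬ IsClosed ({x} : Set X) → x = genericPoint X := by
    intro x hx
    by_contra hne
    obtain ⟨z, hz, hzc⟩ := nonempty_inter_closedPoints (Set.singleton_nonempty x).closure isClosed_closure.isLocallyClosed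
    have hxz : z < x := lt_of_le_not_ge (show x ⤳ z from specializes_iff_mem_closure.2 hz) fun h =>
      hx ((show x = z from (show z ⤳ x from h).mem_closed hzc rfl) ▸ hzc)
    have hxη : x < genericPoint X := lt_of_le_not_ge (show genericPoint X ⤳ x from hgen x) fun h =>
      hne ((show x ⤳ genericPoint X from h).antisymm (hgen x)).eq
    have hh : Order.coheight z ≥ 2 := by
      have e1 := Order.coheight_add_one_le hxη
      have e2 := Order.coheight_add_one_le hxz
      refine le_trans ?_ e2
      calc (2 : ℕ∞) = 0 + 1 + 1 := by norm_num
        _ ≤ Order.coheight (genericPoint X) + 1 + 1 := by gcongr; exact zero_le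
        _ ≤ Order.coheight x + 1 := by gcongr
    have e := hcurve z hzc
    rw [ringKrullDim_stalk_eq_coheight] at e
    rw [WithBot.coe_eq_one.1 e] at hh
    exact absurd hh (by norm_num)
  refine ⟨h1, fun F hF => ⟨fun hne => ?_, fun ⟨hfin, hcl⟩ htop => ?_⟩⟩
  · have hηF : genericPoint X ∉ F := fun h => hne (Set.eq_univ_of_forall fun y => (hgen y).mem_closed hF h)
    have hcl : ∀ x ∈ F, IsClosed ({x} : Set X) := fun x hx => by
      by_contra h
      exact hηF (h1 x h ▸ hx)
    obtain ⟨S, hSf, hSc, hSi, hFS⟩ := TopologicalSpace.NoetherianSpace.exists_finite_set_isClosed_irreducible hF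
    refine ⟨?_, hcl⟩
    rw [hFS]
    refine hSf.sUnion fun C hC => Set.Subsingleton.finite ?_
    intro a ha b hb
    obtain ⟨c, hc⟩ := QuasiSober.sober (hSi C hC) (hSc C hC)
    have hcC : C ⊆ ({c} : Set X) := fun y hy => by
      have hcF : c ∈ F := hFS ▸ Set.subset_sUnion_of_mem hC hc.mem
      exact (hc.specializes hy).mem_closed (hcl c hcF) rfl
    rw [hcC ha, hcC hb]
  · have hη := hcl (genericPoint X) (htop ▸ Set.mem_univ _)
    have hall : ∀ y : X, y = genericPoint X := fun y => (hgen y).mem_closed hη rfl
    have : Order.coheight (genericPoint X) = 0 :=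
      Order.coheight_eq_zero.2 fun y _ => (hall y).le
    have e := hcurve (genericPoint X) hη
    rw [ringKrullDim_stalk_eq_coheight, this] at e
    exact zero_ne_one e

end Groth.Agent.S4443
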