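import Groth.Statements.S4444
import Groth.Agent.DimOneAmple.RedCompletion
import Groth.Agent.DimIneq.Basic

set_option autoImplicit false
universe u
open CategoryTheory CategoryTheory.Limits AlgebraicGeometry
open EGA2

namespace Groth.Agent.S4444

/-- Every normal algebraic curve X over a field k (separated and of finite type over k, nonempty, local
rings at closed points of dimension one, all local rings integrally closed domains) admits a
k-morphism which is an open immersion with dense image into a normal algebraic curve proper over k.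
(The uniqueness of this completion up to unique isomorphism is not part of this row.) -/
theorem result (k : Type u) [Field k] (X : Scheme.{u})
    [X.Over (Spec (CommRingCat.of k))] [LocallyOfFiniteType (X ↘ (Spec (CommRingCat.of k)))]
    [QuasiCompact (X ↘ (Spec (CommRingCat.of k)))] [IsSeparated (X ↘ (Spec (CommRingCat.of k)))] [Nonempty X]
    (hcurve : ∀ x : X, IsClosed ({x} : Set X) → ringKrullDim (X.presheaf.stalk x) = 1) (hnorm : Pi1.IsNormalScheme X) :
    ∃ (Xc : Scheme.{u}) (sc : Xc ⟶ Spec (CommRingCat.of k)) (j : X ⟶ Xc), IsOpenImmersion j ∧ Dense (Set.range j.base) ∧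
      j ≫ sc = X ↘ (Spec (CommRingCat.of k)) ∧ IsProper sc ∧ Pi1.IsNormalScheme Xc ∧
      ∀ x : Xc, IsClosed ({x} : Set Xc) → ringKrullDim (Xc.presheaf.stalk x) = 1 := by
  have : _root_.AlgebraicGeometry.IsLocallyNoetherian X :=
    LocallyOfFiniteType.isLocallyNoetherian (X ↘ Spec (CommRingCat.of k))
  have : CompactSpace X := QuasiCompact.compactSpace_of_compactSpace (X ↘ Spec (CommRingCat.of k))
  have : ∀ x : X, _root_.IsReduced (X.presheaf.stalk x) := fun x => by
    have := (hnorm x).1; infer_instance
  have : IsReduced X := isReduced_of_isReduced_stalk X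
  have hdim : topologicalKrullDim X ≤ 1 := by
    rw [Groth.Agent.DimIneq.topologicalKrullDim_eq_iSup_stalk]
    refine iSup_le fun x => ?_
    obtain ⟨y, hy, hyc⟩ := IsClosed.exists_closed_singleton (isClosed_closure (s := ({x} : Set X)))
      ⟨x, subset_closure rfl⟩
    rw [ringKrullDim_stalk_eq_coheight, ← hcurve y hyc, ringKrullDim_stalk_eq_coheight]
    exact WithBot.coe_le_coe.mpr (Order.coheight_anti (specializes_iff_mem_closure.mpr hy))
  obtain ⟨d, Y, c, j, hc, hj, hw, hdense, -, -, -, hb⟩ :=
    Groth.Agent.DimOneAmple.exists_completion_reduced (k := k) X hdim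
  have := Groth.Agent.ProjProper.Basic.isProper_toSpec d k
  refine ⟨Y, c ≫ CohB1.ProjSpace.toSpec d k, j, hj, hdense, hw, inferInstance, fun y => ?_, fun y hy => ?_⟩
  · by_cases h : y ∈ Set.range j.base
    · obtain ⟨x, rfl⟩ := h
      have e := (asIso (j.stalkMap x)).commRingCatIsoToRingEquiv
      have := (hnorm x).1
      have := (hnorm x).2
      exact ⟨MulEquiv.isDomain _ e.toMulEquiv, IsIntegrallyClosed.of_equiv e.symm⟩
    · obtain ⟨-, h1, h2⟩ := hb y h
      exact ⟨h1, inferInstance⟩
  · by_cases h : y ∈ Set.range j.base
    · obtain ⟨x, rfl⟩ := h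
      have e := (asIso (j.stalkMap x)).commRingCatIsoToRingEquiv
      rw [ringKrullDim_eq_of_ringEquiv e]
      refine hcurve x ?_
      have := hy.preimage j.base.hom.continuous
      rwa [← Set.image_singleton, Set.preimage_image_eq _ j.isOpenEmbedding.injective] at this
    · obtain ⟨-, h1, h2⟩ := hb y h
      exact IsDiscreteValuationRing.ringKrullDim_eq_one _

end Groth.Agent.S4444
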