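import Groth.Statements.S4445
import Groth.Agent.NormalCurve48.Basic
import Groth.Agent.GITLib.ExtendPoint

set_option autoImplicit false
universe u
open CategoryTheory CategoryTheory.Limits AlgebraicGeometry
attribute [local instance] Curv2.stalkAlgebra
open EGA2

namespace Groth.Agent.S4445

/-- Let X be a normal irreducible algebraic curve over a field k with field of rational functions K, and
Y an integral complete (proper over k) algebraic curve with field of rational functions L. Dominant
k-morphisms X ⟶ Y correspond bijectively to k-embeddings L → K: for every k-algebra homomorphism φ :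
L → K there is exactly one k-morphism u : X ⟶ Y mapping the generic point of X to the generic point
of Y and inducing φ on the stalks at the generic points. -/
theorem result (k : Type u) [Field k] (X Y : Scheme.{u})
    [X.Over (Spec (CommRingCat.of k))] [LocallyOfFiniteType (X ↘ (Spec (CommRingCat.of k)))]
    [QuasiCompact (X ↘ (Spec (CommRingCat.of k)))] [IsSeparated (X ↘ (Spec (CommRingCat.of k)))] [IsIntegral X]
    (hX : ∀ x : X, IsClosed ({x} : Set X) → ringKrullDim (X.presheaf.stalk x) = 1) (hnorm : Pi1.IsNormalScheme X)
    [Y.Over (Spec (CommRingCat.of k))] [IsProper (Y ↘ (Spec (CommRingCat.of k)))] [IsIntegral Y]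
    (hY : ∀ y : Y, IsClosed ({y} : Set Y) → ringKrullDim (Y.presheaf.stalk y) = 1)
    (φ : Y.functionField →ₐ[k] X.functionField) :
    ∃! u : X ⟶ Y, u ≫ (Y ↘ (Spec (CommRingCat.of k))) = X ↘ (Spec (CommRingCat.of k)) ∧
      ∃ hu : u.base (genericPoint X) = genericPoint Y,
        (Y.presheaf.stalkSpecializes (specializes_of_eq hu) ≫ u.stalkMap (genericPoint X)).hom = (φ : Y.functionField →+* X.functionField) := by
  have : _root_.AlgebraicGeometry.IsLocallyNoetherian X :=
    LocallyOfFiniteType.isLocallyNoetherian (X ↘ Spec (CommRingCat.of k))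
  have : CompactSpace X := QuasiCompact.compactSpace_of_compactSpace (X ↘ Spec (CommRingCat.of k))
  have hV := Groth.Agent.NormalCurve48.valuationRing_stalk hX fun x => (hnorm x).2
  let φ' : Y.functionField ⟶ X.functionField := CommRingCat.ofHom (φ : Y.functionField →+* X.functionField)
  have hz : X.fromSpecStalk (genericPoint X) ≫ (X ↘ Spec (CommRingCat.of k)) =
      (Spec.map φ' ≫ Y.fromSpecStalk (genericPoint Y)) ≫ (Y ↘ Spec (CommRingCat.of k)) := by
    rw [Category.assoc, Groth.Agent.NormalCurve48.fromSpecStalk_str,
      Groth.Agent.NormalCurve48.fromSpecStalk_str, ← Spec.map_comp]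
    congr 1
    ext c
    exact (φ.commutes c).symm
  obtain ⟨s, hs, hη⟩ := Groth.Agent.GITLib.exists_section_of_genericPoint
    (Y := pullback (X ↘ Spec (CommRingCat.of k)) (Y ↘ Spec (CommRingCat.of k))) hV (pullback.fst _ _)
    (pullback.lift _ _ hz) (pullback.lift_fst _ _ _)
  have key : X.fromSpecStalk (genericPoint X) ≫ (s ≫ pullback.snd _ _) =
      Spec.map φ' ≫ Y.fromSpecStalk (genericPoint Y) := by
    rw [← Category.assoc, hη, pullback.lift_snd]
  refine ⟨s ≫ pullback.snd _ _, ⟨?_, (Groth.Agent.NormalCurve48.genericStalk_iff _ φ').2 key⟩, ?_⟩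
  · rw [Category.assoc, ← pullback.condition, ← Category.assoc, hs, Category.id_comp]
  · rintro v ⟨hv, hv'⟩
    refine ext_of_isDominant_of_isSeparated (Y ↘ Spec (CommRingCat.of k)) ?_
      (X.fromSpecStalk (genericPoint X))
      (((Groth.Agent.NormalCurve48.genericStalk_iff v φ').1 hv').trans key.symm)
    rw [hv, Category.assoc, ← pullback.condition, ← Category.assoc, hs, Category.id_comp]

end Groth.Agent.S4445
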