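import Groth.Statements.S4447

-- import your own Groth.Agent.* helpers here

set_option autoImplicit false
universe u
open CategoryTheory CategoryTheory.Limits AlgebraicGeometry
open EGA2

namespace Groth.Agent.S4447

/-- Let p : X ⟶ Y be a morphism, x a point of X, y = p(x) and y' a specialization of y distinct from y.
Then there are a valuation ring A which is not a field, with field of fractions the residue field
k(x), and a morphism Spec A ⟶ Y mapping the closed point to y' and restricting on Spec k(x) to the
canonical morphism Spec k(x) ⟶ X ⟶ Y (in particular the generic point of Spec A goes to y). -/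
theorem result {X Y : Scheme.{u}} (p : X ⟶ Y) (x : X) (y' : Y)
    (hsp : p.base x ⤳ y') (hne : y' ≠ p.base x) :
    ∃ (A : ValuationSubring (X.residueField x)) (h : Spec (CommRingCat.of A) ⟶ Y), A ≠ ⊤ ∧
      h.base (IsLocalRing.closedPoint A) = y' ∧
      Spec.map (CommRingCat.ofHom A.subtype) ≫ h = X.fromSpecResidueField x ≫ p := by
  let ψ : Y.presheaf.stalk y' ⟶ X.residueField x := Y.presheaf.stalkSpecializes hsp ≫ p.stalkMap x ≫ X.residue x
  have hψ : Spec.map ψ ≫ Y.fromSpecStalk y' = X.fromSpecResidueField x ≫ p := by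
    rw [Scheme.fromSpecResidueField, Category.assoc, ← Scheme.SpecMap_stalkMap_fromSpecStalk,
      ← Scheme.SpecMap_stalkSpecializes_fromSpecStalk hsp]
    simp_rw [← Spec.map_comp_assoc]
    rfl
  obtain ⟨A, hA, hloc⟩ := IsLocalRing.exists_factor_valuationRing ψ.hom
  let χ : Y.presheaf.stalk y' ⟶ CommRingCat.of A := CommRingCat.ofHom (ψ.hom.codRestrict A.toSubring hA)
  refine ⟨A, Spec.map χ ≫ Y.fromSpecStalk y', fun htop => hne ?_, ?_, ?_⟩
  · have hker : ∀ a ∈ IsLocalRing.maximalIdeal (Y.presheaf.stalk y'), ψ.hom a = 0 := fun a ha => by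
      by_contra h0
      have hu : IsUnit (ψ.hom.codRestrict A.toSubring hA a) := by
        refine IsUnit.of_mul_eq_one (⟨(ψ.hom a)⁻¹, show _ ∈ A by rw [htop]; trivial⟩ : A.toSubring) (Subtype.ext ?_)
        exact mul_inv_cancel₀ h0
      exact ha (hloc.map_nonunit a hu)
    let z : ↥(Spec (X.residueField x)) := IsLocalRing.closedPoint _
    have hz : Spec.map ψ z = IsLocalRing.closedPoint (Y.presheaf.stalk y') := by
      refine PrimeSpectrum.ext (le_antisymm (IsLocalRing.le_maximalIdeal ?_) fun a ha => ?_)
      · exact (Spec.map ψ z).isPrime.ne_top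
      · show ψ.hom a ∈ z.asIdeal
        rw [hker a ha]
        exact zero_mem _
    have e := congr($(hψ) z)
    rw [Scheme.Hom.comp_apply, Scheme.Hom.comp_apply, hz, Scheme.fromSpecStalk_closedPoint,
      Scheme.fromSpecResidueField_apply] at e
    exact e
  · have : IsLocalHom χ.hom := hloc
    show (Spec.map χ ≫ Y.fromSpecStalk y') (IsLocalRing.closedPoint A) = y'
    rw [Scheme.Hom.comp_apply]
    exact (congrArg _ (Spec_closedPoint (f := χ))).trans Y.fromSpecStalk_closedPoint
  · rw [← Category.assoc, ← Spec.map_comp]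
    exact hψ

end Groth.Agent.S4447
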