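import Groth.Statements.S4449
import Groth.Agent.DVRProper.Basic
import Groth.Agent.DVRCrit.Basic
-- import your own Groth.Agent.* helpers here

set_option autoImplicit false
universe u
open CategoryTheory CategoryTheory.Limits AlgebraicGeometry
open EGA2

namespace Groth.Agent.S4449

/-- Case of an arbitrary integral separated base: let Y and X be integral separated schemes and f : X ⟶
Y a dominant morphism of finite type, ξ the generic point of X. Suppose that every valuation subring
R of K(X) other than K(X) itself which dominates the local ring of Y at a point y (via O_{Y,y} →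
O_{Y,f(ξ)} → K(X)) dominates the local ring of X at some point x (via O_{X,x} → K(X)). Then f is
proper. (Compare the locally Noetherian variant with discrete valuation rings.) -/
theorem result {X Y : Scheme.{u}} [IsIntegral X] [IsIntegral Y]
    [X.IsSeparated] [Y.IsSeparated] (f : X ⟶ Y) [IsDominant f] [LocallyOfFiniteType f] [QuasiCompact f]
    (h : ∀ (R : ValuationSubring X.functionField), R ≠ ⊤ →
      ∀ (y : Y) (hy : f.base (genericPoint X) ⤳ y),
        ((∀ a : Y.presheaf.stalk y, (Y.presheaf.stalkSpecializes hy ≫ f.stalkMap (genericPoint X)).hom a ∈ R) ∧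
          ∀ a ∈ IsLocalRing.maximalIdeal (Y.presheaf.stalk y),
            R.valuation ((Y.presheaf.stalkSpecializes hy ≫ f.stalkMap (genericPoint X)).hom a) < 1) →
        ∃ x : X, (∀ a : X.presheaf.stalk x, algebraMap (X.presheaf.stalk x) X.functionField a ∈ R) ∧
          ∀ a ∈ IsLocalRing.maximalIdeal (X.presheaf.stalk x), R.valuation (algebraMap (X.presheaf.stalk x) X.functionField a) < 1) :
    IsProper f := by
  classical
  have hsep : IsSeparated f := by
    have : IsSeparated (f ≫ terminal.from Y) := by rw [terminal.comp_from]; infer_instance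
    exact IsSeparated.of_comp f (terminal.from Y)
  suffices hE : ValuativeCriterion.Existence f by
    have : UniversallyClosed f := UniversallyClosed.of_valuativeCriterion f hE
    exact ⟨⟩
  refine DVRCrit.existence_of_centers f fun x O hO hx V hV => ?_
  have hxO : f x ∈ O := by
    have := hx default
    rwa [Scheme.Hom.comp_apply, Scheme.fromSpecResidueField_apply] at this
  obtain ⟨_, ⟨U₀, hU₀, rfl⟩, hxU₀, hU₀O⟩ := X.isBasis_affineOpens.exists_subset_of_mem_open hxO (f ⁻¹ᵁ O).2
  replace hU₀O : U₀ ≤ f ⁻¹ᵁ O := hU₀O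
  replace hU₀ : IsAffineOpen U₀ := hU₀
  have hη : ∀ z : X, genericPoint X ⤳ z := fun z => (genericPoint_spec X).specializes trivial
  have hηU : ∀ {U : X.Opens} {z : X}, z ∈ U → genericPoint X ∈ U := fun {U z} hz => (hη z).mem_open U.2 hz
  -- sections over `O` seen at `x` and at the generic point
  let sx : Γ(Y, O) ⟶ X.presheaf.stalk x := f.appLE O U₀ hU₀O ≫ X.presheaf.germ U₀ x hxU₀
  let ρx : X.presheaf.stalk x ⟶ X.functionField := X.presheaf.stalkSpecializes (hη x)
  obtain ⟨W', hW', hW'loc⟩ := IsLocalRing.exists_factor_valuationRing ρx.hom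
  let toW' : X.presheaf.stalk x →+* W' := ρx.hom.codRestrict W'.toSubring hW'
  have : IsLocalHom toW' := hW'loc
  let j : X.residueField x →+* IsLocalRing.ResidueField W' := IsLocalRing.ResidueField.map toW'
  have hj : ∀ s, j ((X.residue x).hom s) = IsLocalRing.residue W' (toW' s) := fun s => rfl
  obtain ⟨W₁, hW₁⟩ := DVRProper.exists_extend j V
  obtain ⟨W, hW⟩ := DVRProper.exists_composite W' W₁
  have hW'' : ∀ a : W, (a : X.functionField) ∈ W' := fun a => ((hW a).1 a.2).1
  by_cases htop : W = ⊤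
  · refine ⟨U₀, hU₀, hU₀O, fun q => by rw [Scheme.fromSpecResidueField_apply]; exact hxU₀, fun b => (hW₁ _).1 ?_⟩
    rw [DVRCrit.ev_fromSpecResidueField hU₀ x hxU₀]
    show j ((X.residue x).hom _) ∈ W₁
    rw [hj]
    obtain ⟨_, h2⟩ := (hW (toW' (X.presheaf.germ U₀ x hxU₀ b) : X.functionField)).1 (by rw [htop]; trivial)
    exact h2
  have hOW : ∀ a : Γ(Y, O), ρx.hom (sx.hom a) ∈ W := fun a => by
    refine (hW _).2 ⟨hW' _, ?_⟩
    show IsLocalRing.residue W' (toW' (sx.hom a)) ∈ W₁
    rw [← hj]
    refine (hW₁ _).2 ?_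
    have hU₀' : ∀ q, X.fromSpecResidueField x q ∈ U₀ := fun q => by rw [Scheme.fromSpecResidueField_apply]; exact hxU₀
    have e := congr($(DVRCrit.ev_comp_right f (X.fromSpecResidueField x) hU₀O hU₀').hom a)
    rw [DVRCrit.ev_fromSpecResidueField hU₀ x hxU₀] at e
    have h := hV a
    rw [show (DVRCrit.ev (X.fromSpecResidueField x ≫ f) O hx).hom a = _ from e] at h
    exact h
  let ψO : Γ(Y, O) ⟶ CommRingCat.of W := CommRingCat.ofHom ((sx ≫ ρx).hom.codRestrict W.toSubring hOW)
  let gW : Spec (CommRingCat.of W) ⟶ Y := Spec.map ψO ≫ hO.fromSpec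
  have hgen : Spec.map (CommRingCat.ofHom W.subtype) ≫ gW = X.fromSpecStalk (genericPoint X) ≫ f := by
    rw [← Category.assoc, ← Spec.map_comp, show ψO ≫ CommRingCat.ofHom W.subtype = sx ≫ ρx from rfl,
      ← hU₀.fromSpecStalk_eq_fromSpecStalk (hηU hxU₀), IsAffineOpen.fromSpecStalk]
    rw [Category.assoc (Spec.map _) hU₀.fromSpec f, ← hO.SpecMap_appLE_fromSpec f hU₀ hU₀O, ← Category.assoc, ← Spec.map_comp]
    congr 2
    simp only [sx, ρx, Category.assoc, TopCat.Presheaf.germ_stalkSpecializes]
  set y := gW (IsLocalRing.closedPoint W) with hy_def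
  have hy : f (genericPoint X) ⤳ y := by
    let z : ↥(Spec X.functionField) := IsLocalRing.closedPoint _
    have h := (IsLocalRing.specializes_closedPoint (Spec.map (CommRingCat.ofHom W.subtype) z)).map gW.continuous
    have e : gW (Spec.map (CommRingCat.ofHom W.subtype) z) = f (X.fromSpecStalk (genericPoint X) z) := congr($(hgen) z)
    rw [Scheme.fromSpecStalk_closedPoint] at e
    exact e ▸ h
  let σ : Y.presheaf.stalk y ⟶ CommRingCat.of W := Scheme.stalkClosedPointTo (R := CommRingCat.of W) gW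
  have hσg : Spec.map σ ≫ Y.fromSpecStalk y = gW := Scheme.Spec_stalkClosedPointTo_fromSpecStalk gW
  have hσ : Y.presheaf.stalkSpecializes hy ≫ f.stalkMap (genericPoint X) = σ ≫ CommRingCat.ofHom W.subtype := by
    refine Spec.map_injective ((cancel_mono (Y.fromSpecStalk y)).1 ?_)
    rw [Spec.map_comp, Spec.map_comp, Category.assoc, Category.assoc, Scheme.SpecMap_stalkSpecializes_fromSpecStalk,
      Scheme.SpecMap_stalkMap_fromSpecStalk, hσg, hgen]
  obtain ⟨x', hx'1, hx'2⟩ := h W htop y hy ⟨fun a => by rw [hσ]; exact (σ.hom a).2, fun a ha => by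
    rw [hσ]
    exact (W.valuation_lt_one_iff (σ.hom a)).1 fun hu => ha ((inferInstance : IsLocalHom σ.hom).map_nonunit a hu)⟩
  let ρ' : X.presheaf.stalk x' ⟶ X.functionField := X.presheaf.stalkSpecializes (hη x')
  let ψ' : X.presheaf.stalk x' ⟶ CommRingCat.of W := CommRingCat.ofHom (ρ'.hom.codRestrict W.toSubring hx'1)
  have : IsLocalHom ψ'.hom := ⟨fun a ha => by
    by_contra hna
    exact (lt_irrefl (1 : _)) ((((W.valuation_eq_one_iff _).1 ha) : W.valuation (ρ'.hom a) = 1) ▸ hx'2 a hna)⟩
  let lW : Spec (CommRingCat.of W) ⟶ X := Spec.map ψ' ≫ X.fromSpecStalk x'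
  have hlW : Spec.map (CommRingCat.ofHom W.subtype) ≫ lW = X.fromSpecStalk (genericPoint X) := by
    rw [← Category.assoc, ← Spec.map_comp, show ψ' ≫ CommRingCat.ofHom W.subtype = ρ' from rfl,
      Scheme.SpecMap_stalkSpecializes_fromSpecStalk]
  have hdom : ∀ (R : ValuationSubring X.functionField), IsDominant (Spec.map (CommRingCat.ofHom R.subtype)) := fun R => ⟨by
    refine (PrimeSpectrum.denseRange_comap_iff_ker_le_nilRadical _).2 ?_
    rw [(RingHom.injective_iff_ker_eq_bot _).1 (Subtype.val_injective (p := fun z => z ∈ R))]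
    exact bot_le⟩
  have hlc : lW (IsLocalRing.closedPoint W) = x' := by
    rw [Scheme.Hom.comp_apply]
    exact (congrArg _ (Spec_closedPoint (f := ψ'))).trans X.fromSpecStalk_closedPoint
  have hlf : lW ≫ f = gW := by
    haveI := hdom W
    exact ext_of_isDominant (Spec.map (CommRingCat.ofHom W.subtype)) (by rw [reassoc_of% hlW, hgen])
  have hx'O : f x' ∈ O := by
    rw [← hlc, ← Scheme.Hom.comp_apply, hlf]
    exact DVRCrit.mem_of_map_fromSpec hO ψO _
  obtain ⟨_, ⟨U, hU, rfl⟩, hx'U, hUO⟩ := X.isBasis_affineOpens.exists_subset_of_mem_open hx'O (f ⁻¹ᵁ O).2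
  replace hUO : U ≤ f ⁻¹ᵁ O := hUO
  replace hU : IsAffineOpen U := hU
  let incl : CommRingCat.of W ⟶ CommRingCat.of W' := CommRingCat.ofHom (W.subtype.codRestrict W'.toSubring hW'')
  let lx : Spec (CommRingCat.of W') ⟶ X := Spec.map (CommRingCat.ofHom toW') ≫ X.fromSpecStalk x
  have hlx : Spec.map incl ≫ lW = lx := by
    haveI := hdom W'
    refine ext_of_isDominant (Spec.map (CommRingCat.ofHom W'.subtype)) ?_
    rw [← Category.assoc, ← Spec.map_comp, show incl ≫ CommRingCat.ofHom W'.subtype = CommRingCat.ofHom W.subtype from rfl,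
      hlW, ← Category.assoc, ← Spec.map_comp, show CommRingCat.ofHom toW' ≫ CommRingCat.ofHom W'.subtype = ρx from rfl,
      Scheme.SpecMap_stalkSpecializes_fromSpecStalk]
  have hxU : x ∈ U := by
    have e := congr($(hlx) (IsLocalRing.closedPoint W'))
    have hc : lx (IsLocalRing.closedPoint W') = x := by
      rw [Scheme.Hom.comp_apply]
      exact (congrArg _ (Spec_closedPoint (f := CommRingCat.ofHom toW'))).trans X.fromSpecStalk_closedPoint
    rw [hc, Scheme.Hom.comp_apply] at e
    rw [← e]
    exact ((IsLocalRing.specializes_closedPoint _).map lW.continuous).mem_open U.2 (hlc ▸ hx'U)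
  refine ⟨U, hU, hUO, fun q => by rw [Scheme.fromSpecResidueField_apply]; exact hxU, fun b => (hW₁ _).1 ?_⟩
  rw [DVRCrit.ev_fromSpecResidueField hU x hxU]
  show j ((X.residue x).hom _) ∈ W₁
  rw [hj]
  have hb : (toW' (X.presheaf.germ U x hxU b) : X.functionField) ∈ W := by
    show (X.presheaf.germ U x hxU ≫ ρx).hom b ∈ W
    rw [show X.presheaf.germ U x hxU ≫ ρx = X.presheaf.germ U x' hx'U ≫ ρ' by
      simp only [ρx, ρ', TopCat.Presheaf.germ_stalkSpecializes]]
    exact hx'1 _
  obtain ⟨_, h2⟩ := (hW _).1 hb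
  exact h2

end Groth.Agent.S4449
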