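import Groth.Statements.S4450
import Groth.Agent.DVRCrit.Basic
-- import your own Groth.Agent.* helpers here

set_option autoImplicit false
universe u
open CategoryTheory CategoryTheory.Limits AlgebraicGeometry
open EGA2

namespace Groth.Agent.S4450

/-- Let Y be a locally Noetherian scheme, p : X ⟶ Y a morphism locally of finite type, x a point of X, y
= p(x) and y' a specialization of y distinct from y. Then there are a discrete valuation ring A with
field of fractions the residue field k(x) and a morphism Spec A ⟶ Y mapping the closed point to y'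
and restricting on Spec k(x) to the canonical morphism Spec k(x) ⟶ X ⟶ Y (so the generic point goes
to y, and the rational map from Spec A to X so defined induces the identity of k(x)). -/
theorem result {X Y : Scheme.{u}} [IsLocallyNoetherian Y]
    (p : X ⟶ Y) [LocallyOfFiniteType p] (x : X) (y' : Y) (hsp : p.base x ⤳ y') (hne : y' ≠ p.base x) :
    ∃ (A : ValuationSubring (X.residueField x)) (h : Spec (CommRingCat.of A) ⟶ Y), IsDiscreteValuationRing A ∧
      h.base (IsLocalRing.closedPoint A) = y' ∧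
      Spec.map (CommRingCat.ofHom A.subtype) ≫ h = X.fromSpecResidueField x ≫ p := by
  let ψ : Y.presheaf.stalk y' ⟶ X.residueField x := Y.presheaf.stalkSpecializes hsp ≫ p.stalkMap x ≫ X.residue x
  have hψ : Spec.map ψ ≫ Y.fromSpecStalk y' = X.fromSpecResidueField x ≫ p := by
    rw [Scheme.fromSpecResidueField, Category.assoc, ← Scheme.SpecMap_stalkMap_fromSpecStalk,
      ← Scheme.SpecMap_stalkSpecializes_fromSpecStalk hsp]
    simp_rw [← Spec.map_comp_assoc]
    rfl
  obtain ⟨_, ⟨O, hO, rfl⟩, hy', -⟩ :=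
    Y.isBasis_affineOpens.exists_subset_of_mem_open (Set.mem_univ y') isOpen_univ
  have hxO : x ∈ p ⁻¹ᵁ O := hsp.mem_open O.2 hy'
  obtain ⟨_, ⟨U, hU, rfl⟩, hxU, hUO⟩ := X.isBasis_affineOpens.exists_subset_of_mem_open hxO (p ⁻¹ᵁ O).2
  have hft : (p.appLE O U hUO).hom.FiniteType := HasRingHomProperty.appLE @LocallyOfFiniteType p ‹_› ⟨O, hO⟩ ⟨U, hU⟩ _
  let : Algebra Γ(Y, O) Γ(X, U) := (p.appLE O U hUO).hom.toAlgebra
  obtain ⟨T, hT⟩ := (show Algebra.FiniteType Γ(Y, O) Γ(X, U) from hft).out
  let ev : Γ(X, U) ⟶ X.residueField x := X.presheaf.germ U x hxU ≫ X.residue x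
  have hev : ∀ a : Γ(Y, O), ev.hom ((p.appLE O U hUO).hom a) = ψ.hom ((Y.presheaf.germ O y' hy').hom a) := by
    intro a
    have e : p.appLE O U hUO ≫ ev = Y.presheaf.germ O y' hy' ≫ ψ := by
      simp only [ψ, ev, TopCat.Presheaf.germ_stalkSpecializes_assoc, Scheme.Hom.germ_stalkMap_assoc,
        Scheme.Hom.appLE, Category.assoc]
      erw [X.presheaf.germ_res_assoc]
    exact congr($(e).hom a)
  have hgen : Subfield.closure (Set.range ψ.hom ∪ ev.hom '' (T : Set Γ(X, U))) = ⊤ := by
    have hall : ∀ b : Γ(X, U), ev.hom b ∈ Subfield.closure (Set.range ψ.hom ∪ ev.hom '' (T : Set Γ(X, U))) := by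
      intro b
      have hb : b ∈ Algebra.adjoin Γ(Y, O) (T : Set Γ(X, U)) := hT ▸ Algebra.mem_top
      induction hb using Algebra.adjoin_induction with
      | mem b hb => exact Subfield.subset_closure (Or.inr ⟨b, hb, rfl⟩)
      | algebraMap a => exact Subfield.subset_closure (Or.inl ⟨_, (hev a).symm⟩)
      | add a b _ _ ha hb => rw [map_add]; exact add_mem ha hb
      | mul a b _ _ ha hb => rw [map_mul]; exact mul_mem ha hb
    have h : ∀ q, X.fromSpecResidueField x q ∈ U := fun q => by rw [Scheme.fromSpecResidueField_apply]; exact hxU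
    rw [eq_top_iff, ← DVRCrit.closure_range_ev_residueField x hU h, DVRCrit.ev_fromSpecResidueField hU x hxU h,
      Subfield.closure_le]
    rintro _ ⟨b, rfl⟩
    exact hall b
  have hnz : ∃ a ∈ IsLocalRing.maximalIdeal (Y.presheaf.stalk y'), ψ.hom a ≠ 0 := by
    by_contra! hker
    let z : ↥(Spec (X.residueField x)) := IsLocalRing.closedPoint _
    have hz : Spec.map ψ z = IsLocalRing.closedPoint (Y.presheaf.stalk y') := by
      refine PrimeSpectrum.ext (le_antisymm (IsLocalRing.le_maximalIdeal ?_) fun a ha => ?_)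
      · exact (Spec.map ψ z).isPrime.ne_top
      · show ψ.hom a ∈ z.asIdeal
        rw [hker a ha]
        exact zero_mem _
    have e := congr($(hψ) z)
    rw [Scheme.Hom.comp_apply, Scheme.Hom.comp_apply, hz, Scheme.fromSpecStalk_closedPoint,
      Scheme.fromSpecResidueField_apply] at e
    exact hne e
  obtain ⟨A, hA, hAψ, hdom⟩ := DVRCrit.exists_dvr_dominating' ψ.hom (T.finite_toSet.image _) hgen hnz
  let χ : Y.presheaf.stalk y' ⟶ CommRingCat.of A := CommRingCat.ofHom (ψ.hom.codRestrict A.toSubring hAψ)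
  have : IsLocalHom χ.hom := ⟨fun a ha => by
    by_contra hna
    exact (lt_irrefl (1 : _)) ((((A.valuation_eq_one_iff _).1 ha) : A.valuation (ψ.hom a) = 1) ▸ hdom a hna)⟩
  refine ⟨A, Spec.map χ ≫ Y.fromSpecStalk y', hA, ?_, ?_⟩
  · show (Spec.map χ ≫ Y.fromSpecStalk y') (IsLocalRing.closedPoint A) = y'
    rw [Scheme.Hom.comp_apply]
    exact (congrArg _ (Spec_closedPoint (f := χ))).trans Y.fromSpecStalk_closedPoint
  · rw [← Category.assoc, ← Spec.map_comp]
    exact hψ

end Groth.Agent.S4450
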