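import Groth.Statements.S4451
import Groth.Agent.NormalCurve48.Basic

set_option autoImplicit false
universe u
open CategoryTheory CategoryTheory.Limits AlgebraicGeometry
attribute [local instance] Curv2.stalkAlgebra
open EGA2

namespace Groth.Agent.S4451

/-- Let X be a normal, complete, irreducible algebraic curve over a field k with field of rational
functions K. The set of local rings of X, as subrings of K, consists of K itself (at the generic
point) and of the valuation rings of K containing k (and distinct from K): every non-generic point
has such a valuation ring as local ring, and every such valuation ring is the local ring of exactly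
one point. -/
theorem result (k : Type u) [Field k] (X : Scheme.{u})
    [X.Over (Spec (CommRingCat.of k))] [IsProper (X ↘ (Spec (CommRingCat.of k)))] [IsIntegral X]
    (hX : ∀ x : X, IsClosed ({x} : Set X) → ringKrullDim (X.presheaf.stalk x) = 1) (hnorm : Pi1.IsNormalScheme X) :
    (∀ x : X, x ≠ genericPoint X → ∃ R : ValuationSubring X.functionField, R ≠ ⊤ ∧
        (R : Set X.functionField) = Set.range (algebraMap (X.presheaf.stalk x) X.functionField)) ∧
      ∀ R : ValuationSubring X.functionField, R ≠ ⊤ → (∀ c : k, algebraMap k X.functionField c ∈ R) →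
        ∃! x : X, (R : Set X.functionField) = Set.range (algebraMap (X.presheaf.stalk x) X.functionField) := by
  have : _root_.AlgebraicGeometry.IsLocallyNoetherian X :=
    LocallyOfFiniteType.isLocallyNoetherian (X ↘ Spec (CommRingCat.of k))
  have : CompactSpace X := QuasiCompact.compactSpace_of_compactSpace (X ↘ Spec (CommRingCat.of k))
  have : IsSeparated (terminal.from X) := by
    rw [← terminal.comp_from (X ↘ Spec (CommRingCat.of k))]
    infer_instance
  have : X.IsSeparated := ⟨this⟩
  have hV := Groth.Agent.NormalCurve48.valuationRing_stalk hX fun x => (hnorm x).2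
  let S : X → ValuationSubring X.functionField := fun x =>
    { (algebraMap (X.presheaf.stalk x) X.functionField).range with
      mem_or_inv_mem' := fun a => by
        have := hV x
        exact (ValuationRing.isInteger_or_isInteger (X.presheaf.stalk x) a).imp id id }
  have hS : ∀ x, (S x : Set X.functionField) =
      Set.range (algebraMap (X.presheaf.stalk x) X.functionField) := fun x => rfl
  refine ⟨fun x hx => ⟨S x, fun h => ?_, hS x⟩, fun R hR hk => ?_⟩
  · have hxc := (Groth.Agent.NormalCurve48.eq_genericPoint_or_isClosed hX x).resolve_left hx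
    have hDVR := Groth.Agent.NormalCurve48.isDiscreteValuationRing_stalk hX
      (fun x => (hnorm x).2) x hxc
    refine IsDiscreteValuationRing.not_isField (X.presheaf.stalk x) ?_
    have hsurj : Function.Surjective (algebraMap (X.presheaf.stalk x) X.functionField) := fun a => by
      have : a ∈ (S x : Set X.functionField) := by rw [h]; trivial
      rwa [hS] at this
    exact MulEquiv.isField (Field.toIsField X.functionField)
      (RingEquiv.ofBijective _ ⟨IsFractionRing.injective (X.presheaf.stalk x) X.functionField,
        hsurj⟩).toMulEquiv
  let i : CommRingCat.of R ⟶ X.functionField := CommRingCat.ofHom R.subtype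
  let j : CommRingCat.of k ⟶ CommRingCat.of R :=
    CommRingCat.ofHom ((algebraMap k X.functionField).codRestrict R hk)
  have hsq : CommSq (X.fromSpecStalk (genericPoint X)) (Spec.map i)
      (X ↘ Spec (CommRingCat.of k)) (Spec.map j) := ⟨by
    rw [Groth.Agent.NormalCurve48.fromSpecStalk_str, ← Spec.map_comp]
    congr 1⟩
  have hex : ValuativeCriterion.Existence (X ↘ Spec (CommRingCat.of k)) := by
    have h := (inferInstance : UniversallyClosed (X ↘ Spec (CommRingCat.of k)))
    rw [UniversallyClosed.eq_valuativeCriterion] at h
    exact h.1
  let V : ValuativeCommSq (X ↘ Spec (CommRingCat.of k)) :=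
    { R := R, K := X.functionField
      i₁ := X.fromSpecStalk (genericPoint X)
      i₂ := Spec.map j
      commSq := hsq }
  obtain ⟨l, hl₁, hl₂⟩ := (hex V).exists_lift
  change Spec (CommRingCat.of R) ⟶ X at l
  change Spec.map i ≫ l = _ at hl₁
  let x := l (IsLocalRing.closedPoint R)
  let ψ : X.presheaf.stalk x ⟶ CommRingCat.of R := Scheme.stalkClosedPointTo l
  have hψ : ψ ≫ i = Groth.Agent.Allied.toK x := by
    apply Spec.map_injective
    rw [← cancel_mono (X.fromSpecStalk x), Spec.map_comp, Category.assoc,
      Groth.Agent.Allied.specMap_toK]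
    exact (congrArg (Spec.map i ≫ ·) (Scheme.Spec_stalkClosedPointTo_fromSpecStalk l)).trans hl₁
  have hψ' : ∀ t, ((ψ.hom t : R) : X.functionField) = algebraMap _ X.functionField t := fun t =>
    congr($hψ t)
  have heq : (R : Set X.functionField) =
      Set.range (algebraMap (X.presheaf.stalk x) X.functionField) := by
    refine Set.Subset.antisymm (fun a ha => ?_) ?_
    · rcases (S x).mem_or_inv_mem a with h | ⟨t, ht⟩
      · exact h
      by_cases ha0 : a = 0
      · exact ⟨0, by rw [ha0, map_zero]⟩
      have hu : IsUnit (ψ.hom t) := IsUnit.of_mul_eq_one (⟨a, ha⟩ : R) (Subtype.ext (by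
        show ((ψ.hom t : R) : X.functionField) * a = 1
        rw [hψ' t, ht, inv_mul_cancel₀ ha0]))
      have : IsLocalHom ψ.hom := inferInstanceAs (IsLocalHom (Scheme.stalkClosedPointTo l).hom)
      obtain ⟨w, hw⟩ := (isUnit_of_map_unit ψ.hom t hu).exists_right_inv
      refine ⟨w, ?_⟩
      have h := congrArg (algebraMap _ X.functionField) hw
      rw [map_mul, map_one, ht] at h
      exact (inv_mul_eq_one₀ ha0).mp h ▸ rfl
    · rintro _ ⟨t, rfl⟩
      exact hψ' t ▸ (ψ.hom t).2
  refine ⟨x, heq, fun y hy => ?_⟩
  have hr : (Groth.Agent.Allied.toK x).hom.range = (Groth.Agent.Allied.toK y).hom.range :=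
    SetLike.coe_injective (heq.symm.trans hy)
  exact Inseparable.eq (Specializes.antisymm
    (Groth.Agent.Allied.specializes_of_range_le hr.le)
    (Groth.Agent.Allied.specializes_of_range_le hr.ge))

end Groth.Agent.S4451
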