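import Groth.Statements.S4453
import Groth.Agent.S4438
import Groth.Agent.S4418
import Groth.Agent.S4419
import Groth.Agent.AmpleLib.Tensor

set_option autoImplicit false
universe u
open CategoryTheory CategoryTheory.Limits AlgebraicGeometry
open EGA2

namespace Groth.Agent.S4453

/-- Let Y be a quasi-compact separated scheme or a scheme whose underlying space is Noetherian, f : X ⟶
Y a morphism of finite type and g : X' ⟶ X a finite surjective morphism such that the direct image
of O_{X'} is a finite locally free O_X-module. Then f is projective if and only if f ∘ g is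
projective. (The companion assertion, on quasi-projectivity, is the
existence-of-a-relatively-ample-module equivalence stated separately.) -/
theorem result {X X' Y : Scheme.{u}} (f : X ⟶ Y) [LocallyOfFiniteType f]
    [QuasiCompact f] (g : X' ⟶ X) [IsFinite g] [Surjective g]
    (hfree : FlatMod.IsFinLocFree ((Coh.push g).obj (Coh.structureModule X')))
    (hY : (CompactSpace Y ∧ Y.IsSeparated) ∨ TopologicalSpace.NoetherianSpace Y) :
    RelProj.IsProjective f ↔ RelProj.IsProjective (g ≫ f) := by
  constructor
  · intro h
    obtain ⟨⟨_, _, L, hL⟩, hp⟩ := Groth.Agent.S4418.result f h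
    haveI := hp
    obtain ⟨L', hL', h'⟩ := (Groth.Agent.S4438.result f g hfree).1 ⟨L, (Groth.Agent.AmpleLib.isRelAmple_iff.1 hL).2.1, hL⟩
    exact Groth.Agent.S4419.result hY (g ≫ f) ⟨inferInstance, inferInstance, L', h'⟩
  · intro h
    obtain ⟨⟨_, _, L', hL'⟩, hp⟩ := Groth.Agent.S4418.result (g ≫ f) h
    haveI := hp
    obtain ⟨L, hL, hLf⟩ := (Groth.Agent.S4438.result f g hfree).2 ⟨L', (Groth.Agent.AmpleLib.isRelAmple_iff.1 hL').2.1, hL'⟩
    haveI : IsSeparated f := Groth.Agent.AmpleLib.isSeparated_of_isRelAmple hLf
    haveI : UniversallyClosed f := UniversallyClosed.of_comp_surjective g f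
    haveI : IsProper f := ⟨⟩
    exact Groth.Agent.S4419.result hY f ⟨inferInstance, inferInstance, L, hLf⟩

end Groth.Agent.S4453
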