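import Groth.Statements.S4455
import Groth.Agent.S4454

set_option autoImplicit false
universe u
open CategoryTheory CategoryTheory.Limits AlgebraicGeometry
open EGA2

namespace Groth.Agent.S4455

/-- An integral algebraic curve X over a field k is complete (proper over k) if and only if its
normalization X', with the composite structure morphism X' ⟶ X ⟶ Spec k, is proper over k. (The
quasi-compactness and quasi-separatedness binders on the morphism from the generic point always
hold; they are needed only to form the normalization.) -/
theorem result (k : Type u) [Field k] (X : Scheme.{u})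
    [X.Over (Spec (CommRingCat.of k))] [LocallyOfFiniteType (X ↘ (Spec (CommRingCat.of k)))]
    [QuasiCompact (X ↘ (Spec (CommRingCat.of k)))] [IsSeparated (X ↘ (Spec (CommRingCat.of k)))] [IsIntegral X]
    (hX : ∀ x : X, IsClosed ({x} : Set X) → ringKrullDim (X.presheaf.stalk x) = 1)
    [QuasiCompact (X.fromSpecStalk (genericPoint X))] [QuasiSeparated (X.fromSpecStalk (genericPoint X))] :
    IsProper (X ↘ (Spec (CommRingCat.of k))) ↔ IsProper (Curv2.normalizationι X ≫ (X ↘ (Spec (CommRingCat.of k)))) := by
  have hg : X.fromSpecStalk (genericPoint X) =
      Spec.map (CommRingCat.ofHom (RingHom.id X.functionField)) ≫ X.fromSpecStalk (genericPoint X) := by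
    rw [show CommRingCat.ofHom (RingHom.id X.functionField) = 𝟙 _ from rfl, Spec.map_id]
    exact (Category.id_comp _).symm
  obtain ⟨hfin, -, -⟩ := S4454.result k X hX X.functionField (RingHom.id _)
    (RingHom.Finite.id _) _ hg
  have : IsFinite (Curv2.normalizationι X) := hfin
  refine ⟨fun h => inferInstance, fun h => ?_⟩
  have : Surjective (Curv2.normalizationι X) := by
    refine ⟨fun x => ?_⟩
    have hcl : IsClosed (Set.range (Curv2.normalizationι X).base) :=
      (Curv2.normalizationι X).isClosedMap.isClosed_range
    have hgp : genericPoint X ∈ Set.range (Curv2.normalizationι X).base := by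
      refine ⟨(X.fromSpecStalk (genericPoint X)).toNormalization.base (IsLocalRing.closedPoint _), ?_⟩
      have e := congr(($((X.fromSpecStalk (genericPoint X)).toNormalization_fromNormalization)).base
        (IsLocalRing.closedPoint (X.presheaf.stalk (genericPoint X))))
      rw [Scheme.fromSpecStalk_closedPoint] at e
      exact e
    exact hcl.closure_subset_iff.2 (Set.singleton_subset_iff.2 hgp)
      ((genericPoint_spec X).def ▸ Set.mem_univ x)
  have : UniversallyClosed (X ↘ (Spec (CommRingCat.of k))) :=
    UniversallyClosed.of_comp_surjective (Curv2.normalizationι X) _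
  exact ⟨⟩

end Groth.Agent.S4455
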