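import Groth.Statements.S4462
import Groth.Agent.S0002
import Groth.Agent.CBC.Noeth
import Groth.Agent.CBC.Transfer
import Groth.Agent.FormalFun.TensorMod


set_option autoImplicit false
universe u
open Coherent

namespace Groth.Agent.S4462

open AlgebraicGeometry CategoryTheory Groth.Agent in
theorem rExact_of_fibre_vanishing (A : Type u) [CommRing A] [IsNoetherianRing A]
    [IsLocalRing A] (X : Scheme.{u}) [X.Over (Spec (CommRingCat.of A))]
    [IsProper (X ↘ Spec (CommRingCat.of A))] (F : X.Modules) (hF : Coh.IsCoh F)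
    (hfl : FlatMod.IsFlatOver (X ↘ Spec (CommRingCat.of A)) F) (n : ℕ)
    (hvan : Subsingleton (CohIII.fiberH (X ↘ Spec (CommRingCat.of A)) F (IsLocalRing.closedPoint A) (n + 1))) :
    ∃ R : CBC.Rep (A := A) F, R.K.RExact n := by
  have hfin : CBC.FinCoh.{u} := fun A _ _ Z _ _ M hM n => Groth.Agent.S0002.result A Z M hM n
  haveI : F.IsQuasicoherent := hF.1
  let π := X ↘ Spec (CommRingCat.of A)
  let B₀ := Γ(Spec (CommRingCat.of A), ⊤)
  let c : Spec (CommRingCat.of A) := IsLocalRing.closedPoint A
  have hV := isAffineOpen_top (Spec (CommRingCat.of A))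
  haveI : IsNoetherianRing B₀ := IsLocallyNoetherian.component_noetherian ⟨⊤, hV⟩
  obtain ⟨D⟩ := CBC.nonempty_model π hV
  refine ⟨CBC.Rep.ofModel F D (CBC.flat_KA F D hfl), (CBC.rExact_iff_spec (hU := D.hU)).1 ?_⟩
  refine (CBC.SCx.rExact_iff_lExact_succ _ n fun m => D.flat_K F hV hfl m).2 ?_
  obtain ⟨w⟩ := CBC.nonempty_win hV D F hF hfl hfin (n + 1)
  haveI := w.fp
  refine w.lExact_iff.2 ?_
  let x := hV.primeIdealOf ⟨c, trivial⟩
  let k := x.asIdeal.ResidueField
  have h0 := (CBC.subsingleton_fiberH_iff hV c trivial D w).1 hvan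
  rw [CBC.fiberRank_eq hV c trivial D w] at h0
  haveI : Module.Finite k (LinearMap.ker (w.u.baseChange k)) :=
    Module.Finite.iff_fg.2 (IsNoetherian.noetherian _)
  haveI hk : Subsingleton (LinearMap.ker (w.u.baseChange k)) :=
    (Module.finrank_zero_iff (R := k)).1
      ((show Module.finrank k (LinearMap.ker (w.u.baseChange k)) = CBC.kerRank w.u x from rfl).trans h0)
  obtain ⟨g, hg, hfree, hbij⟩ := CBC.exists_good_of_surjective w.u x.asIdeal
    (Function.surjective_to_subsingleton _)
  have hunit : ∀ b ∉ x.asIdeal, IsUnit b := fun b hb => by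
    have hc : c ∈ (Spec (CommRingCat.of A)).basicOpen b := by
      have h1 : hV.fromSpec x ∈ (Spec (CommRingCat.of A)).basicOpen b :=
        (hV.fromSpec_preimage_basicOpen b).ge hb
      exact (hV.fromSpec_primeIdealOf ⟨c, trivial⟩).subst (motive := fun t => t ∈ (Spec (CommRingCat.of A)).basicOpen b) h1
    refine (Spec (CommRingCat.of A)).toRingedSpace.isUnit_of_isUnit_germ ⊤ b fun z hz => ?_
    refine ((Spec (CommRingCat.of A)).mem_basicOpen b z hz).1 ?_
    exact (IsLocalRing.specializes_closedPoint z).mem_open ((Spec (CommRingCat.of A)).basicOpen b).2 hc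
  haveI : Module.Flat B₀ (CBC.Cok w.u) := by
    haveI : Module.Flat B₀ (Localization.Away g) := IsLocalization.flat _ (Submonoid.powers g)
    haveI := Module.Flat.trans B₀ (Localization.Away g) (TensorProduct B₀ (Localization.Away g) (CBC.Cok w.u))
    let e := (IsLocalization.atUnits B₀ (Submonoid.powers g) (S := Localization.Away g) (by
      rintro _ ⟨j, rfl⟩
      exact (hunit g hg).pow j)).toLinearEquiv
    exact Module.Flat.of_linearEquiv
      ((TensorProduct.lid B₀ (CBC.Cok w.u)).symm ≪≫ₗ TensorProduct.congr e (LinearEquiv.refl B₀ (CBC.Cok w.u)))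
  haveI : Module.Finite B₀ (LinearMap.ker w.u) := Module.Finite.iff_fg.2 (IsNoetherian.noetherian _)
  haveI : Subsingleton (LinearMap.ker w.u) := by
    rw [← Module.support_eq_empty_iff (R := B₀), Set.eq_empty_iff_forall_notMem]
    intro z hz
    have hzx : z.asIdeal ≤ x.asIdeal := fun b hb => by
      by_contra hbx
      exact z.2.ne_top (z.asIdeal.eq_top_of_isUnit_mem hb (hunit b hbx))
    have hx : x ∈ Module.support B₀ (LinearMap.ker w.u) :=
      Module.mem_support_mono hzx hz
    rw [Module.mem_support_iff_nontrivial_residueField_tensorProduct, ← not_subsingleton_iff_nontrivial] at hx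
    exact hx (Equiv.ofBijective _ (hbij k (((hunit g hg)).map _))).subsingleton
  exact CBC.flat_source_of_flat_ker w.u

open AlgebraicGeometry CategoryTheory in
/-- Second assertion: for a local base: let A be a Noetherian local ring with maximal ideal m and closed
point y, X a scheme proper over Spec A, F a coherent O_X-module flat over Spec A and n ≥ 0 such that
H^(n+1)(X_y, F_y) = 0, where X_y is the closed fibre and F_y the restriction of F to it. Then for
every p ≥ 0 the canonical map H^n(X, F) → H^n(X, F/m^(p+1)F) is surjective. (For a general locally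
Noetherian base the published statement is about the stalk of R^n f_* F at a point; over the local
ring of that point this is the module H^n(X, F) used here.) -/
theorem result (A : Type u) [CommRing A] [IsNoetherianRing A]
    [IsLocalRing A] (X : Scheme.{u}) [X.Over (Spec (CommRingCat.of A))]
    [IsProper (X ↘ Spec (CommRingCat.of A))] (F : X.Modules) (hF : Coh.IsCoh F)
    (hfl : FlatMod.IsFlatOver (X ↘ Spec (CommRingCat.of A)) F) (n : ℕ)
    (hvan : Subsingleton (CohIII.fiberH (X ↘ Spec (CommRingCat.of A)) F (IsLocalRing.closedPoint A) (n + 1)))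
    (p : ℕ) :
    Function.Surjective (Formal.toHHmodPow (IsLocalRing.maximalIdeal A) F n p) := by
  haveI : F.IsQuasicoherent := hF.1
  obtain ⟨R, hR⟩ := rExact_of_fibre_vanishing A X F hF hfl n hvan
  exact Groth.Agent.FormalFun.toHHmodPow_surjective_of_rExact F R n hR _ p

end Groth.Agent.S4462
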