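import Groth.Statements.S4463
import Groth.Agent.FormalFun.Stein

set_option autoImplicit false
universe u
open Coherent

namespace Groth.Agent.S4463

open AlgebraicGeometry CategoryTheory in
/-- Stein factorisation. Let Y be locally Noetherian and f : X → Y proper, and let X → Y' → Y be its
Stein factorisation, Y' being the spectrum of the O_Y-algebra f_* O_X (realised here as the relative
normalization of Y in X, which is that spectrum because f_* O_X is integral over O_Y for f
universally closed). Then for every point y of Y the fibre of Y' → Y at y is finite, the map X_y →
Y'_y induced on fibres is surjective, and two points of X_y have the same image if and only if they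
lie in the same connected component of X_y: the connected components of X_y are in bijection with
the points of Y'_y. -/
theorem result {X Y : Scheme.{u}} (f : X ⟶ Y) [IsProper f]
    [IsLocallyNoetherian Y] (y : Y) :
    Finite ↥(f.fromNormalization.fiber y) ∧
    Function.Surjective (CohIII.fiberMapOver f.toNormalization f f.fromNormalization
        f.toNormalization_fromNormalization y).base ∧
    ∀ x x' : ↥(f.fiber y),
      (CohIII.fiberMapOver f.toNormalization f f.fromNormalization f.toNormalization_fromNormalization y).base x =
        (CohIII.fiberMapOver f.toNormalization f f.fromNormalization f.toNormalization_fromNormalization y).base x' ↔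
      connectedComponent x = connectedComponent x' := by
  haveI := Groth.Agent.FormalFun.isFinite_fromNormalization f
  let g := CohIII.fiberMapOver f.toNormalization f f.fromNormalization f.toNormalization_fromNormalization y
  have hι : g ≫ f.fromNormalization.fiberι y = f.fiberι y ≫ f.toNormalization := Limits.pullback.lift_fst _ _ _
  have hg : ∀ w, f.fromNormalization.fiberι y (g.base w) = f.toNormalization.base (f.fiberι y w) :=
    fun w => congr($(hι).base w)
  have hinj := (f.fromNormalization.fiberι y).isEmbedding.injective
  refine ⟨inferInstance, fun w => ?_, fun x x' => ?_⟩
  · obtain ⟨x, hx⟩ := Groth.Agent.FormalFun.surjective_toNormalization f (f.fromNormalization.fiberι y w)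
    have hfx : f.base x = y := by
      rw [← f.toNormalization_fromNormalization, Scheme.Hom.comp_apply]
      show f.fromNormalization.base (f.toNormalization.base x) = y
      rw [hx]
      exact (f.fromNormalization.range_fiberι y).le ⟨w, rfl⟩
    obtain ⟨x₀, hx₀⟩ : x ∈ Set.range (f.fiberι y) := by rw [f.range_fiberι]; exact hfx
    refine ⟨x₀, hinj ((hg x₀).trans ?_)⟩
    rw [← hx]
    exact congrArg f.toNormalization.base hx₀
  · refine Iff.trans ⟨fun h => ?_, fun h => hinj ?_⟩ (Groth.Agent.FormalFun.stein_eq_iff f x x')
    · rw [← hg, ← hg]; exact congrArg _ h
    · rw [hg, hg]; exact h

end Groth.Agent.S4463
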