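import Groth.Statements.S4464
import Groth.Agent.FormalFun.UnibranchFib

set_option autoImplicit false
universe u
open Coherent

namespace Groth.Agent.S4464

open AlgebraicGeometry CategoryTheory in
/-- Let X and Y be locally Noetherian integral schemes, f : X → Y a proper dominant morphism, and
suppose that the algebraic closure of the function field R(Y) in R(X) is purely inseparable over
R(Y): every element of R(X) satisfying a nonzero polynomial over R(Y) has a p^e-th power coming from
R(Y), p being the characteristic exponent. Then for every point y of Y whose local ring is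
unibranch, the fibre X_y is connected and nonempty. -/
theorem result {X Y : Scheme.{u}} [IsIntegral X]
    [IsIntegral Y] [IsLocallyNoetherian X] [IsLocallyNoetherian Y] (f : X ⟶ Y) [IsProper f]
    (hdom : f.base (genericPoint X) ⤳ genericPoint Y)
    (hrad : ∀ x : X.functionField,
      (∃ q : Polynomial Y.functionField, q ≠ 0 ∧
        Polynomial.eval₂ (CohIII.stalkToFunctionField f (genericPoint Y) hdom) x q = 0) →
      ∃ e : ℕ, x ^ (ringExpChar X.functionField ^ e) ∈
        Set.range (CohIII.stalkToFunctionField f (genericPoint Y) hdom))
    (y : Y) (hy : CAlg2.IsUnibranch (Y.presheaf.stalk y)) :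
    ConnectedSpace ↥(f.fiber y) := by
  letI : Algebra Y.functionField X.functionField := (CohIII.stalkToFunctionField f (genericPoint Y) hdom).toAlgebra
  let K := Y.functionField
  let L := algebraicClosure Y.functionField X.functionField
  haveI : ExpChar X.functionField (ringExpChar X.functionField) := ringExpChar.expChar _
  haveI : ExpChar K (ringExpChar X.functionField) :=
    RingHom.expChar (algebraMap K X.functionField) (algebraMap K X.functionField).injective _
  haveI : IsPurelyInseparable K L := by
    rw [isPurelyInseparable_iff_pow_mem K (ringExpChar X.functionField)]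
    rintro ⟨x, hx⟩
    obtain ⟨q, hq0, hq⟩ := mem_algebraicClosure_iff.mp hx
    obtain ⟨e, k, hk⟩ := hrad x ⟨q, hq0, hq⟩
    exact ⟨e, k, Subtype.ext hk⟩
  obtain ⟨hfin, hcard⟩ := Groth.Agent.FormalFun.components_le_of_unibranch f hdom rfl one_pos
    (IsPurelyInseparable.finSepDegree_eq_one K L) hy
  haveI := hfin
  have hne : Nonempty ↥(f.fiber y) := by
    have h1 : IsClosed (Set.range f.base) := f.isClosedMap.isClosed_range
    have h2 : f.base (genericPoint X) ⤳ y := hdom.trans ((genericPoint_spec Y).specializes trivial)
    obtain ⟨x, hx⟩ := h2.mem_closed h1 ⟨_, rfl⟩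
    obtain ⟨w, -⟩ : x ∈ Set.range (f.fiberι y) := by rw [f.range_fiberι]; exact hx
    exact ⟨w⟩
  haveI := Finite.card_le_one_iff_subsingleton.mp hcard
  exact { toPreconnectedSpace := preconnectedSpace_iff_connectedComponent.mpr fun a => Set.eq_univ_of_forall fun b =>
            (ConnectedComponents.coe_eq_coe.mp
              (@Subsingleton.elim _ (inferInstance : Subsingleton (_root_.ConnectedComponents ↥(f.fiber y)))
                (ConnectedComponents.mk b) (ConnectedComponents.mk a))) ▸ mem_connectedComponent
          toNonempty := hne }

end Groth.Agent.S4464
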