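import Groth.Statements.S4465
import Groth.Agent.GrModLib.PropSupp
import Groth.Agent.ProjTwist.Tensor
import Groth.Agent.CohDev.Coh

set_option autoImplicit false
universe u
open Coherent

namespace Groth.Agent.S4465

open AlgebraicGeometry CategoryTheory CategoryTheory.Limits in
/-- Let Y be a Noetherian scheme, f : X → Y a morphism of finite type, L an invertible O_X-module ample
relative to f and F → G → H a sequence of coherent O_X-modules which is exact at G, such that the
supports of F and of H are proper over Y. Then there is N such that for every n ≥ N the induced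
sequence f_*(F(n)) → f_*(G(n)) → f_*(H(n)) of O_Y-modules is exact, where M(n) = M ⊗ L^{⊗ n}. -/
theorem result {X Y : Scheme.{u}} (f : X ⟶ Y)
    [IsNoetherian Y] [LocallyOfFiniteType f] [QuasiCompact f] (L : X.Modules) (hL : PicF.IsInvertible L)
    (hamp : RelAmple.IsRelAmple f L) (C : ShortComplex X.Modules) (hC : C.Exact)
    (h1 : Coh.IsCoh C.X₁) (h2 : Coh.IsCoh C.X₂) (h3 : Coh.IsCoh C.X₃)
    (hs1 : ClSub.IsProperOver f (CohB1.support C.X₁)) (hs3 : ClSub.IsProperOver f (CohB1.support C.X₃)) :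
    ∃ N : ℕ, ∀ n : ℕ, N ≤ n →
      (C.map (DCoh.tensorRightMod (CohB1.tensorPow L n) ⋙ Coh.push f)).Exact := by
  haveI : IsLocallyNoetherian X := LocallyOfFiniteType.isLocallyNoetherian f
  haveI : CompactSpace X := QuasiCompact.compactSpace_of_compactSpace f
  haveI : AlgebraicGeometry.IsNoetherian X := ⟨⟩
  let f' : C.X₁ ⟶ kernel C.g := kernel.lift C.g C.f C.zero
  have he : Epi f' := C.exact_iff_epi_kernel_lift.mp hC
  have hK : Coh.IsCoh (kernel C.g) := Groth.Agent.CohDev.isCoh_kernel C.g h2 h3.1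
  have hN : Coh.IsCoh (kernel f') := Groth.Agent.CohDev.isCoh_kernel f' h1 hK.1
  have hsN : ClSub.IsProperOver f (CohB1.support (kernel f')) :=
    Groth.Agent.EtShriekLib.ipo_mono f hs1 (Groth.Agent.CohDev.isClosed_support hN)
      (Groth.Agent.CohDev.support_subset_of_mono (kernel.ι f'))
  obtain ⟨N, hb⟩ := Groth.Agent.GrModLib.exists_bound_of_properSupport f hL hamp hN hsN
  refine ⟨N, fun n hn => ?_⟩
  let T := DCoh.tensorRightMod (CohB1.tensorPow L n)
  have hT : ∀ {S : ShortComplex X.Modules}, S.ShortExact → (S.map T).ShortExact := fun h =>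
    Groth.Agent.ProjTwist.shortExact_tensor (Groth.Agent.AmpleLib.isInvertible_tensorPow hL n) h
  have s1 : (ShortComplex.mk (kernel.ι f') f' (kernel.condition f')).ShortExact :=
    { exact := ShortComplex.exact_of_f_is_kernel _ (kernelIsKernel _) }
  have hepi : Epi ((Coh.push f).map (T.map f')) :=
    Groth.Agent.GrModLib.epi_push_of_isZero f (hT s1) (hb n hn 0)
  let π := cokernel.π (kernel.ι C.g)
  let j : cokernel (kernel.ι C.g) ⟶ C.X₃ :=
    cokernel.desc (kernel.ι C.g) C.g (kernel.condition C.g)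
  have hj : Mono j := inferInstanceAs (Mono (Abelian.factorThruCoimage C.g))
  have s2 : (ShortComplex.mk (kernel.ι C.g) π (cokernel.condition _)).ShortExact :=
    { exact := ShortComplex.exact_of_g_is_cokernel _ (cokernelIsCokernel _) }
  have s3 : (ShortComplex.mk j (cokernel.π j) (cokernel.condition _)).ShortExact :=
    { exact := ShortComplex.exact_of_g_is_cokernel _ (cokernelIsCokernel _) }
  have e2 := hT s2
  have e3 := hT s3
  haveI : Mono (T.map (kernel.ι C.g)) := e2.mono_f
  haveI : Mono (T.map j) := e3.mono_f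
  let S2 : ShortComplex Y.Modules :=
    ((ShortComplex.mk (kernel.ι C.g) π (cokernel.condition _)).map T).map (Coh.push f)
  haveI : (Coh.push f).PreservesZeroMorphisms := inferInstance
  have x2 : S2.Exact := e2.exact.map_of_mono_of_preservesKernel _ e2.mono_f inferInstance
  haveI hm : Mono ((Coh.push f).map (T.map j)) := (Coh.push f).map_mono _
  have hf : C.f = f' ≫ kernel.ι C.g := (kernel.lift_ι _ _ _).symm
  have hg : C.g = π ≫ j := (cokernel.π_desc _ _ _).symm
  let S4 : ShortComplex Y.Modules := ShortComplex.mk S2.f (S2.g ≫ (Coh.push f).map (T.map j))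
    (by rw [← Category.assoc, S2.zero, zero_comp])
  let φ : S2 ⟶ S4 :=
    { τ₁ := 𝟙 _
      τ₂ := 𝟙 _
      τ₃ := (Coh.push f).map (T.map j) }
  have hmono : Mono φ.τ₃ := hm
  have hepi1 : Epi φ.τ₁ := inferInstanceAs (Epi (𝟙 _))
  have hiso : IsIso φ.τ₂ := inferInstanceAs (IsIso (𝟙 _))
  have x4 : S4.Exact := (ShortComplex.exact_iff_of_epi_of_isIso_of_mono φ).mp x2
  let ψ : C.map (DCoh.tensorRightMod (CohB1.tensorPow L n) ⋙ Coh.push f) ⟶ S4 :=
    { τ₁ := (Coh.push f).map (T.map f')
      τ₂ := 𝟙 _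
      τ₃ := 𝟙 _
      comm₁₂ := by
        change (Coh.push f).map (T.map f') ≫ (Coh.push f).map (T.map (kernel.ι C.g)) =
          (Coh.push f).map (T.map C.f) ≫ 𝟙 _
        rw [Category.comp_id, ← Functor.map_comp, ← Functor.map_comp, ← hf]
      comm₂₃ := by
        change 𝟙 _ ≫ (Coh.push f).map (T.map π) ≫ (Coh.push f).map (T.map j) =
          (Coh.push f).map (T.map C.g) ≫ 𝟙 _
        rw [Category.comp_id, Category.id_comp, ← Functor.map_comp, ← Functor.map_comp, ← hg] }
  have : Epi ψ.τ₁ := hepi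
  have : IsIso ψ.τ₂ := inferInstanceAs (IsIso (𝟙 _))
  have : Mono ψ.τ₃ := inferInstanceAs (Mono (𝟙 _))
  exact (ShortComplex.exact_iff_of_epi_of_isIso_of_mono ψ).mpr x4

end Groth.Agent.S4465
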