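import Groth.Statements.S4468
import Groth.Agent.BlowBir.Main
import Groth.Agent.BirLib.Basic
import Groth.Agent.ProperFin.PnBase
import Groth.Agent.Wt.AmpleThick
import Groth.Agent.ProjTwist.Pn.TopCohom

set_option autoImplicit false
universe u
open Coherent

namespace Groth.Agent.S4468

open AlgebraicGeometry CategoryTheory in
/-- Let k be a field, X and Y integral schemes projective over k (given with closed immersions into
projective spaces over k) and f : X → Y a birational k-morphism (it sends the generic point of X to
that of Y and induces a bijection between the function fields). Then X is Y-isomorphic to the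
blow-up of Y in a closed subscheme: there is a quasi-coherent ideal sheaf I on Y such that f is a
blowing up of Y in I (universal property of the blow-up). -/
theorem result (k : Type u) [Field k] {X Y : Scheme.{u}} [IsIntegral X] [IsIntegral Y]
    (a b : ℕ) (iX : X ⟶ CohB1.ProjSpace a k) [IsClosedImmersion iX] (iY : Y ⟶ CohB1.ProjSpace b k)
    [IsClosedImmersion iY] (f : X ⟶ Y)
    (hk : f ≫ iY ≫ CohB1.ProjSpace.toSpec b k = iX ≫ CohB1.ProjSpace.toSpec a k)
    (hgen : f.base (genericPoint X) = genericPoint Y)
    (hbir : Function.Bijective (f.residueFieldMap (genericPoint X)).hom) :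
    ∃ I : Y.IdealSheafData, BlowUp.IsBlowUp f I := by
  open CategoryTheory.Limits in
  haveI := ProjProper.Basic.isProper_toSpec a k
  haveI := ProjProper.Basic.isProper_toSpec b k
  haveI : IsProper (f ≫ iY ≫ CohB1.ProjSpace.toSpec b k) := by rw [hk]; infer_instance
  haveI : IsProper f := IsProper.of_comp f (iY ≫ CohB1.ProjSpace.toSpec b k)
  haveI : IsLocallyNoetherian Y := LocallyOfFiniteType.isLocallyNoetherian (iY ≫ CohB1.ProjSpace.toSpec b k)
  haveI : CompactSpace Y := QuasiCompact.compactSpace_of_compactSpace (iY ≫ CohB1.ProjSpace.toSpec b k)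
  haveI : AlgebraicGeometry.IsNoetherian Y := {}
  have hbir' : ∃ U : Y.Opens, (U : Set Y).Nonempty ∧ IsIso (f ∣_ U) := by
    have hgX : ∀ x : X, closure {x} ∈ irreducibleComponents X → x = genericPoint X := fun x hx => by
      rw [irreducibleComponents_eq_singleton, Set.mem_singleton_iff] at hx
      exact (show IsGenericPoint x (Set.univ : Set X) from hx).eq (genericPoint_spec X)
    have hgY : ∀ y : Y, closure {y} ∈ irreducibleComponents Y → y = genericPoint Y := fun y hy => by
      rw [irreducibleComponents_eq_singleton, Set.mem_singleton_iff] at hy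
      exact (show IsGenericPoint y (Set.univ : Set Y) from hy).eq (genericPoint_spec Y)
    obtain ⟨U, V, hUV, hUd, hVd, hiso, -⟩ := BirLib.exists_dense_isIso_resLE f
      (by rw [irreducibleComponents_eq_singleton]; exact Set.finite_singleton _)
      (by rw [irreducibleComponents_eq_singleton]; exact Set.finite_singleton _)
      (by
        refine ⟨fun x hx => ?_, fun x hx y hy _ => (hgX x hx).trans (hgX y hy).symm, fun y hy => ?_⟩
        · show closure {f x} ∈ irreducibleComponents Y
          rw [hgX x hx, irreducibleComponents_eq_singleton, Set.mem_singleton_iff, hgen]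
          exact genericPoint_spec Y
        · refine ⟨genericPoint X, ?_, hgen.trans (hgY y hy).symm⟩
          show closure {genericPoint X} ∈ irreducibleComponents X
          rw [irreducibleComponents_eq_singleton, Set.mem_singleton_iff]
          exact genericPoint_spec X)
      (fun x hx => by
        obtain rfl := hgX x hx
        rw [ConcreteCategory.isIso_iff_bijective]
        have hf1 : IsField (Y.presheaf.stalk (f (genericPoint X))) := by
          rw [hgen]; exact Field.toIsField _
        have hf2 : IsField (X.presheaf.stalk (genericPoint X)) := Field.toIsField _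
        have hinj : ∀ {R : CommRingCat.{u}} [IsLocalRing R], IsField R →
            Function.Bijective (IsLocalRing.residue R) := fun hR =>
          ⟨(RingHom.injective_iff_ker_eq_bot _).2 (IsLocalRing.ker_residue.trans (IsLocalRing.isField_iff_maximalIdeal_eq.1 hR)),
            IsLocalRing.residue_surjective⟩
        have hbY : Function.Bijective (Y.residue (f (genericPoint X))).hom := hinj hf1
        have hbX : Function.Bijective (X.residue (genericPoint X)).hom := hinj hf2
        have h1 := hbir.comp hbY
        rw [← RingHom.coe_comp, ← CommRingCat.hom_comp, Scheme.residue_residueFieldMap,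
          CommRingCat.hom_comp, RingHom.coe_comp] at h1
        exact (Function.Bijective.of_comp_iff' hbX _).1 h1)
      (Or.inl ⟨inferInstance, inferInstance⟩)
    obtain ⟨v, hv⟩ := hVd.nonempty
    refine ⟨V, ⟨v, hv⟩, ?_⟩
    let ι' := X.homOfLE hUV
    have hfac : ι' ≫ (f ∣_ V) = f.resLE V U hUV := by
      rw [← cancel_mono V.ι, Category.assoc, morphismRestrict_ι, ← Category.assoc, Scheme.homOfLE_ι,
        Scheme.Hom.resLE_comp_ι]
    haveI : IsProper (ι' ≫ (f ∣_ V)) := by rw [hfac]; infer_instance
    haveI : IsProper ι' := IsProper.of_comp ι' (f ∣_ V)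
    have huniv : Set.range ι' = Set.univ := by
      have hne : (Set.range ι').Nonempty := by
        obtain ⟨u, hu⟩ := hUd.nonempty
        exact ⟨_, ⟨u, hu⟩, rfl⟩
      haveI : Nonempty (f ⁻¹ᵁ V : Scheme.{u}) := ⟨hne.some⟩
      haveI : IsIntegral (f ⁻¹ᵁ V : Scheme.{u}) := isIntegral_of_isOpenImmersion (f ⁻¹ᵁ V).ι
      have h2 := (ι'.isOpenEmbedding.isOpen_range.dense hne).closure_eq
      rwa [ι'.isClosedMap.isClosed_range.closure_eq] at h2
    haveI : Epi ι'.base := (TopCat.epi_iff_surjective _).2 (Set.range_eq_univ.1 huniv)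
    haveI : IsIso ι' := (isIso_iff_isOpenImmersion_and_epi_base ι').2 ⟨inferInstance, inferInstance⟩
    haveI : IsIso (ι' ≫ (f ∣_ V)) := by rw [hfac]; exact hiso
    exact IsIso.of_isIso_comp_left ι' (f ∣_ V)
  obtain ⟨e, he⟩ := ProperFin.exists_iso_projSpaceOver a k
  let sY := iY ≫ CohB1.ProjSpace.toSpec b k
  let j : X ⟶ CohB1.ProjSpaceOver a (Spec (CommRingCat.of k)) := iX ≫ e.inv
  have hj : j ≫ CohB1.ProjSpaceOver.toBase a _ = f ≫ sY := by
    rw [← he]; simp [j, sY, hk]
  let q := j ≫ pullback.fst (CohB1.ProjSpace.toSpec a (ULift.{u} ℤ)) (specULiftZIsTerminal.from (Spec (CommRingCat.of k)))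
  let i : X ⟶ CohB1.ProjSpaceOver a Y := pullback.lift q f (specULiftZIsTerminal.hom_ext _ _)
  have hi : i ≫ CohB1.ProjSpaceOver.toBase a Y = f := pullback.lift_snd _ _ _
  let m : CohB1.ProjSpaceOver a Y ⟶ CohB1.ProjSpaceOver a (Spec (CommRingCat.of k)) :=
    pullback.lift (pullback.fst _ _) (pullback.snd _ _ ≫ sY) (specULiftZIsTerminal.hom_ext _ _)
  have him : i ≫ m = j := by
    apply pullback.hom_ext
    · exact (Category.assoc _ _ _).trans ((congrArg (i ≫ ·) (pullback.lift_fst _ _ _)).trans (pullback.lift_fst _ _ _))
    · have : i ≫ m ≫ pullback.snd _ _ = f ≫ sY :=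
        (congrArg (i ≫ ·) (pullback.lift_snd _ _ _)).trans ((Category.assoc _ _ _).symm.trans (congrArg (· ≫ sY) (pullback.lift_snd _ _ _)))
      exact (Category.assoc _ _ _).trans (this.trans hj.symm)
  haveI : Mono (i ≫ m) := by rw [him]; infer_instance
  haveI : Mono i := mono_of_mono i m
  haveI := ProjProper.Basic.isProper_toBase a Y
  haveI : IsProper (i ≫ CohB1.ProjSpaceOver.toBase a Y) := by rw [hi]; infer_instance
  haveI : IsProper i := IsProper.of_comp i (CohB1.ProjSpaceOver.toBase a Y)
  haveI : IsClosedImmersion i := (IsClosedImmersion.iff_isProper_and_mono i).2 ⟨inferInstance, inferInstance⟩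
  exact Groth.Agent.BlowBir.isBlowUp_of_birational _ (Wt.AmpleThick.isAmple_pullback iY (ProjTwist.Pn.isAmple_one (n := b) (k := k))) f a i hi hbir'

end Groth.Agent.S4468
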