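import Groth.Statements.S4469
import Mathlib
-- import your own Groth.Agent.* helpers here

set_option autoImplicit false
universe u
open CAlg

namespace Groth.Agent.S4469

/-- Let A be an integrally closed Noetherian local domain with field of fractions K, B an A-algebra of
finite type which is a domain with the same field of fractions (A → B → K compatible with A → K),
and 𝔫 a maximal ideal of B lying over the maximal ideal 𝔪 of A and minimal among the prime ideals of
B lying over 𝔪. Then B = A: the structure map A → B is bijective. -/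
theorem result (A B K : Type u) [CommRing A]
    [IsDomain A] [IsNoetherianRing A] [IsLocalRing A] [IsIntegrallyClosed A] [CommRing B] [IsDomain B]
    [Field K] [Algebra A B] [Algebra B K] [Algebra A K] [IsScalarTower A B K] [IsFractionRing A K]
    [IsFractionRing B K] [Algebra.FiniteType A B] (n : Ideal B) [n.IsMaximal]
    (hn : n.comap (algebraMap A B) = IsLocalRing.maximalIdeal A)
    (hmin : ∀ q : Ideal B, q.IsPrime → q.comap (algebraMap A B) = IsLocalRing.maximalIdeal A → q ≤ n → q = n) :
    Function.Bijective (algebraMap A B) := by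
  classical
  have hinjK : Function.Injective (algebraMap A K) := IsFractionRing.injective A K
  have hBK : Function.Injective (algebraMap B K) := IsFractionRing.injective B K
  have hinj : Function.Injective (algebraMap A B) := by
    intro a b h
    apply hinjK
    rw [IsScalarTower.algebraMap_apply A B K, IsScalarTower.algebraMap_apply A B K, h]
  haveI : IsNoetherianRing B := Algebra.FiniteType.isNoetherianRing A B
  let nP : PrimeSpectrum B := ⟨n, Ideal.IsMaximal.isPrime ‹_›⟩
  let J : Ideal B := (IsLocalRing.maximalIdeal A).map (algebraMap A B)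
  have hfin : (J.minimalPrimes \ {n}).Finite := J.finite_minimalPrimes_of_isNoetherianRing.subset Set.sdiff_subset
  have hJn : J ≤ n := Ideal.map_le_iff_le_comap.mpr hn.ge
  have hnmin : n ∈ J.minimalPrimes := by
    refine ⟨⟨Ideal.IsMaximal.isPrime ‹_›, hJn⟩, fun q hq hqn => ?_⟩
    have : q.comap (algebraMap A B) = IsLocalRing.maximalIdeal A := by
      have hle := Ideal.map_le_iff_le_comap.mp hq.2
      exact (IsLocalRing.le_maximalIdeal (hq.1.comap (algebraMap A B)).ne_top).antisymm hle
    exact (hmin q hq.1 this hqn).ge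
  obtain ⟨b, hb, hbn⟩ : ∃ b, (∀ q ∈ J.minimalPrimes, q ≠ n → b ∈ q) ∧ b ∉ n := by
    by_contra! hcon
    have hle : hfin.toFinset.inf id ≤ n := fun b hb => hcon b fun q hq hqn =>
      (Finset.inf_le (f := id) (hfin.mem_toFinset.mpr ⟨hq, hqn⟩)) hb
    obtain ⟨q, hq, hqn⟩ := (Ideal.IsPrime.inf_le' (Ideal.IsMaximal.isPrime ‹_›)).mp hle
    obtain ⟨hq1, hq2⟩ := hfin.mem_toFinset.mp hq
    exact hq2 (le_antisymm hqn (hnmin.2 hq1.1 hqn))
  have hopen : IsOpen (X := PrimeSpectrum.comap (algebraMap A B) ⁻¹' {nP.comap (algebraMap A B)}) {⟨nP, rfl⟩} := by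
    refine ⟨PrimeSpectrum.basicOpen b, (PrimeSpectrum.basicOpen b).2, ?_⟩
    ext ⟨Q, hQ⟩
    simp only [Set.mem_preimage, SetLike.mem_coe, PrimeSpectrum.mem_basicOpen, Set.mem_singleton_iff]
    constructor
    · intro hbQ
      have hQc : Q.asIdeal.comap (algebraMap A B) = IsLocalRing.maximalIdeal A := by
        have := congrArg PrimeSpectrum.asIdeal (Set.mem_singleton_iff.mp hQ)
        exact this.trans hn
      obtain ⟨q, hq, hqQ⟩ := Ideal.exists_minimalPrimes_le (I := J) (J := Q.asIdeal) (Ideal.map_le_iff_le_comap.mpr hQc.ge)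
      have hqn : q = n := by_contra fun h => hbQ (hqQ (hb q hq h))
      subst hqn
      exact Subtype.ext (PrimeSpectrum.ext (Ideal.IsMaximal.eq_of_le ‹q.IsMaximal› Q.isPrime.ne_top hqQ).symm)
    · intro h
      rw [show Q = nP from congrArg Subtype.val h]
      exact hbn
  haveI : Algebra.QuasiFiniteAt A n := Algebra.QuasiFiniteAt.of_isOpen_singleton_fiber nP hopen
  obtain ⟨r, hrn, hr, hx⟩ := Algebra.zariskisMainProperty_iff.mp (Algebra.ZariskisMainProperty.of_finiteType (R := A) n)
  have key : ∀ x : B, IsIntegral A x → ∃ a, algebraMap A B a = x := by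
    intro x hx
    obtain ⟨a, ha⟩ := (isIntegrallyClosed_iff K).mp ‹IsIntegrallyClosed A› (hx.algebraMap (B := K))
    exact ⟨a, hBK ((IsScalarTower.algebraMap_apply A B K a).symm.trans ha)⟩
  refine ⟨hinj, fun x => ?_⟩
  obtain ⟨a, rfl⟩ := key r hr
  have hau : IsUnit a := by
    by_contra h
    exact hrn (hn.ge h : a ∈ n.comap (algebraMap A B))
  obtain ⟨m, hm⟩ := hx x
  obtain ⟨c, hc⟩ := key _ hm
  obtain ⟨v, hv⟩ := (hau.pow m).exists_left_inv
  exact ⟨v * c, by rw [map_mul, hc, ← mul_assoc, ← map_pow, ← map_mul, hv, map_one, one_mul]⟩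

end Groth.Agent.S4469
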