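import Groth.Statements.S4472
import Groth.Agent.S1681
import Groth.Agent.S4464
import Groth.Agent.BlowUpProper.Basic
import Groth.Agent.Curv2Norm.Branches

set_option autoImplicit false
set_option linter.style.haveILetI false
universe u
open Coherent

namespace Groth.Agent.S4472

open AlgebraicGeometry CategoryTheory IsLocalRing

/-- Being unibranch passes along ring isomorphisms. -/
theorem isUnibranch_of_ringEquiv (A O : Type u) [CommRing A] [IsDomain A] [IsLocalRing A]
    [CommRing O] [IsLocalRing O] (e : O ≃+* A) (hA : CAlg2.IsUnibranch A) : CAlg2.IsUnibranch O := by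
  haveI : IsDomain O := e.toMulEquiv.isDomain_iff.mpr inferInstance
  letI : Algebra O (FractionRing A) := ((algebraMap A (FractionRing A)).comp e.toRingHom).toAlgebra
  haveI : IsFractionRing O (FractionRing A) := by
    have h := IsLocalization.isLocalization_of_base_ringEquiv (nonZeroDivisors A) (FractionRing A) e.symm
    have hM : (nonZeroDivisors A).map (e.symm : A →+* O).toMonoidHom = nonZeroDivisors O :=
      MulEquivClass.map_nonZeroDivisors e.symm.toMulEquiv
    convert h using 1
    all_goals first | exact hM.symm | exact Algebra.algebra_ext _ _ fun r => rfl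
  obtain ⟨εO, -⟩ := Curv2Norm.exists_normRed_equiv O (FractionRing A)
  obtain ⟨εA, -⟩ := Curv2Norm.exists_normRed_equiv A (FractionRing A)
  have h1 : ∀ x : FractionRing A, IsIntegral A x ↔ IsIntegral O x := fun x =>
    ⟨fun h => h.map_of_comp_eq e.symm.toRingHom (RingHom.id _) (RingHom.ext fun a => by
        simp [RingHom.algebraMap_toAlgebra]),
      fun h => h.map_of_comp_eq e.toRingHom (RingHom.id _) (RingHom.ext fun a => by
        simp [RingHom.algebraMap_toAlgebra])⟩
  let eI : integralClosure A (FractionRing A) ≃+* integralClosure O (FractionRing A) :=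
    { toFun := fun x => ⟨x.1, (h1 _).mp x.2⟩
      invFun := fun x => ⟨x.1, (h1 _).mpr x.2⟩
      left_inv := fun _ => rfl
      right_inv := fun _ => rfl
      map_mul' := fun _ _ => rfl
      map_add' := fun _ _ => rfl }
  haveI := hA.2
  refine ⟨?_, RingEquiv.isLocalRing (εA.trans (eI.trans εO.symm))⟩
  haveI : (nilradical O).IsPrime := by
    rw [nilradical_eq_zero, Ideal.zero_eq_bot]; exact Ideal.isPrime_bot
  exact Ideal.Quotient.isDomain _

/-- In a scheme every point has a maximal generization. -/
theorem exists_maximal_generization (X : Scheme.{u}) (x : X) :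
    ∃ η : X, η ⤳ x ∧ ∀ y : X, y ⤳ η → y = η := by
  have hirr : IsIrreducible (irreducibleComponent x) := isIrreducible_irreducibleComponent
  have hcl : closure {hirr.genericPoint} = irreducibleComponent x := by
    rw [hirr.genericPoint_closure_eq, isClosed_irreducibleComponent.closure_eq]
  refine ⟨hirr.genericPoint, specializes_iff_mem_closure.mpr (hcl.symm ▸ mem_irreducibleComponent),
    fun y hy => ?_⟩
  have hsub : irreducibleComponent x ≤ closure {y} := hcl ▸ specializes_iff_closure_subset.mp hy
  have h := eq_irreducibleComponent (isIrreducible_singleton.closure.isPreirreducible) hsub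
  exact (inseparable_iff_closure_eq.mpr (h.trans hcl.symm)).eq

/-- The stalk map of `b` at a point over an open on which `b` is an isomorphism. -/
theorem isIso_stalkMap_of_isIso_restrict {X Y : Scheme.{u}} (b : X ⟶ Y) (U : Y.Opens) [IsIso (b ∣_ U)]
    (x : X) (hx : b x ∈ U) : IsIso (b.stalkMap x) :=
  (MorphismProperty.arrow_mk_iso_iff (.isomorphisms CommRingCat)
    (morphismRestrictStalkMap b U ⟨x, hx⟩)).mp
    ((isIso_iff_isIso_stalkMap (b ∣_ U)).mp inferInstance |>.2 _)

open AlgebraicGeometry CategoryTheory in
/-- Let A be a unibranch Noetherian local domain (a local domain whose integral closure is a local ring)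
with maximal ideal m, let 𝔞 be an ideal of definition of A (𝔞 ⊆ m and m^p ⊆ 𝔞 for some p), and let b
: X → Spec A be a blowing up of Spec A in the ideal sheaf defined by 𝔞. Then the fibre of b over the
closed point is preconnected. Its underlying space is that of Proj of the associated graded ring ⊕
𝔞^i/𝔞^(i+1), so this says that Proj is connected (possibly empty). -/
theorem result (A : Type u) [CommRing A] [IsDomain A]
    [IsNoetherianRing A] [IsLocalRing A] (hA : CAlg2.IsUnibranch A) (𝔞 : Ideal A)
    (hle : 𝔞 ≤ IsLocalRing.maximalIdeal A)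
    (hpow : ∃ p : ℕ, IsLocalRing.maximalIdeal A ^ p ≤ 𝔞) {X : Scheme.{u}}
    (b : X ⟶ Spec (CommRingCat.of A))
    (hb : BlowUp.IsBlowUp b
      (Scheme.IdealSheafData.ofIdealTop (𝔞.map (Scheme.ΓSpecIso (CommRingCat.of A)).inv.hom))) :
    PreconnectedSpace ↥(b.fiber (IsLocalRing.closedPoint A)) := by
  classical
  let R := CommRingCat.of A
  let 𝓘 : (Spec R).IdealSheafData :=
    Scheme.IdealSheafData.ofIdealTop (𝔞.map (Scheme.ΓSpecIso R).inv.hom)
  have h𝓘 : 𝓘 = Scheme.IdealSheafData.ofIdealTop (𝔞.map (Scheme.ΓSpecIso R).inv.hom) := rfl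
  have hbij := Groth.Agent.S1681.result 𝓘 b hb
  haveI : IsProper b := BlowUpProper.Basic.isProper_of_fg hb fun y => by
    obtain ⟨U, hU, -⟩ := Groth.Agent.IdealSh.Comap.exists_affine_le y ⊤ trivial
    haveI := IsLocallyNoetherian.component_noetherian (X := Spec R) U
    exact ⟨U, hU, IsNoetherian.noetherian _⟩
  haveI hred : IsReduced X := BlowUp.Basic.isReduced hb
  have hsupp : ∀ y : Spec R, y ∈ 𝓘.support → 𝔞 ≤ y.asIdeal := by
    intro y hy a ha
    have h2 : y ∈ (Spec R).zeroLocus (U := ⊤)
        ((𝔞.map (Scheme.ΓSpecIso R).inv.hom : Ideal _) : Set _) := by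
      rw [← Scheme.IdealSheafData.coe_support_ofIdealTop]; exact hy
    rw [Scheme.mem_zeroLocus_iff] at h2
    by_contra hmem
    apply h2 _ (Ideal.mem_map_of_mem _ ha)
    exact (basicOpen_eq_of_affine (R := R) a).ge hmem
  by_cases hbot : 𝔞 = ⊥
  · haveI : IsEmpty X := by
      refine ⟨fun x => ?_⟩
      obtain ⟨η, -, hη⟩ := exists_maximal_generization X x
      have h := (hbij.1 hη).2
      apply h
      show _ ∈ (𝓘.support : Set (Spec R))
      rw [h𝓘, Scheme.IdealSheafData.coe_support_ofIdealTop, hbot, Ideal.map_bot, Scheme.mem_zeroLocus_iff]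
      intro f hf
      rw [Submodule.bot_coe, Set.mem_singleton_iff] at hf
      subst hf
      simp
    haveI : IsEmpty ↥(b.fiber (closedPoint A)) :=
      Function.isEmpty fun x => (b.fiberι (closedPoint A)).base x
    infer_instance
  have hgen : genericPoint (Spec R) ∉ 𝓘.support := by
    intro h
    apply hbot
    have h2 := hsupp _ h
    rw [genericPoint_eq_bot_of_affine] at h2
    exact le_bot_iff.mp h2
  have hmax : ∀ y : Spec R, y ⤳ genericPoint (Spec R) → y = genericPoint (Spec R) := fun y hy =>
    (hy.antisymm (genericPoint_specializes y)).eq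
  obtain ⟨η, hη, hbη⟩ := hbij.2.2 ⟨hmax, hgen⟩
  have huniq : ∀ z : X, (∀ w : X, w ⤳ z → w = z) → z = η := by
    intro z hz
    refine hbij.2.1 hz hη (?_ : b z = b η)
    have hbz := (hbij.1 hz).1 (genericPoint (Spec R)) (genericPoint_specializes _)
    exact hbz.symm.trans hbη.symm
  have hall : ∀ z : X, η ⤳ z := by
    intro z
    obtain ⟨w, hw, hwmax⟩ := exists_maximal_generization X z
    exact huniq w hwmax ▸ hw
  have hclη : closure {η} = Set.univ :=
    Set.eq_univ_of_forall fun z => (hall z).mem_closure
  haveI : Nonempty X := ⟨η⟩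
  haveI : IrreducibleSpace X := by
    rw [irreducibleSpace_def]
    show IsIrreducible (Set.univ : Set X)
    rw [← hclη]
    exact isIrreducible_singleton.closure
  haveI : IsIntegral X := isIntegral_of_irreducibleSpace_of_isReduced X
  haveI : IsLocallyNoetherian X := LocallyOfFiniteType.isLocallyNoetherian b
  have hgX : genericPoint X = η := by
    have : IsGenericPoint η (⊤ : Set X) := hclη
    exact ((genericPoint_spec X).eq this)
  have hbg : b.base (genericPoint X) = genericPoint (Spec R) := by rw [hgX]; exact hbη
  haveI := BlowUp.Basic.isIso_restrict hb 𝓘.support.compl disjoint_compl_left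
  haveI : IsIso (b.stalkMap (genericPoint X)) :=
    isIso_stalkMap_of_isIso_restrict b 𝓘.support.compl _ (by
      show b (genericPoint X) ∉ 𝓘.support
      rw [hgX, show b η = genericPoint (Spec R) from hbη]; exact hgen)
  have hdom : b.base (genericPoint X) ⤳ genericPoint (Spec R) := specializes_of_eq hbg
  have hsurj : ∀ x : X.functionField,
      x ∈ Set.range (CohIII.stalkToFunctionField b (genericPoint (Spec R)) hdom) := by
    intro x
    obtain ⟨z, rfl⟩ := (ConcreteCategory.bijective_of_isIso (b.stalkMap (genericPoint X))).2 x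
    have h' : genericPoint (Spec R) ⤳ b.base (genericPoint X) := specializes_of_eq hbg.symm
    refine ⟨((Spec R).presheaf.stalkSpecializes h').hom z,
      congrArg (b.stalkMap (genericPoint X)).hom ?_⟩
    exact (CategoryTheory.ConcreteCategory.congr_hom
      (((Spec R).presheaf.stalkSpecializes_comp hdom h').trans
        ((Spec R).presheaf.stalkSpecializes_refl _)) z)
  let y₀ : ↥(Spec R) := closedPoint A
  haveI : IsLocalRing ((Spec R).presheaf.stalk y₀) := inferInstance
  have hy : CAlg2.IsUnibranch ((Spec R).presheaf.stalk y₀) :=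
    isUnibranch_of_ringEquiv A _ (stalkClosedPointIso R).commRingCatIsoToRingEquiv hA
  have hcon := Groth.Agent.S4464.result b hdom (fun x _ => ⟨0, by simpa using hsurj x⟩) y₀ hy
  exact hcon.toPreconnectedSpace

end Groth.Agent.S4472
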