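import Groth.Statements.S4474
import Groth.Agent.AmpleLib.GenOn
import Groth.Agent.AmpleLib.Counit
import Groth.Agent.AmpleLib.Rel

set_option autoImplicit false
universe u
open Coherent

namespace Groth.Agent.S4474

open AlgebraicGeometry CategoryTheory in
/-- Let Y be a Noetherian scheme, f : X → Y a proper morphism, L an invertible O_X-module which is ample
relative to f, and F a coherent O_X-module. Then there is an integer N such that for every n ≥ N the
canonical morphism f^* f_* (F(n)) → F(n), the counit of the adjunction between f^* and f_*, is an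
epimorphism, where F(n) = F ⊗ L^{⊗ n}. -/
theorem result {X Y : Scheme.{u}} (f : X ⟶ Y) [IsNoetherian Y] [IsProper f]
    (L : X.Modules) (hL : PicF.IsInvertible L) (hamp : RelAmple.IsRelAmple f L) (F : X.Modules)
    (hF : Coh.IsCoh F) :
    ∃ N : ℕ, ∀ n : ℕ, N ≤ n →
      Epi ((Scheme.Modules.pullbackPushforwardAdjunction f).counit.app
        (CohB1.tensorMod F (CohB1.tensorPow L n))) := by
  classical
  obtain ⟨-, -, ha⟩ := Groth.Agent.AmpleLib.isRelAmple_iff.mp hamp
  choose W hW hyW using fun y : Y =>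
    (exists_isAffineOpen_mem_and_subset (X := Y) (x := y) (U := ⊤) trivial)
  obtain ⟨T, hT⟩ := isCompact_univ.elim_finite_subcover (fun y : Y => (W y : Set Y))
    (fun y => (W y).2) fun y _ => Set.mem_iUnion.mpr ⟨y, (hyW y).1⟩
  choose n₀ hn₀ using fun y : T => Groth.Agent.AmpleLib.eventually_spanAt hL (ha ⟨W y, hW y⟩)
    (f.isQuasiSeparated_preimage (hW y).isQuasiSeparated) hF.1 hF.2
  obtain ⟨N, hN⟩ : ∃ N, ∀ y, n₀ y ≤ N := Finite.exists_le n₀
  refine ⟨N, fun n hn => Groth.Agent.AmpleLib.epi_counit_of_spanAt f fun x => ?_⟩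
  obtain ⟨y, hy, hxy⟩ := Set.mem_iUnion₂.mp (hT (Set.mem_univ (f x)))
  exact ⟨W y, hxy, hn₀ ⟨y, hy⟩ n ((hN _).trans hn) x hxy⟩

end Groth.Agent.S4474
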