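import Groth.Statements.S4476
import Groth.Agent.FormalFun.HomSurj
import Groth.Agent.FormalFun.HomMonoEpi
import Groth.Agent.PinchLib.Modules
import Groth.Agent.KFlat.Hom
-- import your own Groth.Agent.* helpers here

set_option autoImplicit false
universe u
attribute [local instance] HasDerivedCategory.standard
open Coherent

namespace Groth.Agent.S4476

open AlgebraicGeometry CategoryTheory in
/-- Over a local base. Let A be a Noetherian local ring with closed point y, X a scheme proper and flat
over Spec A, F and G finite locally free O_X-modules and F_y, G_y their restrictions (module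
pullbacks) to the closed fibre X_y. Assume that the internal Hom functor Hom(F_y, −) exists as the
right adjoint of F_y ⊗ − and that H^1(X_y, Hom(F_y, G_y)) = 0. Then every morphism u₀ : F_y → G_y is
the restriction to X_y of a morphism u : F → G; moreover for every such u, if u₀ is a monomorphism
(resp. an epimorphism) then u is a monomorphism (resp. an epimorphism). (Over a general locally
Noetherian base the published statements give u on the inverse image of a neighbourhood of y; over
the spectrum of a local ring that neighbourhood is the whole base.) -/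
theorem result (A : Type u) [CommRing A] [IsNoetherianRing A]
    [IsLocalRing A] (X : Scheme.{u}) [X.Over (Spec (CommRingCat.of A))]
    [IsProper (X ↘ Spec (CommRingCat.of A))] [Flat (X ↘ Spec (CommRingCat.of A))]
    (F G : X.Modules) (hF : FlatMod.IsFinLocFree F) (hG : FlatMod.IsFinLocFree G)
    [DCoh.HasSheafHom (CohIII.fiberMod (X ↘ Spec (CommRingCat.of A)) F (IsLocalRing.closedPoint A))]
    (h1 : Subsingleton (Coh.HH ((X ↘ Spec (CommRingCat.of A)).fiber (IsLocalRing.closedPoint A))
      ((DCoh.sheafHom (CohIII.fiberMod (X ↘ Spec (CommRingCat.of A)) F (IsLocalRing.closedPoint A))).obj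
        (CohIII.fiberMod (X ↘ Spec (CommRingCat.of A)) G (IsLocalRing.closedPoint A))) 1))
    (u₀ : CohIII.fiberMod (X ↘ Spec (CommRingCat.of A)) F (IsLocalRing.closedPoint A) ⟶
      CohIII.fiberMod (X ↘ Spec (CommRingCat.of A)) G (IsLocalRing.closedPoint A)) :
    (∃ u : F ⟶ G,
      (Scheme.Modules.pullback ((X ↘ Spec (CommRingCat.of A)).fiberι (IsLocalRing.closedPoint A))).map u = u₀) ∧
    ∀ u : F ⟶ G,
      (Scheme.Modules.pullback ((X ↘ Spec (CommRingCat.of A)).fiberι (IsLocalRing.closedPoint A))).map u = u₀ →
        (Mono u₀ → Mono u) ∧ (Epi u₀ → Epi u) := by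

  haveI := FormalFun.isClosedImmersion_cι A X
  haveI := FormalFun.isLocallyNoetherian_of_proper A X
  haveI : IsLocallyNoetherian (FormalFun.cfib A X) :=
    LocallyOfFiniteType.isLocallyNoetherian (FormalFun.cι A X)
  haveI := KFlat.hasSheafHom_scheme F
  have hGc := PerfTri.Bounded.isCoh_of_isFinLocFree hG
  haveI : F.IsQuasicoherent := (PerfTri.Bounded.isCoh_of_isFinLocFree hF).1
  haveI : G.IsQuasicoherent := hGc.1
  have hF0 := PinchLib.isFinLocFree_pullback (FormalFun.cι A X) F hF
  have hG0 := PerfTri.Bounded.isCoh_of_isFinLocFree (PinchLib.isFinLocFree_pullback (FormalFun.cι A X) G hG)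
  exact ⟨FormalFun.exists_hom_lift A X F G hF hGc (FormalFun.isFlatOver_of_isFinLocFree' _ hG)
      (ExtHom.isCoh_sheafHom hF0 hG0).1 h1 u₀,
    fun u hu => ⟨fun h => FormalFun.mono_of_fib hF hG u (hu ▸ h),
      fun h => FormalFun.epi_of_fib (PerfTri.Bounded.isCoh_of_isFinLocFree hF) hG u (hu ▸ h)⟩⟩

end Groth.Agent.S4476
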