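import Groth.Statements.S4479
import Groth.Agent.KoszulCech.Union
import Groth.Agent.GrModLib.Cohom

set_option autoImplicit false
universe u
open Koszul3

namespace Groth.Agent.S4479

section Helpers

open AlgebraicGeometry CategoryTheory Opposite TopologicalSpace DirectSum
open Groth.Agent.KoszulCech Groth.Agent.ProjTilde
open Groth.Agent.GrModLib (mk fracSec exists_frac exists_pow_smul_eq_zero cpt cpt_same cpt_ne pow_nin)
open Groth.Agent.CohAff (inter mem_inter)

attribute [local instance] HasDerivedCategory.standard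

noncomputable section

variable {R A : Type u} [CommRing R] [CommRing A] [Algebra R A] {𝒜 : ℕ → Submodule R A}
  [GradedAlgebra 𝒜]
variable {M : Type u} [AddCommGroup M] [Module R M] [Module A M] {ℳ : ℕ → Submodule R M}
  [DirectSum.Decomposition ℳ] [SetLike.GradedSMul 𝒜 ℳ]

abbrev lmk (g : A) (m : M) (e : ℕ) : L g M := LocalizedModule.mk m ⟨g ^ e, e, rfl⟩

lemma lmk_scale (g : A) (m : M) (e k : ℕ) : lmk g m e = lmk g (g ^ k • m) (k + e) :=
  LocalizedModule.mk_eq.mpr ⟨1, by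
    simp only [one_smul, Submonoid.smul_def, ← mul_smul, ← pow_add, add_comm e k]⟩

def lmkHom (g : A) (e : ℕ) : M →+ L g M :=
  AddMonoidHom.mk' (fun m => lmk g m e) fun m m' => by
    rw [lmk, lmk, lmk, LocalizedModule.mk_add_mk]
    refine LocalizedModule.mk_eq.mpr ⟨1, ?_⟩
    simp only [one_smul, Submonoid.smul_def, Submonoid.coe_mul, smul_add, mul_smul]

lemma res_lmk {g g' : A} (h : g ∣ g') (c : A) (hc : g' = c * g) (m : M) (e : ℕ) :
    res h M (lmk g m e) = lmk g' (c ^ e • m) e := by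
  have hu := IsLocalizedModule.map_units (S := Submonoid.powers g') (loc g' M) ⟨g' ^ e, e, rfl⟩
  refine ((Module.End.isUnit_iff _).mp hu).1 ?_
  change g' ^ e • res h M (lmk g m e) = g' ^ e • lmk g' (c ^ e • m) e
  have key : ∀ (a : A) (y : M), a ^ e • lmk a y e = loc a M y := fun a y => by
    change _ = LocalizedModule.mk y 1
    rw [LocalizedModule.smul'_mk]
    exact LocalizedModule.mk_eq.mpr ⟨1, by simp [Submonoid.smul_def]⟩
  subst hc
  rw [key, mul_pow, mul_smul, ← map_smul (res h M) (g ^ e), key, res_loc, ← map_smul]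

/-- `z` is the fraction defining the section `s`. -/
def Rep {g : A} (D : ℕ) (n : ℤ) {U : (Proj 𝒜).Opens}
    (s : Γ(GrTilde.tilde 𝒜 ℳ n, U)) (z : L g M) : Prop :=
  ∃ (e i : ℕ) (m : M), m ∈ ℳ i ∧ (i : ℤ) = (e : ℤ) * D + n ∧
    (∀ (x : ProjectiveSpectrum 𝒜) (hx : x ∈ U) (hg : g ∉ x.asHomogeneousIdeal),
      sval s x hx = mk x m (g ^ e) (pow_nin hg e)) ∧
    z = lmk g m e

section One

variable {g : A} {D : ℕ} (hg : g ∈ 𝒜 D) (hD : 0 < D) {U : (Proj 𝒜).Opens}
  (hU : ∀ x : ProjectiveSpectrum 𝒜, x ∈ U ↔ g ∉ x.asHomogeneousIdeal) {n : ℤ}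

include hg in
omit [DirectSum.Decomposition ℳ] in
lemma rep_raise {s : Γ(GrTilde.tilde 𝒜 ℳ n, U)} {e i : ℕ} {m : M} (hm : m ∈ ℳ i)
    (hi : (i : ℤ) = (e : ℤ) * D + n)
    (hv : ∀ (x : ProjectiveSpectrum 𝒜) (hx : x ∈ U) (hg : g ∉ x.asHomogeneousIdeal),
      sval s x hx = mk x m (g ^ e) (pow_nin hg e)) (k : ℕ) :
    g ^ k • m ∈ ℳ (k * D + i) ∧ ((k * D + i : ℕ) : ℤ) = ((k + e : ℕ) : ℤ) * D + n ∧
      (∀ (x : ProjectiveSpectrum 𝒜) (hx : x ∈ U) (hg : g ∉ x.asHomogeneousIdeal),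
        sval s x hx = mk x (g ^ k • m) (g ^ (k + e)) (pow_nin hg (k + e))) ∧
      lmk g m e = lmk g (g ^ k • m) (k + e) := by
  refine ⟨SetLike.GradedSMul.smul_mem (pow_mem_deg hg k) hm, by push_cast; rw [hi]; ring,
    fun x hx hgx => (hv x hx hgx).trans (GrModLib.mk_eq_mk_iff.mpr ⟨1, GrMod.one_nin x, ?_⟩),
    lmk_scale g m e k⟩
  rw [one_smul, sub_eq_zero, ← mul_smul, ← pow_add, add_comm e k]

include hg hD hU in
lemma rep_exists (s : Γ(GrTilde.tilde 𝒜 ℳ n, U)) : ∃ z, Rep (g := g) D n s z := by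
  obtain ⟨e, i, m, hm, hi, hv⟩ := exists_frac (ℳ := ℳ) hg hD n (U := U) (fun x hx => (hU x).mpr hx)
    (show GrMod.sect 𝒜 ℳ n (op U) from s)
  exact ⟨_, e, i, m, hm, hi, fun x hx hgx => hv x hgx, rfl⟩

include hg hD hU in
lemma rep_unique {s : Γ(GrTilde.tilde 𝒜 ℳ n, U)} {z z' : L g M} (h : Rep D n s z)
    (h' : Rep D n s z') : z = z' := by
  obtain ⟨e, i, m, hm, hi, hv, rfl⟩ := h
  obtain ⟨e', i', m', hm', hi', hv', rfl⟩ := h'
  obtain ⟨a1, b1, c1, d1⟩ := rep_raise hg hm hi hv e'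
  obtain ⟨a2, b2, c2, d2⟩ := rep_raise hg hm' hi' hv' e
  have hde : e * D + i' = e' * D + i := by
    have : ((e * D + i' : ℕ) : ℤ) = ((e' * D + i : ℕ) : ℤ) := by rw [b1, b2]; push_cast; ring
    exact_mod_cast this
  rw [d1, d2, add_comm e e']
  obtain ⟨N, hN⟩ := exists_pow_smul_eq_zero (ℳ := ℳ) (m := g ^ e' • m - g ^ e • m')
    (sub_mem a1 (hde ▸ a2)) hg hD fun x hx => by
      have h1 := (hv x ((hU x).mpr hx) hx).symm.trans (hv' x ((hU x).mpr hx) hx)
      exact GrModLib.mk_eq_mk_iff.mp h1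
  refine LocalizedModule.mk_eq.mpr ⟨⟨g ^ N, N, rfl⟩, ?_⟩
  rw [smul_sub, sub_eq_zero] at hN
  simp only [Submonoid.smul_def, smul_comm (g ^ N) (g ^ (e' + e)), hN]

def phi (s : Γ(GrTilde.tilde 𝒜 ℳ n, U)) : L g M := (rep_exists hg hD hU s).choose

lemma phi_eq {s : Γ(GrTilde.tilde 𝒜 ℳ n, U)} {z : L g M} (h : Rep D n s z) :
    phi hg hD hU s = z :=
  rep_unique hg hD hU (rep_exists hg hD hU s).choose_spec h

def phiHom (n : ℤ) : Γ(GrTilde.tilde 𝒜 ℳ n, U) →+ L g M :=
  AddMonoidHom.mk' (phi hg hD hU) fun s t => by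
    obtain ⟨e, i, m, hm, hi, hv, hz⟩ := (rep_exists hg hD hU s).choose_spec
    obtain ⟨e', i', m', hm', hi', hv', hz'⟩ := (rep_exists hg hD hU t).choose_spec
    obtain ⟨a1, b1, c1, d1⟩ := rep_raise hg hm hi hv e'
    obtain ⟨a2, b2, c2, d2⟩ := rep_raise hg hm' hi' hv' e
    have hde : e * D + i' = e' * D + i := by
      have : ((e * D + i' : ℕ) : ℤ) = ((e' * D + i : ℕ) : ℤ) := by rw [b1, b2]; push_cast; ring
      exact_mod_cast this
    change phi hg hD hU (s + t) = phi hg hD hU s + phi hg hD hU t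
    rw [show phi hg hD hU s = lmk g m e from hz, show phi hg hD hU t = lmk g m' e' from hz',
      d1, d2, add_comm e e']
    refine phi_eq hg hD hU ⟨e' + e, _, _, add_mem a1 (hde ▸ a2), b1, fun x hx hgx => ?_, ?_⟩
    · change sval s x hx + sval t x hx = _
      rw [c1 x hx hgx, c2 x hx hgx]
      simp only [add_comm e e']
      exact (GrModLib.mk_add _ _ _).symm
    · exact (map_add (lmkHom g (e' + e)) _ _).symm

lemma phiHom_eq {s : Γ(GrTilde.tilde 𝒜 ℳ n, U)} {z : L g M} (h : Rep D n s z) :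
    phiHom hg hD hU n s = z := phi_eq hg hD hU h

lemma phiHom_rep (s : Γ(GrTilde.tilde 𝒜 ℳ n, U)) : Rep D n s (phiHom hg hD hU n s) :=
  (rep_exists hg hD hU s).choose_spec

include hg hD hU in
theorem sum_bijective :
    Function.Bijective (DirectSum.toAddMonoid (phiHom (ℳ := ℳ) hg hD hU)) := by
  classical
  constructor
  · rw [injective_iff_map_eq_zero]
    intro z hz
    choose e i m hm hi hv he using fun n : ℤ => phiHom_rep hg hD hU (z n)
    let E := z.support.sup e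
    have hle : ∀ n ∈ z.support, e n ≤ E := fun n hn => Finset.le_sup hn
    let m' : ℤ → M := fun n => g ^ (E - e n) • m n
    have hsum : lmkHom g E (∑ n ∈ z.support, m' n) = 0 := by
      rw [map_sum, ← hz]
      conv_rhs => rw [← DirectSum.sum_support_of z, map_sum]
      refine Finset.sum_congr rfl fun n hn => ?_
      rw [DirectSum.toAddMonoid_of, he n]
      refine Eq.symm ((lmk_scale g (m n) (e n) (E - e n)).trans ?_)
      rw [Nat.sub_add_cancel (hle n hn)]
      rfl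
    obtain ⟨⟨_, N, rfl⟩, hN⟩ := LocalizedModule.mk_eq.mp
      (hsum.trans (LocalizedModule.zero_mk (⟨g ^ E, E, rfl⟩ : Submonoid.powers g)).symm)
    simp only [Submonoid.smul_def, smul_zero] at hN
    rw [← mul_smul, ← pow_add, Finset.smul_sum] at hN
    refine DFunLike.ext z 0 fun n => ?_
    by_cases hn : n ∈ z.support
    swap
    · exact DFinsupp.notMem_support_iff.mp hn
    have hdeg : ∀ k ∈ z.support, g ^ (N + E) • m' k ∈ ℳ ((N + E) * D + ((E - e k) * D + i k)) :=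
      fun k hk => SetLike.GradedSMul.smul_mem (pow_mem_deg hg (N + E))
        (SetLike.GradedSMul.smul_mem (pow_mem_deg hg (E - e k)) (hm k))
    have hint : ∀ k ∈ z.support, (((E - e k) * D + i k : ℕ) : ℤ) = (E : ℤ) * D + k := fun k hk => by
      push_cast [Nat.cast_sub (hle k hk)]
      rw [hi k]; ring
    have hcomp := congrArg (cpt ℳ ((N + E) * D + ((E - e n) * D + i n))) hN
    rw [map_sum, map_zero, Finset.sum_eq_single n (fun k hk hkn => cpt_ne (hdeg k hk) fun hh => hkn (by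
        have h1 : (((E - e k) * D + i k : ℕ) : ℤ) = (((E - e n) * D + i n : ℕ) : ℤ) := by
          exact_mod_cast Nat.add_left_cancel hh
        rw [hint k hk, hint n hn] at h1
        exact add_left_cancel h1)) (fun h => absurd hn h), cpt_same (hdeg n hn)] at hcomp
    refine sval_ext fun x hx => ?_
    have hgx := (hU x).mp hx
    refine (hv n x hx hgx).trans (GrModLib.mk_eq_zero_iff.mpr ⟨g ^ (N + E) * g ^ (E - e n), ?_, ?_⟩)
    · exact ProjTilde.mul_nin (pow_nin hgx _) (pow_nin hgx _)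
    · rw [mul_smul]; exact hcomp
  · intro y
    induction y using LocalizedModule.induction_on with
    | _ m s =>
      obtain ⟨_, k, rfl⟩ := s
      induction m using DirectSum.Decomposition.inductionOn ℳ with
      | zero => exact ⟨0, (map_zero _).trans (LocalizedModule.zero_mk _).symm⟩
      | @homogeneous i m =>
        let n : ℤ := (i : ℤ) - (k * D : ℕ)
        let s : Γ(GrTilde.tilde 𝒜 ℳ n, U) := fracSec m.2 (pow_mem_deg hg k) n
          (by simp only [n]; ring) (fun x => pow_nin ((hU x.1).mp x.2) k)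
        refine ⟨DirectSum.of _ n s, ?_⟩
        rw [DirectSum.toAddMonoid_of]
        exact phiHom_eq hg hD hU ⟨k, i, m, m.2, by simp only [n]; push_cast; ring,
          fun x hx hgx => rfl, rfl⟩
      | add a b ha hb =>
        obtain ⟨za, hza⟩ := ha
        obtain ⟨zb, hzb⟩ := hb
        exact ⟨za + zb, ((map_add _ za zb).trans (congrArg₂ (· + ·) hza hzb)).trans
          (map_add (lmkHom g k) a b).symm⟩

end One

section Cochains

variable {ι : Type u} (f : ι → A) (d : ι → ℕ) (hf : ∀ i, f i ∈ 𝒜 (d i)) (hd : ∀ i, 0 < d i)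

variable (𝒜) in
abbrev cov : ι → (Proj 𝒜).Opens := fun i => Proj.basicOpen 𝒜 (f i)

def dg {q : ℕ} (x : Fin q → ι) : ℕ := ∑ a, d (x a)

include hd in
lemma dg_pos {q : ℕ} (x : Fin (q + 1) → ι) : 0 < dg d x :=
  Finset.sum_pos (fun a _ => hd _) Finset.univ_nonempty

include hf in
lemma tp_mem {q : ℕ} (x : Fin q → ι) : tp f x ∈ 𝒜 (dg d x) :=
  SetLike.prod_mem_graded 𝒜 _ _ fun a _ => hf _

lemma mem_cov {q : ℕ} (x : Fin q → ι) (p : ProjectiveSpectrum 𝒜) :
    p ∈ inter (cov 𝒜 f) x ↔ tp f x ∉ p.asHomogeneousIdeal := by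
  refine mem_inter.trans ⟨fun h hp => ?_, fun h a h' => h ?_⟩
  · obtain ⟨a, -, ha⟩ := p.isPrime.prod_mem_iff.mp hp
    exact h a ha
  · exact Ideal.prod_mem (I := p.asHomogeneousIdeal.toIdeal) (Finset.mem_univ a) h'

variable (𝒜 ℳ) in
abbrev Cn (n : ℤ) (q : ℕ) : Type u :=
  CohAff.Cochain (GrTilde.tilde 𝒜 ℳ n).presheaf (cov 𝒜 f) q

def Phi (q : ℕ) (n : ℤ) : Cn 𝒜 ℳ f n q →+ C f q M :=
  AddMonoidHom.mk' (fun s x => phiHom (tp_mem f d hf x) (dg_pos d hd x) (mem_cov f x) n (s x))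
    fun s t => funext fun x =>
      map_add (phiHom (tp_mem f d hf x) (dg_pos d hd x) (mem_cov f x) n) (s x) (t x)

def J (q : ℕ) : (⨁ n : ℤ, Cn 𝒜 ℳ f n q) →+ C f q M := DirectSum.toAddMonoid (Phi f d hf hd q)

theorem J_bijective [Finite ι] (q : ℕ) : Function.Bijective (J (ℳ := ℳ) f d hf hd q) := by
  classical
  have := Fintype.ofFinite ι
  have hev : ∀ (z : ⨁ n : ℤ, Cn 𝒜 ℳ f n q) (x : Fin (q + 1) → ι), J f d hf hd q z x =
      DirectSum.toAddMonoid (phiHom (ℳ := ℳ) (tp_mem f d hf x) (dg_pos d hd x) (mem_cov f x))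
        (DirectSum.map (fun n => Pi.evalAddMonoidHom
          (fun y : Fin (q + 1) → ι => Γ(GrTilde.tilde 𝒜 ℳ n, inter (cov 𝒜 f) y)) x) z) := by
    intro z x
    induction z using DirectSum.induction_on with
    | zero => simp only [map_zero, Pi.zero_apply]
    | of n s => simp only [J, DirectSum.map_of, DirectSum.toAddMonoid_of]; rfl
    | add a b ha hb => simp only [map_add, Pi.add_apply, ha, hb]
  constructor
  · rw [injective_iff_map_eq_zero]
    intro z hz
    refine DFunLike.ext z 0 fun n => funext fun x => ?_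
    have h := congrFun hz x
    rw [hev, Pi.zero_apply] at h
    have h2 := (injective_iff_map_eq_zero _).mp
      (sum_bijective (ℳ := ℳ) (tp_mem f d hf x) (dg_pos d hd x) (mem_cov f x)).1 _ h
    have h3 := congrArg (fun w : ⨁ n : ℤ, Γ(GrTilde.tilde 𝒜 ℳ n, inter (cov 𝒜 f) x) => w n) h2
    simp only [DirectSum.map_apply] at h3
    exact h3.trans rfl
  · intro s
    rw [← Finset.univ_sum_single s]
    refine ⟨∑ x : Fin (q + 1) → ι, DirectSum.map (fun n => AddMonoidHom.single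
      (fun y : Fin (q + 1) → ι => Γ(GrTilde.tilde 𝒜 ℳ n, inter (cov 𝒜 f) y)) x)
        ((sum_bijective (ℳ := ℳ) (tp_mem f d hf x) (dg_pos d hd x) (mem_cov f x)).2 (s x)).choose, ?_⟩
    rw [map_sum]
    refine Finset.sum_congr rfl fun x _ => ?_
    set w := ((sum_bijective (ℳ := ℳ) (tp_mem f d hf x) (dg_pos d hd x) (mem_cov f x)).2 (s x))
    conv_rhs => rw [← w.choose_spec]
    generalize w.choose = v
    induction v using DirectSum.induction_on with
    | zero => simp only [map_zero, Pi.single_zero]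
    | of n t =>
      rw [DirectSum.map_of, DirectSum.toAddMonoid_of, J, DirectSum.toAddMonoid_of]
      funext y
      change phiHom (ℳ := ℳ) (tp_mem f d hf y) (dg_pos d hd y) (mem_cov f y) n
        (Pi.single (M := fun y : Fin (q + 1) → ι => ↑Γ(GrTilde.tilde 𝒜 ℳ n, inter (cov 𝒜 f) y)) x t y) = _
      by_cases hy : y = x
      · subst hy
        rw [Pi.single_eq_same, Pi.single_eq_same]
      · rw [Pi.single_eq_of_ne hy, Pi.single_eq_of_ne hy, map_zero]
    | add a b ha hb => simp only [map_add, Pi.single_add, ha, hb]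

lemma Phi_cd (q : ℕ) (n : ℤ) (s : Cn 𝒜 ℳ f n q) :
    cdM f M q (Phi f d hf hd q n s) =
      Phi f d hf hd (q + 1) n (CohAff.cd (GrTilde.tilde 𝒜 ℳ n).presheaf (cov 𝒜 f) q s) := by
  funext x
  change cdM f M q _ x = phiHom (tp_mem f d hf x) (dg_pos d hd x) (mem_cov f x) n (CohAff.cd _ _ q s x)
  rw [cdM_apply, CohAff.cd_apply, map_sum]
  refine Finset.sum_congr rfl fun j _ => ?_
  rw [map_zsmul]
  congr 1
  set y := x ∘ j.succAbove
  obtain ⟨e, i, m, hm, hi, hv, hz⟩ := phiHom_rep (ℳ := ℳ) (tp_mem f d hf y) (dg_pos d hd y)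
    (mem_cov f y) (s y)
  have htp : tp f x = f (x j) * tp f y := by
    rw [tp, tp, Fin.prod_univ_succAbove _ j]; rfl
  have hdg : dg d x = d (x j) + dg d y := by
    rw [dg, dg, Fin.sum_univ_succAbove _ j]; rfl
  change res (tp_dvd f x j) M (phiHom (tp_mem f d hf y) (dg_pos d hd y) (mem_cov f y) n (s y)) = _
  rw [hz, res_lmk _ (f (x j)) htp]
  refine Eq.symm (phiHom_eq _ _ _ ⟨e, e * d (x j) + i, f (x j) ^ e • m,
    SetLike.GradedSMul.smul_mem (pow_mem_deg (hf (x j)) e) hm, ?_, fun p hp hpx => ?_, rfl⟩)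
  · rw [hdg]; push_cast; rw [hi]; ring
  · have hpy : tp f y ∉ p.asHomogeneousIdeal := fun h => hpx (by
      rw [htp]; exact Ideal.mul_mem_left _ _ h)
    refine (hv p ((mem_cov f y p).mpr hpy) hpy).trans
      (GrModLib.mk_eq_mk_iff.mpr ⟨1, GrMod.one_nin p, ?_⟩)
    rw [one_smul, sub_eq_zero, ← mul_smul]
    congr 1
    rw [htp, mul_pow, mul_comm]

end Cochains

section Assembly

variable {ι : Type u} [Finite ι] (f : ι → A) (d : ι → ℕ) (hf : ∀ i, f i ∈ 𝒜 (d i))
  (hd : ∀ i, 0 < d i)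

variable (𝒜 ℳ) in
def dZ (q : ℕ) (n : ℤ) : Cn 𝒜 ℳ f n q →ₗ[ULift.{u} ℤ] Cn 𝒜 ℳ f n (q + 1) where
  toFun := CohAff.cd (GrTilde.tilde 𝒜 ℳ n).presheaf (cov 𝒜 f) q
  map_add' a b := map_add _ a b
  map_smul' c a := map_zsmul (CohAff.cd (GrTilde.tilde 𝒜 ℳ n).presheaf (cov 𝒜 f) q) c.down a

include hf hd in
theorem nonempty_HHon_homAt (U : (Proj 𝒜).Opens) (hU : U = ⨆ i, cov 𝒜 f i) (n : ℤ) (q : ℕ) :
    Nonempty (Coh.HHon (Proj 𝒜) (GrTilde.tilde 𝒜 ℳ n) U (q + 1) ≃+
      HomAt (dZ 𝒜 ℳ f q n) (dZ 𝒜 ℳ f (q + 1) n)) := by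
  let F := GrTilde.tilde 𝒜 ℳ n
  have : F.IsQuasicoherent := isQuasicoherent_tilde n
  have hV : ∀ i, cov 𝒜 f i ≤ U := fun i => hU ▸ le_iSup (cov 𝒜 f) i
  have hcov : ⨆ i, pullCov U (cov 𝒜 f) i = ⊤ := by
    refine top_le_iff.mp fun p _ => ?_
    obtain ⟨i, hi⟩ := Opens.mem_iSup.mp (hU.le p.2)
    exact Opens.mem_iSup.mpr ⟨i, hi⟩
  have hmem : ∀ {k : ℕ} (x : Fin (k + 1) → ι),
      (CohAff.affCov (U : Scheme.{u})).mem (inter (pullCov U (cov 𝒜 f)) x) := by
    intro k x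
    refine (U.ι.isAffineOpen_iff_of_isOpenImmersion).mp ?_
    rw [image_inter U (cov 𝒜 f) hV x, show inter (cov 𝒜 f) x = Proj.basicOpen 𝒜 (tp f x) from
      Opens.ext (Set.ext fun p => mem_cov f x p)]
    exact Proj.isAffineOpen_basicOpen 𝒜 _ (tp_mem f d hf x) (dg_pos d hd x)
  obtain ⟨e₁⟩ := CohAff.nonempty_cechEquiv hcov (CohAff.good_affCov (F.restrict U.ι)) hmem (q + 1)
  obtain ⟨e₂⟩ := nonempty_homology_equiv (Coh.toAb (F.restrict U.ι)).obj (pullCov U (cov 𝒜 f)) q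
    (dZ 𝒜 ℳ f q n) (dZ 𝒜 ℳ f (q + 1) n)
    (pullCochain F U _ hV q) (pullCochain F U _ hV (q + 1)) (pullCochain F U _ hV (q + 2))
    (fun s => pullCochain_cd F U _ hV q s) (fun s => pullCochain_cd F U _ hV (q + 1) s)
  exact ⟨e₁.symm.trans e₂⟩

include hf hd in
theorem nonempty_sum_equiv (q : ℕ) :
    Nonempty ((⨁ n : ℤ, HomAt (dZ 𝒜 ℳ f q n) (dZ 𝒜 ℳ f (q + 1) n)) ≃+ H1 f M q) := by
  classical
  let inc : ∀ n : ℤ, LinearMap.ker (dZ 𝒜 ℳ f (q + 1) n) →+ Cn 𝒜 ℳ f n (q + 1) := fun n =>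
    (LinearMap.ker (dZ 𝒜 ℳ f (q + 1) n)).subtype.toAddMonoidHom
  let incl := DirectSum.map inc
  let tgt := (J (ℳ := ℳ) f d hf hd (q + 1)).comp incl
  have hmemk : ∀ z, tgt z ∈ LinearMap.ker (cdM f M (q + 1)) := by
    intro z
    induction z using DirectSum.induction_on with
    | zero => simp only [map_zero, Submodule.zero_mem]
    | of n s =>
      simp only [tgt, incl, AddMonoidHom.comp_apply, DirectSum.map_of, J, DirectSum.toAddMonoid_of,
        LinearMap.mem_ker, Phi_cd]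
      exact (congrArg (Phi f d hf hd (q + 1 + 1) n) s.2).trans (map_zero _)
    | add a b ha hb => rw [map_add]; exact add_mem ha hb
  let Ψ : (⨁ n : ℤ, LinearMap.ker (dZ 𝒜 ℳ f (q + 1) n)) →+ H1 f M q :=
    (Submodule.mkQ _).toAddMonoidHom.comp
      (AddMonoidHom.mk' (fun z => (⟨tgt z, hmemk z⟩ : LinearMap.ker (cdM f M (q + 1))))
        fun a b => Subtype.ext (map_add tgt a b))
  let Pr : (⨁ n : ℤ, LinearMap.ker (dZ 𝒜 ℳ f (q + 1) n)) →+
      ⨁ n : ℤ, HomAt (dZ 𝒜 ℳ f q n) (dZ 𝒜 ℳ f (q + 1) n) :=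
    DirectSum.map fun n => (Submodule.mkQ _).toAddMonoidHom
  have hPr : Function.Surjective Pr :=
    (DirectSum.map_surjective _).mpr fun n => Submodule.mkQ_surjective _
  have hcd : ∀ (k : ℕ) (w : ⨁ n : ℤ, Cn 𝒜 ℳ f n k), cdM f M k (J f d hf hd k w) =
      J f d hf hd (k + 1) (DirectSum.map (fun n => (dZ 𝒜 ℳ f k n).toAddMonoidHom) w) := by
    intro k w
    induction w using DirectSum.induction_on with
    | zero => simp only [map_zero]
    | of n s => simp only [J, DirectSum.map_of, DirectSum.toAddMonoid_of]; exact Phi_cd f d hf hd k n s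
    | add a b ha hb => simp only [map_add, ha, hb]
  have hΨ : Function.Surjective Ψ := by
    intro y
    obtain ⟨⟨s, hs⟩, rfl⟩ := Submodule.mkQ_surjective _ y
    obtain ⟨t, rfl⟩ := (J_bijective (ℳ := ℳ) f d hf hd (q + 1)).2 s
    have ht := (injective_iff_map_eq_zero _).mp (J_bijective (ℳ := ℳ) f d hf hd (q + 1 + 1)).1 _
      ((hcd (q + 1) t).symm.trans hs)
    have hk : ∀ n, t n ∈ LinearMap.ker (dZ 𝒜 ℳ f (q + 1) n) := fun n => by
      have h3 := congrArg (fun w : ⨁ n : ℤ, Cn 𝒜 ℳ f n (q + 1 + 1) => w n) ht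
      simpa [DirectSum.map_apply] using h3
    refine ⟨∑ n ∈ t.support, DirectSum.of _ n ⟨t n, hk n⟩, congrArg _ (Subtype.ext ?_)⟩
    change tgt _ = J (ℳ := ℳ) f d hf hd (q + 1) t
    conv_rhs => rw [← DirectSum.sum_support_of t]
    simp only [tgt, incl, AddMonoidHom.comp_apply, map_sum, DirectSum.map_of]
    rfl
  have hker : Pr.ker = Ψ.ker := by
    ext z
    have hz : Ψ z = 0 ↔ ∃ y, cdM f M q y = tgt z :=
      (Submodule.Quotient.mk_eq_zero _).trans Iff.rfl
    rw [AddMonoidHom.mem_ker, AddMonoidHom.mem_ker, hz]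
    constructor
    · intro h
      have hn : ∀ n, ∃ w, dZ 𝒜 ℳ f q n w = (z n).1 := fun n => by
        have h3 := congrArg (fun w : ⨁ n : ℤ, HomAt (dZ 𝒜 ℳ f q n) (dZ 𝒜 ℳ f (q + 1) n) => w n) h
        simp only [Pr, DirectSum.map_apply] at h3
        exact (Submodule.Quotient.mk_eq_zero _).mp h3
      choose w hw using hn
      refine ⟨∑ n ∈ z.support, Phi f d hf hd q n (w n), ?_⟩
      rw [map_sum]
      conv_rhs => rw [← DirectSum.sum_support_of z]
      simp only [tgt, incl, AddMonoidHom.comp_apply, map_sum, DirectSum.map_of, J,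
        DirectSum.toAddMonoid_of, Phi_cd]
      exact Finset.sum_congr rfl fun n _ => congrArg (Phi f d hf hd (q + 1) n) (hw n)
    · rintro ⟨y, hy⟩
      obtain ⟨w, rfl⟩ := (J_bijective (ℳ := ℳ) f d hf hd q).2 y
      have h4 := (J_bijective (ℳ := ℳ) f d hf hd (q + 1)).1 ((hcd q w).symm.trans hy)
      refine DFunLike.ext _ _ fun n => ?_
      have h5 := congrArg (fun v : ⨁ n : ℤ, Cn 𝒜 ℳ f n (q + 1) => v n) h4
      simp only [incl, DirectSum.map_apply] at h5
      simp only [Pr, DirectSum.map_apply]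
      exact (Submodule.Quotient.mk_eq_zero _).mpr ⟨w n, h5⟩
  exact ⟨((QuotientAddGroup.quotientKerEquivOfSurjective Pr hPr).symm.trans
    (QuotientAddGroup.quotientAddEquivOfEq hker)).trans
      (QuotientAddGroup.quotientKerEquivOfSurjective Ψ hΨ)⟩

end Assembly

end

end Helpers


open AlgebraicGeometry CategoryTheory in
/-- For a graded module concentrated in nonnegative degrees. Let S be a nonnegatively graded ring, f_1,
…, f_r homogeneous elements of S of positive degrees, M a graded S-module, X = Proj S and U ⊆ X the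
union of the opens D_+(f_i). Then for every p ≥ 1 the direct sum over all integers n of the groups
H^p(U, M(n)~|_U) is isomorphic, as an additive group, to the direct-limit Koszul cohomology
H^(p+1)((f), M), the colimit over m of the Koszul cohomologies H^(p+1)(f^m, M) of M as an S-module.
(The source's isomorphism is canonical and of degree 0 for the gradings; only the existence of an
additive isomorphism is asserted.) -/
theorem result {R A : Type u} [CommRing R] [CommRing A]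
    [Algebra R A] (𝒜 : ℕ → Submodule R A) [GradedAlgebra 𝒜] (fs : List A)
    (hfs : ∀ a ∈ fs, ∃ d : ℕ, 0 < d ∧ a ∈ 𝒜 d) {M : Type u} [AddCommGroup M] [Module R M] [Module A M]
    [IsScalarTower R A M] (ℳ : ℕ → Submodule R M) [DirectSum.Decomposition ℳ] [SetLike.GradedSMul 𝒜 ℳ]
    (p : ℕ) (hp : 1 ≤ p) :
    Nonempty (DirectSum ℤ (fun n : ℤ => Coh.HHon (Proj 𝒜) (GrTilde.tilde 𝒜 ℳ n)
        (⨆ i : Fin fs.length, Proj.basicOpen 𝒜 (fs.get i)) p) ≃+
      CohIII.koszulHLim fs (ModuleCat.of A M) (p + 1)) := by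
  classical
  obtain ⟨q, rfl⟩ := Nat.exists_eq_succ_of_ne_zero (Nat.one_le_iff_ne_zero.mp hp)
  let f : ULift.{u} (Fin fs.length) → A := fun i => fs.get i.down
  choose d hd hf using fun i : ULift.{u} (Fin fs.length) => hfs (f i) (fs.get_mem _)
  have hmem : ∀ a, a ∈ fs ↔ ∃ i, f i = a := fun a =>
    List.mem_iff_get.trans ⟨fun ⟨i, h⟩ => ⟨⟨i⟩, h⟩, fun ⟨i, h⟩ => ⟨i.down, h⟩⟩
  have hU : (⨆ i : Fin fs.length, Proj.basicOpen 𝒜 (fs.get i)) = ⨆ i, cov 𝒜 f i :=
    (Equiv.ulift.iSup_comp (g := fun i => Proj.basicOpen 𝒜 (fs.get i))).symm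
  obtain ⟨e⟩ := nonempty_sum_equiv (ℳ := ℳ) f d hf hd q
  obtain ⟨e'⟩ := KoszulCech.nonempty_H1_equiv f fs hmem q M
  have hdd : ((q + 1 + 1 : ℕ) : ℤ) - fs.length = (q : ℤ) + 2 - fs.length := by push_cast; ring
  let e'' := KoszulCech.hLimEquiv fs (ModuleCat.of A M) (q + 1 + 1)
  rw [hdd] at e''
  exact ⟨(DirectSum.congrAddEquiv fun n => (nonempty_HHon_homAt (ℳ := ℳ) f d hf hd _ hU n q).some).trans
    ((e.trans e'.toAddEquiv).trans e''.symm.toAddEquiv)⟩

end Groth.Agent.S4479
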