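import Groth.Statements.S4481
import Groth.Agent.GrModLib.CechPou

set_option autoImplicit false
universe u
open Coherent

namespace Groth.Agent.S4481

open AlgebraicGeometry CategoryTheory Opposite in
/-- Let X be a separated scheme, f_1, …, f_n global functions on X such that every open X_{f_i} is
quasi-compact, U the union of the X_{f_i}, and suppose there are sections g_1, …, g_n of O_X over U
with Σ g_i · (f_i|_U) = 1. Then for every quasi-coherent O_X-module G and every p > 0 the Čech
cohomology group of G in degree p with respect to the family of opens (X_{f_i}) is zero. (The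
published statement also covers a scheme whose underlying space is Noetherian, not necessarily
separated; this row treats separated X.) -/
theorem result (X : Scheme.{u}) [X.IsSeparated] (n : ℕ)
    (f : Fin n → Γ(X, ⊤)) (hqc : ∀ i, IsCompact (X.basicOpen (f i) : Set X))
    (g : Fin n → Γ(X, ⨆ i, X.basicOpen (f i)))
    (hg : (Finset.univ.sum fun i => g i *
      (X.presheaf.map (homOfLE (le_top : (⨆ i, X.basicOpen (f i)) ≤ ⊤)).op).hom (f i)) = 1)
    (G : X.Modules) [Coh.IsQCoh G] (p : ℕ) (hp : 0 < p) :
    Limits.IsZero (CohB1.cechH (fun i : ULift.{u} (Fin n) => X.basicOpen (f i.down)) G p) := by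
  obtain ⟨q, rfl⟩ := Nat.exists_eq_succ_of_ne_zero hp.ne'
  have : G.IsQuasicoherent := ‹Coh.IsQCoh G›
  let U := ⨆ i, X.basicOpen (f i)
  let f' : ULift.{u} (Fin n) → Γ(X, U) := fun i =>
    (X.presheaf.map (homOfLE (le_top : U ≤ ⊤)).op).hom (f i.down)
  have hb : (fun i : ULift.{u} (Fin n) => X.basicOpen (f i.down)) = Groth.Agent.CohAff.bcov f' := by
    funext i
    change _ = X.basicOpen _
    rw [X.basicOpen_res]
    exact (inf_eq_right.mpr (le_iSup (fun i => X.basicOpen (f i)) i.down)).symm
  rw [hb]
  refine Groth.Agent.GrModLib.isZero_cechH_of_span G f' ?_ (fun m x => ⟨?_, ?_⟩) q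
  · rw [Ideal.eq_top_iff_one, ← hg]
    exact Ideal.sum_mem _ fun i _ => Ideal.mul_mem_left _ _ (Ideal.subset_span ⟨⟨i⟩, rfl⟩)
  · have : QuasiSeparatedSpace X := inferInstance
    have h1 : ∀ (k : ℕ) (y : Fin (k + 1) → ULift.{u} (Fin n)),
        IsCompact (Groth.Agent.CohAff.inter (Groth.Agent.CohAff.bcov f') y : Set X) := by
      intro k
      induction k with
      | zero =>
        intro y
        have e : Groth.Agent.CohAff.inter (Groth.Agent.CohAff.bcov f') y =
            X.basicOpen (f (y 0).down) := by
          rw [← hb]
          exact le_antisymm (Groth.Agent.CohAff.inter_le _ y 0) (Groth.Agent.CohAff.le_inter fun a => by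
            rw [Fin.eq_zero a])
        rw [e]
        exact hqc _
      | succ k ih =>
        intro y
        have e : Groth.Agent.CohAff.inter (Groth.Agent.CohAff.bcov f') y =
            X.basicOpen (f (y 0).down) ⊓
              Groth.Agent.CohAff.inter (Groth.Agent.CohAff.bcov f') (y ∘ Fin.succ) := by
          refine le_antisymm (le_inf ?_ (Groth.Agent.CohAff.inter_comp_le _ y Fin.succ))
            (Groth.Agent.CohAff.le_inter fun a => ?_)
          · rw [← hb]
            exact Groth.Agent.CohAff.inter_le _ y 0
          · induction a using Fin.cases with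
            | zero => rw [← hb]; exact inf_le_left
            | succ a => exact inf_le_right.trans (Groth.Agent.CohAff.inter_le _ (y ∘ Fin.succ) a)
        rw [e]
        exact QuasiSeparatedSpace.inter_isCompact _ _ (X.basicOpen _).2 (hqc _)
          (Groth.Agent.CohAff.inter (Groth.Agent.CohAff.bcov f') _).2 (ih _)
    exact h1 m x
  · exact IsQuasiSeparated.of_quasiSeparatedSpace _

end Groth.Agent.S4481
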