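import Groth.Statements.S4483
import Groth.Agent.PBundle71.Chart
import Groth.Agent.GrModLib.TwistInt
-- import your own Groth.Agent.* helpers here

set_option autoImplicit false
set_option maxHeartbeats 800000
universe u
open Coherent

namespace Groth.Agent.S4483

open CategoryTheory CategoryTheory.Limits AlgebraicGeometry Groth.Agent.ProjTwist Groth.Agent.ProjTwist.Pn

theorem isInvertible_inverse {P : Scheme.{u}} {L O1 : P.Modules} (h : PicF.IsInvertible O1)
    (hL : ClSub.IsInverseOf L O1) : PicF.IsInvertible L := by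
  obtain ⟨a⟩ := hL
  obtain ⟨M, hM, ⟨b⟩⟩ := PicLaw.exists_inverse h
  exact PicCl.isInvertible_of_iso ((oneTens M).symm ≪≫ tensCongr a.symm (Iso.refl M) ≪≫ tensAssoc L O1 M ≪≫
    tensCongr (Iso.refl L) b ≪≫ tensOne L) hM

theorem tensorPow_twist_one (n : ℕ) (R : Type u) [CommRing R] (m : ℕ) :
    Nonempty (CohB1.tensorPow (Twist.twistProjSpace n R 1) m ≅ Twist.twistProjSpace n R (m : ℤ)) := by
  induction m with
  | zero => exact ⟨ProjTwist.twistZeroIso _⟩
  | succ m ih =>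
    obtain ⟨e⟩ := ih
    exact ⟨tensCongr e (Iso.refl _) ≪≫ (nonempty_twistProjSpace_tensor n R (m : ℤ) 1).some⟩

theorem tensorPow_twist_neg_one (n : ℕ) (R : Type u) [CommRing R] (m : ℕ) :
    Nonempty (CohB1.tensorPow (Twist.twistProjSpace n R (-1)) m ≅ Twist.twistProjSpace n R (-(m : ℤ))) := by
  induction m with
  | zero => exact ⟨ProjTwist.twistZeroIso _⟩
  | succ m ih =>
    obtain ⟨e⟩ := ih
    exact ⟨tensCongr e (Iso.refl _) ≪≫ (nonempty_twistProjSpace_tensor n R (-(m : ℤ)) (-1)).some ≪≫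
      eqToIso (congrArg (Twist.twistProjSpace n R) (by push_cast; ring))⟩

theorem subsingleton_twist_of (n i : ℕ) (R : Type u) [CommRing R] (d : ℤ)
    (h : ¬ ((i = 0 ∧ 0 ≤ d) ∨ (i = n ∧ d ≤ -((n : ℤ) + 1)))) :
    Subsingleton (Coh.HH (CohB1.ProjSpace n R) (Twist.twistProjSpace n R d) i) := by
  rcases Nat.eq_zero_or_pos i with rfl | hi
  · by_cases hd : 0 ≤ d
    · exact absurd (Or.inl ⟨rfl, hd⟩) h
    · rcases Nat.eq_zero_or_pos n with rfl | hn
      · exact absurd (Or.inr ⟨rfl, by push_cast; omega⟩) h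
      · exact subsingleton_H0 hn (by omega)
  · obtain ⟨q, rfl⟩ := Nat.exists_eq_succ_of_ne_zero hi.ne'
    refine subsingleton_twist d q ?_
    by_cases hq : q + 1 = n
    · exact Or.inr (lt_of_not_ge fun hd ↦ h (Or.inr ⟨hq, hd⟩))
    · exact Or.inl hq

theorem exists_frame {X : Scheme.{u}} {M : X.Modules} {c : ℕ}
    (h : FlatMod.IsFinLocFreeOfRank c M) (x : X) :
    ∃ (U : X.Opens) (e : Fin c → Γ(M, U)), x ∈ U ∧ LFFrame.IsFrame M U e := by
  classical
  obtain ⟨U, hx, ⟨φ⟩⟩ := h x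
  let p : Fin c → (FlatMod.freeMod (U : Scheme.{u}) c ⟶ Coh.structureModule (U : Scheme.{u})) :=
    fun j => Sigma.desc fun i => if i = j then 𝟙 _ else 0
  obtain ⟨e, he⟩ := LFFrame.exists_isFrame_of_split (M := M)
    (fun i => Sigma.ι (fun _ : Fin c => Coh.structureModule (U : Scheme.{u})) i ≫ φ.inv)
    (fun j => φ.hom ≫ p j) (fun i j => by simp [p]) (by
      rw [← cancel_epi φ.inv, ← cancel_mono φ.hom]
      apply Sigma.hom_ext
      intro j
      simp [p, Preadditive.comp_sum, Preadditive.sum_comp, Finset.sum_ite_eq', ite_comp])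
  exact ⟨U, e, hx, he⟩

/-- `R^i π_* M = 0` when `M` is `O(d)` on the charts. -/
theorem isZero_of_local {Y P : Scheme.{u}} (π : P ⟶ Y) (r : ℕ) {E : Y.Modules}
    (hE : FlatMod.IsFinLocFreeOfRank (r + 1) E) {O1 : P.Modules}
    (q : (Scheme.Modules.pullback π).obj E ⟶ O1) (hP : KRR.IsProjBundle π E O1 q)
    (M : P.Modules) (hM : PicF.IsInvertible M) (d : ℤ) (i : ℕ)
    (h : ¬ ((i = 0 ∧ 0 ≤ d) ∨ (i = r ∧ d ≤ -((r : ℤ) + 1))))
    (hMd : ∀ (R : Type u) [CommRing R] (c : CohB1.ProjSpace r R ⟶ P),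
      Nonempty ((Scheme.Modules.pullback c).obj O1 ≅ Twist.twistProjSpace r R 1) →
        Nonempty ((Scheme.Modules.pullback c).obj M ≅ Twist.twistProjSpace r R d)) :
    IsZero ((Coh.RpushAb π i).obj (Coh.toAb M)) := by
  haveI : M.IsQuasicoherent := ProjTwist.isQCoh_of_isInvertible hM
  refine (CohTop.Push.isZero_Rpush_iff π.base (Coh.toAb M) i).mpr fun U s y hy ↦ ?_
  obtain ⟨U₁, e₁, hy₁, he₁⟩ := exists_frame hE y
  obtain ⟨V, hV, hyV, hVU⟩ := exists_isAffineOpen_mem_and_subset (U := U ⊓ U₁) (x := y) ⟨hy, hy₁⟩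
  have hVU₁ : V ≤ U₁ := fun z hz => (hVU hz).2
  obtain ⟨c, hc, hr, e⟩ := PBundle71.exists_chart π q hP hV
    (Desc44.ProjBundle.isFrame_restrict he₁ hVU₁)
  haveI := hc
  obtain ⟨eM⟩ := hMd _ c e
  let eR : M.restrict c ≅ Twist.twistProjSpace r Γ(Y, V) d :=
    (Scheme.Modules.restrictFunctorIsoPullback c).app M ≪≫ eM
  haveI := subsingleton_twist_of r i Γ(Y, V) d h
  have hs : Subsingleton (Coh.HH (CohB1.ProjSpace r Γ(Y, V)) (M.restrict c) i) :=
    (CohLin.hIso eR i).injective.subsingleton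
  have hU := GrModLib.subsingleton_HU_of_chart c M i hs
  rw [hr] at hU
  exact ⟨V, fun z hz => (hVU hz).1, hyV, @Subsingleton.elim _ hU _ _⟩


open AlgebraicGeometry CategoryTheory in
/-- Let Y be a scheme, E a locally free O_Y-module of rank r+1, and (π : P → Y, O(1), q : π^*E → O(1)) a
projective bundle P(E) of E, characterised by its universal property; let L be an O_P-module with L
⊗ O(1) ≅ O_P, playing the role of O(-1). Then the higher direct images R^i π_* O(n) vanish except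
possibly for i = 0, n ≥ 0 and for i = r, n ≤ -(r+1): precisely, R^i π_*(O(1)^{⊗ n}) = 0 for all n ≥
0 and i ≠ 0, and R^i π_*(L^{⊗ m}) = 0 for all m ≥ 1 and all i unless i = r and m ≥ r + 1 (higher
direct images of the underlying abelian sheaves). -/
theorem result {Y P : Scheme.{u}} (π : P ⟶ Y) (r : ℕ)
    (E : Y.Modules) (hE : FlatMod.IsFinLocFreeOfRank (r + 1) E) (O1 : P.Modules)
    (q : (Scheme.Modules.pullback π).obj E ⟶ O1) (hP : KRR.IsProjBundle π E O1 q)
    (L : P.Modules) (hL : ClSub.IsInverseOf L O1) :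
    (∀ (n i : ℕ), i ≠ 0 → Limits.IsZero ((Coh.RpushAb π i).obj (Coh.toAb (CohB1.tensorPow O1 n)))) ∧
    (∀ (m i : ℕ), 1 ≤ m → ¬ (i = r ∧ r + 1 ≤ m) →
      Limits.IsZero ((Coh.RpushAb π i).obj (Coh.toAb (CohB1.tensorPow L m)))) := by
  have hO : PicF.IsInvertible O1 := Desc44.ProjBundle.isInvertible_of_rank_one hP.invertible
  have hLi := isInvertible_inverse hO hL
  refine ⟨fun n i hi => ?_, fun m i hm hi => ?_⟩
  · refine isZero_of_local π r hE q hP _ (AmpleLib.isInvertible_tensorPow hO n) (n : ℤ) i (by omega)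
      fun R _ c ⟨e⟩ => ?_
    obtain ⟨a⟩ := AmpleLib.exists_iso_pullback_tensorPow c hO n
    obtain ⟨b⟩ := tensorPow_twist_one r R n
    exact ⟨a ≪≫ AmpleLib.tensorPowIso e n ≪≫ b⟩
  · refine isZero_of_local π r hE q hP _ (AmpleLib.isInvertible_tensorPow hLi m) (-(m : ℤ)) i (by omega)
      fun R _ c ⟨e⟩ => ?_
    obtain ⟨l⟩ := hL
    obtain ⟨u⟩ : Nonempty ((Scheme.Modules.pullback c).obj (Coh.structureModule _) ≅ Coh.structureModule _) :=
      AmpleLib.exists_iso_pullback_tensorPow c hO 0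
    obtain ⟨a⟩ := AmpleLib.exists_iso_pullback_tensorPow c hLi m
    obtain ⟨b⟩ := tensorPow_twist_neg_one r R m
    let L' := (Scheme.Modules.pullback c).obj L
    let l' : CohB1.tensorMod L' (Twist.twistProjSpace r R 1) ≅ Coh.structureModule _ :=
      tensCongr (Iso.refl L') e.symm ≪≫ (KFlat.PullTensor.pullTensorIso c L O1).symm ≪≫
        (Scheme.Modules.pullback c).mapIso l ≪≫ u
    let eL : L' ≅ Twist.twistProjSpace r R (-1) :=
      (tensOne L').symm ≪≫ tensCongr (Iso.refl L') (ProjTwist.twistZeroIso (CohB1.polyGrading r R) ≪≫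
        (eqToIso (congrArg (Twist.twistProjSpace r R) (show (0 : ℤ) = 1 + -1 by norm_num))) ≪≫
        (nonempty_twistProjSpace_tensor r R 1 (-1)).some.symm) ≪≫
        (tensAssoc L' _ _).symm ≪≫ tensCongr l' (Iso.refl _) ≪≫ oneTens _
    exact ⟨a ≪≫ AmpleLib.tensorPowIso eL m ≪≫ b⟩

end Groth.Agent.S4483
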