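import Groth.Statements.S4486
import Groth.Agent.FlatCx.More

set_option autoImplicit false
universe u
open FlatCx

namespace Groth.Agent.S4486

open Groth.Agent.FlatCx

open CategoryTheory CategoryTheory.Limits in
/-- For the homological functor T_p(M) = H_p(P ⊗_A M) of a chain complex P of flat modules over a
commutative ring A, which commutes with filtered colimits. Let A be a domain and suppose P_i = 0 for
i < i₀ and that every T_n(A) is a finitely presented A-module. Then for every integer N there is a
nonzero f ∈ A such that, for every p ≤ N, the functor of A_f-modules N ↦ H_p(P_f ⊗_{A_f} N), where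
P_f = P ⊗_A A_f, takes injections to injections and surjections to surjections. -/
theorem result {A : Type u} [CommRing A] [IsDomain A]
    (P : ChainComplex (ModuleCat.{u} A) ℤ) (hP : ∀ i, Module.Flat A (P.X i)) (i₀ : ℤ)
    (hb : ∀ i < i₀, IsZero (P.X i))
    (hfp : ∀ n : ℤ, Module.FinitePresentation A (CohIII.T P n (ModuleCat.of A A))) (N : ℤ) :
    ∃ f : A, f ≠ 0 ∧ ∀ p ≤ N,
      (CohIII.TFun (CohIII.bcCx (algebraMap A (Localization.Away f)) P) p).PreservesMonomorphisms ∧
        (CohIII.TFun (CohIII.bcCx (algebraMap A (Localization.Away f)) P) p).PreservesEpimorphisms := by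
  have h0 : ∀ q < i₀, Subsingleton (P.opcycles q) := fun q hq =>
    have := ModuleCat.subsingleton_of_isZero (hb q hq)
    (pOpcycles_surjective P q).subsingleton
  have hfp' : ∀ n : ℤ, Module.FinitePresentation A (P.homology n) := fun n =>
    have := hfp n
    Module.FinitePresentation.of_equiv (TAEquiv P n)
  have hopen : IsOpen (⋂ n ∈ (Set.Icc i₀ N), Module.freeLocus A (P.homology n)) :=
    (Set.finite_Icc i₀ N).isOpen_biInter fun n _ => by have := hfp' n; exact Module.isOpen_freeLocus
  have hgen : (⟨⊥, Ideal.isPrime_bot⟩ : PrimeSpectrum A) ∈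
      ⋂ n ∈ (Set.Icc i₀ N), Module.freeLocus A (P.homology n) := by
    have : IsLocalization.AtPrime (FractionRing A) (⊥ : Ideal A) := by
      show IsLocalization (Ideal.primeCompl ⊥) (FractionRing A)
      rw [Ideal.primeCompl_bot]; infer_instance
    simp only [Set.mem_iInter]
    intro n _
    rw [Module.mem_freeLocus_iff_tensor _ (FractionRing A)]
    exact Module.Free.of_divisionRing (K := FractionRing A) (V := _)
  obtain ⟨_, ⟨f, rfl⟩, hf, hfsub⟩ :=
    PrimeSpectrum.isTopologicalBasis_basic_opens.exists_subset_of_mem_open hgen hopen
  refine ⟨f, fun hf0 => hf (by simp [hf0]), ?_⟩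
  let B := Localization.Away f
  have : Module.Flat A B := IsLocalization.flat B (Submonoid.powers f)
  let P' := CohIII.bcCx (algebraMap A B) P
  have hX : ∀ i, Module.Flat B (P'.X i) := fun i => flat_bcCx_X P i (hP i)
  have hH : ∀ n, n ≤ N → Module.Flat B (P'.homology n) := fun n hn => by
    rw [Module.Flat.equiv_iff (bcHomologyFlatEquiv P n B)]
    by_cases hni : n < i₀
    · have := h0 n hni
      have : Subsingleton (P.homology n) := (hι_injective P n).subsingleton
      infer_instance
    · have := hfp' n
      have hsub : (PrimeSpectrum.basicOpen f : Set (PrimeSpectrum A)) ⊆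
          Module.freeLocus A (P.homology n) :=
        hfsub.trans (Set.biInter_subset_of_mem ⟨not_lt.mp hni, hn⟩)
      have hpr := Module.basicOpen_subset_freeLocus_iff.mp hsub
      have : Module.Flat B (LocalizedModule (Submonoid.powers f) (P.homology n)) :=
        @Module.Flat.of_projective _ _ _ _ _ hpr
      exact Module.Flat.of_linearEquiv
        (LocalizedModule.equivTensorProduct (Submonoid.powers f) (P.homology n)).symm
  have hall : ∀ q ≤ N, Module.Flat B (P'.opcycles q) := by
    intro q
    induction q using Int.inductionOn' (b := i₀ - 1) with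
    | zero =>
      intro _
      have := h0 (i₀ - 1) (by omega)
      exact (flat_bc_opcycles_iff P _).mpr inferInstance
    | succ k hk ih =>
      intro hq
      have hpq : k + 1 - 1 + 1 = k + 1 := by omega
      have : Module.Flat B (P'.opcycles (k + 1 - 1)) := by rw [add_sub_cancel_right]; exact ih (by omega)
      have := hX (k + 1 - 1)
      exact (flat_opcycles_iff_flat_homology P' (k + 1) _ hpq).mpr (hH _ hq)
    | pred k hk _ =>
      intro _
      have := h0 (k - 1) (by omega)
      exact (flat_bc_opcycles_iff P _).mpr inferInstance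
  intro q hq
  have := hX (q - 1)
  exact ⟨(mono_iff P' q (q - 1) (by omega)).mpr (hall q hq),
    (epi_iff P' q (q - 1) (by omega)).mpr (hall (q - 1) (by omega))⟩

end Groth.Agent.S4486
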