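import Groth.Statements.S4488
import Groth.Agent.FlatCx.Semicont

set_option autoImplicit false
universe u
open FlatCx

namespace Groth.Agent.S4488

open Groth.Agent.FlatCx

open CategoryTheory CategoryTheory.Limits in
/-- For the homological functor T_q(M) = H_q(P ⊗_A M) of a chain complex P of flat modules over a
commutative local ring A with residue field k. Suppose P_i = 0 for i < i₀ and that every T_n(A) is a
finitely presented A-module, and let p be an integer. If T_q takes injections to injections and
surjections to surjections for every q ≤ p, then dim_{k(x)} T_q(k(x)) = dim_k T_q(k) for every point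
x of Spec A and every q ≤ p. Conversely, if A is reduced and this equality holds at the generic
point of every irreducible component of Spec A (every minimal prime) for every q ≤ p, then T_q takes
injections to injections and surjections to surjections for every q ≤ p. No Noetherian hypothesis on
A. -/
theorem result {A : Type u} [CommRing A] [IsLocalRing A]
    (P : ChainComplex (ModuleCat.{u} A) ℤ) (hP : ∀ i, Module.Flat A (P.X i)) (i₀ : ℤ)
    (hb : ∀ i < i₀, IsZero (P.X i))
    (hfp : ∀ n : ℤ, Module.FinitePresentation A (CohIII.T P n (ModuleCat.of A A))) (p : ℤ) :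
    ((∀ q ≤ p, (CohIII.TFun P q).PreservesMonomorphisms ∧ (CohIII.TFun P q).PreservesEpimorphisms) →
        ∀ (x : PrimeSpectrum A), ∀ q ≤ p, CohIII.dRank P q x = CohIII.dRank P q (IsLocalRing.closedPoint A)) ∧
      (IsReduced A →
        (∀ x : PrimeSpectrum A, x.asIdeal ∈ minimalPrimes A →
          ∀ q ≤ p, CohIII.dRank P q x = CohIII.dRank P q (IsLocalRing.closedPoint A)) →
        ∀ q ≤ p, (CohIII.TFun P q).PreservesMonomorphisms ∧ (CohIII.TFun P q).PreservesEpimorphisms) := by
  have h0 : ∀ q < i₀, Module.Flat A (P.opcycles q) := fun q hq => by
    have := ModuleCat.subsingleton_of_isZero (hb q hq)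
    have : Subsingleton (P.opcycles q) := (pOpcycles_surjective P q).subsingleton
    infer_instance
  have hfp' : ∀ n : ℤ, Module.FinitePresentation A (P.homology n) := fun n =>
    have := hfp n
    Module.FinitePresentation.of_equiv (TAEquiv P n)
  constructor
  · intro h x q hq
    have hpq : q - 1 + 1 = q := by omega
    have := hP (q - 1)
    have := hfp' q
    have := (epi_iff P q _ hpq).mp (h q hq).2
    have := (flat_opcycles_iff_flat_homology P q _ hpq).mp ((mono_iff P q _ hpq).mp (h q hq).1)
    rw [dRank_eq_fib_homology P q _ hpq, fib_eq_rankAtStalk]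
    exact Module.rankAtStalk_eq_of_le_of_finite_of_flat _ (IsLocalRing.le_maximalIdeal x.2.ne_top)
  · intro _ h
    have hall : ∀ q ≤ p, Module.Flat A (P.opcycles q) := by
      intro q
      induction q using Int.inductionOn' (b := i₀ - 1) with
      | zero => exact fun _ => h0 _ (by omega)
      | succ k hk ih =>
        intro hq
        have hpq : k + 1 - 1 + 1 = k + 1 := by omega
        have : Module.Flat A (P.opcycles (k + 1 - 1)) := by rw [add_sub_cancel_right]; exact ih (by omega)
        have := hP (k + 1 - 1)
        have := hfp' (k + 1)
        refine (flat_opcycles_iff_flat_homology P (k + 1) _ hpq).mpr ?_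
        have : Module.Free A (P.homology (k + 1)) := free_of_fib_eq_minimalPrimes _ fun y hy => by
          rw [← congrFun (dRank_eq_fib_homology P (k + 1) _ hpq)]
          exact (h y hy (k + 1) hq).trans (congrFun (dRank_eq_fib_homology P (k + 1) _ hpq) _ ▸ rfl)
        infer_instance
      | pred k hk _ => exact fun _ => h0 _ (by omega)
    intro q hq
    have := hP (q - 1)
    exact ⟨(mono_iff P q (q - 1) (by omega)).mpr (hall q hq),
      (epi_iff P q (q - 1) (by omega)).mpr (hall (q - 1) (by omega))⟩

end Groth.Agent.S4488
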