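import Groth.Statements.S4491
import Groth.Agent.FlatCx.Funct

set_option autoImplicit false
universe u
open FlatCx

namespace Groth.Agent.S4491

open Groth.Agent.FlatCx

open CategoryTheory CategoryTheory.Limits in
/-- For the homological functor T_i(M) = H_i(P ⊗_A M) of a chain complex P of flat modules over a
commutative ring A. Let q + 1 = p and suppose T_p takes surjections to surjections. If
multiplication by f ∈ A is injective on an A-module M, then multiplication by f is injective on
T_q(M). In particular, when A is a domain, T_q(A) is torsion-free. -/
theorem result {A : Type u} [CommRing A]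
    (P : ChainComplex (ModuleCat.{u} A) ℤ) (hP : ∀ i, Module.Flat A (P.X i)) (p q : ℤ) (hpq : q + 1 = p)
    (hex : (CohIII.TFun P p).PreservesEpimorphisms) :
    (∀ (M : ModuleCat.{u} A) (f : A), Function.Injective (fun x : M => f • x) →
        Function.Injective (fun y : CohIII.T P q M => f • y)) ∧
      (IsDomain A → NoZeroSMulDivisors A (CohIII.T P q (ModuleCat.of A A))) := by
  have := hP q
  have hflat : Module.Flat A (P.opcycles q) := (epi_iff P p q hpq).mp hex
  have h1 : ∀ (M : ModuleCat.{u} A) (f : A), Function.Injective (fun x : M => f • x) →
      Function.Injective (fun y : CohIII.T P q M => f • y) := by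
    intro M f hf y z hyz
    apply inc_injective P q M
    apply Module.Flat.lTensor_preserves_injective_linearMap (M := P.opcycles q)
      (f • LinearMap.id : M →ₗ[A] M) hf
    simp only [LinearMap.lTensor_smul, LinearMap.lTensor_id, LinearMap.smul_apply, LinearMap.id_apply]
    rw [← map_smul, ← map_smul]
    exact congrArg (inc P q M) hyz
  refine ⟨h1, fun hd => ?_⟩
  constructor
  intro f x hfx
  by_contra! hne
  have hinj := h1 (ModuleCat.of A A) f fun a b hab => mul_left_cancel₀ hne.1 hab
  exact hne.2 (hinj (hfx.trans (smul_zero f).symm))

end Groth.Agent.S4491
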