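import Groth.Statements.S4496
import Groth.Agent.FlatCx.Funct

set_option autoImplicit false
universe u
open FlatCx

namespace Groth.Agent.S4496

open Groth.Agent.FlatCx

open CategoryTheory CategoryTheory.Limits MonoidalCategory in
/-- For the homological functor T_p(M) = H_p(P ⊗_A M) of a chain complex P of flat modules over a
commutative ring A: T_p takes injections to injections and surjections to surjections if and only if
T_p is isomorphic to the functor M ↦ N ⊗_A M for some flat A-module N (which is then isomorphic to
T_p(A)). -/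
theorem result {A : Type u} [CommRing A]
    (P : ChainComplex (ModuleCat.{u} A) ℤ) (hP : ∀ i, Module.Flat A (P.X i)) (p : ℤ) :
    ((CohIII.TFun P p).PreservesMonomorphisms ∧ (CohIII.TFun P p).PreservesEpimorphisms) ↔
      ∃ N : ModuleCat.{u} A, Module.Flat A N ∧ Nonempty (CohIII.TFun P p ≅ tensorLeft N) := by
  have hpq : p - 1 + 1 = p := by omega
  have := hP (p - 1)
  constructor
  · rintro ⟨h1, h2⟩
    have := (mono_iff P p _ hpq).mp h1
    have := (epi_iff P p _ hpq).mp h2
    exact ⟨_, flat_ker (exact_bdry P p _ hpq) (pOpcycles_surjective P _), ⟨tensorLeftIso P p hP h2⟩⟩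
  · rintro ⟨N, hN, ⟨e⟩⟩
    exact ⟨preservesMono_of_iso_tensorLeft P p e, preservesEpi_of_iso_tensorLeft P p e⟩

end Groth.Agent.S4496
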