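import Groth.Statements.S4498
import Groth.Agent.CBC.Glob
import Groth.Agent.CBC.Noeth
import Groth.Agent.S0002

set_option autoImplicit false
universe u
attribute [local instance] HasDerivedCategory.standard
open Coherent

namespace Groth.Agent.S4498

open CategoryTheory Opposite in
theorem exists_kernel {A : Type u} [CommRing A] {T T' : ModuleCat.{u} A ⥤ ModuleCat.{u} A}
    {Q Q' : ModuleCat.{u} A} (e : T ≅ (linearCoyoneda A (ModuleCat.{u} A)).obj (op Q))
    (e' : T' ≅ (linearCoyoneda A (ModuleCat.{u} A)).obj (op Q')) (hQ : Module.Finite A Q) (η : T ⟶ T') :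
    ∃ (R : ModuleCat.{u} A) (ι : (linearCoyoneda A (ModuleCat.{u} A)).obj (op R) ⟶ T),
      Module.Finite A R ∧ (∀ M : ModuleCat.{u} A, Function.Injective (ι.app M).hom) ∧
        ∀ (M : ModuleCat.{u} A) (x : T.obj M),
          (η.app M).hom x = 0 ↔ ∃ y, (ι.app M).hom y = x := by
  let θ : (linearCoyoneda A (ModuleCat.{u} A)).obj (op Q) ⟶
      (linearCoyoneda A (ModuleCat.{u} A)).obj (op Q') := e.inv ≫ η ≫ e'.hom
  let g : Q' ⟶ Q := (θ.app Q).hom (𝟙 Q)
  let π : Q ⟶ ModuleCat.of A (Q ⧸ LinearMap.range g.hom) :=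
    ModuleCat.ofHom (LinearMap.range g.hom).mkQ
  haveI : Epi π := (ModuleCat.epi_iff_surjective _).2 (Submodule.mkQ_surjective _)
  have hθ : ∀ (M : ModuleCat.{u} A) (h : Q ⟶ M), (θ.app M).hom h = g ≫ h := fun M h =>
    (congrArg (fun t : Q ⟶ M => (θ.app M).hom t) (Category.id_comp h).symm).trans
      (congr($(θ.naturality h) (𝟙 Q)))
  refine ⟨_, (linearCoyoneda A (ModuleCat.{u} A)).map π.op ≫ e.inv, Module.Finite.quotient A _,
    fun M a b hab => ?_, fun M x => ?_⟩
  · have h1 := congrArg (e.hom.app M).hom hab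
    change (e.inv.app M ≫ e.hom.app M).hom (π ≫ a) = (e.inv.app M ≫ e.hom.app M).hom (π ≫ b) at h1
    rw [e.inv_hom_id_app] at h1
    exact (cancel_epi π).1 h1
  · obtain ⟨h, rfl⟩ : ∃ h, (e.inv.app M).hom h = x :=
      ⟨(e.hom.app M).hom x, congr($(e.hom_inv_id_app M) x)⟩
    have key : (η.app M).hom ((e.inv.app M).hom h) = 0 ↔ g ≫ h = 0 := by
      rw [← hθ M h]
      change _ ↔ (e'.hom.app M).hom ((η.app M).hom ((e.inv.app M).hom h)) = 0
      exact (map_eq_zero_iff (e'.hom.app M).hom ((ConcreteCategory.bijective_of_isIso (e'.hom.app M)).1)).symm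
    rw [key]
    constructor
    · intro hg
      refine ⟨ModuleCat.ofHom ((LinearMap.range g.hom).liftQ h.hom ?_), congrArg (e.inv.app M).hom
        (ModuleCat.hom_ext (Submodule.liftQ_mkQ _ _ _))⟩
      rintro _ ⟨z, rfl⟩
      exact congr($hg z)
    · rintro ⟨y, hy⟩
      have h1 := (ConcreteCategory.bijective_of_isIso (e.inv.app M)).1 hy
      rw [← h1]
      refine ModuleCat.hom_ext (LinearMap.ext fun z => ?_)
      change y.hom (Submodule.Quotient.mk (g.hom z)) = 0
      rw [(Submodule.Quotient.mk_eq_zero _).2 (LinearMap.mem_range_self _ z), map_zero]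


open AlgebraicGeometry CategoryTheory Opposite in
/-- The global form over an affine base. Let A be a Noetherian ring, X a proper A-scheme with structure
morphism f, and F, F' coherent O_X-modules flat over Spec A. Let η be a natural transformation from
the functor M ↦ Γ(X, f^*(M~) ⊗ F) to the functor M ↦ Γ(X, f^*(M~) ⊗ F') of the A-module M (the
published statement takes η induced by a homomorphism F → F'; this row allows any natural
transformation, which is all the argument uses). Then the kernel functor M ↦ Ker(η_M) is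
corepresentable by a finitely generated A-module R: there are such an R and a natural transformation
ι : Hom_A(R, −) → Γ(X, f^*(−~) ⊗ F) with injective components whose image at every M is exactly the
kernel of η_M. (R is then unique up to unique isomorphism.) -/
theorem result (A : Type u) [CommRing A]
    [IsNoetherianRing A] (X : Scheme.{u}) [X.Over (Spec (CommRingCat.of A))]
    [IsProper (X ↘ Spec (CommRingCat.of A))] (F F' : X.Modules) (hF : Coh.IsCoh F) (hF' : Coh.IsCoh F')
    (hfl : FlatMod.IsFlatOver (X ↘ Spec (CommRingCat.of A)) F)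
    (hfl' : FlatMod.IsFlatOver (X ↘ Spec (CommRingCat.of A)) F')
    (η : CohIII.tensorAFunctor A F ⋙ CohIII.globalSectionsA A ⟶ CohIII.tensorAFunctor A F' ⋙ CohIII.globalSectionsA A) :
    ∃ (R : ModuleCat.{u} A) (ι : (linearCoyoneda A (ModuleCat.{u} A)).obj (op R) ⟶
        CohIII.tensorAFunctor A F ⋙ CohIII.globalSectionsA A),
      Module.Finite A R ∧ (∀ M : ModuleCat.{u} A, Function.Injective (ι.app M).hom) ∧
        ∀ (M : ModuleCat.{u} A) (x : (CohIII.tensorAFunctor A F ⋙ CohIII.globalSectionsA A).obj M),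
          (η.app M).hom x = 0 ↔ ∃ y, (ι.app M).hom y = x := by
  have hfin : Groth.Agent.CBC.FinCoh.{u} :=
    fun A _ _ Z _ _ M hM n => Groth.Agent.S0002.result A Z M hM n
  obtain ⟨R₁, hw₁⟩ := Groth.Agent.CBC.exists_rep_win (F := F) hfin hF hfl
  obtain ⟨R₂, hw₂⟩ := Groth.Agent.CBC.exists_rep_win (F := F') hfin hF' hfl'
  obtain ⟨w₁⟩ := hw₁ 0
  obtain ⟨w₂⟩ := hw₂ 0
  obtain ⟨hf₁, hp₁⟩ := w₁.projective_of_lExact (Groth.Agent.CBC.lExact_zero R₁.K R₁.flat)
  obtain ⟨hf₂, hp₂⟩ := w₂.projective_of_lExact (Groth.Agent.CBC.lExact_zero R₂.K R₂.flat)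
  exact exists_kernel (R₁.globalIso w₁) (R₂.globalIso w₂) (Module.Finite.quotient A _) η

end Groth.Agent.S4498
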