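import Groth.Statements.S4500
import Groth.Agent.CBC.HomTensor
import Groth.Agent.S0002

set_option autoImplicit false
universe u
attribute [local instance] HasDerivedCategory.standard
open Coherent

namespace Groth.Agent.S4500

open AlgebraicGeometry CategoryTheory CategoryTheory.Limits Opposite in
/-- The global form over an affine base. Let A be a Noetherian ring, X a proper A-scheme with structure
morphism f, F a coherent O_X-module flat over Spec A, and G an O_X-module admitting a presentation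
E₁ → E₀ → G → 0 with E₀, E₁ finite locally free O_X-modules. Then there are a finitely generated
A-module N and an isomorphism of functors of the A-module M between Hom_{O_X}(G, f^*(M~) ⊗ F) and
Hom_A(N, M) (as abelian-group-valued functors). (N is then unique up to unique isomorphism.) -/
theorem result (A : Type u) [CommRing A] [IsNoetherianRing A]
    (X : Scheme.{u}) [X.Over (Spec (CommRingCat.of A))] [IsProper (X ↘ Spec (CommRingCat.of A))]
    (F : X.Modules) (hF : Coh.IsCoh F) (hfl : FlatMod.IsFlatOver (X ↘ Spec (CommRingCat.of A)) F)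
    (G E₀ E₁ : X.Modules) (h₀ : FlatMod.IsFinLocFree E₀) (h₁ : FlatMod.IsFinLocFree E₁)
    (v : E₁ ⟶ E₀) (π : E₀ ⟶ G) [Epi π] (w : v ≫ π = 0) (hex : (ShortComplex.mk v π w).Exact) :
    ∃ N : ModuleCat.{u} A, Module.Finite A N ∧
      Nonempty (CohIII.tensorAFunctor A F ⋙ preadditiveCoyoneda.obj (op G) ≅
        (linearCoyoneda A (ModuleCat.{u} A)).obj (op N) ⋙ forget₂ (ModuleCat.{u} A) AddCommGrpCat.{u}) := by

  have hfin : Groth.Agent.CBC.FinCoh.{u} :=
    fun A _ _ Z _ _ M hM n => Groth.Agent.S0002.result A Z M hM n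
  obtain ⟨Q₀, e₀, hQ₀, n₀⟩ := Groth.Agent.CBC.HomTensor.exists_homEquiv hfin h₀ hF hfl
  obtain ⟨Q₁, e₁, -, n₁⟩ := Groth.Agent.CBC.HomTensor.exists_homEquiv hfin h₁ hF hfl
  let T : ModuleCat.{u} A → X.Modules := fun M => Groth.Agent.CBC.tA F M
  let q : Q₁ ⟶ Q₀ := e₁ Q₀ (v ≫ (e₀ Q₀).symm (𝟙 Q₀))
  have hq : ∀ (M : ModuleCat.{u} A) (φ : E₀ ⟶ T M), e₁ M (v ≫ φ) = q ≫ e₀ M φ := fun M φ => by
    obtain ⟨h, rfl⟩ := (e₀ M).symm.surjective φ
    rw [AddEquiv.apply_symm_apply]
    have e : (e₀ M).symm h = (e₀ Q₀).symm (𝟙 Q₀) ≫ Groth.Agent.CBC.tAMap F h :=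
      (e₀ M).symm_apply_eq.mpr (by rw [n₀, AddEquiv.apply_symm_apply, Category.id_comp])
    rw [e, ← Category.assoc]
    exact n₁ h _
  let N := ModuleCat.of A (Q₀ ⧸ LinearMap.range q.hom)
  let m : Q₀ ⟶ N := ModuleCat.ofHom (LinearMap.range q.hom).mkQ
  haveI : Epi m := (ModuleCat.epi_iff_surjective m).mpr (Submodule.mkQ_surjective _)
  have hqm : q ≫ m = 0 := ModuleCat.hom_ext (LinearMap.ext fun y =>
    (Submodule.Quotient.mk_eq_zero _).mpr (LinearMap.mem_range_self _ y))
  have hex' : ∀ (M : ModuleCat.{u} A) (φ : G ⟶ T M), ∃ n : N ⟶ M, m ≫ n = e₀ M (π ≫ φ) := fun M φ => by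
    have h : q ≫ e₀ M (π ≫ φ) = 0 := by rw [← hq, ← Category.assoc, w, zero_comp, map_zero]
    exact ⟨ModuleCat.ofHom (Submodule.liftQ _ (e₀ M (π ≫ φ)).hom (LinearMap.range_le_ker_iff.mpr
      (congrArg ModuleCat.Hom.hom h))), rfl⟩
  choose E hE using hex'
  have hbij : ∀ M, Function.Bijective (E M) := fun M => by
    refine ⟨fun a b h => ?_, fun n => ?_⟩
    · rw [← cancel_epi π]
      exact (e₀ M).injective (by rw [← hE, ← hE, h])
    · have h : v ≫ (e₀ M).symm (m ≫ n) = 0 := (e₁ M).injective (by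
        rw [hq, AddEquiv.apply_symm_apply, ← Category.assoc, hqm, zero_comp, map_zero])
      haveI : Epi (ShortComplex.mk v π w).g := ‹Epi π›
      refine ⟨hex.desc ((e₀ M).symm (m ≫ n)) h, ?_⟩
      rw [← cancel_epi m, hE]
      refine (congrArg (e₀ M) (hex.g_desc _ h)).trans ((e₀ M).apply_symm_apply _)
  have hadd : ∀ M a b, E M (a + b) = E M a + E M b := fun M a b => by
    rw [← cancel_epi m, hE, Preadditive.comp_add, map_add, Preadditive.comp_add, hE, hE]
  refine ⟨N, Module.Finite.quotient A _, ⟨NatIso.ofComponents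
    (fun M => AddEquiv.toAddCommGrpIso
      (AddEquiv.ofBijective (AddMonoidHom.mk' (E M) (hadd M)) (hbij M) : (G ⟶ T M) ≃+ (N ⟶ M)))
    fun {M M'} f => ?_⟩⟩
  refine AddCommGrpCat.hom_ext (AddMonoidHom.ext fun φ => ?_)
  change E M' ((show G ⟶ T M from φ) ≫ Groth.Agent.CBC.tAMap F f) = E M φ ≫ f
  rw [← cancel_epi m, hE, ← Category.assoc, n₀, ← Category.assoc, hE]

end Groth.Agent.S4500
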