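import Groth.Statements.S4501
import Groth.Agent.FlatCx.Semicont

set_option autoImplicit false
universe u
open FlatCx

namespace Groth.Agent.S4501

open Groth.Agent.FlatCx

open CategoryTheory CategoryTheory.Limits in
/-- The case of finitely generated flat terms. Let A be a Noetherian domain, P a chain complex of
finitely generated flat A-modules, and for a prime y of A let P_y be the base change of P to the
local ring A_y. Then the set U of points y of Spec A such that the functor N ↦ H_p(P_y ⊗_{A_y} N) on
A_y-modules takes injections to injections and surjections to surjections is open and nonempty (it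
contains the generic point). -/
theorem result {A : Type u} [CommRing A] [IsNoetherianRing A] [IsDomain A]
    (P : ChainComplex (ModuleCat.{u} A) ℤ) (hP : ∀ i, Module.Finite A (P.X i) ∧ Module.Flat A (P.X i))
    (p : ℤ) :
    IsOpen {y : PrimeSpectrum A |
        (CohIII.TFun (CohIII.bcCx (algebraMap A (Localization.AtPrime y.asIdeal)) P) p).PreservesMonomorphisms ∧
          (CohIII.TFun (CohIII.bcCx (algebraMap A (Localization.AtPrime y.asIdeal)) P) p).PreservesEpimorphisms} ∧
      {y : PrimeSpectrum A |
        (CohIII.TFun (CohIII.bcCx (algebraMap A (Localization.AtPrime y.asIdeal)) P) p).PreservesMonomorphisms ∧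
          (CohIII.TFun (CohIII.bcCx (algebraMap A (Localization.AtPrime y.asIdeal)) P) p).PreservesEpimorphisms}.Nonempty := by
  have := (hP p).1
  have := (hP (p - 1)).1
  have := Module.finitePresentation_of_finite A (P.opcycles p)
  have := Module.finitePresentation_of_finite A (P.opcycles (p - 1))
  have hset : {y : PrimeSpectrum A |
        (CohIII.TFun (CohIII.bcCx (algebraMap A (Localization.AtPrime y.asIdeal)) P) p).PreservesMonomorphisms ∧
          (CohIII.TFun (CohIII.bcCx (algebraMap A (Localization.AtPrime y.asIdeal)) P) p).PreservesEpimorphisms} =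
      Module.freeLocus A (P.opcycles p) ∩ Module.freeLocus A (P.opcycles (p - 1)) := by
    ext y
    refine (and_congr (bc_mono_iff P (fun i => (hP i).2) p (p - 1) (by omega))
      (bc_epi_iff P (fun i => (hP i).2) p (p - 1) (by omega))).trans ?_
    rw [Set.mem_inter_iff, Module.mem_freeLocus_iff_tensor _ (Localization.AtPrime y.asIdeal),
      Module.mem_freeLocus_iff_tensor _ (Localization.AtPrime y.asIdeal)]
    exact ⟨fun h => ⟨@Module.free_of_flat_of_isLocalRing _ _ _ _ _ _ _ h.1,
        @Module.free_of_flat_of_isLocalRing _ _ _ _ _ _ _ h.2⟩,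
      fun h => ⟨@Module.Flat.of_free _ _ _ _ _ h.1, @Module.Flat.of_free _ _ _ _ _ h.2⟩⟩
  rw [hset]
  refine ⟨Module.isOpen_freeLocus.inter Module.isOpen_freeLocus, ⟨⟨⊥, Ideal.isPrime_bot⟩, ?_⟩⟩
  have : IsLocalization.AtPrime (FractionRing A) (⊥ : Ideal A) := by
    show IsLocalization (Ideal.primeCompl ⊥) (FractionRing A)
    rw [Ideal.primeCompl_bot]; infer_instance
  constructor <;>
  · rw [Module.mem_freeLocus_iff_tensor _ (FractionRing A)]
    exact Module.Free.of_divisionRing (K := FractionRing A) (V := _)

end Groth.Agent.S4501
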