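import Groth.Statements.S4508
import Groth.Agent.CBC.NoethThms
import Groth.Agent.CohLin.Basic
import Groth.Agent.S1391
import Groth.Agent.S0002

set_option autoImplicit false
universe u
open Coherent

namespace Groth.Agent.S4508

open AlgebraicGeometry CategoryTheory CategoryTheory.Limits in
/-- For a single sheaf placed in degree 0 (the published statement is for a finite complex of such
sheaves). Let Y and Y' be locally Noetherian schemes, f : X ⟶ Y proper, g : Y' ⟶ Y any morphism, F a
coherent O_X-module flat over Y; let X' = X ×_Y Y' with projections f' : X' ⟶ Y' and X' ⟶ X, and F'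
the pullback of F to X'. Then F' is flat over Y', and for every point y' of Y' the Euler–Poincaré
characteristic of the fibre, Σ_i (−1)^i dim_{k(y')} H^i(X'_{y'}, F'_{y'}), equals Σ_i (−1)^i
dim_{k(g(y'))} H^i(X_{g(y')}, F_{g(y')}). -/
theorem result {X Y Y' : Scheme.{u}} (f : X ⟶ Y) (g : Y' ⟶ Y) [IsProper f]
    [IsLocallyNoetherian Y] [IsLocallyNoetherian Y'] (F : X.Modules) (hF : Coh.IsCoh F)
    (hfl : FlatMod.IsFlatOver f F) :
    FlatMod.IsFlatOver (pullback.snd f g) ((Scheme.Modules.pullback (pullback.fst f g)).obj F) ∧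
      ∀ y' : Y', PerfAux.eulerChar (pullback.snd f g) ((Scheme.Modules.pullback (pullback.fst f g)).obj F) y' =
        PerfAux.eulerChar f F (g.base y') := by
  haveI : F.IsQuasicoherent := hF.1
  have hpb : IsPullback (pullback.fst f g) (pullback.snd f g) f g := IsPullback.of_hasPullback f g
  refine ⟨fun x' => Groth.Agent.S1391.result f (pullback.snd f g) (pullback.fst f g) g hpb F hF.1 x'
    (hfl _), fun y' => finsum_congr fun i => ?_⟩
  congr 2
  let y := g y'
  obtain ⟨_, ⟨V, hV, rfl⟩, hy, -⟩ :=
    Y.isBasis_affineOpens.exists_subset_of_mem_open (Set.mem_univ y) isOpen_univ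
  obtain ⟨D, hD⟩ := Groth.Agent.CBC.exists_model_win hF hfl
    (fun A _ _ Z _ _ M hM n => Groth.Agent.S0002.result A Z M hM n) hV
  obtain ⟨w⟩ := hD i
  have := w.fp
  change CohIII.fiberRank (pullback.snd f g) ((Scheme.Modules.pullback (pullback.fst f g)).obj F) i y' =
    CohIII.fiberRank f F i y
  rw [Groth.Agent.CBC.fiberRank_eq hV y hy D w]
  -- the fibre of the base change through the complex
  letI : Algebra Γ(Y, V) (Y'.residueField y') :=
    ((g.residueFieldMap y').hom.comp (Y.evaluation V y hy).hom).toAlgebra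
  have hker : RingHom.ker (algebraMap Γ(Y, V) (Y'.residueField y')) =
      (hV.primeIdealOf ⟨y, hy⟩).asIdeal := by
    rw [← Groth.Agent.CBC.ker_eval hV y hy]
    exact RingHom.ker_comp_of_injective _ (g.residueFieldMap y').hom.injective
  let q := (pullback.snd f g).fiberToSpecResidueField y'
  let p := (pullback.snd f g).fiberι y'
  let g₂ := Y'.fromSpecResidueField y' ≫ g
  have H : IsPullback (p ≫ pullback.fst f g) q f g₂ :=
    (IsPullback.of_hasPullback (pullback.snd f g) (Y'.fromSpecResidueField y')).paste_horiz hpb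
  have hle : ⊤ ≤ g₂ ⁻¹ᵁ V := fun z _ => by
    change g (Y'.fromSpecResidueField y' z) ∈ V
    rw [Scheme.fromSpecResidueField_apply]
    exact hy
  have halg : ∀ a, g₂.appLE V ⊤ hle a = (Scheme.ΓSpecIso (CommRingCat.of (Y'.residueField y'))).inv
      (algebraMap Γ(Y, V) (Y'.residueField y') a) := fun a => by
    have e : g₂ = Spec.map (g.residueFieldMap y') ≫ Y.fromSpecResidueField y :=
      (g.SpecMap_residueFieldMap_fromSpecResidueField y').symm
    have h1 : g₂.appLE V ⊤ hle =
        (Y.fromSpecResidueField y).appLE V ⊤ (Groth.Agent.CBC.fromSpecResidueField_le y hy) ≫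
          (Spec.map (g.residueFieldMap y')).appTop := by
      simp only [e, Scheme.Hom.appTop, Scheme.Hom.app_eq_appLE]
      exact (Scheme.Hom.appLE_comp_appLE _ _ _ _ _ _ _).symm
    rw [h1, Groth.Agent.CBC.fromSpecResidueField_appLE, Category.assoc,
      ← Scheme.ΓSpecIso_inv_naturality]
    rfl
  let e₁ := Groth.Agent.CBC.ringEquivCat hV D F g₂ (p ≫ pullback.fst f g) q H hle halg i
  let e₂ := Groth.Agent.CohLin.hIso ((Scheme.Modules.pullbackComp p (pullback.fst f g)).app F).symm i
  let e : CohIII.fiberH (pullback.snd f g) ((Scheme.Modules.pullback (pullback.fst f g)).obj F) y' i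
      ≃ₗ[Y'.residueField y'] LinearMap.ker (w.u.baseChange (Y'.residueField y')) :=
    { ((e₁.trans e₂.toAddEquiv).symm.trans (w.eAlg (Y'.residueField y')).toAddEquiv) with
      map_smul' := fun r x => by
        refine Subtype.ext ?_
        obtain ⟨z, rfl⟩ := (e₁.trans e₂.toAddEquiv).surjective x
        change (w.eAlg (Y'.residueField y') ((e₁.trans e₂.toAddEquiv).symm
          (Coh.toGlobal (A := Y'.residueField y') q r • e₂ (e₁ z)))).1 =
            r • (w.eAlg (Y'.residueField y') ((e₁.trans e₂.toAddEquiv).symm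
              ((e₁.trans e₂.toAddEquiv) z))).1
        have hs := Groth.Agent.CBC.ringEquivCat_smul hV D F g₂ (p ≫ pullback.fst f g) q H
          hle halg i r z
        refine (congrArg (fun t => (w.eAlg (Y'.residueField y')
          ((e₁.trans e₂.toAddEquiv).symm t)).1) ((map_smul e₂ _ (e₁ z)).symm.trans
            (congrArg e₂ hs.symm))).trans ?_
        refine (congrArg (fun t => (w.eAlg (Y'.residueField y') t).1)
          ((e₁.trans e₂.toAddEquiv).symm_apply_apply _)).trans ?_
        refine Eq.trans ?_ (congrArg (fun t => r • (w.eAlg (Y'.residueField y') t).1)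
          ((e₁.trans e₂.toAddEquiv).symm_apply_apply z)).symm
        exact w.eAlg_smul (Y'.residueField y') r z }
  rw [Groth.Agent.CBC.kerRank_eq_finrank w.u (hV.primeIdealOf ⟨y, hy⟩) (K := Y'.residueField y') hker]
  exact e.finrank_eq

end Groth.Agent.S4508
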