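import Groth.Statements.S4510
import Groth.Agent.CBC.EtaleFib
import Groth.Agent.CBC.Funct
import Groth.Agent.CBC.Noeth
import Groth.Agent.FormalFun.TensorMod
import Groth.Agent.IntProd70.Family
import Groth.Agent.S0002

set_option autoImplicit false
universe u
attribute [local instance] HasDerivedCategory.standard
open Coherent

namespace Groth.Agent.S4510

open AlgebraicGeometry CategoryTheory CategoryTheory.Limits in
/-- Over a local base (so that the point y is the closed point and cohomological flatness at y is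
exactness of T^A_0). Let A be a Noetherian local ring with maximal ideal m, X a proper and flat
A-scheme with structure morphism f, y the closed point of Spec A (the point whose prime ideal is m),
and suppose that the ring of global functions Γ(X_y, O_{X_y}) of the closed fibre is an étale
k(y)-algebra (a finite product of finite separable extensions of k(y)). Then O_X is cohomologically
flat over Spec A in degree 0: the functor M ↦ H^0(X, f^*(M~) ⊗ O_X) of the A-module M takes
injections to injections and surjections to surjections. -/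
theorem result (A : Type u) [CommRing A]
    [IsNoetherianRing A] [IsLocalRing A] (X : Scheme.{u}) [X.Over (Spec (CommRingCat.of A))]
    [IsProper (X ↘ Spec (CommRingCat.of A))] [Flat (X ↘ Spec (CommRingCat.of A))]
    (y : ↥(Spec (CommRingCat.of A))) (hy : y.asIdeal = IsLocalRing.maximalIdeal A)
    (het : Algebra.Etale ((Spec (CommRingCat.of A)).residueField y)
      Γ((X ↘ Spec (CommRingCat.of A)).fiber y, ⊤)) :
    (CohIII.tensorAFunctor A (Coh.structureModule X) ⋙ CohIII.HAb X 0).PreservesMonomorphisms ∧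
      (CohIII.tensorAFunctor A (Coh.structureModule X) ⋙ CohIII.HAb X 0).PreservesEpimorphisms := by
  haveI : IsLocallyNoetherian X := Groth.Agent.FormalFun.isLocallyNoetherian_of_proper A X
  obtain rfl : y = IsLocalRing.closedPoint A := PrimeSpectrum.ext hy
  let F := Coh.structureModule X
  have hfl := Groth.Agent.IntProd70.isFlatOver_unit (X ↘ Spec (CommRingCat.of A))
  obtain ⟨R, hw⟩ := Groth.Agent.CBC.exists_rep_win (F := F)
    (fun A _ _ Z _ _ M hM n => Groth.Agent.S0002.result A Z M hM n)
    (Groth.Agent.ProperFin.isCoh_structureModule X) hfl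
  obtain ⟨w⟩ := hw 0
  refine ⟨(R.preservesMono_iff 0).2 (Groth.Agent.CBC.lExact_zero R.K R.flat),
    (R.preservesEpi_iff 0).2 (w.rExact_of_surjective_residue ((R.surjective_map_iff 0
      (ModuleCat.ofHom (Algebra.linearMap A (IsLocalRing.ResidueField A)))).1 ?_))⟩
  obtain ⟨q, ψ, θ, rfl, hθ⟩ := Groth.Agent.FormalFun.exists_iso_tA (A := A) F (IsLocalRing.maximalIdeal A) (0 + 1)
  have hs := Groth.Agent.CBC.EtaleFib.surjective_toHHmodPow (A := A) (X := X) het
  -- the residue field as `A / 𝔪^1`
  let e : ModuleCat.of A (A ⧸ IsLocalRing.maximalIdeal A ^ (0 + 1)) ≅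
      ModuleCat.of A (IsLocalRing.ResidueField A) :=
    (Submodule.quotEquivOfEq (IsLocalRing.maximalIdeal A ^ (0 + 1)) (IsLocalRing.maximalIdeal A)
      (pow_one _)).toModuleIso
  have he : ModuleCat.ofHom (Algebra.linearMap A (IsLocalRing.ResidueField A)) =
      Groth.Agent.FormalFun.quotA (IsLocalRing.maximalIdeal A ^ (0 + 1)) ≫ e.hom :=
    ModuleCat.hom_ext (LinearMap.ext fun a => rfl)
  intro y
  obtain ⟨z, hz⟩ := hs (Groth.Agent.CohLin.hMap θ.inv 0
    (Groth.Agent.CohLin.hMap (Groth.Agent.CBC.tAMap F e.inv) 0 y))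
  refine ⟨Groth.Agent.CohLin.hMap ψ.inv 0 z, ?_⟩
  have hq : ψ.inv ≫ Groth.Agent.CBC.tAMap F
      (ModuleCat.ofHom (Algebra.linearMap A (IsLocalRing.ResidueField A))) =
      Formal.modPowπ (IsLocalRing.maximalIdeal A) (0 + 1) F ≫ θ.hom ≫ Groth.Agent.CBC.tAMap F e.hom := by
    rw [reassoc_of% hθ, he]
    exact congrArg (ψ.inv ≫ ·) ((CohIII.tensorAFunctor A F).map_comp _ _)
  change Groth.Agent.CohLin.hMap (Groth.Agent.CBC.tAMap F
    (ModuleCat.ofHom (Algebra.linearMap A (IsLocalRing.ResidueField A)))) 0
      (Groth.Agent.CohLin.hMap ψ.inv 0 z) = y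
  rw [← Groth.Agent.CohLin.hMap_comp, hq, Groth.Agent.CohLin.hMap_comp, Groth.Agent.CohLin.hMap_comp]
  erw [hz]
  rw [← Groth.Agent.CohLin.hMap_comp θ.inv θ.hom, θ.inv_hom_id, Groth.Agent.CohLin.hMap_id,
    ← Groth.Agent.CohLin.hMap_comp]
  have h1 : Groth.Agent.CBC.tAMap F e.inv ≫ Groth.Agent.CBC.tAMap F e.hom = 𝟙 _ := by
    refine ((CohIII.tensorAFunctor A F).map_comp _ _).symm.trans ?_
    rw [e.inv_hom_id]
    exact (CohIII.tensorAFunctor A F).map_id _
  rw [h1, Groth.Agent.CohLin.hMap_id]

end Groth.Agent.S4510
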