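import Groth.Statements.S4511
import Groth.Agent.AdicFS.CompleteNoether

set_option autoImplicit false
universe u
open EGA41

namespace Groth.Agent.S4511

open IsLocalRing in
/-- Let A be a complete Noetherian local ring whose residue field has characteristic p (p = 0 allowed).
The following are equivalent: (a) A contains a field, i.e. there is a ring homomorphism from a field
into A; (b) p·1 = 0 in A; (c) A is isomorphic to a quotient of a power series ring K[[T_1, …, T_n]]
over a field K. Moreover, when they hold, the surjection in (c) may be chosen with kernel contained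
in the square of the maximal ideal of K[[T_1, …, T_n]]. -/
theorem result (A : Type u) [CommRing A] [IsLocalRing A] [IsNoetherianRing A]
    [IsAdicComplete (maximalIdeal A) A] (p : ℕ) [CharP (ResidueField A) p] :
    [∃ (K : Type u) (_ : Field K), Nonempty (K →+* A),
     (p : A) = 0,
     ∃ (K : Type u) (_ : Field K) (n : ℕ) (f : MvPowerSeries (Fin n) K →+* A), Function.Surjective f].TFAE ∧
    ((p : A) = 0 → ∃ (K : Type u) (_ : Field K) (n : ℕ) (f : MvPowerSeries (Fin n) K →+* A),
      Function.Surjective f ∧ RingHom.ker f ≤ maximalIdeal (MvPowerSeries (Fin n) K) ^ 2) := by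
  classical
  have hfield : (p : A) = 0 → ∃ (K : Type u) (_ : Field K), Nonempty (K →+* A) := by
    intro hp
    rcases CharP.char_is_prime_or_zero (ResidueField A) p with hpp | hp0
    · haveI : Fact p.Prime := ⟨hpp⟩
      let F := ULift.{u} (ZMod p)
      haveI : Nontrivial A := inferInstance
      haveI hchar : CharP A p := (CharP.charP_iff_prime_eq_zero hpp).mpr hp
      exact ⟨F, inferInstance, ⟨(ZMod.castHom dvd_rfl A).comp ULift.ringEquiv.toRingHom⟩⟩
    · subst hp0
      haveI : CharZero (ResidueField A) := CharP.charP_to_charZero _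
      have hu : ∀ n : ℤ, n ≠ 0 → IsUnit (algebraMap ℤ A n) := fun n hn => by
        rw [← residue_ne_zero_iff_isUnit, eq_intCast, map_intCast]
        exact_mod_cast hn
      refine ⟨ULift.{u} ℚ, inferInstance, ⟨?_⟩⟩
      exact (IsLocalization.lift (M := nonZeroDivisors ℤ) (S := ℚ) (g := algebraMap ℤ A)
        fun y => hu y (nonZeroDivisors.ne_zero y.2)).comp ULift.ringEquiv.toRingHom
  have hpres : (p : A) = 0 → ∃ (K : Type u) (_ : Field K) (n : ℕ) (f : MvPowerSeries (Fin n) K →+* A),
      Function.Surjective f ∧ RingHom.ker f ≤ maximalIdeal (MvPowerSeries (Fin n) K) ^ 2 := by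
    intro hp
    obtain ⟨k₀, _, ⟨g⟩⟩ := hfield hp
    obtain ⟨n, f, hf, hk⟩ := AdicFS.CompleteNoether.exists_presentation_minimal g
    exact ⟨_, inferInstance, n, f, hf, hk⟩
  refine ⟨?_, hpres⟩
  tfae_have 2 → 1 := hfield
  tfae_have 2 → 3 := fun hp => by
    obtain ⟨K, _, n, f, hf, -⟩ := hpres hp
    exact ⟨K, _, n, f, hf⟩
  tfae_have 1 → 2 := by
    rintro ⟨K, _, ⟨g⟩⟩
    haveI : CharP K p := ((residue A).comp g).charP ((residue A).comp g).injective p
    rw [← map_natCast g p, CharP.cast_eq_zero, map_zero]
  tfae_have 3 → 1 := by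
    rintro ⟨K, _, n, f, -⟩
    exact ⟨K, _, ⟨f.comp MvPowerSeries.C⟩⟩
  tfae_finish

end Groth.Agent.S4511
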