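import Groth.Statements.S4513
import Groth.Agent.FieldSep.MacLane
import Groth.Agent.FieldSep.Imperfection

set_option autoImplicit false
universe u
open EGA41

namespace Groth.Agent.S4513

open IsLocalRing in
/-- Let A be a Noetherian local ring and k a field mapping to A such that A is formally smooth over k
for the adic topology of its maximal ideal (k discrete). Then every field K with k → K → A
(compatible ring maps) is a separable extension of k, i.e. K is geometrically reduced over k. -/
theorem result {k A K : Type u} [Field k] [CommRing A]
    [IsLocalRing A] [IsNoetherianRing A] [Algebra k A] (h : CAlgX.IsAdicFormallySmooth k A (maximalIdeal A))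
    [Field K] [Algebra k K] [Algebra K A] [IsScalarTower k K A] :
    Algebra.IsGeometricallyReduced k K := by
  rw [Groth.Agent.FieldSep.MacLane.isGeometricallyReduced_iff_injective]
  refine Groth.Agent.FieldSep.Imperfection.injective_of_extends (L := (ResidueField A)) fun D => ?_
  let i : k →+* TrivSqZeroExt (ResidueField A) (ResidueField A) :=
  { toFun := fun c => Groth.Agent.PBasis.Basic.tmk (algebraMap k (ResidueField A) c) (D c)
    map_one' := by apply TrivSqZeroExt.ext <;> simp
    map_mul' := fun a b => by
      apply TrivSqZeroExt.ext
      · simp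
      · simp [Algebra.smul_def, mul_comm, add_comm]
    map_zero' := by apply TrivSqZeroExt.ext <;> simp
    map_add' := fun a b => by
      apply TrivSqZeroExt.ext <;> simp }
  letI : Algebra k (TrivSqZeroExt (ResidueField A) (ResidueField A)) := i.toAlgebra
  let π : TrivSqZeroExt (ResidueField A) (ResidueField A) →+* (ResidueField A) := (TrivSqZeroExt.fstHom (ResidueField A) (ResidueField A) (ResidueField A)).toRingHom
  let J : Ideal (TrivSqZeroExt (ResidueField A) (ResidueField A)) := RingHom.ker π
  have hJ : J ^ 2 = ⊥ := by
    rw [pow_two, eq_bot_iff, Ideal.mul_le]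
    intro r hr s hs
    have hr' : r.fst = 0 := hr
    have hs' : s.fst = 0 := hs
    rw [Ideal.mem_bot]
    apply TrivSqZeroExt.ext <;> simp [hr', hs']
  let e := RingHom.quotientKerEquivOfSurjective (f := π) (fun c => ⟨TrivSqZeroExt.inl c, rfl⟩)
  let u : A →ₐ[k] TrivSqZeroExt (ResidueField A) (ResidueField A) ⧸ J :=
  { (e.symm.toRingHom.comp (residue A)) with
    commutes' := fun c => by
      show e.symm (residue A (algebraMap k A c)) = Ideal.Quotient.mk J (i c)
      rw [RingEquiv.symm_apply_eq]
      show residue A (algebraMap k A c) = π (i c)
      simp [π, i]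
      rfl }
  obtain ⟨v, hv⟩ := h _ J hJ u ⟨1, fun a ha => by
    rw [pow_one] at ha
    show e.symm (residue A a) = 0
    rw [(residue_eq_zero_iff a).mpr ha, map_zero]⟩
  have hfst : ∀ a, (v a).fst = residue A a := fun a => by
    have h1 : e (Ideal.Quotient.mk J (v a)) = residue A a := by
      rw [show Ideal.Quotient.mk J (v a) = u a from DFunLike.congr_fun hv a]
      exact e.apply_symm_apply _
    exact h1
  let d : K →+ (ResidueField A) := AddMonoidHom.mk' (fun c => (v (algebraMap K A c)).snd) (fun a b => by simp)
  refine ⟨Derivation.mk' d.toIntLinearMap fun a b => ?_, fun c => ?_⟩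
  · show (v (algebraMap K A (a * b))).snd = _
    simp only [d, map_mul, TrivSqZeroExt.snd_mul, hfst, op_smul_eq_smul, smul_eq_mul, Algebra.smul_def, AddMonoidHom.coe_toIntLinearMap, AddMonoidHom.mk'_apply]
    rw [IsScalarTower.algebraMap_apply K A (ResidueField A) a, IsScalarTower.algebraMap_apply K A (ResidueField A) b, ResidueField.algebraMap_eq]
  · show (v (algebraMap K A (algebraMap k K c))).snd = D c
    rw [← IsScalarTower.algebraMap_apply k K A, v.commutes]
    simp [RingHom.algebraMap_toAlgebra, i]

end Groth.Agent.S4513
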