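import Groth.Statements.S4516
import Groth.Agent.PBasis.Basic

set_option autoImplicit false
universe u
open EGA41

namespace Groth.Agent.S4516

/-- Let p be a prime, B an A-algebra of characteristic p and A' an A-subalgebra of B contained in
A[B^p]. Then the canonical map between Ω_{B/A} and Ω_{B/A'} is bijective (every A-derivation of B
vanishes on A[B^p]). -/
theorem result (p : ℕ) [Fact p.Prime] {A B : Type u}
    [CommRing A] [CommRing B] [Algebra A B] [CharP B p] (A' : Subalgebra A B)
    (hA' : A' ≤ EGA41.pPowerSubalgebra p A B) :
    Function.Bijective (KaehlerDifferential.map A A' B B) := by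
  refine ⟨?_, KaehlerDifferential.map_surjective A A' B⟩
  let D : Derivation A' B (Ω[B⁄A]) := Derivation.mk'
    { toFun := KaehlerDifferential.D A B
      map_add' := map_add _
      map_smul' := fun a b => by
        show KaehlerDifferential.D A B ((a : B) * b) = (a : B) • KaehlerDifferential.D A B b
        rw [Derivation.leibniz, Groth.Agent.PBasis.Basic.derivation_pPower p _ (hA' a.2), smul_zero, add_zero] }
    fun a b => Derivation.leibniz _ a b
  have h : (D.liftKaehlerDifferential.restrictScalars B).comp (KaehlerDifferential.map A A' B B) = LinearMap.id := by
    refine Derivation.liftKaehlerDifferential_unique _ _ ?_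
    ext b
    simp [D]
  exact fun u v huv => by
    simpa using (DFunLike.congr_fun h u).symm.trans ((congrArg D.liftKaehlerDifferential huv).trans (DFunLike.congr_fun h v))

end Groth.Agent.S4516
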