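import Groth.Statements.S4519
import Groth.Agent.PBasis.Basic

set_option autoImplicit false
universe u
open EGA41

namespace Groth.Agent.S4519

/-- Let p be a prime, B a ring of characteristic p and A a subring of B with B^p ⊆ A (here: A → B
injective with every p-th power in its image; R → A → B with the image of R in B equal to the set of
p-th powers, so that R stands for B^p). If B admits a p-basis over A, then B is a formally smooth
A-algebra relative to R for the discrete topologies (square-zero liftings, as in the prelude's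
relative notion). -/
theorem result (p : ℕ) [Fact p.Prime] {R A B : Type u} [CommRing R] [CommRing A]
    [CommRing B] [Algebra R A] [Algebra A B] [Algebra R B] [IsScalarTower R A B] [CharP B p]
    (hinj : Function.Injective (algebraMap A B)) (hpow : ∀ b : B, b ^ p ∈ Set.range (algebraMap A B))
    (hR : Set.range (algebraMap R B) = Set.range fun b : B => b ^ p)
    {ι : Type u} (x : ι → B) (hx : EGA41.IsPBasis p A x) :
    EGA41.IsFormallySmoothRel R A B := by
  intro C _ _ _ _ J hJ u₀ ⟨u, hu⟩
  have hu' : ∀ c, Ideal.Quotient.mk J (u c) = u₀ c := fun c => DFunLike.congr_fun hu c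
  have hsub : ∀ s : pPowerSubalgebra p A B, ∃ a : A, algebraMap A B a = (s : B) := by
    rintro ⟨s, hs⟩
    show ∃ a, algebraMap A B a = s
    induction hs using Algebra.adjoin_induction with
    | mem y hy => obtain ⟨b, rfl⟩ := hy; exact hpow b
    | algebraMap r => exact ⟨r, rfl⟩
    | add a b _ _ ha hb =>
      obtain ⟨a', rfl⟩ := ha; obtain ⟨b', rfl⟩ := hb; exact ⟨a' + b', map_add _ _ _⟩
    | mul a b _ _ ha hb =>
      obtain ⟨a', rfl⟩ := ha; obtain ⟨b', rfl⟩ := hb; exact ⟨a' * b', map_mul _ _ _⟩
  choose g hg using hsub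
  have g_eq : ∀ s a, algebraMap A B a = (s : pPowerSubalgebra p A B) → g s = a := fun s a h =>
    hinj (by rw [hg, h])
  let f : pPowerSubalgebra p A B →+* C :=
    { toFun := fun s => algebraMap A C (g s)
      map_one' := by rw [g_eq 1 1 (by simp), map_one]
      map_mul' := fun s t => by rw [g_eq (s * t) (g s * g t) (by simp [hg]), map_mul]
      map_zero' := by rw [g_eq 0 0 (by simp), map_zero]
      map_add' := fun s t => by rw [g_eq (s + t) (g s + g t) (by simp [hg]), map_add] }
  have hz : ∀ i, u (x i) ^ p = f (Groth.Agent.PBasis.Basic.pw p (x i)) := fun i => by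
    obtain ⟨r, hr⟩ : x i ^ p ∈ Set.range (algebraMap R B) := by rw [hR]; exact ⟨x i, rfl⟩
    show _ = algebraMap A C (g _)
    rw [g_eq _ (algebraMap R A r) (by rw [← IsScalarTower.algebraMap_apply, hr]; rfl),
      ← map_pow, ← hr, u.commutes, ← IsScalarTower.algebraMap_apply]
  obtain ⟨v, ⟨hvs, hvx⟩, -⟩ :=
    Groth.Agent.PBasis.Basic.existsUnique_ringHom p x hx f (fun i => u (x i)) hz
  have hva : ∀ a, v (algebraMap A B a) = algebraMap A C a := fun a => by
    have := hvs ⟨algebraMap A B a, Subalgebra.algebraMap_mem _ a⟩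
    rw [this]
    exact congrArg (algebraMap A C) (g_eq _ a rfl)
  refine ⟨{ v with commutes' := hva }, AlgHom.ext fun b => ?_⟩
  have heq : (Ideal.Quotient.mk J).comp v = u₀.toRingHom :=
    Groth.Agent.PBasis.Basic.ringHom_ext p x hx.2 (fun s => by
      show Ideal.Quotient.mk J (v s) = u₀ s
      rw [← hg s, hva, u₀.commutes]; rfl) (fun i => by
      show Ideal.Quotient.mk J (v (x i)) = u₀ (x i)
      rw [hvx, hu'])
  exact RingHom.congr_fun heq b

end Groth.Agent.S4519
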