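import Groth.Statements.S4522
import Groth.Agent.S4519
import Groth.Agent.S3441
import Groth.Agent.PBasis.Field

set_option autoImplicit false
universe u
open EGA41

namespace Groth.Agent.S4522

/-- Let L be a field of characteristic p > 0 and K a subfield with L^p ⊆ K ⊆ L (here R → K → L with the
image of R in L the set of p-th powers and every p-th power of L in the image of K). Then the
canonical L-linear map L ⊗_K Ω_{K/L^p} → Ω_{L/L^p} is injective, so that 0 → Ω_{K/L^p} ⊗_K L →
Ω_{L/L^p} → Ω_{L/K} → 0 is exact: the imperfection module of L over K relative to L^p vanishes. -/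
theorem result (p : ℕ) [Fact p.Prime] {R K L : Type u} [Field R] [Field K] [Field L]
    [Algebra R K] [Algebra K L] [Algebra R L] [IsScalarTower R K L] [CharP L p]
    (hR : Set.range (algebraMap R L) = Set.range fun y : L => y ^ p)
    (hK : ∀ y : L, y ^ p ∈ Set.range (algebraMap K L)) :
    Function.Injective (KaehlerDifferential.mapBaseChange R K L) := by
  obtain ⟨B, hB⟩ := Groth.Agent.PBasis.Field.exists_isPBasis p K L
  have hFS : EGA41.IsFormallySmoothRel R K L :=
    Groth.Agent.S4519.result p (algebraMap K L).injective hK hR _ hB
  obtain ⟨l, hl⟩ := (Groth.Agent.S3441.result R K L).mpr hFS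
  exact Function.LeftInverse.injective (g := l) fun x => DFunLike.congr_fun hl x

end Groth.Agent.S4522
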