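import Groth.Statements.S4524
import Groth.Agent.FieldSep.SepGen

set_option autoImplicit false
universe u
open EGA41

namespace Groth.Agent.S4524

/-- Let k be a field of characteristic 0 and K an extension of k. Then Ω_{K/k} = 0 if and only if K is
an algebraic extension of k. -/
theorem result {k K : Type u} [Field k] [CharZero k] [Field K] [Algebra k K] :
    Subsingleton (Ω[K⁄k]) ↔ Algebra.IsAlgebraic k K := by
  refine ⟨fun h => ?_, fun h => ?_⟩
  · obtain ⟨s, hs⟩ := exists_isTranscendenceBasis k K
    obtain ⟨b, -⟩ := Groth.Agent.FieldSep.SepGen.exists_basis_of_charZero hs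
    have : IsEmpty s := ⟨fun i => b.ne_zero i (Subsingleton.elim _ _)⟩
    have hbot : Algebra.IsAlgebraic (IntermediateField.adjoin k (Set.range ((↑) : s → K))) K := hs.isAlgebraic_field
    rw [Set.range_eq_empty, IntermediateField.adjoin_empty] at hbot
    have : Algebra.IsAlgebraic k (⊥ : IntermediateField k K) := (IntermediateField.botEquiv k K).symm.isAlgebraic
    exact Algebra.IsAlgebraic.trans k (⊥ : IntermediateField k K) K
  · have : Algebra.IsSeparable k K := inferInstance
    have := Algebra.FormallyEtale.of_isSeparable k K
    infer_instance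

end Groth.Agent.S4524
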