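import Groth.Statements.S4526
import Groth.Agent.FieldSep.Cartier
import Mathlib.RingTheory.Finiteness.Descent

set_option autoImplicit false
universe u
open EGA41

namespace Groth.Agent.S4526

open KaehlerDifferential TensorProduct

/-- Let k ⊆ K ⊆ L be three fields with L an extension of finite type of k. Then Ω_{L/k} and Ω_{K/k} are
finite-dimensional and rank_L Ω_{L/k} − rank_K Ω_{K/k} ≥ trdeg_K L. (The published statement also
gives the exact value trdeg_K L + d(L/K, k) and an equality criterion; this row states only the
inequality.) -/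
theorem result {k K L : Type u} [Field k] [Field K] [Field L]
    [Algebra k K] [Algebra K L] [Algebra k L] [IsScalarTower k K L] [Algebra.EssFiniteType k L] :
    Module.Finite L (Ω[L⁄k]) ∧ Module.Finite K (Ω[K⁄k]) ∧
      (Cardinal.toNat (Algebra.trdeg K L) : ℤ) ≤ (Module.finrank L (Ω[L⁄k]) : ℤ) - Module.finrank K (Ω[K⁄k]) := by
  have : Algebra.EssFiniteType K L := Algebra.EssFiniteType.of_comp k K L
  obtain ⟨h1, h2, h3⟩ := Groth.Agent.FieldSep.Cartier.trdeg_le_finrank_sub_finrank k K L
  have hL : Module.Finite L Ω[L⁄k] := inferInstance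
  set ψ := mapBaseChange k K L with hψ
  have : Module.Finite L ψ.ker := h2
  have : Module.Finite L ψ.range := inferInstance
  have : Module.Finite L (_ ⧸ ψ.ker) := Module.Finite.equiv ψ.quotKerEquivRange.symm
  have hfin : Module.Finite L (L ⊗[K] Ω[K⁄k]) := Module.Finite.of_submodule_quotient ψ.ker
  have hK : Module.Finite K Ω[K⁄k] := Module.Finite.of_finite_tensorProduct_of_faithfullyFlat L
  refine ⟨hL, hK, h3.trans ?_⟩
  have e := ((Submodule.quotEquivOfEq _ _ (exact_mapBaseChange_map k K L).linearMap_ker_eq.symm).trans
      (LinearMap.quotKerEquivOfSurjective _ (map_surjective k K L))).finrank_eq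
  have a := ψ.range.finrank_quotient_add_finrank
  have b := ψ.finrank_range_add_finrank_ker
  have c : Module.finrank L (L ⊗[K] Ω[K⁄k]) = Module.finrank K Ω[K⁄k] := Module.finrank_baseChange
  have d : Module.finrank L (EGA41.imperfection k K L) = Module.finrank L ψ.ker := rfl
  rw [← hψ] at e
  omega

end Groth.Agent.S4526
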