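import Groth.Statements.S4527
import Mathlib

set_option autoImplicit false
universe u
open EGA41

namespace Groth.Agent.S4527

/-- Let k ⊆ k' be fields and r ≥ 0. Inside k'((T_1, …, T_r)) one has k'[[T_1, …, T_r]] ∩ k((T_1, …,
T_r)) = k[[T_1, …, T_r]]; stated as: for a, b ∈ k[[T]], if b divides a in k'[[T]] then b divides a
in k[[T]]. -/
theorem result {k k' : Type u} [Field k] [Field k'] [Algebra k k'] (r : ℕ)
    (a b : MvPowerSeries (Fin r) k)
    (h : MvPowerSeries.map (algebraMap k k') b ∣ MvPowerSeries.map (algebraMap k k') a) :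
    b ∣ a := by
  classical
  obtain ⟨c', hc'⟩ := h
  obtain ⟨π, hπ⟩ := (Algebra.linearMap k k').exists_leftInverse_of_injective
    (LinearMap.ker_eq_bot.mpr (algebraMap k k').injective)
  let c : MvPowerSeries (Fin r) k := fun d => π (MvPowerSeries.coeff d c')
  refine ⟨c, MvPowerSeries.ext fun d => ?_⟩
  have h1 := congrArg (fun f => π (MvPowerSeries.coeff d f)) hc'
  simp only [MvPowerSeries.coeff_map, MvPowerSeries.coeff_mul, map_sum] at h1
  rw [show π (algebraMap k k' (MvPowerSeries.coeff d a)) = MvPowerSeries.coeff d a from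
    LinearMap.congr_fun hπ _] at h1
  rw [h1, MvPowerSeries.coeff_mul]
  refine Finset.sum_congr rfl fun x _ => ?_
  rw [← Algebra.smul_def, map_smul, smul_eq_mul]
  rfl

end Groth.Agent.S4527
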