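import Groth.Statements.S4558
import Groth.Agent.AdicFS.Completed
import Mathlib.LinearAlgebra.TensorProduct.Quotient
import Mathlib.RingTheory.Ideal.Cotangent

set_option autoImplicit false
universe u
open EGA41

namespace Groth.Agent.S4558

/-- Let A be a discrete ring, B an adic topological A-algebra with ideal of definition 𝔫 (B separated
and complete for the 𝔫-adic topology) and B₀ = B/𝔫. If Ω_{B₀/A} and 𝔫/𝔫² are B₀-modules of finite
type, then Ω̂_{B/A}, the 𝔫-adic completion of Ω_{B/A}, is a B-module of finite type. -/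
theorem result {A B : Type u} [CommRing A] [CommRing B] [Algebra A B] (𝔫 : Ideal B)
    [IsAdicComplete 𝔫 B] [Module.Finite (B ⧸ 𝔫) (Ω[B ⧸ 𝔫⁄A])] [Module.Finite (B ⧸ 𝔫) 𝔫.Cotangent] :
    Module.Finite B (AdicCompletion 𝔫 (Ω[B⁄A])) := by
  apply Groth.Agent.AdicFS.Completed.finite_adicCompletion
  haveI : Module.Finite B (Ω[B ⧸ 𝔫⁄A]) := Module.Finite.trans (B ⧸ 𝔫) _
  haveI hc : Module.Finite B 𝔫.Cotangent := Module.Finite.trans (B ⧸ 𝔫) _
  have hker : RingHom.ker (algebraMap B (B ⧸ 𝔫)) = 𝔫 := Ideal.mk_ker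
  haveI : Module.Finite B (RingHom.ker (algebraMap B (B ⧸ 𝔫))).Cotangent := by rw [hker]; exact hc
  haveI : Module.Finite B (TensorProduct B (B ⧸ 𝔫) (Ω[B⁄A])) := by
    refine ⟨Submodule.fg_of_fg_map_of_fg_inf_ker
      ((KaehlerDifferential.mapBaseChange A B (B ⧸ 𝔫)).restrictScalars B) ?_ ?_⟩
    · rw [Submodule.map_top, (LinearMap.range_eq_top (f := (KaehlerDifferential.mapBaseChange A B (B ⧸ 𝔫)).restrictScalars B)).mpr (KaehlerDifferential.mapBaseChange_surjective A B (B ⧸ 𝔫) Ideal.Quotient.mk_surjective)]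
      exact Module.Finite.fg_top
    rw [top_inf_eq, LinearMap.ker_restrictScalars,
      ← KaehlerDifferential.range_kerCotangentToTensor A B (B ⧸ 𝔫) Ideal.Quotient.mk_surjective]
    exact LinearMap.range_eq_map (KaehlerDifferential.kerCotangentToTensor A B (B ⧸ 𝔫)) ▸
      Submodule.FG.map _ Module.Finite.fg_top
  exact Module.Finite.equiv (TensorProduct.quotTensorEquivQuotSMul (Ω[B⁄A]) 𝔫)

end Groth.Agent.S4558
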