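import Groth.Statements.S4529
import Groth.Agent.LeftInv.Basic

set_option autoImplicit false
universe u
open EGA41

namespace Groth.Agent.S4529

/-- Let A be a ring, M, N two A-modules with N projective, u : M → N a homomorphism and J an ideal of A;
suppose either (i) J is nilpotent, or (ii) J is contained in the Jacobson radical of A and M is of
finite type. Then u is left invertible if and only if the induced map u₀ : M/JM → N/JN is left
invertible. (A left inverse of u₀ composed with N → N/JN is an A-linear map v : N → M/JM with v ∘ u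
the projection, and conversely; the right-hand side is written in that form.) -/
theorem result {A : Type u} [CommRing A] {M N : Type u} [AddCommGroup M] [Module A M]
    [AddCommGroup N] [Module A N] [Module.Projective A N] (u : M →ₗ[A] N) (J : Ideal A)
    (hJ : IsNilpotent J ∨ (J ≤ (⊥ : Ideal A).jacobson ∧ Module.Finite A M)) :
    (∃ w : N →ₗ[A] M, w ∘ₗ u = LinearMap.id) ↔
      ∃ v : N →ₗ[A] M ⧸ (J • ⊤ : Submodule A M), v ∘ₗ u = (J • ⊤ : Submodule A M).mkQ := by
  refine ⟨fun ⟨w, hw⟩ => ⟨(J • ⊤ : Submodule A M).mkQ ∘ₗ w, by rw [LinearMap.comp_assoc, hw, LinearMap.comp_id]⟩, fun ⟨v, hv⟩ => ?_⟩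
  obtain ⟨w₀, hw₀⟩ := Module.projective_lifting_property (J • ⊤ : Submodule A M).mkQ v (Submodule.mkQ_surjective _)
  have he : ∀ z, z - w₀ (u z) ∈ (J • ⊤ : Submodule A M) := fun z => by
    rw [← Submodule.Quotient.eq]
    exact ((DFunLike.congr_fun hw₀ (u z)).trans (DFunLike.congr_fun hv z)).symm
  suffices hbij : Function.Bijective (w₀ ∘ₗ u) by
    refine ⟨(LinearEquiv.ofBijective (w₀ ∘ₗ u) hbij).symm.toLinearMap ∘ₗ w₀, LinearMap.ext fun z => ?_⟩
    exact (LinearEquiv.ofBijective (w₀ ∘ₗ u) hbij).symm_apply_apply z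
  rcases hJ with hnil | ⟨hjac, hfin⟩
  · let d : Module.End A M := LinearMap.id - w₀ ∘ₗ u
    have hd : ∀ i, ∀ z, (d ^ i) z ∈ (J ^ i • ⊤ : Submodule A M) := by
      intro i
      induction i with
      | zero => intro z; rw [pow_zero, pow_zero, Ideal.one_eq_top, Submodule.top_smul]; trivial
      | succ i ih =>
        intro z
        rw [pow_succ' d i, Module.End.mul_apply]
        have h1 : (J ^ i • ⊤ : Submodule A M).map d ≤ J ^ (i + 1) • ⊤ := by
          rw [Submodule.map_smul'', pow_succ, Submodule.mul_smul]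
          refine Submodule.smul_mono le_rfl ?_
          rintro _ ⟨y, -, rfl⟩
          exact he y
        exact h1 ⟨_, ih z, rfl⟩
    obtain ⟨n, hn⟩ := hnil
    have hdn : IsNilpotent d := ⟨n, LinearMap.ext fun z => by
      have h2 := hd n z
      rw [hn, Submodule.zero_eq_bot, Submodule.bot_smul, Submodule.mem_bot] at h2
      exact h2⟩
    have hu : IsUnit (w₀ ∘ₗ u : Module.End A M) := by
      have := hdn.isUnit_one_sub
      rwa [show (1 : Module.End A M) - d = w₀ ∘ₗ u from sub_sub_cancel _ _] at this
    exact (Module.End.isUnit_iff _).mp hu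
  · have hsurj : Function.Surjective (w₀ ∘ₗ u) := by
      rw [← LinearMap.range_eq_top]
      refine top_le_iff.mp (Submodule.le_of_le_smul_of_le_jacobson_bot hfin.fg_top hjac fun z _ => ?_)
      exact Submodule.mem_sup.mpr ⟨w₀ (u z), ⟨z, rfl⟩, z - w₀ (u z), he z, by abel⟩
    exact ⟨OrzechProperty.injective_of_surjective_endomorphism _ hsurj, hsurj⟩

end Groth.Agent.S4529
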