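import Groth.Statements.S4531
import Groth.Agent.LeftInv.Basic

set_option autoImplicit false
universe u
open EGA41

namespace Groth.Agent.S4531

open TensorProduct in
/-- Let A be a ring, M an A-module of finite type, N a projective A-module and u : M → N a homomorphism.
(i) u is left invertible if and only if u_𝔪 : M_𝔪 → N_𝔪 is left invertible for every maximal ideal 𝔪
of A. (ii) If A' is an A-algebra which is a faithfully flat A-module, u is left invertible if and
only if u ⊗ 1 : M ⊗_A A' → N ⊗_A A' is left invertible (as an A'-linear map). -/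
theorem result {A : Type u} [CommRing A] {M N : Type u} [AddCommGroup M] [Module A M]
    [Module.Finite A M] [AddCommGroup N] [Module A N] [Module.Projective A N] (u : M →ₗ[A] N) :
    ((∃ w : N →ₗ[A] M, w ∘ₗ u = LinearMap.id) ↔
      ∀ (m : Ideal A) [m.IsMaximal],
        ∃ w : LocalizedModule m.primeCompl N →ₗ[A] LocalizedModule m.primeCompl M,
          w ∘ₗ LocalizedModule.map m.primeCompl u = LinearMap.id) ∧
    ∀ (A' : Type u) [CommRing A'] [Algebra A A'] [Module.FaithfullyFlat A A'],
      (∃ w : N →ₗ[A] M, w ∘ₗ u = LinearMap.id) ↔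
        ∃ w : A' ⊗[A] N →ₗ[A'] A' ⊗[A] M, w ∘ₗ u.baseChange A' = LinearMap.id := by
  have key : ∀ (m : Ideal A) [m.IsMaximal], Function.Injective (u.lTensor m.ResidueField) →
      ∃ f ∉ m, ∃ w : N →ₗ[A] M, ∀ z, w (u z) = f • z := fun m _ hm =>
    Groth.Agent.LeftInv.Basic.exists_smul_eq u m hm
  refine ⟨⟨fun ⟨w, hw⟩ m _ => Groth.Agent.LeftInv.Basic.exists_localized_leftInverse _ (f := 1) (one_mem _) u w
      (fun z => by rw [one_smul]; exact DFunLike.congr_fun hw z), fun h => ?_⟩, fun A' _ _ _ => ?_⟩
  · refine Groth.Agent.LeftInv.Basic.exists_leftInverse_of_forall u fun m hm => ?_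
    obtain ⟨w, hw⟩ := h m
    exact key m (Groth.Agent.LeftInv.Basic.injective_of_localized u m _ le_rfl w hw)
  · refine ⟨fun ⟨w, hw⟩ => ⟨w.baseChange A', by rw [← LinearMap.baseChange_comp, hw, LinearMap.baseChange_id]⟩, fun ⟨w, hw⟩ => ?_⟩
    refine Groth.Agent.LeftInv.Basic.exists_leftInverse_of_forall u fun m hm => key m ?_
    rw [← Module.FaithfullyFlat.lTensor_injective_iff_injective A A']
    let e₁ := TensorProduct.leftComm A A' m.ResidueField M
    let e₂ := TensorProduct.leftComm A A' m.ResidueField N
    have hsplit : Function.Injective ((u.lTensor A').lTensor m.ResidueField) := by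
      have h2 : (w.restrictScalars A) ∘ₗ u.lTensor A' = LinearMap.id :=
        LinearMap.ext fun t => DFunLike.congr_fun hw t
      refine Function.LeftInverse.injective (g := (w.restrictScalars A).lTensor m.ResidueField) fun t => ?_
      rw [← LinearMap.comp_apply, ← LinearMap.lTensor_comp, h2, LinearMap.lTensor_id]
      rfl
    have heq : ∀ t, e₂ ((u.lTensor m.ResidueField).lTensor A' t) = (u.lTensor A').lTensor m.ResidueField (e₁ t) := by
      intro t
      induction t with
      | zero => simp
      | add a b ha hb => simp only [map_add, ha, hb]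
      | tmul r s =>
        induction s with
        | zero => simp
        | add a b ha hb => simp only [tmul_add, map_add, ha, hb]
        | tmul c z => simp [e₁, e₂]
    intro a b hab
    exact e₁.injective (hsplit ((heq a).symm.trans ((congrArg e₂ hab).trans (heq b))))

end Groth.Agent.S4531
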