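import Groth.Statements.S4539
import Groth.Agent.FieldSep.Cartier
import Groth.Agent.Nagata.CohenRing
import Mathlib

set_option autoImplicit false
universe u
open EGA41

namespace Groth.Agent.S4539

open IsLocalRing in
/-- Let A be a local ring with residue characteristic p (p = 0 or a prime), P the prime local ring ℤ_(p)
(ℚ if p = 0) and P → A its unique local homomorphism. Then A is a Cohen ring, i.e. a Cohen P-algebra
— Noetherian and complete, flat over P, with pA its maximal ideal (and residue field separable over
the prime field) — if and only if A is a field of characteristic 0 or a complete discrete valuation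
ring of residue characteristic > 0 whose maximal ideal is generated by p·1. -/
theorem result (p : ℕ) [hp : (Ideal.span {(p : ℤ)}).IsPrime]
    {A : Type} [CommRing A] [IsLocalRing A] [CharP (ResidueField A) p]
    [Algebra (Localization.AtPrime (Ideal.span {(p : ℤ)})) A]
    [IsLocalHom (algebraMap (Localization.AtPrime (Ideal.span {(p : ℤ)})) A)] :
    EGA41.IsCohenAlgebra (Localization.AtPrime (Ideal.span {(p : ℤ)})) A ↔ EGA41.IsCohenRingEGA A := by
  set P := Localization.AtPrime (Ideal.span {(p : ℤ)})
  have hP : maximalIdeal P = Ideal.span {(p : P)} := by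
    rw [← Localization.AtPrime.map_eq_maximalIdeal, Ideal.map_span, Set.image_singleton, map_natCast]
  have hmapA : (maximalIdeal P).map (algebraMap P A) = Ideal.span {(p : A)} := by
    rw [hP, Ideal.map_span, Set.image_singleton, map_natCast]
  have hpA : (p : A) ∈ maximalIdeal A := by
    rw [← IsLocalRing.residue_eq_zero_iff, map_natCast, CharP.cast_eq_zero]
  constructor
  · rintro ⟨-, hN, hC, hflat, hmax, -⟩
    rw [hmapA] at hmax
    rcases CharP.char_is_prime_or_zero (ResidueField A) p with hp' | rfl
    · refine Or.inr ?_
      haveI := hN
      haveI := hC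
      have hne : (p : P) ≠ 0 := by
        rw [← map_natCast (algebraMap ℤ P), Ne, IsLocalization.to_map_eq_zero_iff (M := (Ideal.span {(p : ℤ)}).primeCompl) P
          (Ideal.primeCompl_le_nonZeroDivisors _)]
        exact_mod_cast hp'.ne_zero
      have hnzd : (p : A) ∈ nonZeroDivisors A := by
        rw [mem_nonZeroDivisors_iff_right]
        intro x hx
        haveI : IsDomain P := IsLocalization.isDomain_localization (Ideal.primeCompl_le_nonZeroDivisors _)
        have h1 : Function.Injective fun y : A => (p : P) • y := Module.Flat.isSMulRegular_of_nonZeroDivisors (R := P) (M := A) (mem_nonZeroDivisors_of_ne_zero hne)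
        refine h1 (a₁ := x) (a₂ := 0) ?_
        show (p : P) • x = (p : P) • 0
        rw [smul_zero, Algebra.smul_def, map_natCast, mul_comm, hx]
      obtain ⟨hdom, hdvr⟩ := Groth.Agent.Nagata.CohenRing.isDVR_of_span (p : A) hmax.symm (le_nonZeroDivisors_iff_isRegular.mp (le_refl _) ⟨_, hnzd⟩)
      exact ⟨hdom, hdvr, hC, p, hp', hmax.symm⟩
    · refine Or.inl ?_
      have h0 : maximalIdeal A = ⊥ := by rw [← hmax]; simp
      refine ⟨IsLocalRing.isField_iff_maximalIdeal_eq.mpr h0, ?_⟩
      haveI : CharZero (ResidueField A) := CharP.charP_to_charZero _
      exact RingHom.charZero (residue A)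
  · intro hA
    haveI : IsNoetherianRing P := IsLocalization.isNoetherianRing (Ideal.span {(p : ℤ)}).primeCompl _ inferInstance
    have hperf : Algebra.IsGeometricallyReduced (ResidueField P) (ResidueField A) := by
      have hsurj : ∀ x : ResidueField P, ∃ a b : ℤ, x = (a : ResidueField P) / (b : ResidueField P) := by
        intro x
        obtain ⟨y, rfl⟩ := residue_surjective x
        obtain ⟨a, ⟨b, hb⟩, rfl⟩ := IsLocalization.exists_mk'_eq (Ideal.span {(p : ℤ)}).primeCompl y
        refine ⟨a, b, ?_⟩
        have hu : residue P (algebraMap ℤ P b) ≠ 0 := by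
          rw [Ne, IsLocalRing.residue_eq_zero_iff, IsLocalRing.mem_maximalIdeal, mem_nonunits_iff, not_not]
          exact IsLocalization.map_units P ⟨b, hb⟩
        have h1 := congrArg (residue P) (IsLocalization.mk'_spec P a (⟨b, hb⟩ : (Ideal.span {(p : ℤ)}).primeCompl))
        rw [map_mul] at h1
        rw [eq_comm, div_eq_iff]
        · simpa [algebraMap_int_eq] using h1.symm
        · simpa [algebraMap_int_eq] using hu
      let φ := algebraMap (ResidueField P) (ResidueField A)
      haveI : PerfectField (ResidueField P) := by
        rcases CharP.char_is_prime_or_zero (ResidueField A) p with hp' | rfl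
        · haveI := Fact.mk hp'
          haveI : CharP (ResidueField P) p := φ.charP φ.injective p
          haveI : PerfectRing (ResidueField P) p := PerfectRing.ofSurjective _ p fun x => by
            obtain ⟨a, b, rfl⟩ := hsurj x
            exact ⟨(a : ResidueField P) / b, by rw [map_div₀, map_intCast, map_intCast]⟩
          exact PerfectRing.toPerfectField _ p
        · haveI : CharZero (ResidueField A) := CharP.charP_to_charZero _
          haveI : CharZero (ResidueField P) := φ.charZero
          infer_instance
      exact (Groth.Agent.FieldSep.MacLane.formallySmooth_iff (k := ResidueField P) (K := ResidueField A)).mp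
        (Groth.Agent.FieldSep.Cartier.formallySmooth_of_perfectField _ _)
    rcases hA with ⟨hF, h0⟩ | ⟨hdom, hdvr, hC, q, hq, hm⟩
    · letI := hF.toField
      haveI : CharZero (ResidueField A) := charZero_of_injective_ringHom (residue A).injective
      obtain rfl : p = 0 := CharP.eq (ResidueField A) ‹CharP (ResidueField A) p› (CharP.ofCharZero _)
      have hPbot : maximalIdeal P = ⊥ := by rw [hP]; simp
      letI : Field P := (IsLocalRing.isField_iff_maximalIdeal_eq.mpr hPbot).toField
      have hbot : maximalIdeal A = ⊥ := IsLocalRing.maximalIdeal_eq_bot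
      refine ⟨inferInstance, inferInstance, ?_, inferInstance, ?_, hperf⟩
      · rw [hbot]; infer_instance
      · rw [hPbot, Ideal.map_bot, hbot]
    · have hqp : p = q := by
        have h1 : residue A (q : A) = 0 :=
          Ideal.Quotient.eq_zero_iff_mem.mpr (hm ▸ Ideal.mem_span_singleton_self _)
        rw [map_natCast] at h1
        haveI : CharP (ResidueField A) q := (CharP.charP_iff_prime_eq_zero hq).mpr h1
        exact CharP.eq (ResidueField A) ‹CharP (ResidueField A) p› this
      subst hqp
      haveI : IsDiscreteValuationRing P := by
        refine IsLocalization.AtPrime.isDiscreteValuationRing_of_dedekind_domain ℤ (P := Ideal.span {(p : ℤ)}) ?_ P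
        simpa using hq.ne_zero
      have hinj : Function.Injective (algebraMap P A) := by
        rw [RingHom.injective_iff_ker_eq_bot]
        by_contra hne
        haveI : (RingHom.ker (algebraMap P A)).IsPrime := RingHom.ker_isPrime _
        have hmax := IsLocalRing.eq_maximalIdeal (IsPrime.to_maximal_ideal hne)
        have h1 : (Ideal.span {(p : A)}) = ⊥ := by rw [← hmapA, Ideal.map_eq_bot_iff_le_ker, hmax]
        exact IsDiscreteValuationRing.not_a_field A (hm.trans h1)
      haveI : FaithfulSMul P A := (faithfulSMul_iff_algebraMap_injective P A).mpr hinj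
      exact ⟨inferInstance, inferInstance, hC, inferInstance, hmapA.trans hm.symm, hperf⟩

end Groth.Agent.S4539
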