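import Groth.Statements.S4541
import Groth.Agent.PBasis.Basic
import Mathlib.RingTheory.Smooth.Basic
import Mathlib.Algebra.CharP.Reduced
import Mathlib.Algebra.CharP.Lemmas

set_option autoImplicit false
universe u
open EGA41

namespace Groth.Agent.S4541

/-- Let p be a prime, A a perfect ring of characteristic p and B a reduced A-algebra of characteristic p
which admits a p-basis (x_α) over A. Then B is a formally smooth A-algebra (discrete topologies);
more precisely, for every A-algebra E, every nilpotent ideal R of E, every A-algebra homomorphism v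
: B → E/R and every family (z_α) of elements of E lifting the v(x_α), there is a unique A-algebra
homomorphism w : B → E lifting v with w(x_α) = z_α for all α. (The published statement assumes,
instead of A perfect and B reduced, that the canonical map A^(p) ⊗_A B → B^(p), a ⊗ b ↦ a b^p with
Frobenius-twisted structures, is injective; when A is perfect that condition says exactly that B is
reduced, which is the case stated here. The published statement also treats admissible topological
E; only discrete E is stated.) -/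
theorem result (p : ℕ) [Fact p.Prime] {A B : Type u} [CommRing A] [CharP A p]
    [PerfectRing A p] [CommRing B] [Algebra A B] [CharP B p] [IsReduced B]
    {ι : Type u} (x : ι → B) (hx : EGA41.IsPBasis p A x) :
    Algebra.FormallySmooth A B ∧
    ∀ (E : Type u) [CommRing E] [Algebra A E] (R : Ideal E), IsNilpotent R →
      ∀ (v : B →ₐ[A] E ⧸ R) (z : ι → E), (∀ i, Ideal.Quotient.mk R (z i) = v (x i)) →
        ∃! w : B →ₐ[A] E, (Ideal.Quotient.mkₐ A R).comp w = v ∧ ∀ i, w (x i) = z i := by
  have key : ∀ (E : Type u) [CommRing E] [Algebra A E] (R : Ideal E), IsNilpotent R →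
      ∀ (v : B →ₐ[A] E ⧸ R) (z : ι → E), (∀ i, Ideal.Quotient.mk R (z i) = v (x i)) →
        ∃! w : B →ₐ[A] E, (Ideal.Quotient.mkₐ A R).comp w = v ∧ ∀ i, w (x i) = z i := by
    intro E _ _ R hR
    revert R
    intro R hR
    refine Ideal.IsNilpotent.induction_on (S := E) R hR (P := fun {E} _ R =>
      ∀ [Algebra A E] (v : B →ₐ[A] E ⧸ R) (z : ι → E), (∀ i, Ideal.Quotient.mk R (z i) = v (x i)) →
        ∃! w : B →ₐ[A] E, (Ideal.Quotient.mkₐ A R).comp w = v ∧ ∀ i, w (x i) = z i) ?_ ?_
    · intro E _ I hI _ v z hz
      have hp0 : (p : E) = 0 := by rw [← map_natCast (algebraMap A E), CharP.cast_eq_zero, map_zero]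
      have hpow : ∀ a b : E, a - b ∈ I → a ^ p = b ^ p := fun a b h => by
        obtain ⟨r, hr⟩ := exists_add_pow_prime_eq (Fact.out : p.Prime) b (a - b)
        rw [add_sub_cancel, hp0] at hr
        have h2 : (a - b) ^ p = 0 := by
          have h3 := Ideal.pow_le_pow_right (I := I) (Fact.out : p.Prime).two_le (Ideal.pow_mem_pow h p)
          rwa [hI, Ideal.mem_bot] at h3
        rw [hr, h2]; ring
      choose l hl using fun b => Ideal.Quotient.mk_surjective (v b)
      have hsub : ∀ s : pPowerSubalgebra p A B, ∃ b : B, b ^ p = (s : B) := by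
        rintro ⟨s, hs⟩
        show ∃ b, b ^ p = s
        induction hs using Algebra.adjoin_induction with
        | mem y hy => exact hy
        | algebraMap r =>
          obtain ⟨r', hr'⟩ := surjective_frobenius A p r
          exact ⟨algebraMap A B r', by rw [← map_pow, ← frobenius_def, hr']⟩
        | add a b _ _ ha hb =>
          obtain ⟨a', rfl⟩ := ha; obtain ⟨b', rfl⟩ := hb; exact ⟨a' + b', add_pow_char _ _ _⟩
        | mul a b _ _ ha hb =>
          obtain ⟨a', rfl⟩ := ha; obtain ⟨b', rfl⟩ := hb; exact ⟨a' * b', mul_pow _ _ _⟩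
      choose g hg using hsub
      have g_eq : ∀ (s : pPowerSubalgebra p A B) (b : B), b ^ p = (s : B) → g s = b := fun s b h => by
        refine frobenius_inj B p ?_
        rw [frobenius_def, frobenius_def, hg, ← h]
      have hadd : ∀ a b : B, l (a + b) ^ p = l a ^ p + l b ^ p := fun a b => by
        rw [hpow (l (a + b)) (l a + l b) (Ideal.Quotient.eq.mp (by simp [hl]))]
        obtain ⟨r, hr⟩ := exists_add_pow_prime_eq (Fact.out : p.Prime) (l a) (l b)
        rw [hr, hp0]; ring
      have hmul : ∀ a b : B, l (a * b) ^ p = l a ^ p * l b ^ p := fun a b => by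
        rw [hpow (l (a * b)) (l a * l b) (Ideal.Quotient.eq.mp (by simp [hl])), mul_pow]
      let f : pPowerSubalgebra p A B →+* E :=
        { toFun := fun s => l (g s) ^ p
          map_one' := by
            rw [g_eq 1 1 (by simp), hpow (l 1) 1 (Ideal.Quotient.eq.mp (by simp [hl])), one_pow]
          map_mul' := fun s t => by
            rw [g_eq (s * t) (g s * g t) (by simp [mul_pow, hg]), hmul]
          map_zero' := by
            have hp1 := (Fact.out : p.Prime).ne_zero
            rw [g_eq 0 0 (by simp [hp1]), hpow (l 0) 0 (Ideal.Quotient.eq.mp (by simp [hl])),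
              zero_pow hp1]
          map_add' := fun s t => by
            rw [g_eq (s + t) (g s + g t) (by simp [add_pow_char, hg]), hadd] }
      have hf : ∀ (b : B) (s : pPowerSubalgebra p A B), b ^ p = (s : B) → f s = l b ^ p :=
        fun b s h => by show l (g s) ^ p = _; rw [g_eq s b h]
      have hzf : ∀ i, z i ^ p = f (Groth.Agent.PBasis.Basic.pw p (x i)) := fun i => by
        rw [hf (x i) _ rfl, hpow (z i) (l (x i)) (Ideal.Quotient.eq.mp (by rw [hl, hz]))]
      obtain ⟨w, ⟨hws, hwx⟩, huniq⟩ :=
        Groth.Agent.PBasis.Basic.existsUnique_ringHom p x hx f z hzf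
      have hwa : ∀ a, w (algebraMap A B a) = algebraMap A E a := fun a => by
        obtain ⟨r, rfl⟩ := surjective_frobenius A p a
        rw [hws ⟨_, Subalgebra.algebraMap_mem _ _⟩, hf (algebraMap A B r) _ (by simp [frobenius_def]),
          hpow (l (algebraMap A B r)) (algebraMap A E r)
            (Ideal.Quotient.eq.mp (by rw [hl, v.commutes]; rfl)), frobenius_def, map_pow]
      let W : B →ₐ[A] E := { w with commutes' := hwa }
      refine ⟨W, ⟨?_, hwx⟩, fun W' hW' => ?_⟩
      · have heq : (Ideal.Quotient.mk I).comp w = v.toRingHom :=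
          Groth.Agent.PBasis.Basic.ringHom_ext p x hx.2 (fun s => by
            show Ideal.Quotient.mk I (w s) = v s
            rw [hws, hf (g s) s (hg s), map_pow, hl, ← map_pow, hg]) (fun i => by
            show Ideal.Quotient.mk I (w (x i)) = v (x i)
            rw [hwx, hz])
        exact AlgHom.ext fun b => RingHom.congr_fun heq b
      · refine AlgHom.ext fun b => RingHom.congr_fun (huniq W'.toRingHom ⟨fun s => ?_, hW'.2⟩) b
        show W' s = f s
        rw [hf (g s) s (hg s), ← hg s, map_pow]
        refine hpow _ _ (Ideal.Quotient.eq.mp ?_)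
        rw [hl]
        exact DFunLike.congr_fun hW'.1 (g s)
    · intro E _ I J hIJ hI hJ _ v z hz
      obtain ⟨e, he⟩ : ∃ e : ((E ⧸ I) ⧸ J.map (Ideal.Quotient.mk I)) ≃ₐ[A] E ⧸ J,
          ∀ c : E, e (Ideal.Quotient.mk _ (Ideal.Quotient.mk I c)) = Ideal.Quotient.mk J c :=
        ⟨{ (DoubleQuot.quotQuotEquivQuotSup I J).trans (Ideal.quotEquivOfEq (sup_eq_right.mpr hIJ)) with
          commutes' := fun _ => rfl }, fun _ => rfl⟩
      obtain ⟨w₁, ⟨hw₁, hw₁x⟩, hu₁⟩ := hJ (e.symm.toAlgHom.comp v) (fun i => Ideal.Quotient.mk I (z i))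
        (fun i => e.injective (by rw [he, hz]; exact (e.apply_symm_apply _).symm))
      obtain ⟨w, ⟨hw, hwx⟩, hu⟩ := hI w₁ z (fun i => (hw₁x i).symm)
      refine ⟨w, ⟨AlgHom.ext fun b => ?_, hwx⟩, fun w' hw' => hu w' ⟨?_, hw'.2⟩⟩
      · have h1 := congrArg e (DFunLike.congr_fun hw₁ b)
        rw [AlgHom.comp_apply, AlgHom.comp_apply, ← show Ideal.Quotient.mk I (w b) = w₁ b from
          DFunLike.congr_fun hw b] at h1
        exact ((he (w b)).symm.trans h1).trans (e.apply_symm_apply _)
      · refine hu₁ _ ⟨AlgHom.ext fun b => e.injective ?_, fun i => by simp [hw'.2 i]⟩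
        exact ((he (w' b)).trans (DFunLike.congr_fun hw'.1 b)).trans (e.apply_symm_apply _).symm
  refine ⟨Algebra.FormallySmooth.of_comp_surjective fun E _ _ I hI v => ?_, key⟩
  obtain ⟨w, ⟨hw, -⟩, -⟩ := key E I ⟨2, hI⟩ v (fun i => (Ideal.Quotient.mk_surjective (v (x i))).choose)
    (fun i => (Ideal.Quotient.mk_surjective (v (x i))).choose_spec)
  exact ⟨w, hw⟩

end Groth.Agent.S4541
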