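import Groth.Statements.S4547
import Groth.Agent.LeftInv.Basic

set_option autoImplicit false
universe u
open EGA41

namespace Groth.Agent.S4547

open IsLocalRing TensorProduct in
/-- Let A be a local ring with residue field k, M an A-module of finite type, N a projective A-module
and u : M → N a homomorphism. Then u is left invertible if and only if there is a finite system of
generators (x_i) of M such that the elements 1 ⊗ u(x_i) of k ⊗_A N are linearly independent over k;
and such a system (x_i) is then a basis of M. -/
theorem result {A : Type u} [CommRing A] [IsLocalRing A] {M N : Type u}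
    [AddCommGroup M] [Module A M] [Module.Finite A M] [AddCommGroup N] [Module A N] [Module.Projective A N]
    (u : M →ₗ[A] N) :
    ((∃ w : N →ₗ[A] M, w ∘ₗ u = LinearMap.id) ↔
      ∃ (m : ℕ) (x : Fin m → M), Submodule.span A (Set.range x) = ⊤ ∧
        LinearIndependent (ResidueField A) (fun i => (1 : ResidueField A) ⊗ₜ[A] u (x i))) ∧
    ∀ (m : ℕ) (x : Fin m → M), Submodule.span A (Set.range x) = ⊤ →
      LinearIndependent (ResidueField A) (fun i => (1 : ResidueField A) ⊗ₜ[A] u (x i)) →
        ∃ b : Module.Basis (Fin m) A M, ∀ i, b i = x i := by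
  classical
  have key : ∀ (m : ℕ) (x : Fin m → M), Submodule.span A (Set.range x) = ⊤ →
      LinearIndependent (ResidueField A) (fun i => (1 : ResidueField A) ⊗ₜ[A] u (x i)) →
      (∃ w : N →ₗ[A] M, w ∘ₗ u = LinearMap.id) ∧ ∃ b : Module.Basis (Fin m) A M, ∀ i, b i = x i := by
    intro m x hspan hli
    obtain ⟨g, hg⟩ := Groth.Agent.LeftInv.Basic.exists_functionals (ResidueField A) (fun j => u (x j)) hli
    obtain ⟨w₀, hw₀⟩ := Groth.Agent.LeftInv.Basic.exists_adjugate_map u x g
    set G := Matrix.of fun i j => g i (u (x j)) with hG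
    have hGdef : ∀ i j, G i j = g i (u (x j)) := fun _ _ => rfl
    clear_value G
    have hdet : IsUnit G.det := by
      rw [← IsLocalRing.notMem_maximalIdeal]
      exact fun h => hg ((residue_eq_zero_iff _).mpr h)
    refine ⟨⟨(hdet.unit⁻¹ : Aˣ).val • w₀, LinearMap.ext fun z => ?_⟩, ?_⟩
    · have hz : z ∈ Submodule.span A (Set.range x) := hspan ▸ Submodule.mem_top
      have h2 := hw₀ z hz
      rw [LinearMap.comp_apply, LinearMap.smul_apply, h2, smul_smul, IsUnit.val_inv_mul, one_smul, LinearMap.id_apply]
    · have hlix : LinearIndependent A x := by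
        rw [Fintype.linearIndependent_iff]
        intro a ha
        have hmul : G.mulVec a = 0 := funext fun i => by
          have := congrArg (fun z => g i (u z)) ha
          simpa [Matrix.mulVec, dotProduct, hGdef, mul_comm] using this
        have h3 := congrArg (G⁻¹).mulVec hmul
        rw [Matrix.mulVec_mulVec, Matrix.nonsing_inv_mul G hdet, Matrix.one_mulVec, Matrix.mulVec_zero] at h3
        exact congrFun h3
      exact ⟨Module.Basis.mk hlix hspan.ge, fun i => by simp⟩
  refine ⟨⟨fun ⟨w, hw⟩ => ?_, fun ⟨m, x, h1, h2⟩ => (key m x h1 h2).1⟩, fun m x h1 h2 => (key m x h1 h2).2⟩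
  let b := Module.finBasis (ResidueField A) (ResidueField A ⊗[A] M)
  obtain ⟨x, hx⟩ := (TensorProduct.mk_surjective A M (ResidueField A) residue_surjective).comp_left b
  refine ⟨_, x, span_eq_top_of_tmul_eq_basis x b (congrFun hx), ?_⟩
  have hli := b.linearIndependent.map' (u.baseChange (ResidueField A)) (LinearMap.ker_eq_bot.mpr
    (Function.LeftInverse.injective (g := w.baseChange (ResidueField A)) fun t => by
      rw [← LinearMap.comp_apply, ← LinearMap.baseChange_comp, hw, LinearMap.baseChange_id]; rfl))
  rw [← hx] at hli
  exact hli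

end Groth.Agent.S4547
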