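import Groth.Statements.S4549
import Groth.Agent.PBasis.Family

set_option autoImplicit false
universe u
open EGA41

namespace Groth.Agent.S4549

open TensorProduct in
/-- Let K be a field of characteristic p, k₀ a subfield and L an extension of K such that Υ_{L/K/k₀} has
finite rank over L. Then there is a subfield k of K containing k₀(K^p), with [K : k] finite, which
is k₀-admissible for the extension L of K, i.e. such that Υ_{L/K/k₀} → Υ_{L/K/k} is injective. (The
published statement uses the characteristic exponent and so also covers characteristic 0, where k =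
K works; this row treats characteristic p > 0.) -/
theorem result (p : ℕ) [Fact p.Prime] {k₀ K L : Type u} [Field k₀] [Field K] [Field L]
    [Algebra k₀ K] [Algebra K L] [Algebra k₀ L] [IsScalarTower k₀ K L] [CharP K p]
    [Module.Finite L (EGA41.imperfection k₀ K L)] :
    ∃ k : IntermediateField k₀ K, (∀ y : K, y ^ p ∈ k) ∧ Module.Finite k K ∧
      ∀ ω ∈ EGA41.imperfection k₀ K L,
        ((KaehlerDifferential.map k₀ k K K).restrictScalars K).baseChange L ω = 0 → ω = 0 := by
  obtain ⟨J, _, _, _, k, hk, hcap, hprop⟩ := PBasis.Family.exists_cofinite_family p (k₀ := k₀) (K := K)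
  obtain ⟨i, hi⟩ := PBasis.Family.exists_admissible p k L hk hcap
  exact ⟨k i, (hprop i).1, (hprop i).2, hi⟩

end Groth.Agent.S4549
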