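import Groth.Statements.S4551
import Groth.Agent.FieldSep.MacLane
import Mathlib

set_option autoImplicit false
universe u
open EGA41

namespace Groth.Agent.S4551

/-- For every field k (any characteristic) the field of fractions k((T_1, …, T_r)) of the power series
ring k[[T_1, …, T_r]] is a separable extension of k, i.e. it is geometrically reduced over k. -/
theorem result (k : Type u) [Field k] (r : ℕ) :
    Algebra.IsGeometricallyReduced k (FractionRing (MvPowerSeries (Fin r) k)) := by
  classical
  obtain ⟨p, hp⟩ := CharP.exists k
  rcases CharP.char_is_prime_or_zero k p with hpp | rfl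
  swap
  · haveI : CharZero k := CharP.charP_to_charZero k
    exact FieldSep.MacLane.isGeometricallyReduced_of_charZero _
  haveI : Fact p.Prime := ⟨hpp⟩
  set P := MvPowerSeries (Fin r) k
  set L := FractionRing P
  -- applying a field endomorphism to the coordinates keeps independence
  have hmap : ∀ (φ : k →+* k) {I : Type u} {α : Type} [Fintype I] (v : I → α → k),
      LinearIndependent k v → LinearIndependent k (fun i a => φ (v i a)) := by
    intro φ I α _ v hv
    have hspan : Submodule.span k (Set.range fun a i => v i a) = ⊤ := by
      by_contra hne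
      obtain ⟨f, hf, hle⟩ := Submodule.exists_le_ker_of_lt_top _ (lt_top_iff_ne_top.mpr hne)
      refine hf (LinearMap.pi_ext' fun i => LinearMap.ext_ring ?_)
      have h0 : ∑ i, f (Pi.single i 1) • v i = 0 := by
        funext a
        have h1 : f (fun i => v i a) = 0 := hle (Submodule.subset_span ⟨a, rfl⟩)
        rw [← Finset.univ_sum_single (fun i => v i a), map_sum] at h1
        rw [Finset.sum_apply, Pi.zero_apply, ← h1]
        refine Finset.sum_congr rfl fun i _ => ?_
        rw [Pi.smul_apply, smul_eq_mul, mul_comm, ← smul_eq_mul, ← map_smul, ← Pi.single_smul, smul_eq_mul,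
          mul_one]
      simpa using Fintype.linearIndependent_iff.mp hv _ h0 i
    rw [Fintype.linearIndependent_iff]
    intro c hc j
    obtain ⟨t, ht⟩ := Finsupp.mem_span_range_iff_exists_finsupp.mp
      (hspan.ge (Submodule.mem_top (x := (Pi.single j 1 : I → k))))
    have h2 : ∀ i, (t.sum fun a b => φ b * φ (v i a)) = if i = j then 1 else 0 := fun i => by
      have := congrArg φ (congrFun ht i)
      rw [Finsupp.sum, Finset.sum_apply, map_sum] at this
      simpa [Finsupp.sum, Pi.single_apply, apply_ite φ] using this
    have h3 : (t.sum fun a b => φ b * ∑ i, c i * φ (v i a)) = c j := by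
      calc (t.sum fun a b => φ b * ∑ i, c i * φ (v i a))
          = ∑ i, c i * (t.sum fun a b => φ b * φ (v i a)) := by
            simp only [Finsupp.sum, Finset.mul_sum]
            rw [Finset.sum_comm]
            exact Finset.sum_congr rfl fun i _ => Finset.sum_congr rfl fun a _ => by ring
        _ = c j := by simp [h2]
    rw [← h3]
    refine Finset.sum_eq_zero fun a _ => ?_
    have := congrFun hc a
    simp only [Finset.sum_apply, Pi.smul_apply, smul_eq_mul, Pi.zero_apply] at this
    simp [this]
  refine FieldSep.MacLane.isGeometricallyReduced_of_powIndep p fun s hs => ?_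
  obtain ⟨⟨h, hh⟩, hden⟩ := IsLocalization.exist_integer_multiples_of_finset (nonZeroDivisors P) s
  choose g hg using fun j : s => hden j.1 j.2
  have hh0 : algebraMap P L h ≠ 0 := by
    rw [Ne, map_eq_zero_iff _ (IsFractionRing.injective P L)]
    exact nonZeroDivisors.ne_zero hh
  have hgli : LinearIndependent k (fun (j : s) (a : Fin r →₀ ℕ) => MvPowerSeries.coeff a (g j)) := by
    rw [Fintype.linearIndependent_iff]
    intro c hc j
    have h1 : ∑ i, c i • g i = 0 := by
      ext a
      have := congrFun hc a
      simpa [Finset.sum_apply, map_sum, MvPowerSeries.coeff_smul] using this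
    have h2 : ∑ i, c i • (i : L) = 0 := by
      refine (mul_left_cancel₀ hh0 ?_)
      rw [mul_zero, Finset.mul_sum, ← map_zero (algebraMap P L), ← h1, map_sum]
      refine Finset.sum_congr rfl fun i _ => ?_
      rw [Algebra.mul_smul_comm, ← Algebra.smul_def, ← hg, ← IsScalarTower.toAlgHom_apply k P L (c i • g i), map_smul]
      rfl
    exact Fintype.linearIndependent_iff.mp hs _ h2 j
  show LinearIndependent k (fun j : (s : Set L) => (j : L) ^ p)
  rw [Fintype.linearIndependent_iff]
  intro c hc
  haveI : ExpChar k p := ExpChar.prime hpp
  have h1 : ∑ i : s, c i • g i ^ p = 0 := by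
    refine IsFractionRing.injective P L ?_
    rw [map_sum, map_zero, ← mul_zero (algebraMap P L h ^ p), ← hc, Finset.mul_sum]
    refine Finset.sum_congr rfl fun i _ => ?_
    rw [Algebra.mul_smul_comm, ← mul_pow, ← Algebra.smul_def, ← hg, ← map_pow,
      ← IsScalarTower.toAlgHom_apply k P L (c i • g i ^ p), map_smul]
    rfl
  refine Fintype.linearIndependent_iff.mp (hmap (frobenius k p) _ hgli) _ ?_
  funext a
  have := congrArg (MvPowerSeries.coeff (p • a)) h1
  simp only [map_sum, MvPowerSeries.coeff_smul, map_zero] at this
  rw [Finset.sum_apply, Pi.zero_apply, ← this]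
  refine Finset.sum_congr rfl fun i _ => ?_
  rw [Pi.smul_apply, smul_eq_mul, frobenius_def]
  congr 1
  show _ = MvPowerSeries.coeff (p • a) (g i ^ p)
  rw [← MvPowerSeries.map_frobenius_expand p hpp.ne_zero (f := g i), MvPowerSeries.coeff_map,
    MvPowerSeries.coeff_expand_smul, frobenius_def]

end Groth.Agent.S4551
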