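import Groth.Statements.S4552


set_option autoImplicit false
universe u
open EGA41

namespace Groth.Agent.S4552

/-- For the 𝔞-adic topology on A and the deduced topology on M: the topological A-module M is formally
projective (for every open ideal 𝔞ⁿ, every pair of (A/𝔞ⁿ)-modules P, Q, every surjection P → Q and
every continuous A-linear map M → Q — here automatically continuous — there is a continuous A-linear
lift M → P) if and only if it is strictly formally projective, i.e. M/𝔞ⁿM is a projective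
(A/𝔞ⁿ)-module for every n. -/
theorem result {A : Type u} [CommRing A] (𝔞 : Ideal A) (M : Type u)
    [AddCommGroup M] [Module A M] :
    (∀ (n : ℕ) (P Q : Type u) [AddCommGroup P] [Module A P] [AddCommGroup Q] [Module A Q],
      (∀ a ∈ 𝔞 ^ n, ∀ y : P, a • y = 0) → (∀ a ∈ 𝔞 ^ n, ∀ y : Q, a • y = 0) →
      ∀ f : P →ₗ[A] Q, Function.Surjective f → ∀ v : M →ₗ[A] Q, ∃ w : M →ₗ[A] P, f ∘ₗ w = v) ↔
    ∀ n : ℕ, Module.Projective (A ⧸ 𝔞 ^ n) (M ⧸ (𝔞 ^ n • ⊤ : Submodule A M)) := by
  constructor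
  · intro h n
    refine Module.Projective.of_lifting_property fun {P Q} _ _ _ _ f g hf => ?_
    letI : Module A P := Module.compHom P (algebraMap A (A ⧸ 𝔞 ^ n))
    letI : Module A Q := Module.compHom Q (algebraMap A (A ⧸ 𝔞 ^ n))
    haveI : IsScalarTower A (A ⧸ 𝔞 ^ n) P := IsScalarTower.of_algebraMap_smul fun _ _ => rfl
    haveI : IsScalarTower A (A ⧸ 𝔞 ^ n) Q := IsScalarTower.of_algebraMap_smul fun _ _ => rfl
    have hzero : ∀ (T : Type u) [AddCommGroup T] [Module A T] [Module (A ⧸ 𝔞 ^ n) T]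
        [IsScalarTower A (A ⧸ 𝔞 ^ n) T], ∀ a ∈ 𝔞 ^ n, ∀ y : T, a • y = 0 := fun T _ _ _ _ a ha y => by
      rw [← algebraMap_smul (A ⧸ 𝔞 ^ n) a y, Ideal.Quotient.algebraMap_eq,
        Ideal.Quotient.eq_zero_iff_mem.mpr ha, zero_smul]
    obtain ⟨w, hw⟩ := h n P Q (hzero P) (hzero Q) (f.restrictScalars A) hf
      ((g.restrictScalars A) ∘ₗ Submodule.mkQ _)
    have hker : (𝔞 ^ n • ⊤ : Submodule A M) ≤ LinearMap.ker w := Submodule.smul_le.mpr fun a ha y _ => by
      rw [LinearMap.mem_ker, map_smul, hzero P a ha]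
    refine ⟨LinearMap.extendScalarsOfSurjective Ideal.Quotient.mk_surjective (Submodule.liftQ _ w hker),
      LinearMap.ext fun x => ?_⟩
    obtain ⟨x, rfl⟩ := Submodule.mkQ_surjective _ x
    exact LinearMap.congr_fun hw x
  · intro h n P Q _ _ _ _ hP hQ f hf v
    let mP : Module (A ⧸ 𝔞 ^ n) P :=
      (show Module.IsTorsionBySet A P ((𝔞 ^ n : Ideal A) : Set A) from fun y a => hP a a.2 y).module
    let mQ : Module (A ⧸ 𝔞 ^ n) Q :=
      (show Module.IsTorsionBySet A Q ((𝔞 ^ n : Ideal A) : Set A) from fun y a => hQ a a.2 y).module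
    haveI : IsScalarTower A (A ⧸ 𝔞 ^ n) P := IsScalarTower.of_algebraMap_smul fun _ _ => rfl
    haveI : IsScalarTower A (A ⧸ 𝔞 ^ n) Q := IsScalarTower.of_algebraMap_smul fun _ _ => rfl
    haveI := h n
    have hker : (𝔞 ^ n • ⊤ : Submodule A M) ≤ LinearMap.ker v := Submodule.smul_le.mpr fun a ha y _ => by
      rw [LinearMap.mem_ker, map_smul, hQ a ha]
    obtain ⟨w, hw⟩ := Module.projective_lifting_property (R := A ⧸ 𝔞 ^ n)
      (LinearMap.extendScalarsOfSurjective (S := A ⧸ 𝔞 ^ n) Ideal.Quotient.mk_surjective f)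
      (LinearMap.extendScalarsOfSurjective (S := A ⧸ 𝔞 ^ n) Ideal.Quotient.mk_surjective (Submodule.liftQ _ v hker)) hf
    exact ⟨(w.restrictScalars A) ∘ₗ Submodule.mkQ _,
      LinearMap.ext fun x => LinearMap.congr_fun hw (Submodule.mkQ _ x)⟩

end Groth.Agent.S4552
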