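import Groth.Statements.S4553
import Groth.Agent.AdicFS.Basic

set_option autoImplicit false
universe u
open EGA41

namespace Groth.Agent.S4553


theorem exists_lift_quot {A B : Type u} [CommRing A] [CommRing B] [Algebra A B] (𝔞 : Ideal A) (𝔟 : Ideal B)
    (h : EGA41.IsFormallySmoothAdic (A ⧸ 𝔞) ⊥ (B ⧸ 𝔞.map (algebraMap A B))
      (𝔟.map (Ideal.Quotient.mk (𝔞.map (algebraMap A B)))))
    {R D : Type u} [CommRing R] [CommRing D] [Algebra A R] [Algebra A D] (g : R →ₐ[A] D)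
    (hg : Function.Surjective g) (hsq : RingHom.ker g ^ 2 = ⊥)
    (hR : ∀ a ∈ 𝔞, algebraMap A R a = 0) (q : B →ₐ[A] D) (hq : ∃ m : ℕ, ∀ x ∈ 𝔟 ^ m, q x = 0) :
    ∃ s : B →ₐ[A] R, g.comp s = q := by
  obtain ⟨m, hm⟩ := hq
  have hD : ∀ a ∈ 𝔞, algebraMap A D a = 0 := fun a ha => by rw [← g.commutes, hR a ha, map_zero]
  letI : Algebra (A ⧸ 𝔞) R := (Ideal.Quotient.lift 𝔞 (algebraMap A R) hR).toAlgebra
  letI : Algebra (A ⧸ 𝔞) D := (Ideal.Quotient.lift 𝔞 (algebraMap A D) hD).toAlgebra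
  let g' : R →ₐ[A ⧸ 𝔞] D := { g.toRingHom with
    commutes' := fun r => by obtain ⟨a, rfl⟩ := Ideal.Quotient.mk_surjective r; exact g.commutes a }
  have hkill : ∀ z ∈ 𝔞.map (algebraMap A B), q z = 0 := fun z hz => by
    have h1 : (𝔞.map (algebraMap A B)).map q.toRingHom = ⊥ := by
      rw [Ideal.map_map, AlgHom.toRingHom_eq_coe, AlgHom.comp_algebraMap, Ideal.map_eq_bot_iff_le_ker]
      exact fun a ha => hD a ha
    exact Ideal.mem_bot.mp (h1 ▸ Ideal.mem_map_of_mem q.toRingHom hz)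
  let q' : (B ⧸ 𝔞.map (algebraMap A B)) →ₐ[A ⧸ 𝔞] D :=
    { Ideal.Quotient.lift _ q.toRingHom hkill with
      commutes' := fun r => by obtain ⟨a, rfl⟩ := Ideal.Quotient.mk_surjective r; exact q.commutes a }
  have hg' : Function.Surjective g' := hg
  let e := Ideal.quotientKerAlgEquivOfSurjective hg'
  obtain ⟨s, hs⟩ := h R (RingHom.ker g') ⟨2, hsq⟩ ⟨1, by rw [pow_one, Ideal.map_bot]⟩
    (e.symm.toAlgHom.comp q') ⟨m, fun x hx => by
      rw [← Ideal.map_pow] at hx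
      obtain ⟨y, hy, rfl⟩ := (Ideal.mem_map_iff_of_surjective _ Ideal.Quotient.mk_surjective).mp hx
      exact (congrArg e.symm (hm y hy)).trans (map_zero e.symm)⟩
  refine ⟨{ s.toRingHom.comp (Ideal.Quotient.mk _) with
      commutes' := fun a => s.commutes (Ideal.Quotient.mk 𝔞 a) }, AlgHom.ext fun b => ?_⟩
  exact ((Ideal.quotientKerAlgEquivOfSurjective_apply hg' (s (Ideal.Quotient.mk _ b))).symm.trans
    (congrArg e (DFunLike.congr_fun hs (Ideal.Quotient.mk _ b)))).trans (e.apply_symm_apply _)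

theorem exists_fibre {A B C : Type u} [CommRing A] [CommRing B] [CommRing C] [Algebra A B] [Algebra A C]
    (J : Ideal C) (u : B →ₐ[A] C ⧸ J) :
    ∃ (P : Type u) (_ : CommRing P) (_ : Algebra A P) (p₁ : P →ₐ[A] C) (p₂ : P →ₐ[A] B),
      (∀ x, Ideal.Quotient.mk J (p₁ x) = u (p₂ x)) ∧
      (∀ c b, Ideal.Quotient.mk J c = u b → ∃ x, p₁ x = c ∧ p₂ x = b) ∧
      (∀ x y, p₁ x = p₁ y → p₂ x = p₂ y → x = y) :=
  let P : Subalgebra A (C × B) :=
    AlgHom.equalizer ((Ideal.Quotient.mkₐ A J).comp (AlgHom.fst A C B)) (u.comp (AlgHom.snd A C B))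
  ⟨P, inferInstance, inferInstance, (AlgHom.fst A C B).comp P.val, (AlgHom.snd A C B).comp P.val,
    fun x => x.2, fun c b h => ⟨⟨(c, b), h⟩, rfl, rfl⟩, fun _ _ h1 h2 => Subtype.ext (Prod.ext h1 h2)⟩

theorem lift_core {A B : Type u} [CommRing A] [CommRing B] [Algebra A B] (𝔞 : Ideal A) (𝔟 : Ideal B)
    (hproj : ∀ (n : ℕ) (P Q : Type u) [AddCommGroup P] [Module A P] [AddCommGroup Q] [Module A Q],
      (∀ a ∈ 𝔞 ^ n, ∀ y : P, a • y = 0) → (∀ a ∈ 𝔞 ^ n, ∀ y : Q, a • y = 0) →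
      ∀ f : P →ₗ[A] Q, Function.Surjective f → ∀ v : B →ₗ[A] Q, (∃ m : ℕ, ∀ x ∈ 𝔟 ^ m, v x = 0) →
        ∃ w : B →ₗ[A] P, (∃ m : ℕ, ∀ x ∈ 𝔟 ^ m, w x = 0) ∧ f ∘ₗ w = v)
    (h : EGA41.IsFormallySmoothAdic (A ⧸ 𝔞) ⊥ (B ⧸ 𝔞.map (algebraMap A B))
      (𝔟.map (Ideal.Quotient.mk (𝔞.map (algebraMap A B)))))
    {C : Type u} [CommRing C] [Algebra A C] (J : Ideal C) (hJ : J ^ 2 = ⊥) {n : ℕ}
    (hn : (𝔞 ^ n).map (algebraMap A C) = ⊥) (hJa : ∀ a ∈ 𝔞, ∀ y ∈ J, algebraMap A C a * y = 0)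
    (u : B →ₐ[A] C ⧸ J) (hu : ∃ m : ℕ, ∀ x ∈ 𝔟 ^ m, u x = 0) :
    ∃ v : B →ₐ[A] C, (Ideal.Quotient.mkₐ A J).comp v = u := by
  have hkill : ∀ a ∈ 𝔞 ^ n, algebraMap A C a = 0 := fun a ha =>
    Ideal.mem_bot.mp (hn ▸ Ideal.mem_map_of_mem _ ha)
  obtain ⟨w, ⟨m', hm'⟩, hw⟩ := hproj n C (C ⧸ J)
    (fun a ha y => by rw [Algebra.smul_def, hkill a ha, zero_mul])
    (fun a ha y => by
      rw [Algebra.smul_def, IsScalarTower.algebraMap_apply A C (C ⧸ J), hkill a ha, map_zero, zero_mul])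
    (Ideal.Quotient.mkₐ A J).toLinearMap Ideal.Quotient.mk_surjective u.toLinearMap hu
  have hw' : ∀ b, Ideal.Quotient.mk J (w b) = u b := fun b => DFunLike.congr_fun hw b
  let 𝔠 : Ideal B := 𝔞.map (algebraMap A B) ⊔ 𝔟 ^ m'
  have key₁ : ∀ z ∈ 𝔞.map (algebraMap A B), ∀ (c : C) (d : B), Ideal.Quotient.mk J c = u d →
      c * w z = w (d * z) := by
    intro z hz
    refine Submodule.span_induction ?_ (fun c d _ => by simp) (fun x y _ _ hx hy c d hcd => by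
      rw [mul_add, map_add, map_add, mul_add, hx c d hcd, hy c d hcd]) ?_ hz
      (p := fun z _ => ∀ (c : C) (d : B), Ideal.Quotient.mk J c = u d → c * w z = w (d * z))
    · rintro _ ⟨a, ha, rfl⟩ c d hcd
      rw [Algebra.algebraMap_eq_smul_one, mul_smul_comm, map_smul, map_smul, mul_one,
        Algebra.smul_def, Algebra.smul_def, mul_left_comm, ← sub_eq_zero, ← mul_sub]
      refine hJa a ha _ (Ideal.Quotient.eq.mp ?_)
      rw [map_mul, hcd, hw', hw', map_one, mul_one]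
    · intro b z _ hz c d hcd
      rw [smul_eq_mul, ← mul_assoc, ← hz (c * w b) (d * b) (by rw [map_mul, map_mul, hcd, hw']),
        mul_assoc, hz (w b) b (hw' b)]
  have key : ∀ z ∈ 𝔠, ∀ (c : C) (d : B), Ideal.Quotient.mk J c = u d → c * w z = w (d * z) := by
    intro z hz c d hcd
    obtain ⟨z₁, hz₁, z₂, hz₂, rfl⟩ := Submodule.mem_sup.mp hz
    rw [mul_add, map_add, map_add, mul_add, hm' _ hz₂, hm' _ (Ideal.mul_mem_left _ _ hz₂), mul_zero,
      add_zero, add_zero, key₁ z₁ hz₁ c d hcd]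
  obtain ⟨P, _, _, p₁, p₂, hP, hpair, hext⟩ := exists_fibre J u
  let T : Ideal P :=
    { carrier := {x | p₂ x ∈ 𝔠 ∧ p₁ x = w (p₂ x)}
      zero_mem' := ⟨by rw [map_zero]; exact zero_mem _, by simp⟩
      add_mem' := fun {x y} hx hy => ⟨by rw [map_add]; exact add_mem hx.1 hy.1, by
        rw [map_add, map_add, map_add, hx.2, hy.2]⟩
      smul_mem' := fun x y hy => ⟨by rw [smul_eq_mul, map_mul]; exact Ideal.mul_mem_left _ _ hy.1, by
        rw [smul_eq_mul, map_mul, map_mul, hy.2, key _ hy.1 _ _ (hP x)]⟩ }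
  have hT : ∀ x y, (Ideal.Quotient.mk T x = Ideal.Quotient.mk T y) ↔
      (p₂ x - p₂ y ∈ 𝔠 ∧ p₁ x - p₁ y = w (p₂ x - p₂ y)) := fun x y => by
    rw [Ideal.Quotient.eq, ← map_sub, ← map_sub]; rfl
  have hTa : ∀ a ∈ 𝔞, algebraMap A (P ⧸ T) a = 0 := fun a ha => by
    show Ideal.Quotient.mk T (algebraMap A P a) = 0
    rw [Ideal.Quotient.eq_zero_iff_mem]
    show p₂ (algebraMap A P a) ∈ 𝔠 ∧ p₁ (algebraMap A P a) = w (p₂ (algebraMap A P a))
    rw [p₁.commutes, p₂.commutes]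
    refine ⟨Ideal.mem_sup_left (Ideal.mem_map_of_mem _ ha), ?_⟩
    rw [Algebra.algebraMap_eq_smul_one (A := B) a, map_smul, Algebra.smul_def, ← sub_eq_zero,
      ← mul_one (algebraMap A C a), mul_assoc, one_mul, ← mul_sub]
    exact hJa a ha _ (Ideal.Quotient.eq.mp (by rw [hw', map_one, map_one]))
  let π : (P ⧸ T) →ₐ[A] B ⧸ 𝔠 :=
    Ideal.Quotient.liftₐ T ((Ideal.Quotient.mkₐ A 𝔠).comp p₂)
      (fun x hx => Ideal.Quotient.eq_zero_iff_mem.mpr hx.1)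
  have hπ : Function.Surjective π := fun y => by
    obtain ⟨b, rfl⟩ := Ideal.Quotient.mk_surjective y
    obtain ⟨x, -, hx⟩ := hpair (w b) b (hw' b)
    exact ⟨Ideal.Quotient.mk T x, congrArg (Ideal.Quotient.mk 𝔠) hx⟩
  have hker : ∀ q ∈ RingHom.ker π, ∃ x, p₁ x ∈ J ∧ p₂ x = 0 ∧ q = Ideal.Quotient.mk T x := by
    intro q hq
    obtain ⟨x, rfl⟩ := Ideal.Quotient.mk_surjective q
    have hd : p₂ x ∈ 𝔠 := Ideal.Quotient.eq_zero_iff_mem.mp hq
    have hj : p₁ x - w (p₂ x) ∈ J := Ideal.Quotient.eq.mp (by rw [hw', hP])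
    obtain ⟨y, hy₁, hy₂⟩ := hpair (p₁ x - w (p₂ x)) 0
      (by rw [map_zero, Ideal.Quotient.eq_zero_iff_mem]; exact hj)
    refine ⟨y, hy₁ ▸ hj, hy₂, (hT x y).mpr ?_⟩
    rw [hy₁, hy₂, sub_zero, sub_sub_cancel]
    exact ⟨hd, rfl⟩
  have hsq : RingHom.ker π ^ 2 = ⊥ := by
    rw [pow_two, eq_bot_iff, Ideal.mul_le]
    intro x hx y hy
    obtain ⟨i, hiJ, hi, rfl⟩ := hker x hx
    obtain ⟨j, hjJ, hj, rfl⟩ := hker y hy
    rw [Ideal.mem_bot, ← map_mul, ← map_zero (Ideal.Quotient.mk T), hT, map_mul, map_mul, hi,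
      zero_mul, map_zero, map_zero, sub_zero, sub_zero, map_zero, ← Ideal.mem_bot, ← hJ, pow_two]
    exact ⟨zero_mem _, Ideal.mul_mem_mul hiJ hjJ⟩
  obtain ⟨s, hs⟩ := exists_lift_quot 𝔞 𝔟 h π hπ hsq hTa (Ideal.Quotient.mkₐ A 𝔠)
    ⟨m', fun x hx => Ideal.Quotient.eq_zero_iff_mem.mpr (Ideal.mem_sup_right hx)⟩
  have hex : ∀ b, ∃ x, p₂ x = b ∧ Ideal.Quotient.mk T x = s b := by
    intro b
    obtain ⟨x, hq⟩ := Ideal.Quotient.mk_surjective (s b)
    have h1 : π (s b) = Ideal.Quotient.mk 𝔠 b := DFunLike.congr_fun hs b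
    rw [← hq] at h1
    have hd : b - p₂ x ∈ 𝔠 := Ideal.Quotient.eq.mp h1.symm
    obtain ⟨y, hy₁, hy₂⟩ := hpair (p₁ x + w (b - p₂ x)) b
      (by rw [map_add, hw', hP, ← map_add, add_sub_cancel])
    refine ⟨y, hy₂, ?_⟩
    rw [← hq, hT, hy₁, hy₂, add_sub_cancel_left]
    exact ⟨hd, rfl⟩
  choose v hv₂ hvs using hex
  have huniq : ∀ b x, p₂ x = b → Ideal.Quotient.mk T x = s b → v b = x := by
    intro b x hx hq
    obtain ⟨-, h2⟩ := (hT (v b) x).mp ((hvs b).trans hq.symm)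
    rw [hv₂, hx, sub_self, map_zero, sub_eq_zero] at h2
    exact hext _ _ h2 (by rw [hv₂, hx])
  let V : B →ₐ[A] P :=
    { toFun := v
      map_one' := huniq 1 1 (map_one p₂) (by rw [map_one, map_one])
      map_mul' := fun x y => huniq (x * y) (v x * v y) (by rw [map_mul, hv₂, hv₂])
        (by rw [map_mul, map_mul, hvs, hvs])
      map_zero' := huniq 0 0 (map_zero p₂) (by rw [map_zero, map_zero])
      map_add' := fun x y => huniq (x + y) (v x + v y) (by rw [map_add, hv₂, hv₂])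
        (by rw [map_add, map_add, hvs, hvs])
      commutes' := fun a => huniq _ _ (p₂.commutes a) (s.commutes a).symm }
  refine ⟨p₁.comp V, AlgHom.ext fun b => ?_⟩
  show Ideal.Quotient.mk J (p₁ (v b)) = u b
  rw [hP, hv₂]

/-- Let A be 𝔞-adic (a preadmissible ring with ideal of definition 𝔞), B a topological A-algebra for the
𝔟-adic topology (a power of 𝔞 maps into 𝔟) which is a formally projective topological A-module, and
put A₀ = A/𝔞, B₀ = B/𝔞B with the quotient topologies (A₀ discrete). Then B is a formally smooth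
A-algebra if and only if B₀ is a formally smooth A₀-algebra. -/
theorem result {A B : Type u} [CommRing A] [CommRing B] [Algebra A B]
    (𝔞 : Ideal A) (𝔟 : Ideal B) (hAB : ∃ k : ℕ, (𝔞 ^ k).map (algebraMap A B) ≤ 𝔟)
    (hproj : ∀ (n : ℕ) (P Q : Type u) [AddCommGroup P] [Module A P] [AddCommGroup Q] [Module A Q],
      (∀ a ∈ 𝔞 ^ n, ∀ y : P, a • y = 0) → (∀ a ∈ 𝔞 ^ n, ∀ y : Q, a • y = 0) →
      ∀ f : P →ₗ[A] Q, Function.Surjective f → ∀ v : B →ₗ[A] Q, (∃ m : ℕ, ∀ x ∈ 𝔟 ^ m, v x = 0) →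
        ∃ w : B →ₗ[A] P, (∃ m : ℕ, ∀ x ∈ 𝔟 ^ m, w x = 0) ∧ f ∘ₗ w = v) :
    EGA41.IsFormallySmoothAdic A 𝔞 B 𝔟 ↔
      EGA41.IsFormallySmoothAdic (A ⧸ 𝔞) ⊥ (B ⧸ 𝔞.map (algebraMap A B))
        (𝔟.map (Ideal.Quotient.mk (𝔞.map (algebraMap A B)))) := by
  set 𝔠₀ := 𝔞.map (algebraMap A B) with h𝔠₀
  constructor
  · intro h C _ _ J hJ _ u ⟨m, hm⟩
    letI : Algebra A C := ((algebraMap (A ⧸ 𝔞) C).comp (Ideal.Quotient.mk 𝔞)).toAlgebra
    haveI : IsScalarTower A (A ⧸ 𝔞) C := .of_algebraMap_eq' rfl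
    have hC : ∃ k : ℕ, (𝔞 ^ k).map (algebraMap A C) = ⊥ := ⟨1, by
      rw [pow_one, IsScalarTower.algebraMap_eq A (A ⧸ 𝔞) C, ← Ideal.map_map,
        Ideal.Quotient.algebraMap_eq, Ideal.map_quotient_self, Ideal.map_bot]⟩
    obtain ⟨v, hv⟩ := h C J hJ hC ((u.restrictScalars A).comp (Ideal.Quotient.mkₐ A _))
      ⟨m, fun x hx => hm _ (by rw [← Ideal.map_pow]; exact Ideal.mem_map_of_mem _ hx)⟩
    have hker : ∀ x ∈ 𝔠₀, v x = 0 := by
      intro x hx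
      have h1 : 𝔠₀.map v.toRingHom = ⊥ := by
        rw [h𝔠₀, Ideal.map_map, AlgHom.toRingHom_eq_coe, AlgHom.comp_algebraMap,
          IsScalarTower.algebraMap_eq A (A ⧸ 𝔞) C, ← Ideal.map_map, Ideal.Quotient.algebraMap_eq,
          Ideal.map_quotient_self, Ideal.map_bot]
      exact Ideal.mem_bot.mp (h1 ▸ Ideal.mem_map_of_mem v.toRingHom hx)
    refine ⟨{ Ideal.Quotient.lift 𝔠₀ v.toRingHom hker with
        commutes' := fun r => by
          obtain ⟨a, rfl⟩ := Ideal.Quotient.mk_surjective r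
          exact v.commutes a }, AlgHom.ext fun x => ?_⟩
    obtain ⟨b, rfl⟩ := Ideal.Quotient.mk_surjective x
    exact DFunLike.congr_fun hv b
  · intro h
    rw [Groth.Agent.AdicFS.Basic.isFormallySmoothAdic_iff 𝔞 𝔟 hAB]
    intro C _ _ J hJ u hu
    obtain ⟨n, hn⟩ : ∃ n : ℕ, (𝔞 ^ n).map (algebraMap A C) = ⊥ := by
      obtain ⟨k₀, hk₀⟩ := hAB
      obtain ⟨m, hm⟩ := hu
      obtain ⟨j, hj⟩ := Groth.Agent.AdicFS.Basic.continuous_of_mk J ⟨2, hJ⟩ (algebraMap A C)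
        (I := 𝔞) (k := k₀ * m) fun a ha => by
        have h1 : algebraMap A B a ∈ 𝔟 ^ m := by
          refine Ideal.pow_right_mono hk₀ m ?_
          rw [← Ideal.map_pow, ← pow_mul]
          exact Ideal.mem_map_of_mem _ ha
        have h2 := hm _ h1
        rw [AlgHom.commutes] at h2
        exact Ideal.Quotient.eq_zero_iff_mem.mp h2
      exact ⟨j, (Ideal.map_eq_bot_iff_le_ker _).mpr hj⟩
    suffices H : ∀ i : ℕ, ∀ (C : Type u) [CommRing C] [Algebra A C] (J : Ideal C), J ^ 2 = ⊥ →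
        (𝔞 ^ n).map (algebraMap A C) = ⊥ → (𝔞 ^ i).map (algebraMap A C) * J = ⊥ →
        ∀ u : B →ₐ[A] C ⧸ J, (∃ k : ℕ, ∀ x ∈ 𝔟 ^ k, u x = 0) →
        ∃ v : B →ₐ[A] C, (Ideal.Quotient.mkₐ A J).comp v = u from
      H n C J hJ hn (by rw [hn, Ideal.bot_mul]) u hu
    clear hu u hJ J hn
    intro i
    induction i with
    | zero =>
      intro C _ _ J _ _ h0 u _
      rw [pow_zero, Ideal.one_eq_top, Ideal.map_top, Ideal.top_mul] at h0
      subst h0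
      exact ⟨(AlgEquiv.quotientBot A C).toAlgHom.comp u, AlgHom.ext fun b =>
        (AlgEquiv.quotientBot A C).symm_apply_apply (u b)⟩
    | succ i ih =>
      intro C _ _ J hJ hn hi u ⟨m, hm⟩
      let I : Ideal C := (𝔞 ^ i).map (algebraMap A C) * J
      have hIJ : I ≤ J := Ideal.mul_le_right
      obtain ⟨e, he⟩ := Groth.Agent.AdicFS.Basic.exists_comp_factor hIJ u
      have hmap : ∀ K : Ideal A, K.map (algebraMap A (C ⧸ I)) =
          (K.map (algebraMap A C)).map (Ideal.Quotient.mk I) := fun K => by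
        rw [Ideal.map_map]; rfl
      obtain ⟨v₁, hv₁⟩ := ih (C ⧸ I) (J.map (Ideal.Quotient.mk I))
        (by rw [← Ideal.map_pow, hJ, Ideal.map_bot]) (by rw [hmap, hn, Ideal.map_bot])
        (by rw [hmap, ← Ideal.map_mul]; exact Ideal.map_quotient_self I)
        (e.symm.toAlgHom.comp u) ⟨m, fun x hx => by simp [hm x hx]⟩
      have hI2 : I ^ 2 = ⊥ := eq_bot_iff.mpr ((Ideal.pow_right_mono hIJ 2).trans hJ.le)
      have hIa : ∀ a ∈ 𝔞, ∀ y ∈ I, algebraMap A C a * y = 0 := by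
        intro a ha y hy
        have h1 := Ideal.mul_mem_mul (Ideal.mem_map_of_mem (algebraMap A C) ha) hy
        rw [← mul_assoc, ← Ideal.map_mul, ← pow_succ', hi, Ideal.mem_bot] at h1
        exact h1
      have hcont : ∀ x ∈ 𝔟 ^ m, v₁ x ∈ J.map (Ideal.Quotient.mk I) := fun x hx => by
        rw [← Ideal.Quotient.eq_zero_iff_mem]
        simpa [hm x hx] using DFunLike.congr_fun hv₁ x
      obtain ⟨v, hv⟩ := lift_core 𝔞 𝔟 hproj h I hI2 hn hIa v₁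
        (Groth.Agent.AdicFS.Basic.continuous_of_mk _ ⟨2, by
          rw [← Ideal.map_pow, hJ, Ideal.map_bot]; rfl⟩ v₁.toRingHom hcont)
      refine ⟨v, AlgHom.ext fun b => ?_⟩
      have h1 : Ideal.Quotient.mk I (v b) = v₁ b := DFunLike.congr_fun hv b
      have h2 : Ideal.Quotient.mk (J.map (Ideal.Quotient.mk I)) (v₁ b) = e.symm (u b) :=
        DFunLike.congr_fun hv₁ b
      rw [← h1] at h2
      exact (he (v b)).symm.trans ((congrArg e h2).trans (e.apply_symm_apply _))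

end Groth.Agent.S4553
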