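import Groth.Statements.S4554
import Groth.Agent.AdicFS.Basic
import Mathlib.RingTheory.Flat.FaithfullyFlat.Basic
import Mathlib.RingTheory.Finiteness.Projective
import Mathlib.LinearAlgebra.TensorProduct.RightExactness

set_option autoImplicit false
universe u
open EGA41

namespace Groth.Agent.S4554

open TensorProduct in
/-- Let A be 𝔞-adic, B a topological A-algebra for the 𝔟-adic topology (a power of 𝔞 maps into 𝔟) which
is a formally projective topological A-module, and A' an A-algebra with the topology deduced from A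
(the 𝔞A'-adic topology) which is a faithfully flat, projective A-module of finite type. Then B' = A'
⊗_A B, with the tensor product topology (the adic topology of the ideal generated by the images of 𝔞
and 𝔟), is a formally smooth A'-algebra if and only if B is a formally smooth A-algebra. -/
theorem result {A B A' : Type u} [CommRing A] [CommRing B]
    [CommRing A'] [Algebra A B] [Algebra A A'] (𝔞 : Ideal A) (𝔟 : Ideal B) (hAB : ∃ k : ℕ, (𝔞 ^ k).map (algebraMap A B) ≤ 𝔟)
    (hproj : ∀ (n : ℕ) (P Q : Type u) [AddCommGroup P] [Module A P] [AddCommGroup Q] [Module A Q],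
      (∀ a ∈ 𝔞 ^ n, ∀ y : P, a • y = 0) → (∀ a ∈ 𝔞 ^ n, ∀ y : Q, a • y = 0) →
      ∀ f : P →ₗ[A] Q, Function.Surjective f → ∀ v : B →ₗ[A] Q, (∃ m : ℕ, ∀ x ∈ 𝔟 ^ m, v x = 0) →
        ∃ w : B →ₗ[A] P, (∃ m : ℕ, ∀ x ∈ 𝔟 ^ m, w x = 0) ∧ f ∘ₗ w = v)
    [Module.FaithfullyFlat A A'] [Module.Projective A A'] [Module.Finite A A'] :
    EGA41.IsFormallySmoothAdic A' (𝔞.map (algebraMap A A')) (A' ⊗[A] B)
        ((𝔞.map (algebraMap A A')).map (algebraMap A' (A' ⊗[A] B)) ⊔
          𝔟.map (Algebra.TensorProduct.includeRight : B →ₐ[A] A' ⊗[A] B).toRingHom) ↔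
      EGA41.IsFormallySmoothAdic A 𝔞 B 𝔟 := by
  obtain ⟨k₀, hk₀⟩ := hAB
  set 𝔟' : Ideal (A' ⊗[A] B) := (𝔞.map (algebraMap A A')).map (algebraMap A' (A' ⊗[A] B)) ⊔
          𝔟.map (Algebra.TensorProduct.includeRight : B →ₐ[A] A' ⊗[A] B).toRingHom with h𝔟'
  constructor
  · intro h C _ _ J hJ hC u ⟨m, hm⟩
    obtain ⟨n₀, hn₀⟩ := hC
    revert u m
    suffices H : CAlgX.IsAdicFormallySmooth A B 𝔟 by
      intro u m hm
      exact Groth.Agent.AdicFS.Basic.exists_lift H J hJ u ⟨m, hm⟩
    clear! C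
    intro C _ _ J hJ u ⟨m, hm⟩
    obtain ⟨n, hn⟩ : ∃ n : ℕ, (𝔞 ^ n).map (algebraMap A C) = ⊥ := by
      obtain ⟨j, hj⟩ := Groth.Agent.AdicFS.Basic.continuous_of_mk J ⟨2, hJ⟩ (algebraMap A C)
        (I := 𝔞) (k := k₀ * m) fun a ha => by
        have h1 : algebraMap A B a ∈ 𝔟 ^ m := by
          refine Ideal.pow_right_mono hk₀ m ?_
          rw [← Ideal.map_pow, ← pow_mul]
          exact Ideal.mem_map_of_mem _ ha
        have h2 := hm _ h1
        rw [AlgHom.commutes] at h2
        exact Ideal.Quotient.eq_zero_iff_mem.mp h2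
      exact ⟨j, (Ideal.map_eq_bot_iff_le_ker _).mpr hj⟩
    -- the retraction
    obtain ⟨r, hr⟩ : ∃ r : A' →ₗ[A] A, r 1 = 1 := by
      let T : Ideal A := LinearMap.range (LinearMap.applyₗ (R := A) (1 : A') : (A' →ₗ[A] A) →ₗ[A] A)
      suffices hT : T = ⊤ by
        obtain ⟨r, hr⟩ := (hT ▸ Submodule.mem_top : (1 : A) ∈ T)
        exact ⟨r, hr⟩
      by_contra hT
      obtain ⟨𝔪, h𝔪, hT𝔪⟩ := Ideal.exists_le_maximal T hT
      refine Module.FaithfullyFlat.submodule_ne_top (R := A) (M := A') h𝔪 (eq_top_iff.mpr ?_)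
      intro y _
      obtain ⟨d, f, g, -, -, hfg⟩ := Module.Finite.exists_comp_eq_id_of_projective A A'
      have hy : y = y * f (g 1) := by
        rw [show f (g 1) = 1 from DFunLike.congr_fun hfg 1, mul_one]
      rw [hy, LinearMap.pi_apply_eq_sum_univ f, Finset.mul_sum]
      refine sum_mem fun i _ => ?_
      rw [mul_smul_comm]
      exact Submodule.smul_mem_smul (hT𝔪 ⟨(LinearMap.proj i) ∘ₗ g, rfl⟩) trivial
    let ρ : A' ⊗[A] C →ₗ[A] C := (TensorProduct.lid A C).toLinearMap ∘ₗ r.rTensor C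
    have hρ1 : ∀ c : C, ρ (1 ⊗ₜ c) = c := fun c => by simp [ρ, hr]
    have hρmul : ∀ (t : A' ⊗[A] C) (c : C), ρ (t * (1 ⊗ₜ c)) = ρ t * c := by
      intro t c
      induction t using TensorProduct.induction_on with
      | zero => simp
      | tmul a b => simp [ρ, Algebra.TensorProduct.tmul_mul_tmul]
      | add x y hx hy => rw [add_mul, map_add, hx, hy, map_add, add_mul]
    let q : A' ⊗[A] C →ₐ[A'] A' ⊗[A] (C ⧸ J) :=
      Algebra.TensorProduct.map (AlgHom.id A' A') (Ideal.Quotient.mkₐ A J)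
    have hqs : Function.Surjective q :=
      LinearMap.lTensor_surjective A' (g := (Ideal.Quotient.mkₐ A J).toLinearMap) Ideal.Quotient.mk_surjective
    have hqρ : ∀ t, (TensorProduct.lid A (C ⧸ J)).toLinearMap (r.rTensor (C ⧸ J) (q t)) =
        Ideal.Quotient.mk J (ρ t) := by
      intro t
      induction t using TensorProduct.induction_on with
      | zero => simp
      | tmul a b => simp [ρ, q, Algebra.smul_def]
      | add x y hx hy => simp only [map_add, hx, hy]
    let I : Ideal (A' ⊗[A] C) := RingHom.ker q.toRingHom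
    have hker : I = J.map (Algebra.TensorProduct.includeRight : C →ₐ[A] A' ⊗[A] C) := by
      have := Algebra.TensorProduct.lTensor_ker (R := A) (A := A') (Ideal.Quotient.mkₐ A J)
        Ideal.Quotient.mk_surjective
      exact this.trans (by rw [show RingHom.ker (Ideal.Quotient.mkₐ A J) = J from Ideal.Quotient.mkₐ_ker A J])
    have hI : I ^ 2 = ⊥ := by rw [hker, ← Ideal.map_pow, hJ, Ideal.map_bot]
    -- the base changed map
    let u' : A' ⊗[A] B →ₐ[A'] A' ⊗[A] (C ⧸ J) := Algebra.TensorProduct.map (AlgHom.id A' A') u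
    let e := Ideal.quotientKerAlgEquivOfSurjective hqs
    have hu' : ∃ k : ℕ, ∀ x ∈ 𝔟' ^ k, (e.symm.toAlgHom.comp u') x = 0 := by
      refine ⟨n + m, fun x hx => ?_⟩
      show e.symm (u' x) = 0
      suffices u' x = 0 by rw [this, map_zero]
      have h1 : (𝔟' ^ (n + m)).map u'.toRingHom = ⊥ := by
        rw [h𝔟', Ideal.map_pow, Ideal.map_sup, eq_bot_iff]
        refine Ideal.sup_pow_add_le_pow_sup_pow.trans (sup_le ?_ ?_)
        · rw [Ideal.map_map, Ideal.map_map, ← Ideal.map_pow,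
            show (u'.toRingHom.comp (algebraMap A' (A' ⊗[A] B))).comp (algebraMap A A') =
              (Algebra.TensorProduct.includeRight : (C ⧸ J) →ₐ[A] A' ⊗[A] (C ⧸ J)).toRingHom.comp
                ((Ideal.Quotient.mk J).comp (algebraMap A C)) from RingHom.ext fun a => by
              show u' (algebraMap A' (A' ⊗[A] B) (algebraMap A A' a)) =
                Algebra.TensorProduct.includeRight (algebraMap A (C ⧸ J) a)
              rw [u'.commutes, AlgHom.commutes, ← IsScalarTower.algebraMap_apply]]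
          rw [← Ideal.map_map, ← Ideal.map_map, hn, Ideal.map_bot, Ideal.map_bot]
        · rw [Ideal.map_map, ← Ideal.map_pow, Ideal.map_le_iff_le_comap]
          intro b hb
          show u' ((1 : A') ⊗ₜ b) = 0
          simp [u', hm b hb]
      exact Ideal.mem_bot.mp (h1 ▸ Ideal.mem_map_of_mem u'.toRingHom hx)
    have hE : ∃ k : ℕ, ((𝔞.map (algebraMap A A')) ^ k).map (algebraMap A' (A' ⊗[A] C)) = ⊥ := by
      refine ⟨n, ?_⟩
      rw [← Ideal.map_pow, Ideal.map_map, ← IsScalarTower.algebraMap_eq,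
        ← (Algebra.TensorProduct.includeRight : C →ₐ[A] A' ⊗[A] C).comp_algebraMap,
        ← Ideal.map_map, hn, Ideal.map_bot]
    obtain ⟨v', hv'⟩ := h (A' ⊗[A] C) I ⟨2, hI⟩ hE (e.symm.toAlgHom.comp u') hu'
    have hqv : ∀ b, q (v' (1 ⊗ₜ b)) = (1 : A') ⊗ₜ u b := fun b => by
      have h1 := congrArg e (DFunLike.congr_fun hv' (1 ⊗ₜ b))
      have h2 : q (v' (1 ⊗ₜ b)) = u' (1 ⊗ₜ b) :=
        ((Ideal.quotientKerAlgEquivOfSurjective_apply hqs _).symm.trans h1).trans (e.apply_symm_apply _)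
      simpa [u'] using h2
    have hmk : ∀ b, Ideal.Quotient.mk J (ρ (v' (1 ⊗ₜ b))) = u b := fun b => by
      rw [← hqρ, hqv]; simp [hr]
    have hdec : ∀ b, v' (1 ⊗ₜ b) - (1 : A') ⊗ₜ ρ (v' (1 ⊗ₜ b)) ∈ I := fun b => by
      show q _ = 0
      rw [map_sub, hqv]
      simp [q, hmk]
    refine ⟨{ toFun := fun b => ρ (v' (1 ⊗ₜ b))
              map_one' := by rw [← Algebra.TensorProduct.one_def, map_one,
                Algebra.TensorProduct.one_def, hρ1]
              map_mul' := fun x y => ?_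
              map_zero' := by simp
              map_add' := fun x y => by rw [TensorProduct.tmul_add, map_add, map_add]
              commutes' := fun a => ?_ }, AlgHom.ext hmk⟩
    · rw [show (1 : A') ⊗ₜ[A] (x * y) = (1 ⊗ₜ x) * (1 ⊗ₜ y) by simp, map_mul]
      set t := v' (1 ⊗ₜ x) with ht
      set t' := v' (1 ⊗ₜ y) with ht'
      have h0 : (t - 1 ⊗ₜ ρ t) * (t' - 1 ⊗ₜ ρ t') = 0 := by
        rw [← Ideal.mem_bot, ← hI, pow_two]
        exact Ideal.mul_mem_mul (hdec x) (hdec y)
      have e1 : t * t' = t * (1 ⊗ₜ ρ t') + t' * (1 ⊗ₜ ρ t) - 1 ⊗ₜ (ρ t * ρ t') := by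
        rw [← mul_one (1 : A'), ← Algebra.TensorProduct.tmul_mul_tmul, mul_one]
        linear_combination h0
      rw [e1, map_sub, map_add, hρmul, hρmul, hρ1]
      ring
    · rw [show (1 : A') ⊗ₜ[A] algebraMap A B a = algebraMap A' (A' ⊗[A] B) (algebraMap A A' a) by
          rw [← IsScalarTower.algebraMap_apply, Algebra.TensorProduct.algebraMap_apply'], v'.commutes,
        ← IsScalarTower.algebraMap_apply, Algebra.TensorProduct.algebraMap_apply', hρ1]
  · intro h C _ _ J hJ hC u ⟨m, hm⟩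
    letI : Algebra A C := ((algebraMap A' C).comp (algebraMap A A')).toAlgebra
    haveI : IsScalarTower A A' C := .of_algebraMap_eq' rfl
    obtain ⟨n, hn⟩ := hC
    obtain ⟨v, hv⟩ := h C J hJ ⟨n, by
        rw [IsScalarTower.algebraMap_eq A A' C, ← Ideal.map_map, Ideal.map_pow, hn]⟩
      ((u.restrictScalars A).comp Algebra.TensorProduct.includeRight) ⟨m, fun x hx => hm _ (by
        rw [← Ideal.mem_comap]
        refine le_trans ?_ (Ideal.comap_mono (Ideal.pow_right_mono le_sup_right m)) hx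
        rw [← Ideal.map_pow]
        exact Ideal.le_comap_map)⟩
    refine ⟨Algebra.TensorProduct.lift (Algebra.ofId A' C) v (fun _ _ => Commute.all _ _),
      Algebra.TensorProduct.ext' fun a b => ?_⟩
    show Ideal.Quotient.mk J (Algebra.TensorProduct.lift (Algebra.ofId A' C) v (fun _ _ => Commute.all _ _) (a ⊗ₜ b)) = u (a ⊗ₜ b)
    have h1 : Ideal.Quotient.mk J (v b) = u (1 ⊗ₜ b) := DFunLike.congr_fun hv b
    rw [Algebra.TensorProduct.lift_tmul, map_mul, h1,
      show a ⊗ₜ[A] b = algebraMap A' (A' ⊗[A] B) a * (1 ⊗ₜ b) by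
        simp [Algebra.TensorProduct.algebraMap_apply], map_mul, u.commutes]
    rfl

end Groth.Agent.S4554
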