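import Groth.Statements.S4555
import Groth.Agent.CAlg48.PowerSeriesAFS
import Groth.Agent.AdicFS.LiftComplete
import Mathlib

set_option autoImplicit false
universe u
open EGA41

namespace Groth.Agent.S4555

/-- Let A carry the 𝔞-adic topology, B = A[[T_1, …, T_n]] the product topology (the adic topology of 𝔞B
+ (T_1, …, T_n)), and let E be a discrete topological A-algebra (a power of 𝔞 kills E). (i) If f : B
→ E is a continuous A-algebra homomorphism then each f(T_i) is nilpotent. (ii) Conversely, for every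
family (z_i) of nilpotent elements of E there is one and only one continuous A-algebra homomorphism
g : B → E with g(T_i) = z_i for all i. -/
theorem result (A : Type u) [CommRing A] (𝔞 : Ideal A) (n : ℕ) (E : Type u) [CommRing E]
    [Algebra A E] (hE : ∃ k : ℕ, (𝔞 ^ k).map (algebraMap A E) = ⊥) :
    (∀ f : MvPowerSeries (Fin n) A →ₐ[A] E,
      (∃ m : ℕ, ∀ x ∈ (𝔞.map (MvPowerSeries.C : A →+* MvPowerSeries (Fin n) A) ⊔
        RingHom.ker (MvPowerSeries.constantCoeff : MvPowerSeries (Fin n) A →+* A)) ^ m, f x = 0) →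
      ∀ i, IsNilpotent (f (MvPowerSeries.X i))) ∧
    ∀ z : Fin n → E, (∀ i, IsNilpotent (z i)) →
      ∃! g : MvPowerSeries (Fin n) A →ₐ[A] E,
        (∃ m : ℕ, ∀ x ∈ (𝔞.map (MvPowerSeries.C : A →+* MvPowerSeries (Fin n) A) ⊔
          RingHom.ker (MvPowerSeries.constantCoeff : MvPowerSeries (Fin n) A →+* A)) ^ m, g x = 0) ∧
        ∀ i, g (MvPowerSeries.X i) = z i := by
  classical
  set M : Ideal (MvPowerSeries (Fin n) A) := 𝔞.map (MvPowerSeries.C : A →+* MvPowerSeries (Fin n) A) ⊔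
    RingHom.ker (MvPowerSeries.constantCoeff : MvPowerSeries (Fin n) A →+* A) with hM
  have hX : ∀ i, (MvPowerSeries.X i : MvPowerSeries (Fin n) A) ∈ M := fun i =>
    Submodule.mem_sup_right (MvPowerSeries.constantCoeff_X i)
  have hspan : Ideal.span (Set.range (MvPowerSeries.X : Fin n → MvPowerSeries (Fin n) A)) ≤ M :=
    Ideal.span_le.mpr (by rintro _ ⟨i, rfl⟩; exact hX i)
  refine ⟨fun f ⟨m, hm⟩ i => ⟨m, by rw [← map_pow]; exact hm _ (Ideal.pow_mem_pow (hX i) m)⟩, fun z hz => ?_⟩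
  obtain ⟨s, hs⟩ : IsNilpotent (Ideal.span (Set.range z)) :=
    (Ideal.FG.isNilpotent_iff_le_nilradical ⟨Finset.univ.image z, by simp⟩).mpr
      (Ideal.span_le.mpr (by rintro _ ⟨i, rfl⟩; exact hz i))
  obtain ⟨k, hk⟩ := hE
  let ev : MvPolynomial (Fin n) A →ₐ[A] E := MvPolynomial.aeval z
  have hN : MvPolynomial.idealOfVars (Fin n) A ^ s ≤ RingHom.ker ev := by
    intro p hp
    have h1 : ev p ∈ Ideal.span (Set.range z) ^ s := by
      have h2 := Ideal.mem_map_of_mem ev hp
      rw [Ideal.map_pow] at h2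
      refine Ideal.pow_right_mono ?_ s h2
      rw [MvPolynomial.idealOfVars, Ideal.map_span, Ideal.span_le]
      rintro _ ⟨_, ⟨i, rfl⟩, rfl⟩
      rw [show ev (MvPolynomial.X i) = z i from MvPolynomial.aeval_X _ i]
      exact Ideal.subset_span ⟨i, rfl⟩
    rw [hs] at h1
    exact h1
  let g : MvPowerSeries (Fin n) A →ₐ[A] E := (Ideal.Quotient.liftₐ _ ev hN).comp
    ((MvPowerSeries.truncTotalAlgHom (Fin n) A s).restrictScalars A)
  have hgp : ∀ p : MvPolynomial (Fin n) A, g (p : MvPowerSeries (Fin n) A) = ev p := by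
    intro p
    show Ideal.Quotient.liftₐ _ ev hN (MvPowerSeries.truncTotalAlgHom (Fin n) A s p) = _
    have h1 := (MvPowerSeries.truncTotalAlgHom (Fin n) A s).commutes p
    rw [MvPowerSeries.algebraMap_apply'] at h1
    simp only [Algebra.algebraMap_self, MvPowerSeries.map_id, RingHom.id_apply] at h1
    rw [h1]
    rfl
  have hgX : ∀ i, g (MvPowerSeries.X i) = z i := fun i => by
    rw [← MvPolynomial.coe_X, hgp]; exact MvPolynomial.aeval_X _ i
  have hkerspan : RingHom.ker (MvPowerSeries.constantCoeff : MvPowerSeries (Fin n) A →+* A) ≤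
      Ideal.span (Set.range MvPowerSeries.X) := by
    intro φ hφ
    have h1 := CAlg48.PowerSeriesAFS.sub_truncTotal_mem φ 1
    rw [pow_one] at h1
    have h0 : (MvPowerSeries.truncTotal 1 φ : MvPolynomial (Fin n) A) = 0 := by
      refine MvPolynomial.ext _ _ fun d => ?_
      rw [MvPolynomial.coeff_zero]
      by_cases hd : d.degree < 1
      · rw [MvPowerSeries.coeff_truncTotal _ hd]
        rw [Nat.lt_one_iff, Finsupp.degree_eq_zero_iff] at hd
        rw [hd, MvPowerSeries.coeff_zero_eq_constantCoeff]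
        exact hφ
      · rw [MvPowerSeries.coeff_truncTotal_eq_zero]; omega
    simpa [h0] using h1
  let N : Ideal E := 𝔞.map (algebraMap A E) ⊔ Ideal.span (Set.range z)
  have hN' : IsNilpotent N := ⟨k * s, by
    rw [Ideal.zero_eq_bot, eq_bot_iff, pow_mul]
    refine (Ideal.pow_right_mono (AdicFS.LiftComplete.sup_pow_le (t := k) ?_) s).trans hs.le
    rw [← Ideal.map_pow, hk]; exact bot_le⟩
  have hgM : ∀ x ∈ M ^ 1, g.toRingHom x ∈ N := by
    rw [pow_one]
    intro x hx
    refine (sup_le ?_ (hkerspan.trans ?_) : M ≤ N.comap g.toRingHom) hx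
    · rw [← Ideal.map_le_iff_le_comap, Ideal.map_map]
      rw [show g.toRingHom.comp MvPowerSeries.C = algebraMap A E from g.comp_algebraMap]
      exact le_sup_left
    · rw [Ideal.span_le]
      rintro _ ⟨i, rfl⟩
      show g (MvPowerSeries.X i) ∈ N
      rw [hgX]
      exact Submodule.mem_sup_right (Ideal.subset_span ⟨i, rfl⟩)
  refine ⟨g, ⟨AdicFS.Basic.continuous_of_mk N hN' g.toRingHom hgM, hgX⟩, ?_⟩
  rintro g' ⟨⟨m, hm⟩, hg'X⟩
  obtain ⟨m', hm'⟩ := AdicFS.Basic.continuous_of_mk N hN' g.toRingHom hgM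
  refine AlgHom.ext fun φ => ?_
  have hφ : φ - ((MvPowerSeries.truncTotal (m + m') φ : MvPolynomial (Fin n) A) : MvPowerSeries (Fin n) A) ∈
      M ^ (m + m') := Ideal.pow_right_mono hspan _ (CAlg48.PowerSeriesAFS.sub_truncTotal_mem φ (m + m'))
  have h1 : g' (φ - _) = 0 := hm _ (Ideal.pow_le_pow_right (Nat.le_add_right m m') hφ)
  have h2 : g (φ - _) = 0 := hm' _ (Ideal.pow_le_pow_right (Nat.le_add_left m' m) hφ)
  rw [map_sub, sub_eq_zero] at h1 h2
  rw [h1, h2]
  have : (g'.comp (MvPolynomial.coeToMvPowerSeries.algHom A)) = g.comp (MvPolynomial.coeToMvPowerSeries.algHom A) :=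
    MvPolynomial.algHom_ext fun i => by simp [hg'X, hgX]
  simpa using DFunLike.congr_fun this (MvPowerSeries.truncTotal (m + m') φ)

end Groth.Agent.S4555
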