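import Groth.Statements.S4556
import Mathlib

set_option autoImplicit false
universe u
open EGA41

namespace Groth.Agent.S4556

/-- Let B be a formally smooth A-algebra, E and E' two A-algebras, R (resp. R') a nilpotent ideal of E
(resp. E'), f : E → E' a surjective A-algebra homomorphism with f(R) = R', and f' : E/R → E'/R' the
induced homomorphism. Let u : B → E/R be an A-algebra homomorphism and v' : B → E' an A-algebra
homomorphism through which f' ∘ u factors (v' followed by E' → E'/R' equals f' ∘ u). Then there is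
an A-algebra homomorphism v : B → E with f ∘ v = v'. (The published statement assumes only f(R) ⊆
R'; in that form it fails for B = ℚ[x, x⁻¹], E = ℚ[t], E' = ℚ[t]/(t²), R = 0, R' = (t), u : x ↦ 1
and v' : x ↦ 1 + t, since any v sends x to a unit of ℚ[t], a constant; the argument identifies R'
with the image of R, and that equality is assumed here.) -/
theorem result {A B E E' : Type u} [CommRing A] [CommRing B] [Algebra A B]
    [Algebra.FormallySmooth A B] [CommRing E] [CommRing E'] [Algebra A E] [Algebra A E']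
    (R : Ideal E) (R' : Ideal E') (hR : IsNilpotent R) (hR' : IsNilpotent R')
    (f : E →ₐ[A] E') (hf : Function.Surjective f) (hfR : R.map f.toRingHom = R')
    (u : B →ₐ[A] E ⧸ R) (v' : B →ₐ[A] E')
    (huv : (Ideal.Quotient.mkₐ A R').comp v' =
      (Ideal.quotientMapₐ R' f (fun x hx => hfR.le (Ideal.mem_map_of_mem f.toRingHom hx))).comp u) :
    ∃ v : B →ₐ[A] E, f.comp v = v' := by
  let K : Ideal E := RingHom.ker f.toRingHom ⊓ R
  have hK : IsNilpotent K := by
    obtain ⟨n, hn⟩ := hR
    exact ⟨n, le_bot_iff.mp ((Ideal.pow_right_mono inf_le_right n).trans hn.le)⟩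
  let Φ₀ : E →ₐ[A] E' × (E ⧸ R) := f.prod (Ideal.Quotient.mkₐ A R)
  let Φ : (E ⧸ K) →ₐ[A] E' × (E ⧸ R) := Ideal.Quotient.liftₐ K Φ₀ fun x hx =>
    Prod.ext hx.1 (Ideal.Quotient.eq_zero_iff_mem.mpr hx.2)
  have hΦ : Function.Injective Φ := (injective_iff_map_eq_zero _).mpr fun x hx => by
    obtain ⟨x, rfl⟩ := Ideal.Quotient.mk_surjective x
    exact Ideal.Quotient.eq_zero_iff_mem.mpr
      ⟨(congrArg Prod.fst hx : _), Ideal.Quotient.eq_zero_iff_mem.mp (congrArg Prod.snd hx : _)⟩
  have hrange : ∀ b, (v'.prod u) b ∈ Φ.range := fun b => by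
    obtain ⟨e, he⟩ := Ideal.Quotient.mk_surjective (u b)
    have h1 : f e - v' b ∈ R' := by
      rw [← Ideal.Quotient.eq]
      have := DFunLike.congr_fun huv b
      simp only [AlgHom.comp_apply, ← he] at this
      exact this.symm
    rw [← hfR, Ideal.mem_map_iff_of_surjective f.toRingHom hf] at h1
    obtain ⟨r, hr, hfr⟩ := h1
    refine ⟨Ideal.Quotient.mk K (e - r), Prod.ext ?_ ?_⟩
    · show f (e - r) = v' b
      rw [map_sub, show f r = f e - v' b from hfr, sub_sub_cancel]
    · show Ideal.Quotient.mk R (e - r) = u b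
      rw [map_sub, Ideal.Quotient.eq_zero_iff_mem.mpr hr, sub_zero, he]
  let u'' : B →ₐ[A] E ⧸ K :=
    (AlgEquiv.ofInjective Φ hΦ).symm.toAlgHom.comp ((v'.prod u).codRestrict Φ.range hrange)
  refine ⟨Algebra.FormallySmooth.lift K hK u'', AlgHom.ext fun b => ?_⟩
  have h2 : Φ (u'' b) = (v'.prod u) b :=
    congrArg Subtype.val ((AlgEquiv.ofInjective Φ hΦ).apply_symm_apply _)
  rw [← Algebra.FormallySmooth.mk_lift K hK u'' b] at h2
  exact congrArg Prod.fst h2

end Groth.Agent.S4556
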