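import Groth.Statements.S4560
import Groth.Agent.AdicFS.Completed
import Mathlib.RingTheory.Unramified.Basic

set_option autoImplicit false
universe u
open EGA41

namespace Groth.Agent.S4560

/-- Let A be a ring, 𝔪 an ideal of A, B an A-algebra; give A the 𝔪-adic topology and B the topology
deduced from it (the 𝔪B-adic topology), and put A₀ = A/𝔪, B₀ = B/𝔪B. Then B is a formally unramified
A-algebra (for these topologies: E discrete means killed by a power of 𝔪, and continuity of maps B →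
E is then automatic) if and only if Ω_{B₀/A₀} = 0, i.e. B₀ is a formally unramified A₀-algebra. -/
theorem result {A B : Type u} [CommRing A] [CommRing B] [Algebra A B] (𝔪 : Ideal A) :
    (∀ (E : Type u) [CommRing E] [Algebra A E], (∃ k : ℕ, (𝔪 ^ k).map (algebraMap A E) = ⊥) →
      ∀ J : Ideal E, IsNilpotent J → ∀ v₁ v₂ : B →ₐ[A] E,
        (∀ b : B, Ideal.Quotient.mk J (v₁ b) = Ideal.Quotient.mk J (v₂ b)) → v₁ = v₂) ↔
    Subsingleton (Ω[B ⧸ 𝔪.map (algebraMap A B)⁄A ⧸ 𝔪]) := by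
  let 𝔟 := 𝔪.map (algebraMap A B)
  have hcont : ∀ (E : Type u) [CommRing E] [Algebra A E] (k : ℕ),
      (𝔪 ^ k).map (algebraMap A E) = ⊥ → ∀ v : B →ₐ[A] E, ∀ x ∈ 𝔟 ^ k, v x = 0 := by
    intro E _ _ k hk v x hx
    have h1 : (𝔟 ^ k).map v.toRingHom = ⊥ := by
      rw [← Ideal.map_pow, Ideal.map_map, AlgHom.toRingHom_eq_coe, AlgHom.comp_algebraMap, hk]
    exact (Ideal.mem_bot).mp (h1 ▸ Ideal.mem_map_of_mem v.toRingHom hx)
  constructor
  · intro h
    refine (Algebra.formallyUnramified_iff _ _).mp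
      (Algebra.FormallyUnramified.iff_comp_injective.mpr fun E _ _ J hJ v₁ v₂ he => ?_)
    letI : Algebra A E := ((algebraMap (A ⧸ 𝔪) E).comp (Ideal.Quotient.mk 𝔪)).toAlgebra
    haveI : IsScalarTower A (A ⧸ 𝔪) E := .of_algebraMap_eq' rfl
    have hE : ∃ k : ℕ, (𝔪 ^ k).map (algebraMap A E) = ⊥ := ⟨1, by
      rw [pow_one, show algebraMap A E = (algebraMap (A ⧸ 𝔪) E).comp (Ideal.Quotient.mk 𝔪) from rfl,
        ← Ideal.map_map, Ideal.map_quotient_self, Ideal.map_bot]⟩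
    have := h E hE J ⟨2, hJ⟩
      ((v₁.restrictScalars A).comp (Ideal.Quotient.mkₐ A _))
      ((v₂.restrictScalars A).comp (Ideal.Quotient.mkₐ A _))
      (fun b => DFunLike.congr_fun he (Ideal.Quotient.mk _ b))
    refine AlgHom.ext fun x => ?_
    obtain ⟨b, rfl⟩ := Ideal.Quotient.mk_surjective x
    exact DFunLike.congr_fun this b
  · intro h E _ _ hE J hJ v₁ v₂ heq
    haveI : Algebra.FormallyUnramified (A ⧸ 𝔪) (B ⧸ 𝔟) :=
      (Algebra.formallyUnramified_iff _ _).mpr h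
    have hsm : 𝔟 • (⊤ : Submodule B (Ω[B⁄A])) = ⊤ := by
      refine Groth.Agent.AdicFS.Completed.smul_top_eq_top_of_unramified 𝔪 𝔟 (k := 1)
        (by rw [pow_one]) (fun E _ _ hE J hJ v₁ v₂ _ _ heq => ?_)
      have hz : ∀ v : B →ₐ[A] E, ∀ x ∈ 𝔟, v x = 0 := fun v x hx =>
        hcont E 1 hE v x (by rwa [pow_one])
      have h0 : ∀ a ∈ 𝔪, algebraMap A E a = 0 := fun a ha => by
        have h1 := Ideal.mem_map_of_mem (algebraMap A E) (show a ∈ 𝔪 ^ 1 by rwa [pow_one])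
        rwa [hE, Ideal.mem_bot] at h1
      letI : Algebra (A ⧸ 𝔪) E := (Ideal.Quotient.lift 𝔪 (algebraMap A E) h0).toAlgebra
      haveI : IsScalarTower A (A ⧸ 𝔪) E := .of_algebraMap_eq fun x => rfl
      let w : ∀ v : B →ₐ[A] E, (B ⧸ 𝔟) →ₐ[A ⧸ 𝔪] E := fun v =>
        { Ideal.Quotient.lift 𝔟 v.toRingHom (hz v) with
          commutes' := fun r => by
            obtain ⟨a, rfl⟩ := Ideal.Quotient.mk_surjective r
            exact v.commutes a }
      have : w v₁ = w v₂ := Algebra.FormallyUnramified.lift_unique J hJ _ _ (AlgHom.ext fun x => by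
        obtain ⟨b, rfl⟩ := Ideal.Quotient.mk_surjective x
        exact heq b)
      exact AlgHom.ext fun b => DFunLike.congr_fun this (Ideal.Quotient.mk 𝔟 b)
    obtain ⟨k, hk⟩ := hE
    exact Groth.Agent.AdicFS.Completed.unramified_of_smul_top_eq_top 𝔪 𝔟 hsm E ⟨k, hk⟩ J hJ v₁ v₂
      ⟨k, hcont E k hk v₁⟩ ⟨k, hcont E k hk v₂⟩ heq

end Groth.Agent.S4560
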