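import Groth.Statements.S4561
import Groth.Agent.PBasis.SeriesField

set_option autoImplicit false
universe u
open EGA41

namespace Groth.Agent.S4561

/-- Let k₀ be a field of characteristic p > 0 with [k₀ : k₀^p] < ∞ and K₀ an extension of k₀. Inside
K₀((T_1, …, T_r)) one has (k₀(K₀^p))((T_1, …, T_r)) = k₀(K₀^p((T_1, …, T_r))); here, for a subfield
F of K₀, F((T)) denotes the subfield of the fraction field of K₀[[T]] generated by the power series
with all coefficients in F. -/
theorem result (p : ℕ) [Fact p.Prime] {k₀ K₀ : Type u} [Field k₀] [Field K₀] [Algebra k₀ K₀] [CharP k₀ p]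
    (hfin : Module.Finite (Subfield.closure (Set.range fun x : k₀ => x ^ p)) k₀) (r : ℕ) :
    Subfield.closure (algebraMap (MvPowerSeries (Fin r) K₀) (FractionRing (MvPowerSeries (Fin r) K₀)) ''
        {f | ∀ n, MvPowerSeries.coeff n f ∈
          Subfield.closure (Set.range (algebraMap k₀ K₀) ∪ Set.range fun y : K₀ => y ^ p)}) =
      Subfield.closure
        (Set.range (algebraMap k₀ (FractionRing (MvPowerSeries (Fin r) K₀))) ∪
          (Subfield.closure (algebraMap (MvPowerSeries (Fin r) K₀) (FractionRing (MvPowerSeries (Fin r) K₀)) ''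
            {f | ∀ n, MvPowerSeries.coeff n f ∈ Subfield.closure (Set.range fun y : K₀ => y ^ p)}) :
            Set (FractionRing (MvPowerSeries (Fin r) K₀)))) := by
  classical
  set Q : Subfield K₀ := Subfield.closure (Set.range fun y : K₀ => y ^ p) with hQ
  set F := Subfield.closure (Set.range (algebraMap k₀ K₀) ∪ Set.range fun y : K₀ => y ^ p) with hF
  set P := MvPowerSeries (Fin r) K₀
  have hQF : Q ≤ F := Subfield.closure_mono Set.subset_union_right
  have hkF : ∀ c : k₀, algebraMap k₀ K₀ c ∈ F := fun c => Subfield.subset_closure (Or.inl ⟨c, rfl⟩)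
  refine le_antisymm (Subfield.closure_le.mpr ?_) (Subfield.closure_le.mpr ?_)
  swap
  · refine Set.union_subset ?_ (PBasis.SeriesField.fld_mono hQF)
    rintro _ ⟨c, rfl⟩
    refine Subfield.subset_closure ⟨algebraMap k₀ P c, fun n => ?_, (IsScalarTower.algebraMap_apply k₀ P _ c).symm⟩
    rw [MvPowerSeries.algebraMap_apply, MvPowerSeries.coeff_C]
    split
    · exact hkF c
    · exact zero_mem F
  -- `F` is spanned over `Q` by the images of a basis of `k₀` over `k₀^p`
  obtain ⟨m, a, ha⟩ := Module.Finite.exists_fin (R := Subfield.closure (Set.range fun x : k₀ => x ^ p)) (M := k₀)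
  let b : Fin m → K₀ := fun j => algebraMap k₀ K₀ (a j)
  have hk : ∀ c : k₀, algebraMap k₀ K₀ c ∈ Submodule.span Q (Set.range b) := fun c => by
    have hc : c ∈ Submodule.span (Subfield.closure (Set.range fun x : k₀ => x ^ p)) (Set.range a) := ha ▸ Submodule.mem_top
    obtain ⟨d, rfl⟩ := (Submodule.mem_span_range_iff_exists_fun _).mp hc
    rw [map_sum]
    refine sum_mem fun j _ => ?_
    have hdj : algebraMap k₀ K₀ (d j : k₀) ∈ Q :=
      (Subfield.closure_le (t := Q.comap (algebraMap k₀ K₀))).mpr (by
        rintro _ ⟨x, rfl⟩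
        exact Subfield.subset_closure ⟨algebraMap k₀ K₀ x, (map_pow _ _ _).symm⟩) (d j).2
    have e : algebraMap k₀ K₀ (d j • a j) = (⟨_, hdj⟩ : Q) • b j := map_mul _ _ _
    rw [e]
    exact Submodule.smul_mem _ _ (Submodule.subset_span ⟨j, rfl⟩)
  have hF' : ∀ x ∈ F, x ∈ Submodule.span Q (Set.range b) := by
    have hmul : ∀ x y : K₀, x ∈ Submodule.span Q (Set.range b) → y ∈ Submodule.span Q (Set.range b) →
        x * y ∈ Submodule.span Q (Set.range b) := fun x y hx hy => by
      induction hx, hy using Submodule.span_induction₂ with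
      | mem_mem u v hu hv =>
        obtain ⟨i, rfl⟩ := hu; obtain ⟨j, rfl⟩ := hv
        show algebraMap k₀ K₀ (a i) * algebraMap k₀ K₀ (a j) ∈ _
        rw [← map_mul]; exact hk _
      | zero_left u hu => simp
      | zero_right u hu => simp
      | add_left u v w _ _ _ h1 h2 => rw [add_mul]; exact add_mem h1 h2
      | add_right u v w _ _ _ h1 h2 => rw [mul_add]; exact add_mem h1 h2
      | smul_left c u v _ _ h1 => rw [smul_mul_assoc]; exact Submodule.smul_mem _ c h1
      | smul_right c u v _ _ h1 => rw [mul_smul_comm]; exact Submodule.smul_mem _ c h1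
    have hone : (1 : K₀) ∈ Submodule.span Q (Set.range b) := by simpa using hk 1
    have hQ' : ∀ y : K₀, y ^ p ∈ Submodule.span Q (Set.range b) := fun y => by
      have h1 := Submodule.smul_mem (Submodule.span Q (Set.range b)) (⟨y ^ p, Subfield.subset_closure ⟨y, rfl⟩⟩ : Q) hone
      rwa [show (⟨y ^ p, _⟩ : Q) • (1 : K₀) = y ^ p from mul_one _] at h1
    have hpow : ∀ (x : K₀) (n : ℕ), x ∈ Submodule.span Q (Set.range b) → x ^ n ∈ Submodule.span Q (Set.range b) :=
      fun x n hx => by
        induction n with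
        | zero => rwa [pow_zero]
        | succ n ih => rw [pow_succ]; exact hmul _ _ ih hx
    intro x hx
    induction hx using Subfield.closure_induction with
    | mem y hy =>
      rcases hy with ⟨c, rfl⟩ | ⟨z, rfl⟩
      · exact hk c
      · exact hQ' z
    | one => exact hone
    | add u v _ _ hu hv => exact add_mem hu hv
    | neg u _ hu => exact neg_mem hu
    | inv u _ hu =>
      rcases eq_or_ne u 0 with rfl | h0
      · simp
      · obtain ⟨n, rfl⟩ : ∃ n, p = n + 1 := ⟨p - 1, (Nat.succ_pred_eq_of_pos (Fact.out : p.Prime).pos).symm⟩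
        rw [show u⁻¹ = u ^ n * (u⁻¹) ^ (n + 1) by
          rw [pow_succ, ← mul_assoc, ← mul_pow, mul_inv_cancel₀ h0, one_pow, one_mul]]
        exact hmul _ _ (hpow u n hu) (hQ' _)
    | mul u v _ _ hu hv => exact hmul u v hu hv
  rintro _ ⟨f, hf, rfl⟩
  obtain ⟨g, hg, hgf⟩ := PBasis.SeriesField.exists_coordinates Q b (fun n => hF' _ (hf n))
  rw [← hgf, map_sum]
  refine sum_mem fun j _ => ?_
  rw [map_mul]
  refine mul_mem (Subfield.subset_closure (Or.inl ⟨a j, ?_⟩))
    (Subfield.subset_closure (Or.inr (PBasis.SeriesField.algebraMap_mem_fld _ (hg j))))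
  rw [IsScalarTower.algebraMap_apply k₀ P (FractionRing P), MvPowerSeries.algebraMap_apply]

end Groth.Agent.S4561
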