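import Groth.Statements.S4562
import Mathlib
-- import your own Groth.Agent.* helpers here

set_option autoImplicit false
universe u
open CAlg

namespace Groth.Agent.S4562

theorem finite_of_tower {A K K' N : Type u} [CommRing A] [IsDomain A] [IsNoetherianRing A]
    [Field K] [Algebra A K] [IsFractionRing A K] [Field K'] [Field N] [Algebra A K'] [Algebra K K'] [IsScalarTower A K K']
    [Algebra A N] [Algebra K' N] [IsScalarTower A K' N] [FiniteDimensional K K'] [FiniteDimensional K' N]
    [Algebra.IsSeparable K' N] (hB : Module.Finite A (integralClosure A K')) (L : Type u) [Field L] [Algebra A L]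
    (j : L →ₐ[A] N) : Module.Finite A (integralClosure A L) := by
  let B := integralClosure A K'
  haveI : Module.Finite A B := hB
  haveI : IsNoetherianRing B := IsNoetherianRing.of_finite A B
  haveI : IsFractionRing B K' := IsIntegralClosure.isFractionRing_of_finite_extension A K K' B
  haveI : IsIntegrallyClosed B := integralClosure.isIntegrallyClosedOfFiniteExtension K
  let C := integralClosure B N
  letI instAlgBC : Algebra B C := C.algebra
  haveI : Module.Finite B C := IsIntegralClosure.finite B K' N C
  haveI : Module.Finite A C := Module.Finite.trans B C
  haveI : IsNoetherian A C := isNoetherian_of_isNoetherianRing_of_finite A C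
  let f : integralClosure A L →ₗ[A] C :=
    { toFun := fun z => ⟨j z, ((z.2).map j).tower_top⟩
      map_add' := fun u v => Subtype.ext (map_add j (u : L) v)
      map_smul' := fun r u => Subtype.ext (map_smul j r (u : L)) }
  exact Module.Finite.of_injective f (fun u v huv => Subtype.ext (j.injective (congrArg Subtype.val huv)))

/-- Let A be a Noetherian domain with fraction field K. If the integral closure of A in every finite
purely inseparable extension of K is a finitely generated A-module, then A is Japanese (N-2). -/
theorem result (A : Type u) [CommRing A] [IsDomain A]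
    [IsNoetherianRing A]
    (h : ∀ (K' : Type u) [Field K'] [Algebra A K'] [Algebra (FractionRing A) K']
      [IsScalarTower A (FractionRing A) K'], FiniteDimensional (FractionRing A) K' →
      IsPurelyInseparable (FractionRing A) K' → Module.Finite A (integralClosure A K')) :
    CAlg.IsN2 A := by
  intro L _ _ _ _ hfin
  classical
  let K := FractionRing A
  let N := IntermediateField.normalClosure K L (AlgebraicClosure L)
  haveI : FiniteDimensional K N := inferInstance
  haveI : Normal K N := inferInstance
  let K' : IntermediateField K N := IntermediateField.fixedField (⊤ : Subgroup (N ≃ₐ[K] N))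
  haveI : IsGalois K' N := IsGalois.of_fixed_field N (⊤ : Subgroup (N ≃ₐ[K] N))
  haveI : IsPurelyInseparable K K' := by
    rw [isPurelyInseparable_iff_natSepDegree_eq_one]
    intro x
    have hmin : minpoly K (x : N) = minpoly K x := minpoly.algHom_eq K'.val K'.val.injective x
    rw [← hmin, Polynomial.natSepDegree_eq_of_splits _ (Normal.splits inferInstance (x : N))]
    have : ((minpoly K (x : N)).aroots N).toFinset = {(x : N)} := by
      refine Finset.eq_singleton_iff_unique_mem.mpr ⟨?_, fun y hy => ?_⟩
      · rw [Multiset.mem_toFinset, Polynomial.mem_aroots]
        exact ⟨minpoly.ne_zero (Algebra.IsIntegral.isIntegral _), minpoly.aeval K _⟩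
      · rw [Multiset.mem_toFinset, Polynomial.mem_aroots] at hy
        obtain ⟨σ, hσ⟩ := (isConjRoot_iff_exists_algEquiv).mp
          ((isConjRoot_iff_aeval_eq_zero (Algebra.IsIntegral.isIntegral (x : N))).mpr hy.2)
        have := x.2 ⟨σ.symm, Subgroup.mem_top _⟩
        have hx : σ.symm (x : N) = x := this
        rw [← hσ] at hx ⊢
        rw [σ.symm_apply_apply] at hx
        exact hx
    rw [this, Finset.card_singleton]
  haveI : IsScalarTower A K' N := IsScalarTower.of_algebraMap_eq fun r => rfl
  exact finite_of_tower (K := K) (K' := K') (N := N) (h K' inferInstance inferInstance) L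
    ((IsScalarTower.toAlgHom K L N).restrictScalars A)

end Groth.Agent.S4562
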