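import Groth.Statements.S4566
import Mathlib
import Groth.Agent.CAlgLib.N2Completion
import Groth.Agent.Nagata.CompleteLocal
-- import your own Groth.Agent.* helpers here

set_option autoImplicit false
universe u
open CAlg

namespace Groth.Agent.S4566

/-- Let A be a Noetherian local domain with fraction field K whose adic completion Â is reduced, and R
the total ring of fractions of Â with its K-algebra structure. If R is geometrically reduced over K
then A is Japanese (N-2). (The published statement asks R to be a separable K-algebra; what is used
is that K' ⊗_K R is reduced for every finite extension K' of K, which geometric reducedness gives.) -/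
theorem result {A R : Type u}
    [CommRing A] [IsDomain A] [IsLocalRing A] [IsNoetherianRing A]
    (hred : IsReduced (AdicCompletion (IsLocalRing.maximalIdeal A) A))
    [CommRing R] [Algebra (AdicCompletion (IsLocalRing.maximalIdeal A) A) R]
    [IsFractionRing (AdicCompletion (IsLocalRing.maximalIdeal A) A) R] [Algebra A R]
    [IsScalarTower A (AdicCompletion (IsLocalRing.maximalIdeal A) A) R]
    [Algebra (FractionRing A) R] [IsScalarTower A (FractionRing A) R]
    (h : Algebra.IsGeometricallyReduced (FractionRing A) R) :
    CAlg.IsN2 A := by
  haveI := h
  exact Groth.Agent.CAlgLib.N2Completion.isN2_of_geometricallyReduced A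
    (fun R _ _ _ _ => Groth.Agent.Nagata.CompleteLocal.isNagata R) R

end Groth.Agent.S4566
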