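import Groth.Statements.S4568
import Mathlib
import Groth.Agent.CAlgLib.Mori
-- import your own Groth.Agent.* helpers here

set_option autoImplicit false
universe u
open CAlg

namespace Groth.Agent.S4568

/-- Let A be a Noetherian domain with fraction field K and A' its integral closure in K. Assume that for
every sub-A-algebra C of A' which is finite over A, every height-one prime of C lies over a
height-one prime of A. Then A' is the intersection in K of the localizations A'_p over the
height-one primes p of A. -/
theorem result {A : Type u} [CommRing A] [IsDomain A] [IsNoetherianRing A]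
    (h : ∀ C : Subalgebra A (FractionRing A), C ≤ integralClosure A (FractionRing A) → Module.Finite A C →
      ∀ (q : Ideal C) [q.IsPrime], q.height = 1 → (q.comap (algebraMap A C)).height = 1) :
    (integralClosure A (FractionRing A) : Set (FractionRing A)) =
      ⋂ (p : PrimeSpectrum A) (_ : p.asIdeal.height = 1),
        {x : FractionRing A | ∃ s : A, s ∉ p.asIdeal ∧
          algebraMap A (FractionRing A) s * x ∈ integralClosure A (FractionRing A)} := by
  ext x
  simp only [Set.mem_iInter, Set.mem_setOf_eq, SetLike.mem_coe]
  constructor
  · intro hx p _
    refine ⟨1, fun h1 => p.isPrime.ne_top ((Ideal.eq_top_iff_one _).mpr h1), ?_⟩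
    rw [map_one, one_mul]; exact hx
  · intro hx
    exact Groth.Agent.CAlgLib.Mori.isIntegral_of_heightOne h x (fun p hp hp1 => hx ⟨p, hp⟩ hp1)

end Groth.Agent.S4568
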