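import Groth.Statements.S4569
import Mathlib
-- import your own Groth.Agent.* helpers here

set_option autoImplicit false
universe u
open CAlg

namespace Groth.Agent.S4569

/-- Let A be a ring, x a non-zero-divisor of A with p = xA prime. For every n > 0 the inverse image in A
of x^n A_p is x^n A. -/
theorem result {A : Type u} [CommRing A] (x : A)
    (hx : x ∈ nonZeroDivisors A) [(Ideal.span ({x} : Set A)).IsPrime] (n : ℕ) (hn : 0 < n) :
    Ideal.comap (algebraMap A (Localization.AtPrime (Ideal.span ({x} : Set A))))
      (Ideal.map (algebraMap A (Localization.AtPrime (Ideal.span ({x} : Set A)))) (Ideal.span ({x ^ n} : Set A))) =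
      Ideal.span ({x ^ n} : Set A) := by
  ext y
  rw [Ideal.mem_comap, IsLocalization.algebraMap_mem_map_algebraMap_iff (Ideal.span ({x} : Set A)).primeCompl]
  constructor
  · rintro ⟨s, hs, hsy⟩
    clear hn
    induction n generalizing y with
    | zero => simp
    | succ n ih =>
      rw [Ideal.mem_span_singleton] at hsy
      have hy : y ∈ Ideal.span ({x} : Set A) :=
        ((inferInstance : (Ideal.span ({x} : Set A)).IsPrime).mem_or_mem (Ideal.mem_span_singleton.mpr ((dvd_pow_self x n.succ_ne_zero).trans hsy))).resolve_left hs
      obtain ⟨z, rfl⟩ := Ideal.mem_span_singleton.mp hy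
      obtain ⟨c, hc⟩ := hsy
      have : s * z = x ^ n * c := by
        exact sub_eq_zero.mp (mem_nonZeroDivisors_iff_right.mp hx _ (by linear_combination hc))
      have hz := ih z (Ideal.mem_span_singleton.mpr ⟨c, this⟩)
      rw [Ideal.mem_span_singleton, pow_succ']
      exact mul_dvd_mul_left x (Ideal.mem_span_singleton.mp hz)
  · exact fun h => ⟨1, Submonoid.one_mem _, by simpa using h⟩

end Groth.Agent.S4569
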