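import Groth.Statements.S4574
import Groth.Agent.S2036
import Groth.Agent.S2453
import Groth.Agent.S4512
import Groth.Agent.CAlg48.GeomReg
import Groth.Agent.FBase.TensorAlgClosed

set_option autoImplicit false
universe u
open IsLocalRing
open EGA41

namespace Groth.Agent.S4574

/-- Let k be a field and A a Noetherian local k-algebra, formally smooth over k for its adic topology.
Then every localization A_p at a prime p is formally smooth over k for the pA_p-adic topology. -/
theorem result {k A : Type u} [Field k] [CommRing A]
    [IsLocalRing A] [IsNoetherianRing A] [Algebra k A] (h : CAlgX.IsAdicFormallySmooth k A (maximalIdeal A))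
    (p : Ideal A) [p.IsPrime] :
    CAlgX.IsAdicFormallySmooth k (Localization.AtPrime p) (maximalIdeal (Localization.AtPrime p)) := by
  have hgr : CAlg.IsGeometricallyRegular k A := (S4512.result h).1
  obtain ⟨q, hq⟩ := CharP.exists k
  rcases CharP.char_is_prime_or_zero k q with hprime | h0
  · haveI : Fact q.Prime := ⟨hprime⟩
    refine (S2036.result q).mp ?_
    intro k' _ _ hfin
    haveI := hgr k' hfin
    let Ap := Localization.AtPrime p
    letI : Algebra (TensorProduct k k' A) (TensorProduct k k' Ap) :=
      (Algebra.TensorProduct.map (AlgHom.id k k') (IsScalarTower.toAlgHom k A Ap)).toAlgebra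
    haveI : IsScalarTower k' (TensorProduct k k' A) (TensorProduct k k' Ap) :=
      .of_algebraMap_eq <| by intro; simp [RingHom.algebraMap_toAlgebra]
    haveI := IsLocalization.tensorProduct_tensorProduct_right k k' p.primeCompl Ap
      (by ext; simp [RingHom.algebraMap_toAlgebra])
    exact CAlg48.GeomReg.isRegularRing_of_isLocalization
      (p.primeCompl.map (Algebra.TensorProduct.includeRight (R := k) (A := k') (B := A))) _
  · subst h0
    haveI : CharZero k := CharP.charP_to_charZero k
    haveI : IsRegularLocalRing A := (S2471.result.mp h).1
    haveI := RegLoc.Homological.isRegularLocalRing_localization p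
    haveI : Algebra.IsGeometricallyReduced k (ResidueField (Localization.AtPrime p)) :=
      FBase.TensorAlgClosed.isGeometricallyReduced_of_perfectField
    exact (S2453.result.out 3 0).mp ‹_›

end Groth.Agent.S4574
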