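import Groth.Statements.S4578
import Groth.Agent.JacAdic16.GeomReg

set_option autoImplicit false
universe u
open IsLocalRing
open EGA41

namespace Groth.Agent.S4578

/-- Let k₀ be a field, k an extension field of k₀ which is separable (formally smooth) over k₀, C a
k-algebra of finite type and p a prime ideal of C. The following are equivalent: C_p is formally
smooth over k₀ (discrete topologies); C_p is formally smooth over k₀ for the adic topology of its
maximal ideal; C_f is formally smooth over k₀ for some f ∉ p; C_p is geometrically regular over k₀.
(The published statement adds that the set of primes p having these properties is open in Spec C;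
that openness is not stated here.) -/
theorem result {k₀ k C : Type u} [Field k₀] [Field k] [Algebra k₀ k]
    [Algebra.FormallySmooth k₀ k] [CommRing C] [Algebra k C] [Algebra k₀ C] [IsScalarTower k₀ k C]
    [Algebra.FiniteType k C]
    (p : Ideal C) [p.IsPrime] :
    [Algebra.FormallySmooth k₀ (Localization.AtPrime p),
     CAlgX.IsAdicFormallySmooth k₀ (Localization.AtPrime p) (maximalIdeal (Localization.AtPrime p)),
     ∃ f : C, f ∉ p ∧ Algebra.FormallySmooth k₀ (Localization.Away f),
     CAlg.IsGeometricallyRegular k₀ (Localization.AtPrime p)].TFAE := by
  haveI : IsNoetherianRing C := Algebra.FiniteType.isNoetherianRing k C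
  haveI : IsNoetherianRing (Localization.AtPrime p) :=
    IsLocalization.isNoetherianRing p.primeCompl _ inferInstance
  tfae_have 1 → 2 := fun h => AdicFS.Basic.of_formallySmooth _
  tfae_have 2 → 1 := JacAdic16.GeomReg.formallySmooth_atPrime_of_adic k p
  tfae_have 1 ↔ 3 := JacAdic16.GeomReg.exists_away k p
  tfae_have 2 → 4 := fun h => (S4512.result h).1
  tfae_have 4 → 2 := JacAdic16.GeomReg.adic_of_geomRegular
  tfae_finish

end Groth.Agent.S4578
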