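import Groth.Statements.S4579
import Groth.Agent.JacAdic16.GeomReg

set_option autoImplicit false
universe u
open EGA41

namespace Groth.Agent.S4579

/-- Let k₀ be a field, k a separable (formally smooth) extension field of k₀ and C a k-algebra of finite
type. The following are equivalent: C is formally smooth over k₀ (discrete topologies); every C_p, p
prime, is formally smooth over k₀; every C_m, m maximal, is; C is geometrically regular over k₀.
(Geometric regularity is tested on finite extensions of k₀. The published statement quantifies the
last condition over all extensions k' of k₀; for infinite ones the base change need not be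
Noetherian, so it need not be regular in the Noetherian sense, and the printed proof passes through
the local rings as here.) -/
theorem result {k₀ k C : Type u} [Field k₀] [Field k] [Algebra k₀ k]
    [Algebra.FormallySmooth k₀ k] [CommRing C] [Algebra k C] [Algebra k₀ C] [IsScalarTower k₀ k C]
    [Algebra.FiniteType k C] :
    [Algebra.FormallySmooth k₀ C,
     ∀ (p : Ideal C) [p.IsPrime], Algebra.FormallySmooth k₀ (Localization.AtPrime p),
     ∀ (m : Ideal C) [m.IsMaximal], Algebra.FormallySmooth k₀ (Localization.AtPrime m),
     CAlg.IsGeometricallyRegular k₀ C].TFAE := by
  haveI : IsNoetherianRing C := Algebra.FiniteType.isNoetherianRing k C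
  have hnoe : ∀ (p : Ideal C) [p.IsPrime], IsNoetherianRing (Localization.AtPrime p) := fun p _ =>
    IsLocalization.isNoetherianRing p.primeCompl _ inferInstance
  tfae_have 1 → 2 := fun h p _ => by
    haveI := h
    haveI : Algebra.FormallySmooth C (Localization.AtPrime p) :=
      Algebra.FormallySmooth.of_isLocalization p.primeCompl
    exact Algebra.FormallySmooth.comp k₀ C (Localization.AtPrime p)
  tfae_have 2 → 3 := fun h m _ => h m
  tfae_have 3 → 1 := JacAdic16.GeomReg.formallySmooth_of_forall_maximal k
  tfae_have 2 → 4 := fun h => JacAdic16.GeomReg.of_localizations fun p _ => by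
    haveI := hnoe p
    haveI := h p
    exact (S4512.result (AdicFS.Basic.of_formallySmooth _)).1
  tfae_have 4 → 2 := fun h p _ => by
    haveI := hnoe p
    exact JacAdic16.GeomReg.formallySmooth_atPrime_of_adic k p
      (JacAdic16.GeomReg.adic_of_geomRegular (JacAdic16.GeomReg.localization h p))
  tfae_finish

end Groth.Agent.S4579
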