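import Groth.Statements.S4581
import Groth.Agent.AdicFS.CompletionRel

set_option autoImplicit false
universe u
open EGA41

namespace Groth.Agent.S4581

/-- Let A₀ be a semi-local Noetherian ring, A a module-finite A₀-algebra and Â the completion of A for
the adic topology of its Jacobson radical. For the discrete topologies, Â is a formally smooth
A-algebra relative to A₀. -/
theorem result {A₀ A : Type u} [CommRing A₀]
    [IsNoetherianRing A₀] [Finite (MaximalSpectrum A₀)] [CommRing A] [Algebra A₀ A] [Module.Finite A₀ A] :
    EGA41.IsFormallySmoothRel A₀ A (AdicCompletion (Ideal.jacobson (⊥ : Ideal A)) A) := by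
  exact AdicFS.CompletionRel.isFormallySmoothRel _

end Groth.Agent.S4581
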