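import Groth.Statements.S4582
import Groth.Agent.S0598
import Groth.Agent.S9259
import Groth.Agent.AdicFlat.Fibre
import Groth.Agent.AdicFS.Basic

set_option autoImplicit false
universe u
open IsLocalRing
open EGA41

namespace Groth.Agent.S4582

/-- Let A be a complete Noetherian local ring, p a prime of A, B = A_p, B̂ the completion of B, q a
prime of B̂ and r its contraction to B. Then B̂_q is formally smooth over B_r for the adic
topologies of the maximal ideals. -/
theorem result {A : Type u} [CommRing A]
    [IsLocalRing A] [IsNoetherianRing A] [IsAdicComplete (maximalIdeal A) A] (p : Ideal A) [p.IsPrime]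
    (q : Ideal (AdicCompletion (maximalIdeal (Localization.AtPrime p)) (Localization.AtPrime p))) [q.IsPrime]
    [Algebra (Localization.AtPrime (q.comap (algebraMap (Localization.AtPrime p)
        (AdicCompletion (maximalIdeal (Localization.AtPrime p)) (Localization.AtPrime p)))))
      (Localization.AtPrime q)]
    [IsScalarTower (Localization.AtPrime p)
      (Localization.AtPrime (q.comap (algebraMap (Localization.AtPrime p)
        (AdicCompletion (maximalIdeal (Localization.AtPrime p)) (Localization.AtPrime p)))))
      (Localization.AtPrime q)] :
    EGA41.IsFormallySmoothAdic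
      (Localization.AtPrime (q.comap (algebraMap (Localization.AtPrime p)
        (AdicCompletion (maximalIdeal (Localization.AtPrime p)) (Localization.AtPrime p)))))
      (maximalIdeal _) (Localization.AtPrime q) (maximalIdeal _) := by
  set B := Localization.AtPrime p
  set T := AdicCompletion (maximalIdeal B) B
  set r := q.comap (algebraMap B T)
  haveI : IsNoetherianRing B := IsLocalization.isNoetherianRing p.primeCompl _ inferInstance
  haveI : IsNoetherianRing T :=
    RegLoc.AdicNoeth.isNoetherianRing_adicCompletion _ (IsNoetherian.noetherian _)
  haveI : IsNoetherianRing (Localization.AtPrime r) :=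
    IsLocalization.isNoetherianRing r.primeCompl _ inferInstance
  haveI : IsNoetherianRing (Localization.AtPrime q) :=
    IsLocalization.isNoetherianRing q.primeCompl _ inferInstance
  have hreg : CAlg.IsRegularHom B T := (S0598.result A).2 p
  have h1 := (S9259.result B T).1.1 hreg q
  have halg : (Localization.localRingHom r q (algebraMap B T) rfl).toAlgebra =
      ‹Algebra (Localization.AtPrime r) (Localization.AtPrime q)› := by
    refine Algebra.algebra_ext _ _ fun x => ?_
    refine DFunLike.congr_fun (IsLocalization.ringHom_ext r.primeCompl (j := Localization.localRingHom r q (algebraMap B T) rfl)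
      (k := algebraMap (Localization.AtPrime r) (Localization.AtPrime q)) (RingHom.ext fun b => ?_)) x
    show Localization.localRingHom r q (algebraMap B T) rfl (algebraMap B (Localization.AtPrime r) b) = _
    rw [Localization.localRingHom_to_map, RingHom.comp_apply, ← IsScalarTower.algebraMap_apply,
      ← IsScalarTower.algebraMap_apply]
  rw [halg] at h1
  haveI : IsLocalHom (algebraMap (Localization.AtPrime r) (Localization.AtPrime q)) := by
    rw [← halg]
    exact Localization.isLocalHom_localRingHom r q _ rfl
  haveI := h1.1
  refine AdicFS.Basic.isFormallySmoothAdic_maximalIdeal_iff.mpr ?_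
  exact AdicFlat.isAdicFormallySmooth_of_geometricallyRegular (h1.2 (maximalIdeal _)).2

end Groth.Agent.S4582
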