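import Groth.Statements.S4583
import Groth.Agent.S0598
import Groth.Agent.JacAdic16.FormalFibre

set_option autoImplicit false
universe u
open IsLocalRing
open EGA41

namespace Groth.Agent.S4583

/-- Let A be a complete Noetherian local domain with fraction field K, p a prime of A, B = A_p, q a
prime of the completion B̂ of B with q ∩ B = 0. Then B̂_q is a K-algebra formally smooth over K for
the adic topology of its maximal ideal (the published statement adds that it is then geometrically
regular over K; that consequence is not stated). -/
theorem result {A : Type u} [CommRing A]
    [IsDomain A] [IsLocalRing A] [IsNoetherianRing A] [IsAdicComplete (maximalIdeal A) A] (p : Ideal A) [p.IsPrime]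
    (q : Ideal (AdicCompletion (maximalIdeal (Localization.AtPrime p)) (Localization.AtPrime p))) [q.IsPrime]
    (hq : q.comap (algebraMap (Localization.AtPrime p)
      (AdicCompletion (maximalIdeal (Localization.AtPrime p)) (Localization.AtPrime p))) = ⊥)
    [Algebra A (Localization.AtPrime q)]
    [IsScalarTower A (AdicCompletion (maximalIdeal (Localization.AtPrime p)) (Localization.AtPrime p))
      (Localization.AtPrime q)]
    [Algebra (FractionRing A) (Localization.AtPrime q)] [IsScalarTower A (FractionRing A) (Localization.AtPrime q)] :
    CAlgX.IsAdicFormallySmooth (FractionRing A) (Localization.AtPrime q) (maximalIdeal (Localization.AtPrime q)) := by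
  haveI : IsNoetherianRing (Localization.AtPrime p) := IsLocalization.isNoetherianRing p.primeCompl _ inferInstance
  haveI : IsNoetherianRing (AdicCompletion (maximalIdeal (Localization.AtPrime p)) (Localization.AtPrime p)) :=
    RegLoc.AdicNoeth.isNoetherianRing_adicCompletion _ (IsNoetherian.noetherian _)
  have hle : p.primeCompl ≤ nonZeroDivisors A := Ideal.primeCompl_le_nonZeroDivisors p
  letI algK : Algebra (Localization.AtPrime p) (FractionRing A) :=
    (IsLocalization.lift (M := p.primeCompl) (g := algebraMap A (FractionRing A))
      fun y => IsLocalization.map_units (FractionRing A) (⟨y.1, hle y.2⟩ : nonZeroDivisors A)).toAlgebra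
  haveI : IsScalarTower A (Localization.AtPrime p) (FractionRing A) :=
    .of_algebraMap_eq fun a => (IsLocalization.lift_eq _ a).symm
  haveI : IsFractionRing (Localization.AtPrime p) (FractionRing A) :=
    IsFractionRing.isFractionRing_of_isDomain_of_isLocalization p.primeCompl _ _
  haveI : IsScalarTower (Localization.AtPrime p) (FractionRing A) (Localization.AtPrime q) :=
    .of_algebraMap_eq' (IsLocalization.ringHom_ext p.primeCompl (RingHom.ext fun a => by
      have h1 := smul_assoc a (1 : FractionRing A) (1 : Localization.AtPrime q)
      have h2 := smul_assoc a (1 : AdicCompletion (maximalIdeal (Localization.AtPrime p)) (Localization.AtPrime p))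
        (1 : Localization.AtPrime q)
      rw [one_smul, Algebra.smul_def, mul_one, Algebra.smul_def, mul_one] at h1
      rw [one_smul, Algebra.smul_def, mul_one, Algebra.smul_def, mul_one] at h2
      have e1 : algebraMap (FractionRing A) (Localization.AtPrime q) (algebraMap A (FractionRing A) a) =
          algebraMap (AdicCompletion (maximalIdeal (Localization.AtPrime p)) (Localization.AtPrime p)) (Localization.AtPrime q)
            (algebraMap A (AdicCompletion (maximalIdeal (Localization.AtPrime p)) (Localization.AtPrime p)) a) :=
        h1.trans h2.symm
      have e3 : algebraMap A (FractionRing A) a = algebraMap (Localization.AtPrime p) (FractionRing A)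
          (algebraMap A (Localization.AtPrime p) a) := (IsLocalization.lift_eq _ a).symm
      rw [RingHom.comp_apply, RingHom.comp_apply, RingHom.comp_apply, ← e3, e1]
      rfl))
  exact JacAdic16.FormalFibre.adic_fractionRing_of_isRegularHom ((S0598.result A).2 p) q hq

end Groth.Agent.S4583
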