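import Groth.Statements.S4587
import Mathlib

set_option autoImplicit false
universe u
open AlgebraicGeometry CategoryTheory
open EGA41

namespace Groth.Agent.S4587

/-- A morphism of schemes f : X → Y is generizing if and only if, for every irreducible closed subset Y'
of Y, each irreducible component of f⁻¹(Y') has dense image in Y'. -/
theorem result {X Y : Scheme.{u}} (f : X ⟶ Y) :
    GeneralizingMap f.base ↔
      ∀ Y' : Set Y, IsClosed Y' → IsIrreducible Y' →
        ∀ Z ∈ irreducibleComponents ↥(f.base ⁻¹' Y'), closure (f.base '' (Subtype.val '' Z)) = Y' := by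
  constructor
  · intro hf Y' hY' hirr Z hZ
    have hZc : IsClosed (Subtype.val '' Z : Set X) :=
      (hY'.preimage f.continuous).isClosedMap_subtype_val _ (isClosed_of_mem_irreducibleComponents Z hZ)
    have hZi : IsIrreducible (Subtype.val '' Z : Set X) := hZ.1.image _ continuous_subtype_val.continuousOn
    have hz := hZi.isGenericPoint_genericPoint hZc
    set z := hZi.genericPoint
    obtain ⟨z0, hz0, hz0e⟩ := hz.mem
    have hη := hirr.isGenericPoint_genericPoint hY'
    set η := hirr.genericPoint
    have hzY : f.base z ∈ Y' := hz0e ▸ z0.2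
    obtain ⟨w, hw, hwη⟩ := hf (hη.specializes hzY)
    have hwS : w ∈ f.base ⁻¹' Y' := show f.base w ∈ Y' from hwη ▸ hη.mem
    have hsub : closure ({w} : Set X) ⊆ f.base ⁻¹' Y' := closure_minimal (Set.singleton_subset_iff.mpr hwS) (hY'.preimage f.continuous)
    have hwi : IsIrreducible (Subtype.val ⁻¹' closure ({w} : Set X) : Set ↥(f.base ⁻¹' Y')) := by
      have : (Subtype.val ⁻¹' closure ({w} : Set X) : Set ↥(f.base ⁻¹' Y')) = closure {⟨w, hwS⟩} := by
        rw [Topology.IsInducing.subtypeVal.closure_eq_preimage_closure_image, Set.image_singleton]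
      rw [this]
      exact isIrreducible_singleton.closure
    have hle : Z ⊆ (Subtype.val ⁻¹' closure ({w} : Set X) : Set ↥(f.base ⁻¹' Y')) := fun a ha => by
      have h1 : (a : X) ∈ closure ({z} : Set X) := hz.def ▸ ⟨a, ha, rfl⟩
      exact closure_minimal (Set.singleton_subset_iff.mpr hw.mem_closure) isClosed_closure h1
    have hwZ : w ∈ (Subtype.val '' Z : Set X) :=
      ⟨⟨w, hwS⟩, hZ.2 hwi hle (subset_closure rfl : w ∈ closure ({w} : Set X)), rfl⟩
    refine subset_antisymm (closure_minimal ?_ hY') ?_
    · rintro _ ⟨_, ⟨a, -, rfl⟩, rfl⟩; exact a.2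
    · intro y hy
      have hmem : η ∈ f.base '' (Subtype.val '' Z) := ⟨w, hwZ, hwη⟩
      exact closure_mono (Set.singleton_subset_iff.mpr hmem) (hη.def.ge hy)
  · intro h x y' hy'
    have hxS : f.base x ∈ closure ({y'} : Set Y) := hy'.mem_closure
    obtain ⟨Z, hZ, hxZ⟩ := exists_mem_irreducibleComponents_subset_of_isIrreducible
      ({⟨x, hxS⟩} : Set ↥(f.base ⁻¹' closure ({y'} : Set Y))) isIrreducible_singleton
    have hd := h _ isClosed_closure isIrreducible_singleton.closure Z hZ
    have hZc : IsClosed (Subtype.val '' Z : Set X) :=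
      (isClosed_closure.preimage f.continuous).isClosedMap_subtype_val _ (isClosed_of_mem_irreducibleComponents Z hZ)
    have hZi : IsIrreducible (Subtype.val '' Z : Set X) := hZ.1.image _ continuous_subtype_val.continuousOn
    have hz := hZi.isGenericPoint_genericPoint hZc
    refine ⟨_, hz.specializes ⟨⟨x, hxS⟩, hxZ rfl, rfl⟩, ?_⟩
    have h1 := hz.image f.continuous
    rw [hd] at h1
    exact h1.eq isGenericPoint_closure

end Groth.Agent.S4587
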