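import Groth.Statements.S4588
import Groth.Agent.RegLoc.Homological
import Groth.Agent.FlatMisc.FibreDimOpen
import Mathlib

set_option autoImplicit false
universe u
open IsLocalRing
open EGA41

namespace Groth.Agent.S4588

/-- Let A be a regular local ring with maximal ideal m and residue field K, and F_i(T_i) = T_i^{d_i} +
Σ_{k<d_i} c_{ik} T_i^k (1 ≤ i ≤ r) monic one-variable polynomials of degrees d_i ≥ 2 with all
non-leading coefficients in m; put A' = A[T_1, …, T_r]/(F_1, …, F_r). Then (i) A' is local with
residue field K, and (ii) A' is regular if and only if the classes in m/m² of the constant terms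
c_{i0} are linearly independent over K. -/
theorem exists_injective_roots {A : Type u} [CommRing A] {n : ℕ} (f : Fin n → Polynomial A)
    (hf : ∀ i, (f i).Monic) (hdeg : ∀ i, 1 ≤ (f i).natDegree) :
    ∃ (B : Type u) (_ : CommRing B) (_ : Algebra A B), Function.Injective (algebraMap A B) ∧
      ∀ i, ∃ x : B, Polynomial.aeval x (f i) = 0 := by
  induction n with
  | zero => exact ⟨A, inferInstance, inferInstance, fun _ _ h => h, fun i => Fin.elim0 i⟩
  | succ n ih =>
    obtain ⟨B, _, _, hinj, hroots⟩ :=
      ih (fun i => f i.castSucc) (fun i => hf _) (fun i => hdeg _)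
    let g := (f (Fin.last n)).map (algebraMap A B)
    have hg : g.Monic := (hf _).map _
    refine ⟨AdjoinRoot g, inferInstance, inferInstance, ?_, fun i => ?_⟩
    · refine (injective_iff_map_eq_zero _).mpr fun a ha => hinj ?_
      rw [map_zero]
      by_contra hne
      haveI : Nontrivial B := nontrivial_of_ne _ _ hne
      refine hg.not_dvd_of_natDegree_lt (q := Polynomial.C (algebraMap A B a))
        (Polynomial.C_ne_zero.mpr hne) ?_ (AdjoinRoot.mk_eq_zero.mp ?_)
      · rw [Polynomial.natDegree_C, (hf _).natDegree_map]
        exact hdeg _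
      · rw [AdjoinRoot.mk_C, ← AdjoinRoot.algebraMap_eq, ← IsScalarTower.algebraMap_apply]
        exact ha
    · refine Fin.lastCases ⟨AdjoinRoot.root g, ?_⟩ (fun j => ?_) i
      · rw [← Polynomial.aeval_map_algebraMap B]
        exact AdjoinRoot.eval₂_root g ▸ by simp [g, Polynomial.aeval_def]
      · obtain ⟨x, hx⟩ := hroots j
        exact ⟨algebraMap B (AdjoinRoot g) x, by rw [Polynomial.aeval_algebraMap_apply, hx, map_zero]⟩

theorem result {A : Type u} [CommRing A]
    [IsRegularLocalRing A] {r : ℕ} (d : Fin r → ℕ) (hd : ∀ i, 2 ≤ d i) (c : Fin r → ℕ → A)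
    (hc : ∀ i k, c i k ∈ maximalIdeal A) :
    let F : Fin r → MvPolynomial (Fin r) A := fun i =>
      MvPolynomial.X i ^ d i + (Finset.range (d i)).sum fun k => MvPolynomial.C (c i k) * MvPolynomial.X i ^ k
    IsLocalRing (MvPolynomial (Fin r) A ⧸ Ideal.span (Set.range F)) ∧
    (∀ (M : Ideal (MvPolynomial (Fin r) A ⧸ Ideal.span (Set.range F))) [M.IsMaximal],
      Function.Surjective ((Ideal.Quotient.mk M).comp (algebraMap A _))) ∧
    (IsRegularRing (MvPolynomial (Fin r) A ⧸ Ideal.span (Set.range F)) ↔
      LinearIndependent (ResidueField A) (fun i => (maximalIdeal A).toCotangent ⟨c i 0, hc i 0⟩)) := by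
  intro F
  classical
  let P := MvPolynomial (Fin r) A
  let S := P ⧸ Ideal.span (Set.range F)
  let q : P →+* S := Ideal.Quotient.mk _
  let t : Fin r → S := fun i => q (MvPolynomial.X i)
  have hqC : ∀ a, q (MvPolynomial.C a) = algebraMap A S a := fun _ => rfl
  have hF0 : ∀ i, t i ^ d i + (Finset.range (d i)).sum (fun k => algebraMap A S (c i k) * t i ^ k) = 0 := by
    intro i
    have h1 : q (F i) = 0 := Ideal.Quotient.eq_zero_iff_mem.mpr (Ideal.subset_span ⟨i, rfl⟩)
    simpa [F, t, map_add, map_sum, map_mul, map_pow, hqC] using h1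
  -- integrality
  have hint : ∀ i, IsIntegral A (t i) := fun i => by
    refine ⟨Polynomial.X ^ d i + (Finset.range (d i)).sum
      (fun k => Polynomial.C (c i k) * Polynomial.X ^ k), Polynomial.monic_X_pow_add ?_, ?_⟩
    · refine (Polynomial.degree_sum_le _ _).trans_lt ((Finset.sup_lt_iff ?_).mpr fun k hk => ?_)
      · exact WithBot.bot_lt_coe _
      · exact (Polynomial.degree_C_mul_X_pow_le _ _).trans_lt
          (by exact_mod_cast Finset.mem_range.mp hk)
    · simpa [Polynomial.eval₂_finsetSum] using hF0 i
  haveI hInt : Algebra.IsIntegral A S := ⟨fun x => by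
    obtain ⟨p, rfl⟩ := Ideal.Quotient.mk_surjective x
    induction p using MvPolynomial.induction_on with
    | C a => exact isIntegral_algebraMap
    | add p p' hp hp' => rw [map_add]; exact hp.add hp'
    | mul_X p i hp => rw [map_mul]; exact hp.mul (hint i)⟩
  -- the maximal ideal
  let N : Ideal S := (maximalIdeal A).map (algebraMap A S) ⊔ Ideal.span (Set.range t)
  have hmodN : ∀ x : S, ∃ a, x - algebraMap A S a ∈ N := fun x => by
    obtain ⟨p, rfl⟩ := Ideal.Quotient.mk_surjective x
    refine ⟨MvPolynomial.constantCoeff p, ?_⟩
    induction p using MvPolynomial.induction_on with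
    | C a => rw [MvPolynomial.constantCoeff_C, ← hqC, sub_self]; exact zero_mem _
    | add p p' hp hp' =>
      have := add_mem hp hp'
      convert this using 1
      simp only [map_add]
      ring
    | mul_X p i hp =>
      rw [map_mul (MvPolynomial.constantCoeff), MvPolynomial.constantCoeff_X, mul_zero, map_zero,
        sub_zero, map_mul]
      exact Ideal.mul_mem_left _ _ (Submodule.mem_sup_right (Ideal.subset_span ⟨i, rfl⟩))
  have hmax : ∀ M : Ideal S, M.IsMaximal → M = N := by
    intro M hM
    have hm : M.comap (algebraMap A S) = maximalIdeal A :=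
      eq_maximalIdeal (Ideal.isMaximal_comap_of_isIntegral_of_isMaximal M)
    have hN : N ≤ M := by
      refine sup_le (Ideal.map_le_iff_le_comap.mpr hm.ge) (Ideal.span_le.mpr ?_)
      rintro _ ⟨i, rfl⟩
      refine hM.isPrime.mem_of_pow_mem (d i) ?_
      rw [eq_neg_of_add_eq_zero_left (hF0 i)]
      refine neg_mem (Ideal.sum_mem _ fun k _ => M.mul_mem_right _ ?_)
      exact Ideal.mem_comap.mp (hm.ge (hc i k))
    refine le_antisymm (fun x hx => ?_) hN
    obtain ⟨a, ha⟩ := hmodN x
    have ha' : algebraMap A S a ∈ M := by
      have := sub_mem hx (hN ha)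
      simpa using this
    have := add_mem ha (Submodule.mem_sup_left (Ideal.mem_map_of_mem _ (hm.le ha')) : _ ∈ N)
    simpa using this
  haveI : Nontrivial S := by
    refine (Ideal.Quotient.lift (Ideal.span (Set.range F))
      ((residue A).comp (MvPolynomial.constantCoeff)) ?_).domain_nontrivial
    intro x hx
    refine RingHom.mem_ker.mp ((Ideal.span_le.mpr ?_) hx)
    rintro _ ⟨i, rfl⟩
    rw [SetLike.mem_coe, RingHom.mem_ker, RingHom.comp_apply, residue_eq_zero_iff]
    have h2 : d i ≠ 0 := by have := hd i; omega
    simp [F, map_sum, zero_pow_eq, h2, Nat.pos_of_ne_zero h2, (mem_maximalIdeal _).mp (hc i 0)]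
  haveI hloc : IsLocalRing S := by
    obtain ⟨M, hM⟩ := Ideal.exists_maximal S
    exact IsLocalRing.of_unique_max_ideal ⟨M, hM, fun M' hM' => (hmax M' hM').trans (hmax M hM).symm⟩
  refine ⟨hloc, fun M hM => fun x => ?_, ?_⟩
  · obtain ⟨y, rfl⟩ := Ideal.Quotient.mk_surjective x
    obtain ⟨a, ha⟩ := hmodN y
    exact ⟨a, (Ideal.Quotient.eq.mpr (hmax M hM ▸ ha)).symm⟩
  have hmaxN : maximalIdeal S = N := hmax _ inferInstance
  haveI : IsNoetherianRing S := inferInstance
  obtain ⟨n, hn⟩ : ∃ n : ℕ, ringKrullDim A = n :=
    ⟨_, (IsRegularLocalRing.spanFinrank_maximalIdeal (R := A)).symm⟩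
  have hcot : Module.finrank (ResidueField A) (CotangentSpace A) = n := by
    have := (IsRegularLocalRing.iff_finrank_cotangentSpace A).mp inferInstance
    rw [hn] at this
    exact_mod_cast this
  set v : Fin r → CotangentSpace A := fun i => (maximalIdeal A).toCotangent ⟨c i 0, hc i 0⟩ with hv
  set W := Submodule.span (ResidueField A) (Set.range v) with hW
  constructor
  · intro hreg
    haveI := hreg
    haveI : IsRegularLocalRing S := IsRegularLocalRing.of_isRegularRing_of_isLocalRing S
    have hdim : (maximalIdeal S).spanFinrank ≤ n := by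
      have h1 : ringKrullDim S ≤ ringKrullDim A :=
        Order.krullDim_le_of_strictMono (PrimeSpectrum.comap (algebraMap A S))
          fun _ _ h => Ideal.IsIntegral.comap_lt_comap h
      rw [← IsRegularLocalRing.spanFinrank_maximalIdeal, hn] at h1
      exact_mod_cast h1
    obtain ⟨G, hGcard, hGspan⟩ : ∃ G : Finset S, G.card ≤ n ∧ Ideal.span (G : Set S) = maximalIdeal S := by
      have hfg : Submodule.FG (maximalIdeal S) := IsNoetherian.noetherian _
      refine ⟨(Submodule.FG.finite_generators hfg).toFinset, ?_, ?_⟩
      · rw [← Set.ncard_eq_toFinset_card _ (Submodule.FG.finite_generators hfg), Submodule.FG.generators_ncard hfg]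
        exact hdim
      · rw [Set.Finite.coe_toFinset]
        exact Submodule.span_generators _
    let D : P → (CotangentSpace A ⧸ W) × (Fin r → (ResidueField A)) := fun f =>
      (if h : MvPolynomial.constantCoeff f ∈ maximalIdeal A then
          W.mkQ ((maximalIdeal A).toCotangent ⟨_, h⟩) else 0,
        fun j => residue A (f.coeff (Finsupp.single j 1)))
    have hDadd : ∀ f g : P, MvPolynomial.constantCoeff f ∈ maximalIdeal A →
        MvPolynomial.constantCoeff g ∈ maximalIdeal A → D (f + g) = D f + D g := by
      intro f g hf hg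
      have hfg : MvPolynomial.constantCoeff (f + g) ∈ maximalIdeal A := by
        rw [map_add]; exact add_mem hf hg
      refine Prod.ext ?_ (funext fun j => ?_)
      · simp only [D, Prod.fst_add, dif_pos hf, dif_pos hg, dif_pos hfg]
        rw [← map_add, ← map_add]
        exact congrArg _ (congrArg _ (Subtype.ext (map_add _ _ _)))
      · simp only [D, Prod.snd_add, Pi.add_apply]
        exact (congrArg (residue A) (MvPolynomial.coeff_add _ f g)).trans (map_add _ _ _)
    have hDmul : ∀ p f : P, MvPolynomial.constantCoeff f ∈ maximalIdeal A →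
        D (p * f) = residue A (MvPolynomial.constantCoeff p) • D f := by
      intro p f hf
      have hpf : MvPolynomial.constantCoeff (p * f) ∈ maximalIdeal A := by
        rw [map_mul]; exact Ideal.mul_mem_left _ _ hf
      refine Prod.ext ?_ (funext fun j => ?_)
      · simp only [D, Prod.smul_fst, dif_pos hf, dif_pos hpf]
        rw [← map_smul W.mkQ, ← ResidueField.algebraMap_eq, algebraMap_smul, ← map_smul]
        congr 2
        exact Subtype.ext (map_mul _ _ _)
      · simp only [D, Prod.smul_snd, Pi.smul_apply, smul_eq_mul]
        rw [MvPolynomial.coeff_mul, show Finset.HasAntidiagonal.antidiagonal (Finsupp.single j 1) =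
          {((0 : Fin r →₀ ℕ), Finsupp.single j 1), (Finsupp.single j 1, 0)} from by
            rw [Finsupp.antidiagonal_single, show Finset.HasAntidiagonal.antidiagonal 1 = {(0, 1), (1, 0)} from rfl]
            simp]
        rw [Finset.sum_insert (by simp [Finsupp.single_eq_zero, eq_comm]), Finset.sum_singleton,
          ← MvPolynomial.constantCoeff_eq, map_add, map_mul, map_mul,
          (residue_eq_zero_iff _).mpr hf, mul_zero, add_zero]
    have hDF : ∀ i, MvPolynomial.constantCoeff (F i) ∈ maximalIdeal A ∧ D (F i) = 0 := by
      intro i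
      have h0 : MvPolynomial.constantCoeff (F i) = c i 0 := by
        have h2 : d i ≠ 0 := by have := hd i; omega
        simp [F, map_sum, zero_pow_eq, h2]
      have hm0 : MvPolynomial.constantCoeff (F i) ∈ maximalIdeal A := h0 ▸ hc i 0
      refine ⟨hm0, Prod.ext ?_ (funext fun j => ?_)⟩
      · simp only [D, dif_pos hm0, Prod.fst_zero, Submodule.mkQ_apply, Submodule.Quotient.mk_eq_zero]
        refine Submodule.subset_span ⟨i, ?_⟩
        exact congrArg _ (Subtype.ext h0.symm)
      · simp only [D, Prod.snd_zero, Pi.zero_apply]
        have h2 := hd i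
        rw [residue_eq_zero_iff]
        simp only [F, MvPolynomial.coeff_add, MvPolynomial.coeff_sum, MvPolynomial.coeff_C_mul,
          MvPolynomial.coeff_X_pow]
        refine add_mem ?_ (Ideal.sum_mem _ fun k _ => Ideal.mul_mem_right _ _ (hc i k))
        rw [if_neg]
        · exact zero_mem _
        · intro h
          have := congrArg (fun f => f.sum fun _ e => e) h
          simp at this
          omega
    choose lift hlift using fun x : S => Ideal.Quotient.mk_surjective x
    let U := Submodule.span (ResidueField A) (((G.image fun g => D (lift g)) : Finset _) :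
      Set ((CotangentSpace A ⧸ W) × (Fin r → (ResidueField A))))
    have hker : ∀ f ∈ Ideal.span (Set.range F), MvPolynomial.constantCoeff f ∈ maximalIdeal A := by
      intro f hf
      refine Ideal.mem_comap.mp ((Ideal.span_le.mpr ?_) hf)
      rintro _ ⟨i, rfl⟩
      exact (hDF i).1
    have hres : ∀ f : P, q f ∈ maximalIdeal S → MvPolynomial.constantCoeff f ∈ maximalIdeal A := by
      intro f hf hu
      let ε : S →+* ResidueField A := Ideal.Quotient.lift (Ideal.span (Set.range F))
        ((residue A).comp MvPolynomial.constantCoeff)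
        fun g hg => (residue_eq_zero_iff _).mpr (hker g hg)
      have h1 : maximalIdeal S = RingHom.ker ε := by
        refine (eq_maximalIdeal (RingHom.ker_isMaximal_of_surjective ε fun z => ?_)).symm
        obtain ⟨a, rfl⟩ := residue_surjective z
        exact ⟨q (MvPolynomial.C a), congrArg (residue A) (MvPolynomial.constantCoeff_C _ a)⟩
      rw [h1, RingHom.mem_ker] at hf
      exact (residue_ne_zero_iff_isUnit _).mpr hu hf
    have hU : ∀ f ∈ Ideal.span ((lift '' (G : Set S)) ∪ Set.range F),
        MvPolynomial.constantCoeff f ∈ maximalIdeal A ∧ D f ∈ U := by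
      intro f hf
      induction hf using Submodule.span_induction with
      | mem f hf =>
        rcases hf with ⟨g, hg, rfl⟩ | ⟨i, rfl⟩
        · refine ⟨hres _ ?_, Submodule.subset_span (Finset.mem_coe.mpr (Finset.mem_image_of_mem _ hg))⟩
          show Ideal.Quotient.mk _ (lift g) ∈ _
          rw [hlift, ← hGspan]
          exact Ideal.subset_span hg
        · exact ⟨(hDF i).1, by rw [(hDF i).2]; exact zero_mem _⟩
      | zero =>
        have h0 : MvPolynomial.constantCoeff (0 : P) ∈ maximalIdeal A := by rw [map_zero]; exact zero_mem _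
        refine ⟨h0, ?_⟩
        have := hDmul 0 0 h0
        rw [zero_mul, map_zero, map_zero, zero_smul] at this
        rw [this]; exact zero_mem _
      | add f g _ _ hf hg =>
        exact ⟨by rw [map_add]; exact add_mem hf.1 hg.1, by rw [hDadd _ _ hf.1 hg.1]; exact add_mem hf.2 hg.2⟩
      | smul p f _ hf =>
        rw [smul_eq_mul]
        exact ⟨by rw [map_mul]; exact Ideal.mul_mem_left _ _ hf.1,
          by rw [hDmul _ _ hf.1]; exact Submodule.smul_mem _ _ hf.2⟩
    have hUtop : U = ⊤ := by
      refine Submodule.eq_top_iff'.mpr fun ⟨x, w⟩ => ?_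
      obtain ⟨x, rfl⟩ := W.mkQ_surjective x
      obtain ⟨⟨a, ha⟩, rfl⟩ := (maximalIdeal A).toCotangent_surjective x
      choose w' hw' using fun j => residue_surjective (w j)
      let f : P := MvPolynomial.C a + ∑ j, MvPolynomial.C (w' j) * MvPolynomial.X j
      have hf0 : MvPolynomial.constantCoeff f = a := by simp [f]
      have hqf : q f ∈ maximalIdeal S := by
        rw [hmaxN, map_add, map_sum]
        refine add_mem (Submodule.mem_sup_left (Ideal.mem_map_of_mem _ ha)) (Ideal.sum_mem _ fun j _ => ?_)
        rw [map_mul]
        exact Ideal.mul_mem_left _ _ (Submodule.mem_sup_right (Ideal.subset_span ⟨j, rfl⟩))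
      have hfspan : f ∈ Ideal.span ((lift '' (G : Set S)) ∪ Set.range F) := by
        rw [Ideal.span_union]
        have h1 : Ideal.span (Set.range F) = RingHom.ker q := (Ideal.mk_ker).symm
        rw [h1, ← Ideal.comap_map_of_surjective' q Ideal.Quotient.mk_surjective, Ideal.mem_comap,
          Ideal.map_span, ← Set.image_comp, show q ∘ lift = id from funext hlift, Set.image_id, hGspan]
        exact hqf
      have hD := (hU f hfspan).2
      convert hD using 1
      have hm : MvPolynomial.constantCoeff f ∈ maximalIdeal A := hf0 ▸ ha
      refine Prod.ext ?_ (funext fun j => ?_)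
      · simp only [D, dif_pos hm]
        exact congrArg _ (congrArg _ (Subtype.ext hf0.symm))
      · show w j = residue A
          ((MvPolynomial.C a + ∑ j, MvPolynomial.C (w' j) * MvPolynomial.X j :
            MvPolynomial (Fin r) A).coeff (Finsupp.single j 1))
        simp [MvPolynomial.coeff_sum, MvPolynomial.coeff_X, MvPolynomial.coeff_C,
          Finsupp.single_left_inj, hw', eq_comm]
    have h1 : Module.finrank (ResidueField A) ((CotangentSpace A ⧸ W) × (Fin r → (ResidueField A))) ≤ n := by
      rw [← finrank_top, ← hUtop]
      exact ((finrank_span_finset_le_card _).trans Finset.card_image_le).trans hGcard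
    rw [Module.finrank_prod, Module.finrank_pi, Fintype.card_fin] at h1
    have h2 := W.finrank_quotient_add_finrank
    rw [hcot] at h2
    refine linearIndependent_iff_card_le_finrank_span.mpr ?_
    rw [Fintype.card_fin, Set.finrank]
    change r ≤ Module.finrank (ResidueField A) W
    omega
  · intro hli
    have hWr : Module.finrank (ResidueField A) W = r := by
      rw [finrank_span_eq_card hli, Fintype.card_fin]
    let b := Module.finBasis (ResidueField A) (CotangentSpace A ⧸ W)
    choose y hy using fun j => (W.mkQ_surjective.comp (maximalIdeal A).toCotangent_surjective) (b j)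
    let c0 : Fin r → maximalIdeal A := fun i => ⟨c i 0, hc i 0⟩
    have hspan : Submodule.span A (Set.range c0 ∪ Set.range y) = ⊤ := by
      rw [← CotangentSpace.map_eq_top_iff, Submodule.map_span,
        ← Submodule.restrictScalars_span A (ResidueField A) residue_surjective,
        Submodule.restrictScalars_eq_top_iff]
      refine Submodule.eq_top_iff'.mpr fun z => ?_
      have hz : W.mkQ z ∈ (Submodule.span (ResidueField A)
          ((maximalIdeal A).toCotangent '' (Set.range c0 ∪ Set.range y))).map W.mkQ := by
        rw [← b.sum_repr (W.mkQ z)]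
        refine Submodule.sum_mem _ fun j _ => Submodule.smul_mem _ _ ?_
        rw [← hy j]
        exact Submodule.mem_map_of_mem (Submodule.subset_span ⟨y j, Or.inr ⟨j, rfl⟩, rfl⟩)
      obtain ⟨z', hz', hzz⟩ := hz
      have hWle : W ≤ Submodule.span (ResidueField A)
          ((maximalIdeal A).toCotangent '' (Set.range c0 ∪ Set.range y)) := Submodule.span_mono (by
        rintro _ ⟨i, rfl⟩
        exact ⟨c0 i, Or.inl ⟨i, rfl⟩, rfl⟩)
      have h3 : z - z' ∈ W := by
        rw [← Submodule.Quotient.mk_eq_zero, Submodule.Quotient.mk_sub, sub_eq_zero]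
        exact hzz.symm
      simpa using add_mem hz' (hWle h3)
    have hy_mem : ∀ j, algebraMap A S (y j : A) ∈ maximalIdeal S := fun j => by
      rw [hmaxN]; exact Submodule.mem_sup_left (Ideal.mem_map_of_mem _ (y j).2)
    let gens : Finset S := Finset.univ.image t ∪ Finset.univ.image (fun j => algebraMap A S (y j : A))
    have hgens : Ideal.span (gens : Set S) = maximalIdeal S := by
      rw [Finset.coe_union, Finset.coe_image, Finset.coe_image, Finset.coe_univ, Finset.coe_univ,
        Set.image_univ, Set.image_univ, hmaxN, Ideal.span_union]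
      refine le_antisymm (sup_le le_sup_right ?_) (sup_le ?_ le_sup_left)
      · rw [Ideal.span_le]
        rintro _ ⟨j, rfl⟩
        exact hmaxN ▸ hy_mem j
      · rw [Ideal.map_le_iff_le_comap]
        intro a ha
        have h4 : (⟨a, ha⟩ : maximalIdeal A) ∈ Submodule.span A (Set.range c0 ∪ Set.range y) :=
          hspan ▸ Submodule.mem_top
        suffices H : ∀ x ∈ Submodule.span A (Set.range c0 ∪ Set.range y), algebraMap A S (x : A) ∈
            Ideal.span (Set.range t) ⊔ Ideal.span (Set.range fun j => algebraMap A S (y j : A)) from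
          H _ h4
        intro x hx
        induction hx using Submodule.span_induction with
        | mem x hx =>
          rcases hx with ⟨i, rfl⟩ | ⟨j, rfl⟩
          · refine Submodule.mem_sup_left ?_
            show algebraMap A S (c i 0) ∈ _
            obtain ⟨e, he⟩ : ∃ e, d i = e + 1 := ⟨d i - 1, by have := hd i; omega⟩
            have h5 := hF0 i
            rw [he, Finset.sum_range_succ', pow_zero, mul_one, ← add_assoc] at h5
            rw [eq_neg_of_add_eq_zero_right h5]
            refine neg_mem (add_mem ?_ (Ideal.sum_mem _ fun k _ => Ideal.mul_mem_left _ _ ?_)) <;>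
              exact Ideal.pow_mem_of_mem _ (Ideal.subset_span (Set.mem_range_self i)) _ (Nat.succ_pos _)
          · exact Submodule.mem_sup_right (Ideal.subset_span ⟨j, rfl⟩)
        | zero => simp
        | add x x' _ _ hx hx' => rw [Submodule.coe_add, map_add]; exact add_mem hx hx'
        | smul p x _ hx =>
          rw [Submodule.coe_smul, smul_eq_mul, map_mul]
          exact Ideal.mul_mem_left _ _ hx
    have hle : (maximalIdeal S).spanFinrank ≤ n := by
      rw [← hgens]
      refine (Submodule.spanFinrank_span_le_ncard_of_finite (Finset.finite_toSet _)).trans ?_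
      rw [Set.ncard_coe_finset]
      refine (Finset.card_union_le _ _).trans ((add_le_add Finset.card_image_le Finset.card_image_le).trans ?_)
      simp only [Finset.card_univ, Fintype.card_fin]
      have h2 := W.finrank_quotient_add_finrank
      rw [hcot, hWr] at h2
      omega
    have hinj : Function.Injective (algebraMap A S) := by
      have hdeg : ∀ i, ((Finset.range (d i)).sum
          fun k => Polynomial.C (c i k) * Polynomial.X ^ k).degree < (d i : WithBot ℕ) := fun i => by
        refine (Polynomial.degree_sum_le _ _).trans_lt ((Finset.sup_lt_iff ?_).mpr fun k hk => ?_)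
        · exact WithBot.bot_lt_coe _
        · exact (Polynomial.degree_C_mul_X_pow_le _ _).trans_lt
            (by exact_mod_cast Finset.mem_range.mp hk)
      obtain ⟨B, _, _, hB, hroots⟩ := exists_injective_roots
        (fun i => Polynomial.X ^ d i + (Finset.range (d i)).sum
          fun k => Polynomial.C (c i k) * Polynomial.X ^ k)
        (fun i => Polynomial.monic_X_pow_add (hdeg i))
        (fun i => by
          rw [Polynomial.natDegree_eq_of_degree_eq_some (n := d i)]
          · have := hd i; omega
          · rw [Polynomial.degree_add_eq_left_of_degree_lt (by rw [Polynomial.degree_X_pow]; exact hdeg i),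
              Polynomial.degree_X_pow])
      choose x hx using hroots
      let φ : S →+* B := Ideal.Quotient.lift (Ideal.span (Set.range F))
        (MvPolynomial.aeval x : MvPolynomial (Fin r) A →ₐ[A] B).toRingHom fun g hg => by
          refine RingHom.mem_ker.mp ((Ideal.span_le.mpr ?_) hg)
          rintro _ ⟨i, rfl⟩
          rw [SetLike.mem_coe, RingHom.mem_ker]
          simpa [F, Polynomial.aeval_def, Polynomial.eval₂_finsetSum] using hx i
      intro a b hab
      apply hB
      rw [← hqC, ← hqC] at hab
      exact ((MvPolynomial.aeval_C x a).symm.trans (congrArg φ hab :)).trans (MvPolynomial.aeval_C x b)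
    haveI : IsRegularLocalRing S := IsRegularLocalRing.of_spanFinrank_maximalIdeal_le S (by
      refine le_trans ?_ (FlatMisc.FibreDimOpen.ringKrullDim_le_of_integral A S hinj)
      rw [hn]
      exact_mod_cast hle)
    exact RegLoc.Homological.isRegularRing

end Groth.Agent.S4588
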