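import Groth.Statements.S4589
import Groth.Agent.S2480
-- import your own Groth.Agent.* helpers here

set_option autoImplicit false
universe u
open IsLocalRing
open EGA41

namespace Groth.Agent.S4589

/-- Under the hypotheses of Nagata's Jacobian criterion — k a field of characteristic exponent p with k
finite over k^p, A a complete Noetherian local ring with residue field finite over a separable
extension K₀ of k, A a K₀-algebra formally smooth for its adic topology, q an ideal of A and B = A/q
— the set of primes n of B with B_n formally smooth over k for the adic topology of its maximal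
ideal is open in Spec B. -/
theorem result (p : ℕ) {k K₀ A : Type u} [Field k] [ExpChar k p]
    (hk : p = 1 ∨ Module.Finite (frobenius k p).fieldRange k)
    [Field K₀] [Algebra k K₀] [Algebra.IsGeometricallyReduced k K₀]
    [CommRing A] [IsLocalRing A] [IsNoetherianRing A] [IsAdicComplete (maximalIdeal A) A]
    [Algebra k A] [Algebra K₀ A] [IsScalarTower k K₀ A] [Module.Finite K₀ (ResidueField A)]
    (hA : CAlgX.IsAdicFormallySmooth K₀ A (maximalIdeal A))
    (q : Ideal A) :
    IsOpen {n : PrimeSpectrum (A ⧸ q) |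
      CAlgX.IsAdicFormallySmooth k (Localization.AtPrime n.asIdeal) (maximalIdeal (Localization.AtPrime n.asIdeal))} := by

  classical
  let Sm : Ideal (A ⧸ q) → Prop := fun n => ∀ _ : n.IsPrime,
    CAlgX.IsAdicFormallySmooth k (Localization.AtPrime n) (maximalIdeal (Localization.AtPrime n))
  rw [isOpen_iff_forall_mem_open]
  intro n hn
  let P := n.asIdeal.comap (Ideal.Quotient.mk q)
  have hqP : q ≤ P := fun x hx => by
    show Ideal.Quotient.mk q x ∈ n.asIdeal
    rw [Ideal.Quotient.eq_zero_iff_mem.mpr hx]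
    exact zero_mem _
  have hmap : P.map (Ideal.Quotient.mk q) = n.asIdeal :=
    Ideal.map_comap_of_surjective _ Ideal.Quotient.mk_surjective _
  haveI : (P.map (Ideal.Quotient.mk q)).IsPrime := hmap ▸ n.2
  have h1 : Sm n.asIdeal := fun _ => hn
  rw [← hmap] at h1
  obtain ⟨m, D, f, hfq, hgen, hdet⟩ := (S2480.result p hk hA q P hqP).mp (h1 inferInstance)
  have hu : ∀ x ∈ q, ∃ u, u ∉ P ∧ u * x ∈ Ideal.span (Set.range f) := fun x hx => by
    have h2 : algebraMap A (Localization.AtPrime P) x ∈
        (Ideal.span (Set.range f)).map (algebraMap A (Localization.AtPrime P)) := by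
      rw [Ideal.map_span, ← Set.range_comp]
      exact hgen ▸ Ideal.mem_map_of_mem _ hx
    exact (IsLocalization.algebraMap_mem_map_algebraMap_iff P.primeCompl _ _ _).mp h2
  choose u huP hux using hu
  obtain ⟨t, ht⟩ := IsNoetherian.noetherian q
  have htq : ∀ z ∈ t, z ∈ q := fun z hz => ht ▸ Submodule.subset_span hz
  let U := ∏ z ∈ t.attach, u z.1 (htq z.1 z.2)
  have hUP : U ∉ P := fun h => by
    obtain ⟨z, -, hz⟩ := (Ideal.IsPrime.prod_mem_iff (hp := inferInstance)).mp h
    exact huP _ _ hz
  let Δ := Matrix.det (Matrix.of fun i j => D i (f j))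
  refine ⟨(PrimeSpectrum.basicOpen (Ideal.Quotient.mk q (U * Δ)) : Set (PrimeSpectrum (A ⧸ q))), fun n' hn' => ?_,
    (PrimeSpectrum.basicOpen _).isOpen, fun h => ?_⟩
  swap
  · exact ((inferInstance : P.IsPrime).mem_or_mem h).elim hUP hdet
  let P' := n'.asIdeal.comap (Ideal.Quotient.mk q)
  have hqP' : q ≤ P' := fun x hx => by
    show Ideal.Quotient.mk q x ∈ n'.asIdeal
    rw [Ideal.Quotient.eq_zero_iff_mem.mpr hx]
    exact zero_mem _
  have hmap' : P'.map (Ideal.Quotient.mk q) = n'.asIdeal :=
    Ideal.map_comap_of_surjective _ Ideal.Quotient.mk_surjective _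
  haveI : (P'.map (Ideal.Quotient.mk q)).IsPrime := hmap' ▸ n'.2
  have hU' : U ∉ P' := fun h => hn' (show Ideal.Quotient.mk q (U * Δ) ∈ n'.asIdeal from P'.mul_mem_right Δ h)
  have hΔ' : Δ ∉ P' := fun h => hn' (show Ideal.Quotient.mk q (U * Δ) ∈ n'.asIdeal from P'.mul_mem_left U h)
  suffices h' : Sm n'.asIdeal from h' inferInstance
  rw [← hmap']
  intro _
  refine (S2480.result p hk hA q P' hqP').mpr ⟨m, D, f, hfq, le_antisymm ?_ (Ideal.span_le.mpr ?_), hΔ'⟩
  · have key : q ≤ Submodule.comap (LinearMap.mulLeft A U) (Ideal.span (Set.range f)) := by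
      rw [← ht, Submodule.span_le]
      intro z hz
      show U * z ∈ Ideal.span (Set.range f)
      obtain ⟨c, hc⟩ := Finset.dvd_prod_of_mem (fun z : { x // x ∈ t } => u z.1 (htq z.1 z.2)) (Finset.mem_attach t ⟨z, hz⟩)
      rw [show U = u z (htq z hz) * c from hc, mul_right_comm]
      exact Ideal.mul_mem_right _ _ (hux z (htq z hz))
    refine Ideal.map_le_iff_le_comap.mpr fun x hx => ?_
    rw [Ideal.mem_comap, show (Set.range fun i => algebraMap A (Localization.AtPrime P') (f i)) =
        algebraMap A (Localization.AtPrime P') '' Set.range f from (Set.range_comp _ f), ← Ideal.map_span,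
      IsLocalization.algebraMap_mem_map_algebraMap_iff P'.primeCompl]
    exact ⟨U, hU', key hx⟩
  · rintro _ ⟨i, rfl⟩
    exact Ideal.mem_map_of_mem _ (hfq i)

end Groth.Agent.S4589
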