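import Groth.Statements.S4590
import Mathlib
-- import your own Groth.Agent.* helpers here

set_option autoImplicit false
universe u
open CAlg

namespace Groth.Agent.S4590

open Polynomial in
theorem aux_integral {A B : Type u} [CommRing A] [IsDomain A] [CommRing B] [Algebra A B] [Module.FaithfullyFlat A B]
    (R : Type u) [CommRing R] [Algebra (B ⧸ nilradical B) R] [IsFractionRing (B ⧸ nilradical B) R]
    [Algebra A R] [IsScalarTower A (B ⧸ nilradical B) R] [Algebra (FractionRing A) R]
    [IsScalarTower A (FractionRing A) R] (x : FractionRing A)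
    (hx : IsIntegral (B ⧸ nilradical B) (algebraMap (FractionRing A) R x)) : IsIntegral A x := by
  classical
  have : Nontrivial B := (FaithfulSMul.algebraMap_injective A B).nontrivial
  obtain ⟨a, c, hc, rfl⟩ := IsFractionRing.div_surjective A x
  have hc0 : algebraMap A (FractionRing A) c ≠ 0 :=
    (map_ne_zero_iff _ (IsFractionRing.injective A (FractionRing A))).mpr (nonZeroDivisors.ne_zero hc)
  obtain ⟨p, hpm, hp⟩ := hx
  have hl : p ∈ lifts (Ideal.Quotient.mk (nilradical B)) :=
    Polynomial.map_surjective _ Ideal.Quotient.mk_surjective p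
  have hBr : Nontrivial (B ⧸ nilradical B) := Ideal.Quotient.nontrivial_iff.mpr (fun h => by
    have h1 := h ▸ Submodule.mem_top (x := (1 : B))
    rw [mem_nilradical] at h1
    exact not_isNilpotent_one h1)
  obtain ⟨P, hP, -, hPm⟩ := lifts_and_degree_eq_and_monic hl hpm
  have hxc : algebraMap (FractionRing A) R (algebraMap A _ a / algebraMap A _ c) * algebraMap A R c = algebraMap A R a := by
    rw [IsScalarTower.algebraMap_apply A (FractionRing A) R c, IsScalarTower.algebraMap_apply A (FractionRing A) R a,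
      ← map_mul, div_mul_cancel₀ _ hc0]
  have h1 : (p.scaleRoots (algebraMap A (B ⧸ nilradical B) c)).eval (algebraMap A (B ⧸ nilradical B) a) = 0 := by
    apply IsFractionRing.injective (B ⧸ nilradical B) R
    rw [map_zero, ← eval₂_at_apply, ← IsScalarTower.algebraMap_apply A (B ⧸ nilradical B) R, ← hxc,
      IsScalarTower.algebraMap_apply A (B ⧸ nilradical B) R c, mul_comm, scaleRoots_eval₂_mul, hp, mul_zero]
  have h2 : IsNilpotent ((P.scaleRoots (algebraMap A B c)).eval (algebraMap A B a)) := by
    rw [← mem_nilradical, ← Ideal.Quotient.eq_zero_iff_mem, ← eval₂_at_apply, ← eval_map,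
      map_scaleRoots _ _ _ (by rw [hPm.leadingCoeff, map_one]; exact one_ne_zero), hP]
    exact h1
  obtain ⟨k, hk⟩ := h2
  rw [← eval_pow, ← pow_scaleRoots' _ _ _ (by rw [hPm.leadingCoeff, one_pow]; exact one_ne_zero)] at hk
  let Q := P ^ k
  have hQm : Q.Monic := hPm.pow k
  let m := Q.natDegree
  let J : Ideal A := Ideal.span (Set.range fun i : Fin m => a ^ (i : ℕ) * c ^ (m - i))
  have h3 : algebraMap A B (a ^ m) ∈ J.map (algebraMap A B) := by
    rw [eval_eq_sum_range, natDegree_scaleRoots, Finset.sum_range_succ] at hk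
    simp only [coeff_scaleRoots] at hk
    rw [Nat.sub_self, pow_zero, mul_one, show (P ^ k).coeff (P ^ k).natDegree = 1 from hQm.coeff_natDegree, one_mul, add_comm, add_eq_zero_iff_eq_neg] at hk
    rw [map_pow, hk, neg_mem_iff]
    refine Submodule.sum_mem _ fun i hi => ?_
    rw [mul_assoc, mul_comm (algebraMap A B c ^ _), ← map_pow, ← map_pow, ← map_mul]
    exact Ideal.mul_mem_left _ _ (Ideal.mem_map_of_mem _ (Ideal.subset_span ⟨⟨i, Finset.mem_range.mp hi⟩, rfl⟩))
  rw [← Ideal.mem_comap, Ideal.comap_map_eq_self_of_faithfullyFlat (B := B), Ideal.mem_span_range_iff_exists_fun] at h3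
  obtain ⟨r, hr⟩ := h3
  refine ⟨X ^ m - ∑ i : Fin m, C (r i) * X ^ (i : ℕ), monic_X_pow_sub (degree_sum_fin_lt r), ?_⟩
  simp only [eval₂_sub, eval₂_X_pow, eval₂_finsetSum, eval₂_mul, eval₂_C]
  rw [sub_eq_zero]
  apply mul_right_cancel₀ (pow_ne_zero m hc0)
  rw [← mul_pow, div_mul_cancel₀ _ hc0, ← map_pow, ← hr, map_sum, Finset.sum_mul]
  refine Finset.sum_congr rfl fun i _ => ?_
  rw [map_mul, map_mul, map_pow, map_pow, mul_assoc]
  congr 1
  obtain ⟨j, hj⟩ := Nat.exists_eq_add_of_le i.2.le
  rw [show m - (i : ℕ) = j by omega]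
  have hpow : (algebraMap A (FractionRing A) c) ^ m = (algebraMap A (FractionRing A) c) ^ (i : ℕ) * (algebraMap A (FractionRing A) c) ^ j := by
    rw [← pow_add]; exact congrArg _ hj
  conv_rhs => rw [hpow, ← mul_assoc, ← mul_pow, div_mul_cancel₀ _ hc0]

/-- Let A be a domain with fraction field K, B a faithfully flat A-algebra, C = B_red and R the total
ring of fractions of C. Then A → C is injective with nonzero elements going to non-zero-divisors, so
that K embeds in R, and an element of K is integral over C in R if and only if it is integral over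
A. -/
theorem result {A B : Type u} [CommRing A] [IsDomain A]
    [CommRing B] [Algebra A B] [Module.FaithfullyFlat A B] :
    Function.Injective (algebraMap A (B ⧸ nilradical B)) ∧
    (∀ a : A, a ≠ 0 → algebraMap A (B ⧸ nilradical B) a ∈ nonZeroDivisors (B ⧸ nilradical B)) ∧
    ∀ (R : Type u) [CommRing R] [Algebra (B ⧸ nilradical B) R] [IsFractionRing (B ⧸ nilradical B) R]
      [Algebra A R] [IsScalarTower A (B ⧸ nilradical B) R] [Algebra (FractionRing A) R]
      [IsScalarTower A (FractionRing A) R] (x : FractionRing A),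
      IsIntegral (B ⧸ nilradical B) (algebraMap (FractionRing A) R x) ↔ IsIntegral A x := by
  have hinj : Function.Injective (algebraMap A B) := FaithfulSMul.algebraMap_injective A B
  have hQ : ∀ a : A, algebraMap A (B ⧸ nilradical B) a = Ideal.Quotient.mk _ (algebraMap A B a) := fun a => rfl
  refine ⟨?_, ?_, fun R _ _ _ _ _ _ _ x => ⟨aux_integral R x, fun h => ?_⟩⟩
  · rw [injective_iff_map_eq_zero]
    intro a ha
    rw [hQ, Ideal.Quotient.eq_zero_iff_mem, mem_nilradical] at ha
    exact IsNilpotent.eq_zero ((IsNilpotent.map_iff hinj).mp ha)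
  · intro a ha
    rw [mem_nonZeroDivisors_iff_right]
    intro z hz
    obtain ⟨b, rfl⟩ := Ideal.Quotient.mk_surjective z
    rw [hQ, ← map_mul, Ideal.Quotient.eq_zero_iff_mem, mem_nilradical] at hz
    obtain ⟨n, hn⟩ := hz
    rw [Ideal.Quotient.eq_zero_iff_mem, mem_nilradical]
    refine ⟨n, ?_⟩
    have hreg : IsSMulRegular B (algebraMap A B (a ^ n)) :=
      IsSMulRegular.of_flat (fun u v huv => mul_left_cancel₀ (pow_ne_zero n ha) huv)
    apply hreg
    simpa [Algebra.smul_def, mul_pow, mul_comm] using hn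
  · exact (h.map (IsScalarTower.toAlgHom A (FractionRing A) R)).tower_top

end Groth.Agent.S4590
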