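import Groth.Statements.S4593
import Mathlib

set_option autoImplicit false
universe u
open CategoryTheory CategoryTheory.Limits AlgebraicGeometry
open EGA41

namespace Groth.Agent.S4593

/-- Let B be a ring, (A_i) a filtered system of B-algebras with colimit A. The image of Spec A in Spec B
is the intersection of the images of the Spec A_i. -/
theorem result {I : Type u} [SmallCategory I] [IsFiltered I]
    (B : CommRingCat.{u}) (D : I ⥤ CommRingCat.{u}) (s : (Functor.const I).obj B ⟶ D) (c : Cocone D)
    (hc : IsColimit c) (i₀ : I) :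
    Set.range (Spec.map (s.app i₀ ≫ c.ι.app i₀)).base = ⋂ i : I, Set.range (Spec.map (s.app i)).base := by
  classical
  refine subset_antisymm (Set.subset_iInter fun i => ?_) fun p hp => ?_
  · have h : s.app i₀ ≫ c.ι.app i₀ = s.app i ≫ c.ι.app i := by
      have hnat : ∀ {a b : I} (φ : a ⟶ b), s.app a ≫ D.map φ = s.app b := fun {a b} φ => by
        have := s.naturality φ
        simp only [Functor.const_obj_map, Category.id_comp] at this
        exact this.symm
      rw [← c.w (IsFiltered.leftToMax i₀ i), ← c.w (IsFiltered.rightToMax i₀ i), ← Category.assoc,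
        ← Category.assoc, hnat, hnat]
    rw [h, Spec.map_comp, Scheme.Hom.comp_base, TopCat.coe_comp]
    exact Set.range_comp_subset_range _ _
  · have hnat : ∀ {a b : I} (φ : a ⟶ b), s.app a ≫ D.map φ = s.app b := fun {a b} φ => by
      have := s.naturality φ
      simp only [Functor.const_obj_map, Category.id_comp] at this
      exact this.symm
    have hc' := isColimitOfPreserves (forget CommRingCat) hc
    let φ : B →+* c.pt := (s.app i₀ ≫ c.ι.app i₀).hom
    suffices hq : ∀ q : PrimeSpectrum B, (∀ k : I, q ∈ Set.range (PrimeSpectrum.comap (s.app k).hom)) →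
        q ∈ Set.range (PrimeSpectrum.comap φ) from hq p (Set.mem_iInter.mp hp)
    intro p hp
    rw [PrimeSpectrum.mem_range_comap_iff]
    refine le_antisymm (fun x hx => ?_) Ideal.le_comap_map
    -- membership in the extended ideal descends to a stage
    have key : ∀ y ∈ p.asIdeal.map φ, ∃ (i : I) (y' : D.obj i), (c.ι.app i).hom y' = y ∧
        y' ∈ p.asIdeal.map (s.app i).hom := by
      intro y hy
      induction hy using Submodule.span_induction with
      | mem y hy =>
        obtain ⟨b, hb, rfl⟩ := hy
        exact ⟨i₀, (s.app i₀).hom b, rfl, Ideal.mem_map_of_mem _ hb⟩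
      | zero => exact ⟨i₀, 0, map_zero _, zero_mem _⟩
      | add a b _ _ ha hb =>
        obtain ⟨i, a', rfl, ha'⟩ := ha
        obtain ⟨j, b', rfl, hb'⟩ := hb
        refine ⟨IsFiltered.max i j, (D.map (IsFiltered.leftToMax i j)).hom a' + (D.map (IsFiltered.rightToMax i j)).hom b',
          ?_, add_mem ?_ ?_⟩
        · rw [map_add]
          exact congrArg₂ (· + ·) (congr($(c.w (IsFiltered.leftToMax i j)) a')) (congr($(c.w (IsFiltered.rightToMax i j)) b'))
        · have := Ideal.mem_map_of_mem (D.map (IsFiltered.leftToMax i j)).hom ha'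
          rwa [Ideal.map_map, ← CommRingCat.hom_comp, hnat] at this
        · have := Ideal.mem_map_of_mem (D.map (IsFiltered.rightToMax i j)).hom hb'
          rwa [Ideal.map_map, ← CommRingCat.hom_comp, hnat] at this
      | smul r a _ ha =>
        obtain ⟨i, a', rfl, ha'⟩ := ha
        obtain ⟨j, r', hr'⟩ := Types.jointly_surjective_of_isColimit hc' r
        refine ⟨IsFiltered.max i j, (D.map (IsFiltered.rightToMax i j)).hom r' * (D.map (IsFiltered.leftToMax i j)).hom a',
          ?_, Ideal.mul_mem_left _ _ ?_⟩
        · rw [map_mul, smul_eq_mul, ← hr']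
          exact congrArg₂ (· * ·) (congr($(c.w (IsFiltered.rightToMax i j)) r')) (congr($(c.w (IsFiltered.leftToMax i j)) a'))
        · have := Ideal.mem_map_of_mem (D.map (IsFiltered.leftToMax i j)).hom ha'
          rwa [Ideal.map_map, ← CommRingCat.hom_comp, hnat] at this
    obtain ⟨i, y', hy', hy'p⟩ := key _ hx
    have heq : (c.ι.app i).hom y' = (c.ι.app i₀).hom ((s.app i₀).hom x) := hy'
    obtain ⟨k, f, g, hfg⟩ := (Types.FilteredColimit.isColimit_eq_iff _ hc').mp heq
    have hfg' : (D.map f).hom y' = (D.map g).hom ((s.app i₀).hom x) := hfg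
    have h1 := Ideal.mem_map_of_mem (D.map f).hom hy'p
    rw [Ideal.map_map, ← CommRingCat.hom_comp, hnat, hfg', ← CommRingCat.comp_apply, hnat] at h1
    have hk : p ∈ Set.range (PrimeSpectrum.comap (s.app k).hom) := hp k
    rw [PrimeSpectrum.mem_range_comap_iff] at hk
    exact hk.le h1

end Groth.Agent.S4593
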