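import Groth.Statements.S4594
import Mathlib.RingTheory.Kaehler.Basic
import Mathlib.RingTheory.Smooth.Basic

set_option autoImplicit false
universe u
open TensorProduct KaehlerDifferential
open EGA41

namespace Groth.Agent.S4594

/-- Let Λ be a ring, A → C a surjection of Λ-algebras with kernel J, C of characteristic p > 0, and π
the class of p·1 in J/J². If C is formally smooth over Λ/pΛ for the discrete topologies, then 0 →
(J/J²)/Cπ → Ω_{A/Λ} ⊗_A C → Ω_{C/Λ} → 0 is exact: the kernel of the conormal map J/J² → Ω_{A/Λ} ⊗_A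
C is the span of π, and the base-change map to Ω_{C/Λ} is surjective with kernel the image of J/J². -/
theorem result {Λ A C : Type u} [CommRing Λ] [CommRing A]
    [CommRing C] [Algebra Λ A] [Algebra A C] [Algebra Λ C] [IsScalarTower Λ A C]
    (hsurj : Function.Surjective (algebraMap A C)) (p : ℕ) [Fact p.Prime] [CharP C p]
    [Algebra (Λ ⧸ Ideal.span {(p : Λ)}) C] [IsScalarTower Λ (Λ ⧸ Ideal.span {(p : Λ)}) C]
    [Algebra.FormallySmooth (Λ ⧸ Ideal.span {(p : Λ)}) C]
    (hp : (p : A) ∈ RingHom.ker (algebraMap A C)) :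
    LinearMap.ker (kerCotangentToTensor Λ A C) =
        Submodule.span A {(RingHom.ker (algebraMap A C)).toCotangent ⟨(p : A), hp⟩} ∧
      LinearMap.range (kerCotangentToTensor Λ A C) = (LinearMap.ker (mapBaseChange Λ A C)).restrictScalars A ∧
      Function.Surjective (mapBaseChange Λ A C) := by
  refine ⟨le_antisymm ?_ ?_, range_kerCotangentToTensor Λ A C hsurj,
    mapBaseChange_surjective Λ A C hsurj⟩
  swap
  · rw [Submodule.span_le, Set.singleton_subset_iff, SetLike.mem_coe, LinearMap.mem_ker,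
      kerCotangentToTensor_toCotangent, Derivation.map_natCast, TensorProduct.tmul_zero]
  intro t ht
  obtain ⟨⟨x, hx⟩, rfl⟩ := Ideal.toCotangent_surjective _ t
  rw [LinearMap.mem_ker, kerCotangentToTensor_toCotangent] at ht
  set J := RingHom.ker (algebraMap A C) with hJdef
  let 𝔭 : Ideal A := J ^ 2 ⊔ Ideal.span {(p : A)}
  let A₂ := A ⧸ 𝔭
  have h𝔭J : 𝔭 ≤ J := sup_le (Ideal.pow_le_self two_ne_zero)
    ((Ideal.span_singleton_le_iff_mem J).mpr hp)
  let π : A₂ →ₐ[Λ] C := Ideal.Quotient.liftₐ 𝔭 (IsScalarTower.toAlgHom Λ A C) fun a ha => h𝔭J ha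
  have hΛ : ∀ a ∈ Ideal.span {(p : Λ)}, algebraMap Λ A₂ a = 0 := by
    intro a ha
    obtain ⟨b, rfl⟩ := Ideal.mem_span_singleton'.mp ha
    rw [map_mul, map_natCast, ← map_natCast (Ideal.Quotient.mk 𝔭), Ideal.Quotient.eq_zero_iff_mem.mpr
      (show (p : A) ∈ 𝔭 from Ideal.mem_sup_right (Ideal.mem_span_singleton_self _)), mul_zero]
  let Λ' := Λ ⧸ Ideal.span {(p : Λ)}
  letI : Algebra Λ' A₂ := (Ideal.Quotient.lift _ (algebraMap Λ A₂) hΛ).toAlgebra
  haveI : IsScalarTower Λ Λ' A₂ := .of_algebraMap_eq fun _ => rfl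
  let π' : A₂ →ₐ[Λ'] C :=
    { π.toRingHom with
      commutes' := fun r => by
        obtain ⟨l, rfl⟩ := Ideal.Quotient.mk_surjective r
        show π (algebraMap Λ A₂ l) = _
        rw [π.commutes, IsScalarTower.algebraMap_apply Λ Λ' C]; rfl }
  have hπ : Function.Surjective π' := fun c => by
    obtain ⟨a, ha⟩ := hsurj c
    exact ⟨Ideal.Quotient.mk 𝔭 a, ha⟩
  have hsq : RingHom.ker π'.toRingHom ^ 2 = ⊥ := by
    rw [pow_two, eq_bot_iff, Ideal.mul_le]
    intro a ha b hb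
    obtain ⟨a, rfl⟩ := Ideal.Quotient.mk_surjective a
    obtain ⟨b, rfl⟩ := Ideal.Quotient.mk_surjective b
    rw [Ideal.mem_bot, ← map_mul, Ideal.Quotient.eq_zero_iff_mem]
    exact Ideal.mem_sup_left (pow_two J ▸ Ideal.mul_mem_mul ha hb)
  let σ : C →ₐ[Λ'] A₂ :=
    Algebra.FormallySmooth.liftOfSurjective (AlgHom.id Λ' C) π' hπ ⟨2, hsq⟩
  have hσ : ∀ c, π' (σ c) = c := fun c =>
    Algebra.FormallySmooth.liftOfSurjective_apply (AlgHom.id Λ' C) π' hπ ⟨2, hsq⟩ c
  let I₂ : Ideal A₂ := RingHom.ker π'.toRingHom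
  have hmul : ∀ a ∈ I₂, ∀ b ∈ I₂, a * b = (0 : A₂) := fun a ha b hb => by
    rw [← Ideal.mem_bot, ← hsq, pow_two]; exact Ideal.mul_mem_mul ha hb
  have hmem : ∀ a, Ideal.Quotient.mk 𝔭 a - σ (algebraMap A C a) ∈ I₂ := fun a => by
    show π' _ = 0
    rw [map_sub, hσ]
    exact sub_self _
  have hσΛ : ∀ l : Λ, σ (algebraMap Λ C l) = algebraMap Λ A₂ l := fun l => by
    rw [IsScalarTower.algebraMap_apply Λ Λ' C, σ.commutes, ← IsScalarTower.algebraMap_apply]
  letI : Module C I₂ := Module.compHom I₂ σ.toRingHom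
  haveI : IsScalarTower A C I₂ := IsScalarTower.of_algebraMap_smul fun a y => Subtype.ext (by
    show σ (algebraMap A C a) * y.1 = a • y.1
    rw [Algebra.smul_def]
    show σ (algebraMap A C a) * y.1 = Ideal.Quotient.mk 𝔭 a * y.1
    linear_combination -hmul _ (hmem a) _ y.2)
  let δ₀ : A →ₗ[Λ] A₂ :=
    (Ideal.Quotient.mkₐ Λ 𝔭).toLinearMap -
      (σ.restrictScalars Λ).toLinearMap ∘ₗ (IsScalarTower.toAlgHom Λ A C).toLinearMap
  let δ : Derivation Λ A I₂ :=
    Derivation.mk' (δ₀.codRestrict (I₂.restrictScalars Λ) hmem) fun a b => Subtype.ext (by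
      show Ideal.Quotient.mk 𝔭 (a * b) - σ (algebraMap A C (a * b)) =
        a • (Ideal.Quotient.mk 𝔭 b - σ (algebraMap A C b)) +
          b • (Ideal.Quotient.mk 𝔭 a - σ (algebraMap A C a))
      rw [Algebra.smul_def, Algebra.smul_def]
      show _ = Ideal.Quotient.mk 𝔭 a * (Ideal.Quotient.mk 𝔭 b - σ (algebraMap A C b)) +
          Ideal.Quotient.mk 𝔭 b * (Ideal.Quotient.mk 𝔭 a - σ (algebraMap A C a))
      rw [map_mul, map_mul, map_mul]
      linear_combination -hmul _ (hmem a) _ (hmem b))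
  have h0 : δ x = 0 := by
    have h1 := congrArg (δ.liftKaehlerDifferential.liftBaseChange C) ht
    rwa [LinearMap.liftBaseChange_tmul, one_smul, Derivation.liftKaehlerDifferential_comp_D,
      map_zero] at h1
  have hx0 : Ideal.Quotient.mk 𝔭 x = 0 := by
    have h2 := congrArg Subtype.val h0
    change Ideal.Quotient.mk 𝔭 x - σ (algebraMap A C x) = 0 at h2
    rwa [show algebraMap A C x = 0 from hx, map_zero, sub_zero] at h2
  obtain ⟨j, hj, q, hq, e⟩ := Submodule.mem_sup.mp (Ideal.Quotient.eq_zero_iff_mem.mp hx0)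
  obtain ⟨a, rfl⟩ := Ideal.mem_span_singleton'.mp hq
  refine Submodule.mem_span_singleton.mpr ⟨a, ?_⟩
  rw [← map_smul, eq_comm, Ideal.toCotangent_eq]
  show x - a * (p : A) ∈ J ^ 2
  rwa [← e, add_sub_cancel_right]

end Groth.Agent.S4594
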