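import Groth.Statements.S4597
import Mathlib

set_option autoImplicit false
universe u
open AlgebraicGeometry CategoryTheory CategoryTheory.Limits
open EGA41

namespace Groth.Agent.S4597

/-- Let f : X → Y, g : Y' → Y and f' : X ×_Y Y' → Y' the base change. If g is quasi-compact surjective
and f' quasi-compact, f is quasi-compact; if g is surjective and f' dominant, f is dominant. -/
theorem result {X Y Y' : Scheme.{u}} (f : X ⟶ Y)
    (g : Y' ⟶ Y) [Surjective g] :
    (QuasiCompact g → QuasiCompact (pullback.snd f g) → QuasiCompact f) ∧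
    (IsDominant (pullback.snd f g) → IsDominant f) := by
  refine ⟨fun hg hf' => ⟨fun U hU hU' => ?_⟩, fun hf' => ⟨?_⟩⟩
  · have h1 := g.isCompact_preimage (U := ⟨U, hU⟩) hU'
    have h2 := (pullback.snd f g).isCompact_preimage (U := ⟨g.base ⁻¹' U, hU.preimage g.continuous⟩) h1
    have h3 := h2.image (pullback.fst f g).continuous
    convert h3 using 1
    ext x
    constructor
    · intro hx
      obtain ⟨y', hy'⟩ := g.surjective (f.base x)
      obtain ⟨z, hz1, hz2⟩ := Scheme.Pullback.exists_preimage_pullback x y' hy'.symm
      refine ⟨z, show g.base ((pullback.snd f g).base z) ∈ U from ?_, hz1⟩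
      rw [hz2, hy']; exact hx
    · rintro ⟨z, hz, rfl⟩
      show f.base ((pullback.fst f g).base z) ∈ U
      rw [← Scheme.Hom.comp_apply, pullback.condition, Scheme.Hom.comp_apply]
      exact hz
  · intro y
    obtain ⟨y', rfl⟩ := g.surjective y
    have h1 : g.base y' ∈ closure (g.base '' Set.range (pullback.snd f g).base) :=
      image_closure_subset_closure_image g.continuous ⟨y', (pullback.snd f g).denseRange y', rfl⟩
    refine closure_mono ?_ h1
    rintro _ ⟨_, ⟨z, rfl⟩, rfl⟩
    exact ⟨(pullback.fst f g).base z, by rw [← Scheme.Hom.comp_apply, pullback.condition, Scheme.Hom.comp_apply]⟩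

end Groth.Agent.S4597
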