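import Groth.Statements.S4598
import Mathlib
import Groth.Agent.S4597

set_option autoImplicit false
universe u
open AlgebraicGeometry CategoryTheory CategoryTheory.Limits
open EGA41

namespace Groth.Agent.S4598

set_option backward.isDefEq.respectTransparency false

/-- If g : Y' → Y is quasi-compact and surjective and the base change X ×_Y Y' → Y' of f : X → Y is
quasi-separated, then f is quasi-separated. -/
theorem result {X Y Y' : Scheme.{u}} (f : X ⟶ Y)
    (g : Y' ⟶ Y) [QuasiCompact g] [Surjective g] [QuasiSeparated (pullback.snd f g)] :
    QuasiSeparated f := by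
  haveI hqcd : MorphismProperty.DescendsAlong (@QuasiCompact : MorphismProperty Scheme.{u})
      ((@Surjective : MorphismProperty Scheme.{u}) ⊓ (@QuasiCompact : MorphismProperty Scheme.{u})) := by
    refine MorphismProperty.DescendsAlong.mk' ?_
    intro A B C u v _ hu hfst
    haveI := hu.1
    haveI : QuasiCompact (pullback.snd v u) := by
      rw [← pullbackSymmetry_hom_comp_fst]
      exact MorphismProperty.comp_mem _ _ _ inferInstance hfst
    exact (Groth.Agent.S4597.result v u).1 hu.2 this
  have h : MorphismProperty.diagonal (@QuasiCompact : MorphismProperty Scheme.{u}) (pullback.snd f g) :=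
    (quasiSeparated_iff _).mp ‹_›
  exact (quasiSeparated_iff _).mpr (MorphismProperty.of_pullback_snd_of_descendsAlong
    (P := MorphismProperty.diagonal (@QuasiCompact : MorphismProperty Scheme.{u}))
    (Q := (@Surjective : MorphismProperty Scheme.{u}) ⊓ (@QuasiCompact : MorphismProperty Scheme.{u}))
    ⟨inferInstance, inferInstance⟩ h)

end Groth.Agent.S4598
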