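import Groth.Statements.S4600
import Mathlib

set_option autoImplicit false
universe u
open CategoryTheory CategoryTheory.Limits TensorProduct
open EGA41

namespace Groth.Agent.S4600

/-- Let (A_i) be a filtered system of rings with colimit A and B a finitely presented A-algebra. Then
some stage A_i carries a finitely presented algebra B_i with B isomorphic to A ⊗_{A_i} B_i as
A-algebras (existence of an isomorphism; the base change is along the colimit map A_i → A). -/
theorem result {I : Type u} [SmallCategory I] [IsFiltered I]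
    (D : I ⥤ CommRingCat.{u}) (c : Cocone D) (hc : IsColimit c) (B : Type u) [CommRing B] [Algebra c.pt B]
    [Algebra.FinitePresentation c.pt B] :
    ∃ (i : I) (Bi : Type u) (_ : CommRing Bi) (_ : Algebra (D.obj i) Bi),
      Algebra.FinitePresentation (D.obj i) Bi ∧
      (letI : Algebra (D.obj i) c.pt := (c.ι.app i).hom.toAlgebra
       Nonempty (B ≃ₐ[c.pt] (c.pt ⊗[D.obj i] Bi))) := by
  classical
  have hc' := isColimitOfPreserves (forget CommRingCat) hc
  obtain ⟨n, J, e, hJ⟩ := Algebra.FinitePresentation.iff.mp ‹Algebra.FinitePresentation c.pt B›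
  let μ : ∀ i : I, MvPolynomial (Fin n) (D.obj i) →+* MvPolynomial (Fin n) c.pt :=
    fun i => MvPolynomial.map (c.ι.app i).hom
  have hμ : ∀ {i j : I} (g : i ⟶ j) (q : MvPolynomial (Fin n) (D.obj i)),
      μ j (MvPolynomial.map (D.map g).hom q) = μ i q := fun g q => by
    simp only [μ, MvPolynomial.map_map]
    rw [← CommRingCat.hom_comp, c.w g]
  have hone : ∀ p, ∃ i q, μ i q = p := by
    intro p
    induction p using MvPolynomial.induction_on with
    | C a =>
      obtain ⟨i, x, hx⟩ := Types.jointly_surjective_of_isColimit hc' a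
      exact ⟨i, MvPolynomial.C x, by simp only [μ, MvPolynomial.map_C]; exact congrArg _ hx⟩
    | add p q hp hq =>
      obtain ⟨i, p', rfl⟩ := hp
      obtain ⟨j, q', rfl⟩ := hq
      exact ⟨IsFiltered.max i j, MvPolynomial.map (D.map (IsFiltered.leftToMax i j)).hom p' +
        MvPolynomial.map (D.map (IsFiltered.rightToMax i j)).hom q', by rw [map_add, hμ, hμ]⟩
    | mul_X p k hp =>
      obtain ⟨i, p', rfl⟩ := hp
      exact ⟨i, p' * MvPolynomial.X k, by simp [μ]⟩
  obtain ⟨s, rfl⟩ := hJ
  have hfam : ∀ t : Finset (MvPolynomial (Fin n) c.pt),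
      ∃ i, ∀ p ∈ t, ∃ q : MvPolynomial (Fin n) (D.obj i), μ i q = p := by
    intro t
    induction t using Finset.induction_on with
    | empty => exact ⟨IsFiltered.nonempty.some, by simp⟩
    | insert p t _ ih =>
      obtain ⟨i, hi⟩ := ih
      obtain ⟨j, q, rfl⟩ := hone p
      refine ⟨IsFiltered.max i j, fun p hp => ?_⟩
      rcases Finset.mem_insert.mp hp with rfl | hp
      · exact ⟨_, hμ (IsFiltered.rightToMax i j) q⟩
      · obtain ⟨q', rfl⟩ := hi p hp
        exact ⟨_, hμ (IsFiltered.leftToMax i j) q'⟩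
  obtain ⟨i, hi⟩ := hfam s
  choose q hq using fun p : s => hi p.1 p.2
  let Ji : Ideal (MvPolynomial (Fin n) (D.obj i)) := Ideal.span (Set.range q)
  refine ⟨i, MvPolynomial (Fin n) (D.obj i) ⧸ Ji, inferInstance, inferInstance, ?_, ?_⟩
  · exact Algebra.FinitePresentation.quotient ⟨Finset.univ.image q, by simp [Ji]⟩
  · letI : Algebra (D.obj i) c.pt := (c.ι.app i).hom.toAlgebra
    refine ⟨e.symm.trans ((Ideal.quotientEquivAlg _ _ (MvPolynomial.algebraTensorAlgEquiv (D.obj i) c.pt).symm ?_).trans
      (Algebra.TensorProduct.tensorQuotientEquiv (R := D.obj i) c.pt (MvPolynomial (Fin n) (D.obj i)) c.pt Ji).symm)⟩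
    simp only [Ji, Ideal.map_span, ← Set.range_comp]
    have hr : (fun x : s => (1 : c.pt) ⊗ₜ[D.obj i] q x) =
        fun x : s => (MvPolynomial.algebraTensorAlgEquiv (D.obj i) c.pt).symm x.1 := funext fun x => by
      rw [← hq x]; exact (MvPolynomial.algebraTensorAlgEquiv_symm_map _ _ (q x)).symm
    show Ideal.span (Set.range fun x : s => (1 : c.pt) ⊗ₜ[D.obj i] q x) = _
    rw [hr]
    congr 1
    ext y
    simp

end Groth.Agent.S4600
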