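import Groth.Statements.S4601
import Mathlib
-- import your own Groth.Agent.* helpers here

set_option autoImplicit false
universe u
open TensorProduct
open CAlg

namespace Groth.Agent.S4601

/-- Let A be a domain with fraction field K, B a Noetherian A-algebra which is flat over A, K' an
extension field of K, B₁ = B_red and R its total ring of fractions. For every sub-A-algebra A' of
K', the map (A' ⊗_A B)_red → (K' ⊗_A R)_red is injective, i.e. an element of A' ⊗_A B with nilpotent
image in K' ⊗_A R is nilpotent. -/
theorem result {A B K' R : Type u} [CommRing A]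
    [IsDomain A] [CommRing B] [Algebra A B] [IsNoetherianRing B] [Module.Flat A B]
    [Field K'] [Algebra A K'] [Algebra (FractionRing A) K'] [IsScalarTower A (FractionRing A) K']
    [CommRing R] [Algebra (B ⧸ nilradical B) R] [IsFractionRing (B ⧸ nilradical B) R]
    [Algebra B R] [IsScalarTower B (B ⧸ nilradical B) R] [Algebra A R] [IsScalarTower A B R]
    (A' : Subalgebra A K') (x : ↥A' ⊗[A] B)
    (hx : IsNilpotent (Algebra.TensorProduct.map A'.val (IsScalarTower.toAlgHom A B R) x)) :
    IsNilpotent x := by
  haveI : Module.Flat A (FractionRing A) := IsLocalization.flat (FractionRing A) (nonZeroDivisors A)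
  haveI : Module.Flat A K' := Module.Flat.trans A (FractionRing A) K'
  let iB : A' ⊗[A] B →ₐ[A] K' ⊗[A] B := Algebra.TensorProduct.map A'.val (AlgHom.id A B)
  have hiB : Function.Injective iB :=
      Module.Flat.rTensor_preserves_injective_linearMap (M := B) A'.val.toLinearMap Subtype.val_injective
  let q : B →ₐ[A] B ⧸ nilradical B := Ideal.Quotient.mkₐ A (nilradical B)
  let g : B ⧸ nilradical B →ₐ[A] R :=
      { toRingHom := algebraMap (B ⧸ nilradical B) R
        commutes' := fun r => by
          rw [IsScalarTower.algebraMap_apply A B (B ⧸ nilradical B), IsScalarTower.algebraMap_apply A B R]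
          exact (IsScalarTower.algebraMap_apply B (B ⧸ nilradical B) R _).symm }
  let i₁ := Algebra.TensorProduct.map (AlgHom.id A K') q
  let i₂ := Algebra.TensorProduct.map (AlgHom.id A K') g
  have hi₂ : Function.Injective i₂ :=
      Module.Flat.lTensor_preserves_injective_linearMap (M := K') g.toLinearMap
        (IsFractionRing.injective (B ⧸ nilradical B) R)
  have hfac : i₂ (i₁ (iB x)) = Algebra.TensorProduct.map A'.val (IsScalarTower.toAlgHom A B R) x := by
      clear hx
      induction x using TensorProduct.induction_on with
      | zero => simp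
      | tmul a b =>
        show (a : K') ⊗ₜ[A] g (q b) = _
        rw [Algebra.TensorProduct.map_tmul]
        exact congrArg _ (IsScalarTower.algebraMap_apply B (B ⧸ nilradical B) R b).symm
      | add a b ha hb => simp only [map_add, ha, hb]
  rw [← hfac, IsNilpotent.map_iff hi₂] at hx
  obtain ⟨n, hn⟩ := hx
  rw [← map_pow, ← RingHom.mem_ker] at hn
  have hker : RingHom.ker i₁ ≤ nilradical (K' ⊗[A] B) := by
      rw [show RingHom.ker i₁ = (RingHom.ker q).map (Algebra.TensorProduct.includeRight (R := A) (A := K')) from
        Algebra.TensorProduct.lTensor_ker q (Ideal.Quotient.mkₐ_surjective A (nilradical B))]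
      rw [Ideal.map_le_iff_le_comap]
      intro b hb
      have hb' : b ∈ nilradical B := Ideal.Quotient.eq_zero_iff_mem.mp hb
      exact mem_nilradical.mpr ((mem_nilradical.mp hb').map _)
  obtain ⟨m, hm⟩ := mem_nilradical.mp (hker hn)
  exact (IsNilpotent.map_iff hiB).mp ⟨n * m, by rw [pow_mul]; exact hm⟩

end Groth.Agent.S4601
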