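import Groth.Statements.S4602
import Groth.Agent.JacAdic16.FiniteFormal
import Groth.Agent.RegLoc.Completion

set_option autoImplicit false
set_option synthInstance.maxHeartbeats 400000
set_option maxHeartbeats 2000000
set_option linter.style.haveILetI false
universe u
open IsLocalRing TensorProduct
open EGA41

namespace Groth.Agent.S4602

/-- Let A be a regular local ring with fraction field of characteristic zero, B a domain containing A
and module-finite over it, with fraction field L, n a prime of B, C = B_n, q a prime of the
completion Ĉ with q ∩ C = 0. Then Ĉ_q is formally smooth over L for the adic topology of its maximal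
ideal. (Case (ii) of the published statement, in characteristic p with a suitable filtered family of
subrings, is not stated.) -/
theorem result
    {A B : Type u} [CommRing A] [IsRegularLocalRing A] [CharZero A] [CommRing B] [IsDomain B] [Algebra A B]
    [Module.Finite A B] (hinj : Function.Injective (algebraMap A B)) (n : Ideal B) [n.IsPrime]
    (q : Ideal (AdicCompletion (maximalIdeal (Localization.AtPrime n)) (Localization.AtPrime n))) [q.IsPrime]
    (hq : q.comap (algebraMap (Localization.AtPrime n)
      (AdicCompletion (maximalIdeal (Localization.AtPrime n)) (Localization.AtPrime n))) = ⊥)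
    [Algebra B (Localization.AtPrime q)]
    [IsScalarTower B (AdicCompletion (maximalIdeal (Localization.AtPrime n)) (Localization.AtPrime n))
      (Localization.AtPrime q)]
    [Algebra (FractionRing B) (Localization.AtPrime q)] [IsScalarTower B (FractionRing B) (Localization.AtPrime q)] :
    CAlgX.IsAdicFormallySmooth (FractionRing B) (Localization.AtPrime q) (maximalIdeal (Localization.AtPrime q)) := by
  haveI : IsNoetherianRing B := IsNoetherianRing.of_finite A B
  haveI : IsNoetherianRing (Localization.AtPrime n) := IsLocalization.isNoetherianRing n.primeCompl _ inferInstance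
  haveI : IsNoetherianRing (AdicCompletion (maximalIdeal (Localization.AtPrime n)) (Localization.AtPrime n)) :=
    RegLoc.AdicNoeth.isNoetherianRing_adicCompletion _ (IsNoetherian.noetherian _)
  let Tq := Localization.AtPrime q
  haveI : IsNoetherianRing Tq := IsLocalization.isNoetherianRing q.primeCompl _ inferInstance
  obtain ⟨M, hM, e, he⟩ := JacAdic16.FiniteFormal.exists_completion_model (A := A) n
    (n.comap (algebraMap A B)) rfl
  let m := n.comap (algebraMap A B)
  haveI : IsRegularLocalRing (Localization.AtPrime m) := RegLoc.Homological.isRegularLocalRing_localization m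
  let W := AdicCompletion (maximalIdeal (Localization.AtPrime m)) (Localization.AtPrime m)
  haveI : IsRegularLocalRing W := (RegLoc.Completion.isRegularLocalRing_completion_iff (Localization.AtPrime m)).mp inferInstance
  haveI : IsNoetherianRing (TensorProduct A W B) := IsNoetherianRing.of_finite W _
  let q' : Ideal (Localization.AtPrime M) := q.comap e.symm.toRingHom
  haveI : q'.IsPrime := inferInstanceAs (q.comap e.symm.toRingHom).IsPrime
  let Q : Ideal (TensorProduct A W B) :=
    q'.comap (algebraMap (TensorProduct A W B) (Localization.AtPrime M))
  haveI : Q.IsPrime := inferInstanceAs (q'.comap _).IsPrime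
  have hQ : ∀ b : B, (1 : W) ⊗ₜ[A] b ∈ Q → b = 0 := fun b hb => by
    have h1 : e.symm (algebraMap (TensorProduct A W B) (Localization.AtPrime M) ((1 : W) ⊗ₜ[A] b)) ∈ q := hb
    rw [← he b, RingEquiv.symm_apply_apply] at h1
    have h2 : algebraMap B (Localization.AtPrime n) b ∈ (⊥ : Ideal (Localization.AtPrime n)) := hq ▸ h1
    exact IsLocalization.injective (Localization.AtPrime n) n.primeCompl_le_nonZeroDivisors
      ((Ideal.mem_bot.mp h2).trans (map_zero _).symm)
  haveI : IsDomain A := hinj.isDomain _
  haveI := JacAdic16.FiniteFormal.isRegularLocalRing_of_comap_eq_bot (W := W) hinj Q hQ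
  have hH : Submonoid.map (e : _ →* _) q.primeCompl = q'.primeCompl := by
    ext x
    refine ⟨?_, fun hx => ⟨e.symm x, hx, e.apply_symm_apply x⟩⟩
    rintro ⟨y, hy, rfl⟩ hx
    exact hy (by simpa [q'] using hx)
  haveI : IsRegularLocalRing Tq :=
    IsRegularLocalRing.of_ringEquiv (R := Localization.AtPrime Q)
      ((IsLocalization.localizationLocalizationAtPrimeIsoLocalization M.primeCompl q').toRingEquiv.trans
        (IsLocalization.ringEquivOfRingEquiv (M := q.primeCompl) (T := q'.primeCompl)
          Tq (Localization.AtPrime q') e hH).symm)
  haveI : CharZero B := charZero_of_injective_algebraMap hinj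
  haveI : CharZero (FractionRing B) := charZero_of_injective_algebraMap (IsFractionRing.injective B (FractionRing B))
  haveI : Algebra.IsGeometricallyReduced (FractionRing B) (ResidueField Tq) :=
    FBase.TensorAlgClosed.isGeometricallyReduced_of_perfectField
  have h := ((S2453.result (k := FractionRing B) (A := Tq)).out 3 0)
  exact h.mp inferInstance

end Groth.Agent.S4602
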