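import Groth.Statements.S4603
import Groth.Agent.ProConsX.Basic

set_option autoImplicit false
universe u
open AlgebraicGeometry CategoryTheory
open EGA41

namespace Groth.Agent.S4603

/-- Let f : X → Y be quasi-compact. The following are equivalent: f is dominant; the fibre of f over
every maximal point of Y (a point with no proper generization, i.e. the generic point of an
irreducible component) is nonempty; every maximal point of Y is the image of a maximal point of X. -/
theorem result {X Y : Scheme.{u}} (f : X ⟶ Y) [QuasiCompact f] :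
    [IsDominant f,
     ∀ y : Y, (∀ y' : Y, y' ⤳ y → y' = y) → y ∈ Set.range f.base,
     ∀ y : Y, (∀ y' : Y, y' ⤳ y → y' = y) → ∃ x : X, (∀ x' : X, x' ⤳ x → x' = x) ∧ f.base x = y].TFAE := by
  have hpro : ProCons.IsProConstructible (Set.range f.base) := by
    rw [← Set.image_univ]
    exact FDesc.ProConsImage.isProConstructible_image f
      (LimTop.isProConstructible_of_isLocallyConstructible Topology.IsLocallyConstructible.univ)
  have hgen : ∀ {Z : Scheme.{u}} (z : Z), ∃ z' : Z, z' ⤳ z ∧ ∀ w : Z, w ⤳ z' → w = z' := fun {Z} z => by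
    obtain ⟨C, hC, hzC⟩ := exists_mem_irreducibleComponents_subset_of_isIrreducible {z} isIrreducible_singleton
    have hcl := isClosed_of_mem_irreducibleComponents C hC
    have hg := hC.1.isGenericPoint_genericPoint hcl
    refine ⟨hC.1.genericPoint, hg.specializes (hzC rfl), fun w hw => ?_⟩
    have hsub : C ⊆ closure ({w} : Set Z) := hg.def ▸ specializes_iff_closure_subset.mp hw
    have hw' : IsGenericPoint w C :=
      subset_antisymm (hC.2 isIrreducible_singleton.closure hsub) hsub
    exact hw'.eq hg
  tfae_have 1 → 2 := by
    intro h y hy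
    obtain ⟨z, hz, hzy⟩ := LimTop.exists_specializes_of_mem_closure hpro
      (show y ∈ closure (Set.range f.base) from f.denseRange y)
    exact hy z hzy ▸ hz
  tfae_have 2 → 3 := by
    intro h y hy
    obtain ⟨x, rfl⟩ := h y hy
    obtain ⟨x', hx', hmax⟩ := hgen x
    exact ⟨x', hmax, hy _ (hx'.map f.continuous)⟩
  tfae_have 3 → 1 := by
    intro h
    refine ⟨fun y => ?_⟩
    obtain ⟨y', hy', hmax⟩ := hgen y
    obtain ⟨x, -, hx⟩ := h y' hmax
    exact hy'.mem_closed isClosed_closure (subset_closure ⟨x, hx⟩)
  tfae_finish

end Groth.Agent.S4603
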