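import Groth.Statements.S4604
import Mathlib

set_option autoImplicit false
universe u
open IsLocalRing
open EGA41

namespace Groth.Agent.S4604

/-- (i) and the kernel statement of (ii): let A be a local ring with maximal ideal m of square zero,
F_i(T_i) = T_i^{d_i} + Σ_{k<d_i} c_{ik} T_i^k (1 ≤ i ≤ r) monic of degrees d_i ≥ 2 with non-leading
coefficients in m, and A' = A[T_1, …, T_r]/(F_1, …, F_r). Then A' is local with residue field K, and
the kernel of m → m'/m'² (m' the maximal ideal of A') is the ideal generated by the constant terms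
c_{i0}. -/
theorem result {A : Type u} [CommRing A] [IsLocalRing A]
    (hm : maximalIdeal A ^ 2 = ⊥) {r : ℕ} (d : Fin r → ℕ) (hd : ∀ i, 2 ≤ d i) (c : Fin r → ℕ → A)
    (hc : ∀ i k, c i k ∈ maximalIdeal A) :
    let F : Fin r → MvPolynomial (Fin r) A := fun i =>
      MvPolynomial.X i ^ d i + (Finset.range (d i)).sum fun k => MvPolynomial.C (c i k) * MvPolynomial.X i ^ k
    ∃ _ : IsLocalRing (MvPolynomial (Fin r) A ⧸ Ideal.span (Set.range F)),
      Function.Surjective ((Ideal.Quotient.mk (maximalIdeal (MvPolynomial (Fin r) A ⧸ Ideal.span (Set.range F)))).comp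
        (algebraMap A (MvPolynomial (Fin r) A ⧸ Ideal.span (Set.range F)))) ∧
      maximalIdeal A ⊓ Ideal.comap (algebraMap A (MvPolynomial (Fin r) A ⧸ Ideal.span (Set.range F)))
          (maximalIdeal (MvPolynomial (Fin r) A ⧸ Ideal.span (Set.range F)) ^ 2) =
        Ideal.span (Set.range fun i => c i 0) := by
  intro F
  let A' := MvPolynomial (Fin r) A ⧸ Ideal.span (Set.range F)
  let q : MvPolynomial (Fin r) A →ₐ[A] A' := Ideal.Quotient.mkₐ A _
  have hq : Function.Surjective q := Ideal.Quotient.mk_surjective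
  let t : Fin r → A' := fun i => q (MvPolynomial.X i)
  have hF0 : ∀ (S : Type u) [CommRing S] [Algebra A S], ∀ i,
      MvPolynomial.aeval (fun _ => (0 : S)) (F i) = algebraMap A S (c i 0) := by
    intro S _ _ i
    obtain ⟨e, he⟩ : ∃ e, d i = e + 1 := ⟨d i - 1, by have := hd i; omega⟩
    simp only [F, map_add, map_pow, map_sum, map_mul, MvPolynomial.aeval_X, MvPolynomial.aeval_C, he]
    rw [Finset.sum_range_succ']
    simp
  have hker : ∀ (S : Type u) [CommRing S] [Algebra A S], (∀ i, algebraMap A S (c i 0) = 0) →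
      ∀ a ∈ Ideal.span (Set.range F), MvPolynomial.aeval (fun _ => (0 : S)) a = 0 := by
    intro S _ _ h a ha
    refine (Ideal.span_le (I := RingHom.ker (MvPolynomial.aeval (fun _ => (0 : S))).toRingHom)).mpr ?_ ha
    rintro _ ⟨i, rfl⟩
    exact (hF0 S i).trans (h i)
  have hres : ∀ i, algebraMap A (ResidueField A) (c i 0) = 0 := fun i =>
    (IsLocalRing.residue_eq_zero_iff _).mpr (hc i 0)
  let π : A' →ₐ[A] ResidueField A := Ideal.Quotient.liftₐ _ (MvPolynomial.aeval fun _ => 0) (hker _ hres)
  have hπa : ∀ a, π (algebraMap A A' a) = residue A a := fun a => π.commutes a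
  have hπs : Function.Surjective π := fun y => by
    obtain ⟨a, rfl⟩ := residue_surjective y
    exact ⟨_, hπa a⟩
  have hπt : ∀ i, π (t i) = 0 := fun i => MvPolynomial.aeval_X _ i
  let P : Ideal A' := RingHom.ker π
  haveI hP : P.IsMaximal := RingHom.ker_isMaximal_of_surjective π.toRingHom hπs
  let J : Ideal A' := (maximalIdeal A).map (algebraMap A A') ⊔ Ideal.span (Set.range t)
  have dec : ∀ p : MvPolynomial (Fin r) A,
      q p - algebraMap A A' (MvPolynomial.constantCoeff p) ∈ Ideal.span (Set.range t) := by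
    intro p
    induction p using MvPolynomial.induction_on with
    | C a =>
      have : q (MvPolynomial.C a) = algebraMap A A' a := q.commutes a
      simp [this]
    | add p p' hp hp' => simpa [add_sub_add_comm] using Ideal.add_mem _ hp hp'
    | mul_X p i _ => simpa [t] using Ideal.mul_mem_left _ (q p) (Ideal.subset_span (Set.mem_range_self i) : t i ∈ Ideal.span (Set.range t))
  have hJP : P ≤ J := by
    intro x hx
    obtain ⟨p, rfl⟩ := hq x
    have ht : Ideal.span (Set.range t) ≤ P := Ideal.span_le.mpr (by rintro _ ⟨i, rfl⟩; exact hπt i)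
    have h1 : algebraMap A A' (MvPolynomial.constantCoeff p) ∈ P := by
      simpa using P.sub_mem hx (ht (dec p))
    have h2 : MvPolynomial.constantCoeff p ∈ maximalIdeal A :=
      (residue_eq_zero_iff _).mp ((hπa _).symm.trans h1)
    simpa using J.add_mem (Ideal.mem_sup_left (Ideal.mem_map_of_mem _ h2)) (Ideal.mem_sup_right (dec p))
  have hrel : ∀ i, t i ^ d i + (Finset.range (d i)).sum (fun k => algebraMap A A' (c i k) * t i ^ k) = 0 := by
    intro i
    have h : q (F i) = 0 := Ideal.Quotient.eq_zero_iff_mem.mpr (Ideal.subset_span ⟨i, rfl⟩)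
    have hC : ∀ a, q (MvPolynomial.C a) = algebraMap A A' a := fun a => q.commutes a
    simp only [F, map_add, map_pow, map_sum, map_mul, hC] at h
    exact h
  have hmax : ∀ Q : Ideal A', Q.IsMaximal → J ≤ Q := by
    intro Q hQ
    have hm' : ∀ a ∈ maximalIdeal A, algebraMap A A' a ∈ Q := fun a ha => by
      refine hQ.isPrime.mem_of_pow_mem 2 ?_
      have : a ^ 2 = 0 := by
        rw [← Ideal.mem_bot, ← hm]; exact Ideal.pow_mem_pow ha 2
      rw [← map_pow, this, map_zero]; exact Q.zero_mem
    refine sup_le (Ideal.map_le_iff_le_comap.mpr hm') (Ideal.span_le.mpr ?_)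
    rintro _ ⟨i, rfl⟩
    refine hQ.isPrime.mem_of_pow_mem (d i) ?_
    rw [eq_neg_of_add_eq_zero_left (hrel i)]
    exact Q.neg_mem (Q.sum_mem fun k _ => Q.mul_mem_right _ (hm' _ (hc i k)))
  haveI hloc : IsLocalRing A' := IsLocalRing.of_unique_max_ideal ⟨P, hP, fun Q hQ =>
    (hP.eq_of_le hQ.ne_top (hJP.trans (hmax Q hQ))).symm⟩
  have hPm : maximalIdeal A' = P := (IsLocalRing.eq_maximalIdeal hP).symm
  refine ⟨hloc, ?_, ?_⟩
  · intro y
    obtain ⟨x, rfl⟩ := Ideal.Quotient.mk_surjective y
    obtain ⟨a, ha⟩ := residue_surjective (π x)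
    refine ⟨a, Ideal.Quotient.mk_eq_mk_iff_sub_mem _ _ |>.mpr ?_⟩
    rw [hPm]
    show π (algebraMap A A' a - x) = 0
    rw [map_sub, hπa, ha, sub_self]
  · show maximalIdeal A ⊓ Ideal.comap (algebraMap A A') (maximalIdeal A' ^ 2) = _
    rw [hPm]
    let C : Ideal A := Ideal.span (Set.range fun i => c i 0)
    apply le_antisymm
    · rintro a ⟨_, ha⟩
      let φ : A' →ₐ[A] A ⧸ C := Ideal.Quotient.liftₐ _ (MvPolynomial.aeval fun _ => 0)
        (hker _ fun i => Ideal.Quotient.eq_zero_iff_mem.mpr (Ideal.subset_span ⟨i, rfl⟩))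
      have hφt : ∀ i, φ (t i) = 0 := fun i => MvPolynomial.aeval_X _ i
      have hφP : P.map φ ≤ (maximalIdeal A).map (algebraMap A (A ⧸ C)) := by
        refine (Ideal.map_mono hJP).trans ?_
        rw [Ideal.map_sup, sup_le_iff]
        refine ⟨?_, ?_⟩
        · rw [Ideal.map_le_iff_le_comap, Ideal.map_le_iff_le_comap]
          intro b hb
          simp only [Ideal.mem_comap]
          rw [φ.commutes]
          exact Ideal.mem_map_of_mem _ hb
        · rw [Ideal.map_span, Ideal.span_le]
          rintro _ ⟨_, ⟨i, rfl⟩, rfl⟩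
          rw [hφt]
          exact zero_mem _
      have h0 : φ (algebraMap A A' a) ∈ (P.map φ) ^ 2 := by
        rw [← Ideal.map_pow]
        exact Ideal.mem_map_of_mem φ ha
      have h1 := Ideal.pow_right_mono hφP 2 h0
      rw [← Ideal.map_pow, hm, Ideal.map_bot, Ideal.mem_bot, φ.commutes] at h1
      exact Ideal.Quotient.eq_zero_iff_mem.mp h1
    · rw [Ideal.span_le]
      rintro _ ⟨i, rfl⟩
      refine ⟨hc i 0, ?_⟩
      show algebraMap A A' (c i 0) ∈ P ^ 2
      have htP : t i ∈ P := hπt i
      obtain ⟨e, he⟩ : ∃ e, d i = e + 1 := ⟨d i - 1, by have := hd i; omega⟩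
      have h := hrel i
      rw [he, Finset.sum_range_succ', pow_zero, mul_one, ← add_assoc, ← he] at h
      rw [eq_neg_of_add_eq_zero_right h]
      refine (P ^ 2).neg_mem ((P ^ 2).add_mem ?_ ((P ^ 2).sum_mem fun k _ => ?_))
      · exact Ideal.pow_le_pow_right (hd i) (Ideal.pow_mem_pow htP _)
      · rw [pow_succ (t i), ← mul_assoc, pow_two P]
        refine Ideal.mul_mem_mul (P.mul_mem_right _ ?_) htP
        exact (hπa _).trans ((residue_eq_zero_iff _).mpr (hc i (k + 1)))

end Groth.Agent.S4604
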