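import Groth.Statements.S4605
import Mathlib
import Groth.Agent.PBasis.Basic

set_option autoImplicit false
universe u
open IsLocalRing
open EGA41

namespace Groth.Agent.S4605

/-- Let A be a local ring with maximal ideal m of square zero and residue field K of characteristic p >
0, F_i(T_i) = T_i^p + p Σ_{k=1}^{p-1} c_{ik} T_i^{p-k} − f_i (i in a finite index set) with c_{ik},
f_i ∈ A, and suppose the residues of the f_i in K are p-independent over K^p. Then A' = A[T_i]/(F_i)
is local with maximal ideal m A'. (The identification of the residue field with K(a_i^{1/p}) is not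
restated.) -/
theorem result {A : Type u} [CommRing A]
    [IsLocalRing A] (hm : maximalIdeal A ^ 2 = ⊥) (p : ℕ) [Fact p.Prime] [CharP (ResidueField A) p]
    {ι : Type u} [Finite ι] (c : ι → Fin p → A) (f : ι → A)
    (hind : LinearIndependent (↥(frobenius (ResidueField A) p).fieldRange)
      (fun e : {e : ι →₀ ℕ // ∀ i, e i < p} => EGA41.pMonomial (fun i => residue A (f i)) e.1)) :
    let F : ι → MvPolynomial ι A := fun i =>
      MvPolynomial.X i ^ p + (p : MvPolynomial ι A) * (Finset.univ.sum fun j : Fin p =>
        if (j : ℕ) = 0 then 0 else MvPolynomial.C (c i j) * MvPolynomial.X i ^ (p - (j : ℕ))) - MvPolynomial.C (f i)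
    ∃ _ : IsLocalRing (MvPolynomial ι A ⧸ Ideal.span (Set.range F)),
      maximalIdeal (MvPolynomial ι A ⧸ Ideal.span (Set.range F)) =
        (maximalIdeal A).map (algebraMap A (MvPolynomial ι A ⧸ Ideal.span (Set.range F))) := by
  intro F
  classical
  let A' := MvPolynomial ι A ⧸ Ideal.span (Set.range F)
  let q : MvPolynomial ι A →ₐ[A] A' := Ideal.Quotient.mkₐ A _
  have hq : Function.Surjective q := Ideal.Quotient.mk_surjective
  let t : ι → A' := fun i => q (MvPolynomial.X i)
  let mA : Ideal A' := (maximalIdeal A).map (algebraMap A A')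
  let φ : A →+* ResidueField A := (frobenius (ResidueField A) p).comp (residue A)
  let Φ : MvPolynomial ι A →+* ResidueField A := MvPolynomial.eval₂Hom φ fun i => residue A (f i)
  have hp0 : (p : ResidueField A) = 0 := CharP.cast_eq_zero _ p
  have hpm : (p : A) ∈ maximalIdeal A := by
    rw [← residue_eq_zero_iff, map_natCast, hp0]
  have hF : ∀ a ∈ Ideal.span (Set.range F), Φ a = 0 := by
    intro a ha
    refine (Ideal.span_le (I := RingHom.ker Φ)).mpr ?_ ha
    rintro _ ⟨i, rfl⟩
    show Φ (F i) = 0
    simp only [F, map_add, map_sub, map_mul, map_pow, map_natCast, hp0, zero_mul, add_zero]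
    simp [Φ, φ, frobenius_def]
  let Ψ : A' →+* ResidueField A := Ideal.Quotient.lift _ Φ hF
  have hΨa : ∀ a, Ψ (algebraMap A A' a) = residue A a ^ p := fun a => by
    show Φ (algebraMap A _ a) = _
    simp [Φ, φ, frobenius_def]
  have hΨt : ∀ i, Ψ (t i) = residue A (f i) := fun i => MvPolynomial.eval₂Hom_X' φ _ i
  have hmP : mA ≤ RingHom.ker Ψ := Ideal.map_le_iff_le_comap.mpr fun a ha => by
    show Ψ (algebraMap A A' a) = 0
    rw [hΨa, (residue_eq_zero_iff a).mpr ha, zero_pow (Fact.out : p.Prime).ne_zero]
  have hpA : (p : A') ∈ mA := by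
    rw [← map_natCast (algebraMap A A') p]; exact Ideal.mem_map_of_mem _ hpm
  have htp : ∀ i, t i ^ p - algebraMap A A' (f i) ∈ mA := by
    intro i
    have h : q (F i) = 0 := Ideal.Quotient.eq_zero_iff_mem.mpr (Ideal.subset_span ⟨i, rfl⟩)
    have hC : ∀ a, q (MvPolynomial.C a) = algebraMap A A' a := fun a => q.commutes a
    simp only [F, map_add, map_sub, map_pow, map_mul, map_natCast, hC] at h
    obtain ⟨z, hz⟩ : ∃ z : A', t i ^ p + (p : A') * z - algebraMap A A' (f i) = 0 := ⟨_, h⟩
    rw [show t i ^ p - algebraMap A A' (f i) = -((p : A') * z) by linear_combination hz]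
    exact mA.neg_mem (mA.mul_mem_right _ hpA)
  let mon : PBasis.Basic.Exp p ι → A' := fun e => pMonomial t e.1
  let M : Submodule A A' := mA.restrictScalars A ⊔ Submodule.span A (Set.range mon)
  have hmon : ∀ e i, mon e * t i ∈ M := by
    intro e i
    have h0 : mon e * t i = pMonomial t (e.1 + Finsupp.single i 1) := by
      rw [PBasis.Basic.pMonomial_add, PBasis.Basic.pMonomial_single, pow_one]
    rw [h0]
    by_cases h : ∀ j, (e.1 + Finsupp.single i 1 : ι →₀ ℕ) j < p
    · exact Submodule.mem_sup_right (Submodule.subset_span ⟨⟨_, h⟩, rfl⟩)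
    · push Not at h
      obtain ⟨j, hj⟩ := h
      have hji : j = i := by
        by_contra hne
        rw [Finsupp.add_apply, Finsupp.single_eq_of_ne hne, add_zero] at hj
        exact absurd (e.2 j) (by omega)
      rw [hji, Finsupp.add_apply, Finsupp.single_eq_same] at hj
      have hei : e.1 i + 1 = p := by have := e.2 i; omega
      have hdec : e.1 + Finsupp.single i 1 = e.1.erase i + Finsupp.single i p := by
        ext k
        by_cases hk : k = i
        · subst hk; simpa using hei
        · simp [Finsupp.erase_ne hk, hk]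
      let e' : PBasis.Basic.Exp p ι := ⟨e.1.erase i, fun k => by
        by_cases hk : k = i
        · subst hk; simpa using (Fact.out : p.Prime).pos
        · simpa [Finsupp.erase_ne hk] using e.2 k⟩
      rw [hdec, PBasis.Basic.pMonomial_add, PBasis.Basic.pMonomial_single,
        show pMonomial t (e.1.erase i) * t i ^ p =
          mon e' * (t i ^ p - algebraMap A A' (f i)) + f i • mon e' by rw [Algebra.smul_def (A := A')]; simp only [mon, e']; ring]
      exact M.add_mem (Submodule.mem_sup_left (mA.mul_mem_left _ (htp i)))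
        (M.smul_mem _ (Submodule.mem_sup_right (Submodule.subset_span ⟨e', rfl⟩)))
  have hall : ∀ x : A', x ∈ M := by
    intro x
    obtain ⟨P, rfl⟩ := hq x
    induction P using MvPolynomial.induction_on with
    | C a =>
      have : q (MvPolynomial.C a) = a • mon ⟨0, fun _ => (Fact.out : p.Prime).pos⟩ := by
        rw [Algebra.smul_def (A := A')]; simp only [mon, PBasis.Basic.pMonomial_zero, mul_one]; exact q.commutes a
      rw [this]
      exact M.smul_mem _ (Submodule.mem_sup_right (Submodule.subset_span ⟨_, rfl⟩))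
    | add P P' hP hP' => rw [map_add]; exact M.add_mem hP hP'
    | mul_X P i hP =>
      rw [map_mul]
      obtain ⟨u, hu, v, hv, huv⟩ := Submodule.mem_sup.mp hP
      rw [← huv, add_mul]
      refine M.add_mem (Submodule.mem_sup_left (mA.mul_mem_right _ hu)) ?_
      clear huv
      induction hv using Submodule.span_induction with
      | mem y hy => obtain ⟨e, rfl⟩ := hy; exact hmon e i
      | zero => rw [zero_mul]; exact M.zero_mem
      | add y z _ _ hy hz => rw [add_mul]; exact M.add_mem hy hz
      | smul a y _ hy => rw [smul_mul_assoc]; exact M.smul_mem a hy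
  have hPm : RingHom.ker Ψ ≤ mA := by
    intro x hx
    obtain ⟨u, hu, v, hv, rfl⟩ := Submodule.mem_sup.mp (hall x)
    obtain ⟨l, hl⟩ := Finsupp.mem_span_range_iff_exists_finsupp.mp hv
    have hv0 : Ψ v = 0 := by
      have := hmP hu
      rw [RingHom.mem_ker, map_add, show Ψ u = 0 from this, zero_add] at hx
      exact hx
    let l' : PBasis.Basic.Exp p ι →₀ (frobenius (ResidueField A) p).fieldRange :=
      l.mapRange (fun a => ⟨residue A a ^ p, ⟨residue A a, rfl⟩⟩)
        (Subtype.ext (by simp [zero_pow (Fact.out : p.Prime).ne_zero]))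
    have hl0 : l' = 0 := by
      refine linearIndependent_iff.mp hind l' ?_
      rw [← hv0, ← hl, Finsupp.linearCombination_apply, Finsupp.sum_mapRange_index (by intro; simp),
        map_finsuppSum]
      refine Finsupp.sum_congr fun e _ => ?_
      rw [Algebra.smul_def (A := A'), map_mul, hΨa, PBasis.Basic.map_pMonomial]
      simp only [hΨt]
      rfl
    refine mA.add_mem hu ?_
    rw [← hl]
    refine Ideal.sum_mem _ fun e _ => ?_
    dsimp only
    rw [Algebra.smul_def (A := A')]
    refine mA.mul_mem_right _ (Ideal.mem_map_of_mem _ ((residue_eq_zero_iff _).mp ?_))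
    have h := congrArg Subtype.val (DFunLike.congr_fun hl0 e)
    exact pow_eq_zero_iff (Fact.out : p.Prime).ne_zero |>.mp h
  have hpow : ∀ x : A', ∃ u : A, x ^ p - algebraMap A A' u ∈ mA := by
    intro x
    obtain ⟨P, rfl⟩ := hq x
    induction P using MvPolynomial.induction_on with
    | C a => exact ⟨a ^ p, by rw [map_pow, show q (MvPolynomial.C a) = algebraMap A A' a from q.commutes a, sub_self]; exact mA.zero_mem⟩
    | add P P' hP hP' =>
      obtain ⟨u, hu⟩ := hP
      obtain ⟨u', hu'⟩ := hP'
      obtain ⟨r, hr⟩ := exists_add_pow_prime_eq (Fact.out : p.Prime) (q P) (q P')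
      refine ⟨u + u', ?_⟩
      rw [map_add, map_add, hr]
      have h := mA.add_mem (mA.add_mem hu hu') (mA.mul_mem_right (q P * q P' * r) hpA)
      convert h using 1
      ring
    | mul_X P i hP =>
      obtain ⟨u, hu⟩ := hP
      refine ⟨u * f i, ?_⟩
      rw [map_mul, map_mul, mul_pow]
      have h := mA.add_mem (mA.mul_mem_right (t i ^ p) hu) (mA.mul_mem_left (algebraMap A A' u) (htp i))
      convert h using 1
      simp only [t]
      ring
  have hunit : ∀ x, x ∉ RingHom.ker Ψ → IsUnit x := by
    intro x hx
    obtain ⟨u, hu⟩ := hpow x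
    have huu : IsUnit u := by
      rw [← notMem_maximalIdeal]
      intro hum
      apply hx
      have h : Ψ (x ^ p - algebraMap A A' u) = 0 := hmP hu
      rw [map_sub, map_pow, hΨa, (residue_eq_zero_iff u).mpr hum, zero_pow (Fact.out : p.Prime).ne_zero,
        sub_zero] at h
      exact pow_eq_zero_iff (Fact.out : p.Prime).ne_zero |>.mp h
    have hnil : IsNilpotent (x ^ p - algebraMap A A' u) := ⟨2, by
      have := Ideal.pow_mem_pow hu 2
      rwa [← Ideal.map_pow, hm, Ideal.map_bot, Ideal.mem_bot] at this⟩
    have := hnil.isUnit_add_right_of_commute (huu.map (algebraMap A A')) (Commute.all _ _)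
    rw [sub_add_cancel] at this
    exact (isUnit_pow_iff (Fact.out : p.Prime).ne_zero).mp this
  have hprime : (RingHom.ker Ψ).IsPrime := RingHom.ker_isPrime Ψ
  haveI : Nontrivial A' := Ψ.domain_nontrivial
  haveI hloc : IsLocalRing A' := IsLocalRing.of_nonunits_add fun a b ha hb hab => by
    have ha' : a ∈ RingHom.ker Ψ := by by_contra h; exact ha (hunit a h)
    have hb' : b ∈ RingHom.ker Ψ := by by_contra h; exact hb (hunit b h)
    exact hprime.ne_top (Ideal.eq_top_of_isUnit_mem _ ((RingHom.ker Ψ).add_mem ha' hb') hab)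
  refine ⟨hloc, le_antisymm (fun x hx => hPm ?_) ?_⟩
  · by_contra h
    exact hx (hunit x h)
  · exact hmP.trans (IsLocalRing.le_maximalIdeal hprime.ne_top)

end Groth.Agent.S4605
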