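import Groth.Statements.S4606
import Mathlib
import Groth.Agent.AdicFS.Conormal
import Groth.Agent.AdicFS.Jacobian
import Groth.Agent.JacCrit.Quotient

set_option autoImplicit false
universe u
open TensorProduct KaehlerDifferential IsLocalRing
open EGA41

namespace Groth.Agent.S4606

theorem injective_lTensor_congr {R K K' M N : Type*} [CommRing R] [AddCommGroup K] [Module R K]
    [AddCommGroup K'] [Module R K'] [AddCommGroup M] [Module R M] [AddCommGroup N] [Module R N]
    (e : K ≃ₗ[R] K') (f : M →ₗ[R] N) (h : Function.Injective (f.lTensor K)) :
    Function.Injective (f.lTensor K') := by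
  intro x y hxy
  obtain ⟨x, rfl⟩ := (LinearEquiv.rTensor M e).surjective x
  obtain ⟨y, rfl⟩ := (LinearEquiv.rTensor M e).surjective y
  have key : ∀ z, f.lTensor K' (LinearEquiv.rTensor M e z) = LinearEquiv.rTensor N e (f.lTensor K z) := fun z => by
    induction z using TensorProduct.induction_on with
    | zero => simp
    | tmul k m => simp
    | add a b ha hb => simp only [map_add, ha, hb]
  rw [key, key] at hxy
  rw [h ((LinearEquiv.rTensor N e).injective hxy)]

/-- Adic formal smoothness of the local ring of a quotient of a Noetherian formally smooth algebra. -/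
theorem formallySmooth_of_adic {A B C : Type u} [CommRing A] [CommRing B] [CommRing C] [Algebra A B]
    [Algebra B C] [Algebra A C] [IsScalarTower A B C] [IsNoetherianRing B] [Algebra.FormallySmooth A B]
    (hsurj : Function.Surjective (algebraMap B C)) (p : Ideal C) [p.IsPrime]
    (h : CAlgX.IsAdicFormallySmooth A (Localization.AtPrime p) (maximalIdeal (Localization.AtPrime p))) :
    Algebra.FormallySmooth A (Localization.AtPrime p) := by
  let q := p.comap (algebraMap B C)
  let B' := Localization.AtPrime q
  let C' := Localization.AtPrime p
  let φ : B' →+* C' := Localization.localRingHom q p (algebraMap B C) rfl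
  algebraize [φ]
  haveI : IsScalarTower B B' C' := IsScalarTower.of_algebraMap_eq fun x => by
    show _ = φ _
    rw [Localization.localRingHom_to_map]
    exact IsScalarTower.algebraMap_apply B C C' x
  haveI : IsScalarTower A B' C' := IsScalarTower.to₁₃₄ A B B' C'
  have hs : Function.Surjective (algebraMap B' C') := by
    intro y
    obtain ⟨c, s, rfl⟩ := IsLocalization.exists_mk'_eq p.primeCompl y
    obtain ⟨b, rfl⟩ := hsurj c
    obtain ⟨t, ht⟩ := hsurj (s : C)
    have htq : t ∈ q.primeCompl := fun hm => s.2 (by rw [← ht]; exact hm)
    refine ⟨IsLocalization.mk' B' b ⟨t, htq⟩, ?_⟩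
    show φ _ = _
    rw [Localization.localRingHom_mk']
    congr 1
    exact Subtype.ext ht
  haveI : Algebra.FormallyEtale B B' := Algebra.FormallyEtale.of_isLocalization q.primeCompl
  haveI : Algebra.FormallySmooth A B' := Algebra.FormallySmooth.comp A B B'
  haveI : Module.Finite B' (RingHom.ker (algebraMap B' C')) := Module.Finite.of_fg (IsNoetherian.noetherian _)
  haveI : Module.Finite B' (RingHom.ker (algebraMap B' C')).Cotangent :=
    Module.Finite.of_surjective _ (Ideal.toCotangent_surjective _)
  haveI := JacCrit.Quotient.finite_cotangent (A := A) hs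
  haveI : Algebra.FormallySmooth A (JacCrit.Quotient.ext A hs).Ring := ‹Algebra.FormallySmooth A B'›
  have h1 := (JacCrit.Quotient.injective_iff_cotangentComplexBaseChange hs (ResidueField C')).mpr
    (AdicFS.Conormal.injective_cotangentComplexBaseChange hs h)
  let e : ResidueField C' ≃ₗ[C'] (maximalIdeal C').ResidueField := LinearEquiv.ofBijective
    (IsScalarTower.toAlgHom C' (C' ⧸ maximalIdeal C') (maximalIdeal C').ResidueField).toLinearMap
    (Ideal.bijective_algebraMap_quotient_residueField _)
  have h2 := (JacCrit.Basic.formallySmooth_atPrime_iff (JacCrit.Quotient.ext A hs) (maximalIdeal C')).mpr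
    (injective_lTensor_congr e _ h1)
  have hu : (maximalIdeal C').primeCompl ≤ IsUnit.submonoid C' := fun x hx =>
    IsLocalRing.notMem_maximalIdeal.mp hx
  exact Algebra.FormallySmooth.of_equiv
    ((IsLocalization.atUnits C' (maximalIdeal C').primeCompl (S := Localization.AtPrime (maximalIdeal C')) hu).restrictScalars A).symm


/-- Let B be a Noetherian A-algebra formally smooth for the discrete topologies, B → C a surjection with
kernel J, p a prime of C and q its contraction to A. Then C_p is formally smooth over A_q (A_q
discrete, C_p with the adic topology of its maximal ideal) if and only if κ(p) ⊗ J/J² → κ(p) ⊗ (C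
⊗_B Ω_{B/A}) is injective. (The equivalent variant with the q-adic topology on A_q is not stated.) -/
theorem result {A B C : Type u} [CommRing A]
    [CommRing B] [CommRing C] [Algebra A B] [Algebra B C] [Algebra A C] [IsScalarTower A B C] [IsNoetherianRing B]
    [Algebra.FormallySmooth A B] (hsurj : Function.Surjective (algebraMap B C)) (p : Ideal C) [p.IsPrime]
    [Algebra (Localization.AtPrime (p.comap (algebraMap A C))) (Localization.AtPrime p)]
    [IsScalarTower A (Localization.AtPrime (p.comap (algebraMap A C))) (Localization.AtPrime p)] :
    CAlgX.IsAdicFormallySmooth (Localization.AtPrime (p.comap (algebraMap A C))) (Localization.AtPrime p)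
        (maximalIdeal (Localization.AtPrime p)) ↔
      Function.Injective ((kerCotangentToTensor A B C).lTensor p.ResidueField) := by
  let 𝔮 := p.comap (algebraMap A C)
  let Aq := Localization.AtPrime 𝔮
  let C' := Localization.AtPrime p
  haveI : Algebra.FormallyEtale A Aq := Algebra.FormallyEtale.of_isLocalization 𝔮.primeCompl
  haveI : Module.Finite B (RingHom.ker (algebraMap B C)).Cotangent :=
    haveI : Module.Finite B (RingHom.ker (algebraMap B C)) := Module.Finite.of_fg (IsNoetherian.noetherian _)
    Module.Finite.of_surjective _ (Ideal.toCotangent_surjective _)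
  rw [JacCrit.Quotient.injective_iff_kerCotangentToTensor (A := A) hsurj p.ResidueField,
    ← JacCrit.Quotient.formallySmooth_atPrime_iff (A := A) hsurj p]
  constructor
  · intro h
    exact formallySmooth_of_adic hsurj p (AdicFS.Jacobian.trans (Λ := A) h)
  · intro h
    haveI : Algebra.FormallySmooth Aq C' := Algebra.FormallySmooth.localization_base 𝔮.primeCompl
    exact AdicFS.Basic.of_formallySmooth _

end Groth.Agent.S4606
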