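import Groth.Statements.S4607
import Mathlib

set_option autoImplicit false
universe u
open TensorProduct
open EGA41

namespace Groth.Agent.S4607

/-- First assertion, case of two factors: for A-algebras A' and A'' the image of Spec(A' ⊗_A A'') in
Spec A is the intersection of the images of Spec A' and Spec A''. -/
theorem result {A A' A'' : Type u} [CommRing A] [CommRing A'] [CommRing A'']
    [Algebra A A'] [Algebra A A''] :
    Set.range (PrimeSpectrum.comap (algebraMap A (A' ⊗[A] A''))) =
      Set.range (PrimeSpectrum.comap (algebraMap A A')) ∩ Set.range (PrimeSpectrum.comap (algebraMap A A'')) := by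
  ext p
  rw [Set.mem_inter_iff, ← PrimeSpectrum.nontrivial_iff_mem_rangeComap,
    ← PrimeSpectrum.nontrivial_iff_mem_rangeComap, ← PrimeSpectrum.nontrivial_iff_mem_rangeComap]
  let k := p.asIdeal.ResidueField
  let e : k ⊗[A] (A' ⊗[A] A'') ≃ₗ[k] (k ⊗[A] A') ⊗[k] (k ⊗[A] A'') :=
    (TensorProduct.AlgebraTensorModule.assoc A A k k A' A'').symm ≪≫ₗ
      (TensorProduct.AlgebraTensorModule.cancelBaseChange A k k (k ⊗[A] A') A'').symm
  rw [e.toEquiv.nontrivial_congr]
  refine ⟨fun h => ⟨?_, ?_⟩, fun ⟨h1, h2⟩ => ?_⟩
  · refine not_subsingleton_iff_nontrivial.1 fun h' => ?_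
    refine not_subsingleton ((k ⊗[A] A') ⊗[k] (k ⊗[A] A'')) (subsingleton_of_forall_eq 0 fun x => ?_)
    induction x with
    | zero => rfl
    | add a b ha hb => rw [ha, hb, add_zero]
    | tmul a b => first | simp [Subsingleton.elim a 0] | simp [Subsingleton.elim b 0]
  · refine not_subsingleton_iff_nontrivial.1 fun h' => ?_
    refine not_subsingleton ((k ⊗[A] A') ⊗[k] (k ⊗[A] A'')) (subsingleton_of_forall_eq 0 fun x => ?_)
    induction x with
    | zero => rfl
    | add a b ha hb => rw [ha, hb, add_zero]
    | tmul a b => first | simp [Subsingleton.elim a 0] | simp [Subsingleton.elim b 0]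
  · infer_instance

end Groth.Agent.S4607
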