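import Groth.Statements.S4608
import Mathlib

set_option autoImplicit false
universe u
open AlgebraicGeometry CategoryTheory CategoryTheory.Limits
open EGA41

namespace Groth.Agent.S4608

/-- The two coprojections cover. -/
lemma split {X' X'' : Scheme.{u}} (S : Set (X' ⨿ X'' : Scheme.{u})) :
    S = (coprod.inl : X' ⟶ X' ⨿ X'') '' ((coprod.inl : X' ⟶ X' ⨿ X'') ⁻¹' S) ∪
      (coprod.inr : X'' ⟶ X' ⨿ X'') '' ((coprod.inr : X'' ⟶ X' ⨿ X'') ⁻¹' S) := by
  ext x
  constructor
  · intro hx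
    obtain ⟨(y | y), rfl⟩ := (coprodMk X' X'').surjective x
    · rw [coprodMk_inl] at hx ⊢; exact Or.inl ⟨y, hx, rfl⟩
    · rw [coprodMk_inr] at hx ⊢; exact Or.inr ⟨y, hx, rfl⟩
  · rintro (⟨y, hy, rfl⟩ | ⟨y, hy, rfl⟩) <;> exact hy

lemma closed_inl (X' X'' : Scheme.{u}) :
    Topology.IsClosedEmbedding ((coprod.inl : X' ⟶ X' ⨿ X'') : X' → _) := by
  refine ⟨(coprod.inl : X' ⟶ X' ⨿ X'').isOpenEmbedding.isEmbedding, ?_⟩
  rw [← isOpen_compl_iff, (isCompl_range_inl_inr X' X'').compl_eq]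
  exact (coprod.inr : X'' ⟶ X' ⨿ X'').isOpenEmbedding.isOpen_range

lemma closed_inr (X' X'' : Scheme.{u}) :
    Topology.IsClosedEmbedding ((coprod.inr : X'' ⟶ X' ⨿ X'') : X'' → _) := by
  refine ⟨(coprod.inr : X'' ⟶ X' ⨿ X'').isOpenEmbedding.isEmbedding, ?_⟩
  rw [← isOpen_compl_iff, (isCompl_range_inl_inr X' X'').symm.compl_eq]
  exact (coprod.inl : X' ⟶ X' ⨿ X'').isOpenEmbedding.isOpen_range

/-- A morphism from a disjoint union X' ⨿ X'' → Y is quasi-compact if and only if its two components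
are. -/
theorem result {X' X'' Y : Scheme.{u}} (f' : X' ⟶ Y) (f'' : X'' ⟶ Y) :
    QuasiCompact (coprod.desc f' f'') ↔ QuasiCompact f' ∧ QuasiCompact f'' := by
  constructor
  · intro h
    constructor
    · refine ⟨fun U hU hU' => ?_⟩
      rw [show f' = coprod.inl ≫ coprod.desc f' f'' from (coprod.inl_desc _ _).symm]
      exact (closed_inl X' X'').isCompact_preimage (h.1 U hU hU')
    · refine ⟨fun U hU hU' => ?_⟩
      rw [show f'' = coprod.inr ≫ coprod.desc f' f'' from (coprod.inr_desc _ _).symm]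
      exact (closed_inr X' X'').isCompact_preimage (h.1 U hU hU')
  · rintro ⟨h1, h2⟩
    refine ⟨fun U hU hU' => ?_⟩
    rw [split ((coprod.desc f' f'') ⁻¹' U)]
    refine IsCompact.union (IsCompact.image ?_ (Scheme.Hom.continuous _))
      (IsCompact.image ?_ (Scheme.Hom.continuous _))
    · convert h1.1 U hU hU'
      ext x
      simp only [Set.mem_preimage, ← Scheme.Hom.comp_apply, coprod.inl_desc, coprod.inr_desc]
    · convert h2.1 U hU hU'
      ext x
      simp only [Set.mem_preimage, ← Scheme.Hom.comp_apply, coprod.inl_desc, coprod.inr_desc]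

end Groth.Agent.S4608
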