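import Groth.Statements.S4609
import Mathlib

set_option autoImplicit false
universe u
open AlgebraicGeometry CategoryTheory CategoryTheory.Limits
open EGA41

namespace Groth.Agent.S4609

/-- The two coprojections cover. -/
lemma split {X' X'' : Scheme.{u}} (S : Set (X' ⨿ X'' : Scheme.{u})) :
    S = (coprod.inl : X' ⟶ X' ⨿ X'') '' ((coprod.inl : X' ⟶ X' ⨿ X'') ⁻¹' S) ∪
      (coprod.inr : X'' ⟶ X' ⨿ X'') '' ((coprod.inr : X'' ⟶ X' ⨿ X'') ⁻¹' S) := by
  ext x
  constructor
  · intro hx
    obtain ⟨(y | y), rfl⟩ := (coprodMk X' X'').surjective x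
    · rw [coprodMk_inl] at hx ⊢; exact Or.inl ⟨y, hx, rfl⟩
    · rw [coprodMk_inr] at hx ⊢; exact Or.inr ⟨y, hx, rfl⟩
  · rintro (⟨y, hy, rfl⟩ | ⟨y, hy, rfl⟩) <;> exact hy

lemma closed_inl (X' X'' : Scheme.{u}) :
    Topology.IsClosedEmbedding ((coprod.inl : X' ⟶ X' ⨿ X'') : X' → _) := by
  refine ⟨(coprod.inl : X' ⟶ X' ⨿ X'').isOpenEmbedding.isEmbedding, ?_⟩
  rw [← isOpen_compl_iff, (isCompl_range_inl_inr X' X'').compl_eq]
  exact (coprod.inr : X'' ⟶ X' ⨿ X'').isOpenEmbedding.isOpen_range

lemma closed_inr (X' X'' : Scheme.{u}) :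
    Topology.IsClosedEmbedding ((coprod.inr : X'' ⟶ X' ⨿ X'') : X'' → _) := by
  refine ⟨(coprod.inr : X'' ⟶ X' ⨿ X'').isOpenEmbedding.isEmbedding, ?_⟩
  rw [← isOpen_compl_iff, (isCompl_range_inl_inr X' X'').symm.compl_eq]
  exact (coprod.inl : X' ⟶ X' ⨿ X'').isOpenEmbedding.isOpen_range

set_option backward.isDefEq.respectTransparency.types false

/-- A morphism from a disjoint union X' ⨿ X'' → Y is quasi-separated if and only if its two components
are. -/
theorem result {X' X'' Y : Scheme.{u}} (f' : X' ⟶ Y) (f'' : X'' ⟶ Y) :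
    QuasiSeparated (coprod.desc f' f'') ↔ QuasiSeparated f' ∧ QuasiSeparated f'' := by
  constructor
  · intro h
    constructor
    · rw [← coprod.inl_desc f' f'']; infer_instance
    · rw [← coprod.inr_desc f' f'']; infer_instance
  · rintro ⟨h1, h2⟩
    rw [HasAffineProperty.iff_of_iSup_eq_top (P := @QuasiSeparated)
      (fun U : Y.affineOpens => U) (iSup_affineOpens_eq_top Y)]
    intro W
    refine (isQuasiSeparated_iff_quasiSeparatedSpace _ (coprod.desc f' f'' ⁻¹ᵁ (W : Y.Opens)).isOpen).1 ?_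
    intro U V hUW hU hU' hVW hV hV'
    have piece : ∀ {Z : Scheme.{u}} (i : Z ⟶ X' ⨿ X'') (g : Z ⟶ Y) [QuasiSeparated g],
        i ≫ coprod.desc f' f'' = g → Topology.IsClosedEmbedding (i : Z → _) →
          IsCompact (i '' (i ⁻¹' (U ∩ V))) := by
      intro Z i g _ hig hi
      refine IsCompact.image ?_ i.continuous
      rw [Set.preimage_inter]
      refine g.isQuasiSeparated_preimage W.2.isQuasiSeparated _ _ ?_ (hU.preimage i.continuous)
        (hi.isCompact_preimage hU') ?_ (hV.preimage i.continuous) (hi.isCompact_preimage hV')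
      · intro x hx
        have := hUW hx
        subst hig
        exact this
      · intro x hx
        have := hVW hx
        subst hig
        exact this
    rw [split (U ∩ V)]
    exact (piece _ f' (coprod.inl_desc _ _) (closed_inl X' X'')).union
      (piece _ f'' (coprod.inr_desc _ _) (closed_inr X' X''))

end Groth.Agent.S4609
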