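import Groth.Statements.S4610
import Mathlib

set_option autoImplicit false
universe u
open EGA41

namespace Groth.Agent.S4610

/-- `A[T]/(F_i(T_i))`. -/
abbrev Q {A : Type u} [CommRing A] {r : ℕ} (F : Fin r → Polynomial A) : Type u :=
  MvPolynomial (Fin r) A ⧸ Ideal.span (Set.range fun i => Polynomial.aeval (MvPolynomial.X i : MvPolynomial (Fin r) A) (F i))

variable {A : Type u} [CommRing A]

/-- The class of `T_i`. -/
noncomputable def gen {r : ℕ} (F : Fin r → Polynomial A) (i : Fin r) : Q F :=
  Ideal.Quotient.mkₐ A _ (MvPolynomial.X i)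

theorem aeval_gen {r : ℕ} (F : Fin r → Polynomial A) (i : Fin r) :
    Polynomial.aeval (gen F i) (F i) = 0 := by
  rw [gen, Polynomial.aeval_algHom_apply, Ideal.Quotient.mkₐ_eq_mk, Ideal.Quotient.eq_zero_iff_mem]
  exact Ideal.subset_span ⟨i, rfl⟩

theorem hom_ext {r : ℕ} (F : Fin r → Polynomial A) {S : Type*} [CommRing S] [Algebra A S]
    {f g : Q F →ₐ[A] S} (h : ∀ i, f (gen F i) = g (gen F i)) : f = g :=
  Ideal.Quotient.algHom_ext A (MvPolynomial.algHom_ext h)

/-- The universal property. -/
noncomputable def lift {r : ℕ} (F : Fin r → Polynomial A) {S : Type*} [CommRing S] [Algebra A S]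
    (x : Fin r → S) (hx : ∀ i, Polynomial.aeval (x i) (F i) = 0) : Q F →ₐ[A] S :=
  Ideal.Quotient.liftₐ _ (MvPolynomial.aeval x) (by
    intro a ha
    refine (Ideal.span_le (I := RingHom.ker (MvPolynomial.aeval x).toRingHom)).mpr ?_ ha
    rintro _ ⟨i, rfl⟩
    simp [← Polynomial.aeval_algHom_apply, hx])

theorem lift_gen {r : ℕ} (F : Fin r → Polynomial A) {S : Type*} [CommRing S] [Algebra A S]
    (x : Fin r → S) (hx : ∀ i, Polynomial.aeval (x i) (F i) = 0) (i : Fin r) :
    lift F x hx (gen F i) = x i :=
  MvPolynomial.aeval_X x i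

/-- Splitting off the first variable. -/
theorem nonempty_equiv {r : ℕ} (F : Fin (r + 1) → Polynomial A) :
    Nonempty (Q F ≃ₐ[A] AdjoinRoot ((F 0).map (algebraMap A (Q (Fin.tail F))))) := by
  let B := Q (Fin.tail F)
  let g : Polynomial B := (F 0).map (algebraMap A B)
  let fwd : Q F →ₐ[A] AdjoinRoot g :=
    lift F (Fin.cons (AdjoinRoot.root g) fun i => algebraMap B (AdjoinRoot g) (gen (Fin.tail F) i))
      (Fin.cases (by
        rw [Fin.cons_zero, ← Polynomial.aeval_map_algebraMap B, AdjoinRoot.aeval_eq, AdjoinRoot.mk_self])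
        (fun i => by
          rw [Fin.cons_succ, Polynomial.aeval_algebraMap_apply,
            show F i.succ = Fin.tail F i from rfl, aeval_gen, map_zero]))
  let j : B →ₐ[A] Q F := lift (Fin.tail F) (fun i => gen F i.succ) fun i => aeval_gen F i.succ
  let bwd : AdjoinRoot g →ₐ[A] Q F := AdjoinRoot.liftAlgHom g j (gen F 0) (by
    show (Polynomial.map (algebraMap A B) (F 0)).eval₂ j.toRingHom (gen F 0) = 0
    rw [Polynomial.eval₂_map, show j.toRingHom.comp (algebraMap A B) = algebraMap A _ from j.comp_algebraMap]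
    exact aeval_gen F 0)
  have h1 : bwd.comp fwd = AlgHom.id A _ := hom_ext F (Fin.cases (by simp [fwd, bwd, lift_gen])
    (fun i => by
      rw [AlgHom.comp_apply, lift_gen, Fin.cons_succ]
      exact (AdjoinRoot.liftAlgHom_of _ _ _ _ _).trans (lift_gen (Fin.tail F) _ _ i)))
  have h2 : fwd.comp bwd = AlgHom.id A _ := by
    have hof : ((fwd.comp bwd).toRingHom.comp (AdjoinRoot.of g)) = AdjoinRoot.of g := by
      have : (fwd.comp j) = (IsScalarTower.toAlgHom A B (AdjoinRoot g)) := hom_ext _ fun i => by
        rw [AlgHom.comp_apply, lift_gen, lift_gen, Fin.cons_succ]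
        rfl
      refine RingHom.ext fun b => ?_
      show fwd (bwd (AdjoinRoot.of g b)) = _
      rw [AdjoinRoot.liftAlgHom_of]
      exact congrArg (fun φ : B →ₐ[A] AdjoinRoot g => φ b) this
    refine AlgHom.ext fun z => ?_
    induction z using AdjoinRoot.induction_on with
    | ih p =>
      show (fwd.comp bwd).toRingHom (AdjoinRoot.mk g p) = AdjoinRoot.mk g p
      have : (fwd.comp bwd).toRingHom.comp (AdjoinRoot.mk g) = AdjoinRoot.mk g := Polynomial.ringHom_ext
        (fun b => by simpa using congrArg (fun φ : B →+* AdjoinRoot g => φ b) hof)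
        (by simp [fwd, bwd, lift_gen])
      exact congrArg (fun φ : Polynomial B →+* AdjoinRoot g => φ p) this
  exact ⟨AlgEquiv.ofAlgHom fwd bwd h2 h1⟩

theorem key [Nontrivial A] (r : ℕ) : ∀ F : Fin r → Polynomial A, (∀ i, (F i).Monic) →
    Module.Free A (Q F) ∧ Module.Finite A (Q F) ∧
      Module.finrank A (Q F) = Finset.univ.prod fun i => (F i).natDegree := by
  induction r with
  | zero =>
    intro F _
    let e : Q F ≃ₐ[A] A := ((Ideal.quotientEquivAlgOfEq A
      (show Ideal.span (Set.range fun i => Polynomial.aeval (MvPolynomial.X i : MvPolynomial (Fin 0) A) (F i)) = ⊥ by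
        simp [Set.range_eq_empty])).trans (AlgEquiv.quotientBot A _)).trans (MvPolynomial.isEmptyAlgEquiv A (Fin 0))
    exact ⟨Module.Free.of_equiv e.symm.toLinearEquiv, Module.Finite.equiv e.symm.toLinearEquiv,
      by simp [e.toLinearEquiv.finrank_eq]⟩
  | succ r ih =>
    intro F hF
    obtain ⟨hfree, hfin, hrk⟩ := ih (Fin.tail F) fun i => hF i.succ
    obtain ⟨e⟩ := nonempty_equiv F
    let g : Polynomial (Q (Fin.tail F)) := (F 0).map (algebraMap A (Q (Fin.tail F)))
    have hg : g.Monic := (hF 0).map _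
    haveI : Module.Free (Q (Fin.tail F)) (AdjoinRoot g) := Module.Free.of_basis (AdjoinRoot.powerBasis' hg).basis
    haveI : Module.Finite (Q (Fin.tail F)) (AdjoinRoot g) := (AdjoinRoot.powerBasis' hg).finite
    haveI : Module.Free A (AdjoinRoot g) := Module.Free.trans (S := Q (Fin.tail F))
    haveI : Module.Finite A (AdjoinRoot g) := Module.Finite.trans (Q (Fin.tail F)) _
    refine ⟨Module.Free.of_equiv e.symm.toLinearEquiv, Module.Finite.equiv e.symm.toLinearEquiv, ?_⟩
    rw [e.toLinearEquiv.finrank_eq, Fin.prod_univ_succ,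
      show (Finset.univ.prod fun i : Fin r => (F i.succ).natDegree) = Module.finrank A (Q (Fin.tail F)) from hrk.symm]
    rcases subsingleton_or_nontrivial (Q (Fin.tail F)) with h | h
    · haveI : Subsingleton (AdjoinRoot g) := Module.subsingleton (Q (Fin.tail F)) _
      rw [Module.finrank_zero_of_subsingleton, Module.finrank_zero_of_subsingleton, mul_zero]
    · rw [← Module.finrank_mul_finrank A (Q (Fin.tail F)) (AdjoinRoot g), (AdjoinRoot.powerBasis' hg).finrank,
        AdjoinRoot.powerBasis'_dim, (hF 0).natDegree_map, mul_comm]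


/-- Let A be a nonzero ring and F_1, …, F_r monic one-variable polynomials of degrees d_1, …, d_r; then
A[T_1, …, T_r]/(F_1(T_1), …, F_r(T_r)) is a free A-module of rank ∏ d_i. (The published statement
assumes A local with maximal ideal of square zero and A' local, which this assertion does not use;
its bound [K' : K] ≤ d and part (ii) are not stated.) -/
theorem result {A : Type u} [CommRing A] [Nontrivial A]
    {r : ℕ} (F : Fin r → Polynomial A) (hF : ∀ i, (F i).Monic) :
    Module.Free A (MvPolynomial (Fin r) A ⧸ Ideal.span (Set.range fun i => Polynomial.aeval (MvPolynomial.X i : MvPolynomial (Fin r) A) (F i))) ∧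
      Module.finrank A (MvPolynomial (Fin r) A ⧸ Ideal.span (Set.range fun i => Polynomial.aeval (MvPolynomial.X i : MvPolynomial (Fin r) A) (F i))) =
        Finset.univ.prod fun i => (F i).natDegree := by
  exact ⟨(key r F hF).1, (key r F hF).2.2⟩

end Groth.Agent.S4610
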