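import Groth.Statements.S4611
import Mathlib

set_option autoImplicit false
universe u
open EGA41

namespace Groth.Agent.S4611

/-- A local algebra essentially of finite type over a ring A is A-isomorphic to a quotient of a
localization A[T_1, …, T_n]_q of a polynomial algebra at a prime ideal q; stated as the existence of
a surjective A-algebra map from such a localization. -/
theorem result {A B : Type u} [CommRing A]
    [CommRing B] [IsLocalRing B] [Algebra A B] [Algebra.EssFiniteType A B] :
    ∃ (n : ℕ) (q : Ideal (MvPolynomial (Fin n) A)) (_ : q.IsPrime)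
      (φ : Localization.AtPrime q →ₐ[A] B), Function.Surjective φ := by
  classical
  obtain ⟨σ, hσ⟩ := (Algebra.essFiniteType_iff A B).mp inferInstance
  let e := σ.equivFin
  let φ₀ : MvPolynomial (Fin σ.card) A →ₐ[A] B := MvPolynomial.aeval fun i => ((e.symm i : σ) : B)
  have hrange : Algebra.adjoin A (σ : Set B) ≤ φ₀.range := Algebra.adjoin_le fun x hx =>
    ⟨MvPolynomial.X (e ⟨x, hx⟩), by simp [φ₀]⟩
  let q : Ideal (MvPolynomial (Fin σ.card) A) := (IsLocalRing.maximalIdeal B).comap φ₀.toRingHom
  haveI hq : q.IsPrime := Ideal.IsPrime.comap _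
  have hu : ∀ y : q.primeCompl, IsUnit (φ₀ y) := fun y =>
    IsLocalRing.notMem_maximalIdeal.mp y.2
  refine ⟨σ.card, q, hq, IsLocalization.liftAlgHom hu, fun b => ?_⟩
  obtain ⟨t, ht, htu, hbt⟩ := hσ b
  obtain ⟨t', ht'⟩ := hrange ht
  obtain ⟨s', hs'⟩ := hrange hbt
  have htq : t' ∈ q.primeCompl := by
    show ¬ φ₀ t' ∈ IsLocalRing.maximalIdeal B
    rw [show φ₀ t' = t from ht']
    exact IsLocalRing.notMem_maximalIdeal.mpr htu
  refine ⟨IsLocalization.mk' (Localization.AtPrime q) s' ⟨t', htq⟩, ?_⟩
  rw [IsLocalization.liftAlgHom_apply, IsLocalization.lift_mk'_spec]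
  exact hs'.trans (by rw [show φ₀.toRingHom t' = t from ht', mul_comm])

end Groth.Agent.S4611
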