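import Groth.Statements.S4612
import Mathlib
import Groth.Agent.EGA41Lib.NagataCrit

set_option autoImplicit false
universe u
open IsLocalRing
open EGA41

namespace Groth.Agent.S4612

/-- Nagata's Jacobian criterion for quotients of power series rings: let k be a field, A = k[[T_1, …,
T_r]], q ⊆ p ideals of A with p prime, B = A/q. Suppose A/p contains a sub-k-algebra isomorphic to a
power series algebra k[[X_1, …, X_s]] over which A/p is finite and such that the fraction field L of
A/p is a separable extension of the fraction field L' of k[[X_1, …, X_s]]; here this is given as an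
injective k-algebra map k[[X_1, …, X_s]] → A/p making A/p a finite module, with fraction fields L',
L and a compatible L'-algebra structure on L. Then the following are equivalent: B_p is formally
smooth over k for the adic topology of its maximal ideal; there are k-derivations D_1, …, D_m of A
into itself and f_1, …, f_m ∈ q generating qA_p with det(D_i f_j) ∉ p; B_p is a regular local ring.
(The published statement remarks that the hypothesis on A/p always holds when k has characteristic
zero.) -/
theorem result {k : Type u} [Field k] (r : ℕ)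
    (q p : Ideal (MvPowerSeries (Fin r) k)) [p.IsPrime] (hqp : q ≤ p) [(p.map (Ideal.Quotient.mk q)).IsPrime]
    (s : ℕ) [Algebra (MvPowerSeries (Fin s) k) (MvPowerSeries (Fin r) k ⧸ p)]
    [IsScalarTower k (MvPowerSeries (Fin s) k) (MvPowerSeries (Fin r) k ⧸ p)]
    [Module.Finite (MvPowerSeries (Fin s) k) (MvPowerSeries (Fin r) k ⧸ p)]
    (hinj : Function.Injective (algebraMap (MvPowerSeries (Fin s) k) (MvPowerSeries (Fin r) k ⧸ p)))
    {L' L : Type u} [Field L'] [Field L]
    [Algebra (MvPowerSeries (Fin s) k) L'] [IsFractionRing (MvPowerSeries (Fin s) k) L']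
    [Algebra (MvPowerSeries (Fin r) k ⧸ p) L] [IsFractionRing (MvPowerSeries (Fin r) k ⧸ p) L]
    [Algebra L' L] [Algebra (MvPowerSeries (Fin s) k) L]
    [IsScalarTower (MvPowerSeries (Fin s) k) (MvPowerSeries (Fin r) k ⧸ p) L]
    [IsScalarTower (MvPowerSeries (Fin s) k) L' L] [Algebra.IsSeparable L' L] :
    [CAlgX.IsAdicFormallySmooth k (Localization.AtPrime (p.map (Ideal.Quotient.mk q)))
        (maximalIdeal (Localization.AtPrime (p.map (Ideal.Quotient.mk q)))),
     ∃ (m : ℕ) (D : Fin m → Derivation k (MvPowerSeries (Fin r) k) (MvPowerSeries (Fin r) k))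
        (f : Fin m → MvPowerSeries (Fin r) k), (∀ i, f i ∈ q) ∧
        q.map (algebraMap (MvPowerSeries (Fin r) k) (Localization.AtPrime p)) =
          Ideal.span (Set.range fun i => algebraMap (MvPowerSeries (Fin r) k) (Localization.AtPrime p) (f i)) ∧
        Matrix.det (Matrix.of fun i j => D i (f j)) ∉ p,
     IsRegularLocalRing (Localization.AtPrime (p.map (Ideal.Quotient.mk q)))].TFAE := by
  haveI : IsRegularLocalRing (Localization.AtPrime p) := EGA41Lib.NagataCrit.isRegularLocalRing_atPrime p
  haveI : IsNoetherianRing (MvPowerSeries (Fin r) k) :=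
    haveI := EGA41Lib.isRegularRing_mvPowerSeries k r
    inferInstance
  tfae_have 1 → 3 := fun h => EGA41Lib.NagataCrit.isRegular_of_isAdicFormallySmooth h
  tfae_have 3 → 2 := fun h => EGA41Lib.NagataCrit.JC_of_isRegular (L' := L') (L := L) hqp s hinj h
  tfae_have 2 → 1 := fun h =>
    EGA41Lib.NagataCrit.isAdicFormallySmooth_of_JC (fun d hd => by
      exact EGA41Lib.NagataCrit.exists_coeffDer d hd) hqp h
  tfae_finish

end Groth.Agent.S4612
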