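import Groth.Statements.S4613
import Mathlib

set_option autoImplicit false
universe u
open AlgebraicGeometry CategoryTheory
open EGA41

namespace Groth.Agent.S4613

/-- For a closed immersion j : X → Y: j is locally of finite presentation if and only if its ideal sheaf
is of finite type, i.e. for every affine open U of Y the kernel of Γ(U, O_Y) → Γ(j⁻¹U, O_X) is
finitely generated. (An immersion with image closed in an open U reduces to this case.) -/
theorem result {X Y : Scheme.{u}} (j : X ⟶ Y)
    [IsClosedImmersion j] :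
    LocallyOfFinitePresentation j ↔ ∀ U : Y.affineOpens, (RingHom.ker (j.app U).hom).FG := by
  constructor
  · intro h U
    have hV : IsAffineOpen (j ⁻¹ᵁ (U : Y.Opens)) := U.2.preimage j
    have h1 := h.finitePresentation_appLE U.2 hV le_rfl
    rw [← Scheme.Hom.app_eq_appLE] at h1
    have hs := j.app_surjective (U : Y.Opens) U.2
    let alg : Algebra Γ(Y, (U : Y.Opens)) Γ(X, j ⁻¹ᵁ (U : Y.Opens)) := (j.app (U : Y.Opens)).hom.toAlgebra
    have : Algebra.FinitePresentation Γ(Y, (U : Y.Opens)) Γ(X, j ⁻¹ᵁ (U : Y.Opens)) := h1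
    exact Algebra.FinitePresentation.ker_fG_of_surjective (R := Γ(Y, (U : Y.Opens)))
      (Algebra.ofId Γ(Y, (U : Y.Opens)) Γ(X, j ⁻¹ᵁ (U : Y.Opens))) hs
  · intro h
    refine ⟨fun {U} hU {V} hV e => ?_⟩
    have h1 : (j.app U).hom.FinitePresentation :=
      RingHom.FinitePresentation.of_surjective _ (j.app_surjective U hU) (h ⟨U, hU⟩)
    have h2 : ((𝟙 X : X ⟶ X).appLE (j ⁻¹ᵁ U) V e).hom.FinitePresentation :=
      LocallyOfFinitePresentation.finitePresentation_appLE _ (hU.preimage j) hV e
    rw [Scheme.Hom.appLE, CommRingCat.hom_comp]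
    simp only [Scheme.Hom.appLE, Scheme.Hom.id_app] at h2
    exact h2.comp h1

end Groth.Agent.S4613
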