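import Groth.Statements.S4616
import Mathlib
import Groth.Agent.S4571
import Groth.Agent.EGA41Lib.SubfieldKaehler

set_option autoImplicit false
universe u
open TensorProduct KaehlerDifferential IsLocalRing
open EGA41

namespace Groth.Agent.S4616

open EGA41Lib

/-- Vanishing is inherited by larger base fields. -/
theorem map_eq_zero_of_le {k : Type u} [Field k] {L L' : Subfield k} (h : L ≤ L') (ω : Ω[k⁄ℤ])
    (hω : map ℤ L k k ω = 0) : map ℤ L' k k ω = 0 := by
  letI : Algebra L L' := (Subfield.inclusion h).toAlgebra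
  haveI : IsScalarTower L L' k := IsScalarTower.of_algebraMap_eq fun _ => rfl
  have key : ∀ t : Ω[k⁄ℤ], map L L' k k (map ℤ L k k t) = map ℤ L' k k t := by
    intro t
    have ht : t ∈ Submodule.span k (Set.range (D ℤ k)) := by rw [span_range_derivation]; trivial
    induction ht using Submodule.span_induction with
    | mem y hy => obtain ⟨c, rfl⟩ := hy; simp
    | zero => simp
    | add a b _ _ ha hb => simp only [map_add, ha, hb]
    | smul r a _ ha => simp only [map_smul, ha]
  rw [← key, hω, map_zero]

variable {k A : Type u} [Field k] [CommRing A] [IsLocalRing A] [Algebra k A] {ι : Type u}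
  (kα : ι → Subfield k) (α : ι)

theorem comm (y : ResidueField A ⊗[A] (A ⊗[k] Ω[k⁄ℤ])) :
    ((map ℤ (kα α) A A).restrictScalars A).lTensor (ResidueField A)
        ((mapBaseChange ℤ k A).lTensor (ResidueField A) y) =
      (mapBaseChange (kα α) k A).lTensor (ResidueField A)
        (((map ℤ (kα α) k k).baseChange A).lTensor (ResidueField A) y) := by
  rw [← LinearMap.comp_apply, ← LinearMap.lTensor_comp,
    Groth.Agent.FieldSep.Imperfection.map_comp_mapBaseChange ℤ (kα α) k A, LinearMap.lTensor_comp,
    LinearMap.comp_apply]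

theorem injective_of_injective (h : Function.Injective ((mapBaseChange ℤ k A).lTensor (ResidueField A))) :
    Function.Injective ((mapBaseChange (kα α) k A).lTensor (ResidueField A)) := by
  rw [injective_iff_map_eq_zero]
  intro x hx
  obtain ⟨y, rfl⟩ := LinearMap.lTensor_surjective (ResidueField A)
    (g := (map ℤ (kα α) k k).baseChange A) (LinearMap.lTensor_surjective A (map_surjective ℤ (kα α) k)) x
  rw [← comm] at hx
  obtain ⟨z, hz⟩ := ((lTensor_exact (ResidueField A) (exact_mapBaseChange_map ℤ (kα α) A)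
    (map_surjective ℤ (kα α) A)) _).mp hx
  let μ : A ⊗[kα α] Ω[(kα α)⁄ℤ] →ₗ[A] A ⊗[k] Ω[k⁄ℤ] :=
    LinearMap.liftBaseChange A ((TensorProduct.mk k A Ω[k⁄ℤ] 1).restrictScalars (kα α) ∘ₗ map ℤ ℤ (kα α) k)
  have hμ : mapBaseChange ℤ k A ∘ₗ μ = mapBaseChange ℤ (kα α) A := by
    refine TensorProduct.AlgebraTensorModule.ext fun a ω => ?_
    have h1 : ∀ ω : Ω[(kα α)⁄ℤ], map ℤ ℤ k A (map ℤ ℤ (kα α) k ω) = map ℤ ℤ (kα α) A ω := by
      intro ω
      have hω : ω ∈ Submodule.span (kα α) (Set.range (D ℤ (kα α))) := by rw [span_range_derivation]; trivial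
      induction hω using Submodule.span_induction with
      | mem y hy =>
        obtain ⟨c, rfl⟩ := hy
        simp [← IsScalarTower.algebraMap_apply]
      | zero => simp
      | add a b _ _ ha hb => simp only [map_add, ha, hb]
      | smul r a _ ha => simp only [map_smul, LinearMap.map_smul_of_tower, ha]
    rw [LinearMap.comp_apply, LinearMap.liftBaseChange_tmul]
    show mapBaseChange ℤ k A (a • ((1 : A) ⊗ₜ[k] map ℤ ℤ (kα α) k ω)) = _
    rw [map_smul, mapBaseChange_tmul, one_smul, mapBaseChange_tmul, h1]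
  have hy : y = μ.lTensor (ResidueField A) z := h (by
    rw [← hz, ← LinearMap.comp_apply ((mapBaseChange ℤ k A).lTensor _), ← LinearMap.lTensor_comp, hμ])
  have hq : (map ℤ (kα α) k k).baseChange A ∘ₗ μ = 0 := by
    refine TensorProduct.AlgebraTensorModule.ext fun a ω => ?_
    have h1 : map ℤ (kα α) k k (map ℤ ℤ (kα α) k ω) = 0 := by
      have := DFunLike.congr_fun (α := _) (exact_mapBaseChange_map ℤ (kα α) k).linearMap_comp_eq_zero ((1 : k) ⊗ₜ ω)
      simpa using this
    rw [LinearMap.comp_apply, LinearMap.liftBaseChange_tmul, map_smul, LinearMap.comp_apply]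
    show a • ((1 : A) ⊗ₜ[k] map ℤ (kα α) k k (map ℤ ℤ (kα α) k ω)) = 0
    rw [h1, TensorProduct.tmul_zero, smul_zero]
  rw [hy, ← LinearMap.comp_apply (f := ((map ℤ (kα α) k k).baseChange A).lTensor _), ← LinearMap.lTensor_comp, hq,
    LinearMap.lTensor_zero, LinearMap.zero_apply]

theorem injective_of_forall (p : ℕ) [Fact p.Prime] [CharP k p] [Preorder ι] [IsDirected ι (fun a b => a ≤ b)]
    [Nonempty ι] (hanti : Antitone kα)
    (hint : ⨅ α, (kα α ⊔ (frobenius k p).fieldRange) = (frobenius k p).fieldRange) (α₀ : ι)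
    (hα₀ : ∀ α, α₀ ≤ α → Function.Injective ((mapBaseChange (kα α) k A).lTensor (ResidueField A))) :
    Function.Injective ((mapBaseChange ℤ k A).lTensor (ResidueField A)) := by
  rw [injective_iff_map_eq_zero]
  intro y hy
  let K := ResidueField A
  have hq : ∀ α, α₀ ≤ α → ((map ℤ (kα α) k k).baseChange A).lTensor K y = 0 := by
    intro α hα
    apply hα₀ α hα
    rw [map_zero, ← comm, hy, map_zero]
  classical
  let e := AlgebraTensorModule.cancelBaseChange k A A K Ω[k⁄ℤ]
  let b := Module.Basis.ofVectorSpace k K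
  let E := TensorProduct.equivFinsuppOfBasisLeft (N := Ω[k⁄ℤ]) b
  suffices e y = 0 from e.map_eq_zero_iff.mp this
  refine E.map_eq_zero_iff.mp (Finsupp.ext fun i => ?_)
  show E (e y) i = 0
  refine SubfieldKaehler.eq_zero_of_forall p kα hanti hint _ fun α => ?_
  obtain ⟨γ, hγ₀, hγα⟩ := exists_ge_ge α₀ α
  have key : ∀ z, map ℤ (kα γ) k k (E (e z) i) =
      TensorProduct.equivFinsuppOfBasisLeft b
        (AlgebraTensorModule.cancelBaseChange k A A K Ω[k⁄(kα γ)] (((map ℤ (kα γ) k k).baseChange A).lTensor K z)) i := by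
    intro z
    induction z using TensorProduct.induction_on with
    | zero => simp
    | add a b ha hb => simp only [map_add, Finsupp.add_apply, ha, hb]
    | tmul c t =>
      induction t using TensorProduct.induction_on with
      | zero => simp
      | add a b ha hb => simp only [TensorProduct.tmul_add, map_add, Finsupp.add_apply, ha, hb]
      | tmul a ω => simp [e, E, map_smul]
  have h0 : map ℤ (kα γ) k k (E (e y) i) = 0 := by
    rw [key, hq γ hγ₀]; simp
  exact map_eq_zero_of_le (hanti hγα) _ h0


/-- Let k be a field of characteristic p > 0, A a local k-algebra with maximal ideal m and residue field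
K, (k_α) a decreasing directed family of subfields of k with ⋂ k_α(k^p) = k^p. Then A is formally
smooth over k for the m-adic topology if and only if the maps Sym^n_K(m/m²) → m^n/m^(n+1) are
bijective (n ≥ 1) and, for all large α, Ω_{k/k_α} ⊗_k K → Ω_{A/k_α} ⊗_A K is injective. -/
theorem result {k A : Type u}
    [Field k] (p : ℕ) [Fact p.Prime] [CharP k p] [CommRing A] [IsLocalRing A] [Algebra k A]
    {ι : Type u} [Preorder ι] [IsDirected ι (fun a b => a ≤ b)] [Nonempty ι] (kα : ι → Subfield k)
    (hanti : Antitone kα) (hint : ⨅ α, (kα α ⊔ (frobenius k p).fieldRange) = (frobenius k p).fieldRange) :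
    CAlgX.IsAdicFormallySmooth k A (maximalIdeal A) ↔
      (PP16.SymGrBijective A (maximalIdeal A) ∧ ∃ α₀ : ι, ∀ α : ι, α₀ ≤ α →
        Function.Injective ((mapBaseChange (kα α) k A).lTensor (ResidueField A))) := by
  rw [Groth.Agent.S4571.result]
  refine and_congr_right fun _ => ⟨fun h => ⟨Classical.arbitrary ι, fun α _ => injective_of_injective kα α h⟩,
    fun ⟨α₀, hα₀⟩ => injective_of_forall kα p hanti hint α₀ hα₀⟩

end Groth.Agent.S4616
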