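import Groth.Statements.S4619
import Groth.Agent.FBase.ConnComp
-- import your own Groth.Agent.* helpers here

set_option autoImplicit false
open CategoryTheory AlgebraicGeometry
universe u
open FBase

namespace Groth.Agent.S4619

open CategoryTheory.Limits TensorProduct
open Groth.Agent.FBase.BC Groth.Agent.FBase.BC2 Groth.Agent.FBase.Topo
open Groth.Agent.FBase.Components Groth.Agent.FBase.ConnComp

/-- For a connected scheme: let X be a connected scheme over a field k and x a point of X whose residue
field κ(x) is a primary extension of k, i.e. the separable algebraic closure of k in κ(x) is k
itself (this holds in particular when x is a k-rational point). Then X is geometrically connected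
over k. (The published statement concerns the connected component of x in an arbitrary scheme over
k; this row takes X connected.) -/
theorem result {k : Type u} [Field k] {X : Scheme.{u}}
    [ConnectedSpace X] (f : X ⟶ Spec (CommRingCat.of k)) (x : X)
    (hx : FBase.ResidueFieldProp f x (fun K _ _ => separableClosure k K = ⊥)) :
    GeometricallyConnected f := by
  obtain ⟨κ, _, _, ι, _, hι, hr, hbot⟩ := exists_point_of_residueFieldProp f hx
  have := geometricallyIrreducible_specMap (k := k) hbot
  have := geometricallyConnected_of_geometricallyIrreducible (specMap k κ)
  refine ⟨geometrically_iff_of_commRing_of_isClosedUnderIsomorphisms.mpr fun L _ _ ↦ ?_⟩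
  have h := isConnected_preimage_fst f (specMap k κ) ι hι isConnected_univ (Set.subset_univ _)
    (K := L)
  rw [Set.preimage_univ] at h
  exact connectedSpace_iff_univ.mpr h

end Groth.Agent.S4619
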