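import Groth.Statements.S4622
import Groth.Agent.FBase.BC2
import Mathlib.AlgebraicGeometry.Morphisms.UniversallyInjective
-- import your own Groth.Agent.* helpers here

set_option autoImplicit false
open CategoryTheory AlgebraicGeometry
universe u
open FBase

namespace Groth.Agent.S4622

open CategoryTheory.Limits TensorProduct

/-- Let k be a separably closed field, k' an algebraic closure of k and X a scheme over k. Then the
projection X ⊗_k k' → X is a universal homeomorphism. -/
theorem result {k k' : Type u} [Field k] [IsSepClosed k] [Field k'] [Algebra k k']
    [IsAlgClosure k k'] {X : Scheme.{u}} (f : X ⟶ Spec (CommRingCat.of k)) :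
    FlatMor.IsUnivHomeo (FBase.bcπ f k') := by
  have : IsPurelyInseparable k k' :=
    haveI : Algebra.IsAlgebraic k k' := IsAlgClosure.isAlgebraic
    inferInstance
  let σ := Groth.Agent.FBase.BC.specMap k k'
  have : UniversallyInjective σ := by
    refine ((tfae_universallyInjective σ).out 0 1).mpr ?_
    intro L instL g₁ g₂ hg
    let := instL
    obtain ⟨φ₁, rfl⟩ := Spec.map_surjective g₁
    obtain ⟨φ₂, rfl⟩ := Spec.map_surjective g₂
    simp only [σ, ← Spec.map_comp] at hg
    congr 1
    have key : Function.Injective fun g : k' →+* L ↦ g.comp (algebraMap k k') :=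
      IsPurelyInseparable.injective_comp_algebraMap ..
    exact CommRingCat.hom_ext (key (congrArg CommRingCat.Hom.hom (Spec.map_injective hg)))
  have : Surjective σ := Groth.Agent.FBase.BC.surjective_specMap
  intro X' Y' i₁ i₂ f' H
  have h₁ : UniversallyInjective f' :=
    MorphismProperty.of_isPullback (P := @UniversallyInjective) H.flip
      (MorphismProperty.of_isPullback (P := @UniversallyInjective) (IsPullback.of_hasPullback f σ).flip ‹_›)
  have h₂ : Surjective f' :=
    MorphismProperty.of_isPullback (P := @Surjective) H.flip
      (MorphismProperty.of_isPullback (P := @Surjective) (IsPullback.of_hasPullback f σ).flip ‹_›)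
  have h₃ : UniversallyOpen f' :=
    MorphismProperty.of_isPullback (P := @UniversallyOpen) H.flip
      (MorphismProperty.of_isPullback (P := @UniversallyOpen) (IsPullback.of_hasPullback f σ).flip inferInstance)
  exact ⟨f'.continuous, f'.isOpenMap, f'.injective, f'.surjective⟩

end Groth.Agent.S4622
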