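import Groth.Statements.S4623
import Groth.Agent.FBase.BC
-- import your own Groth.Agent.* helpers here

set_option autoImplicit false
open CategoryTheory AlgebraicGeometry
universe u
open FBase

namespace Groth.Agent.S4623

open CategoryTheory.Limits

lemma surjective_map {k : Type u} [Field k] {X Y : Scheme.{u}}
    (f : X ⟶ Spec (CommRingCat.of k)) (g : Y ⟶ Spec (CommRingCat.of k)) (h : X ⟶ Y) (w : h ≫ g = f)
    [Surjective h] {K : Type u} [Field K] (y : Spec (CommRingCat.of K) ⟶ Spec (CommRingCat.of k)) :
    Surjective (pullback.map f y g y h (𝟙 _) (𝟙 _) (by simp [w]) (by simp)) := by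
  subst w
  have H : IsPullback (pullback.fst (h ≫ g) y)
      (pullback.map (h ≫ g) y g y h (𝟙 _) (𝟙 _) (by simp) (by simp)) h (pullback.fst g y) := by
    refine IsPullback.of_bot ?_ (pullback.lift_fst _ _ _).symm (IsPullback.of_hasPullback g y)
    unfold pullback.map
    rw [pullback.lift_snd, Category.comp_id]
    exact IsPullback.of_hasPullback _ y
  exact MorphismProperty.of_isPullback (P := @Surjective) H ‹Surjective h›


/-- Let h : X → Y be a surjective morphism of schemes over a field k. If X is geometrically irreducible
over k, then Y is geometrically irreducible over k. -/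
theorem result {k : Type u} [Field k] {X Y : Scheme.{u}}
    (f : X ⟶ Spec (CommRingCat.of k)) (g : Y ⟶ Spec (CommRingCat.of k)) (h : X ⟶ Y) (w : h ≫ g = f)
    [Surjective h] [GeometricallyIrreducible f] : GeometricallyIrreducible g := by
  refine ⟨geometrically_iff_of_isClosedUnderIsomorphisms.mpr fun K _ y ↦ ?_⟩
  have : IrreducibleSpace ↥(pullback f y) :=
    pullback_of_geometrically GeometricallyIrreducible.geometrically_irreducibleSpace _ _
  have := surjective_map f g h w y
  exact Groth.Agent.FBase.BC.irreducibleSpace_of_surjective (pullback.map f y g y h (𝟙 _) (𝟙 _) _ _)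

end Groth.Agent.S4623
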