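import Groth.Statements.S4633
import Groth.Agent.S3429
import Groth.Agent.FDesc.BaseChangeStalk
import Groth.Agent.FDesc.QuasiFlat
import Groth.Agent.FlatMor.GenericPts
import Mathlib.AlgebraicGeometry.Morphisms.UniversallyOpen

set_option autoImplicit false
open CategoryTheory AlgebraicGeometry
universe u
open FDesc

open CategoryTheory.Limits
namespace Groth.Agent.S4633

open CategoryTheory.Limits in
open CategoryTheory.Limits in
open scoped TensorProduct in
theorem generalizingMap_fst {X Y Y' : Scheme.{u}} (f : X ⟶ Y) (g : Y' ⟶ Y)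
    (hg : FDesc.IsQuasiFlat g) : GeneralizingMap (pullback.fst f g).base := by
  obtain ⟨M, hM, hfl, hne⟩ := hg
  intro z t' ht'
  obtain ⟨p, rfl⟩ : t' ∈ Set.range (X.fromSpecStalk (pullback.fst f g z)) := by
    rw [Scheme.range_fromSpecStalk]; exact ht'
  let q := pullback.fst f g
  let pr := pullback.snd f g
  let N := (Scheme.Modules.pullback pr).obj M
  have hN : FlatMod.IsFlatOverAt q N z :=
    Groth.Agent.FDesc.BaseChangeStalk.flatOverAt_baseChange (IsPullback.of_hasPullback f g).flip z M (hfl _)
  have := Groth.Agent.FDesc.QuasiFlat.finite_stalk_of_isCoh M hM (pr z)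
  have := hne (pr z)
  obtain ⟨e, -⟩ := Groth.Agent.FDesc.Stalk.exists_stalk_equiv pr M z
  algebraize [(q.stalkMap z).hom]
  let := FlatMod.moduleStalkOver q N z
  let : Algebra (Y'.presheaf.stalk (pr z)) ((pullback f g).presheaf.stalk z) :=
    (pr.stalkMap z).hom.toAlgebra
  have hl : IsLocalHom (algebraMap (Y'.presheaf.stalk (pr z)) ((pullback f g).presheaf.stalk z)) :=
    pr.toLRSHom.prop z
  have : IsScalarTower (X.presheaf.stalk (q z)) ((pullback f g).presheaf.stalk z) (N.presheaf.stalk z) :=
    IsScalarTower.of_algebraMap_smul fun _ _ => rfl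
  have : Module.Flat (X.presheaf.stalk (q z)) (N.presheaf.stalk z) := hN
  have : Module.Finite ((pullback f g).presheaf.stalk z) (N.presheaf.stalk z) :=
    Module.Finite.equiv e
  have : Nontrivial (N.presheaf.stalk z) := by
    refine not_subsingleton_iff_nontrivial.mp fun hs => ?_
    have : Subsingleton ((pullback f g).presheaf.stalk z ⊗[Y'.presheaf.stalk (pr z)] M.presheaf.stalk (pr z)) :=
      e.injective.subsingleton
    exact not_subsingleton (M.presheaf.stalk (pr z))
      (Groth.Agent.S3429.subsingleton_of_tensor (B := Y'.presheaf.stalk (pr z))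
        (C := (pullback f g).presheaf.stalk z) (M.presheaf.stalk (pr z)))
  have : IsLocalHom (algebraMap (X.presheaf.stalk (q z)) ((pullback f g).presheaf.stalk z)) :=
    q.toLRSHom.prop z
  have : p.asIdeal.IsPrime := PrimeSpectrum.isPrime p
  obtain ⟨P, hP, hPp⟩ := Groth.Agent.FDesc.QuasiFlat.exists_prime_comap_eq
    (B := (pullback f g).presheaf.stalk z) (N.presheaf.stalk z) p.asIdeal
  refine ⟨(pullback f g).fromSpecStalk z ⟨P, hP⟩, ?_, ?_⟩
  · have : (pullback f g).fromSpecStalk z ⟨P, hP⟩ ∈ Set.range ((pullback f g).fromSpecStalk z) := ⟨_, rfl⟩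
    rwa [Scheme.range_fromSpecStalk] at this
  · change ((pullback f g).fromSpecStalk z ≫ q) ⟨P, hP⟩ = _
    rw [← Scheme.SpecMap_stalkMap_fromSpecStalk q, Scheme.Hom.comp_apply]
    exact congrArg (X.fromSpecStalk (q z)) (PrimeSpectrum.ext hPp)

theorem closure_image_eq {α β : Type*} [TopologicalSpace α] [TopologicalSpace β] {f : α → β}
    (hc : Continuous f) {S : Set α} {x : α} (hx : IsGenericPoint x S) :
    closure (f '' S) = closure {f x} := by
  rw [← (hx.image hc).def]

open CategoryTheory.Limits in
/-- Generalizations inside a fibre over a point lift to the fibre product. -/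
theorem exists_lift_of_fibre {X Y Y' : Scheme.{u}} (f : X ⟶ Y) (g : Y' ⟶ Y)
    (z : ↥(pullback f g)) (y : Y') (hy : y ⤳ pullback.snd f g z)
    (hgy : g y = g (pullback.snd f g z)) :
    ∃ w, w ⤳ z ∧ pullback.snd f g w = y := by
  let η := g (pullback.snd f g z)
  let j := Y.fromSpecResidueField η
  let b : pullback g j ⟶ Y' := pullback.fst g j
  let sA : pullback f j ⟶ Spec (Y.residueField η) := pullback.snd f j
  let sB : pullback g j ⟶ Spec (Y.residueField η) := pullback.snd g j
  have hfl' : Flat (pullback.snd f (sB ≫ j)) := by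
    rw [show pullback.snd f (sB ≫ j) = (pullbackLeftPullbackSndIso f j sB).inv ≫ pullback.snd sA sB by
      rw [Iso.eq_inv_comp]; exact pullbackLeftPullbackSndIso_hom_snd f j sB]
    have : Flat sA := inferInstance
    infer_instance
  have hfl : Flat (pullback.snd f (b ≫ g)) := by
    rw [show b ≫ g = sB ≫ j from pullback.condition]; exact hfl'
  have hq : Flat (pullback.snd (pullback.snd f g) b) := by
    rw [← pullbackLeftPullbackSndIso_hom_snd f g b]
    infer_instance
  have hr : Set.range b = g ⁻¹' {η} := by
    rw [Scheme.Pullback.range_fst, Scheme.range_fromSpecResidueField]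
  obtain ⟨v, hv⟩ : pullback.snd f g z ∈ Set.range b := by rw [hr]; rfl
  obtain ⟨v', hv'⟩ : y ∈ Set.range b := by rw [hr]; exact hgy
  obtain ⟨u, hu, hu'⟩ := Scheme.Pullback.exists_preimage_pullback (f := pullback.snd f g) (g := b) z v hv.symm
  have hvv : v' ⤳ pullback.snd (pullback.snd f g) b u := by
    rw [hu', ← b.isEmbedding.toIsInducing.specializes_iff, hv, hv']
    exact hy
  obtain ⟨u', hu'', hu3⟩ := Flat.generalizingMap (pullback.snd (pullback.snd f g) b) hvv
  refine ⟨pullback.fst (pullback.snd f g) b u', hu ▸ hu''.map (pullback.fst _ b).continuous, ?_⟩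
  rw [← Scheme.Hom.comp_apply, pullback.condition, Scheme.Hom.comp_apply]
  exact (congrArg b hu3).trans hv'

/-- Let f : X → Y be a morphism such that every irreducible component of X dominates an irreducible
component of Y (the closure of its image under f is an irreducible component of Y), and let g : Y' →
Y be quasi-flat (for instance flat). Then every irreducible component of X ×_Y Y' dominates an
irreducible component of Y'. -/
theorem result {X Y Y' : Scheme.{u}} (f : X ⟶ Y) (g : Y' ⟶ Y)
    (hf : ∀ Z ∈ irreducibleComponents ↥X, closure (⇑f '' Z) ∈ irreducibleComponents ↥Y)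
    (hg : FDesc.IsQuasiFlat g) (Z' : Set ↥(pullback f g)) (hZ' : Z' ∈ irreducibleComponents ↥(pullback f g)) :
    closure (⇑(pullback.snd f g) '' Z') ∈ irreducibleComponents ↥Y' := by
  obtain ⟨ξ, hξ⟩ := QuasiSober.sober hZ'.1 (isClosed_of_mem_irreducibleComponents Z' hZ')
  rw [closure_image_eq (pullback.snd f g).continuous hξ]
  have hξm : closure {ξ} ∈ irreducibleComponents ↥(pullback f g) := by rw [hξ.def]; exact hZ'
  rw [Groth.Agent.FlatMor.GenericPts.closure_mem_irreducibleComponents_iff]
  intro y hy
  have hx : closure {pullback.fst f g ξ} ∈ irreducibleComponents ↥X :=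
    Groth.Agent.FlatMor.GenericPts.generic_of_generalizingMap (generalizingMap_fst f g hg)
      (pullback.fst f g).continuous hξm
  have hη : closure {f (pullback.fst f g ξ)} ∈ irreducibleComponents ↥Y := by
    have := hf _ hx
    rwa [closure_image_eq f.continuous (x := pullback.fst f g ξ) isGenericPoint_closure] at this
  rw [Groth.Agent.FlatMor.GenericPts.closure_mem_irreducibleComponents_iff] at hη hξm
  have he : g (pullback.snd f g ξ) = f (pullback.fst f g ξ) := by
    rw [← Scheme.Hom.comp_apply, ← Scheme.Hom.comp_apply, pullback.condition]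
  have h1 : g y ⤳ f (pullback.fst f g ξ) := he ▸ hy.map g.continuous
  have hgy : g y = g (pullback.snd f g ξ) := he ▸ (h1.antisymm (hη _ h1)).eq
  obtain ⟨w, hw, rfl⟩ := exists_lift_of_fibre f g ξ y hy hgy
  exact (hξm w hw).map (pullback.snd f g).continuous

end Groth.Agent.S4633
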