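import Groth.Statements.S4636
import Groth.Agent.AssSch.Basic
-- import your own Groth.Agent.* helpers here

set_option autoImplicit false
open CategoryTheory AlgebraicGeometry
universe u
open AssSch

namespace Groth.Agent.S4636

open Groth.Agent.AssSch Groth.Agent.AssSch.Stalk Groth.Agent.AssSch.Basic Groth.Agent.QCoh
  Groth.Agent.PullStalk.Sky

/-- Let X be a locally Noetherian scheme, F a coherent O_X-module and x a point of X. Then x is a
maximal associated point of F (an associated point such that every associated point specialising to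
x equals x) if and only if x is the generic point of an irreducible component of Supp F, i.e. F_x ≠
0 and every point y with F_y ≠ 0 that specialises to x equals x. -/
theorem result {X : Scheme.{u}} [IsLocallyNoetherian X] (F : X.Modules)
    (hF : Coh.IsCoh F) (x : X) :
    (x ∈ AssSch.Ass F ∧ ∀ y ∈ AssSch.Ass F, y ⤳ x → y = x) ↔
      (Nontrivial ↑(F.presheaf.stalk x) ∧ ∀ y : X, Nontrivial ↑(F.presheaf.stalk y) → y ⤳ x → y = x) := by
  have : F.IsQuasicoherent := hF.1
  constructor
  · rintro ⟨hx, hmax⟩
    refine ⟨nontrivial_of_mem_ass F hx, fun y hy hyx ↦ ?_⟩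
    obtain ⟨z, hz, hzy⟩ := exists_mem_ass_specializes F hy
    obtain rfl := hmax z hz (hzy.trans hyx)
    exact (hyx.antisymm hzy).eq
  · rintro ⟨hx, hmax⟩
    obtain ⟨z, hz, hzx⟩ := exists_mem_ass_specializes F hx
    obtain rfl := hmax z (nontrivial_of_mem_ass F hz) hzx
    exact ⟨hz, fun y hy hyx ↦ hmax y (nontrivial_of_mem_ass F hy) hyx⟩

end Groth.Agent.S4636
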