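import Groth.Statements.S4637
import Groth.Agent.AssSch.Basic
import Groth.Agent.FDesc.QuasiFlat
import Mathlib.RingTheory.HopkinsLevitzki
import Mathlib.RingTheory.Length
-- import your own Groth.Agent.* helpers here

set_option autoImplicit false
open CategoryTheory AlgebraicGeometry
universe u
open AssSch

namespace Groth.Agent.S4637

open TopologicalSpace
open Groth.Agent.QCoh Groth.Agent.PullStalk.Sky Groth.Agent.AssSch.Stalk Groth.Agent.AssSch.Basic

/-- Let X be a locally Noetherian scheme, F a coherent O_X-module and x a point of X. Then x is the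
generic point of an irreducible component of Supp F (F_x ≠ 0 and every point y with F_y ≠ 0 that
specialises to x equals x) if and only if F_x is a nonzero module of finite length over the local
ring O_{X,x}. -/
theorem result {X : Scheme.{u}} [IsLocallyNoetherian X] (F : X.Modules)
    (hF : Coh.IsCoh F) (x : X) :
    (Nontrivial ↑(F.presheaf.stalk x) ∧ ∀ y : X, Nontrivial ↑(F.presheaf.stalk y) → y ⤳ x → y = x) ↔
      (Nontrivial ↑(F.presheaf.stalk x) ∧ IsFiniteLength ↑(X.presheaf.stalk x) ↑(F.presheaf.stalk x)) := by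
  have : F.IsQuasicoherent := hF.1
  obtain ⟨V, hV, hxV⟩ := exists_affine x
  constructor
  · rintro ⟨hnt, hmin⟩
    refine ⟨hnt, ?_⟩
    have : Module.Finite ↑(X.presheaf.stalk x) ↑(F.presheaf.stalk x) :=
      Groth.Agent.FDesc.QuasiFlat.finite_stalk_of_isCoh F hF x
    let R : Type u := ↑(X.presheaf.stalk x)
    let N : Type u := ↑(F.presheaf.stalk x)
    -- elements of the maximal ideal are nilpotent on each element
    have hnil : ∀ r ∈ IsLocalRing.maximalIdeal R, ∀ t : N, ∃ n : ℕ, r ^ n • t = 0 := by
      intro r hr t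
      let : Algebra Γ(X, V) R := (X.presheaf.germ V x hxV).hom.toAlgebra
      have : IsLocalization.AtPrime R (primeOf hV x hxV) := hV.isLocalization_stalk ⟨x, hxV⟩
      obtain ⟨⟨g, h⟩, hgh⟩ := IsLocalization.surj (primeOf hV x hxV).primeCompl r
      have hgp : g ∈ primeOf hV x hxV := by
        rw [← IsLocalization.AtPrime.to_map_mem_maximal_iff R (primeOf hV x hxV)]
        exact hgh ▸ Ideal.mul_mem_right _ _ hr
      obtain ⟨a, s, ha, has⟩ := exists_germ_smul_eq F hV x hxV t
      suffices ∃ n, ∃ b ∉ primeOf hV x hxV, (b * g ^ n) • s = 0 by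
        obtain ⟨n, b, hb, hbs⟩ := this
        refine ⟨n, ?_⟩
        have hh : IsUnit (algebraMap Γ(X, V) R (h : Γ(X, V))) := IsLocalization.map_units R h
        have h0 : germM F V x hxV (g ^ n • s) = 0 :=
          (germM_eq_zero_iff F hV x hxV _).mpr ⟨b, hb, by rw [← mul_smul]; exact hbs⟩
        rw [germM_smul, ← has, map_pow] at h0
        change algebraMap Γ(X, V) R g ^ n • (algebraMap Γ(X, V) R a • t) = (0 : N) at h0
        have ha' : IsUnit (algebraMap Γ(X, V) R a) := (isUnit_germ_iff hV x hxV a).mpr ha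
        rw [smul_comm, ha'.smul_eq_zero, ← hgh, mul_pow,
          mul_comm, mul_smul, (hh.pow n).smul_eq_zero] at h0
        exact h0
      by_contra! hcon
      let S : Submonoid Γ(X, V) := (primeOf hV x hxV).primeCompl ⊔ Submonoid.powers g
      have hdisj : Disjoint ((⊥ : Submodule Γ(X, V) Γ(F, V)).colon {s} : Set Γ(X, V)) (S : Set Γ(X, V)) := by
        rw [Set.disjoint_left]
        intro c hc hcS
        obtain ⟨b, hb, _, ⟨n, rfl⟩, rfl⟩ := Submonoid.mem_sup.mp hcS
        exact hcon n b hb (Submodule.mem_colon_singleton.mp hc)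
      obtain ⟨P, hP, hsP, hPS⟩ := Ideal.exists_le_prime_disjoint _ _ hdisj
      obtain ⟨y, hyV, rfl⟩ := exists_point hV P
      have hyx : primeOf hV y hyV ≤ primeOf hV x hxV := fun c hc ↦ by
        by_contra hn
        exact Set.disjoint_left.mp hPS hc (Submonoid.mem_sup_left hn)
      have hg : g ∉ primeOf hV y hyV := fun hc ↦
        Set.disjoint_left.mp hPS hc (Submonoid.mem_sup_right (Submonoid.mem_powers g))
      have hy : Nontrivial ↑(F.presheaf.stalk y) := by
        refine ⟨⟨germM F V y hyV s, 0, fun h0 ↦ ?_⟩⟩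
        obtain ⟨c, hc, hcs⟩ := (germM_eq_zero_iff F hV y hyV s).mp h0
        exact hc (hsP (Submodule.mem_colon_singleton.mpr hcs))
      obtain rfl := hmin y hy ((primeOf_le_iff hV y x hyV hxV).mp hyx)
      exact hg hgp
    -- hence the annihilator is primary to the maximal ideal
    obtain ⟨m, v, hv⟩ := Module.Finite.exists_fin (R := R) (M := N)
    have hann : ∀ r ∈ IsLocalRing.maximalIdeal R, ∃ n : ℕ, r ^ n ∈ Module.annihilator R N := by
      intro r hr
      choose n hn using fun i ↦ hnil r hr (v i)
      refine ⟨Finset.univ.sup n, Module.mem_annihilator.mpr fun w ↦ ?_⟩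
      have hw : w ∈ Submodule.span R (Set.range v) := hv ▸ trivial
      induction hw using Submodule.span_induction with
      | mem y hy =>
        obtain ⟨i, rfl⟩ := hy
        rw [← Nat.sub_add_cancel (Finset.le_sup (f := n) (Finset.mem_univ i)), pow_add, mul_smul, hn,
          smul_zero]
      | zero => exact smul_zero _
      | add y z _ _ hy hz => rw [smul_add, hy, hz, add_zero]
      | smul c y _ hy => rw [smul_comm, hy, smul_zero]
    let J := Module.annihilator R N
    have : IsArtinianRing (R ⧸ J) := by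
      rw [isArtinianRing_iff_krullDimLE_zero]
      refine Ring.KrullDimLE.mk₀ fun I hI ↦ ?_
      have hc : I.comap (Ideal.Quotient.mk J) = IsLocalRing.maximalIdeal R := by
        refine le_antisymm (IsLocalRing.le_maximalIdeal (Ideal.comap_ne_top _ hI.ne_top)) fun r hr ↦ ?_
        obtain ⟨n, hn⟩ := hann r hr
        exact (Ideal.comap_isPrime _ I).mem_of_pow_mem n
          (by rw [Ideal.mem_comap, Ideal.Quotient.eq_zero_iff_mem.mpr hn]; exact I.zero_mem)
      rw [← Ideal.map_comap_of_surjective _ Ideal.Quotient.mk_surjective I, hc]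
      refine (Ideal.map_eq_top_or_isMaximal_of_surjective _ Ideal.Quotient.mk_surjective
        (IsLocalRing.maximalIdeal.isMaximal R)).resolve_left fun h ↦ hI.ne_top ?_
      rw [← Ideal.map_comap_of_surjective _ Ideal.Quotient.mk_surjective I, hc, h]
    let : Module (R ⧸ J) N := (Module.isTorsionBySet_annihilator R N).module
    have : IsScalarTower R (R ⧸ J) N := (Module.isTorsionBySet_annihilator R N).isScalarTower
    have : Module.Finite (R ⧸ J) N := Module.Finite.of_restrictScalars_finite R _ N
    change IsFiniteLength R N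
    rw [← Module.length_ne_top_iff,
      Module.length_eq_of_surjective (R := R ⧸ J) Ideal.Quotient.mk_surjective]
    exact Module.length_ne_top
  · rintro ⟨hnt, hfl⟩
    refine ⟨hnt, fun y hy hyx ↦ ?_⟩
    have hyV : y ∈ V := hyx.mem_open V.2 hxV
    by_contra hne
    have hle : primeOf hV y hyV ≤ primeOf hV x hxV := (primeOf_le_iff hV y x hyV hxV).mpr hyx
    have hlt : ¬ primeOf hV x hxV ≤ primeOf hV y hyV := fun h ↦
      hne (eq_of_primeOf_eq hV hyV hxV (hle.antisymm h))
    obtain ⟨g, hgx, hgy⟩ := SetLike.not_le_iff_exists.mp hlt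
    obtain ⟨t, ht⟩ := exists_ne (0 : F.presheaf.stalk y)
    obtain ⟨a, s, ha, has⟩ := exists_germ_smul_eq F hV y hyV t
    have hr : X.presheaf.germ V x hxV g ∈ IsLocalRing.maximalIdeal (X.presheaf.stalk x) := by
      rw [IsLocalRing.mem_maximalIdeal]
      exact fun h ↦ (isUnit_germ_iff hV x hxV g).mp h hgx
    obtain ⟨hN, hA⟩ := isFiniteLength_iff_isNoetherian_isArtinian.mp hfl
    -- powers of `g` stabilise on the germ of `s`
    obtain ⟨n, hn⟩ := monotone_stabilizes_iff_artinian.mpr hA
      ⟨fun i ↦ OrderDual.toDual (Submodule.span (X.presheaf.stalk x)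
        {(X.presheaf.germ V x hxV g) ^ i • germM F V x hxV s}),
        fun i j hij ↦ Submodule.span_le.mpr (Set.singleton_subset_iff.mpr (by
          change _ ∈ Submodule.span _ _
          rw [← Nat.sub_add_cancel hij, pow_add, mul_smul]
          exact Submodule.smul_mem _ _ (Submodule.subset_span rfl)))⟩
    have hmem := congrArg OrderDual.ofDual (hn (n + 1) n.le_succ)
    change Submodule.span _ _ = Submodule.span _ _ at hmem
    have hin : (X.presheaf.germ V x hxV g) ^ n • germM F V x hxV s ∈
        Submodule.span (X.presheaf.stalk x)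
          {(X.presheaf.germ V x hxV g) ^ n • germM F V x hxV s} :=
      Submodule.mem_span_singleton_self _
    rw [hmem] at hin
    obtain ⟨c, hc⟩ := Submodule.mem_span_singleton.mp hin
    have hu : IsUnit (1 - c * X.presheaf.germ V x hxV g) :=
      IsLocalRing.isUnit_one_sub_self_of_mem_nonunits _ (Ideal.mul_mem_left _ _ hr)
    have h0 : germM F V x hxV (g ^ n • s) = 0 := by
      rw [germM_smul, map_pow]
      refine hu.smul_eq_zero.mp ?_
      rw [sub_smul, one_smul, sub_eq_zero]
      conv_lhs => rw [← hc, pow_succ', mul_smul, smul_smul]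
    obtain ⟨b, hb, hbs⟩ := (germM_eq_zero_iff F hV x hxV _).mp h0
    apply ht
    have : germM F V y hyV s = 0 := (germM_eq_zero_iff F hV y hyV s).mpr
      ⟨b * g ^ n, (hV.primeIdealOf ⟨y, hyV⟩).isPrime.mul_notMem (fun h ↦ hb (hle h))
        (fun h ↦ hgy ((hV.primeIdealOf ⟨y, hyV⟩).isPrime.mem_of_pow_mem n h)),
        (mul_smul _ _ _).trans hbs⟩
    exact ((isUnit_germ_iff hV y hyV a).mpr ha).smul_eq_zero.mp (has.trans this)

end Groth.Agent.S4637
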