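import Groth.Statements.S4638
import Groth.Agent.AssSch.Basic
-- import your own Groth.Agent.* helpers here

set_option autoImplicit false
open CategoryTheory AlgebraicGeometry
universe u
open AssSch

namespace Groth.Agent.S4638

open Groth.Agent.AssSch Groth.Agent.AssSch.Stalk Groth.Agent.AssSch.Basic Groth.Agent.QCoh
  Groth.Agent.PullStalk.Sky

/-- Let X be a locally Noetherian scheme, F a quasi-coherent O_X-module and f a global section of O_X.
Then f is F-regular, i.e. multiplication by the germ of f is injective on every stalk of F, if and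
only if every associated point of F lies in the open subset X_f where f does not vanish. -/
theorem result {X : Scheme.{u}} [IsLocallyNoetherian X] (F : X.Modules)
    (hF : Coh.IsQCoh F) (f : Γ(X, ⊤)) :
    (∀ x : X, IsSMulRegular ↑(F.presheaf.stalk x) (X.presheaf.germ ⊤ x trivial f)) ↔
      AssSch.Ass F ⊆ (X.basicOpen f : Set ↥X) := by
  have : F.IsQuasicoherent := hF
  constructor
  · intro h x hx
    by_contra hxf
    obtain ⟨hp, t, ht⟩ := isAssociatedPrime_iff.mp hx
    have hmem : X.presheaf.germ ⊤ x trivial f ∈ IsLocalRing.maximalIdeal (X.presheaf.stalk x) :=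
      fun hu ↦ hxf ((X.mem_basicOpen f x trivial).mpr hu)
    have h0 : X.presheaf.germ ⊤ x trivial f • t = 0 := by
      rw [ht, Submodule.mem_colon_singleton, Submodule.mem_bot] at hmem
      exact hmem
    have ht0 : t = 0 := h x (h0.trans (smul_zero _).symm)
    refine hp.ne_top ?_
    rw [ht, ht0, Ideal.eq_top_iff_one, Submodule.mem_colon_singleton, smul_zero]
    exact zero_mem _
  · intro h x
    refine isSMulRegular_iff_right_eq_zero_of_smul.mpr fun t ht ↦ ?_
    obtain ⟨V, hV, hxV⟩ := exists_affine x
    obtain ⟨g, s, hg, hgs⟩ := exists_germ_smul_eq F hV x hxV t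
    have hgf : X.presheaf.germ V x hxV (rres (le_top : V ≤ ⊤) f) = X.presheaf.germ ⊤ x trivial f :=
      germ_rres le_top x hxV f
    have hfs : germM F V x hxV (rres (le_top : V ≤ ⊤) f • s) = 0 := by
      rw [germM_smul, ← hgs, hgf, smul_comm, ht, smul_zero]
    obtain ⟨g', hg', hg's⟩ := (germM_eq_zero_iff F hV x hxV _).mp hfs
    have hs : g' • s = 0 := by
      refine eq_zero_of_forall_germ_eq_zero F hV _ fun z hz hzA ↦ ?_
      have hu : IsUnit (X.presheaf.germ V z hz (rres (le_top : V ≤ ⊤) f)) := by
        rw [germ_rres le_top z hz f]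
        exact (X.mem_basicOpen f z trivial).mp (h hzA)
      refine hu.smul_eq_zero.mp ?_
      rw [← germM_smul, smul_comm, hg's, germM_zero]
    have : germM F V x hxV s = 0 := (germM_eq_zero_iff F hV x hxV s).mpr ⟨g', hg', hs⟩
    exact ((isUnit_germ_iff hV x hxV g).mpr hg).smul_eq_zero.mp (hgs.trans this)

end Groth.Agent.S4638
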