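import Groth.Statements.S4639
import Groth.Agent.S2488
import Mathlib.AlgebraicGeometry.Morphisms.Flat

set_option autoImplicit false
open CategoryTheory AlgebraicGeometry
universe u
open FDesc

namespace Groth.Agent.S4639

/-- The property of being quasi-compact and universally bicontinuous (every base change is a
homeomorphism onto its image) descends along a surjective, flat and quasi-compact base change. -/
theorem result :
    MorphismProperty.DescendsAlong
      (MorphismProperty.universally (topologically (fun f => Topology.IsEmbedding f)) ⊓ @QuasiCompact : MorphismProperty Scheme.{u})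
      (@Surjective ⊓ @Flat ⊓ @QuasiCompact : MorphismProperty Scheme.{u}) := by
  refine ⟨fun {A X Y Z} {fst snd f g} h hf hfst => ?_⟩
  obtain ⟨⟨_, _⟩, _⟩ := hf
  obtain ⟨he, _⟩ := hfst
  have hq := Groth.Agent.S2488.quasiCompact_of_pullback h
  refine ⟨MorphismProperty.universally_mk' _ g fun {T} t _ => ?_, hq⟩
  -- base change the square along `t`
  let q : Limits.pullback t g ⟶ T := Limits.pullback.fst t g
  have hT : IsPullback (Limits.pullback.fst t g) (Limits.pullback.snd t g) t g :=
    IsPullback.of_hasPullback t g
  let f' := Limits.pullback.snd f t
  have hXT := IsPullback.of_hasPullback f t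
  have hsq := IsPullback.of_hasPullback f' q
  have : QuasiCompact q := MorphismProperty.pullback_fst t g hq
  have : Flat f' := MorphismProperty.pullback_snd f t inferInstance
  have : Surjective f' := MorphismProperty.pullback_snd f t inferInstance
  refine Groth.Agent.S2488.isEmbedding_of_pullback hsq ?_
  -- the top-left map is a base change of `fst`
  have h1 : IsPullback (Limits.pullback.fst f' q) (Limits.pullback.snd f' q ≫ Limits.pullback.snd t g)
      (f' ≫ t) g := hsq.paste_vert hT
  have h2 : IsPullback (Limits.pullback.fst f' q) (Limits.pullback.snd f' q ≫ Limits.pullback.snd t g)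
      (Limits.pullback.fst f t ≫ f) g := by
    rw [hXT.w]; exact h1
  let l := h.lift (Limits.pullback.fst f' q ≫ Limits.pullback.fst f t)
    (Limits.pullback.snd f' q ≫ Limits.pullback.snd t g) (by rw [Category.assoc]; exact h2.w)
  have h3 : IsPullback (Limits.pullback.fst f' q) l (Limits.pullback.fst f t) fst :=
    IsPullback.of_bot (by rw [IsPullback.lift_snd]; exact h2) (h.lift_fst _ _ _).symm h
  exact he _ _ _ h3

end Groth.Agent.S4639
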