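import Groth.Statements.S4640
import Mathlib.RingTheory.Flat.TorsionFree
import Mathlib.RingTheory.Localization.BaseChange
-- import your own Groth.Agent.* helpers here

set_option autoImplicit false
universe u
open FDesc

namespace Groth.Agent.S4640

open TensorProduct in
/-- Let A be a Dedekind domain with fraction field K, M an A-module and P' a K-submodule of K ⊗_A M. Let
φ : M → (K ⊗_A M)/P' be m ↦ class of 1 ⊗ m. Then a submodule Q of M equals ker φ if and only if M/Q
is a flat A-module and the kernel of the induced surjection K ⊗_A M → K ⊗_A (M/Q) is P'. Thus M/ker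
φ is the unique flat quotient of M with generic fibre (K ⊗_A M)/P'. (The published statement takes A
Noetherian, regular and of dimension 1; a field is allowed here, where the statement is immediate.) -/
theorem result {A K : Type u} [CommRing A] [IsDedekindDomain A] [Field K]
    [Algebra A K] [IsFractionRing A K] {M : Type u} [AddCommGroup M] [Module A M]
    (P' : Submodule K (K ⊗[A] M)) (Q : Submodule A M) :
    Q = LinearMap.ker ((P'.restrictScalars A).mkQ ∘ₗ TensorProduct.mk A K M 1) ↔
      (Module.Flat A (M ⧸ Q) ∧ LinearMap.ker (Q.mkQ.baseChange K) = P') := by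
  have hiso : IsLocalizedModule (nonZeroDivisors A) (TensorProduct.mk A K M 1) :=
    (isLocalizedModule_iff_isBaseChange (nonZeroDivisors A) K _).mpr (TensorProduct.isBaseChange A M K)
  set Q₀ : Submodule A M := LinearMap.ker ((P'.restrictScalars A).mkQ ∘ₗ TensorProduct.mk A K M 1)
    with hQ₀
  have hQ₀mem : ∀ m, m ∈ Q₀ ↔ (1 : K) ⊗ₜ[A] m ∈ P' := by
    intro m; simp [hQ₀, LinearMap.mem_ker]
  have hflat : Module.Flat A (M ⧸ Q₀) := by
    rw [IsDedekindDomain.flat_iff_torsion_eq_bot, Submodule.eq_bot_iff]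
    intro q hq
    obtain ⟨m, rfl⟩ := Submodule.Quotient.mk_surjective _ q
    obtain ⟨⟨a, ha⟩, ha'⟩ := hq
    rw [Submodule.Quotient.mk_eq_zero, hQ₀mem]
    change a • Submodule.Quotient.mk m = (0 : M ⧸ Q₀) at ha'
    rw [← Submodule.Quotient.mk_smul, Submodule.Quotient.mk_eq_zero, hQ₀mem,
      TensorProduct.tmul_smul, ← algebraMap_smul K a] at ha'
    exact (P'.smul_mem_iff (IsFractionRing.to_map_ne_zero_of_mem_nonZeroDivisors ha)).mp ha'
  have hscale : ∀ y : K ⊗[A] M, ∃ (c : K) (m : M), c ≠ 0 ∧ c • y = (1 : K) ⊗ₜ[A] m := by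
    intro y
    obtain ⟨⟨m, a⟩, h⟩ := IsLocalizedModule.surj (nonZeroDivisors A) (TensorProduct.mk A K M 1) y
    refine ⟨algebraMap A K a, m, IsFractionRing.to_map_ne_zero_of_mem_nonZeroDivisors a.2, ?_⟩
    rw [algebraMap_smul]
    exact h
  have hker : ∀ (Q' : Submodule A M), Module.Flat A (M ⧸ Q') → ∀ m : M,
      (1 : K) ⊗ₜ[A] m ∈ LinearMap.ker (Q'.mkQ.baseChange K) ↔ m ∈ Q' := by
    intro Q' _ m
    rw [LinearMap.mem_ker, LinearMap.baseChange_tmul]
    refine ⟨fun h => ?_, fun h => by rw [Submodule.mkQ_apply, (Submodule.Quotient.mk_eq_zero _).mpr h, TensorProduct.tmul_zero]⟩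
    have hinj := Module.Flat.rTensor_preserves_injective_linearMap (M := M ⧸ Q')
      (Algebra.linearMap A K) (IsFractionRing.injective A K)
    have : (1 : A) ⊗ₜ[A] Q'.mkQ m = 0 := hinj (by simpa using h)
    have := congrArg (TensorProduct.lid A (M ⧸ Q')) this
    simpa [Submodule.Quotient.mk_eq_zero] using this
  constructor
  · rintro rfl
    refine ⟨hflat, ?_⟩
    ext y
    obtain ⟨c, m, hc, hy⟩ := hscale y
    rw [← P'.smul_mem_iff hc, ← (LinearMap.ker _).smul_mem_iff hc (x := y), hy, hker _ hflat, hQ₀mem]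
  · rintro ⟨hQ, hP⟩
    ext m
    rw [hQ₀mem, ← hker Q hQ, hP]

end Groth.Agent.S4640
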