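import Groth.Statements.S4644
import Groth.Agent.FBase.Dim
import Groth.Agent.ConsPairLib.DimCons
-- import your own Groth.Agent.* helpers here

set_option autoImplicit false
open CategoryTheory AlgebraicGeometry
universe u
open FBase

namespace Groth.Agent.S4644

open CategoryTheory.Limits TopologicalSpace
open Groth.Agent.FBase.BC Groth.Agent.FBase.Topo Groth.Agent.FBase.IrredComp Groth.Agent.FBase.Dim

/-- The dimension of a closed subset is bounded by the transcendence degrees at its points. -/
lemma topDim_closed_le {k : Type u} [Field k] {Y : Scheme.{u}} [Y.Over (Spec (CommRingCat.of k))]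
    [LocallyOfFiniteType (Y ↘ Spec (CommRingCat.of k))] {C : Set Y} (hC : IsClosed C) {n : ℕ}
    (h : ∀ z ∈ C, VarDim.dimPt k Y z ≤ n) : topologicalKrullDim C ≤ (n : WithBot ℕ∞) := by
  let I := Scheme.IdealSheafData.vanishingIdeal (⟨C, hC⟩ : Closeds Y)
  have hr : Set.range I.subschemeι = C := RedSub.range_vanishingIdeal_subschemeι _
  rw [topDim_congr hr.symm, ← topDim_range I.subschemeι.isEmbedding,
    VarDim.topologicalKrullDim_eq_krullDim, Order.krullDim]
  refine iSup_le fun l ↦ ?_
  have hstrict : StrictMono fun i ↦ I.subschemeι (l i) := by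
    intro a b hab
    refine lt_iff_le_not_ge.mpr ⟨?_, fun h' ↦ (l.strictMono hab).not_ge ?_⟩
    · exact (l.strictMono hab).le.map I.subschemeι.continuous
    · exact I.subschemeι.isEmbedding.isInducing.specializes_iff.mp h'
  let L : LTSeries Y := LTSeries.mk l.length _ hstrict
  have h5 : L.length ≤ VarDim.dimPt k Y L.last := le_add_self.trans (VarDim.dimPt_add_length_le k L)
  have h6 := h L.last (hr.le ⟨_, rfl⟩)
  exact_mod_cast h5.trans h6

/-- Let Y be a nonempty scheme locally of finite type over a field k whose irreducible components all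
have the same dimension, and let Z be a locally closed subset of Y (the underlying set of a
subscheme). Then Z is nowhere dense in Y if and only if dim Z < dim Y. (For Y empty the left side
holds and the right side fails, so Y is taken nonempty; dimensions are Krull dimensions of the
underlying spaces.) -/
theorem result {k : Type u} [Field k] {Y : Scheme.{u}} [Nonempty ↥Y]
    (g : Y ⟶ Spec (CommRingCat.of k)) [LocallyOfFiniteType g]
    (heq : ∀ T ∈ irreducibleComponents ↥Y, topologicalKrullDim ↥T = topologicalKrullDim ↥Y)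
    (Z : Set ↥Y) (hZ : IsLocallyClosed Z) :
    IsNowhereDense Z ↔ topologicalKrullDim ↥Z < topologicalKrullDim ↥Y := by
  let : Y.Over (Spec (CommRingCat.of k)) := ⟨g⟩
  have : LocallyOfFiniteType (Y ↘ Spec (CommRingCat.of k)) := ‹LocallyOfFiniteType g›
  obtain ⟨y₀⟩ := ‹Nonempty ↥Y›
  let d := topologicalKrullDim ↥Y
  have hpt : ∀ y : Y, (VarDim.dimPt k Y y : WithBot ℕ∞) ≤ d := fun y ↦ by
    change _ ≤ topologicalKrullDim ↥Y
    rw [VarDim.topologicalKrullDim_eq_iSup k]
    exact le_iSup (fun y ↦ (VarDim.dimPt k Y y : WithBot ℕ∞)) y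
  -- generic points of components compute the dimension
  have hgen : ∀ η : Y, (∀ y, y ⤳ η → η ⤳ y) → (VarDim.dimPt k Y η : WithBot ℕ∞) = d := by
    intro η hη
    have hT := closure_singleton_mem_irreducibleComponents hη
    refine (hpt η).antisymm ?_
    change topologicalKrullDim ↥Y ≤ _
    rw [← heq _ hT]
    refine topDim_closed_le (k := k) isClosed_closure fun z hz ↦ ?_
    exact (VarDim.exists_ltSeries_of_le k (specializes_iff_mem_closure.mpr hz : z ≤ η)).1
  obtain ⟨η₀, hη₀, hsp₀⟩ : ∃ η, (∀ y, y ⤳ η → η ⤳ y) ∧ η ⤳ y₀ := by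
    obtain ⟨η, hη⟩ : ∃ η, IsGenericPoint η (irreducibleComponent y₀) :=
      QuasiSober.sober isIrreducible_irreducibleComponent isClosed_irreducibleComponent
    exact ⟨η, fun y ↦ specializes_of_isGenericPoint_component
      (irreducibleComponent_mem_irreducibleComponents y₀) hη, hη.specializes mem_irreducibleComponent⟩
  constructor
  · intro hnd
    have hnot : ∀ z ∈ closure Z, ∃ η, z < η := by
      intro z hz
      by_contra hcon
      push Not at hcon
      have hmax : ∀ y, y ⤳ z → z ⤳ y := fun y hy ↦ by
        by_contra hn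
        exact hcon y (lt_iff_le_not_ge.mpr ⟨hy, hn⟩)
      -- a generic point of a component in the closure gives an open piece
      obtain ⟨V, hV, hzV⟩ := exists_isAffineOpen_mem_and_subset (U := (⊤ : Y.Opens)) (x := z) trivial |>.imp fun V h ↦ (⟨h.1, h.2.1⟩ : IsAffineOpen V ∧ z ∈ V)
      have : IsLocallyNoetherian Y := LocallyOfFiniteType.isLocallyNoetherian g
      have : IsNoetherianRing Γ(Y, V) := IsLocallyNoetherian.component_noetherian ⟨V, hV⟩
      have : IsNoetherian ((V : Scheme.{u})) := by
        have : IsAffine ((V : Scheme.{u})) := hV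
        exact ⟨⟩
      let z' : (V : Scheme.{u}) := ⟨z, hzV⟩
      have hT : closure {z'} ∈ irreducibleComponents ↥(V : Scheme.{u}) :=
        closure_singleton_mem_irreducibleComponents fun y hy ↦
          V.ι.isOpenEmbedding.isInducing.specializes_iff.mp (hmax _ (hy.map V.ι.continuous))
      obtain ⟨o, ho, hone, hsub⟩ :=
        NoetherianSpace.exists_isOpen_nonempty_subset_irreducibleComponent _ hT
      have hne : (V.ι '' o).Nonempty := hone.image _
      obtain ⟨x, hx⟩ := hne
      have hopen : IsOpen (V.ι '' o) := V.ι.isOpenEmbedding.isOpenMap _ ho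
      have hcl : V.ι '' o ⊆ closure Z := by
        rintro _ ⟨v, hv, rfl⟩
        have h1 : z' ⤳ v := specializes_iff_mem_closure.mpr (hsub hv)
        exact (h1.map V.ι.continuous).mem_closed isClosed_closure hz
      have := interior_maximal hcl hopen hx
      rw [hnd] at this
      exact this
    have hlt : ∀ z ∈ closure Z, (VarDim.dimPt k Y z : WithBot ℕ∞) < d := fun z hz ↦ by
      obtain ⟨η, hη⟩ := hnot z hz
      refine lt_of_lt_of_le ?_ (hpt η)
      exact_mod_cast VarDim.dimPt_lt_of_lt k hη
    refine lt_of_le_of_lt (TopDimLib.topDim_le_of_subset (subset_closure (s := Z))) ?_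
    obtain ⟨n, hn⟩ : ∃ n : ℕ, d = (n : WithBot ℕ∞) := ⟨_, (hgen η₀ hη₀).symm⟩
    change _ < d
    rw [hn]
    rcases (closure Z).eq_empty_or_nonempty with he | hne
    · have : IsEmpty (IrreducibleCloseds ↥(closure Z)) :=
        ⟨fun C ↦ by
          obtain ⟨x, -⟩ := C.isIrreducible.1
          exact (he.le x.2 : (x : Y) ∈ (∅ : Set Y))⟩
      rw [topologicalKrullDim, Order.krullDim_eq_bot]
      exact WithBot.bot_lt_coe _
    have hn1 : 1 ≤ n := by
      obtain ⟨z, hz⟩ := hne
      have := hlt z hz
      rw [hn] at this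
      norm_cast at this
      omega
    refine lt_of_le_of_lt (b := ((n - 1 : ℕ) : WithBot ℕ∞)) ?_ (by norm_cast; omega)
    refine topDim_closed_le (k := k) isClosed_closure fun z hz ↦ ?_
    have h6 := hlt z hz
    rw [hn] at h6
    norm_cast at h6
    omega
  · intro hlt
    rw [IsNowhereDense]
    by_contra hne
    rw [← Ne, ← Set.nonempty_iff_ne_empty] at hne
    obtain ⟨U, C, hU, hC, rfl⟩ := hZ
    obtain ⟨x, hxI, hxZ⟩ := mem_closure_iff.mp (interior_subset hne.choose_spec) _ isOpen_interior
      hne.choose_spec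
    let V : Y.Opens := ⟨interior (closure (U ∩ C)) ∩ U, isOpen_interior.inter hU⟩
    have hsub : (V : Set Y) ⊆ U ∩ C := fun v hv ↦
      ⟨hv.2, closure_minimal Set.inter_subset_right hC (interior_subset hv.1)⟩
    have hxV : x ∈ V := ⟨hxI, hxZ.1⟩
    obtain ⟨η, hη⟩ : ∃ η, IsGenericPoint η (irreducibleComponent x) :=
      QuasiSober.sober isIrreducible_irreducibleComponent isClosed_irreducibleComponent
    have h1 := VarDim.le_topologicalKrullDim_opens k V hxV
      (show x ≤ η from hη.specializes mem_irreducibleComponent)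
    rw [hgen η fun y ↦ specializes_of_isGenericPoint_component
      (irreducibleComponent_mem_irreducibleComponents x) hη] at h1
    exact (h1.trans (TopDimLib.topDim_le_of_subset hsub)).not_gt hlt

end Groth.Agent.S4644
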