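import Groth.Statements.S4647
import Groth.Agent.SchPoints.Basic
import Mathlib.AlgebraicGeometry.Morphisms.Flat
import Mathlib.RingTheory.Flat.FaithfullyFlat.Algebra
-- import your own Groth.Agent.* helpers here

set_option autoImplicit false
open CategoryTheory AlgebraicGeometry
universe u
open FDesc

namespace Groth.Agent.S4647

/-- Let f : X → Y be a faithfully flat (flat and surjective) morphism. If all local rings of X are
domains (in particular if X is locally integral) and the underlying space of Y is locally
Noetherian, then Y is locally integral: every point of Y has an open neighbourhood which is an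
integral scheme. -/
theorem result {X Y : Scheme.{u}} (f : X ⟶ Y) [Flat f] [Surjective f]
    (hX : ∀ x : X, IsDomain ↑(X.presheaf.stalk x))
    (hY : ∀ y : Y, ∃ U : Y.Opens, y ∈ U ∧ TopologicalSpace.NoetherianSpace ↥U) (y : Y) :
    ∃ U : Y.Opens, y ∈ U ∧ IsIntegral (U : Scheme.{u}) := by
  have hdom : ∀ y : Y, IsDomain (Y.presheaf.stalk y) := by
    intro y
    obtain ⟨x, rfl⟩ := f.surjective y
    have := hX x
    algebraize [(f.stalkMap x).hom]
    have : Module.FaithfullyFlat (Y.presheaf.stalk (f x)) (X.presheaf.stalk x) :=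
      @Module.FaithfullyFlat.of_flat_of_isLocalHom _ _ _ _ _ _ _ (Flat.stalkMap f x)
        (f.toLRSHom.prop x)
    exact (FaithfulSMul.algebraMap_injective (Y.presheaf.stalk (f x))
      (X.presheaf.stalk x)).isDomain _
  have hT : ∀ z : Y, ∃ U ∈ nhds z, TopologicalSpace.NoetherianSpace U := fun z => by
    obtain ⟨U, hzU, h⟩ := hY z
    exact ⟨(U : Set Y), U.2.mem_nhds hzU, h⟩
  obtain ⟨U, hU, hyU, hirr⟩ := Groth.Agent.SchPoints.exists_irreducible_nhd hT
    ((Groth.Agent.SchPoints.isPrime_nilradical_stalk_iff y).mp (by
      have := hdom y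
      rw [nilradical_eq_zero]
      exact Ideal.isPrime_bot))
  refine ⟨⟨U, hU⟩, hyU, ?_⟩
  let V : Y.Opens := ⟨U, hU⟩
  rw [isIntegral_iff_irreducibleSpace_and_isReduced]
  have hpre : IsPreirreducible U := hirr.2
  refine ⟨?_, ?_⟩
  · have : IrreducibleSpace U :=
      { toNonempty := ⟨⟨y, hyU⟩⟩
        toPreirreducibleSpace := Subtype.preirreducibleSpace hpre }
    exact this
  · have (z : V.toScheme) : _root_.IsReduced (V.toScheme.presheaf.stalk z) := by
      have := hdom (V.ι z)
      exact isReduced_of_injective (inv (V.ι.stalkMap z)).hom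
        (CategoryTheory.ConcreteCategory.bijective_of_isIso (inv (V.ι.stalkMap z))).injective
    exact isReduced_of_isReduced_stalk _

end Groth.Agent.S4647
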