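import Groth.Statements.S4648
import Groth.Agent.FDesc.ProConsImage
import Groth.Agent.LimTop.Closure
import Groth.Agent.S2495
-- import your own Groth.Agent.* helpers here

set_option autoImplicit false
open CategoryTheory AlgebraicGeometry
universe u
open FDesc

namespace Groth.Agent.S4648

/-- Let f : X → Y be a quasi-flat, surjective and quasi-compact morphism and Z a subset of Y. Then Z is
a locally closed pro-constructible subset of Y if and only if f⁻¹(Z) is a locally closed
pro-constructible subset of X. -/
theorem result {X Y : Scheme.{u}} (f : X ⟶ Y)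
    (hf : FDesc.IsQuasiFlat f) [Surjective f] [QuasiCompact f] (Z : Set ↥Y) :
    (IsLocallyClosed Z ∧ ProCons.IsProConstructible Z) ↔
      (IsLocallyClosed (⇑f ⁻¹' Z) ∧ ProCons.IsProConstructible (⇑f ⁻¹' Z)) := by
  constructor
  · rintro ⟨hl, hp⟩
    exact ⟨hl.preimage f.continuous, Groth.Agent.LimTop.isProConstructible_preimage f hp⟩
  · rintro ⟨hl, hp⟩
    have hZ : ProCons.IsProConstructible Z := by
      have := Groth.Agent.FDesc.ProConsImage.isProConstructible_image f hp
      rwa [Set.image_preimage_eq _ f.surjective] at this
    refine ⟨?_, hZ⟩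
    have hgen := Groth.Agent.FDesc.QuasiFlat.generalizingMap_of_isQuasiFlat f hf
    have hcl : closure (⇑f ⁻¹' Z) = ⇑f ⁻¹' closure Z :=
      Groth.Agent.LimTop.closure_preimage f hgen hZ
    have h := hl.isOpen_coborder
    rw [coborder_eq_union_closure_compl, hcl, ← Set.preimage_compl, ← Set.preimage_union,
      ← coborder_eq_union_closure_compl] at h
    exact isLocallyClosed_iff_isOpen_coborder.mpr
      ((Groth.Agent.S2495.result f hf).isOpen_preimage.mp h)

end Groth.Agent.S4648
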