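import Groth.Statements.S4650
import Mathlib.AlgebraicGeometry.Properties
-- import your own Groth.Agent.* helpers here

set_option autoImplicit false
open CategoryTheory AlgebraicGeometry
universe u
open FDesc

namespace Groth.Agent.S4650

/-- Let f : X → Y be a morphism of schemes along which generizations lift (this holds for flat,
quasi-flat or open morphisms). Then every irreducible component of X dominates an irreducible
component of Y: the closure of its image is an irreducible component of Y. -/
theorem result {X Y : Scheme.{u}} (f : X ⟶ Y)
    (hf : GeneralizingMap ⇑f) (T : Set ↥X) (hT : T ∈ irreducibleComponents ↥X) :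
    closure (⇑f '' T) ∈ irreducibleComponents ↥Y := by
  have hTi : IsIrreducible T := hT.1
  obtain ⟨t, htg⟩ : ∃ t, IsGenericPoint t T :=
    ⟨hTi.genericPoint, hTi.isGenericPoint_genericPoint (isClosed_of_mem_irreducibleComponents T hT)⟩
  have himg : closure (⇑f '' T) = closure {f t} := by
    simpa [IsGenericPoint] using (htg.image f.continuous).def.symm
  refine ⟨himg ▸ isIrreducible_singleton.closure, fun W hW hsub => ?_⟩
  have hW' : IsIrreducible (closure W) := hW.closure
  let w := hW'.genericPoint
  have hw : IsGenericPoint w (closure W) := hW'.isGenericPoint_genericPoint isClosed_closure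
  have hwt : w ⤳ f t := hw.specializes (subset_closure (hsub (himg ▸ subset_closure rfl)))
  obtain ⟨t', ht', hft'⟩ := hf hwt
  have htm : T ≤ closure {t'} := by
    intro y hy
    exact ((ht'.trans (htg.specializes hy))).mem_closure
  have hle : closure {t'} ≤ T := hT.2 isIrreducible_singleton.closure htm
  have : t' = t := by
    have h1 : t ⤳ t' := htg.specializes (hle (subset_closure rfl))
    exact (ht'.antisymm h1).eq
  subst this
  rw [himg, hft', hw.def]
  exact subset_closure

end Groth.Agent.S4650
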