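import Groth.Statements.S4651
import Groth.Agent.S4650
-- import your own Groth.Agent.* helpers here

set_option autoImplicit false
open CategoryTheory AlgebraicGeometry
universe u
open FDesc

namespace Groth.Agent.S4651

/-- Let Y be a scheme whose family of irreducible components is locally finite (every point has an open
neighbourhood meeting only finitely many irreducible components), and let f : X → Y be a morphism
along which generizations lift (e.g. flat, quasi-flat or open) such that every fibre f⁻¹(y) is a
finite set (e.g. f quasi-finite or radicial). Then the family of irreducible components of X is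
locally finite. -/
theorem result {X Y : Scheme.{u}} (f : X ⟶ Y)
    (hY : ∀ y : Y, ∃ U : Set ↥Y, IsOpen U ∧ y ∈ U ∧ {Z ∈ irreducibleComponents ↥Y | (Z ∩ U).Nonempty}.Finite)
    (hf : GeneralizingMap ⇑f) (hfin : ∀ y : Y, (⇑f ⁻¹' {y}).Finite) (x : X) :
    ∃ U : Set ↥X, IsOpen U ∧ x ∈ U ∧ {T ∈ irreducibleComponents ↥X | (T ∩ U).Nonempty}.Finite := by
  obtain ⟨U, hU, hxU, hfinU⟩ := hY (f x)
  refine ⟨f.base ⁻¹' U, hU.preimage f.continuous, hxU, ?_⟩
  let G : Set Y := {y | closure {y} ∈ {Z ∈ irreducibleComponents ↥Y | (Z ∩ U).Nonempty}}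
  have hG : G.Finite := Set.Finite.of_finite_image (f := fun y : Y => closure ({y} : Set Y))
    (hfinU.subset (by rintro _ ⟨y, hy, rfl⟩; exact hy))
    fun a _ b _ hab => (inseparable_iff_closure_eq.mpr hab).eq
  have hP : (f.base ⁻¹' G).Finite := by
    rw [← Set.biUnion_preimage_singleton]
    exact hG.biUnion fun y _ => hfin y
  refine ((hP.image fun t : X => closure ({t} : Set X))).subset ?_
  rintro T ⟨hT, hTU⟩
  have hg := hT.1.isGenericPoint_genericPoint (isClosed_of_mem_irreducibleComponents T hT)
  refine ⟨hT.1.genericPoint, ?_, hg.def⟩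
  have htU : hT.1.genericPoint ∈ f.base ⁻¹' U :=
    (hg.mem_open_set_iff (hU.preimage f.continuous)).mpr hTU
  have hc := Groth.Agent.S4650.result f hf T hT
  have himg : closure (⇑f '' T) = closure {f hT.1.genericPoint} := by
    simpa [IsGenericPoint] using (hg.image f.continuous).def.symm
  rw [himg] at hc
  exact ⟨hc, f hT.1.genericPoint, subset_closure rfl, htU⟩

end Groth.Agent.S4651
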