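import Groth.Statements.S4680
import Groth.Agent.FlatMor.FibreStalk
import Groth.Agent.FDesc.BaseChangeStalk
import Mathlib.AlgebraicGeometry.Fiber

set_option autoImplicit false
open CategoryTheory AlgebraicGeometry
universe u
open FDesc

open CategoryTheory.Limits
namespace Groth.Agent.S4680

open CategoryTheory.Limits in
open scoped TensorProduct in
theorem subsingleton_tensor_of_smul_top_eq {A B C : Type u} [CommRing A] [CommRing B] [CommRing C]
    [Algebra A B] [Algebra B C] (I : Ideal A) (hI : ∀ a ∈ I, algebraMap B C (algebraMap A B a) = 0)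
    (M : Type u) [AddCommGroup M] [Module A M] [Module B M] [IsScalarTower A B M]
    (h : I • (⊤ : Submodule A M) = ⊤) : Subsingleton (C ⊗[B] M) := by
  refine subsingleton_of_forall_eq 0 fun z => ?_
  induction z using TensorProduct.induction_on with
  | zero => rfl
  | add a b ha hb => rw [ha, hb, add_zero]
  | tmul c m =>
    have hm : m ∈ I • (⊤ : Submodule A M) := h.symm ▸ Submodule.mem_top
    refine Submodule.smul_induction_on hm (fun a ha y _ => ?_) fun a b ha hb => by
      rw [TensorProduct.tmul_add, ha, hb, add_zero]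
    rw [← algebraMap_smul B a y, TensorProduct.tmul_smul, TensorProduct.smul_tmul',
      Algebra.smul_def, hI a ha, zero_mul, TensorProduct.zero_tmul]

open scoped TensorProduct in
theorem nontrivial_tensor_of_smul_top_ne {A B C : Type u} [CommRing A] [CommRing B] [CommRing C]
    [Algebra A B] [Algebra B C] (hs : Function.Surjective (algebraMap B C)) (I : Ideal A)
    (hI : RingHom.ker (algebraMap B C) = I.map (algebraMap A B))
    (M : Type u) [AddCommGroup M] [Module A M] [Module B M] [IsScalarTower A B M]
    (h : I • (⊤ : Submodule A M) ≠ ⊤) : Nontrivial (C ⊗[B] M) := by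
  by_contra hn
  rw [not_nontrivial_iff_subsingleton] at hn
  let J := RingHom.ker (algebraMap B C)
  let e : (B ⧸ J) ≃ₐ[B] C := Ideal.quotientKerAlgEquivOfSurjective (f := Algebra.ofId B C) hs
  have : Subsingleton (M ⧸ J • (⊤ : Submodule B M)) :=
    ((TensorProduct.quotTensorEquivQuotSMul M J).symm.trans
      (TensorProduct.congr e.toLinearEquiv (LinearEquiv.refl B M))).injective.subsingleton
  apply h
  rw [eq_top_iff]
  intro m _
  have hm : m ∈ J • (⊤ : Submodule B M) :=
    (Submodule.Quotient.mk_eq_zero _).mp (Subsingleton.elim _ _)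
  rw [show J = I.map (algebraMap A B) from hI] at hm
  refine Submodule.smul_induction_on hm (fun b hb y _ => ?_) fun a b ha hb => Submodule.add_mem _ ha hb
  induction hb using Submodule.span_induction generalizing y with
  | mem z hz =>
    obtain ⟨a, ha, rfl⟩ := hz
    rw [algebraMap_smul]
    exact Submodule.smul_mem_smul ha trivial
  | zero => rw [zero_smul]; exact zero_mem _
  | add a b _ _ ha hb => rw [add_smul]; exact add_mem (ha y trivial) (hb y trivial)
  | smul r a _ ha => rw [smul_eq_mul, mul_comm, mul_smul]; exact ha (r • y) trivial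

open scoped TensorProduct in
/-- Vanishing of the stalk of the restriction to the fibre. -/
theorem nontrivial_fibre_stalk_iff {X S : Scheme.{u}} (f : X ⟶ S) (F : X.Modules) (s : S)
    (w : f.fiber s) :
    Nontrivial (((Scheme.Modules.pullback (f.fiberι s)).obj F).presheaf.stalk w) ↔
      (letI := FlatMod.moduleStalkOver f F (f.fiberι s w)
      IsLocalRing.maximalIdeal (S.presheaf.stalk (f (f.fiberι s w))) •
        (⊤ : Submodule (S.presheaf.stalk (f (f.fiberι s w))) (F.presheaf.stalk (f.fiberι s w))) ≠ ⊤) := by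
  let x := f.fiberι s w
  let := (f.stalkMap x).hom.toAlgebra
  let := FlatMod.moduleStalkOver f F x
  let : Algebra (X.presheaf.stalk x) ((f.fiber s).presheaf.stalk w) :=
    ((f.fiberι s).stalkMap w).hom.toAlgebra
  have : IsScalarTower (S.presheaf.stalk (f x)) (X.presheaf.stalk x) (F.presheaf.stalk x) :=
    IsScalarTower.of_algebraMap_smul fun _ _ => rfl
  have hk : RingHom.ker (algebraMap (X.presheaf.stalk x) ((f.fiber s).presheaf.stalk w)) =
      (IsLocalRing.maximalIdeal (S.presheaf.stalk (f x))).map (algebraMap _ (X.presheaf.stalk x)) :=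
    Groth.Agent.FlatMor.FibreStalk.ker_stalkMap_fiberι f s w
  obtain ⟨e, -⟩ := Groth.Agent.FDesc.Stalk.exists_stalk_equiv (f.fiberι s) F w
  rw [← e.toEquiv.nontrivial_congr]
  refine ⟨fun hn htop => ?_, fun h =>
    nontrivial_tensor_of_smul_top_ne ((f.fiberι s).stalkMap_surjective w) _ hk _ h⟩
  refine not_subsingleton ((f.fiber s).presheaf.stalk w ⊗[X.presheaf.stalk x] F.presheaf.stalk x)
    (subsingleton_tensor_of_smul_top_eq _ (fun a ha => ?_) _ htop)
  exact RingHom.mem_ker.mp (hk.ge (Ideal.mem_map_of_mem _ ha))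

open scoped TensorProduct in
theorem nontrivial_stalk_pullback_of_flat {W V : Scheme.{u}} (u : W ⟶ V) [Flat u] (N : V.Modules)
    (w : W) (h : Nontrivial (N.presheaf.stalk (u w))) :
    Nontrivial (((Scheme.Modules.pullback u).obj N).presheaf.stalk w) := by
  let := (u.stalkMap w).hom.toAlgebra
  have := Groth.Agent.FDesc.Stalk.faithfullyFlat_stalkMap u w (Flat.stalkMap u w)
  obtain ⟨e, -⟩ := Groth.Agent.FDesc.Stalk.exists_stalk_equiv u N w
  rw [← e.toEquiv.nontrivial_congr]
  exact Module.FaithfullyFlat.lTensor_nontrivial (V.presheaf.stalk (u w)) (W.presheaf.stalk w) _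

/-- A surjectivity property: base change of `F_x ⊗ κ(f x) ≠ 0`. -/
theorem exists_baseChange_point {X Y Y' : Scheme.{u}} (f : X ⟶ Y) (g : Y' ⟶ Y) (F : X.Modules)
    (hff : ∀ y : ↥Y, ∃ x : ↥X, f x = y ∧
      letI := FlatMod.moduleStalkOver f F x
      IsLocalRing.maximalIdeal (Y.presheaf.stalk (f x)) • (⊤ : Submodule (Y.presheaf.stalk (f x)) (F.presheaf.stalk x)) ≠ ⊤) (y' : Y') :
    ∃ x' : ↥(pullback f g), (pullback.snd f g) x' = y' ∧
      letI := FlatMod.moduleStalkOver (pullback.snd f g) ((Scheme.Modules.pullback (pullback.fst f g)).obj F) x'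
      IsLocalRing.maximalIdeal (Y'.presheaf.stalk ((pullback.snd f g) x')) • (⊤ : Submodule (Y'.presheaf.stalk ((pullback.snd f g) x')) (((Scheme.Modules.pullback (pullback.fst f g)).obj F).presheaf.stalk x')) ≠ ⊤ := by
  obtain ⟨x, hx, hne⟩ := hff (g y')
  let q := pullback.snd f g
  have sq := isPullback_fiberToSpecResidueField_of_isPullback (IsPullback.of_hasPullback f g) y'
  obtain ⟨v, hv⟩ : x ∈ Set.range (f.fiberι (g y')) := by rw [f.range_fiberι]; exact hx
  obtain ⟨w, hw, -⟩ := Scheme.exists_preimage_of_isPullback sq v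
    (IsLocalRing.closedPoint (Y'.residueField y')) (Subsingleton.elim (α := PrimeSpectrum _) _ _)
  have hq : q (q.fiberι y' w) = y' := by
    have : q.fiberι y' w ∈ Set.range (q.fiberι y') := ⟨w, rfl⟩
    rwa [q.range_fiberι] at this
  refine ⟨q.fiberι y' w, hq, (nontrivial_fibre_stalk_iff q _ y' w).mp ?_⟩
  let u : q.fiber y' ⟶ f.fiber (g y') := pullback.map q (Y'.fromSpecResidueField y') f (Y.fromSpecResidueField (g y'))
    (pullback.fst f g) (Spec.map (g.residueFieldMap y')) g pullback.condition.symm (by simp)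
  have : Flat (Spec.map (g.residueFieldMap y')) := inferInstance
  have hu : Flat u := MorphismProperty.of_isPullback (P := @Flat) sq.flip inferInstance
  have hc : u ≫ f.fiberι (g y') = q.fiberι y' ≫ pullback.fst f g :=
    pullback.lift_fst _ _ _
  have h1 : Nontrivial (((Scheme.Modules.pullback u).obj
      ((Scheme.Modules.pullback (f.fiberι (g y'))).obj F)).presheaf.stalk w) := by
    have h2 := (nontrivial_fibre_stalk_iff f F (g y') v).mpr (by rw [hv]; exact hne)
    exact nontrivial_stalk_pullback_of_flat u _ w ((show u w = v from hw).symm ▸ h2)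
  let e : (Scheme.Modules.pullback u).obj ((Scheme.Modules.pullback (f.fiberι (g y'))).obj F) ≅
      (Scheme.Modules.pullback (q.fiberι y')).obj ((Scheme.Modules.pullback (pullback.fst f g)).obj F) :=
    ((Scheme.Modules.pullbackComp u (f.fiberι (g y'))).app F).trans
      (((Scheme.Modules.pullbackCongr hc).app F).trans
        ((Scheme.Modules.pullbackComp (q.fiberι y') (pullback.fst f g)).symm.app F))
  exact ((TopCat.Presheaf.stalkFunctor Ab w).mapIso
    ((Scheme.Modules.toPresheaf _).mapIso e)).addCommGroupIsoToAddEquiv.toEquiv.nontrivial_congr.mp h1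

/-- Let f : X → Y and g : Y' → Y be morphisms of schemes, X' = X ×_Y Y' with projections p : X' → X and
f' : X' → Y', and F a quasi-coherent O_X-module which is faithfully flat relative to Y: flat over Y,
and for every point y of Y there is a point x over y with F_x ⊗ κ(y) ≠ 0. Then F' = p^*F is
faithfully flat relative to Y': flat over Y', and for every point y' of Y' there is a point x' of X'
over y' with F'_{x'} ⊗ κ(y') ≠ 0. -/
theorem result {X Y Y' : Scheme.{u}} (f : X ⟶ Y) (g : Y' ⟶ Y)
    (F : X.Modules) (hF : Coh.IsQCoh F) (hFfl : FlatMod.IsFlatOver f F)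
    (hFff : (∀ y : ↥Y, ∃ x : ↥X, f x = y ∧
      letI := FlatMod.moduleStalkOver f F x
      IsLocalRing.maximalIdeal (Y.presheaf.stalk (f x)) • (⊤ : Submodule (Y.presheaf.stalk (f x)) (F.presheaf.stalk x)) ≠ ⊤)) :
    FlatMod.IsFlatOver (pullback.snd f g) ((Scheme.Modules.pullback (pullback.fst f g)).obj F) ∧
      (∀ y' : ↥Y', ∃ x' : ↥(pullback f g), (pullback.snd f g) x' = y' ∧
      letI := FlatMod.moduleStalkOver (pullback.snd f g) ((Scheme.Modules.pullback (pullback.fst f g)).obj F) x'
      IsLocalRing.maximalIdeal (Y'.presheaf.stalk ((pullback.snd f g) x')) • (⊤ : Submodule (Y'.presheaf.stalk ((pullback.snd f g) x')) (((Scheme.Modules.pullback (pullback.fst f g)).obj F).presheaf.stalk x')) ≠ ⊤) := by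
  exact ⟨fun x' => Groth.Agent.FDesc.BaseChangeStalk.flatOverAt_baseChange
      (IsPullback.of_hasPullback f g) x' F (hFfl _),
    exists_baseChange_point f g F hFff⟩

end Groth.Agent.S4680
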