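import Groth.Statements.S4653
import Groth.Agent.FDesc.QuasiFlat
import Groth.Agent.Props.QStalk
import Groth.Agent.S4680
import Groth.Agent.AssSch.TensorFlat

set_option autoImplicit false
open CategoryTheory AlgebraicGeometry
universe u
open FDesc

namespace Groth.Agent.S4653

open scoped TensorProduct in
theorem smul_top_ne_of_finite {A B : Type u} [CommRing A] [CommRing B] [IsLocalRing A] [IsLocalRing B]
    [Algebra A B] [IsLocalHom (algebraMap A B)]
    (N : Type u) [AddCommGroup N] [Module A N] [Module B N] [IsScalarTower A B N]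
    [Module.Finite B N] [Nontrivial N] : IsLocalRing.maximalIdeal A • (⊤ : Submodule A N) ≠ ⊤ := by
  intro htop
  have hB : (⊤ : Submodule B N) ≤ IsLocalRing.maximalIdeal B • (⊤ : Submodule B N) := by
    intro n _
    have hn : n ∈ IsLocalRing.maximalIdeal A • (⊤ : Submodule A N) := htop.symm ▸ Submodule.mem_top
    refine Submodule.smul_induction_on hn (fun a ha y _ => ?_) fun a b ha hb => Submodule.add_mem _ ha hb
    rw [← algebraMap_smul B a y]
    exact Submodule.smul_mem_smul (map_nonunit (algebraMap A B) a ha) trivial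
  exact top_ne_bot (α := Submodule B N)
    (Submodule.eq_bot_of_le_smul_of_le_jacobson_bot (IsLocalRing.maximalIdeal B) ⊤
      Module.Finite.fg_top hB (IsLocalRing.maximalIdeal_le_jacobson _))

/-- Going down inside the support of a flat finite module. -/
theorem exists_prime_comap_eq_supp {A B : Type u} [CommRing A] [CommRing B] [IsLocalRing A] [IsLocalRing B]
    [Algebra A B] [IsLocalHom (algebraMap A B)]
    (N : Type u) [AddCommGroup N] [Module A N] [Module B N] [IsScalarTower A B N]
    [Module.Finite B N] [Module.Flat A N] [Nontrivial N] (p : Ideal A) [p.IsPrime] :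
    ∃ q : Ideal B, q.IsPrime ∧ Module.annihilator B N ≤ q ∧ q.comap (algebraMap A B) = p := by
  let I := Module.annihilator B N
  have hI : I ≠ ⊤ := by
    intro h
    have : Subsingleton N := subsingleton_of_forall_eq 0 fun n => by
      have := Module.mem_annihilator.mp (show (1 : B) ∈ I by rw [h]; trivial) n
      rwa [one_smul] at this
    exact not_subsingleton N this
  have : Nontrivial (B ⧸ I) := Ideal.Quotient.nontrivial_iff.mpr hI
  have : IsLocalRing (B ⧸ I) := IsLocalRing.of_surjective' (Ideal.Quotient.mk I) Ideal.Quotient.mk_surjective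
  let : Module (B ⧸ I) N := Module.IsTorsionBySet.module
    (fun n b => Module.mem_annihilator.mp b.2 n : Module.IsTorsionBySet B N I)
  have : IsScalarTower B (B ⧸ I) N := IsScalarTower.of_algebraMap_smul fun b n => rfl
  have : IsScalarTower A (B ⧸ I) N := IsScalarTower.of_algebraMap_smul fun a n => by
    change (algebraMap A B a) • n = _
    rw [algebraMap_smul]
  have : IsLocalHom (algebraMap B (B ⧸ I)) := Ideal.Quotient.mk_surjective.isLocalHom
  have : IsLocalHom (algebraMap A (B ⧸ I)) := by
    rw [IsScalarTower.algebraMap_eq A B (B ⧸ I)]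
    exact RingHom.isLocalHom_comp _ _
  have : Module.Finite (B ⧸ I) N := Module.Finite.of_restrictScalars_finite B (B ⧸ I) N
  obtain ⟨q, hq, hqp⟩ := Groth.Agent.FDesc.QuasiFlat.exists_prime_comap_eq (B := B ⧸ I) N p
  refine ⟨q.comap (Ideal.Quotient.mk I), inferInstance, fun b hb => ?_, ?_⟩
  · rw [Ideal.mem_comap, Ideal.Quotient.eq_zero_iff_mem.mpr hb]
    exact q.zero_mem
  · rw [Ideal.comap_comap]
    exact hqp

open scoped TensorProduct in
/-- A generization whose prime contains the annihilator of the stalk lies in the support. -/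
theorem mem_support_of_annihilator_le {X : Scheme.{u}} (F : X.Modules) (hF : Coh.IsCoh F) (x : X)
    (q : PrimeSpectrum (X.presheaf.stalk x))
    (hq : Module.annihilator (X.presheaf.stalk x) (F.presheaf.stalk x) ≤ q.asIdeal) :
    X.fromSpecStalk x q ∈ CohB1.support F := by
  have := hF.1
  have := hF.2
  obtain ⟨U, hU, hxU, -⟩ := exists_isAffineOpen_mem_and_subset (TopologicalSpace.Opens.mem_top x)
  let z := X.fromSpecStalk x q
  have hzU : z ∈ U := by
    have h : z ⤳ x := by
      have : z ∈ Set.range (X.fromSpecStalk x) := ⟨q, rfl⟩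
      rwa [Scheme.range_fromSpecStalk] at this
    exact h.mem_open U.2 hxU
  intro hs
  let := Groth.Agent.Props.QStalk.moduleSections F hzU
  have hlz := Groth.Agent.Props.QStalk.isLocalizedModule_germLin F hzU hU
  obtain ⟨s, hs'⟩ := (Groth.Agent.QCoh.finite_sections_of_isFiniteType F hU).fg_top
  have hr : ∀ m : Γ(F, U), ∃ r ∈ (hU.primeIdealOf ⟨z, hzU⟩).asIdeal.primeCompl, r • m = 0 := fun m => by
    obtain ⟨⟨r, hr⟩, hrm⟩ := (IsLocalizedModule.eq_zero_iff (hU.primeIdealOf ⟨z, hzU⟩).asIdeal.primeCompl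
      (Groth.Agent.Props.QStalk.germLin F hzU)).mp (@Subsingleton.elim _ hs
        (Groth.Agent.Props.QStalk.germLin F hzU m) 0)
    exact ⟨r, hr, hrm⟩
  choose r hr hrm using hr
  let r0 : Γ(X, U) := ∏ m ∈ s, r m
  have hr0 : ∀ m : Γ(F, U), r0 • m = 0 := by
    intro m
    have hm : m ∈ Submodule.span Γ(X, U) (s : Set Γ(F, U)) := hs' ▸ Submodule.mem_top
    induction hm using Submodule.span_induction with
    | mem m hm =>
      obtain ⟨c, hc⟩ := Finset.dvd_prod_of_mem r hm
      change (∏ m ∈ s, r m) • m = 0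
      rw [hc, mul_comm, mul_smul, hrm, smul_zero]
    | zero => rw [smul_zero]
    | add a b _ _ ha hb => rw [smul_add, ha, hb, add_zero]
    | smul c a _ ha => rw [smul_comm, ha, smul_zero]
  have hann : X.presheaf.germ U x hxU r0 ∈ Module.annihilator (X.presheaf.stalk x) (F.presheaf.stalk x) := by
    rw [Module.mem_annihilator]
    intro t
    let := Groth.Agent.Props.QStalk.moduleSections F hxU
    have hlx := Groth.Agent.Props.QStalk.isLocalizedModule_germLin F hxU hU
    obtain ⟨⟨m, c⟩, hc⟩ := IsLocalizedModule.surj (hU.primeIdealOf ⟨x, hxU⟩).asIdeal.primeCompl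
      (Groth.Agent.Props.QStalk.germLin F hxU) t
    have hu := IsLocalizedModule.map_units (Groth.Agent.Props.QStalk.germLin F hxU) c
    apply ((Module.End.isUnit_iff _).mp hu).1
    change (c : Γ(X, U)) • (r0 • t) = (c : Γ(X, U)) • (0 : F.presheaf.stalk x)
    rw [smul_comm, show (c : Γ(X, U)) • t = Groth.Agent.Props.QStalk.germLin F hxU m from hc, ← map_smul,
      hr0, map_zero, smul_zero]
  have hprime : hU.primeIdealOf ⟨z, hzU⟩ = Spec.map (X.presheaf.germ U x hxU) q := by
    apply hU.fromSpec.isOpenEmbedding.injective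
    rw [hU.fromSpec_primeIdealOf]
    change X.fromSpecStalk x q = _
    rw [← hU.fromSpecStalk_eq_fromSpecStalk hxU]
    rfl
  have hmem : r0 ∈ (hU.primeIdealOf ⟨z, hzU⟩).asIdeal.primeCompl := prod_mem fun m _ => hr m
  apply hmem
  rw [hprime]
  exact hq hann

open scoped TensorProduct in
theorem mem_support_tensor_iff {X Y : Scheme.{u}} (f : X ⟶ Y) (F : X.Modules) (hF : Coh.IsCoh F)
    (hfl : FlatMod.IsFlatOver f F) (E : Y.Modules) (x : X) :
    x ∈ CohB1.support (CohB1.tensorMod ((Scheme.Modules.pullback f).obj E) F) ↔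
      x ∈ CohB1.support F ∧ f x ∈ CohB1.support E := by
  let := (f.stalkMap x).hom.toAlgebra
  let := FlatMod.moduleStalkOver f F x
  have : IsScalarTower (Y.presheaf.stalk (f x)) (X.presheaf.stalk x) (F.presheaf.stalk x) :=
    IsScalarTower.of_algebraMap_smul fun _ _ => rfl
  have : Module.Flat (Y.presheaf.stalk (f x)) (F.presheaf.stalk x) := hfl x
  have : IsLocalHom (algebraMap (Y.presheaf.stalk (f x)) (X.presheaf.stalk x)) := f.toLRSHom.prop x
  have := Groth.Agent.FDesc.QuasiFlat.finite_stalk_of_isCoh F hF x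
  let e := Groth.Agent.AssSch.TensorFlat.tensorStalkEquiv f E F x
  change ¬ Subsingleton _ ↔ ¬ Subsingleton _ ∧ ¬ Subsingleton _
  rw [show CohB1.tensorMod ((Scheme.Modules.pullback f).obj E) F =
    KFlat.StalkTensor.tensM ((Scheme.Modules.pullback f).obj E) F from rfl, e.toEquiv.subsingleton_congr]
  refine ⟨fun h => ⟨fun h' => h ?_, fun h' => h ?_⟩, fun ⟨h1, h2⟩ h => ?_⟩
  · exact inferInstance
  · exact inferInstance
  · have : Nontrivial (F.presheaf.stalk x) := not_subsingleton_iff_nontrivial.mp h1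
    have : Nontrivial (E.presheaf.stalk (f x)) := not_subsingleton_iff_nontrivial.mp h2
    have : Module.FaithfullyFlat (Y.presheaf.stalk (f x)) (F.presheaf.stalk x) := by
      refine ⟨fun {m} hm htop => ?_⟩
      obtain rfl := IsLocalRing.eq_maximalIdeal hm
      exact smul_top_ne_of_finite (B := X.presheaf.stalk x) (F.presheaf.stalk x) htop
    exact not_subsingleton_iff_nontrivial.mpr (Module.FaithfullyFlat.lTensor_nontrivial
      (Y.presheaf.stalk (f x)) (F.presheaf.stalk x) (E.presheaf.stalk (f x))) h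

open scoped TensorProduct in
theorem mem_support_fibre_iff {X Y : Scheme.{u}} (f : X ⟶ Y) (F : X.Modules) (hF : Coh.IsCoh F)
    (y : Y) (w : f.fiber y) :
    w ∈ CohB1.support ((Scheme.Modules.pullback (f.fiberι y)).obj F) ↔
      f.fiberι y w ∈ CohB1.support F := by
  let x := f.fiberι y w
  let := (f.stalkMap x).hom.toAlgebra
  let := FlatMod.moduleStalkOver f F x
  have : IsScalarTower (Y.presheaf.stalk (f x)) (X.presheaf.stalk x) (F.presheaf.stalk x) :=
    IsScalarTower.of_algebraMap_smul fun _ _ => rfl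
  have : IsLocalHom (algebraMap (Y.presheaf.stalk (f x)) (X.presheaf.stalk x)) := f.toLRSHom.prop x
  have := Groth.Agent.FDesc.QuasiFlat.finite_stalk_of_isCoh F hF x
  change ¬ Subsingleton _ ↔ ¬ Subsingleton _
  rw [not_subsingleton_iff_nontrivial, not_subsingleton_iff_nontrivial,
    Groth.Agent.S4680.nontrivial_fibre_stalk_iff f F y w]
  refine ⟨fun h => not_subsingleton_iff_nontrivial.mp fun hs => h (Subsingleton.elim _ _), fun h => ?_⟩
  exact smul_top_ne_of_finite (B := X.presheaf.stalk x) (F.presheaf.stalk x)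

/-- Generizations lift into the support of a module flat over the base. -/
theorem exists_lift_support {X Y : Scheme.{u}} (f : X ⟶ Y) (F : X.Modules) (hF : Coh.IsCoh F)
    (hfl : FlatMod.IsFlatOver f F) (x : X) (hx : x ∈ CohB1.support F) (y : Y) (hy : y ⤳ f x) :
    ∃ z ∈ CohB1.support F, z ⤳ x ∧ f z = y := by
  obtain ⟨p, rfl⟩ : y ∈ Set.range (Y.fromSpecStalk (f x)) := by
    rw [Scheme.range_fromSpecStalk]; exact hy
  let := (f.stalkMap x).hom.toAlgebra
  let := FlatMod.moduleStalkOver f F x
  have : IsScalarTower (Y.presheaf.stalk (f x)) (X.presheaf.stalk x) (F.presheaf.stalk x) :=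
    IsScalarTower.of_algebraMap_smul fun _ _ => rfl
  have : Module.Flat (Y.presheaf.stalk (f x)) (F.presheaf.stalk x) := hfl x
  have := Groth.Agent.FDesc.QuasiFlat.finite_stalk_of_isCoh F hF x
  have : Nontrivial (F.presheaf.stalk x) := not_subsingleton_iff_nontrivial.mp hx
  have : IsLocalHom (algebraMap (Y.presheaf.stalk (f x)) (X.presheaf.stalk x)) := f.toLRSHom.prop x
  have : p.asIdeal.IsPrime := PrimeSpectrum.isPrime p
  obtain ⟨q, hq, hann, hqp⟩ := exists_prime_comap_eq_supp (B := X.presheaf.stalk x) (F.presheaf.stalk x) p.asIdeal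
  refine ⟨X.fromSpecStalk x ⟨q, hq⟩, mem_support_of_annihilator_le F hF x ⟨q, hq⟩ hann, ?_, ?_⟩
  · have : X.fromSpecStalk x ⟨q, hq⟩ ∈ Set.range (X.fromSpecStalk x) := ⟨_, rfl⟩
    rwa [Scheme.range_fromSpecStalk] at this
  · change (X.fromSpecStalk x ≫ f) ⟨q, hq⟩ = _
    rw [← Scheme.SpecMap_stalkMap_fromSpecStalk f, Scheme.Hom.comp_apply]
    exact congrArg (Y.fromSpecStalk (f x)) (PrimeSpectrum.ext hqp)

/-- Let f : X → Y be a morphism of schemes, F a quasi-coherent O_X-module of finite type which is flat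
over Y, E a quasi-coherent O_Y-module of finite type, and x a point of X with image y. Then x is a
maximal point of the support of f^*E ⊗ F (a point of the support admitting no proper generization in
it) if and only if y is a maximal point of Supp E and x, viewed in the fibre f⁻¹(y), is a maximal
point of the support of the restriction of F to that fibre. -/
theorem result {X Y : Scheme.{u}} (f : X ⟶ Y) (F : X.Modules) (hF : Coh.IsCoh F)
    (hfl : FlatMod.IsFlatOver f F) (E : Y.Modules) (hE : Coh.IsCoh E) (x : X) :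
    (x ∈ CohB1.support (CohB1.tensorMod ((Scheme.Modules.pullback f).obj E) F) ∧
        ∀ z ∈ CohB1.support (CohB1.tensorMod ((Scheme.Modules.pullback f).obj E) F), z ⤳ x → z = x) ↔
      ((f x ∈ CohB1.support E ∧ ∀ w ∈ CohB1.support E, w ⤳ f x → w = f x) ∧
        (f.asFiber x ∈ CohB1.support ((Scheme.Modules.pullback (f.fiberι (f x))).obj F) ∧
          ∀ z ∈ CohB1.support ((Scheme.Modules.pullback (f.fiberι (f x))).obj F), z ⤳ f.asFiber x → z = f.asFiber x)) := by
  simp only [mem_support_tensor_iff f F hF hfl, mem_support_fibre_iff f F hF, Scheme.Hom.fiberι_asFiber]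
  constructor
  · rintro ⟨⟨hxF, hxE⟩, hmax⟩
    refine ⟨⟨hxE, fun w hw hwy => ?_⟩, hxF, fun z hz hzx => (f.fiberι (f x)).isEmbedding.injective ?_⟩
    · obtain ⟨z, hz, hzx, rfl⟩ := exists_lift_support f F hF hfl x hxF w hwy
      rw [hmax z ⟨hz, hw⟩ hzx]
    · have h1 : f (f.fiberι (f x) z) = f x := by
        have : f.fiberι (f x) z ∈ Set.range (f.fiberι (f x)) := ⟨z, rfl⟩
        rwa [f.range_fiberι] at this
      rw [Scheme.Hom.fiberι_asFiber]
      refine hmax _ ⟨hz, by rw [h1]; exact hxE⟩ ?_
      have := hzx.map (f.fiberι (f x)).continuous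
      rwa [Scheme.Hom.fiberι_asFiber] at this
  · rintro ⟨⟨hxE, hymax⟩, hxF, hfib⟩
    refine ⟨⟨hxF, hxE⟩, fun z ⟨hzF, hzE⟩ hzx => ?_⟩
    have hfz : f z = f x := hymax _ hzE (hzx.map f.continuous)
    obtain ⟨w, hw⟩ : z ∈ Set.range (f.fiberι (f x)) := by rw [f.range_fiberι]; exact hfz
    rw [← hw, hfib w (by rw [hw]; exact hzF) ((f.fiberι (f x)).isEmbedding.toIsInducing.specializes_iff.mp
      (by rw [hw, Scheme.Hom.fiberι_asFiber]; exact hzx)), Scheme.Hom.fiberι_asFiber]

end Groth.Agent.S4653
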