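import Groth.Statements.S4656
import Groth.Agent.FDesc.Algebra
import Mathlib.AlgebraicGeometry.Stalk
-- import your own Groth.Agent.* helpers here

set_option autoImplicit false
open CategoryTheory AlgebraicGeometry
universe u
open FDesc

namespace Groth.Agent.S4656

/-- Let f : X → Y and g : Y → Z be morphisms of schemes and x a point of X at which f is flat (the local
ring of X at x is flat over that of Y at f(x)). Then the composite g ∘ f is flat at x if and only if
g is flat at f(x). -/
theorem result {X Y Z : Scheme.{u}} (f : X ⟶ Y) (g : Y ⟶ Z) (x : X)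
    (hf : (f.stalkMap x).hom.Flat) :
    ((f ≫ g).stalkMap x).hom.Flat ↔ (g.stalkMap (f x)).hom.Flat := by
  rw [Scheme.Hom.stalkMap_comp]
  refine ⟨fun h => ?_, fun h => h.comp hf⟩
  algebraize [(f.stalkMap x).hom, (g.stalkMap (f x)).hom,
    (g.stalkMap (f x) ≫ f.stalkMap x).hom]
  have : Module.FaithfullyFlat (Y.presheaf.stalk (f x)) (X.presheaf.stalk x) :=
    @Module.FaithfullyFlat.of_flat_of_isLocalHom _ _ _ _ _ _ _ hf (f.toLRSHom.prop x)
  have : IsScalarTower (Z.presheaf.stalk (g (f x))) (Y.presheaf.stalk (f x))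
      (X.presheaf.stalk x) := IsScalarTower.of_algebraMap_eq' rfl
  have : Module.Flat (Z.presheaf.stalk (g (f x))) (X.presheaf.stalk x) := h
  exact Groth.Agent.FDesc.Algebra.flat_of_comp_faithfullyFlat (C := X.presheaf.stalk x)

end Groth.Agent.S4656
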