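import Groth.Statements.S4657
import Groth.Agent.AssSch.Restrict
-- import your own Groth.Agent.* helpers here

set_option autoImplicit false
open CategoryTheory AlgebraicGeometry
universe u
open AssSch

namespace Groth.Agent.S4657

open TopologicalSpace
open Groth.Agent.AssSch.Basic Groth.Agent.AssSch.Restrict

/-- Let X be a locally Noetherian scheme, U an open subset of X and F a coherent O_X-module such that U
∩ Supp F is dense in Supp F. Then F is a reduced module if and only if its restriction to U is a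
reduced module and F has no embedded associated points. -/
theorem result {X : Scheme.{u}} [IsLocallyNoetherian X] (U : X.Opens) (F : X.Modules)
    (hF : Coh.IsCoh F) (hdense : CohB1.support F ⊆ closure ((U : Set ↥X) ∩ CohB1.support F)) :
    AssSch.IsReducedMod F ↔ AssSch.IsReducedMod ((Scheme.Modules.pullback U.ι).obj F) ∧ AssSch.NoEmbedded F := by
  have : F.IsQuasicoherent := hF.1
  have hmem : ∀ x : (U : Scheme.{u}), x ∈ AssSch.Ass ((Scheme.Modules.pullback U.ι).obj F) ↔
      U.ι x ∈ AssSch.Ass F := mem_ass_pullback_iff U.ι F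
  have hlen := length_stalk_eq U.ι F
  constructor
  · rintro ⟨hne, hl⟩
    refine ⟨⟨fun x hx y hy hyx ↦ U.ι.isOpenEmbedding.injective
      (hne _ ((hmem x).mp hx) _ ((hmem y).mp hy) (hyx.map U.ι.continuous)), fun x hx ↦ ?_⟩, hne⟩
    exact (hlen x).trans (hl _ ((hmem x).mp hx))
  · rintro ⟨⟨-, hl⟩, hne⟩
    refine ⟨hne, fun x hx ↦ ?_⟩
    have hxU : x ∈ U := by
      obtain ⟨V, hV, hxV⟩ := exists_affine x
      have hfin := finite_ass_inter F hF hV
      let S := (AssSch.Ass F ∩ (U : Set X)) ∩ (V : Set X)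
      have hS : S.Finite := hfin.subset fun z hz ↦ ⟨hz.1.1, hz.2⟩
      have hxs : x ∈ CohB1.support F := fun h ↦ by
        have := nontrivial_of_mem_ass F hx
        exact not_subsingleton _ h
      have hcl : x ∈ closure S := by
        rw [mem_closure_iff]
        intro W hW hxW
        obtain ⟨y, ⟨hyW, hyV⟩, hyU, hys⟩ :=
          mem_closure_iff.mp (hdense hxs) (W ∩ V) (hW.inter V.2) ⟨hxW, hxV⟩
        obtain ⟨z, hz, hzy⟩ :=
          exists_mem_ass_specializes F (not_subsingleton_iff_nontrivial.mp hys)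
        exact ⟨z, hzy.mem_open hW hyW, ⟨hz, hzy.mem_open U.2 hyU⟩, hzy.mem_open V.2 hyV⟩
      rw [← Set.biUnion_of_singleton S, hS.closure_biUnion, Set.mem_iUnion₂] at hcl
      obtain ⟨z, hz, hzx⟩ := hcl
      obtain rfl := hne x hx z hz.1.1 (specializes_iff_mem_closure.mpr hzx)
      exact hz.1.2
    have h := hl ⟨x, hxU⟩ ((hmem ⟨x, hxU⟩).mpr hx)
    exact (hlen ⟨x, hxU⟩).symm.trans h

end Groth.Agent.S4657
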