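import Groth.Statements.S4658
import Groth.Agent.AssSch.Quot
import Groth.Agent.AssSch.Restrict
import Groth.Agent.HomShQC.Basic
import Groth.Prelude.Def_ChowK
-- import your own Groth.Agent.* helpers here

set_option autoImplicit false
open CategoryTheory AlgebraicGeometry
universe u
open AssSch

namespace Groth.Agent.S4658

open CategoryTheory.Limits TopologicalSpace Opposite Groth.Agent.QCoh
open Groth.Agent.PullStalk.Sky Groth.Agent.AssSch.Stalk Groth.Agent.AssSch.Quot

variable {X : Scheme.{u}}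

variable {F G : X.Modules} {U : X.Opens} (g : Γ(RefHull.homSh F G, U))

lemma image_le (W : (U : Scheme.{u}).Opens) : U.ι ''ᵁ W ≤ U := by
  rintro _ ⟨⟨y, hy⟩, -, rfl⟩
  exact hy

lemma exists_val (W : X.Opens) (hW : W ≤ U) (m : Γ(F, W)) : ∃ n : Γ(G, W),
    ∀ y : ↥W, germM G W y.1 y.2 n = g.1 ⟨y.1, hW y.2⟩ (germM F W y.1 y.2 m) :=
  HomShQC.exists_sec G _ fun x ↦ by
    obtain ⟨W', hxW', j, n, hW'⟩ := RefHull.isLocSect_of_mem g _ (homOfLE hW) m x
    exact ⟨W', hxW', j.le, n, fun y ↦ hW' y⟩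

/-- The value on a smaller open of a section of the sheaf Hom. -/
noncomputable def val (W : X.Opens) (hW : W ≤ U) : Γ(F, W) →+ Γ(G, W) :=
  AddMonoidHom.mk' (fun m ↦ (exists_val g W hW m).choose) fun a b ↦ HomShQC.sec_ext G fun y hy ↦ by
    rw [germM_add G y hy]
    refine ((exists_val g W hW (a + b)).choose_spec ⟨y, hy⟩).trans ?_
    rw [(exists_val g W hW a).choose_spec ⟨y, hy⟩, (exists_val g W hW b).choose_spec ⟨y, hy⟩,
      germM_add F y hy, map_add]

lemma germ_val (W : X.Opens) (hW : W ≤ U) (m : Γ(F, W)) (y : X) (hy : y ∈ W) :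
    germM G W y hy (val g W hW m) = g.1 ⟨y, hW hy⟩ (germM F W y hy m) :=
  (exists_val g W hW m).choose_spec ⟨y, hy⟩

lemma val_res {W W' : X.Opens} (h : W' ≤ W) (hW : W ≤ U) (m : Γ(F, W)) :
    val g W' (h.trans hW) (res F h m) = res G h (val g W hW m) :=
  HomShQC.sec_ext G fun y hy ↦ by
    rw [germ_val, germM_res F h y hy, germM_res G h y hy, germ_val]

lemma val_smul (W : X.Opens) (hW : W ≤ U) (r : Γ(X, W)) (m : Γ(F, W)) :
    val g W hW (r • m) = r • val g W hW m :=
  HomShQC.sec_ext G fun y hy ↦ by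
    rw [germ_val, germM_smul, map_smul, germM_smul, germ_val]

/-- The restricted morphism of presheaves. -/
noncomputable def restrictPre :
    ((Scheme.Modules.restrictFunctor U.ι).obj F).presheaf ⟶
      ((Scheme.Modules.restrictFunctor U.ι).obj G).presheaf where
  app W := AddCommGrpCat.ofHom (val g (U.ι ''ᵁ W.unop) (image_le W.unop))
  naturality := fun {W W'} i ↦ AddCommGrpCat.ext fun m ↦
    val_res g (U.ι.opensFunctor.map i.unop).le (image_le W.unop) m

/-- The restricted morphism of modules. -/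
noncomputable def restrictHom :
    (Scheme.Modules.restrictFunctor U.ι).obj F ⟶ (Scheme.Modules.restrictFunctor U.ι).obj G :=
  ⟨PresheafOfModules.homMk (restrictPre g) fun W r m ↦
    val_smul g (U.ι ''ᵁ W.unop) (image_le W.unop) ((U.ι.appIso W.unop).inv r) m⟩

lemma restrictHom_app (W : (U : Scheme.{u}).Opens) (m : Γ(F, U.ι ''ᵁ W)) :
    (restrictHom g).app W m = val g (U.ι ''ᵁ W) (image_le W) m := rfl

/-- A section of the sheaf Hom with injective stalk maps gives a monomorphism of restrictions. -/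
lemma exists_restrict_mono
    (hg : ∀ (y : U) (t : F.presheaf.stalk y.1), g.1 y t = 0 → t = 0) :
    ∃ φ : (Scheme.Modules.restrictFunctor U.ι).obj F ⟶ (Scheme.Modules.restrictFunctor U.ι).obj G,
      Mono φ := by
  refine ⟨restrictHom g, WeakAssSch.mono_of_app_injective _ fun W ↦ ?_⟩
  refine (injective_iff_map_eq_zero _).mpr fun (m : Γ(F, U.ι ''ᵁ W)) hm ↦ ?_
  rw [restrictHom_app] at hm
  refine HomShQC.sec_ext F fun y hy ↦ ?_
  refine Eq.trans ?_ (germM_zero F y hy).symm
  refine hg ⟨y, image_le W hy⟩ _ ((germ_val g (U.ι ''ᵁ W) (image_le W) m y hy).symm.trans ?_)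
  rw [hm]
  exact germM_zero G y hy

/-- An associated point gives a monomorphism from the structure sheaf of its closure, locally. -/
lemma exists_mono [IsLocallyNoetherian X] (F : X.Modules) [F.IsQuasicoherent] {x : X}
    (hx : x ∈ AssSch.Ass F) : ∃ (U : X.Opens), x ∈ U ∧
      ∃ φ : (Scheme.Modules.restrictFunctor U.ι).obj (Cyc.closureStructureSheaf x) ⟶
        (Scheme.Modules.restrictFunctor U.ι).obj F, Mono φ := by
  obtain ⟨V, hV, hxV, -⟩ := exists_isAffineOpen_mem_and_subset (X := X) (Opens.mem_top x)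
  have := isNoetherianRing_of_isAffineOpen hV
  have hP : (Cyc.closureStructureSheaf x).IsQuasicoherent := (CohDev.isCoh_oz x).1
  obtain ⟨hp, m, hm⟩ := isAssociatedPrime_iff.mp ((mem_ass_iff F hV x hxV).mp hx)
  have hann : ∀ a, a • CohDev.ozGen x V = 0 ↔ a • m = 0 := fun a ↦ by
    rw [CohDev.smul_ozGen_eq_zero_iff x ⟨V, hV⟩, CohDev.ideal_ptIdeal x hxV]
    change a ∈ primeOf hV x hxV ↔ _
    rw [hm, Submodule.mem_colon_singleton, Submodule.mem_bot]
  let π := LinearMap.toSpanSingleton Γ(X, V) _ (CohDev.ozGen x V)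
  have hπ : Function.Surjective π := CohDev.oz_generates x ⟨V, hV⟩
  let φ : Γ(Cyc.closureStructureSheaf x, V) →ₗ[Γ(X, V)] Γ(F, V) :=
    (Submodule.liftQ (LinearMap.ker π) (LinearMap.toSpanSingleton Γ(X, V) _ m)
      fun a ha ↦ (hann a).mp ha).comp (π.quotKerEquivOfSurjective hπ).symm.toLinearMap
  have hφ : ∀ a, φ (a • CohDev.ozGen x V) = a • m := fun a ↦ by
    have e : (π.quotKerEquivOfSurjective hπ).symm (a • CohDev.ozGen x V) =
        Submodule.Quotient.mk a := by
      rw [LinearEquiv.symm_apply_eq]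
      rfl
    exact (congrArg _ e).trans rfl
  obtain ⟨g, hg⟩ := HomShQC.sec_surjective (Cyc.closureStructureSheaf x) F hV φ
  refine ⟨V, hxV, exists_restrict_mono g fun y t ht ↦ ?_⟩
  obtain ⟨a, c, hc, hct⟩ := CohDev.germ_ozGen_generates x ⟨V, hV⟩ y.2 t
  have h0 : germM F V y.1 y.2 (a • m) = 0 := by
    rw [← hφ a, ← hg, HomShQC.germM_sec, ← hct, map_smul, ht, smul_zero]
  obtain ⟨d, hd, hdm⟩ := (germM_eq_zero_iff F hV y.1 y.2 _).mp h0
  refine hc.smul_eq_zero.mp (hct.trans
    ((germM_eq_zero_iff _ hV y.1 y.2 _).mpr ⟨d, hd, ?_⟩))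
  rw [← mul_smul, hann, mul_smul]
  exact hdm

/-- The point is associated to the structure sheaf of its closure. -/
lemma mem_ass_oz [IsLocallyNoetherian X] (x : X) :
    x ∈ AssSch.Ass (Cyc.closureStructureSheaf x) := by
  obtain ⟨t, ht⟩ : ∃ t : (Cyc.closureStructureSheaf x).presheaf.stalk x, t ≠ 0 := by
    by_contra! h
    have : Subsingleton ((Cyc.closureStructureSheaf x).presheaf.stalk x) :=
      subsingleton_of_forall_eq 0 h
    have h1 := CohDev.length_stalk_oz x
    rw [Module.length_eq_zero] at h1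
    exact zero_ne_one h1
  exact (mem_ass_iff_exists _ x).mpr ⟨t, ht, fun r hr ↦ CohDev.smul_stalk_oz x hr t⟩

/-- Let X be a locally Noetherian scheme, F a quasi-coherent O_X-module and x a point of X; let Z be the
reduced closed subscheme of X whose underlying space is the closure of x, and O_Z its structure
sheaf viewed as an O_X-module. Then x is an associated point of F if and only if x has an open
neighbourhood U over which there is a monomorphism of O_U-modules O_Z|_U → F|_U. -/
theorem result {X : Scheme.{u}} [IsLocallyNoetherian X] (F : X.Modules)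
    (hF : Coh.IsQCoh F) (x : X) :
    x ∈ AssSch.Ass F ↔ ∃ (U : X.Opens), x ∈ U ∧
      ∃ φ : (Scheme.Modules.pullback U.ι).obj
              ((Scheme.Modules.pushforward (Scheme.IdealSheafData.vanishingIdeal ⟨closure {x}, isClosed_closure⟩).subschemeι).obj
                (Coh.structureModule (Scheme.IdealSheafData.vanishingIdeal ⟨closure {x}, isClosed_closure⟩).subscheme)) ⟶
            (Scheme.Modules.pullback U.ι).obj F, Mono φ := by
  have : F.IsQuasicoherent := hF
  let e : ∀ U : X.Opens, Scheme.Modules.restrictFunctor U.ι ≅ Scheme.Modules.pullback U.ι :=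
    fun U ↦ Scheme.Modules.restrictFunctorIsoPullback U.ι
  constructor
  · intro hx
    obtain ⟨U, hxU, φ, hφ⟩ := exists_mono F hx
    exact ⟨U, hxU, ((e U).app (Cyc.closureStructureSheaf x)).inv ≫ φ ≫ ((e U).app F).hom,
      @mono_comp _ _ _ _ _ _ ((e U).app (Cyc.closureStructureSheaf x)).symm.isIso_hom.mono_of_iso _
        (@mono_comp _ _ _ _ _ φ hφ _ ((e U).app F).isIso_hom.mono_of_iso)⟩
  · rintro ⟨U, hxU, φ, hφ⟩
    have : IsLocallyNoetherian (U : Scheme.{u}) := isLocallyNoetherian_of_isOpenImmersion U.ι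
    have hP : (Cyc.closureStructureSheaf x).IsQuasicoherent := (CohDev.isCoh_oz x).1
    have h1 := (Groth.Agent.AssSch.Restrict.mem_ass_pullback_iff U.ι
      (Cyc.closureStructureSheaf x) ⟨x, hxU⟩).mpr (mem_ass_oz x)
    exact (Groth.Agent.AssSch.Restrict.mem_ass_pullback_iff U.ι F ⟨x, hxU⟩).mp
      (ass_subset_of_mono φ h1)

end Groth.Agent.S4658
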