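import Groth.Statements.S4659
import Groth.Agent.AssSch.Reduced
-- import your own Groth.Agent.* helpers here

set_option autoImplicit false
open CategoryTheory AlgebraicGeometry
universe u
open FBase

namespace Groth.Agent.S4659

/-- Let X be a locally Noetherian scheme over a field k and F a coherent O_X-module. Then F ⊗_k k' is a
reduced module on X ⊗_k k' for every finite purely inseparable extension k' of k if and only if F
⊗_k K is a reduced module on X ⊗_k K for every extension K of k for which X ⊗_k K is locally
Noetherian. (The published statement takes K finitely generated over k, a hypothesis used only to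
make X ⊗_k K locally Noetherian.) -/
theorem result {k : Type u} [Field k] {X : Scheme.{u}} [IsLocallyNoetherian X]
    (f : X ⟶ Spec (CommRingCat.of k)) (F : X.Modules) (hF : Coh.IsCoh F) :
    (∀ (k' : Type u) [Field k'] [Algebra k k'] [FiniteDimensional k k'] [IsPurelyInseparable k k'],
        AssSch.IsReducedMod ((Scheme.Modules.pullback (FBase.bcπ f k')).obj F)) ↔
      ∀ (K : Type u) [Field K] [Algebra k K] [IsLocallyNoetherian (FBase.bc f K)],
        AssSch.IsReducedMod ((Scheme.Modules.pullback (FBase.bcπ f K)).obj F) := by
  constructor
  · intro h K _ _ _
    let g := Spec.map (CommRingCat.ofHom (algebraMap k K))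
    have : Flat g := AssSch.Reduced.flat_of_field g
    have : IsLocallyNoetherian (Limits.pullback f g) := ‹IsLocallyNoetherian (FBase.bc f K)›
    refine AssSch.Reduced.isReducedMod_pullback (Limits.pullback.fst f g) F
      (AssSch.Reduced.isReducedMod_of_geomReduced f F h) fun x hx ↦ ?_
    have := AssSch.Reduced.geometricallyReduced_residueField f F h hx
    have : AlgebraicGeometry.IsReduced (Limits.pullback (X.fromSpecResidueField x ≫ f) g) :=
      Groth.Agent.FBase.BC.isReduced_pullback _ g
    exact isReduced_of_isOpenImmersion (AssSch.ExtTensor.isPullback_fibre f g x).isoPullback.hom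
  · intro h k' _ _ _ _
    let g := Spec.map (CommRingCat.ofHom (algebraMap k k'))
    have : IsFinite g := by
      rw [IsFinite.SpecMap_iff]
      exact RingHom.finite_algebraMap.mpr inferInstance
    have : IsFinite (Limits.pullback.fst f g) :=
      MorphismProperty.pullback_fst f g ‹IsFinite g›
    have hLN : IsLocallyNoetherian (Limits.pullback f g) :=
      LocallyOfFiniteType.isLocallyNoetherian (Limits.pullback.fst f g)
    have : IsLocallyNoetherian (FBase.bc f k') := hLN
    exact h k'

end Groth.Agent.S4659
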