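import Groth.Statements.S4662
import Groth.Agent.FBase.Dim
import Groth.Agent.ConsPairLib.DimCons
-- import your own Groth.Agent.* helpers here

set_option autoImplicit false
open CategoryTheory AlgebraicGeometry
universe u
open FBase

namespace Groth.Agent.S4662

open CategoryTheory.Limits TopologicalSpace
open Groth.Agent.FBase.BC Groth.Agent.FBase.Topo Groth.Agent.FBase.IrredComp Groth.Agent.FBase.Dim

open CategoryTheory.Limits in
/-- Let X and Y be integral schemes locally of finite type over a field k. Then every irreducible
component of X ×_k Y has dimension dim X + dim Y (Krull dimensions of the underlying spaces, valued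
in WithBot ℕ∞). -/
theorem result {k : Type u} [Field k] {X Y : Scheme.{u}}
    (f : X ⟶ Spec (CommRingCat.of k)) (g : Y ⟶ Spec (CommRingCat.of k)) [IsIntegral X] [IsIntegral Y]
    [LocallyOfFiniteType f] [LocallyOfFiniteType g] (Z : Set ↥(pullback f g))
    (hZ : Z ∈ irreducibleComponents ↥(pullback f g)) :
    topologicalKrullDim ↥Z = topologicalKrullDim ↥X + topologicalKrullDim ↥Y := by
  exact topDim_component_prod_of_integral f g hZ

end Groth.Agent.S4662
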