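import Groth.Statements.S4663
import Groth.Agent.FBase.Dim
import Groth.Agent.ConsPairLib.DimCons
-- import your own Groth.Agent.* helpers here

set_option autoImplicit false
open CategoryTheory AlgebraicGeometry
universe u
open FBase

namespace Groth.Agent.S4663

open CategoryTheory.Limits TopologicalSpace
open Groth.Agent.FBase.BC Groth.Agent.FBase.Topo Groth.Agent.FBase.IrredComp Groth.Agent.FBase.Dim

/-- Let X be a scheme locally of finite type over a field k, K an extension field of k, and Z an
irreducible closed subset of X. Then every irreducible component of the inverse image of Z in X ⊗_k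
K has the same dimension as Z (Krull dimensions of the underlying topological spaces, valued in
WithBot ℕ∞). (In the published statement Z is a cycle associated to a quasi-coherent O_X-module,
with its reduced subscheme structure, and the components are those of Z ⊗_k K; such cycles are
exactly the irreducible closed subsets of X, and Z ⊗_k K has the inverse image of Z as underlying
space.) -/
theorem result {k K : Type u} [Field k] [Field K] [Algebra k K]
    {X : Scheme.{u}} (f : X ⟶ Spec (CommRingCat.of k)) [LocallyOfFiniteType f]
    (Z : Set ↥X) (hZc : IsClosed Z) (hZi : IsIrreducible Z)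
    (W : Set ↥(⇑(FBase.bcπ f K) ⁻¹' Z)) (hW : W ∈ irreducibleComponents ↥(⇑(FBase.bcπ f K) ⁻¹' Z)) :
    topologicalKrullDim ↥W = topologicalKrullDim ↥Z := by
  let S : Set ↥(pullback f (specMap k K)) := pullback.fst f (specMap k K) ⁻¹' Z
  let W₁ : Set S := W
  have hW₁ : W₁ ∈ irreducibleComponents ↥S := hW
  have hd : topologicalKrullDim W₁ = topologicalKrullDim (Subtype.val '' W₁ : Set ↥(pullback f (specMap k K))) :=
    topDim_image Topology.IsEmbedding.subtypeVal W₁
  change topologicalKrullDim W₁ = _
  rw [hd]
  refine topDim_maximal_preimage f K hZc hZi (Subtype.coe_image_subset _ _)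
    (hW₁.1.image _ continuous_subtype_val.continuousOn) fun V hV hVS hle ↦ ?_
  intro v hv
  have hV' : IsIrreducible (Subtype.val ⁻¹' V : Set S) := by
    refine ⟨?_, TopDimLib.isPreirreducible_iff_of_isInducing_aux.mpr ?_⟩
    · obtain ⟨x, hx⟩ := hV.nonempty
      exact ⟨⟨x, hVS hx⟩, hx⟩
    · rw [Subtype.image_preimage_coe, Set.inter_eq_right.mpr hVS]
      exact hV.2
  exact ⟨⟨v, hVS hv⟩, hW₁.2 hV' (fun a ha ↦ hle ⟨a, ha, rfl⟩) hv, rfl⟩

end Groth.Agent.S4663
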