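import Groth.Statements.S4664
import Groth.Agent.FBase.BC2
-- import your own Groth.Agent.* helpers here

set_option autoImplicit false
open CategoryTheory AlgebraicGeometry
universe u
open FBase

namespace Groth.Agent.S4664

open CategoryTheory.Limits

open CategoryTheory.Limits in
/-- Let f : X → Y and g : Y' → Y be morphisms of schemes with g surjective, and let f' : X ×_Y Y' → Y'
be the base change of f. If every fibre of f' is geometrically irreducible, then every fibre of f is
geometrically irreducible. -/
theorem result {X Y Y' : Scheme.{u}} (f : X ⟶ Y)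
    (g : Y' ⟶ Y) [Surjective g] [GeometricallyIrreducible (pullback.snd f g)] : GeometricallyIrreducible f := by
  refine ⟨geometrically_iff_of_isClosedUnderIsomorphisms.mpr fun K _ y ↦ ?_⟩
  obtain ⟨M, _, ψ, y', hy'⟩ := Groth.Agent.FBase.BC2.exists_lift_field g y
  have : IrreducibleSpace ↥(pullback (pullback.snd f g) y') :=
    pullback_of_geometrically GeometricallyIrreducible.geometrically_irreducibleSpace _ _
  have : Surjective (Spec.map (CommRingCat.ofHom ψ)) :=
    letI := ψ.toAlgebra; Groth.Agent.FBase.BC.surjective_specMap (k := K) (K := M)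
  let e : pullback (pullback.snd f g) y' ≅ pullback (pullback.snd f y) (Spec.map (CommRingCat.ofHom ψ)) :=
    pullbackLeftPullbackSndIso f g y' ≪≫ pullback.congrHom rfl hy' ≪≫
      (pullbackLeftPullbackSndIso f y (Spec.map (CommRingCat.ofHom ψ))).symm
  exact Groth.Agent.FBase.BC.irreducibleSpace_of_surjective (e.hom ≫ pullback.fst _ _)

end Groth.Agent.S4664
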