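import Groth.Statements.S4665
import Groth.Agent.FBase.BC2
-- import your own Groth.Agent.* helpers here

set_option autoImplicit false
open CategoryTheory AlgebraicGeometry
universe u
open FBase

namespace Groth.Agent.S4665

open CategoryTheory.Limits

open CategoryTheory.Limits in
/-- Let f : X → Y and g : Y' → Y be morphisms of schemes with g surjective, and let f' : X ×_Y Y' → Y'
be the base change of f. Say that a morphism has geometrically connected fibres when, for every
field K and every morphism from Spec K to its target, the base change to Spec K is empty or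
connected (so an empty fibre counts as geometrically connected). If f' has geometrically connected
fibres in this sense, then so has f. -/
theorem result {X Y Y' : Scheme.{u}} (f : X ⟶ Y)
    (g : Y' ⟶ Y) [Surjective g]
    (h : geometrically (fun Z : Scheme.{u} => IsEmpty ↥Z ∨ ConnectedSpace ↥Z) (pullback.snd f g)) :
    geometrically (fun Z : Scheme.{u} => IsEmpty ↥Z ∨ ConnectedSpace ↥Z) f := by
  have : ObjectProperty.IsClosedUnderIsomorphisms
      (fun Z : Scheme.{u} => IsEmpty ↥Z ∨ ConnectedSpace ↥Z) :=
    ⟨fun e hZ ↦ hZ.imp (fun hh ↦ @Equiv.isEmpty _ _ e.inv.homeomorph.toEquiv hh)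
      fun hc ↦ e.hom.homeomorph.connectedSpace_iff.mp hc⟩
  refine geometrically_iff_of_isClosedUnderIsomorphisms.mpr fun K _ y ↦ ?_
  obtain ⟨M, _, ψ, y', hy'⟩ := Groth.Agent.FBase.BC2.exists_lift_field g y
  have : Surjective (Spec.map (CommRingCat.ofHom ψ)) :=
    letI := ψ.toAlgebra; Groth.Agent.FBase.BC.surjective_specMap (k := K) (K := M)
  let e : pullback (pullback.snd f g) y' ≅ pullback (pullback.snd f y) (Spec.map (CommRingCat.ofHom ψ)) :=
    pullbackLeftPullbackSndIso f g y' ≪≫ pullback.congrHom rfl hy' ≪≫
      (pullbackLeftPullbackSndIso f y (Spec.map (CommRingCat.ofHom ψ))).symm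
  let π := e.hom ≫ pullback.fst (pullback.snd f y) (Spec.map (CommRingCat.ofHom ψ))
  rcases pullback_of_geometrically h M y' with hE | hC
  · exact Or.inl ⟨fun z ↦ hE.false (π.surjective z).choose⟩
  · exact Or.inr (Groth.Agent.FBase.BC.connectedSpace_of_surjective π)

end Groth.Agent.S4665
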