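import Groth.Statements.S4666
import Mathlib.AlgebraicGeometry.IdealSheaf.Functorial
import Mathlib.AlgebraicGeometry.Morphisms.Flat
import Mathlib.AlgebraicGeometry.PullbackCarrier
-- import your own Groth.Agent.* helpers here

set_option autoImplicit false
open CategoryTheory AlgebraicGeometry
universe u
open FDesc

namespace Groth.Agent.S4666

/-- A flat surjective morphism does not kill ideal sheaves. -/
lemma eq_bot_of_comap_eq_bot {P Z : Scheme.{u}} (g : P ⟶ Z) [Flat g] [Surjective g]
    (I : Z.IdealSheafData) (h : I.comap g = ⊥) : I = ⊥ := by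
  have hk : I ≤ g.ker := by
    have h1 : I ≤ Scheme.IdealSheafData.map ⊥ g := Scheme.IdealSheafData.le_map_iff_comap_le.mpr h.le
    rwa [Scheme.IdealSheafData.map, Scheme.Hom.ker_comp_of_isIso] at h1
  refine le_bot_iff.mp fun U s hs => ?_
  rw [Scheme.IdealSheafData.ideal_bot]
  have hz : g.app U.1 s = 0 := RingHom.mem_ker.mp (g.ideal_ker_le U (hk U hs))
  refine Ideal.mem_bot.mpr (TopCat.Presheaf.section_ext Z.sheaf U.1 s 0 fun z hz' => ?_)
  obtain ⟨p, rfl⟩ := g.surjective z
  algebraize [(g.stalkMap p).hom]
  have : Module.FaithfullyFlat (Z.presheaf.stalk (g p)) (P.presheaf.stalk p) :=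
    @Module.FaithfullyFlat.of_flat_of_isLocalHom _ _ _ _ _ _ _ (Flat.stalkMap g p)
      (g.toLRSHom.prop p)
  refine (‹RingHom.FaithfullyFlat (g.stalkMap p).hom›.injective ?_)
  refine (g.germ_stalkMap_apply U.1 p hz' s).trans ?_
  rw [hz, map_zero]
  exact ((congrArg _ (map_zero (Z.presheaf.germ U.1 (g p) hz').hom)).trans (map_zero (g.stalkMap p).hom)).symm

lemma le_of_comap_le {X Y : Scheme.{u}} (f : X ⟶ Y) [Flat f] [Surjective f]
    (J J' : Y.IdealSheafData) (h : J.comap f ≤ J'.comap f) : J ≤ J' := by
  have key : J.comap J'.subschemeι = ⊥ := by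
    refine eq_bot_of_comap_eq_bot (Limits.pullback.snd f J'.subschemeι) _ (le_bot_iff.mp ?_)
    have hJ' : J'.comap J'.subschemeι = ⊥ := by
      refine le_bot_iff.mp (Scheme.IdealSheafData.le_map_iff_comap_le.mp ?_)
      rw [Scheme.IdealSheafData.map, Scheme.Hom.ker_comp_of_isIso,
        Scheme.IdealSheafData.ker_subschemeι]
    rw [← Scheme.IdealSheafData.comap_comp, ← Limits.pullback.condition,
      Scheme.IdealSheafData.comap_comp]
    refine (Scheme.IdealSheafData.comap_mono _ h).trans ?_
    change (J'.comap f).comap (Limits.pullback.fst f J'.subschemeι) ≤ ⊥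
    rw [← Scheme.IdealSheafData.comap_comp, Limits.pullback.condition,
      Scheme.IdealSheafData.comap_comp, hJ', Scheme.IdealSheafData.comap_bot]
  have h1 := Scheme.IdealSheafData.le_map_iff_comap_le.mpr key.le
  rwa [Scheme.IdealSheafData.map, Scheme.Hom.ker_comp_of_isIso,
    Scheme.IdealSheafData.ker_subschemeι] at h1

/-- Let f : X → Y be a flat and surjective morphism of schemes. Then the map sending a quasi-coherent
sheaf of ideals of O_Y (a closed subscheme of Y) to its inverse image in X is injective. -/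
theorem result {X Y : Scheme.{u}} (f : X ⟶ Y) [Flat f] [Surjective f] :
    Function.Injective fun J : Y.IdealSheafData => J.comap f := by
  intro J J' h
  exact le_antisymm (le_of_comap_le f J J' (le_of_eq h)) (le_of_comap_le f J' J (le_of_eq h.symm))

end Groth.Agent.S4666
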