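import Groth.Statements.S4672
import Groth.Agent.FBase.IrredComp
-- import your own Groth.Agent.* helpers here

set_option autoImplicit false
open CategoryTheory AlgebraicGeometry
universe u
open FBase

namespace Groth.Agent.S4672

open CategoryTheory.Limits TensorProduct
open Groth.Agent.FBase.BC Groth.Agent.FBase.BC2 Groth.Agent.FBase.Topo
open Groth.Agent.FBase.Components Groth.Agent.FBase.ConnComp Groth.Agent.FBase.IrredComp

open CategoryTheory.Limits in
/-- Let X and Y be locally Noetherian schemes over a field k such that X ×_k Y is locally Noetherian,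
with projections p and q. Then a subset W of X ×_k Y is an irreducible component of X ×_k Y if and
only if there exist an irreducible component X' of X and an irreducible component Y' of Y such that
W is a maximal irreducible subset of p⁻¹(X') ∩ q⁻¹(Y') (that is, an irreducible component of the
space underlying X' ×_k Y' for the reduced structures on X' and Y'). -/
theorem result {k : Type u} [Field k] {X Y : Scheme.{u}}
    (f : X ⟶ Spec (CommRingCat.of k)) (g : Y ⟶ Spec (CommRingCat.of k)) [IsLocallyNoetherian X]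
    [IsLocallyNoetherian Y] [IsLocallyNoetherian (pullback f g)] (W : Set ↥(pullback f g)) :
    W ∈ irreducibleComponents ↥(pullback f g) ↔
      ∃ X' ∈ irreducibleComponents ↥X, ∃ Y' ∈ irreducibleComponents ↥Y,
        Maximal (fun V : Set ↥(pullback f g) => IsIrreducible V ∧ V ⊆ ⇑(pullback.fst f g) ⁻¹' X' ∩ ⇑(pullback.snd f g) ⁻¹' Y') W := by
  let p := pullback.fst f g
  let q := pullback.snd f g
  constructor
  · intro hW
    obtain ⟨X', hX', hWX⟩ : ∃ X' ∈ irreducibleComponents ↥X, p '' W ⊆ X' := by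
      obtain ⟨x, hx⟩ := (hW.1.image p p.continuous.continuousOn).nonempty
      obtain ⟨T, hT, hWT⟩ := exists_preirreducible _ (hW.1.image p p.continuous.continuousOn).2
      exact ⟨T, ⟨⟨⟨x, hWT.1 hx⟩, hT⟩, fun U hU hTU ↦ (hWT.2 U hU.2 hTU).le⟩, hWT.1⟩
    obtain ⟨Y', hY', hWY⟩ : ∃ Y' ∈ irreducibleComponents ↥Y, q '' W ⊆ Y' := by
      obtain ⟨y, hy⟩ := (hW.1.image q q.continuous.continuousOn).nonempty
      obtain ⟨T, hT, hWT⟩ := exists_preirreducible _ (hW.1.image q q.continuous.continuousOn).2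
      exact ⟨T, ⟨⟨⟨y, hWT.1 hy⟩, hT⟩, fun U hU hTU ↦ (hWT.2 U hU.2 hTU).le⟩, hWT.1⟩
    exact ⟨X', hX', Y', hY',
      ⟨hW.1, Set.subset_inter (Set.image_subset_iff.mp hWX) (Set.image_subset_iff.mp hWY)⟩,
      fun V hV hWV ↦ hW.2 hV.1 hWV⟩
  · rintro ⟨X', hX', Y', hY', hW⟩
    have hXc := isClosed_of_mem_irreducibleComponents X' hX'
    have hYc := isClosed_of_mem_irreducibleComponents Y' hY'
    have hZc : IsClosed (⇑p ⁻¹' X' ∩ ⇑q ⁻¹' Y') :=
      (hXc.preimage p.continuous).inter (hYc.preimage q.continuous)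
    have hWc : IsClosed W := by
      rw [← closure_subset_iff_isClosed]
      exact hW.2 ⟨hW.1.1.closure, closure_minimal hW.1.2 hZc⟩ subset_closure
    obtain ⟨w, hw⟩ : ∃ w, IsGenericPoint w W := QuasiSober.sober hW.1.1 hWc
    obtain ⟨ξ, hξ⟩ : ∃ ξ, IsGenericPoint ξ X' := QuasiSober.sober hX'.1 hXc
    obtain ⟨ζ, hζ⟩ : ∃ ζ, IsGenericPoint ζ Y' := QuasiSober.sober hY'.1 hYc
    have hmax : ∀ v, v ⤳ w → v ∈ ⇑p ⁻¹' X' ∩ ⇑q ⁻¹' Y' → v = w := fun v hv hvZ ↦
      (hv.antisymm (hw.specializes (hW.2 ⟨isIrreducible_singleton.closure,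
        closure_minimal (Set.singleton_subset_iff.mpr hvZ) hZc⟩
        (hw.def.symm.le.trans (closure_minimal (Set.singleton_subset_iff.mpr hv.mem_closure)
          isClosed_closure)) (subset_closure rfl)))).eq
    let IX := Scheme.IdealSheafData.vanishingIdeal ⟨X', hXc⟩
    let IY := Scheme.IdealSheafData.vanishingIdeal ⟨Y', hYc⟩
    have hrX : Set.range IX.subschemeι = X' :=
      IX.range_subschemeι.trans (Scheme.IdealSheafData.coe_support_vanishingIdeal _)
    have hrY : Set.range IY.subschemeι = Y' :=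
      IY.range_subschemeι.trans (Scheme.IdealSheafData.coe_support_vanishingIdeal _)
    let m := pullback.map (IX.subschemeι ≫ f) (IY.subschemeι ≫ g) f g IX.subschemeι IY.subschemeι
      (𝟙 _) (by simp) (by simp)
    have hrange : Set.range m = ⇑p ⁻¹' X' ∩ ⇑q ⁻¹' Y' :=
      (Scheme.Pullback.range_map ..).trans (by rw [hrX, hrY])
    obtain ⟨u, hu⟩ := hrange.ge (hW.1.2 hw.mem)
    have hpw : p w = ξ := by
      obtain ⟨ξ', hξ'⟩ := hrX.ge hξ.mem
      have hs : ξ' ⤳ pullback.fst (IX.subschemeι ≫ f) (IY.subschemeι ≫ g) u := by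
        rw [← IX.subschemeι.isEmbedding.isInducing.specializes_iff, hξ']
        exact hξ.specializes (hrX.le ⟨_, rfl⟩)
      obtain ⟨v, hv, hv'⟩ := Flat.generalizingMap
        (pullback.fst (IX.subschemeι ≫ f) (IY.subschemeι ≫ g)) hs
      have he : m v = w := hmax _ (hu ▸ hv.map m.continuous) (hrange.le ⟨v, rfl⟩)
      rw [← he, ← hξ', ← hv', ← Scheme.Hom.comp_apply, ← Scheme.Hom.comp_apply]
      simp only [p, m, pullback.lift_fst]
    have hqw : q w = ζ := by
      obtain ⟨ζ', hζ'⟩ := hrY.ge hζ.mem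
      have hs : ζ' ⤳ pullback.snd (IX.subschemeι ≫ f) (IY.subschemeι ≫ g) u := by
        rw [← IY.subschemeι.isEmbedding.isInducing.specializes_iff, hζ']
        exact hζ.specializes (hrY.le ⟨_, rfl⟩)
      obtain ⟨v, hv, hv'⟩ := Flat.generalizingMap
        (pullback.snd (IX.subschemeι ≫ f) (IY.subschemeι ≫ g)) hs
      have he : m v = w := hmax _ (hu ▸ hv.map m.continuous) (hrange.le ⟨v, rfl⟩)
      rw [← he, ← hζ', ← hv', ← Scheme.Hom.comp_apply, ← Scheme.Hom.comp_apply]
      simp only [q, m, pullback.lift_snd]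
    rw [← hw.def]
    refine closure_singleton_mem_irreducibleComponents fun v hv ↦ ?_
    have h1 : p v ⤳ ξ := hpw ▸ hv.map p.continuous
    have h2 : q v ⤳ ζ := hqw ▸ hv.map q.continuous
    have h3 : p v = ξ := (h1.antisymm (specializes_of_isGenericPoint_component hX' hξ h1)).eq
    have h4 : q v = ζ := (h2.antisymm (specializes_of_isGenericPoint_component hY' hζ h2)).eq
    rw [hmax v hv ⟨show p v ∈ X' from h3.symm ▸ hξ.mem, show q v ∈ Y' from h4.symm ▸ hζ.mem⟩]

end Groth.Agent.S4672
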