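import Groth.Statements.S4673
import Groth.Agent.FBase.Dim
import Groth.Agent.ConsPairLib.DimCons
-- import your own Groth.Agent.* helpers here

set_option autoImplicit false
open CategoryTheory AlgebraicGeometry
universe u
open FBase

namespace Groth.Agent.S4673

open CategoryTheory.Limits TopologicalSpace
open Groth.Agent.FBase.BC Groth.Agent.FBase.Topo Groth.Agent.FBase.IrredComp Groth.Agent.FBase.Dim

/-- Let X be a scheme locally of finite type over a field k and K an extension field of k. Then the set
of dimensions of the irreducible components of X ⊗_k K is equal to the set of dimensions of the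
irreducible components of X (Krull dimensions of the underlying spaces, valued in WithBot ℕ∞). -/
theorem result {k K : Type u} [Field k] [Field K] [Algebra k K]
    {X : Scheme.{u}} (f : X ⟶ Spec (CommRingCat.of k)) [LocallyOfFiniteType f] :
    (fun Z : Set ↥(FBase.bc f K) => topologicalKrullDim ↥Z) '' irreducibleComponents ↥(FBase.bc f K) =
      (fun Z : Set ↥X => topologicalKrullDim ↥Z) '' irreducibleComponents ↥X := by
  let p := pullback.fst f (specMap k K)
  have key : ∀ W ∈ irreducibleComponents ↥(pullback f (specMap k K)), ∀ w, IsGenericPoint w W →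
      closure {p w} ∈ irreducibleComponents ↥X ∧
        topologicalKrullDim W = topologicalKrullDim (closure {p w} : Set X) := by
    intro W hW w hw
    refine ⟨closure_singleton_mem_irreducibleComponents fun z hz ↦ generization_maximal_map p
      (fun v ↦ specializes_of_isGenericPoint_component hW hw) hz, ?_⟩
    refine topDim_maximal_preimage f K isClosed_closure isIrreducible_singleton.closure
      (fun v hv ↦ ((hw.specializes hv).map p.continuous).mem_closure) hW.1
      fun V hV _ hle ↦ hW.2 hV hle
  ext d
  constructor
  · rintro ⟨W, hW, rfl⟩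
    obtain ⟨w, hw⟩ : ∃ w : ↥(pullback f (specMap k K)), IsGenericPoint w (W : Set ↥(pullback f (specMap k K))) :=
      QuasiSober.sober hW.1 (isClosed_of_mem_irreducibleComponents _ hW)
    obtain ⟨h1, h2⟩ := key W hW w hw
    exact ⟨_, h1, h2.symm⟩
  · rintro ⟨Z, hZ, rfl⟩
    obtain ⟨ξ, hξ⟩ : ∃ ξ, IsGenericPoint ξ Z :=
      QuasiSober.sober hZ.1 (isClosed_of_mem_irreducibleComponents _ hZ)
    obtain ⟨z, hz⟩ := (surjective_pullback_fst (K := K) f).surj ξ
    let W := irreducibleComponent z
    have hW := irreducibleComponent_mem_irreducibleComponents z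
    obtain ⟨w, hw⟩ : ∃ w, IsGenericPoint w W :=
      QuasiSober.sober hW.1 (isClosed_of_mem_irreducibleComponents _ hW)
    obtain ⟨h1, h2⟩ := key W hW w hw
    have hpw : p w = ξ := by
      have h3 : p w ⤳ ξ := hz ▸ (hw.specializes mem_irreducibleComponent).map p.continuous
      exact (h3.antisymm (specializes_of_isGenericPoint_component hZ hξ h3)).eq
    refine ⟨W, hW, ?_⟩
    change topologicalKrullDim W = _
    rw [h2, hpw]
    exact topDim_congr hξ.def

end Groth.Agent.S4673
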