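import Groth.Statements.S4674
import Mathlib.RingTheory.Flat.Basic
import Mathlib.LinearAlgebra.TensorProduct.Pi
import Mathlib.RingTheory.Finiteness.Basic
-- import your own Groth.Agent.* helpers here

set_option autoImplicit false
open scoped TensorProduct
universe u v w
open FDesc

namespace Groth.Agent.S4674

/-- Let B be a flat A-algebra and M a finitely presented A-module. Then the annihilator of the B-module
B ⊗_A M is the ideal of B generated by the image of the annihilator of M. -/
theorem result {A : Type u} {B : Type v} [CommRing A] [CommRing B] [Algebra A B]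
    [Module.Flat A B] (M : Type w) [AddCommGroup M] [Module A M] [Module.FinitePresentation A M] :
    Module.annihilator B (B ⊗[A] M) = (Module.annihilator A M).map (algebraMap A B) := by
  obtain ⟨n, s, hs⟩ := Module.Finite.exists_fin (R := A) (M := M)
  let φ : A →ₗ[A] (Fin n → M) := LinearMap.pi fun i => LinearMap.toSpanSingleton A M (s i)
  have hker : ∀ a, a ∈ Module.annihilator A M ↔ φ a = 0 := by
    intro a
    rw [Module.mem_annihilator]
    refine ⟨fun h => funext fun i => h (s i), fun h m => ?_⟩
    have hm : m ∈ Submodule.span A (Set.range s) := hs ▸ Submodule.mem_top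
    induction hm using Submodule.span_induction with
    | mem x hx => obtain ⟨i, rfl⟩ := hx; exact congr_fun h i
    | zero => simp
    | add x y _ _ hx hy => simp [smul_add, hx, hy]
    | smul c x _ hx => rw [smul_comm, hx, smul_zero]
  apply le_antisymm
  · intro b hb
    rw [Module.mem_annihilator] at hb
    have hex : Function.Exact ((Module.annihilator A M).subtype.lTensor B) (φ.lTensor B) := by
      refine Module.Flat.lTensor_exact B ?_
      intro a
      rw [← hker a]
      exact ⟨fun h => ⟨⟨a, h⟩, rfl⟩, by rintro ⟨⟨a, h⟩, rfl⟩; exact h⟩
    have h0 : φ.lTensor B (b ⊗ₜ[A] (1 : A)) = 0 := by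
      refine (TensorProduct.piRight A A B (fun _ : Fin n => M)).injective (funext fun i => ?_)
      have := hb (1 ⊗ₜ s i)
      rw [TensorProduct.smul_tmul', smul_eq_mul, mul_one] at this
      simpa [φ] using this
    obtain ⟨z, hz⟩ := (hex _).mp h0
    have key : ∀ z : B ⊗[A] (Module.annihilator A M), TensorProduct.rid A B
        ((Module.annihilator A M).subtype.lTensor B z) ∈
          (Module.annihilator A M).map (algebraMap A B) := by
      intro z
      induction z using TensorProduct.induction_on with
      | zero => simp
      | add a b ha hb => simpa [map_add] using Ideal.add_mem _ ha hb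
      | tmul c a =>
        rw [LinearMap.lTensor_tmul, TensorProduct.rid_tmul, Algebra.smul_def]
        exact Ideal.mul_mem_right _ _ (Ideal.mem_map_of_mem _ a.2)
    simpa [hz] using key z
  · rw [Ideal.map_le_iff_le_comap]
    intro a ha
    rw [Ideal.mem_comap, Module.mem_annihilator]
    intro x
    induction x using TensorProduct.induction_on with
    | zero => simp
    | add u v hu hv => simp [smul_add, hu, hv]
    | tmul c m => rw [algebraMap_smul, ← TensorProduct.tmul_smul, Module.mem_annihilator.mp ha m,
        TensorProduct.tmul_zero]

end Groth.Agent.S4674
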