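import Groth.Statements.S4675
import Mathlib.Algebra.Module.Submodule.Equiv
-- import your own Groth.Agent.* helpers here

set_option autoImplicit false
universe u v
open FDesc

namespace Groth.Agent.S4675

/-- Let B be a ring, not necessarily commutative, and V, W two left B-modules which are isomorphic. For
a B-linear map u : V → W the following are equivalent: every B-linear map V → W can be written
uniquely as u ∘ c with c a B-linear endomorphism of V (that is, u is a basis of Hom_B(V, W) for its
right module structure over End_B(V)); u is bijective. -/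
theorem result {B : Type u} [Ring B] {V W : Type v} [AddCommGroup V] [AddCommGroup W]
    [Module B V] [Module B W] (e : V ≃ₗ[B] W) (u : V →ₗ[B] W) :
    (∀ v : V →ₗ[B] W, ∃! c : V →ₗ[B] V, v = u ∘ₗ c) ↔ Function.Bijective u := by
  constructor
  · intro h
    obtain ⟨c, hc, -⟩ := h e.toLinearMap
    refine ⟨?_, ?_⟩
    · rw [← LinearMap.ker_eq_bot, Submodule.eq_bot_iff]
      intro x hx
      -- compare `c` with `c` perturbed by the endomorphism landing in `ker u`
      obtain ⟨c₀, -, huniq⟩ := h (u ∘ₗ LinearMap.id)
      have hcs : c ∘ₗ e.symm.toLinearMap ∘ₗ u = LinearMap.id := by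
        rw [huniq _ (?_ : u ∘ₗ LinearMap.id = u ∘ₗ (c ∘ₗ e.symm.toLinearMap ∘ₗ u)),
          ← huniq _ rfl]
        ext y
        have := congrArg (fun l : V →ₗ[B] W => l (e.symm (u y))) hc
        simpa using this
      simpa [LinearMap.mem_ker.mp hx] using (congrArg (fun l : V →ₗ[B] V => l x) hcs).symm
    · intro w
      exact ⟨c (e.symm w), by simpa using (congrArg (fun l : V →ₗ[B] W => l (e.symm w)) hc).symm⟩
  · intro hu v
    let U := LinearEquiv.ofBijective u hu
    refine ⟨U.symm.toLinearMap ∘ₗ v, ?_, fun c hc => ?_⟩
    · ext x
      exact (U.apply_symm_apply (v x)).symm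
    · ext x
      simp [U, hc]

end Groth.Agent.S4675
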