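import Groth.Statements.S4678
import Groth.Agent.AssSch.TensorFlat
import Groth.Agent.FDesc.BaseChangeStalk

set_option autoImplicit false
open CategoryTheory AlgebraicGeometry
universe u
open FDesc

open CategoryTheory.Limits
namespace Groth.Agent.S4678

open CategoryTheory.Limits in
open scoped TensorProduct in
/-- `P ⊗[B] M` is flat over `A` if `M` is and `P` is flat over `B`. -/
theorem flat_tensor (A B : Type u) [CommRing A] [CommRing B] [Algebra A B]
    (P M : Type u) [AddCommGroup P] [Module A P] [Module B P] [IsScalarTower A B P]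
    [AddCommGroup M] [Module A M] [Module B M] [IsScalarTower A B M]
    [Module.Flat B P] [Module.Flat A M] : Module.Flat A (P ⊗[B] M) := by
  rw [Module.Flat.iff_lTensor_preserves_injective_linearMap]
  intro N Q _ _ _ _ f hf
  let fB : M ⊗[A] N →ₗ[B] M ⊗[A] Q := TensorProduct.AlgebraTensorModule.map LinearMap.id f
  have hfB : ∀ x, fB x = f.lTensor M x := by
    intro x
    induction x using TensorProduct.induction_on with
    | zero => simp
    | tmul a b => rfl
    | add a b ha hb => simp [map_add, ha, hb]
  have hinj : Function.Injective fB := by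
    intro a b hab
    rw [hfB, hfB] at hab
    exact Module.Flat.lTensor_preserves_injective_linearMap f hf hab
  let eN := TensorProduct.AlgebraTensorModule.assoc A B B P M N
  let eQ := TensorProduct.AlgebraTensorModule.assoc A B B P M Q
  have hcomm : ∀ x, fB.lTensor P (eN x) = eQ (f.lTensor (P ⊗[B] M) x) := by
    intro x
    induction x using TensorProduct.induction_on with
    | zero => simp
    | add a b ha hb => simp [map_add, ha, hb]
    | tmul a n =>
      induction a using TensorProduct.induction_on with
      | zero => simp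
      | add a b ha hb => simp only [TensorProduct.add_tmul, map_add, ha, hb]
      | tmul c m => rfl
  intro a b hab
  refine eN.injective (Module.Flat.lTensor_preserves_injective_linearMap fB hinj ?_)
  rw [hcomm, hcomm, hab]

open scoped TensorProduct in
/-- The tensor product of a module flat over `Y` and the pullback of one flat over `Z`. -/
theorem flatOverAt_tensor {X Y Z : Scheme.{u}} (q : X ⟶ Y) (h : Y ⟶ Z) (P : X.Modules) (G : Y.Modules)
    (x : X) (hP : FlatMod.IsFlatOverAt q P x) (hG : FlatMod.IsFlatOverAt h G (q x)) :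
    FlatMod.IsFlatOverAt (q ≫ h) (CohB1.tensorMod P ((Scheme.Modules.pullback q).obj G)) x := by
  let : Algebra (Y.presheaf.stalk (q x)) (X.presheaf.stalk x) := (q.stalkMap x).hom.toAlgebra
  let : Algebra (Z.presheaf.stalk (h (q x))) (Y.presheaf.stalk (q x)) := (h.stalkMap (q x)).hom.toAlgebra
  let : Algebra (Z.presheaf.stalk (h (q x))) (X.presheaf.stalk x) :=
    ((q ≫ h).stalkMap x).hom.toAlgebra
  have : IsScalarTower (Z.presheaf.stalk (h (q x))) (Y.presheaf.stalk (q x)) (X.presheaf.stalk x) :=
    IsScalarTower.of_algebraMap_eq' (congrArg CommRingCat.Hom.hom (Scheme.Hom.stalkMap_comp q h x))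
  let := FlatMod.moduleStalkOver q P x
  let := FlatMod.moduleStalkOver h G (q x)
  let : Module (Z.presheaf.stalk (h (q x))) (P.presheaf.stalk x) := FlatMod.moduleStalkOver (q ≫ h) P x
  have : IsScalarTower (Y.presheaf.stalk (q x)) (X.presheaf.stalk x) (P.presheaf.stalk x) :=
    IsScalarTower.of_algebraMap_smul fun _ _ => rfl
  have : IsScalarTower (Z.presheaf.stalk (h (q x))) (X.presheaf.stalk x) (P.presheaf.stalk x) :=
    IsScalarTower.of_algebraMap_smul fun _ _ => rfl
  have : IsScalarTower (Z.presheaf.stalk (h (q x))) (Y.presheaf.stalk (q x)) (P.presheaf.stalk x) :=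
    IsScalarTower.of_algebraMap_smul fun a m => by
      rw [← algebraMap_smul (X.presheaf.stalk x) (algebraMap (Z.presheaf.stalk (h (q x))) (Y.presheaf.stalk (q x)) a) m,
        ← IsScalarTower.algebraMap_apply]
      exact algebraMap_smul (X.presheaf.stalk x) a m
  have : IsScalarTower (Z.presheaf.stalk (h (q x))) (Y.presheaf.stalk (q x)) (G.presheaf.stalk (q x)) :=
    IsScalarTower.of_algebraMap_smul fun _ _ => rfl
  have : Module.Flat (Y.presheaf.stalk (q x)) (P.presheaf.stalk x) := hP
  have : Module.Flat (Z.presheaf.stalk (h (q x))) (G.presheaf.stalk (q x)) := hG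
  have := flat_tensor (Z.presheaf.stalk (h (q x))) (Y.presheaf.stalk (q x)) (P.presheaf.stalk x)
    (G.presheaf.stalk (q x))
  obtain ⟨e₀, -⟩ := Groth.Agent.FDesc.Stalk.exists_stalk_equiv q G x
  let e := KFlat.StalkTensor.stalkTensorEquiv P ((Scheme.Modules.pullback q).obj G) x ≪≫ₗ
    TensorProduct.congr (LinearEquiv.refl _ _) e₀.symm ≪≫ₗ
    TensorProduct.AlgebraTensorModule.cancelBaseChange (Y.presheaf.stalk (q x)) (X.presheaf.stalk x)
      (X.presheaf.stalk x) (P.presheaf.stalk x) (G.presheaf.stalk (q x))
  let : Module (Z.presheaf.stalk (h (q x)))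
      ((KFlat.StalkTensor.tensM P ((Scheme.Modules.pullback q).obj G)).presheaf.stalk x) :=
    FlatMod.moduleStalkOver (q ≫ h) _ x
  have : IsScalarTower (Z.presheaf.stalk (h (q x))) (X.presheaf.stalk x)
      ((KFlat.StalkTensor.tensM P ((Scheme.Modules.pullback q).obj G)).presheaf.stalk x) :=
    IsScalarTower.of_algebraMap_smul fun _ _ => rfl
  change Module.Flat (Z.presheaf.stalk (h (q x)))
    ((KFlat.StalkTensor.tensM P ((Scheme.Modules.pullback q).obj G)).presheaf.stalk x)
  exact Module.Flat.of_linearEquiv (e.restrictScalars (Z.presheaf.stalk (h (q x))))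

/-- Let f : X → Y, g : Y' → Y and h : Y' → Z be morphisms of schemes, X' = X ×_Y Y' with projections p :
X' → X and q : X' → Y', and x' a point of X'. Let F be a quasi-coherent O_X-module which is flat
over Y at p(x') and G' a quasi-coherent O_{Y'}-module which is flat over Z at q(x'). Then the
O_{X'}-module p^*F ⊗ q^*G' is flat over Z at x', for the structure morphism q followed by h. -/
theorem result {X Y Y' Z : Scheme.{u}} (f : X ⟶ Y) (g : Y' ⟶ Y) (h : Y' ⟶ Z)
    (F : X.Modules) (hF : Coh.IsQCoh F) (G' : Y'.Modules) (hG' : Coh.IsQCoh G') (x' : ↥(pullback f g))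
    (hFx : FlatMod.IsFlatOverAt f F (pullback.fst f g x')) (hGy : FlatMod.IsFlatOverAt h G' (pullback.snd f g x')) :
    FlatMod.IsFlatOverAt (pullback.snd f g ≫ h) (CohB1.tensorMod ((Scheme.Modules.pullback (pullback.fst f g)).obj F) ((Scheme.Modules.pullback (pullback.snd f g)).obj G')) x' := by
  exact flatOverAt_tensor (pullback.snd f g) h _ G' x'
    (Groth.Agent.FDesc.BaseChangeStalk.flatOverAt_baseChange (IsPullback.of_hasPullback f g) x' F hFx) hGy

end Groth.Agent.S4678
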