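import Groth.Statements.S4679
import Groth.Agent.S4678
import Groth.Agent.S4680
import Groth.Agent.AssSch.TensorFlat
import Groth.Agent.FDesc.BaseChangeStalk

set_option autoImplicit false
open CategoryTheory AlgebraicGeometry
universe u
open FDesc

open CategoryTheory.Limits
namespace Groth.Agent.S4679

open CategoryTheory.Limits in
open scoped TensorProduct in
theorem flat_of_flat_tensor (A B : Type u) [CommRing A] [CommRing B] [Algebra A B]
    (P M : Type u) [AddCommGroup P] [Module A P] [Module B P] [IsScalarTower A B P]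
    [AddCommGroup M] [Module A M] [Module B M] [IsScalarTower A B M]
    [Module.FaithfullyFlat B P] [Module.Flat A (P ⊗[B] M)] : Module.Flat A M := by
  rw [Module.Flat.iff_lTensor_preserves_injective_linearMap]
  intro N Q _ _ _ _ f hf
  let fB : M ⊗[A] N →ₗ[B] M ⊗[A] Q := TensorProduct.AlgebraTensorModule.map LinearMap.id f
  have hfB : ∀ x, fB x = f.lTensor M x := by
    intro x
    induction x using TensorProduct.induction_on with
    | zero => simp
    | tmul a b => rfl
    | add a b ha hb => simp [map_add, ha, hb]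
  suffices h : Function.Injective fB from fun a b hab => h (by rw [hfB, hfB]; exact hab)
  rw [← Module.FaithfullyFlat.lTensor_injective_iff_injective B P]
  let eN := TensorProduct.AlgebraTensorModule.assoc A B B P M N
  let eQ := TensorProduct.AlgebraTensorModule.assoc A B B P M Q
  have hcomm : ∀ x, fB.lTensor P (eN x) = eQ (f.lTensor (P ⊗[B] M) x) := by
    intro x
    induction x using TensorProduct.induction_on with
    | zero => simp
    | add a b ha hb => simp [map_add, ha, hb]
    | tmul a n =>
      induction a using TensorProduct.induction_on with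
      | zero => simp
      | add a b ha hb => simp only [TensorProduct.add_tmul, map_add, ha, hb]
      | tmul c m => rfl
  intro a b hab
  obtain ⟨a, rfl⟩ := eN.surjective a
  obtain ⟨b, rfl⟩ := eN.surjective b
  rw [hcomm, hcomm] at hab
  exact congrArg eN (Module.Flat.lTensor_preserves_injective_linearMap f hf (eQ.injective hab))

open scoped TensorProduct in
theorem smul_top_tensor_iff (A B : Type u) [CommRing A] [CommRing B] [Algebra A B] (I : Ideal A)
    (P M : Type u) [AddCommGroup P] [Module A P] [Module B P] [IsScalarTower A B P]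
    [AddCommGroup M] [Module A M] [Module B M] [IsScalarTower A B M] :
    (I • (⊤ : Submodule A M) = ⊤ → I • (⊤ : Submodule A (P ⊗[B] M)) = ⊤) ∧
    (Module.FaithfullyFlat B P → I • (⊤ : Submodule A (P ⊗[B] M)) = ⊤ → I • (⊤ : Submodule A M) = ⊤) := by
  refine ⟨fun h => eq_top_iff.mpr fun z _ => ?_, fun _ h => ?_⟩
  · induction z using TensorProduct.induction_on with
    | zero => exact zero_mem _
    | add a b ha hb => exact add_mem (ha trivial) (hb trivial)
    | tmul p m =>
      have hm : m ∈ I • (⊤ : Submodule A M) := h.symm ▸ Submodule.mem_top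
      refine Submodule.smul_induction_on hm (fun a ha y _ => ?_) fun a b ha hb => by
        rw [TensorProduct.tmul_add]; exact add_mem ha hb
      rw [← algebraMap_smul B a y, ← TensorProduct.smul_tmul, algebraMap_smul, ← TensorProduct.smul_tmul']
      exact Submodule.smul_mem_smul ha trivial
  · let N : Submodule B M :=
      { (I • (⊤ : Submodule A M)).toAddSubmonoid with
        smul_mem' := fun b m hm => by
          refine Submodule.smul_induction_on hm (fun a ha y _ => ?_) fun a c ha hc => by
            rw [smul_add]; exact Submodule.add_mem _ ha hc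
          rw [smul_comm]
          exact Submodule.smul_mem_smul ha trivial }
    by_contra hne
    have : Nontrivial (M ⧸ N) := Submodule.Quotient.nontrivial_iff.mpr fun hN => hne (by
      rw [eq_top_iff]; intro m _
      exact (hN.symm ▸ Submodule.mem_top : m ∈ N))
    refine not_subsingleton_iff_nontrivial.mpr (Module.FaithfullyFlat.lTensor_nontrivial B P (M ⧸ N)) ?_
    refine subsingleton_of_forall_eq 0 fun z => ?_
    obtain ⟨z, rfl⟩ := N.mkQ.lTensor_surjective P (Submodule.mkQ_surjective N) z
    have hz : z ∈ I • (⊤ : Submodule A (P ⊗[B] M)) := h.symm ▸ Submodule.mem_top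
    refine Submodule.smul_induction_on hz (fun a ha y _ => ?_) fun a b ha hb => by
      rw [map_add, ha, hb, add_zero]
    induction y using TensorProduct.induction_on with
    | zero => rw [smul_zero, map_zero]
    | add a b ha hb => rw [smul_add, map_add, ha trivial, hb trivial, add_zero]
    | tmul p m =>
      rw [TensorProduct.smul_tmul', ← algebraMap_smul B a p, TensorProduct.smul_tmul,
        LinearMap.lTensor_tmul, Submodule.mkQ_apply,
        (Submodule.Quotient.mk_eq_zero N).mpr (show algebraMap A B a • m ∈ N by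
          rw [algebraMap_smul]; exact Submodule.smul_mem_smul ha trivial),
        TensorProduct.tmul_zero]

theorem smul_top_equiv {A M N : Type u} [CommRing A] [AddCommGroup M] [AddCommGroup N] [Module A M]
    [Module A N] (e : M ≃ₗ[A] N) (I : Ideal A) :
    I • (⊤ : Submodule A M) = ⊤ ↔ I • (⊤ : Submodule A N) = ⊤ := by
  rw [← (Submodule.map_injective_of_injective e.injective).eq_iff, Submodule.map_smul'',
    Submodule.map_top, e.range]

open scoped TensorProduct in
/-- The conditions relative to `Z` for `P ⊗ q^* G` and for `G`, at a point. -/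
theorem pointwise {X Y Z : Scheme.{u}} (q : X ⟶ Y) (h : Y ⟶ Z) (P : X.Modules) (G : Y.Modules) (x : X) :
    ((FlatMod.IsFlatOverAt q P x ∧ (letI := FlatMod.moduleStalkOver q P x; IsLocalRing.maximalIdeal (Y.presheaf.stalk (q x)) • (⊤ : Submodule (Y.presheaf.stalk (q x)) (P.presheaf.stalk x)) ≠ ⊤)) →
      ((FlatMod.IsFlatOverAt (q ≫ h) (CohB1.tensorMod P ((Scheme.Modules.pullback q).obj G)) x →
          FlatMod.IsFlatOverAt h G (q x)) ∧
      ((letI := FlatMod.moduleStalkOver h G (q x); IsLocalRing.maximalIdeal (Z.presheaf.stalk (h (q x))) • (⊤ : Submodule (Z.presheaf.stalk (h (q x))) (G.presheaf.stalk (q x))) ≠ ⊤) →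
        (letI := FlatMod.moduleStalkOver (q ≫ h) (CohB1.tensorMod P ((Scheme.Modules.pullback q).obj G)) x; IsLocalRing.maximalIdeal (Z.presheaf.stalk ((q ≫ h) x)) • (⊤ : Submodule (Z.presheaf.stalk ((q ≫ h) x)) ((CohB1.tensorMod P ((Scheme.Modules.pullback q).obj G)).presheaf.stalk x)) ≠ ⊤)))) ∧
    ((letI := FlatMod.moduleStalkOver (q ≫ h) (CohB1.tensorMod P ((Scheme.Modules.pullback q).obj G)) x; IsLocalRing.maximalIdeal (Z.presheaf.stalk ((q ≫ h) x)) • (⊤ : Submodule (Z.presheaf.stalk ((q ≫ h) x)) ((CohB1.tensorMod P ((Scheme.Modules.pullback q).obj G)).presheaf.stalk x)) ≠ ⊤) →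
      (letI := FlatMod.moduleStalkOver h G (q x); IsLocalRing.maximalIdeal (Z.presheaf.stalk (h (q x))) • (⊤ : Submodule (Z.presheaf.stalk (h (q x))) (G.presheaf.stalk (q x))) ≠ ⊤)) := by
  let : Algebra (Y.presheaf.stalk (q x)) (X.presheaf.stalk x) := (q.stalkMap x).hom.toAlgebra
  let : Algebra (Z.presheaf.stalk (h (q x))) (Y.presheaf.stalk (q x)) := (h.stalkMap (q x)).hom.toAlgebra
  let : Algebra (Z.presheaf.stalk (h (q x))) (X.presheaf.stalk x) :=
    ((q ≫ h).stalkMap x).hom.toAlgebra
  have : IsScalarTower (Z.presheaf.stalk (h (q x))) (Y.presheaf.stalk (q x)) (X.presheaf.stalk x) :=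
    IsScalarTower.of_algebraMap_eq' (congrArg CommRingCat.Hom.hom (Scheme.Hom.stalkMap_comp q h x))
  let := FlatMod.moduleStalkOver q P x
  let := FlatMod.moduleStalkOver h G (q x)
  let : Module (Z.presheaf.stalk (h (q x))) (P.presheaf.stalk x) := FlatMod.moduleStalkOver (q ≫ h) P x
  have : IsScalarTower (Y.presheaf.stalk (q x)) (X.presheaf.stalk x) (P.presheaf.stalk x) :=
    IsScalarTower.of_algebraMap_smul fun _ _ => rfl
  have : IsScalarTower (Z.presheaf.stalk (h (q x))) (X.presheaf.stalk x) (P.presheaf.stalk x) :=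
    IsScalarTower.of_algebraMap_smul fun _ _ => rfl
  have : IsScalarTower (Z.presheaf.stalk (h (q x))) (Y.presheaf.stalk (q x)) (P.presheaf.stalk x) :=
    IsScalarTower.of_algebraMap_smul fun a m => by
      rw [← algebraMap_smul (X.presheaf.stalk x) (algebraMap (Z.presheaf.stalk (h (q x))) (Y.presheaf.stalk (q x)) a) m,
        ← IsScalarTower.algebraMap_apply]
      exact algebraMap_smul (X.presheaf.stalk x) a m
  have : IsScalarTower (Z.presheaf.stalk (h (q x))) (Y.presheaf.stalk (q x)) (G.presheaf.stalk (q x)) :=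
    IsScalarTower.of_algebraMap_smul fun _ _ => rfl
  obtain ⟨e₀, -⟩ := Groth.Agent.FDesc.Stalk.exists_stalk_equiv q G x
  let e := KFlat.StalkTensor.stalkTensorEquiv P ((Scheme.Modules.pullback q).obj G) x ≪≫ₗ
    TensorProduct.congr (LinearEquiv.refl _ _) e₀.symm ≪≫ₗ
    TensorProduct.AlgebraTensorModule.cancelBaseChange (Y.presheaf.stalk (q x)) (X.presheaf.stalk x)
      (X.presheaf.stalk x) (P.presheaf.stalk x) (G.presheaf.stalk (q x))
  let : Module (Z.presheaf.stalk (h (q x)))
      ((KFlat.StalkTensor.tensM P ((Scheme.Modules.pullback q).obj G)).presheaf.stalk x) :=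
    FlatMod.moduleStalkOver (q ≫ h) _ x
  have : IsScalarTower (Z.presheaf.stalk (h (q x))) (X.presheaf.stalk x)
      ((KFlat.StalkTensor.tensM P ((Scheme.Modules.pullback q).obj G)).presheaf.stalk x) :=
    IsScalarTower.of_algebraMap_smul fun _ _ => rfl
  have htr := (smul_top_equiv (e.restrictScalars (Z.presheaf.stalk (h (q x))))
    (IsLocalRing.maximalIdeal (Z.presheaf.stalk (h (q x)))))
  have hiff := smul_top_tensor_iff (Z.presheaf.stalk (h (q x))) (Y.presheaf.stalk (q x))
    (IsLocalRing.maximalIdeal (Z.presheaf.stalk (h (q x)))) (P.presheaf.stalk x) (G.presheaf.stalk (q x))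
  refine ⟨fun hP => ?_, fun hT hG => hT (htr.mpr (hiff.1 hG))⟩
  have : Module.Flat (Y.presheaf.stalk (q x)) (P.presheaf.stalk x) := hP.1
  have hff : Module.FaithfullyFlat (Y.presheaf.stalk (q x)) (P.presheaf.stalk x) := by
    refine ⟨fun {m} hm htop => ?_⟩
    obtain rfl := IsLocalRing.eq_maximalIdeal hm
    exact hP.2 htop
  refine ⟨fun hT => ?_, fun hG hT => hG (hiff.2 hff (htr.mp hT))⟩
  have : Module.Flat (Z.presheaf.stalk (h (q x)))
      ((KFlat.StalkTensor.tensM P ((Scheme.Modules.pullback q).obj G)).presheaf.stalk x) := hT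
  have := Module.Flat.of_linearEquiv (e.restrictScalars (Z.presheaf.stalk (h (q x)))).symm
  exact flat_of_flat_tensor (Z.presheaf.stalk (h (q x))) (Y.presheaf.stalk (q x)) (P.presheaf.stalk x)
    (G.presheaf.stalk (q x))

/-- Let f : X → Y, g : Y' → Y and h : Y' → Z be morphisms of schemes and X' = X ×_Y Y' with projections
p : X' → X, q : X' → Y'. Call a quasi-coherent module M on a scheme T faithfully flat relative to a
morphism t : T → B when M is flat over B and for every point b of B there is a point u of T over b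
with M_u ⊗ κ(b) ≠ 0. Let F be a quasi-coherent O_X-module which is faithfully flat relative to Y and
G' a quasi-coherent O_{Y'}-module. Then G' is flat over Z if and only if p^*F ⊗ q^*G' is flat over Z
(for q followed by h); and G' is faithfully flat relative to Z if and only if p^*F ⊗ q^*G' is
faithfully flat relative to Z. -/
theorem result {X Y Y' Z : Scheme.{u}} (f : X ⟶ Y) (g : Y' ⟶ Y)
    (h : Y' ⟶ Z) (F : X.Modules) (hF : Coh.IsQCoh F) (hFfl : FlatMod.IsFlatOver f F)
    (hFff : ∀ y : ↥Y, ∃ x : ↥X, f x = y ∧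
      letI := FlatMod.moduleStalkOver f F x
      IsLocalRing.maximalIdeal (Y.presheaf.stalk (f x)) • (⊤ : Submodule (Y.presheaf.stalk (f x)) (F.presheaf.stalk x)) ≠ ⊤)
    (G' : Y'.Modules) (hG' : Coh.IsQCoh G') :
    (FlatMod.IsFlatOver h G' ↔ FlatMod.IsFlatOver (pullback.snd f g ≫ h) (CohB1.tensorMod ((Scheme.Modules.pullback (pullback.fst f g)).obj F) ((Scheme.Modules.pullback (pullback.snd f g)).obj G'))) ∧
    ((FlatMod.IsFlatOver h G' ∧ ∀ z : ↥Z, ∃ y' : ↥Y', h y' = z ∧
        letI := FlatMod.moduleStalkOver h G' y'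
        IsLocalRing.maximalIdeal (Z.presheaf.stalk (h y')) • (⊤ : Submodule (Z.presheaf.stalk (h y')) (G'.presheaf.stalk y')) ≠ ⊤) ↔
      (FlatMod.IsFlatOver (pullback.snd f g ≫ h) (CohB1.tensorMod ((Scheme.Modules.pullback (pullback.fst f g)).obj F) ((Scheme.Modules.pullback (pullback.snd f g)).obj G')) ∧
        ∀ z : ↥Z, ∃ x' : ↥(pullback f g), (pullback.snd f g ≫ h) x' = z ∧
          letI := FlatMod.moduleStalkOver (pullback.snd f g ≫ h) (CohB1.tensorMod ((Scheme.Modules.pullback (pullback.fst f g)).obj F) ((Scheme.Modules.pullback (pullback.snd f g)).obj G')) x'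
          IsLocalRing.maximalIdeal (Z.presheaf.stalk ((pullback.snd f g ≫ h) x')) •
            (⊤ : Submodule (Z.presheaf.stalk ((pullback.snd f g ≫ h) x')) ((CohB1.tensorMod ((Scheme.Modules.pullback (pullback.fst f g)).obj F) ((Scheme.Modules.pullback (pullback.snd f g)).obj G')).presheaf.stalk x')) ≠ ⊤)) := by
  let q := pullback.snd f g
  have hP : ∀ x' : ↥(pullback f g), FlatMod.IsFlatOverAt q ((Scheme.Modules.pullback (pullback.fst f g)).obj F) x' :=
    fun x' => Groth.Agent.FDesc.BaseChangeStalk.flatOverAt_baseChange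
      (IsPullback.of_hasPullback f g) x' F (hFfl _)
  have hPne := Groth.Agent.S4680.exists_baseChange_point f g F hFff
  have hiff : FlatMod.IsFlatOver h G' ↔ FlatMod.IsFlatOver (q ≫ h)
      (CohB1.tensorMod ((Scheme.Modules.pullback (pullback.fst f g)).obj F) ((Scheme.Modules.pullback q).obj G')) := by
    refine ⟨fun hG x' => Groth.Agent.S4678.flatOverAt_tensor q h _ G' x' (hP x') (hG _), fun hT y' => ?_⟩
    obtain ⟨x', rfl, hne⟩ := hPne y'
    exact ((pointwise q h _ G' x').1 ⟨hP x', hne⟩).1 (hT x')
  refine ⟨hiff, and_congr hiff ⟨fun hne z => ?_, fun hne z => ?_⟩⟩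
  · obtain ⟨y', rfl, hy'⟩ := hne z
    obtain ⟨x', rfl, hne'⟩ := hPne y'
    exact ⟨x', rfl, ((pointwise q h _ G' x').1 ⟨hP x', hne'⟩).2 hy'⟩
  · obtain ⟨x', rfl, hx'⟩ := hne z
    exact ⟨q x', rfl, (pointwise q h _ G' x').2 hx'⟩

end Groth.Agent.S4679
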