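import Groth.Statements.S4681
import Mathlib.RingTheory.Flat.FaithfullyFlat.Basic

set_option autoImplicit false
open CategoryTheory AlgebraicGeometry
universe u
open FDesc

namespace Groth.Agent.S4681

theorem flat_of_flat_of_faithfullyFlat (A B M : Type u) [CommRing A] [CommRing B] [Algebra A B]
    [AddCommGroup M] [Module A M] [Module B M] [IsScalarTower A B M]
    [Module.FaithfullyFlat B M] [Module.Flat A M] : Module.Flat A B := by
  rw [Module.Flat.iff_lTensor_preserves_injective_linearMap]
  intro N P _ _ _ _ f hf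
  suffices h : Function.Injective (f.baseChange B) from h
  rw [← Module.FaithfullyFlat.lTensor_injective_iff_injective B M]
  let eN := TensorProduct.AlgebraTensorModule.cancelBaseChange A B B M N
  let eP := TensorProduct.AlgebraTensorModule.cancelBaseChange A B B M P
  have h2 : ∀ z, eP (LinearMap.lTensor M (f.baseChange B) z) = LinearMap.lTensor M f (eN z) := by
    intro z
    induction z using TensorProduct.induction_on with
    | zero => simp
    | add a b ha hb => simp only [map_add, ha, hb]
    | tmul c w =>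
      induction w using TensorProduct.induction_on with
      | zero => simp
      | add a b ha hb => simp only [TensorProduct.tmul_add, map_add, ha, hb]
      | tmul b n => simp [eN, eP]
  intro x y hxy
  apply eN.injective
  apply Module.Flat.lTensor_preserves_injective_linearMap (M := M) f hf
  rw [← h2, ← h2, hxy]

theorem moduleStalk_smul_comp {X Y Z : Scheme.{u}} (f : X ⟶ Y) (g : Y ⟶ Z) (F : X.Modules) (x : X)
    (a : Z.presheaf.stalk (g (f x))) (m : F.presheaf.stalk x) :
    letI := FlatMod.moduleStalkOver f F x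
    letI : Module (Z.presheaf.stalk (g (f x))) (F.presheaf.stalk x) := FlatMod.moduleStalkOver (f ≫ g) F x
    a • m = (g.stalkMap (f x)).hom a • m := by
  change ((f ≫ g).stalkMap x).hom a • m = (f.stalkMap x).hom ((g.stalkMap (f x)).hom a) • m
  rw [Scheme.Hom.stalkMap_comp]
  rfl

/-- Passing from `f` to `f ≫ g` at one point, given that `F` is faithfully flat at the point. -/
theorem pointwise {X Y Z : Scheme.{u}} (f : X ⟶ Y) (g : Y ⟶ Z) (F : X.Modules) (x : X) :
    (FlatMod.IsFlatOverAt f F x → (g.stalkMap (f x)).hom.Flat → FlatMod.IsFlatOverAt (f ≫ g) F x) ∧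
    ((letI := FlatMod.moduleStalkOver f F x
      IsLocalRing.maximalIdeal (Y.presheaf.stalk (f x)) • (⊤ : Submodule (Y.presheaf.stalk (f x)) (F.presheaf.stalk x)) ≠ ⊤) →
      (letI := FlatMod.moduleStalkOver (f ≫ g) F x
      IsLocalRing.maximalIdeal (Z.presheaf.stalk ((f ≫ g) x)) • (⊤ : Submodule (Z.presheaf.stalk ((f ≫ g) x)) (F.presheaf.stalk x)) ≠ ⊤)) ∧
    (FlatMod.IsFlatOverAt f F x → (letI := FlatMod.moduleStalkOver f F x
      IsLocalRing.maximalIdeal (Y.presheaf.stalk (f x)) • (⊤ : Submodule (Y.presheaf.stalk (f x)) (F.presheaf.stalk x)) ≠ ⊤) →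
      FlatMod.IsFlatOverAt (f ≫ g) F x → (g.stalkMap (f x)).hom.Flat) := by
  algebraize [(g.stalkMap (f x)).hom]
  let := FlatMod.moduleStalkOver f F x
  let : Module (Z.presheaf.stalk (g (f x))) (F.presheaf.stalk x) := FlatMod.moduleStalkOver (f ≫ g) F x
  have : IsScalarTower (Z.presheaf.stalk (g (f x))) (Y.presheaf.stalk (f x)) (F.presheaf.stalk x) :=
    IsScalarTower.of_algebraMap_smul fun a m => (moduleStalk_smul_comp f g F x a m).symm
  refine ⟨fun h1 h2 => ?_, fun h1 h2 => ?_, fun h1 h2 h3 => ?_⟩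
  · have : Module.Flat (Y.presheaf.stalk (f x)) (F.presheaf.stalk x) := h1
    have : Module.Flat (Z.presheaf.stalk (g (f x))) (Y.presheaf.stalk (f x)) := h2
    exact Module.Flat.trans (Z.presheaf.stalk (g (f x))) (Y.presheaf.stalk (f x)) (F.presheaf.stalk x)
  · refine h1 (eq_top_iff.mpr fun m _ => ?_)
    have hm : m ∈ IsLocalRing.maximalIdeal (Z.presheaf.stalk (g (f x))) • (⊤ : Submodule (Z.presheaf.stalk (g (f x))) (F.presheaf.stalk x)) := by
      refine (le_of_eq h2.symm : (⊤ : Submodule (Z.presheaf.stalk (g (f x))) (F.presheaf.stalk x)) ≤ _) trivial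
    refine Submodule.smul_induction_on hm (fun a ha y _ => ?_) fun a b ha hb => Submodule.add_mem _ ha hb
    rw [moduleStalk_smul_comp]
    have : IsLocalHom (g.stalkMap (f x)).hom := g.toLRSHom.prop (f x)
    exact Submodule.smul_mem_smul (map_nonunit (g.stalkMap (f x)).hom a ha) trivial
  · have : Module.Flat (Y.presheaf.stalk (f x)) (F.presheaf.stalk x) := h1
    have : Module.Flat (Z.presheaf.stalk (g (f x))) (F.presheaf.stalk x) := h3
    have : Module.FaithfullyFlat (Y.presheaf.stalk (f x)) (F.presheaf.stalk x) := by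
      refine ⟨fun {m} hm htop => ?_⟩
      obtain rfl := IsLocalRing.eq_maximalIdeal hm
      exact h2 htop
    exact flat_of_flat_of_faithfullyFlat _ _ (F.presheaf.stalk x)

/-- Let f : X → Y and g : Y → Z be morphisms of schemes and F a quasi-coherent O_X-module which is
faithfully flat relative to Y: flat over Y, and for every point y of Y there is a point x over y
with F_x ⊗ κ(y) ≠ 0. Then g is flat and surjective (faithfully flat) if and only if F is faithfully
flat relative to Z for the morphism f followed by g: flat over Z, and for every point z of Z there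
is a point x of X over z with F_x ⊗ κ(z) ≠ 0. -/
theorem result {X Y Z : Scheme.{u}} (f : X ⟶ Y) (g : Y ⟶ Z)
    (F : X.Modules) (hF : Coh.IsQCoh F) (hFfl : FlatMod.IsFlatOver f F)
    (hFff : (∀ y : ↥Y, ∃ x : ↥X, f x = y ∧
      letI := FlatMod.moduleStalkOver f F x
      IsLocalRing.maximalIdeal (Y.presheaf.stalk (f x)) • (⊤ : Submodule (Y.presheaf.stalk (f x)) (F.presheaf.stalk x)) ≠ ⊤)) :
    (Flat g ∧ Surjective g) ↔
      (FlatMod.IsFlatOver (f ≫ g) F ∧
        (∀ z : ↥Z, ∃ x : ↥X, (f ≫ g) x = z ∧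
      letI := FlatMod.moduleStalkOver (f ≫ g) F x
      IsLocalRing.maximalIdeal (Z.presheaf.stalk ((f ≫ g) x)) • (⊤ : Submodule (Z.presheaf.stalk ((f ≫ g) x)) (F.presheaf.stalk x)) ≠ ⊤)) := by
  constructor
  · rintro ⟨_, _⟩
    refine ⟨fun x => (pointwise f g F x).1 (hFfl x) (Flat.stalkMap g (f x)), fun z => ?_⟩
    obtain ⟨y, rfl⟩ := g.surjective z
    obtain ⟨x, rfl, hx⟩ := hFff y
    exact ⟨x, rfl, (pointwise f g F x).2.1 hx⟩
  · rintro ⟨hfl, hne⟩
    refine ⟨Flat.of_stalkMap g fun y => ?_, ⟨fun z => ?_⟩⟩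
    · obtain ⟨x, rfl, hx⟩ := hFff y
      exact (pointwise f g F x).2.2 (hFfl x) hx (hfl x)
    · obtain ⟨x, hx, -⟩ := hne z
      exact ⟨f x, hx⟩

end Groth.Agent.S4681
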