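import Groth.Statements.S4682
import Groth.Agent.FBase.BC
import Groth.Agent.RedSub.Basic
-- import your own Groth.Agent.* helpers here

set_option autoImplicit false
open CategoryTheory AlgebraicGeometry
universe u
open FBase

namespace Groth.Agent.S4682

open CategoryTheory.Limits TopologicalSpace Groth.Agent.FBase.BC Groth.Agent.RedSub

/-- Let Y be a scheme over a field K', let K be an extension field of K' which is separable over K'
(Spec K → Spec K' is geometrically reduced), let g : Y ⊗_{K'} K → Y be the projection and T a closed
subset of Y ⊗_{K'} K. Then T is defined over K' as a closed subset, that is T = g⁻¹(T') for some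
closed subset T' of Y, if and only if the reduced closed subscheme of Y ⊗_{K'} K with support T is
defined over K', that is, there is a quasi-coherent ideal sheaf of O_Y whose inverse image in Y
⊗_{K'} K is the vanishing ideal sheaf of T. -/
theorem result {K' K : Type u} [Field K'] [Field K] [Algebra K' K]
    {Y : Scheme.{u}} (fY : Y ⟶ Spec (CommRingCat.of K'))
    [GeometricallyReduced (Spec.map (CommRingCat.ofHom (algebraMap K' K)))]
    (T : TopologicalSpace.Closeds ↥(FBase.bc fY K)) :
    (∃ T' : TopologicalSpace.Closeds ↥Y, (T : Set ↥(FBase.bc fY K)) = ⇑(FBase.bcπ fY K) ⁻¹' (T' : Set ↥Y)) ↔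
      ∃ J : Y.IdealSheafData, J.comap (FBase.bcπ fY K) = Scheme.IdealSheafData.vanishingIdeal T := by
  let g : pullback fY (specMap K' K) ⟶ Y := pullback.fst fY (specMap K' K)
  let T₀ : Closeds ↥(pullback fY (specMap K' K)) := T
  change (∃ T' : Closeds ↥Y, (T₀ : Set ↥(pullback fY (specMap K' K))) = g ⁻¹' (T' : Set ↥Y)) ↔
    ∃ J : Y.IdealSheafData, J.comap g = Scheme.IdealSheafData.vanishingIdeal T₀
  constructor
  · rintro ⟨T', hT⟩
    let J := Scheme.IdealSheafData.vanishingIdeal T'
    refine ⟨J, ?_⟩
    have hgr : GeometricallyReduced (specMap K' K) := ‹_›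
    have : IsReduced (pullback (specMap K' K) (J.subschemeι ≫ fY)) := isReduced_pullback _ _
    have : IsReduced (pullback g J.subschemeι) :=
      isReduced_of_isOpenImmersion ((pullbackSymmetry g J.subschemeι) ≪≫
        pullbackRightPullbackFstIso fY (specMap K' K) J.subschemeι ≪≫
        pullbackSymmetry _ _).hom
    refine ker_eq_vanishingIdeal (pullback.fst g J.subschemeι) T₀ ?_
    rw [Scheme.Pullback.range_fst, range_vanishingIdeal_subschemeι, hT]
  · rintro ⟨J, hJ⟩
    refine ⟨J.support, ?_⟩
    have h := congrArg (fun I : (pullback fY (specMap K' K)).IdealSheafData ↦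
      (I.support : Set ↥(pullback fY (specMap K' K)))) hJ
    simp only [Scheme.IdealSheafData.support_comap, Scheme.IdealSheafData.coe_support_vanishingIdeal,
      Closeds.coe_preimage] at h
    exact h.symm

end Groth.Agent.S4682
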