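import Groth.Statements.S4683
import Groth.Agent.AssSch.Quot
import Groth.Agent.AssSch.Restrict
-- import your own Groth.Agent.* helpers here

set_option autoImplicit false
open CategoryTheory AlgebraicGeometry
universe u
open AssSch

namespace Groth.Agent.S4683

open CategoryTheory.Limits TopologicalSpace Opposite Groth.Agent.QCoh
open Groth.Agent.PullStalk.Sky Groth.Agent.AssSch.Stalk Groth.Agent.AssSch.Basic
open Groth.Agent.AssSch.Quot

/-- Jointly monic morphisms are jointly injective on sections. -/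
lemma eq_zero_of_jointly_mono {X : Scheme.{u}} {M : X.Modules} {ι : Type u} {G : ι → X.Modules}
    (q : ∀ i, M ⟶ G i)
    (hm : ∀ (T : X.Modules) (a b : T ⟶ M), (∀ i, a ≫ q i = b ≫ q i) → a = b)
    {W : X.Opens} (s : Γ(M, W)) (hs : ∀ i, (q i).app W s = 0) : s = 0 := by
  have : Mono (Pi.lift q) := ⟨fun {T} a b h ↦ hm T a b fun i ↦ by
    simpa using congrArg (· ≫ Pi.π G i) h⟩
  apply app_injective_of_mono (Pi.lift q) W
  rw [map_zero]
  refine Concrete.isLimit_ext _ (isLimitOfPreserves (sectionsFunctor X W)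
    (limit.isLimit (Discrete.functor G))) _ _ ?_
  rintro ⟨i⟩
  refine Eq.trans ?_ (map_zero ((sectionsFunctor X W).map (Pi.π G i)).hom).symm
  change (Pi.lift q ≫ Pi.π G i).app W s = 0
  rw [Pi.lift_π]
  exact hs i

variable {X : Scheme.{u}} [IsLocallyNoetherian X] {M : X.Modules}
  {G : ↥(AssSch.Ass M) → X.Modules}

/-- Without embedded points, the kernel of a primary component is the germ-vanishing locus. -/
lemma germ_eq_zero (hM : Coh.IsCoh M) (hne : AssSch.NoEmbedded M) (q : ∀ x, M ⟶ G x)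
    (hG : ∀ x, Coh.IsCoh (G x)) (hA : ∀ x, AssSch.Ass (G x) = {x.1})
    (hm : ∀ (T : X.Modules) (a b : T ⟶ M), (∀ x, a ≫ q x = b ≫ q x) → a = b)
    (x : ↥(AssSch.Ass M)) {U : X.Opens} (hx : x.1 ∈ U) (s : Γ(M, U)) (hs : (q x).app U s = 0) :
    germM M U x.1 hx s = 0 := by
  classical
  have : M.IsQuasicoherent := hM.1
  have hGq : ∀ z, (G z).IsQuasicoherent := fun z ↦ (hG z).1
  obtain ⟨V, hV, hxV, hVU⟩ := exists_isAffineOpen_mem_and_subset hx
  have hVU' : V ≤ U := hVU
  set s' := res M hVU' s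
  have hloc : ∀ z : ↥(AssSch.Ass M), ∃ W : X.Opens, x.1 ∈ W ∧
      ∀ (W' : X.Opens) (h : W' ≤ V), W' ≤ W → res (G z) h ((q z).app V s') = 0 := by
    intro z
    suffices germM (G z) V x.1 hxV ((q z).app V s') = 0 by
      obtain ⟨W, hWV, hxW, hW⟩ := exists_res_eq_zero (G z) x.1 hxV _ this
      exact ⟨W, hxW, fun W' h h' ↦ by rw [← res_res (G z) hWV h', hW, map_zero]⟩
    by_cases hzx : z = x
    · subst hzx
      rw [app_res, hs, map_zero, germM_zero]
    · by_contra h0
      obtain ⟨w, hw, hws⟩ := exists_mem_ass_specializes (G z) (y := x.1)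
        ⟨⟨_, 0, h0⟩⟩
      rw [hA z, Set.mem_singleton_iff] at hw
      exact hzx (Subtype.ext (hne x.1 x.2 z.1 z.2 (hw ▸ hws)).symm)
  choose W hxW hW using hloc
  have hfin := Groth.Agent.AssSch.Restrict.finite_ass_inter M hM hV
  let F : Finset ↥(AssSch.Ass M) := (hfin.preimage Subtype.val_injective.injOn).toFinset
  let W₀ : X.Opens := V ⊓ F.inf W
  have hxW₀ : x.1 ∈ W₀ := ⟨hxV, by
    show x.1 ∈ ((F.inf W : X.Opens) : Set X)
    rw [Opens.coe_finset_inf, Finset.inf_eq_iInf]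
    exact Set.mem_iInter₂.mpr fun z _ ↦ hxW z⟩
  have h0 : res M (inf_le_left : W₀ ≤ V) s' = 0 := by
    refine eq_zero_of_jointly_mono q hm _ fun z ↦ ?_
    rw [app_res]
    by_cases hz : z ∈ F
    · exact hW z _ _ (inf_le_right.trans (Finset.inf_le hz))
    · have : (q z).app V s' = 0 := eq_zero_of_forall_germ_eq_zero (G z) hV _ fun w hw hwA ↦ by
        rw [hA z, Set.mem_singleton_iff] at hwA
        exact absurd ((hfin.preimage Subtype.val_injective.injOn).mem_toFinset.mpr
          (show z.1 ∈ AssSch.Ass M ∩ (V : Set X) from ⟨z.2, hwA ▸ hw⟩)) hz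
      rw [this, map_zero]
  rw [← germM_res M hVU' x.1 hxV s, ← germM_res M inf_le_left x.1 hxW₀ s', h0, germM_zero]

/-- The kernel of one primary component is killed by the other. -/
lemma kernel_comp_eq_zero {G' : ↥(AssSch.Ass M) → X.Modules} (hM : Coh.IsCoh M)
    (hne : AssSch.NoEmbedded M) (q : ∀ x, M ⟶ G x) (q' : ∀ x, M ⟶ G' x)
    (hG : ∀ x, Coh.IsCoh (G x)) (hA : ∀ x, AssSch.Ass (G x) = {x.1})
    (hG' : ∀ x, Coh.IsCoh (G' x)) (hA' : ∀ x, AssSch.Ass (G' x) = {x.1})
    (hm : ∀ (T : X.Modules) (a b : T ⟶ M), (∀ x, a ≫ q x = b ≫ q x) → a = b)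
    (x : ↥(AssSch.Ass M)) : kernel.ι (q x) ≫ q' x = 0 := by
  have : (G' x).IsQuasicoherent := (hG' x).1
  ext U w
  show (q' x).app U ((kernel.ι (q x)).app U w) = 0
  refine eq_zero_of_germ_eq_zero (G' x) _ fun y hy ↦ ?_
  obtain ⟨V, hV, hyV, hVU⟩ := exists_isAffineOpen_mem_and_subset hy
  have hVU' : V ≤ U := hVU
  rw [← germM_res (G' x) hVU' y hyV, ← app_res, ← app_res]
  set t := (kernel.ι (q x)).app V (res _ hVU' w)
  suffices (q' x).app V t = 0 by rw [this, germM_zero]
  refine eq_zero_of_forall_germ_eq_zero (G' x) hV _ fun z hz hzA ↦ ?_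
  rw [hA' x, Set.mem_singleton_iff] at hzA
  subst hzA
  rw [← PullStalk.Exact.stalkLin_germ, germ_eq_zero hM hne q hG hA hm x hz t, map_zero]
  rw [← ConcreteCategory.comp_apply, ← Scheme.Modules.Hom.comp_app, kernel.condition]
  rfl

/-- Let X be a locally Noetherian scheme and M a coherent O_X-module without embedded associated points.
Then M has only one reduced irredundant decomposition: if (q_x : M → G_x) and (q'_x : M → G'_x) are
two families of coherent quotients of M indexed by the associated points x of M, with Ass(G_x) =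
Ass(G'_x) = {x} for every x and each family jointly monomorphic (M embeds in the product), then for
every x there is an isomorphism G_x ≅ G'_x under M (it is unique, q_x being an epimorphism). -/
theorem result {X : Scheme.{u}} [IsLocallyNoetherian X] (M : X.Modules)
    (hM : Coh.IsCoh M) (hne : AssSch.NoEmbedded M)
    (G G' : ↥(AssSch.Ass M) → X.Modules) (q : ∀ x, M ⟶ G x) (q' : ∀ x, M ⟶ G' x)
    (hq : ∀ x, Epi (q x)) (hq' : ∀ x, Epi (q' x)) (hG : ∀ x, Coh.IsCoh (G x)) (hG' : ∀ x, Coh.IsCoh (G' x))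
    (hA : ∀ x, AssSch.Ass (G x) = {x.1}) (hA' : ∀ x, AssSch.Ass (G' x) = {x.1})
    (hm : ∀ (T : X.Modules) (a b : T ⟶ M), (∀ x, a ≫ q x = b ≫ q x) → a = b)
    (hm' : ∀ (T : X.Modules) (a b : T ⟶ M), (∀ x, a ≫ q' x = b ≫ q' x) → a = b) (x : ↥(AssSch.Ass M)) :
    ∃ e : G x ≅ G' x, q x ≫ e.hom = q' x := by
  have h1 := kernel_comp_eq_zero hM hne q q' hG hA hG' hA' hm x
  have h2 := kernel_comp_eq_zero hM hne q' q hG' hA' hG hA hm' x
  have := hq x
  have := hq' x
  refine ⟨⟨Abelian.epiDesc (q x) (q' x) h1, Abelian.epiDesc (q' x) (q x) h2, ?_, ?_⟩,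
    Abelian.comp_epiDesc _ _ h1⟩
  · rw [← cancel_epi (q x), Abelian.comp_epiDesc_assoc, Abelian.comp_epiDesc, Category.comp_id]
  · rw [← cancel_epi (q' x), Abelian.comp_epiDesc_assoc, Abelian.comp_epiDesc, Category.comp_id]

end Groth.Agent.S4683
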