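import Groth.Statements.S4684
import Groth.Agent.FDesc.GenericQuot
import Mathlib.CategoryTheory.Abelian.Basic

set_option autoImplicit false
open CategoryTheory AlgebraicGeometry
universe u
open FDesc
open Groth.Agent

namespace Groth.Agent.S4684

/-- Let Y be an integral locally Noetherian scheme all of whose local rings are regular of dimension at
most one, with generic point η; let f : X → Y be a morphism, i : X_η → X the inclusion of the
generic fibre, F a quasi-coherent O_X-module and π : i^*F → G' a quotient of its restriction to the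
generic fibre, with G' quasi-coherent. Then there exist a quasi-coherent quotient ρ : F → G of F
which is flat over Y and an isomorphism i^*G ≅ G' carrying i^*ρ to π; and any two such quotients are
isomorphic under F. (The published statement takes Y of dimension exactly one and constructs G as
the image of F in i_*G'.) -/
theorem result {X Y : Scheme.{u}} [IsIntegral Y] [IsLocallyNoetherian Y]
    (hY : ∀ y : Y, IsRegularLocalRing (Y.presheaf.stalk y) ∧ ringKrullDim (Y.presheaf.stalk y) ≤ 1)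
    (f : X ⟶ Y) (F : X.Modules) (hF : Coh.IsQCoh F) (G' : (f.fiber (genericPoint Y)).Modules) (hG' : Coh.IsQCoh G')
    (π : (Scheme.Modules.pullback (f.fiberι (genericPoint Y))).obj F ⟶ G') [Epi π] :
    (∃ (G : X.Modules) (ρ : F ⟶ G) (e : (Scheme.Modules.pullback (f.fiberι (genericPoint Y))).obj G ≅ G'),
        Epi ρ ∧ Coh.IsQCoh G ∧ FlatMod.IsFlatOver f G ∧
          (Scheme.Modules.pullback (f.fiberι (genericPoint Y))).map ρ ≫ e.hom = π) ∧
      ∀ (G₁ G₂ : X.Modules) (ρ₁ : F ⟶ G₁) (ρ₂ : F ⟶ G₂)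
        (e₁ : (Scheme.Modules.pullback (f.fiberι (genericPoint Y))).obj G₁ ≅ G')
        (e₂ : (Scheme.Modules.pullback (f.fiberι (genericPoint Y))).obj G₂ ≅ G'),
        Epi ρ₁ → Epi ρ₂ → Coh.IsQCoh G₁ → Coh.IsQCoh G₂ → FlatMod.IsFlatOver f G₁ → FlatMod.IsFlatOver f G₂ →
        (Scheme.Modules.pullback (f.fiberι (genericPoint Y))).map ρ₁ ≫ e₁.hom = π →
        (Scheme.Modules.pullback (f.fiberι (genericPoint Y))).map ρ₂ ≫ e₂.hom = π →
        ∃ e : G₁ ≅ G₂, ρ₁ ≫ e.hom = ρ₂ := by
  let ι := f.fiberι (genericPoint Y)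
  have := hF
  have := hG'
  have : QuasiCompact ι := FDesc.GenericQuot.quasiCompact_fiberι f
  let adj := Scheme.Modules.pullbackPushforwardAdjunction ι
  refine ⟨?_, fun G₁ G₂ ρ₁ ρ₂ e₁ e₂ _ _ hq₁ hq₂ hf₁ hf₂ h₁ h₂ => ?_⟩
  · have : ((Scheme.Modules.pushforward ι).obj G').IsQuasicoherent :=
      QCoh.isQuasicoherent_pushforward ι G'
    let φ := adj.homEquiv F G' π
    let G := Abelian.image φ
    let ρ := Abelian.factorThruImage φ
    let m := Abelian.image.ι φ
    let e0 := (adj.homEquiv G G').symm m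
    have he : (Scheme.Modules.pullback ι).map ρ ≫ e0 = π := by
      rw [← Adjunction.homEquiv_naturality_left_symm, Abelian.image.fac, Equiv.symm_apply_apply]
    have : Epi e0 := by
      have : Epi ((Scheme.Modules.pullback ι).map ρ ≫ e0) := by rw [he]; infer_instance
      exact epi_of_epi ((Scheme.Modules.pullback ι).map ρ) e0
    have : Mono e0 := Omega.Stalks.mono_of_stalk fun w a b hab => by
      have hb := FDesc.GenericQuot.unitStalkHom_bijective ι G w (FDesc.GenericQuot.stalkMap_bijective f w)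
      obtain ⟨a, rfl⟩ := hb.2 a
      obtain ⟨b, rfl⟩ := hb.2 b
      rw [← FDesc.GenericQuot.adj_stalk, ← FDesc.GenericQuot.adj_stalk, Equiv.apply_symm_apply] at hab
      exact congrArg _ (Omega.Stalks.stalkLin_injective_of_mono m _
        ((FDesc.GenericQuot.pushStalk_bijective ι ι.isEmbedding.toIsInducing G' w).1 hab))
    have : IsIso e0 := isIso_of_mono_of_epi e0
    exact ⟨G, ρ, asIso e0, inferInstance, QCoh.isQuasicoherent_image φ,
      FDesc.GenericQuot.isFlatOver_of_mono f hY m, he⟩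
  · have := hq₁
    have := hq₂
    have k₁ : CategoryTheory.Limits.kernel.ι ρ₁ ≫ ρ₂ = 0 :=
      FDesc.GenericQuot.comp_eq_zero f ρ₁ ρ₂ _ (CategoryTheory.Limits.kernel.condition ρ₁) hf₂ e₁ e₂ (h₁.trans h₂.symm)
    have k₂ : CategoryTheory.Limits.kernel.ι ρ₂ ≫ ρ₁ = 0 :=
      FDesc.GenericQuot.comp_eq_zero f ρ₂ ρ₁ _ (CategoryTheory.Limits.kernel.condition ρ₂) hf₁ e₂ e₁ (h₂.trans h₁.symm)
    refine ⟨⟨Abelian.epiDesc ρ₁ ρ₂ k₁, Abelian.epiDesc ρ₂ ρ₁ k₂, ?_, ?_⟩, Abelian.comp_epiDesc _ _ _⟩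
    · rw [← cancel_epi ρ₁, Abelian.comp_epiDesc_assoc, Abelian.comp_epiDesc, Category.comp_id]
    · rw [← cancel_epi ρ₂, Abelian.comp_epiDesc_assoc, Abelian.comp_epiDesc, Category.comp_id]

end Groth.Agent.S4684
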