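import Groth.Statements.S4687
import Groth.Agent.FBase.LenBC
import Groth.Agent.FBase.BC
-- import your own Groth.Agent.* helpers here

set_option autoImplicit false
open CategoryTheory AlgebraicGeometry
universe u
open FBase

namespace Groth.Agent.S4687

/-- Let X be an integral locally Noetherian scheme over a field k, k′ an extension field of k such that
X′ = X ⊗_k k′ is locally Noetherian, and k″ an extension field of k′ which is separable over k′
(Spec k″ → Spec k′ geometrically reduced) and such that (X′)_red ⊗_{k′} k″ is locally Noetherian.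
Then for every maximal point x″ of X″ = X′ ⊗_{k′} k″ (generic point of an irreducible component),
with image x′ in X′, the local rings O_{X″,x″} and O_{X′,x′} have the same length, each as a module
over itself, with values in ℕ∞. -/
theorem result {k k' k'' : Type u} [Field k] [Field k'] [Field k''] [Algebra k k']
    [Algebra k' k''] {X : Scheme.{u}} (f : X ⟶ Spec (CommRingCat.of k)) [IsIntegral X] [IsLocallyNoetherian X]
    [IsLocallyNoetherian (FBase.bc f k')] [GeometricallyReduced (Spec.map (CommRingCat.ofHom (algebraMap k' k'')))]
    [IsLocallyNoetherian (FBase.bc ((FBase.bc f k').nilradical.subschemeι ≫ FBase.bcStr f k') k'')]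
    (x'' : ↥(FBase.bc (FBase.bcStr f k') k'')) (hx'' : ∀ z : ↥(FBase.bc (FBase.bcStr f k') k''), z ⤳ x'' → z = x'') :
    Module.length ((FBase.bc (FBase.bcStr f k') k'').presheaf.stalk x'') ((FBase.bc (FBase.bcStr f k') k'').presheaf.stalk x'') =
      Module.length ((FBase.bc f k').presheaf.stalk (FBase.bcπ (FBase.bcStr f k') k'' x''))
        ((FBase.bc f k').presheaf.stalk (FBase.bcπ (FBase.bcStr f k') k'' x'')) := by
  open Groth.Agent.FBase.LenBC CategoryTheory.Limits in
  let X' := FBase.bc f k'
  let j := redMap (FBase.bcStr f k') k''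
  have hj : Surjective j := MorphismProperty.of_isPullback (P := @Surjective)
    (isPullback_redMap (FBase.bcStr f k') k'').flip ⟨surjective_nilradical_subschemeι⟩
  obtain ⟨z, rfl⟩ := j.surjective x''
  rw [length_bc_eq_mul (FBase.bcStr f k') k'' z hx'']
  have hred : AlgebraicGeometry.IsReduced
      (FBase.bc ((FBase.bc f k').nilradical.subschemeι ≫ FBase.bcStr f k') k'') :=
    have hr := Groth.Agent.FBase.BC.isReduced_pullback
      (Spec.map (CommRingCat.ofHom (algebraMap k' k'')))
      ((FBase.bc f k').nilradical.subschemeι ≫ FBase.bcStr f k')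
    have hiso := (pullbackSymmetry ((FBase.bc f k').nilradical.subschemeι ≫ FBase.bcStr f k')
      (Spec.map (CommRingCat.ofHom (algebraMap k' k'')))).isIso_hom
    @isReduced_of_isOpenImmersion _ _ _ (@IsOpenImmersion.of_isIso _ _ _ hiso) hr
  have hcl : IsClosedImmersion j := MorphismProperty.of_isPullback (P := @IsClosedImmersion)
    (isPullback_redMap (FBase.bcStr f k') k'').flip inferInstance
  have hmax : ∀ v, v ⤳ z → v = z := fun v hv ↦
    j.isEmbedding.injective (hx'' _ (hv.map j.continuous))
  have hm := nilradical_stalk_eq hmax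
  rw [nilradical_eq_zero] at hm
  have hfld := IsLocalRing.isField_iff_maximalIdeal_eq.mpr hm.symm
  let := hfld.toField
  have h1 : Module.length ((FBase.bc ((FBase.bc f k').nilradical.subschemeι ≫
      FBase.bcStr f k') k'').presheaf.stalk z) ((FBase.bc ((FBase.bc f k').nilradical.subschemeι ≫
      FBase.bcStr f k') k'').presheaf.stalk z) = 1 := by
    rw [Module.length_eq_one_iff, isSimpleModule_iff]
    exact ⟨fun p ↦ Ideal.eq_bot_or_top p⟩
  rw [h1, mul_one]

end Groth.Agent.S4687
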