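import Groth.Statements.S4691
import Groth.Agent.EquidimPt.DimSum
-- import your own Groth.Agent.* helpers here

set_option autoImplicit false
universe u
open EGA4

namespace Groth.Agent.S4691

open AlgebraicGeometry CategoryTheory in
/-- Let Y be a locally Noetherian scheme, f : X → Y a morphism locally of finite type and n a natural
number such that every fibre of f has dimension at most n. Then dim X ≤ dim Y + n. -/
theorem result {X Y : Scheme.{u}} (f : X ⟶ Y) [IsLocallyNoetherian Y]
    [LocallyOfFiniteType f] (n : ℕ) (h : ∀ y : Y, topologicalKrullDim (f.fiber y) ≤ n) :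
    topologicalKrullDim X ≤ topologicalKrullDim Y + n := by
  exact Groth.Agent.EquidimPt.topDim_le_add_of_forall f n fun x =>
    (Groth.Agent.EquidimPt.fibreDimAt_le_topDim_fiber f x).trans (h _)

end Groth.Agent.S4691
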