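import Groth.Statements.S4692
import Groth.Agent.EquidimPt.DimSum
-- import your own Groth.Agent.* helpers here

set_option autoImplicit false
universe u
open EGA4

namespace Groth.Agent.S4692

open AlgebraicGeometry CategoryTheory in
/-- Let Y be a locally Noetherian scheme all of whose local rings are universally catenary, X an
irreducible scheme, f : X → Y a morphism locally of finite type and n a natural number. If every
fibre of f has dimension at least n then dim X ≥ dim Y + n; if every fibre has dimension exactly n
then dim X = dim Y + n. (The empty scheme has dimension ⊥, so either hypothesis forces f to be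
surjective.) -/
theorem result {X Y : Scheme.{u}} (f : X ⟶ Y) [IsLocallyNoetherian Y]
    [LocallyOfFiniteType f] [IrreducibleSpace X] (hY : ∀ y : Y, CAlg.IsUniversallyCatenary (Y.presheaf.stalk y))
    (n : ℕ) :
    ((∀ y : Y, (n : WithBot ℕ∞) ≤ topologicalKrullDim (f.fiber y)) →
        topologicalKrullDim Y + n ≤ topologicalKrullDim X) ∧
      ((∀ y : Y, topologicalKrullDim (f.fiber y) = n) →
        topologicalKrullDim X = topologicalKrullDim Y + n) := by
  have key : (∀ y : Y, (n : WithBot ℕ∞) ≤ topologicalKrullDim (f.fiber y)) → ∃ e : ℕ, n ≤ e ∧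
      (∃ y₀ : Y, topologicalKrullDim ↥(f.fiber y₀) = e) ∧ topologicalKrullDim X = topologicalKrullDim Y + e := by
    intro h
    have hsurj : Function.Surjective f.base := fun y => by
      by_contra hy
      haveI : IsEmpty ↥(f.fiber y) :=
        ⟨fun t => hy ⟨f.fiberι y t, (f.range_fiberι y).le (Set.mem_range_self t)⟩⟩
      have h0 := h y
      haveI : IsEmpty (TopologicalSpace.IrreducibleCloseds ↥(f.fiber y)) :=
        ⟨fun C => IsEmpty.false C.isIrreducible'.nonempty.some⟩
      rw [show topologicalKrullDim ↥(f.fiber y) = ⊥ from Order.krullDim_eq_bot] at h0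
      exact absurd (le_bot_iff.mp h0) (WithBot.coe_ne_bot (a := (n : ℕ∞)))
    haveI : Nonempty Y := ⟨f.base (genericPoint X)⟩
    haveI : IrreducibleSpace Y := (irreducibleSpace_def _).mpr (by
      have := (IrreducibleSpace.isIrreducible_univ (X : Type u)).image _ f.continuous.continuousOn
      rwa [Set.image_univ, hsurj.range_eq] at this)
    have hf : DenseRange f.base := hsurj.denseRange
    obtain ⟨e, -, -, hfib⟩ := Groth.Agent.EquidimPt.fibreDimAt_genericPoint_facts f
    rw [Groth.Agent.EquidimPt.apply_genericPoint f hf] at hfib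
    refine ⟨e, ?_, ⟨_, hfib⟩, ?_⟩
    · have h0 := h (genericPoint Y)
      rw [hfib] at h0
      exact_mod_cast h0
    · rw [Groth.Agent.EquidimPt.topDim_eq_iSup_add f hf hY, hfib,
        Groth.Agent.DimIneq.topologicalKrullDim_eq_iSup_stalk Y]
      congr 1
      refine le_antisymm (iSup_le fun y => le_iSup (fun v : Y => ringKrullDim (Y.presheaf.stalk v)) y.1)
        (iSup_le fun y => ?_)
      exact le_iSup (fun v : Set.range f.base => ringKrullDim (Y.presheaf.stalk v.1)) ⟨y, hsurj y⟩
  refine ⟨fun h => ?_, fun h => ?_⟩
  · obtain ⟨e, hne, -, he⟩ := key h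
    rw [he]
    exact add_le_add le_rfl (by exact_mod_cast hne)
  · obtain ⟨e, -, ⟨y₀, hy₀⟩, he⟩ := key fun y => (h y).ge
    rw [h] at hy₀
    rw [he, hy₀]

end Groth.Agent.S4692
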