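import Groth.Statements.S4693
import Groth.Agent.Dim.LocalHom

set_option autoImplicit false
set_option linter.style.haveILetI false
universe u
open EGA4

namespace Groth.Agent.S4693

/-- Let A → B be a local homomorphism of Noetherian local rings such that the closed fibre ring B/m_A B
has Krull dimension 0 (that is, m_A B is an ideal of definition of B). Then dim B ≤ dim A. If
moreover some finite B-module which is flat over A has support equal to all of Spec B (for instance
if B is flat over A), then dim B = dim A. -/
theorem result (A B : Type u) [CommRing A] [CommRing B] [IsNoetherianRing A]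
    [IsNoetherianRing B] [IsLocalRing A] [IsLocalRing B] [Algebra A B] [IsLocalHom (algebraMap A B)]
    (h0 : ringKrullDim (EGA4.FibRing A B) = 0) :
    ringKrullDim B ≤ ringKrullDim A ∧
      (∀ (N : Type u) [AddCommGroup N] [Module B N] [Module A N] [IsScalarTower A B N] [Module.Finite B N]
          [Module.Flat A N], Module.support B N = Set.univ → ringKrullDim B = ringKrullDim A) := by
  have hle : ringKrullDim B ≤ ringKrullDim A := by
    have h := Groth.Agent.Dim.ringKrullDim_le_add_fibre A B
    rwa [show ringKrullDim (B ⧸ (IsLocalRing.maximalIdeal A).map (algebraMap A B)) = 0 from h0, add_zero] at h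
  refine ⟨hle, fun N _ _ _ _ _ _ hsupp => le_antisymm hle ?_⟩
  haveI : Nontrivial N := by
    rw [← Module.nonempty_support_iff (R := B), hsupp]; exact Set.univ_nonempty
  have h := Groth.Agent.Dim.supportDim_tensor_eq_add A B A N
  have hN : Module.supportDim B (TensorProduct A N A) = ringKrullDim B := by
    rw [← Module.supportDim_self_eq_ringKrullDim (R := B)]
    refine Groth.Agent.Dim.supportDim_eq_of_support_eq ?_
    rw [Groth.Agent.Dim.support_tensor A B N A, hsupp]
    ext q
    simp [Module.mem_support_iff_of_finite,
      Module.annihilator_eq_bot.2 (inferInstance : FaithfulSMul A A),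
      Module.annihilator_eq_bot.2 (inferInstance : FaithfulSMul B B)]
  rw [hN, Module.supportDim_self_eq_ringKrullDim] at h
  rw [h]
  haveI : Nontrivial (N ⧸ (IsLocalRing.maximalIdeal A).map (algebraMap A B) • (⊤ : Submodule B N)) := by
    rw [← Module.nonempty_support_iff (R := B), Module.support_quotient, hsupp]
    exact ⟨IsLocalRing.closedPoint B, trivial, IsLocalRing.map_maximalIdeal_le (algebraMap A B)⟩
  refine le_add_of_nonneg_right ?_
  obtain ⟨a, ha⟩ := WithBot.ne_bot_iff_exists.1 (Module.supportDim_ne_bot_of_nontrivial B
    (N ⧸ (IsLocalRing.maximalIdeal A).map (algebraMap A B) • (⊤ : Submodule B N)))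
  rw [← ha]
  exact_mod_cast zero_le

end Groth.Agent.S4693
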