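import Groth.Statements.S4700
import Groth.Agent.EGA4Lib.RegLocus

set_option autoImplicit false
universe u
open EGA4

namespace Groth.Agent.S4700

/-- Let A be a Noetherian ring. Suppose that for every prime p of A such that A_p is regular, the
regular locus of the domain A/p contains a nonempty open subset of Spec(A/p) (equivalently, is a
neighbourhood of the generic point). Then the regular locus of A is open in Spec A. -/
theorem result (A : Type u) [CommRing A] [IsNoetherianRing A]
    (h : ∀ p : PrimeSpectrum A, p ∈ EGA4.regLocus A →
      ∃ U : Set (PrimeSpectrum (A ⧸ p.asIdeal)), IsOpen U ∧ U.Nonempty ∧ U ⊆ EGA4.regLocus (A ⧸ p.asIdeal)) :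
    IsOpen (EGA4.regLocus A) := by
  exact Groth.Agent.EGA4Lib.isOpen_regLocus_of_quotients h

end Groth.Agent.S4700
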