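import Groth.Statements.S4701
import Groth.Agent.EGA4Lib.RegLocus

set_option autoImplicit false
universe u
open EGA4

namespace Groth.Agent.S4701

/-- Let A be a Noetherian ring. The regular locus of every quotient ring A/I is open in its spectrum if
and only if, for every prime ideal p, the regular locus of the domain A/p contains a nonempty open
subset of Spec(A/p). (The published statement quantifies over all subschemes of Spec A; open
subschemes of the closed ones add nothing, so closed subschemes are used here.) -/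
theorem result (A : Type u) [CommRing A] [IsNoetherianRing A] :
    (∀ I : Ideal A, IsOpen (EGA4.regLocus (A ⧸ I))) ↔
      ∀ (p : Ideal A) [p.IsPrime],
        ∃ U : Set (PrimeSpectrum (A ⧸ p)), IsOpen U ∧ U.Nonempty ∧ U ⊆ EGA4.regLocus (A ⧸ p) := by
  constructor
  · intro h p hp
    exact ⟨EGA4.regLocus (A ⧸ p), h p, ⟨_, Groth.Agent.EGA4Lib.bot_mem_regLocus (A ⧸ p)⟩, le_rfl⟩
  · intro h I
    refine Groth.Agent.EGA4Lib.isOpen_regLocus_of_quotients fun P _ => ?_
    obtain ⟨U, hU, hne, hUreg⟩ := h (P.asIdeal.comap (Ideal.Quotient.mk I))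
    let e : A ⧸ P.asIdeal.comap (Ideal.Quotient.mk I) ≃+* (A ⧸ I) ⧸ P.asIdeal :=
      (RingHom.quotientKerEquivOfSurjective (f := (Ideal.Quotient.mk P.asIdeal).comp (Ideal.Quotient.mk I))
        (Ideal.Quotient.mk_surjective.comp Ideal.Quotient.mk_surjective)) |>
        ((Ideal.quotEquivOfEq (by rw [← RingHom.comap_ker, Ideal.mk_ker])).trans)
    refine ⟨PrimeSpectrum.comap e.toRingHom ⁻¹' U, hU.preimage (PrimeSpectrum.continuous_comap _), ?_, ?_⟩
    · obtain ⟨x, hx⟩ := hne
      refine ⟨PrimeSpectrum.comap e.symm.toRingHom x, ?_⟩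
      show PrimeSpectrum.comap e.toRingHom (PrimeSpectrum.comap e.symm.toRingHom x) ∈ U
      rw [← PrimeSpectrum.comap_comp_apply]
      simpa using hx
    · intro x hx
      exact (Groth.Agent.EGA4Lib.mem_regLocus_of_ringEquiv e x).1 (hUreg hx)

end Groth.Agent.S4701
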