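import Groth.Statements.S4703
import Groth.Agent.EGA4Lib.FiniteDomains

set_option autoImplicit false
universe u
open EGA4

namespace Groth.Agent.S4703

open TensorProduct in
/-- For the property 'geometrically regular', case of a local ring: let A be a Noetherian local ring
with completion Â. Then the formal fibres of A are geometrically regular (the completion map A → Â
is a regular homomorphism) if and only if, for every finite A-algebra B which is a domain and every
prime ideal q of B ⊗_A Â whose contraction to B is zero, the local ring of B ⊗_A Â at q is regular.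
(The published statement is for semi-local rings; this row takes A local.) -/
theorem result (A : Type u) [CommRing A] [IsNoetherianRing A] [IsLocalRing A] :
    CAlg.IsRegularHom A (EGA4.Cpl A) ↔
      ∀ (B : Type u) [CommRing B] [IsDomain B] [Algebra A B] [Module.Finite A B]
        (q : Ideal (B ⊗[A] EGA4.Cpl A)) [q.IsPrime],
        q.comap (algebraMap B (B ⊗[A] EGA4.Cpl A)) = ⊥ → IsRegularLocalRing (Localization.AtPrime q) := by
  haveI : IsNoetherianRing (EGA4.Cpl A) := RegLoc.Completion.isNoetherianRing_adicCompletion' _
  refine ⟨fun h B _ _ _ _ q _ hq => ?_, fun h => ⟨inferInstanceAs (Module.Flat A (AdicCompletion _ A)), fun p _ =>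
    ⟨EGA4Lib.forall_isCohenMacaulayRing_fiber_iff.isNoetherianRing_fiber A p, ?_⟩⟩⟩
  · obtain ⟨p, hp, _, _, hfin⟩ := EGA4Lib.exists_residue_algebra (A := A) (B := B)
    haveI := (h.2 p).2 (FractionRing B) hfin
    haveI : IsRegularRing (FractionRing B ⊗[A] EGA4.Cpl A) := IsRegularRing.of_ringEquiv
      (Algebra.TensorProduct.cancelBaseChange A p.ResidueField (FractionRing B) (FractionRing B)
        (EGA4.Cpl A)).toRingEquiv
    obtain ⟨Q, hQ, ⟨e⟩⟩ := (EGA4Lib.forall_prime_generic (A := A) (B := B) (K := FractionRing B)
      (C := EGA4.Cpl A)).2 q hq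
    haveI := IsRegularRing.isRegularLocalRing_localization Q
    exact IsRegularLocalRing.of_ringEquiv (R := Localization.AtPrime Q) e.symm
  · intro K _ _ hfin
    letI : Algebra A K := ((algebraMap p.ResidueField K).comp (algebraMap A p.ResidueField)).toAlgebra
    haveI : IsScalarTower A p.ResidueField K := IsScalarTower.of_algebraMap_eq fun _ => rfl
    haveI := hfin
    obtain ⟨B, hB, hfrac⟩ := EGA4Lib.exists_finite_domain p K
    haveI : IsNoetherianRing (K ⊗[A] EGA4.Cpl A) := by
      haveI : IsNoetherianRing (p.Fiber (EGA4.Cpl A)) :=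
        EGA4Lib.forall_isCohenMacaulayRing_fiber_iff.isNoetherianRing_fiber A p
      haveI := Algebra.FiniteType.isNoetherianRing (p.Fiber (EGA4.Cpl A))
        (p.Fiber (EGA4.Cpl A) ⊗[p.ResidueField] K)
      exact isNoetherianRing_of_ringEquiv _
        ((Algebra.TensorProduct.comm p.ResidueField (p.Fiber (EGA4.Cpl A)) K).toRingEquiv.trans
          (Algebra.TensorProduct.cancelBaseChange A p.ResidueField K K (EGA4.Cpl A)).toRingEquiv)
    haveI : IsRegularRing (K ⊗[A] EGA4.Cpl A) := isRegularRing_iff.mpr fun Q hQ => by
      obtain ⟨q, hq, hq0, ⟨e⟩⟩ := (EGA4Lib.forall_prime_generic (A := A) (B := B) (K := K)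
        (C := EGA4.Cpl A)).1 Q
      haveI := h B q hq0
      exact IsRegularLocalRing.of_ringEquiv (R := Localization.AtPrime q) e
    exact IsRegularRing.of_ringEquiv
      (Algebra.TensorProduct.cancelBaseChange A p.ResidueField K K (EGA4.Cpl A)).symm.toRingEquiv

end Groth.Agent.S4703
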