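import Groth.Statements.S4707
import Groth.Agent.GeomFieldLib.ICBaseChange
import Groth.Agent.GeomFieldLib.NormalBC

set_option autoImplicit false
universe u
open EGA4 TensorProduct

namespace Groth.Agent.S4707

open TensorProduct in
/-- Let A be a Noetherian ring and A' a Noetherian A-algebra such that A → A' is a normal homomorphism
(flat, with geometrically normal fibres). Let B → C be a homomorphism of A-algebras and D the
integral closure of B in C. Then the integral closure in A' ⊗_A C of the image of A' ⊗_A B is the
image of A' ⊗_A D. (No finiteness is assumed on B or C.) -/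
theorem result (A A' : Type u) [CommRing A] [CommRing A']
    [IsNoetherianRing A] [IsNoetherianRing A'] [Algebra A A'] (h : EGA4.IsNormalHom A A')
    (B C : Type u) [CommRing B] [CommRing C] [Algebra A B] [Algebra A C] [Algebra B C] [IsScalarTower A B C] :
    (integralClosure
          ↥(Algebra.TensorProduct.map (AlgHom.id A' A') (IsScalarTower.toAlgHom A B C)).range (A' ⊗[A] C) :
        Set (A' ⊗[A] C)) =
      Set.range (Algebra.TensorProduct.map (AlgHom.id A' A')
        ((integralClosure B C).val.restrictScalars A)) := by
  haveI := h.1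
  set φ := Algebra.TensorProduct.map (AlgHom.id A' A') (IsScalarTower.toAlgHom A B C)
  set ψ := Algebra.TensorProduct.map (AlgHom.id A' A') ((integralClosure B C).val.restrictScalars A)
  apply Set.eq_of_subset_of_subset
  · intro x hx
    obtain ⟨p, hp, hpx⟩ := hx
    obtain ⟨q, hq, -, hqm⟩ := Polynomial.lifts_and_natDegree_eq_and_monic
      (f := (φ.rangeRestrict).toRingHom) (p := p)
      ((Polynomial.lifts_iff_coeff_lifts _).2 fun i => φ.rangeRestrict_surjective (p.coeff i)) hp
    let σ := Algebra.TensorProduct.comm A A' C
    let τ := Algebra.TensorProduct.comm A B A'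
    obtain ⟨u, hu⟩ := GeomFieldLib.mem_tensorImage_of_integral_general (GeomFieldLib.isReduced_field_tensor h)
      (B := B) (σ x) (by
        refine ⟨q.map τ.symm.toAlgHom.toRingHom, hqm.map _, ?_⟩
        rw [Polynomial.eval₂_map]
        have hc : (Algebra.TensorProduct.map (IsScalarTower.toAlgHom A B C) (AlgHom.id A A')).toRingHom.comp
            τ.symm.toAlgHom.toRingHom = σ.toAlgHom.toRingHom.comp φ.toRingHom := by
          refine RingHom.ext fun u => ?_
          induction u using TensorProduct.induction_on with
          | zero => simp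
          | tmul a c => rfl
          | add a c ha hc => simp only [map_add, ha, hc]
        rw [hc]
        have h1 : Polynomial.eval₂ φ.toRingHom x q = 0 := by
          rw [show φ.toRingHom = (algebraMap φ.range (A' ⊗[A] C)).comp φ.rangeRestrict.toRingHom from rfl,
            ← Polynomial.eval₂_map, hq]
          exact hpx
        have := congrArg σ.toAlgHom.toRingHom h1
        rwa [map_zero, Polynomial.hom_eval₂] at this)
    refine ⟨Algebra.TensorProduct.comm A (integralClosure B C) A' u, ?_⟩
    apply σ.injective
    rw [← hu]
    clear hu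
    induction u using TensorProduct.induction_on with
    | zero => simp
    | tmul a c => rfl
    | add a c ha hc => simp only [map_add, ha, hc]
  · rintro _ ⟨y, rfl⟩
    induction y using TensorProduct.induction_on with
    | zero => rw [map_zero]; exact zero_mem _
    | tmul a d =>
      obtain ⟨p, hp, hpd⟩ := d.2
      have h1 : IsIntegral φ.range ((1 : A') ⊗ₜ[A] (d : C)) := by
        refine ⟨p.map (φ.rangeRestrict.toRingHom.comp (Algebra.TensorProduct.includeRight : B →ₐ[A] A' ⊗[A] B).toRingHom),
          hp.map _, ?_⟩
        rw [Polynomial.eval₂_map, show (algebraMap φ.range (A' ⊗[A] C)).comp (φ.rangeRestrict.toRingHom.comp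
          (Algebra.TensorProduct.includeRight : B →ₐ[A] A' ⊗[A] B).toRingHom) =
          (Algebra.TensorProduct.includeRight : C →ₐ[A] A' ⊗[A] C).toRingHom.comp (algebraMap B C) from
          RingHom.ext fun b => rfl]
        have := congrArg (Algebra.TensorProduct.includeRight : C →ₐ[A] A' ⊗[A] C).toRingHom hpd
        rwa [map_zero, Polynomial.hom_eval₂] at this
      have h2 : a ⊗ₜ[A] (1 : C) ∈ integralClosure φ.range (A' ⊗[A] C) :=
        (integralClosure φ.range (A' ⊗[A] C)).algebraMap_mem ⟨_, a ⊗ₜ (1 : B), by
          show a ⊗ₜ[A] algebraMap B C 1 = a ⊗ₜ[A] (1 : C)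
          rw [map_one]⟩
      rw [show ψ (a ⊗ₜ d) = a ⊗ₜ[A] (1 : C) * ((1 : A') ⊗ₜ[A] (d : C)) by
        rw [Algebra.TensorProduct.tmul_mul_tmul, mul_one, one_mul]; rfl]
      exact mul_mem h2 h1
    | add a c ha hc => rw [map_add]; exact add_mem ha hc

end Groth.Agent.S4707
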