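import Groth.Statements.S4708
import Groth.Agent.EGA4Lib.RegularHomComplete
import Groth.Agent.EGA4Lib.CplClosedFibre
import Groth.Agent.EGA4Lib.CplResidue
import Groth.Agent.EGA4Lib.Fibers
import Groth.Agent.S9294
import Groth.Agent.S9295

set_option autoImplicit false
universe u
open EGA4

namespace Groth.Agent.S4708

/-- Let A → B be a local homomorphism of Noetherian local rings making B a flat A-module, such that the
residue field of B is a finite extension of the residue field k of A, and such that the formal
fibres of A are geometrically regular (the completion map A → Â is regular). If the k-algebra k ⊗_A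
B̂, where B̂ is the completion of B, is geometrically regular over k, then every fibre of A → B is
geometrically regular, that is, A → B is a regular homomorphism. -/
theorem result (A B : Type u) [CommRing A] [CommRing B]
    [IsNoetherianRing A] [IsNoetherianRing B] [IsLocalRing A] [IsLocalRing B] [Algebra A B]
    [IsLocalHom (algebraMap A B)] [Module.Flat A B]
    [Module.Finite (IsLocalRing.ResidueField A) (IsLocalRing.ResidueField B)]
    (hA : CAlg.IsRegularHom A (EGA4.Cpl A))
    (h : CAlg.IsGeometricallyRegular (IsLocalRing.maximalIdeal A).ResidueField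
      ((IsLocalRing.maximalIdeal A).Fiber (EGA4.Cpl B))) :
    CAlg.IsRegularHom A B := by
  obtain ⟨_, _, _⟩ := EGA4Lib.exists_algebra_cpl A B
  haveI : IsNoetherianRing (EGA4.Cpl A) := RegLoc.Completion.isNoetherianRing_adicCompletion' _
  haveI : IsNoetherianRing (EGA4.Cpl B) := RegLoc.Completion.isNoetherianRing_adicCompletion' _
  haveI : Module.Flat (EGA4.Cpl A) (EGA4.Cpl B) := EGA4Lib.flat_cpl A B
  haveI : IsAdicComplete (IsLocalRing.maximalIdeal (EGA4.Cpl A)) (EGA4.Cpl A) :=
    inferInstanceAs (IsAdicComplete (IsLocalRing.maximalIdeal (AdicCompletion (IsLocalRing.maximalIdeal A) A))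
      (AdicCompletion (IsLocalRing.maximalIdeal A) A))
  haveI : IsAdicComplete (IsLocalRing.maximalIdeal (EGA4.Cpl B)) (EGA4.Cpl B) :=
    inferInstanceAs (IsAdicComplete (IsLocalRing.maximalIdeal (AdicCompletion (IsLocalRing.maximalIdeal B) B))
      (AdicCompletion (IsLocalRing.maximalIdeal B) B))
  haveI := EGA4Lib.finite_residueField_cpl A B
  have h1 : CAlg.IsRegularHom (EGA4.Cpl A) (EGA4.Cpl B) :=
    EGA4Lib.isRegularHom_of_isAdicComplete _ _ (EGA4Lib.isGeometricallyRegular_closedFibre_cpl A _ h)
  have h2 : CAlg.IsRegularHom A (EGA4.Cpl B) := Groth.Agent.S9294.result A (EGA4.Cpl A) (EGA4.Cpl B) hA h1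
    fun p _ => EGA4Lib.forall_isCohenMacaulayRing_fiber_iff.isNoetherianRing_fiber A p
  haveI : Module.FaithfullyFlat B (EGA4.Cpl B) :=
    Module.FaithfullyFlat.of_flat_of_isLocalHom (A := B) (B := AdicCompletion (IsLocalRing.maximalIdeal B) B)
  exact Groth.Agent.S9295.result A B (EGA4.Cpl B) h2 PrimeSpectrum.comap_surjective_of_faithfullyFlat

end Groth.Agent.S4708
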