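import Groth.Statements.S4715
import Groth.Agent.Dim.Topology
import Mathlib.AlgebraicGeometry.Morphisms.QuasiFinite

set_option autoImplicit false
universe u
open EGA4

namespace Groth.Agent.S4715

open AlgebraicGeometry CategoryTheory in
/-- Let f : X → Y be a quasi-finite morphism (of finite type with discrete fibres) of locally Noetherian
schemes. Then dim X is at most the dimension of the closure of f(X), which is at most dim Y. -/
theorem result {X Y : Scheme.{u}} (f : X ⟶ Y) [IsLocallyNoetherian X] [IsLocallyNoetherian Y]
    [LocallyQuasiFinite f] [LocallyOfFiniteType f] [QuasiCompact f] :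
    topologicalKrullDim X ≤ topologicalKrullDim (closure (Set.range f.base)) ∧
      topologicalKrullDim (closure (Set.range f.base)) ≤ topologicalKrullDim Y := by
  refine ⟨Groth.Agent.Dim.topologicalKrullDim_le_subspace f.base f.base.hom.continuous _
    (fun x => subset_closure ⟨x, rfl⟩) fun x x' h he => ?_, topologicalKrullDim_subspace_le _ _⟩
  exact Groth.Agent.Dim.eq_of_specializes_of_isDiscrete (f.isDiscrete_preimage_singleton (f.base x')) he rfl h

end Groth.Agent.S4715
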