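import Groth.Statements.S4718
import Groth.Agent.EGA4Lib.FiniteRestrict

set_option autoImplicit false
universe u
open EGA4

namespace Groth.Agent.S4718

/-- Let A be a Noetherian local ring, B a Noetherian ring, A → B a ring homomorphism and M a nonzero
B-module which is finite as an A-module. Then M is a Cohen–Macaulay A-module if and only if, for all
primes q of B lying over the maximal ideal of A and belonging to the support of M, the B_q-module
M_q is Cohen–Macaulay and all these modules M_q have the same dimension. -/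
theorem result (A B : Type u) [CommRing A] [CommRing B]
    [IsNoetherianRing A] [IsLocalRing A] [IsNoetherianRing B] [Algebra A B]
    (M : Type u) [AddCommGroup M] [Module B M] [Module A M] [IsScalarTower A B M] [Module.Finite A M]
    [Nontrivial M] :
    LocCoh.IsCohenMacaulayModule A M ↔
      (∀ q ∈ {q : PrimeSpectrum B | q.asIdeal.comap (algebraMap A B) = IsLocalRing.maximalIdeal A ∧
          q ∈ Module.support B M},
        LocCoh.IsCohenMacaulayModule (Localization.AtPrime q.asIdeal) (LocalizedModule q.asIdeal.primeCompl M)) ∧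
      (∀ q ∈ {q : PrimeSpectrum B | q.asIdeal.comap (algebraMap A B) = IsLocalRing.maximalIdeal A ∧
          q ∈ Module.support B M},
        ∀ q' ∈ {q : PrimeSpectrum B | q.asIdeal.comap (algebraMap A B) = IsLocalRing.maximalIdeal A ∧
          q ∈ Module.support B M},
          Module.supportDim (Localization.AtPrime q.asIdeal) (LocalizedModule q.asIdeal.primeCompl M) =
            Module.supportDim (Localization.AtPrime q'.asIdeal) (LocalizedModule q'.asIdeal.primeCompl M)) := by
  haveI : Module.Finite B M := Module.Finite.of_restrictScalars_finite A B M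
  obtain ⟨a1, a2⟩ := Groth.Agent.EGA4Lib.depth_supportDim_atMaximal (R := A) M
  obtain ⟨hs, hd⟩ := Groth.Agent.EGA4Lib.FiniteRestrict.supportDim_depth A B M (IsLocalRing.maximalIdeal A)
  rw [a2] at hs
  rw [a1] at hd
  change _ = (⨆ q ∈ {q : PrimeSpectrum B | q.asIdeal.comap (algebraMap A B) = IsLocalRing.maximalIdeal A ∧
    q ∈ Module.support B M}, _) at hs
  change _ = (⨅ q ∈ {q : PrimeSpectrum B | q.asIdeal.comap (algebraMap A B) = IsLocalRing.maximalIdeal A ∧
    q ∈ Module.support B M}, _) at hd
  set s := {q : PrimeSpectrum B | q.asIdeal.comap (algebraMap A B) = IsLocalRing.maximalIdeal A ∧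
    q ∈ Module.support B M} with hsdef
  have hle : ∀ q ∈ s, ((LocCoh.depth (Localization.AtPrime q.asIdeal)
      (LocalizedModule q.asIdeal.primeCompl M) : ℕ∞) : WithBot ℕ∞) ≤
      Module.supportDim (Localization.AtPrime q.asIdeal) (LocalizedModule q.asIdeal.primeCompl M) := by
    intro q hq
    haveI : Nontrivial (LocalizedModule q.asIdeal.primeCompl M) := hq.2
    exact Groth.Agent.Depth.depth_le_supportDim
  unfold LocCoh.IsCohenMacaulayModule
  constructor
  · intro h
    rw [hs, hd] at h
    have key : ∀ q ∈ s, Module.supportDim (Localization.AtPrime q.asIdeal) (LocalizedModule q.asIdeal.primeCompl M) =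
        ((⨅ q ∈ s, LocCoh.depth (Localization.AtPrime q.asIdeal) (LocalizedModule q.asIdeal.primeCompl M) : ℕ∞) :
          WithBot ℕ∞) := fun q hq =>
      le_antisymm (h ▸ le_iSup₂ (f := fun (x : PrimeSpectrum B) (_ : x ∈ s) =>
          Module.supportDim (Localization.AtPrime x.asIdeal) (LocalizedModule x.asIdeal.primeCompl M)) q hq)
        ((WithBot.coe_le_coe.2 (iInf₂_le q hq)).trans (hle q hq))
    refine ⟨fun q hq => le_antisymm ?_ (hle q hq), fun q hq q' hq' => (key q hq).trans (key q' hq').symm⟩
    rw [key q hq]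
    exact WithBot.coe_le_coe.2 (iInf₂_le q hq)
  · rintro ⟨hcm, heq⟩
    obtain ⟨q₀, hq₀⟩ : s.Nonempty := by
      by_contra hne
      refine Module.supportDim_ne_bot_of_nontrivial A M (le_bot_iff.1 ?_)
      rw [hs]
      exact iSup₂_le fun q hq => (hne ⟨q, hq⟩).elim
    rw [hs, hd]
    have hcm₀ := hcm q₀ hq₀
    refine le_antisymm (iSup₂_le fun q hq => ?_) ?_
    · rw [heq q hq q₀ hq₀, hcm₀, WithBot.coe_le_coe]
      refine le_iInf₂ fun q' hq' => WithBot.coe_le_coe.1 ?_
      rw [← hcm₀, heq q₀ hq₀ q' hq', hcm q' hq']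
    · refine le_trans ?_ (le_iSup₂_of_le q₀ hq₀ hcm₀.ge)
      exact WithBot.coe_le_coe.2 (iInf₂_le q₀ hq₀)

end Groth.Agent.S4718
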