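import Groth.Statements.S4719
import Groth.Agent.EGA4Lib.FiniteRestrict

set_option autoImplicit false
universe u
open EGA4

namespace Groth.Agent.S4719

/-- Let A → B be a homomorphism of Noetherian rings and M a B-module which is finite as an A-module. (i)
If M satisfies (S_k) as an A-module, it satisfies (S_k) as a B-module. (ii) If for every two primes
q, q' of B in the support of M having the same contraction to A the modules M_q and M_{q'} have the
same dimension, then (S_k) for M as a B-module implies (S_k) for M as an A-module. (The published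
statement asks the equal-dimension condition for all pairs of primes of B with the same contraction;
this row asks it only for primes in the support of M, which is all its proof uses.) -/
theorem result (k : ℕ) (A B : Type u) [CommRing A] [CommRing B] [IsNoetherianRing A]
    [IsNoetherianRing B] [Algebra A B] (M : Type u) [AddCommGroup M] [Module B M] [Module A M]
    [IsScalarTower A B M] [Module.Finite A M] :
    (LocCoh.HasSk k A M → LocCoh.HasSk k B M) ∧
      ((∀ q ∈ Module.support B M, ∀ q' ∈ Module.support B M,
          q.asIdeal.comap (algebraMap A B) = q'.asIdeal.comap (algebraMap A B) →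
            Module.supportDim (Localization.AtPrime q.asIdeal) (LocalizedModule q.asIdeal.primeCompl M) =
              Module.supportDim (Localization.AtPrime q'.asIdeal) (LocalizedModule q'.asIdeal.primeCompl M)) →
        LocCoh.HasSk k B M → LocCoh.HasSk k A M) := by
  haveI : Module.Finite B M := Module.Finite.of_restrictScalars_finite A B M
  constructor
  · intro h q _
    by_cases hq : (⟨q, inferInstance⟩ : PrimeSpectrum B) ∈ Module.support B M
    · obtain ⟨hs, hd⟩ := Groth.Agent.EGA4Lib.FiniteRestrict.supportDim_depth A B M (q.comap (algebraMap A B))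
      have := h (q.comap (algebraMap A B))
      rw [hs, hd] at this
      have h1 := le_trans (min_le_min le_rfl
        (le_iSup₂_of_le (f := fun (x : PrimeSpectrum B) _ =>
          Module.supportDim (Localization.AtPrime x.asIdeal) (LocalizedModule x.asIdeal.primeCompl M))
          ⟨q, inferInstance⟩ ⟨rfl, hq⟩ le_rfl)) this
      exact h1.trans (WithBot.coe_le_coe.2 (iInf₂_le (⟨q, inferInstance⟩ : PrimeSpectrum B) ⟨rfl, hq⟩))
    · haveI : Subsingleton (LocalizedModule q.primeCompl M) := Module.notMem_support_iff.1 hq
      rw [Module.supportDim_eq_bot_of_subsingleton, min_bot_right]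
      exact bot_le
  · intro heq h p _
    obtain ⟨hs, hd⟩ := Groth.Agent.EGA4Lib.FiniteRestrict.supportDim_depth A B M p
    rw [hs, hd]
    by_cases hne : (Groth.Agent.EGA4Lib.FiniteRestrict.over A B M p).Nonempty
    · obtain ⟨q₀, hq₀⟩ := hne
      haveI : Nontrivial (LocalizedModule q₀.asIdeal.primeCompl M) := hq₀.2
      obtain ⟨d, hd₀⟩ := WithBot.ne_bot_iff_exists.1
        (Module.supportDim_ne_bot_of_nontrivial (Localization.AtPrime q₀.asIdeal)
          (LocalizedModule q₀.asIdeal.primeCompl M))
      refine le_trans (min_le_min le_rfl (iSup₂_le fun q hq =>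
        (le_of_eq ((heq q hq.2 q₀ hq₀.2 (hq.1.trans hq₀.1.symm)).trans hd₀.symm)))) ?_
      rw [show ((k : WithBot ℕ∞)) = (((k : ℕ∞)) : WithBot ℕ∞) from rfl, ← WithBot.coe_min, WithBot.coe_le_coe]
      refine le_iInf₂ fun q hq => WithBot.coe_le_coe.1 ?_
      rw [WithBot.coe_min]
      refine le_trans (min_le_min le_rfl (le_of_eq ?_)) (h q.asIdeal)
      exact hd₀.trans (heq q₀ hq₀.2 q hq.2 (hq₀.1.trans hq.1.symm))
    · refine le_trans (min_le_right _ _) (le_trans (iSup₂_le fun q hq => (hne ⟨q, hq⟩).elim) bot_le)

end Groth.Agent.S4719
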