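import Groth.Statements.S4721
import Groth.Agent.LocCoh.Connected
import Groth.Agent.Depth.CM

set_option autoImplicit false
universe u
open EGA4

namespace Groth.Agent.S4721

open Groth.Agent

variable {A : Type u} [CommRing A] [IsNoetherianRing A]

theorem not_two_le_depth_minimal (p : Ideal A) (hp : p ∈ minimalPrimes A) :
    haveI : p.IsPrime := hp.1.1
    ¬ (2 : ℕ∞) ≤ _root_.LocCoh.depth (Localization.AtPrime p) (Localization.AtPrime p) := by
  haveI : p.IsPrime := hp.1.1
  intro h
  have h1 : ((_root_.LocCoh.depth (Localization.AtPrime p) (Localization.AtPrime p) : ℕ∞) : WithBot ℕ∞) ≤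
      ringKrullDim (Localization.AtPrime p) :=
    Depth.depth_le_supportDim.trans (Module.supportDim_le_ringKrullDim _ _)
  rw [IsLocalization.AtPrime.ringKrullDim_eq_height p, Ideal.height_eq_zero_iff.2 hp] at h1
  exact absurd (le_trans h (WithBot.coe_le_coe.1 h1)) (by norm_num)

theorem exists_fin_chain [ConnectedSpace (PrimeSpectrum A)] (d : ℕ) (hd : 1 ≤ d)
    (h : ∀ (p : Ideal A) [p.IsPrime], (d : ℕ∞) ≤ p.height →
      (2 : ℕ∞) ≤ _root_.LocCoh.depth (Localization.AtPrime p) (Localization.AtPrime p))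
    (p' p'' : Ideal A) (hp' : p' ∈ minimalPrimes A) (hp'' : p'' ∈ minimalPrimes A) :
    ∃ (n : ℕ) (c : Fin (n + 1) → Ideal A), c 0 = p' ∧ c (Fin.last n) = p'' ∧ (∀ i, c i ∈ minimalPrimes A) ∧
      ∀ i : Fin n, ∃ (q : Ideal A) (_ : q.IsPrime),
        c i.castSucc ≤ q ∧ c i.succ ≤ q ∧ q.height + 1 ≤ (d : ℕ∞) := by
  obtain ⟨l, hhd, hlast, hmin, hchain⟩ := LocCoh.exists_chain_minimalPrimes d hd
    (fun p hp => h p.asIdeal hp) ⟨p', hp'.1.1⟩ ⟨p'', hp''.1.1⟩ hp' hp''
  obtain ⟨x, l', rfl⟩ := List.exists_cons_of_ne_nil (fun e : l = [] => by rw [e] at hhd; simp at hhd)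
  refine ⟨l'.length, fun i => ((x :: l')[i.1]'(by simp [i.2])).asIdeal, ?_, ?_, fun i => hmin _ (List.getElem_mem _),
    fun i => ?_⟩
  · simp only [List.head?_cons, Option.some.injEq] at hhd
    simp [hhd]
  · have := hlast
    rw [List.getLast?_eq_getElem?] at this
    simp only [List.length_cons, Nat.add_sub_cancel] at this
    obtain ⟨_, hy⟩ := List.getElem?_eq_some_iff.1 this
    simp [hy]
  · obtain ⟨r, h1, h2, h3⟩ := List.isChain_iff_getElem.1 hchain i.1 (by simp [i.2])
    refine ⟨r.asIdeal, r.isPrime, ?_, ?_, ?_⟩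
    · exact h1
    · exact h2
    · refine le_trans (add_le_add h3 le_rfl) ?_
      exact_mod_cast le_of_eq (Nat.sub_add_cancel hd)


/-- Let A be a Noetherian ring whose spectrum is connected and d a natural number such that for every
prime p of height at least d the local ring A_p has depth at least 2. Then for any two distinct
minimal primes p', p'' of A there is a finite chain of minimal primes starting at p' and ending at
p'' such that any two consecutive members are both contained in a prime ideal of height at most d −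
1 (the spectrum is connected in codimension at most d − 1). -/
theorem result (A : Type u) [CommRing A] [IsNoetherianRing A]
    [ConnectedSpace (PrimeSpectrum A)] (d : ℕ)
    (h : ∀ (p : Ideal A) [p.IsPrime], (d : ℕ∞) ≤ p.height →
      (2 : ℕ∞) ≤ LocCoh.depth (Localization.AtPrime p) (Localization.AtPrime p))
    (p' p'' : Ideal A) (hp' : p' ∈ minimalPrimes A) (hp'' : p'' ∈ minimalPrimes A) (hne : p' ≠ p'') :
    ∃ (n : ℕ) (c : Fin (n + 1) → Ideal A), c 0 = p' ∧ c (Fin.last n) = p'' ∧ (∀ i, c i ∈ minimalPrimes A) ∧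
      ∀ i : Fin n, ∃ (q : Ideal A) (_ : q.IsPrime),
        c i.castSucc ≤ q ∧ c i.succ ≤ q ∧ q.height + 1 ≤ (d : ℕ∞) := by
  rcases Nat.eq_zero_or_pos d with rfl | hd
  · haveI : p'.IsPrime := hp'.1.1
    exact absurd (h p' (by simp)) (not_two_le_depth_minimal p' hp')
  · exact exists_fin_chain d hd h p' p'' hp' hp''

end Groth.Agent.S4721
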