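import Groth.Statements.S4722
import Groth.Agent.ZClosLib.HullModule
import Mathlib.Data.Fin.Tuple.Basic
import Mathlib.Algebra.Module.Submodule.Equiv

set_option autoImplicit false
universe u
open EGA4

namespace Groth.Agent.S4722

variable {A : Type u} [CommRing A] [IsNoetherianRing A] {M : Type u} [AddCommGroup M] [Module A M]
  [Module.Finite A M]

open Submodule

/-- One step above a submodule whose quotient has no other associated prime. -/
theorem exists_step (p : Ideal A) [p.IsPrime] (k : ℕ) (hk : ∀ a ∈ p ^ k, ∀ m : M, a • m = 0)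
    (N : Submodule A M) (hN : ∀ a ∉ p, ∀ m : M, a • m ∈ N → m ∈ N) (hne : N ≠ ⊤) :
    ∃ N' : Submodule A M, N < N' ∧ (∀ a ∉ p, ∀ m : M, a • m ∈ N' → m ∈ N') ∧
      ∃ g : (↥N' ⧸ Submodule.comap N'.subtype N) →ₗ[A] (A ⧸ p), Function.Injective g := by
  classical
  obtain ⟨j, hj, hj'⟩ : ∃ j, (∃ x : M, x ∉ N ∧ ∀ a ∈ p ^ (j + 1), a • x ∈ N) ∧
      ∀ i < j, ¬ ∃ x : M, x ∉ N ∧ ∀ a ∈ p ^ (i + 1), a • x ∈ N := by
    have h : ∃ j, ∃ x : M, x ∉ N ∧ ∀ a ∈ p ^ (j + 1), a • x ∈ N := by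
      obtain ⟨x, -, hx⟩ := SetLike.exists_of_lt (lt_top_iff_ne_top.2 hne)
      exact ⟨k, x, hx, fun a ha => by rw [hk a (Ideal.pow_le_pow_right (Nat.le_succ k) ha)]; exact N.zero_mem⟩
    exact ⟨Nat.find h, Nat.find_spec h, fun i hi => Nat.find_min h hi⟩
  obtain ⟨x₀, hx₀, hpx₀⟩ : ∃ x : M, x ∉ N ∧ ∀ a ∈ p, a • x ∈ N := by
    obtain ⟨x, hx, hpx⟩ := hj
    rcases Nat.eq_zero_or_pos j with rfl | hpos
    · exact ⟨x, hx, fun a ha => hpx a (by rwa [pow_one])⟩
    · obtain ⟨b, hb, hbx⟩ : ∃ b ∈ p ^ j, b • x ∉ N := by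
        by_contra hc
        push Not at hc
        exact hj' (j - 1) (Nat.sub_lt hpos Nat.one_pos) ⟨x, hx, by rwa [Nat.sub_add_cancel hpos]⟩
      exact ⟨b • x, hbx, fun a ha => by
        rw [smul_smul]; exact hpx _ (by rw [pow_succ']; exact Ideal.mul_mem_mul ha hb)⟩
  let N' : Submodule A M :=
    { carrier := {x | (∀ a ∈ p, a • x ∈ N) ∧ ∃ a ∉ p, ∃ r : A, a • x - r • x₀ ∈ N}
      zero_mem' := ⟨fun a _ => by rw [smul_zero]; exact N.zero_mem,
        1, fun h => (‹p.IsPrime›).ne_top ((Ideal.eq_top_iff_one p).2 h), 0, by simp⟩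
      add_mem' := by
        rintro x y ⟨hx, a, ha, r, har⟩ ⟨hy, b, hb, s, hbs⟩
        refine ⟨fun c hc => by rw [smul_add]; exact N.add_mem (hx c hc) (hy c hc),
          a * b, fun h => ((‹p.IsPrime›).mem_or_mem h).elim ha hb, b * r + a * s, ?_⟩
        rw [show (a * b) • (x + y) - (b * r + a * s) • x₀ = b • (a • x - r • x₀) + a • (b • y - s • x₀) by
          simp only [smul_sub, smul_smul, smul_add, add_smul, mul_comm b a]; abel]
        exact N.add_mem (N.smul_mem _ har) (N.smul_mem _ hbs)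
      smul_mem' := by
        rintro c x ⟨hx, a, ha, r, har⟩
        exact ⟨fun d hd => by rw [smul_comm]; exact N.smul_mem _ (hx d hd), a, ha, c * r, by
          rw [smul_comm, mul_smul, ← smul_sub]; exact N.smul_mem _ har⟩ }
  have h1 : (1 : A) ∉ p := fun h => (‹p.IsPrime›).ne_top ((Ideal.eq_top_iff_one p).2 h)
  have hle : N ≤ N' := fun x hx => ⟨fun a _ => N.smul_mem _ hx, 1, h1, 0, by simpa using hx⟩
  have hx₀' : x₀ ∈ N' := ⟨hpx₀, 1, h1, 1, by simp⟩
  have hsat : ∀ a ∉ p, ∀ m : M, a • m ∈ N' → m ∈ N' := by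
    rintro a ha m ⟨hm, b, hb, r, hbr⟩
    refine ⟨fun c hc => hN a ha _ (by rw [smul_comm]; exact hm c hc),
      b * a, fun h => ((‹p.IsPrime›).mem_or_mem h).elim hb ha, r, by rwa [mul_smul]⟩
  refine ⟨N', lt_of_le_of_ne hle fun h => hx₀ (h ▸ hx₀'), hsat, ?_⟩
  haveI : IsNoetherian A M := isNoetherian_of_isNoetherianRing_of_finite A M
  obtain ⟨G, hG⟩ := IsNoetherian.noetherian N'
  choose a ha r har using fun x : G => (hG ▸ Submodule.subset_span x.2 : (x : M) ∈ N').2
  let c := ∏ x : G, a x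
  have hc : c ∉ p := by
    rw [Ideal.IsPrime.prod_mem_iff]
    rintro ⟨x, -, h⟩
    exact ha x h
  have hcx : ∀ x : N', ∃ s : A, c • (x : M) - s • x₀ ∈ N := by
    rintro ⟨x, hx⟩
    show ∃ s : A, c • x - s • x₀ ∈ N
    rw [← hG] at hx
    induction hx using Submodule.span_induction with
    | mem x hx =>
      obtain ⟨d, hd⟩ := Finset.dvd_prod_of_mem a (Finset.mem_univ (⟨x, hx⟩ : G))
      exact ⟨d * r ⟨x, hx⟩, by
        rw [show c = d * a ⟨x, hx⟩ by rw [mul_comm]; exact hd, mul_smul, mul_smul, ← smul_sub]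
        exact N.smul_mem _ (har ⟨x, hx⟩)⟩
    | zero => exact ⟨0, by simp⟩
    | add x y _ _ hx hy =>
      obtain ⟨s, hs⟩ := hx
      obtain ⟨t, ht⟩ := hy
      exact ⟨s + t, by rw [smul_add, add_smul, add_sub_add_comm]; exact N.add_mem hs ht⟩
    | smul b x _ hx =>
      obtain ⟨s, hs⟩ := hx
      exact ⟨b * s, by rw [smul_comm, mul_smul, ← smul_sub]; exact N.smul_mem _ hs⟩
  choose s hs using hcx
  have huniq : ∀ (x : N') (t : A), c • (x : M) - t • x₀ ∈ N → Ideal.Quotient.mk p (s x) = Ideal.Quotient.mk p t := by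
    intro x t ht
    rw [Ideal.Quotient.eq]
    by_contra hst
    refine hx₀ (hN _ hst _ ?_)
    have := N.sub_mem ht (hs x)
    rw [sub_sub_sub_cancel_left, ← sub_smul] at this
    exact this
  let f : N' →ₗ[A] A ⧸ p :=
    { toFun := fun x => Ideal.Quotient.mk p (s x)
      map_add' := fun x y => by
        rw [← map_add]
        exact huniq _ _ (by rw [Submodule.coe_add, smul_add, add_smul, add_sub_add_comm]; exact N.add_mem (hs x) (hs y))
      map_smul' := fun b x => by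
        rw [RingHom.id_apply, Algebra.smul_def, Ideal.Quotient.algebraMap_eq, ← map_mul]
        exact huniq _ _ (by rw [SetLike.val_smul, smul_comm, mul_smul, ← smul_sub]; exact N.smul_mem _ (hs x)) }
  have hker : Submodule.comap N'.subtype N = LinearMap.ker f := by
    ext x
    rw [LinearMap.mem_ker]
    show (x : M) ∈ N ↔ Ideal.Quotient.mk p (s x) = 0
    refine ⟨fun hx => ?_, fun hx => ?_⟩
    · rw [huniq x 0 (by simpa using N.smul_mem c hx), map_zero]
    · rw [Ideal.Quotient.eq_zero_iff_mem] at hx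
      refine hN c hc _ ?_
      have := N.add_mem (hs x) (hpx₀ _ hx)
      rwa [sub_add_cancel] at this
  refine ⟨(Submodule.comap N'.subtype N).liftQ f hker.le, ?_⟩
  rw [← LinearMap.ker_eq_bot]
  exact Submodule.ker_liftQ_eq_bot _ _ _ hker.ge

theorem exists_chain (p : Ideal A) (hp : associatedPrimes A M = {p}) :
    ∃ m : ℕ, ∃ F : Fin (m + 1) → Submodule A M, Antitone F ∧ F 0 = ⊤ ∧ F (Fin.last m) = ⊥ ∧
      ∀ i : Fin m, ∃ g : (↥(F i.castSucc) ⧸ Submodule.comap (F i.castSucc).subtype (F i.succ)) →ₗ[A] (A ⧸ p),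
        Function.Injective g := by
  have hpm : p ∈ associatedPrimes A M := hp ▸ rfl
  haveI : p.IsPrime := hpm.isPrime
  have hbot : ∀ a ∉ p, ∀ m : M, a • m ∈ (⊥ : Submodule A M) → m ∈ (⊥ : Submodule A M) := by
    intro a ha m hm
    rw [Submodule.mem_bot] at hm ⊢
    by_contra hm0
    obtain ⟨P, hP, hle⟩ := exists_le_isAssociatedPrime_of_isNoetherianRing A m hm0
    exact ha ((hp.le hP : P = p) ▸ hle (Submodule.mem_colon_singleton.2 ((Submodule.mem_bot A).2 hm)))
  have hrad : p ≤ (Module.annihilator A M).radical := by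
    rw [← Ideal.sInf_minimalPrimes]
    exact le_sInf fun q hq => le_of_eq
      (hp.le (Module.associatedPrimes.minimalPrimes_annihilator_subset_associatedPrimes A M hq)).symm
  obtain ⟨k, hk⟩ := Ideal.exists_pow_le_of_le_radical_of_fg hrad (IsNoetherian.noetherian p)
  have hk' : ∀ a ∈ p ^ k, ∀ m : M, a • m = 0 := fun a ha m => Module.mem_annihilator.1 (hk ha) m
  let S : Set (Submodule A M) := {N | (∀ a ∉ p, ∀ m : M, a • m ∈ N → m ∈ N) ∧
    ∃ m : ℕ, ∃ F : Fin (m + 1) → Submodule A M, Antitone F ∧ F 0 = N ∧ F (Fin.last m) = ⊥ ∧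
      ∀ i : Fin m, ∃ g : (↥(F i.castSucc) ⧸ Submodule.comap (F i.castSucc).subtype (F i.succ)) →ₗ[A] (A ⧸ p),
        Function.Injective g}
  haveI : IsNoetherian A M := isNoetherian_of_isNoetherianRing_of_finite A M
  obtain ⟨N, ⟨hN, m, F, hF, hF0, hFl, hFg⟩, hmax⟩ := set_has_maximal_iff_noetherian.2 ‹IsNoetherian A M› S
    ⟨⊥, hbot, 0, fun _ => ⊥, fun _ _ _ => le_rfl, rfl, rfl, fun i => i.elim0⟩
  by_cases hne : N = ⊤
  · exact ⟨m, F, hF, hF0.trans hne, hFl, hFg⟩
  exfalso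
  obtain ⟨N', hlt, hN', g, hg⟩ := exists_step p k hk' N hN hne
  refine hmax N' ⟨hN', m + 1, Fin.cons N' F, ?_, Fin.cons_zero _ _, ?_, fun i => ?_⟩ hlt
  · refine Fin.antitone_iff_succ_le.2 fun i => ?_
    refine Fin.cases ?_ (fun j => ?_) i
    · rw [Fin.castSucc_zero, Fin.cons_zero, Fin.cons_succ, hF0]
      exact hlt.le
    · rw [Fin.castSucc_succ, Fin.cons_succ, Fin.cons_succ]
      exact Fin.antitone_iff_succ_le.1 hF j
  · rw [← Fin.succ_last, Fin.cons_succ, hFl]
  · refine Fin.cases ?_ (fun j => ?_) i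
    · rw [Fin.castSucc_zero, Fin.cons_zero, Fin.cons_succ, hF0]
      exact ⟨g, hg⟩
    · rw [Fin.castSucc_succ, Fin.cons_succ, Fin.cons_succ]
      exact hFg j

/-- Let A be a Noetherian ring and M a finite A-module whose set of associated primes is a single prime
p. Then M has a finite decreasing filtration by submodules M = M_0 ⊇ M_1 ⊇ ⋯ ⊇ M_m = 0 such that
each quotient M_h/M_{h+1} is isomorphic to a submodule of A/p (i.e. embeds A-linearly into A/p). -/
theorem result (A : Type u) [CommRing A] [IsNoetherianRing A]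
    (M : Type u) [AddCommGroup M] [Module A M] [Module.Finite A M] (p : Ideal A)
    (hp : associatedPrimes A M = {p}) :
    ∃ (m : ℕ) (F : Fin (m + 1) → Submodule A M), Antitone F ∧ F 0 = ⊤ ∧ F (Fin.last m) = ⊥ ∧
      ∀ i : Fin m, ∃ g : (↥(F i.castSucc) ⧸ Submodule.comap (F i.castSucc).subtype (F i.succ)) →ₗ[A] (A ⧸ p),
        Function.Injective g := by
  exact exists_chain (M := M) p hp

end Groth.Agent.S4722
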