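import Groth.Statements.S4725
-- import your own Groth.Agent.* helpers here

set_option autoImplicit false
set_option linter.style.haveILetI false
universe u
open EGA4

namespace Groth.Agent.S4725

/-- The direct limit of a nonempty directed system of commutative integral domains is an integral domain
(no injectivity of the transition maps is assumed). -/
theorem result (ι : Type u) [Preorder ι] [Nonempty ι] [IsDirectedOrder ι] (G : ι → Type u)
    [∀ i, CommRing (G i)] (f : ∀ i j, i ≤ j → G i →+* G j) [DirectedSystem G (fun i j h ↦ f i j h)]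
    [∀ i, IsDomain (G i)] : IsDomain (Ring.DirectLimit G (fun i j h ↦ f i j h)) := by
  haveI : Nontrivial (Ring.DirectLimit G (fun i j h ↦ f i j h)) := by
    obtain ⟨i₀⟩ := ‹Nonempty ι›
    refine ⟨⟨0, 1, fun h => ?_⟩⟩
    rw [← (Ring.DirectLimit.of G (fun i j h ↦ f i j h) i₀).map_one] at h
    obtain ⟨j, hj, hz⟩ := Ring.DirectLimit.of.zero_exact (f' := fun i j h ↦ f i j h) h.symm
    simp at hz
  haveI : NoZeroDivisors (Ring.DirectLimit G (fun i j h ↦ f i j h)) := by
    refine ⟨fun {a b} hab => ?_⟩
    obtain ⟨i, x, rfl⟩ := Ring.DirectLimit.exists_of a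
    obtain ⟨i', y, rfl⟩ := Ring.DirectLimit.exists_of b
    obtain ⟨j, hi, hi'⟩ := exists_ge_ge i i'
    rw [← Ring.DirectLimit.of_f hi, ← Ring.DirectLimit.of_f hi', ← map_mul] at hab
    obtain ⟨k, hk, hz⟩ := Ring.DirectLimit.of.zero_exact (f' := fun i j h ↦ f i j h) hab
    simp only [map_mul, mul_eq_zero] at hz
    rcases hz with h | h
    · left; rw [← Ring.DirectLimit.of_f hi, ← Ring.DirectLimit.of_f hk, h, map_zero]
    · right; rw [← Ring.DirectLimit.of_f hi', ← Ring.DirectLimit.of_f hk, h, map_zero]
  exact NoZeroDivisors.to_isDomain _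

end Groth.Agent.S4725
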