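import Groth.Statements.S4726


set_option autoImplicit false
universe u
open EGA4

namespace Groth.Agent.S4726

open TensorProduct in
lemma descend {R A : Type u} [CommRing R] [CommRing A] [Algebra R A] {n : ℕ}
    (T : Set (Fin n → R)) :
    Nonempty (((Fin n → A) ⧸ Submodule.span A ((fun v : Fin n → R => fun k => algebraMap R A (v k)) '' T))
      ≃ₗ[A] A ⊗[R] ((Fin n → R) ⧸ Submodule.span R T)) := by
  classical
  set K : Submodule A (Fin n → A) :=
    Submodule.span A ((fun v : Fin n → R => fun k => algebraMap R A (v k)) '' T)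
  set N : Submodule R (Fin n → R) := Submodule.span R T
  let φ : (Fin n → R) →ₗ[R] (Fin n → A) := (Algebra.linearMap R A).compLeft (Fin n)
  have hN : N ≤ LinearMap.ker ((K.mkQ.restrictScalars R).comp φ) := by
    refine Submodule.span_le.2 fun v hv => ?_
    have h1 : (fun k => algebraMap R A (v k)) ∈ K := Submodule.subset_span ⟨v, hv, rfl⟩
    exact LinearMap.mem_ker.2 ((Submodule.Quotient.mk_eq_zero K).2 h1)
  let back : A ⊗[R] ((Fin n → R) ⧸ N) →ₗ[A] (Fin n → A) ⧸ K :=
    LinearMap.liftBaseChange A (Submodule.liftQ N ((K.mkQ.restrictScalars R).comp φ) hN)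
  let g : (Fin n → A) →ₗ[A] A ⊗[R] ((Fin n → R) ⧸ N) :=
    Fintype.linearCombination A (fun k => (1 : A) ⊗ₜ[R] N.mkQ (Pi.single k 1))
  have hg : ∀ v : Fin n → R, g (φ v) = (1 : A) ⊗ₜ[R] N.mkQ v := by
    intro v
    conv_rhs => rw [pi_eq_sum_univ' v]
    simp [g, φ, Fintype.linearCombination_apply, map_sum, TensorProduct.tmul_sum,
      TensorProduct.tmul_smul, algebraMap_smul]
  have hK : K ≤ LinearMap.ker g := by
    refine Submodule.span_le.2 ?_
    rintro _ ⟨v, hv, rfl⟩
    show g (φ v) = 0
    rw [hg, show N.mkQ v = 0 from (Submodule.Quotient.mk_eq_zero N).2 (Submodule.subset_span hv),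
      TensorProduct.tmul_zero]
  refine ⟨LinearEquiv.ofLinearMap (Submodule.liftQ K g hK) back ?_ ?_⟩
  · apply TensorProduct.AlgebraTensorModule.ext
    intro a y
    obtain ⟨v, rfl⟩ := Submodule.mkQ_surjective N y
    simp only [back, LinearMap.comp_apply, LinearMap.id_apply, LinearMap.liftBaseChange_tmul,
      Submodule.mkQ_apply, Submodule.liftQ_apply, LinearMap.restrictScalars_apply, map_smul]
    rw [hg, TensorProduct.smul_tmul', Submodule.mkQ_apply]
    simp
  · apply Submodule.linearMap_qext
    apply LinearMap.pi_ext'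
    intro k
    apply LinearMap.ext_ring
    simp [g, back, φ, Fintype.linearCombination_apply_single]
    congr 1
    funext j
    by_cases h : j = k <;> simp [h]


open TensorProduct in
/-- Let (A_i) be a directed system of commutative rings with direct limit A and M a finitely presented
A-module. Then there exist an index i and a finitely presented A_i-module M_i such that M is
isomorphic, as an A-module, to A ⊗_{A_i} M_i (A being an A_i-algebra through the canonical map). -/
theorem result (ι : Type u) [Preorder ι] [Nonempty ι] [IsDirectedOrder ι]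
    (G : ι → Type u) [∀ i, CommRing (G i)] (f : ∀ i j, i ≤ j → G i →+* G j)
    [DirectedSystem G (fun i j h ↦ f i j h)] (M : Type u) [AddCommGroup M]
    [Module (Ring.DirectLimit G (fun i j h ↦ f i j h)) M]
    [Module.FinitePresentation (Ring.DirectLimit G (fun i j h ↦ f i j h)) M] :
    ∃ (i : ι) (Mi : Type u) (_ : AddCommGroup Mi) (_ : Module (G i) Mi), Module.FinitePresentation (G i) Mi ∧
      letI : Algebra (G i) (Ring.DirectLimit G (fun i j h ↦ f i j h)) :=
        (Ring.DirectLimit.of G (fun i j h ↦ f i j h) i).toAlgebra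
      Nonempty (M ≃ₗ[Ring.DirectLimit G (fun i j h ↦ f i j h)] (Ring.DirectLimit G (fun i j h ↦ f i j h)) ⊗[G i] Mi) := by
  classical
  let A := Ring.DirectLimit G (fun i j h ↦ f i j h)
  obtain ⟨n, K, e, hK⟩ := Module.FinitePresentation.exists_fin A M
  obtain ⟨s, rfl⟩ := hK
  let Λ : Finset A := s.biUnion fun v => Finset.univ.image v
  have hc : ∀ a : A, ∃ i x, Ring.DirectLimit.of G (fun i j h ↦ f i j h) i x = a :=
    fun a => Ring.DirectLimit.exists_of a
  choose idx pre hpre using hc
  obtain ⟨i, hi⟩ := Finset.exists_le (Λ.image idx)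
  let P : (Fin n → A) → (Fin n → G i) := fun v k =>
    if h : idx (v k) ≤ i then f (idx (v k)) i h (pre (v k)) else 0
  have hP : ∀ v ∈ s, (fun k => Ring.DirectLimit.of G (fun i j h ↦ f i j h) i (P v k)) = v := by
    intro v hv
    funext k
    have hk : idx (v k) ≤ i := hi _ (Finset.mem_image_of_mem _
      (Finset.mem_biUnion.2 ⟨v, hv, Finset.mem_image_of_mem _ (Finset.mem_univ k)⟩))
    simp only [P, dif_pos hk]
    rw [Ring.DirectLimit.of_f, hpre]
  let : Algebra (G i) A := (Ring.DirectLimit.of G (fun i j h ↦ f i j h) i).toAlgebra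
  refine ⟨i, (Fin n → G i) ⧸ Submodule.span (G i) (P '' (s : Set (Fin n → A))), inferInstance, inferInstance,
    ?_, ?_⟩
  · exact Module.finitePresentation_of_surjective _ (Submodule.mkQ_surjective _)
      (by rw [Submodule.ker_mkQ]; exact Submodule.fg_span (s.finite_toSet.image _))
  · obtain ⟨d⟩ := descend (R := G i) (A := A) (P '' (s : Set (Fin n → A)))
    refine ⟨e.trans ((Submodule.quotEquivOfEq _ _ ?_).trans d)⟩
    rw [Set.image_image]
    congr 1
    refine (Set.image_congr fun v hv => hP v hv).trans (Set.image_id' _) |>.symm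

end Groth.Agent.S4726
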