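import Groth.Statements.S4728
import Mathlib.RingTheory.TensorProduct.Quotient
import Mathlib.RingTheory.LocalRing.ResidueField.Fiber
import Mathlib.RingTheory.Ideal.KrullsHeightTheorem

set_option autoImplicit false
universe u
open EGA4
open scoped TensorProduct

namespace Groth.Agent.S4728

/-- Let A be a Noetherian local domain of dimension 1 with maximal ideal m, A' a Noetherian local ring
and A → A' a local homomorphism which is normal (flat, with geometrically normal fibres). Then the
ideal m A' of A' is prime and the local ring of A' at m A' has dimension 1. (The remaining clauses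
of the published item, describing A' inside its total ring of fractions, are not restated.) -/
theorem result (A A' : Type u) [CommRing A] [CommRing A']
    [IsNoetherianRing A] [IsNoetherianRing A'] [IsLocalRing A] [IsLocalRing A'] [IsDomain A]
    (hA : ringKrullDim A = 1) [Algebra A A'] [IsLocalHom (algebraMap A A')] (h : EGA4.IsNormalHom A A') :
    ((IsLocalRing.maximalIdeal A).map (algebraMap A A')).IsPrime ∧
      ((IsLocalRing.maximalIdeal A).map (algebraMap A A')).height = 1 := by
  classical
  obtain ⟨hflat, hfib⟩ := h
  set m := IsLocalRing.maximalIdeal A with hm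
  have hne : m.map (algebraMap A A') ≠ ⊤ := fun hc => (IsLocalRing.maximalIdeal.isMaximal A').ne_top
    (top_le_iff.1 (hc ▸ Ideal.map_le_iff_le_comap.2 (fun x hx => map_nonunit (algebraMap A A') x hx)))
  let e1 : (A ⧸ m) ≃ₐ[A] m.ResidueField :=
    AlgEquiv.ofBijective (IsScalarTower.toAlgHom A (A ⧸ m) m.ResidueField)
      m.bijective_algebraMap_quotient_residueField
  let e : (A' ⧸ m.map (algebraMap A A')) ≃+* (m.ResidueField ⊗[m.ResidueField] (m.Fiber A')) :=
    (((Algebra.TensorProduct.quotIdealMapEquivTensorQuot A' m).toRingEquiv.trans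
      ((Algebra.TensorProduct.congr (AlgEquiv.refl (R := A) (A₁ := A')) e1).toRingEquiv)).trans
      (Algebra.TensorProduct.comm A A' m.ResidueField).toRingEquiv).trans
      (Algebra.TensorProduct.lid m.ResidueField (m.Fiber A')).symm.toRingEquiv
  have hN := hfib m m.ResidueField inferInstance
  haveI : Nontrivial (A' ⧸ m.map (algebraMap A A')) := Ideal.Quotient.nontrivial_iff.2 hne
  haveI : IsLocalRing (A' ⧸ m.map (algebraMap A A')) :=
    IsLocalRing.of_surjective' (Ideal.Quotient.mk _) Ideal.Quotient.mk_surjective
  haveI : IsLocalRing (m.ResidueField ⊗[m.ResidueField] (m.Fiber A')) := e.isLocalRing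
  let n := IsLocalRing.maximalIdeal (m.ResidueField ⊗[m.ResidueField] (m.Fiber A'))
  haveI := (hN n).1
  haveI : IsDomain (m.ResidueField ⊗[m.ResidueField] (m.Fiber A')) :=
    MulEquiv.isDomain (Localization.AtPrime n) (IsLocalization.atUnits (m.ResidueField ⊗[m.ResidueField] (m.Fiber A')) n.primeCompl
      (S := Localization.AtPrime n) fun x hx => IsLocalRing.notMem_maximalIdeal.mp hx).toRingEquiv.toMulEquiv
  haveI : IsDomain (A' ⧸ m.map (algebraMap A A')) := MulEquiv.isDomain _ e.toMulEquiv
  have hP : (m.map (algebraMap A A')).IsPrime := (Ideal.Quotient.isDomain_iff_prime _).1 inferInstance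
  refine ⟨hP, ?_⟩
  haveI := hP
  haveI := hflat
  haveI : (m.map (algebraMap A A')).LiesOver m := ⟨((IsLocalRing.maximalIdeal.isMaximal A).eq_of_le
    (Ideal.IsPrime.ne_top inferInstance) Ideal.le_comap_map)⟩
  have hm1 : m.height = 1 := by
    have := IsLocalRing.maximalIdeal_height_eq_ringKrullDim (R := A)
    rw [hA] at this
    exact_mod_cast this
  rw [Ideal.height_eq_height_add_of_liesOver_of_hasGoingDown m (m.map (algebraMap A A')), hm1,
    Ideal.map_quotient_self, Ideal.height_bot, add_zero]

end Groth.Agent.S4728
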