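import Groth.Statements.S4730
import Groth.Agent.Dim.Polynomial

set_option autoImplicit false
set_option linter.style.haveILetI false
universe u
open EGA4

namespace Groth.Agent.S4730

open Polynomial in
/-- Let A be a Noetherian ring, p a prime ideal of A and q a prime ideal of the polynomial ring A[T]
lying over p. Then ht(p) + 1 = ht(q) + deg.tr_{κ(p)} κ(q), the transcendence degree being that of
the domain A[T]/q over the domain A/p. -/
theorem result (A : Type u) [CommRing A] [IsNoetherianRing A]
    (p : Ideal A) [p.IsPrime] (q : Ideal A[X]) [q.IsPrime] [q.LiesOver p] :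
    (p.height : Cardinal.{u}) + 1 = (q.height : Cardinal.{u}) + Algebra.trdeg (A ⧸ p) (A[X] ⧸ q) := by
  have hqp : p = q.comap (C : A →+* A[X]) := Ideal.LiesOver.over (P := q) (p := p)
  by_cases h : q = p.map (C : A →+* A[X])
  · subst h
    rw [Groth.Agent.Dim.height_map_C_of_isPrime p]
    let φ : (A ⧸ p)[X] →+* A[X] ⧸ p.map (C : A →+* A[X]) :=
      (Ideal.polynomialQuotientEquivQuotientPolynomial p).toRingHom
    let e : (A ⧸ p)[X] ≃ₐ[A ⧸ p] A[X] ⧸ p.map (C : A →+* A[X]) :=
      AlgEquiv.ofRingEquiv (f := Ideal.polynomialQuotientEquivQuotientPolynomial p) (fun x => by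
        obtain ⟨a, rfl⟩ := Ideal.Quotient.mk_surjective x
        simp [Ideal.polynomialQuotientEquivQuotientPolynomial])
    rw [← e.trdeg_eq, Polynomial.trdeg_of_isDomain]
  · rw [Groth.Agent.Dim.height_eq_add_one_of_ne_map_C p q h]
    haveI : Algebra.IsAlgebraic (A ⧸ p) (A[X] ⧸ q) := by
      have hle : p.map (C : A →+* A[X]) ≤ q := Ideal.map_le_iff_le_comap.2 hqp.le
      obtain ⟨f, hfq, hfp⟩ := SetLike.exists_of_lt (lt_of_le_of_ne hle (fun he => h he.symm))
      have htop : Algebra.adjoin (A ⧸ p) {Ideal.Quotient.mk q X} = ⊤ := by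
        rw [eq_top_iff]
        rintro y -
        obtain ⟨g, rfl⟩ := Ideal.Quotient.mk_surjective y
        induction g using Polynomial.induction_on with
        | C a => exact Subalgebra.algebraMap_mem _ (Ideal.Quotient.mk p a)
        | add f g hf hg => rw [map_add]; exact add_mem hf hg
        | monomial n a ih =>
          rw [pow_succ, ← mul_assoc, map_mul]
          exact mul_mem ih (Algebra.self_mem_adjoin_singleton _ _)
      have halg : (⊤ : Subalgebra (A ⧸ p) (A[X] ⧸ q)).IsAlgebraic := by
        rw [← htop, Algebra.isAlgebraic_adjoin_singleton_iff]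
        refine ⟨f.map (Ideal.Quotient.mk p), fun h0 => hfp ?_, ?_⟩
        · have hmem : f ∈ RingHom.ker (mapRingHom (Ideal.Quotient.mk p)) := h0
          rwa [Polynomial.ker_mapRingHom, Ideal.mk_ker] at hmem
        · rw [aeval_def, eval₂_map]
          have : (algebraMap (A ⧸ p) (A[X] ⧸ q)).comp (Ideal.Quotient.mk p) =
              (Ideal.Quotient.mk q).comp C := RingHom.ext fun a => rfl
          rw [this, ← Polynomial.hom_eval₂, eval₂_C_X, Ideal.Quotient.eq_zero_iff_mem]
          exact hfq
      exact ⟨fun x => halg x trivial⟩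
    rw [trdeg_eq_zero (R := A ⧸ p) (A := A[X] ⧸ q), add_zero]
    haveI : p.FiniteHeight := inferInstance
    obtain ⟨n, hn⟩ := ENat.ne_top_iff_exists.1 (Ideal.height_ne_top_of_isPrime (I := p))
    rw [← hn]
    norm_cast

end Groth.Agent.S4730
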