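import Groth.Statements.S4731
import Mathlib.RingTheory.Finiteness.Basic
import Mathlib.RingTheory.Noetherian.Basic
import Mathlib.RingTheory.Ideal.Maps
import Mathlib.RingTheory.IntegralClosure.IsIntegralClosure.Basic
-- import your own Groth.Agent.* helpers here

set_option autoImplicit false
universe u
open EGA4

namespace Groth.Agent.S4731

/-- Let S → R be an injective homomorphism of commutative rings making R a finite S-module, with R
Noetherian; let c be the conductor of S in R, the ideal of those s in S with s R contained in (the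
image of) S. If S/c is Noetherian, then every increasing sequence of ideals of S contained in c is
eventually constant. -/
theorem result (S R : Type u) [CommRing S] [CommRing R] [Algebra S R]
    [FaithfulSMul S R] [IsNoetherianRing R] [Module.Finite S R] (c : Ideal S)
    (hc : ∀ s : S, s ∈ c ↔ ∀ r : R, ∃ s' : S, algebraMap S R s' = algebraMap S R s * r)
    [IsNoetherianRing (S ⧸ c)] (a : ℕ →o Ideal S) (ha : ∀ n, a n ≤ c) :
    ∃ N : ℕ, ∀ n, N ≤ n → a n = a N := by
  classical
  let g := algebraMap S R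
  obtain ⟨N, hN⟩ : ∃ N, ∀ n, N ≤ n → (a N).map g = (a n).map g :=
    monotone_stabilizes_iff_noetherian.2 (inferInstance : IsNoetherian R R) ⟨fun n => (a n).map g, fun i j h => Ideal.map_mono (a.monotone h)⟩
  let J : Submodule S R := ((a N).map g).restrictScalars S
  let K : Submodule S J := c • ⊤
  haveI : Module.Finite S J := by
    haveI : Module.Finite R ((a N).map g) := Module.Finite.iff_fg.2 (IsNoetherian.noetherian _)
    haveI : Module.Finite S ((a N).map g) := Module.Finite.trans R _
    exact Module.Finite.equiv ((Submodule.restrictScalarsEquiv S R R ((a N).map g)).restrictScalars S).symm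
  haveI : Module.Finite S (J ⧸ K) := Module.Finite.quotient S K
  haveI : Module.Finite (S ⧸ c) (J ⧸ K) := Module.Finite.of_restrictScalars_finite S (S ⧸ c) _
  haveI : IsNoetherian (S ⧸ c) (J ⧸ K) := inferInstance
  have hsub : ∀ n, N ≤ n → ∀ s ∈ a n, g s ∈ J := fun n hn s hs => by
    show g s ∈ (a N).map g
    rw [hN n hn]; exact Ideal.mem_map_of_mem g hs
  let W : ℕ → Submodule S (J ⧸ K) := fun n => Submodule.map K.mkQ (Submodule.comap J.subtype (Submodule.map (Algebra.linearMap S R) (a (n + N))))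
  let W' : ℕ → Submodule (S ⧸ c) (J ⧸ K) := fun n =>
    { carrier := W n
      add_mem' := fun hx hy => (W n).add_mem hx hy
      zero_mem' := (W n).zero_mem
      smul_mem' := fun r x hx => by
        obtain ⟨r, rfl⟩ := Ideal.Quotient.mk_surjective r
        exact (W n).smul_mem r hx }
  obtain ⟨M, hM⟩ := monotone_stabilizes_iff_noetherian.2 (inferInstance : IsNoetherian (S ⧸ c) (J ⧸ K)) ⟨W', fun i j h => show ∀ x ∈ W i, x ∈ W j from fun _ ⟨z, ⟨t, ht, htz⟩, hx⟩ => ⟨z, ⟨t, a.monotone (Nat.add_le_add_right h N) ht, htz⟩, hx⟩⟩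
  refine ⟨M + N, fun n hn => le_antisymm (fun s hs => ?_) (a.monotone hn)⟩
  have h1 : K.mkQ ⟨g s, hsub n (by omega) s hs⟩ ∈ W (n - N) := ⟨_, ⟨s, by rwa [Nat.sub_add_cancel (by omega)], rfl⟩, rfl⟩
  have h2 : W' M = W' (n - N) := hM (n - N) (by omega)
  replace h1 : K.mkQ ⟨g s, hsub n (by omega) s hs⟩ ∈ W' M := h2 ▸ (show _ ∈ W' (n - N) from h1)
  obtain ⟨z, ⟨t, ht, htz⟩, hz⟩ := h1
  have h3 : ⟨g s, hsub n (by omega) s hs⟩ - z ∈ K := (Submodule.Quotient.eq K).1 hz.symm
  have key : ∀ y : R, y ∈ Ideal.map g (a N) → ∀ r ∈ c, ∃ v ∈ a N, g v = algebraMap S R r * y := by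
    intro y hy r hr
    induction hy using Submodule.span_induction generalizing r with
    | mem y hy =>
      obtain ⟨v, hv, rfl⟩ := hy
      exact ⟨r * v, (a N).mul_mem_left r hv, map_mul g r v⟩
    | zero => exact ⟨0, zero_mem _, by simp⟩
    | add y y' _ _ ihy ihy' =>
      obtain ⟨v, hv, hv'⟩ := ihy r hr
      obtain ⟨v', hv2, hv2'⟩ := ihy' r hr
      exact ⟨v + v', add_mem hv hv2, by rw [map_add, hv', hv2', mul_add]⟩
    | smul q y _ ihy =>
      obtain ⟨r', hr'⟩ := (hc r).1 hr q
      have hr'c : r' ∈ c := (hc r').2 fun z => by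
        obtain ⟨w, hw⟩ := (hc r).1 hr (q * z)
        exact ⟨w, by rw [hw, hr', mul_assoc]⟩
      obtain ⟨v, hv, hv'⟩ := ihy r' hr'c
      exact ⟨v, hv, by rw [hv', hr', smul_eq_mul, mul_assoc]⟩
  have h4 : ∀ w ∈ K, ∃ v ∈ a N, g v = (w : R) := by
    intro w hw
    refine Submodule.smul_induction_on hw ?_ ?_
    · intro r hr x _
      obtain ⟨x, hx⟩ := x
      obtain ⟨v, hv, hv'⟩ := key x hx r hr
      exact ⟨v, hv, by simpa [Algebra.smul_def] using hv'⟩
    · intro x y hx hy
      obtain ⟨v, hv, hv'⟩ := hx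
      obtain ⟨v', hv2, hv2'⟩ := hy
      exact ⟨v + v', add_mem hv hv2, by simp [hv', hv2']⟩
  obtain ⟨v, hv, hv'⟩ := h4 _ h3
  have htz' : g t = (z : R) := htz
  have : s = t + v := FaithfulSMul.algebraMap_injective S R (by
    show g s = g (t + v)
    rw [map_add, hv', htz', AddSubgroupClass.coe_sub]
    exact (add_sub_cancel _ _).symm)
  rw [this]
  exact add_mem ht (a.monotone (by omega) hv)

end Groth.Agent.S4731
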