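import Groth.Statements.S4732
import Mathlib.RingTheory.RegularLocalRing.Polynomial
import Mathlib.AlgebraicGeometry.Morphisms.ClosedImmersion
import Mathlib.AlgebraicGeometry.Morphisms.FiniteType
import Mathlib.AlgebraicGeometry.Morphisms.Immersion

set_option autoImplicit false
set_option linter.style.haveILetI false
universe u
open EGA4

namespace Groth.Agent.S4732

open AlgebraicGeometry CategoryTheory in
/-- Let k be a field, X a scheme locally of finite type over k and x a point of X. Then there are an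
open neighbourhood U of x, a k-scheme Y all of whose local rings are regular, and an immersion U → Y
compatible with the structure morphisms to Spec k. -/
theorem result (k : Type u) [Field k] {X : Scheme.{u}}
    (f : X ⟶ Spec (CommRingCat.of k)) [LocallyOfFiniteType f] (x : X) :
    ∃ (U : X.Opens) (_ : x ∈ U) (Y : Scheme.{u}) (g : Y ⟶ Spec (CommRingCat.of k)) (i : (U : Scheme.{u}) ⟶ Y),
      IsImmersion i ∧ i ≫ g = U.ι ≫ f ∧ ∀ y : Y, IsRegularLocalRing (Y.presheaf.stalk y) := by
  obtain ⟨W, hW, hxW, -⟩ := exists_isAffineOpen_mem_and_subset (X := X) (x := x) (U := ⊤) trivial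
  let g0 : Spec Γ(X, W) ⟶ Spec (CommRingCat.of k) := hW.fromSpec ≫ f
  obtain ⟨φ, hφ⟩ : ∃ φ : CommRingCat.of k ⟶ Γ(X, W), Spec.map φ = g0 := ⟨Spec.preimage g0, Spec.map_preimage g0⟩
  haveI : IsOpenImmersion hW.fromSpec := hW.isOpenImmersion_fromSpec
  have hlft : LocallyOfFiniteType g0 := inferInstance
  have hft : φ.hom.FiniteType := by
    rw [← HasRingHomProperty.Spec_iff (P := @LocallyOfFiniteType)]; rw [hφ]; exact hlft
  letI : Algebra k Γ(X, W) := φ.hom.toAlgebra
  obtain ⟨n, ψ, hψ⟩ := Algebra.FiniteType.iff_quotient_mvPolynomial''.1 (show Algebra.FiniteType k Γ(X, W) from hft)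
  let S : CommRingCat := CommRingCat.of (MvPolynomial (Fin n) k)
  let ψ' : S ⟶ Γ(X, W) := CommRingCat.ofHom ψ.toRingHom
  let c : CommRingCat.of k ⟶ S := CommRingCat.ofHom (algebraMap k (MvPolynomial (Fin n) k))
  have hc : c ≫ ψ' = φ := CommRingCat.hom_ext (RingHom.ext fun a => ψ.commutes a)
  haveI : IsClosedImmersion (Spec.map ψ') := IsClosedImmersion.spec_of_surjective ψ' hψ
  refine ⟨W, hxW, Spec S, Spec.map c, hW.isoSpec.hom ≫ Spec.map ψ', inferInstance, ?_, fun y => ?_⟩
  · rw [Category.assoc, ← Spec.map_comp, hc, hφ]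
    simp [g0, ← IsAffineOpen.isoSpec_inv_ι_assoc]
  · obtain ⟨p, rfl⟩ : ∃ p : PrimeSpectrum S, p = y := ⟨y, rfl⟩
    letI : Algebra S ((Spec S).presheaf.stalk p) := StructureSheaf.stalkAlgebra S p
    haveI : IsLocalization.AtPrime ((Spec S).presheaf.stalk p) p.asIdeal :=
      StructureSheaf.IsLocalization.to_stalk S p
    haveI : IsRegularRing S := inferInstanceAs (IsRegularRing (MvPolynomial (Fin n) k))
    exact IsRegularLocalRing.of_ringEquiv
      (IsLocalization.algEquiv p.asIdeal.primeCompl (Localization.AtPrime p.asIdeal) ((Spec S).presheaf.stalk p)).toRingEquiv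

end Groth.Agent.S4732
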