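import Groth.Statements.S4733
import Groth.Agent.GeomFieldLib.LocalDescent

set_option autoImplicit false
universe u
open EGA4

namespace Groth.Agent.S4733

open TensorProduct in
/-- For the property 'regular' (affine form): let k be a field, S a Noetherian k-algebra and k' an
extension field of k such that S is of finite type over k or k' is essentially of finite type over
k; let q' be a prime of S ⊗_k k' and q its contraction to S. If (S ⊗_k k')_{q'} is a regular local
ring then so is S_q; conversely, if k' is separable over k (geometrically reduced) and S_q is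
regular, then (S ⊗_k k')_{q'} is regular. -/
theorem result (k S k' : Type u) [Field k] [CommRing S] [Algebra k S]
    [IsNoetherianRing S] [Field k'] [Algebra k k'] (hft : Algebra.FiniteType k S ∨ Algebra.EssFiniteType k k')
    [IsNoetherianRing (S ⊗[k] k')] (q' : Ideal (S ⊗[k] k')) [q'.IsPrime] :
    (IsRegularLocalRing (Localization.AtPrime q') →
        IsRegularLocalRing (Localization.AtPrime (q'.comap (algebraMap S (S ⊗[k] k'))))) ∧
      (Algebra.IsGeometricallyReduced k k' →
        IsRegularLocalRing (Localization.AtPrime (q'.comap (algebraMap S (S ⊗[k] k')))) →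
          IsRegularLocalRing (Localization.AtPrime q')) := by
  refine ⟨fun h => GeomFieldLib.isRegularLocalRing_comap_of_flat q', fun hk h => ?_⟩
  haveI : IsNoetherianRing ((q'.comap (algebraMap S (S ⊗[k] k'))).Fiber (S ⊗[k] k')) :=
    EGA4Lib.forall_isCohenMacaulayRing_fiber_iff.isNoetherianRing_fiber S _
  obtain ⟨e⟩ := GeomFieldLib.nonempty_fiber_tensor k S k' (q'.comap (algebraMap S (S ⊗[k] k')))
  haveI : IsNoetherianRing ((q'.comap (algebraMap S (S ⊗[k] k'))).ResidueField ⊗[k] k') :=
    isNoetherianRing_of_ringEquiv _ e
  haveI := GeomFieldLib.isRegularRing_tensor_of_pi k k'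
    (fun L _ _ hf _ => GeomFieldLib.isGeometricallyRegular_of_geometricallyReduced k k' L hf)
    (q'.comap (algebraMap S (S ⊗[k] k'))).ResidueField
  haveI : IsRegularRing ((q'.comap (algebraMap S (S ⊗[k] k'))).Fiber (S ⊗[k] k')) :=
    IsRegularRing.of_ringEquiv (R := (q'.comap (algebraMap S (S ⊗[k] k'))).ResidueField ⊗[k] k') e.symm
  haveI := GeomFieldLib.isRegularLocalRing_fibLocRing_of_regular_fiber (A := S) q'
  exact EGA4Lib.isRegularLocalRing_of_regular_fibre (A := S) q' 

end Groth.Agent.S4733
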