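import Groth.Statements.S4734
import Groth.Agent.EGA4Lib.NormallyFlat

set_option autoImplicit false
universe u
open EGA4

namespace Groth.Agent.S4734

/-- Let A be a Noetherian ring, I a nilpotent ideal of A and M a finite A-module whose support is all of
Spec A and which is normally flat along I. Then for every prime p of A: M satisfies Serre's
condition (S_n) at p if and only if the A-module A/I does; and the codepth of M_p is at most n if
and only if the codepth of the A_p-module (A/I)_p is at most n (codepth written additively as dim ≤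
depth + n). -/
theorem result (n : ℕ) (A : Type u) [CommRing A] [IsNoetherianRing A]
    (I : Ideal A) (hI : IsNilpotent I) (M : Type u) [AddCommGroup M] [Module A M] [Module.Finite A M]
    (hsupp : Module.support A M = Set.univ) (hM : EGA4.IsNormallyFlat I M) (p : Ideal A) [p.IsPrime] :
    (EGA4.HasSkAt n A M p ↔ EGA4.HasSkAt n A (A ⧸ I) p) ∧
      (Module.supportDim (Localization.AtPrime p) (LocalizedModule p.primeCompl M) ≤
          ((LocCoh.depth (Localization.AtPrime p) (LocalizedModule p.primeCompl M) : ℕ∞) : WithBot ℕ∞) + n ↔
        Module.supportDim (Localization.AtPrime p) (LocalizedModule p.primeCompl (A ⧸ I)) ≤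
          ((LocCoh.depth (Localization.AtPrime p) (LocalizedModule p.primeCompl (A ⧸ I)) : ℕ∞) : WithBot ℕ∞) + n) := by
  obtain ⟨N, hN⟩ := id hI
  have hsI : Module.support A (A ⧸ I) = Set.univ := by
    rw [Module.support_eq_zeroLocus, Ideal.annihilator_quotient, Set.eq_univ_iff_forall]
    intro x a ha
    refine x.isPrime.mem_of_pow_mem N ?_
    have := Ideal.pow_mem_pow ha N
    rw [hN, Ideal.zero_eq_bot, Submodule.mem_bot] at this
    rw [this]; exact x.asIdeal.zero_mem
  have key : ∀ (q : Ideal A) [q.IsPrime],
      LocCoh.depth (Localization.AtPrime q) (LocalizedModule q.primeCompl M) =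
          LocCoh.depth (Localization.AtPrime q) (LocalizedModule q.primeCompl (A ⧸ I)) ∧
        Module.supportDim (Localization.AtPrime q) (LocalizedModule q.primeCompl M) =
          Module.supportDim (Localization.AtPrime q) (LocalizedModule q.primeCompl (A ⧸ I)) := by
    intro q _
    haveI : Nontrivial (LocalizedModule q.primeCompl M) :=
      (hsupp.symm ▸ Set.mem_univ (⟨q, inferInstance⟩ : PrimeSpectrum A) :
        (⟨q, inferInstance⟩ : PrimeSpectrum A) ∈ Module.support A M)
    refine ⟨Groth.Agent.EGA4Lib.NormallyFlat.depth_eq I M hI hM q, ?_⟩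
    rw [Groth.Agent.Dim.supportDim_atPrime, Groth.Agent.Dim.supportDim_atPrime, hsupp, hsI]
  refine ⟨?_, by rw [(key p).1, (key p).2]⟩
  rw [Groth.Agent.EGA4Lib.hasSkAt_iff, Groth.Agent.EGA4Lib.hasSkAt_iff]
  refine forall_congr' fun q => forall_congr' fun _ => forall_congr' fun _ => ?_
  rw [(key q).1, (key q).2]

end Groth.Agent.S4734
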