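import Groth.Statements.S4736
import Groth.Agent.EGA4Lib.FibreBC
import Mathlib.RingTheory.Localization.BaseChange

set_option linter.style.haveILetI false

set_option autoImplicit false
universe u
open EGA4

namespace Groth.Agent.S4736

/-- Let A → B be a regular homomorphism of Noetherian rings (flat, with geometrically regular fibres)
and S a multiplicative subset of A. Then the induced homomorphism S⁻¹A → S⁻¹B is regular. (S⁻¹A and
S⁻¹B are given here as arbitrary localizations at S and at its image.) -/
theorem result (A B : Type u) [CommRing A] [CommRing B] [IsNoetherianRing A] [IsNoetherianRing B]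
    [Algebra A B] (h : CAlg.IsRegularHom A B) (S : Submonoid A)
    (A' B' : Type u) [CommRing A'] [CommRing B'] [Algebra A A'] [Algebra B B'] [Algebra A' B'] [Algebra A B']
    [IsScalarTower A A' B'] [IsScalarTower A B B'] [IsLocalization S A']
    [IsLocalization (Algebra.algebraMapSubmonoid B S) B'] :
    CAlg.IsRegularHom A' B' := by
  haveI : Algebra.IsPushout A A' B B' := (Algebra.isPushout_of_isLocalization S A' B B').symm
  let e : B' ≃ₐ[A'] TensorProduct A A' B := (Algebra.IsPushout.equiv A A' B B').symm
  have hq := EGA4Lib.isQuotLike_of_isLocalization (A' := A') S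
  exact EGA4Lib.isRegularHom_baseChange hq e h

end Groth.Agent.S4736
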