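import Groth.Statements.S4738
import Groth.Agent.EGA4Lib.FibreBC

set_option autoImplicit false
universe u
open EGA4

namespace Groth.Agent.S4738

/-- For the property 'geometrically reduced', case of a local ring: if the formal fibres of a Noetherian
local ring A are geometrically reduced, then so are the formal fibres of A/I for every proper ideal
I of A. -/
theorem result (A : Type u) [CommRing A] [IsNoetherianRing A] [IsLocalRing A]
    (hA : EGA4.HasGeomReducedFormalFibres A) (I : Ideal A) [Nontrivial (A ⧸ I)] :
    EGA4.HasGeomReducedFormalFibres (A ⧸ I) := by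
  intro p _
  obtain ⟨e⟩ := EGA4Lib.nonempty_adicCompletion_quotient (IsLocalRing.maximalIdeal A) (A ⧸ I)
    Ideal.Quotient.mk_surjective (IsLocalRing.maximalIdeal (A ⧸ I))
    (IsLocalRing.map_maximalIdeal_of_surjective (Ideal.Quotient.mk I) Ideal.Quotient.mk_surjective).symm
  have h := EGA4Lib.isQuotLike_of_surjective (A := A) (A' := A ⧸ I) Ideal.Quotient.mk_surjective
  exact EGA4Lib.isGeometricallyReduced_fiber h e p (hA _)

end Groth.Agent.S4738
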