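import Groth.Statements.S4739
import Groth.Agent.Hensel.Completion

set_option autoImplicit false
universe u
open EGA4

namespace Groth.Agent.S4739

theorem sub_eq_of_unit {R : Type u} [CommRing R] {x u s a c d : R} (hx : x * s = u) (hd : c * d = 1) :
    x - a * d = d * (u - a) - x * d * (s - c) := by
  rw [← hx]; linear_combination -x * hd

open IsLocalRing in
theorem completion_equiv {R S : Type u} [CommRing R] [IsLocalRing R] [CommRing S] [IsLocalRing S]
    [IsNoetherianRing S] [Algebra R S] (hmax : (maximalIdeal R).map (algebraMap R S) = maximalIdeal S)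
    (hsurj : ∀ (n : ℕ) (s : S), ∃ r, s - algebraMap R S r ∈ (maximalIdeal R ^ n).map (algebraMap R S))
    (hinj : ∀ n : ℕ, ((maximalIdeal R ^ n).map (algebraMap R S)).comap (algebraMap R S) ≤ maximalIdeal R ^ n) :
    Nonempty (EGA4.Cpl R ≃+* EGA4.Cpl S) := by
  let T := AdicCompletion (maximalIdeal S) S
  have hT : (maximalIdeal R).map (algebraMap R T) = maximalIdeal T := by
    rw [IsScalarTower.algebraMap_eq R S T, ← Ideal.map_map, hmax, ← AdicCompletion.maximalIdeal_eq_map]
  haveI : IsAdicComplete ((maximalIdeal R).map (algebraMap R T)) T := by rw [hT]; infer_instance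
  haveI : Module.FaithfullyFlat S T := Module.FaithfullyFlat.of_flat_of_isLocalHom
  have hm : ∀ n, (maximalIdeal R ^ n).map (algebraMap R T) =
      ((maximalIdeal R ^ n).map (algebraMap R S)).map (algebraMap S T) := fun n => by
    rw [IsScalarTower.algebraMap_eq R S T, Ideal.map_map]
  obtain ⟨e⟩ := Groth.Agent.Hensel.nonempty_completion_equiv (maximalIdeal R) T (fun n c => by
    obtain ⟨y, hy⟩ := Submodule.mkQ_surjective _ (c.val n)
    obtain ⟨r, hr⟩ := hsurj n y
    refine ⟨r, ?_⟩
    have h1 : c - algebraMap S T y ∈ (maximalIdeal S ^ n).map (algebraMap S T) := by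
      rw [← Submodule.restrictScalars_mem S, ← Ideal.smul_top_eq_map,
        AdicCompletion.pow_smul_top_eq_ker_eval (IsNoetherian.noetherian _), LinearMap.mem_ker, map_sub,
        sub_eq_zero]
      exact hy.symm
    have e1 : (maximalIdeal S ^ n).map (algebraMap S T) = (maximalIdeal R ^ n).map (algebraMap R T) := by
      rw [hm, Ideal.map_pow (algebraMap R S)]
      exact congrArg (fun I : Ideal S => (I ^ n).map (algebraMap S T)) hmax.symm
    rw [e1] at h1
    have h2 := Ideal.mem_map_of_mem (algebraMap S T) hr
    rw [← hm, map_sub, ← IsScalarTower.algebraMap_apply] at h2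
    simpa using add_mem h1 h2) (fun n x hx => hinj n (by
      rw [Ideal.mem_comap, hm, IsScalarTower.algebraMap_apply R S T, ← Ideal.mem_comap,
        Ideal.comap_map_eq_self_of_faithfullyFlat] at hx
      exact hx))
  exact ⟨e.toRingEquiv⟩


open TensorProduct in
/-- Let A → B be a local homomorphism of Noetherian local rings and Â the completion of A, and suppose
B' = B ⊗_A Â is Noetherian. Then for every prime ideal n' of B' lying over the maximal ideal of B
and containing the image of the maximal ideal of A through Â (that is, lying over the maximal ideal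
m_A Â of Â), the completion of B and the completion of the local ring B'_{n'} are isomorphic
(existence of a ring isomorphism only). -/
theorem result (A B : Type u) [CommRing A] [CommRing B] [IsNoetherianRing A]
    [IsNoetherianRing B] [IsLocalRing A] [IsLocalRing B] [Algebra A B] [IsLocalHom (algebraMap A B)]
    [IsNoetherianRing (B ⊗[A] EGA4.Cpl A)] (n' : Ideal (B ⊗[A] EGA4.Cpl A)) [n'.IsPrime]
    (h1 : n'.comap (algebraMap B (B ⊗[A] EGA4.Cpl A)) = IsLocalRing.maximalIdeal B)
    (h2 : (IsLocalRing.maximalIdeal A).map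
        ((Algebra.TensorProduct.includeRight.toRingHom : EGA4.Cpl A →+* B ⊗[A] EGA4.Cpl A).comp
          (algebraMap A (EGA4.Cpl A))) ≤ n') :
    Nonempty (EGA4.Cpl B ≃+* EGA4.Cpl (Localization.AtPrime n')) := by
  classical
  let B' := B ⊗[A] EGA4.Cpl A
  let mA := IsLocalRing.maximalIdeal A
  let m := IsLocalRing.maximalIdeal B
  have hmAB : ∀ n : ℕ, (mA ^ n).map (algebraMap A B) ≤ m ^ n := fun n => by
    rw [Ideal.map_pow]
    exact Ideal.pow_right_mono (((IsLocalRing.local_hom_TFAE (algebraMap A B)).out 0 2 rfl rfl).mp ‹_›) n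
  have hdense : ∀ (n : ℕ) (z : B'), ∃ b, z - algebraMap B B' b ∈ (m ^ n).map (algebraMap B B') := by
    intro n z
    induction z using TensorProduct.induction_on with
    | zero => exact ⟨0, by simp⟩
    | add x y hx hy =>
      obtain ⟨a, ha⟩ := hx
      obtain ⟨b, hb⟩ := hy
      exact ⟨a + b, by rw [map_add, add_sub_add_comm]; exact add_mem ha hb⟩
    | tmul b x =>
      obtain ⟨y, hy⟩ := Submodule.mkQ_surjective _ (x.val n)
      refine ⟨b * algebraMap A B y, ?_⟩
      have h3 : x - algebraMap A (EGA4.Cpl A) y ∈ (mA ^ n).map (algebraMap A (EGA4.Cpl A)) := by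
        rw [← Submodule.restrictScalars_mem A, ← Ideal.smul_top_eq_map,
          AdicCompletion.pow_smul_top_eq_ker_eval (IsNoetherian.noetherian _), LinearMap.mem_ker, map_sub,
          sub_eq_zero]
        exact hy.symm
      have h4 := Ideal.mem_map_of_mem (Algebra.TensorProduct.includeRight : EGA4.Cpl A →ₐ[A] B').toRingHom h3
      have e2 : (Algebra.TensorProduct.includeRight : EGA4.Cpl A →ₐ[A] B').toRingHom.comp
          (algebraMap A (EGA4.Cpl A)) = (algebraMap B B').comp (algebraMap A B) := by
        rw [← IsScalarTower.algebraMap_eq A B B']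
        exact RingHom.ext fun a => (Algebra.TensorProduct.includeRight : EGA4.Cpl A →ₐ[A] B').commutes a
      erw [Ideal.map_map, e2, ← Ideal.map_map] at h4
      have h5 := Ideal.map_mono (f := algebraMap B B') (hmAB n) h4
      have h6 := Ideal.mul_mem_left _ (algebraMap B B' b) h5
      convert h6 using 1
      rw [map_mul (algebraMap B B'), ← IsScalarTower.algebraMap_apply A B B', map_sub, mul_sub]
      congr 1
      · simp [B', Algebra.TensorProduct.tmul_mul_tmul]
      · congr 1
        exact (AlgHom.commutes _ y).symm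
  have hn' : (IsLocalRing.maximalIdeal B).map (algebraMap B B') = n' := by
    refine le_antisymm (Ideal.map_le_iff_le_comap.2 h1.ge) fun z hz => ?_
    obtain ⟨b, hb⟩ := hdense 1 z
    rw [pow_one] at hb
    have h3 : algebraMap B B' b ∈ n' := by
      have := sub_mem hz (Ideal.map_le_iff_le_comap.2 h1.ge hb)
      simpa using this
    have h4 : b ∈ m := h1.le h3
    simpa using add_mem hb (Ideal.mem_map_of_mem (algebraMap B B') h4)
  let L := Localization.AtPrime n'
  haveI : IsNoetherianRing L := IsLocalization.isNoetherianRing n'.primeCompl L inferInstance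
  have hmax : (IsLocalRing.maximalIdeal B).map (algebraMap B L) = IsLocalRing.maximalIdeal L := by
    rw [IsScalarTower.algebraMap_eq B B' L, ← Ideal.map_map, hn']
    exact Localization.AtPrime.map_eq_maximalIdeal
  have hr : ∀ n : ℕ, ∃ r : B' →+* B ⧸ m ^ n, r.comp (algebraMap B B') = Ideal.Quotient.mk (m ^ n) := fun n => by
    refine ⟨(Algebra.TensorProduct.lift (Ideal.Quotient.mkₐ A (m ^ n))
      (({ Ideal.quotientMap (m ^ n) (algebraMap A B) (Ideal.map_le_iff_le_comap.1 (hmAB n)) with
          commutes' := fun a => rfl } : A ⧸ mA ^ n →ₐ[A] B ⧸ m ^ n).comp (AdicCompletion.evalₐ mA n))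
      fun _ _ => Commute.all _ _).toRingHom, ?_⟩
    ext b
    simp [B']
  choose r hr using hr
  have hunit : ∀ (n : ℕ) (s : n'.primeCompl), IsUnit (r n s) := by
    intro n s
    rcases n with _ | n
    · haveI : Subsingleton (B ⧸ m ^ 0) := by
        rw [pow_zero, Ideal.one_eq_top]; exact Ideal.Quotient.subsingleton_iff.2 rfl
      exact isUnit_of_subsingleton _
    obtain ⟨b, hb⟩ := hdense (n + 1) s
    have h3 : r (n + 1) (s - algebraMap B B' b) = 0 := by
      have := Ideal.mem_map_of_mem (r (n + 1)) hb
      rw [Ideal.map_map, hr, Ideal.map_quotient_self] at this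
      exact this
    rw [map_sub, sub_eq_zero] at h3
    rw [h3, show r (n + 1) (algebraMap B B' b) = Ideal.Quotient.mk _ b from RingHom.congr_fun (hr _) b]
    refine IsUnit.map _ (IsLocalRing.notMem_maximalIdeal.1 fun hb' => s.2 (hn'.le ?_))
    have h5 : (s : B') - algebraMap B B' b ∈ m.map (algebraMap B B') :=
      Ideal.map_mono (Ideal.pow_le_self n.succ_ne_zero) hb
    simpa using add_mem h5 (Ideal.mem_map_of_mem (algebraMap B B') hb')
  refine completion_equiv hmax (fun n x => ?_) fun n b hb => ?_
  · obtain ⟨u, s, rfl⟩ := IsLocalization.exists_mk'_eq n'.primeCompl x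
    rcases n with _ | n
    · exact ⟨0, by simp [Ideal.map_top]⟩
    obtain ⟨a, ha⟩ := hdense (n + 1) u
    obtain ⟨c, hc⟩ := hdense (n + 1) s
    have hcu : IsUnit c := IsLocalRing.notMem_maximalIdeal.1 fun hb' => s.2 (hn'.le (by
      have h5 : (s : B') - algebraMap B B' c ∈ m.map (algebraMap B B') :=
        Ideal.map_mono (Ideal.pow_le_self n.succ_ne_zero) hc
      simpa using add_mem h5 (Ideal.mem_map_of_mem (algebraMap B B') hb')))
    obtain ⟨d, hd⟩ := hcu.exists_right_inv
    refine ⟨a * d, ?_⟩
    set J := (m ^ (n + 1)).map (algebraMap B L)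
    have hJ : J = ((m ^ (n + 1)).map (algebraMap B B')).map (algebraMap B' L) := by
      rw [Ideal.map_map, ← IsScalarTower.algebraMap_eq]
    have hu := Ideal.mem_map_of_mem (algebraMap B' L) ha
    have hs := Ideal.mem_map_of_mem (algebraMap B' L) hc
    rw [← hJ, map_sub, ← IsScalarTower.algebraMap_apply] at hu hs
    have hx := IsLocalization.mk'_spec L u s
    generalize IsLocalization.mk' L u s = x at hx ⊢
    have e : x - algebraMap B L (a * d) = algebraMap B L d * (algebraMap B' L u - algebraMap B L a)
        - x * algebraMap B L d * (algebraMap B' L s - algebraMap B L c) := by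
      have hd' : algebraMap B L c * algebraMap B L d = 1 := by rw [← map_mul, hd, map_one]
      rw [map_mul]
      exact sub_eq_of_unit (R := L) hx ((map_mul (algebraMap B L) c d).symm.trans (by rw [hd]; exact map_one _))
    rw [e]
    exact sub_mem (J.mul_mem_left _ hu) (J.mul_mem_left _ hs)
  · let π : L →+* B ⧸ m ^ n := IsLocalization.lift (hunit n)
    have hπ : π.comp (algebraMap B L) = Ideal.Quotient.mk (m ^ n) := by
      rw [IsScalarTower.algebraMap_eq B B' L, ← RingHom.comp_assoc, IsLocalization.lift_comp, hr]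
    have := Ideal.mem_map_of_mem π (Ideal.mem_comap.1 hb)
    rw [Ideal.map_map, hπ, Ideal.map_quotient_self, ← RingHom.comp_apply, hπ] at this
    exact Ideal.Quotient.eq_zero_iff_mem.1 this

end Groth.Agent.S4739
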