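import Groth.Statements.S4740
import Groth.Agent.CTens.SemiLocal
-- import your own Groth.Agent.* helpers here

set_option autoImplicit false
universe u
attribute [local instance] Algebra.TensorProduct.rightAlgebra
open EGA4

namespace Groth.Agent.S4740

open TensorProduct in
/-- Let k be a field and A, B complete Noetherian local rings containing k, the residue field of A being
a finite extension of k; let C be the completed tensor product of A and B over k (the completion of
A ⊗_k B at the ideal m_A ⊗ B + A ⊗ m_B). Then (i) C is Noetherian with finitely many maximal ideals;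
(ii) C is flat over A and over B; (iii) m_A C is contained in the Jacobson radical of C and C/m_A C
is isomorphic to (A/m_A) ⊗_k B; (iv) the residue field of C at each of its maximal ideals is a
finite B-module. (Completeness of C, also asserted in the published item, is not restated; the
isomorphism in (iii) is asserted to exist only.) -/
theorem result (k A B : Type u) [Field k] [CommRing A] [CommRing B] [Algebra k A] [Algebra k B]
    [IsNoetherianRing A] [IsNoetherianRing B] [IsLocalRing A] [IsLocalRing B]
    [IsAdicComplete (IsLocalRing.maximalIdeal A) A] [IsAdicComplete (IsLocalRing.maximalIdeal B) B]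
    [Module.Finite k (IsLocalRing.ResidueField A)] :
    (IsNoetherianRing (EGA4.CTensor k A B) ∧ (Set.univ : Set (MaximalSpectrum (EGA4.CTensor k A B))).Finite) ∧
      (Module.Flat A (EGA4.CTensor k A B) ∧ Module.Flat B (EGA4.CTensor k A B)) ∧
      ((IsLocalRing.maximalIdeal A).map (algebraMap A (EGA4.CTensor k A B)) ≤ (⊥ : Ideal (EGA4.CTensor k A B)).jacobson ∧
        Nonempty ((EGA4.CTensor k A B ⧸ (IsLocalRing.maximalIdeal A).map (algebraMap A (EGA4.CTensor k A B))) ≃+*
          ((A ⧸ IsLocalRing.maximalIdeal A) ⊗[k] B))) ∧
      (∀ (M : Ideal (EGA4.CTensor k A B)) [M.IsMaximal], Module.Finite B (EGA4.CTensor k A B ⧸ M)) := by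
  haveI := Groth.Agent.CTens.finite_maximalSpectrum_cTensor k A B
  exact ⟨⟨Groth.Agent.CTens.isNoetherianRing_cTensor k A B, Set.finite_univ⟩, ⟨Groth.Agent.CTens.flat_left k A B, Groth.Agent.CTens.flat_right k A B⟩, ⟨Groth.Agent.CTens.map_maximalIdeal_le_jacobson k A B, Groth.Agent.CTens.nonempty_quotient_equiv k A B⟩, fun M _ => Groth.Agent.CTens.finite_quotient_right k A B M⟩

end Groth.Agent.S4740
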