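import Groth.Statements.S4741
import Groth.Agent.Dim.LocalHom
import Mathlib.AlgebraicGeometry.Morphisms.Flat
import Mathlib.AlgebraicGeometry.Noetherian
-- import your own Groth.Agent.* helpers here

set_option autoImplicit false
universe u
open EGA4

namespace Groth.Agent.S4741

open AlgebraicGeometry IsLocalRing CategoryTheory

variable {X Y : Scheme.{u}} (f : X ⟶ Y)

theorem comap_stalkMap_eq_maximalIdeal {x : X} (q : Spec (X.presheaf.stalk x))
    (h : f (X.fromSpecStalk x q) = f x) :
    q.asIdeal.comap (f.stalkMap x).hom = maximalIdeal (Y.presheaf.stalk (f x)) := by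
  have he : Y.fromSpecStalk (f x) (Spec.map (f.stalkMap x) q) =
      Y.fromSpecStalk (f x) (closedPoint (Y.presheaf.stalk (f x))) := by
    rw [Scheme.fromSpecStalk_closedPoint, ← Scheme.Hom.comp_apply,
      Scheme.SpecMap_stalkMap_fromSpecStalk, Scheme.Hom.comp_apply, h]
  exact congrArg PrimeSpectrum.asIdeal ((Y.fromSpecStalk (f x)).isEmbedding.injective he)

theorem eq_maximalIdeal_of_eq {x : X} (q : Spec (X.presheaf.stalk x))
    (h : X.fromSpecStalk x q = x) : q.asIdeal = maximalIdeal (X.presheaf.stalk x) := by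
  have he : X.fromSpecStalk x q = X.fromSpecStalk x (closedPoint (X.presheaf.stalk x)) := by
    rw [Scheme.fromSpecStalk_closedPoint, h]
  exact congrArg PrimeSpectrum.asIdeal ((X.fromSpecStalk x).isEmbedding.injective he)

theorem exists_minimal_over (x₀ : X) :
    ∃ x : X, f x = f x₀ ∧ ∀ z : X, z ⤳ x → f z = f x → z = x := by
  let J := (maximalIdeal (Y.presheaf.stalk (f x₀))).map (f.stalkMap x₀).hom
  obtain ⟨Q, hQ, -⟩ := Ideal.exists_minimalPrimes_le (map_maximalIdeal_le (f.stalkMap x₀).hom :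
    J ≤ maximalIdeal _)
  let Qp : Spec (X.presheaf.stalk x₀) := ⟨Q, hQ.1.1⟩
  have hQy : f (X.fromSpecStalk x₀ Qp) = f x₀ := by
    rw [← Scheme.Hom.comp_apply, ← Scheme.SpecMap_stalkMap_fromSpecStalk, Scheme.Hom.comp_apply]
    have : Spec.map (f.stalkMap x₀) Qp = closedPoint (Y.presheaf.stalk (f x₀)) :=
      PrimeSpectrum.ext (((maximalIdeal.isMaximal _).eq_of_le (hQ.1.1.comap _).ne_top
        (Ideal.map_le_iff_le_comap.mp hQ.1.2)).symm)
    rw [this, Scheme.fromSpecStalk_closedPoint]
  refine ⟨X.fromSpecStalk x₀ Qp, hQy, fun z hz hfz => ?_⟩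
  have hzr : z ∈ Set.range (X.fromSpecStalk x₀) := by
    rw [Scheme.range_fromSpecStalk]
    have h2 : X.fromSpecStalk x₀ Qp ∈ Set.range (X.fromSpecStalk x₀) := ⟨Qp, rfl⟩
    rw [Scheme.range_fromSpecStalk] at h2
    exact hz.trans h2
  obtain ⟨q, rfl⟩ := hzr
  have hle : q.asIdeal ≤ Q :=
    (PrimeSpectrum.le_iff_specializes q Qp).mpr
      ((X.fromSpecStalk x₀).isEmbedding.isInducing.specializes_iff.mp hz)
  have hJ : J ≤ q.asIdeal := by
    rw [Ideal.map_le_iff_le_comap, comap_stalkMap_eq_maximalIdeal f q (hfz.trans hQy)]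
  rw [show q = Qp from PrimeSpectrum.ext (le_antisymm hle (hQ.2 ⟨q.2, hJ⟩ hle))]

theorem ringKrullDim_stalk_le [IsLocallyNoetherian X] [IsLocallyNoetherian Y] (x : X)
    (hmin : ∀ z : X, z ⤳ x → f z = f x → z = x) :
    ringKrullDim (X.presheaf.stalk x) ≤ ringKrullDim (Y.presheaf.stalk (f x)) := by
  algebraize [(f.stalkMap x).hom]
  haveI : IsLocalHom (algebraMap (Y.presheaf.stalk (f x)) (X.presheaf.stalk x)) := by
    rw [RingHom.algebraMap_toAlgebra]; infer_instance
  refine (Dim.ringKrullDim_le_add_fibre (Y.presheaf.stalk (f x)) (X.presheaf.stalk x)).trans ?_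
  haveI : Ring.KrullDimLE 0 (X.presheaf.stalk x ⧸
      (maximalIdeal (Y.presheaf.stalk (f x))).map (algebraMap _ (X.presheaf.stalk x))) := by
    refine Ring.KrullDimLE.mk₀ fun P hP => ?_
    let q : Spec (X.presheaf.stalk x) := ⟨P.comap (Ideal.Quotient.mk _), hP.comap _⟩
    have hq : (maximalIdeal (Y.presheaf.stalk (f x))).map (algebraMap _ (X.presheaf.stalk x)) ≤ q.asIdeal :=
      fun a ha => by
        show Ideal.Quotient.mk _ a ∈ P
        rw [Ideal.Quotient.eq_zero_iff_mem.mpr ha]
        exact P.zero_mem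
    have hfq : f (X.fromSpecStalk x q) = f x := by
      rw [← Scheme.Hom.comp_apply, ← Scheme.SpecMap_stalkMap_fromSpecStalk, Scheme.Hom.comp_apply]
      have : Spec.map (f.stalkMap x) q = closedPoint (Y.presheaf.stalk (f x)) :=
        PrimeSpectrum.ext (((maximalIdeal.isMaximal _).eq_of_le (q.2.comap _).ne_top
          (Ideal.map_le_iff_le_comap.mp hq)).symm)
      rw [this, Scheme.fromSpecStalk_closedPoint]
    have hspec : X.fromSpecStalk x q ⤳ x := by
      have h : X.fromSpecStalk x q ∈ Set.range (X.fromSpecStalk x) := ⟨q, rfl⟩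
      rwa [Scheme.range_fromSpecStalk] at h
    have hmax := eq_maximalIdeal_of_eq q (hmin _ hspec hfq)
    haveI : (P.comap (Ideal.Quotient.mk
      ((maximalIdeal (Y.presheaf.stalk (f x))).map (algebraMap _ (X.presheaf.stalk x))))).IsMaximal := by
      change q.asIdeal.IsMaximal
      rw [hmax]; infer_instance
    rw [← Ideal.map_comap_of_surjective _ Ideal.Quotient.mk_surjective P]
    exact (Ideal.map_eq_top_or_isMaximal_of_surjective _ Ideal.Quotient.mk_surjective this).resolve_left
      fun h => hP.ne_top (by rwa [Ideal.map_comap_of_surjective _ Ideal.Quotient.mk_surjective] at h)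
  exact (add_le_add_right (Ring.krullDimLE_iff.mp inferInstance) _).trans_eq (add_zero _)

theorem le_ringKrullDim_stalk [IsLocallyNoetherian X] [IsLocallyNoetherian Y] [Flat f] (x : X) :
    ringKrullDim (Y.presheaf.stalk (f x)) ≤ ringKrullDim (X.presheaf.stalk x) := by
  algebraize [(f.stalkMap x).hom]
  haveI : IsLocalHom (algebraMap (Y.presheaf.stalk (f x)) (X.presheaf.stalk x)) := by
    rw [RingHom.algebraMap_toAlgebra]; infer_instance
  haveI : Module.Flat (Y.presheaf.stalk (f x)) (X.presheaf.stalk x) := Flat.stalkMap f x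
  rw [Dim.ringKrullDim_eq_add_fibre (Y.presheaf.stalk (f x)) (X.presheaf.stalk x)]
  haveI : Nontrivial (X.presheaf.stalk x ⧸
      (maximalIdeal (Y.presheaf.stalk (f x))).map (algebraMap _ (X.presheaf.stalk x))) :=
    Ideal.Quotient.nontrivial_iff.2 (ne_top_of_le_ne_top (Ideal.IsPrime.ne_top')
      (map_maximalIdeal_le (algebraMap _ (X.presheaf.stalk x))))
  exact (add_zero _).symm.trans_le (add_le_add_right ringKrullDim_nonneg_of_nontrivial _)


open AlgebraicGeometry CategoryTheory in
/-- Suppose X and Y are locally Noetherian schemes, f : X → Y is a morphism that is surjective, and Z is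
a closed subset of Y. Then codim(f⁻¹(Z), X) ≤ codim(Z, Y), where the codimension of a closed subset
means the infimum over its points of the dimensions of the local rings there; when f is in addition
flat, these two codimensions coincide. (In the published version the equality part assumes f
quasi-flat; here f is taken to be flat.) -/
theorem result {X Y : Scheme.{u}} (f : X ⟶ Y) [IsLocallyNoetherian X]
    [IsLocallyNoetherian Y] (hf : Function.Surjective f.base) (Z : Set Y) (hZ : IsClosed Z) :
    (⨅ x ∈ f.base ⁻¹' Z, ringKrullDim (X.presheaf.stalk x)) ≤ ⨅ y ∈ Z, ringKrullDim (Y.presheaf.stalk y) ∧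
      (Flat f → (⨅ x ∈ f.base ⁻¹' Z, ringKrullDim (X.presheaf.stalk x)) = ⨅ y ∈ Z, ringKrullDim (Y.presheaf.stalk y)) := by
  have hle : (⨅ x ∈ f.base ⁻¹' Z, ringKrullDim (X.presheaf.stalk x)) ≤
      ⨅ y ∈ Z, ringKrullDim (Y.presheaf.stalk y) := by
    refine le_iInf₂ fun y hy => ?_
    obtain ⟨x₀, rfl⟩ := hf y
    obtain ⟨x, hx, hmin⟩ := exists_minimal_over f x₀
    refine (iInf₂_le x (show f x ∈ Z by rw [hx]; exact hy)).trans ?_
    refine (ringKrullDim_stalk_le f x hmin).trans_eq ?_
    rw [hx]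
  refine ⟨hle, fun hflat => le_antisymm hle ?_⟩
  exact le_iInf₂ fun x hx => (iInf₂_le (f x) hx).trans (le_ringKrullDim_stalk f x)

end Groth.Agent.S4741
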