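import Groth.Statements.S4743
import Groth.Agent.EGA4Lib.FiniteDomains

set_option autoImplicit false
universe u
open EGA4

namespace Groth.Agent.S4743

open TensorProduct in
/-- For the property 'geometrically reduced', case of a local ring: let A be a Noetherian local ring
with completion Â. Then the formal fibres of A are geometrically reduced if and only if, for every
finite A-algebra B which is a domain and every prime ideal q of B ⊗_A Â whose contraction to B is
zero, the local ring of B ⊗_A Â at q is reduced. (The published statement is for semi-local rings;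
this row takes A local.) -/
theorem result (A : Type u) [CommRing A] [IsNoetherianRing A]
    [IsLocalRing A] :
    EGA4.HasGeomReducedFormalFibres A ↔
      ∀ (B : Type u) [CommRing B] [IsDomain B] [Algebra A B] [Module.Finite A B]
        (q : Ideal (B ⊗[A] EGA4.Cpl A)) [q.IsPrime],
        q.comap (algebraMap B (B ⊗[A] EGA4.Cpl A)) = ⊥ → IsReduced (Localization.AtPrime q) := by
  haveI : IsNoetherianRing (EGA4.Cpl A) := RegLoc.Completion.isNoetherianRing_adicCompletion' _
  haveI : Module.Flat A (EGA4.Cpl A) := inferInstanceAs (Module.Flat A (AdicCompletion _ A))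
  refine ⟨fun h B _ _ _ _ q _ _ => ?_, fun h p _ => EGA4Lib.isGeometricallyReduced_of_finite _ _ fun K _ _ hfin => ?_⟩
  · haveI : IsNoetherianRing B := IsNoetherianRing.of_finite A B
    haveI := EGA4Lib.isReduced_tensor_of_isGeometricallyReduced (B := A) (C := EGA4.Cpl A) h B
    infer_instance
  · letI : Algebra A K := ((algebraMap p.ResidueField K).comp (algebraMap A p.ResidueField)).toAlgebra
    haveI : IsScalarTower A p.ResidueField K := IsScalarTower.of_algebraMap_eq fun _ => rfl
    haveI := hfin
    obtain ⟨B, hB, hfrac⟩ := EGA4Lib.exists_finite_domain p K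
    haveI : IsReduced (K ⊗[A] EGA4.Cpl A) := isReduced_ofLocalizationMaximal _ fun Q _ => by
      obtain ⟨q, hq, hq0, ⟨e⟩⟩ := (EGA4Lib.forall_prime_generic (A := A) (B := B) (K := K)
        (C := EGA4.Cpl A)).1 Q
      haveI := h B q hq0
      exact isReduced_of_injective e.symm.toRingHom e.symm.injective
    exact isReduced_of_injective
      (Algebra.TensorProduct.cancelBaseChange A p.ResidueField K K (EGA4.Cpl A)).toRingEquiv.toRingHom
      (RingEquiv.injective _)

end Groth.Agent.S4743
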