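import Groth.Statements.S4744
import Groth.Agent.EGA4Lib.HomToLocal
import Groth.Agent.GeomFieldLib.CMTensor

set_option autoImplicit false
universe u
open EGA4

namespace Groth.Agent.S4744

/-- Let A → A' be a flat local homomorphism of Noetherian local rings all of whose fibre rings k(p) ⊗_A
A' are Cohen–Macaulay. If the completion map of A' is regular (the formal fibres of A' are
geometrically regular), then the formal fibres of A are Cohen–Macaulay. -/
theorem result (A A' : Type u) [CommRing A] [CommRing A'] [IsNoetherianRing A]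
    [IsNoetherianRing A'] [IsLocalRing A] [IsLocalRing A'] [Algebra A A'] [IsLocalHom (algebraMap A A')]
    [Module.Flat A A'] (hf : ∀ (p : Ideal A) [p.IsPrime], LocCoh.IsCohenMacaulayRing (p.Fiber A'))
    (hA' : CAlg.IsRegularHom A' (EGA4.Cpl A')) : EGA4.HasCMFormalFibres A := by
  obtain ⟨_, _, _⟩ := EGA4Lib.exists_faithfullyFlat_cpl A A'
  haveI : IsNoetherianRing (EGA4.Cpl A) := RegLoc.Completion.isNoetherianRing_adicCompletion' _
  haveI : IsNoetherianRing (EGA4.Cpl A') := RegLoc.Completion.isNoetherianRing_adicCompletion' _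
  haveI := hA'.1
  have h := EGA4Lib.isCohenMacaulayRing_fiber_comp A A' (C := EGA4.Cpl A') hf fun q _ => by
    haveI := EGA4Lib.isRegularRing_of_isGeometricallyRegular q.ResidueField (q.Fiber (EGA4.Cpl A')) (hA'.2 q).2
    exact GeomFieldLib.isCohenMacaulayRing_of_isRegularRing _
  exact EGA4Lib.isCohenMacaulayRing_fiber_of_comp A (EGA4.Cpl A) (C := EGA4.Cpl A') h

end Groth.Agent.S4744
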