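import Groth.Statements.S4747
import Groth.Agent.EGA4Lib.FibresCpl
import Groth.Agent.GeomFieldLib.Main

set_option autoImplicit false
universe u
open EGA4

namespace Groth.Agent.S4747

open TensorProduct


open TensorProduct in
/-- For the property 'Cohen–Macaulay': let A → B be a local homomorphism of Noetherian local rings
making B a flat A-module, such that the residue field of B is a finite extension of the residue
field k of A, and such that the formal fibres of A are Cohen–Macaulay. If for every finite extension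
k' of k the ring k' ⊗_k (k ⊗_A B̂) is Cohen–Macaulay (B̂ the completion of B), then for every prime
p of A and every finite extension K of k(p) the ring K ⊗_{k(p)} (k(p) ⊗_A B) is Cohen–Macaulay; in
particular all fibres of A → B are Cohen–Macaulay. -/
theorem result (A B : Type u) [CommRing A] [CommRing B]
    [IsNoetherianRing A] [IsNoetherianRing B] [IsLocalRing A] [IsLocalRing B] [Algebra A B]
    [IsLocalHom (algebraMap A B)] [Module.Flat A B]
    [Module.Finite (IsLocalRing.ResidueField A) (IsLocalRing.ResidueField B)]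
    (hA : EGA4.HasCMFormalFibres A)
    (h : ∀ (k' : Type u) [Field k'] [Algebra (IsLocalRing.maximalIdeal A).ResidueField k'],
      Module.Finite (IsLocalRing.maximalIdeal A).ResidueField k' →
        LocCoh.IsCohenMacaulayRing (k' ⊗[(IsLocalRing.maximalIdeal A).ResidueField]
          ((IsLocalRing.maximalIdeal A).Fiber (EGA4.Cpl B)))) :
    ∀ (p : Ideal A) [p.IsPrime] (K : Type u) [Field K] [Algebra p.ResidueField K],
      Module.Finite p.ResidueField K → LocCoh.IsCohenMacaulayRing (K ⊗[p.ResidueField] (p.Fiber B)) := by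
  obtain ⟨_, _, _⟩ := EGA4Lib.exists_algebra_cpl A B
  haveI : IsNoetherianRing (EGA4.Cpl A) := RegLoc.Completion.isNoetherianRing_adicCompletion' _
  haveI : IsNoetherianRing (EGA4.Cpl B) := RegLoc.Completion.isNoetherianRing_adicCompletion' _
  haveI : Module.Flat (EGA4.Cpl A) (EGA4.Cpl B) := EGA4Lib.flat_cpl A B
  haveI : Module.FaithfullyFlat B (EGA4.Cpl B) :=
    Module.FaithfullyFlat.of_flat_of_isLocalHom (A := B) (B := AdicCompletion (IsLocalRing.maximalIdeal B) B)
  intro p _ K _ _ hK
  haveI := hK
  letI : Algebra A K := ((algebraMap p.ResidueField K).comp (algebraMap A p.ResidueField)).toAlgebra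
  haveI : IsScalarTower A p.ResidueField K := IsScalarTower.of_algebraMap_eq fun _ => rfl
  haveI : Algebra.EssFiniteType A K := Algebra.EssFiniteType.comp A p.ResidueField K
  let U := EGA4.Cpl A ⊗[A] K
  let eU := (Algebra.TensorProduct.cancelBaseChange A p.ResidueField K K (EGA4.Cpl A)).toRingEquiv.trans
    (Algebra.TensorProduct.comm A K (EGA4.Cpl A)).toRingEquiv
  have hU : LocCoh.IsCohenMacaulayRing U := GeomFieldLib.isCohenMacaulayRing_of_ringEquiv eU
    (GeomFieldLib.isCohenMacaulayRing_tensor_fg p.ResidueField K (p.Fiber (EGA4.Cpl A)) (hA p))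
  haveI : IsNoetherianRing U := (haveI := hU; inferInstance)
  obtain ⟨t⟩ := EGA4Lib.nonempty_tensor_tower A (B := EGA4.Cpl A) (C := EGA4.Cpl B) K
  haveI : IsNoetherianRing (U ⊗[EGA4.Cpl A] EGA4.Cpl B) := by
    haveI : IsNoetherianRing (p.Fiber (EGA4.Cpl B)) :=
      EGA4Lib.forall_isCohenMacaulayRing_fiber_iff.isNoetherianRing_fiber A p
    haveI := GeomFieldLib.isNoetherianRing_tensor_finite p.ResidueField K (p.Fiber (EGA4.Cpl B))
    exact isNoetherianRing_of_ringEquiv _
      ((Algebra.TensorProduct.cancelBaseChange A p.ResidueField K K (EGA4.Cpl B)).toRingEquiv.trans t.symm)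
  have hV : LocCoh.IsCohenMacaulayRing (U ⊗[EGA4.Cpl A] EGA4.Cpl B) :=
    EGA4Lib.isCohenMacaulayRing_tensor_of_fibres (EGA4.Cpl A) U (EGA4.Cpl B) hU fun q _ =>
      GeomFieldLib.isCohenMacaulayRing_of_ringEquiv
        (Algebra.TensorProduct.lid q.ResidueField (q.Fiber (EGA4.Cpl B))).toRingEquiv
        (EGA4Lib.property_fibres_cpl EGA4Lib.liftingProperty_isCohenMacaulayRing A B h q q.ResidueField
          inferInstance)
  obtain ⟨s⟩ := EGA4Lib.nonempty_tensor_tower A (B := B) (C := EGA4.Cpl B) K
  let eB := (Algebra.TensorProduct.cancelBaseChange A p.ResidueField K K B).toRingEquiv.trans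
    (Algebra.TensorProduct.comm A K B).toRingEquiv
  haveI : IsNoetherianRing (B ⊗[A] K) := by
    haveI : IsNoetherianRing (p.Fiber B) :=
      EGA4Lib.forall_isCohenMacaulayRing_fiber_iff.isNoetherianRing_fiber A p
    haveI := GeomFieldLib.isNoetherianRing_tensor_finite p.ResidueField K (p.Fiber B)
    exact isNoetherianRing_of_ringEquiv _ eB
  exact GeomFieldLib.isCohenMacaulayRing_of_ringEquiv eB.symm
    (GeomFieldLib.isCohenMacaulayRing_of_faithfullyFlat (B ⊗[A] K) ((B ⊗[A] K) ⊗[B] EGA4.Cpl B)
      (GeomFieldLib.isCohenMacaulayRing_of_ringEquiv (t.trans s.symm) hV))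

end Groth.Agent.S4747
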