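import Groth.Statements.S4748
import Groth.Agent.GeomFieldLib.LocalDescent
import Groth.Agent.S2611

set_option autoImplicit false
universe u
open EGA4

namespace Groth.Agent.S4748

open TensorProduct in
/-- For the property 'normal' (affine form): let k be a field, S a Noetherian k-algebra and k' an
extension field of k such that S is of finite type over k or k' is essentially of finite type over
k; let q' be a prime of S ⊗_k k' and q its contraction to S. If (S ⊗_k k')_{q'} is an integrally
closed domain then so is S_q; conversely, if k' is separable over k (geometrically reduced) and S_q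
is an integrally closed domain, then so is (S ⊗_k k')_{q'}. -/
theorem result (k S k' : Type u) [Field k] [CommRing S] [Algebra k S]
    [IsNoetherianRing S] [Field k'] [Algebra k k'] (hft : Algebra.FiniteType k S ∨ Algebra.EssFiniteType k k')
    [IsNoetherianRing (S ⊗[k] k')] (q' : Ideal (S ⊗[k] k')) [q'.IsPrime] :
    ((IsDomain (Localization.AtPrime q') ∧ IsIntegrallyClosed (Localization.AtPrime q')) →
        (IsDomain (Localization.AtPrime (q'.comap (algebraMap S (S ⊗[k] k')))) ∧
          IsIntegrallyClosed (Localization.AtPrime (q'.comap (algebraMap S (S ⊗[k] k')))))) ∧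
      (Algebra.IsGeometricallyReduced k k' →
        (IsDomain (Localization.AtPrime (q'.comap (algebraMap S (S ⊗[k] k')))) ∧
          IsIntegrallyClosed (Localization.AtPrime (q'.comap (algebraMap S (S ⊗[k] k'))))) →
          (IsDomain (Localization.AtPrime q') ∧ IsIntegrallyClosed (Localization.AtPrime q'))) := by
  refine ⟨fun h => GeomFieldLib.isDomain_isIC_comap_of_flat q' h, fun hk h => ?_⟩
  haveI := h.1
  haveI := h.2
  refine Groth.Agent.S2611.result S (S ⊗[k] k') (fun Q _ => ?_) q'
  obtain ⟨e⟩ := GeomFieldLib.nonempty_fiber_tensor k S k' (Q.comap (algebraMap S (S ⊗[k] k')))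
  exact GeomFieldLib.isDomain_isIC_fibLocRing_of_normal_fiber Q
    (EGA4Lib.isNormalRing_of_ringEquiv e.symm (GeomFieldLib.isNormalRing_tensor_of_isGeomNormal k k'
      (GeomFieldLib.isGeomNormal_of_geometricallyReduced k k') _))

end Groth.Agent.S4748
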