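import Groth.Statements.S4755
import Groth.Agent.EGA4Lib.FibreBC
import Groth.Agent.EGA4Lib.Fibers

set_option linter.style.haveILetI false

set_option autoImplicit false
universe u
open EGA4

namespace Groth.Agent.S4755

theorem isCohenMacaulayRing_of_ringEquiv {R R' : Type u} [CommRing R] [CommRing R'] (e : R ≃+* R')
    (h : LocCoh.IsCohenMacaulayRing R) : LocCoh.IsCohenMacaulayRing R' := by
  haveI : IsNoetherianRing R' := isNoetherianRing_of_ringEquiv _ e
  refine ⟨fun q _ => ?_⟩
  let f := IsLocalization.ringEquivOfRingEquiv (M := (q.comap e.toRingHom).primeCompl)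
    (T := q.primeCompl) (Localization.AtPrime (q.comap e.toRingHom)) (Localization.AtPrime q) e (by
      ext x
      exact ⟨fun ⟨y, hy, hyx⟩ => hyx ▸ hy, fun hx => ⟨e.symm x, by
        show e (e.symm x) ∉ q
        rwa [e.apply_symm_apply], e.apply_symm_apply x⟩⟩)
  obtain ⟨h1, h2⟩ := EGA4Lib.depth_supportDim_ringEquiv f
  exact { supportDim_eq_depth := by
            rw [← h1, ← h2]
            exact (h.isCohenMacaulayLocalRing_localization (q.comap e.toRingHom)).supportDim_eq_depth }


/-- For the property 'Cohen–Macaulay', case of a local ring: if the formal fibres of a Noetherian local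
ring A are Cohen–Macaulay, then so are the formal fibres of A/I for every proper ideal I of A. -/
theorem result (A : Type u) [CommRing A] [IsNoetherianRing A] [IsLocalRing A]
    (hA : EGA4.HasCMFormalFibres A) (I : Ideal A) [Nontrivial (A ⧸ I)] :
    EGA4.HasCMFormalFibres (A ⧸ I) := by
  intro p _
  obtain ⟨e⟩ := EGA4Lib.nonempty_adicCompletion_quotient (IsLocalRing.maximalIdeal A) (A ⧸ I)
    Ideal.Quotient.mk_surjective (IsLocalRing.maximalIdeal (A ⧸ I))
    (IsLocalRing.map_maximalIdeal_of_surjective (Ideal.Quotient.mk I) Ideal.Quotient.mk_surjective).symm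
  have h := EGA4Lib.isQuotLike_of_surjective (A := A) (A' := A ⧸ I) Ideal.Quotient.mk_surjective
  obtain ⟨g⟩ := EGA4Lib.nonempty_fiber_ringEquiv h e p
  exact isCohenMacaulayRing_of_ringEquiv g (hA _)

end Groth.Agent.S4755
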