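import Groth.Statements.S4763
import Groth.Agent.LimTop.Basic
-- import your own Groth.Agent.* helpers here

set_option autoImplicit false
universe u
open CategoryTheory AlgebraicGeometry
open Lim8

namespace Groth.Agent.S4763

/-- Let S = lim S_i be a cofiltered limit of schemes with affine transition maps and let i be an index.
The canonical projection S ⟶ S_i is dominant if and only if every transition map S_j ⟶ S_i is
dominant. -/
theorem result {I : Type u} [SmallCategory I] [IsCofiltered I]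
    (D : I ⥤ Scheme.{u}) (c : Limits.Cone D) (hc : Limits.IsLimit c)
    [∀ (i j : I) (f : i ⟶ j), IsAffineHom (D.map f)] (i : I) :
    IsDominant (c.π.app i) ↔ ∀ (j : I) (φ : j ⟶ i), IsDominant (D.map φ) := by
  refine ⟨fun h j φ ↦ ?_, fun h ↦ ⟨?_⟩⟩
  · have : IsDominant (c.π.app j ≫ D.map φ) := by rw [c.w]; exact h
    exact IsDominant.of_comp (c.π.app j) (D.map φ)
  rw [DenseRange, dense_iff_inter_open]
  intro W hW ⟨x, hxW⟩
  obtain ⟨_, ⟨V, hV, rfl⟩, hxV, hVW⟩ :=
    (D.obj i).isBasis_affineOpens.exists_subset_of_mem_open hxW hW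
  by_contra hne
  obtain ⟨j, φ, hj⟩ := LimTop.exists_inter_subset hc V hV.isCompact (fun _ _ ↦ Set.univ)
    (fun _ _ ↦ ∅)
    (fun _ _ ↦ LimTop.isProConstructible_of_isLocallyConstructible .univ)
    (fun _ _ ↦ LimTop.isIndConstructible_of_isLocallyConstructible .empty)
    (fun _ _ _ _ ↦ Set.subset_univ _) (fun _ _ _ _ ↦ Set.empty_subset _)
    (fun s hs _ ↦ (hne ⟨c.π.app i s, hVW hs, s, rfl⟩).elim)
  obtain ⟨_, hy, ⟨y, rfl⟩⟩ := dense_iff_inter_open.mp (h j φ).1 (V : Set (D.obj i)) V.2 ⟨x, hxV⟩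
  exact hj ⟨hy, trivial⟩

end Groth.Agent.S4763
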