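import Groth.Statements.S4765
import Groth.Agent.LimTop.Connected

set_option autoImplicit false
universe u
open CategoryTheory AlgebraicGeometry
open Lim8

namespace Groth.Agent.S4765

/-- Let S = lim S_i be a cofiltered limit of schemes with affine transition maps and let i be an index
such that the projection S ⟶ S_j is surjective for every j over i. Then the projection S ⟶ S_i is an
open map if and only if every transition map S_j ⟶ S_i is an open map. This is the case of open
morphisms. -/
theorem result {I : Type u} [SmallCategory I] [IsCofiltered I]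
    (D : I ⥤ Scheme.{u}) (c : Limits.Cone D) (hc : Limits.IsLimit c)
    [∀ (i j : I) (f : i ⟶ j), IsAffineHom (D.map f)] (i : I)
    (hs : ∀ (j : I) (φ : j ⟶ i), Surjective (c.π.app j)) :
    IsOpenMap ⇑(c.π.app i) ↔ ∀ (j : I) (φ : j ⟶ i), IsOpenMap ⇑(D.map φ) := by
  constructor
  · intro h j φ W hW
    have e : ⇑(D.map φ) '' W = ⇑(c.π.app i) '' (⇑(c.π.app j) ⁻¹' W) := by
      ext x
      constructor
      · rintro ⟨w, hw, rfl⟩
        obtain ⟨s, rfl⟩ := (hs j φ).surj w
        exact ⟨s, hw, (LimTop.π_apply c φ s).symm⟩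
      · rintro ⟨s, hsW, rfl⟩
        exact ⟨_, hsW, LimTop.π_apply c φ s⟩
    rw [e]
    exact h _ (hW.preimage (c.π.app j).continuous)
  · intro h W hW
    rw [isOpen_iff_forall_mem_open]
    rintro _ ⟨s, hsW, rfl⟩
    obtain ⟨j, φ, V, -, hsV, hVW⟩ := LimTop.exists_nhd hc i hW hsW
    refine ⟨⇑(D.map φ) '' (V : Set (D.obj j)), ?_, h j φ _ V.2, c.π.app j s, hsV,
      LimTop.π_apply c φ s⟩
    rintro _ ⟨v, hv, rfl⟩
    obtain ⟨t, rfl⟩ := (hs j φ).surj v
    exact ⟨t, hVW hv, (LimTop.π_apply c φ t).symm⟩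

end Groth.Agent.S4765
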