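import Groth.Statements.S4766
import Groth.Agent.LimTop.BaseChange
import Groth.Agent.S4765

set_option autoImplicit false
universe u
open CategoryTheory AlgebraicGeometry
open Lim8

namespace Groth.Agent.S4766

/-- Let S = lim S_i be a cofiltered limit of schemes with affine transition maps and let i be an index
such that the projection S ⟶ S_j is surjective for every j over i. Then the projection S ⟶ S_i is
universally open if and only if every transition map S_j ⟶ S_i is universally open. This is the case
of universally open morphisms. -/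
theorem result {I : Type u} [SmallCategory I] [IsCofiltered I]
    (D : I ⥤ Scheme.{u}) (c : Limits.Cone D) (hc : Limits.IsLimit c)
    [∀ (i j : I) (f : i ⟶ j), IsAffineHom (D.map f)] (i : I)
    (hs : ∀ (j : I) (φ : j ⟶ i), Surjective (c.π.app j)) :
    UniversallyOpen (c.π.app i) ↔ ∀ (j : I) (φ : j ⟶ i), UniversallyOpen (D.map φ) := by
  have hcomp : ∀ {A B C : Scheme.{u}} (f : A ⟶ B) (g : B ⟶ C),
      IsOpenMap ⇑f → IsOpenMap ⇑g → IsOpenMap ⇑(f ≫ g) := fun f g hf hg ↦ hg.comp hf
  have hsurj : ∀ {T : Scheme.{u}} (h : T ⟶ D.obj i) (j : Over i),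
      Surjective ((LimTop.bcCone c i h).π.app j) := by
    intro T h j
    have := hs j.left j.hom
    have hpb : IsPullback ((LimTop.bcCone c i h).π.app j)
        (Limits.pullback.fst (c.π.app i) h : (LimTop.bcCone c i h).pt ⟶ _)
        (Limits.pullback.fst (D.map j.hom) h : (LimTop.bcDiagram D i h).obj j ⟶ _) (c.π.app j.left) := by
      refine IsPullback.of_right ?_ (LimTop.bcCone_fst c i h j)
        (LimTop.isPullback_bcDiagram i h j).flip
      rw [LimTop.bcCone_snd, c.w]
      exact (LimTop.isPullback_bcCone c i h).flip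
    exact MorphismProperty.of_isPullback (P := @Surjective.{u}) hpb.flip this
  have htop : ∀ {T : Scheme.{u}} (h : T ⟶ D.obj i),
      IsIso (Limits.pullback.snd (D.map (Over.mk (𝟙 i)).hom) h) := by
    intro T h
    have : IsIso (D.map (Over.mk (𝟙 i)).hom) := inferInstanceAs (IsIso (D.map (𝟙 i)))
    infer_instance
  have key : ∀ {T : Scheme.{u}} (h : T ⟶ D.obj i),
      IsOpenMap ⇑(Limits.pullback.snd (c.π.app i) h) ↔
        ∀ (j : I) (φ : j ⟶ i), IsOpenMap ⇑(Limits.pullback.snd (D.map φ) h) := by
    intro T h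
    have := htop h
    let e := Limits.pullback.snd (D.map (Over.mk (𝟙 i)).hom) h
    have h65 := S4765.result (LimTop.bcDiagram D i h) (LimTop.bcCone c i h)
      (LimTop.isLimitBcCone hc i h) (Over.mk (𝟙 i)) (fun j _ ↦ hsurj h j)
    have he : IsOpenMap ⇑e := e.homeomorph.isOpenMap
    have he' : IsOpenMap ⇑(inv e) := (inv e).homeomorph.isOpenMap
    constructor
    · intro ho j φ
      have h1 : IsOpenMap ⇑((LimTop.bcCone c i h).π.app (Over.mk (𝟙 i))) := by
        have e1 : (LimTop.bcCone c i h).π.app (Over.mk (𝟙 i)) =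
            (Limits.pullback.snd (c.π.app i) h : (LimTop.bcCone c i h).pt ⟶ _) ≫ inv e := by
          exact ((IsIso.comp_inv_eq e).mpr (LimTop.bcCone_snd c i h (Over.mk (𝟙 i))).symm).symm
        rw [e1]
        exact hcomp _ _ ho he'
      let p : Over.mk φ ⟶ Over.mk (𝟙 i) := Over.homMk φ
      have h2 := h65.mp h1 _ p
      have e2 : (LimTop.bcDiagram D i h).map p ≫ e = Limits.pullback.snd (D.map φ) h :=
        Limits.pullback.lift_snd _ _ _
      rw [← e2]
      exact hcomp _ _ h2 he
    · intro ho
      rw [← LimTop.bcCone_snd c i h (Over.mk (𝟙 i))]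
      refine hcomp _ _ (h65.mpr fun j p ↦ ?_) he
      have e2 : (LimTop.bcDiagram D i h).map p =
          (Limits.pullback.snd (D.map j.hom) h : (LimTop.bcDiagram D i h).obj j ⟶ _) ≫ inv e := by
        refine (IsIso.eq_comp_inv e).mpr ?_
        exact Limits.pullback.lift_snd _ _ _
      rw [e2]
      exact hcomp _ _ (ho _ j.hom) he'
  have huo : ∀ {X Y : Scheme.{u}} (f : X ⟶ Y), UniversallyOpen f ↔
      ∀ {T : Scheme.{u}} (h : T ⟶ Y), IsOpenMap ⇑(Limits.pullback.snd f h) := by
    intro X Y f
    constructor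
    · intro hf T h
      have : UniversallyOpen (Limits.pullback.snd f h) :=
        MorphismProperty.pullback_snd (P := (@UniversallyOpen.{u} : MorphismProperty Scheme.{u})) _ _ hf
      exact Scheme.Hom.isOpenMap _
    · intro H
      refine ⟨fun X' Y' i₁ i₂ f' hpb ↦ ?_⟩
      have e := hpb.flip.isoPullback_hom_snd
      show IsOpenMap ⇑f'
      rw [← e]
      exact hcomp _ _ hpb.flip.isoPullback.hom.homeomorph.isOpenMap (H i₂)
  constructor
  · intro hπ j φ
    exact (huo _).mpr fun h ↦ (key h).mp ((huo _).mp hπ h) j φ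
  · intro H
    exact (huo _).mpr fun h ↦ (key h).mpr fun j φ ↦ (huo _).mp (H j φ) h

end Groth.Agent.S4766
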