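import Groth.Statements.S4771
import Groth.Agent.LimTop.Connected

set_option autoImplicit false
universe u
open CategoryTheory AlgebraicGeometry
open Lim8

namespace Groth.Agent.S4771

/-- Let S = lim S_i be a cofiltered limit of schemes whose transition maps are affine and dominant, some
stage S_{i₀} being quasi-compact, and assume that the underlying topological space of S is
Noetherian. Then S is irreducible if and only if there is an index i over i₀ such that S_j is
irreducible for every j over i. -/
theorem result {I : Type u} [SmallCategory I] [IsCofiltered I]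
    (D : I ⥤ Scheme.{u}) (c : Limits.Cone D) (hc : Limits.IsLimit c)
    [∀ (i j : I) (f : i ⟶ j), IsAffineHom (D.map f)] (i₀ : I)
    [CompactSpace (D.obj i₀)] [TopologicalSpace.NoetherianSpace c.pt]
    (hd : ∀ (i j : I) (φ : i ⟶ j), IsDominant (D.map φ)) :
    IrreducibleSpace c.pt ↔ ∃ (i : I) (_ : i ⟶ i₀), ∀ (j : I) (_ : j ⟶ i), IrreducibleSpace (D.obj j) := by
  constructor
  · intro h
    refine ⟨i₀, 𝟙 _, fun j ψ ↦ ?_⟩
    have := LimTop.isDominant_π hc j fun k φ ↦ hd k j φ
    exact @LimTop.irreducibleSpace_of_isDominant c.pt (D.obj j) (c.π.app j) this h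
  · rintro ⟨i, φ, h⟩
    have : CompactSpace (D.obj i) := QuasiCompact.compactSpace_of_compactSpace (D.map φ)
    exact LimTop.irreducibleSpace_of_stages hc i (fun j k φ _ ↦ hd j k φ) h

end Groth.Agent.S4771
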