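import Groth.Statements.S4776
import Groth.Agent.LimTop.Reduced

set_option autoImplicit false
universe u
open CategoryTheory AlgebraicGeometry
open Lim8

namespace Groth.Agent.S4776

/-- Let S = lim S_i be a cofiltered limit of schemes whose transition maps are affine, flat and
surjective, some stage S_{i₀} being quasi-compact, and assume that the underlying topological space
of S is Noetherian. Then S is integral if and only if there is an index i over i₀ such that S_j is
integral for every j over i. (The published statement carries neither the quasi-compactness nor the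
Noetherian hypothesis; its proof combines the reducedness criterion with the irreducibility
criterion for limits, and the latter is proved only under these two hypotheses, so they are assumed
here.) -/
theorem result {I : Type u} [SmallCategory I] [IsCofiltered I]
    (D : I ⥤ Scheme.{u}) (c : Limits.Cone D) (hc : Limits.IsLimit c)
    [∀ (i j : I) (f : i ⟶ j), IsAffineHom (D.map f)] (i₀ : I)
    [CompactSpace (D.obj i₀)] [TopologicalSpace.NoetherianSpace c.pt]
    (hf : ∀ (i j : I) (φ : i ⟶ j), Flat (D.map φ) ∧ Surjective (D.map φ)) :
    IsIntegral c.pt ↔ ∃ (i : I) (_ : i ⟶ i₀), ∀ (j : I) (_ : j ⟶ i), IsIntegral (D.obj j) := by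
  have hdom : ∀ (i j : I) (φ : i ⟶ j), IsDominant (D.map φ) := fun i j φ ↦
    ⟨(hf i j φ).2.surj.denseRange⟩
  constructor
  · intro h
    refine ⟨i₀, 𝟙 _, fun j _ ↦ ?_⟩
    have hπd := LimTop.isDominant_π hc j fun k φ ↦ hdom k j φ
    have := LimTop.flat_π hc j fun k φ ↦ (hf k j φ).1
    have : Surjective (c.π.app j) := ⟨fun x ↦ (LimTop.mem_range_π_iff hc x).mpr
      fun k φ ↦ (hf k j φ).2.surj x⟩
    have h1 : IsReduced (D.obj j) :=
      @LimTop.isReduced_of_flat_surjective c.pt (D.obj j) (c.π.app j) ‹_› ‹_› inferInstance
    have h2 : IrreducibleSpace (D.obj j) :=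
      @LimTop.irreducibleSpace_of_isDominant c.pt (D.obj j) (c.π.app j) hπd inferInstance
    exact isIntegral_of_irreducibleSpace_of_isReduced _
  · rintro ⟨i, φ, h⟩
    have : CompactSpace (D.obj i) := QuasiCompact.compactSpace_of_compactSpace (D.map φ)
    have : IrreducibleSpace c.pt := LimTop.irreducibleSpace_of_stages hc i
      (fun j k φ _ ↦ hdom j k φ) (fun j ψ ↦ by have := h j ψ; infer_instance)
    have : IsReduced c.pt := by
      by_contra hcon
      obtain ⟨l, χ, hl⟩ := LimTop.exists_not_isReduced hc i hcon
      exact hl l (𝟙 l) (have := h l χ; inferInstance)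
    exact isIntegral_of_irreducibleSpace_of_isReduced _

end Groth.Agent.S4776
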