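import Groth.Statements.S4778
import Groth.Agent.LimFP.Spec

set_option autoImplicit false
universe u
open CategoryTheory AlgebraicGeometry
open Lim8

namespace Groth.Agent.S4778

/-- Let f : X ⟶ S be a morphism of schemes. Suppose that for every affine open U of S and every
projective system (Z_λ) of U-schemes indexed by a nonempty directed preordered set, with every Z_λ
an affine scheme, the functor Hom_S(-, X) takes the limit of the system to the colimit of the
Hom_S(Z_λ, X) (the canonical map from the colimit is bijective). Then f is locally of finite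
presentation. -/
theorem result {X S : Scheme.{u}} (f : X ⟶ S)
    (h : ∀ (U : S.Opens), IsAffineOpen U →
      ∀ (J : Type u) [Preorder J] [IsDirected J (· ≤ ·)] [Nonempty J] (Z : Jᵒᵖ ⥤ Over (U : Scheme.{u})),
      (∀ j, IsAffine (Z.obj j).left) →
      Limits.PreservesColimit (Z ⋙ Over.map U.ι).op (yoneda.obj (Over.mk f))) :
    LocallyOfFinitePresentation f := by
  rw [HasRingHomProperty.iff_appLE (P := @LocallyOfFinitePresentation)]
  intro U V e
  let φ := f.appLE U V e
  letI : Algebra Γ(S, U) Γ(X, V) := φ.hom.toAlgebra
  change Algebra.FinitePresentation Γ(S, U) Γ(X, V)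
  refine LimFP.finitePresentation_of_factor fun J _ _ _ D c hc _ g => ?_
  haveI := h U.1 U.2 J (LimFP.overSpec U.2.isoSpec.inv D) (fun j => inferInstance)
  have hfs : U.2.isoSpec.inv ≫ U.1.ι = U.2.fromSpec := IsAffineOpen.isoSpec_inv_ι U.2
  haveI : Mono (U.2.isoSpec.inv ≫ U.1.ι) := by rw [hfs]; infer_instance
  exact LimFP.exists_factor φ f U.1.ι U.2.isoSpec.inv V.2.fromSpec
    (by rw [hfs, IsAffineOpen.SpecMap_appLE_fromSpec f U.2 V.2 e]) D c hc g

end Groth.Agent.S4778
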