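import Groth.Statements.S4779
import Groth.Agent.LimTop.BaseChange

set_option autoImplicit false
universe u
open CategoryTheory AlgebraicGeometry
open Lim8

namespace Groth.Agent.S4779

/-- Let S = lim S_i be a cofiltered limit of schemes with affine transition maps, let f₀ : X₀ ⟶ Y₀ be a
morphism of schemes over a stage S_{i₀}, and let f : X ⟶ Y be its base change along S ⟶ S_{i₀} (all
base changes are expressed by pullback squares). If there is an index i over i₀ such that, for every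
j over i, the base change f_j : X_j ⟶ Y_j of f₀ along S_j ⟶ S_{i₀} is an open map, then f is an open
map. (The corresponding statement for universally open morphisms follows from this one by base
change.) -/
theorem result {I : Type u} [SmallCategory I] [IsCofiltered I]
    (D : I ⥤ Scheme.{u}) (c : Limits.Cone D) (hc : Limits.IsLimit c)
    [∀ (i j : I) (f : i ⟶ j), IsAffineHom (D.map f)] (i₀ : I)
    {X₀ Y₀ : Scheme.{u}} (f₀ : X₀ ⟶ Y₀) (g₀ : Y₀ ⟶ D.obj i₀)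
    {X Y : Scheme.{u}} (f : X ⟶ Y) (g : Y ⟶ c.pt) (qY : Y ⟶ Y₀) (qX : X ⟶ X₀)
    (hY : IsPullback qY g g₀ (c.π.app i₀)) (hX : IsPullback qX f f₀ qY)
    (h : ∃ (i : I) (φ : i ⟶ i₀), ∀ (j : I) (ψ : j ⟶ i) (Xj Yj : Scheme.{u}) (fj : Xj ⟶ Yj)
      (gj : Yj ⟶ D.obj j) (pY : Yj ⟶ Y₀) (pX : Xj ⟶ X₀),
      IsPullback pY gj g₀ (D.map (ψ ≫ φ)) → IsPullback pX fj f₀ pY → IsOpenMap ⇑fj) :
    IsOpenMap ⇑f := by
  obtain ⟨i, φ, h⟩ := h
  let h₀ : X₀ ⟶ D.obj i₀ := f₀ ≫ g₀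
  have hbig : IsPullback (f ≫ g) qX (c.π.app i₀) h₀ := (hX.paste_vert hY).flip
  let e : X ≅ (LimTop.bcCone c i₀ h₀).pt := hbig.isoPullback
  intro W hW
  rw [isOpen_iff_forall_mem_open]
  rintro _ ⟨x, hxW, rfl⟩
  obtain ⟨j, χ, V, -, hxV, hVW⟩ := LimTop.exists_nhd (LimTop.isLimitBcCone hc i₀ h₀) (Over.mk φ)
    (hW.preimage e.inv.continuous) (s := e.hom x)
    (show e.inv (e.hom x) ∈ W by rwa [← Scheme.Hom.comp_apply, Iso.hom_inv_id])
  let ψ : j.left ⟶ i := χ.left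
  have hψ : j.hom = ψ ≫ φ := (Over.w χ).symm
  let Yj : Scheme.{u} := Limits.pullback g₀ (D.map (ψ ≫ φ))
  let pY : Yj ⟶ Y₀ := Limits.pullback.fst _ _
  let gj : Yj ⟶ D.obj j.left := Limits.pullback.snd _ _
  have hYj : IsPullback pY gj g₀ (D.map (ψ ≫ φ)) := IsPullback.of_hasPullback _ _
  let Xj : Scheme.{u} := (LimTop.bcDiagram D i₀ h₀).obj j
  let rX : Xj ⟶ D.obj j.left := Limits.pullback.fst (D.map j.hom) h₀
  let pX : Xj ⟶ X₀ := Limits.pullback.snd (D.map j.hom) h₀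
  have hbj : IsPullback pX rX h₀ (D.map (ψ ≫ φ)) := by
    rw [← hψ]
    exact (LimTop.isPullback_bcDiagram i₀ h₀ j).flip
  let fj : Xj ⟶ Yj := Limits.pullback.lift (pX ≫ f₀) rX (by rw [Category.assoc]; exact hbj.w)
  have hfj₁ : fj ≫ pY = pX ≫ f₀ := Limits.pullback.lift_fst _ _ _
  have hfj₂ : fj ≫ gj = rX := Limits.pullback.lift_snd _ _ _
  have hXj : IsPullback pX fj f₀ pY :=
    IsPullback.of_bot (by rw [hfj₂]; exact hbj) hfj₁.symm hYj
  have hopen := h j.left ψ Xj Yj fj gj pY pX hYj hXj (V : Set Xj) V.2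
  let a : Y ⟶ Yj := Limits.pullback.lift qY (g ≫ c.π.app j.left)
    (by rw [Category.assoc, c.w]; exact hY.w)
  have ha₁ : a ≫ pY = qY := Limits.pullback.lift_fst _ _ _
  have ha₂ : a ≫ gj = g ≫ c.π.app j.left := Limits.pullback.lift_snd _ _ _
  let b : X ⟶ Xj := e.hom ≫ (LimTop.bcCone c i₀ h₀).π.app j
  have hb₁ : b ≫ pX = qX := by
    show (e.hom ≫ (LimTop.bcCone c i₀ h₀).π.app j) ≫ pX = qX
    rw [Category.assoc, LimTop.bcCone_snd]
    exact hbig.isoPullback_hom_snd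
  have hb₂ : b ≫ rX = f ≫ g ≫ c.π.app j.left := by
    show (e.hom ≫ (LimTop.bcCone c i₀ h₀).π.app j) ≫ rX = _
    rw [Category.assoc, LimTop.bcCone_fst, ← Category.assoc f, ← hbig.isoPullback_hom_fst,
      Category.assoc]
    rfl
  have hsq : b ≫ fj = f ≫ a := by
    refine Limits.pullback.hom_ext ?_ ?_
    · show (b ≫ fj) ≫ pY = (f ≫ a) ≫ pY
      exact ((Category.assoc _ _ _).trans (congrArg (b ≫ ·) hfj₁)).trans (((Category.assoc _ _ _).symm.trans
        (congrArg (· ≫ f₀) hb₁)).trans (hX.w.trans ((congrArg (f ≫ ·) ha₁).symm.trans (Category.assoc _ _ _).symm)))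
    · show (b ≫ fj) ≫ gj = (f ≫ a) ≫ gj
      exact ((Category.assoc _ _ _).trans (congrArg (b ≫ ·) hfj₂)).trans
        (hb₂.trans ((congrArg (f ≫ ·) ha₂).symm.trans (Category.assoc _ _ _).symm))
  have hpb : IsPullback b f fj a := IsPullback.of_right (by rw [hb₁, ha₁]; exact hX) hsq hXj
  refine ⟨⇑a ⁻¹' (⇑fj '' (V : Set Xj)), ?_, hopen.preimage a.continuous,
    ⟨b x, hxV, (Scheme.Hom.comp_apply _ _ _).symm.trans
      ((congrArg (fun q : X ⟶ Yj ↦ q x) hsq).trans (Scheme.Hom.comp_apply _ _ _))⟩⟩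
  rintro y ⟨v, hv, hvy⟩
  obtain ⟨z, hz₁, hz₂⟩ := Scheme.Pullback.exists_preimage_pullback v y hvy
  have hx₁ : b (hpb.isoPullback.inv z) = v := by
    rw [← Scheme.Hom.comp_apply, hpb.isoPullback_inv_fst, hz₁]
  have hx₂ : f (hpb.isoPullback.inv z) = y := by
    rw [← Scheme.Hom.comp_apply, hpb.isoPullback_inv_snd, hz₂]
  refine ⟨_, ?_, hx₂⟩
  have := hVW (show (LimTop.bcCone c i₀ h₀).π.app j (e.hom (hpb.isoPullback.inv z)) ∈ V by
    rw [← Scheme.Hom.comp_apply]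
    exact hx₁ ▸ hv)
  rwa [Set.mem_preimage, ← Scheme.Hom.comp_apply, Iso.hom_inv_id] at this

end Groth.Agent.S4779
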