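import Groth.Statements.S4780
import Mathlib

set_option autoImplicit false
universe u
open CategoryTheory AlgebraicGeometry
open Lim8

namespace Groth.Agent.S4780

open TensorProduct Limits

/-- An affine morphism whose base changes to all affine spaces are open is open after any affine
base change. -/
lemma isOpenMap_specMap_tensor (A B A' : Type u) [CommRing A] [CommRing B] [CommRing A']
    [Algebra A B] [Algebra A A']
    (h : ∀ n : ℕ, 0 < n → IsOpenMap ⇑(Spec.map (CommRingCat.ofHom
      (Algebra.TensorProduct.includeRight (R := A) (A := B)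
        (B := MvPolynomial (ULift.{u} (Fin n)) A)).toRingHom))) :
    IsOpenMap ⇑(Spec.map (CommRingCat.ofHom
      (Algebra.TensorProduct.includeRight (R := A) (A := B) (B := A')).toRingHom)) := by
  classical
  let f' := Spec.map (CommRingCat.ofHom
      (Algebra.TensorProduct.includeRight (R := A) (A := B) (B := A')).toRingHom)
  refine PrimeSpectrum.isTopologicalBasis_basic_opens.isOpenMap_iff.mpr ?_
  rintro _ ⟨g, rfl⟩
  obtain ⟨S, hS⟩ := TensorProduct.exists_finset g
  let m := S.card
  let v : ULift.{u} (Fin (m + 1)) → A' := fun k ↦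
    if hk : (k.down : ℕ) < m then ((S.equivFin).symm ⟨k.down, hk⟩ : B × A').2 else 0
  let P := MvPolynomial (ULift.{u} (Fin (m + 1))) A
  let φ : P →ₐ[A] A' := MvPolynomial.aeval v
  let g₀ : B ⊗[A] P := ∑ s : S, s.1.1 ⊗ₜ MvPolynomial.X ⟨(S.equivFin s).castSucc⟩
  let Φ := Algebra.TensorProduct.map (AlgHom.id A B) φ
  have hg : Φ g₀ = g := by
    simp only [g₀, Φ, map_sum, Algebra.TensorProduct.map_tmul, AlgHom.id_apply]
    rw [hS, ← Finset.sum_coe_sort S (fun i ↦ i.1 ⊗ₜ[A] i.2)]
    refine Finset.sum_congr rfl fun s _ ↦ ?_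
    congr 1
    show MvPolynomial.aeval v (MvPolynomial.X (R := A) ⟨(S.equivFin s).castSucc⟩) = _
    rw [MvPolynomial.aeval_X]
    simp only [v, m, Fin.val_castSucc]
    rw [dif_pos (S.equivFin s).2]
    simp
  let f₀ := Spec.map (CommRingCat.ofHom
      (Algebra.TensorProduct.includeRight (R := A) (A := B) (B := P)).toRingHom)
  let a := Spec.map (CommRingCat.ofHom φ.toRingHom)
  let b := Spec.map (CommRingCat.ofHom Φ.toRingHom)
  have h₀ := isPullback_SpecMap_of_isPushout _ _ _ _ (CommRingCat.isPushout_tensorProduct A B P)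
  have h₁ := isPullback_SpecMap_of_isPushout _ _ _ _ (CommRingCat.isPushout_tensorProduct A B A')
  have hsq : b ≫ f₀ = f' ≫ a := by
    simp only [b, f₀, f', a, ← Spec.map_comp]
    congr 1
  have hpb : IsPullback b f' f₀ a := by
    refine IsPullback.of_right ?_ hsq h₀
    simp only [b, a, ← Spec.map_comp, f']
    convert! h₁ using 2
    · ext x
      simp [Φ]
    · ext x
      exact φ.commutes x
  have himg : f' '' (PrimeSpectrum.basicOpen g : Set (PrimeSpectrum (B ⊗[A] A'))) =
      a ⁻¹' (f₀ '' (PrimeSpectrum.basicOpen g₀ : Set (PrimeSpectrum (B ⊗[A] P)))) := by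
    have hpre : ⇑b ⁻¹' (PrimeSpectrum.basicOpen g₀ : Set (PrimeSpectrum (B ⊗[A] P))) =
        (PrimeSpectrum.basicOpen g : Set (PrimeSpectrum (B ⊗[A] A'))) := by
      rw [← hg]
      exact congrArg SetLike.coe (PrimeSpectrum.comap_basicOpen Φ.toRingHom g₀)
    apply subset_antisymm
    · rintro _ ⟨x, hx, rfl⟩
      refine ⟨b x, hpre.ge hx, ?_⟩
      rw [← Scheme.Hom.comp_apply, hsq, Scheme.Hom.comp_apply]
    · rintro y ⟨w, hw, hwy⟩
      obtain ⟨z, hz₁, hz₂⟩ := Scheme.Pullback.exists_preimage_pullback w y hwy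
      refine ⟨hpb.isoPullback.inv z, hpre.le ?_, ?_⟩
      · rw [Set.mem_preimage, ← Scheme.Hom.comp_apply, hpb.isoPullback_inv_fst, hz₁]
        exact hw
      · rw [← Scheme.Hom.comp_apply, hpb.isoPullback_inv_snd, hz₂]
  exact himg ▸ ((h (m + 1) m.succ_pos) _ (PrimeSpectrum.basicOpen g₀).2).preimage a.continuous

lemma universallyOpen_specMap (A B : Type u) [CommRing A] [CommRing B] [Algebra A B]
    (h : ∀ n : ℕ, 0 < n → IsOpenMap ⇑(pullback.snd (Spec.map (CommRingCat.ofHom (algebraMap A B)))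
      (AffineSpace (ULift.{u} (Fin n)) (Spec (CommRingCat.of A)) ↘ Spec (CommRingCat.of A)))) :
    UniversallyOpen (Spec.map (CommRingCat.ofHom (algebraMap A B))) := by
  let g := Spec.map (CommRingCat.ofHom (algebraMap A B))
  have key : ∀ (A' : Type u) [CommRing A'] [Algebra A A'],
      IsOpenMap ⇑(Spec.map (CommRingCat.ofHom
        (Algebra.TensorProduct.includeRight (R := A) (A := B) (B := A')).toRingHom)) := by
    intro A' _ _
    refine isOpenMap_specMap_tensor A B A' fun n hn ↦ ?_
    let e := AffineSpace.SpecIso (ULift.{u} (Fin n)) (CommRingCat.of A)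
    have hC : Spec.map (CommRingCat.ofHom (algebraMap A (MvPolynomial (ULift.{u} (Fin n)) A))) =
        e.inv ≫ (AffineSpace (ULift.{u} (Fin n)) (Spec (CommRingCat.of A)) ↘
          Spec (CommRingCat.of A)) :=
      (AffineSpace.SpecIso_inv_over (CommRingCat.of A)).symm
    have h₀ := isPullback_SpecMap_of_isPushout _ _ _ _
      (CommRingCat.isPushout_tensorProduct A B (MvPolynomial (ULift.{u} (Fin n)) A))
    rw [hC] at h₀
    let f₀ := Spec.map (CommRingCat.ofHom (Algebra.TensorProduct.includeRight (R := A) (A := B)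
      (B := MvPolynomial (ULift.{u} (Fin n)) A)).toRingHom)
    have h₁ : IsPullback (Spec.map (CommRingCat.ofHom Algebra.TensorProduct.includeLeftRingHom))
        (f₀ ≫ e.inv) g (AffineSpace (ULift.{u} (Fin n)) (Spec (CommRingCat.of A)) ↘
          Spec (CommRingCat.of A)) :=
      h₀.of_iso (Iso.refl _) (Iso.refl _) e.symm (Iso.refl _) (by simp) (by simp [f₀]) (by simp [g])
        (by simp)
    have : f₀ = h₁.isoPullback.hom ≫ pullback.snd _ _ ≫ e.hom := by
      rw [h₁.isoPullback_hom_snd_assoc, Category.assoc, Iso.inv_hom_id, Category.comp_id]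
    show IsOpenMap ⇑f₀
    rw [this, Scheme.Hom.comp_base, TopCat.coe_comp, Scheme.Hom.comp_base, TopCat.coe_comp]
    exact ((e.hom.isOpenEmbedding.isOpenMap).comp (h n hn)).comp
      (h₁.isoPullback.hom.isOpenEmbedding.isOpenMap)
  have aux : ∀ (R : CommRingCat.{u}) (ψ : CommRingCat.of A ⟶ R) {Z : Scheme.{u}} (q : Z ⟶ Spec R)
      (p : Z ⟶ Spec (CommRingCat.of B)), IsPullback p q g (Spec.map ψ) → IsOpenMap ⇑q := by
    intro R ψ Z q p hbc
    algebraize [ψ.hom]
    have h₁ : IsPullback _ _ g (Spec.map ψ) := isPullback_SpecMap_of_isPushout _ _ _ _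
      (CommRingCat.isPushout_tensorProduct A B R)
    rw [← hbc.isoIsPullback_hom_snd _ _ h₁, Scheme.Hom.comp_base, TopCat.coe_comp]
    exact (key _).comp (hbc.isoIsPullback _ _ h₁).hom.isOpenEmbedding.isOpenMap
  refine ⟨MorphismProperty.universally_mk' _ _ fun {T} t _ ↦ ?_⟩
  show topologically @IsOpenMap (pullback.fst t g)
  rw [IsZariskiLocalAtTarget.iff_of_openCover (P := topologically @IsOpenMap) T.affineCover]
  intro i
  dsimp only [Scheme.Cover.pullbackHom]
  obtain ⟨ψ, hψ⟩ := Spec.map_surjective (T.affineCover.f i ≫ t)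
  refine aux _ ψ _ (pullback.fst (pullback.fst t g) (T.affineCover.f i) ≫ pullback.snd t g) ?_
  rw [hψ]
  exact (IsPullback.of_hasPullback (pullback.fst t g) (T.affineCover.f i)).paste_horiz
    (IsPullback.of_hasPullback t g).flip

lemma isOpenMap_of_square {A B C E : Scheme.{u}} (g : A ⟶ B) (M : B ⟶ E) (K : A ⟶ C) (f : C ⟶ E)
    [IsOpenImmersion M] [IsOpenImmersion K] (w : g ≫ M = K ≫ f) (hf : IsOpenMap ⇑f) :
    IsOpenMap ⇑g := by
  intro W hW
  have : ⇑g '' W = ⇑M ⁻¹' (⇑f '' (⇑K '' W)) := by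
    rw [← Set.preimage_image_eq (⇑g '' W) M.isOpenEmbedding.injective, Set.image_image,
      Set.image_image]
    refine congrArg _ (Set.image_congr fun x _ ↦ ?_)
    rw [← Scheme.Hom.comp_apply, w, Scheme.Hom.comp_apply]
  rw [this]
  exact (hf _ (K.isOpenEmbedding.isOpenMap W hW)).preimage M.continuous

lemma universallyOpen_specMap' {R S : CommRingCat.{u}} (φ : R ⟶ S)
    (h : ∀ n : ℕ, 0 < n → IsOpenMap ⇑(pullback.snd (Spec.map φ)
      (AffineSpace (ULift.{u} (Fin n)) (Spec R) ↘ Spec R))) :
    UniversallyOpen (Spec.map φ) := by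
  algebraize [φ.hom]
  exact universallyOpen_specMap R S h

end Groth.Agent.S4780

namespace Groth.Agent.S4780

/-- Let f : X ⟶ Y be a morphism of schemes. If, for every integer n > 0, the base change of f to affine
n-space over Y, X ×_Y 𝔸ⁿ_Y ⟶ 𝔸ⁿ_Y, is an open map of topological spaces, then f is universally open. -/
theorem result {X Y : Scheme.{u}} (f : X ⟶ Y)
    (h : ∀ n : ℕ, 0 < n →
      IsOpenMap ⇑(Limits.pullback.snd f (AffineSpace (ULift.{u} (Fin n)) Y ↘ Y))) :
    UniversallyOpen f := by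
  open Limits in
  rw [IsZariskiLocalAtTarget.iff_of_openCover (P := @UniversallyOpen) Y.affineCover]
  intro i
  dsimp only [Scheme.Cover.pullbackHom]
  show UniversallyOpen (Limits.pullback.snd f (Y.affineCover.f i))
  refine (IsZariskiLocalAtSource.iff_of_openCover (P := @UniversallyOpen)
    (f := Limits.pullback.snd f (Y.affineCover.f i))
    (Limits.pullback f (Y.affineCover.f i)).affineCover).mpr ?_
  intro k
  let ι := Y.affineCover.f i
  let j := (Limits.pullback f ι).affineCover.f k ≫ Limits.pullback.fst f ι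
  let g := (Limits.pullback f ι).affineCover.f k ≫ Limits.pullback.snd f ι
  obtain ⟨φ, hφ⟩ := Spec.map_surjective g
  show UniversallyOpen g
  rw [← hφ]
  refine universallyOpen_specMap' φ fun n hn ↦ ?_
  rw [hφ]
  let M := AffineSpace.map (ULift.{u} (Fin n)) ι
  have hM : IsOpenImmersion M :=
    MorphismProperty.of_isPullback (AffineSpace.isPullback_map ι).flip inferInstance
  let K := Limits.pullback.map g (AffineSpace (ULift.{u} (Fin n)) _ ↘ _) f
    (AffineSpace (ULift.{u} (Fin n)) Y ↘ Y) j M ι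
    (by simp [g, j, Limits.pullback.condition]) (AffineSpace.map_over ι).symm
  have hK : IsOpenImmersion K := inferInstance
  have hcomm : Limits.pullback.snd g _ ≫ M = K ≫ Limits.pullback.snd f _ :=
    (Limits.pullback.lift_snd _ _ _).symm
  exact @isOpenMap_of_square _ _ _ _ _ M K _ hM hK hcomm (h n hn)

end Groth.Agent.S4780
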