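import Groth.Statements.S4785
import Groth.Agent.LimTop.Basic

set_option autoImplicit false
universe u
open CategoryTheory AlgebraicGeometry
open Lim8

namespace Groth.Agent.S4785

/-- Let S = lim S_i be a cofiltered limit of schemes whose transition maps are open immersions, so that
each S_j with j over i is an open subscheme of S_i. Then, for every index i, the projection S ⟶ S_i
is a topological embedding and every stalk map O_{S_i, π(s)} ⟶ O_{S, s} is an isomorphism; that is,
S is the subspace ⋂_j S_j of S_i with the induced structure sheaf. -/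
theorem result {I : Type u} [SmallCategory I] [IsCofiltered I]
    (D : I ⥤ Scheme.{u}) (c : Limits.Cone D) (hc : Limits.IsLimit c)
    [∀ (i j : I) (f : i ⟶ j), IsAffineHom (D.map f)]
    (hoi : ∀ (i j : I) (φ : i ⟶ j), IsOpenImmersion (D.map φ)) (i : I) :
    Topology.IsEmbedding ⇑(c.π.app i) ∧ ∀ s : c.pt, IsIso ((c.π.app i).stalkMap s) := by
  have hinj : Function.Injective ⇑(c.π.app i) := by
    intro s t h
    refine LimTop.point_ext hc i fun j φ ↦ ?_
    have := hoi _ _ φ
    apply (D.map φ).isOpenEmbedding.injective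
    rwa [LimTop.π_apply, LimTop.π_apply]
  refine ⟨⟨?_, hinj⟩, fun s ↦ ?_⟩
  · refine ⟨le_antisymm (continuous_iff_le_induced.mp (c.π.app i).continuous) fun W hW ↦ ?_⟩
    choose j φ V hV hsV hVW using fun s : W ↦ LimTop.exists_nhd hc i hW s.2
    refine ⟨⋃ s : W, ⇑(D.map (φ s)) '' (V s : Set _), isOpen_iUnion fun s ↦ ?_, ?_⟩
    · have := hoi _ _ (φ s)
      exact (D.map (φ s)).isOpenEmbedding.isOpenMap _ (V s).2
    · ext t
      simp only [Set.preimage_iUnion, Set.mem_iUnion, Set.mem_preimage]
      constructor
      · rintro ⟨s, v, hv, hvt⟩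
        refine hVW s ?_
        have := hoi _ _ (φ s)
        rw [← LimTop.π_apply c (φ s)] at hvt
        show c.π.app (j s) t ∈ V s
        rw [← (D.map (φ s)).isOpenEmbedding.injective hvt]
        exact hv
      · intro ht
        exact ⟨⟨t, ht⟩, _, hsV ⟨t, ht⟩, LimTop.π_apply c _ t⟩
  · -- `π` is a monomorphism
    have hmono : Mono (c.π.app i) := by
      refine ⟨fun g h e ↦ hc.hom_ext fun j ↦ ?_⟩
      obtain ⟨k, a, b, -⟩ : ∃ (k : I) (a : k ⟶ j) (b : k ⟶ i), True :=
        ⟨_, IsCofiltered.minToLeft j i, IsCofiltered.minToRight j i, trivial⟩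
      have := hoi _ _ b
      have e' : g ≫ c.π.app k = h ≫ c.π.app k := by
        rw [← cancel_mono (D.map b), Category.assoc, Category.assoc, c.w]
        exact e
      rw [← c.w a, ← Category.assoc, e', Category.assoc]
    let x : D.obj i := c.π.app i s
    let R := (D.obj i).presheaf.stalk x
    -- lift `Spec 𝒪_x` to the limit
    have hlift : ∀ (j : I) (φ : j ⟶ i),
        Set.range ⇑((D.obj i).fromSpecStalk x) ⊆ Set.range ⇑(D.map φ) := by
      intro j φ
      have := hoi _ _ φ
      rintro _ ⟨p, rfl⟩
      have hsp : (D.obj i).fromSpecStalk x p ⤳ x := by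
        have := (IsLocalRing.specializes_closedPoint p).map ((D.obj i).fromSpecStalk x).continuous
        rwa [Scheme.fromSpecStalk_closedPoint] at this
      exact hsp.mem_open (D.map φ).isOpenEmbedding.isOpen_range
        ⟨c.π.app j s, LimTop.π_apply c φ s⟩
    let l : ∀ j : Over i, Spec R ⟶ D.obj j.left := fun j ↦
      haveI := hoi _ _ j.hom
      IsOpenImmersion.lift (D.map j.hom) ((D.obj i).fromSpecStalk x) (hlift _ j.hom)
    let cc : Limits.Cone (Over.forget i ⋙ D) :=
      { pt := Spec R
        π :=
          { app := l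
            naturality := fun j k f ↦ by
              have := hoi _ _ k.hom
              refine (Category.id_comp _).trans ?_
              refine (cancel_mono (D.map k.hom)).mp ?_
              refine (IsOpenImmersion.lift_fac _ _ _).trans ?_
              refine Eq.trans ?_ (Category.assoc _ _ _).symm
              show _ = l j ≫ D.map f.left ≫ D.map k.hom
              rw [← D.map_comp, Over.w f]
              have := hoi _ _ j.hom
              exact (IsOpenImmersion.lift_fac _ _ _).symm } }
    let hcO := (Functor.Initial.isLimitWhiskerEquiv (Over.forget i) c).symm hc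
    let σ : Spec R ⟶ c.pt := hcO.lift cc
    have hσ : σ ≫ c.π.app i = (D.obj i).fromSpecStalk x := by
      refine (hcO.fac cc (Over.mk (𝟙 i))).trans ?_
      have := hoi i i (𝟙 i)
      have e := IsOpenImmersion.lift_fac (D.map (𝟙 i)) ((D.obj i).fromSpecStalk x) (hlift _ (𝟙 i))
      simpa [cc, l] using e
    have hs : σ (IsLocalRing.closedPoint R) = s := by
      apply hinj
      rw [← Scheme.Hom.comp_apply, hσ, Scheme.fromSpecStalk_closedPoint]
    obtain ⟨b, hb⟩ : ∃ b : c.pt.presheaf.stalk s ⟶ R,
        Spec.map b ≫ c.pt.fromSpecStalk s = σ := by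
      rw [← hs]
      exact ⟨_, Scheme.Spec_stalkClosedPointTo_fromSpecStalk σ⟩
    let a := (c.π.app i).stalkMap s
    have ha : Spec.map a ≫ (D.obj i).fromSpecStalk x = c.pt.fromSpecStalk s ≫ c.π.app i :=
      Scheme.SpecMap_stalkMap_fromSpecStalk (c.π.app i)
    refine ⟨b, ?_, ?_⟩
    · apply Spec.map_injective
      rw [Spec.map_comp, Spec.map_id, ← cancel_mono ((D.obj i).fromSpecStalk x), Category.assoc,
        ha, ← Category.assoc, hb, hσ, Category.id_comp]
    · apply Spec.map_injective
      rw [Spec.map_comp, Spec.map_id, ← cancel_mono (c.pt.fromSpecStalk s), Category.assoc, hb,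
        ← cancel_mono (c.π.app i), Category.assoc, hσ, Category.id_comp]
      exact ha

end Groth.Agent.S4785
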