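import Groth.Statements.S4782
import Groth.Agent.LimTop.ReducedLocus
import Groth.Agent.LimTop.Closure
import Groth.Agent.S4785

set_option autoImplicit false
universe u
open CategoryTheory AlgebraicGeometry
open Lim8

namespace Groth.Agent.S4782

/-- Let S = lim S_i be a cofiltered limit of schemes whose transition maps are open immersions (in
particular affine), and let S_{i₀} be a quasi-compact stage whose nilradical is an ideal of finite
type, i.e. for every affine open U of S_{i₀} the nilradical of Γ(S_{i₀}, U) is finitely generated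
(automatic when S_{i₀} is Noetherian). Then S is reduced if and only if there is an index i over i₀
such that S_j is reduced for every j over i. -/
theorem result {I : Type u} [SmallCategory I] [IsCofiltered I]
    (D : I ⥤ Scheme.{u}) (c : Limits.Cone D) (hc : Limits.IsLimit c)
    [∀ (i j : I) (f : i ⟶ j), IsAffineHom (D.map f)] (i₀ : I)
    [CompactSpace (D.obj i₀)] (hoi : ∀ (i j : I) (φ : i ⟶ j), IsOpenImmersion (D.map φ))
    (hN : ∀ U : (D.obj i₀).affineOpens, (nilradical Γ(D.obj i₀, U)).FG) :
    IsReduced c.pt ↔ ∃ (i : I) (_ : i ⟶ i₀), ∀ (j : I) (_ : j ⟶ i), IsReduced (D.obj j) := by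
  have h85 := S4785.result D c hc hoi
  constructor
  · intro h
    obtain ⟨j, φ, hj⟩ := LimTop.exists_subset hc (i₀ := i₀)
      (fun j φ ↦ ⇑(D.map φ) ⁻¹' {x | ¬ _root_.IsReduced ((D.obj i₀).presheaf.stalk x)})
      (fun _ _ ↦ ∅)
      (fun j φ ↦ LimTop.isProConstructible_preimage _ (LimTop.isProConstructible_of_isClosed
        ((LimTop.isOpen_setOf_isReduced_stalk hN).isClosed_compl)))
      (fun _ _ ↦ LimTop.isIndConstructible_of_isLocallyConstructible .empty)
      (fun a b ψ φ x hx ↦ by
        show D.map φ (D.map ψ x) ∈ {x | ¬ _root_.IsReduced ((D.obj i₀).presheaf.stalk x)}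
        rw [← LimTop.map_comp_apply]
        exact hx)
      (fun _ _ _ _ ↦ Set.empty_subset _)
      (fun s hs ↦ by
        have hn := hs i₀ (𝟙 i₀)
        rw [Set.mem_preimage, LimTop.map_id_apply] at hn
        have := (h85 i₀).2 s
        have : _root_.IsReduced ((((Functor.const I).obj c.pt).obj i₀).presheaf.stalk s) :=
          @isReduced_stalk_of_isReduced c.pt h s
        exact (hn (isReduced_of_injective ((c.π.app i₀).stalkMap s).hom
          (ConcreteCategory.bijective_of_isIso ((c.π.app i₀).stalkMap s)).1)).elim)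
    refine ⟨j, φ, fun k ψ ↦ ?_⟩
    have := hoi _ _ (ψ ≫ φ)
    have : ∀ x : D.obj k, _root_.IsReduced ((D.obj k).presheaf.stalk x) := by
      intro x
      have hr : _root_.IsReduced ((D.obj i₀).presheaf.stalk (D.map (ψ ≫ φ) x)) := by
        by_contra hn
        refine hj (show D.map ψ x ∈ _ from ?_)
        show D.map φ (D.map ψ x) ∈ {x | ¬ _root_.IsReduced ((D.obj i₀).presheaf.stalk x)}
        rw [← LimTop.map_comp_apply]
        exact hn
      exact isReduced_of_injective (inv ((D.map (ψ ≫ φ)).stalkMap x)).hom
        (ConcreteCategory.bijective_of_isIso (inv ((D.map (ψ ≫ φ)).stalkMap x))).1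
    exact isReduced_of_isReduced_stalk _
  · rintro ⟨i, φ, h⟩
    have := h i (𝟙 i)
    have : ∀ s : c.pt, _root_.IsReduced (c.pt.presheaf.stalk s) := by
      intro s
      have := (h85 i).2 s
      exact isReduced_of_injective (inv ((c.π.app i).stalkMap s)).hom
        (ConcreteCategory.bijective_of_isIso (inv ((c.π.app i).stalkMap s))).1
    exact isReduced_of_isReduced_stalk _

end Groth.Agent.S4782
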