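import Groth.Statements.S4783
import Groth.Agent.LimTop.Maximal
import Groth.Agent.S4782

set_option autoImplicit false
universe u
open CategoryTheory AlgebraicGeometry
open Lim8

namespace Groth.Agent.S4783

/-- Let S = lim S_i be a cofiltered limit of schemes whose transition maps are open immersions (in
particular affine), and let S_{i₀} be a Noetherian stage. Then S is integral if and only if there is
an index i over i₀ such that S_j is integral for every j over i. -/
theorem result {I : Type u} [SmallCategory I] [IsCofiltered I]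
    (D : I ⥤ Scheme.{u}) (c : Limits.Cone D) (hc : Limits.IsLimit c)
    [∀ (i j : I) (f : i ⟶ j), IsAffineHom (D.map f)] (i₀ : I)
    [IsNoetherian (D.obj i₀)] (hoi : ∀ (i j : I) (φ : i ⟶ j), IsOpenImmersion (D.map φ)) :
    IsIntegral c.pt ↔ ∃ (i : I) (_ : i ⟶ i₀), ∀ (j : I) (_ : j ⟶ i), IsIntegral (D.obj j) := by
  have h85 := S4785.result D c hc hoi
  have hN : ∀ U : (D.obj i₀).affineOpens, (nilradical Γ(D.obj i₀, U)).FG := fun U ↦
    have : IsNoetherianRing Γ(D.obj i₀, U) := IsLocallyNoetherian.component_noetherian U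
    Ideal.fg_of_isNoetherianRing _
  have hred := S4782.result D c hc i₀ hoi hN
  have hcpt : ∀ (j : I), (j ⟶ i₀) → CompactSpace (D.obj j) := fun j φ ↦
    QuasiCompact.compactSpace_of_compactSpace (D.map φ)
  constructor
  · intro h
    obtain ⟨i, φ, hi⟩ := hred.mp inferInstance
    let η : D.obj i₀ := c.π.app i₀ (genericPoint c.pt)
    have hgen : ∀ t : c.pt, c.π.app i₀ (genericPoint c.pt) ⤳ c.π.app i₀ t := fun t ↦
      (genericPoint_specializes t).map (c.π.app i₀).continuous
    let K := {θ : D.obj i₀ // LimTop.IsMaxPt θ ∧ θ ≠ η}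
    have : Finite K := by
      have hfin := TopologicalSpace.NoetherianSpace.finite_irreducibleComponents (α := D.obj i₀)
      have : Finite (irreducibleComponents (D.obj i₀)) := hfin.to_subtype
      refine Finite.of_injective (β := irreducibleComponents (D.obj i₀))
        (fun θ ↦ ⟨irreducibleComponent θ.1, irreducibleComponent_mem_irreducibleComponents θ.1⟩) ?_
      intro θ θ' e
      apply Subtype.ext
      have e' : irreducibleComponent θ.1 = irreducibleComponent θ'.1 := congrArg Subtype.val e
      obtain ⟨g, hg⟩ := QuasiSober.sober (S := irreducibleComponent θ.1)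
        isIrreducible_irreducibleComponent isClosed_irreducibleComponent
      exact (θ.2.1 g (hg.specializes mem_irreducibleComponent)).symm.trans
        (θ'.2.1 g (hg.specializes (e' ▸ mem_irreducibleComponent)))
    have hK : ∀ θ : K, ∃ (j : I) (ψ : j ⟶ i₀), θ.1 ∉ Set.range (D.map ψ) := by
      intro θ
      by_contra! hcon
      obtain ⟨t, ht⟩ := (LimTop.mem_range_π_iff hc θ.1).mpr hcon
      exact θ.2.2 ((θ.2.1 η (ht ▸ hgen t)).symm)
    choose w g hg using hK
    obtain ⟨k, f, p, hp⟩ := IsCofiltered.wideCospan g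
    obtain ⟨l, a, b, hab⟩ := IsCofiltered.cospan f φ
    refine ⟨l, b ≫ φ, fun j ψ ↦ ?_⟩
    have : IsReduced (D.obj j) := hi j (ψ ≫ b)
    have := hoi _ _ (ψ ≫ b ≫ φ)
    let η' : D.obj j := c.π.app j (genericPoint c.pt)
    have hall : ∀ y : D.obj j, η' ⤳ y := by
      intro y
      obtain ⟨θ, hθ, hθy⟩ := LimTop.exists_isMaxPt_specializes (D.map (ψ ≫ b ≫ φ) y)
      obtain ⟨z, rfl⟩ := hθy.mem_open (D.map (ψ ≫ b ≫ φ)).isOpenEmbedding.isOpen_range ⟨y, rfl⟩
      have hηz : D.map (ψ ≫ b ≫ φ) z = η := by
        by_contra hne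
        refine hg ⟨_, hθ, hne⟩ ⟨D.map (ψ ≫ a ≫ p ⟨_, hθ, hne⟩) z, ?_⟩
        rw [← LimTop.map_comp_apply, Category.assoc, Category.assoc, hp, hab]
      rw [← (D.map (ψ ≫ b ≫ φ)).isOpenEmbedding.isInducing.specializes_iff,
        LimTop.π_apply]
      rw [hηz] at hθy
      exact hθy
    have : IrreducibleSpace (D.obj j) :=
      { isPreirreducible_univ := fun U V hU hV ⟨x, _, hx⟩ ⟨y, _, hy⟩ ↦
          ⟨η', trivial, (hall x).mem_open hU hx, (hall y).mem_open hV hy⟩
        toNonempty := ⟨η'⟩ }
    exact isIntegral_of_irreducibleSpace_of_isReduced _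
  · rintro ⟨i, φ, h⟩
    have : IsReduced c.pt := hred.mpr ⟨i, φ, fun j ψ ↦ have := h j ψ; inferInstance⟩
    have := h i (𝟙 i)
    have := hcpt i φ
    have hne := LimTop.nonempty_of_forall hc i fun j ψ ↦ (h j ψ).nonempty
    have hη : genericPoint (D.obj i) ∈ Set.range (c.π.app i) :=
      (LimTop.mem_range_π_iff hc _).mpr fun j ψ ↦ by
        have := hoi _ _ ψ
        have := h j ψ
        exact (genericPoint_specializes (D.map ψ (genericPoint (D.obj j)))).mem_open
          (D.map ψ).isOpenEmbedding.isOpen_range ⟨_, rfl⟩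
    obtain ⟨e, he⟩ := hη
    have : IrreducibleSpace c.pt :=
      { isPreirreducible_univ := fun U V hU hV ⟨x, _, hx⟩ ⟨y, _, hy⟩ ↦ by
          obtain ⟨U', hU', rfl⟩ := (h85 i).1.isInducing.isOpen_iff.mp hU
          obtain ⟨V', hV', rfl⟩ := (h85 i).1.isInducing.isOpen_iff.mp hV
          refine ⟨e, trivial, ?_, ?_⟩
          · show c.π.app i e ∈ U'
            rw [he]; exact (genericPoint_specializes _).mem_open hU' hx
          · show c.π.app i e ∈ V'
            rw [he]; exact (genericPoint_specializes _).mem_open hV' hy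
        toNonempty := hne }
    exact isIntegral_of_irreducibleSpace_of_isReduced _

end Groth.Agent.S4783
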