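import Groth.Statements.S4786
import Groth.Agent.LimTop.Closure
import Groth.Agent.LimTop.FlatLim

set_option autoImplicit false
universe u
open CategoryTheory AlgebraicGeometry
open Lim8

namespace Groth.Agent.S4786

/-- Let S = lim S_i be a cofiltered limit of schemes whose transition maps are affine and flat, let
S_{i₁} be a quasi-compact stage, and let Z' and Z'' be pro-constructible subsets of S_{i₁} such that
the closure of Z' is constructible. Then the preimage of Z'' in S is contained in the closure of the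
preimage of Z' in S if and only if there is an index j over i₁ such that the preimage of Z'' in S_j
is contained in the closure of the preimage of Z' in S_j. -/
theorem result {I : Type u} [SmallCategory I] [IsCofiltered I]
    (D : I ⥤ Scheme.{u}) (c : Limits.Cone D) (hc : Limits.IsLimit c)
    [∀ (i j : I) (f : i ⟶ j), IsAffineHom (D.map f)] (i₁ : I) [CompactSpace (D.obj i₁)]
    (hfl : ∀ (i j : I) (φ : i ⟶ j), Flat (D.map φ))
    (Z' Z'' : Set (D.obj i₁)) (hZ' : ProCons.IsProConstructible Z') (hZ'' : ProCons.IsProConstructible Z'')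
    (hcl : Topology.IsConstructible (closure Z')) :
    (⇑(c.π.app i₁) ⁻¹' Z'' : Set c.pt) ⊆ closure (⇑(c.π.app i₁) ⁻¹' Z' : Set c.pt) ↔
      ∃ (j : I) (φ : j ⟶ i₁), ⇑(D.map φ) ⁻¹' Z'' ⊆ closure (⇑(D.map φ) ⁻¹' Z') := by
  have hπ : Flat (c.π.app i₁) := LimTop.flat_π hc i₁ fun j φ ↦ hfl j i₁ φ
  rw [LimTop.closure_preimage (c.π.app i₁) (Flat.generalizingMap _) hZ']
  have hcl' : ∀ (j : I) (φ : j ⟶ i₁),
      closure (⇑(D.map φ) ⁻¹' Z') = ⇑(D.map φ) ⁻¹' closure Z' := fun j φ ↦
    have := hfl j i₁ φ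
    LimTop.closure_preimage _ (Flat.generalizingMap _) hZ'
  simp only [hcl']
  constructor
  · intro H
    refine LimTop.exists_subset hc (fun j φ ↦ ⇑(D.map φ) ⁻¹' Z'') (fun j φ ↦ ⇑(D.map φ) ⁻¹' closure Z')
      (fun j φ ↦ LimTop.isProConstructible_preimage _ hZ'')
      (fun j φ ↦ LimTop.isIndConstructible_of_isLocallyConstructible
        ((D.map φ).isConstructible_preimage hcl).isLocallyConstructible)
      (fun j k ψ φ x hx ↦ show D.map φ (D.map ψ x) ∈ Z'' from LimTop.map_comp_apply D ψ φ x ▸ hx)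
      (fun j k ψ φ x hx ↦ show D.map (ψ ≫ φ) x ∈ closure Z' from
        (LimTop.map_comp_apply D ψ φ x).symm ▸ hx)
      (fun s hs ↦ ⟨i₁, 𝟙 _, ?_⟩)
    show D.map (𝟙 i₁) (c.π.app i₁ s) ∈ closure Z'
    rw [LimTop.map_id_apply]
    refine H ?_
    have h1 : D.map (𝟙 i₁) (c.π.app i₁ s) ∈ Z'' := hs i₁ (𝟙 _)
    rwa [LimTop.map_id_apply] at h1
  · rintro ⟨j, φ, h⟩
    rw [← LimTop.preimage_π c φ Z'', ← LimTop.preimage_π c φ (closure Z')]
    exact Set.preimage_mono h

end Groth.Agent.S4786
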