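import Groth.Statements.S4787
import Groth.Agent.LimTop.Basic
-- import your own Groth.Agent.* helpers here

set_option autoImplicit false
universe u
open CategoryTheory AlgebraicGeometry
open Lim8

namespace Groth.Agent.S4787

/-- Let S = lim S_i be a cofiltered limit of schemes with affine transition maps, some stage S_{i₀}
being quasi-compact. For every index let E_i be a pro-constructible and F_i an ind-constructible
subset of S_i such that, for every transition map S_i ⟶ S_j, E_i lies in the preimage of E_j and F_i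
contains the preimage of F_j. Put E = ⋂ (preimage of E_i in S) and F = ⋃ (preimage of F_i in S).
Then E ⊆ F if and only if there is an index i over i₀ such that E_j ⊆ F_j for every j over i. -/
theorem result {I : Type u} [SmallCategory I] [IsCofiltered I]
    (D : I ⥤ Scheme.{u}) (c : Limits.Cone D) (hc : Limits.IsLimit c)
    [∀ (i j : I) (f : i ⟶ j), IsAffineHom (D.map f)] (i₀ : I)
    [CompactSpace (D.obj i₀)] (E F : ∀ i : I, Set (D.obj i))
    (hE : ∀ i, ProCons.IsProConstructible (E i)) (hF : ∀ i, ProCons.IsIndConstructible (F i))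
    (hEm : ∀ (i j : I) (φ : i ⟶ j), E i ⊆ ⇑(D.map φ) ⁻¹' E j)
    (hFm : ∀ (i j : I) (φ : i ⟶ j), ⇑(D.map φ) ⁻¹' F j ⊆ F i) :
    (⋂ i, ⇑(c.π.app i) ⁻¹' E i : Set c.pt) ⊆ (⋃ i, ⇑(c.π.app i) ⁻¹' F i : Set c.pt) ↔
      ∃ (i : I) (_ : i ⟶ i₀), ∀ (j : I) (_ : j ⟶ i), E j ⊆ F j := by
  constructor
  · intro H
    obtain ⟨i, φ, h⟩ := LimTop.exists_subset hc (i₀ := i₀) (fun j _ ↦ E j) (fun j _ ↦ F j)
      (fun j _ ↦ hE j) (fun j _ ↦ hF j) (fun j k ψ _ ↦ hEm k j ψ) (fun j k ψ _ ↦ hFm k j ψ)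
      (fun s hs ↦ by
        have h1 : s ∈ (⋂ i, ⇑(c.π.app i) ⁻¹' E i : Set c.pt) := by
          refine Set.mem_iInter.mpr fun i ↦ ?_
          show c.π.app i s ∈ E i
          rw [← LimTop.π_apply c (IsCofiltered.minToLeft i i₀)]
          exact hEm _ _ _ (hs _ (IsCofiltered.minToRight i i₀))
        obtain ⟨i, hi⟩ := Set.mem_iUnion.mp (H h1)
        refine ⟨_, IsCofiltered.minToRight i i₀, hFm _ _ (IsCofiltered.minToLeft i i₀) ?_⟩
        show D.map _ (c.π.app _ s) ∈ F i
        rw [LimTop.π_apply]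
        exact hi)
    exact ⟨i, φ, fun j ψ x hx ↦ hFm j i ψ (h (hEm j i ψ hx))⟩
  · rintro ⟨i, φ, h⟩ s hs
    exact Set.mem_iUnion.mpr ⟨i, h i (𝟙 i) (Set.mem_iInter.mp hs i)⟩

end Groth.Agent.S4787
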