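import Groth.Statements.S4794
import Groth.Agent.LimTop.ModEventual

set_option autoImplicit false
universe u
open CategoryTheory AlgebraicGeometry
open Lim8

namespace Groth.Agent.S4794

/-- Let S = lim S_i be a cofiltered limit of schemes whose transition maps are affine and flat, and
S_{i₀} a quasi-compact stage; let f₀ : F₀ ⟶ G₀ be a homomorphism of quasi-coherent O-modules on
S_{i₀} whose kernel is an O-module of finite type. Then the pullback of f₀ along S ⟶ S_{i₀} is
injective (a monomorphism of O_S-modules) if and only if, for some index j over i₀, the pullback of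
f₀ along S_j ⟶ S_{i₀} is injective. -/
theorem result {I : Type u} [SmallCategory I] [IsCofiltered I]
    (D : I ⥤ Scheme.{u}) (c : Limits.Cone D) (hc : Limits.IsLimit c)
    [∀ (i j : I) (f : i ⟶ j), IsAffineHom (D.map f)] (i₀ : I) [CompactSpace (D.obj i₀)]
    (hfl : ∀ (i j : I) (φ : i ⟶ j), Flat (D.map φ))
    {F₀ G₀ : (D.obj i₀).Modules} [Coh.IsQCoh F₀]
    [Coh.IsQCoh G₀] (f₀ : F₀ ⟶ G₀)
    (hker : CohB1.IsFT (Limits.kernel f₀)) :
    Mono ((Scheme.Modules.pullback (c.π.app i₀)).map f₀) ↔
      ∃ (j : I) (φ : j ⟶ i₀), Mono ((Scheme.Modules.pullback (D.map φ)).map f₀) := by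
  open CategoryTheory.Limits Groth.Agent.LimTop in
  have hK : (kernel f₀).IsQuasicoherent := Groth.Agent.QCoh.isQuasicoherent_kernel f₀
  have hπ := preservesHomology_limit hc hfl i₀
  constructor
  · intro hm
    have h0 : (Scheme.Modules.pullback (c.π.app i₀)).map (kernel.ι f₀) =
        (Scheme.Modules.pullback (c.π.app i₀)).map 0 := by
      rw [Functor.map_zero, ← cancel_mono ((Scheme.Modules.pullback (c.π.app i₀)).map f₀),
        ← Functor.map_comp, kernel.condition, Functor.map_zero, zero_comp]
    obtain ⟨j, φ, hj⟩ := eventually_map_eq hc (finOn_of_isFiniteType _ hker ⊤) _ _ h0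
    have := hfl j i₀ φ
    have := preservesHomology_pullback (D.map φ)
    refine ⟨j, φ, ?_⟩
    have hex := (ShortComplex.exact_of_f_is_kernel
      (ShortComplex.mk (kernel.ι f₀) f₀ (kernel.condition f₀)) (kernelIsKernel f₀)).map
      (Scheme.Modules.pullback (D.map φ))
    exact (ShortComplex.exact_iff_mono _ (hj.trans (Functor.map_zero _ _ _))).mp hex
  · rintro ⟨j, φ, hm⟩
    have := flat_π hc j fun i ψ => hfl i j ψ
    have := preservesMonomorphisms_pullback (c.π.app j)
    have : Mono ((compIso (c.π.app j) (D.map φ) (c.w φ)).hom.app F₀ ≫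
        (Scheme.Modules.pullback (c.π.app i₀)).map f₀) := by
      rw [← (compIso (c.π.app j) (D.map φ) (c.w φ)).hom.naturality]
      have : Mono ((Scheme.Modules.pullback (D.map φ) ⋙ Scheme.Modules.pullback (c.π.app j)).map
          f₀) := inferInstanceAs (Mono ((Scheme.Modules.pullback (c.π.app j)).map
            ((Scheme.Modules.pullback (D.map φ)).map f₀)))
      infer_instance
    exact (mono_comp_iff_of_isIso _ _).mp this

end Groth.Agent.S4794
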