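import Groth.Statements.S4795
import Groth.Agent.LimLib.Model

set_option autoImplicit false
universe u
open CategoryTheory AlgebraicGeometry
open Lim8

namespace Groth.Agent.S4795

/-- Let S = lim S_i be a cofiltered limit of schemes with affine transition maps and S_{i₀} a
quasi-compact quasi-separated stage; let X₀ and Y₀ be schemes of finite presentation over S_{i₀},
and let X, Y be their base changes along S ⟶ S_{i₀} (base changes are expressed by pullback
squares). Then X and Y are isomorphic over S if and only if, for some index j over i₀, the base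
changes X_j and Y_j of X₀ and Y₀ along S_j ⟶ S_{i₀} are isomorphic over S_j. -/
theorem result {I : Type u} [SmallCategory I] [IsCofiltered I]
    (D : I ⥤ Scheme.{u}) (c : Limits.Cone D) (hc : Limits.IsLimit c)
    [∀ (i j : I) (f : i ⟶ j), IsAffineHom (D.map f)] (i₀ : I)
    [CompactSpace (D.obj i₀)] [QuasiSeparatedSpace (D.obj i₀)]
    {X₀ Y₀ : Scheme.{u}} (a₀ : X₀ ⟶ D.obj i₀) (b₀ : Y₀ ⟶ D.obj i₀)
    [LocallyOfFinitePresentation a₀] [QuasiCompact a₀] [QuasiSeparated a₀]
    [LocallyOfFinitePresentation b₀] [QuasiCompact b₀] [QuasiSeparated b₀]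
    {X Y : Scheme.{u}} (a : X ⟶ c.pt) (b : Y ⟶ c.pt) (qX : X ⟶ X₀) (qY : Y ⟶ Y₀)
    (hX : IsPullback qX a a₀ (c.π.app i₀)) (hY : IsPullback qY b b₀ (c.π.app i₀)) :
    (∃ e : X ≅ Y, e.hom ≫ b = a) ↔
      ∃ (j : I) (φ : j ⟶ i₀) (Xj Yj : Scheme.{u}) (aj : Xj ⟶ D.obj j) (bj : Yj ⟶ D.obj j)
        (pX : Xj ⟶ X₀) (pY : Yj ⟶ Y₀), IsPullback pX aj a₀ (D.map φ) ∧ IsPullback pY bj b₀ (D.map φ) ∧
        ∃ e : Xj ≅ Yj, e.hom ≫ bj = aj := by
  open CategoryTheory.Limits in
  constructor
  · rintro ⟨e, he⟩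
    let D' := Over.forget i₀ ⋙ D
    let c' := c.whisker (Over.forget i₀)
    have hc' : IsLimit c' := (Functor.Initial.isLimitWhiskerEquiv (Over.forget i₀) c).symm hc
    have (j k : Over i₀) (φ : j ⟶ k) : IsAffineHom (D'.map φ) :=
      inferInstanceAs (IsAffineHom (D.map φ.left))
    have (j : Over i₀) : CompactSpace (D'.obj j) :=
      QuasiCompact.compactSpace_of_compactSpace (D.map j.hom)
    have (j : Over i₀) : QuasiSeparatedSpace (D'.obj j) :=
      quasiSeparatedSpace_of_quasiSeparated (D.map j.hom)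
    have : CompactSpace X₀ := QuasiCompact.compactSpace_of_compactSpace a₀
    have : QuasiSeparatedSpace X₀ := quasiSeparatedSpace_of_quasiSeparated a₀
    have : CompactSpace Y₀ := QuasiCompact.compactSpace_of_compactSpace b₀
    have : QuasiSeparatedSpace Y₀ := quasiSeparatedSpace_of_quasiSeparated b₀
    have h₁ : IsPullback qX a a₀ (c'.π.app (Over.mk (𝟙 i₀))) := hX
    have h₂ : IsPullback (e.hom ≫ qY) a b₀ (c'.π.app (Over.mk (𝟙 i₀))) :=
      IsPullback.of_iso hY e.symm (Iso.refl _) (Iso.refl _) (Iso.refl _) (by simp) (by simp [← he])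
        (by simp) (by simp; rfl)
    have : @LocallyOfFinitePresentation X₀ (D'.obj (Over.mk (𝟙 i₀))) a₀ :=
      inferInstanceAs (LocallyOfFinitePresentation a₀)
    have : @LocallyOfFinitePresentation Y₀ (D'.obj (Over.mk (𝟙 i₀))) b₀ :=
      inferInstanceAs (LocallyOfFinitePresentation b₀)
    obtain ⟨j, φ, e', he', -⟩ := Groth.Agent.LimLib.exists_iso_stage hc' (i := Over.mk (𝟙 i₀)) (f := a) (q₁ := qX) (q₂ := e.hom ≫ qY) a₀ b₀ h₁ h₂
    exact ⟨j.left, φ.left, pullback a₀ (D'.map φ), pullback b₀ (D'.map φ), pullback.snd _ _,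
      pullback.snd _ _, pullback.fst _ _, pullback.fst _ _, IsPullback.of_hasPullback _ _,
      IsPullback.of_hasPullback _ _, e'.symm, (Iso.inv_comp_eq e').mpr he'.symm⟩
  · rintro ⟨j, φ, Xj, Yj, aj, bj, pX, pY, hXj, hYj, e, he⟩
    have hx : IsPullback (hXj.lift qX (a ≫ c.π.app j) (by rw [hX.w, Category.assoc, c.w]))
        a aj (c.π.app j) :=
      IsPullback.of_right (by simpa using hX) (by simp) hXj
    have hy : IsPullback (hYj.lift qY (b ≫ c.π.app j) (by rw [hY.w, Category.assoc, c.w]))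
        b bj (c.π.app j) :=
      IsPullback.of_right (by simpa using hY) (by simp) hYj
    exact ⟨(hx.of_iso (Iso.refl _) e (Iso.refl _) (Iso.refl _) (by simp; rfl) (by simp)
      (by simp [he]) (by simp)).isoIsPullback _ _ hy, IsPullback.isoIsPullback_hom_snd _ _ _ _⟩

end Groth.Agent.S4795
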