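import Groth.Statements.S4800
import Groth.Agent.LimLib.Basic
import Groth.Agent.LimTop.Descend
import Groth.Agent.LimTop.FlatLim
import Groth.Agent.FDesc.QuasiFlat

set_option autoImplicit false
universe u
open CategoryTheory AlgebraicGeometry
open Lim8

namespace Groth.Agent.S4800

open Limits in
/-- Dominance of a flat base change of a quasi-compact morphism. -/
theorem isDominant_iff {X₀ Y₀ X Y : Scheme.{u}} {f₀ : X₀ ⟶ Y₀} [QuasiCompact f₀] {f : X ⟶ Y}
    {q : Y ⟶ Y₀} [Flat q] {p : X ⟶ X₀} (h : IsPullback p f f₀ q) :
    IsDominant f ↔ q ⁻¹' closure (Set.range f₀) = Set.univ := by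
  have hr : Set.range f = q ⁻¹' Set.range f₀ := by
    rw [← h.isoPullback_hom_snd, Scheme.Hom.comp_base, TopCat.coe_comp, Set.range_comp,
      Set.range_eq_univ.mpr h.isoPullback.hom.surjective, Set.image_univ,
      Scheme.Pullback.range_snd]
  rw [FDesc.QuasiFlat.preimage_closure_range q (Flat.generalizingMap q) f₀, ← hr,
    ← dense_iff_closure_eq]
  exact ⟨fun h => h.1, fun h => ⟨h⟩⟩

/-- Let S = lim S_i be a cofiltered limit of schemes whose transition maps are affine and flat, and
S_{i₀} a quasi-compact stage; let X₀ ⟶ S_{i₀} be quasi-compact, Y₀ ⟶ S_{i₀} quasi-compact and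
quasi-separated, and f₀ : X₀ ⟶ Y₀ a morphism over S_{i₀} such that the closure of its image f₀(X₀)
is a constructible subset of Y₀. Let f : X ⟶ Y be the base change of f₀ along S ⟶ S_{i₀} (base
changes are expressed by pullback squares). Then f is dominant if and only if, for some index j over
i₀ and the base change f_j : X_j ⟶ Y_j of f₀ along S_j ⟶ S_{i₀}, f_j is dominant. (The published
statement asks instead that the image f₀(X₀) itself be constructible, which is not enough: let R be
the ring of locally constant functions from the Cantor set to a field, take for stages the spectra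
of the rings of locally constant functions on the clopen neighbourhoods of a point p, so that the
limit is the spectrum of the residue field at p, and take Y₀ = Spec R[t]/(m_p t) and X₀ its basic
open subset where t is invertible; the image of X₀ is constructible, the limit morphism is the
inclusion of the punctured affine line into the affine line, which is dominant, and no stage
morphism is dominant. The published proof applies the criterion for a preimage to lie in the closure
of the preimage of a pro-constructible subset along a flat limit, whose hypothesis is that the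
closure of that subset is constructible; the image f₀(X₀) is pro-constructible because f₀ is
quasi-compact, so constructibility of its closure is the hypothesis taken here.) -/
theorem result {I : Type u} [SmallCategory I] [IsCofiltered I]
    (D : I ⥤ Scheme.{u}) (c : Limits.Cone D) (hc : Limits.IsLimit c)
    [∀ (i j : I) (f : i ⟶ j), IsAffineHom (D.map f)] (i₀ : I) [CompactSpace (D.obj i₀)]
    (hfl : ∀ (i j : I) (φ : i ⟶ j), Flat (D.map φ))
    {X₀ Y₀ : Scheme.{u}} (f₀ : X₀ ⟶ Y₀) (g₀ : Y₀ ⟶ D.obj i₀)
    [QuasiCompact (f₀ ≫ g₀)] [QuasiCompact g₀] [QuasiSeparated g₀]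
    (hcl : Topology.IsConstructible (closure (Set.range ⇑f₀)))
    {X Y : Scheme.{u}} (f : X ⟶ Y) (g : Y ⟶ c.pt) (qY : Y ⟶ Y₀) (qX : X ⟶ X₀)
    (hY : IsPullback qY g g₀ (c.π.app i₀)) (hX : IsPullback qX f f₀ qY) :
    IsDominant f ↔ ∃ (j : I) (φ : j ⟶ i₀) (Xj Yj : Scheme.{u}) (fj : Xj ⟶ Yj) (gj : Yj ⟶ D.obj j)
      (pY : Yj ⟶ Y₀) (pX : Xj ⟶ X₀), IsPullback pY gj g₀ (D.map φ) ∧ IsPullback pX fj f₀ pY ∧
      IsDominant fj := by
  open CategoryTheory.Limits in
  have : CompactSpace Y₀ := QuasiCompact.compactSpace_of_compactSpace g₀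
  have : QuasiCompact f₀ := QuasiCompact.of_comp f₀ g₀
  have hπ : Flat (c.π.app i₀) := LimTop.flat_π hc i₀ fun j φ => hfl j i₀ φ
  have hq : Flat qY := MorphismProperty.of_isPullback hY.flip hπ
  constructor
  · intro hf
    rw [isDominant_iff hX] at hf
    let E := LimLib.bcDiag D i₀ g₀
    let i : Over i₀ := Over.mk (𝟙 i₀)
    have : CompactSpace (E.obj i) := inferInstance
    obtain ⟨j, φ, hj⟩ := LimTop.exists_subset (D := E) (LimLib.isLimitBcCone hc hY) (i₀ := i)
      (fun _ _ => Set.univ)
      (fun j _ => pullback.fst g₀ (D.map j.hom) ⁻¹' closure (Set.range f₀))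
      (fun _ _ => LimTop.isProConstructible_of_isLocallyConstructible .univ)
      (fun j _ => LimTop.isIndConstructible_of_isLocallyConstructible
        (LimTop.isLocallyConstructible_preimage _ hcl.isLocallyConstructible))
      (fun _ _ _ _ => Set.subset_univ _)
      (fun j k ψ _ x hx => by
        have e : E.map ψ ≫ pullback.fst g₀ (D.map j.hom) = pullback.fst g₀ (D.map k.hom) :=
          pullback.lift_fst _ _ _
        have ex := congrArg (fun m : _ ⟶ Y₀ => m x) e
        exact (congrArg (· ∈ closure (Set.range f₀)) ex).mp hx)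
      (fun s _ => ⟨i, 𝟙 i, by
        have hs : s ∈ qY ⁻¹' closure (Set.range f₀) := hf ▸ trivial
        have e : (LimLib.bcCone hY).π.app i ≫ pullback.fst g₀ (D.map i.hom) = qY :=
          pullback.lift_fst _ _ _
        exact (congrArg (fun m : _ ⟶ Y₀ => m s ∈ closure (Set.range f₀)) e).mpr hs⟩)
    have : Flat (pullback.fst g₀ (D.map j.hom)) :=
      MorphismProperty.pullback_fst _ _ (hfl _ _ j.hom)
    exact ⟨j.left, j.hom, _, _, pullback.snd f₀ (pullback.fst g₀ (D.map j.hom)), _, _, _,
      IsPullback.of_hasPullback g₀ (D.map j.hom), IsPullback.of_hasPullback _ _,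
      (isDominant_iff (IsPullback.of_hasPullback _ _)).mpr (Set.eq_univ_of_univ_subset hj)⟩
  · rintro ⟨j, φ, Xj, Yj, fj, gj, pY, pX, hYj, hXj, hd⟩
    have : Flat pY := MorphismProperty.of_isPullback hYj.flip (hfl _ _ φ)
    rw [isDominant_iff hXj] at hd
    rw [isDominant_iff hX, ← hYj.lift_fst qY (g ≫ c.π.app j) (by rw [hY.w, Category.assoc, c.w]),
      Scheme.Hom.comp_base, TopCat.coe_comp, Set.preimage_comp, hd, Set.preimage_univ]

end Groth.Agent.S4800
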