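import Groth.Statements.S4806
import Mathlib.AlgebraicGeometry.Morphisms.ClosedImmersion
import Mathlib.AlgebraicGeometry.Morphisms.QuasiFinite
import Mathlib.AlgebraicGeometry.ZariskisMainTheorem
import Mathlib.RingTheory.LocalRing.Module
-- import your own Groth.Agent.* helpers here

set_option autoImplicit false
set_option linter.style.haveILetI false
set_option backward.isDefEq.respectTransparency false
universe u
open CategoryTheory AlgebraicGeometry
open Lim8

namespace Groth.Agent.S4806

section
open CategoryTheory CategoryTheory.Limits AlgebraicGeometry IsLocalRing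
open scoped TensorProduct

/-- A base-change stable property of a fibre holds for the base change to any field over that point. -/
theorem of_fiber {X S : Scheme.{u}} (f : X ⟶ S) {K : Type u} [Field K]
    (g : Spec (CommRingCat.of K) ⟶ S) {P : MorphismProperty Scheme.{u}} [P.IsStableUnderBaseChange]
    [P.RespectsIso] (η : S) (hη : g (closedPoint K) = η) (h : P (f.fiberToSpecResidueField η)) :
    P (pullback.snd f g) := by
  subst hη
  let v := Spec.map (S.descResidueField (Scheme.stalkClosedPointTo g))
  let i := S.fromSpecResidueField (g (closedPoint K))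
  have hg : v ≫ i = g := Scheme.descResidueField_stalkClosedPointTo_fromSpecResidueField K S g
  let e : pullback (pullback.snd f i) v ≅ pullback f g :=
    pullbackLeftPullbackSndIso f i v ≪≫ pullback.congrHom rfl hg
  have he : e.hom ≫ pullback.snd f g = pullback.snd (pullback.snd f i) v := by simp [e]
  rw [← P.cancel_left_of_respectsIso e.hom, he]
  exact MorphismProperty.pullback_snd _ _ h

/-- A finite algebra with cyclic fibres is a quotient. -/
theorem surjective_of_residueField {A B : Type u} [CommRing A] [CommRing B] [Algebra A B] [Module.Finite A B]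
    (h : ∀ p : PrimeSpectrum A, Function.Surjective
      (algebraMap p.asIdeal.ResidueField (p.asIdeal.ResidueField ⊗[A] B))) :
    Function.Surjective (algebraMap A B) := by
  let N := LinearMap.range (Algebra.linearMap A B)
  have hC : Subsingleton (B ⧸ N) := by
    rw [← Module.support_eq_empty_iff (R := A), Set.eq_empty_iff_forall_notMem]
    intro p hp
    rw [Module.mem_support_iff_nontrivial_residueField_tensorProduct] at hp
    refine not_nontrivial_iff_subsingleton.mpr ?_ hp
    refine subsingleton_of_forall_eq 0 fun z => ?_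
    obtain ⟨w, rfl⟩ := LinearMap.lTensor_surjective p.asIdeal.ResidueField N.mkQ_surjective z
    obtain ⟨r, rfl⟩ := h p w
    rw [Algebra.TensorProduct.algebraMap_apply, LinearMap.lTensor_tmul,
      show N.mkQ (1 : B) = 0 from (Submodule.Quotient.mk_eq_zero N).mpr ⟨1, map_one (algebraMap A B)⟩,
      TensorProduct.tmul_zero]
  intro b
  exact (Submodule.Quotient.mk_eq_zero N).mp (Subsingleton.elim (N.mkQ b) 0)

/-- A finite morphism whose fibres are closed immersions is a closed immersion. -/
theorem isClosedImmersion_of_fibres {X Y : Scheme.{u}} (f : X ⟶ Y) [IsFinite f]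
    (h : ∀ y : Y, IsClosedImmersion (f.fiberToSpecResidueField y)) : IsClosedImmersion f := by
  refine isClosedImmersion_iff_isAffineHom.mpr ⟨inferInstance, fun U hU => ?_⟩
  have hV : IsAffineOpen (f ⁻¹ᵁ U) := hU.preimage f
  have sq : IsPullback hV.fromSpec (Spec.map (f.app U)) f hU.fromSpec := by
    refine IsPullback.of_iso ((isPullback_morphismRestrict f U).flip) hV.isoSpec (Iso.refl _) hU.isoSpec
      (Iso.refl _) ?_ ?_ ?_ ?_
    all_goals simp [IsAffineOpen.isoSpec_hom, Scheme.Hom.app_eq_appLE, Scheme.Hom.resLE_eq_morphismRestrict]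
  algebraize [(f.app U).hom]
  haveI : Module.Finite Γ(Y, U) Γ(X, f ⁻¹ᵁ U) := f.finite_app U hU
  refine surjective_of_residueField fun p => ?_
  let ψ := CommRingCat.ofHom (algebraMap Γ(Y, U) p.asIdeal.ResidueField)
  have h1 : IsClosedImmersion (pullback.snd f (Spec.map ψ ≫ hU.fromSpec)) :=
    of_fiber f (Spec.map ψ ≫ hU.fromSpec) (P := @IsClosedImmersion) _ rfl (h _)
  have sq2 : IsPullback (pullback.fst (Spec.map (f.app U)) (Spec.map ψ) ≫ hV.fromSpec)
      (pullback.snd (Spec.map (f.app U)) (Spec.map ψ)) f (Spec.map ψ ≫ hU.fromSpec) :=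
    (IsPullback.of_hasPullback (Spec.map (f.app U)) (Spec.map ψ)).paste_horiz sq
  have h2 : IsClosedImmersion (pullback.snd (Spec.map (f.app U)) (Spec.map ψ)) := by
    rw [← sq2.isoPullback_hom_snd, MorphismProperty.cancel_left_of_respectsIso
      (P := (@IsClosedImmersion : MorphismProperty Scheme.{u}))]
    exact h1
  have h3 : IsClosedImmersion (Spec.map (CommRingCat.ofHom
      (Algebra.TensorProduct.includeLeftRingHom :
        p.asIdeal.ResidueField →+* p.asIdeal.ResidueField ⊗[Γ(Y, U)] Γ(X, f ⁻¹ᵁ U)))) := by
    have e := pullbackSpecIso_inv_fst Γ(Y, U) p.asIdeal.ResidueField Γ(X, f ⁻¹ᵁ U)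
    rw [← e, MorphismProperty.cancel_left_of_respectsIso (P := (@IsClosedImmersion : MorphismProperty Scheme.{u}))]
    exact (MorphismProperty.cancel_left_of_respectsIso (P := (@IsClosedImmersion : MorphismProperty Scheme.{u}))
      (pullbackSymmetry _ _).hom _).mp (by rw [pullbackSymmetry_hom_comp_fst]; exact h2)
  haveI := h3
  let φ := CommRingCat.ofHom (Algebra.TensorProduct.includeLeftRingHom :
    p.asIdeal.ResidueField →+* p.asIdeal.ResidueField ⊗[Γ(Y, U)] Γ(X, f ⁻¹ᵁ U))
  have h4 := (IsClosedImmersion.isAffine_surjective_of_isAffine (Spec.map φ)).2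
  intro z
  obtain ⟨w, hw⟩ := h4 ((Scheme.ΓSpecIso _).inv z)
  refine ⟨(Scheme.ΓSpecIso _).hom w, ?_⟩
  have h5 := (ConcreteCategory.congr_hom (Scheme.ΓSpecIso_naturality φ) w).symm
  exact h5.trans ((congrArg (Scheme.ΓSpecIso _).hom hw).trans
    (ConcreteCategory.congr_hom (Scheme.ΓSpecIso (CommRingCat.of
      (p.asIdeal.ResidueField ⊗[Γ(Y, U)] Γ(X, f ⁻¹ᵁ U)))).inv_hom_id z))

end

/-- Let f : X ⟶ Y be a proper morphism of finite presentation. Then f is a closed immersion if and only
if, for every point y of Y, the scheme-theoretic fibre of f at y is empty or its structure morphism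
to Spec κ(y) is an isomorphism. -/
theorem result {X Y : Scheme.{u}} (f : X ⟶ Y) [IsProper f]
    [LocallyOfFinitePresentation f] :
    IsClosedImmersion f ↔ ∀ y : Y, IsEmpty (f.fiber y) ∨ IsIso (f.fiberToSpecResidueField y) := by
  constructor
  · intro hf y
    haveI : IsClosedImmersion (f.fiberToSpecResidueField y) :=
      MorphismProperty.pullback_snd (P := (@IsClosedImmersion : MorphismProperty Scheme.{u})) _ _ hf
    by_cases he : IsEmpty (f.fiber y)
    · exact Or.inl he
    · haveI : Nonempty (f.fiber y) := not_isEmpty_iff.mp he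
      haveI : Surjective (f.fiberToSpecResidueField y) :=
        ⟨fun z => ⟨Classical.arbitrary _, Subsingleton.elim _ _⟩⟩
      exact Or.inr (isIso_of_isClosedImmersion_of_surjective _)
  · intro h
    haveI : LocallyQuasiFinite f := by
      rw [locallyQuasiFinite_iff_finite_preimage_singleton]
      intro y
      refine Set.Subsingleton.finite fun a ha b hb => ?_
      rcases h y with he | he
      · exact (IsEmpty.false ((f.fiberHomeo y).symm ⟨a, ha⟩)).elim
      · have hinj : Function.Injective (f.fiberToSpecResidueField y) :=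
          (f.fiberToSpecResidueField y).homeomorph.injective
        have := (f.fiberHomeo y).symm.injective
          (hinj (Subsingleton.elim (f.fiberToSpecResidueField y ((f.fiberHomeo y).symm ⟨a, ha⟩))
            (f.fiberToSpecResidueField y ((f.fiberHomeo y).symm ⟨b, hb⟩))))
        exact congrArg Subtype.val this
    haveI : IsFinite f := IsFinite.of_isProper_of_locallyQuasiFinite f
    refine isClosedImmersion_of_fibres f fun y => ?_
    rcases h y with he | he
    · infer_instance
    · infer_instance

end Groth.Agent.S4806
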