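import Groth.Statements.S4807
import Groth.Agent.LocImm77.Finite

set_option autoImplicit false
universe u
open CategoryTheory AlgebraicGeometry
open Lim8

namespace Groth.Agent.S4807

/-- Let Y be a quasi-compact quasi-separated scheme and f : X ⟶ Y a separated morphism of finite type.
Let X' be the relative normalization of Y in X, the spectrum of the integral closure of O_Y in
f_*O_X, with its canonical morphism g : X ⟶ X'. Then f admits a factorization X ⟶ Y' ⟶ Y into an
immersion followed by a finite morphism if and only if g is an immersion. -/
theorem result {X Y : Scheme.{u}} (f : X ⟶ Y)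
    [CompactSpace Y] [QuasiSeparatedSpace Y] [IsSeparated f] [LocallyOfFiniteType f] [QuasiCompact f] :
    (∃ (Y' : Scheme.{u}) (f' : X ⟶ Y') (u : Y' ⟶ Y), IsImmersion f' ∧ IsFinite u ∧ f' ≫ u = f) ↔
      IsImmersion f.toNormalization := by
  open CategoryTheory.Limits in
  constructor
  · rintro ⟨Y', f', u, hf', hu, h⟩
    have : IsImmersion (f.toNormalization ≫ f.normalizationDesc f' u h.symm) := by
      rw [Scheme.Hom.toNormalization_normalizationDesc]; exact hf'
    exact IsImmersion.of_comp f.toNormalization (f.normalizationDesc f' u h.symm)
  · intro hg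
    have : IsOpenImmersion f.toNormalization := by
      have : IsIso f.toNormalization.imageι := by
        delta Scheme.Hom.imageι Scheme.Hom.image
        rw [f.ker_toNormalization]
        infer_instance
      rw [← f.toNormalization.toImage_imageι]
      infer_instance
    obtain ⟨J, hP, hdir, hne, D, c, hc, hD, ⟨e⟩⟩ := Groth.Agent.S7382.result f.fromNormalization
    haveI : ∀ (a b : Jᵒᵖ) (g : a ⟶ b), IsAffineHom (D.map g).left := fun a b g => by
      haveI := (hD a).1
      haveI := (hD b).1
      haveI : IsAffineHom ((D.map g).left ≫ (D.obj b).hom) := by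
        rw [Over.w]
        infer_instance
      exact IsAffineHom.of_comp (D.map g).left (D.obj b).hom
    let j : X ⟶ c.pt.left := f.toNormalization ≫ e.inv.left
    haveI : IsOpenImmersion j := inferInstanceAs (IsOpenImmersion (f.toNormalization ≫ e.inv.left))
    have hj : j ≫ c.pt.hom = f := by
      show (f.toNormalization ≫ e.inv.left) ≫ c.pt.hom = f
      rw [Category.assoc, Over.w e.inv]
      exact f.toNormalization_fromNormalization
    haveI : CompactSpace X := QuasiCompact.compactSpace_of_compactSpace f
    haveI : LocallyOfFiniteType (j ≫ c.pt.hom) := hj.symm ▸ inferInstance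
    obtain ⟨i, hi⟩ := Groth.Agent.LocImm77.exists_immersion_stage D c hc j
    exact ⟨_, j ≫ (c.π.app i).left, (D.obj i).hom, hi, (hD i).1,
      by rw [Category.assoc, Over.w (c.π.app i)]; exact hj⟩

end Groth.Agent.S4807
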