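import Groth.Statements.S4812
import Groth.Agent.LimTop.ModEventual

set_option autoImplicit false
universe u
open CategoryTheory AlgebraicGeometry
open Lim8

namespace Groth.Agent.S4812

open AlgebraicGeometry CategoryTheory CategoryTheory.Limits in
/-- Right exactness of a pulled back sequence, as the invertibility of the map from the cokernel. -/
theorem rightExact_iff {X Y : Scheme.{u}} (p : X ⟶ Y) {F G H : Y.Modules} (f : F ⟶ G) (g : G ⟶ H)
    (w : f ≫ g = 0) :
    ((ShortComplex.mk f g w).map (Scheme.Modules.pullback p)).Exact ∧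
        Epi ((Scheme.Modules.pullback p).map g) ↔
      IsIso ((Scheme.Modules.pullback p).map (cokernel.desc f g w)) := by
  let P := Scheme.Modules.pullback p
  have hc := CokernelCofork.mapIsColimit _ (cokernelIsCokernel f) P
  have : Epi (P.map (cokernel.π f)) := inferInstance
  constructor
  · rintro ⟨hex, hepi⟩
    have : Epi ((ShortComplex.mk f g w).map P).g := hepi
    have h2 := hex.gIsCokernel
    have : P.map (cokernel.desc f g w) = (IsColimit.coconePointUniqueUpToIso hc h2).hom := by
      rw [← cancel_epi (P.map (cokernel.π f)), ← Functor.map_comp, cokernel.π_desc]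
      exact (IsColimit.comp_coconePointUniqueUpToIso_hom hc h2 WalkingParallelPair.one).symm
    show IsIso (P.map _)
    rw [this]
    exact Iso.isIso_hom _
  · intro hi
    have hq : (cokernel.π f) ≫ cokernel.desc f g w = g := cokernel.π_desc _ _ _
    refine ⟨?_, ?_⟩
    · refine ShortComplex.exact_of_g_is_cokernel _ (IsColimit.ofIsoColimit hc
        (Cofork.ext (@asIso _ _ _ _ (P.map (cokernel.desc f g w)) hi) ?_))
      show P.map (cokernel.π f) ≫ P.map (cokernel.desc f g w) = P.map g
      rw [← Functor.map_comp, hq]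
    · rw [← hq, Functor.map_comp]
      have : Epi ((Scheme.Modules.pullback p).map (cokernel.π f)) := inferInstance
      infer_instance

open AlgebraicGeometry CategoryTheory CategoryTheory.Limits in
/-- Right exactness is invariant under natural isomorphism. -/
theorem rightExact_of_natIso {A B : Scheme.{u}} {P Q : A.Modules ⥤ B.Modules}
    [P.PreservesZeroMorphisms] (E : P ≅ Q) {F G H : A.Modules} (f : F ⟶ G) (g : G ⟶ H)
    {wP : P.map f ≫ P.map g = 0} (hex : (ShortComplex.mk _ _ wP).Exact) (hepi : Epi (P.map g))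
    (wQ : Q.map f ≫ Q.map g = 0) : (ShortComplex.mk _ _ wQ).Exact ∧ Epi (Q.map g) :=
  ⟨(ShortComplex.exact_iff_of_iso (ShortComplex.isoMk (E.app F) (E.app G) (E.app H)
    (E.hom.naturality f).symm (E.hom.naturality g).symm)).mp hex,
   Groth.Agent.LimTop.epi_of_natIso E g hepi⟩


/-- Let S = lim S_i be a cofiltered limit of schemes with affine transition maps and S_{i₀} a
quasi-compact stage; let f₀ : F₀ ⟶ G₀ and g₀ : G₀ ⟶ H₀ be homomorphisms of quasi-coherent O-modules
on S_{i₀}, with F₀ and G₀ of finite type and H₀ of finite presentation. Then the pulled-back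
sequence F ⟶ G ⟶ H ⟶ 0 on S is exact (the composite is zero, the sequence is exact at G, and G ⟶ H
is an epimorphism) if and only if, for some index j over i₀, the pulled-back sequence F_j ⟶ G_j ⟶
H_j ⟶ 0 on S_j is exact. -/
theorem result {I : Type u} [SmallCategory I] [IsCofiltered I]
    (D : I ⥤ Scheme.{u}) (c : Limits.Cone D) (hc : Limits.IsLimit c)
    [∀ (i j : I) (f : i ⟶ j), IsAffineHom (D.map f)] (i₀ : I) [CompactSpace (D.obj i₀)]
    {F₀ G₀ H₀ : (D.obj i₀).Modules} [Coh.IsQCoh F₀] [Coh.IsQCoh G₀] [Coh.IsQCoh H₀]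
    (hF₀ : CohB1.IsFT F₀) (hG₀ : CohB1.IsFT G₀) (hH₀ : CohB1.IsFP H₀) (f₀ : F₀ ⟶ G₀) (g₀ : G₀ ⟶ H₀) :
    (∃ w : (Scheme.Modules.pullback (c.π.app i₀)).map f₀ ≫ (Scheme.Modules.pullback (c.π.app i₀)).map g₀ = 0,
        (ShortComplex.mk _ _ w).Exact ∧ Epi ((Scheme.Modules.pullback (c.π.app i₀)).map g₀)) ↔
      ∃ (j : I) (φ : j ⟶ i₀) (w : (Scheme.Modules.pullback (D.map φ)).map f₀ ≫ (Scheme.Modules.pullback (D.map φ)).map g₀ = 0),
        (ShortComplex.mk _ _ w).Exact ∧ Epi ((Scheme.Modules.pullback (D.map φ)).map g₀) := by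
  open CategoryTheory.Limits Groth.Agent.LimTop in
  have hC : (cokernel f₀).IsQuasicoherent := Groth.Agent.QCoh.isQuasicoherent_cokernel f₀
  constructor
  · rintro ⟨w, hex, hepi⟩
    obtain ⟨j, φ, hj⟩ := eventually_map_eq hc (finOn_of_isFiniteType F₀ hF₀ ⊤) (f₀ ≫ g₀) 0
      (by rw [Functor.map_comp, w, Functor.map_zero])
    rw [Functor.map_comp, Functor.map_zero] at hj
    have := compactSpace_stage (D := D) φ
    let fj := (Scheme.Modules.pullback (D.map φ)).map f₀
    let gj := (Scheme.Modules.pullback (D.map φ)).map g₀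
    have hCj : (cokernel fj).IsQuasicoherent := Groth.Agent.QCoh.isQuasicoherent_cokernel fj
    have hiso : IsIso ((Scheme.Modules.pullback (c.π.app j)).map (cokernel.desc fj gj hj)) := by
      have hq := (rightExact_iff (c.π.app j) fj gj hj).mp (rightExact_of_natIso
        (compIso (c.π.app j) (D.map φ) (c.w φ)).symm f₀ g₀ hex hepi _)
      exact hq
    obtain ⟨k, ψ, hk⟩ := eventually_isIso hc
      (finOn_of_epi ((finOn_of_isFiniteType G₀ hG₀ ⊤).pullback (D.map φ) le_top) (cokernel.π fj))
      ((fpOn_of_isFP H₀ hH₀ ⊤).pullback (D.map φ) le_top) (cokernel.desc fj gj hj) hiso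
    obtain ⟨h1, h2⟩ := (rightExact_iff (D.map ψ) fj gj hj).mpr hk
    have e := compIso (D.map ψ) (D.map φ) (w_comp ψ φ)
    have w' : (Scheme.Modules.pullback (D.map (ψ ≫ φ))).map f₀ ≫
        (Scheme.Modules.pullback (D.map (ψ ≫ φ))).map g₀ = 0 := by
      rw [← Functor.map_comp, ← Functor.map_zero (Scheme.Modules.pullback (D.map (ψ ≫ φ))) F₀ H₀]
      refine map_eq_finer ψ φ ?_
      rw [Functor.map_comp, hj, Functor.map_zero]
    exact ⟨k, ψ ≫ φ, w', rightExact_of_natIso e f₀ g₀ h1 h2 w'⟩
  · rintro ⟨j, φ, w, hex, hepi⟩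
    have w' : (Scheme.Modules.pullback (c.π.app i₀)).map f₀ ≫
        (Scheme.Modules.pullback (c.π.app i₀)).map g₀ = 0 := by
      rw [← Functor.map_comp, ← Functor.map_zero (Scheme.Modules.pullback (c.π.app i₀)) F₀ H₀]
      refine map_eq_limit φ ?_
      rw [Functor.map_comp, w, Functor.map_zero]
    refine ⟨w', rightExact_of_natIso (compIso (c.π.app j) (D.map φ) (c.w φ)) f₀ g₀ (wP := ?_) ?_ ?_ w'⟩
    · exact (Functor.map_comp (Scheme.Modules.pullback (c.π.app j)) _ _).symm.trans
        ((congrArg _ w).trans (Functor.map_zero _ _ _))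
    · exact hex.map_of_epi_of_preservesCokernel (Scheme.Modules.pullback (c.π.app j)) hepi
        inferInstance
    · exact inferInstanceAs (Epi ((Scheme.Modules.pullback (c.π.app j)).map
        ((Scheme.Modules.pullback (D.map φ)).map g₀)))

end Groth.Agent.S4812
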