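import Groth.Statements.S4813
import Groth.Agent.LimTop.ModEventual

set_option autoImplicit false
universe u
open CategoryTheory AlgebraicGeometry
open Lim8

namespace Groth.Agent.S4813

/-- Let S = lim S_i be a cofiltered limit of schemes with affine transition maps and S_{i₀} a
quasi-compact stage; let F₀ be a quasi-coherent O-module of finite type on S_{i₀} and p₁ : F₀ ⟶ G₁,
p₂ : F₀ ⟶ G₂ two surjective homomorphisms onto quasi-coherent O-modules, G₁ being of finite
presentation. Then, on S, the pullback of p₂ factors through the pullback of p₁ (the quotient G₂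
becomes a quotient of G₁ after pullback to S) if and only if, for some index j over i₀, the pullback
of p₂ to S_j factors through the pullback of p₁ to S_j. -/
theorem result {I : Type u} [SmallCategory I] [IsCofiltered I]
    (D : I ⥤ Scheme.{u}) (c : Limits.Cone D) (hc : Limits.IsLimit c)
    [∀ (i j : I) (f : i ⟶ j), IsAffineHom (D.map f)] (i₀ : I) [CompactSpace (D.obj i₀)]
    {F₀ G₁ G₂ : (D.obj i₀).Modules} [Coh.IsQCoh F₀] [Coh.IsQCoh G₁] [Coh.IsQCoh G₂]
    (hF₀ : CohB1.IsFT F₀) (hG₁ : CohB1.IsFP G₁) (p₁ : F₀ ⟶ G₁) (p₂ : F₀ ⟶ G₂) [Epi p₁] [Epi p₂] :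
    (∃ k : (Scheme.Modules.pullback (c.π.app i₀)).obj G₁ ⟶ (Scheme.Modules.pullback (c.π.app i₀)).obj G₂, (Scheme.Modules.pullback (c.π.app i₀)).map p₁ ≫ k = (Scheme.Modules.pullback (c.π.app i₀)).map p₂) ↔
      ∃ (j : I) (φ : j ⟶ i₀) (k : (Scheme.Modules.pullback (D.map φ)).obj G₁ ⟶ (Scheme.Modules.pullback (D.map φ)).obj G₂),
        (Scheme.Modules.pullback (D.map φ)).map p₁ ≫ k = (Scheme.Modules.pullback (D.map φ)).map p₂ := by
  open CategoryTheory.Limits Groth.Agent.LimTop in
  have hK : (kernel p₁).IsQuasicoherent := Groth.Agent.QCoh.isQuasicoherent_kernel p₁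
  have key : ∀ {T : Scheme.{u}} (t : T ⟶ D.obj i₀),
      (∃ k : (Scheme.Modules.pullback t).obj G₁ ⟶ (Scheme.Modules.pullback t).obj G₂,
        (Scheme.Modules.pullback t).map p₁ ≫ k = (Scheme.Modules.pullback t).map p₂) ↔
      (Scheme.Modules.pullback t).map (kernel.ι p₁ ≫ p₂) = (Scheme.Modules.pullback t).map 0 := by
    intro T t
    rw [Functor.map_zero, Functor.map_comp]
    constructor
    · rintro ⟨k, hk⟩
      rw [← hk, ← Category.assoc, ← Functor.map_comp, kernel.condition, Functor.map_zero, zero_comp]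
    · intro h
      have hex := (ShortComplex.exact_of_f_is_kernel
        (ShortComplex.mk (kernel.ι p₁) p₁ (kernel.condition p₁))
        (kernelIsKernel p₁)).map_of_epi_of_preservesCokernel (Scheme.Modules.pullback t)
        inferInstance inferInstance
      have : Epi ((ShortComplex.mk (kernel.ι p₁) p₁ (kernel.condition p₁)).map
          (Scheme.Modules.pullback t)).g := inferInstanceAs (Epi ((Scheme.Modules.pullback t).map p₁))
      exact ⟨hex.desc _ h, hex.g_desc _ h⟩
  rw [key]
  refine ⟨fun h => ?_, fun ⟨j, φ, h⟩ => map_eq_limit φ ((key _).mp h)⟩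
  obtain ⟨j, φ, hj⟩ := eventually_map_eq hc
    (finOn_kernel (finOn_of_isFiniteType F₀ hF₀ ⊤) (fpOn_of_isFP G₁ hG₁ ⊤) p₁) _ _ h
  exact ⟨j, φ, (key _).mpr hj⟩

end Groth.Agent.S4813
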