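import Groth.Statements.S4815
import Groth.Agent.LimLib.Model

set_option autoImplicit false
universe u
open CategoryTheory AlgebraicGeometry
open Lim8

namespace Groth.Agent.S4815

/-- Let S = lim S_i be a cofiltered limit of schemes with affine transition maps and S_{i₀} a
quasi-compact quasi-separated stage. Then every subscheme of finite presentation of S, that is every
immersion ι : Z ⟶ S which is locally of finite presentation and quasi-compact, is the base change
along S ⟶ S_j of an immersion of finite presentation Z_j ⟶ S_j, for some index j over i₀ (the base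
change is expressed by a pullback square). -/
theorem result {I : Type u} [SmallCategory I] [IsCofiltered I]
    (D : I ⥤ Scheme.{u}) (c : Limits.Cone D) (hc : Limits.IsLimit c)
    [∀ (i j : I) (f : i ⟶ j), IsAffineHom (D.map f)] (i₀ : I)
    [CompactSpace (D.obj i₀)] [QuasiSeparatedSpace (D.obj i₀)]
    {Z : Scheme.{u}} (ι : Z ⟶ c.pt) [IsImmersion ι] [LocallyOfFinitePresentation ι] [QuasiCompact ι] :
    ∃ (j : I) (_ : j ⟶ i₀) (Zj : Scheme.{u}) (ιj : Zj ⟶ D.obj j) (q : Z ⟶ Zj),
      IsImmersion ιj ∧ LocallyOfFinitePresentation ιj ∧ QuasiCompact ιj ∧ IsPullback q ι ιj (c.π.app j) := by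
  open CategoryTheory.Limits in
  let D' := Over.forget i₀ ⋙ D
  let c' := c.whisker (Over.forget i₀)
  have hc' : IsLimit c' := (Functor.Initial.isLimitWhiskerEquiv (Over.forget i₀) c).symm hc
  have (j k : Over i₀) (φ : j ⟶ k) : IsAffineHom (D'.map φ) :=
    inferInstanceAs (IsAffineHom (D.map φ.left))
  have (j : Over i₀) : CompactSpace (D'.obj j) :=
    QuasiCompact.compactSpace_of_compactSpace (D.map j.hom)
  have (j : Over i₀) : QuasiSeparatedSpace (D'.obj j) :=
    quasiSeparatedSpace_of_quasiSeparated (D.map j.hom)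
  have : IsAffineHom (c.π.app i₀) := isAffineHom_π_app D c hc i₀
  have : CompactSpace c.pt := QuasiCompact.compactSpace_of_compactSpace (c.π.app i₀)
  have : QuasiSeparatedSpace c.pt := quasiSeparatedSpace_of_quasiSeparated (c.π.app i₀)
  have : CompactSpace Z := QuasiCompact.compactSpace_of_compactSpace ι
  have : QuasiSeparatedSpace Z := quasiSeparatedSpace_of_quasiSeparated ι
  obtain ⟨k, Zk, ιk, q, h₁, h₂, h₃, hq⟩ := Groth.Agent.LimLib.hasModel hc' (c := c') ι
  obtain ⟨l, φ, hl⟩ := Groth.Agent.LimLib.descends_isImmersion D' c' hc' inferInstance inferInstance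
    inferInstance k Zk ιk h₂ h₃ (inferInstanceAs (LocallyOfFiniteType ιk)) Z q ι hq ‹IsImmersion ι›
  obtain ⟨r₁, r₂, r₃, hZ⟩ := Groth.Agent.LimLib.HasModel.at_finer (c := c') h₁ h₂ h₃ hq φ
  have hqc : QuasiCompact (pullback.snd ιk (D'.map φ)) := inferInstance
  exact ⟨l.left, l.hom, _, _, _, hl, r₁, hqc, hZ⟩

end Groth.Agent.S4815
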