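import Groth.Statements.S4816
import Groth.Agent.LimTop.Stage

set_option autoImplicit false
universe u
open CategoryTheory AlgebraicGeometry
open Lim8

namespace Groth.Agent.S4816

open CategoryTheory.Limits in
/-- A base change of `Z₁` factors through that of `Z₂` iff the intersection is everything. -/
theorem factor_iff {S Z₁ Z₂ T : Scheme.{u}} (ι₁ : Z₁ ⟶ S) (ι₂ : Z₂ ⟶ S) [Mono ι₂] (t : T ⟶ S) :
    (∃ k : pullback ι₁ t ⟶ pullback ι₂ t, k ≫ pullback.snd ι₂ t = pullback.snd ι₁ t) ↔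
      IsIso (pullback.snd (pullback.fst ι₁ ι₂) (pullback.fst ι₁ t)) := by
  constructor
  · rintro ⟨k, hk⟩
    have hw : pullback.fst ι₁ t ≫ ι₁ = (k ≫ pullback.fst ι₂ t) ≫ ι₂ := by
      rw [Category.assoc, pullback.condition, pullback.condition, reassoc_of% hk]
    let m := pullback.lift (pullback.fst ι₁ t) (k ≫ pullback.fst ι₂ t) hw
    let s := pullback.lift (f := pullback.fst ι₁ ι₂) (g := pullback.fst ι₁ t) m (𝟙 _)
      (by rw [Category.id_comp]; exact pullback.lift_fst _ _ _)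
    have hs : s ≫ pullback.snd _ _ = 𝟙 _ := pullback.lift_snd _ _ _
    refine ⟨s, ?_, hs⟩
    rw [← cancel_mono (pullback.snd (pullback.fst ι₁ ι₂) (pullback.fst ι₁ t)), Category.assoc, hs,
      Category.comp_id, Category.id_comp]
  · intro h
    refine ⟨pullback.lift (inv (pullback.snd (pullback.fst ι₁ ι₂) (pullback.fst ι₁ t)) ≫
      pullback.fst _ _ ≫ pullback.snd _ _) (pullback.snd ι₁ t) ?_, pullback.lift_snd _ _ _⟩
    simp only [Category.assoc, ← pullback.condition (f := ι₁) (g := ι₂)]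
    rw [pullback.condition_assoc, IsIso.inv_hom_id_assoc, pullback.condition]


open CategoryTheory.Limits in
/-- Let S = lim S_i be a cofiltered limit of schemes with affine transition maps and S_{i₀} a
quasi-compact stage; let ι₁ : Z₁ ⟶ S_{i₀} and ι₂ : Z₂ ⟶ S_{i₀} be two subschemes of finite
presentation of S_{i₀} (immersions which are locally of finite presentation and quasi-compact), with
base changes Z₁ ×_{S_{i₀}} T ⟶ T to T = S and to T = S_j. Then Z₁ ×_{S_{i₀}} S is a subscheme of Z₂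
×_{S_{i₀}} S (its immersion into S factors through that of Z₂ ×_{S_{i₀}} S) if and only if, for some
index j over i₀, Z₁ ×_{S_{i₀}} S_j is a subscheme of Z₂ ×_{S_{i₀}} S_j. -/
theorem result {I : Type u} [SmallCategory I] [IsCofiltered I]
    (D : I ⥤ Scheme.{u}) (c : Limits.Cone D) (hc : Limits.IsLimit c)
    [∀ (i j : I) (f : i ⟶ j), IsAffineHom (D.map f)] (i₀ : I) [CompactSpace (D.obj i₀)]
    {Z₁ Z₂ : Scheme.{u}} (ι₁ : Z₁ ⟶ D.obj i₀) (ι₂ : Z₂ ⟶ D.obj i₀)
    [IsImmersion ι₁] [LocallyOfFinitePresentation ι₁] [QuasiCompact ι₁]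
    [IsImmersion ι₂] [LocallyOfFinitePresentation ι₂] [QuasiCompact ι₂] :
    (∃ k : pullback ι₁ (c.π.app i₀) ⟶ pullback ι₂ (c.π.app i₀),
        k ≫ pullback.snd ι₂ (c.π.app i₀) = pullback.snd ι₁ (c.π.app i₀)) ↔
      ∃ (j : I) (φ : j ⟶ i₀) (k : pullback ι₁ (D.map φ) ⟶ pullback ι₂ (D.map φ)),
        k ≫ pullback.snd ι₂ (D.map φ) = pullback.snd ι₁ (D.map φ) := by
  open CategoryTheory.Limits in
  let P := MorphismProperty.isomorphisms Scheme.{u}
  have hfac : ∀ {T : Scheme.{u}} (t : T ⟶ D.obj i₀),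
      (∃ k : pullback ι₁ t ⟶ pullback ι₂ t, k ≫ pullback.snd ι₂ t = pullback.snd ι₁ t) ↔
        P (pullback.snd (pullback.fst ι₁ ι₂) (pullback.fst ι₁ t)) := fun t => factor_iff ι₁ ι₂ t
  have : CompactSpace Z₁ := QuasiCompact.compactSpace_of_compactSpace ι₁
  have hf : LocallyOfFinitePresentation (pullback.fst ι₁ ι₂) := inferInstance
  refine ⟨fun h => ?_, ?_⟩
  · obtain ⟨j, φ, hj⟩ := Groth.Agent.LimTop.exists_stage_of_compact (P := P)
      Groth.Agent.LimLib.descends_isIso hc hf (IsPullback.of_hasPullback ι₁ (c.π.app i₀))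
      (IsPullback.of_hasPullback (pullback.fst ι₁ ι₂) _) ((hfac _).mp h)
    exact ⟨j, φ, (hfac _).mpr hj⟩
  · rintro ⟨j, φ, h⟩
    refine (hfac _).mpr (Groth.Agent.LimLib.property_of_factor (P := P)
      (IsPullback.of_hasPullback _ _) (IsPullback.of_hasPullback _ _)
      (pullback.map ι₁ (c.π.app i₀) ι₁ (D.map φ) (𝟙 _) (c.π.app j) (𝟙 _) (by simp) (by simp))
      ((pullback.lift_fst _ _ _).trans (Category.comp_id _)) ((hfac _).mp h))

end Groth.Agent.S4816
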