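import Groth.Statements.S4822
import Groth.Agent.AmpleDesc.FibreLocus

set_option autoImplicit false
open CategoryTheory AlgebraicGeometry
universe u
open Cons9

open CategoryTheory.Limits
set_option backward.isDefEq.respectTransparency.types false
namespace Groth.Agent.S4822

open CategoryTheory.Limits in
theorem isLocallyConstructible_compl {T : Type u} [TopologicalSpace T] {E : Set T}
    (h : Topology.IsLocallyConstructible E) : Topology.IsLocallyConstructible Eᶜ := fun x =>
  let ⟨U, hx, hU, hc⟩ := h x
  ⟨U, hx, hU, by rw [Set.preimage_compl]; exact hc.compl⟩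

/-- Let g : Y ⟶ S and f : X ⟶ Y be morphisms such that X and Y are of finite presentation over S
(locally of finite presentation, quasi-compact and quasi-separated) and f is proper, and let L be an
invertible O_X-module. For each point s of S let f_s : X_s ⟶ Y_s be the morphism induced on the
fibres over s and L_s the pullback of L to X_s. Then the set of s for which L_s is ample relative to
f_s is locally constructible in S. This is the case of relative ampleness (the very ample case is
not stated here). -/
theorem result {X Y S : Scheme.{u}} (f : X ⟶ Y) (g : Y ⟶ S)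
    [LocallyOfFinitePresentation g] [QuasiCompact g] [QuasiSeparated g]
    [LocallyOfFinitePresentation (f ≫ g)] [QuasiCompact (f ≫ g)] [QuasiSeparated (f ≫ g)] [IsProper f]
    (L : X.Modules) (hL : PicF.IsInvertible L) :
    Topology.IsLocallyConstructible {s : S |
      RelAmple.IsRelAmple
        (pullback.lift (pullback.fst (f ≫ g) (S.fromSpecResidueField s) ≫ f) (pullback.snd (f ≫ g) (S.fromSpecResidueField s))
          ((Category.assoc _ _ _).trans pullback.condition) :
          pullback (f ≫ g) (S.fromSpecResidueField s) ⟶ pullback g (S.fromSpecResidueField s))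
        ((Scheme.Modules.pullback (pullback.fst (f ≫ g) (S.fromSpecResidueField s))).obj L)} := by
  have hf : LocallyOfFinitePresentation f := MorphismProperty.of_postcomp (W := @LocallyOfFinitePresentation) (W' := @LocallyOfFiniteType) f g inferInstance ‹_›
  have hU := Groth.Agent.AmpleDesc.isLocallyConstructible_ampAt f hL
  have h := isLocallyConstructible_compl (g.isLocallyConstructible_image (isLocallyConstructible_compl hU))
  refine (Eq.mp ?_ h)
  refine congrArg Topology.IsLocallyConstructible (Set.ext fun s => ?_)
  let p := S.fromSpecResidueField s
  have sq := Groth.Agent.FibreIndCons.isPullback_fibMap f g (q := p)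
  haveI : IsProper (Groth.Agent.FibreIndCons.fibMap f g p) := MorphismProperty.of_isPullback sq ‹_›
  haveI : LocallyOfFinitePresentation (Groth.Agent.FibreIndCons.fibMap f g p) :=
    MorphismProperty.of_isPullback sq hf
  refine Iff.trans ?_ (Groth.Agent.AmpleDesc.isRelAmple_iff_forall_ampAt
    (Groth.Agent.FibreIndCons.fibMap f g p) (Groth.Agent.PicCl.isInvertible_pullback _ hL)).symm
  constructor
  · intro hs y
    refine (Groth.Agent.AmpleDesc.ampAt_preimage sq hL y).2 ?_
    by_contra hy
    refine hs ⟨_, hy, ?_⟩
    rw [← Scheme.Hom.comp_apply, pullback.condition, Scheme.Hom.comp_apply]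
    exact Scheme.fromSpecResidueField_apply _ _
  · rintro hs ⟨y, hy, rfl⟩
    obtain ⟨y', hy'⟩ : y ∈ Set.range (pullback.fst g p) := by
      rw [Scheme.Pullback.range_fst, Scheme.range_fromSpecResidueField]
      rfl
    exact hy (hy' ▸ (Groth.Agent.AmpleDesc.ampAt_preimage sq hL y').1 (hs y'))

end Groth.Agent.S4822
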