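import Groth.Statements.S4823
import Groth.Agent.LimLib.FGSub
import Groth.Agent.LimLib.Basic
import Groth.Agent.S4790
import Groth.Agent.LimTop.ModModel
import Mathlib.RingTheory.Jacobson.Ring

set_option autoImplicit false
open CategoryTheory AlgebraicGeometry
universe u
open Cons9

open CategoryTheory Limits Opposite Groth.Agent.LimLib
namespace Groth.Agent.S4823

open CategoryTheory.Limits in
open CategoryTheory Limits in
/-- The structure map of a stage. -/
noncomputable abbrev πD (k K : Type u) [Field k] [Field K] [Algebra k K] (i : (Finset K)ᵒᵖ) :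
    (Groth.Agent.LimLib.fgDiagram k K).obj i ⟶ Spec (CommRingCat.of k) :=
  Spec.map (CommRingCat.ofHom (algebraMap k (Algebra.adjoin k (i.unop : Set K))))

theorem map_πD (k K : Type u) [Field k] [Field K] [Algebra k K] {i j : (Finset K)ᵒᵖ} (a : i ⟶ j) :
    (Groth.Agent.LimLib.fgDiagram k K).map a ≫ πD k K j = πD k K i := by
  refine (Spec.map_comp _ _).symm.trans (congrArg Spec.map (CommRingCat.hom_ext (RingHom.ext fun x => ?_)))
  exact (Groth.Agent.LimLib.fgIncl k K a.unop.le).commutes x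

theorem π_πD (k K : Type u) [Field k] [Field K] [Algebra k K] (i : (Finset K)ᵒᵖ) :
    (Groth.Agent.LimLib.fgCone k K).π.app i ≫ πD k K i = Spec.map (CommRingCat.ofHom (algebraMap k K)) :=
  (Spec.map_comp _ _).symm.trans rfl

theorem isFP_pullback' {X Y : Scheme.{u}} (g : X ⟶ Y) (F : Y.Modules) [Coh.IsQCoh F] (hF : CohB1.IsFP F) :
    Coh.IsQCoh ((Scheme.Modules.pullback g).obj F) ∧ CohB1.IsFP ((Scheme.Modules.pullback g).obj F) := by
  have : F.IsQuasicoherent := ‹_›
  exact ⟨Groth.Agent.QCoh.isQuasicoherent_pullback g F,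
    Groth.Agent.LimTop.isFP_of_fpOn _ ((Groth.Agent.LimTop.fpOn_of_isFP F hF ⊤).pullback g le_top)⟩

/-- Let k be a field, Ω an algebraically closed extension field of k, X a scheme of finite type over k
and F, G two coherent O_X-modules (quasi-coherent of finite presentation). If the pullbacks of F and
G to X ⊗_k Ω are isomorphic, then there is a finite extension k' of k such that the pullbacks of F
and G to X ⊗_k k' are already isomorphic (base changes are the chosen fibre products with Spec of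
the extension, and the modules are pulled back along the first projection). -/
theorem result {k : Type u} [Field k] {X : Scheme.{u}}
    (p : X ⟶ Spec (CommRingCat.of k)) [LocallyOfFiniteType p] [QuasiCompact p]
    (F G : X.Modules) [Coh.IsQCoh F] [Coh.IsQCoh G] (hF : CohB1.IsFP F) (hG : CohB1.IsFP G)
    (Ω : Type u) [Field Ω] [Algebra k Ω] [IsAlgClosed Ω]
    (e : (Scheme.Modules.pullback (pullback.fst p (Spec.map (CommRingCat.ofHom (algebraMap k Ω))))).obj F ≅
      (Scheme.Modules.pullback (pullback.fst p (Spec.map (CommRingCat.ofHom (algebraMap k Ω))))).obj G) :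
    ∃ (k' : Type u) (_ : Field k') (_ : Algebra k k') (_ : Module.Finite k k'),
      Nonempty ((Scheme.Modules.pullback (pullback.fst p (Spec.map (CommRingCat.ofHom (algebraMap k k'))))).obj F ≅
        (Scheme.Modules.pullback (pullback.fst p (Spec.map (CommRingCat.ofHom (algebraMap k k'))))).obj G) := by
  classical
  let ιK := Spec.map (CommRingCat.ofHom (algebraMap k Ω))
  have : IsLocallyNoetherian X := LocallyOfFiniteType.isLocallyNoetherian p
  have : LocallyOfFinitePresentation p := inferInstance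
  have : CompactSpace X := QuasiCompact.compactSpace_of_compactSpace p
  have : QuasiSeparated p := QuasiSeparated.of_quasiSeparatedSpace p
  let i₀ : (Finset Ω)ᵒᵖ := op ∅
  let g₀ := pullback.snd p (πD k Ω i₀)
  let sX : pullback p ιK ⟶ (fgCone k Ω).pt := pullback.snd p ιK
  have : QuasiSeparated g₀ := MorphismProperty.pullback_snd _ _ inferInstance
  have : QuasiCompact g₀ := MorphismProperty.pullback_snd _ _ inferInstance
  let qX₀ : pullback p ιK ⟶ pullback p (πD k Ω i₀) :=
    pullback.lift (pullback.fst _ _) (pullback.snd _ _ ≫ (fgCone k Ω).π.app i₀) (by erw [Category.assoc, π_πD]; exact pullback.condition)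
  have hX₀ : IsPullback qX₀ sX g₀ ((fgCone k Ω).π.app i₀) := by
    refine IsPullback.of_right ?_ (pullback.lift_snd _ _ _) (IsPullback.of_hasPullback p (πD k Ω i₀))
    erw [pullback.lift_fst, π_πD]
    exact IsPullback.of_hasPullback p ιK
  have : QuasiSeparatedSpace (↑(pullback p (πD k Ω i₀)) : Type u) := quasiSeparatedSpace_of_quasiSeparated g₀
  have : CompactSpace (↑(pullback p (πD k Ω i₀)) : Type u) := QuasiCompact.compactSpace_of_compactSpace g₀
  let r : (bcDiag (fgDiagram k Ω) i₀ g₀).obj (Over.mk (𝟙 i₀)) ⟶ X :=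
    pullback.fst g₀ ((fgDiagram k Ω).map (Over.mk (𝟙 i₀)).hom) ≫ pullback.fst p (πD k Ω i₀)
  obtain ⟨hFq, hFf⟩ := isFP_pullback' r F hF
  obtain ⟨hGq, hGf⟩ := isFP_pullback' r G hG
  let u₀ := (bcCone hX₀).π.app (Over.mk (𝟙 i₀))
  have hu : u₀ ≫ r = pullback.fst p ιK :=
    (Category.assoc _ _ _).symm.trans ((congrArg (· ≫ pullback.fst p (πD k Ω i₀)) (pullback.lift_fst _ _ _)).trans (pullback.lift_fst _ _ _))
  obtain ⟨j, φ, ⟨e'⟩⟩ := (Groth.Agent.S4790.result (bcDiag (fgDiagram k Ω) i₀ g₀) (bcCone hX₀)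
    (isLimitBcCone (isLimitFgCone k Ω) hX₀) (Over.mk (𝟙 i₀)) _ _ hFf hGf).mp
      ⟨(Groth.Agent.LimTop.compIso u₀ r hu).app F ≪≫ e ≪≫ ((Groth.Agent.LimTop.compIso u₀ r hu).app G).symm⟩
  let A := Algebra.adjoin k (j.left.unop : Set Ω)
  obtain ⟨m, hm⟩ := Ideal.exists_maximal A
  letI := Ideal.Quotient.field m
  have : Algebra.FiniteType k A := (Subalgebra.fg_iff_finiteType A).mp ⟨j.left.unop, rfl⟩
  have : Algebra.FiniteType k (A ⧸ m) := inferInstance
  have hfin : Module.Finite k (A ⧸ m) := finite_of_finite_type_of_isJacobsonRing k _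
  let μ : Spec (CommRingCat.of (A ⧸ m)) ⟶ (fgDiagram k Ω).obj j.left := Spec.map (CommRingCat.ofHom (Ideal.Quotient.mk m))
  have hμ : μ ≫ πD k Ω j.left = Spec.map (CommRingCat.ofHom (algebraMap k (A ⧸ m))) := (Spec.map_comp _ _).symm.trans rfl
  let ι' := Spec.map (CommRingCat.ofHom (algebraMap k (A ⧸ m)))
  have hXj : IsPullback (pullback.fst g₀ ((fgDiagram k Ω).map j.hom) ≫ pullback.fst p (πD k Ω i₀))
      (pullback.snd g₀ ((fgDiagram k Ω).map j.hom)) p (πD k Ω j.left) := by
    rw [← map_πD k Ω j.hom]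
    exact (IsPullback.of_hasPullback g₀ ((fgDiagram k Ω).map j.hom)).paste_horiz (IsPullback.of_hasPullback p (πD k Ω i₀))
  let a' : pullback p ι' ⟶ (bcDiag (fgDiagram k Ω) i₀ g₀).obj j :=
    hXj.lift (pullback.fst _ _) (pullback.snd _ _ ≫ μ) (by rw [Category.assoc, hμ, pullback.condition])
  have hr : (a' ≫ (bcDiag (fgDiagram k Ω) i₀ g₀).map φ) ≫ r = pullback.fst p ι' := by
    refine (Category.assoc _ _ _).trans ((congrArg (a' ≫ ·) ?_).trans (hXj.lift_fst _ _ _))
    exact (Category.assoc _ _ _).symm.trans (congrArg (· ≫ pullback.fst p (πD k Ω i₀)) (pullback.lift_fst _ _ _))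
  let ii := fun M => (Groth.Agent.LimTop.compIso a' ((bcDiag (fgDiagram k Ω) i₀ g₀).map φ) rfl).app
    ((Scheme.Modules.pullback r).obj M) ≪≫ (Groth.Agent.LimTop.compIso (a' ≫ (bcDiag (fgDiagram k Ω) i₀ g₀).map φ) r hr).app M
  exact ⟨A ⧸ m, inferInstance, inferInstance, hfin,
    ⟨(ii F).symm ≪≫ (Scheme.Modules.pullback a').mapIso e' ≪≫ ii G⟩⟩

end Groth.Agent.S4823
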