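import Groth.Statements.S4824
import Mathlib.AlgebraicGeometry.Geometrically.Integral
import Mathlib.RingTheory.TensorProduct.MvPolynomial
import Mathlib.RingTheory.TensorProduct.Quotient
import Mathlib.RingTheory.Jacobson.Ring
import Mathlib.RingTheory.Polynomial.UniqueFactorization
import Mathlib.Algebra.MvPolynomial.Nilpotent

set_option autoImplicit false
open CategoryTheory AlgebraicGeometry
universe u
open Cons9

namespace Groth.Agent.S4824

open MvPolynomial

theorem totalDegree_map_eq {A B : Type u} [CommRing A] [CommRing B] {φ : A →+* B} (hφ : Function.Injective φ) {n : ℕ}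
    (G : MvPolynomial (Fin n) A) : (MvPolynomial.map φ G).totalDegree = G.totalDegree := by
  rw [MvPolynomial.totalDegree, MvPolynomial.support_map_of_injective G hφ]
  rfl

theorem not_isUnit_of_pos {K : Type u} [Field K] {n : ℕ} {G : MvPolynomial (Fin n) K}
    (h : 0 < G.totalDegree) : ¬ IsUnit G := fun hu => by
  have := (MvPolynomial.isUnit_iff_totalDegree_of_isReduced.mp hu).2
  omega

theorem pos_of_not_isUnit {K : Type u} [Field K] {n : ℕ} {G : MvPolynomial (Fin n) K}
    (h0 : G ≠ 0) (h : ¬ IsUnit G) : 0 < G.totalDegree := by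
  by_contra hle
  have h' : G.totalDegree = 0 := by omega
  rw [MvPolynomial.totalDegree_eq_zero_iff_eq_C] at h'
  refine h (h' ▸ (IsUnit.map _ ((isUnit_iff_ne_zero).mpr fun e => h0 ?_)))
  rw [h', e, map_zero]

theorem irreducible_of_map {K L : Type u} [Field K] [Field L] (φ : K →+* L) {n : ℕ}
    {G : MvPolynomial (Fin n) K} (hG : 0 < G.totalDegree) (h : Irreducible (MvPolynomial.map φ G)) :
    Irreducible G := by
  refine ⟨not_isUnit_of_pos hG, fun a b hab => ?_⟩
  by_contra hcon
  push Not at hcon
  have hne : a * b ≠ 0 := fun e => by simp [hab, e] at hG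
  have ha := pos_of_not_isUnit (left_ne_zero_of_mul hne) hcon.1
  have hb := pos_of_not_isUnit (right_ne_zero_of_mul hne) hcon.2
  rcases h.isUnit_or_isUnit (show MvPolynomial.map φ G = _ * _ by rw [hab, map_mul]) with hu | hu
  · exact not_isUnit_of_pos (by rwa [totalDegree_map_eq φ.injective]) hu
  · exact not_isUnit_of_pos (by rwa [totalDegree_map_eq φ.injective]) hu

theorem exists_mem_support_pos {A : Type u} [CommRing A] {n : ℕ} {G : MvPolynomial (Fin n) A}
    (hG : 0 < G.totalDegree) : ∃ α ∈ G.support, 0 < α.sum fun _ e => e := by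
  obtain ⟨α, hα, h⟩ := Finset.lt_sup_iff.mp (show 0 < G.support.sup fun s => s.sum fun _ e => e from hG)
  exact ⟨α, hα, h⟩

/-- Irreducibility over an algebraically closed field persists in every extension. -/
theorem irreducible_map_algClosed {Ω L : Type u} [Field Ω] [IsAlgClosed Ω] [Field L] [Algebra Ω L] {n : ℕ}
    {F : MvPolynomial (Fin n) Ω} (hF : 0 < F.totalDegree) (h : Irreducible F) :
    Irreducible (MvPolynomial.map (algebraMap Ω L) F) := by
  classical
  refine ⟨not_isUnit_of_pos (by rwa [totalDegree_map_eq (algebraMap Ω L).injective]), fun G H hGH => ?_⟩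
  by_contra hcon
  push Not at hcon
  have hne : G * H ≠ 0 := fun e => by
    have := totalDegree_map_eq (algebraMap Ω L).injective F
    rw [hGH, e, MvPolynomial.totalDegree_zero] at this
    omega
  obtain ⟨α, hα, hα'⟩ := exists_mem_support_pos (pos_of_not_isUnit (left_ne_zero_of_mul hne) hcon.1)
  obtain ⟨β, hβ, hβ'⟩ := exists_mem_support_pos (pos_of_not_isUnit (right_ne_zero_of_mul hne) hcon.2)
  set c := (coeff α G * coeff β H)⁻¹ with hc
  let s : Finset L := insert c (G.support.image (fun d => coeff d G) ∪ H.support.image (fun d => coeff d H))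
  let S := Algebra.adjoin Ω (s : Set L)
  have : Algebra.FiniteType Ω S :=
    ⟨(Subalgebra.fg_top _).mpr (Subalgebra.fg_adjoin_finset s)⟩
  have hmem : ∀ x ∈ s, x ∈ S := fun x hx => Algebra.subset_adjoin hx
  have hlift : ∀ P : MvPolynomial (Fin n) L, (∀ d, coeff d P ∈ S) →
      ∃ P' : MvPolynomial (Fin n) S, MvPolynomial.map (algebraMap S L) P' = P := fun P hP => by
    refine ⟨∑ d ∈ P.support, monomial d ⟨coeff d P, hP d⟩, ?_⟩
    rw [map_sum]
    simp only [MvPolynomial.map_monomial]
    exact P.support_sum_monomial_coeff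
  have hall : ∀ (P : MvPolynomial (Fin n) L), (∀ d ∈ P.support, coeff d P ∈ s) → ∀ d, coeff d P ∈ S := fun P hP d => by
    by_cases hd : d ∈ P.support
    · exact hmem _ (hP d hd)
    · rw [MvPolynomial.notMem_support_iff.mp hd]; exact zero_mem _
  obtain ⟨G', hG'⟩ := hlift G (hall G fun d hd => Finset.mem_insert_of_mem (Finset.mem_union_left _ (Finset.mem_image_of_mem _ hd)))
  obtain ⟨H', hH'⟩ := hlift H (hall H fun d hd => Finset.mem_insert_of_mem (Finset.mem_union_right _ (Finset.mem_image_of_mem _ hd)))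
  let c' : S := ⟨c, hmem c (Finset.mem_insert_self _ _)⟩
  have hinj : Function.Injective (algebraMap S L) := Subtype.val_injective
  have hunit : coeff α G' * coeff β H' * c' = 1 := hinj (by
    rw [map_mul, map_mul, map_one, ← MvPolynomial.coeff_map, ← MvPolynomial.coeff_map, hG', hH']
    change coeff α G * coeff β H * c = 1
    rw [hc, mul_inv_cancel₀ (mul_ne_zero (MvPolynomial.mem_support_iff.mp hα) (MvPolynomial.mem_support_iff.mp hβ))])
  have heq : MvPolynomial.map (algebraMap Ω S) F = G' * H' := MvPolynomial.map_injective _ hinj (by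
    rw [map_mul, hG', hH', MvPolynomial.map_map, ← IsScalarTower.algebraMap_eq, hGH])
  obtain ⟨m, hm⟩ := Ideal.exists_maximal S
  letI : Field (S ⧸ m) := Ideal.Quotient.field m
  have : Algebra.FiniteType Ω (S ⧸ m) :=
    Algebra.FiniteType.of_surjective (Ideal.Quotient.mkₐ Ω m) Ideal.Quotient.mk_surjective
  have : Module.Finite Ω (S ⧸ m) := finite_of_finite_type_of_isJacobsonRing Ω (S ⧸ m)
  have : Algebra.IsIntegral Ω (S ⧸ m) := Algebra.IsIntegral.of_finite Ω (S ⧸ m)
  let φ : S →ₐ[Ω] Ω := (AlgEquiv.ofBijective (Algebra.ofId Ω (S ⧸ m))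
    (IsAlgClosed.algebraMap_bijective_of_isIntegral (k := Ω) (K := S ⧸ m))).symm.toAlgHom.comp (Ideal.Quotient.mkₐ Ω m)
  have hF' : F = MvPolynomial.map φ.toRingHom G' * MvPolynomial.map φ.toRingHom H' := by
    rw [← map_mul, ← heq, MvPolynomial.map_map,
      show φ.toRingHom.comp (algebraMap Ω S) = RingHom.id Ω from RingHom.ext fun x => φ.commutes x]
    exact (MvPolynomial.map_id F).symm
  have hu : φ (coeff α G') * φ (coeff β H') * φ c' = 1 := by rw [← map_mul, ← map_mul, hunit, map_one]
  have hpos : ∀ (P : MvPolynomial (Fin n) S) (d : Fin n →₀ ℕ), φ (coeff d P) ≠ 0 →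
      0 < (d.sum fun _ e => e) → 0 < (MvPolynomial.map φ.toRingHom P).totalDegree := fun P d hd h0 =>
    lt_of_lt_of_le h0 (MvPolynomial.le_totalDegree (MvPolynomial.mem_support_iff.mpr
      (by rw [MvPolynomial.coeff_map]; exact hd)))
  rcases h.isUnit_or_isUnit hF' with hu' | hu'
  · exact not_isUnit_of_pos (hpos G' α (fun e => by simp [e] at hu) hα') hu'
  · exact not_isUnit_of_pos (hpos H' β (fun e => by simp [e] at hu) hβ') hu'

open TensorProduct in
theorem irreducible_map_of_algClosed {k : Type u} [Field k] (Ω : Type u) [Field Ω] [Algebra k Ω] [IsAlgClosed Ω]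
    {n : ℕ} (F : MvPolynomial (Fin n) k) (hF : 0 < F.totalDegree)
    (h : Irreducible (MvPolynomial.map (algebraMap k Ω) F)) (K : Type u) [Field K] [Algebra k K] :
    Irreducible (MvPolynomial.map (algebraMap k K) F) := by
  have : Nontrivial (K ⊗[k] Ω) :=
    Algebra.TensorProduct.nontrivial_of_algebraMap_injective_of_flat_left k K Ω (algebraMap k Ω).injective
  obtain ⟨P, hP⟩ := Ideal.exists_maximal (K ⊗[k] Ω)
  letI : Field ((K ⊗[k] Ω) ⧸ P) := Ideal.Quotient.field P
  let i : K →+* (K ⊗[k] Ω) ⧸ P := (Ideal.Quotient.mk P).comp Algebra.TensorProduct.includeLeftRingHom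
  let j : Ω →+* (K ⊗[k] Ω) ⧸ P :=
    (Ideal.Quotient.mk P).comp (Algebra.TensorProduct.includeRight : Ω →ₐ[k] K ⊗[k] Ω).toRingHom
  have hij : i.comp (algebraMap k K) = j.comp (algebraMap k Ω) := by
    refine RingHom.ext fun x => congrArg (Ideal.Quotient.mk P) ?_
    exact (Algebra.TensorProduct.tmul_one_eq_one_tmul (R := k) (A := K) (B := Ω) x)
  letI : Algebra Ω ((K ⊗[k] Ω) ⧸ P) := j.toAlgebra
  have h1 := irreducible_map_algClosed (L := (K ⊗[k] Ω) ⧸ P)
    (by rwa [totalDegree_map_eq (algebraMap k Ω).injective]) h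
  refine irreducible_of_map i (by rwa [totalDegree_map_eq (algebraMap k K).injective]) ?_
  rw [MvPolynomial.map_map, hij, ← MvPolynomial.map_map]
  exact h1

theorem isIntegral_of_iso {X Y : AlgebraicGeometry.Scheme.{u}} (e : X ⟶ Y) [IsIso e] [AlgebraicGeometry.IsIntegral Y] :
    AlgebraicGeometry.IsIntegral X := by
  have : Nonempty X := ⟨(CategoryTheory.inv e) (Classical.arbitrary Y)⟩
  exact AlgebraicGeometry.isIntegral_of_isOpenImmersion e

open TensorProduct AlgebraicGeometry in
theorem isIntegral_iff_irreducible {k : Type u} [Field k] {n : ℕ} (F : MvPolynomial (Fin n) k)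
    (hF : 0 < F.totalDegree) (K : Type u) [Field K] [Algebra k K] :
    IsIntegral (Limits.pullback (Spec.map (CommRingCat.ofHom
        (algebraMap k (MvPolynomial (Fin n) k ⧸ Ideal.span ({F} : Set (MvPolynomial (Fin n) k))))))
      (Spec.map (CommRingCat.ofHom (algebraMap k K)))) ↔
      Irreducible (MvPolynomial.map (algebraMap k K) F) := by
  let e1 := pullbackSpecIso k (MvPolynomial (Fin n) k ⧸ Ideal.span ({F} : Set (MvPolynomial (Fin n) k))) K
  let e2 : ((MvPolynomial (Fin n) k ⧸ Ideal.span ({F} : Set (MvPolynomial (Fin n) k))) ⊗[k] K) ≃+*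
      (MvPolynomial (Fin n) K ⧸ Ideal.span ({MvPolynomial.map (algebraMap k K) F} : Set (MvPolynomial (Fin n) K))) :=
    ((Algebra.TensorProduct.comm k _ K).toRingEquiv.trans
      (Algebra.TensorProduct.tensorQuotientEquiv (R := k) K (MvPolynomial (Fin n) k) K (Ideal.span {F})).toRingEquiv).trans
      (Ideal.quotientEquiv _ _ (MvPolynomial.algebraTensorAlgEquiv k K).toRingEquiv (by
        rw [Ideal.map_span, Ideal.map_span, Set.image_singleton, Set.image_singleton]
        congr 2
        exact (one_smul K _).symm.trans (MvPolynomial.algebraTensorAlgEquiv_tmul (R := k) (A := K) (1 : K) F).symm))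
  have hne : MvPolynomial.map (algebraMap k K) F ≠ 0 := fun e => by
    have h := totalDegree_map_eq (algebraMap k K).injective F
    rw [e, MvPolynomial.totalDegree_zero] at h
    omega
  have hdom : IsDomain ((MvPolynomial (Fin n) k ⧸ Ideal.span ({F} : Set (MvPolynomial (Fin n) k))) ⊗[k] K) ↔
      Irreducible (MvPolynomial.map (algebraMap k K) F) := by
    rw [MulEquiv.isDomain_iff e2.toMulEquiv, Ideal.Quotient.isDomain_iff_prime, Ideal.span_singleton_prime hne,
      UniqueFactorizationMonoid.irreducible_iff_prime]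
  rw [← hdom]
  refine Iff.trans ?_ (affine_isIntegral_iff (CommRingCat.of
    ((MvPolynomial (Fin n) k ⧸ Ideal.span ({F} : Set (MvPolynomial (Fin n) k))) ⊗[k] K)))
  exact ⟨fun _ => isIntegral_of_iso e1.inv, fun _ => isIntegral_of_iso e1.hom⟩

/-- Let k be a field, Ω an algebraically closed extension of k and F a non-constant polynomial in k[T_1,
…, T_n]. The following are equivalent: (a) the k-scheme Spec(k[T_1, …, T_n]/(F)) is geometrically
integral; (b) for every extension field K of k the image of F in K[T_1, …, T_n] is irreducible; (c)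
the image of F in Ω[T_1, …, T_n] is irreducible. (Such an F is called geometrically irreducible.) -/
theorem result {k : Type u} [Field k] (Ω : Type u) [Field Ω] [Algebra k Ω]
    [IsAlgClosed Ω] {n : ℕ} (F : MvPolynomial (Fin n) k) (hF : 0 < F.totalDegree) :
    List.TFAE [
      GeometricallyIntegral (Spec.map (CommRingCat.ofHom
        (algebraMap k (MvPolynomial (Fin n) k ⧸ Ideal.span ({F} : Set (MvPolynomial (Fin n) k)))))),
      ∀ (K : Type u) [Field K] [Algebra k K], Irreducible (MvPolynomial.map (algebraMap k K) F),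
      Irreducible (MvPolynomial.map (algebraMap k Ω) F)] := by
  classical
  have : ObjectProperty.IsClosedUnderIsomorphisms (@IsIntegral.{u}) := ⟨fun e h => isIntegral_of_iso e.inv⟩
  have hiff : GeometricallyIntegral (Spec.map (CommRingCat.ofHom
      (algebraMap k (MvPolynomial (Fin n) k ⧸ Ideal.span ({F} : Set (MvPolynomial (Fin n) k)))))) ↔
      ∀ (K : Type u) [Field K] [Algebra k K], Irreducible (MvPolynomial.map (algebraMap k K) F) := by
    rw [AlgebraicGeometry.geometricallyIntegral_iff, geometrically_iff_of_commRing_of_isClosedUnderIsomorphisms]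
    exact forall_congr' fun K => forall_congr' fun _ => forall_congr' fun _ => isIntegral_iff_irreducible F hF K
  tfae_have 1 ↔ 2 := hiff
  tfae_have 2 → 3 := fun h => h Ω
  tfae_have 3 → 2 := fun h K _ _ => irreducible_map_of_algClosed Ω F hF h K
  tfae_finish

end Groth.Agent.S4824
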