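import Groth.Statements.S4825
import Groth.Agent.S1477

set_option autoImplicit false
open CategoryTheory AlgebraicGeometry
universe u
open Lim8

namespace Groth.Agent.S4825

open CategoryTheory.Limits
set_option backward.isDefEq.respectTransparency false

variable {X Y : Scheme.{u}} (f : X ⟶ Y)

lemma lfp_of_noetherian [IsLocallyNoetherian Y] [LocallyOfFiniteType f] : LocallyOfFinitePresentation f := by
  rw [HasRingHomProperty.eq_affineLocally @LocallyOfFinitePresentation, affineLocally_iff_forall_isAffineOpen]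
  intro U hU V hV e
  haveI : IsNoetherianRing Γ(Y, U) := IsLocallyNoetherian.component_noetherian ⟨U, hU⟩
  exact RingHom.FinitePresentation.of_finiteType.mp (LocallyOfFiniteType.finiteType_appLE f hU hV e)

lemma isSeparated_of_local [QuasiSeparated f]
    (h : ∀ y : Y, IsSeparated (pullback.snd f (Y.fromSpecStalk y))) : IsSeparated f := by
  refine IsSeparated.of_valuativeCriterion f fun S => ⟨?_⟩
  rintro ⟨l₁, hl₁, hl₁'⟩ ⟨l₂, hl₂, hl₂'⟩
  ext : 1
  dsimp at *
  haveI : IsLocalRing (CommRingCat.of S.R) := inferInstanceAs (IsLocalRing S.R)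
  let y := S.i₂ (IsLocalRing.closedPoint S.R)
  let t := Spec.map (Scheme.stalkClosedPointTo S.i₂)
  have ht : t ≫ Y.fromSpecStalk y = S.i₂ := Scheme.Spec_stalkClosedPointTo_fromSpecStalk _
  let a₁ := pullback.lift (f := f) (g := Y.fromSpecStalk y) l₁ t (hl₁'.trans ht.symm)
  let a₂ := pullback.lift (f := f) (g := Y.fromSpecStalk y) l₂ t (hl₂'.trans ht.symm)
  have := h y
  let S' : ValuativeCommSq (pullback.snd f (Y.fromSpecStalk y)) :=
    { R := S.R, K := S.K, i₁ := Spec.map (CommRingCat.ofHom (algebraMap S.R S.K)) ≫ a₁, i₂ := t,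
      commSq := ⟨by simp [a₁]⟩ }
  have e : a₁ = a₂ := congrArg CommSq.LiftStruct.l
    (@Subsingleton.elim _ (IsSeparated.valuativeCriterion (pullback.snd f (Y.fromSpecStalk y)) S')
      ⟨a₁, rfl, by simp [S', a₁]⟩ ⟨a₂, by
        apply pullback.hom_ext <;> simp [S', a₁, a₂, hl₁, hl₂], by simp [S', a₂]⟩)
  simpa [a₁, a₂] using congrArg (fun m => m ≫ pullback.fst _ _) e

lemma lqf_of_local [LocallyOfFiniteType f]
    (h : ∀ y : Y, LocallyQuasiFinite (pullback.snd f (Y.fromSpecStalk y))) : LocallyQuasiFinite f := by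
  rw [locallyQuasiFinite_iff_isDiscrete_preimage_singleton]
  intro y
  have := h y
  have hd := (pullback.snd f (Y.fromSpecStalk y)).isDiscrete_preimage_singleton (IsLocalRing.closedPoint _)
  refine (hd.image (pullback.fst f (Y.fromSpecStalk y)).isEmbedding.isInducing).mono ?_
  intro x hx
  obtain ⟨z, hz₁, hz₂⟩ := Scheme.Pullback.exists_preimage_pullback (f := f) (g := Y.fromSpecStalk y) x
    (IsLocalRing.closedPoint _) (by rw [Scheme.fromSpecStalk_closedPoint]; exact hx)
  exact ⟨z, hz₂, hz₁⟩

open CategoryTheory.Limits in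
/-- Let Y be a Noetherian scheme and f : X ⟶ Y a morphism of finite type. Then f admits a factorization
into an immersion followed by a finite morphism if and only if, for every point y of Y, the base
change X ×_Y Spec O_{Y,y} ⟶ Spec O_{Y,y} of f to the local scheme of Y at y admits such a
factorization. (Pointwise criterion for pseudo-finite morphisms.) -/
theorem result {X Y : Scheme.{u}} (f : X ⟶ Y) [IsNoetherian Y]
    [LocallyOfFiniteType f] [QuasiCompact f] :
    (∃ (Y' : Scheme.{u}) (f' : X ⟶ Y') (u : Y' ⟶ Y), IsImmersion f' ∧ IsFinite u ∧ f' ≫ u = f) ↔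
      ∀ y : Y, ∃ (Z : Scheme.{u}) (g : pullback f (Y.fromSpecStalk y) ⟶ Z) (u : Z ⟶ Spec (Y.presheaf.stalk y)),
        IsImmersion g ∧ IsFinite u ∧ g ≫ u = pullback.snd f (Y.fromSpecStalk y) := by
  constructor
  · rintro ⟨Y', f', u, hf', hu, e⟩ y
    refine ⟨pullback u (Y.fromSpecStalk y), pullback.map f (Y.fromSpecStalk y) u (Y.fromSpecStalk y) f' (𝟙 _) (𝟙 _)
      (by simp [e]) (by simp), pullback.snd _ _, ?_, inferInstance, by simp⟩
    have H : IsPullback (pullback.map f (Y.fromSpecStalk y) u (Y.fromSpecStalk y) f' (𝟙 _) (𝟙 _) (by simp [e]) (by simp))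
        (pullback.fst f (Y.fromSpecStalk y)) (pullback.fst u (Y.fromSpecStalk y)) f' := by
      refine IsPullback.of_right ?_ (by simp) (IsPullback.of_hasPullback u (Y.fromSpecStalk y)).flip
      simpa [e] using (IsPullback.of_hasPullback f (Y.fromSpecStalk y)).flip
    exact MorphismProperty.of_isPullback (P := @IsImmersion) H.flip hf'
  · intro h
    haveI : IsLocallyNoetherian X := LocallyOfFiniteType.isLocallyNoetherian f
    haveI : QuasiSeparated f := inferInstance
    haveI hs : IsSeparated f := isSeparated_of_local f fun y => by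
      obtain ⟨Z, g, u, hg, hu, e⟩ := h y
      rw [← e]; infer_instance
    haveI : LocallyQuasiFinite f := lqf_of_local f fun y => by
      obtain ⟨Z, g, u, hg, hu, e⟩ := h y
      rw [← e]; infer_instance
    haveI := lfp_of_noetherian f
    obtain ⟨T, j, π, hj, -, hπ, -, e⟩ := Groth.Agent.S1477.result f
    exact ⟨T, j, π, inferInstance, hπ, e⟩

end Groth.Agent.S4825
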