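import Groth.Statements.S4828
import Groth.Agent.FibCodepth.GeomRkScheme

set_option autoImplicit false
open CategoryTheory AlgebraicGeometry
universe u
open Cons9

namespace Groth.Agent.S4828

/-- Let f : X ⟶ S be a morphism of finite presentation (locally of finite presentation, quasi-compact
and quasi-separated) and k a natural number. Then the set of points s of S whose fibre X_s has the
geometric property (R_k), i.e. such that for every extension field K of κ(s) all local rings of X_s
⊗_{κ(s)} K satisfy Serre's condition (R_k), is locally constructible in S. -/
theorem result {X S : Scheme.{u}} (f : X ⟶ S)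
    [LocallyOfFinitePresentation f] [QuasiCompact f] [QuasiSeparated f] (k : ℕ) :
    Topology.IsLocallyConstructible {s : S |
      ∀ (K : Type u) [Field K] [Algebra (IsLocalRing.ResidueField (S.presheaf.stalk s)) K]
        (x' : ↥(FBase.bc (f.fiberToSpecResidueField s) K)),
        LocCoh.HasRk k ((FBase.bc (f.fiberToSpecResidueField s) K).presheaf.stalk x')} := by
  have h : Topology.IsLocallyConstructible {s : S | ∀ w : ↥(f.fiber s),
      ∀ (K : Type u) [Field K] [Algebra (IsLocalRing.ResidueField (S.presheaf.stalk s)) K]
        (x' : ↥(FBase.bc (f.fiberToSpecResidueField s) K)),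
        (FBase.bcπ (f.fiberToSpecResidueField s) K).base x' = w →
          LocCoh.HasRk k ((FBase.bc (f.fiberToSpecResidueField s) K).presheaf.stalk x')} := by
    refine Groth.Agent.FibCodepth.isLocallyConstructible_forall_fiber f _ ?_
    exact Groth.Agent.FibCodepth.isLocallyConstructible_geomRk f k
  convert h using 1
  ext s
  exact ⟨fun h w K _ _ x' _ => h K x', fun h K _ _ x' => h _ K x' rfl⟩

end Groth.Agent.S4828
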