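import Groth.Statements.S4834
import Groth.Agent.LimTop.HomColimit

set_option autoImplicit false
open CategoryTheory CategoryTheory.Limits
universe u
open Lim8

namespace Groth.Agent.S4834

/-- Let A be a commutative ring, M an A-module of finite type and (N_λ) an inductive system of A-modules
indexed by a nonempty directed preordered set. Then the canonical map colim_λ Hom_A(M, N_λ) →
Hom_A(M, colim_λ N_λ), sending a compatible system of homomorphisms to its inductive limit, is
injective. This is the finite type case, in the form its proof gives. -/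
theorem result {A : Type u} [CommRing A] (M : ModuleCat.{u} A)
    [Module.Finite A M] {J : Type u} [Preorder J] [IsDirected J (· ≤ ·)] [Nonempty J]
    (N : J ⥤ ModuleCat.{u} A) :
    Function.Injective (colimit.post N (coyoneda.obj (Opposite.op M))) := by
  intro a b hab
  have hF : IsColimit (colimit.cocone (N ⋙ coyoneda.obj (Opposite.op M))) := colimit.isColimit _
  obtain ⟨i, f, rfl⟩ := Types.jointly_surjective_of_isColimit hF a
  obtain ⟨j, g, rfl⟩ := Types.jointly_surjective_of_isColimit hF b
  obtain ⟨l, p, q, -⟩ : ∃ (l : J) (_ : i ⟶ l) (_ : j ⟶ l), True :=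
    ⟨_, IsFiltered.leftToMax i j, IsFiltered.rightToMax i j, trivial⟩
  have h1 : ∀ (i : J) (f : M ⟶ N.obj i),
      colimit.post N (coyoneda.obj (Opposite.op M))
        ((colimit.cocone (N ⋙ coyoneda.obj (Opposite.op M))).ι.app i f) = f ≫ colimit.ι N i :=
    fun i f ↦ congr($(colimit.ι_post N (coyoneda.obj (Opposite.op M)) i) f)
  erw [h1, h1] at hab
  have hab' : (f ≫ N.map p) ≫ colimit.ι N l = (g ≫ N.map q) ≫ colimit.ι N l := by
    rw [Category.assoc, Category.assoc, colimit.w, colimit.w]
    exact hab
  obtain ⟨k, r, hr⟩ := LimTop.HomColimit.exists_comp_eq (colimit.isColimit N) M _ _ hab'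
  refine (Types.FilteredColimit.isColimit_eq_iff _ hF).mpr ⟨k, p ≫ r, q ≫ r, ?_⟩
  show f ≫ N.map (p ≫ r) = g ≫ N.map (q ≫ r)
  rw [N.map_comp, N.map_comp, ← Category.assoc, hr, Category.assoc]

end Groth.Agent.S4834
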