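import Groth.Statements.S4835
import Groth.Agent.S4834

set_option autoImplicit false
open CategoryTheory CategoryTheory.Limits
universe u
open Lim8

namespace Groth.Agent.S4835

/-- Let A be a commutative ring, M an A-module of finite presentation and (N_λ) an inductive system of
A-modules indexed by a nonempty directed preordered set. Then the canonical map colim_λ Hom_A(M,
N_λ) → Hom_A(M, colim_λ N_λ), sending a compatible system of homomorphisms to its inductive limit,
is bijective. This is the form established in the source's proof (finite presentation case). -/
theorem result {A : Type u} [CommRing A] (M : ModuleCat.{u} A)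
    [Module.FinitePresentation A M] {J : Type u} [Preorder J] [IsDirected J (· ≤ ·)] [Nonempty J]
    (N : J ⥤ ModuleCat.{u} A) :
    Function.Bijective (colimit.post N (coyoneda.obj (Opposite.op M))) := by
  refine ⟨S4834.result M N, fun h ↦ ?_⟩
  obtain ⟨i, f, hf⟩ := LimTop.HomColimit.exists_lift (colimit.isColimit N) M h
  refine ⟨colimit.ι (N ⋙ coyoneda.obj (Opposite.op M)) i f, ?_⟩
  exact (congr($(colimit.ι_post N (coyoneda.obj (Opposite.op M)) i) f)).trans hf

end Groth.Agent.S4835
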