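import Groth.Statements.S4836
import Mathlib

set_option autoImplicit false
universe u
open Cons9

namespace Groth.Agent.S4836

/-- Principle of finite extension. Let k be a field and C a property of extension fields of k (in a
fixed universe) satisfying: (i) if K has C and there is a k-homomorphism K → K', then K' has C; (ii)
if K has C, some subextension K' of K finitely generated over k has C; (iii) if K has C and K is the
field of fractions of an integral k-algebra of finite type A, then there is a nonzero f in A such
that every field quotient of A_f (as a k-algebra) has C. If some extension of k has C, then some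
finite extension of k has C (and then, by (i), so does every algebraically closed extension). -/
theorem result {k : Type u} [Field k]
    (C : ∀ (K : Type u) [Field K] [Algebra k K], Prop)
    (h₁ : ∀ (K K' : Type u) [Field K] [Algebra k K] [Field K'] [Algebra k K'],
      Nonempty (K →ₐ[k] K') → C K → C K')
    (h₂ : ∀ (K : Type u) [Field K] [Algebra k K], C K →
      ∃ K' : IntermediateField k K, K'.FG ∧ C K')
    (h₃ : ∀ (A K : Type u) [CommRing A] [IsDomain A] [Algebra k A] [Algebra.FiniteType k A]
      [Field K] [Algebra k K] [Algebra A K] [IsScalarTower k A K] [IsFractionRing A K], C K →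
      ∃ f : A, f ≠ 0 ∧ ∀ (K' : Type u) [Field K'] [Algebra k K'] (φ : Localization.Away f →ₐ[k] K'),
        Function.Surjective φ → C K')
    (hC : ∃ (K : Type u) (_ : Field K) (_ : Algebra k K), C K) :
    ∃ (K' : Type u) (_ : Field K') (_ : Algebra k K'), Module.Finite k K' ∧ C K' := by
  obtain ⟨K, _, _, hK⟩ := hC
  obtain ⟨L, hLfg, hL⟩ := h₂ K hK
  obtain ⟨s, hs⟩ := hLfg
  subst hs
  let A := Algebra.adjoin k (s : Set K)
  have : Algebra.FiniteType k A := (Subalgebra.fg_iff_finiteType A).mp (Subalgebra.fg_adjoin_finset s)
  let L := IntermediateField.adjoin k (s : Set K)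
  let φ : A →ₐ[k] L := Subalgebra.inclusion (IntermediateField.algebra_adjoin_le_adjoin k (s : Set K))
  letI : Algebra A L := φ.toRingHom.toAlgebra
  have : IsScalarTower k A L := IsScalarTower.of_algebraMap_eq fun c => rfl
  have hinj : Function.Injective (algebraMap A L) :=
    Subalgebra.inclusion_injective (IntermediateField.algebra_adjoin_le_adjoin k (s : Set K))
  have : IsFractionRing A L := by
    have : Module.IsTorsionFree A L := Module.isTorsionFree_iff_algebraMap_injective.mpr hinj
    haveI : FaithfulSMul A L := (faithfulSMul_iff_algebraMap_injective A L).mpr hinj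
    refine IsFractionRing.of_field A L fun z => ?_
    obtain ⟨a, ha, b, hb, hab⟩ := IntermediateField.mem_adjoin_iff_div.mp z.2
    exact ⟨⟨a, ha⟩, ⟨b, hb⟩, Subtype.ext (by rw [hab]; rfl)⟩
  obtain ⟨f, hf0, hf⟩ := h₃ A L hL
  have hB : Nontrivial (Localization.Away f) := ⟨⟨0, 1, fun h => by
    obtain ⟨⟨_, n, rfl⟩, hn⟩ := (IsLocalization.eq_iff_exists (Submonoid.powers f) (Localization.Away f)).mp
      ((map_zero (algebraMap A _)).trans (h.trans (map_one (algebraMap A _)).symm))
    exact pow_ne_zero n hf0 (by simpa using hn.symm)⟩⟩
  obtain ⟨m, hm⟩ := Ideal.exists_maximal (Localization.Away f)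
  letI := Ideal.Quotient.field m
  have : Algebra.FiniteType A (Localization.Away f) := Algebra.FiniteType.of_finitePresentation
  have : Algebra.FiniteType k (Localization.Away f) := Algebra.FiniteType.trans (S := A) inferInstance inferInstance
  have : Algebra.FiniteType k (Localization.Away f ⧸ m) := inferInstance
  exact ⟨Localization.Away f ⧸ m, inferInstance, inferInstance, finite_of_finite_type_of_isJacobsonRing k _,
    hf _ (Ideal.Quotient.mkₐ k m) Ideal.Quotient.mk_surjective⟩

end Groth.Agent.S4836
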