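import Groth.Statements.S4839
import Groth.Agent.LimLib.FGSub
import Groth.Agent.LimLib.Basic
import Groth.Agent.S4805
import Mathlib.RingTheory.Jacobson.Ring

set_option autoImplicit false
open CategoryTheory AlgebraicGeometry
universe u
open Cons9

open CategoryTheory Limits Opposite Groth.Agent.LimLib
namespace Groth.Agent.S4839

open CategoryTheory.Limits in
open CategoryTheory Limits in
/-- The structure map of a stage. -/
noncomputable abbrev πD (k K : Type u) [Field k] [Field K] [Algebra k K] (i : (Finset K)ᵒᵖ) :
    (Groth.Agent.LimLib.fgDiagram k K).obj i ⟶ Spec (CommRingCat.of k) :=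
  Spec.map (CommRingCat.ofHom (algebraMap k (Algebra.adjoin k (i.unop : Set K))))

theorem map_πD (k K : Type u) [Field k] [Field K] [Algebra k K] {i j : (Finset K)ᵒᵖ} (a : i ⟶ j) :
    (Groth.Agent.LimLib.fgDiagram k K).map a ≫ πD k K j = πD k K i := by
  refine (Spec.map_comp _ _).symm.trans (congrArg Spec.map (CommRingCat.hom_ext (RingHom.ext fun x => ?_)))
  exact (Groth.Agent.LimLib.fgIncl k K a.unop.le).commutes x

theorem π_πD (k K : Type u) [Field k] [Field K] [Algebra k K] (i : (Finset K)ᵒᵖ) :
    (Groth.Agent.LimLib.fgCone k K).π.app i ≫ πD k K i = Spec.map (CommRingCat.ofHom (algebraMap k K)) :=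
  (Spec.map_comp _ _).symm.trans rfl

/-- Let k be a field and X, Y two schemes of finite type over k. If for some field extension K of k
there is a K-isomorphism X ⊗_k K ≅ Y ⊗_k K (X and Y are geometrically isomorphic), then there are a
finite extension k' of k and a k'-isomorphism X ⊗_k k' ≅ Y ⊗_k k'. This is the case of the property
of being an isomorphism (base changes are the chosen fibre products with Spec of the extension). -/
theorem result {k : Type u} [Field k] {X Y : Scheme.{u}}
    (p : X ⟶ Spec (CommRingCat.of k)) (q : Y ⟶ Spec (CommRingCat.of k))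
    [LocallyOfFiniteType p] [QuasiCompact p] [LocallyOfFiniteType q] [QuasiCompact q]
    (K : Type u) [Field K] [Algebra k K]
    (e : pullback p (Spec.map (CommRingCat.ofHom (algebraMap k K))) ≅ pullback q (Spec.map (CommRingCat.ofHom (algebraMap k K))))
    (he : e.hom ≫ pullback.snd q (Spec.map (CommRingCat.ofHom (algebraMap k K))) = pullback.snd p (Spec.map (CommRingCat.ofHom (algebraMap k K)))) :
    ∃ (k' : Type u) (_ : Field k') (_ : Algebra k k') (_ : Module.Finite k k')
      (e' : pullback p (Spec.map (CommRingCat.ofHom (algebraMap k k'))) ≅ pullback q (Spec.map (CommRingCat.ofHom (algebraMap k k')))),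
      e'.hom ≫ pullback.snd q (Spec.map (CommRingCat.ofHom (algebraMap k k'))) = pullback.snd p (Spec.map (CommRingCat.ofHom (algebraMap k k'))) := by
  classical
  let ιK := Spec.map (CommRingCat.ofHom (algebraMap k K))
  have : IsLocallyNoetherian X := LocallyOfFiniteType.isLocallyNoetherian p
  have : IsLocallyNoetherian Y := LocallyOfFiniteType.isLocallyNoetherian q
  have : LocallyOfFinitePresentation p := inferInstance
  have : LocallyOfFinitePresentation q := inferInstance
  have : CompactSpace X := QuasiCompact.compactSpace_of_compactSpace p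
  have : CompactSpace Y := QuasiCompact.compactSpace_of_compactSpace q
  have : QuasiSeparated p := QuasiSeparated.of_quasiSeparatedSpace p
  have : QuasiSeparated q := QuasiSeparated.of_quasiSeparatedSpace q
  let i₀ : (Finset K)ᵒᵖ := op ∅
  let g₀ := pullback.snd p (πD k K i₀)
  let sX : pullback p ιK ⟶ (fgCone k K).pt := pullback.snd p ιK
  let sY : pullback q ιK ⟶ (fgCone k K).pt := pullback.snd q ιK
  have : QuasiSeparated g₀ := MorphismProperty.pullback_snd _ _ inferInstance
  have : QuasiCompact g₀ := MorphismProperty.pullback_snd _ _ inferInstance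
  let qX₀ : pullback p ιK ⟶ pullback p (πD k K i₀) :=
    pullback.lift (pullback.fst _ _) (pullback.snd _ _ ≫ (fgCone k K).π.app i₀) (by erw [Category.assoc, π_πD]; exact pullback.condition)
  have hX₀ : IsPullback qX₀ sX g₀ ((fgCone k K).π.app i₀) := by
    refine IsPullback.of_right ?_ (pullback.lift_snd _ _ _) (IsPullback.of_hasPullback p (πD k K i₀))
    erw [pullback.lift_fst, π_πD]
    exact IsPullback.of_hasPullback p ιK
  let t : bcDiag (fgDiagram k K) i₀ g₀ ⟶ (Functor.const _).obj (Spec (CommRingCat.of k)) :=
    { app := fun j => pullback.snd g₀ ((fgDiagram k K).map j.hom) ≫ πD k K j.left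
      naturality := fun j l a => by
        have h := map_πD k K a.left
        simp only [bcDiag, Functor.const_obj_map, Category.comp_id]
        rw [← Category.assoc, pullback.lift_snd, Category.assoc, h]
        exact (Category.comp_id _).symm }
  have : QuasiSeparatedSpace (↑(pullback p (πD k K i₀)) : Type u) := quasiSeparatedSpace_of_quasiSeparated g₀
  obtain ⟨j, a, ha, hat⟩ := Scheme.exists_π_app_comp_eq_of_locallyOfFinitePresentation (bcDiag (fgDiagram k K) i₀ g₀) t q
    (bcCone hX₀) (isLimitBcCone (isLimitFgCone k K) hX₀) (e.hom ≫ pullback.fst q ιK) (by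
      ext j
      simp only [NatTrans.comp_app, Functor.const_map_app, bcCone_π_app, t, pullback.lift_snd_assoc, Category.assoc]
      erw [pullback.lift_snd_assoc, Category.assoc, π_πD, ← pullback.condition, ← Category.assoc, pullback.condition]
      exact (congrArg (· ≫ ιK) he).symm.trans ((Category.assoc _ _ _).trans
        ((congrArg (e.hom ≫ ·) pullback.condition.symm).trans (Category.assoc _ _ _).symm)))
  let Xj := pullback g₀ ((fgDiagram k K).map j.hom)
  have hXj : IsPullback (pullback.fst g₀ ((fgDiagram k K).map j.hom) ≫ pullback.fst p (πD k K i₀)) (pullback.snd g₀ ((fgDiagram k K).map j.hom))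
      p (πD k K j.left) := by
    rw [← map_πD k K j.hom]
    exact (IsPullback.of_hasPullback g₀ ((fgDiagram k K).map j.hom)).paste_horiz (IsPullback.of_hasPullback p (πD k K i₀))
  let φ : Xj ⟶ pullback q (πD k K j.left) := pullback.lift a (pullback.snd g₀ ((fgDiagram k K).map j.hom)) hat
  let qY : pullback q ιK ⟶ pullback q (πD k K j.left) :=
    pullback.lift (pullback.fst _ _) (pullback.snd _ _ ≫ (fgCone k K).π.app j.left) (by erw [Category.assoc, π_πD]; exact pullback.condition)
  have hY : IsPullback qY sY (pullback.snd q (πD k K j.left)) ((fgCone k K).π.app j.left) := by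
    refine IsPullback.of_right ?_ (pullback.lift_snd _ _ _) (IsPullback.of_hasPullback q (πD k K j.left))
    erw [pullback.lift_fst, π_πD]
    exact IsPullback.of_hasPullback q ιK
  have hφ : φ ≫ pullback.snd q (πD k K j.left) = pullback.snd g₀ ((fgDiagram k K).map j.hom) := pullback.lift_snd _ _ _
  have hφ1 : φ ≫ pullback.fst q (πD k K j.left) = a := pullback.lift_fst _ _ _
  have hqY1 : qY ≫ pullback.fst q (πD k K j.left) = pullback.fst q ιK := pullback.lift_fst _ _ _
  have heY : e.hom ≫ sY = sX := he
  have hX : IsPullback ((bcCone hX₀).π.app j) e.hom φ qY := by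
    refine IsPullback.of_bot ?_ ?_ hY
    · exact cast (congrArg₂ (fun u v => IsPullback ((bcCone hX₀).π.app j) u v ((fgCone k K).π.app j.left)) heY.symm hφ.symm)
        (isPullback_bcCone hX₀ j)
    · apply pullback.hom_ext
      · refine (Category.assoc _ _ _).trans ((congrArg (_ ≫ ·) hφ1).trans (ha.trans ?_))
        exact (congrArg (e.hom ≫ ·) hqY1).symm.trans (Category.assoc _ _ _).symm
      · refine (Category.assoc _ _ _).trans ((congrArg (_ ≫ ·) hφ).trans ?_)
        refine (isPullback_bcCone hX₀ j).w.trans ?_
        refine ((congrArg (· ≫ (fgCone k K).π.app j.left) heY).symm.trans (Category.assoc _ _ _)).trans ?_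
        exact (congrArg (e.hom ≫ ·) hY.w).symm.trans (Category.assoc _ _ _).symm
  have : LocallyOfFinitePresentation (φ ≫ pullback.snd q (πD k K j.left)) := by rw [hφ]; infer_instance
  have : QuasiCompact (φ ≫ pullback.snd q (πD k K j.left)) := by rw [hφ]; infer_instance
  have : QuasiSeparated (φ ≫ pullback.snd q (πD k K j.left)) := by rw [hφ]; infer_instance
  obtain ⟨l, ψ, Xl, Yl, fl, gl, pY, pX, hYl, hXl, hiso⟩ := Groth.Agent.S4805.result (fgDiagram k K) (fgCone k K) (isLimitFgCone k K) j.left
    φ (pullback.snd q (πD k K j.left)) e.hom sY qY ((bcCone hX₀).π.app j) hY hX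
  have hYk : IsPullback (pY ≫ pullback.fst q (πD k K j.left)) gl q (πD k K l) := by
    rw [← map_πD k K ψ]
    exact hYl.paste_horiz (IsPullback.of_hasPullback q (πD k K j.left))
  have hXk : IsPullback (pX ≫ pullback.fst g₀ ((fgDiagram k K).map j.hom) ≫ pullback.fst p (πD k K i₀)) (fl ≫ gl) p (πD k K l) := by
    rw [← map_πD k K ψ]
    refine IsPullback.paste_horiz ?_ hXj
    rw [← hφ]
    exact hXl.paste_vert hYl
  let A := Algebra.adjoin k (l.unop : Set K)
  obtain ⟨m, hm⟩ := Ideal.exists_maximal A
  letI := Ideal.Quotient.field m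
  have : Algebra.FiniteType k A := (Subalgebra.fg_iff_finiteType A).mp ⟨l.unop, rfl⟩
  have : Algebra.FiniteType k (A ⧸ m) := inferInstance
  have hfin : Module.Finite k (A ⧸ m) := finite_of_finite_type_of_isJacobsonRing k _
  let μ : Spec (CommRingCat.of (A ⧸ m)) ⟶ (fgDiagram k K).obj l := Spec.map (CommRingCat.ofHom (Ideal.Quotient.mk m))
  have hμ : μ ≫ πD k K l = Spec.map (CommRingCat.ofHom (algebraMap k (A ⧸ m))) := (Spec.map_comp _ _).symm.trans rfl
  let ι' := Spec.map (CommRingCat.ofHom (algebraMap k (A ⧸ m)))
  let a' : pullback p ι' ⟶ Xl := hXk.lift (pullback.fst _ _) (pullback.snd _ _ ≫ μ) (by rw [Category.assoc, hμ, pullback.condition])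
  let b' : pullback q ι' ⟶ Yl := hYk.lift (pullback.fst _ _) (pullback.snd _ _ ≫ μ) (by rw [Category.assoc, hμ, pullback.condition])
  have hA : IsPullback a' (pullback.snd p ι') (fl ≫ gl) μ := by
    refine IsPullback.of_right ?_ (hXk.lift_snd _ _ _) hXk
    rw [hXk.lift_fst, hμ]
    exact IsPullback.of_hasPullback p ι'
  have hB : IsPullback b' (pullback.snd q ι') gl μ := by
    refine IsPullback.of_right ?_ (hYk.lift_snd _ _ _) hYk
    rw [hYk.lift_fst, hμ]
    exact IsPullback.of_hasPullback q ι'
  let h : pullback p ι' ⟶ pullback q ι' := hB.lift (a' ≫ fl) (pullback.snd p ι') (by rw [Category.assoc]; exact hA.w)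
  have hh : IsPullback a' h fl b' := by
    refine IsPullback.of_bot ?_ (hB.lift_fst _ _ _).symm hB
    rw [hB.lift_snd]
    exact hA
  have : IsIso h := MorphismProperty.of_isPullback (P := MorphismProperty.isomorphisms Scheme.{u}) hh hiso
  exact ⟨A ⧸ m, inferInstance, inferInstance, hfin, asIso h, hB.lift_snd _ _ _⟩

end Groth.Agent.S4839
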