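import Groth.Statements.S4842
import Groth.Agent.LimTop.Embeddings

set_option autoImplicit false
universe u
open CategoryTheory AlgebraicGeometry
open Lim8

namespace Groth.Agent.S4842

/-- Let S = lim S_i be a cofiltered limit of schemes whose transition maps are affine and topological
embeddings (homeomorphisms onto subspaces), some stage S_{i₀} having Noetherian underlying space,
and assume that the underlying space of S is Noetherian. Then there is an index i over i₀ such that,
for every j over i, the map sending a connected component C of S to the closure of its image under S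
⟶ S_j is a bijection from the set of connected components of S onto the set of connected components
of S_j. -/
theorem result {I : Type u} [SmallCategory I] [IsCofiltered I]
    (D : I ⥤ Scheme.{u}) (c : Limits.Cone D) (hc : Limits.IsLimit c)
    [∀ (i j : I) (f : i ⟶ j), IsAffineHom (D.map f)] (i₀ : I)
    [TopologicalSpace.NoetherianSpace (D.obj i₀)] [TopologicalSpace.NoetherianSpace c.pt]
    (he : ∀ (i j : I) (φ : i ⟶ j), Topology.IsEmbedding ⇑(D.map φ)) :
    ∃ (i : I) (_ : i ⟶ i₀), ∀ (j : I) (_ : j ⟶ i),
      Set.BijOn (fun C : Set c.pt => closure (⇑(c.π.app j) '' (C : Set c.pt) : Set (D.obj j)))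
        (Set.range (connectedComponent : c.pt → Set c.pt)) (Set.range (connectedComponent : D.obj j → Set (D.obj j))) := by
  obtain ⟨i, φ, hi⟩ := LimTop.exists_eventually_isDominant i₀ he
  have : TopologicalSpace.NoetherianSpace (D.obj i) := (he i i₀ φ).isInducing.noetherianSpace
  obtain ⟨j, ψ, hj⟩ := LimTop.eventually_bijOn_connectedComponents hc i hi
  exact ⟨j, ψ ≫ φ, hj⟩

end Groth.Agent.S4842
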