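import Groth.Statements.S4843
import Groth.Agent.FibreIndCons.QProj
import Groth.Agent.FibTop.UC
import Groth.Agent.S4418
import Groth.Agent.ProjBundleLib.FTQP
import Groth.Agent.ProConsX.Basic
import Groth.Agent.LimTop.Cons

set_option autoImplicit false
open CategoryTheory AlgebraicGeometry
universe u
open Cons9

namespace Groth.Agent.S4843

lemma isIndConstructible_inter {X : Scheme.{u}} {A B : Set X} (hA : ProCons.IsIndConstructible A)
    (hB : ProCons.IsIndConstructible B) : ProCons.IsIndConstructible (A ∩ B) := by
  refine ProConsX.Basic.isIndConstructible_iff.mpr fun W hW => ?_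
  rw [Set.preimage_inter]
  exact @IsOpen.inter _ (constructibleTopology _) _ _ (ProConsX.Basic.isIndConstructible_iff.mp hA W hW)
    (ProConsX.Basic.isIndConstructible_iff.mp hB W hW)

open CategoryTheory.Limits in
theorem setOf_eq {X Y S : Scheme.{u}} (f : X ⟶ Y) (g : Y ⟶ S) [QuasiCompact g] [QuasiSeparated g] :
    {s : S | RelProj.IsProjective (FibreIndCons.fibMap f g (S.fromSpecResidueField s))} =
      {s : S | RelProj.IsQuasiProjective (FibreIndCons.fibMap f g (S.fromSpecResidueField s))} ∩
      {s : S | IsProper (FibreIndCons.fibMap f g (S.fromSpecResidueField s))} := by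
  ext s
  constructor
  · intro h
    exact Groth.Agent.S4418.result _ h
  · rintro ⟨h1, h2 : IsProper _⟩
    haveI : CompactSpace ↑(pullback g (S.fromSpecResidueField s)) :=
      QuasiCompact.compactSpace_of_compactSpace (pullback.snd g (S.fromSpecResidueField s))
    have hq : QuasiSeparated (pullback.snd g (S.fromSpecResidueField s)) := MorphismProperty.pullback_snd _ _ ‹_›
    haveI : QuasiSeparatedSpace ↑(pullback g (S.fromSpecResidueField s)) :=
      @quasiSeparatedSpace_of_quasiSeparated _ _ (pullback.snd g (S.fromSpecResidueField s)) inferInstance hq
    obtain ⟨E, hE, B, i, hft, hi, hip⟩ := ProjBundleLib.exists_ft_bundle_of_isQuasiProjective h1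
    exact ProjBundleLib.isProjective_of_immersion hft B i hip

open CategoryTheory.Limits in
/-- Let g : Y ⟶ S and f : X ⟶ Y be such that X and Y are of finite presentation over S (locally of
finite presentation, quasi-compact and quasi-separated). For each point s of S let f_s : X_s ⟶ Y_s
be the morphism induced on the fibres over s. Then the set of s for which f_s is projective (X_s is
isomorphic over Y_s to the homogeneous spectrum of a quasi-coherent graded O_{Y_s}-algebra generated
by its degree-one part, which is of finite type) is ind-constructible in S. -/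
theorem result {X Y S : Scheme.{u}} (f : X ⟶ Y) (g : Y ⟶ S)
    [LocallyOfFinitePresentation g] [QuasiCompact g] [QuasiSeparated g]
    [LocallyOfFinitePresentation (f ≫ g)] [QuasiCompact (f ≫ g)] [QuasiSeparated (f ≫ g)] :
    ProCons.IsIndConstructible {s : S |
      RelProj.IsProjective
        (pullback.lift (pullback.fst (f ≫ g) (S.fromSpecResidueField s) ≫ f) (pullback.snd (f ≫ g) (S.fromSpecResidueField s))
          ((Category.assoc _ _ _).trans pullback.condition) :
        pullback (f ≫ g) (S.fromSpecResidueField s) ⟶ pullback g (S.fromSpecResidueField s))} := by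
  haveI : LocallyOfFiniteType f := locallyOfFiniteType_of_comp f g
  show ProCons.IsIndConstructible {s : S | RelProj.IsProjective (FibreIndCons.fibMap f g (S.fromSpecResidueField s))}
  rw [setOf_eq]
  exact isIndConstructible_inter (FibreIndCons.isIndConstructible_isQuasiProjective f g)
    (LimTop.isIndConstructible_of_isLocallyConstructible (FibTop.isLocallyConstructible_properLocus f g))

end Groth.Agent.S4843
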