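import Groth.Statements.S4845
import Groth.Agent.FibreIndCons.Residue
import Groth.Agent.AmpleDesc.RelLimit
import Groth.Agent.AmpleDesc.Fpqc
import Groth.Agent.ConsPropLib.Examples

set_option autoImplicit false
open CategoryTheory AlgebraicGeometry
universe u
open Cons9

open CategoryTheory.Limits
set_option backward.isDefEq.respectTransparency.types false
namespace Groth.Agent.S4845

open CategoryTheory.Limits in
open CategoryTheory.Limits in
theorem isRelAmple_of_iso' {A B : Scheme.{u}} {p : A ⟶ B} {M N : A.Modules} (e : M ≅ N)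
    (h : RelAmple.IsRelAmple p M) : RelAmple.IsRelAmple p N :=
  ⟨h.1, fun V => Groth.Agent.AmpleLib.isAmple_of_iso
    ((Scheme.Modules.restrictFunctor (p ⁻¹ᵁ V.1).ι).mapIso e) (h.2 V)⟩

/-- Let g : Y ⟶ S and f : X ⟶ Y be such that X and Y are of finite presentation over S (locally of
finite presentation, quasi-compact and quasi-separated), and let L be an invertible O_X-module. For
each point s of S let f_s : X_s ⟶ Y_s be the morphism induced on the fibres over s and L_s the
pullback of L to X_s. Then the set of s for which L_s is ample relative to f_s is ind-constructible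
in S. This is the case of relative ampleness (the very ample case is not stated here). -/
theorem result {X Y S : Scheme.{u}} (f : X ⟶ Y) (g : Y ⟶ S)
    [LocallyOfFinitePresentation g] [QuasiCompact g] [QuasiSeparated g]
    [LocallyOfFinitePresentation (f ≫ g)] [QuasiCompact (f ≫ g)] [QuasiSeparated (f ≫ g)]
    (L : X.Modules) (hL : PicF.IsInvertible L) :
    ProCons.IsIndConstructible {s : S |
      RelAmple.IsRelAmple
        (pullback.lift (pullback.fst (f ≫ g) (S.fromSpecResidueField s) ≫ f) (pullback.snd (f ≫ g) (S.fromSpecResidueField s))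
          ((Category.assoc _ _ _).trans pullback.condition) :
        pullback (f ≫ g) (S.fromSpecResidueField s) ⟶ pullback g (S.fromSpecResidueField s))
        ((Scheme.Modules.pullback (pullback.fst (f ≫ g) (S.fromSpecResidueField s))).obj L)} := by
  refine Groth.Agent.FibreIndCons.isIndConstructible_of_spread fun s hs I _ _ D c hc e a hD haD hea => ?_
  haveI := hD
  haveI : ∀ (i j : I) (φ : i ⟶ j), IsAffineHom (D.map φ) := fun i j φ => inferInstance
  let p : Spec (S.residueField s) ⟶ S := S.fromSpecResidueField s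
  obtain ⟨i₀⟩ := IsCofiltered.nonempty (C := I)
  let g₀ := pullback.snd g (a i₀)
  let f₀ : pullback (f ≫ g) (a i₀) ⟶ pullback g (a i₀) :=
    pullback.lift (pullback.fst _ _ ≫ f) (pullback.snd _ _) (by rw [Category.assoc, pullback.condition])
  have hf₀ : f₀ ≫ g₀ = pullback.snd (f ≫ g) (a i₀) := pullback.lift_snd _ _ _
  have hF₀ : IsPullback (pullback.fst (f ≫ g) (a i₀)) f₀ f (pullback.fst g (a i₀)) := by
    refine IsPullback.of_bot ?_ (pullback.lift_fst _ _ _).symm (IsPullback.of_hasPullback g (a i₀))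
    rw [hf₀]
    exact IsPullback.of_hasPullback _ _
  let fs : pullback (f ≫ g) p ⟶ pullback g p :=
    pullback.lift (pullback.fst (f ≫ g) p ≫ f) (pullback.snd (f ≫ g) p)
      ((Category.assoc _ _ _).trans pullback.condition)
  have hfs : fs ≫ pullback.fst g p = pullback.fst (f ≫ g) p ≫ f := pullback.lift_fst _ _ _
  have hFs : IsPullback (pullback.fst (f ≫ g) p) fs f (pullback.fst g p) := by
    refine IsPullback.of_bot ?_ hfs.symm (IsPullback.of_hasPullback g p)
    rw [show fs ≫ pullback.snd g p = pullback.snd (f ≫ g) p from pullback.lift_snd _ _ _]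
    exact IsPullback.of_hasPullback _ _
  let qY : pullback g p ⟶ pullback g (a i₀) :=
    pullback.lift (pullback.fst g p) (pullback.snd g p ≫ e.hom ≫ c.π.app i₀)
      (by simp only [Category.assoc]; rw [hea]; exact pullback.condition)
  have hqY : qY ≫ pullback.fst g (a i₀) = pullback.fst g p := pullback.lift_fst _ _ _
  have hY : IsPullback qY (pullback.snd g p ≫ e.hom) g₀ (c.π.app i₀) := by
    refine IsPullback.of_right ?_ (by rw [show qY ≫ g₀ = _ from pullback.lift_snd _ _ _, Category.assoc])
      (IsPullback.of_hasPullback g (a i₀))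
    rw [hqY]
    refine (IsPullback.of_hasPullback g p).of_iso (Iso.refl _) (Iso.refl _) e (Iso.refl _) ?_ ?_ ?_ ?_
    · simp
    · simp
    · simp
    · simpa using (hea i₀).symm
  let qX : pullback (f ≫ g) p ⟶ pullback (f ≫ g) (a i₀) :=
    hF₀.lift (pullback.fst (f ≫ g) p) (fs ≫ qY) (by rw [Category.assoc, hqY, hfs])
  have hqX : qX ≫ pullback.fst (f ≫ g) (a i₀) = pullback.fst (f ≫ g) p := hF₀.lift_fst _ _ _
  have hX : IsPullback qX fs f₀ qY := by
    refine IsPullback.of_right ?_ (hF₀.lift_snd _ _ _) hF₀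
    rw [hqX, hqY]
    exact hFs
  haveI : QuasiCompact g₀ := MorphismProperty.pullback_snd _ _ ‹_›
  haveI : QuasiSeparated g₀ := MorphismProperty.pullback_snd _ _ ‹_›
  haveI : QuasiCompact (f₀ ≫ g₀) := by rw [hf₀]; exact MorphismProperty.pullback_snd _ _ ‹_›
  haveI : QuasiSeparated (f₀ ≫ g₀) := by rw [hf₀]; exact MorphismProperty.pullback_snd _ _ ‹_›
  haveI : QuasiCompact f₀ := QuasiCompact.of_comp f₀ g₀
  haveI : QuasiSeparated f₀ := QuasiSeparated.of_comp f₀ g₀
  haveI : CompactSpace ↑(pullback g (a i₀)) := QuasiCompact.compactSpace_of_compactSpace g₀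
  let L₀ := (Scheme.Modules.pullback (pullback.fst (f ≫ g) (a i₀))).obj L
  have hL₀ : PicF.IsInvertible L₀ := Groth.Agent.PicCl.isInvertible_pullback _ hL
  have hs' : RelAmple.IsRelAmple fs ((Scheme.Modules.pullback qX).obj L₀) :=
    isRelAmple_of_iso' ((Scheme.Modules.pullbackCongr hqX.symm).app L ≪≫
      ((Scheme.Modules.pullbackComp qX _).app L).symm) hs
  obtain ⟨j, hj⟩ := Groth.Agent.AmpleDesc.exists_isRelAmple_stage hc f₀ g₀ hL₀ hY hX hs'
  refine ⟨j.left, ?_⟩
  rintro _ ⟨b, rfl⟩
  let t := a j.left b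
  let κ := Spec.map ((a j.left).residueFieldMap b)
  have hκ : κ ≫ S.fromSpecResidueField t = (D.obj j.left).fromSpecResidueField b ≫ a j.left :=
    (a j.left).SpecMap_residueFieldMap_fromSpecResidueField b
  let p' : Spec (S.residueField t) ⟶ S := S.fromSpecResidueField t
  let ft : pullback (f ≫ g) p' ⟶ pullback g p' :=
    pullback.lift (pullback.fst (f ≫ g) p' ≫ f) (pullback.snd (f ≫ g) p')
      ((Category.assoc _ _ _).trans pullback.condition)
  let Lt := (Scheme.Modules.pullback (pullback.fst (f ≫ g) p')).obj L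
  show RelAmple.IsRelAmple ft Lt
  have hft : ft ≫ pullback.fst g p' = pullback.fst (f ≫ g) p' ≫ f := pullback.lift_fst _ _ _
  have hFt : IsPullback (pullback.fst (f ≫ g) p') ft f (pullback.fst g p') := by
    refine IsPullback.of_bot ?_ hft.symm (IsPullback.of_hasPullback g p')
    rw [show ft ≫ pullback.snd g p' = pullback.snd (f ≫ g) p' from pullback.lift_snd _ _ _]
    exact IsPullback.of_hasPullback _ _
  let pr := pullback.fst (pullback.snd g p') κ
  have hpr : Groth.Agent.FpqcDesc.FPQC.{u} pr :=
    MorphismProperty.of_isPullback (IsPullback.of_hasPullback (pullback.snd g p') κ).flip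
      (Groth.Agent.ConsPropLib.fpqc_of_points κ)
  haveI : Surjective pr := hpr.1.1
  haveI : QuasiCompact pr := hpr.2
  haveI : Flat pr := hpr.1.2
  -- the squares over the stage
  let pY := pullback.fst g₀ (D.map j.hom)
  let pX := pullback.fst (f₀ ≫ g₀) (D.map j.hom)
  let fl : pullback (f₀ ≫ g₀) (D.map j.hom) ⟶ pullback g₀ (D.map j.hom) :=
    pullback.lift (pX ≫ f₀) (pullback.snd (f₀ ≫ g₀) (D.map j.hom)) (by rw [Category.assoc, pullback.condition])
  have hfl : IsPullback pX fl f₀ pY := by
    refine IsPullback.of_bot ?_ (pullback.lift_fst _ _ _).symm (IsPullback.of_hasPullback g₀ (D.map j.hom))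
    rw [show fl ≫ pullback.snd g₀ (D.map j.hom) = pullback.snd (f₀ ≫ g₀) (D.map j.hom) from pullback.lift_snd _ _ _]
    exact IsPullback.of_hasPullback _ _
  have jY : IsPullback (pY ≫ pullback.fst g (a i₀)) (pullback.snd g₀ (D.map j.hom)) g (a j.left) := by
    rw [← haD j.hom]
    exact (IsPullback.of_hasPullback g₀ (D.map j.hom)).paste_horiz (IsPullback.of_hasPullback g (a i₀))
  have jX : IsPullback (pX ≫ pullback.fst (f ≫ g) (a i₀)) fl f (pY ≫ pullback.fst g (a i₀)) :=
    hfl.paste_horiz hF₀
  have hYb : IsPullback (pr ≫ pullback.fst g p') (pullback.snd (pullback.snd g p') κ) g (κ ≫ p') :=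
    (IsPullback.of_hasPullback (pullback.snd g p') κ).paste_horiz (IsPullback.of_hasPullback g p')
  have hXb : IsPullback (pullback.fst ft pr ≫ pullback.fst (f ≫ g) p') (pullback.snd ft pr) f
      (pr ≫ pullback.fst g p') :=
    (IsPullback.of_hasPullback ft pr).paste_horiz hFt
  rw [show κ ≫ p' = _ from hκ] at hYb
  let rY := jY.lift (pr ≫ pullback.fst g p')
    (pullback.snd (pullback.snd g p') κ ≫ (D.obj j.left).fromSpecResidueField b)
    (by rw [Category.assoc, Category.assoc]; exact (Category.assoc _ _ _).symm.trans hYb.w)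
  have hrY : rY ≫ pY ≫ pullback.fst g (a i₀) = pr ≫ pullback.fst g p' := jY.lift_fst _ _ _
  let rX := jX.lift (pullback.fst ft pr ≫ pullback.fst (f ≫ g) p') (pullback.snd ft pr ≫ rY)
    (by rw [Category.assoc (pullback.snd ft pr), hrY]; exact hXb.w)
  have hrX : rX ≫ pX ≫ pullback.fst (f ≫ g) (a i₀) = pullback.fst ft pr ≫ pullback.fst (f ≫ g) p' :=
    jX.lift_fst _ _ _
  have hsq : IsPullback rX (pullback.snd ft pr) fl rY := by
    refine IsPullback.of_right ?_ (jX.lift_snd _ _ _) jX
    rw [jX.lift_fst, hrY]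
    exact hXb
  refine Groth.Agent.AmpleDesc.isRelAmple_descend ft (Groth.Agent.PicCl.isInvertible_pullback _ hL) pr ?_
  refine isRelAmple_of_iso' ?_ (Groth.Agent.AmpleDesc.isRelAmple_of_isPullback hsq hj)
  exact (Scheme.Modules.pullbackComp rX pX).app L₀ ≪≫ (Scheme.Modules.pullbackComp (rX ≫ pX) _).app L ≪≫
    (Scheme.Modules.pullbackCongr ((Category.assoc _ _ _).trans hrX)).app L ≪≫
    ((Scheme.Modules.pullbackComp (pullback.fst ft pr) (pullback.fst (f ≫ g) p')).app L).symm

end Groth.Agent.S4845
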