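import Groth.Statements.S4846
import Groth.Agent.AmpleDesc.RelLimit

set_option autoImplicit false
universe u
open CategoryTheory AlgebraicGeometry
open Lim8

open CategoryTheory CategoryTheory.Limits AlgebraicGeometry
namespace Groth.Agent.S4846

/-- Let S = lim S_i be a cofiltered limit of schemes with affine transition maps and S_{i₀} a
quasi-compact stage; let X₀ and Y₀ be schemes of finite presentation over S_{i₀}, f₀ : X₀ ⟶ Y₀ an
S_{i₀}-morphism and L₀ an invertible O_{X₀}-module. Let f : X ⟶ Y be the base change of f₀ along S ⟶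
S_{i₀} and L the pullback of L₀ to X (base changes are expressed by pullback squares). Then L is
ample relative to f if and only if, for some index j over i₀, the pullback L_j of L₀ to X_j is ample
relative to the base change f_j : X_j ⟶ Y_j of f₀ along S_j ⟶ S_{i₀}. This is the case of relative
ampleness (the very ample case is not stated here). -/
theorem result {I : Type u} [SmallCategory I] [IsCofiltered I]
    (D : I ⥤ Scheme.{u}) (c : Limits.Cone D) (hc : Limits.IsLimit c)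
    [∀ (i j : I) (f : i ⟶ j), IsAffineHom (D.map f)] (i₀ : I) [CompactSpace (D.obj i₀)]
    {X₀ Y₀ : Scheme.{u}} (f₀ : X₀ ⟶ Y₀) (g₀ : Y₀ ⟶ D.obj i₀)
    [LocallyOfFinitePresentation g₀] [QuasiCompact g₀] [QuasiSeparated g₀]
    [LocallyOfFinitePresentation (f₀ ≫ g₀)] [QuasiCompact (f₀ ≫ g₀)] [QuasiSeparated (f₀ ≫ g₀)]
    (L₀ : X₀.Modules) (hL₀ : PicF.IsInvertible L₀)
    {X Y : Scheme.{u}} (f : X ⟶ Y) (g : Y ⟶ c.pt) (qY : Y ⟶ Y₀) (qX : X ⟶ X₀)
    (hY : IsPullback qY g g₀ (c.π.app i₀)) (hX : IsPullback qX f f₀ qY) :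
    RelAmple.IsRelAmple f ((Scheme.Modules.pullback qX).obj L₀) ↔
      ∃ (j : I) (φ : j ⟶ i₀) (Xj Yj : Scheme.{u}) (fj : Xj ⟶ Yj) (gj : Yj ⟶ D.obj j) (pY : Yj ⟶ Y₀)
        (pX : Xj ⟶ X₀), IsPullback pY gj g₀ (D.map φ) ∧ IsPullback pX fj f₀ pY ∧
          RelAmple.IsRelAmple fj ((Scheme.Modules.pullback pX).obj L₀) := by
  have : CompactSpace Y₀ := QuasiCompact.compactSpace_of_compactSpace g₀
  have : QuasiCompact f₀ := QuasiCompact.of_comp f₀ g₀
  have : QuasiSeparated f₀ := QuasiSeparated.of_comp f₀ g₀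
  constructor
  · intro h
    obtain ⟨j, hj⟩ := Groth.Agent.AmpleDesc.exists_isRelAmple_stage hc f₀ g₀ hL₀ hY hX h
    refine ⟨j.left, j.hom, _, _, _, pullback.snd g₀ (D.map j.hom), pullback.fst g₀ (D.map j.hom),
      pullback.fst (f₀ ≫ g₀) (D.map j.hom), IsPullback.of_hasPullback _ _, ?_, hj⟩
    refine IsPullback.of_bot ?_ (pullback.lift_fst _ _ _).symm (IsPullback.of_hasPullback g₀ (D.map j.hom))
    rw [pullback.lift_snd]
    exact IsPullback.of_hasPullback _ _
  · rintro ⟨j, φ, Xj, Yj, fj, gj, pY, pX, hYj, hXj, h⟩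
    let rY : Y ⟶ Yj := hYj.lift qY (g ≫ c.π.app j) (by rw [Category.assoc, c.w, hY.w])
    have hrY : rY ≫ pY = qY := hYj.lift_fst _ _ _
    let rX : X ⟶ Xj := hXj.lift qX (f ≫ rY) (by rw [Category.assoc, hrY, hX.w])
    have hrX : rX ≫ pX = qX := hXj.lift_fst _ _ _
    have hsq : IsPullback rX f fj rY := by
      refine IsPullback.of_right ?_ (hXj.lift_snd _ _ _) hXj
      rw [hrX, hrY]
      exact hX
    have hf := Groth.Agent.AmpleDesc.isRelAmple_of_isPullback hsq h
    refine ⟨hf.1, fun V => ?_⟩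
    exact Groth.Agent.AmpleLib.isAmple_of_iso ((Scheme.Modules.restrictFunctor (f ⁻¹ᵁ V.1).ι).mapIso
      ((Scheme.Modules.pullbackComp rX pX).app L₀ ≪≫ (Scheme.Modules.pullbackCongr hrX).app L₀)) (hf.2 V)

end Groth.Agent.S4846
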