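import Groth.Statements.S4847
import Groth.Agent.S0392
import Groth.Agent.FDesc.QuasiFlat
import Groth.Agent.FlatOpen.FibreCrit

set_option autoImplicit false
set_option linter.style.haveILetI false
universe u
open EGA43

namespace Groth.Agent.S4847

open TensorProduct in
theorem core {R A B M : Type u} [CommRing R] [CommRing A] [CommRing B] [IsLocalRing R] [IsLocalRing A]
    [IsLocalRing B] [IsNoetherianRing R] [IsNoetherianRing A] [IsNoetherianRing B] [Algebra R A]
    [Algebra A B] [Algebra R B] [IsScalarTower R A B] [IsLocalHom (algebraMap R A)]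
    [IsLocalHom (algebraMap A B)] [AddCommGroup M] [Module B M] [Module A M] [Module R M]
    [IsScalarTower A B M] [IsScalarTower R A M] [Module.Finite B M] [Nontrivial M] :
    (Module.Flat R M ∧ Module.Flat (A ⧸ (IsLocalRing.maximalIdeal R).map (algebraMap R A))
      (M ⧸ (IsLocalRing.maximalIdeal R).map (algebraMap R A) • (⊤ : Submodule A M))) ↔
    Module.Flat R A ∧ Module.Flat A M := by
  let J := (IsLocalRing.maximalIdeal R).map (algebraMap R A)
  let e : (A ⧸ J) ⊗[A] M ≃ₗ[A] M ⧸ J • (⊤ : Submodule A M) := quotTensorEquivQuotSMul M J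
  constructor
  · rintro ⟨h1, h2⟩
    haveI := h1
    haveI : Module.Flat (A ⧸ J) (M ⧸ J • (⊤ : Submodule A M)) := h2
    exact Groth.Agent.S0392.result (R := R) (S := A) (S' := B)
      (Groth.Agent.FlatOpen.flat_of_linearEquiv_of_surjective Ideal.Quotient.mk_surjective e.symm)
  · rintro ⟨h1, h2⟩
    haveI := h1
    haveI := h2
    exact ⟨Module.Flat.trans R A M,
      Groth.Agent.FlatOpen.flat_of_linearEquiv_of_surjective Ideal.Quotient.mk_surjective e⟩

open AlgebraicGeometry CategoryTheory Limits in
/-- Case 1° (fibrewise flatness criterion for locally Noetherian schemes): let S, X and Y be locally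
Noetherian schemes, f : X ⟶ Y and h : Y ⟶ S arbitrary morphisms, F a coherent O_X-module and x a
point of X with images y in Y and s in S, such that the stalk F_x is nonzero. Then F is flat over S
at x and F_x / m_s F_x is flat over O_{Y,y} / m_s O_{Y,y} (that is, the fibre module F_s is flat
over the fibre Y_s at x) if and only if h is flat at y and F is flat over Y at x. No finiteness
hypothesis on f or h is required in this case. -/
theorem result {X Y S : Scheme.{u}}
    [IsLocallyNoetherian X] [IsLocallyNoetherian Y] [IsLocallyNoetherian S]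
    (f : X ⟶ Y) (h : Y ⟶ S) (F : X.Modules) (hF : Coh.IsCoh F) (x : X)
    (hx : Nontrivial ↑(F.presheaf.stalk x)) :
    letI := FlatMod.moduleStalkOver f F x
    (FlatMod.IsFlatOverAt (f ≫ h) F x ∧
      Module.Flat (↑(Y.presheaf.stalk (f x)) ⧸ Ideal.map (h.stalkMap (f x)).hom (IsLocalRing.maximalIdeal ↑(S.presheaf.stalk (h (f x)))))
        (↑(F.presheaf.stalk x) ⧸ (Ideal.map (h.stalkMap (f x)).hom (IsLocalRing.maximalIdeal ↑(S.presheaf.stalk (h (f x)))) •
          (⊤ : Submodule ↑(Y.presheaf.stalk (f x)) ↑(F.presheaf.stalk x))))) ↔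
    ((h.stalkMap (f x)).hom.Flat ∧ FlatMod.IsFlatOverAt f F x) := by
  let R := S.presheaf.stalk (h (f x))
  let A := Y.presheaf.stalk (f x)
  let B := X.presheaf.stalk x
  let M := F.presheaf.stalk x
  letI : Algebra R A := (h.stalkMap (f x)).hom.toAlgebra
  letI : Algebra A B := (f.stalkMap x).hom.toAlgebra
  letI : Algebra R B := ((f ≫ h).stalkMap x).hom.toAlgebra
  haveI : IsScalarTower R A B := IsScalarTower.of_algebraMap_eq' (by
    show ((f ≫ h).stalkMap x).hom = (f.stalkMap x).hom.comp (h.stalkMap (f x)).hom
    rw [Scheme.Hom.stalkMap_comp]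
    rfl)
  haveI : IsLocalHom (algebraMap R A) := (inferInstance : IsLocalHom (h.stalkMap (f x)).hom)
  haveI : IsLocalHom (algebraMap A B) := (inferInstance : IsLocalHom (f.stalkMap x).hom)
  letI : Module A M := FlatMod.moduleStalkOver f F x
  letI : Module R M := FlatMod.moduleStalkOver (f ≫ h) F x
  haveI : IsScalarTower A B M := IsScalarTower.of_algebraMap_smul fun _ _ => rfl
  haveI : IsScalarTower R B M := IsScalarTower.of_algebraMap_smul fun _ _ => rfl
  haveI : IsScalarTower R A M := IsScalarTower.to₁₂₄ R A B M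
  haveI : Module.Finite B M := Groth.Agent.FDesc.QuasiFlat.finite_stalk_of_isCoh F hF x
  haveI := hx
  exact core (R := R) (A := A) (B := B) (M := M)

end Groth.Agent.S4847
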