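import Groth.Statements.S4850
import Groth.Agent.FlatOpen.SchemeMap

set_option autoImplicit false
universe u
open EGA43

namespace Groth.Agent.S4850

open AlgebraicGeometry CategoryTheory Limits in
/-- Equivalence of a: and b)): let f : X ⟶ Y be locally of finite presentation, F and F' quasi-coherent
O_X-modules of finite presentation, u : F' ⟶ F a homomorphism and x a point with y = f x, such that
F is f-flat at x. Then the stalk map u_x is injective and Coker u is f-flat at x, if and only if u_x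
induces an injective map F'_x / m_y F'_x → F_x / m_y F_x. The second condition is written out: an
element of F'_x whose image under u_x lies in m_y F_x already lies in m_y F'_x. (The vanishing of
the stalk (Ker u)_x is expressed as injectivity of u_x.) -/
theorem result {X Y : Scheme.{u}} (f : X ⟶ Y)
    [LocallyOfFinitePresentation f] (F F' : X.Modules) [Coh.IsQCoh F] [Coh.IsQCoh F']
    (hF : CohB1.IsFP F) (hF' : CohB1.IsFP F') (u : F' ⟶ F) (x : X) (hflat : FlatMod.IsFlatOverAt f F x) :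
    letI J : Ideal ↑(X.presheaf.stalk x) :=
      Ideal.map (f.stalkMap x).hom (IsLocalRing.maximalIdeal ↑(Y.presheaf.stalk (f x)))
    letI ux := (TopCat.Presheaf.stalkFunctor Ab x).map (Scheme.Modules.Hom.mapPresheaf u)
    (Function.Injective ux ∧ FlatMod.IsFlatOverAt f (cokernel u) x) ↔
      ∀ m : ↑(F'.presheaf.stalk x),
        ux m ∈ (J • (⊤ : Submodule ↑(X.presheaf.stalk x) ↑(F.presheaf.stalk x))) →
          m ∈ (J • (⊤ : Submodule ↑(X.presheaf.stalk x) ↑(F'.presheaf.stalk x))) := by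
  obtain ⟨_, ⟨V, hV, rfl⟩, hxV, -⟩ := Y.isBasis_affineOpens.exists_subset_of_mem_open
    (Set.mem_univ (f x)) isOpen_univ
  obtain ⟨_, ⟨U, hU, rfl⟩, hx, e⟩ := X.isBasis_affineOpens.exists_subset_of_mem_open
    (show x ∈ f ⁻¹ᵁ V from hxV) (f ⁻¹ᵁ V).isOpen
  replace e : U ≤ f ⁻¹ᵁ V := e
  letI := (f.appLE V U e).hom.toAlgebra
  letI : Module Γ(Y, V) Γ(F, U) := Module.compHom _ (f.appLE V U e).hom
  haveI : IsScalarTower Γ(Y, V) Γ(X, U) Γ(F, U) := IsScalarTower.of_algebraMap_smul fun _ _ => rfl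
  letI : Module Γ(Y, V) Γ(F', U) := Module.compHom _ (f.appLE V U e).hom
  haveI : IsScalarTower Γ(Y, V) Γ(X, U) Γ(F', U) := IsScalarTower.of_algebraMap_smul fun _ _ => rfl
  haveI : Algebra.FinitePresentation Γ(Y, V) Γ(X, U) := f.finitePresentation_appLE hV hU e
  haveI : Module.FinitePresentation Γ(X, U) Γ(F, U) :=
    (Groth.Agent.Props.QFP.isFP_iff F).1 hF U hU
  haveI : Module.FinitePresentation Γ(X, U) Γ(F', U) :=
    (Groth.Agent.Props.QFP.isFP_iff F').1 hF' U hU
  let Q := Groth.Agent.AssSch.Stalk.primeOf hU x hx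
  let I := (Q.comap (algebraMap Γ(Y, V) Γ(X, U))).map (algebraMap Γ(Y, V) Γ(X, U))
  have hflat' := (Groth.Agent.FlatOpen.Scheme.isFlatOverAt_iff f hV hU e x hx F).1 hflat
  letI : Algebra Γ(X, U) (X.presheaf.stalk x) := (X.presheaf.germ U x hx).hom.toAlgebra
  letI : Module Γ(X, U) (F.presheaf.stalk x) := Module.compHom _ (X.presheaf.germ U x hx).hom
  letI : Module Γ(X, U) (F'.presheaf.stalk x) := Module.compHom _ (X.presheaf.germ U x hx).hom
  haveI : IsScalarTower Γ(X, U) (X.presheaf.stalk x) (F.presheaf.stalk x) :=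
    IsScalarTower.of_algebraMap_smul fun _ _ => rfl
  haveI : IsScalarTower Γ(X, U) (X.presheaf.stalk x) (F'.presheaf.stalk x) :=
    IsScalarTower.of_algebraMap_smul fun _ _ => rfl
  haveI : IsLocalization.AtPrime (X.presheaf.stalk x) Q := hU.isLocalization_stalk ⟨x, hx⟩
  haveI := Groth.Agent.AssSch.Stalk.isLocalizedModule_germLinear F hU x hx
  haveI := Groth.Agent.AssSch.Stalk.isLocalizedModule_germLinear F' hU x hx
  let g := Groth.Agent.AssSch.Stalk.germLinear F x hx
  let g' := Groth.Agent.AssSch.Stalk.germLinear F' x hx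
  have hJ := Groth.Agent.FlatOpen.Scheme.maximalIdeal_map_stalkMap f hV hU e x hx
  have hcond : (∀ m : ↑(F'.presheaf.stalk x),
      (TopCat.Presheaf.stalkFunctor Ab x).map (Scheme.Modules.Hom.mapPresheaf u) m ∈
        I.map (algebraMap Γ(X, U) (X.presheaf.stalk x)) •
          (⊤ : Submodule ↑(X.presheaf.stalk x) ↑(F.presheaf.stalk x)) →
        m ∈ I.map (algebraMap Γ(X, U) (X.presheaf.stalk x)) •
          (⊤ : Submodule ↑(X.presheaf.stalk x) ↑(F'.presheaf.stalk x))) ↔
      ∀ m : Γ(F', U), Groth.Agent.FlatOpen.Scheme.appLin u U m ∈ I • (⊤ : Submodule Γ(X, U) Γ(F, U)) →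
        ∃ s ∉ Q, s • m ∈ I • (⊤ : Submodule Γ(X, U) Γ(F', U)) := by
    have hu : ∀ m, Groth.Agent.PullStalk.Exact.stalkLin u x (g' m) =
        g (Groth.Agent.FlatOpen.Scheme.appLin u U m) :=
      fun m => Groth.Agent.PullStalk.Exact.stalkLin_germ u U x hx m
    constructor
    · intro h m hm
      refine (Groth.Agent.FlatOpen.Scheme.mem_map_smul_top_iff Q.primeCompl g' I m).1 (h _ ?_)
      show Groth.Agent.PullStalk.Exact.stalkLin u x (g' m) ∈ _
      rw [hu]
      exact (Groth.Agent.FlatOpen.Scheme.mem_map_smul_top_iff Q.primeCompl g I _).2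
        ⟨1, Q.primeCompl.one_mem, by rwa [one_smul]⟩
    · intro h y hy
      obtain ⟨⟨m, t⟩, hty⟩ := IsLocalizedModule.surj Q.primeCompl g' y
      have ht : IsUnit (algebraMap Γ(X, U) (X.presheaf.stalk x) t) :=
        IsLocalization.map_units _ t
      rw [← Submodule.smul_mem_iff_of_isUnit _ ht, algebraMap_smul, ← Submonoid.smul_def, hty]
      have hy' : g (Groth.Agent.FlatOpen.Scheme.appLin u U m) ∈
          I.map (algebraMap Γ(X, U) (X.presheaf.stalk x)) • (⊤ : Submodule ↑(X.presheaf.stalk x) ↑(F.presheaf.stalk x)) := by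
        rw [← hu, ← hty, Submonoid.smul_def, ← algebraMap_smul (X.presheaf.stalk x) (t : Γ(X, U)),
          map_smul]
        exact Submodule.smul_mem _ _ hy
      obtain ⟨s, hs, hsm⟩ := (Groth.Agent.FlatOpen.Scheme.mem_map_smul_top_iff Q.primeCompl g I _).1 hy'
      obtain ⟨s', hs', hsm'⟩ := h (s • m) (by rw [map_smul]; exact hsm)
      exact (Groth.Agent.FlatOpen.Scheme.mem_map_smul_top_iff Q.primeCompl g' I m).2
        ⟨s' * s, mul_mem (show s' ∈ Q.primeCompl from hs') hs, by rwa [mul_smul]⟩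
  dsimp only
  rw [hJ]
  refine Iff.trans (and_congr (Groth.Agent.FlatOpen.Scheme.stalk_injective_iff u hU x hx)
    (Groth.Agent.FlatOpen.Scheme.isFlatOverAt_cokernel_iff f u hV hU e x hx)) (Iff.trans ?_ hcond.symm)
  constructor
  · rintro ⟨hinj, hC⟩ m hm
    exact Groth.Agent.FlatOpen.fibEq_of_injective_coker_flat Γ(Y, V) Γ(X, U) _ Q hC hinj _ m hm
  · intro h
    exact (Groth.Agent.FlatOpen.injective_coker_flat_of_fibEq Γ(Y, V) Γ(X, U) _ Q hflat' h).symm

end Groth.Agent.S4850
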