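import Groth.Statements.S4851
import Groth.Agent.FlatOpen.SchemeMap

set_option autoImplicit false
universe u
open EGA43

namespace Groth.Agent.S4851

open AlgebraicGeometry CategoryTheory Limits in
/-- Let f : X ⟶ Y be locally of finite presentation, F and F' quasi-coherent O_X-modules of finite
presentation and u : F' ⟶ F a homomorphism. Then the set of points x of X at which the stalk map u_x
is injective and Coker u is f-flat at x is open in X. (No flatness hypothesis on F is made; the form
of this openness statement in which F is moreover assumed f-flat is a special case.) -/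
theorem result {X Y : Scheme.{u}} (f : X ⟶ Y)
    [LocallyOfFinitePresentation f] (F F' : X.Modules) [Coh.IsQCoh F] [Coh.IsQCoh F']
    (hF : CohB1.IsFP F) (hF' : CohB1.IsFP F') (u : F' ⟶ F) :
    IsOpen {x : X | Function.Injective ((TopCat.Presheaf.stalkFunctor Ab x).map (Scheme.Modules.Hom.mapPresheaf u)) ∧
      FlatMod.IsFlatOverAt f (cokernel u) x} := by
  refine Groth.Agent.FlatOpen.Scheme.isOpen_of_charts f _ fun V hV U hU e => ?_
  letI := (f.appLE V U e).hom.toAlgebra
  letI : Module Γ(Y, V) Γ(F, U) := Module.compHom _ (f.appLE V U e).hom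
  haveI : IsScalarTower Γ(Y, V) Γ(X, U) Γ(F, U) := IsScalarTower.of_algebraMap_smul fun _ _ => rfl
  letI : Module Γ(Y, V) Γ(F', U) := Module.compHom _ (f.appLE V U e).hom
  haveI : IsScalarTower Γ(Y, V) Γ(X, U) Γ(F', U) := IsScalarTower.of_algebraMap_smul fun _ _ => rfl
  haveI : Algebra.FinitePresentation Γ(Y, V) Γ(X, U) := f.finitePresentation_appLE hV hU e
  haveI : Module.FinitePresentation Γ(X, U) Γ(F, U) :=
    (Groth.Agent.Props.QFP.isFP_iff F).1 hF U hU
  haveI : Module.FinitePresentation Γ(X, U) Γ(F', U) :=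
    (Groth.Agent.Props.QFP.isFP_iff F').1 hF' U hU
  refine ⟨_, Groth.Agent.FlatOpen.isOpen_injective_coker_flat Γ(Y, V) Γ(X, U)
    (Groth.Agent.FlatOpen.Scheme.appLin u U), fun x hx => ?_⟩
  rw [Set.mem_ofPred_eq, and_comm]
  exact and_congr (Groth.Agent.FlatOpen.Scheme.isFlatOverAt_cokernel_iff f u hV hU e x hx)
    (Groth.Agent.FlatOpen.Scheme.stalk_injective_iff u hU x hx)

end Groth.Agent.S4851
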