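import Groth.Statements.S4852
import Groth.Agent.NilFree.Basic
import Mathlib.RingTheory.Flat.Localization
import Mathlib.LinearAlgebra.Basis.VectorSpace
import Mathlib.RingTheory.TensorProduct.Maps
import Mathlib.LinearAlgebra.DirectSum.Finsupp

set_option autoImplicit false
universe u
open TensorProduct
open EGA43

namespace Groth.Agent.S4852

/-- Let A be a semi-local ring (finitely many maximal ideals) whose Jacobson radical is nilpotent, for
instance an Artinian ring, and let (u_i : A → B_i) be a family of ring homomorphisms whose kernels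
have zero intersection. Then an A-module M is flat if and only if, for every i, the B_i-module B_i
⊗_A M is flat. -/
theorem result {A : Type u} [CommRing A]
    [Finite (MaximalSpectrum A)] (hnil : IsNilpotent (Ring.jacobson A))
    {ι : Type u} (B : ι → Type u) [∀ i, CommRing (B i)] [∀ i, Algebra A (B i)]
    (hB : ∀ a : A, (∀ i, algebraMap A (B i) a = 0) → a = 0)
    (M : Type u) [AddCommGroup M] [Module A M] :
    Module.Flat A M ↔ ∀ i, Module.Flat (B i) (B i ⊗[A] M) := by
  refine ⟨fun h i => inferInstance, fun h => ?_⟩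
  obtain ⟨N, hN⟩ := hnil
  refine Module.flat_of_isLocalized_maximal A M (fun (P : Ideal A) _ => Localization.AtPrime P ⊗[A] M)
    (fun P _ => TensorProduct.mk A (Localization.AtPrime P) M 1) fun m hm => ?_
  set Am := Localization.AtPrime m
  -- an element vanishing at the other maximal ideals
  classical
  have := Fintype.ofFinite (MaximalSpectrum A)
  let s : Finset (MaximalSpectrum A) := Finset.univ.filter fun n => n.asIdeal ≠ m
  have hf : ∃ f : A, f ∉ m ∧ ∀ n : MaximalSpectrum A, n.asIdeal ≠ m → f ∈ n.asIdeal := by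
    have : ¬ (s.inf fun n => n.asIdeal) ≤ m := by
      intro hle
      obtain ⟨n, hn, hnm⟩ := (hm.isPrime.inf_le').mp hle
      simp only [s, Finset.mem_filter, Finset.mem_univ, true_and] at hn
      exact hn (n.isMaximal.eq_of_le hm.ne_top hnm)
    obtain ⟨f, hf, hfm⟩ := SetLike.not_le_iff_exists.mp this
    refine ⟨f, hfm, fun n hn => ?_⟩
    exact Finset.inf_le (f := fun n : MaximalSpectrum A => n.asIdeal) (b := n) (by simp [s, hn]) hf
  obtain ⟨f, hfm, hfo⟩ := hf
  have hfJ : ∀ b ∈ m, f * b ∈ Ring.jacobson A := by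
    intro b hb
    rw [Ring.jacobson_eq_sInf_isMaximal, Submodule.mem_sInf]
    intro n hn
    by_cases hnm : n = m
    · subst hnm; exact Ideal.mul_mem_left _ _ hb
    · exact Ideal.mul_mem_right _ _ (hfo ⟨n, hn⟩ hnm)
  have hem : f ^ N ∉ m := fun h => hfm (hm.isPrime.mem_of_pow_mem N h)
  have he : ∀ t ∉ m, ∃ c, f ^ N = c * t := by
    intro t ht
    obtain ⟨c, b, hb, hcb⟩ := hm.exists_inv ht
    have h1 : f - f * c * t = f * b := by
      calc f - f * c * t = f * (c * t + b) - f * c * t := by rw [hcb, mul_one]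
        _ = f * b := by ring
    have h2 : (f * b) ^ N = 0 := by
      have := Ideal.pow_mem_pow (hfJ b hb) N
      rwa [hN] at this
    obtain ⟨d, hd⟩ := sub_dvd_pow_sub_pow f (f * b) N
    have h3 : f - f * b = f * c * t := by rw [← h1]; ring
    rw [h2, sub_zero, h3] at hd
    exact ⟨f * c * d, by rw [hd]; ring⟩
  have hzero : ∀ a : A, f ^ N * a = 0 → algebraMap A Am a = 0 := fun a ha =>
    (IsLocalization.map_eq_zero_iff m.primeCompl Am a).mpr ⟨⟨f ^ N, hem⟩, ha⟩
  have hnilm : IsNilpotent (IsLocalRing.maximalIdeal Am) := by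
    refine ⟨N, ?_⟩
    rw [← Localization.AtPrime.map_eq_maximalIdeal, ← Ideal.map_pow, Ideal.zero_eq_bot,
      Ideal.map_eq_bot_iff_le_ker]
    intro x hx
    refine hzero x ?_
    have hle : Ideal.span {f} * m ≤ Ring.jacobson A := Ideal.mul_le.mpr fun r hr b hb => by
      obtain ⟨q, rfl⟩ := Ideal.mem_span_singleton'.mp hr
      rw [mul_assoc]
      exact Ideal.mul_mem_left _ q (hfJ b hb)
    have := Ideal.pow_right_mono hle N
    rw [hN, mul_pow, Ideal.span_singleton_pow] at this
    exact this (Ideal.mul_mem_mul (Ideal.mem_span_singleton_self _) hx)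
  let Mm := Am ⊗[A] M
  have hfree : Module.Free (Am ⧸ IsLocalRing.maximalIdeal Am)
      ((Am ⧸ IsLocalRing.maximalIdeal Am) ⊗[Am] Mm) := by
    letI := Ideal.Quotient.field (IsLocalRing.maximalIdeal Am)
    exact @Module.Free.of_divisionRing (Am ⧸ IsLocalRing.maximalIdeal Am) _ (Ideal.Quotient.field _).toDivisionRing _ _
  obtain ⟨κ, φ, hs, hk⟩ := Groth.Agent.NilFree.exists_presentation _ hnilm hfree
  have hi : Function.Injective φ := by
    rw [← LinearMap.ker_eq_bot, eq_bot_iff]
    intro x hx
    rw [Submodule.mem_bot]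
    ext j
    obtain ⟨⟨a, t⟩, hat⟩ := IsLocalization.surj m.primeCompl (x j)
    suffices algebraMap A Am a = 0 by
      have hu := IsLocalization.map_units Am t
      simp only at hat
      rw [this] at hat
      exact hu.mul_left_eq_zero.mp hat
    refine hzero a (hB _ fun i => ?_)
    letI : Algebra (B i) (Am ⊗[A] B i) := Algebra.TensorProduct.rightAlgebra
    haveI := h i
    have hflat : Module.Flat (Am ⊗[A] B i) ((Am ⊗[A] B i) ⊗[Am] Mm) := by
      refine Module.Flat.of_linearEquiv
        ((AlgebraTensorModule.cancelBaseChange A Am (Am ⊗[A] B i) (Am ⊗[A] B i) M) ≪≫ₗ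
        (AlgebraTensorModule.cancelBaseChange A (B i) (Am ⊗[A] B i) (Am ⊗[A] B i) M).symm)
    have hz : (1 : Am ⊗[A] B i) ⊗ₜ[Am] x = 0 :=
      Groth.Agent.NilFree.baseChange_injective φ hs hnilm hk (Am ⊗[A] B i) hflat (by
        rw [LinearMap.baseChange_tmul, LinearMap.mem_ker.mp hx, tmul_zero, map_zero])
    have h0 := DFunLike.congr_fun (congrArg (finsuppScalarRight Am Am (Am ⊗[A] B i) κ) hz) j
    rw [finsuppScalarRight_apply_tmul_apply, map_zero, Finsupp.zero_apply] at h0
    replace h0 : algebraMap Am (Am ⊗[A] B i) (x j) = 0 :=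
      (Algebra.algebraMap_eq_smul_one (x j)).trans h0
    have h1 : algebraMap Am (Am ⊗[A] B i) (algebraMap A Am a) = 0 := by
      simp only at hat
      rw [← hat, map_mul, h0, zero_mul]
    have h2 : (1 : Am) ⊗ₜ[A] algebraMap A (B i) a = 0 := by
      rw [Algebra.algebraMap_eq_smul_one a, TensorProduct.tmul_smul]
      rwa [Algebra.TensorProduct.algebraMap_apply, Algebra.algebraMap_self_apply,
        Algebra.algebraMap_eq_smul_one a, ← TensorProduct.smul_tmul'] at h1
    obtain ⟨⟨t', ht'⟩, hc⟩ := (IsLocalizedModule.eq_zero_iff m.primeCompl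
      (TensorProduct.mk A Am (B i) 1)).mp h2
    obtain ⟨c, hct⟩ := he t' ht'
    rw [map_mul, hct, map_mul, mul_assoc]
    have hc' : algebraMap A (B i) t' * algebraMap A (B i) a = 0 := by
      rw [← Algebra.smul_def]; exact hc
    rw [hc', mul_zero]
  have : Module.Flat Am Mm := Module.Flat.of_linearEquiv (LinearEquiv.ofBijective φ ⟨hi, hs⟩).symm
  exact Module.Flat.trans A Am Mm

end Groth.Agent.S4852
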