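import Groth.Statements.S4853
import Groth.Agent.NilFree.Basic
import Mathlib.RingTheory.Flat.Localization
import Mathlib.LinearAlgebra.DirectSum.Finsupp

set_option autoImplicit false
universe u
open TensorProduct
open EGA43

namespace Groth.Agent.S4853

/-- Let A be a commutative ring and M an A-module such that (A/J) ⊗_A M is free over A/J for some
nilpotent ideal J of A. Then among the ideals R of A such that (A/R) ⊗_A M is free over A/R there is
a least one, R₀, which is also the least ideal R such that (A/R) ⊗_A M is flat over A/R; and for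
every commutative A-algebra A', the module A' ⊗_A M is free over A' if and only if it is flat over
A', if and only if R₀ generates the zero ideal of A'. -/
theorem result {A : Type u} [CommRing A]
    (M : Type u) [AddCommGroup M] [Module A M]
    (J : Ideal A) (hJ : IsNilpotent J) (hfree : Module.Free (A ⧸ J) ((A ⧸ J) ⊗[A] M)) :
    ∃ R₀ : Ideal A,
      IsLeast {R : Ideal A | Module.Free (A ⧸ R) ((A ⧸ R) ⊗[A] M)} R₀ ∧
      IsLeast {R : Ideal A | Module.Flat (A ⧸ R) ((A ⧸ R) ⊗[A] M)} R₀ ∧
      ∀ (A' : Type u) [CommRing A'] [Algebra A A'],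
        (Module.Free A' (A' ⊗[A] M) ↔ Ideal.map (algebraMap A A') R₀ = ⊥) ∧
        (Module.Flat A' (A' ⊗[A] M) ↔ Ideal.map (algebraMap A A') R₀ = ⊥) := by
  classical
  obtain ⟨κ, φ, hs, hk⟩ := Groth.Agent.NilFree.exists_presentation J hJ hfree
  let R₀ : Ideal A := Ideal.span {a | ∃ x ∈ LinearMap.ker φ, ∃ j, x j = a}
  have key : ∀ (A' : Type u) [CommRing A'] [Algebra A A'],
      (Module.Free A' (A' ⊗[A] M) ↔ Ideal.map (algebraMap A A') R₀ = ⊥) ∧
      (Module.Flat A' (A' ⊗[A] M) ↔ Ideal.map (algebraMap A A') R₀ = ⊥) := by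
    intro A' _ _
    have h1 : Module.Flat A' (A' ⊗[A] M) → Ideal.map (algebraMap A A') R₀ = ⊥ := by
      intro h
      rw [Ideal.map_span, Ideal.span_eq_bot]
      rintro _ ⟨_, ⟨x, hx, j, rfl⟩, rfl⟩
      have hz : (1 : A') ⊗ₜ[A] x = 0 :=
        Groth.Agent.NilFree.baseChange_injective φ hs hJ hk A' h (by
          rw [LinearMap.baseChange_tmul, LinearMap.mem_ker.mp hx, tmul_zero, map_zero])
      have := DFunLike.congr_fun (congrArg (finsuppScalarRight A A A' κ) hz) j
      rw [finsuppScalarRight_apply_tmul_apply, map_zero, Finsupp.zero_apply,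
        Algebra.smul_def, mul_one] at this
      exact this
    have h2 : Ideal.map (algebraMap A A') R₀ = ⊥ → Module.Free A' (A' ⊗[A] M) := by
      intro h
      have hi : Function.Injective (φ.baseChange A') := by
        refine Groth.Agent.NilFree.baseChange_injective_of_forall φ hs A' fun k hk => ?_
        apply (finsuppScalarRight A A A' κ).injective
        ext j
        rw [finsuppScalarRight_apply_tmul_apply, map_zero, Finsupp.zero_apply, Algebra.smul_def]
        have hmem : algebraMap A A' (k j) ∈ Ideal.map (algebraMap A A') R₀ :=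
          Ideal.mem_map_of_mem _ (Ideal.subset_span ⟨k, hk, j, rfl⟩)
        rw [h, Submodule.mem_bot] at hmem
        rw [hmem, zero_mul]
      exact Module.Free.of_equiv (LinearEquiv.ofBijective (φ.baseChange A')
        ⟨hi, LinearMap.lTensor_surjective A' hs⟩)
    exact ⟨⟨fun h => h1 (haveI := h; inferInstance), h2⟩, ⟨h1, fun h => haveI := h2 h; inferInstance⟩⟩
  have hle : ∀ R : Ideal A, Ideal.map (algebraMap A (A ⧸ R)) R₀ = ⊥ ↔ R₀ ≤ R := by
    intro R
    rw [Ideal.map_eq_bot_iff_le_ker, Ideal.Quotient.algebraMap_eq, Ideal.mk_ker]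
  refine ⟨R₀, ⟨?_, ?_⟩, ⟨?_, ?_⟩, key⟩
  · exact (key (A ⧸ R₀)).1.mpr ((hle R₀).mpr le_rfl)
  · exact fun R hR => (hle R).mp ((key (A ⧸ R)).1.mp hR)
  · exact (key (A ⧸ R₀)).2.mpr ((hle R₀).mpr le_rfl)
  · exact fun R hR => (hle R).mp ((key (A ⧸ R)).2.mp hR)

end Groth.Agent.S4853
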