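import Groth.Statements.S4855
import Groth.Agent.Fibres16.ProperFlat.Apply
import Groth.Agent.AbSch51.ConstFun

set_option autoImplicit false
universe u
open CategoryTheory AlgebraicGeometry
open EGA43

namespace Groth.Agent.S4855

open CategoryTheory.Limits in
/-- Let f : X ⟶ Y be a proper morphism of finite presentation such that the map O_Y → f_* O_X is
injective (on sections over every open subset of Y). Then f is flat if and only if the first
projection X ×_Y X ⟶ X is flat. -/
theorem result {X Y : Scheme.{u}} (f : X ⟶ Y)
    [IsProper f] [LocallyOfFinitePresentation f] (hinj : ∀ V : Y.Opens, Function.Injective (f.app V)) :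
    Flat f ↔ Flat (pullback.fst f f) := by
  refine ⟨fun h => MorphismProperty.pullback_fst f f h, fun h => ?_⟩
  haveI : Flat (pullback.snd f f) := by
    rw [← pullbackSymmetry_hom_comp_fst f f]; infer_instance
  haveI : (Coh.structureModule X).IsQuasicoherent := ProjTwist.isQuasicoherent_structureModule X
  refine Flat.of_stalkMap _ fun x => AbSch51.ConstFun.flat_stalkMap f x ?_
  refine Fibres16.ProperFlat.isFlatOverAt_of_proper f (Coh.structureModule X) (IntProd70.isFP_unit X) x f
    (Fibres16.ProperFlat.germInj_of_sections f (f x) fun V s hy hs => ⟨V, hy, le_rfl, ?_⟩) fun x' _ => ?_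
  · rw [hinj V (hs.trans (map_zero _).symm), map_zero]
  · exact Fibres16.LimCrit.isFlatOverAt_of_iso _ (QCoh.pullbackUnitIso (pullback.fst f f)).symm x'
      (IntProd70.isFlatOver_unit (pullback.snd f f) x')

end Groth.Agent.S4855
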