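import Groth.Statements.S4856
import Groth.Agent.Fibres16.FlatFamily.Local
import Groth.Agent.Fibres16.FlatFamily.Closed

set_option autoImplicit false
universe u
open CategoryTheory AlgebraicGeometry
open EGA43 TensorProduct Groth.Agent Groth.Agent.Fibres16.FlatFamily

namespace Groth.Agent.S4856

attribute [local instance] Algebra.TensorProduct.rightAlgebra

open CategoryTheory.Limits in
/-- Let A be an Artinian local ring, f : X ⟶ Spec A locally of finite type, F a coherent O_X-module and
x a point of X. Let (u_i : A → A_i) be a family of ring homomorphisms into local rings such that an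
element of A killed by every u_i is zero. If, for every i, the pullback of F to X_i = X ×_{Spec A}
Spec A_i is flat over Spec A_i at every point of X_i whose images are x in X and the closed point in
Spec A_i, then F is f-flat at x. -/
theorem result {A : Type u} [CommRing A]
    [IsArtinianRing A] [IsLocalRing A] {X : Scheme.{u}} (f : X ⟶ Spec (CommRingCat.of A))
    [LocallyOfFiniteType f] (F : X.Modules) (hF : Coh.IsCoh F) (x : X)
    {ι : Type u} (A' : ι → Type u) [∀ i, CommRing (A' i)] [∀ i, IsLocalRing (A' i)] (u : ∀ i, A →+* A' i)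
    (hu : ∀ a : A, (∀ i, u i a = 0) → a = 0)
    (hflat : ∀ (i : ι) (x' : ↥(pullback f (Spec.map (CommRingCat.ofHom (u i))))),
      pullback.fst f (Spec.map (CommRingCat.ofHom (u i))) x' = x →
      pullback.snd f (Spec.map (CommRingCat.ofHom (u i))) x' = IsLocalRing.closedPoint (A' i) →
      FlatMod.IsFlatOverAt (pullback.snd f (Spec.map (CommRingCat.ofHom (u i))))
        ((Scheme.Modules.pullback (pullback.fst f (Spec.map (CommRingCat.ofHom (u i))))).obj F) x') :
    FlatMod.IsFlatOverAt f F x := by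
  letI : TopologicalSpace.NoetherianSpace (Spec (CommRingCat.of A)) := inferInstance
  haveI : IsLocallyNoetherian X := LocallyOfFiniteType.isLocallyNoetherian f
  haveI : F.IsQuasicoherent := hF.1
  haveI : SheafOfModules.IsFiniteType.{u} F := hF.2
  let A₀ := Γ(Spec (CommRingCat.of A), ⊤)
  let εA := (Scheme.ΓSpecIso (CommRingCat.of A)).commRingCatIsoToRingEquiv
  haveI : IsArtinianRing A₀ := Function.Surjective.isArtinianRing (f := εA.symm.toRingHom) εA.symm.surjective
  haveI : Nontrivial A₀ := εA.toEquiv.nontrivial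
  haveI : IsLocalRing A₀ := IsLocalRing.of_surjective' εA.symm.toRingHom εA.symm.surjective
  obtain ⟨U, hU, hxU, eU⟩ := exists_isAffineOpen_mem_and_subset (U := f ⁻¹ᵁ ⊤) (x := x) trivial
  let hT := isAffineOpen_top (Spec (CommRingCat.of A))
  letI := (f.appLE ⊤ U eU).hom.toAlgebra
  letI : Module A₀ Γ(F, U) := Module.compHom _ (f.appLE ⊤ U eU).hom
  haveI : IsScalarTower A₀ Γ(X, U) Γ(F, U) := IsScalarTower.of_algebraMap_smul fun _ _ => rfl
  haveI : IsNoetherianRing Γ(X, U) := IsLocallyNoetherian.component_noetherian ⟨U, hU⟩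
  haveI : Module.Finite Γ(X, U) Γ(F, U) := Groth.Agent.QCoh.finite_sections_of_isFiniteType F hU
  refine (FlatOpen.Scheme.isFlatOverAt_iff f hT hU eU x hxU F).2 ?_
  let q := AssSch.Stalk.primeOf hU x hxU
  rw [← flat_localization_iff]
  haveI : IsNoetherianRing (Localization.AtPrime q) :=
    IsLocalization.isNoetherianRing q.primeCompl (Localization.AtPrime q) inferInstance
  refine flat_of_forall_local (B := Localization.AtPrime q) _ fun a ha => ?_
  obtain ⟨i, hi⟩ : ∃ i, (Spec.map (CommRingCat.ofHom (u i))).appTop a ≠ 0 := by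
    by_contra! h
    refine ha (εA.injective ((hu (εA a) fun i => ?_).trans (map_zero εA).symm))
    have h2 := congrArg (fun φ => φ.hom a) (Scheme.ΓSpecIso_naturality (CommRingCat.ofHom (u i)))
    exact h2.symm.trans ((congrArg (fun z => (Scheme.ΓSpecIso (CommRingCat.of (A' i))).hom.hom z) (h i)).trans
      (map_zero (Scheme.ΓSpecIso (CommRingCat.of (A' i))).hom.hom))
  let g := Spec.map (CommRingCat.ofHom (u i))
  let hW' := isAffineOpen_top (Spec (CommRingCat.of (A' i)))
  let eW' : (⊤ : (Spec (CommRingCat.of (A' i))).Opens) ≤ g ⁻¹ᵁ ⊤ := le_top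
  letI := (g.appLE ⊤ ⊤ eW').hom.toAlgebra
  let εi := (Scheme.ΓSpecIso (CommRingCat.of (A' i))).commRingCatIsoToRingEquiv
  haveI : Nontrivial Γ(Spec (CommRingCat.of (A' i)), ⊤) := εi.toEquiv.nontrivial
  haveI : IsLocalRing Γ(Spec (CommRingCat.of (A' i)), ⊤) :=
    IsLocalRing.of_surjective' εi.symm.toRingHom εi.symm.surjective
  refine ⟨Γ(Spec (CommRingCat.of (A' i)), ⊤), inferInstance, inferInstance, inferInstance, fun h => hi ?_,
    fun Q _ hQB hQA => ?_⟩
  · rw [← h]
    simp [RingHom.algebraMap_toAlgebra, g, Scheme.Hom.appLE]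
  obtain ⟨φ, hφB, hφA, hφ, -⟩ :=
    localizeAt (A := A₀) (A' := Γ(Spec (CommRingCat.of (A' i)), ⊤)) q (Localization.AtPrime q) Γ(F, U)
  obtain ⟨x', hx, hy, hB, hA, hflat'⟩ := (exists_piece f F g hT hU hW' eU eW').1 (Q.comap φ)
  rw [Ideal.comap_comap, hφB, ← Ideal.comap_comap, hQB] at hB
  rw [Ideal.comap_comap, hφA, hQA] at hA
  replace hB := (IsLocalization.AtPrime.under_maximalIdeal (Localization.AtPrime q) q).symm.trans hB
  refine hφ Q (hflat' (hflat i x' ?_ ?_))
  · have := congrArg hU.fromSpec (PrimeSpectrum.ext (x := hU.primeIdealOf ⟨x, hxU⟩) (y := hU.primeIdealOf ⟨_, hx⟩) hB)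
    rw [hU.fromSpec_primeIdealOf, hU.fromSpec_primeIdealOf] at this
    exact this.symm
  · exact eq_closedPoint_of_primeOf (A' i) _ hA.symm

end Groth.Agent.S4856
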