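import Groth.Statements.S4857
import Groth.Agent.Fibres16.FlatFamily.Local
import Groth.Agent.Fibres16.FlatFamily.Closed
import Groth.Agent.Fibres16.FlatFamily.Stalk

set_option autoImplicit false
universe u
open CategoryTheory AlgebraicGeometry
open EGA43 TensorProduct Groth.Agent Groth.Agent.Fibres16.FlatFamily

namespace Groth.Agent.S4857

attribute [local instance] Algebra.TensorProduct.rightAlgebra

open CategoryTheory.Limits in
/-- Let Y be a locally Noetherian scheme, f : X ⟶ Y locally of finite type, F a coherent O_X-module and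
x a point of X with y = f x. Let (φ_i : O_{Y,y} → A_i) be a family of local homomorphisms into local
rings such that, for every N, some finite intersection of the ideals φ_i⁻¹(m_{A_i}^n) is contained
in m_y^N. Let Y_i = Spec A_i ⟶ Y be the induced Y-schemes and X_i = X ×_Y Y_i. If for every i the
pullback of F to X_i is flat over Y_i at every point of X_i lying over x and over the closed point
of Y_i, then F is f-flat at x. -/
theorem result {X Y : Scheme.{u}} [IsLocallyNoetherian Y]
    (f : X ⟶ Y) [LocallyOfFiniteType f] (F : X.Modules) (hF : Coh.IsCoh F) (x : X)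
    {ι : Type u} (A : ι → Type u) [∀ i, CommRing (A i)] [∀ i, IsLocalRing (A i)]
    (φ : ∀ i, (Y.presheaf.stalk (f x) : Type u) →+* A i) [∀ i, IsLocalHom (φ i)]
    (htop : ∀ N : ℕ, ∃ s : Finset (ι × ℕ),
      ⨅ p ∈ s, Ideal.comap (φ p.1) (IsLocalRing.maximalIdeal (A p.1) ^ p.2) ≤
        IsLocalRing.maximalIdeal ↑(Y.presheaf.stalk (f x)) ^ N) :
    letI g : ∀ i, Spec (CommRingCat.of (A i)) ⟶ Y :=
      fun i => Spec.map (CommRingCat.ofHom (φ i)) ≫ Y.fromSpecStalk (f x)
    (∀ (i : ι) (x' : ↥(pullback f (g i))), pullback.fst f (g i) x' = x →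
      pullback.snd f (g i) x' = IsLocalRing.closedPoint (A i) →
      FlatMod.IsFlatOverAt (pullback.snd f (g i)) ((Scheme.Modules.pullback (pullback.fst f (g i))).obj F) x') →
    FlatMod.IsFlatOverAt f F x := by
  intro hflat
  let g : ∀ i, Spec (CommRingCat.of (A i)) ⟶ Y :=
    fun i => Spec.map (CommRingCat.ofHom (φ i)) ≫ Y.fromSpecStalk (f x)
  haveI : IsLocallyNoetherian X := LocallyOfFiniteType.isLocallyNoetherian f
  haveI : F.IsQuasicoherent := hF.1
  haveI : SheafOfModules.IsFiniteType.{u} F := hF.2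
  obtain ⟨US, hS, hyUS, -⟩ := exists_isAffineOpen_mem_and_subset (U := (⊤ : Y.Opens)) (x := f x) trivial
  obtain ⟨U, hU, hxU, eU⟩ := exists_isAffineOpen_mem_and_subset (U := f ⁻¹ᵁ US) (x := x) hyUS
  let A₀ := Γ(Y, US)
  let O := Y.presheaf.stalk (f x)
  let L := X.presheaf.stalk x
  letI := (f.appLE US U eU).hom.toAlgebra
  letI : Module A₀ Γ(F, U) := Module.compHom _ (f.appLE US U eU).hom
  haveI : IsScalarTower A₀ Γ(X, U) Γ(F, U) := IsScalarTower.of_algebraMap_smul fun _ _ => rfl
  haveI : IsNoetherianRing Γ(X, U) := IsLocallyNoetherian.component_noetherian ⟨U, hU⟩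
  haveI : IsNoetherianRing A₀ := IsLocallyNoetherian.component_noetherian ⟨US, hS⟩
  haveI : Module.Finite Γ(X, U) Γ(F, U) := Groth.Agent.QCoh.finite_sections_of_isFiniteType F hU
  letI : Algebra A₀ O := (Y.presheaf.germ US (f x) (eU hxU)).hom.toAlgebra
  haveI : IsLocalization.AtPrime O (AssSch.Stalk.primeOf hS (f x) (eU hxU)) := hS.isLocalization_stalk ⟨f x, eU hxU⟩
  letI : Algebra Γ(X, U) L := (X.presheaf.germ U x hxU).hom.toAlgebra
  let q := AssSch.Stalk.primeOf hU x hxU
  haveI : IsLocalization.AtPrime L q := hU.isLocalization_stalk ⟨x, hxU⟩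
  letI : Algebra O L := (f.stalkMap x).hom.toAlgebra
  letI : Algebra A₀ L := ((algebraMap Γ(X, U) L).comp (algebraMap A₀ Γ(X, U))).toAlgebra
  haveI : IsScalarTower A₀ Γ(X, U) L := IsScalarTower.of_algebraMap_eq fun _ => rfl
  haveI : IsScalarTower A₀ O L := IsScalarTower.of_algebraMap_eq fun a =>
    (FlatOpen.Scheme.stalkMap_germ f eU x hxU a).symm
  haveI : IsNoetherianRing O :=
    IsLocalization.isNoetherianRing (AssSch.Stalk.primeOf hS (f x) (eU hxU)).primeCompl O inferInstance
  haveI : IsNoetherianRing L := IsLocalization.isNoetherianRing q.primeCompl L inferInstance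
  haveI : IsLocalHom (algebraMap O L) := inferInstanceAs (IsLocalHom (f.stalkMap x).hom)
  haveI : Module.Flat O (L ⊗[Γ(X, U)] Γ(F, U)) := by
    refine flat_of_quotients (S := L) _ fun N => ?_
    obtain ⟨s, hs⟩ := htop (N + 1)
    refine ⟨⨅ p ∈ s, Ideal.comap (φ p.1) (IsLocalRing.maximalIdeal (A p.1) ^ p.2),
      hs.trans (Ideal.pow_le_pow_right (Nat.le_succ N)), ?_⟩
    refine flat_quot_forall_local (A := A₀) (B := L) (AssSch.Stalk.primeOf hS (f x) (eU hxU)).primeCompl _ _
      (n := s.sup Prod.snd) ?_ (hs.trans (Ideal.pow_le_self (Nat.succ_ne_zero N)))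
      fun a ha => ?_
    · refine le_iInf₂ fun p hp a ha => ?_
      have h1 : φ p.1 a ∈ (IsLocalRing.maximalIdeal (Y.presheaf.stalk (f x)) ^ s.sup Prod.snd).map (φ p.1) :=
        Ideal.mem_map_of_mem _ ha
      rw [Ideal.map_pow] at h1
      have hloc : (IsLocalRing.maximalIdeal (Y.presheaf.stalk (f x))).map (φ p.1) ≤
          IsLocalRing.maximalIdeal (A p.1) :=
        Ideal.map_le_iff_le_comap.2 fun z hz => (IsLocalRing.mem_maximalIdeal _).2 fun hu =>
          (IsLocalRing.mem_maximalIdeal _).1 hz (isUnit_of_map_unit (φ p.1) z hu)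
      exact Ideal.pow_le_pow_right (Finset.le_sup (f := Prod.snd) hp) (Ideal.pow_right_mono hloc _ h1)
    obtain ⟨i, n, ha'⟩ : ∃ i n, ((i, n) ∈ s ∧ φ i a ∉ IsLocalRing.maximalIdeal (A i) ^ n) := by
      by_contra! h
      exact ha (Ideal.mem_iInf.2 fun p => Ideal.mem_iInf.2 fun hp => Ideal.mem_comap.2 (h p.1 p.2 hp))
    let hW' := isAffineOpen_top (Spec (CommRingCat.of (A i)))
    let eW' := top_le_preimage (f x) hyUS (CommRingCat.ofHom (φ i))
    letI := ((g i).appLE US ⊤ eW').hom.toAlgebra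
    let εi := (Scheme.ΓSpecIso (CommRingCat.of (A i))).commRingCatIsoToRingEquiv
    letI : Algebra O Γ(Spec (CommRingCat.of (A i)), ⊤) := (εi.symm.toRingHom.comp (φ i)).toAlgebra
    haveI : IsScalarTower A₀ O Γ(Spec (CommRingCat.of (A i)), ⊤) := IsScalarTower.of_algebraMap_eq fun a =>
      appLE_specMap_fromSpecStalk (f x) hyUS _ (CommRingCat.ofHom (φ i)) eW' a
    haveI : Nontrivial Γ(Spec (CommRingCat.of (A i)), ⊤) := εi.toEquiv.nontrivial
    haveI : IsLocalRing Γ(Spec (CommRingCat.of (A i)), ⊤) :=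
      IsLocalRing.of_surjective' εi.symm.toRingHom εi.symm.surjective
    refine ⟨Γ(Spec (CommRingCat.of (A i)), ⊤), inferInstance, inferInstance, inferInstance, inferInstance,
      inferInstance, (IsLocalRing.maximalIdeal (A i) ^ n).comap εi.toRingHom, ?_, ?_, fun Q _ hQB hQA => ?_⟩
    · intro b hb
      show εi (εi.symm (φ i b)) ∈ IsLocalRing.maximalIdeal (A i) ^ n
      rw [εi.apply_symm_apply]
      exact Ideal.mem_comap.1 (Ideal.mem_iInf.1 (Ideal.mem_iInf.1 hb (i, n)) ha'.1)
    · show ¬ εi (εi.symm (φ i a)) ∈ IsLocalRing.maximalIdeal (A i) ^ n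
      rw [εi.apply_symm_apply]
      exact ha'.2
    have H := localizeAt (A := A₀) (A' := Γ(Spec (CommRingCat.of (A i)), ⊤)) q L Γ(F, U)
    refine Exists.elim H fun ψ hψ => ?_
    obtain ⟨x', hx, hy, hB, hA, hflat'⟩ := (exists_piece f F (g i) hS hU hW' eU eW').1 (Q.comap ψ)
    rw [Ideal.comap_comap, hψ.1, ← Ideal.comap_comap, hQB] at hB
    rw [Ideal.comap_comap, hψ.2.1, hQA] at hA
    replace hB := (IsLocalization.AtPrime.under_maximalIdeal L q).symm.trans hB
    have hψ' := hψ.2.2.1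
    refine hψ' Q (hflat' (hflat i x' ?_ (eq_closedPoint_of_primeOf (A i) _ hA.symm)))
    have := congrArg hU.fromSpec (PrimeSpectrum.ext (x := hU.primeIdealOf ⟨x, hxU⟩) (y := hU.primeIdealOf ⟨_, hx⟩) hB)
    rw [hU.fromSpec_primeIdealOf, hU.fromSpec_primeIdealOf] at this
    exact this.symm
  haveI : Module.Flat A₀ O := IsLocalization.flat O (AssSch.Stalk.primeOf hS (f x) (eU hxU)).primeCompl
  haveI : Module.Flat A₀ (L ⊗[Γ(X, U)] Γ(F, U)) := Module.Flat.trans A₀ O _
  exact (FlatOpen.Scheme.isFlatOverAt_iff f hS hU eU x hxU F).2 (flatAt_of_flat_localization (L := L) q Γ(F, U))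

end Groth.Agent.S4857
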