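import Groth.Statements.S4858
-- import your own Groth.Agent.* helpers here

set_option autoImplicit false
universe u
open EGA43

namespace Groth.Agent.S4858

/-- Conditions a), a′), c), c′) (very dense subsets): for a subset X₀ of a topological space X the
following are equivalent: every nonempty locally closed subset of X meets X₀; every closed subset Z
of X equals the closure of Z ∩ X₀; the map U ↦ U ∩ X₀ is injective on open subsets of X; the map F ↦
F ∩ X₀ is injective on closed subsets of X. -/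
theorem result {X : Type u} [TopologicalSpace X] (X₀ : Set X) :
    [∀ Z : Set X, IsLocallyClosed Z → Z.Nonempty → (Z ∩ X₀).Nonempty,
      ∀ Z : Set X, IsClosed Z → closure (Z ∩ X₀) = Z,
      ∀ U V : Set X, IsOpen U → IsOpen V → U ∩ X₀ = V ∩ X₀ → U = V,
      ∀ F F' : Set X, IsClosed F → IsClosed F' → F ∩ X₀ = F' ∩ X₀ → F = F'].TFAE := by
  tfae_have 1 → 2 := by
    intro h Z hZ
    refine subset_antisymm (closure_minimal Set.inter_subset_left hZ) fun x hx => ?_
    by_contra hxc
    obtain ⟨y, ⟨hy1, hy2⟩, hy3⟩ := h (Z ∩ (closure (Z ∩ X₀))ᶜ)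
      (hZ.isLocallyClosed.inter isClosed_closure.isOpen_compl.isLocallyClosed) ⟨x, hx, hxc⟩
    exact hy2 (subset_closure ⟨hy1, hy3⟩)
  tfae_have 2 → 4 := by
    intro h F F' hF hF' e
    rw [← h F hF, e, h F' hF']
  tfae_have 4 → 3 := by
    intro h U V hU hV e
    have := h Uᶜ Vᶜ hU.isClosed_compl hV.isClosed_compl (by
      ext x
      have := Set.ext_iff.mp e x
      simp only [Set.mem_inter_iff, Set.mem_compl_iff] at this ⊢
      tauto)
    exact compl_injective this
  tfae_have 3 → 1 := by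
    rintro h Z ⟨U, F, hU, hF, rfl⟩ ⟨x, hxU, hxF⟩
    by_contra hne
    have := h (U ∩ Fᶜ) U (hU.inter hF.isOpen_compl) hU (by
      ext y
      refine ⟨fun hy => ⟨hy.1.1, hy.2⟩, fun hy => ⟨⟨hy.1, fun hyF => hne ?_⟩, hy.2⟩⟩
      exact ⟨y, ⟨hy.1, hyF⟩, hy.2⟩)
    rw [← this] at hxU
    exact hxU.2 hxF
  tfae_finish

end Groth.Agent.S4858
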