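import Groth.Statements.S4860
import Groth.Agent.Goldman.Basic

set_option autoImplicit false
universe u
open EGA43

namespace Groth.Agent.S4860

/-- For an integral domain B the following are equivalent: a) the localization B_f is a field for some
nonzero f; b) the fraction field of B is a finitely generated B-algebra; c) there is a field
containing B (an injective algebra map from B) which is a finitely generated B-algebra; d) the
generic point of Spec B is open. -/
theorem result (B : Type u) [CommRing B] [IsDomain B] :
    [∃ f : B, f ≠ 0 ∧ IsField (Localization.Away f),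
      Algebra.FiniteType B (FractionRing B),
      ∃ (K : Type u) (_ : Field K) (_ : Algebra B K), Function.Injective (algebraMap B K) ∧ Algebra.FiniteType B K,
      IsOpen ({⟨⊥, Ideal.bot_prime⟩} : Set (PrimeSpectrum B))].TFAE := by
  tfae_have 1 → 2 := by
    rintro ⟨f, hf, hfld⟩
    haveI : Algebra.FinitePresentation B (Localization.Away f) := IsLocalization.Away.finitePresentation f
    have hu : IsUnit (algebraMap B (FractionRing B) f) :=
      isUnit_iff_ne_zero.mpr fun h => hf ((IsFractionRing.injective B (FractionRing B)) (h.trans (map_zero _).symm))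
    let φ : Localization.Away f →ₐ[B] FractionRing B :=
      { IsLocalization.Away.lift f hu with
        commutes' := fun b => IsLocalization.Away.lift_eq f hu b }
    refine Algebra.FiniteType.of_surjective φ fun x => ?_
    obtain ⟨a, b, hb, rfl⟩ := IsFractionRing.div_surjective (A := B) x
    have hinj : Function.Injective (algebraMap B (Localization.Away f)) :=
      IsLocalization.injective _ (powers_le_nonZeroDivisors_of_noZeroDivisors hf)
    obtain ⟨c, hc⟩ := hfld.mul_inv_cancel (a := algebraMap B (Localization.Away f) b)
      fun h => nonZeroDivisors.ne_zero hb (hinj (h.trans (map_zero _).symm))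
    refine ⟨algebraMap B _ a * c, ?_⟩
    have hc' := congrArg φ hc
    rw [map_mul, map_one, φ.commutes] at hc'
    rw [map_mul, φ.commutes, div_eq_mul_inv, eq_inv_of_mul_eq_one_right hc']
  tfae_have 2 → 3 := fun h => ⟨FractionRing B, inferInstance, inferInstance, IsFractionRing.injective B _, h⟩
  tfae_have 3 → 1 := by
    rintro ⟨K, _, _, hinj, hft⟩
    obtain ⟨f, hf, h⟩ := Groth.Agent.Goldman.exists_forall_mem_of_finiteType_field K hinj hft
    exact ⟨f, hf, (Groth.Agent.Goldman.isField_away_iff hf).mpr h⟩
  tfae_have 1 → 4 := by
    rintro ⟨f, hf, h⟩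
    exact Groth.Agent.Goldman.isOpen_bot_iff.mpr ⟨f, hf, (Groth.Agent.Goldman.isField_away_iff hf).mp h⟩
  tfae_have 4 → 1 := by
    intro h
    obtain ⟨f, hf, h⟩ := Groth.Agent.Goldman.isOpen_bot_iff.mp h
    exact ⟨f, hf, (Groth.Agent.Goldman.isField_away_iff hf).mpr h⟩
  tfae_finish

end Groth.Agent.S4860
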