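import Groth.Statements.S4861
import Groth.Agent.Goldman.Basic

set_option autoImplicit false
universe u
open EGA43

namespace Groth.Agent.S4861

/-- For a Noetherian integral domain B the following are equivalent (and hence equivalent to: the
fraction field of B is a finitely generated B-algebra; the generic point of Spec B is open): a) the
localization B_f is a field for some nonzero f; e) Spec B is finite; f) B is semi-local (finitely
many maximal ideals) of Krull dimension at most 1. -/
theorem result (B : Type u) [CommRing B] [IsDomain B]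
    [IsNoetherianRing B] :
    [∃ f : B, f ≠ 0 ∧ IsField (Localization.Away f),
      Finite (PrimeSpectrum B),
      Finite (MaximalSpectrum B) ∧ ringKrullDim B ≤ 1].TFAE := by
  tfae_have 1 → 2 := by
    rintro ⟨f, hf, h⟩
    exact (Groth.Agent.Goldman.finite_and_dimLE_one_of_forall_mem hf ((Groth.Agent.Goldman.isField_away_iff hf).mp h)).1
  tfae_have 1 → 3 := by
    rintro ⟨f, hf, h⟩
    obtain ⟨h1, h2⟩ := Groth.Agent.Goldman.finite_and_dimLE_one_of_forall_mem hf ((Groth.Agent.Goldman.isField_away_iff hf).mp h)
    refine ⟨Finite.of_injective MaximalSpectrum.toPrimeSpectrum MaximalSpectrum.toPrimeSpectrum_injective, ?_⟩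
    exact_mod_cast Ring.krullDimLE_iff.mp h2
  tfae_have 2 → 1 := by
    intro h
    obtain ⟨f, hf, h⟩ := Groth.Agent.Goldman.exists_forall_mem_of_finite (B := B)
      ((Set.finite_range PrimeSpectrum.asIdeal).subset fun P hP => ⟨⟨P, hP.1⟩, rfl⟩)
    exact ⟨f, hf, (Groth.Agent.Goldman.isField_away_iff hf).mpr h⟩
  tfae_have 3 → 1 := by
    rintro ⟨h1, h2⟩
    haveI : Ring.KrullDimLE 1 B := Ring.krullDimLE_iff.mpr (by exact_mod_cast h2)
    obtain ⟨f, hf, h⟩ := Groth.Agent.Goldman.exists_forall_mem_of_finite_maximal h1
    exact ⟨f, hf, (Groth.Agent.Goldman.isField_away_iff hf).mpr h⟩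
  tfae_finish

end Groth.Agent.S4861
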