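import Groth.Statements.S4862
import Groth.Agent.Goldman.Basic

set_option autoImplicit false
universe u
open EGA43

namespace Groth.Agent.S4862

/-- For a commutative ring A the following are equivalent: a) A is a Jacobson ring; b) for every prime
ideal p of A which is not maximal and every nonzero f of B = A/p, the localization B_f is not a
field; b′) every finitely generated A-algebra which is a field is a finite A-module. -/
theorem result (A : Type u) [CommRing A] :
    [IsJacobsonRing A,
      ∀ (p : Ideal A) [p.IsPrime], ¬ p.IsMaximal → ∀ f : A ⧸ p, f ≠ 0 → ¬ IsField (Localization.Away f),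
      ∀ (K : Type u) [Field K] [Algebra A K], Algebra.FiniteType A K → Module.Finite A K].TFAE := by
  tfae_have 1 → 3 := fun h K _ _ hft => finite_of_finite_type_of_isJacobsonRing A K
  tfae_have 3 → 1 := fun h => Groth.Agent.Goldman.isJacobsonRing_of_forall_finite h
  tfae_have 1 → 2 := by
    intro h p _ hp f hf hfld
    apply hp
    letI := hfld.toField
    haveI : Algebra.FinitePresentation (A ⧸ p) (Localization.Away f) := IsLocalization.Away.finitePresentation f
    have : Module.Finite (A ⧸ p) (Localization.Away f) := finite_of_finite_type_of_isJacobsonRing _ _
    exact Ideal.Quotient.maximal_of_isField p (isField_of_isIntegral_of_isField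
      (IsLocalization.injective (Localization.Away f) (powers_le_nonZeroDivisors_of_noZeroDivisors hf)) hfld)
  tfae_have 2 → 3 := by
    intro h K _ _ hft
    let p := RingHom.ker (algebraMap A K)
    haveI : p.IsPrime := RingHom.ker_isPrime _
    letI : Algebra (A ⧸ p) K := (RingHom.kerLift (algebraMap A K)).toAlgebra
    haveI : IsScalarTower A (A ⧸ p) K := IsScalarTower.of_algebraMap_eq fun x => rfl
    have hft' : Algebra.FiniteType (A ⧸ p) K := Algebra.FiniteType.of_restrictScalars_finiteType A _ _
    obtain ⟨f, hf, hall⟩ := Groth.Agent.Goldman.exists_forall_mem_of_finiteType_field K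
      (RingHom.kerLift_injective (algebraMap A K)) hft'
    have hm : p.IsMaximal := by
      by_contra hp
      exact h p hp f hf ((Groth.Agent.Goldman.isField_away_iff hf).mpr hall)
    letI := Ideal.Quotient.field p
    haveI : Module.Finite (A ⧸ p) K := finite_of_finite_type_of_isJacobsonRing _ _
    exact Module.Finite.trans (A ⧸ p) K
  tfae_finish

end Groth.Agent.S4862
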