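import Groth.Statements.S4864
import Groth.Agent.FlatOpen.Scheme
import Groth.Agent.SchPoints.Basic
import Mathlib.AlgebraicGeometry.IdealSheaf.Functorial

set_option autoImplicit false
universe u
open EGA43

namespace Groth.Agent.S4864

open AlgebraicGeometry CategoryTheory Limits in
/-- Let f : X ⟶ Y and g : Y ⟶ Z be morphisms of finite presentation and F a quasi-coherent O_X-module of
finite presentation. Then the set U of points y of Y such that, for every generization y' of y, F is
(f ≫ g)-flat at every point of X above y', is open in Y. -/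
theorem result {X Y Z : Scheme.{u}} (f : X ⟶ Y) (g : Y ⟶ Z)
    [LocallyOfFinitePresentation f] [QuasiCompact f] [QuasiSeparated f]
    [LocallyOfFinitePresentation g] [QuasiCompact g] [QuasiSeparated g]
    (F : X.Modules) [Coh.IsQCoh F] (hF : CohB1.IsFP F) :
    IsOpen {y : Y | ∀ y' : Y, y' ⤳ y → ∀ x : X, f x = y' → FlatMod.IsFlatOverAt (f ≫ g) F x} := by
  have hC : IsClosed {x : X | FlatMod.IsFlatOverAt (f ≫ g) F x}ᶜ :=
    (Groth.Agent.FlatOpen.Scheme.isOpen_isFlatOverAt (f ≫ g) F hF).isClosed_compl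
  let i := (Scheme.IdealSheafData.vanishingIdeal (X := X) ⟨_, hC⟩).subschemeι
  have hr : Set.range i = {x : X | FlatMod.IsFlatOverAt (f ≫ g) F x}ᶜ := by
    simp [i, Scheme.IdealSheafData.range_subschemeι, Scheme.IdealSheafData.coe_support_vanishingIdeal,
      Set.compl_ofPred]
  have heq : {y : Y | ∀ y' : Y, y' ⤳ y → ∀ x : X, f x = y' → FlatMod.IsFlatOverAt (f ≫ g) F x} =
      (closure (Set.range (i ≫ f)))ᶜ := by
    ext y
    refine ⟨fun h hy => ?_, fun h y' hy' x hx => by_contra fun hn => h ?_⟩
    · obtain ⟨z, hz⟩ := Groth.Agent.SchPoints.exists_specializes_of_mem_closure_range (i ≫ f) hy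
      exact (hr.le ⟨z, rfl⟩) (h _ hz (i z) rfl)
    · obtain ⟨z, rfl⟩ := hr.ge hn
      exact closure_mono (Set.singleton_subset_iff.2 (show y' ∈ Set.range (i ≫ f) from ⟨z, by rw [Scheme.Hom.comp_apply]; exact hx⟩))
        (specializes_iff_mem_closure.1 hy')
  rw [heq]
  exact isClosed_closure.isOpen_compl

end Groth.Agent.S4864
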