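import Groth.Statements.S4867
import Groth.Agent.S4849
import Groth.Agent.S4788
import Groth.Agent.LimLib.FGSub

set_option autoImplicit false
universe u
open CategoryTheory AlgebraicGeometry
open EGA43

namespace Groth.Agent.S4867

open CategoryTheory Limits AlgebraicGeometry

/-- Flatness over the base is unchanged by an isomorphism of the base. -/
theorem comp_iso {X Y Y' : Scheme.{u}} (fi : X ⟶ Y) (gi : Y ⟶ Y') [IsIso gi] (M : X.Modules) (x : X)
    (h : FlatMod.IsFlatOverAt fi M x) : FlatMod.IsFlatOverAt (fi ≫ gi) M x := by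
  have sq : IsPullback (𝟙 X) (fi ≫ gi) fi (inv gi) := IsPullback.of_horiz_isIso ⟨by simp⟩
  exact Fibres16.LimCrit.isFlatOverAt_of_iso _ ((Scheme.Modules.pullbackId X).app M) x
    (FDesc.BaseChangeStalk.flatOverAt_baseChange sq x M h)

/-- The statement over an arbitrary limit of affine schemes. -/
theorem aux {I : Type u} [SmallCategory I] [IsCofiltered I] {D : I ⥤ Scheme.{u}} {c : Cone D} (hc : IsLimit c)
    [∀ (i j : I) (φ : i ⟶ j), IsAffineHom (D.map φ)] [∀ i, IsAffine (D.obj i)] [IsAffine c.pt]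
    {X : Scheme.{u}} (f : X ⟶ c.pt)
    [LocallyOfFinitePresentation f] [QuasiCompact f] [QuasiSeparated f]
    (F : X.Modules) [Coh.IsQCoh F] (hF : CohB1.IsFP F) (x : X) :
    (FlatMod.IsFlatOverAt f F x →
      ∃ (k : I) (X₀ : Scheme.{u}) (f₀ : X₀ ⟶ D.obj k)
        (_ : LocallyOfFiniteType f₀) (_ : QuasiCompact f₀) (F₀ : X₀.Modules) (_ : Coh.IsCoh F₀) (q : X ⟶ X₀)
        (_ : IsPullback q f f₀ (c.π.app k))
        (_ : (Scheme.Modules.pullback q).obj F₀ ≅ F),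
        FlatMod.IsFlatOverAt f₀ F₀ (q x)) ∧
    (FlatMod.IsFlatOver f F →
      ∃ (k : I) (X₀ : Scheme.{u}) (f₀ : X₀ ⟶ D.obj k)
        (_ : LocallyOfFiniteType f₀) (_ : QuasiCompact f₀) (F₀ : X₀.Modules) (_ : Coh.IsCoh F₀) (q : X ⟶ X₀)
        (_ : IsPullback q f f₀ (c.π.app k))
        (_ : (Scheme.Modules.pullback q).obj F₀ ≅ F),
        FlatMod.IsFlatOver f₀ F₀) := by
  haveI : CompactSpace X := QuasiCompact.compactSpace_of_compactSpace f
  haveI : QuasiSeparatedSpace X := quasiSeparatedSpace_of_quasiSeparated f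
  obtain ⟨i, X₀, f₀, g, h₁, h₂, h₃, hg⟩ :=
    @LimLib.hasModel _ _ _ _ _ hc _ _ _ X f ‹_› ‹_› ‹_›
  let D' : Over i ⥤ Scheme.{u} := LimTop.bcDiagram D i f₀
  let c' := LimTop.bcCone c i f₀
  let e : X ⟶ c'.pt := pullback.lift f g hg.w.symm
  haveI : IsIso e := by
    rw [show e = hg.flip.isoPullback.hom from pullback.hom_ext
      ((pullback.lift_fst _ _ _).trans hg.flip.isoPullback_hom_fst.symm)
      ((pullback.lift_snd _ _ _).trans hg.flip.isoPullback_hom_snd.symm)]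
    exact Iso.isIso_hom _
  haveI : QuasiCompact f₀ := quasiCompact_of_compactSpace f₀
  haveI : QuasiSeparated f₀ := QuasiSeparated.of_quasiSeparatedSpace f₀
  haveI : QuasiCompact (pullback.fst (D.map (𝟙 i)) f₀) :=
    MorphismProperty.of_isPullback (IsPullback.of_hasPullback (D.map (𝟙 i)) f₀).flip inferInstance
  haveI : QuasiSeparated (pullback.fst (D.map (𝟙 i)) f₀) :=
    MorphismProperty.of_isPullback (IsPullback.of_hasPullback (D.map (𝟙 i)) f₀).flip inferInstance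
  haveI : CompactSpace (D'.obj (Over.mk (𝟙 i))) := by
    have h : CompactSpace (pullback (D.map (𝟙 i)) f₀ : Scheme.{u}) :=
      QuasiCompact.compactSpace_of_compactSpace (pullback.fst (D.map (𝟙 i)) f₀)
    exact h
  haveI : QuasiSeparatedSpace (D'.obj (Over.mk (𝟙 i))) := by
    have h : QuasiSeparatedSpace (pullback (D.map (𝟙 i)) f₀ : Scheme.{u}) :=
      quasiSeparatedSpace_of_quasiSeparated (pullback.fst (D.map (𝟙 i)) f₀)
    exact h
  obtain ⟨hq, hfp⟩ := ConsPairLib.isFP_pullback (inv e) F hF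
  haveI : Coh.IsQCoh ((Scheme.Modules.pullback (inv e)).obj F) := hq
  obtain ⟨j, -, F₁, hF₁q, hF₁, ⟨eF⟩⟩ := S4788.result D' c' (LimTop.isLimitBcCone hc i f₀)
    (Over.mk (𝟙 i)) ((Scheme.Modules.pullback (inv e)).obj F) hfp
  let X₁ : Scheme.{u} := pullback (D.map j.hom) f₀
  let f₁ : X₁ ⟶ D.obj j.left := pullback.fst (D.map j.hom) f₀
  haveI : Coh.IsQCoh (X := X₁) F₁ := hF₁q
  let q₁ : X ⟶ X₁ := e ≫ c'.π.app j
  haveI : LocallyOfFinitePresentation f₁ :=
    MorphismProperty.of_isPullback (IsPullback.of_hasPullback (D.map j.hom) f₀).flip h₁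
  haveI : QuasiCompact f₁ :=
    MorphismProperty.of_isPullback (IsPullback.of_hasPullback (D.map j.hom) f₀).flip ‹QuasiCompact f₀›
  haveI : QuasiSeparated f₁ :=
    MorphismProperty.of_isPullback (IsPullback.of_hasPullback (D.map j.hom) f₀).flip ‹QuasiSeparated f₀›
  have hqf : q₁ ≫ f₁ = f ≫ c.π.app j.left := by
    simp only [q₁, f₁]
    refine (Category.assoc _ _ _).trans ?_
    erw [LimTop.bcCone_fst c i f₀ j, ← Category.assoc, pullback.lift_fst]
  have hX₁ : IsPullback q₁ f f₁ (c.π.app j.left) := by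
    refine IsPullback.of_right ?_ hqf (IsPullback.of_hasPullback (D.map j.hom) f₀).flip
    erw [c.w j.hom]
    have : q₁ ≫ pullback.snd (D.map j.hom) f₀ = g := by
      simp only [q₁]
      refine (Category.assoc _ _ _).trans ?_
      erw [LimTop.bcCone_snd c i f₀ j, pullback.lift_snd]
    rw [this]
    exact hg
  let eF' : (Scheme.Modules.pullback q₁).obj F₁ ≅ F :=
    ((Scheme.Modules.pullbackComp e (c'.π.app j)).app F₁).symm ≪≫
      (Scheme.Modules.pullback e).mapIso eF ≪≫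
      ((Scheme.Modules.pullbackComp e (inv e) ≪≫ Scheme.Modules.pullbackCongr (IsIso.hom_inv_id e) ≪≫
        Scheme.Modules.pullbackId X).app F)
  haveI : LocallyOfFinitePresentation (f₁ ≫ 𝟙 (D.obj j.left)) := by rw [Category.comp_id]; infer_instance
  haveI : QuasiCompact (f₁ ≫ 𝟙 (D.obj j.left)) := by rw [Category.comp_id]; infer_instance
  haveI : QuasiSeparated (f₁ ≫ 𝟙 (D.obj j.left)) := by rw [Category.comp_id]; infer_instance
  haveI : CompactSpace (D.obj j.left) := inferInstance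
  have hY : IsPullback (c.π.app j.left) (𝟙 c.pt) (𝟙 (D.obj j.left)) (c.π.app j.left) :=
    IsPullback.of_id_snd
  have pack : ∀ {k : I} {φ : k ⟶ j.left} {Xi Yi : Scheme.{u}} {fi : Xi ⟶ Yi} {gi : Yi ⟶ D.obj k}
      {pY : Yi ⟶ D.obj j.left} {pX : Xi ⟶ X₁}, IsPullback pY gi (𝟙 (D.obj j.left)) (D.map φ) →
      IsPullback pX fi f₁ pY → ∃ (q : X ⟶ Xi) (_ : IsPullback q f (fi ≫ gi) (c.π.app k))
        (_ : (Scheme.Modules.pullback q).obj ((Scheme.Modules.pullback pX).obj F₁) ≅ F),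
        IsIso gi ∧ LocallyOfFiniteType (fi ≫ gi) ∧ QuasiCompact (fi ≫ gi) ∧
          Coh.IsCoh ((Scheme.Modules.pullback pX).obj F₁) ∧ q ≫ pX = q₁ := by
    intro k φ Xi Yi fi gi pY pX hYi hXi
    haveI : IsIso gi := hYi.isIso_snd_of_isIso
    have hp : IsPullback pX (fi ≫ gi) f₁ (D.map φ) := by
      have := hXi.paste_vert hYi
      rwa [Category.comp_id] at this
    let q := hp.lift q₁ (f ≫ c.π.app k) (hqf.trans ((congrArg (f ≫ ·) (c.w φ).symm).trans (Category.assoc _ _ _).symm))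
    haveI : LocallyOfFinitePresentation (fi ≫ gi) := MorphismProperty.of_isPullback hp ‹LocallyOfFinitePresentation f₁›
    obtain ⟨hq', hfp'⟩ := ConsPairLib.isFP_pullback pX F₁ hF₁
    haveI : Coh.IsQCoh ((Scheme.Modules.pullback pX).obj F₁) := hq'
    refine ⟨q, IsPullback.of_right (by rw [c.w φ, hp.lift_fst]; exact hX₁) (hp.lift_snd _ _ _) hp,
      (Scheme.Modules.pullbackComp q pX ≪≫ Scheme.Modules.pullbackCongr (hp.lift_fst _ _ _)).app F₁ ≪≫ eF',
      inferInstance, inferInstance, MorphismProperty.of_isPullback hp ‹QuasiCompact f₁›,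
      ConsPairLib.isCoh_of_isFP _ hfp', hp.lift_fst _ _ _⟩
  refine ⟨fun hx => ?_, fun hfl => ?_⟩
  · obtain ⟨k, φ, Xi, Yi, fi, gi, pY, pX, vY, vX, hYi, hXi, e1, e2, e3, e4, hflat⟩ :=
      (S4900.result D c hc j.left f₁ (𝟙 _) F₁ hF₁ f (𝟙 _) (c.π.app j.left) q₁ hY hX₁ x).1
        (Fibres16.LimCrit.isFlatOverAt_of_iso f eF'.symm x hx)
    obtain ⟨q, hsq, iso, hgi, hlft, hqc, hcoh, hq₁⟩ := pack hYi hXi
    refine ⟨k, Xi, fi ≫ gi, hlft, hqc, _, hcoh, q, hsq, iso, ?_⟩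
    have hq : q = vX := by
      have hp : IsPullback pX (fi ≫ gi) f₁ (D.map φ) := by
        have := hXi.paste_vert hYi
        rwa [Category.comp_id] at this
      refine hp.hom_ext (hq₁.trans e3.symm) ?_
      rw [hsq.w, ← Category.assoc, e4, Category.assoc, e2, Category.id_comp]
    rw [hq]
    exact comp_iso fi gi _ _ hflat
  · obtain ⟨k, φ, Xi, Yi, fi, gi, pY, pX, hYi, hXi, hflat⟩ :=
      (S4849.result D c hc j.left f₁ (𝟙 _) F₁ hF₁ f (𝟙 _) (c.π.app j.left) q₁ hY hX₁).1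
        (fun y => Fibres16.LimCrit.isFlatOverAt_of_iso f eF'.symm y (hfl y))
    obtain ⟨q, hsq, iso, hgi, hlft, hqc, hcoh, -⟩ := pack hYi hXi
    exact ⟨k, Xi, fi ≫ gi, hlft, hqc, _, hcoh, q, hsq, iso,
      fun z => comp_iso fi gi _ _ (hflat z)⟩

/-- Let A be a commutative ring, f : X ⟶ Spec A a morphism of finite presentation, F a quasi-coherent
O_X-module of finite presentation and x a point of X. If F is f-flat at x, then there are a finitely
generated subring A₀ of A, a morphism of finite type f₀ : X₀ ⟶ Spec A₀, a coherent O_{X₀}-module F₀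
and a cartesian square q : X ⟶ X₀ over Spec A ⟶ Spec A₀ together with an isomorphism q^*F₀ ≅ F, such
that F₀ is f₀-flat at q x; and if F is f-flat, F₀ can be chosen f₀-flat. -/
theorem result {A : Type u} [CommRing A] {X : Scheme.{u}}
    (f : X ⟶ Spec (CommRingCat.of A)) [LocallyOfFinitePresentation f] [QuasiCompact f] [QuasiSeparated f]
    (F : X.Modules) [Coh.IsQCoh F] (hF : CohB1.IsFP F) (x : X) :
    (FlatMod.IsFlatOverAt f F x →
      ∃ (A₀ : Subalgebra ℤ A) (_ : A₀.FG) (X₀ : Scheme.{u}) (f₀ : X₀ ⟶ Spec (CommRingCat.of ↥A₀))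
        (_ : LocallyOfFiniteType f₀) (_ : QuasiCompact f₀) (F₀ : X₀.Modules) (_ : Coh.IsCoh F₀) (q : X ⟶ X₀)
        (_ : IsPullback q f f₀ (Spec.map (CommRingCat.ofHom A₀.val.toRingHom)))
        (_ : (Scheme.Modules.pullback q).obj F₀ ≅ F),
        FlatMod.IsFlatOverAt f₀ F₀ (q x)) ∧
    (FlatMod.IsFlatOver f F →
      ∃ (A₀ : Subalgebra ℤ A) (_ : A₀.FG) (X₀ : Scheme.{u}) (f₀ : X₀ ⟶ Spec (CommRingCat.of ↥A₀))
        (_ : LocallyOfFiniteType f₀) (_ : QuasiCompact f₀) (F₀ : X₀.Modules) (_ : Coh.IsCoh F₀) (q : X ⟶ X₀)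
        (_ : IsPullback q f f₀ (Spec.map (CommRingCat.ofHom A₀.val.toRingHom)))
        (_ : (Scheme.Modules.pullback q).obj F₀ ≅ F),
        FlatMod.IsFlatOver f₀ F₀) := by
  haveI : ∀ i, IsAffine ((LimLib.fgDiagram ℤ A).obj i) := fun i => LimLib.isAffine_fgDiagram ℤ A i
  haveI : IsAffine (LimLib.fgCone ℤ A).pt := inferInstanceAs (IsAffine (Spec (CommRingCat.of A)))
  haveI : ∀ (i j : (Finset A)ᵒᵖ) (φ : i ⟶ j), IsAffineHom ((LimLib.fgDiagram ℤ A).map φ) := fun i j φ => LimLib.isAffineHom_fgDiagram ℤ A φ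
  refine ⟨fun h => ?_, fun h => ?_⟩
  · obtain ⟨k, r⟩ := (@aux _ _ _ _ _ (LimLib.isLimitFgCone ℤ A) _ _ _ X f ‹_› ‹_› ‹_› F ‹_› hF x).1 h
    exact ⟨Algebra.adjoin ℤ (k.unop : Set A), ⟨k.unop, rfl⟩, r⟩
  · obtain ⟨k, r⟩ := (@aux _ _ _ _ _ (LimLib.isLimitFgCone ℤ A) _ _ _ X f ‹_› ‹_› ‹_› F ‹_› hF x).2 h
    exact ⟨Algebra.adjoin ℤ (k.unop : Set A), ⟨k.unop, rfl⟩, r⟩

end Groth.Agent.S4867
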