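import Groth.Statements.S4869
import Groth.Agent.FibCodepth.GrFlatDescend

set_option autoImplicit false
universe u
open TensorProduct
open EGA43

namespace Groth.Agent.S4869

/-- Let A₀ be a commutative ring, (A_i) a directed system of A₀-algebras with colimit A, B₀ a finitely
presented A₀-algebra, J₀ a finitely generated ideal of B₀ and M₀ a finitely presented B₀-module; put
M = A ⊗_{A₀} M₀ and J = J₀B, and likewise M_i, J_i over each A_i. Then the associated graded module
gr_J(M) = ⊕_k J^k M / J^{k+1} M is flat over A if and only if, for some index i, gr_{J_i}(M_i) is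
flat over A_i. Flatness of the graded module is expressed through the equivalent condition that
every truncation M / J^k M (k ≥ 0) is flat (the pieces J^k M / J^{k+1} M are the kernels of the
surjections M / J^{k+1} M → M / J^k M), and J^k M is realised as the image of A ⊗_{A₀} J₀^k M₀ in A
⊗_{A₀} M₀. (The published statement also asserts that the canonical maps from gr_{J_i}(M_i) ⊗_{A_i}
A to gr_J(M) are then bijective; this row states only the equivalence.) -/
theorem result {A₀ : Type u} [CommRing A₀]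
    {ι : Type u} [Preorder ι] (G : ι → Type u) [∀ i, CommRing (G i)] [∀ i, Algebra A₀ (G i)]
    (g : ∀ i j, i ≤ j → G i →ₐ[A₀] G j)
    (A : Type u) [CommRing A] [Algebra A₀ A] [∀ i, Algebra (G i) A] [∀ i, IsScalarTower A₀ (G i) A]
    (hcolim : FlatCA.IsDirectedColimitRing G (fun i j h => (g i j h).toRingHom) A)
    {B₀ : Type u} [CommRing B₀] [Algebra A₀ B₀] [Algebra.FinitePresentation A₀ B₀]
    (J₀ : Ideal B₀) (hJ₀ : J₀.FG)
    (M₀ : Type u) [AddCommGroup M₀] [Module B₀ M₀] [Module A₀ M₀] [IsScalarTower A₀ B₀ M₀]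
    [Module.FinitePresentation B₀ M₀] :
    (∀ k : ℕ, Module.Flat A ((A ⊗[A₀] M₀) ⧸
        LinearMap.range (((J₀ ^ k • (⊤ : Submodule B₀ M₀)).restrictScalars A₀).subtype.baseChange A))) ↔
      ∃ i : ι, ∀ k : ℕ, Module.Flat (G i) ((G i ⊗[A₀] M₀) ⧸
        LinearMap.range (((J₀ ^ k • (⊤ : Submodule B₀ M₀)).restrictScalars A₀).subtype.baseChange (G i))) := by
  obtain ⟨N, r, w, π, φ, h, R₀, Z₀, hR₀, hZ₀⟩ :=
    Groth.Agent.Fibres16.NormFlat.exists_wtPres_model (A := A₀) (J := J₀) (M := M₀) hJ₀
  have : IsNoetherianRing R₀ := isNoetherianRing_of_fg hR₀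
  simp only [h.trunc_flat_iff, ← hZ₀, Groth.Agent.FlatOpen.ext_ext _ Z₀ A₀]
  have : ∀ i, IsScalarTower R₀ (G i) A := fun i => IsScalarTower.of_algebraMap_eq fun a => by
    rw [IsScalarTower.algebraMap_apply R₀ A₀ A, IsScalarTower.algebraMap_apply R₀ A₀ (G i),
      ← IsScalarTower.algebraMap_apply A₀ (G i) A]
  constructor
  · intro hA
    obtain ⟨R₁, hR₁, h₁⟩ := Groth.Agent.Fibres16.NormFlat.exists_model_grFlat h.wt_le Z₀ hA
    obtain ⟨j, ψ, -⟩ := Groth.Agent.FlatOpen.exists_stage_hom G (fun i j hij => (g i j hij).toRingHom) A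
      hcolim (fun i j hij => RingHom.ext fun a => by
        rw [RingHom.comp_apply, IsScalarTower.algebraMap_apply R₀ A₀ (G i),
          IsScalarTower.algebraMap_apply R₀ A₀ (G j)]
        exact (g i j hij).commutes _) R₁ hR₁
    letI : Algebra R₁ (G j) := ψ.toRingHom.toAlgebra
    have : IsScalarTower R₀ R₁ (G j) := IsScalarTower.of_algebraMap_eq fun a => (ψ.commutes a).symm
    refine ⟨j, ?_⟩
    rw [← Groth.Agent.FlatOpen.ext_ext (G j) Z₀ R₁]
    exact h₁.ext
  · rintro ⟨i, hi⟩
    rw [← Groth.Agent.FlatOpen.ext_ext A Z₀ (G i)]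
    exact hi.ext

end Groth.Agent.S4869
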