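import Groth.Statements.S4871
import Groth.Agent.BigOpen12.Dense
import Groth.Agent.S3844

set_option autoImplicit false
universe u
open CategoryTheory AlgebraicGeometry
open EGA43

namespace Groth.Agent.S4871

open CategoryTheory.Limits in
/-- Let f : X ⟶ S be flat and locally of finite presentation and U an open subscheme of X. Then U is
universally schematically dense in X relative to S, i.e. for every base change S' ⟶ S the preimage
of U in X ×_S S' is schematically dense, if and only if for every point s of S the trace U_s of U on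
the fibre X_s is schematically dense in X_s. -/
theorem result {X S : Scheme.{u}} (f : X ⟶ S) [Flat f]
    [LocallyOfFinitePresentation f] (U : X.Opens) :
    (∀ (S' : Scheme.{u}) (g : S' ⟶ S), CInt.IsSchematicallyDense ((pullback.fst f g) ⁻¹ᵁ U)) ↔
      ∀ s : S, CInt.IsSchematicallyDense ((f.fiberι s) ⁻¹ᵁ U) := by
  refine ⟨fun h s => h _ (S.fromSpecResidueField s), fun h S' g => ?_⟩
  refine Groth.Agent.BigOpen12.isSchematicallyDense_of_fibres (pullback.snd f g) _ fun s' => ?_
  have hk := isPullback_fiberToSpecResidueField_of_isPullback (IsPullback.of_hasPullback f g) s'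
  haveI : Flat (Spec.map (g.residueFieldMap s')) := by
    rw [HasRingHomProperty.Spec_iff (P := @Flat)]
    letI := (g.residueFieldMap s').hom.toAlgebra
    exact Module.Flat.of_free
  haveI : IsLocallyNoetherian (f.fiber (g s')) := Groth.Agent.CIntCI.isLocallyNoetherian_fiber f (g s')
  have hflat := MorphismProperty.of_isPullback (P := @Flat) hk.flip ‹_›
  have hd := @Groth.Agent.S3844.result _ _ _ hflat inferInstance _ (h (g s'))
  let k : (pullback.snd f g).fiber s' ⟶ f.fiber (g s') :=
    pullback.map (pullback.snd f g) (S'.fromSpecResidueField s') f (S.fromSpecResidueField (g s')) (pullback.fst f g)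
      (Spec.map (g.residueFieldMap s')) g (pullback.condition).symm (by simp)
  have hk' : k ≫ f.fiberι (g s') = (pullback.snd f g).fiberι s' ≫ pullback.fst f g := pullback.lift_fst _ _ _
  have e : ((pullback.snd f g).fiberι s') ⁻¹ᵁ ((pullback.fst f g) ⁻¹ᵁ U) =
      k ⁻¹ᵁ ((f.fiberι (g s')) ⁻¹ᵁ U) :=
    congrArg (fun φ : (pullback.snd f g).fiber s' ⟶ X => φ ⁻¹ᵁ U) hk'.symm
  rw [e]
  exact hd

end Groth.Agent.S4871
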