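import Groth.Statements.S4872
import Mathlib.AlgebraicGeometry.AffineSpace
import Mathlib.AlgebraicGeometry.Morphisms.Separated
import Mathlib.AlgebraicGeometry.Morphisms.ClosedImmersion
import Mathlib.Tactic.TFAE
import Mathlib.AlgebraicGeometry.PullbackCarrier
import Mathlib.AlgebraicGeometry.Morphisms.Immersion

set_option autoImplicit false
universe u
open CategoryTheory AlgebraicGeometry
open EGA43

namespace Groth.Agent.S4872

/-- Conditions b), c), d) (schematically dominant families): let p : X ⟶ S be a morphism and (f_i : Z_i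
⟶ X) a family of morphisms. The following are equivalent: b) for every open V of X, a section of O_X
over V whose images in all the Γ(f_i⁻¹(V), O_{Z_i}) are zero is zero; c) for every open U of X, a
closed immersion j : Y ⟶ U through which each restriction f_i⁻¹(U) ⟶ U factors is an isomorphism; d)
for every separated S-scheme X', every open U of X and every pair of S-morphisms u, v : U ⟶ X'
having the same composite with each f_i⁻¹(U) ⟶ U, one has u = v. -/
theorem result {X S : Scheme.{u}} (p : X ⟶ S) {ι : Type u} (Z : ι → Scheme.{u})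
    (f : ∀ i, Z i ⟶ X) :
    [(∀ (V : (X).Opens) (t : Γ(X, V)), (∀ i, (f i).app V t = 0) → t = 0),
      ∀ (U : X.Opens) (Y : Scheme.{u}) (j : Y ⟶ (U : Scheme.{u})), IsClosedImmersion j →
        (∀ i, ∃ g : ((f i) ⁻¹ᵁ U : Scheme.{u}) ⟶ Y, g ≫ j = (f i) ∣_ U) → IsIso j,
      ∀ (X' : Scheme.{u}) (q : X' ⟶ S), IsSeparated q → ∀ (U : X.Opens) (u v : (U : Scheme.{u}) ⟶ X'),
        u ≫ q = U.ι ≫ p → v ≫ q = U.ι ≫ p → (∀ i, ((f i) ∣_ U) ≫ u = ((f i) ∣_ U) ≫ v) → u = v].TFAE := by
  tfae_have 1 → 2 := by
    intro hb U Y j hj hfac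
    rw [IsClosedImmersion.isIso_iff_ker_eq_bot, eq_bot_iff]
    intro W a ha
    rw [Scheme.Hom.ker_apply, RingHom.mem_ker] at ha
    refine hb (U.ι ''ᵁ W.1) a fun i => ?_
    obtain ⟨g, hg⟩ := hfac i
    have h1 : (g ≫ j).app W.1 a = 0 := by
      rw [Scheme.Hom.comp_app]
      exact (congrArg (g.app _).hom ha).trans (map_zero _)
    rw [hg, morphismRestrict_app] at h1
    exact (ConcreteCategory.bijective_of_isIso
      ((Z i).presheaf.map (eqToHom (image_morphismRestrict_preimage (f i) U W.1)).op)).1
        (h1.trans (map_zero _).symm)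
  tfae_have 2 → 3 := by
    intro hc X' q hq U u v hu hv h
    haveI := hq
    let u' : Over.mk (U.ι ≫ p) ⟶ Over.mk q := Over.homMk u hu
    let v' : Over.mk (U.ι ≫ p) ⟶ Over.mk q := Over.homMk v hv
    haveI : IsSeparated (Over.mk q).hom := hq
    have := hc U _ (Limits.equalizer.ι u' v').left inferInstance fun i => by
      let k : Over.mk (((f i) ∣_ U) ≫ U.ι ≫ p) ⟶ Over.mk (U.ι ≫ p) := Over.homMk ((f i) ∣_ U)
      have hk : k ≫ u' = k ≫ v' := by ext1; exact h i
      refine ⟨(Limits.equalizer.lift k hk).left, ?_⟩
      rw [← Over.comp_left, Limits.equalizer.lift_ι]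
      rfl
    rw [← cancel_epi (Limits.equalizer.ι u' v').left]
    exact congr($(Limits.equalizer.condition u' v').left)
  tfae_have 3 → 1 := by
    intro hd V t ht
    let q := 𝔸(PUnit.{u+1}; S) ↘ S
    let t' : Γ(V, ⊤) := V.topIso.inv t
    have huv := hd _ q inferInstance V (AffineSpace.homOfVector (V.ι ≫ p) fun _ => t')
      (AffineSpace.homOfVector (V.ι ≫ p) fun _ => 0) (AffineSpace.homOfVector_over _ _)
      (AffineSpace.homOfVector_over _ _) fun i => by
        apply AffineSpace.hom_ext
        · simp only [Category.assoc, AffineSpace.homOfVector_over]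
        · intro j
          simp only [Scheme.Hom.comp_appTop, ConcreteCategory.comp_apply,
            AffineSpace.homOfVector_appTop_coord, map_zero]
          rw [morphismRestrict_appTop]
          simp only [t', Scheme.Opens.topIso_inv, ConcreteCategory.comp_apply]
          have hn := congr($((f i).naturality (eqToHom V.ι_image_top).op) t)
          simp only [ConcreteCategory.comp_apply] at hn
          refine (congrArg (fun a => (Z i).presheaf.map _ a) hn).trans ?_
          erw [ht i, map_zero, map_zero]
          rfl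
    have h0 : t' = 0 := by
      have := congrArg (fun g => Scheme.Hom.appTop g (AffineSpace.coord S PUnit.unit)) huv
      simpa only [AffineSpace.homOfVector_appTop_coord] using this
    exact (ConcreteCategory.bijective_of_isIso V.topIso.inv).1 (h0.trans (map_zero _).symm)
  tfae_finish

end Groth.Agent.S4872
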