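import Groth.Statements.S4873
import Mathlib

set_option autoImplicit false
universe u
open CategoryTheory AlgebraicGeometry
open EGA43

namespace Groth.Agent.S4873

/-- Let (f_i : Z_i ⟶ X) be a family of morphisms. If the family is schematically dominant, i.e. a
section of O_X over an open V whose pullback to every f_i⁻¹(V) vanishes is zero, then the union of
the images f_i(Z_i) is dense in X. Conversely, if X is reduced and this union is dense, the family
is schematically dominant. -/
theorem result {X : Scheme.{u}} {ι : Type u} (Z : ι → Scheme.{u})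
    (f : ∀ i, Z i ⟶ X) :
    ((∀ (V : (X).Opens) (t : Γ(X, V)), (∀ i, (f i).app V t = 0) → t = 0) → Dense (⋃ i, Set.range (f i))) ∧
    (IsReduced X → Dense (⋃ i, Set.range (f i)) → (∀ (V : (X).Opens) (t : Γ(X, V)), (∀ i, (f i).app V t = 0) → t = 0)) := by
  refine ⟨fun h => ?_, fun hred hd V t ht => ?_⟩
  · rw [dense_iff_inter_open]
    intro O hO hne
    by_contra hemp
    rw [Set.not_nonempty_iff_eq_empty] at hemp
    let V : X.Opens := ⟨O, hO⟩
    have h0 : (1 : Γ(X, V)) = 0 := h V 1 fun i => by
      have hbot : f i ⁻¹ᵁ V = ⊥ := by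
        ext z
        constructor
        · intro hz
          exact (Set.eq_empty_iff_forall_notMem.mp hemp (f i z) ⟨hz, Set.mem_iUnion.mpr ⟨i, z, rfl⟩⟩).elim
        · rintro ⟨⟩
      haveI : Subsingleton Γ(Z i, f i ⁻¹ᵁ V) :=
        CommRingCat.subsingleton_of_isTerminal (hbot ▸ (Z i).sheaf.isTerminalOfEmpty)
      exact Subsingleton.elim _ _
    obtain ⟨x, hx⟩ := hne
    have h1 : IsUnit (X.presheaf.germ V x hx 1) := by rw [map_one]; exact isUnit_one
    rw [h0, map_zero] at h1
    exact not_isUnit_zero h1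
  · rw [← AlgebraicGeometry.basicOpen_eq_bot_iff]
    by_contra hne
    obtain ⟨x, hx⟩ : ((X.basicOpen t : X.Opens) : Set X).Nonempty := by
      rw [Set.nonempty_iff_ne_empty]
      exact fun he => hne (TopologicalSpace.Opens.ext he)
    obtain ⟨y, hy, hy'⟩ := dense_iff_inter_open.mp hd _ (X.basicOpen t).isOpen ⟨x, hx⟩
    obtain ⟨i, z, rfl⟩ := Set.mem_iUnion.mp hy'
    have h1 : z ∈ f i ⁻¹ᵁ X.basicOpen t := hy
    rw [Scheme.preimage_basicOpen, ht i, Scheme.basicOpen_zero] at h1
    exact h1


end Groth.Agent.S4873
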