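import Groth.Statements.S4874
import Mathlib

set_option autoImplicit false
universe u
open CategoryTheory AlgebraicGeometry
open EGA43

namespace Groth.Agent.S4874

/-- Let (f_i : Z_i ⟶ X) be a family of morphisms, g : X' ⟶ X a faithfully flat morphism and f'_i : Z_i
×_X X' ⟶ X' the base changes. If the family (f'_i) is schematically dominant, then so is the family
(f_i). (Schematically dominant: a section of the structure sheaf over an open whose pullback along
every member of the family vanishes is zero.) -/
theorem result {X X' : Scheme.{u}} {ι : Type u} (Z : ι → Scheme.{u})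
    (f : ∀ i, Z i ⟶ X) (g : X' ⟶ X) [Flat g] [Surjective g]
    (h : (∀ (V : (X').Opens) (t : Γ(X', V)), (∀ i, (Limits.pullback.snd (f i) g).app V t = 0) → t = 0)) :
    (∀ (V : (X).Opens) (t : Γ(X, V)), (∀ i, (f i).app V t = 0) → t = 0) := by
  intro V t ht
  have h0 : g.app V t = 0 := by
    refine h _ _ fun i => ?_
    show (g.app V ≫ (Limits.pullback.snd (f i) g).app (g ⁻¹ᵁ V)) t = 0
    rw [← Scheme.Hom.comp_app]
    have key : ∀ (φ ψ : Limits.pullback (f i) g ⟶ X), φ = ψ → ψ.app V t = 0 → φ.app V t = 0 := by
      intro φ ψ e hψ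
      subst e
      exact hψ
    refine key _ _ Limits.pullback.condition.symm ?_
    show (Limits.pullback.fst (f i) g).app (f i ⁻¹ᵁ V) ((f i).app V t) = 0
    rw [ht i, map_zero]
  refine TopCat.Presheaf.section_ext X.sheaf V _ _ fun x hx => ?_
  erw [map_zero]
  show X.presheaf.germ V x hx t = 0
  obtain ⟨x', rfl⟩ := g.surjective x
  have hinj : Function.Injective (g.stalkMap x') := by
    letI := (g.stalkMap x').hom.toAlgebra
    haveI : Module.Flat (X.presheaf.stalk (g x')) (X'.presheaf.stalk x') := Flat.stalkMap g x'
    haveI : IsLocalHom (algebraMap (X.presheaf.stalk (g x')) (X'.presheaf.stalk x')) :=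
      inferInstanceAs (IsLocalHom (g.stalkMap x').hom)
    haveI := Module.FaithfullyFlat.of_flat_of_isLocalHom (A := X.presheaf.stalk (g x')) (B := X'.presheaf.stalk x')
    exact FaithfulSMul.algebraMap_injective (X.presheaf.stalk (g x')) (X'.presheaf.stalk x')
  apply hinj
  rw [Scheme.Hom.germ_stalkMap_apply, h0, map_zero, map_zero]


end Groth.Agent.S4874
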