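import Groth.Statements.S4875
import Groth.Agent.Fibres16.SepFlat
import Groth.Agent.SchDom.Scheme


set_option autoImplicit false
universe u
open CategoryTheory AlgebraicGeometry
open EGA43

namespace Groth.Agent.S4875

/-- Let (f_i : Z_i ⟶ X) be a schematically dominant family of morphisms and g : X' ⟶ X a flat morphism
locally of finite presentation. Then the family of base changes f'_i : Z_i ×_X X' ⟶ X' is
schematically dominant. (No quasi-compactness of the f_i and no finiteness of the family is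
assumed.) -/
theorem result {X X' : Scheme.{u}} {ι : Type u} (Z : ι → Scheme.{u})
    (f : ∀ i, Z i ⟶ X) (g : X' ⟶ X) [Flat g] [LocallyOfFinitePresentation g]
    (h : (∀ (V : (X).Opens) (t : Γ(X, V)), (∀ i, (f i).app V t = 0) → t = 0)) :
    (∀ (V : (X').Opens) (t : Γ(X', V)), (∀ i, (Limits.pullback.snd (f i) g).app V t = 0) → t = 0) := by
  have key : SchDom.SD (fun i => SchDom.fMap (𝟙 X) g f i) := by
    refine SchDom.SD.of_JI fun y => ?_
    obtain ⟨W, hW, hxW, -⟩ := exists_isAffineOpen_mem_and_subset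
      (U := ⊤) (x := Limits.pullback.fst (𝟙 X) g y) trivial
    obtain ⟨W', hW', hyW', eW'⟩ := exists_isAffineOpen_mem_and_subset
      (U := g ⁻¹ᵁ W) (x := Limits.pullback.snd (𝟙 X) g y) (by
        show (Limits.pullback.snd (𝟙 X) g ≫ g) y ∈ W
        rw [← Limits.pullback.condition, Category.comp_id]
        exact hxW)
    have eW : W ≤ 𝟙 X ⁻¹ᵁ W := fun _ hx => hx
    have e' : ∀ i (k : SchDom.affLE f W i), k.1 ≤ (f i ≫ 𝟙 X) ⁻¹ᵁ W := fun i k => k.2.2
    refine ⟨SchDom.prodOpen (𝟙 X) g W W', (SchDom.prod_piece (𝟙 X) g hW hW hW' eW eW').1, SchDom.affLE f W,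
      fun i k => SchDom.prodOpen (f i ≫ 𝟙 X) g k.1 W',
      fun i k => SchDom.prodOpen_le (𝟙 X) g f (fun i k => k.2.2) i k,
      fun i k => (SchDom.prod_piece (f i ≫ 𝟙 X) g hW k.2.1 hW' (e' i k) eW').1, ⟨hxW, hyW'⟩,
      (SchDom.JI_prod_iff (𝟙 X) g f (κ := SchDom.affLE f W) (U := fun _ k => k.1) hW hW hW'
        (fun i k => k.2.1) eW eW' (fun i k => k.2.2) e').mpr ?_⟩
    letI := ((𝟙 X : X ⟶ X).appLE W W eW).hom.toAlgebra
    letI := (g.appLE W W' eW').hom.toAlgebra
    letI : ∀ a : Σ i, SchDom.affLE f W i, Algebra Γ(X, W) Γ(Z a.1, a.2.1) := fun a =>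
      ((f a.1 ≫ 𝟙 X).appLE W a.2.1 (e' a.1 a.2)).hom.toAlgebra
    haveI : Module.Flat Γ(X, W) Γ(X', W') := Flat.flat_appLE g hW hW' eW'
    haveI : Algebra.FinitePresentation Γ(X, W) Γ(X', W') := g.finitePresentation_appLE hW hW' eW'
    refine Fibres16.SepFlat.JI_baseChange_flat _ (fun b => ⟨b, ?_⟩)
      (SchDom.SD.JI (Z := Z) (f := f) h hW (U := fun i (k : SchDom.affLE f W i) => k.1) (fun i k => k.2.2)
        fun i z hz => by
          obtain ⟨V, hV, hzV, hVle⟩ := exists_isAffineOpen_mem_and_subset (U := f i ⁻¹ᵁ W) (x := z) hz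
          exact ⟨⟨V, hV, hVle⟩, hzV⟩)
    show (𝟙 X : X ⟶ X).appLE W W eW b = b
    simp [Scheme.Hom.appLE]
    exact ConcreteCategory.congr_hom (X.presheaf.map_id (Opposite.op W)) b
  have h2 : SchDom.SD (fun i => SchDom.fMap (𝟙 X) g f i ≫ Limits.pullback.snd (𝟙 X) g) :=
    Fibres16.SepFlat.SD_comp_iso key (Limits.pullback.snd (𝟙 X) g)
  simp only [SchDom.fMap_snd] at h2
  have hcongr : ∀ i (q : Z i ⟶ X), q = f i → f i ≫ 𝟙 X = q := fun i q e => by rw [Category.comp_id, e]
  intro V t ht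
  refine h2 V t fun i => ?_
  have := ht i
  clear * - this
  generalize hq : f i ≫ 𝟙 X = q
  obtain rfl : q = f i := by rw [← hq, Category.comp_id]
  exact this

end Groth.Agent.S4875
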