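import Groth.Statements.S4878
import Mathlib

set_option autoImplicit false
universe u
open TensorProduct
open EGA43

namespace Groth.Agent.S4878
open scoped TensorProduct

/-- Let A be a commutative ring, (u_i : M → M_i) a family of A-linear maps whose kernels have zero
intersection, and N a projective A-module. Then the kernels of the maps u_i ⊗ 1 : M ⊗_A N → M_i ⊗_A
N have zero intersection. -/
theorem result {A : Type u} [CommRing A]
    {M : Type u} [AddCommGroup M] [Module A M] {ι : Type u} (M' : ι → Type u)
    [∀ i, AddCommGroup (M' i)] [∀ i, Module A (M' i)] (u : ∀ i, M →ₗ[A] M' i)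
    (hu : ⨅ i, LinearMap.ker (u i) = ⊥)
    (N : Type u) [AddCommGroup N] [Module A N] [Module.Projective A N] :
    ⨅ i, LinearMap.ker ((u i).rTensor N) = ⊥ := by
  classical
  obtain ⟨s, hs⟩ := Module.projective_def.mp (inferInstance : Module.Projective A N)
  refine eq_bot_iff.mpr fun x hx => ?_
  simp only [Submodule.mem_iInf, LinearMap.mem_ker] at hx
  have hzero : s.lTensor M x = 0 := by
    apply (TensorProduct.finsuppScalarRight A A M N).injective
    rw [map_zero]
    refine Finsupp.ext fun n => ?_
    rw [Finsupp.zero_apply]
    have key : ∀ (z : M ⊗[A] (N →₀ A)) (i : ι),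
        u i ((TensorProduct.finsuppScalarRight A A M N z) n) =
          (TensorProduct.finsuppScalarRight A A (M' i) N ((u i).rTensor _ z)) n := by
      intro z i
      induction z with
      | zero => simp
      | tmul m f => simp
      | add a b ha hb => simp [map_add, ha, hb]
    have hn : ∀ i, u i ((TensorProduct.finsuppScalarRight A A M N (s.lTensor M x)) n) = 0 := fun i => by
      rw [key, ← LinearMap.comp_apply, LinearMap.rTensor_comp_lTensor, ← LinearMap.lTensor_comp_rTensor,
        LinearMap.comp_apply, hx i, map_zero, map_zero]
      rfl
    exact (Submodule.mem_bot A).mp (hu ▸ (Submodule.mem_iInf _).mpr hn)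
  have h2 := congrArg ((Finsupp.linearCombination A id).lTensor M) hzero
  rw [map_zero, ← LinearMap.comp_apply, ← LinearMap.lTensor_comp,
    show Finsupp.linearCombination A id ∘ₗ s = LinearMap.id from LinearMap.ext hs,
    LinearMap.lTensor_id, LinearMap.id_apply] at h2
  exact h2


end Groth.Agent.S4878
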