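import Groth.Statements.S4879
import Groth.Agent.Fibres16.RegularBC

set_option autoImplicit false
universe u
open CategoryTheory AlgebraicGeometry
open EGA43

namespace Groth.Agent.S4879

open CategoryTheory.Limits in
/-- Let f : X ⟶ S be locally of finite presentation, F a quasi-coherent f-flat O_X-module of finite
presentation, U an open subset of X and u : F → j_*j^*F the canonical map (j : U → X), i.e. the
restriction maps Γ(V, F) → Γ(V ∩ U, F). Then u is universally injective relative to S (the analogous
maps for the pullback of F to X ×_S S' and the preimage of U are injective for every S' ⟶ S) if and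
only if u_s is injective for every point s of S (the analogous maps for the pullback of F to the
fibre X_s and U_s = U ∩ X_s). -/
theorem result {X S : Scheme.{u}} (f : X ⟶ S)
    [LocallyOfFinitePresentation f] (F : X.Modules) [Coh.IsQCoh F] (hF : CohB1.IsFP F)
    (hflat : FlatMod.IsFlatOver f F) (U : X.Opens) :
    (∀ (S' : Scheme.{u}) (g : S' ⟶ S) (V : (↑(pullback f g) : Scheme.{u}).Opens),
      Function.Injective (((Scheme.Modules.pullback (pullback.fst f g)).obj F).presheaf.map
        (homOfLE (inf_le_left : V ⊓ (pullback.fst f g) ⁻¹ᵁ U ≤ V)).op)) ↔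
    ∀ (s : S) (V : (↑(f.fiber s) : Scheme.{u}).Opens),
      Function.Injective (((Scheme.Modules.pullback (f.fiberι s)).obj F).presheaf.map
        (homOfLE (inf_le_left : V ⊓ (f.fiberι s) ⁻¹ᵁ U ≤ V)).op) := by
  refine ⟨fun h s => h _ (S.fromSpecResidueField s), fun h S' g V => ?_⟩
  haveI : ((Scheme.Modules.pullback (Limits.pullback.fst f g)).obj F).IsQuasicoherent :=
    QCoh.isQuasicoherent_pullback _ F
  refine (injective_iff_map_eq_zero _).2 fun t ht => ?_
  exact Fibres16.RegularBC.eq_zero_of_res _ _
    (fun y hy => Fibres16.RegularBC.exists_regular f F hF hflat U h g y hy) V t ht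

end Groth.Agent.S4879
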