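import Groth.Statements.S4880
import Groth.Agent.Fibres16.Semilocal

set_option autoImplicit false
universe u
open CategoryTheory AlgebraicGeometry
open EGA43

namespace Groth.Agent.S4880

/-- For a Noetherian irreducible scheme X the following are equivalent: a) the generic point of X is an
isolated point; b) the underlying set of X is finite; c) X has dimension at most 1 and finitely many
closed points. -/
theorem result (X : Scheme.{u}) [IsNoetherian X]
    [IrreducibleSpace X] :
    [IsOpen ({genericPoint X} : Set X),
      Finite X,
      topologicalKrullDim X ≤ 1 ∧ {x : X | IsClosed ({x} : Set X)}.Finite].TFAE := by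
  tfae_have 1 → 2 := by
    intro h
    have h1 := Fibres16.Semilocal.finite_closure h.isLocallyClosed
    rw [genericPoint_closure] at h1
    exact Set.finite_univ_iff.mp h1
  tfae_have 2 → 3 := by
    intro h
    refine ⟨?_, Set.toFinite _⟩
    rw [topologicalKrullDim, Order.krullDim]
    refine iSup_le fun s => ?_
    by_contra hs
    have hlen : 2 ≤ s.length := by
      by_contra h2
      exact hs (by exact_mod_cast (by omega : s.length ≤ 1))
    have hg : ∀ i, IsGenericPoint ((s i).isIrreducible.genericPoint) (s i : Set X) := fun i => by
      have := (s i).isIrreducible.isGenericPoint_genericPoint_closure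
      rwa [(s i).isClosed.closure_eq] at this
    have hsp : ∀ i j, i ≤ j →
        (s j).isIrreducible.genericPoint ⤳ (s i).isIrreducible.genericPoint :=
      fun i j hij => (hg j).specializes (s.monotone hij (hg i).mem)
    have hne : ∀ i j, i < j →
        (s j).isIrreducible.genericPoint ≠ (s i).isIrreducible.genericPoint := fun i j hij he =>
      (s.strictMono hij).ne (TopologicalSpace.IrreducibleCloseds.ext (by rw [← (hg i).def, ← (hg j).def, he]))
    let i0 : Fin (s.length + 1) := ⟨0, by omega⟩
    let i1 : Fin (s.length + 1) := ⟨1, by omega⟩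
    let i2 : Fin (s.length + 1) := ⟨2, by omega⟩
    have h01 : i0 < i1 := Fin.mk_lt_mk.mpr (by omega)
    have h12 : i1 < i2 := Fin.mk_lt_mk.mpr (by omega)
    rcases Fibres16.Semilocal.eq_or_eq (Fibres16.Semilocal.isLocallyClosed_singleton_of_finite _)
      (hsp i1 i2 h12.le) (hsp i0 i1 h01.le) with h' | h'
    · exact hne i1 i2 h12 h'.symm
    · exact hne i0 i1 h01 h'
  tfae_have 3 → 2 := by
    rintro ⟨hdim, hfin⟩
    refine Set.finite_univ_iff.mp (((Set.finite_singleton (genericPoint X)).union hfin).subset fun x _ => ?_)
    by_contra hx
    rw [Set.mem_union, Set.mem_singleton_iff, not_or] at hx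
    obtain ⟨y, hy, hycl⟩ := (isClosed_closure (s := {x})).exists_closed_singleton ⟨x, subset_closure rfl⟩
    let C : X → TopologicalSpace.IrreducibleCloseds X := fun p =>
      ⟨closure {p}, isIrreducible_singleton.closure, isClosed_closure⟩
    have hlt : ∀ p q : X, p ⤳ q → p ≠ q → C q < C p := fun p q hpq hne =>
      lt_of_le_of_ne (specializes_iff_closure_subset.mp hpq) fun e =>
        hne (hpq.antisymm (specializes_iff_closure_subset.mpr (le_of_eq (congrArg SetLike.coe e.symm)))).eq
    have hyx : y ≠ x := fun e => hx.2 (e ▸ hycl)
    have l1 : C y < C x := hlt x y (specializes_iff_mem_closure.mpr hy) hyx.symm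
    have l2 : C x < C (genericPoint X) := hlt _ x (genericPoint_specializes x) (Ne.symm hx.1)
    let s : LTSeries (TopologicalSpace.IrreducibleCloseds X) :=
      ⟨2, ![C y, C x, C (genericPoint X)], fun i => by fin_cases i <;> assumption⟩
    have h2 : ((2 : ℕ) : WithBot ℕ∞) ≤ 1 := (Order.LTSeries.length_le_krullDim s).trans hdim
    exact absurd h2 (by decide)
  tfae_have 2 → 1 := by
    intro h
    have : ({genericPoint X} : Set X) = (⋃ x ∈ {x : X | x ≠ genericPoint X}, closure {x})ᶜ := by
      ext y
      simp only [Set.mem_singleton_iff, Set.mem_compl_iff, Set.mem_iUnion, not_exists]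
      refine ⟨?_, fun h1 => by_contra fun hy => h1 y hy (subset_closure rfl)⟩
      rintro rfl x hx hmem
      exact hx ((specializes_iff_mem_closure.mpr hmem).antisymm (genericPoint_specializes x)).eq
    rw [this]
    exact ((Set.toFinite _).isClosed_biUnion fun _ _ => isClosed_closure).isOpen_compl
  tfae_finish

end Groth.Agent.S4880
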