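import Groth.Statements.S4882
import Groth.Agent.QuasiHomeo.Basic

set_option autoImplicit false
universe u
open EGA43

namespace Groth.Agent.S4882
open Set Topology TopologicalSpace Groth.Agent.QuasiHomeo

/-- Let X be a Jacobson space and Z a locally quasi-constructible subset of X, i.e. every point of X has
an open neighbourhood U such that U ∩ Z is a finite union of locally closed subsets of X. Then the
subspace Z is a Jacobson space, and a point of Z is closed in Z if and only if it is closed in X. -/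
theorem result {X : Type u} [TopologicalSpace X] [JacobsonSpace X]
    (Z : Set X)
    (hZ : ∀ x : X, ∃ U : Set X, IsOpen U ∧ x ∈ U ∧
      ∃ T : Set (Set X), T.Finite ∧ (∀ t ∈ T, IsLocallyClosed t) ∧ U ∩ Z = ⋃₀ T) :
    JacobsonSpace ↥Z ∧ ∀ z : ↥Z, IsClosed ({z} : Set ↥Z) ↔ IsClosed ({(z : X)} : Set X) := by
  have hZ1 : IsLCO Z := (IsLQC.isLCO hZ).1
  refine ⟨jacobsonSpace_iff_locallyClosed.mpr fun L hne hL => ?_, fun z => ⟨fun hz => ?_, fun hz => ?_⟩⟩
  · obtain ⟨z, hz⟩ := hne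
    obtain ⟨O, C, hO, hC, rfl⟩ := hL
    obtain ⟨O', hO', rfl⟩ := isOpen_induced_iff.mp hO
    obtain ⟨C', hC', rfl⟩ := isClosed_induced_iff.mp hC
    obtain ⟨M, hM, hzM, hMZ⟩ := hZ1 z z.2
    obtain ⟨x, ⟨⟨hxO, hxC⟩, hxM⟩, hx⟩ := jacobsonSpace_iff_locallyClosed.mp ‹JacobsonSpace X›
      (O' ∩ C' ∩ M) ⟨z, hz, hzM⟩ (((hO'.isLocallyClosed).inter hC'.isLocallyClosed).inter hM)
    refine ⟨⟨x, hMZ hxM⟩, ⟨hxO, hxC⟩, ?_⟩
    rw [mem_closedPoints_iff] at hx ⊢
    exact isClosed_induced_iff.mpr ⟨{x}, hx, by ext y; simp [Subtype.ext_iff]⟩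
  · obtain ⟨M, hM, hzM, hMZ⟩ := hZ1 z z.2
    obtain ⟨C, hC, hCz⟩ := isClosed_induced_iff.mp hz
    have heq : ({(z : X)} : Set X) = M ∩ C := by
      ext y
      constructor
      · rintro rfl
        exact ⟨hzM, (Set.ext_iff.mp hCz z).mpr rfl⟩
      · rintro ⟨hyM, hyC⟩
        exact congrArg Subtype.val ((Set.ext_iff.mp hCz ⟨y, hMZ hyM⟩).mp hyC)
    obtain ⟨x, hxz, hx⟩ := jacobsonSpace_iff_locallyClosed.mp ‹JacobsonSpace X› {(z : X)}
      (singleton_nonempty _) (heq ▸ hM.inter hC.isLocallyClosed)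
    rw [mem_singleton_iff.mp hxz, mem_closedPoints_iff] at hx
    exact hx
  · exact isClosed_induced_iff.mpr ⟨{(z : X)}, hz, by ext y; simp [Subtype.ext_iff]⟩


end Groth.Agent.S4882
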