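import Groth.Statements.S4883
import Groth.Agent.Fibres16.Semilocal

set_option autoImplicit false
universe u
open CategoryTheory AlgebraicGeometry
open EGA43

namespace Groth.Agent.S4883

/-- Let X be a Noetherian scheme. Then the set of points x of X whose closure is finite is very dense in
X: every nonempty locally closed subset of X contains a point with finite closure. -/
theorem result (X : Scheme.{u}) [IsNoetherian X]
    (Z : Set X) (hZ : IsLocallyClosed Z) (hne : Z.Nonempty) :
    ∃ x ∈ Z, (closure ({x} : Set X)).Finite := by
  obtain ⟨x, hx, hlc⟩ :=
    Goldman.exists_isLocallyClosed_singleton (TopologicalSpace.NoetherianSpace.isCompact Z) hne hZ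
  exact ⟨x, hx, Fibres16.Semilocal.finite_closure hlc⟩

end Groth.Agent.S4883
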