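import Groth.Statements.S4884
import Groth.Agent.Fibres16.GUFibre

set_option autoImplicit false
universe u
open CategoryTheory AlgebraicGeometry
open EGA43

namespace Groth.Agent.S4884

/-- Let f : X ⟶ Y be locally of finite presentation and x a point of X with y = f x. If O_{Y,y} is
geometrically unibranch and f is normal at x — that is, f is flat at x and the fibre X_y is
geometrically normal at x: for every finite field extension K of k(y), the local rings of X_y
⊗_{k(y)} K at the points above x are integrally closed domains — then O_{X,x} is geometrically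
unibranch. -/
theorem result {X Y : Scheme.{u}} (f : X ⟶ Y) [LocallyOfFinitePresentation f]
    (x : X) (hY : CAlg2.IsGeomUnibranch ↑(Y.presheaf.stalk (f x))) (hflat : (f.stalkMap x).hom.Flat)
    (hnorm : ∀ (K : Type u) [Field K] [Algebra (IsLocalRing.ResidueField ↑(Y.presheaf.stalk (f x))) K],
      Module.Finite (IsLocalRing.ResidueField ↑(Y.presheaf.stalk (f x))) K →
      ∀ x' : ↥(FBase.bc (f.fiberToSpecResidueField (f x)) K),
        FBase.bcπ (f.fiberToSpecResidueField (f x)) K x' = f.asFiber x →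
        IsDomain ↑((FBase.bc (f.fiberToSpecResidueField (f x)) K).presheaf.stalk x') ∧
          IsIntegrallyClosed ↑((FBase.bc (f.fiberToSpecResidueField (f x)) K).presheaf.stalk x')) :
    CAlg2.IsGeomUnibranch ↑(X.presheaf.stalk x) := by
  let S : Set X := {x | (f.stalkMap x).hom.Flat ∧ Fibres16.GeomNormalChart.GNAt f (f x) (f.asFiber x)}
  have hS : IsOpen S := S5923.result f
  have hxS : x ∈ S := ⟨hflat, hnorm⟩
  obtain ⟨_, ⟨V, hV, rfl⟩, hyV, -⟩ := Y.isBasis_affineOpens.exists_subset_of_mem_open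
    (Set.mem_univ (f x)) isOpen_univ
  obtain ⟨_, ⟨U, hU, rfl⟩, hxU, hUS⟩ := X.isBasis_affineOpens.exists_subset_of_mem_open
    (show x ∈ (f ⁻¹ᵁ V : Set X) ∩ S from ⟨hyV, hxS⟩) ((f ⁻¹ᵁ V).2.inter hS)
  have e : U ≤ f ⁻¹ᵁ V := fun z hz => (hUS hz).1
  algebraize [(f.appLE V U e).hom]
  haveI : Algebra.FinitePresentation Γ(Y, V) Γ(X, U) :=
    LocallyOfFinitePresentation.finitePresentation_appLE f hV hU e
  have sq : hU.fromSpec ≫ f = Spec.map (CommRingCat.ofHom (algebraMap Γ(Y, V) Γ(X, U))) ≫ hV.fromSpec :=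
    (hV.SpecMap_appLE_fromSpec f hU e).symm
  have hgood : ∀ q, hU.fromSpec q ∈ S := fun q => (hUS (hU.range_fromSpec.le ⟨q, rfl⟩)).2
  haveI : Module.Flat Γ(Y, V) Γ(X, U) :=
    Fibres16.GeomNormalChart.flat_of_stalkMap f hV.fromSpec hU.fromSpec sq fun q => (hgood q).1
  let q := hU.primeIdealOf ⟨x, hxU⟩
  have hqx : hU.fromSpec q = x := hU.fromSpec_primeIdealOf ⟨x, hxU⟩
  let p : PrimeSpectrum Γ(Y, V) := PrimeSpectrum.comap (algebraMap Γ(Y, V) Γ(X, U)) q
  have hpy : hV.fromSpec p = f x := by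
    rw [← hqx, ← Scheme.Hom.comp_apply, sq, Scheme.Hom.comp_apply]
    rfl
  have hGU : CAlg2.IsGeomUnibranch (Localization.AtPrime p.asIdeal) := by
    let e₁ := Fibres16.GUFibre.stalkEquiv hV.fromSpec p (f x) hpy
    exact GUPoly.isGeomUnibranch_congr e₁ hY
  exact GUPoly.isGeomUnibranch_congr (Fibres16.GUFibre.stalkEquiv hU.fromSpec q x hqx).symm
    (Fibres16.GUFibre.isGeomUnibranch_atPrime_of_fibres (fun p' _ =>
      (Fibres16.GeomNormalChart.isGeomNormal_fiber_iff f hV.fromSpec hU.fromSpec sq ⟨p', inferInstance⟩).2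
        fun q' _ => (hgood q').2) q.asIdeal hGU)

end Groth.Agent.S4884
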