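import Groth.Statements.S4885
import Mathlib.RingTheory.Adjoin.Basic
import Mathlib.RingTheory.IntegralClosure.IsIntegralClosure.Basic
import Mathlib.RingTheory.FinitePresentation

set_option autoImplicit false
universe u
open EGA43

namespace Groth.Agent.S4885

/-- Every finite algebra A' over a commutative ring A is a directed colimit (filtered inductive limit)
of A-algebras which are finite and of finite presentation over A. -/
theorem result (A A' : Type u) [CommRing A] [CommRing A']
    [Algebra A A'] [Module.Finite A A'] :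
    ∃ (ι : Type u) (_ : Preorder ι) (G : ι → Type u) (_ : ∀ i, CommRing (G i)) (_ : ∀ i, Algebra A (G i))
      (g : ∀ i j, i ≤ j → G i →ₐ[A] G j) (_ : ∀ i, Algebra (G i) A') (_ : ∀ i, IsScalarTower A (G i) A'),
      FlatCA.IsDirectedColimitRing G (fun i j h => (g i j h).toRingHom) A' ∧
        ∀ i, Module.Finite A (G i) ∧ Algebra.FinitePresentation A (G i) := by
  classical
  obtain ⟨s, hs⟩ := Module.Finite.fg_top (R := A) (M := A')
  let P := MvPolynomial (↥s) A
  let π : P →ₐ[A] A' := MvPolynomial.aeval fun x : ↥s => (x : A')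
  have hπ : Function.Surjective π := fun a => by
    have ha : a ∈ Submodule.span A (s : Set A') := hs ▸ Submodule.mem_top
    induction ha using Submodule.span_induction with
    | mem x hx => exact ⟨MvPolynomial.X ⟨x, hx⟩, MvPolynomial.aeval_X _ _⟩
    | zero => exact ⟨0, map_zero π⟩
    | add x y _ _ hx hy =>
      obtain ⟨b, rfl⟩ := hx; obtain ⟨c, rfl⟩ := hy; exact ⟨b + c, map_add π b c⟩
    | smul r x _ hx => obtain ⟨b, rfl⟩ := hx; exact ⟨r • b, map_smul π r b⟩
  choose p hp hp0 using fun x : ↥s => Algebra.IsIntegral.isIntegral (R := A) (x : A')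
  let I : Ideal P := RingHom.ker π
  let J₀ : Ideal P := Ideal.span (Set.range fun x : ↥s => Polynomial.aeval (MvPolynomial.X x : P) (p x))
  have hJ₀ : J₀ ≤ I := Ideal.span_le.mpr (by
    rintro _ ⟨x, rfl⟩
    show π _ = 0
    rw [← Polynomial.aeval_algHom_apply, MvPolynomial.aeval_X]
    exact hp0 x)
  let ι := {J : Ideal P // J₀ ≤ J ∧ J ≤ I ∧ J.FG}
  let G : ι → Type u := fun J => P ⧸ J.1
  letI alg : ∀ J : ι, Algebra (G J) A' := fun J =>
    (Ideal.Quotient.lift J.1 π.toRingHom fun a ha => J.2.2.1 ha).toAlgebra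
  haveI tow : ∀ J : ι, IsScalarTower A (G J) A' := fun J =>
    IsScalarTower.of_algebraMap_eq (R := A) (S := G J) (A := A') fun a => (π.commutes a).symm
  refine ⟨ι, inferInstance, G, inferInstance, inferInstance,
    fun J J' h => Ideal.Quotient.factorₐ A (show J.1 ≤ J'.1 from h), alg, tow, ?_, fun J => ⟨?_, ?_⟩⟩
  · refine ⟨⟨fun J J' => ⟨⟨J.1 ⊔ J'.1, J.2.1.trans le_sup_left, sup_le J.2.2.1 J'.2.2.1,
      Submodule.FG.sup J.2.2.2 J'.2.2.2⟩,
      (le_sup_left : J.1 ≤ J.1 ⊔ J'.1), (le_sup_right : J'.1 ≤ J.1 ⊔ J'.1)⟩⟩,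
      ⟨⟨J₀, le_rfl, hJ₀, Submodule.fg_span (Set.finite_range _)⟩⟩, fun J => ?_, fun J J' J'' h h' => ?_,
      fun J J' h => ?_, fun a => ?_, fun J x hx => ?_⟩
    · exact Ideal.Quotient.ringHom_ext (RingHom.ext fun _ => rfl)
    · exact Ideal.Quotient.ringHom_ext (RingHom.ext fun _ => rfl)
    · exact Ideal.Quotient.ringHom_ext (RingHom.ext fun _ => rfl)
    · obtain ⟨b, rfl⟩ := hπ a
      exact ⟨⟨J₀, le_rfl, hJ₀, Submodule.fg_span (Set.finite_range _)⟩, Ideal.Quotient.mk _ b, rfl⟩
    · obtain ⟨b, rfl⟩ := Ideal.Quotient.mk_surjective x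
      exact ⟨⟨J.1 ⊔ Ideal.span {b}, J.2.1.trans le_sup_left,
        sup_le J.2.2.1 ((Ideal.span_singleton_le_iff_mem I).mpr hx), Submodule.FG.sup J.2.2.2 (Submodule.fg_span_singleton b)⟩,
        (le_sup_left : J.1 ≤ J.1 ⊔ Ideal.span {b}), Ideal.Quotient.eq_zero_iff_mem.mpr (Ideal.mem_sup_right (Ideal.mem_span_singleton_self b))⟩
  · haveI : Algebra.IsIntegral A (G J) := by
      refine ⟨fun y => ?_⟩
      obtain ⟨b, rfl⟩ := Ideal.Quotient.mk_surjective y
      induction b using MvPolynomial.induction_on with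
      | C a => exact isIntegral_algebraMap (A := G J)
      | add a b ha hb => rw [map_add]; exact ha.add hb
      | mul_X a x ha =>
        rw [map_mul]
        refine ha.mul ⟨p x, hp x, ?_⟩
        rw [← Polynomial.aeval_def, ← Ideal.Quotient.mkₐ_eq_mk A, Polynomial.aeval_algHom_apply]
        exact Ideal.Quotient.eq_zero_iff_mem.mpr (J.2.1 (Ideal.subset_span ⟨x, rfl⟩))
    haveI : Algebra.FiniteType A (G J) :=
      Algebra.FiniteType.of_surjective (Ideal.Quotient.mkₐ A J.1) Ideal.Quotient.mk_surjective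
    exact Algebra.IsIntegral.finite
  · exact Algebra.FinitePresentation.quotient J.2.2.2

end Groth.Agent.S4885
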