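import Groth.Statements.S9612
import Mathlib.RingTheory.PrincipalIdealDomain
import Mathlib.RingTheory.Jacobson.Ring
import Mathlib.RingTheory.Int.Basic

set_option autoImplicit false
universe u
open CAlg

namespace Groth.Agent.S9612

/-- A finite type ℤ-algebra is a Jacobson ring. -/
theorem result {S : Type u} [CommRing S] [Algebra.FiniteType ℤ S] :
    IsJacobsonRing S := by
  have : IsJacobsonRing ℤ := by
    rw [isJacobsonRing_iff_prime_eq]
    intro P hP
    by_cases h : P = ⊥
    · subst h
      refine le_antisymm (fun x hx => ?_) Ideal.le_jacobson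
      rw [Ideal.mem_bot]
      by_contra hx0
      have := Ideal.mem_sInf.1 hx
      obtain ⟨q, hq, hqp⟩ := Nat.exists_infinite_primes (x.natAbs + 1)
      have hmax : (Ideal.span {(q:ℤ)}).IsMaximal := PrincipalIdealRing.isMaximal_of_irreducible (Nat.prime_iff_prime_int.1 hqp).irreducible
      have := this ⟨bot_le, hmax⟩
      rw [Ideal.mem_span_singleton, Int.natCast_dvd] at this
      have := Nat.le_of_dvd (by omega) this
      omega
    · exact Ideal.jacobson_eq_self_of_isMaximal (H := IsPrime.to_maximal_ideal h)
  exact isJacobsonRing_of_finiteType (A := ℤ)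

end Groth.Agent.S9612
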