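import Groth.Statements.S4886
import Groth.Agent.S9612
import Mathlib.AlgebraicGeometry.Morphisms.FiniteType
import Mathlib.AlgebraicGeometry.AffineSpace
import Mathlib.FieldTheory.Finite.GaloisField
-- import your own Groth.Agent.* helpers here

set_option autoImplicit false
universe u
open CategoryTheory AlgebraicGeometry
open EGA43

namespace Groth.Agent.S4886

open CategoryTheory AlgebraicGeometry

theorem isJacobsonRing_uliftInt : IsJacobsonRing (ULift.{u} ℤ) := by
  haveI : Algebra.FiniteType ℤ (ULift.{u} ℤ) :=
    Algebra.FiniteType.of_surjective (Algebra.ofId ℤ (ULift.{u} ℤ)) fun x => ⟨x.down, by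
      apply ULift.down_injective; simp⟩
  exact Groth.Agent.S9612.result

theorem finiteType_int {Y : Scheme.{u}} [LocallyOfFiniteType (Limits.IsTerminal.from specULiftZIsTerminal Y)]
    {A : CommRingCat.{u}} (j : Spec A ⟶ Y) [IsOpenImmersion j] : Algebra.FiniteType ℤ A := by
  let g := j ≫ Limits.IsTerminal.from specULiftZIsTerminal Y
  have hg : LocallyOfFiniteType g := inferInstance
  rw [← Spec.map_preimage g] at hg
  have h := HasRingHomProperty.Spec_iff.mp hg
  have h' : (algebraMap ℤ A).FiniteType := by
    rw [show algebraMap ℤ A = (Spec.preimage g).hom.comp ULift.ringEquiv.symm.toRingHom from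
      Subsingleton.elim _ _]
    exact h.comp (RingHom.FiniteType.of_surjective _ ULift.ringEquiv.symm.surjective)
  exact RingHom.finiteType_algebraMap.mp h'

/-- A field of finite type over `ℤ` is finite. -/
theorem finite_of_finiteType_int (K : Type u) [Field K] (h : (Int.castRingHom K).FiniteType) : Finite K := by
  haveI : Algebra.FiniteType ℤ K := RingHom.finiteType_algebraMap.mp
    ((Subsingleton.elim (Int.castRingHom K) (algebraMap ℤ K)) ▸ h)
  haveI : IsJacobsonRing ℤ := Groth.Agent.S9612.result
  haveI := finite_of_finite_type_of_isJacobsonRing ℤ K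
  obtain ⟨p, hp⟩ := CharP.exists K
  rcases Nat.eq_zero_or_pos p with rfl | hp0
  · haveI := CharP.charP_to_charZero K
    exact absurd (isField_of_isIntegral_of_isField (R := ℤ) (S := K)
      (FaithfulSMul.algebraMap_injective ℤ K) (Field.toIsField K)) Int.not_isField
  · haveI : NeZero p := ⟨hp0.ne'⟩
    letI := ZMod.algebra K p
    haveI : Module.Finite (ZMod p) K := Module.Finite.of_restrictScalars_finite ℤ (ZMod p) K
    exact Module.finite_of_finite (ZMod p)

theorem finite_residueField_iff {A : Type u} [CommRing A] [Algebra.FiniteType ℤ A] (q : Ideal A)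
    [q.IsPrime] : Finite q.ResidueField ↔ q.IsMaximal := by
  constructor
  · intro h
    haveI : Finite (A ⧸ q) := Finite.of_injective (algebraMap (A ⧸ q) q.ResidueField)
      (Ideal.injective_algebraMap_quotient_residueField q)
    exact Ideal.Quotient.maximal_of_isField _ (Finite.isField_of_domain _)
  · intro h
    have hft : (Int.castRingHom (A ⧸ q)).FiniteType := by
      rw [Subsingleton.elim (Int.castRingHom (A ⧸ q)) ((Ideal.Quotient.mk q).comp (algebraMap ℤ A))]
      exact (RingHom.FiniteType.of_surjective _ Ideal.Quotient.mk_surjective).comp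
        (RingHom.finiteType_algebraMap.mpr inferInstance)
    haveI : Finite (A ⧸ q) := @finite_of_finiteType_int (A ⧸ q) (Ideal.Quotient.field q) hft
    exact Finite.of_surjective (algebraMap (A ⧸ q) q.ResidueField)
      q.bijective_algebraMap_quotient_residueField.2

theorem finite_setOf_hom {A : Type u} [CommRing A] [Algebra.FiniteType ℤ A] (F : Type) [Field F] [Finite F] :
    {q : PrimeSpectrum A | Nonempty (q.asIdeal.ResidueField →+* F)}.Finite := by
  haveI : Finite (A →+* F) := by
    obtain ⟨s, hs⟩ := (inferInstance : Algebra.FiniteType ℤ A).out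
    refine Finite.of_injective (fun (φ : A →+* F) (a : s) => φ a) fun φ ψ h => ?_
    have : φ.toIntAlgHom = ψ.toIntAlgHom :=
      AlgHom.ext_of_adjoin_eq_top hs fun a ha => congrFun h ⟨a, ha⟩
    exact RingHom.ext fun a => DFunLike.congr_fun this a
  refine (Set.finite_range fun φ : A →+* F => (⟨RingHom.ker φ, RingHom.ker_isPrime φ⟩ : PrimeSpectrum A)).subset ?_
  rintro q ⟨ψ⟩
  refine ⟨ψ.comp (algebraMap A q.asIdeal.ResidueField), PrimeSpectrum.ext ?_⟩
  show RingHom.ker (ψ.comp (algebraMap A q.asIdeal.ResidueField)) = q.asIdeal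
  rw [← RingHom.comap_ker, (RingHom.injective_iff_ker_eq_bot ψ).mp ψ.injective, ← RingHom.ker_eq_comap_bot,
    Ideal.ker_algebraMap_residueField]

/-- The residue field at a point in an affine open. -/
noncomputable def residueEquiv {Y : Scheme.{u}} {A : CommRingCat.{u}} (j : Spec A ⟶ Y) [IsOpenImmersion j]
    (q : PrimeSpectrum A) : (Y.residueField (j q) : Type u) ≃+* q.asIdeal.ResidueField :=
  haveI : IsIso (j.residueFieldMap (show Spec A from q)) := inferInstance
  (asIso (j.residueFieldMap (show Spec A from q)) ≪≫ Scheme.Spec.residueFieldIso A q).commRingCatIsoToRingEquiv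


/-- Let Y be a scheme of finite type over ℤ. (i) A point y of Y is closed if and only if the residue
field k(y) is finite. (ii) For every prime number p and every integer d ≥ 1, the set of points y of
Y such that k(y) is an extension of 𝔽_p of degree dividing d, i.e. admits a ring homomorphism into
the field with p^d elements, is finite. -/
theorem result (Y : Scheme.{u}) [CompactSpace Y]
    [LocallyOfFiniteType (Limits.IsTerminal.from specULiftZIsTerminal Y)] :
    (∀ y : Y, IsClosed ({y} : Set Y) ↔ Finite ↑(Y.residueField y)) ∧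
    ∀ (p d : ℕ) [Fact p.Prime], 0 < d →
      {y : Y | Nonempty (↑(Y.residueField y) →+* GaloisField p d)}.Finite := by
  haveI : JacobsonSpace Y := by
    haveI := isJacobsonRing_uliftInt.{u}
    haveI : JacobsonSpace (Spec (.of (ULift.{u} ℤ))) := inferInstanceAs (JacobsonSpace (PrimeSpectrum _))
    exact LocallyOfFiniteType.jacobsonSpace (Limits.IsTerminal.from specULiftZIsTerminal Y)
  have hcov : ∀ y : Y, ∃ (A : CommRingCat.{u}) (j : Spec A ⟶ Y) (_ : IsOpenImmersion j), y ∈ Set.range j := by
    intro y
    obtain ⟨i, x, hx⟩ := Y.affineCover.exists_eq y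
    refine ⟨_, (Y.affineCover.X i).isoSpec.inv ≫ Y.affineCover.f i, inferInstance,
      (Y.affineCover.X i).isoSpec.hom x, ?_⟩
    rw [← Scheme.Hom.comp_apply, Iso.hom_inv_id_assoc, hx]
  constructor
  · intro y
    obtain ⟨A, j, _, q, rfl⟩ := hcov y
    haveI := finiteType_int j
    rw [(residueEquiv j q).toEquiv.finite_iff, finite_residueField_iff]
    refine Iff.trans ?_ (PrimeSpectrum.isClosed_singleton_iff_isMaximal q)
    constructor
    · intro h
      have := h.preimage j.continuous
      rwa [← Set.image_singleton, j.isOpenEmbedding.injective.preimage_image] at this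
    · intro h
      refine isClosed_singleton_of_isLocallyClosed_singleton ?_
      rw [← Set.image_singleton]
      exact h.isLocallyClosed.image j.isOpenEmbedding.isInducing j.isOpenEmbedding.isOpen_range.isLocallyClosed
  · intro p d _ hd
    haveI : Finite (GaloisField p d) := inferInstance
    choose A j hj hmem using hcov
    obtain ⟨t, ht⟩ := isCompact_univ.elim_finite_subcover (fun y => Set.range (j y))
      (fun y => haveI := hj y; (j y).isOpenEmbedding.isOpen_range) fun y _ => Set.mem_iUnion.mpr ⟨y, hmem y⟩
    refine (Set.Finite.biUnion t.finite_toSet fun y _ => ?_).subset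
      (s := ⋃ y ∈ (t : Set Y), j y '' {q : PrimeSpectrum (A y) | Nonempty (q.asIdeal.ResidueField →+* GaloisField p d)}) ?_
    · haveI := hj y
      haveI := finiteType_int (j y)
      exact (finite_setOf_hom (GaloisField p d)).image _
    · rintro z ⟨φ⟩
      obtain ⟨y, hy, q, rfl⟩ := Set.mem_iUnion₂.mp (ht (Set.mem_univ z))
      haveI := hj y
      exact Set.mem_biUnion hy ⟨q, ⟨φ.comp (residueEquiv (j y) q).symm.toRingHom⟩, rfl⟩

end Groth.Agent.S4886
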