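import Groth.Statements.S4887
import Groth.Agent.CAlgA.RelSyzygy
import Groth.Agent.Props.QFP
import Groth.Agent.QCoh.Exact
import Groth.Agent.FlatSect.Basic


set_option autoImplicit false
universe u
open EGA43

namespace Groth.Agent.S4887

/-- Schanuel: kernels onto a module with a finitely presented syzygy are finitely presented. -/
theorem kerFP {R G H : Type*} [CommRing R] [AddCommGroup G] [Module R G] [AddCommGroup H] [Module R H]
    [Module.FinitePresentation R G] {r : ℕ} (L : G →ₗ[R] H) (hL : Function.Surjective L)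
    (q : (Fin r → R) →ₗ[R] H) (hq : Function.Surjective q) [Module.FinitePresentation R (LinearMap.ker q)] :
    Module.FinitePresentation R (LinearMap.ker L) := by
  let P : Submodule R ((Fin r → R) × G) := LinearMap.ker (q ∘ₗ LinearMap.fst R _ _ - L ∘ₗ LinearMap.snd R _ _)
  have hP : ∀ z : (Fin r → R) × G, z ∈ P ↔ q z.1 = L z.2 := fun z => by
    simp [P, sub_eq_zero]
  let π : P →ₗ[R] G := LinearMap.snd R _ _ ∘ₗ P.subtype
  have hπ : Function.Surjective π := fun g => ⟨⟨((hq (L g)).choose, g), (hP _).2 (hq (L g)).choose_spec⟩, rfl⟩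
  let k : LinearMap.ker q →ₗ[R] LinearMap.ker π :=
    { toFun := fun v => ⟨⟨(v.1, 0), (hP _).2 (by simpa using v.2)⟩, rfl⟩
      map_add' := fun a b => Subtype.ext (Subtype.ext (by simp))
      map_smul' := fun a b => Subtype.ext (Subtype.ext (by simp)) }
  have hk : Function.Bijective k := by
    refine ⟨fun a b h => Subtype.ext (congrArg (fun z => z.1.1.1) h), fun ⟨⟨⟨v, g⟩, hz⟩, hg⟩ => ?_⟩
    obtain rfl : g = 0 := hg
    exact ⟨⟨v, by simpa using (hP _).1 hz⟩, rfl⟩
  haveI : Module.FinitePresentation R (LinearMap.ker π) := by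
    letI : AddCommGroup (LinearMap.ker π) := Submodule.addCommGroup _
    have e := LinearEquiv.ofBijective k hk
    exact @Module.FinitePresentation.of_equiv R (LinearMap.ker q) (LinearMap.ker π) _ _ _ _ _ e inferInstance
  haveI := Module.finitePresentation_of_ker π hπ
  let ρ : P →ₗ[R] (Fin r → R) := LinearMap.fst R _ _ ∘ₗ P.subtype
  let j : LinearMap.ker L →ₗ[R] P :=
    { toFun := fun g => ⟨(0, g.1), (hP _).2 (by simpa using g.2.symm)⟩
      map_add' := fun a b => Subtype.ext (by simp)
      map_smul' := fun a b => Subtype.ext (by simp) }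
  refine Module.finitePresentation_of_projective_of_exact j ρ
    (fun a b h => Subtype.ext (congrArg (fun z => z.1.2) h))
    (fun v => ⟨⟨(v, (hL (q v)).choose), (hP _).2 (hL (q v)).choose_spec.symm⟩, rfl⟩) ?_
  intro z
  constructor
  · intro hz
    have hz' : z.1.1 = 0 := hz
    have := (hP _).1 z.2
    rw [hz', map_zero] at this
    exact ⟨⟨z.1.2, this.symm⟩, Subtype.ext (Prod.ext hz'.symm rfl)⟩
  · rintro ⟨g, rfl⟩
    rfl

open AlgebraicGeometry CategoryTheory Limits in
/-- Let f : X ⟶ Y be locally of finite presentation, G and H quasi-coherent O_X-modules of finite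
presentation with H f-flat, and p : G ⟶ H an epimorphism. Then Ker p is an O_X-module of finite
presentation. -/
theorem result {X Y : Scheme.{u}} (f : X ⟶ Y) [LocallyOfFinitePresentation f]
    (G H : X.Modules) [Coh.IsQCoh G] [Coh.IsQCoh H] (hG : CohB1.IsFP G) (hH : CohB1.IsFP H)
    (hflat : FlatMod.IsFlatOver f H) (p : G ⟶ H) [Epi p] :
    CohB1.IsFP (kernel p) := by
  haveI : SheafOfModules.IsFinitePresentation.{u} (R := X.ringCatSheaf) G := hG
  haveI : SheafOfModules.IsFinitePresentation.{u} (R := X.ringCatSheaf) H := hH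
  haveI : G.IsQuasicoherent := by
    obtain ⟨σ, -⟩ := SheafOfModules.IsFinitePresentation.exists_quasicoherentData.{u} (R := X.ringCatSheaf) G
    exact { nonempty_quasicoherentData := ⟨σ⟩ }
  haveI : H.IsQuasicoherent := by
    obtain ⟨σ, -⟩ := SheafOfModules.IsFinitePresentation.exists_quasicoherentData.{u} (R := X.ringCatSheaf) H
    exact { nonempty_quasicoherentData := ⟨σ⟩ }
  haveI : (Limits.kernel p).IsQuasicoherent := QCoh.isQuasicoherent_kernel p
  refine Props.QFP.isFP_of_forall_exists _ fun x => ?_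
  obtain ⟨V, U, hV, hU, e, hx⟩ := FlatSect.exists_chart f x
  refine ⟨U, hU, hx, ?_⟩
  letI := (f.appLE V U e).hom.toAlgebra
  letI : Module Γ(Y, V) Γ(H, U) := Module.compHom _ (f.appLE V U e).hom
  haveI : IsScalarTower Γ(Y, V) Γ(X, U) Γ(H, U) := IsScalarTower.of_algebraMap_smul fun _ _ => rfl
  haveI : Algebra.FinitePresentation Γ(Y, V) Γ(X, U) := f.finitePresentation_appLE hV hU e
  haveI : Module.FinitePresentation Γ(X, U) Γ(H, U) := Props.QFP.finitePresentation_sections_of_isFP H hU
  haveI : Module.FinitePresentation Γ(X, U) Γ(G, U) := Props.QFP.finitePresentation_sections_of_isFP G hU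
  haveI : Module.Flat Γ(Y, V) Γ(H, U) := FlatSect.flat_sections_of_isFlatOverAt f hV hU e H fun x _ => hflat x
  obtain ⟨r, q, hq, hqk⟩ := CAlgA.RelSyzygy.exists_fp_syzygy Γ(Y, V) Γ(X, U) Γ(H, U)
  let L : Γ(G, U) →ₗ[Γ(X, U)] Γ(H, U) :=
    { toFun := fun m => p.app U m
      map_add' := fun a b => map_add _ a b
      map_smul' := fun a m => Scheme.Modules.Hom.app_smul p a m }
  let I : Γ(Limits.kernel p, U) →ₗ[Γ(X, U)] Γ(G, U) :=
    { toFun := fun m => (Limits.kernel.ι p).app U m
      map_add' := fun a b => map_add _ a b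
      map_smul' := fun a m => Scheme.Modules.Hom.app_smul _ a m }
  have hL : Function.Surjective L := QCoh.app_surjective_of_epi p hU
  haveI := kerFP L hL q hq
  let S := ShortComplex.mk (Limits.kernel.ι p) p (Limits.kernel.condition p)
  have hS : S.Exact := ShortComplex.exact_of_f_is_kernel _ (Limits.kernelIsKernel p)
  haveI : Mono S.f := inferInstanceAs (Mono (Limits.kernel.ι p))
  refine Module.FinitePresentation.of_equiv ((LinearEquiv.ofInjective I ?_).trans (LinearEquiv.ofEq _ (LinearMap.ker L) ?_)).symm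
  · exact QCoh.app_injective_of_mono (Limits.kernel.ι p) U
  · ext m
    constructor
    · rintro ⟨n, rfl⟩
      exact QCoh.app_app_eq_zero S U n
    · intro hm
      exact QCoh.exists_app_eq_of_app_eq_zero S hS U m hm

end Groth.Agent.S4887
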