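import Groth.Statements.S4888
import Groth.Agent.S3449
import Groth.Agent.Fibres16.JacobsonDim

set_option autoImplicit false
universe u
open CategoryTheory AlgebraicGeometry
open EGA43 Groth.Agent.Fibres16.JacobsonDim

namespace Groth.Agent.S4888

/-- Let X be a locally Noetherian Jacobson scheme whose local rings are universally catenary and whose
irreducible components are equidimensional (for every irreducible component X' and closed point x of
X', dim X' equals the dimension of the space of generizations of x in X'); let Y be a closed subset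
of X and x a point of Y. Then dim_x(Y) = dim(U ∩ Y) = dim cl{x} + codim(cl{x}, Y) = sup_i dim(Y_i);
that is, the local dimension of Y at x equals the dimension of the closure of x plus the codimension
of that closure in Y (the Krull dimension of the space of generizations of x in Y), equals the
supremum of the dimensions of the irreducible components Y_i of Y through x, and equals dim(U ∩ Y)
for every open neighbourhood U of x meeting no irreducible component of Y that avoids x. (The
published statement assumes only the Jacobson and universally-catenary conditions; its proof applies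
the dimension formula for dense opens to the irreducible components, which needs their
equidimensionality, and for an irreducible Noetherian Jacobson scheme with universally catenary
local rings having two closed points with local rings of different dimensions n − 1 and n — such
schemes exist — the two sides differ at the first of these points; so equidimensionality of the
components is assumed here.) -/
theorem result (X : Scheme.{u}) [IsLocallyNoetherian X] [JacobsonSpace X]
    (h2 : ∀ x : X, CAlg.IsUniversallyCatenary (X.presheaf.stalk x))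
    (h3 : ∀ X' ∈ irreducibleComponents (X : Type u), ∀ x ∈ X', IsClosed ({x} : Set X) →
      topologicalKrullDim (↥X' : Type u) = topologicalKrullDim ↥{t : X | t ∈ X' ∧ t ⤳ x})
    (Y : Set X) (hY : IsClosed Y) (x : X) (hx : x ∈ Y) :
    FlatMor.localDim ↥Y ⟨x, hx⟩ =
        topologicalKrullDim ↥(closure ({x} : Set X)) + topologicalKrullDim ↥{t : X | t ∈ Y ∧ t ⤳ x} ∧
      FlatMor.localDim ↥Y ⟨x, hx⟩ =
        ⨆ C ∈ {C : Set ↥Y | C ∈ irreducibleComponents ↥Y ∧ (⟨x, hx⟩ : ↥Y) ∈ C}, topologicalKrullDim ↥C ∧
      ∀ U : Set X, IsOpen U → x ∈ U →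
        (∀ C ∈ irreducibleComponents ↥Y, (⟨x, hx⟩ : ↥Y) ∉ C → Disjoint (Subtype.val ⁻¹' U) C) →
        topologicalKrullDim ↥(U ∩ Y) = FlatMor.localDim ↥Y ⟨x, hx⟩ := by
  obtain ⟨δ, hd, h0⟩ := Groth.Agent.S3449.exists_dimFun h2 h3
  obtain ⟨ξ, hξ, hξx, hmax⟩ := exists_top hd h0 hY hx
  have hx0 := (Groth.Agent.CycLib.height_eq hd h0 x).1
  have hle := Groth.Agent.CycLib.le_of_specializes hd hξx
  have hloc := localDim_eq hd h0 hY hx hξ hξx hmax
  refine ⟨?_, ?_, fun U hU hxU hdis => ?_⟩
  · rw [hloc, topDim_closure hd h0 x, topDim_gen hd h0 hY hξ hξx hmax]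
    exact_mod_cast (show (δ ξ).toNat = (δ x).toNat + (δ ξ - δ x).toNat by omega)
  · rw [hloc, iSup_components hd h0 hY hx hξ hξx hmax]
  · rw [hloc]
    refine le_antisymm (topDim_inter_le hd h0 hY hU hmax fun y hy => ?_) (le_topDim_inter hd h0 hY hU hxU hξ hξx)
    obtain ⟨C, hC, hyC⟩ := exists_mem_irreducibleComponents_subset_of_isIrreducible
      ({(⟨y, hy.2⟩ : ↥Y)} : Set ↥Y) isIrreducible_singleton
    have hxC : (⟨x, hx⟩ : ↥Y) ∈ C := by
      by_contra hn
      exact Set.disjoint_left.1 (hdis C hC hn) (show (⟨y, hy.2⟩ : ↥Y) ∈ Subtype.val ⁻¹' U from hy.1) (hyC rfl)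
    have hi : IsIrreducible (Subtype.val '' C : Set X) := hC.1.image _ continuous_subtype_val.continuousOn
    have hc : IsClosed (Subtype.val '' C : Set X) :=
      hY.isClosedEmbedding_subtypeVal.isClosedMap _ (isClosed_of_mem_irreducibleComponents C hC)
    have hg := hi.isGenericPoint_genericPoint hc
    refine ⟨hi.genericPoint, ?_, hg.specializes ⟨_, hxC, rfl⟩, hg.specializes ⟨_, hyC rfl, rfl⟩⟩
    obtain ⟨c, -, hcg⟩ := hg.mem
    exact hcg ▸ c.2

end Groth.Agent.S4888
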