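import Groth.Statements.S4889
import Groth.Agent.S3449
import Groth.Agent.Fibres16.JacobsonDim
import Groth.Agent.Fibres16.EquidimStalk
import Groth.Agent.CycLib.ModStalk

set_option autoImplicit false
universe u
open CategoryTheory AlgebraicGeometry
open EGA43 Groth.Agent.Fibres16.JacobsonDim

namespace Groth.Agent.S4889

/-- Stated as the dimension equality to which its two-line proof reduces it: let S be a locally
Noetherian Jacobson scheme whose local rings are universally catenary and whose irreducible
components are equidimensional (for every irreducible component S' and every closed point s of S',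
dim S' equals the dimension of the space of generizations of s in S'); let g : X ⟶ S be a morphism
locally of finite type, F a coherent O_X-module, Y its support and x a point of Y. Then dim(cl{x}) +
dim(F_x) = dim_x(Y), where dim(F_x) is the Krull dimension of the O_{X,x}-module F_x (the Krull
dimension of its support in Spec O_{X,x}) and dim_x(Y) is the local dimension of Y at x. (The
published statement reads prof*_x(F) = dim_x(Y) − coprof(F_x), with the rectified depth prof*_x(F) =
prof(F_x) + dim cl{x} and the codepth coprof(F_x) = dim(F_x) − prof(F_x); for the nonzero finitely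
generated module F_x this is the equality stated here. The published form of the special case in
which the base is X itself assumes only the Jacobson and universally-catenary conditions; this row
keeps the equidimensionality of the irreducible components of the base, which the proof uses and
without which the formula fails.) -/
theorem result {X S : Scheme.{u}} [IsLocallyNoetherian S]
    [JacobsonSpace S] (h2 : ∀ s : S, CAlg.IsUniversallyCatenary (S.presheaf.stalk s))
    (h3 : ∀ S' ∈ irreducibleComponents (S : Type u), ∀ s ∈ S', IsClosed ({s} : Set S) →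
      topologicalKrullDim (↥S' : Type u) = topologicalKrullDim ↥{t : S | t ∈ S' ∧ t ⤳ s})
    (g : X ⟶ S) [LocallyOfFiniteType g] (F : X.Modules) (hF : Coh.IsCoh F) (x : X) (hx : x ∈ CohB1.support F) :
    topologicalKrullDim ↥(closure ({x} : Set X)) + Module.supportDim ↑(X.presheaf.stalk x) ↑(F.presheaf.stalk x) =
      FlatMor.localDim ↥(CohB1.support F) ⟨x, hx⟩ := by
  obtain ⟨δ, hd, h0⟩ := Groth.Agent.S3449.exists_dimFun h2 h3
  obtain ⟨δX, hXc, h0X⟩ := Groth.Agent.S3449.exists_compat g δ h0
  have hdX := Groth.Agent.CycLib.isDimFun_of_deltaCompat g h2 hd hXc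
  haveI : IsLocallyNoetherian X := LocallyOfFiniteType.isLocallyNoetherian g
  haveI : JacobsonSpace X := LocallyOfFiniteType.jacobsonSpace g
  haveI : F.IsQuasicoherent := hF.1
  haveI : SheafOfModules.IsFiniteType.{u} F := hF.2
  have hY : IsClosed (CohB1.support F) := by
    have he : CohB1.support F = {z : X | Nontrivial (F.presheaf.stalk z)} := Set.ext fun z => not_subsingleton_iff_nontrivial
    rw [he]
    exact Groth.Agent.CycLib.isClosed_support F hF
  obtain ⟨ξ, hξ, hξx, hmax⟩ := exists_top hdX h0X hY hx
  have hx0 := (Groth.Agent.CycLib.height_eq hdX h0X x).1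
  have hle := Groth.Agent.CycLib.le_of_specializes hdX hξx
  haveI : Module.Finite (X.presheaf.stalk x) (F.presheaf.stalk x) := Groth.Agent.LimTop.TensorQC.finite_stalk (F := F) x
  have hsupp : Module.supportDim (X.presheaf.stalk x) (F.presheaf.stalk x) =
      topologicalKrullDim ↥{t : X | t ∈ CohB1.support F ∧ t ⤳ x} := by
    let j := X.fromSpecStalk x
    have hj : ∀ t : X, t ∈ Set.range j ↔ t ⤳ x := fun t => by rw [Scheme.range_fromSpecStalk]; rfl
    have hmem : ∀ Q : PrimeSpectrum (X.presheaf.stalk x),
        Q ∈ Module.support (X.presheaf.stalk x) (F.presheaf.stalk x) ↔ j Q ∈ CohB1.support F := fun Q =>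
      (Module.mem_support_iff_of_finite).trans ((Groth.Agent.Fibres16.EquidimStalk.annihilator_le_iff F x Q).trans
        not_subsingleton_iff_nontrivial.symm)
    haveI : QuasiSober (Module.support (X.presheaf.stalk x) (F.presheaf.stalk x)) :=
      (Module.isClosed_support).isClosedEmbedding_subtypeVal.quasiSober
    have hkd : topologicalKrullDim (Module.support (X.presheaf.stalk x) (F.presheaf.stalk x)) =
        Module.supportDim (X.presheaf.stalk x) (F.presheaf.stalk x) := by
      rw [Module.supportDim, ← Order.krullDim_orderDual]
      exact Order.krullDim_eq_of_orderIso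
        { toEquiv := irreducibleSetEquivPoints.toEquiv.trans OrderDual.toDual
          map_rel_iff' := fun {a b} => (PrimeSpectrum.le_iff_specializes (irreducibleSetEquivPoints b).1
            (irreducibleSetEquivPoints a).1).trans ((subtype_specializes_iff (irreducibleSetEquivPoints b)
              (irreducibleSetEquivPoints a)).symm.trans irreducibleSetEquivPoints.map_rel_iff') }
    rw [← hkd]
    have hjem : Topology.IsEmbedding (fun Q : Module.support (X.presheaf.stalk x) (F.presheaf.stalk x) => j Q.1) :=
      j.isEmbedding.comp Topology.IsEmbedding.subtypeVal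
    have hr : Set.range (fun Q : Module.support (X.presheaf.stalk x) (F.presheaf.stalk x) => j Q.1) =
        {t : X | t ∈ CohB1.support F ∧ t ⤳ x} := by
      ext t
      constructor
      · rintro ⟨Q, rfl⟩
        exact ⟨(hmem Q.1).1 Q.2, (hj _).1 ⟨_, rfl⟩⟩
      · rintro ⟨ht, htx⟩
        obtain ⟨Q, rfl⟩ := (hj t).2 htx
        exact ⟨⟨Q, (hmem Q).2 ht⟩, rfl⟩
    exact IsHomeomorph.topologicalKrullDim_eq _ (hjem.toHomeomorph.trans (Homeomorph.setCongr hr)).isHomeomorph
  rw [hsupp, topDim_closure hdX h0X x, topDim_gen hdX h0X hY hξ hξx hmax, localDim_eq hdX h0X hY hx hξ hξx hmax]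
  exact_mod_cast (show (δX x).toNat + (δX ξ - δX x).toNat = (δX ξ).toNat by omega)

end Groth.Agent.S4889
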