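import Groth.Statements.S4891
import Groth.Agent.S0400
import Mathlib.RingTheory.Flat.FaithfullyFlat.Basic
import Mathlib.LinearAlgebra.TensorProduct.Tower

set_option autoImplicit false
universe u
open TensorProduct
open EGA43

namespace Groth.Agent.S4891

/-- Let A be a commutative ring, J a nilpotent ideal of A, B a commutative A-algebra and M a B-module.
If M is flat over A, M/JM is flat over B/JB, B/JB is flat over A/J and mM ≠ M for every maximal
ideal m of B containing JB, then B is flat over A. (Under the first two hypotheses M is also flat
over B; that implication is stated elsewhere and not repeated here.) -/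
theorem result {A B : Type u} [CommRing A] [CommRing B] [Algebra A B]
    (J : Ideal A) (hJ : IsNilpotent J) (M : Type u) [AddCommGroup M] [Module B M] [Module A M] [IsScalarTower A B M]
    (hc1 : Module.Flat A M)
    (hc2 : Module.Flat (B ⧸ J.map (algebraMap A B)) ((B ⧸ J.map (algebraMap A B)) ⊗[B] M))
    (hd1 : Module.Flat (A ⧸ J) ((A ⧸ J) ⊗[A] B))
    (hd2 : ∀ m : Ideal B, m.IsMaximal → J.map (algebraMap A B) ≤ m → (m • (⊤ : Submodule B M)) ≠ ⊤) :
    Module.Flat A B := by
  have hMB : Module.Flat B M := S0400.result (R := A) (S := B) J hJ hc2
  haveI : Module.FaithfullyFlat B M := { hMB with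
    submodule_ne_top := fun m hm => hd2 m hm (le_trans
      (fun x hx => by
        obtain ⟨N, hN⟩ := hJ
        have h : x ^ N ∈ (J.map (algebraMap A B)) ^ N := Ideal.pow_mem_pow hx N
        rw [← Ideal.map_pow, hN, Ideal.zero_eq_bot, Ideal.map_bot, Ideal.mem_bot] at h
        exact hm.isPrime.mem_of_pow_mem N (h ▸ m.zero_mem)) le_rfl) }
  rw [Module.Flat.iff_lTensor_injectiveₛ]
  intro P _ _ N
  letI : AddCommGroup P := Module.addCommMonoidToAddCommGroup A
  let φ : B ⊗[A] N →ₗ[B] B ⊗[A] P := N.subtype.baseChange B
  suffices Function.Injective φ from this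
  rw [← Module.FaithfullyFlat.lTensor_injective_iff_injective B M φ]
  let eN := TensorProduct.AlgebraTensorModule.cancelBaseChange A B B M N
  let eP := TensorProduct.AlgebraTensorModule.cancelBaseChange A B B M P
  have h1 : Function.Injective (N.subtype.lTensor M) :=
    Module.Flat.lTensor_preserves_injective_linearMap _ N.injective_subtype
  have h2 : ∀ t, eP (φ.lTensor M t) = N.subtype.lTensor M (eN t) := fun t => by
    induction t with
    | zero => simp
    | add x y hx hy => simp only [map_add, hx, hy]
    | tmul x y =>
      induction y with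
      | zero => simp
      | add a b ha hb => simp only [TensorProduct.tmul_add, map_add, ha, hb]
      | tmul b n => simp [φ, eN, eP]
  exact fun x y h => eN.injective (h1 (by rw [← h2, ← h2, h]))

end Groth.Agent.S4891
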