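import Groth.Statements.S4892
import Groth.Agent.Fibres16.NormFlat.Graded


set_option autoImplicit false
universe u
open TensorProduct
open EGA43

namespace Groth.Agent.S4892

open Groth.Agent.Fibres16

/-- Affine form: let A be a commutative ring, B a finitely presented A-algebra, J a finitely generated
ideal of B and M a finitely presented B-module; assume that every graded piece J^k / J^{k+1} of B
and every graded piece J^k M / J^{k+1} M of M is flat over A. Then the set W of primes q ⊇ J of B at
which M is normally flat along V(J) — every localisation (J^k M / J^{k+1} M)_q is flat over B/J — is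
open in V(J); equivalently the set of primes q such that J ⊆ q implies this condition is open in
Spec B. Flatness over B/J of the localised piece N_q (a module killed by J) is expressed as flatness
of (B/J) ⊗_B N_q. -/
theorem result {A B : Type u} [CommRing A] [CommRing B] [Algebra A B]
    [Algebra.FinitePresentation A B] (J : Ideal B) (hJ : J.FG)
    (M : Type u) [AddCommGroup M] [Module B M] [Module A M] [IsScalarTower A B M] [Module.FinitePresentation B M]
    (hgrB : ∀ k : ℕ, Module.Flat A (↥(J ^ k) ⧸ Submodule.comap (J ^ k).subtype (J ^ (k + 1))))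
    (hgrM : ∀ k : ℕ, Module.Flat A
      (↥(J ^ k • (⊤ : Submodule B M)) ⧸ Submodule.comap (J ^ k • (⊤ : Submodule B M)).subtype (J ^ (k + 1) • ⊤))) :
    IsOpen {q : PrimeSpectrum B | J ≤ q.asIdeal → ∀ k : ℕ,
      Module.Flat (B ⧸ J) ((B ⧸ J) ⊗[B] LocalizedModule q.asIdeal.primeCompl
        (↥(J ^ k • (⊤ : Submodule B M)) ⧸ Submodule.comap (J ^ k • (⊤ : Submodule B M)).subtype (J ^ (k + 1) • ⊤)))} := by
  classical
  -- variables: generators of `B` (weight 0) and of `J` (weight 1)
  obtain ⟨n, π₀, hπ₀, -⟩ := (inferInstance : Algebra.FinitePresentation A B).out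
  obtain ⟨g, hg⟩ := hJ
  let e : g ≃ Fin g.card := g.equivFin
  let N := n + g.card
  let w : Fin N → ℕ := Fin.addCases (fun _ => 0) (fun _ => 1)
  let val : Fin N → B := Fin.addCases (fun i => π₀ (MvPolynomial.X i)) (fun j => (e.symm j : B))
  let π : MvPolynomial (Fin N) A →ₐ[A] B := MvPolynomial.aeval val
  have hπ : Function.Surjective π := by
    intro b
    obtain ⟨p, rfl⟩ := hπ₀ b
    refine ⟨MvPolynomial.rename (Fin.castAdd g.card) p, ?_⟩
    show MvPolynomial.aeval val (MvPolynomial.rename (Fin.castAdd g.card) p) = π₀ p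
    rw [MvPolynomial.aeval_rename]
    conv_rhs => rw [MvPolynomial.aeval_unique π₀]
    congr 2
    funext i
    simp [val]
  have hπJ : (NormFlat.idl w A).map π = J := by
    rw [NormFlat.idl, Ideal.map_span, ← hg]
    congr 1
    ext b
    constructor
    · rintro ⟨-, ⟨i, hi, rfl⟩, rfl⟩
      show MvPolynomial.aeval val (MvPolynomial.X i) ∈ _
      rw [MvPolynomial.aeval_X]
      induction i using Fin.addCases with
      | left i => exact absurd (by simp [w]) hi
      | right j => simp [val]
    · intro hb
      refine ⟨MvPolynomial.X (Fin.natAdd n (e ⟨b, hb⟩)), ⟨_, by simp [w], rfl⟩, ?_⟩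
      show MvPolynomial.aeval val _ = b
      simp [val]
  -- a Noetherian model of the presentation
  let P := MvPolynomial (Fin N) A
  letI : Algebra P B := π.toRingHom.toAlgebra
  haveI : IsScalarTower A P B := IsScalarTower.of_algebraMap_eq fun a => (π.commutes a).symm
  letI : Module P M := Module.compHom M π.toRingHom
  haveI : IsScalarTower P B M := IsScalarTower.of_algebraMap_smul fun _ _ => rfl
  haveI : IsScalarTower A P M := IsScalarTower.of_algebraMap_smul fun a m => by
    show π (algebraMap A P a) • m = a • m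
    rw [π.commutes, algebraMap_smul]
  haveI : Module.FinitePresentation P B :=
    Module.finitePresentation_of_surjective (Algebra.linearMap P B) hπ (by
      rw [show LinearMap.ker (Algebra.linearMap P B) = RingHom.ker π.toRingHom from by ext x; rfl]
      exact Algebra.FinitePresentation.ker_fG_of_surjective π hπ)
  haveI : Module.FinitePresentation P M := Module.FinitePresentation.trans P M B
  obtain ⟨r, L, ε, G, hG⟩ := Module.FinitePresentation.exists_fin P M
  let c : Finset A := G.biUnion fun v => Finset.univ.biUnion fun i => (v i).coeffs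
  let R₀ := Algebra.adjoin ℤ (c : Set A)
  haveI : IsNoetherianRing R₀ := isNoetherianRing_of_fg ⟨c, rfl⟩
  have hlift : ∀ v ∈ G, ∃ v₀ : FlatOpen.Vec N r R₀, FlatOpen.mapVec A v₀ = v := by
    intro v hv
    have : ∀ i, ∃ u : MvPolynomial (Fin N) R₀, MvPolynomial.map (algebraMap R₀ A) u = v i :=
      fun i => MvPolynomial.mem_range_map_iff_coeffs_subset.2 fun x hx =>
        ⟨⟨x, Algebra.subset_adjoin (Finset.mem_biUnion.2
          ⟨v, hv, Finset.mem_biUnion.2 ⟨i, Finset.mem_univ i, hx⟩⟩)⟩, rfl⟩
    choose u hu using this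
    exact ⟨u, funext hu⟩
  choose! v₀ hv₀ using hlift
  let Z₀ : Submodule (MvPolynomial (Fin N) R₀) (FlatOpen.Vec N r R₀) :=
    Submodule.span _ (v₀ '' (G : Set (FlatOpen.Vec N r A)))
  have hZ : FlatOpen.ext A Z₀ = L := by
    rw [FlatOpen.ext_span, Set.image_image, ← hG]
    exact congrArg _ ((Set.image_congr hv₀).trans (Set.image_id' _))
  let φ : FlatOpen.Vec N r A →ₗ[A] M := (ε.symm.toLinearMap ∘ₗ L.mkQ).restrictScalars A
  have h : NormFlat.IsWtPres w J π φ :=
    { wt_le := fun i => by induction i using Fin.addCases <;> simp [w]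
      surj := hπ
      map_idl := hπJ
      surj' := ε.symm.surjective.comp L.mkQ_surjective
      smul := fun p v => map_smul (ε.symm.toLinearMap ∘ₗ L.mkQ) p v }
  have hker : NormFlat.kerP h = FlatOpen.ext A Z₀ := by
    rw [hZ]
    ext v
    show ε.symm (Submodule.Quotient.mk v) = 0 ↔ _
    rw [ε.symm.map_eq_zero_iff, Submodule.Quotient.mk_eq_zero]
  have hgr : NormFlat.GrFlat w (NormFlat.kerP h) := h.grFlat hgrM
  rw [hker] at hgr
  obtain ⟨d, hd⟩ := NormFlat.exists_bounded h.wt_le Z₀ hgr
  have hini : (NormFlat.ini h).FG :=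
    h.fg_ini (c := d) (hker ▸ hd) (fun m => hker ▸ NormFlat.fg_inf_fil Z₀ hgr m)
  -- the condition at a prime of `V(J)`
  have hpt : ∀ (qbar : PrimeSpectrum (B ⧸ J)) (k : ℕ),
      Module.Flat (B ⧸ J) ((B ⧸ J) ⊗[B] LocalizedModule
          (PrimeSpectrum.comap (Ideal.Quotient.mk J) qbar).asIdeal.primeCompl (FlatSect.piece J M k)) ↔
        FlatCA.FlatAt (B ⧸ J) qbar.asIdeal (NormFlat.Gr J M k) := by
    intro qbar k
    set U := (PrimeSpectrum.comap (Ideal.Quotient.mk J) qbar).asIdeal.primeCompl
    let g := TensorProduct.AlgebraTensorModule.lTensor (B ⧸ J) (B ⧸ J)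
      (LocalizedModule.mkLinearMap U (FlatSect.piece J M k))
    haveI : IsLocalizedModule U (g.restrictScalars B) := by
      have e : g.restrictScalars B =
          (TensorProduct.comm B (LocalizedModule U (FlatSect.piece J M k)) (B ⧸ J)).toLinearMap ∘ₗ
            TensorProduct.AlgebraTensorModule.rTensor B (B ⧸ J)
              (LocalizedModule.mkLinearMap U (FlatSect.piece J M k)) ∘ₗ
            (TensorProduct.comm B (B ⧸ J) (FlatSect.piece J M k)).toLinearMap := by
        ext; simp [g]
      rw [e]
      infer_instance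
    have hU : Algebra.algebraMapSubmonoid (B ⧸ J) U = qbar.asIdeal.primeCompl := by
      ext x
      constructor
      · rintro ⟨b, hb, rfl⟩
        exact hb
      · intro hx
        obtain ⟨b, rfl⟩ := Ideal.Quotient.mk_surjective x
        exact ⟨b, hx, rfl⟩
    haveI h1 := IsLocalizedModule.of_restrictScalars U g
    rw [hU] at h1
    have e := IsLocalizedModule.iso qbar.asIdeal.primeCompl g
    exact ⟨fun _ => Module.Flat.of_linearEquiv e, fun (_ : Module.Flat (B ⧸ J)
      (LocalizedModule qbar.asIdeal.primeCompl (NormFlat.Gr J M k))) => Module.Flat.of_linearEquiv e.symm⟩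
  have hbad : IsClosed (PrimeSpectrum.comap (Ideal.Quotient.mk J) ''
      {qbar : PrimeSpectrum (B ⧸ J) | ∀ k, FlatCA.FlatAt (B ⧸ J) qbar.asIdeal (NormFlat.Gr J M k)}ᶜ) :=
    (PrimeSpectrum.isClosedEmbedding_comap_of_surjective _ _ Ideal.Quotient.mk_surjective).isClosedMap _
      (h.isOpen_pieces_flat hini).isClosed_compl
  convert hbad.isOpen_compl using 1
  ext q
  constructor
  · rintro hq ⟨qbar, hqbar, rfl⟩
    refine hqbar fun k => (hpt qbar k).1 (hq ?_ k)
    intro x hx
    show Ideal.Quotient.mk J x ∈ qbar.asIdeal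
    rw [Ideal.Quotient.eq_zero_iff_mem.2 hx]
    exact zero_mem _
  · intro hq hJq k
    obtain ⟨qbar, rfl⟩ : q ∈ Set.range (PrimeSpectrum.comap (Ideal.Quotient.mk J)) := by
      rw [range_comap_of_surjective _ _ Ideal.Quotient.mk_surjective, Ideal.mk_ker]
      exact hJq
    exact (hpt qbar k).2 (not_not.1 (fun hn => hq ⟨qbar, hn, rfl⟩) k)

end Groth.Agent.S4892
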