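import Groth.Statements.S4894
import Groth.Agent.QuasiHomeo.Basic

set_option autoImplicit false
universe u
open EGA43

namespace Groth.Agent.S4894
open Set Topology TopologicalSpace Groth.Agent.QuasiHomeo

/-- Let f : X → Y be continuous and (W_i) an open covering of Y such that every restriction f⁻¹(W_i) →
W_i is a quasi-homeomorphism (taking preimages is a bijection on open subsets). Then f is a
quasi-homeomorphism. -/
theorem result {X Y : Type u} [TopologicalSpace X]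
    [TopologicalSpace Y] (f : X → Y) (hf : Continuous f) {ι : Type u} (W : ι → Set Y)
    (hWo : ∀ i, IsOpen (W i)) (hWc : ⋃ i, W i = Set.univ)
    (h : ∀ i, ((∀ U₁ U₂ : Set ↥(W i), IsOpen U₁ → IsOpen U₂ → ((W i).restrictPreimage f) ⁻¹' U₁ = ((W i).restrictPreimage f) ⁻¹' U₂ → U₁ = U₂) ∧ (∀ V : Set ↥(f ⁻¹' W i), IsOpen V → ∃ U : Set ↥(W i), IsOpen U ∧ ((W i).restrictPreimage f) ⁻¹' U = V))) :
    ((∀ U₁ U₂ : Set Y, IsOpen U₁ → IsOpen U₂ → (f) ⁻¹' U₁ = (f) ⁻¹' U₂ → U₁ = U₂) ∧ (∀ V : Set X, IsOpen V → ∃ U : Set Y, IsOpen U ∧ (f) ⁻¹' U = V)) := by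
  refine ⟨fun U₁ U₂ h₁ h₂ he => ?_, fun V hV => ?_⟩
  · have key : ∀ i, (Subtype.val ⁻¹' U₁ : Set (W i)) = Subtype.val ⁻¹' U₂ := fun i =>
      (h i).1 _ _ (h₁.preimage continuous_subtype_val) (h₂.preimage continuous_subtype_val) (by
        ext x
        exact Set.ext_iff.mp he x.1)
    ext y
    obtain ⟨i, hi⟩ := mem_iUnion.mp (hWc.symm ▸ mem_univ y : y ∈ ⋃ i, W i)
    exact Set.ext_iff.mp (key i) ⟨y, hi⟩
  · choose U hU hUV using fun i => (h i).2 (Subtype.val ⁻¹' V) (hV.preimage continuous_subtype_val)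
    refine ⟨⋃ i, Subtype.val '' U i, isOpen_iUnion fun i =>
      (hWo i).isOpenMap_subtype_val _ (hU i), ?_⟩
    ext x
    constructor
    · intro hx
      obtain ⟨i, ⟨y, hy⟩, hyU, (hyx : y = f x)⟩ := mem_iUnion.mp hx
      subst hyx
      exact (Set.ext_iff.mp (hUV i) ⟨x, hy⟩).mp hyU
    · intro hx
      obtain ⟨i, hi⟩ := mem_iUnion.mp (hWc.symm ▸ mem_univ (f x) : f x ∈ ⋃ i, W i)
      exact mem_iUnion.mpr ⟨i, ⟨f x, hi⟩, (Set.ext_iff.mp (hUV i) ⟨x, hi⟩).mpr hx, rfl⟩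


end Groth.Agent.S4894
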