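import Groth.Statements.S4896
import Groth.Agent.Fibres16.RectDepth.Jacobson

set_option autoImplicit false
universe u
open CategoryTheory AlgebraicGeometry
open EGA43 Groth.Agent Groth.Agent.Fibres16.RectDepth

namespace Groth.Agent.S4896

/-- Let S be locally Noetherian, Jacobson and regular with equidimensional irreducible components, g : X
⟶ S locally of finite type and F a coherent O_X-module. For every point x of X the rectified depth
prof*_x(F) = prof(F_x) + dim cl{x} is the unique n (a natural number or ∞) such that, for some open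
neighbourhood U of x, prof(F_{x'}) = n for every point x' of U ∩ cl{x} which is closed in U. -/
theorem result {X S : Scheme.{u}} [IsLocallyNoetherian S] [JacobsonSpace S]
    (hreg : ∀ s : S, IsRegularLocalRing ↑(S.presheaf.stalk s))
    (h3 : ∀ S' ∈ irreducibleComponents (S : Type u), ∀ s ∈ S', IsClosed ({s} : Set S) →
      topologicalKrullDim (↥S' : Type u) = topologicalKrullDim ↥{t : S | t ∈ S' ∧ t ⤳ s})
    (g : X ⟶ S) [LocallyOfFiniteType g] (F : X.Modules) (hF : Coh.IsCoh F) (x : X) :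
    letI pstar : WithBot ℕ∞ :=
      ((LocCoh.depth ↑(X.presheaf.stalk x) ↑(F.presheaf.stalk x) : ℕ∞) : WithBot ℕ∞) +
        topologicalKrullDim ↥(closure ({x} : Set X))
    ∀ n : ℕ∞,
      (∃ U : X.Opens, x ∈ U ∧ ∀ x' : ↥U, (x' : X) ∈ closure ({x} : Set X) → IsClosed ({x'} : Set ↥U) →
        LocCoh.depth ↑(X.presheaf.stalk (x' : X)) ↑(F.presheaf.stalk (x' : X)) = n) ↔
      ((n : WithBot ℕ∞) = pstar) := by
  obtain ⟨e, he, he0, hopen⟩ := exists_rect hreg h3 g F hF
  haveI : JacobsonSpace X := LocallyOfFiniteType.jacobsonSpace g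
  let P : X → ℕ∞ := fun y => LocCoh.depth (X.presheaf.stalk y) (F.presheaf.stalk y) + (e y : ℕ∞)
  have hpstar : ((LocCoh.depth ↑(X.presheaf.stalk x) ↑(F.presheaf.stalk x) : ℕ∞) : WithBot ℕ∞) +
      topologicalKrullDim ↥(closure ({x} : Set X)) = (P x : WithBot ℕ∞) := by
    rw [he, ← WithBot.coe_add]
  have hclosed : ∀ y : X, y ∈ closure ({x} : Set X) → IsClosed ({y} : Set X) →
      LocCoh.depth (X.presheaf.stalk y) (F.presheaf.stalk y) = P y ∧ P y ≤ P x := fun y hy hc => by
    refine ⟨by simp only [P, he0 y hc, Nat.cast_zero, add_zero], ?_⟩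
    exact (specializes_iff_mem_closure.2 hy).mem_open (hopen (P y)) (show P y ≤ P y from le_rfl)
  intro n
  rw [hpstar, WithBot.coe_inj]
  constructor
  · rintro ⟨U, hxU, hU⟩
    have hop : IsOpen ((U : Set X) ∩ {y | P x ≤ P y}) := U.2.inter (hopen (P x))
    obtain ⟨y, ⟨⟨hyU, hy⟩, hyx⟩, hyc⟩ := nonempty_inter_closedPoints
      (Z := ((U : Set X) ∩ {y | P x ≤ P y}) ∩ closure ({x} : Set X))
      ⟨x, ⟨hxU, show P x ≤ P x from le_rfl⟩, subset_closure rfl⟩
      (hop.isLocallyClosed.inter isClosed_closure.isLocallyClosed)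
    obtain ⟨h1, h2⟩ := hclosed y hyx (mem_closedPoints_iff.1 hyc)
    have h3' : IsClosed ({(⟨y, hyU⟩ : ↥U)} : Set ↥U) :=
      mem_closedPoints_iff.1 (preimage_closedPoints_subset Subtype.val_injective continuous_subtype_val hyc)
    rw [← hU ⟨y, hyU⟩ hyx h3']
    exact h1.trans (le_antisymm h2 hy)
  · rintro rfl
    refine ⟨⟨{y | P x ≤ P y}, hopen (P x)⟩, show P x ≤ P x from le_rfl, fun y hyx hyc => ?_⟩
    have hc : IsClosed ({(y : X)} : Set X) := mem_closedPoints_iff.1 (by
      have := (IsOpen.isOpenEmbedding_subtypeVal (hopen (P x))).preimage_closedPoints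
      exact (this.ge (mem_closedPoints_iff.2 hyc) : y ∈ Subtype.val ⁻¹' closedPoints X))
    obtain ⟨h1, h2⟩ := hclosed y hyx hc
    exact h1.trans (le_antisymm h2 y.2)

end Groth.Agent.S4896
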