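import Groth.Statements.S4897
import Groth.Agent.QuasiHomeo.Basic

set_option autoImplicit false
universe u
open EGA43

namespace Groth.Agent.S4897
open Set Topology TopologicalSpace Groth.Agent.QuasiHomeo

/-- Let f : X → Y be a quasi-homeomorphism, i.e. a continuous map such that U ↦ f⁻¹(U) is a bijection
from the open subsets of Y onto the open subsets of X. Then Z ↦ f⁻¹(Z) induces bijections from the
locally closed (resp. constructible, resp. locally constructible) subsets of Y onto those of X. -/
theorem result {X Y : Type u}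
    [TopologicalSpace X] [TopologicalSpace Y] (f : X → Y) (hf : Continuous f)
    (hq : Function.Bijective (fun U : TopologicalSpace.Opens Y =>
      (⟨f ⁻¹' (U : Set Y), U.isOpen.preimage hf⟩ : TopologicalSpace.Opens X))) :
    Function.Bijective (fun Z : {Z : Set Y // IsLocallyClosed Z} =>
        (⟨f ⁻¹' Z.1, Z.2.preimage hf⟩ : {Z : Set X // IsLocallyClosed Z})) ∧
      Set.BijOn (fun Z : Set Y => f ⁻¹' Z) {Z | Topology.IsConstructible Z} {Z | Topology.IsConstructible Z} ∧
      Set.BijOn (fun Z : Set Y => f ⁻¹' Z) {Z | Topology.IsLocallyConstructible Z}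
        {Z | Topology.IsLocallyConstructible Z} := by
  have h := QH.of_bijective hf hq
  refine ⟨⟨fun a b hab => ?_, fun b => ?_⟩, ⟨fun Z hZ => h.isConstructible_preimage hZ, ?_, ?_⟩,
    ⟨fun Z hZ => h.isLocallyConstructible_preimage hZ, ?_, ?_⟩⟩
  · exact Subtype.ext (h.preimage_injective ⟨isLCO_of_isLocallyClosed a.2,
      isLCO_compl_of_isLocallyClosed a.2⟩ ⟨isLCO_of_isLocallyClosed b.2,
      isLCO_compl_of_isLocallyClosed b.2⟩ (congrArg Subtype.val hab))
  · obtain ⟨M, hM, hMb⟩ := h.exists_lc b.2
    exact ⟨⟨M, hM⟩, Subtype.ext hMb⟩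
  · exact fun a ha b hb hab => h.preimage_injective (isLCO_of_isConstructible ha)
      (isLCO_of_isConstructible hb) hab
  · exact fun b hb => h.exists_constructible hb
  · exact fun a ha b hb hab => h.preimage_injective (isLCO_of_isLocallyConstructible ha)
      (isLCO_of_isLocallyConstructible hb) hab
  · exact fun b hb => h.exists_locallyConstructible hb


end Groth.Agent.S4897
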