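import Groth.Statements.S4898
import Groth.Agent.Fibres16.FlatIdeal
import Groth.Agent.FlatOpen.Descend
import Groth.Agent.FlatSect.Basic
import Groth.Agent.LimTop.PullSec
import Groth.Agent.Thick.Unram
import Groth.Agent.Props.QFP
import Mathlib.RingTheory.Noetherian.Nilpotent

set_option autoImplicit false
universe u
open CategoryTheory AlgebraicGeometry
open EGA43 TensorProduct

namespace Groth.Agent.S4898

open CategoryTheory.Limits in
/-- Over an affine irreducible base, tested on affine base changes, to which the general statement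
reduces: let A be a commutative ring whose spectrum is irreducible, f : X ⟶ Spec A a morphism of
finite presentation and F a quasi-coherent O_X-module of finite presentation. Then there are an
element h of A which is not nilpotent (so that U = Spec A_h is a nonempty open subset of Spec A) and
a finitely generated ideal J of A_h contained in the nilradical (so that the closed subscheme Z =
V(J) of U, of finite presentation over U, has the same underlying space as U) such that for every
A_h-algebra A' the pullback of F to X ×_{Spec A} Spec A' is flat over Spec A' if and only if J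
generates the zero ideal of A', i.e. if and only if Spec A' ⟶ U factors through Z. (The published
statement also asserts that, for a finite affine open cover (W_i) of X, U can be chosen so that the
sections of the pullback of F over each W_i ×_{Spec A} Spec A' form a free A'-module whenever Spec
A' ⟶ U factors through Z; this row omits that assertion.) -/
theorem result {A : Type u} [CommRing A] [IrreducibleSpace (PrimeSpectrum A)]
    {X : Scheme.{u}} (f : X ⟶ Spec (CommRingCat.of A))
    [LocallyOfFinitePresentation f] [QuasiCompact f] [QuasiSeparated f]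
    (F : X.Modules) [Coh.IsQCoh F] (hF : CohB1.IsFP F) :
    ∃ (h : A) (_ : ¬ IsNilpotent h) (J : Ideal (Localization.Away h)) (_ : J.FG)
      (_ : J ≤ nilradical (Localization.Away h)),
      ∀ (A' : Type u) [CommRing A'] [Algebra (Localization.Away h) A'],
        letI g : Spec (CommRingCat.of A') ⟶ Spec (CommRingCat.of A) :=
          Spec.map (CommRingCat.ofHom ((algebraMap (Localization.Away h) A').comp (algebraMap A (Localization.Away h))))
        (FlatMod.IsFlatOver (pullback.snd f g) ((Scheme.Modules.pullback (pullback.fst f g)).obj F) ↔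
          Ideal.map (algebraMap (Localization.Away h) A') J = ⊥) := by
  classical
  haveI : CompactSpace X := QuasiCompact.compactSpace_of_compactSpace f
  have hchoose : ∀ x : X, ∃ V : X.Opens, IsAffineOpen V ∧ x ∈ V := fun x => by
    obtain ⟨V, hV, hxV, -⟩ := exists_isAffineOpen_mem_and_subset (U := (⊤ : X.Opens)) (x := x) trivial
    exact ⟨V, hV, hxV⟩
  choose V₁ hV₁ hxV₁ using hchoose
  obtain ⟨t, ht⟩ := isCompact_univ.elim_finite_subcover (fun x => (V₁ x : Set X)) (fun x => (V₁ x).2)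
    fun x _ => Set.mem_iUnion.mpr ⟨x, hxV₁ x⟩
  let V : t → X.Opens := fun i => V₁ i.1
  have hV : ∀ i : t, IsAffineOpen (V i) := fun i => hV₁ i.1
  let ε := (Scheme.ΓSpecIso (CommRingCat.of A))
  have he : ∀ i : t, V i ≤ f ⁻¹ᵁ ⊤ := fun i => le_top
  letI algB : ∀ i : t, Algebra A Γ(X, V i) := fun i => (ε.inv ≫ f.appLE ⊤ (V i) (he i)).hom.toAlgebra
  letI modM : ∀ i : t, Module A Γ(F, V i) := fun i => Module.compHom _ (ε.inv ≫ f.appLE ⊤ (V i) (he i)).hom
  haveI : ∀ i : t, IsScalarTower A Γ(X, V i) Γ(F, V i) := fun i =>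
    IsScalarTower.of_algebraMap_smul fun _ _ => rfl
  have hbij : Function.Bijective ε.inv.hom := ConcreteCategory.bijective_of_isIso ε.inv
  haveI hfpA : ∀ i : t, Algebra.FinitePresentation A Γ(X, V i) := fun i => by
    have h1 : (f.appLE ⊤ (V i) (he i)).hom.FinitePresentation :=
      f.finitePresentation_appLE (isAffineOpen_top _) (hV i) (he i)
    exact h1.comp (RingHom.FinitePresentation.of_bijective hbij)
  haveI : ∀ i : t, Module.FinitePresentation Γ(X, V i) Γ(F, V i) := fun i =>
    (Props.QFP.isFP_iff F).1 hF (V i) (hV i)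
  choose n r R₁ Z₁ π E hR₁ hπ hE using fun i : t =>
    FlatOpen.exists_presentation_model A Γ(X, V i) Γ(F, V i)
  let R₀ : Subalgebra ℤ A := Finset.univ.sup R₁
  have hR₀ : R₀.FG := Finset.sup_induction (p := fun S : Subalgebra ℤ A => S.FG) Subalgebra.fg_bot
    (fun _ ha _ hb => ha.sup hb) fun i _ => hR₁ i
  haveI : IsNoetherianRing R₀ := isNoetherianRing_of_fg hR₀
  letI algR : ∀ i : t, Algebra (R₁ i) R₀ := fun i =>
    (Subalgebra.inclusion (Finset.le_sup (f := R₁) (Finset.mem_univ i))).toRingHom.toAlgebra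
  haveI : ∀ i : t, IsScalarTower (R₁ i) R₀ A := fun i => IsScalarTower.of_algebraMap_eq fun _ => rfl
  let Z : ∀ i : t, Submodule (MvPolynomial (Fin (n i)) R₀) (FlatOpen.Vec (n i) (r i) R₀) :=
    fun i => FlatOpen.ext R₀ (Z₁ i)
  let P₀ : Ideal R₀ := (nilradical A).comap (algebraMap R₀ A)
  haveI : (nilradical A).IsPrime := by
    obtain ⟨p, hp, hgen⟩ : ∃ p : PrimeSpectrum A, p = genericPoint (PrimeSpectrum A) ∧ ∀ q, p ⤳ q :=
      ⟨_, rfl, genericPoint_specializes⟩
    have : nilradical A = p.asIdeal := le_antisymm (nilradical_le_prime p.asIdeal) (by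
      rw [nilradical_eq_sInf]
      exact le_sInf fun q hq => (PrimeSpectrum.le_iff_specializes p ⟨q, hq⟩).2 (hgen _))
    rw [this]
    exact p.2
  haveI : P₀.IsPrime := inferInstanceAs ((nilradical A).comap (algebraMap R₀ A)).IsPrime
  have hP₀ : IsNilpotent P₀ := (Ideal.FG.isNilpotent_iff_le_nilradical (IsNoetherian.noetherian P₀)).2
    fun x hx => (IsNilpotent.map_iff (f := algebraMap R₀ A) Subtype.val_injective).1 hx
  haveI : Nontrivial (R₀ ⧸ P₀) := Ideal.Quotient.nontrivial_iff.2 (Ideal.IsPrime.ne_top ‹_›)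
  obtain ⟨fbar, hf, hfree⟩ := FlatMor.Strat.exists_freeAt (R := R₀ ⧸ P₀) Z
  obtain ⟨a, rfl⟩ := Ideal.Quotient.mk_surjective fbar
  let h : A := algebraMap R₀ A a
  have hh : ¬ IsNilpotent h := fun hn => hf (Ideal.Quotient.eq_zero_iff_mem.2 hn)
  let R := Localization.Away a
  let N : Ideal R := P₀.map (algebraMap R₀ R)
  have hN : IsNilpotent N := by
    obtain ⟨k, hk⟩ := hP₀
    exact ⟨k, by rw [← Ideal.map_pow, hk, Ideal.zero_eq_bot, Ideal.map_bot, Ideal.zero_eq_bot]⟩
  letI : Algebra (R₀ ⧸ P₀) (R ⧸ N) := (Ideal.quotientMap N (algebraMap R₀ R) Ideal.le_comap_map).toAlgebra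
  haveI : IsScalarTower R₀ (R₀ ⧸ P₀) (R ⧸ N) :=
    IsScalarTower.of_algebraMap_eq (R := R₀) (S := R₀ ⧸ P₀) (A := R ⧸ N) fun _ => rfl
  have hfreeN : ∀ i : t, Module.Free (R ⧸ N)
      ((R ⧸ N) ⊗[R] (R ⊗[R₀] (FlatOpen.Vec (n i) (r i) R₀ ⧸ Z i))) := fun i => by
    have hu : IsUnit (algebraMap (R₀ ⧸ P₀) (R ⧸ N) (Ideal.Quotient.mk P₀ a)) :=
      (IsLocalization.Away.algebraMap_isUnit (S := R) a).map (Ideal.Quotient.mk N)
    haveI := Fibres16.FlatIdeal.free_tensor_of_freeAt (A' := R ⧸ N) (Z i) _ hu (hfree i)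
    exact Module.Free.of_equiv
      (TensorProduct.AlgebraTensorModule.cancelBaseChange R₀ R (R ⧸ N) (R ⧸ N) _).symm
  choose J hJN hJ using fun i : t =>
    haveI := hfreeN i
    Fibres16.FlatIdeal.exists_flattening_ideal N hN (R ⊗[R₀] (FlatOpen.Vec (n i) (r i) R₀ ⧸ Z i))
  let Ah := Localization.Away h
  let κ : R →+* Ah := IsLocalization.Away.lift (S := R)
    (g := (algebraMap A Ah).comp (algebraMap R₀ A)) a (IsLocalization.Away.algebraMap_isUnit (S := Ah) h)
  refine ⟨h, hh, (⨆ i, J i).map κ, Ideal.FG.map (IsNoetherian.noetherian _) κ, ?_, fun A' _ _ => ?_⟩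
  · refine (Ideal.map_mono (iSup_le hJN)).trans ?_
    rw [Ideal.map_map, Ideal.map_le_iff_le_comap]
    intro x hx
    show IsNilpotent (κ (algebraMap R₀ R x))
    rw [IsLocalization.Away.lift_eq]
    exact IsNilpotent.map hx (algebraMap A Ah)
  let g : Spec (CommRingCat.of A') ⟶ Spec (CommRingCat.of A) :=
    Spec.map (CommRingCat.ofHom ((algebraMap (Localization.Away h) A').comp (algebraMap A (Localization.Away h))))
  show FlatMod.IsFlatOver (pullback.snd f g) ((Scheme.Modules.pullback (pullback.fst f g)).obj F) ↔ _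
  let A₁ := Γ(Spec (CommRingCat.of A'), g ⁻¹ᵁ ⊤)
  let εA' : A' →+* A₁ := (Scheme.ΓSpecIso (CommRingCat.of A')).inv.hom
  have hεA' : Function.Bijective εA' :=
    ConcreteCategory.bijective_of_isIso (Scheme.ΓSpecIso (CommRingCat.of A')).inv
  letI : Algebra A A₁ := (ε.inv ≫ g.app ⊤).hom.toAlgebra
  letI : Algebra R A₁ := (εA'.comp ((algebraMap Ah A').comp κ)).toAlgebra
  haveI : IsScalarTower R₀ A₁ A₁ := IsScalarTower.right
  have hnat : ∀ b : A, algebraMap A A₁ b = εA' (algebraMap Ah A' (algebraMap A Ah b)) := fun b =>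
    (congrArg (fun φ => φ.hom b) (Scheme.ΓSpecIso_inv_naturality
      (CommRingCat.ofHom ((algebraMap Ah A').comp (algebraMap A Ah))))).symm
  haveI : IsScalarTower R₀ R A₁ := IsScalarTower.of_algebraMap_eq fun b => by
    show algebraMap A A₁ (algebraMap R₀ A b) = εA' (algebraMap Ah A' (κ (algebraMap R₀ R b)))
    rw [IsLocalization.Away.lift_eq, hnat]
    rfl
  have hX' : IsAffineHom g := inferInstance
  haveI : IsAffineHom (pullback.fst f g) := MorphismProperty.pullback_fst _ _ hX'
  have hW : ∀ i : t, IsAffineOpen (pullback.fst f g ⁻¹ᵁ V i) := fun i => (hV i).preimage _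
  have he' : ∀ i : t, pullback.fst f g ⁻¹ᵁ V i ≤ pullback.snd f g ⁻¹ᵁ (g ⁻¹ᵁ ⊤) := fun i => le_top
  let F' := (Scheme.Modules.pullback (pullback.fst f g)).obj F
  letI modF : ∀ i : t, Module A₁ Γ(F', pullback.fst f g ⁻¹ᵁ V i) := fun i =>
    Module.compHom _ ((pullback.snd f g).appLE _ _ (he' i)).hom
  have hkey : ∀ i : t, Module.Flat A₁ Γ(F', pullback.fst f g ⁻¹ᵁ V i) ↔
      Ideal.map (algebraMap R A₁) (J i) = ⊥ := by
    intro i
    let W := pullback.fst f g ⁻¹ᵁ V i
    letI : Algebra A₁ Γ(pullback f g, W) := ((pullback.snd f g).appLE _ _ (he' i)).hom.toAlgebra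
    letI : Algebra Γ(X, V i) Γ(pullback f g, W) := ((pullback.fst f g).appLE (V i) W le_rfl).hom.toAlgebra
    letI : Algebra A Γ(pullback f g, W) :=
      ((algebraMap A₁ Γ(pullback f g, W)).comp (algebraMap A A₁)).toAlgebra
    haveI : IsScalarTower A A₁ Γ(pullback f g, W) := IsScalarTower.of_algebraMap_eq fun _ => rfl
    obtain ⟨e'', hpush⟩ := Thick.Unram.isPushout_appLE (IsPullback.of_hasPullback f g)
      (isAffineOpen_top _) (hV i) (he i)
    haveI : IsScalarTower A Γ(X, V i) Γ(pullback f g, W) := IsScalarTower.of_algebraMap_eq fun b => by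
      show ((pullback.snd f g).appLE _ _ (he' i)).hom (g.app ⊤ (ε.inv b)) =
        (pullback.fst f g).appLE (V i) W le_rfl (f.appLE ⊤ (V i) (he i) (ε.inv b))
      rw [← Scheme.Hom.app_eq_appLE]
      exact (congrArg (fun φ => φ.hom (ε.inv b)) hpush.w).symm
    haveI : Algebra.IsPushout A A₁ Γ(X, V i) Γ(pullback f g, W) := by
      rw [← CommRingCat.isPushout_iff_isPushout]
      refine hpush.flip.of_iso ε (Iso.refl _) (Iso.refl _) (Iso.refl _) ?_ ?_ ?_ ?_
      · simp only [RingHom.algebraMap_toAlgebra, Iso.refl_hom, Category.comp_id]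
        exact (Iso.hom_inv_id_assoc ε _).symm
      · simp only [RingHom.algebraMap_toAlgebra, Iso.refl_hom, Category.comp_id]
        exact (Iso.hom_inv_id_assoc ε _).symm
      · simp only [RingHom.algebraMap_toAlgebra, Iso.refl_hom, Category.comp_id, Category.id_comp]
        rfl
      · simp only [RingHom.algebraMap_toAlgebra, Iso.refl_hom, Category.comp_id, Category.id_comp,
          Scheme.Hom.app_eq_appLE]
        rfl
    letI : Module Γ(X, V i) Γ(F', W) := LimTop.secModule (pullback.fst f g) F le_rfl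
    haveI : IsScalarTower Γ(X, V i) Γ(pullback f g, W) Γ(F', W) :=
      IsScalarTower.of_algebraMap_smul fun _ _ => rfl
    haveI : IsScalarTower A₁ Γ(pullback f g, W) Γ(F', W) :=
      IsScalarTower.of_algebraMap_smul fun _ _ => rfl
    have hbc := LimTop.isBaseChange_unitSec (pullback.fst f g) F le_rfl (hV i) (hW i)
    let e₁ : A₁ ⊗[A] Γ(F, V i) ≃ₗ[A₁] Γ(F', W) :=
      (Algebra.IsPushout.cancelBaseChange A A₁ Γ(X, V i) Γ(pullback f g, W) Γ(F, V i)).symm.trans
        (hbc.equiv.restrictScalars A₁)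
    let e₂ : A₁ ⊗[A] FlatOpen.Quot A (Z i) ≃ₗ[A₁] A₁ ⊗[R₀] (FlatOpen.Vec (n i) (r i) R₀ ⧸ Z i) :=
      (TensorProduct.AlgebraTensorModule.congr (LinearEquiv.refl A₁ A₁) (FlatOpen.quotEquiv A (Z i)).symm).trans
        (TensorProduct.AlgebraTensorModule.cancelBaseChange R₀ A A₁ A₁ _)
    let eZ : FlatOpen.Quot A (Z i) ≃ₗ[A] Γ(F, V i) :=
      ((Submodule.quotEquivOfEq _ _ (FlatOpen.ext_ext A (Z₁ i) R₀)).restrictScalars A).trans (E i)
    let e : A₁ ⊗[R] (R ⊗[R₀] (FlatOpen.Vec (n i) (r i) R₀ ⧸ Z i)) ≃ₗ[A₁] Γ(F', W) :=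
      ((TensorProduct.AlgebraTensorModule.cancelBaseChange R₀ R A₁ A₁ _).trans e₂.symm).trans
        ((TensorProduct.AlgebraTensorModule.congr (LinearEquiv.refl A₁ A₁) eZ).trans e₁)
    exact ⟨fun hfl => (hJ i A₁).1 (Module.Flat.of_linearEquiv e),
      fun h0 => haveI := (hJ i A₁).2 h0; Module.Flat.of_linearEquiv e.symm⟩
  have htop : IsAffineOpen (g ⁻¹ᵁ (⊤ : (Spec (CommRingCat.of A)).Opens)) := isAffineOpen_top _
  have hiff : Ideal.map (algebraMap Ah A') ((⨆ i, J i).map κ) = ⊥ ↔
      ∀ i, Ideal.map (algebraMap R A₁) (J i) = ⊥ := by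
    rw [Ideal.map_map, Ideal.map_iSup, iSup_eq_bot]
    refine forall_congr' fun i => ?_
    rw [show algebraMap R A₁ = εA'.comp ((algebraMap Ah A').comp κ) from rfl, ← Ideal.map_map ((algebraMap Ah A').comp κ) εA',
      Ideal.map_eq_bot_iff_le_ker εA', (RingHom.injective_iff_ker_eq_bot εA').1 hεA'.1, le_bot_iff]
  rw [hiff]
  constructor
  · intro hflat i
    exact (hkey i).1 (FlatSect.flat_sections_of_isFlatOverAt (pullback.snd f g) htop (hW i) (he' i)
      F' fun x _ => hflat x)
  · intro hall x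
    obtain ⟨y, hy, hxy⟩ := Set.mem_iUnion₂.1 (ht (Set.mem_univ (pullback.fst f g x)))
    exact FlatSect.isFlatOverAt_of_flat_sections (pullback.snd f g) htop (hW ⟨y, hy⟩) (he' ⟨y, hy⟩)
      F' ((hkey ⟨y, hy⟩).2 (hall _)) x hxy

end Groth.Agent.S4898
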