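import Groth.Statements.S4899
import Groth.Agent.Fibres16.FlatFamily.Residue

set_option autoImplicit false
universe u
open CategoryTheory AlgebraicGeometry
open EGA43 TensorProduct Groth.Agent Groth.Agent.Fibres16.FlatFamily

namespace Groth.Agent.S4899

attribute [local instance] Algebra.TensorProduct.rightAlgebra

open CategoryTheory.Limits in
/-- Let A be an Artinian local ring, f : X ⟶ Spec A locally of finite type, F a coherent O_X-module and
x a point of X; let (u_i : A → A_i) be a family of ring homomorphisms into local rings such that an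
element of A killed by every u_i is zero. Assume (ii) that the residue field k(x) is a primary
extension of the residue field of the base (every element of k(x) which is separable algebraic over
it already lies in it; automatic when that field is separably closed), and (iii) that for every i
there is a point x' of X_i = X ×_{Spec A} Spec A_i above x and above the closed point of Spec A_i at
which the pullback of F is flat over Spec A_i. Then F is f-flat at x. -/
theorem result {A : Type u} [CommRing A]
    [IsArtinianRing A] [IsLocalRing A] {X : Scheme.{u}} (f : X ⟶ Spec (CommRingCat.of A))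
    [LocallyOfFiniteType f] (F : X.Modules) (hF : Coh.IsCoh F) (x : X)
    {ι : Type u} (A' : ι → Type u) [∀ i, CommRing (A' i)] [∀ i, IsLocalRing (A' i)] (u : ∀ i, A →+* A' i)
    (hu : ∀ a : A, (∀ i, u i a = 0) → a = 0)
    (hprim : letI := (f.residueFieldMap x).hom.toAlgebra
      ∀ a : ↑(X.residueField x), IsSeparable ↑((Spec (CommRingCat.of A)).residueField (f x)) a →
        a ∈ (f.residueFieldMap x).hom.range)
    (hflat : ∀ i : ι, ∃ x' : ↥(pullback f (Spec.map (CommRingCat.ofHom (u i)))),
      pullback.fst f (Spec.map (CommRingCat.ofHom (u i))) x' = x ∧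
      pullback.snd f (Spec.map (CommRingCat.ofHom (u i))) x' = IsLocalRing.closedPoint (A' i) ∧
      FlatMod.IsFlatOverAt (pullback.snd f (Spec.map (CommRingCat.ofHom (u i))))
        ((Scheme.Modules.pullback (pullback.fst f (Spec.map (CommRingCat.ofHom (u i))))).obj F) x') :
    FlatMod.IsFlatOverAt f F x := by
  letI : TopologicalSpace.NoetherianSpace (Spec (CommRingCat.of A)) := inferInstance
  haveI : IsLocallyNoetherian X := LocallyOfFiniteType.isLocallyNoetherian f
  haveI : F.IsQuasicoherent := hF.1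
  haveI : SheafOfModules.IsFiniteType.{u} F := hF.2
  let A₀ := Γ(Spec (CommRingCat.of A), ⊤)
  let εA := (Scheme.ΓSpecIso (CommRingCat.of A)).commRingCatIsoToRingEquiv
  haveI : IsArtinianRing A₀ := Function.Surjective.isArtinianRing (f := εA.symm.toRingHom) εA.symm.surjective
  haveI : Nontrivial A₀ := εA.toEquiv.nontrivial
  haveI : IsLocalRing A₀ := IsLocalRing.of_surjective' εA.symm.toRingHom εA.symm.surjective
  obtain ⟨U, hU, hxU, eU⟩ := exists_isAffineOpen_mem_and_subset (U := f ⁻¹ᵁ ⊤) (x := x) trivial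
  let hT := isAffineOpen_top (Spec (CommRingCat.of A))
  letI := (f.appLE ⊤ U eU).hom.toAlgebra
  letI : Module A₀ Γ(F, U) := Module.compHom _ (f.appLE ⊤ U eU).hom
  haveI : IsScalarTower A₀ Γ(X, U) Γ(F, U) := IsScalarTower.of_algebraMap_smul fun _ _ => rfl
  haveI : IsNoetherianRing Γ(X, U) := IsLocallyNoetherian.component_noetherian ⟨U, hU⟩
  haveI : Module.Finite Γ(X, U) Γ(F, U) := Groth.Agent.QCoh.finite_sections_of_isFiniteType F hU
  refine (FlatOpen.Scheme.isFlatOverAt_iff f hT hU eU x hxU F).2 ?_
  let q := AssSch.Stalk.primeOf hU x hxU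
  rw [← flat_localization_iff]
  haveI : IsNoetherianRing (Localization.AtPrime q) :=
    IsLocalization.isNoetherianRing q.primeCompl (Localization.AtPrime q) inferInstance
  obtain ⟨ρB, hρB, hρBc⟩ := exists_residue_hom hU x hxU (Localization.AtPrime q)
  let p := AssSch.Stalk.primeOf hT (f x) trivial
  haveI : IsLocalization.AtPrime A₀ p := IsLocalization.self fun s hs => by
    refine IsLocalRing.notMem_maximalIdeal.1 fun hsm => hs ?_
    rwa [IsLocalRing.eq_maximalIdeal (inferInstance : p.IsMaximal)]
  obtain ⟨ρA, hρA, hρAc⟩ := exists_residue_hom hT (f x) trivial A₀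
  refine flat_of_primary (B := Localization.AtPrime q) _
    (fun a ha => primary_of_surjective ρA hρA ρB hρB (f.residueFieldMap x).hom ?_ hprim a ha) fun a ha => ?_
  · refine RingHom.ext fun a => ?_
    show ρB (algebraMap A₀ (Localization.AtPrime q) a) = f.residueFieldMap x (ρA a)
    rw [IsScalarTower.algebraMap_apply A₀ Γ(X, U) (Localization.AtPrime q)]
    have h1 : ρA a = (Spec (CommRingCat.of A)).evaluation ⊤ (f x) trivial a := RingHom.congr_fun hρAc a
    rw [h1]
    exact (RingHom.congr_fun hρBc _).trans (residueFieldMap_chart f eU x hxU a)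
  obtain ⟨i, hi⟩ : ∃ i, (Spec.map (CommRingCat.ofHom (u i))).appTop a ≠ 0 := by
    by_contra! h
    refine ha (εA.injective ((hu (εA a) fun i => ?_).trans (map_zero εA).symm))
    have h2 := congrArg (fun φ => φ.hom a) (Scheme.ΓSpecIso_naturality (CommRingCat.ofHom (u i)))
    exact h2.symm.trans ((congrArg (fun z => (Scheme.ΓSpecIso (CommRingCat.of (A' i))).hom.hom z) (h i)).trans
      (map_zero (Scheme.ΓSpecIso (CommRingCat.of (A' i))).hom.hom))
  obtain ⟨x', hxx, hx'c, hx'f⟩ := hflat i
  let g := Spec.map (CommRingCat.ofHom (u i))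
  let hW' := isAffineOpen_top (Spec (CommRingCat.of (A' i)))
  let eW' : (⊤ : (Spec (CommRingCat.of (A' i))).Opens) ≤ g ⁻¹ᵁ ⊤ := le_top
  letI := (g.appLE ⊤ ⊤ eW').hom.toAlgebra
  let εi := (Scheme.ΓSpecIso (CommRingCat.of (A' i))).commRingCatIsoToRingEquiv
  haveI : Nontrivial Γ(Spec (CommRingCat.of (A' i)), ⊤) := εi.toEquiv.nontrivial
  haveI : IsLocalRing Γ(Spec (CommRingCat.of (A' i)), ⊤) :=
    IsLocalRing.of_surjective' εi.symm.toRingHom εi.symm.surjective
  refine ⟨Γ(Spec (CommRingCat.of (A' i)), ⊤), inferInstance, inferInstance, inferInstance, fun h => hi ?_, ?_⟩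
  · rw [← h]
    simp [RingHom.algebraMap_toAlgebra, g, Scheme.Hom.appLE]
  obtain ⟨Q₀, hQ₀, hB, hA, hflat'⟩ :=
    (exists_piece f F g hT hU hW' eU eW').2 x' (by rw [hxx]; exact hxU) trivial
  obtain ⟨φ, hφB, hφA, hφ, hex⟩ :=
    localizeAt (A := A₀) (A' := Γ(Spec (CommRingCat.of (A' i)), ⊤)) q (Localization.AtPrime q) Γ(F, U)
  have hBq : Q₀.comap (algebraMap Γ(X, U) _) = q := by
    rw [hB]
    exact congrArg (fun z : U => (hU.primeIdealOf z).asIdeal) (Subtype.ext hxx)
  obtain ⟨Q, hQ, hQφ, hQm⟩ := hex Q₀ hBq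
  refine ⟨Q, hQ, hQm, ?_, @hφ Q hQ (by simpa only [hQφ] using hflat' hx'f)⟩
  rw [← hφA, ← Ideal.comap_comap, hQφ, hA]
  refine IsLocalRing.eq_maximalIdeal (hW'.primeIdealOf_isMaximal_of_isClosed _ ?_)
  show IsClosed ({pullback.snd f g x'} : Set _)
  rw [hx'c]
  exact IsLocalRing.isClosed_singleton_closedPoint _

end Groth.Agent.S4899
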