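import Groth.Statements.S4903
import Groth.Agent.QuasiHomeo.Basic

set_option autoImplicit false
universe u
open EGA43

namespace Groth.Agent.S4903
open Set Topology TopologicalSpace Groth.Agent.QuasiHomeo

/-- Conditions a), b), b′), c″), c‴) and its last assertion: given a topological space X and a subset X₀
⊆ X, the statements below are equivalent. Every locally closed subset of X that is nonempty
intersects X₀. Every nonempty locally quasi-constructible subset of X intersects X₀; here a subset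
is locally quasi-constructible when each point of X has an open neighbourhood on which the subset's
trace can be written as a union of finitely many locally closed sets. Each locally
quasi-constructible Z ⊆ X is contained in the closure of Z ∩ X₀. Any two quasi-constructible subsets
of X (unions of finitely many locally closed sets) having equal traces on X₀ coincide. Any two
locally quasi-constructible subsets of X having equal traces on X₀ coincide. Assuming these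
conditions, each locally quasi-constructible subset of the subspace X₀ arises as the trace on X₀ of
some locally quasi-constructible subset of X. -/
theorem result {X : Type u} [TopologicalSpace X] (X₀ : Set X) :
    [∀ Z : Set X, IsLocallyClosed Z → Z.Nonempty → (Z ∩ X₀).Nonempty,
      ∀ Z : Set X, (∀ x : X, ∃ U : Set X, IsOpen U ∧ x ∈ U ∧ ∃ T : Set (Set X), T.Finite ∧ (∀ t ∈ T, IsLocallyClosed t) ∧ U ∩ Z = ⋃₀ T) → Z.Nonempty → (Z ∩ X₀).Nonempty,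
      ∀ Z : Set X, (∀ x : X, ∃ U : Set X, IsOpen U ∧ x ∈ U ∧ ∃ T : Set (Set X), T.Finite ∧ (∀ t ∈ T, IsLocallyClosed t) ∧ U ∩ Z = ⋃₀ T) → Z ⊆ closure (Z ∩ X₀),
      ∀ Z Z' : Set X, (∃ T : Set (Set X), T.Finite ∧ (∀ t ∈ T, IsLocallyClosed t) ∧ Z = ⋃₀ T) → (∃ T : Set (Set X), T.Finite ∧ (∀ t ∈ T, IsLocallyClosed t) ∧ Z' = ⋃₀ T) → Z ∩ X₀ = Z' ∩ X₀ → Z = Z',
      ∀ Z Z' : Set X, (∀ x : X, ∃ U : Set X, IsOpen U ∧ x ∈ U ∧ ∃ T : Set (Set X), T.Finite ∧ (∀ t ∈ T, IsLocallyClosed t) ∧ U ∩ Z = ⋃₀ T) → (∀ x : X, ∃ U : Set X, IsOpen U ∧ x ∈ U ∧ ∃ T : Set (Set X), T.Finite ∧ (∀ t ∈ T, IsLocallyClosed t) ∧ U ∩ Z' = ⋃₀ T) → Z ∩ X₀ = Z' ∩ X₀ → Z = Z'].TFAE ∧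
    ((∀ Z : Set X, IsLocallyClosed Z → Z.Nonempty → (Z ∩ X₀).Nonempty) →
      ∀ Z₀ : Set ↥X₀, (∀ x : ↥X₀, ∃ U : Set ↥X₀, IsOpen U ∧ x ∈ U ∧ ∃ T : Set (Set ↥X₀), T.Finite ∧ (∀ t ∈ T, IsLocallyClosed t) ∧ U ∩ Z₀ = ⋃₀ T) →
        ∃ Z : Set X, (∀ x : X, ∃ U : Set X, IsOpen U ∧ x ∈ U ∧ ∃ T : Set (Set X), T.Finite ∧ (∀ t ∈ T, IsLocallyClosed t) ∧ U ∩ Z = ⋃₀ T) ∧ Subtype.val ⁻¹' Z = Z₀) := by
  refine ⟨?_, fun ha Z₀ hZ₀ => (qh_of_veryDense ha).exists_lqc hZ₀⟩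
  tfae_have 1 → 2 := fun ha Z hZ hne => by
    obtain ⟨z, hz⟩ := hne
    obtain ⟨L, hL, hzL, hLZ⟩ := (IsLQC.isLCO hZ).1 z hz
    obtain ⟨w, hwL, hw⟩ := ha L hL ⟨z, hzL⟩
    exact ⟨w, hLZ hwL, hw⟩
  tfae_have 2 → 3 := fun hb Z hZ z hz => by
    refine mem_closure_iff.mpr fun O hO hzO => ?_
    obtain ⟨w, ⟨hwO, hwZ⟩, hw⟩ := hb (O ∩ Z) (IsLQC.inter_open hZ hO) ⟨z, hzO, hz⟩
    exact ⟨w, hwO, hwZ, hw⟩
  tfae_have 3 → 1 := fun hc Z hZ hne => by
    obtain ⟨z, hz⟩ := hne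
    exact closure_nonempty_iff.mp ⟨z, hc Z (isLQC_of_isLocallyClosed hZ) hz⟩
  tfae_have 1 → 5 := fun ha Z Z' hZ hZ' he =>
    (qh_of_veryDense ha).preimage_injective (IsLQC.isLCO hZ) (IsLQC.isLCO hZ') (by
      ext ⟨x, hx⟩
      exact ⟨fun h => (Set.ext_iff.mp he x |>.mp ⟨h, hx⟩).1,
        fun h => (Set.ext_iff.mp he x |>.mpr ⟨h, hx⟩).1⟩)
  tfae_have 5 → 4 := fun he Z Z' hZ hZ' => he Z Z' (IsQC.isLQC hZ) (IsQC.isLQC hZ')
  tfae_have 4 → 1 := fun hd Z hZ hne => by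
    by_contra hemp
    refine hne.ne_empty (hd Z ∅ ⟨{Z}, finite_singleton Z, fun t ht => by
      rw [mem_singleton_iff.mp ht]; exact hZ, (sUnion_singleton Z).symm⟩
      ⟨∅, finite_empty, fun t ht => ht.elim, sUnion_empty.symm⟩ ?_)
    rw [Set.not_nonempty_iff_eq_empty.mp hemp, empty_inter]
  tfae_finish


end Groth.Agent.S4903
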