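import Groth.Statements.S4905
import Groth.Agent.RedSub.Basic
import Groth.Agent.SchDom.Scheme
import Groth.Agent.FBase.BC

set_option autoImplicit false
universe u
open CategoryTheory AlgebraicGeometry
open EGA43 CategoryTheory.Limits Groth.Agent

namespace Groth.Agent.S4905

open CategoryTheory.Limits in
/-- Let k be a field, X a k-scheme, (f_i : Z_i ⟶ X) a family of k-morphisms with every Z_i geometrically
reduced over k, and Y the reduced closed subscheme of X whose underlying space is the closure of ⋃
f_i(Z_i), i.e. the closed subscheme defined by the vanishing ideal sheaf of that closed set. Let k'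
be a field extension of k, X' = X ⊗_k k' and f'_i : Z_i ⊗_k k' ⟶ X' the base changes. Then the
reduced closed subscheme of X' on the closure of ⋃ f'_i(Z_i ⊗_k k') is Y ⊗_k k': the vanishing ideal
sheaf of that closure equals the pullback (comap) along X' ⟶ X of the vanishing ideal sheaf defining
Y. (The published statement also concludes that Y is geometrically reduced over k; this row states
only the equality of Y' with Y ⊗_k k'.) -/
theorem result {k : Type u} [Field k] {X : Scheme.{u}}
    (p : X ⟶ Spec (CommRingCat.of k)) {ι : Type u} (Z : ι → Scheme.{u}) (f : ∀ i, Z i ⟶ X)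
    (hred : ∀ (i : ι) (z : Z i), FBase.IsGeomReducedAt (f i ≫ p) z)
    (k' : Type u) [Field k'] [Algebra k k'] :
    letI q : Spec (CommRingCat.of k') ⟶ Spec (CommRingCat.of k) := Spec.map (CommRingCat.ofHom (algebraMap k k'))
    letI f' : ∀ i, pullback (f i ≫ p) q ⟶ pullback p q :=
      fun i => pullback.map (f i ≫ p) q p q (f i) (𝟙 _) (𝟙 _) (Category.comp_id _) ((Category.comp_id _).trans (Category.id_comp _).symm)
    Scheme.IdealSheafData.vanishingIdeal (TopologicalSpace.Closeds.closure (⋃ i, Set.range (f' i))) =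
      (Scheme.IdealSheafData.vanishingIdeal (TopologicalSpace.Closeds.closure (⋃ i, Set.range (f i)))).comap
        (pullback.fst p q) := by
  classical
  let q : Spec (CommRingCat.of k') ⟶ Spec (CommRingCat.of k) := Spec.map (CommRingCat.ofHom (algebraMap k k'))
  let f' : ∀ i, pullback (f i ≫ p) q ⟶ pullback p q :=
    fun i => pullback.map (f i ≫ p) q p q (f i) (𝟙 _) (𝟙 _) (Category.comp_id _) ((Category.comp_id _).trans (Category.id_comp _).symm)
  show Scheme.IdealSheafData.vanishingIdeal (TopologicalSpace.Closeds.closure (⋃ i, Set.range (f' i))) =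
    (Scheme.IdealSheafData.vanishingIdeal (TopologicalSpace.Closeds.closure (⋃ i, Set.range (f i)))).comap
      (pullback.fst p q)
  let I := Scheme.IdealSheafData.vanishingIdeal (TopologicalSpace.Closeds.closure (⋃ i, Set.range (f i)))
  let ι₀ := I.subschemeι
  have hrange : Set.range ι₀ = closure (⋃ i, Set.range (f i)) :=
    RedSub.range_vanishingIdeal_subschemeι _
  haveI hZ : ∀ i, AlgebraicGeometry.IsReduced (Z i) := fun i => by
    haveI : AlgebraicGeometry.IsReduced (pullback (f i ≫ p) (Spec.map (CommRingCat.ofHom (algebraMap k k)))) := by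
      haveI : ∀ z, _root_.IsReduced ((pullback (f i ≫ p) (Spec.map (CommRingCat.ofHom (algebraMap k k)))).presheaf.stalk z) :=
        fun z => hred i _ k z rfl
      exact isReduced_of_isReduced_stalk _
    exact Groth.Agent.FBase.BC.isReduced_of_isReduced_pullback_specMap (K := k) (f i ≫ p)
  have hlift : ∀ i, ∃ h : Z i ⟶ I.subscheme, h ≫ ι₀ = f i := fun i =>
    RedSub.exists_lift_closed ι₀ (f i) (by
      rw [hrange]
      exact (Set.subset_iUnion (fun i => Set.range (f i)) i).trans subset_closure)
  choose h hh using hlift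
  have hdense : Dense (⋃ i, Set.range (h i)) := by
    rw [ι₀.isClosedEmbedding.isInducing.dense_iff]
    intro y
    rw [Set.image_iUnion]
    have e : ∀ i, ι₀ '' Set.range (h i) = Set.range (f i) := fun i => by
      rw [← Set.range_comp, ← hh i]
      rfl
    simp only [e]
    exact hrange.le ⟨y, rfl⟩
  have hSD : SchDom.SD h := by
    intro V t ht
    by_contra ht0
    obtain ⟨y, hy⟩ : ((I.subscheme.basicOpen t : I.subscheme.Opens) : Set I.subscheme).Nonempty := by
      by_contra he
      exact ht0 (AlgebraicGeometry.eq_zero_of_basicOpen_eq_bot t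
        (SetLike.coe_injective ((Set.not_nonempty_iff_eq_empty.mp he).trans rfl)))
    obtain ⟨y', hy'1, hy'2⟩ := hdense.inter_open_nonempty _ (I.subscheme.basicOpen t).2 ⟨y, hy⟩
    obtain ⟨i, z, rfl⟩ := Set.mem_iUnion.mp hy'2
    have h0 : z ∈ h i ⁻¹ᵁ I.subscheme.basicOpen t := hy'1
    rw [Scheme.preimage_basicOpen, ht i, Scheme.basicOpen_zero] at h0
    exact h0
  have hSD' := SchDom.univ_of_field h (ι₀ ≫ p) q hSD
  have hsrc : ∀ i, AlgebraicGeometry.IsReduced (pullback (h i ≫ ι₀ ≫ p) q) := fun i => by
    rw [← Category.assoc, hh i]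
    haveI : ∀ z, _root_.IsReduced ((pullback (f i ≫ p) q).presheaf.stalk z) := fun z => hred i _ k' z rfl
    exact isReduced_of_isReduced_stalk _
  haveI : AlgebraicGeometry.IsReduced (pullback (ι₀ ≫ p) q) := by
    refine ⟨fun V => ⟨fun t ht => hSD' V t fun i => ?_⟩⟩
    haveI := hsrc i
    exact (ht.map ((SchDom.fMap (ι₀ ≫ p) q h i).app V).hom).eq_zero
  have hdense' : Dense (⋃ i, Set.range (SchDom.fMap (ι₀ ≫ p) q h i)) := by
    rw [dense_iff_inter_open]
    intro V hV hne
    by_contra he
    obtain ⟨y, hy⟩ := hne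
    let V' : (pullback (ι₀ ≫ p) q).Opens := ⟨V, hV⟩
    have h1 : (1 : Γ(pullback (ι₀ ≫ p) q, V')) = 0 := hSD' V' 1 fun i => by
      have hbot : SchDom.fMap (ι₀ ≫ p) q h i ⁻¹ᵁ V' = ⊥ := by
        refine TopologicalSpace.Opens.ext (Set.eq_empty_iff_forall_notMem.mpr fun z hz => he ?_)
        exact ⟨_, hz, Set.mem_iUnion.mpr ⟨i, z, rfl⟩⟩
      haveI : Subsingleton Γ(pullback (h i ≫ ι₀ ≫ p) q, SchDom.fMap (ι₀ ≫ p) q h i ⁻¹ᵁ V') := by
        rw [hbot]; infer_instance
      exact Subsingleton.elim _ _
    have h2 : y ∈ (pullback (ι₀ ≫ p) q).basicOpen (1 : Γ(pullback (ι₀ ≫ p) q, V')) := by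
      rw [Scheme.basicOpen_of_isUnit _ isUnit_one]; exact hy
    rw [h1, Scheme.basicOpen_zero] at h2
    exact h2
  let j : pullback (ι₀ ≫ p) q ⟶ pullback p q :=
    pullback.map (ι₀ ≫ p) q p q ι₀ (𝟙 _) (𝟙 _) (Category.comp_id _) ((Category.comp_id _).trans (Category.id_comp _).symm)
  have hj1 : j ≫ pullback.fst p q = pullback.fst (ι₀ ≫ p) q ≫ ι₀ := pullback.lift_fst _ _ _
  have hj2 : j ≫ pullback.snd p q = pullback.snd (ι₀ ≫ p) q :=
    (pullback.lift_snd _ _ _).trans (Category.comp_id _)
  have hsq : IsPullback j (pullback.fst (ι₀ ≫ p) q) (pullback.fst p q) ι₀ := by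
    refine IsPullback.of_right ?_ hj1 (IsPullback.of_hasPullback p q).flip
    rw [hj2]
    exact (IsPullback.of_hasPullback (ι₀ ≫ p) q).flip
  haveI : IsClosedImmersion j := MorphismProperty.of_isPullback (P := @IsClosedImmersion) hsq.flip inferInstance
  have hker : j.ker = I.comap (pullback.fst p q) := by
    rw [← hsq.isoPullback_hom_fst, Scheme.Hom.ker_comp_of_isIso, Scheme.IdealSheafData.comap]
  rw [← hker]
  refine (RedSub.ker_eq_vanishingIdeal j _ ?_).symm
  have hf' : ∀ i, Set.range (f' i) = j '' Set.range (SchDom.fMap (ι₀ ≫ p) q h i) := fun i => by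
    have e : h i ≫ ι₀ ≫ p = f i ≫ p := by rw [← Category.assoc, hh i]
    have hcomp : (pullback.congrHom e rfl).hom ≫ f' i = SchDom.fMap (ι₀ ≫ p) q h i ≫ j := by
      apply pullback.hom_ext
      · simp only [f', j, SchDom.fMap, Category.assoc, pullback.congrHom_hom, pullback.map,
          pullback.lift_fst, pullback.lift_fst_assoc, Category.id_comp, Category.comp_id, hh i]
      · simp only [f', j, SchDom.fMap, Category.assoc, pullback.congrHom_hom, pullback.map,
          pullback.lift_snd, pullback.lift_snd_assoc, Category.id_comp, Category.comp_id]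
    have hsur : Set.range (pullback.congrHom (f₁ := h i ≫ ι₀ ≫ p) (g₁ := q) e rfl).hom = Set.univ :=
      Set.range_eq_univ.mpr (pullback.congrHom e rfl).hom.surjective
    rw [← Set.range_comp]
    ext y
    constructor
    · rintro ⟨z, rfl⟩
      obtain ⟨w, rfl⟩ := hsur.symm.le (Set.mem_univ z)
      exact ⟨w, by rw [Function.comp_apply, ← Scheme.Hom.comp_apply, ← hcomp, Scheme.Hom.comp_apply]⟩
    · rintro ⟨w, rfl⟩
      exact ⟨(pullback.congrHom e rfl).hom w, by
        rw [Function.comp_apply, ← Scheme.Hom.comp_apply, hcomp, Scheme.Hom.comp_apply]⟩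
  show Set.range j = closure (⋃ i, Set.range (f' i))
  simp only [hf']
  rw [← Set.image_iUnion, j.isClosedEmbedding.closure_image_eq, hdense'.closure_eq, Set.image_univ]

end Groth.Agent.S4905
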