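import Groth.Statements.S4906
import Groth.Agent.S0604
import Groth.Agent.Fibres16.RectDepth.Biequidim

set_option autoImplicit false
universe u
open CategoryTheory AlgebraicGeometry
open EGA43 Groth.Agent Groth.Agent.Fibres16.RectDepth

namespace Groth.Agent.S4906

/-- Let X be a regular biequidimensional scheme — Noetherian, with regular local rings, of finite
dimension, with all irreducible components of dimension dim X and with dim T = dim cl{y} +
codim(cl{y}, T) for every closed irreducible T and point y of T — and F a coherent O_X-module. Then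
for every point x of the support of F one has prof(F_x) + dim cl{x} + proj.dim(F_x) = dim X, that
is, the rectified depth prof*_x(F) equals dim X − proj.dim_{O_{X,x}}(F_x). -/
theorem result (X : Scheme.{u}) [IsNoetherian X]
    (hreg : ∀ x : X, IsRegularLocalRing ↑(X.presheaf.stalk x))
    (hfin : topologicalKrullDim X < ⊤)
    (hcomp : ∀ C ∈ irreducibleComponents (X : Type u), topologicalKrullDim ↥C = topologicalKrullDim X)
    (hchain : ∀ (y : X) (T : Set X), IsClosed T → IsIrreducible T → y ∈ T →
      topologicalKrullDim ↥T = topologicalKrullDim ↥(closure ({y} : Set X)) + topologicalKrullDim ↥{t : X | t ∈ T ∧ t ⤳ y})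
    (F : X.Modules) (hF : Coh.IsCoh F) (x : X) (hx : x ∈ CohB1.support F) :
    ((LocCoh.depth ↑(X.presheaf.stalk x) ↑(F.presheaf.stalk x) : ℕ∞) : WithBot ℕ∞) +
        topologicalKrullDim ↥(closure ({x} : Set X)) +
        projectiveDimension (ModuleCat.of ↑(X.presheaf.stalk x) ↑(F.presheaf.stalk x)) =
      topologicalKrullDim X := by
  have hdom : ∀ x : X, IsDomain (X.presheaf.stalk x) := fun x => by
    haveI := hreg x
    exact Groth.Agent.RegLoc.isDomain _
  obtain ⟨a, b, ha, hb, hab⟩ := dim_add X hdom hfin hcomp hchain x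
  haveI := hreg x
  haveI : Nontrivial ↑(F.presheaf.stalk x) := not_subsingleton_iff_nontrivial.1 hx
  haveI : Module.Finite ↑(X.presheaf.stalk x) ↑(F.presheaf.stalk x) := FDesc.QuasiFlat.finite_stalk_of_isCoh F hF x
  have hb' : ringKrullDim ↑(X.presheaf.stalk x) = (b : WithBot ℕ∞) := hb
  have hself : LocCoh.depth (X.presheaf.stalk x) (X.presheaf.stalk x) = (b : ℕ∞) :=
    le_antisymm (ABReg.depth_le hb' _) (ABReg.le_depth_self hb')
  let M := ModuleCat.of ↑(X.presheaf.stalk x) ↑(F.presheaf.stalk x)
  have hle : projectiveDimension M ≤ (b : WithBot ℕ∞) :=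
    (projectiveDimension_le_iff M b).2 (RegLoc.Homological.pd_le_dim hb' _)
  obtain ⟨e', he'⟩ := WithBot.ne_bot_iff_exists.1 (show projectiveDimension M ≠ ⊥ from fun h => by
    have := (projectiveDimension_eq_bot_iff M).1 h
    exact not_subsingleton ↑(F.presheaf.stalk x) (ModuleCat.subsingleton_of_isZero this))
  obtain ⟨e, rfl⟩ := ENat.ne_top_iff_exists.1 (show e' ≠ ⊤ from fun h => by
    rw [← he', h] at hle
    exact absurd (WithBot.coe_le_coe.1 hle) (by simp))
  have he : projectiveDimension M = (e : WithBot ℕ∞) := he'.symm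
  have hAB := Groth.Agent.S0604.result _ _ e he
  rw [hself] at hAB
  obtain ⟨D, hD⟩ := ENat.ne_top_iff_exists.1
    (ne_top_of_le_ne_top (ENat.coe_ne_top b) (ABReg.depth_le hb' ↑(F.presheaf.stalk x)))
  rw [← hD] at hAB
  rw [ha, hab, he, ← hD]
  norm_cast at hAB ⊢
  omega

end Groth.Agent.S4906
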