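import Groth.Statements.S4907
import Groth.Agent.Fibres16.RectDepth.Biequidim

set_option autoImplicit false
universe u
open CategoryTheory AlgebraicGeometry
open EGA43 Groth.Agent Groth.Agent.Fibres16.RectDepth

namespace Groth.Agent.S4907

/-- Let X be a regular biequidimensional scheme (Noetherian, regular local rings, finite dimension, all
irreducible components of dimension dim X, and dim T = dim cl{y} + codim(cl{y}, T) for every closed
irreducible T and point y of T) and F a coherent O_X-module. Then the rectified depth x ↦ prof(F_x)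
+ dim cl{x} is lower semicontinuous: for every integer n the set of x with prof(F_x) + dim cl{x} ≥ n
is open. -/
theorem result (X : Scheme.{u}) [IsNoetherian X]
    (hreg : ∀ x : X, IsRegularLocalRing ↑(X.presheaf.stalk x))
    (hfin : topologicalKrullDim X < ⊤)
    (hcomp : ∀ C ∈ irreducibleComponents (X : Type u), topologicalKrullDim ↥C = topologicalKrullDim X)
    (hchain : ∀ (y : X) (T : Set X), IsClosed T → IsIrreducible T → y ∈ T →
      topologicalKrullDim ↥T = topologicalKrullDim ↥(closure ({y} : Set X)) + topologicalKrullDim ↥{t : X | t ∈ T ∧ t ⤳ y})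
    (F : X.Modules) (hF : Coh.IsCoh F) (n : ℕ) :
    IsOpen {x : X | (n : WithBot ℕ∞) ≤
      ((LocCoh.depth ↑(X.presheaf.stalk x) ↑(F.presheaf.stalk x) : ℕ∞) : WithBot ℕ∞) +
        topologicalKrullDim ↥(closure ({x} : Set X))} := by
  classical
  have hdom : ∀ x : X, IsDomain (X.presheaf.stalk x) := fun x => by
    haveI := hreg x
    exact Groth.Agent.RegLoc.isDomain _
  choose a b ha hb hab using dim_add X hdom hfin hcomp hchain
  refine isOpen_iff_forall_mem_open.2 fun x hx => ?_
  obtain ⟨U, hU, hxU, -⟩ := exists_isAffineOpen_mem_and_subset (U := (⊤ : X.Opens)) (x := x) trivial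
  haveI := regularRing_of_isAffineOpen hreg hU
  let d : PrimeSpectrum Γ(X, U) → ℕ := fun z => a (hU.fromSpec z)
  have hd : ∀ z : PrimeSpectrum Γ(X, U), z.asIdeal.height + (d z : ℕ∞) = ((a x + b x : ℕ) : ℕ∞) := by
    intro z
    have h1 : ringKrullDim (X.presheaf.stalk (hU.fromSpec z)) = z.asIdeal.height := by
      have hy : hU.fromSpec z ∈ U := hU.range_fromSpec.subset ⟨z, rfl⟩
      let := X.presheaf.algebra_section_stalk (⟨_, hy⟩ : U)
      haveI : IsLocalization.AtPrime (X.presheaf.stalk (hU.fromSpec z)) z.asIdeal :=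
        hU.isLocalization_stalk' z hy
      exact IsLocalization.AtPrime.ringKrullDim_eq_height _ _
    have h2 := (hab (hU.fromSpec z)).symm.trans (hab x)
    rw [Nat.cast_add, add_comm (a (hU.fromSpec z) : ℕ∞), WithBot.coe_add, ← hb, h1] at h2
    exact WithBot.coe_inj.1 ((WithBot.coe_add _ _).trans h2)
  have key := isOpen_chart F hF hU (B := Γ(X, U)) Function.surjective_id d
    (fun z => ⟨Set.univ, a x + b x, isOpen_univ, trivial, fun q _ => hd q⟩) a (fun z => rfl) (n : ℕ∞)
  have hiff : ∀ y : X, (n : WithBot ℕ∞) ≤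
      ((LocCoh.depth ↑(X.presheaf.stalk y) ↑(F.presheaf.stalk y) : ℕ∞) : WithBot ℕ∞) +
        topologicalKrullDim ↥(closure ({y} : Set X)) ↔
      (n : ℕ∞) ≤ LocCoh.depth (X.presheaf.stalk y) (F.presheaf.stalk y) + (a y : ℕ∞) := fun y => by
    rw [ha, ← WithBot.coe_add]
    exact WithBot.coe_le_coe
  exact ⟨_, fun y hy => (hiff y).2 hy.2, key, hxU, (hiff x).1 hx⟩

end Groth.Agent.S4907
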