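import Groth.Statements.S4912
import Groth.Agent.SepFld.Sheaf
import Mathlib.AlgebraicGeometry.Artinian
import Mathlib.AlgebraicGeometry.Morphisms.Flat

set_option autoImplicit false
universe u
open CategoryTheory AlgebraicGeometry
open EGA43

namespace Groth.Agent.S4912

/-- Case Z_λ = X: let X be an Artinian scheme (Noetherian of dimension ≤ 0), u_i : F ⟶ G_i a separating
family of homomorphisms of quasi-coherent O_X-modules (a section of F over an open subset killed by
every u_i is zero) and g : X' ⟶ X a flat morphism; for instance X the spectrum of a field and g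
arbitrary. Then the family (g^*u_i) on X' is separating. (The published statement allows
homomorphisms into direct images (f_λ)_*G_λ; this row is the case Z_λ = X, to which the general case
reduces.) -/
theorem result {X X' : Scheme.{u}} [IsNoetherian X]
    (hX : topologicalKrullDim X ≤ 0) (F : X.Modules) [Coh.IsQCoh F] {ι : Type u}
    (G : ι → X.Modules) [∀ i, Coh.IsQCoh (G i)] (u : ∀ i, F ⟶ G i) (g : X' ⟶ X) [Flat g]
    (h : (∀ (V : (X).Opens) (t : ↑((F).presheaf.obj (Opposite.op V))), (∀ i, (Scheme.Modules.Hom.mapPresheaf (u i)).app (Opposite.op V) t = 0) → t = 0)) :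
    (∀ (V : (X').Opens) (t : ↑(((Scheme.Modules.pullback g).obj F).presheaf.obj (Opposite.op V))), (∀ i, (Scheme.Modules.Hom.mapPresheaf ((Scheme.Modules.pullback g).map (u i))).app (Opposite.op V) t = 0) → t = 0) := by
  haveI : IsLocallyArtinian X := .of_topologicalKrullDim_le_zero hX
  refine SepFld.isSep_pullback u g fun x' => ?_
  obtain ⟨W, hW, hxW, hWx⟩ := exists_isAffineOpen_mem_and_subset
    (U := (⟨{g x'}, isOpen_discrete _⟩ : X.Opens)) (x := g x') rfl
  obtain ⟨P, hP, hxP, hPW⟩ := exists_isAffineOpen_mem_and_subset (U := g ⁻¹ᵁ W) (x := x') hxW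
  refine ⟨W, P, hW, hP, hPW, hxP, ?_⟩
  letI := (g.appLE W P hPW).hom.toAlgebra
  haveI : Module.Flat Γ(X, W) Γ(X', P) := Flat.flat_appLE g hW hP hPW
  haveI : IsArtinianRing Γ(X, W) := IsLocallyArtinian.isArtinianRing_presheaf_obj ⟨W, hW⟩
  haveI hsub : Subsingleton (PrimeSpectrum Γ(X, W)) := ⟨fun a b => by
    refine hW.isOpenImmersion_fromSpec.base_open.injective ?_
    have ha : hW.fromSpec a ∈ W := (Set.ext_iff.mp hW.range_fromSpec _).mp ⟨a, rfl⟩
    have hb : hW.fromSpec b ∈ W := (Set.ext_iff.mp hW.range_fromSpec _).mp ⟨b, rfl⟩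
    exact (hWx ha : _ = g x').trans (hWx hb : _ = g x').symm⟩
  haveI : IsLocalRing Γ(X, W) := IsLocalRing.of_unique_max_ideal
    ⟨(hW.primeIdealOf ⟨g x', hxW⟩).asIdeal, inferInstance, fun m hm => congrArg PrimeSpectrum.asIdeal
      (Subsingleton.elim (⟨m, hm.isPrime⟩ : PrimeSpectrum Γ(X, W)) (hW.primeIdealOf ⟨g x', hxW⟩))⟩
  exact SepFld.MJI.baseChange_artinian (SepFld.secLin u W) Γ(X', P) fun x hx => h W x hx

end Groth.Agent.S4912
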