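import Groth.Statements.S4914
import Groth.Agent.OpenAt.Basic

set_option autoImplicit false
open CategoryTheory AlgebraicGeometry
universe u v w
open EGA43

namespace Groth.Agent.S4914

/-- Let ψ : X → Y be a continuous map, x a point of X, and (Y_i) a locally finite covering of Y by
closed subsets. If for every index i with ψ x ∈ Y_i the restriction ψ⁻¹(Y_i) → Y_i of ψ is open at
x, then ψ is open at x. -/
theorem result {α : Type u} {β : Type v} {ι : Type w} [TopologicalSpace α]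
    [TopologicalSpace β] (ψ : α → β) (hψ : Continuous ψ) (x : α) (Y : ι → Set β) (hY : LocallyFinite Y)
    (hcl : ∀ i, IsClosed (Y i)) (hcov : ⋃ i, Y i = Set.univ)
    (h : ∀ i, ∀ hi : ψ x ∈ Y i, EGA43.IsOpenAt ((Y i).restrictPreimage ψ) ⟨x, hi⟩) :
    EGA43.IsOpenAt ψ x := by
  classical
  intro U hU
  obtain ⟨U₀, hU₀U, hU₀o, hxU₀⟩ := mem_nhds_iff.mp hU
  have hfin : {i | ψ x ∈ Y i}.Finite := hY.point_finite (ψ x)
  have hC : IsClosed (⋃ i : {i // ψ x ∉ Y i}, Y i) :=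
    (hY.comp_injective Subtype.val_injective).isClosed_iUnion fun i => hcl i
  have hN : ∀ i, ∃ W ∈ nhds (ψ x), ψ x ∈ Y i → W ∩ Y i ⊆ ψ '' U := by
    intro i
    by_cases hi : ψ x ∈ Y i
    · have hmem := h i hi (Subtype.val ⁻¹' U) ?_
      · rw [nhds_subtype_eq_comap, Filter.mem_comap] at hmem
        obtain ⟨W, hW, hWU⟩ := hmem
        refine ⟨W, hW, fun _ y ⟨hyW, hyY⟩ => ?_⟩
        obtain ⟨a, ha, hay⟩ := hWU (show (⟨y, hyY⟩ : Y i) ∈ Subtype.val ⁻¹' W from hyW)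
        exact ⟨a.1, ha, congrArg Subtype.val hay⟩
      · exact continuous_subtype_val.continuousAt (x := (⟨x, hi⟩ : ψ ⁻¹' Y i)) hU
    · exact ⟨Set.univ, Filter.univ_mem, fun h => absurd h hi⟩
  choose W hW hWsub using hN
  refine Filter.mem_of_superset
    (Filter.inter_mem ((Filter.biInter_mem hfin).mpr fun i _ => hW i)
      (hC.isOpen_compl.mem_nhds ?_)) ?_
  · simp
  · rintro y ⟨hy1, hy2⟩
    have hy : y ∈ ⋃ i, Y i := by rw [hcov]; trivial
    obtain ⟨i, hi⟩ := Set.mem_iUnion.mp hy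
    have hxi : ψ x ∈ Y i := by
      by_contra hn
      exact hy2 (Set.mem_iUnion.mpr ⟨⟨i, hn⟩, hi⟩)
    exact hWsub i hxi ⟨Set.mem_iInter₂.mp hy1 i hxi, hi⟩

end Groth.Agent.S4914
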