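import Groth.Statements.S4919
import Groth.Agent.EquidimPt.FibreFun
-- import your own Groth.Agent.* helpers here

set_option autoImplicit false
open CategoryTheory AlgebraicGeometry
universe u v w
open EGA43

namespace Groth.Agent.S4919

/-- Let Y be an irreducible locally Noetherian scheme with generic point η, f : X ⟶ Y a morphism locally
of finite type, y a point of Y and Z an irreducible component of the fibre f⁻¹(y) (a maximal
irreducible subset of f⁻¹(y), with the topology induced from X) such that f is open at the generic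
point ζ of Z. Then there is an irreducible component X' of X containing Z and dominating Y such that
the local dimension of X' ∩ f⁻¹(y) at ζ equals dim Z, and dim Z = dim (X' ∩ f⁻¹(η)). (The published
statement writes the middle term as the dimension of the whole of X' ∩ f⁻¹(y); its proof yields only
the local dimension at the generic point of Z, and the global equality can fail: for the
endomorphism (a, b) ↦ (ab, b² − b) of the affine plane over a field, the fibre over the origin is
the line b = 0 together with the isolated point (0, 1), at which the map is étale, hence open; with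
Z that point, X' is the whole plane, X' ∩ f⁻¹(y) has dimension 1 and dim Z = 0. So the local form is
stated here.) -/
theorem result {X Y : Scheme.{u}} [IrreducibleSpace Y]
    [IsLocallyNoetherian Y] (f : X ⟶ Y) [LocallyOfFiniteType f] (y : Y) (Z : Set X)
    (hZy : Z ⊆ f.base ⁻¹' {y}) (hZ : IsIrreducible Z)
    (hZmax : ∀ Z' : Set X, IsIrreducible Z' → Z' ⊆ f.base ⁻¹' {y} → Z ⊆ Z' → Z' = Z)
    (hopen : ∀ ζ ∈ Z, Z ⊆ closure {ζ} → EGA43.IsOpenAt f.base ζ) :
    ∃ X' ∈ irreducibleComponents (X : Type u), Z ⊆ X' ∧ Dense (f.base '' X') ∧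
      (∀ ζ ∈ Z, Z ⊆ closure {ζ} → ∀ hζ : ζ ∈ X' ∩ f.base ⁻¹' {y},
        FlatMor.localDim ↥(X' ∩ f.base ⁻¹' {y}) ⟨ζ, hζ⟩ = topologicalKrullDim ↥Z) ∧
      topologicalKrullDim ↥Z = topologicalKrullDim ↥(X' ∩ f.base ⁻¹' {genericPoint Y}) := by
  obtain ⟨g, hg⟩ := QuasiSober.sober hZ.closure isClosed_closure
  have hgs : ∀ v ∈ Z, g ⤳ v := fun v hv => hg.specializes (subset_closure hv)
  obtain ⟨v₀, hv₀⟩ := hZ.nonempty
  have hgy : f.base g = y := by
    have h1 : f.base g ⤳ y := hZy hv₀ ▸ (hgs v₀ hv₀).map f.continuous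
    refine (h1.antisymm (specializes_iff_mem_closure.2 ?_)).eq
    have h2 : f.base '' closure Z ⊆ closure {y} :=
      (image_closure_subset_closure_image f.continuous).trans (closure_mono (Set.image_subset_iff.2 hZy))
    exact h2 ⟨g, hg.mem, rfl⟩
  have hirr : ∀ w : X, f.base w = y → IsIrreducible (closure {w} ∩ f.base ⁻¹' {y}) := fun w hw => by
    refine ⟨⟨w, subset_closure rfl, hw⟩, fun A B hA hB hA' hB' => ?_⟩
    obtain ⟨a, ⟨ha, -⟩, haA⟩ := hA'
    obtain ⟨b, ⟨hb, -⟩, hbB⟩ := hB'
    exact ⟨w, ⟨subset_closure rfl, hw⟩, (specializes_iff_mem_closure.2 ha).mem_open hA haA,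
      (specializes_iff_mem_closure.2 hb).mem_open hB hbB⟩
  have hsub : ∀ w : X, w ⤳ g → f.base w = y → closure {w} ∩ f.base ⁻¹' {y} = Z := fun w hwg hw =>
    hZmax _ (hirr w hw) Set.inter_subset_right fun v hv =>
      ⟨specializes_iff_mem_closure.1 (hwg.trans (hgs v hv)), hZy hv⟩
  have hZeq := hsub g (specializes_refl g) hgy
  have hgZ : g ∈ Z := hZeq.le ⟨subset_closure rfl, hgy⟩
  have hgmax : ∀ w, f.base w = y → w ⤳ g → w = g := fun w hw hwg =>
    (hwg.antisymm (hgs w ((hsub w hwg hw).le ⟨subset_closure rfl, hw⟩))).eq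
  have hgen : Z ⊆ closure {g} := fun v hv => specializes_iff_mem_closure.1 (hgs v hv)
  subst hgy
  obtain ⟨c, hcg, hfc, hcmax, hle⟩ := Groth.Agent.GUOpen.exists_gen_dim_of_isOpenAt f (hopen g hgZ hgen)
    hgmax (y' := genericPoint Y) (genericPoint_specializes _)
  have hη : ∀ y' : Y, y' ⤳ genericPoint Y → y' = genericPoint Y := fun y' h =>
    (h.antisymm (genericPoint_specializes y')).eq
  have hcMax : Groth.Agent.FlatOpen.EquiDim.Max c := fun w hw =>
    hcmax w (hη _ (hfc ▸ hw.map f.continuous)) hw
  have hdimZ : topologicalKrullDim ↥Z = Order.krullDim {w : X | f w = f g ∧ g ⤳ w} :=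
    Eq.trans (congrArg (fun S : Set X => topologicalKrullDim ↥S) hZeq.symm)
      (Groth.Agent.FibSemi.topDim_closure_inter_fibre_eq f g (f g))
  have hgfd := Groth.Agent.GUOpen.fibreDimAt_of_max f hgmax
  have hcfd := Groth.Agent.GUOpen.fibreDimAt_of_max f (fun w hw => hcmax w (hw.trans hfc))
  refine ⟨closure {c}, Groth.Agent.FlatOpen.EquiDim.closure_mem_irreducibleComponents hcMax,
    fun v hv => specializes_iff_mem_closure.1 (hcg.trans (hgs v hv)), ?_, fun ζ hζ hζgen hζ' => ?_, ?_⟩
  · intro w
    exact closure_mono (s := {genericPoint Y}) (Set.singleton_subset_iff.2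
      (hfc ▸ Set.mem_image_of_mem f.base (subset_closure rfl))) (genericPoint_specializes w).mem_closure
  · obtain rfl : ζ = g := ((specializes_iff_mem_closure.2 (hζgen hgZ)).antisymm (hgs ζ hζ)).eq
    rw [hdimZ]
    refine le_antisymm ?_ ?_
    · rw [← hgfd]
      exact Groth.Agent.EquidimPt.localDim_le_fibreDimAt f (S := closure {c}) hζ'.1
    · refine le_trans ?_ (Groth.Agent.EquidimPt.le_localDim f (ξ := c) (c := ζ) (x := ζ) hcg (specializes_refl ζ))
      exact le_rfl
  · rw [hdimZ, Groth.Agent.FibSemi.topDim_closure_inter_fibre_eq f c (genericPoint Y)]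
    refine le_antisymm ?_ ?_
    · rw [← hgfd]
      refine hle.trans (le_of_eq ?_)
      rw [hfc]
    · have hm := Groth.Agent.EquidimPt.fibreDimAt_mono f hcg
      rw [hcfd, hgfd, hfc] at hm
      exact hm

end Groth.Agent.S4919
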