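import Groth.Statements.S4920
import Groth.Agent.EquidimPt.FibreFun
-- import your own Groth.Agent.* helpers here

set_option autoImplicit false
open CategoryTheory AlgebraicGeometry
universe u v w
open EGA43

namespace Groth.Agent.S4920

/-- Let Y be an irreducible locally Noetherian scheme with generic point η, f : X ⟶ Y a morphism locally
of finite type and y a point of Y such that f is open at every point of the fibre over y. For z in Y
write E(z) for the set of dimensions of the irreducible components of the fibre X_z. Then E(y) ⊆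
E(η), and consequently dim X_y ≤ dim X_η. -/
theorem result {X Y : Scheme.{u}} [IrreducibleSpace Y] [IsLocallyNoetherian Y]
    (f : X ⟶ Y) [LocallyOfFiniteType f] (y : Y) (h : ∀ x : X, f.base x = y → EGA43.IsOpenAt f.base x) :
    letI E : Y → Set (WithBot ℕ∞) := fun z =>
      (fun Z : Set ↥(f.fiber z) => topologicalKrullDim ↥Z) '' irreducibleComponents ↥(f.fiber z)
    E y ⊆ E (genericPoint Y) ∧
      topologicalKrullDim ↥(f.fiber y) ≤ topologicalKrullDim ↥(f.fiber (genericPoint Y)) := by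
  refine ⟨?_, Groth.Agent.EquidimPt.topDim_fiber_le_of_isOpenAt f (genericPoint_specializes y) h⟩
  rintro _ ⟨Z, hZ, rfl⟩
  obtain ⟨ζ, -, hfz, hmax, hdim⟩ := Groth.Agent.EquidimPt.exists_generic_of_component f hZ
  let z := f.fiberι y ζ
  obtain ⟨V, hV, hzV, -⟩ := exists_isAffineOpen_mem_and_subset (x := z) (U := (⊤ : X.Opens)) trivial
  obtain ⟨M, hM, hMmax, hMgen⟩ := Groth.Agent.GUOpen.exists_finite_max f V hV.isCompact y
  let C : Set X := ⋃ c ∈ {c ∈ M | c ≠ z}, closure {c}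
  have hC : IsClosed C := (hM.subset (Set.sep_subset M _)).isClosed_biUnion fun _ _ => isClosed_closure
  have hzC : z ∉ C := fun hz => by
    obtain ⟨c, hc, hcz⟩ := Set.mem_iUnion₂.mp hz
    exact hc.2 (hmax c (hMmax c hc.1).2.1 (specializes_iff_mem_closure.mpr hcz))
  obtain ⟨x, hx, hzx, hfx, -⟩ := Groth.Agent.FibSemi.exists_closed_in_fibre f z (V ⊓ ⟨Cᶜ, hC.isOpen_compl⟩) ⟨hzV, hzC⟩
  obtain ⟨c, hcz, hfc, hcmax, hle⟩ := Groth.Agent.GUOpen.exists_gen_dim_of_isOpenAt f (h z hfz)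
    (fun w hw => hmax w (hw.trans hfz)) (y' := genericPoint Y) (genericPoint_specializes _)
  obtain ⟨Z', hZ', hdim'⟩ := Groth.Agent.EquidimPt.exists_component_of_max f hfc hcmax
  refine ⟨Z', hZ', ?_⟩
  show topologicalKrullDim ↥Z' = topologicalKrullDim ↥Z
  rw [hdim', hdim]
  rw [Groth.Agent.GUOpen.fibreDimAt_of_max f (fun w hw => hmax w (hw.trans hfz)), hfz, hfc] at hle
  refine le_antisymm ?_ hle
  obtain ⟨c₀, hc₀x, hfc₀, hc₀max, -, -, e, -, -, hfd, hc₀, -⟩ := Groth.Agent.FibSemi.exists_max_fibre f x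
  have hfxy : f x = y := hfx.trans hfz
  obtain ⟨c₁, hc₁, hc₁c⟩ := hMgen c₀ (hc₀x.mem_open V.2 hx.1) (hfc₀.trans hfxy)
  obtain rfl : c₁ = c₀ := hc₀max c₁ ((hMmax c₁ hc₁).2.1.trans hfxy.symm) hc₁c
  have hcz0 : c₁ = z := by
    by_contra hne
    exact hx.2 (Set.mem_iUnion₂.mpr ⟨c₁, ⟨hc₁, hne⟩, specializes_iff_mem_closure.1 hc₀x⟩)
  have hm := Groth.Agent.EquidimPt.fibreDimAt_mono f (hcz.trans hzx)
  rw [Groth.Agent.GUOpen.fibreDimAt_of_max f (fun w hw => hcmax w (hw.trans hfc)), hfc, hfd, ← hc₀, hfc₀,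
    hfxy, hcz0] at hm
  exact hm

end Groth.Agent.S4920
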