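import Groth.Statements.S4921
import Groth.Agent.EquidimPt.FibreFun
-- import your own Groth.Agent.* helpers here

set_option autoImplicit false
open CategoryTheory AlgebraicGeometry
universe u v w
open EGA43

namespace Groth.Agent.S4921

/-- Let Y be a locally Noetherian scheme, f : X ⟶ Y a proper morphism and y a point of Y such that f is
open at every point of the fibre over y. Then the function z ↦ dim X_z is constant on a
neighbourhood of y. -/
theorem result {X Y : Scheme.{u}} [IsLocallyNoetherian Y] (f : X ⟶ Y)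
    [IsProper f] (y : Y) (h : ∀ x : X, f.base x = y → EGA43.IsOpenAt f.base x) :
    ∃ V ∈ nhds y, ∀ z ∈ V, topologicalKrullDim ↥(f.fiber z) = topologicalKrullDim ↥(f.fiber y) := by
  haveI : LocallyOfFinitePresentation f := LocallyOfFinitePresentation.iff_locallyOfFiniteType.mpr inferInstance
  rcases Groth.Agent.EquidimPt.topDim_fiber_finite f y with hempty | ⟨d, hd⟩
  · have hy : y ∉ Set.range f.base := fun ⟨x, hx⟩ => by
      obtain ⟨t, -⟩ : x ∈ Set.range (f.fiberι y) := by rw [f.range_fiberι]; exact hx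
      exact hempty.false t
    refine ⟨(Set.range f.base)ᶜ, f.isClosedMap.isClosed_range.isOpen_compl.mem_nhds hy, fun z hz => ?_⟩
    haveI : IsEmpty ↥(f.fiber z) :=
      ⟨fun t => hz ⟨f.fiberι z t, (f.range_fiberι z).le (Set.mem_range_self t)⟩⟩
    haveI := hempty
    haveI : IsEmpty (TopologicalSpace.IrreducibleCloseds ↥(f.fiber z)) :=
      ⟨fun C => IsEmpty.false C.isIrreducible'.nonempty.some⟩
    haveI : IsEmpty (TopologicalSpace.IrreducibleCloseds ↥(f.fiber y)) :=
      ⟨fun C => IsEmpty.false C.isIrreducible'.nonempty.some⟩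
    exact (Order.krullDim_eq_bot (α := TopologicalSpace.IrreducibleCloseds ↥(f.fiber z))).trans
      (Order.krullDim_eq_bot (α := TopologicalSpace.IrreducibleCloseds ↥(f.fiber y))).symm
  · let C : Set X := {x | FlatMor.fibreDimAt f x ≤ (d : WithBot ℕ∞)}ᶜ
    have hC : IsClosed C := (Groth.Agent.FlatMisc.FibreDimScheme.isOpen_fibreDimAt_le (f := f) d).isClosed_compl
    have hyC : y ∉ f.base '' C := by
      rintro ⟨x, hx, hxy⟩
      exact hx ((Groth.Agent.EquidimPt.topDim_fiber_le_iff f y d).1 hd.le x hxy)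
    obtain ⟨c, hfc, hcmax, hcd⟩ := Groth.Agent.EquidimPt.natCast_le_topDim_fiber f hd.ge
    have h1 := Groth.Agent.EquidimPt.image_mem_nhds_of_isOpenAt f hfc hcmax (h c hfc) hcd ⊤ trivial
    refine ⟨_, Filter.inter_mem ((f.isClosedMap C hC).isOpen_compl.mem_nhds hyC) h1, ?_⟩
    rintro z ⟨hzC, x, ⟨-, hxd⟩, rfl⟩
    rw [hd]
    refine le_antisymm ((Groth.Agent.EquidimPt.topDim_fiber_le_iff f _ _).2 fun w hw => ?_)
      (hxd.trans (Groth.Agent.EquidimPt.fibreDimAt_le_topDim_fiber f x))
    by_contra hn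
    exact hzC ⟨w, hn, hw⟩

end Groth.Agent.S4921
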