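import Groth.Statements.S4922
import Groth.Agent.EquidimPt.FibreFun
-- import your own Groth.Agent.* helpers here

set_option autoImplicit false
open CategoryTheory AlgebraicGeometry
universe u v w
open EGA43

namespace Groth.Agent.S4922

/-- Let Y be a locally Noetherian scheme, f : X ⟶ Y an open morphism of finite type and y a point of Y.
If dim X_y = dim X_{η} for the generic point η of every irreducible component of Y containing y,
then z ↦ dim X_z is constant on a neighbourhood of y. -/
theorem result {X Y : Scheme.{u}} [IsLocallyNoetherian Y]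
    (f : X ⟶ Y) [LocallyOfFiniteType f] [QuasiCompact f] (hf : IsOpenMap f.base) (y : Y)
    (h : ∀ η : Y, y ∈ closure {η} → closure {η} ∈ irreducibleComponents (Y : Type u) →
      topologicalKrullDim ↥(f.fiber y) = topologicalKrullDim ↥(f.fiber η)) :
    ∃ V ∈ nhds y, ∀ z ∈ V, topologicalKrullDim ↥(f.fiber z) = topologicalKrullDim ↥(f.fiber y) := by
  haveI : LocallyOfFinitePresentation f := LocallyOfFinitePresentation.iff_locallyOfFiniteType.mpr inferInstance
  have hopen : ∀ x : X, EGA43.IsOpenAt f.base x := fun x N hN => hf.image_mem_nhds hN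
  obtain ⟨W, hW, hyW, -⟩ := exists_isAffineOpen_mem_and_subset (x := y) (U := (⊤ : Y.Opens)) trivial
  haveI : IsLocallyNoetherian Y := inferInstance
  obtain ⟨M, hM, hMmax, hMgen⟩ : ∃ M : Set Y, M.Finite ∧ (∀ c ∈ M, ∀ z, z ⤳ c → z = c) ∧
      ∀ w ∈ W, ∃ c ∈ M, c ⤳ w := by
    haveI : IsAffine W.toScheme := hW
    haveI : IsLocallyNoetherian W.toScheme := isLocallyNoetherian_of_isOpenImmersion W.ι
    haveI : IsNoetherian W.toScheme := {}
    have hfin : (irreducibleComponents W.toScheme).Finite :=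
      TopologicalSpace.NoetherianSpace.finite_irreducibleComponents
    haveI := hfin.to_subtype
    choose gen hgen using fun C : irreducibleComponents W.toScheme =>
      QuasiSober.sober C.2.1 (isClosed_of_mem_irreducibleComponents C.1 C.2)
    refine ⟨Set.range fun C => W.ι (gen C), Set.finite_range _, ?_, fun w hw => ?_⟩
    · rintro _ ⟨C, rfl⟩ z hz
      obtain ⟨v, rfl⟩ : z ∈ Set.range W.ι := by rw [Scheme.Opens.range_ι]; exact hz.mem_open W.2 (gen C).2
      exact congrArg W.ι (Groth.Agent.QSect.max_of_component C.2 (hgen C) v (W.ι.isEmbedding.specializes_iff.1 hz))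
    · let v : W.toScheme := ⟨w, hw⟩
      exact ⟨_, ⟨⟨_, irreducibleComponent_mem_irreducibleComponents v⟩, rfl⟩,
        ((hgen ⟨_, irreducibleComponent_mem_irreducibleComponents v⟩).specializes mem_irreducibleComponent).map
          W.ι.continuous⟩
  let C : Set Y := ⋃ c ∈ {c ∈ M | ¬ c ⤳ y}, closure {c}
  have hC : IsClosed C := (hM.subset (Set.sep_subset M _)).isClosed_biUnion fun _ _ => isClosed_closure
  have hyC : y ∉ C := fun hy => by
    obtain ⟨c, hc, hcy⟩ := Set.mem_iUnion₂.mp hy
    exact hc.2 (specializes_iff_mem_closure.mpr hcy)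
  have hup : ∀ z ∈ (W : Set Y) ∩ Cᶜ,
      topologicalKrullDim ↥(f.fiber z) ≤ topologicalKrullDim ↥(f.fiber y) := by
    rintro z ⟨hzW, hzC⟩
    obtain ⟨c, hc, hcz⟩ := hMgen z hzW
    have hcy : c ⤳ y := by
      by_contra hcy
      exact hzC (Set.mem_iUnion₂.mpr ⟨c, ⟨hc, hcy⟩, specializes_iff_mem_closure.1 hcz⟩)
    rw [h c (specializes_iff_mem_closure.1 hcy)
      (Groth.Agent.FlatOpen.EquiDim.closure_mem_irreducibleComponents (hMmax c hc))]
    exact Groth.Agent.EquidimPt.topDim_fiber_le_of_isOpenAt f hcz fun x _ => hopen x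
  have hn : (W : Set Y) ∩ Cᶜ ∈ nhds y :=
    Filter.inter_mem (W.2.mem_nhds hyW) (hC.isOpen_compl.mem_nhds hyC)
  rcases Groth.Agent.EquidimPt.topDim_fiber_finite f y with hempty | ⟨d, hd⟩
  · refine ⟨_, hn, fun z hz => le_antisymm (hup z hz) ?_⟩
    haveI := hempty
    haveI : IsEmpty (TopologicalSpace.IrreducibleCloseds ↥(f.fiber y)) :=
      ⟨fun C => IsEmpty.false C.isIrreducible'.nonempty.some⟩
    exact (Order.krullDim_eq_bot (α := TopologicalSpace.IrreducibleCloseds ↥(f.fiber y))).trans_le bot_le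
  · obtain ⟨c, hfc, hcmax, hcd⟩ := Groth.Agent.EquidimPt.natCast_le_topDim_fiber f hd.ge
    have h1 := Groth.Agent.EquidimPt.image_mem_nhds_of_isOpenAt f hfc hcmax (hopen c) hcd ⊤ trivial
    refine ⟨_, Filter.inter_mem hn h1, ?_⟩
    rintro z ⟨hz, x, ⟨-, hxd⟩, rfl⟩
    exact le_antisymm (hup _ hz) (hd.le.trans (hxd.trans (Groth.Agent.EquidimPt.fibreDimAt_le_topDim_fiber f x)))

end Groth.Agent.S4922
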