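import Groth.Statements.S4923
import Groth.Agent.EquidimPt.FibreFun
-- import your own Groth.Agent.* helpers here

set_option autoImplicit false
open CategoryTheory AlgebraicGeometry
universe u v w
open EGA43

namespace Groth.Agent.S4923

/-- Let Y be a locally Noetherian scheme, f : X ⟶ Y an open morphism of finite type and y a point of Y;
for z in Y let E(z) be the set of dimensions of the irreducible components of the fibre X_z. If E(y)
= E(η) for the generic point η of every irreducible component of Y containing y, then E is constant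
on a neighbourhood of y. -/
theorem result {X Y : Scheme.{u}}
    [IsLocallyNoetherian Y] (f : X ⟶ Y) [LocallyOfFiniteType f] [QuasiCompact f] (hf : IsOpenMap f.base) (y : Y) :
    letI E : Y → Set (WithBot ℕ∞) := fun z =>
      (fun Z : Set ↥(f.fiber z) => topologicalKrullDim ↥Z) '' irreducibleComponents ↥(f.fiber z)
    (∀ η : Y, y ∈ closure {η} → closure {η} ∈ irreducibleComponents (Y : Type u) → E y = E η) →
      ∃ V ∈ nhds y, ∀ z ∈ V, E z = E y := by
  intro h
  haveI : LocallyOfFinitePresentation f := LocallyOfFinitePresentation.iff_locallyOfFiniteType.mpr inferInstance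
  have hopen : ∀ x : X, EGA43.IsOpenAt f.base x := fun x N hN => hf.image_mem_nhds hN
  let E : Y → Set (WithBot ℕ∞) := fun z =>
    (fun Z : Set ↥(f.fiber z) => topologicalKrullDim ↥Z) '' irreducibleComponents ↥(f.fiber z)
  obtain ⟨W, hW, hyW, -⟩ := exists_isAffineOpen_mem_and_subset (x := y) (U := (⊤ : Y.Opens)) trivial
  obtain ⟨M, hM, hMmax, hMgen⟩ : ∃ M : Set Y, M.Finite ∧ (∀ c ∈ M, ∀ z, z ⤳ c → z = c) ∧
      ∀ w ∈ W, ∃ c ∈ M, c ⤳ w := by
    haveI : IsAffine W.toScheme := hW
    haveI : IsLocallyNoetherian W.toScheme := isLocallyNoetherian_of_isOpenImmersion W.ι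
    haveI : IsNoetherian W.toScheme := {}
    have hfin : (irreducibleComponents W.toScheme).Finite :=
      TopologicalSpace.NoetherianSpace.finite_irreducibleComponents
    haveI := hfin.to_subtype
    choose gen hgen using fun C : irreducibleComponents W.toScheme =>
      QuasiSober.sober C.2.1 (isClosed_of_mem_irreducibleComponents C.1 C.2)
    refine ⟨Set.range fun C => W.ι (gen C), Set.finite_range _, ?_, fun w hw => ?_⟩
    · rintro _ ⟨C, rfl⟩ z hz
      obtain ⟨v, rfl⟩ : z ∈ Set.range W.ι := by rw [Scheme.Opens.range_ι]; exact hz.mem_open W.2 (gen C).2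
      exact congrArg W.ι (Groth.Agent.QSect.max_of_component C.2 (hgen C) v (W.ι.isEmbedding.specializes_iff.1 hz))
    · let v : W.toScheme := ⟨w, hw⟩
      exact ⟨_, ⟨⟨_, irreducibleComponent_mem_irreducibleComponents v⟩, rfl⟩,
        ((hgen ⟨_, irreducibleComponent_mem_irreducibleComponents v⟩).specializes mem_irreducibleComponent).map
          W.ι.continuous⟩
  let C : Set Y := ⋃ c ∈ {c ∈ M | ¬ c ⤳ y}, closure {c}
  have hC : IsClosed C := (hM.subset (Set.sep_subset M _)).isClosed_biUnion fun _ _ => isClosed_closure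
  have hyC : y ∉ C := fun hy => by
    obtain ⟨c, hc, hcy⟩ := Set.mem_iUnion₂.mp hy
    exact hc.2 (specializes_iff_mem_closure.mpr hcy)
  have hsub : ∀ z ∈ (W : Set Y) ∩ Cᶜ, E z ⊆ E y := by
    rintro z ⟨hzW, hzC⟩ _ ⟨Z, hZ, rfl⟩
    obtain ⟨c, hc, hcz⟩ := hMgen z hzW
    have hcy : c ⤳ y := by
      by_contra hcy
      exact hzC (Set.mem_iUnion₂.mpr ⟨c, ⟨hc, hcy⟩, specializes_iff_mem_closure.1 hcz⟩)
    have hEc : E y = E c := h c (specializes_iff_mem_closure.1 hcy)
      (Groth.Agent.FlatOpen.EquiDim.closure_mem_irreducibleComponents (hMmax c hc))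
    rw [hEc]
    obtain ⟨Z', hZ', hd⟩ := Groth.Agent.EquidimPt.exists_component_same_dim f hcz hZ fun x _ => hopen x
    exact ⟨Z', hZ', hd⟩
  have hfin : (irreducibleComponents ↥(f.fiber y)).Finite := by
    haveI : LocallyOfFiniteType (f.fiberToSpecResidueField y) :=
      inferInstanceAs (LocallyOfFiniteType (Limits.pullback.snd f (Y.fromSpecResidueField y)))
    haveI : QuasiCompact (f.fiberToSpecResidueField y) :=
      inferInstanceAs (QuasiCompact (Limits.pullback.snd f (Y.fromSpecResidueField y)))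
    haveI : IsLocallyNoetherian (f.fiber y) := LocallyOfFiniteType.isLocallyNoetherian (f.fiberToSpecResidueField y)
    haveI : CompactSpace ↥(f.fiber y) := QuasiCompact.compactSpace_of_compactSpace (f.fiberToSpecResidueField y)
    haveI : IsNoetherian (f.fiber y) := {}
    exact TopologicalSpace.NoetherianSpace.finite_irreducibleComponents
  have hmem : ∀ d ∈ E y, ∀ᶠ z in nhds y, d ∈ E z := by
    rintro _ ⟨Z, hZ, rfl⟩
    obtain ⟨ζ, -, hfz, hmax, hdim⟩ := Groth.Agent.EquidimPt.exists_generic_of_component f hZ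
    obtain ⟨x, hfx, hzx, hx⟩ := Groth.Agent.EquidimPt.exists_only_max f hfz hmax
    obtain ⟨a, b, -, -, hfd⟩ := Groth.Agent.FibSemi.fibreDimAt_eq_add f (f.fiberι y ζ)
    have hdZ : topologicalKrullDim ↥Z = ((a + b : ℕ) : WithBot ℕ∞) := by
      rw [hdim, ← hfd, Groth.Agent.GUOpen.fibreDimAt_of_max f (fun w hw => hmax w (hw.trans hfz)), hfz]
    let U : X.Opens := ⟨{w | FlatMor.fibreDimAt f w ≤ ((a + b : ℕ) : WithBot ℕ∞)},
      Groth.Agent.FlatMisc.FibreDimScheme.isOpen_fibreDimAt_le (f := f) (a + b)⟩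
    have hxU : x ∈ U := show FlatMor.fibreDimAt f x ≤ _ from (hx.trans hfd).le
    refine Filter.mem_of_superset (Groth.Agent.EquidimPt.image_mem_nhds_of_isOpenAt f hfz hmax (hopen _) hfd.ge U
      (hzx.mem_open U.2 hxU)) ?_
    rintro z ⟨w, ⟨hwU, hwd⟩, rfl⟩
    obtain ⟨m, -, hfm, hmmax, -, -, e, -, -, hfdw, hm, -⟩ := Groth.Agent.FibSemi.exists_max_fibre f w
    obtain ⟨Z', hZ', hd'⟩ := Groth.Agent.EquidimPt.exists_component_of_max f hfm hmmax
    refine ⟨Z', hZ', ?_⟩
    show topologicalKrullDim ↥Z' = topologicalKrullDim ↥Z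
    rw [hd', hdZ, ← le_antisymm hwU hwd, hfdw, ← hm, hfm]
  have hall : ∀ᶠ z in nhds y, ∀ d ∈ E y, d ∈ E z :=
    (Filter.eventually_all_finite (Set.Finite.image _ hfin)).2 hmem
  refine ⟨_, Filter.inter_mem (Filter.inter_mem (W.2.mem_nhds hyW) (hC.isOpen_compl.mem_nhds hyC)) hall, ?_⟩
  rintro z ⟨hz, hz'⟩
  exact Set.Subset.antisymm (hsub z hz) hz'

end Groth.Agent.S4923
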