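import Groth.Statements.S4924
import Groth.Agent.EquidimPt.FibreFun
-- import your own Groth.Agent.* helpers here

set_option autoImplicit false
open CategoryTheory AlgebraicGeometry
universe u v w
open EGA43

namespace Groth.Agent.S4924

/-- Let Y be a locally Noetherian scheme, f : X ⟶ Y an open morphism of finite type and y a point of Y.
Then there is an open neighbourhood U of the fibre f⁻¹(y) in X such that the function z ↦ dim (U ∩
f⁻¹(z)) is constant on a neighbourhood of y. -/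
theorem result {X Y : Scheme.{u}} [IsLocallyNoetherian Y]
    (f : X ⟶ Y) [LocallyOfFiniteType f] [QuasiCompact f] (hf : IsOpenMap f.base) (y : Y) :
    ∃ U : X.Opens, f.base ⁻¹' {y} ⊆ (U : Set X) ∧ ∃ V ∈ nhds y, ∀ z ∈ V,
      topologicalKrullDim ↥((U : Set X) ∩ f.base ⁻¹' {z}) = topologicalKrullDim ↥((U : Set X) ∩ f.base ⁻¹' {y}) := by
  haveI : LocallyOfFinitePresentation f := LocallyOfFinitePresentation.iff_locallyOfFiniteType.mpr inferInstance
  rcases Groth.Agent.EquidimPt.topDim_fiber_finite f y with hempty | ⟨d, hd⟩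
  · refine ⟨⊥, fun x hx => ?_, Set.univ, Filter.univ_mem, fun z _ => ?_⟩
    · obtain ⟨t, -⟩ : x ∈ Set.range (f.fiberι y) := by rw [f.range_fiberι]; exact hx
      exact (hempty.false t).elim
    · rw [Groth.Agent.GUOpen.topDim_open_inter_fibre, Groth.Agent.GUOpen.topDim_open_inter_fibre]
      refine (congrArg (fun T : Set X => Order.krullDim T) ?_)
      ext w
      simp
  · let U : X.Opens := ⟨{x | FlatMor.fibreDimAt f x ≤ (d : WithBot ℕ∞)},
      Groth.Agent.FlatMisc.FibreDimScheme.isOpen_fibreDimAt_le (f := f) d⟩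
    have hyU : f.base ⁻¹' {y} ⊆ (U : Set X) := fun x hx =>
      (Groth.Agent.EquidimPt.topDim_fiber_le_iff f y d).1 hd.le x hx
    obtain ⟨c, hfc, hcmax, hcd⟩ := Groth.Agent.EquidimPt.natCast_le_topDim_fiber f hd.ge
    have h1 := Groth.Agent.EquidimPt.image_mem_nhds_of_isOpenAt f hfc hcmax (fun N hN => hf.image_mem_nhds hN) hcd U
      (hyU hfc)
    have hle : ∀ z, topologicalKrullDim ↥((U : Set X) ∩ f.base ⁻¹' {z}) ≤ d := fun z => by
      rw [Groth.Agent.GUOpen.topDim_open_inter_fibre]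
      refine iSup_le fun l => ?_
      obtain ⟨m, hm, hfm, hmmax, -⟩ := Groth.Agent.FibSemi.exists_max_fibre f l.last.1
      have hmU : m ∈ U := hm.mem_open U.2 l.last.2.2
      refine le_trans ?_ (show FlatMor.fibreDimAt f m ≤ (d : WithBot ℕ∞) from hmU)
      rw [Groth.Agent.GUOpen.fibreDimAt_of_max f (fun w hw => hmmax w (hw.trans hfm))]
      refine Order.le_krullDim_iff.2 ⟨⟨l.length, fun i => ⟨(l i).1, ?_, ?_⟩, fun i => l.step i⟩, rfl⟩
      · exact (l i).2.1.trans ((hfm.trans l.last.2.1).symm)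
      · exact hm.trans (show l i ≤ l.last from LTSeries.monotone l (Fin.le_last i))
    have hge : ∀ z x, x ∈ U → f.base x = z → (d : WithBot ℕ∞) ≤ FlatMor.fibreDimAt f x →
        (d : WithBot ℕ∞) ≤ topologicalKrullDim ↥((U : Set X) ∩ f.base ⁻¹' {z}) := by
      intro z x hxU hxz hxd
      subst hxz
      obtain ⟨O, hxO, hO⟩ := (Groth.Agent.GUOpen.fibreDimAt_le_iff f x _).1 le_rfl
      refine hxd.trans ?_
      rw [Groth.Agent.GUOpen.topDim_open_inter_fibre]
      exact (Groth.Agent.GUOpen.fibreDimAt_le_iff f x _).2 ⟨U, hxU, le_rfl⟩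
    refine ⟨U, hyU, _, h1, ?_⟩
    rintro z ⟨x, ⟨hxU, hxd⟩, rfl⟩
    exact (le_antisymm (hle _) (hge _ x hxU rfl hxd)).trans
      (le_antisymm (hle _) (hge _ c (hyU hfc) hfc hcd)).symm

end Groth.Agent.S4924
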