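import Groth.Statements.S4930
import Groth.Agent.UnivOpenDVR.Basic
-- import your own Groth.Agent.* helpers here

set_option autoImplicit false
open CategoryTheory AlgebraicGeometry
universe u v w
open EGA43

namespace Groth.Agent.S4930

open CategoryTheory.Limits in
/-- Let Y be a locally Noetherian scheme, f : X ⟶ Y a morphism locally of finite type and y a point of
Y. Then f is universally open at all points of the fibre over y if and only if, for every discrete
valuation ring A and every morphism g : Spec A ⟶ Y mapping the closed point to y, every irreducible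
component of X ×_Y Spec A dominates Spec A. -/
theorem result {X Y : Scheme.{u}} [IsLocallyNoetherian Y] (f : X ⟶ Y)
    [LocallyOfFiniteType f] (y : Y) :
    (∀ x : X, f.base x = y → EGA43.IsUnivOpenAt f x) ↔
      ∀ (A : Type u) [CommRing A] [IsDomain A] [IsDiscreteValuationRing A] (g : Spec (CommRingCat.of A) ⟶ Y),
        g.base (IsLocalRing.closedPoint A) = y →
        ∀ Z ∈ irreducibleComponents (↥(pullback f g) : Type u), Dense ((pullback.snd f g).base '' Z) := by
  constructor
  · intro h A _ _ _ g hg Z hZ
    obtain ⟨z, hz⟩ := QuasiSober.sober hZ.1 (isClosed_of_mem_irreducibleComponents Z hZ)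
    have hne : (pullback.snd f g).base z ≠ IsLocalRing.closedPoint A := by
      intro he
      have hx : f.base ((pullback.fst f g).base z) = y := by
        rw [← hg, ← he]
        exact congrArg (fun m : pullback f g ⟶ Y => m.base z) pullback.condition
      obtain ⟨z', hz', hne'⟩ := (Groth.Agent.UnivOpenDVR.isUnivOpenAt_iff_dvr f _).1 (h _ hx) A g
        (hg.trans hx.symm) z rfl he
      have hsub : Z ⊆ closure {z'} := hz.def ▸ closure_minimal
        (Set.singleton_subset_iff.2 (specializes_iff_mem_closure.1 hz')) isClosed_closure
      have hmem : z' ∈ Z := hZ.2 isIrreducible_singleton.closure hsub (subset_closure rfl)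
      exact hne' ((hz'.antisymm (hz.specializes hmem)).eq.symm ▸ he)
    have heq : (pullback.snd f g).base z = genericPoint (Spec (CommRingCat.of A)) := by
      rw [genericPoint_eq_bot_of_affine]
      by_contra hb
      refine hne (PrimeSpectrum.ext (IsLocalRing.eq_maximalIdeal
        (((pullback.snd f g).base z : PrimeSpectrum A).isPrime.isMaximal fun h0 => hb (PrimeSpectrum.ext h0))))
    intro w
    refine closure_mono (s := {genericPoint (Spec (CommRingCat.of A))})
      (Set.singleton_subset_iff.2 (heq ▸ Set.mem_image_of_mem (pullback.snd f g).base hz.mem)) ?_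
    exact (genericPoint_specializes w).mem_closure
  · intro h x hx
    refine (Groth.Agent.UnivOpenDVR.isUnivOpenAt_iff_dvr f x).2 fun A _ _ _ g hg x' _ hx'c => ?_
    let Z := irreducibleComponent x'
    have hZ : Z ∈ irreducibleComponents (↥(pullback f g) : Type u) :=
      irreducibleComponent_mem_irreducibleComponents x'
    obtain ⟨z, hz⟩ := QuasiSober.sober hZ.1 (isClosed_of_mem_irreducibleComponents Z hZ)
    refine ⟨z, hz.specializes mem_irreducibleComponent, fun he => ?_⟩
    have hd := h A g (hg.trans hx) Z hZ
    have hsub : (pullback.snd f g).base '' Z ⊆ closure {IsLocalRing.closedPoint A} := by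
      rintro _ ⟨w, hw, rfl⟩
      exact specializes_iff_mem_closure.1 (he ▸ (hz.specializes hw).map (pullback.snd f g).continuous)
    have h1 := hd (⟨⊥, Ideal.isPrime_bot⟩ : PrimeSpectrum A)
    have h2 := closure_minimal hsub isClosed_closure h1
    replace h2 := (IsLocalRing.isClosed_singleton_closedPoint A).closure_eq.subset h2
    exact IsDiscreteValuationRing.not_a_field A
      (congrArg PrimeSpectrum.asIdeal (Set.mem_singleton_iff.1 h2)).symm

end Groth.Agent.S4930
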