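import Groth.Statements.S4931
import Groth.Agent.S4930


set_option autoImplicit false
open CategoryTheory AlgebraicGeometry
universe u v w
open EGA43

namespace Groth.Agent.S4931

open CategoryTheory.Limits in
/-- Suppose Y is a locally Noetherian scheme and the morphism f : X ⟶ Y is locally of finite type. The
morphism f is universally open exactly when the following holds: given any discrete valuation ring A
together with any morphism g : Spec A ⟶ Y, each irreducible component of the fibre product X ×_Y
Spec A dominates Spec A (i.e. its image under the second projection is dense). -/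
theorem result {X Y : Scheme.{u}} [IsLocallyNoetherian Y] (f : X ⟶ Y)
    [LocallyOfFiniteType f] :
    UniversallyOpen f ↔
      ∀ (A : Type u) [CommRing A] [IsDomain A] [IsDiscreteValuationRing A] (g : Spec (CommRingCat.of A) ⟶ Y),
        ∀ Z ∈ irreducibleComponents (↥(pullback f g) : Type u), Dense ((pullback.snd f g).base '' Z) := by
  constructor
  · intro hf A _ _ _ g
    refine (S4930.result f (g.base (IsLocalRing.closedPoint A))).1 (fun x _ Y' h x' _ U hU => ?_) A g rfl
    have : UniversallyOpen (Limits.pullback.snd f h) :=
      MorphismProperty.pullback_snd (P := (@UniversallyOpen.{u} : MorphismProperty Scheme.{u})) _ _ hf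
    exact (Scheme.Hom.isOpenMap (Limits.pullback.snd f h)).image_mem_nhds hU
  · intro h
    have hat : ∀ x, EGA43.IsUnivOpenAt f x := fun x =>
      (S4930.result f (f.base x)).2 (fun A _ _ _ g _ => h A g) x rfl
    refine ⟨fun X' Y' i₁ i₂ f' hpb => ?_⟩
    let e := hpb.flip.isoPullback
    have he : e.hom ≫ Limits.pullback.snd f i₂ = f' := hpb.flip.isoPullback_hom_snd
    show IsOpenMap ⇑f'
    have ho : IsOpenMap ⇑(Limits.pullback.snd f i₂) := isOpenMap_iff_nhds_le.2 fun z s hs => by
      have := hat _ Y' i₂ z rfl _ hs
      exact Filter.mem_of_superset this (Set.image_preimage_subset _ _)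
    rw [← he]
    exact ho.comp e.hom.homeomorph.isOpenMap

end Groth.Agent.S4931
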