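import Groth.Statements.S4933
import Groth.Agent.EquidimPt.Component
-- import your own Groth.Agent.* helpers here

set_option autoImplicit false
open CategoryTheory AlgebraicGeometry
universe u v w
open EGA43

namespace Groth.Agent.S4933

open Topology in
theorem topDim_open_inter_fibre {X Y : Scheme.{u}} (f : X ⟶ Y) (U : X.Opens) (y : Y) :
    topologicalKrullDim ↥((U : Set X) ∩ f.base ⁻¹' {y}) = Order.krullDim {z : X | z ∈ U ∧ f.base z = y} := by
  let S := (U : Set X) ∩ f.base ⁻¹' {y}
  let Sf : Set (f ⁻¹' {y}) := Subtype.val ⁻¹' (U : Set X)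
  haveI : QuasiSober (f ⁻¹' {y}) := (f.fiberHomeo y).symm.isClosedEmbedding.quasiSober
  haveI : QuasiSober Sf := (U.2.preimage continuous_subtype_val).isOpenEmbedding_subtypeVal.quasiSober
  let e : Sf ≃ₜ S :=
    { toFun := fun x => ⟨x.1.1, x.2, x.1.2⟩
      invFun := fun x => ⟨⟨x.1, x.2.2⟩, x.2.1⟩
      left_inv := fun _ => rfl
      right_inv := fun _ => rfl
      continuous_toFun := by fun_prop
      continuous_invFun := by fun_prop }
  haveI : QuasiSober S := e.symm.isClosedEmbedding.quasiSober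
  rw [show topologicalKrullDim ↥((U : Set X) ∩ f.base ⁻¹' {y}) = Order.krullDim S from
    (Groth.Agent.DimLift.topDim_eq_krullDim_points (X := S)).trans (by
      congr 1
      exact Preorder.ext fun a b => subtype_specializes_iff b a)]
  rfl

open Topology in
theorem fibreDimAt_le_topDim {X Y : Scheme.{u}} (f : X ⟶ Y) (U : X.Opens) {z : X} (hz : z ∈ U) :
    FlatMor.fibreDimAt f z ≤ topologicalKrullDim ↥((U : Set X) ∩ f.base ⁻¹' {f.base z}) := by
  rw [Groth.Agent.FibSemi.fibreDimAt_eq]
  refine iInf_le_of_le ⟨⟨Subtype.val ⁻¹' (U : Set X), U.2.preimage continuous_subtype_val⟩, hz⟩ ?_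
  exact IsInducing.topologicalKrullDim_le
    (f := fun w : ↥(Subtype.val ⁻¹' (U : Set X) : Set ↥(f ⁻¹' {f z})) => (⟨w.1.1, w.2, w.1.2⟩ : ↥((U : Set X) ∩ f.base ⁻¹' {f.base z})))
    (IsInducing.of_comp (by fun_prop) continuous_subtype_val
      (show IsInducing ((fun w => w.1) ∘ (fun w => w.1) : ↥(Subtype.val ⁻¹' (U : Set X) : Set ↥(f ⁻¹' {f z})) → X)
        from IsInducing.comp IsInducing.subtypeVal IsInducing.subtypeVal))

/-- Let f : X ⟶ Y be a morphism locally of finite type, x a point of X which is a maximal point of its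
fibre X_y, y = f x. Consider: a) f is universally open at x; b) for every irreducible component Y₀
of Y containing y, with generic point η, there is an irreducible component Z of X containing x and
dominating Y₀ such that dim_x(X_y) = dim_x(Z ∩ X_y) = dim(Z ∩ X_η); b') for every open neighbourhood
U of x and every generization y' of y one has dim(U ∩ X_{y'}) ≥ dim_x(X_y). Then a) implies b'), and
b') implies b). (Subsets of X carry the induced topology; dim_x(U ∩ X_y) = dim_x(X_y). The published
statement asserts moreover that b) implies b'); that implication can fail, because a generization y'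
of y need not lie under any point of U ∩ Z: for the finite birational morphism from the affine plane
onto the surface obtained from it by identifying two rational points p and q, at x = p condition b)
holds with all dimensions equal to 0, while for U the complement of a line L through q avoiding p
and y' the image of the generic point of L the set U ∩ X_{y'} is empty. So only a) ⇒ b') and b') ⇒
b) are stated here.) -/
theorem result {X Y : Scheme.{u}} (f : X ⟶ Y) [LocallyOfFiniteType f]
    (x : X) (hmax : ∀ x' : X, f.base x' = f.base x → x ∈ closure {x'} → x' = x) :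
    (EGA43.IsUnivOpenAt f x → (∀ U : X.Opens, x ∈ U → ∀ y' : Y, y' ⤳ f.base x →
        FlatMor.fibreDimAt f x ≤ topologicalKrullDim ↥((U : Set X) ∩ f.base ⁻¹' {y'}))) ∧
    ((∀ U : X.Opens, x ∈ U → ∀ y' : Y, y' ⤳ f.base x →
        FlatMor.fibreDimAt f x ≤ topologicalKrullDim ↥((U : Set X) ∩ f.base ⁻¹' {y'})) →
      (∀ Y₀ ∈ irreducibleComponents (Y : Type u), f.base x ∈ Y₀ →
        ∃ Z ∈ irreducibleComponents (X : Type u), ∃ hx : x ∈ Z, closure (f.base '' Z) = Y₀ ∧
          ∀ η : Y, closure ({η} : Set Y) = Y₀ →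
            FlatMor.fibreDimAt f x = FlatMor.localDim ↥(Z ∩ f.base ⁻¹' {f.base x}) ⟨x, ⟨hx, rfl⟩⟩ ∧
            FlatMor.localDim ↥(Z ∩ f.base ⁻¹' {f.base x}) ⟨x, ⟨hx, rfl⟩⟩ =
              topologicalKrullDim ↥(Z ∩ f.base ⁻¹' {η}))) := by
  constructor
  · intro h U hxU y' hy'
    obtain ⟨z, hfz, hzx, hle⟩ := Groth.Agent.EquidimPt.exists_gen_dim_specializes f h
      (fun z hz hzx => hmax z hz (specializes_iff_mem_closure.1 hzx)) hy'
    refine hle.trans ?_
    subst hfz
    exact Groth.Agent.S4933.fibreDimAt_le_topDim f U (hzx.mem_open U.2 hxU)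
  · intro hb Y₀ hY₀ hy₀
    obtain ⟨η, hη, hηY⟩ := Groth.Agent.FlatOpen.EquiDim.exists_max_closure_eq hY₀
    have hηy : η ⤳ f.base x := specializes_iff_mem_closure.2 (hηY ▸ hy₀)
    obtain ⟨n₀, t₀, -, -, -, -, hfd⟩ := Groth.Agent.EquidimPt.fibre_facts f x
    obtain ⟨V, hV, hxV, -⟩ := exists_isAffineOpen_mem_and_subset (x := x) (U := (⊤ : X.Opens)) trivial
    obtain ⟨M, hM, hMmax, hMgen⟩ := Groth.Agent.GUOpen.exists_finite_max f V hV.isCompact η
    let C : Set X := ⋃ c ∈ {c ∈ M | ¬ c ⤳ x}, closure {c}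
    have hC : IsClosed C := (hM.subset (Set.sep_subset M _)).isClosed_biUnion fun _ _ => isClosed_closure
    have hxC : x ∉ C := fun hx => by
      obtain ⟨c, hc, hcx⟩ := Set.mem_iUnion₂.mp hx
      exact hc.2 (specializes_iff_mem_closure.mpr hcx)
    have h0 := hb (V ⊓ ⟨Cᶜ, hC.isOpen_compl⟩) ⟨hxV, hxC⟩ η hηy
    rw [Groth.Agent.S4933.topDim_open_inter_fibre, hfd] at h0
    obtain ⟨l, hl⟩ := Order.le_krullDim_iff.1 h0
    obtain ⟨c, hc, hcl⟩ := hMgen l.last.1 l.last.2.1.1 l.last.2.2
    obtain ⟨-, hfc, hcmax⟩ := hMmax c hc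
    have hcx : c ⤳ x := by
      by_contra hcx
      exact l.last.2.1.2 (Set.mem_iUnion₂.mpr ⟨c, ⟨hc, hcx⟩, specializes_iff_mem_closure.1 hcl⟩)
    have hdim : ((n₀ + t₀ : ℕ) : WithBot ℕ∞) ≤ Order.krullDim {z : X | f z = f c ∧ c ⤳ z} := by
      refine Order.le_krullDim_iff.2 ⟨⟨l.length, fun j => ⟨(l j).1, ?_, ?_⟩, fun j => l.step j⟩, hl⟩
      · exact (l j).2.2.trans hfc.symm
      · exact hcl.trans (LTSeries.monotone l (Fin.le_last j))
    have hcMax : Groth.Agent.FlatOpen.EquiDim.Max c := fun z hz =>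
      hcmax z (hη _ (hfc ▸ hz.map f.continuous)) hz
    refine ⟨closure {c}, Groth.Agent.FlatOpen.EquiDim.closure_mem_irreducibleComponents hcMax,
      specializes_iff_mem_closure.1 hcx, ?_, fun η' hη' => ?_⟩
    · rw [closure_image_closure f.continuous, Set.image_singleton]
      exact (show closure {f c} = Y₀ from hfc.symm ▸ hηY)
    · obtain rfl : η' = η := (hη' ▸ isGenericPoint_closure : IsGenericPoint η' Y₀).eq (hηY ▸ isGenericPoint_closure)
      have h2 := Groth.Agent.EquidimPt.le_localDim f (specializes_refl c) hcx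
      have h3 := Groth.Agent.EquidimPt.localDim_le_fibreDimAt f (S := closure {c})
        (specializes_iff_mem_closure.1 hcx)
      have h4 : topologicalKrullDim ↥(closure {c} ∩ f.base ⁻¹' {η'}) = Order.krullDim {z : X | f z = f c ∧ c ⤳ z} := by
        refine (Groth.Agent.FibSemi.topDim_closure_inter_fibre_eq f c η').trans ?_
        rw [hfc]
      exact ⟨le_antisymm (hfd.le.trans (hdim.trans h2)) h3, le_antisymm (h3.trans (hfd.le.trans (hdim.trans h4.ge))) (h4.le.trans h2)⟩

end Groth.Agent.S4933
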