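import Groth.Statements.S4935
import Mathlib

set_option autoImplicit false
universe u
open EGA43

namespace Groth.Agent.S4935
set_option linter.style.haveILetI false

/-- Let A be a unibranch local domain, B a domain containing A and integral over A, and 𝔫 a prime ideal
of B lying over the maximal ideal of A. Then Spec B_𝔫 → Spec A is surjective: for every prime ideal
𝔭 of A there is a prime ideal 𝔮 ⊆ 𝔫 of B with 𝔮 ∩ A = 𝔭. -/
theorem result {A B : Type u} [CommRing A] [IsDomain A]
    [IsLocalRing A] (hA : CAlg2.IsUnibranch A) [CommRing B] [IsDomain B] [Algebra A B]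
    (hinj : Function.Injective (algebraMap A B)) [Algebra.IsIntegral A B] (n : Ideal B) [n.IsPrime]
    (hn : n.comap (algebraMap A B) = IsLocalRing.maximalIdeal A) (p : Ideal A) [p.IsPrime] :
    ∃ q : Ideal B, q.IsPrime ∧ q ≤ n ∧ q.comap (algebraMap A B) = p := by
  obtain ⟨_, _⟩ := hA
  let e : A ≃+* CAlg2.red A := RingEquiv.ofBijective (Ideal.Quotient.mk _)
    ⟨(injective_iff_map_eq_zero _).mpr fun a ha => by
      rw [Ideal.Quotient.eq_zero_iff_mem, mem_nilradical] at ha
      exact ha.eq_zero, Ideal.Quotient.mk_surjective⟩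
  let C := CAlg2.normRed A
  let K := FractionRing B
  have hAK : Function.Injective (algebraMap A K) := by
    rw [IsScalarTower.algebraMap_eq A B K]
    exact (IsFractionRing.injective B K).comp hinj
  let φ : FractionRing (CAlg2.red A) →+* K :=
    IsFractionRing.lift (g := (algebraMap A K).comp e.symm.toRingHom) (hAK.comp e.symm.injective)
  let ψ : C →+* K := φ.comp (algebraMap C (FractionRing (CAlg2.red A)))
  letI algCK : Algebra C K := ψ.toAlgebra
  haveI : IsScalarTower A C K := IsScalarTower.of_algebraMap_eq fun a => by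
    show algebraMap A K a = φ (algebraMap C (FractionRing (CAlg2.red A)) (algebraMap A C a))
    rw [← IsScalarTower.algebraMap_apply,
      IsScalarTower.algebraMap_apply A (CAlg2.red A) (FractionRing (CAlg2.red A)),
      IsFractionRing.lift_algebraMap]
    exact congrArg _ (e.symm_apply_apply a).symm
  haveI : Algebra.IsIntegral A C := ⟨fun c => isIntegral_trans (R := A) (A := CAlg2.red A) c
    (Algebra.IsIntegral.isIntegral c)⟩
  haveI : FaithfulSMul C K := (faithfulSMul_iff_algebraMap_injective C K).mpr
    (φ.injective.comp Subtype.val_injective)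
  let D := integralClosure C K
  haveI : Algebra.IsIntegral C D := ⟨fun d => Algebra.IsIntegral.isIntegral d⟩
  have hBD : ∀ b : B, algebraMap B K b ∈ D := fun b =>
    ((Algebra.IsIntegral.isIntegral (R := A) b).map (IsScalarTower.toAlgHom A B K)).tower_top
  letI : Algebra B D := ((algebraMap B K).codRestrict D.toSubring hBD).toAlgebra
  haveI : IsScalarTower A B D := IsScalarTower.of_algebraMap_eq fun a => Subtype.ext (by
    show algebraMap A K a = algebraMap B K (algebraMap A B a)
    rw [← IsScalarTower.algebraMap_apply])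
  haveI : Algebra.IsIntegral A D := Algebra.IsIntegral.trans C
  haveI : Algebra.IsIntegral B D := ⟨fun d => (Algebra.IsIntegral.isIntegral (R := A) d).tower_top⟩
  haveI : FaithfulSMul B D := (faithfulSMul_iff_algebraMap_injective B D).mpr
    fun a b h => IsFractionRing.injective B K (congrArg Subtype.val h)
  haveI : FaithfulSMul C D := (faithfulSMul_iff_algebraMap_injective C D).mpr
    fun a b h => FaithfulSMul.algebraMap_injective C K (congrArg Subtype.val h)
  haveI : FaithfulSMul A C := (faithfulSMul_iff_algebraMap_injective A C).mpr fun a b h =>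
    hAK (by rw [IsScalarTower.algebraMap_apply A C K, h, ← IsScalarTower.algebraMap_apply A C K])
  obtain ⟨n', hn', hn'n⟩ := Ideal.exists_ideal_over_prime_of_isIntegral (R := B) (S := D) n ⊥
    (by rw [← RingHom.ker_eq_comap_bot, (RingHom.injective_iff_ker_eq_bot _).mp
      (FaithfulSMul.algebraMap_injective B D)]; exact bot_le)
  obtain ⟨hn'2, hn'3⟩ := hn'n
  obtain ⟨p', -, hp', hp'p⟩ := Ideal.exists_ideal_over_prime_of_isIntegral (R := A) (S := C) p ⊥
    (by rw [← RingHom.ker_eq_comap_bot, (RingHom.injective_iff_ker_eq_bot _).mp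
      (FaithfulSMul.algebraMap_injective A C)]; exact bot_le)
  have hA' : (n'.comap (algebraMap C D)).comap (algebraMap A C) = IsLocalRing.maximalIdeal A := by
    rw [Ideal.comap_comap, ← IsScalarTower.algebraMap_eq A C D, IsScalarTower.algebraMap_eq A B D,
      ← Ideal.comap_comap, hn'3, hn]
  have hmax : (n'.comap (algebraMap C D)).IsMaximal :=
    Ideal.isMaximal_of_isIntegral_of_isMaximal_comap _ (hA'.symm ▸ IsLocalRing.maximalIdeal.isMaximal A)
  have hle : p' ≤ n'.comap (algebraMap C D) := by
    rw [IsLocalRing.eq_maximalIdeal hmax]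
    exact IsLocalRing.le_maximalIdeal_of_isPrime p'
  haveI : n'.LiesOver (n'.comap (algebraMap C D)) := ⟨rfl⟩
  haveI : Algebra.IsAlgebraic (CAlg2.red A) (FractionRing (CAlg2.red A)) :=
    IsLocalization.isAlgebraic _ (nonZeroDivisors (CAlg2.red A))
  haveI : IsFractionRing C (FractionRing (CAlg2.red A)) :=
    integralClosure.isFractionRing_of_algebraic (fun x hx =>
      (map_eq_zero_iff _ (IsFractionRing.injective (CAlg2.red A) _)).mp hx)
  haveI : IsIntegrallyClosed C :=
    (isIntegrallyClosed_iff_isIntegrallyClosedIn (FractionRing (CAlg2.red A))).mpr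
      (isIntegrallyClosedIn_iff.mpr ⟨Subtype.val_injective, fun {x} hx =>
        ⟨⟨x, isIntegral_trans (R := CAlg2.red A) (A := C) x hx⟩, rfl⟩⟩)
  obtain ⟨q', hq'n, hq', hq'p⟩ := Ideal.exists_ideal_le_liesOver_of_le n' hle
  refine ⟨q'.comap (algebraMap B D), hq'.comap _, (Ideal.comap_mono hq'n).trans hn'3.le, ?_⟩
  rw [Ideal.comap_comap, ← IsScalarTower.algebraMap_eq A B D, IsScalarTower.algebraMap_eq A C D,
    ← Ideal.comap_comap, show q'.comap (algebraMap C D) = p' from hq'p.over.symm, hp'p]


end Groth.Agent.S4935
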