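import Groth.Statements.S4937
import Groth.Agent.S4935
import Groth.Agent.S4928
-- import your own Groth.Agent.* helpers here

set_option autoImplicit false
open CategoryTheory AlgebraicGeometry
universe u v w
open EGA43

namespace Groth.Agent.S4937

/-- Unibranchness only sees the reduction. -/
theorem isUnibranch_of_red_equiv {R R' : Type u} [CommRing R] [IsLocalRing R] [CommRing R'] [IsLocalRing R']
    (e : CAlg2.red R ≃+* CAlg2.red R') (h : CAlg2.IsUnibranch R) : CAlg2.IsUnibranch R' := by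
  obtain ⟨hd, hl⟩ := h
  haveI := hd
  haveI hd' : IsDomain (CAlg2.red R') := e.symm.toMulEquiv.isDomain_iff.mpr hd
  refine ⟨hd', ?_⟩
  let φ : FractionRing (CAlg2.red R) ≃+* FractionRing (CAlg2.red R') := IsFractionRing.ringEquivOfRingEquiv e
  have hφ : ∀ a, φ (algebraMap (CAlg2.red R) _ a) = algebraMap (CAlg2.red R') _ (e a) := fun a =>
    IsFractionRing.ringEquivOfRingEquiv_algebraMap e a
  have hmem : ∀ x : CAlg2.normRed R, IsIntegral (CAlg2.red R') (φ x.1) := fun x =>
    x.2.map_of_comp_eq e.toRingHom φ.toRingHom (RingHom.ext fun a => (hφ a).symm)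
  let ψ : CAlg2.normRed R →+* CAlg2.normRed R' :=
    ((φ.toRingHom.comp (algebraMap (CAlg2.normRed R) (FractionRing (CAlg2.red R)))).codRestrict
      (integralClosure (CAlg2.red R') (FractionRing (CAlg2.red R'))).toSubring hmem)
  haveI := hl
  refine IsLocalRing.of_surjective' ψ fun y => ?_
  refine ⟨⟨φ.symm y.1, y.2.map_of_comp_eq e.symm.toRingHom φ.symm.toRingHom (RingHom.ext fun a => ?_)⟩, ?_⟩
  · show algebraMap (CAlg2.red R) _ (e.symm a) = φ.symm (algebraMap (CAlg2.red R') _ a)
    rw [RingEquiv.eq_symm_apply, hφ, RingEquiv.apply_symm_apply]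
  · exact Subtype.ext (φ.apply_symm_apply y.1)

/-- Going down for quasi-finite domains over a point with unibranch local ring. -/
theorem exists_prime_le_of_qf_unibranch {A B : Type u} [CommRing A] [IsDomain A] [CommRing B] [IsDomain B]
    [Algebra A B] [Algebra.FiniteType A B] [Algebra.QuasiFinite A B] (hinj : Function.Injective (algebraMap A B))
    (Q : Ideal B) [Q.IsPrime] (hu : CAlg2.IsUnibranch (Localization.AtPrime (Q.under A))) (p : Ideal A) [p.IsPrime]
    (hp : p ≤ Q.under A) : ∃ Q₁ : Ideal B, Q₁.IsPrime ∧ Q₁ ≤ Q ∧ Q₁.under A = p := by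
  haveI : Algebra.QuasiFiniteAt A Q := inferInstance
  obtain ⟨r, hrQ, hr, hm⟩ := Algebra.zariskisMainProperty_iff.mp
    (Algebra.ZariskisMainProperty.of_finiteType (R := A) Q)
  let C := integralClosure A B
  haveI : Algebra.IsIntegral A C := integralClosure.AlgebraIsIntegral
  have hAC : Function.Injective (algebraMap A C) := fun a b h => hinj (congrArg Subtype.val h)
  let qC : Ideal C := Q.comap C.val.toRingHom
  haveI hqC : qC.IsPrime := Ideal.comap_isPrime _ _
  let P₀ : Ideal A := Q.under A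
  have hqCA : qC.comap (algebraMap A C) = P₀ := rfl
  let S : Submonoid C := Algebra.algebraMapSubmonoid C P₀.primeCompl
  have hS0 : S ≤ nonZeroDivisors C := by
    rintro _ ⟨s, hs, rfl⟩
    exact mem_nonZeroDivisors_of_ne_zero fun h0 => hs (by
      rw [show s = 0 from hAC (h0.trans (map_zero _).symm)]
      exact P₀.zero_mem)
  let Cs := Localization S
  haveI : IsDomain Cs := IsLocalization.isDomain_of_le_nonZeroDivisors _ hS0
  let A₀ := Localization.AtPrime P₀
  letI : Algebra A₀ Cs := localizationAlgebra P₀.primeCompl C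
  haveI : IsDomain A₀ := IsLocalization.isDomain_of_le_nonZeroDivisors _ P₀.primeCompl_le_nonZeroDivisors
  have htower : ∀ a : A, algebraMap A₀ Cs (algebraMap A A₀ a) = algebraMap C Cs (algebraMap A C a) := fun a =>
    IsLocalization.map_eq _ a
  haveI : Algebra.IsIntegral A₀ Cs := ⟨isIntegral_localization⟩
  have hinj₀ : Function.Injective (algebraMap A₀ Cs) := by
    refine (injective_iff_map_eq_zero _).mpr fun x hx => ?_
    obtain ⟨a, s, rfl⟩ := IsLocalization.exists_mk'_eq P₀.primeCompl x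
    have h1 : algebraMap A₀ Cs (algebraMap A A₀ a) = 0 := by
      rw [← IsLocalization.mk'_spec A₀ a s, map_mul, hx, zero_mul]
    rw [htower] at h1
    have h2 : a = 0 := hAC ((IsLocalization.injective Cs hS0 (h1.trans (map_zero _).symm)).trans (map_zero _).symm)
    rw [h2, IsLocalization.mk'_zero]
  have hdisj : Disjoint (S : Set C) qC := Set.disjoint_left.mpr fun _ hz hzq => by
    obtain ⟨s, hs, rfl⟩ := hz
    exact hs hzq
  let n : Ideal Cs := qC.map (algebraMap C Cs)
  haveI hn : n.IsPrime := IsLocalization.isPrime_of_isPrime_disjoint S Cs qC hqC hdisj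
  have hnC : n.comap (algebraMap C Cs) = qC := IsLocalization.under_map_of_isPrime_disjoint S Cs hqC hdisj
  have hnmax : n.comap (algebraMap A₀ Cs) = IsLocalRing.maximalIdeal A₀ := by
    refine le_antisymm (IsLocalRing.le_maximalIdeal (Ideal.comap_isPrime (algebraMap A₀ Cs) n).ne_top) fun x hx => ?_
    obtain ⟨a, s, rfl⟩ := IsLocalization.exists_mk'_eq P₀.primeCompl x
    have ha : a ∈ P₀ := (IsLocalization.AtPrime.mk'_mem_maximal_iff A₀ P₀ a s).mp hx
    rw [IsLocalization.mk'_eq_mul_mk'_one, Ideal.mem_comap, map_mul, htower]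
    exact n.mul_mem_right _ (Ideal.mem_map_of_mem _ (show algebraMap A C a ∈ qC from ha))
  have hpd : Disjoint (P₀.primeCompl : Set A) p := Set.disjoint_left.mpr fun x hx hxp => hx (hp hxp)
  haveI : (p.map (algebraMap A A₀)).IsPrime := IsLocalization.isPrime_of_isPrime_disjoint P₀.primeCompl A₀ p ‹_› hpd
  obtain ⟨q, hq, hqn, hqp⟩ := Groth.Agent.S4935.result hu hinj₀ n hnmax (p.map (algebraMap A A₀))
  let q₁ : Ideal C := q.comap (algebraMap C Cs)
  haveI hq₁ : q₁.IsPrime := Ideal.comap_isPrime _ _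
  have hq₁le : q₁ ≤ qC := hnC ▸ Ideal.comap_mono hqn
  have hq₁over : q₁.comap (algebraMap A C) = p := by
    ext a
    rw [Ideal.mem_comap, Ideal.mem_comap, ← htower, ← Ideal.mem_comap, hqp, ← Ideal.mem_comap]
    exact SetLike.ext_iff.mp (IsLocalization.under_map_of_isPrime_disjoint P₀.primeCompl A₀ ‹p.IsPrime› hpd) a
  let r' : C := ⟨r, hr⟩
  have hr₁ : r' ∉ q₁ := fun h => hrQ (hq₁le h)
  let J : Ideal B :=
    { carrier := {b | ∃ m : ℕ, ∃ c ∈ q₁, (c : B) = r ^ m * b}
      zero_mem' := ⟨0, 0, q₁.zero_mem, by simp⟩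
      add_mem' := by
        rintro a b ⟨m, c, hc, hca⟩ ⟨m', c', hc', hcb⟩
        refine ⟨m + m', r' ^ m' * c + r' ^ m * c', q₁.add_mem (q₁.mul_mem_left _ hc) (q₁.mul_mem_left _ hc'), ?_⟩
        simp only [Subalgebra.coe_add, Subalgebra.coe_mul, Subalgebra.coe_pow, hca, hcb, r']
        ring
      smul_mem' := by
        rintro x b ⟨m, c, hc, hcb⟩
        obtain ⟨k, hk⟩ := hm x
        refine ⟨k + m, (⟨r ^ k * x, hk⟩ : C) * c, q₁.mul_mem_left _ hc, ?_⟩
        simp only [Subalgebra.coe_mul, hcb, smul_eq_mul]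
        ring }
  have hJ : ∀ c : C, (c : B) ∈ J ↔ c ∈ q₁ := by
    refine fun c => ⟨?_, fun h => ⟨0, c, h, by simp⟩⟩
    rintro ⟨m, c', hc', he⟩
    have : c' = r' ^ m * c := Subtype.ext (by simpa using he)
    rw [this] at hc'
    exact (hq₁.mem_or_mem hc').resolve_left fun h => hr₁ (hq₁.mem_of_pow_mem m h)
  refine ⟨J, ⟨?_, ?_⟩, ?_, ?_⟩
  · intro h
    have := (hJ 1).1 (by rw [h]; trivial)
    exact hq₁.ne_top ((Ideal.eq_top_iff_one _).2 this)
  · intro a b hab
    obtain ⟨k, hk⟩ := hm a
    obtain ⟨l, hl⟩ := hm b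
    have hmem : ((⟨r ^ k * a, hk⟩ : C) * ⟨r ^ l * b, hl⟩ : C) ∈ q₁ := (hJ _).1 (by
      show r ^ k * a * (r ^ l * b) ∈ J
      rw [mul_mul_mul_comm]
      exact J.mul_mem_left _ hab)
    exact (hq₁.mem_or_mem hmem).imp (fun h => ⟨k, _, h, rfl⟩) (fun h => ⟨l, _, h, rfl⟩)
  · rintro b ⟨m, c, hc, hcb⟩
    have h1 : (c : B) ∈ Q := hq₁le hc
    rw [hcb] at h1
    exact ((‹Q.IsPrime›).mem_or_mem h1).resolve_left fun h => hrQ ((‹Q.IsPrime›).mem_of_pow_mem m h)
  · ext a
    rw [← hq₁over, Ideal.mem_comap, Ideal.mem_comap]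
    exact hJ (algebraMap A C a)

/-- Let X and Y be irreducible schemes and f : X ⟶ Y a dominant morphism which is locally of finite
presentation and locally quasi-finite. If x is a point of X whose image y = f x has unibranch local
ring O_{Y,y}, then f is open at x. (Stated for f locally of finite presentation, the class to which
the openness criterion by lifting of generizations used in the published argument applies; the
published hypothesis is 'locally quasi-finite', which includes locally of finite type.) -/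
theorem result {X Y : Scheme.{u}} [IrreducibleSpace X]
    [IrreducibleSpace Y] (f : X ⟶ Y) [LocallyOfFinitePresentation f] [LocallyQuasiFinite f] [IsDominant f]
    (x : X) (hy : CAlg2.IsUnibranch (Y.presheaf.stalk (f.base x))) : EGA43.IsOpenAt f.base x := by
  refine Groth.Agent.S4928.isOpenAt_of_gen f x fun U hxU t ht => ?_
  obtain ⟨V, hV, hyV, -⟩ := exists_isAffineOpen_mem_and_subset (x := f.base x) (U := (⊤ : Y.Opens)) trivial
  obtain ⟨W, hW, hxW, hWle⟩ := exists_isAffineOpen_mem_and_subset (x := x) (U := f ⁻¹ᵁ V) hyV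
  have eW : W ≤ f ⁻¹ᵁ V := hWle
  let φ : Γ(Y, V) →+* Γ(X, W) := (f.appLE V W eW).hom
  haveI hmapP : ∀ P : PrimeSpectrum Γ(X, W), f.base (hW.fromSpec P) = hV.fromSpec (PrimeSpectrum.comap φ P) :=
    fun P => congrArg (fun m : Spec Γ(X, W) ⟶ Y => m P) (hV.SpecMap_appLE_fromSpec f hW eW).symm
  let N := nilradical Γ(Y, V)
  let M := nilradical Γ(X, W)
  obtain ⟨GY, hGY⟩ : genericPoint Y ∈ Set.range hV.fromSpec := by
    rw [hV.range_fromSpec]; exact (genericPoint_specializes _).mem_open V.2 hyV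
  obtain ⟨GX, hGX⟩ : genericPoint X ∈ Set.range hW.fromSpec := by
    rw [hW.range_fromSpec]; exact (genericPoint_specializes _).mem_open W.2 hxW
  have hnil : ∀ {Z : Scheme.{u}} [IrreducibleSpace Z] {O : Z.Opens} (hO : IsAffineOpen O) (G : PrimeSpectrum Γ(Z, O)),
      hO.fromSpec G = genericPoint Z → nilradical Γ(Z, O) = G.asIdeal := by
    intro Z _ O hO G hG
    refine le_antisymm (nilradical_le_prime _) ?_
    rw [nilradical_eq_sInf]
    refine le_sInf fun p hp => ?_
    haveI : p.IsPrime := hp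
    refine (PrimeSpectrum.le_iff_specializes G ⟨p, hp⟩).mpr (hO.fromSpec.isOpenEmbedding.isEmbedding.specializes_iff.mp ?_)
    rw [hG]
    exact genericPoint_specializes _
  have hN : N = GY.asIdeal := hnil hV GY hGY
  have hM : M = GX.asIdeal := hnil hW GX hGX
  have hNM : N = M.comap φ := by
    rw [hN, hM]
    show GY.asIdeal = (PrimeSpectrum.comap φ GX).asIdeal
    refine congrArg PrimeSpectrum.asIdeal (hV.fromSpec.isOpenEmbedding.injective ?_)
    rw [hGY, ← hmapP, hGX]
    exact ((genericPoint_spec X).image f.continuous |>.eq (by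
      rw [Set.image_univ, f.denseRange.closure_range]
      exact genericPoint_spec Y)).symm
  haveI : N.IsPrime := hN ▸ GY.isPrime
  haveI : M.IsPrime := hM ▸ GX.isPrime
  let A := Γ(Y, V) ⧸ N
  let B := Γ(X, W) ⧸ M
  haveI : IsDomain A := Ideal.Quotient.isDomain N
  haveI : IsDomain B := Ideal.Quotient.isDomain M
  letI : Algebra Γ(Y, V) Γ(X, W) := φ.toAlgebra
  haveI : Algebra.FiniteType Γ(Y, V) Γ(X, W) := LocallyOfFiniteType.finiteType_appLE f hV hW eW
  haveI : Algebra.QuasiFinite Γ(Y, V) Γ(X, W) := LocallyQuasiFinite.quasiFinite_appLE hV hW eW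
  letI : Algebra A B := (Ideal.quotientMap M φ hNM.le).toAlgebra
  haveI : IsScalarTower Γ(Y, V) A B := IsScalarTower.of_algebraMap_eq fun _ => rfl
  haveI : Algebra.FiniteType Γ(Y, V) B :=
    .of_surjective (Ideal.Quotient.mkₐ _ M) Ideal.Quotient.mk_surjective
  haveI : Algebra.FiniteType A B := .of_restrictScalars_finiteType Γ(Y, V) A B
  haveI : Algebra.QuasiFinite Γ(Y, V) B := inferInstance
  haveI : Algebra.QuasiFinite A B := Algebra.QuasiFinite.of_restrictScalars Γ(Y, V) A B
  have hinj : Function.Injective (algebraMap A B) := Ideal.quotientMap_injective' (H := hNM.le) hNM.ge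
  obtain ⟨P, hP⟩ : x ∈ Set.range hW.fromSpec := by rw [hW.range_fromSpec]; exact hxW
  obtain ⟨p₀, hp₀⟩ : t ∈ Set.range hV.fromSpec := by rw [hV.range_fromSpec]; exact ht.mem_open V.2 hyV
  let p := PrimeSpectrum.comap φ P
  have hp : hV.fromSpec p = f.base x := by rw [← hmapP, hP]
  have hp₀p : p₀.asIdeal ≤ p.asIdeal := (PrimeSpectrum.le_iff_specializes p₀ p).mpr
    (hV.fromSpec.isOpenEmbedding.isEmbedding.specializes_iff.mp (by rw [hp, hp₀]; exact ht))
  haveI : (P.asIdeal.map (Ideal.Quotient.mk M)).IsPrime := Ideal.map_isPrime_of_surjective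
    Ideal.Quotient.mk_surjective (by rw [Ideal.mk_ker]; exact nilradical_le_prime _)
  haveI : (p₀.asIdeal.map (Ideal.Quotient.mk N)).IsPrime := Ideal.map_isPrime_of_surjective
    Ideal.Quotient.mk_surjective (by rw [Ideal.mk_ker]; exact nilradical_le_prime _)
  let Q := P.asIdeal.map (Ideal.Quotient.mk M)
  let P₀ : Ideal A := Q.under A
  have hQP : Q.comap (Ideal.Quotient.mk M) = P.asIdeal := by
    rw [Ideal.comap_map_of_surjective _ Ideal.Quotient.mk_surjective, ← RingHom.ker_eq_comap_bot, Ideal.mk_ker]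
    exact sup_eq_left.mpr (nilradical_le_prime _)
  have hP₀ : P₀.comap (Ideal.Quotient.mk N) = p.asIdeal := by
    show (Q.comap (algebraMap A B)).comap _ = P.asIdeal.comap φ
    rw [Ideal.comap_comap, ← hQP, Ideal.comap_comap]
    rfl
  have hu : CAlg2.IsUnibranch (Localization.AtPrime P₀) := by
    rw [← hp] at hy
    letI alg := TopCat.Presheaf.algebra_section_stalk Y.presheaf (⟨hV.fromSpec p, hV.range_fromSpec.le ⟨p, rfl⟩⟩ : V)
    haveI hloc : IsLocalization.AtPrime (Y.presheaf.stalk (hV.fromSpec p)) p.asIdeal :=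
      hV.isLocalization_stalk' p (hV.range_fromSpec.le ⟨p, rfl⟩)
    let O := Y.presheaf.stalk (hV.fromSpec p)
    have hunit : ∀ s : p.asIdeal.primeCompl,
        IsUnit (((algebraMap A (Localization.AtPrime P₀)).comp (Ideal.Quotient.mk N)) s) := fun s =>
      IsLocalization.map_units (Localization.AtPrime P₀)
        (⟨Ideal.Quotient.mk N s, fun h => s.2 (hP₀.le h)⟩ : P₀.primeCompl)
    let π : O →+* Localization.AtPrime P₀ := IsLocalization.lift hunit
    have hπsurj : Function.Surjective π := fun z => by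
      obtain ⟨a, s, rfl⟩ := IsLocalization.exists_mk'_eq P₀.primeCompl z
      obtain ⟨a, rfl⟩ := Ideal.Quotient.mk_surjective a
      obtain ⟨b, hb⟩ := Ideal.Quotient.mk_surjective (s : A)
      have hbp : b ∉ p.asIdeal := fun hb' => s.2 (by rw [← hb]; rw [← hP₀] at hb'; exact hb')
      refine ⟨IsLocalization.mk' O a (⟨b, hbp⟩ : p.asIdeal.primeCompl), ?_⟩
      rw [IsLocalization.lift_mk'_spec]
      show algebraMap A _ (Ideal.Quotient.mk N a) = algebraMap A _ (Ideal.Quotient.mk N b) * _
      rw [hb, mul_comm, IsLocalization.mk'_spec]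
    have hker : RingHom.ker π = nilradical O := by
      refine le_antisymm (fun z hz => ?_) fun z hz => ?_
      · obtain ⟨a, s, rfl⟩ := IsLocalization.exists_mk'_eq p.asIdeal.primeCompl z
        rw [RingHom.mem_ker, IsLocalization.lift_mk'_spec, mul_zero] at hz
        have hz' : algebraMap A (Localization.AtPrime P₀) (Ideal.Quotient.mk N a) = 0 := hz
        have haN : a ∈ N := Ideal.Quotient.eq_zero_iff_mem.mp
          (IsLocalization.injective (Localization.AtPrime P₀) P₀.primeCompl_le_nonZeroDivisors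
            (hz'.trans (map_zero _).symm))
        rw [mem_nilradical, IsLocalization.mk'_eq_mul_mk'_one]
        obtain ⟨k, hk⟩ := mem_nilradical.mp haN
        exact ⟨k, by rw [mul_pow, ← map_pow, hk, map_zero, zero_mul]⟩
      · haveI : IsDomain (Localization.AtPrime P₀) :=
          IsLocalization.isDomain_of_le_nonZeroDivisors _ P₀.primeCompl_le_nonZeroDivisors
        exact RingHom.mem_ker.mpr ((mem_nilradical.mp hz).map π).eq_zero
    let e₁ : CAlg2.red O ≃+* Localization.AtPrime P₀ :=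
      (Ideal.quotEquivOfEq hker.symm).trans (RingHom.quotientKerEquivOfSurjective hπsurj)
    haveI : IsDomain (Localization.AtPrime P₀) :=
      IsLocalization.isDomain_of_le_nonZeroDivisors _ P₀.primeCompl_le_nonZeroDivisors
    let e₂ : Localization.AtPrime P₀ ≃+* CAlg2.red (Localization.AtPrime P₀) :=
      ((Ideal.quotEquivOfEq (nilradical_eq_zero _)).trans (RingEquiv.quotientBot _)).symm
    exact Groth.Agent.S4937.isUnibranch_of_red_equiv (e₁.trans e₂) hy
  obtain ⟨Q₁, hQ₁, hle, hover⟩ := Groth.Agent.S4937.exists_prime_le_of_qf_unibranch hinj Q hu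
    (p₀.asIdeal.map (Ideal.Quotient.mk N)) (by
      show _ ≤ P₀
      rw [Ideal.map_le_iff_le_comap, hP₀]
      exact hp₀p)
  let P₁ : PrimeSpectrum Γ(X, W) := ⟨Q₁.comap (Ideal.Quotient.mk M), Ideal.comap_isPrime _ _⟩
  have hP₁ : hW.fromSpec P₁ ⤳ x := by
    rw [← hP]
    exact ((PrimeSpectrum.le_iff_specializes P₁ P).mp ((Ideal.comap_mono hle).trans hQP.le)).map hW.fromSpec.continuous
  refine ⟨hW.fromSpec P₁, hP₁.mem_open U.2 hxU, ?_⟩
  refine (hmapP P₁).trans (Eq.trans ?_ hp₀)
  refine congrArg hV.fromSpec (PrimeSpectrum.ext ?_)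
  show (Q₁.comap (Ideal.Quotient.mk M)).comap φ = p₀.asIdeal
  rw [Ideal.comap_comap, show (Ideal.Quotient.mk M).comp φ = (algebraMap A B).comp (Ideal.Quotient.mk N) from rfl,
    ← Ideal.comap_comap]
  show (Q₁.under A).comap _ = _
  rw [hover, Ideal.comap_map_of_surjective _ Ideal.Quotient.mk_surjective, ← RingHom.ker_eq_comap_bot, Ideal.mk_ker]
  exact sup_eq_left.mpr (nilradical_le_prime _)

end Groth.Agent.S4937
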