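import Groth.Statements.S4938
import Groth.Agent.GUOpen.Crit

set_option autoImplicit false
open CategoryTheory AlgebraicGeometry
universe u v w
open EGA43

namespace Groth.Agent.S4938

/-- Let Y be a locally Noetherian scheme, f : X ⟶ Y a morphism locally of finite type, and y a
geometrically unibranch point of Y, lying on the unique irreducible component Y₀ of Y with generic
point η. The following are equivalent: a) f is universally open at every point of X_y; b) every
point x of X_y lies on an irreducible component Z of X dominating Y₀ with dim_x(Z ∩ X_y) = dim(Z ∩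
X_η); b'') for every open subset U of X, dim(U ∩ X_η) ≥ dim(U ∩ X_y); c) f is open at every point of
X_y. (The published statement assumes Y locally Noetherian only for c) and also lists b′), the
pointwise form of b″) (for every x in X_y and every open U ∋ x, dim(U ∩ X_η) ≥ dim_x(U ∩ X_y)); over
the spectrum of an infinite product of copies of a field, the inclusion of a non-open closed point
satisfies b) and b″) but not a), so this row takes Y locally Noetherian throughout, and b′) is not
listed.) -/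
theorem result {X Y : Scheme.{u}} [IsLocallyNoetherian Y] (f : X ⟶ Y)
    [LocallyOfFiniteType f] (y : Y) (hy : CAlg2.IsGeomUnibranch (Y.presheaf.stalk y)) :
    List.TFAE [∀ x : X, f.base x = y → EGA43.IsUnivOpenAt f x,
      ∀ x : X, f.base x = y → ∀ Y₀ ∈ irreducibleComponents (Y : Type u), y ∈ Y₀ →
        ∃ Z ∈ irreducibleComponents (X : Type u), ∃ hx : x ∈ Z, closure (f.base '' Z) = Y₀ ∧
          ∀ η : Y, closure ({η} : Set Y) = Y₀ →
            FlatMor.localDim ↥(Z ∩ f.base ⁻¹' {f.base x}) ⟨x, ⟨hx, rfl⟩⟩ = topologicalKrullDim ↥(Z ∩ f.base ⁻¹' {η}),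
      ∀ U : X.Opens, ∀ Y₀ ∈ irreducibleComponents (Y : Type u), y ∈ Y₀ → ∀ η : Y, closure ({η} : Set Y) = Y₀ →
        topologicalKrullDim ↥((U : Set X) ∩ f.base ⁻¹' {y}) ≤ topologicalKrullDim ↥((U : Set X) ∩ f.base ⁻¹' {η}),
      ∀ x : X, f.base x = y → EGA43.IsOpenAt f.base x] := by
  tfae_have 1 → 4 := fun h x hx => GUOpen.isOpenAt_of_univ f (h x hx)
  tfae_have 4 → 3 := fun h U Y₀ hY₀ hyY₀ η hη => by
    rw [GUOpen.topDim_open_inter_fibre f U y]
    refine iSup_le fun l => ?_
    obtain ⟨c, hcw, hfc, hcm, n, m, e, -, -, -, hc, -⟩ := FibSemi.exists_max_fibre f (l.last).1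
    have hcy : f c = y := hfc.trans (l.last).2.1
    have hcmax : ∀ z, f z = f c → z ⤳ c → z = c := fun z hz => hcm z (hz.trans hfc)
    obtain ⟨ξ, hξc, hfξ, -, hξd⟩ := GUOpen.exists_gen_dim_of_isOpenAt f (h c hcy) hcmax (y' := η)
      (hcy ▸ (show IsGenericPoint η Y₀ from hη).specializes hyY₀)
    have h1 : ((l.length : ℕ∞) : WithBot ℕ∞) ≤ Order.krullDim {z : X | f z = f c ∧ c ⤳ z} :=
      Order.le_krullDim_iff.mpr ⟨LTSeries.mk l.length (fun i => ⟨(l i).1, (l i).2.1.trans hcy.symm,
        hcw.trans (show (l.last).1 ⤳ (l i).1 from l.monotone (Fin.le_last i))⟩) fun i j hij => l.strictMono hij, rfl⟩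
    refine h1.trans ?_
    rw [← GUOpen.fibreDimAt_of_max f hcmax]
    refine hξd.trans ?_
    rw [← hfξ]
    exact GUOpen.le_dim_open f U ((hξc.trans hcw).mem_open U.isOpen (l.last).2.2)
  tfae_have 3 → 2 := fun h x hx Y₀ hY₀ hyY₀ => by
    obtain ⟨η, hη⟩ := QuasiSober.sober hY₀.1 (isClosed_of_mem_irreducibleComponents Y₀ hY₀)
    obtain ⟨n, m, -, -, hfd⟩ := FibSemi.fibreDimAt_eq_add f x
    obtain ⟨c, hcx, hfc, hcm, hcd⟩ := GUOpen.exists_gen_of_dim_le f (n + m) (fun U hU => by
      refine le_trans ?_ (h U Y₀ hY₀ hyY₀ η hη)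
      rw [← hfd, ← hx]
      exact (GUOpen.fibreDimAt_le_iff f x _).mpr ⟨U, hU, (GUOpen.topDim_open_inter_fibre f U (f x)).ge⟩)
    obtain ⟨hZ, hcl, hdim⟩ := GUOpen.component_facts f hY₀ hη hfc hcm
    refine ⟨_, hZ, specializes_iff_mem_closure.mp hcx, hcl, fun η' hη' => ?_⟩
    rw [hdim η' hη']
    exact GUOpen.localDim_eq_of_gen f hcx (hfd.le.trans hcd)
  tfae_have 2 → 1 := fun h x hx => by
    subst hx
    obtain ⟨Z, hZ, hx, hcl, hdim⟩ :=
      h x rfl _ (irreducibleComponent_mem_irreducibleComponents (f.base x)) mem_irreducibleComponent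
    exact GUOpen.isUnivOpenAt_of_component f hy (irreducibleComponent_mem_irreducibleComponents _) hZ hx hcl hdim
  tfae_finish

end Groth.Agent.S4938
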