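import Groth.Statements.S4943
import Groth.Agent.FibSemi.Equidim

set_option autoImplicit false
open CategoryTheory AlgebraicGeometry
universe u v w
open EGA43

namespace Groth.Agent.S4943

/-- Let Y be an irreducible locally Noetherian scheme, f : X ⟶ Y a morphism locally of finite type which
is equidimensional at the point x, y = f x and e = dim_x(X_y). Let X' be an irreducible closed
subset of X containing x, with generic point x', and n a natural number such that codim(X', X) ≤ n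
(the codimension being dim O_{X,x'}) and dim_x(X' ∩ X_y) ≤ e − n. Then codim(X', X) = n, dim_x(X' ∩
X_y) = e − n, and the restriction of f to X' with its reduced subscheme structure is equidimensional
at x. -/
theorem result {X Y : Scheme.{u}} [IrreducibleSpace Y]
    [IsLocallyNoetherian Y] (f : X ⟶ Y) [LocallyOfFiniteType f] (x : X) (hf : EGA43.IsEquidimAt f x)
    (X' : TopologicalSpace.Closeds X) (x' : X) (hx' : closure ({x'} : Set X) = (X' : Set X)) (hx : x ∈ X') (n : ℕ)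
    (hcodim : ringKrullDim (X.presheaf.stalk x') ≤ n)
    (hdim : FlatMor.localDim ↥((X' : Set X) ∩ f.base ⁻¹' {f.base x}) ⟨x, ⟨hx, rfl⟩⟩ + n ≤ FlatMor.fibreDimAt f x) :
    ringKrullDim (X.presheaf.stalk x') = n ∧
      FlatMor.localDim ↥((X' : Set X) ∩ f.base ⁻¹' {f.base x}) ⟨x, ⟨hx, rfl⟩⟩ + n = FlatMor.fibreDimAt f x ∧
      ∀ w : ↥(Scheme.IdealSheafData.vanishingIdeal X').subscheme,
        (Scheme.IdealSheafData.vanishingIdeal X').subschemeι.base w = x →
        EGA43.IsEquidimAt ((Scheme.IdealSheafData.vanishingIdeal X').subschemeι ≫ f) w := by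
  obtain ⟨e, U, hxU, hgen, hM⟩ := Groth.Agent.FibSemi.facts_of_isEquidimAt f hf
  have hfde : FlatMor.fibreDimAt f x = e := Groth.Agent.FibSemi.fibreDimAt_of_facts f hM hxU
  let ι := (Scheme.IdealSheafData.vanishingIdeal X').subschemeι
  let g := ι ≫ f
  haveI : LocallyOfFiniteType g := inferInstanceAs (LocallyOfFiniteType (ι ≫ f))
  have hrange : Set.range ι = (X' : Set X) := by
    show Set.range (Scheme.IdealSheafData.vanishingIdeal X').subschemeι = _
    rw [Scheme.IdealSheafData.range_subschemeι, Scheme.IdealSheafData.coe_support_vanishingIdeal]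
  have hmem : ∀ z, ι z ∈ (X' : Set X) := fun z => hrange ▸ ⟨z, rfl⟩
  have hx'z : ∀ z, x' ⤳ ι z := fun z => by rw [specializes_iff_mem_closure, hx']; exact hmem z
  have hιle : ∀ a b, ι a ≤ ι b ↔ a ≤ b := fun a b => ι.isEmbedding.specializes_iff
  obtain ⟨w₀, hw₀⟩ : x ∈ Set.range ι := by rw [hrange]; exact hx
  obtain ⟨ξ, hξ⟩ : x' ∈ Set.range ι := by
    rw [hrange, ← hx']; exact subset_closure rfl
  have hξspec : ∀ z, ξ ⤳ z := fun z => ι.isEmbedding.specializes_iff.mp (by rw [hξ]; exact hx'z z)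
  have hgw : g w₀ = f x := congrArg f hw₀
  have hgξ : g ξ = f x' := congrArg f hξ
  have hx'x : x' ⤳ x := hw₀ ▸ hx'z w₀
  -- the local dimension of `X' ∩ X_y`
  have hD : FlatMor.localDim ↥((X' : Set X) ∩ f.base ⁻¹' {f.base x}) ⟨x, ⟨hx, rfl⟩⟩ = FlatMor.fibreDimAt g w₀ := by
    rw [Groth.Agent.FibSemi.fibreDimAt_eq]
    let φ : g ⁻¹' {g w₀} → ↥((X' : Set X) ∩ f.base ⁻¹' {f.base x}) := fun z =>
      ⟨ι z.1, hmem z.1, (show f (ι z.1) = g w₀ from z.2).trans hgw⟩
    have hφi : Topology.IsInducing φ :=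
      Topology.IsInducing.of_comp (by fun_prop) continuous_subtype_val
        (ι.isEmbedding.isInducing.comp Topology.IsInducing.subtypeVal)
    have hφb : Function.Bijective φ := by
      refine ⟨fun a b h => Subtype.ext (ι.isEmbedding.injective (congrArg Subtype.val h :)), ?_⟩
      rintro ⟨z, hz, hfz⟩
      obtain ⟨z', rfl⟩ : z ∈ Set.range ι := by rw [hrange]; exact hz
      exact ⟨⟨z', (show f (ι z') = f x from hfz).trans hgw.symm⟩, rfl⟩
    let e₁ : g ⁻¹' {g w₀} ≃ₜ ↥((X' : Set X) ∩ f.base ⁻¹' {f.base x}) :=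
      (Equiv.ofBijective φ hφb).toHomeomorphOfIsInducing hφi
    have he₁ : e₁ ⟨w₀, rfl⟩ = ⟨x, ⟨hx, rfl⟩⟩ := Subtype.ext hw₀
    refine le_antisymm ?_ ?_
    · rw [← he₁]
      exact Groth.Agent.FibSemi.localDim_homeo e₁ _
    · have h := Groth.Agent.FibSemi.localDim_homeo e₁.symm (e₁ ⟨w₀, rfl⟩)
      rw [e₁.symm_apply_apply, he₁] at h
      exact h
  obtain ⟨k, m, -, -, hgD⟩ := Groth.Agent.FibSemi.fibreDimAt_eq_add g w₀
  obtain ⟨-, d, -, hd, -⟩ := Groth.Agent.FibSemi.fibreDimAt_eq_add f x'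
  have hdim' : Order.krullDim {z | g z = g ξ ∧ ξ ⤳ z} = Order.krullDim {z : X | f z = f x' ∧ x' ⤳ z} := by
    refine Groth.Agent.FibSemi.krullDim_eq_of_embedding ι hιle ι.isEmbedding.injective _ _ fun z => ?_
    constructor
    · rintro ⟨h1, h2⟩
      obtain ⟨z', rfl⟩ : z ∈ Set.range ι := by rw [hrange, ← hx']; exact specializes_iff_mem_closure.mp h2
      exact ⟨z', ⟨h1.trans hgξ.symm, hξspec z'⟩, rfl⟩
    · rintro ⟨z', ⟨hz1, -⟩, rfl⟩
      exact ⟨hz1.trans hgξ, hx'z z'⟩
  have hdD : d ≤ k + m := by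
    have h := Groth.Agent.FibSemi.topDim_closure_le_fibreDimAt g (hξspec w₀)
    rw [Groth.Agent.FibSemi.topDim_closure_inter_fibre_eq, hdim', hd, hgD] at h
    exact_mod_cast h
  rw [hD, hgD, hfde] at hdim
  have hDn : k + m + n ≤ e := by exact_mod_cast hdim
  rw [Groth.Agent.FibSemi.ringKrullDim_stalk_eq] at hcodim ⊢
  obtain ⟨hcod, hfx', hdn⟩ := Groth.Agent.FibSemi.codim_core f hgen hM (hx'x.mem_open U.isOpen hxU) n d hd hcodim
    (by omega)
  have hDd : k + m = d := by omega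
  refine ⟨hcod, ?_, fun w hw => ?_⟩
  · rw [hD, hgD, hfde]
    exact_mod_cast (by omega : k + m + n = e)
  · obtain rfl : w = w₀ := ι.isEmbedding.injective (hw.trans hw₀.symm)
    refine Groth.Agent.FibSemi.isEquidimAt_of g w
      ⟨_, Groth.Agent.FlatMisc.FibreDimScheme.isOpen_fibreDimAt_le g d⟩ ?_ d (fun z _ hz => ?_) fun z hz => hz
    · show FlatMor.fibreDimAt g w ≤ d
      rw [hgD, hDd]
    · obtain rfl : z = ξ := (hz ξ (hξspec z)).symm
      exact ⟨hgξ.trans hfx', hdim'.trans hd⟩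

end Groth.Agent.S4943
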