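import Groth.Statements.S4944
import Groth.Agent.QSect.Scheme

set_option autoImplicit false
open CategoryTheory AlgebraicGeometry
universe u v w
open EGA43

namespace Groth.Agent.S4944

/-- Suppose Y is an irreducible, locally Noetherian scheme and f : X ⟶ Y is locally of finite type. Take
a point x of X at which f is equidimensional and which is closed in its fibre f⁻¹(f x). Then one can
find an irreducible reduced scheme T together with an immersion i : T ⟶ X whose image contains x,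
such that the composite T ⟶ Y is dominant and quasi-finite (meaning locally quasi-finite and of
finite type). -/
theorem result {X Y : Scheme.{u}} [IrreducibleSpace Y]
    [IsLocallyNoetherian Y] (f : X ⟶ Y) [LocallyOfFiniteType f] (x : X) (hf : EGA43.IsEquidimAt f x)
    (hcl : ∀ x' : X, f.base x' = f.base x → x ⤳ x' → x' = x) :
    ∃ (T : Scheme.{u}) (i : T ⟶ X), IsImmersion i ∧ IrreducibleSpace ↥T ∧ IsReduced T ∧ x ∈ Set.range i.base ∧
        LocallyOfFiniteType (i ≫ f) ∧ LocallyQuasiFinite (i ≫ f) ∧ QuasiCompact (i ≫ f) ∧ IsDominant (i ≫ f) := by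
  obtain ⟨e, U, hxU, hcomp, hdim⟩ := hf
  let x₀ : U := ⟨x, hxU⟩
  have hYcomp : ∀ W ∈ irreducibleComponents (Y : Type u), W = Set.univ := fun W hW => by
    rw [irreducibleComponents_eq_singleton] at hW
    exact hW
  have hcl0 : ∀ x' : U, (U.ι ≫ f) x' = (U.ι ≫ f) x₀ → x₀ ⤳ x' → x' = x₀ := fun x' h1 h2 =>
    U.ι.injective (hcl _ h1 (h2.map U.ι.continuous))
  obtain ⟨Z, hZ, hxZ⟩ : ∃ Z ∈ irreducibleComponents (U : Scheme.{u}), x₀ ∈ Z :=
    ⟨_, irreducibleComponent_mem_irreducibleComponents _, mem_irreducibleComponent⟩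
  obtain ⟨ξ, hξ⟩ := QuasiSober.sober hZ.1 (isClosed_of_mem_irreducibleComponents Z hZ)
  obtain ⟨T, i, h1, h2, h3, ⟨z, hz⟩, -, h5, h6, h7, h8⟩ := Groth.Agent.QSect.exists_quasiSection (U.ι ≫ f)
    (fun Z' hZ' => by
      obtain ⟨W, hW, -, hcl'⟩ := hcomp Z' hZ'
      exact hcl'.trans (hYcomp W hW))
    hdim x₀ hcl0 ξ (Groth.Agent.QSect.max_of_component hZ hξ) (hξ.specializes hxZ)
  rw [← Category.assoc] at h5 h6 h7 h8
  exact ⟨T, i ≫ U.ι, inferInstance, h2, h3, ⟨z, congrArg U.ι hz⟩, h5, h6, h7, h8⟩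

end Groth.Agent.S4944
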