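import Groth.Statements.S4945
import Groth.Agent.S4938
import Groth.Agent.GUOpen.Spec
import Groth.Agent.GUOpen.Section

set_option autoImplicit false
open CategoryTheory AlgebraicGeometry
universe u v w
open EGA43

namespace Groth.Agent.S4945

/-- Let Y be an irreducible locally Noetherian scheme with generic point η, f : X ⟶ Y a morphism locally
of finite type and y a geometrically unibranch point of Y. The following are equivalent: a) f is
universally open at every point of X_y; b) f is open at every point of X_y; c) for every maximal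
point z of X_y there is an irreducible component Z of X containing z and dominating Y with dim_z(Z ∩
X_y) = dim(Z ∩ X_η); d) for every point x closed in X_y there are an irreducible reduced scheme T
and an immersion T ⟶ X with image containing x such that T ⟶ Y is quasi-finite and dominant. -/
theorem result {X Y : Scheme.{u}} [IrreducibleSpace Y]
    [IsLocallyNoetherian Y] (f : X ⟶ Y) [LocallyOfFiniteType f] (y : Y) (hy : CAlg2.IsGeomUnibranch (Y.presheaf.stalk y)) :
    List.TFAE [∀ x : X, f.base x = y → EGA43.IsUnivOpenAt f x,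
      ∀ x : X, f.base x = y → EGA43.IsOpenAt f.base x,
      ∀ z : X, ∀ hzy : f.base z = y, (∀ z' : X, f.base z' = y → z ∈ closure {z'} → z' = z) →
        ∃ Z ∈ irreducibleComponents (X : Type u), ∃ hz : z ∈ Z, Dense (f.base '' Z) ∧
          FlatMor.localDim ↥(Z ∩ f.base ⁻¹' {y}) ⟨z, ⟨hz, hzy⟩⟩ = topologicalKrullDim ↥(Z ∩ f.base ⁻¹' {genericPoint Y}),
      ∀ x : X, f.base x = y → (∀ x' : X, f.base x' = y → x ⤳ x' → x' = x) →
        ∃ (T : Scheme.{u}) (i : T ⟶ X), IsImmersion i ∧ IrreducibleSpace ↥T ∧ IsReduced T ∧ x ∈ Set.range i.base ∧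
        LocallyOfFiniteType (i ≫ f) ∧ LocallyQuasiFinite (i ≫ f) ∧ QuasiCompact (i ≫ f) ∧ IsDominant (i ≫ f)] := by
  classical
  have h38 := S4938.result f y hy
  have huniv : (Set.univ : Set Y) ∈ irreducibleComponents (Y : Type u) := by
    rw [irreducibleComponents_eq_singleton]; rfl
  have hgen : closure ({genericPoint Y} : Set Y) = Set.univ := genericPoint_spec Y
  tfae_have 1 → 2 := fun h x hx => GUOpen.isOpenAt_of_univ f (h x hx)
  tfae_have 2 → 1 := fun h => (h38.out 3 0).mp h
  tfae_have 1 → 3 := fun h z hzy _ => by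
    obtain ⟨Z, hZ, hz, hcl, hdim⟩ := (h38.out 0 1 rfl rfl).mp h z hzy _ huniv trivial
    subst hzy
    exact ⟨Z, hZ, hz, dense_iff_closure_eq.mpr hcl, hdim _ hgen⟩
  tfae_have 3 → 1 := fun h x hx => by
    obtain ⟨c, hcx, hfc, hcm, -⟩ := FibSemi.exists_max_fibre f x
    obtain ⟨Z, hZ, hz, hcl, hdim⟩ := h c (hfc.trans hx) fun z' hz' hzc =>
      hcm z' (hz'.trans hx.symm) (specializes_iff_mem_closure.mpr hzc)
    refine GUOpen.isUnivOpenAt_of_specializes f hcx hfc ?_
    have hcy : f c = y := hfc.trans hx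
    subst hcy
    refine GUOpen.isUnivOpenAt_of_component f hy huniv hZ hz (dense_iff_closure_eq.mp hcl) fun η hη => ?_
    rw [IsGenericPoint.eq (show IsGenericPoint η Set.univ from hη) (genericPoint_spec Y)]
    exact hdim
  tfae_have 1 → 4 := fun h x hxy hcl => by
    obtain ⟨Z, hZ, hx, hZY, hdim⟩ := (h38.out 0 1 rfl rfl).mp h x hxy _ huniv trivial
    obtain ⟨ξ, hξ, hfξ⟩ := GUOpen.generic_facts f hZ hZY
    subst hξ
    have hfξ' : f ξ = genericPoint Y :=
      IsGenericPoint.eq (show IsGenericPoint (f ξ) Set.univ from hfξ) (genericPoint_spec Y)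
    have hξx : ξ ⤳ x := specializes_iff_mem_closure.mpr hx
    obtain ⟨-, -, -, e, -, -, -, he, -⟩ := FibSemi.dim_inequality f hξx
    have h1 := (hdim (f ξ) hfξ).trans (FibSemi.topDim_closure_inter_fibre_eq f ξ (f ξ))
    rw [he] at h1
    obtain ⟨U, hxU, hU⟩ := (GUOpen.localDim_le_iff f (closure {ξ}) isClosed_closure x hx _ (f x) rfl).mp h1.le
    exact GUOpen.exists_quasiSection_of_dim f hξx hfξ' (fun x' hx' => hcl x' (hx'.trans hxy)) he U hxU
      (le_trans (FibSemi.krullDim_mono (T := {z : X | f z = f x ∧ z ∈ closure ({ξ} : Set X) ∧ z ∈ U}) fun z hz => ⟨hz.1, specializes_iff_mem_closure.mp hz.2.1, hz.2.2⟩) hU)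
  tfae_have 4 → 2 := fun h x hxy => by
    -- open at the closed points of the fibre
    have hclosed : ∀ z : X, f z = y → (∀ z' : X, f z' = y → z ⤳ z' → z' = z) → EGA43.IsOpenAt f.base z := by
      intro z hz hzcl
      obtain ⟨T, i, -, hTirr, -, ⟨t, ht⟩, h1, h2, -, h4⟩ := h z hz hzcl
      have hgt : (i ≫ f) t = y := by rw [Scheme.Hom.comp_apply]; exact (congrArg f ht).trans hz
      subst hgt
      let g := i ≫ f
      have hdisc : ∀ a b : T, g a = g b → a ⤳ b → a = b := fun a b hab hsp => by
        haveI : DiscreteTopology ↥(g ⁻¹' {g b}) :=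
          isDiscrete_iff_discreteTopology.mp (Scheme.Hom.isDiscrete_preimage_singleton g (g b))
        exact congrArg Subtype.val (Specializes.eq
          ((subtype_specializes_iff (⟨a, hab⟩ : g ⁻¹' {g b}) ⟨b, rfl⟩).mpr hsp))
      have hdim0 : ∀ a : T, ∀ S : Set T, (∀ w ∈ S, g w = g a) → Order.krullDim S ≤ (0 : ℕ) := fun a S hS => by
        refine iSup_le fun l => ?_
        rcases Nat.eq_zero_or_pos l.length with h0 | h0
        · rw [h0]
        exfalso
        have hlt := l.strictMono (show (⟨0, by omega⟩ : Fin (l.length + 1)) < ⟨1, by omega⟩ from Nat.one_pos)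
        have := hdisc (l ⟨1, by omega⟩).1 (l ⟨0, by omega⟩).1 ((hS _ (l _).2).trans (hS _ (l _).2).symm) hlt.le
        exact hlt.ne (Subtype.ext this.symm)
      obtain ⟨e, he⟩ : ∃ e : ℕ, Order.krullDim {w : T | g w = g (genericPoint T) ∧ genericPoint T ⤳ w} = e := by
        obtain ⟨-, -, -, e, -, -, -, he, -⟩ := FibSemi.dim_inequality g (genericPoint_specializes t)
        exact ⟨e, he⟩
      have hgen' : g (genericPoint T) = genericPoint Y := by
        refine IsGenericPoint.eq (show IsGenericPoint (g (genericPoint T)) Set.univ from ?_) (genericPoint_spec Y)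
        have h5 := (genericPoint_spec T).image g.continuous
        rw [Set.image_univ, dense_iff_closure_eq.mp (show Dense (Set.range g) from h4.1)] at h5
        exact h5
      have huo := GUOpen.isUnivOpenAt_of_dim g (genericPoint_specializes t)
        (hgen' ▸ GUOpen.max_of_mem_components huniv hgen) hy he ⊤ trivial
        ((hdim0 t _ fun w hw => hw.1).trans (by exact_mod_cast Nat.zero_le e))
      rw [← ht]
      exact GUOpen.isOpenAt_of_univ f (OpenAt.isUnivOpenAt_right_of_comp huo)
    intro N hN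
    obtain ⟨N', hN'N, hN'o, hxN'⟩ := mem_nhds_iff.mp hN
    obtain ⟨z, hzN, hxz, hfz, hzcl⟩ := FibSemi.exists_closed_in_fibre f x ⟨N', hN'o⟩ hxN'
    have := hclosed z (hfz.trans hxy) (fun z' hz' => hzcl z' (hz'.trans (hfz.trans hxy).symm)) N' (hN'o.mem_nhds hzN)
    rw [show f z = f x from hfz] at this
    exact Filter.mem_of_superset this (Set.image_mono hN'N)
  tfae_finish

end Groth.Agent.S4945
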