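import Groth.Statements.S4946
import Groth.Agent.QSect.DimOne

set_option autoImplicit false
open CategoryTheory AlgebraicGeometry
universe u v w
open EGA43

namespace Groth.Agent.S4946

/-- Let Y be an irreducible locally Noetherian scheme which is regular of dimension 1 (all local rings
regular of dimension at most 1), f : X ⟶ Y a morphism locally of finite type and y a point of Y.
Then the following are equivalent: d) every irreducible component of X meeting the fibre X_y
dominates Y; e) for every point x closed in X_y and every irreducible component X_i of X containing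
x, there are an irreducible reduced scheme T and an immersion T ⟶ X with image containing x and
contained in X_i, such that T ⟶ Y is quasi-finite and dominant. -/
theorem result {X Y : Scheme.{u}} [IrreducibleSpace Y]
    [IsLocallyNoetherian Y] (hY : ∀ y : Y, IsRegularLocalRing (Y.presheaf.stalk y) ∧ ringKrullDim (Y.presheaf.stalk y) ≤ 1)
    (f : X ⟶ Y) [LocallyOfFiniteType f] (y : Y) :
    (∀ Z ∈ irreducibleComponents (X : Type u), (Z ∩ f.base ⁻¹' {y}).Nonempty → Dense (f.base '' Z)) ↔
      ∀ x : X, f.base x = y → (∀ x' : X, f.base x' = y → x ⤳ x' → x' = x) →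
        ∀ Xi ∈ irreducibleComponents (X : Type u), x ∈ Xi →
          ∃ (T : Scheme.{u}) (i : T ⟶ X), IsImmersion i ∧ IrreducibleSpace ↥T ∧ IsReduced T ∧ x ∈ Set.range i.base ∧
            Set.range i.base ⊆ Xi ∧
            LocallyOfFiniteType (i ≫ f) ∧ LocallyQuasiFinite (i ≫ f) ∧ QuasiCompact (i ≫ f) ∧ IsDominant (i ≫ f) := by
  constructor
  · intro hd x hx hcl Xi hXi hxXi
    have hXic := isClosed_of_mem_irreducibleComponents Xi hXi
    obtain ⟨ξ, hξ⟩ := QuasiSober.sober hXi.1 hXic
    have hfξ : f ξ = genericPoint Y := by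
      have h := (hd Xi hXi ⟨x, hxXi, hx⟩).closure_eq
      rw [← hξ.def, closure_image_closure f.continuous, Set.image_singleton] at h
      exact IsGenericPoint.eq (show IsGenericPoint (f ξ) Set.univ from h) (genericPoint_spec Y)
    obtain ⟨T, i, h1, h2, h3, h4, h5, h6⟩ := Groth.Agent.QSect.exists_quasiSection_dimOne f x (hY _).2
      (fun x' h1 h2 => hcl x' (h1.trans hx) h2) ξ (hξ.specializes hxXi) hfξ
    exact ⟨T, i, h1, h2, h3, h4, h5.trans hξ.def.subset, h6⟩
  · rintro he Z hZ ⟨x₀, hxZ, hxy⟩
    let Z' : Set (f.fiber y) := f.fiberι y ⁻¹' Z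
    have hZ' : IsClosed Z' := (isClosed_of_mem_irreducibleComponents Z hZ).preimage (f.fiberι y).continuous
    have hne : Z'.Nonempty := by
      obtain ⟨w, hw⟩ : x₀ ∈ Set.range (f.fiberι y) := by rw [f.range_fiberι]; exact hxy
      exact ⟨w, show f.fiberι y w ∈ Z by rwa [hw]⟩
    obtain ⟨z, hz, hzc⟩ := nonempty_inter_closedPoints hne hZ'.isLocallyClosed
    have hmem : ∀ w, f (f.fiberι y w) = y := fun w => by
      have : f.fiberι y w ∈ Set.range (f.fiberι y) := ⟨w, rfl⟩
      rwa [f.range_fiberι] at this
    obtain ⟨T, i, -, -, -, -, hsub, -, -, -, hdom⟩ := he (f.fiberι y z) (hmem z) (fun x' hx' hspec => by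
      obtain ⟨w, rfl⟩ : x' ∈ Set.range (f.fiberι y) := by rw [f.range_fiberι]; exact hx'
      have h1 : z ⤳ w := (f.fiberι y).isEmbedding.specializes_iff.mp hspec
      have h2 : w ∈ ({z} : Set (f.fiber y)) := h1.mem_closed hzc rfl
      exact congrArg _ h2) Z hZ hz
    refine hdom.1.mono ?_
    rintro _ ⟨t, rfl⟩
    exact ⟨i.base t, hsub ⟨t, rfl⟩, rfl⟩

end Groth.Agent.S4946
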