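import Groth.Statements.S4948
import Groth.Agent.FlatMor.FibreStalk
import Groth.Agent.DimOpen.Basic
import Mathlib.AlgebraicGeometry.FunctionField
-- import your own Groth.Agent.* helpers here

set_option autoImplicit false
open CategoryTheory AlgebraicGeometry
universe u v w
open EGA43

namespace Groth.Agent.S4948

theorem isSMulRegular_of_reduced {B : Type u} [CommRing B] [IsNoetherianRing B] [IsLocalRing B] (t : B)
    (htm : t ∈ IsLocalRing.maximalIdeal B) (hred : _root_.IsReduced (B ⧸ Ideal.span {t}))
    (hmin : ∀ P ∈ minimalPrimes B, t ∉ P) (a : B) (ha : t * a = 0) : a = 0 := by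
  have hrad : (Ideal.span {t}).IsRadical := (Ideal.isRadical_iff_quotient_reduced _).mpr hred
  have key : ∀ (n : ℕ) (b : B), t ^ n * b = 0 → b ∈ Ideal.span {t} := by
    intro n b hb
    rw [← hrad.radical, Ideal.radical_eq_sInf, Submodule.mem_sInf]
    rintro q ⟨htq, hq⟩
    haveI : Ideal.IsPrime q := hq
    by_contra hbq
    obtain ⟨P, hP, hPq⟩ := Ideal.exists_minimalPrimes_le (I := (⊥ : Ideal B)) (J := q) bot_le
    haveI : P.IsPrime := hP.1.1
    refine hmin P hP (hP.1.1.mem_of_pow_mem n ((hP.1.1.mem_or_mem ?_).resolve_right fun h => hbq (hPq h)))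
    rw [hb]
    exact zero_mem _
  have hall : ∀ n : ℕ, ∃ b, a = t ^ n * b := by
    intro n
    induction n with
    | zero => exact ⟨a, by rw [pow_zero, one_mul]⟩
    | succ n ih =>
      obtain ⟨b, hb⟩ := ih
      obtain ⟨c, hc⟩ := Ideal.mem_span_singleton'.1 (key (n + 1) b (by rw [pow_succ', mul_assoc, ← hb, ha]))
      exact ⟨c, by rw [hb, ← hc, pow_succ]; ring⟩
  have hI : a ∈ ⨅ n : ℕ, (IsLocalRing.maximalIdeal B) ^ n := by
    simp only [Submodule.mem_iInf]
    intro n
    obtain ⟨b, hb⟩ := hall n
    rw [hb]
    exact Ideal.mul_mem_right _ _ (Ideal.pow_mem_pow htm n)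
  rwa [Ideal.iInf_pow_eq_bot_of_isLocalRing _ (IsLocalRing.maximalIdeal.isMaximal B).ne_top] at hI

/-- Consider a discrete valuation ring A and set Y = Spec A, whose closed point is y. Given a morphism f
: X ⟶ Y that is locally of finite type, and a point x lying in the fibre X_y, assume two things:
first, f is open at each generic point of an irreducible component of X_y passing through x; second,
X_y is reduced at x (that is, the local ring of the fibre at x is reduced). Under these assumptions
f is flat at x. -/
theorem result {A : Type u} [CommRing A] [IsDomain A]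
    [IsDiscreteValuationRing A] {X : Scheme.{u}} (f : X ⟶ Spec (CommRingCat.of A)) [LocallyOfFiniteType f] (x : X)
    (hx : f.base x = IsLocalRing.closedPoint A)
    (h : ∀ z : ↥(f.fiber (f.base x)), f.asFiber x ∈ closure {z} →
      (∀ z' : ↥(f.fiber (f.base x)), z ∈ closure {z'} → z' = z) → EGA43.IsOpenAt f.base ((f.fiberι (f.base x)).base z))
    (hred : _root_.IsReduced ((f.fiber (f.base x)).presheaf.stalk (f.asFiber x))) :
    (f.stalkMap x).hom.Flat := by
  let R := (Spec (CommRingCat.of A)).presheaf.stalk (f.base x)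
  let O := X.presheaf.stalk x
  let φ : R →+* O := (f.stalkMap x).hom
  haveI : IsLocallyNoetherian X := LocallyOfFiniteType.isLocallyNoetherian f
  let p : PrimeSpectrum A := f.base x
  haveI := p.isPrime
  letI : Algebra A R := StructureSheaf.stalkAlgebra A p
  haveI hloc : IsLocalization.AtPrime R p.asIdeal := StructureSheaf.IsLocalization.to_stalk A p
  have hp : p.asIdeal = IsLocalRing.maximalIdeal A := congrArg PrimeSpectrum.asIdeal hx
  haveI : IsDomain R := IsLocalization.isDomain_of_le_nonZeroDivisors (M := p.asIdeal.primeCompl) R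
    p.asIdeal.primeCompl_le_nonZeroDivisors
  haveI : IsDiscreteValuationRing R := IsLocalization.AtPrime.isDiscreteValuationRing_of_dedekind_domain A
    (P := p.asIdeal) (by rw [hp]; exact IsDiscreteValuationRing.not_a_field A) R
  obtain ⟨π, hπ⟩ := IsDiscreteValuationRing.exists_irreducible R
  have hm : IsLocalRing.maximalIdeal R = Ideal.span {π} :=
    (IsDiscreteValuationRing.irreducible_iff_uniformizer π).mp hπ
  obtain ⟨e⟩ := Groth.Agent.FlatMor.FibreStalk.exists_fibre_stalk_equiv f x
  have hmap : (IsLocalRing.maximalIdeal R).map φ = Ideal.span {φ π} := by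
    rw [hm, Ideal.map_span, Set.image_singleton]
  have htm : φ π ∈ IsLocalRing.maximalIdeal O := by
    haveI : IsLocalHom φ := inferInstanceAs (IsLocalHom (f.stalkMap x).hom)
    exact map_nonunit φ π hπ.not_isUnit
  haveI hred' : _root_.IsReduced (O ⧸ Ideal.span {φ π}) := by
    haveI := hred
    exact isReduced_of_injective ((Ideal.quotEquivOfEq hmap.symm).trans e)
      ((Ideal.quotEquivOfEq hmap.symm).trans e).injective
  have hmin : ∀ P ∈ minimalPrimes O, φ π ∉ P := by
    intro P hP hπP
    haveI : P.IsPrime := Ideal.minimalPrimes_isPrime hP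
    let Pp : ↥(Spec O) := ⟨P, inferInstance⟩
    let η := X.fromSpecStalk x Pp
    have hηx : η ⤳ x := (Scheme.range_fromSpecStalk (x := x)).le ⟨Pp, rfl⟩
    have hmax : ∀ w, w ⤳ η → w = η := fun w hw => by
      obtain ⟨Q', rfl⟩ := (Scheme.range_fromSpecStalk (x := x)).ge (hw.trans hηx)
      have hle : Q'.asIdeal ≤ P := (PrimeSpectrum.le_iff_specializes Q' Pp).mpr
        ((X.fromSpecStalk x).isEmbedding.isInducing.specializes_iff.mp hw)
      exact congrArg (X.fromSpecStalk x) (PrimeSpectrum.ext (le_antisymm hle (hP.2 ⟨Q'.isPrime, bot_le⟩ hle)))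
    have hfη : f.base η = f.base x := by
      show f.base (X.fromSpecStalk x Pp) = _
      rw [← Scheme.Hom.comp_apply, ← Scheme.SpecMap_stalkMap_fromSpecStalk, Scheme.Hom.comp_apply]
      rw [show Spec.map (f.stalkMap x) Pp = IsLocalRing.closedPoint R from PrimeSpectrum.ext ?_]
      · exact (Spec (CommRingCat.of A)).fromSpecStalk_closedPoint
      · refine ((IsLocalRing.maximalIdeal.isMaximal R).eq_of_le (Ideal.IsPrime.ne_top (Ideal.comap_isPrime φ P)) ?_).symm
        rw [hm, Ideal.span_singleton_le_iff_mem]
        exact hπP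
    obtain ⟨zη, hzη⟩ : η ∈ Set.range (f.fiberι (f.base x)) := by rw [f.range_fiberι]; exact hfη
    have hopen := h zη ?_ ?_
    · rw [show (f.fiberι (f.base x)).base zη = η from hzη] at hopen
      obtain ⟨c, hc, hfc⟩ := Groth.Agent.DimOpen.exists_specializes_of_isOpenAt f hopen
        (y' := genericPoint (Spec (CommRingCat.of A))) (genericPoint_specializes _)
      rw [hmax c hc, hfη, hx] at hfc
      rw [genericPoint_eq_bot_of_affine] at hfc
      exact IsDiscreteValuationRing.not_a_field A (congrArg PrimeSpectrum.asIdeal hfc)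
    · refine specializes_iff_mem_closure.1 ((f.fiberι (f.base x)).isEmbedding.specializes_iff.1 ?_)
      rw [hzη, f.fiberι_asFiber]
      exact hηx
    · intro z' hz'
      refine (f.fiberι (f.base x)).isEmbedding.injective ?_
      rw [hzη]
      exact hmax _ (hzη ▸ (specializes_iff_mem_closure.2 hz').map (f.fiberι (f.base x)).continuous)
  haveI : IsNoetherianRing O := inferInstance
  have hreg := Groth.Agent.S4948.isSMulRegular_of_reduced (φ π) htm hred' hmin
  letI : Algebra R O := φ.toAlgebra
  show Module.Flat R O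
  haveI : Module.IsTorsionFree R O := by
    refine Module.IsTorsionFree.mk fun r hr a b hab => ?_
    obtain ⟨n, u, hu⟩ := IsDiscreteValuationRing.associated_pow_irreducible
      (hr.ne_zero) hπ
    have hpow : ∀ (n : ℕ) (c : O), (φ π) ^ n * c = 0 → c = 0 := by
      intro n
      induction n with
      | zero => intro c hc; rwa [pow_zero, one_mul] at hc
      | succ n ih => intro c hc; exact ih c (hreg _ (by rw [← mul_assoc, ← pow_succ']; exact hc))
    have h0 : φ r * (a - b) = 0 := by rw [mul_sub, sub_eq_zero]; exact hab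
    refine sub_eq_zero.mp (hpow n _ ?_)
    rw [← map_pow, ← hu, map_mul, mul_right_comm, h0, zero_mul]
  infer_instance

end Groth.Agent.S4948
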