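import Groth.Statements.S4950
import Groth.Agent.Fibres16.SplitCount
import Groth.Agent.ZClosLib.DepthCrit

set_option autoImplicit false
open CategoryTheory AlgebraicGeometry
universe u v w
open EGA43
open CategoryTheory.Limits Groth.Agent

namespace Groth.Agent.S4950

open CategoryTheory.Limits in
/-- Let Y be a locally Noetherian scheme, f : X ⟶ Y a separated quasi-finite morphism, y a point of Y
and y' a generization of y distinct from y; write n(z) for the geometric number of points of the
fibre X_z. Then there are a discrete valuation ring A and a morphism g : Spec A ⟶ Y mapping the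
closed point to y and the generic point to y', such that n(y) is the number of points of the fibre
of X ×_Y Spec A ⟶ Spec A over the closed point and n(y') is the number of points of its fibre over
the generic point. -/
theorem result {X Y : Scheme.{u}} [IsLocallyNoetherian Y] (f : X ⟶ Y)
    [IsSeparated f] [LocallyQuasiFinite f] [LocallyOfFiniteType f] [QuasiCompact f] (y y' : Y) (hne : y' ≠ y)
    (hgen : y' ⤳ y) :
    ∃ (A : Type u) (_ : CommRing A) (_ : IsDomain A) (_ : IsDiscreteValuationRing A) (g : Spec (CommRingCat.of A) ⟶ Y),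
      g.base (IsLocalRing.closedPoint A) = y ∧ g.base (genericPoint (Spec (CommRingCat.of A))) = y' ∧
      MoreMor.nGeomConnComp f y = ENat.card ↥((pullback.snd f g).fiber (IsLocalRing.closedPoint A)) ∧
      MoreMor.nGeomConnComp f y' = ENat.card ↥((pullback.snd f g).fiber (genericPoint (Spec (CommRingCat.of A)))) := by
  classical
  obtain ⟨Q, hQ⟩ : ∃ Q, Y.fromSpecStalk y Q = y' := by
    have : y' ∈ Set.range (Y.fromSpecStalk y) := by rw [Scheme.range_fromSpecStalk]; exact hgen
    exact this
  let R := Y.presheaf.stalk y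
  let D := R ⧸ Q.asIdeal
  let K₀ := FractionRing D
  have hD : ¬ IsField D := fun hF => hne (by
    have hmax : Q.asIdeal.IsMaximal := (Ideal.Quotient.maximal_ideal_iff_isField_quotient _).2 hF
    rw [← hQ, show Q = IsLocalRing.closedPoint R from PrimeSpectrum.ext (IsLocalRing.eq_maximalIdeal hmax)]
    exact Scheme.fromSpecStalk_closedPoint)
  haveI : Nontrivial D := Ideal.Quotient.nontrivial_iff.2 Q.2.ne_top
  haveI : IsLocalRing D := IsLocalRing.of_surjective' (Ideal.Quotient.mk Q.asIdeal) Ideal.Quotient.mk_surjective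
  let χ₀ : R ⟶ CommRingCat.of K₀ := CommRingCat.ofHom ((algebraMap D K₀).comp (Ideal.Quotient.mk Q.asIdeal))
  obtain ⟨⟨w, e₀⟩, hwe⟩ := (Y.SpecToEquivOfField K₀).symm.surjective (Spec.map χ₀ ≫ Y.fromSpecStalk y)
  change Spec.map e₀ ≫ Y.fromSpecResidueField w = _ at hwe
  have hgenpt : ∀ {L : Type u} [Field L] (φ : R →+* L), RingHom.ker φ = Q.asIdeal →
      ∀ p, (Spec.map (CommRingCat.ofHom φ) ≫ Y.fromSpecStalk y) p = y' := by
    intro L _ φ hker p
    rw [← hQ, Scheme.Hom.comp_apply]
    congr 1
    refine PrimeSpectrum.ext ?_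
    show p.asIdeal.comap φ = Q.asIdeal
    rw [show p.asIdeal = ⊥ from (Ideal.eq_bot_or_top p.asIdeal).resolve_right p.2.ne_top]
    exact hker
  have hker0 : RingHom.ker χ₀.hom = Q.asIdeal := by
    show RingHom.ker ((algebraMap D K₀).comp (Ideal.Quotient.mk Q.asIdeal)) = Q.asIdeal
    rw [RingHom.ker_comp_of_injective _ (IsFractionRing.injective D K₀), Ideal.mk_ker]
  obtain rfl : w = y' := by
    have h1 := hgenpt χ₀.hom hker0 (IsLocalRing.closedPoint K₀)
    rw [CommRingCat.ofHom_hom] at h1
    rw [← hwe] at h1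
    exact (Scheme.fromSpecResidueField_apply w _).symm.trans h1
  -- the polynomials to be split
  obtain ⟨P, hP⟩ := Fibres16.SplitCount.exists_isSplitPoly f y
  obtain ⟨P', hP'⟩ := Fibres16.SplitCount.exists_isSplitPoly f w
  obtain ⟨Pl, hPl, -, hPlm⟩ := Polynomial.lifts_and_degree_eq_and_monic (f := (Y.residue y).hom)
    (Polynomial.mem_lifts P |>.2 (Polynomial.map_surjective _ (Y.residue_surjective y) P)) hP.1
  let Pbig : Polynomial K₀ := Pl.map χ₀.hom * P'.map e₀.hom
  let L := Pbig.SplittingField
  have hbig : Pbig ≠ 0 := mul_ne_zero (hPlm.map χ₀.hom).ne_zero (hP'.1.map e₀.hom).ne_zero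
  have hsplit : (Pbig.map (algebraMap K₀ L)).Splits := Polynomial.SplittingField.splits Pbig
  have hbigL : Pbig.map (algebraMap K₀ L) ≠ 0 := (Polynomial.map_ne_zero_iff (algebraMap K₀ L).injective).2 hbig
  have hs1 : ((Pl.map χ₀.hom).map (algebraMap K₀ L)).Splits :=
    hsplit.of_dvd hbigL (Polynomial.map_dvd _ (dvd_mul_right _ _))
  have hs2 : ((P'.map e₀.hom).map (algebraMap K₀ L)).Splits :=
    hsplit.of_dvd hbigL (Polynomial.map_dvd _ (dvd_mul_left _ _))
  obtain ⟨A, hA, hmem, hdom⟩ := DVRDom.exists_dvr_dominating D hD K₀ L (IntermediateField.fg_top_iff.mpr inferInstance)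
  let χ : R →+* A := ((algebraMap D L).comp (Ideal.Quotient.mk Q.asIdeal)).codRestrict A.toSubring fun r => hmem _
  have hχL : (algebraMap A L).comp χ = (algebraMap K₀ L).comp χ₀.hom :=
    RingHom.ext fun r => IsScalarTower.algebraMap_apply D K₀ L _
  have hχloc : IsLocalHom χ := ⟨fun r hr => by
    by_contra hnu
    have h1 : Ideal.Quotient.mk Q.asIdeal r ∈ IsLocalRing.maximalIdeal D := fun hu =>
      hnu (haveI : IsLocalHom (Ideal.Quotient.mk Q.asIdeal) := IsLocalHom.of_surjective _ Ideal.Quotient.mk_surjective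
        (isUnit_map_iff (Ideal.Quotient.mk Q.asIdeal) r).1 hu)
    exact ((A.valuation_lt_one_iff (χ r)).2 (hdom _ h1)) hr⟩
  -- the polynomial `Pl` factors over `A`
  have hPA : ∃ s : Multiset A, Pl.map χ = (s.map fun a => Polynomial.X - Polynomial.C a).prod := by
    have hmon : ((Pl.map χ₀.hom).map (algebraMap K₀ L)).Monic := (hPlm.map χ₀.hom).map _
    have hrt : ∀ r ∈ ((Pl.map χ₀.hom).map (algebraMap K₀ L)).roots, r ∈ (algebraMap A L).range := by
      intro r hr
      have hint : IsIntegral A r := by
        refine ⟨Pl.map χ, hPlm.map χ, ?_⟩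
        have h := (Polynomial.mem_roots'.1 hr).2
        rw [Polynomial.map_map, ← hχL, ← Polynomial.map_map] at h
        rwa [Polynomial.IsRoot, Polynomial.eval_map] at h
      exact IsIntegrallyClosed.isIntegral_iff.1 hint
    choose s hs using fun r : {r // r ∈ ((Pl.map χ₀.hom).map (algebraMap K₀ L)).roots} => hrt r r.2
    refine ⟨((Pl.map χ₀.hom).map (algebraMap K₀ L)).roots.attach.map s, ?_⟩
    refine Polynomial.map_injective (algebraMap A L) Subtype.val_injective ?_
    rw [Polynomial.map_map, hχL, ← Polynomial.map_map, Polynomial.map_multiset_prod, Multiset.map_map, Multiset.map_map]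
    conv_lhs => rw [hs1.eq_prod_roots_of_monic hmon, ← Multiset.attach_map_val ((Pl.map χ₀.hom).map (algebraMap K₀ L)).roots,
      Multiset.map_map]
    congr 1
    refine Multiset.map_congr rfl fun r _ => ?_
    simp [hs r]
  obtain ⟨roots, hroots⟩ := hPA
  refine ⟨A, inferInstance, inferInstance, hA, Spec.map (CommRingCat.ofHom χ) ≫ Y.fromSpecStalk y, ?_, ?_, ?_, ?_⟩
  · rw [Scheme.Hom.comp_apply]
    have : Spec.map (CommRingCat.ofHom χ) (IsLocalRing.closedPoint A) = IsLocalRing.closedPoint R :=
      IsLocalRing.comap_closedPoint χ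
    rw [this, Scheme.fromSpecStalk_closedPoint]
  · rw [Scheme.Hom.comp_apply, ← hQ]
    congr 1
    refine PrimeSpectrum.ext ?_
    show ((genericPoint (Spec (CommRingCat.of A)) : PrimeSpectrum A).asIdeal).comap χ = Q.asIdeal
    rw [show (genericPoint (Spec (CommRingCat.of A)) : PrimeSpectrum A) = ⟨⊥, Ideal.isPrime_bot⟩ from
      (genericPoint_eq_bot_of_affine (CommRingCat.of A)).trans rfl]
    show RingHom.ker χ = Q.asIdeal
    rw [← RingHom.ker_comp_of_injective χ (f := algebraMap A L) Subtype.val_injective, hχL,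
      RingHom.ker_comp_of_injective _ (algebraMap K₀ L).injective, hker0]
  · let s : Spec (CommRingCat.of A) := IsLocalRing.closedPoint A
    let ev : A →+* (Spec (CommRingCat.of A)).residueField s :=
      (CommRingCat.ofHom (algebraMap A s.asIdeal.ResidueField) ≫ (Scheme.Spec.residueFieldIso (CommRingCat.of A) s).inv).hom
    let φs : Y.presheaf.stalk y ⟶ CommRingCat.of ((Spec (CommRingCat.of A)).residueField s) := CommRingCat.ofHom (ev.comp χ)
    haveI hloc : IsLocalHom φs.hom := ⟨fun r hr => by
      refine hχloc.1 r ?_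
      by_contra hnu
      have h0 : ev (χ r) = 0 := by
        show (Scheme.Spec.residueFieldIso (CommRingCat.of A) s).inv (algebraMap A s.asIdeal.ResidueField (χ r)) = 0
        rw [Ideal.algebraMap_residueField_eq_zero.2 hnu, map_zero]
      exact not_isUnit_zero (h0 ▸ hr)⟩
    let e := Y.descResidueField (x := y) φs
    have he : Y.residue y ≫ e = φs := Scheme.residue_descResidueField φs
    have hsp : (P.map e.hom).Splits := by
      rw [← hPl, Polynomial.map_map, show e.hom.comp (Y.residue y).hom = ev.comp χ from congrArg CommRingCat.Hom.hom he,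
        ← Polynomial.map_map, hroots, Polynomial.map_multiset_prod, Multiset.map_map]
      refine Polynomial.Splits.multisetProd fun p hp => ?_
      obtain ⟨a, -, rfl⟩ := Multiset.mem_map.1 hp
      simp [Polynomial.Splits.X_sub_C]
    let g := Spec.map (CommRingCat.ofHom χ) ≫ Y.fromSpecStalk y
    have hg0 : (Spec (CommRingCat.of A)).fromSpecResidueField s ≫ g = Spec.map e ≫ Y.fromSpecResidueField y := by
      rw [Scheme.descResidueField_fromSpecResidueField, ← Scheme.Spec.map_residueFieldIso_inv_eq_fromSpecResidueField,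
        ← Spec.map_comp, ← Category.assoc, ← Spec.map_comp]
      rfl
    have hc := Fibres16.SplitCount.card_pullback_eq f y hP e.hom hsp _ hg0
    refine hc.trans (ENat.card_congr ?_).symm
    exact (pullbackLeftPullbackSndIso f g ((Spec (CommRingCat.of A)).fromSpecResidueField s)).hom.homeomorph.toEquiv
  · let s : Spec (CommRingCat.of A) := genericPoint (Spec (CommRingCat.of A))
    let ev : A →+* (Spec (CommRingCat.of A)).residueField s :=
      (CommRingCat.ofHom (algebraMap A s.asIdeal.ResidueField) ≫ (Scheme.Spec.residueFieldIso (CommRingCat.of A) s).inv).hom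
    have hs0 : s.asIdeal = ⊥ := by
      rw [show s = (⟨⊥, Ideal.isPrime_bot⟩ : PrimeSpectrum A) from (genericPoint_eq_bot_of_affine (CommRingCat.of A)).trans rfl]
    have hev : Function.Injective ev := by
      refine (injective_iff_map_eq_zero ev).2 fun a ha => ?_
      have h1 : algebraMap A s.asIdeal.ResidueField a = 0 :=
        (ConcreteCategory.bijective_of_isIso (Scheme.Spec.residueFieldIso (CommRingCat.of A) s).inv).1 (ha.trans (map_zero _).symm)
      exact Ideal.mem_bot.1 (hs0 ▸ Ideal.algebraMap_residueField_eq_zero.1 h1)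
    let ι : L →+* (Spec (CommRingCat.of A)).residueField s := IsFractionRing.lift (A := A) (K := L) hev
    have hι : ι.comp (algebraMap A L) = ev := RingHom.ext fun a => IsFractionRing.lift_algebraMap (A := A) (K := L) hev a
    let e : Y.residueField w →+* (Spec (CommRingCat.of A)).residueField s := ι.comp ((algebraMap K₀ L).comp e₀.hom)
    have hsp : (P'.map e).Splits := by
      rw [show e = ι.comp ((algebraMap K₀ L).comp e₀.hom) from rfl, ← Polynomial.map_map, ← Polynomial.map_map]
      exact hs2.map ι
    let g := Spec.map (CommRingCat.ofHom χ) ≫ Y.fromSpecStalk y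
    have hev2 : ev.comp χ = (ι.comp (algebraMap K₀ L)).comp χ₀.hom := by
      rw [← hι, RingHom.comp_assoc, hχL, RingHom.comp_assoc]
    have hg0 : (Spec (CommRingCat.of A)).fromSpecResidueField s ≫ g = Spec.map (CommRingCat.ofHom e) ≫ Y.fromSpecResidueField w := by
      have h1 : CommRingCat.ofHom e = e₀ ≫ CommRingCat.ofHom (ι.comp (algebraMap K₀ L)) := rfl
      rw [h1, Spec.map_comp, Category.assoc, hwe, ← Scheme.Spec.map_residueFieldIso_inv_eq_fromSpecResidueField]
      simp only [g, ← Spec.map_comp, ← Spec.map_comp_assoc, Category.assoc]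
      exact congrArg (fun m => Spec.map (CommRingCat.ofHom m) ≫ Y.fromSpecStalk y) hev2
    have hc := Fibres16.SplitCount.card_pullback_eq f w hP' e hsp _ hg0
    refine hc.trans (ENat.card_congr ?_).symm
    exact (pullbackLeftPullbackSndIso f g ((Spec (CommRingCat.of A)).fromSpecResidueField s)).hom.homeomorph.toEquiv

end Groth.Agent.S4950
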