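import Groth.Statements.S4951
import Mathlib.Topology.NoetherianSpace
import Mathlib.Topology.Sober
import Mathlib.Data.Set.Card
import Mathlib.Topology.Connected.Basic
-- import your own Groth.Agent.* helpers here

set_option autoImplicit false
universe u
open EGA43

namespace Groth.Agent.S4951

open TopologicalSpace in
lemma exists_finite_gen {X : Type u} [TopologicalSpace X] [QuasiSober X] (S : Set X) [NoetherianSpace S] :
    ∃ G : Set X, G.Finite ∧ (∀ g ∈ G, ∃ s ∈ S, g ⤳ s) ∧ (∀ g ∈ G, g ∈ closure S) ∧ ∀ y ∈ closure S, ∃ g ∈ G, g ⤳ y := by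
  obtain ⟨T, hTf, -, hTi, hTu⟩ := NoetherianSpace.exists_finite_set_isClosed_irreducible (α := S) isClosed_univ
  have hirr : ∀ t : T, IsIrreducible ((Subtype.val : S → X) '' t.1) := fun t =>
    (hTi t.1 t.2).image _ continuous_subtype_val.continuousOn
  have := hTf.to_subtype
  refine ⟨Set.range fun t : T => (hirr t).genericPoint, Set.finite_range _, ?_, ?_, ?_⟩
  · rintro _ ⟨t, rfl⟩
    obtain ⟨_, s, hs, rfl⟩ := (hirr t).nonempty
    exact ⟨s.1, s.2, (hirr t).isGenericPoint_genericPoint_closure.specializes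
      (subset_closure (Set.mem_image_of_mem _ hs))⟩
  · rintro _ ⟨t, rfl⟩
    exact closure_mono (Subtype.coe_image_subset S t.1) (hirr t).isGenericPoint_genericPoint_closure.mem
  · intro y hy
    have hS : S = ⋃ t : T, (Subtype.val : S → X) '' t.1 := by
      rw [← Set.image_iUnion, ← Set.sUnion_eq_iUnion, ← hTu, Set.image_univ, Subtype.range_coe]
    rw [hS, closure_iUnion_of_finite, Set.mem_iUnion] at hy
    obtain ⟨t, ht⟩ := hy
    exact ⟨_, ⟨t, rfl⟩, (hirr t).isGenericPoint_genericPoint_closure.specializes ht⟩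

/-- Let X be a locally Noetherian topological space in which every irreducible closed subset has a
unique generic point (X quasi-sober and T₀), and Z a closed nowhere dense subset of X such that for
every point x of Z the set of generizations of x distinct from x is connected (possibly empty). If X
is connected, then X − Z is connected. (Uniqueness of generic points, automatic for the underlying
space of a scheme, is needed: in the four-point space {u, v, z₁, z₂} whose open sets are ∅, {u},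
{v}, {u, v} and the whole space, the closed nowhere dense set Z = {z₁, z₂} satisfies the hypothesis,
since z₂ is a generization of z₁ and conversely, yet X − Z = {u, v} is not connected.) -/
theorem result {X : Type u} [TopologicalSpace X]
    [QuasiSober X] [T0Space X] (hloc : ∀ x : X, ∃ U ∈ nhds x, TopologicalSpace.NoetherianSpace ↥U) [ConnectedSpace X]
    (Z : Set X) (hZ : IsClosed Z) (hZn : IsNowhereDense Z)
    (hgen : ∀ x ∈ Z, IsPreconnected ({x' : X | x' ⤳ x} \ {x})) :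
    IsConnected Zᶜ := by
  classical
  have hd : Dense Zᶜ := by
    rw [← interior_eq_empty_iff_dense_compl, ← hZ.closure_eq]; exact hZn
  refine ⟨hd.nonempty, ?_⟩
  rintro P Q hP hQ hcov ⟨a₀, ha₀⟩ ⟨b₀, hb₀⟩
  by_contra hPQ
  rw [Set.not_nonempty_iff_eq_empty] at hPQ
  have hopen : ∀ O : Set X, IsOpen O → IsOpen (Zᶜ ∩ O) := fun O hO => hZ.isOpen_compl.inter hO
  have hdisj : Disjoint (Zᶜ ∩ P) (Zᶜ ∩ Q) := Set.disjoint_left.2 fun x h1 h2 =>
    (Set.eq_empty_iff_forall_notMem.1 hPQ x) ⟨h1.1, h1.2, h2.2⟩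
  have hun : closure (Zᶜ ∩ P) ∪ closure (Zᶜ ∩ Q) = Set.univ := by
    rw [← closure_union, ← Set.inter_union_distrib_left, Set.inter_eq_left.2 hcov, hd.closure_eq]
  obtain ⟨x₀, -, hx₀⟩ := isPreconnected_closed_iff.1 (PreconnectedSpace.isPreconnected_univ (α := X)) _ _
    isClosed_closure isClosed_closure hun.symm.subset ⟨a₀, trivial, subset_closure ha₀⟩ ⟨b₀, trivial, subset_closure hb₀⟩
  set C := closure (Zᶜ ∩ P) ∩ closure (Zᶜ ∩ Q) with hC
  have hCZ : C ⊆ Z := by
    intro x hx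
    by_contra hxZ
    rcases hcov hxZ with h | h
    · exact Set.disjoint_left.1 (hdisj.closure_right (hopen P hP)) ⟨hxZ, h⟩ hx.2
    · exact Set.disjoint_left.1 (hdisj.symm.closure_right (hopen Q hQ)) ⟨hxZ, h⟩ hx.1
  obtain ⟨U, hU, hUn⟩ := hloc x₀
  obtain ⟨U', hU'U, hU'o, hxU'⟩ := mem_nhds_iff.1 hU
  have hn : ∀ S : Set X, S ⊆ U' → TopologicalSpace.NoetherianSpace S := fun S hS =>
    (Topology.IsEmbedding.inclusion (hS.trans hU'U)).isInducing.noetherianSpace
  have := hn (C ∩ U') Set.inter_subset_right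
  obtain ⟨G, hGf, hGs, hGc, hG⟩ := exists_finite_gen (C ∩ U')
  have hGC : G ⊆ C ∩ U' := fun g hg => by
    refine ⟨closure_minimal Set.inter_subset_left (isClosed_closure.inter isClosed_closure) (hGc g hg), ?_⟩
    obtain ⟨s, hs, hgs⟩ := hGs g hg
    exact hgs.mem_open hU'o hs.2
  have hGne : G.Nonempty := (hG x₀ (subset_closure ⟨hx₀, hxU'⟩)).imp fun _ h => h.1
  -- choose `x` minimal for the number of generizations in `G`
  obtain ⟨x, hxG, hmax⟩ := Set.exists_min_image G (fun g => {g' | g' ∈ G ∧ g' ⤳ g}.ncard) hGf hGne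
  have hxmax : ∀ x' ∈ C, x' ⤳ x → x' = x := by
    intro x' hx' hsp
    have hx'U : x' ∈ U' := hsp.mem_open hU'o (hGC hxG).2
    obtain ⟨g, hg, hgx'⟩ := hG x' (subset_closure ⟨hx', hx'U⟩)
    have hxg : x ⤳ g := by
      have hsub : {g' | g' ∈ G ∧ g' ⤳ g} ⊆ {g' | g' ∈ G ∧ g' ⤳ x} :=
        fun g' hg' => ⟨hg'.1, hg'.2.trans (hgx'.trans hsp)⟩
      have heq := Set.eq_of_subset_of_ncard_le hsub (hmax g hg) (hGf.subset fun _ h => h.1)
      have : x ∈ {g' | g' ∈ G ∧ g' ⤳ g} := heq ▸ ⟨hxG, specializes_rfl⟩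
      exact this.2
    exact (hsp.antisymm (hxg.trans hgx')).eq
  have key : ∀ O : Set X, IsOpen O → x ∈ closure (Zᶜ ∩ O) → ∃ a ∈ Zᶜ ∩ O, a ⤳ x := by
    intro O hO hxO
    have := hn ((Zᶜ ∩ O) ∩ U') Set.inter_subset_right
    obtain ⟨G', -, hGs', -, hG'⟩ := exists_finite_gen ((Zᶜ ∩ O) ∩ U')
    obtain ⟨g, hg, hgx⟩ := hG' x (hU'o.closure_inter ⟨hxO, (hGC hxG).2⟩)
    obtain ⟨s, hs, hgs⟩ := hGs' g hg
    exact ⟨g, hgs.mem_open (hopen O hO) hs.1, hgx⟩
  have hxC : x ∈ C := (hGC hxG).1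
  obtain ⟨a, ha, hax⟩ := key P hP hxC.1
  obtain ⟨b, hb, hbx⟩ := key Q hQ hxC.2
  obtain ⟨y, hy, hyC⟩ := isPreconnected_closed_iff.1 (hgen x (hCZ hxC)) _ _ isClosed_closure isClosed_closure
    (fun y _ => hun.symm.subset (Set.mem_univ y))
    ⟨a, ⟨hax, fun h => ha.1 (h ▸ hCZ hxC)⟩, subset_closure ha⟩
    ⟨b, ⟨hbx, fun h => hb.1 (h ▸ hCZ hxC)⟩, subset_closure hb⟩
  exact hy.2 (hxmax y hyC hy.1)

end Groth.Agent.S4951
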