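import Groth.Statements.S4953
import Groth.Agent.SecComp.FlatNbhd

set_option autoImplicit false
open CategoryTheory AlgebraicGeometry
universe u v w
open EGA43

namespace Groth.Agent.S4953

/-- Let f : X ⟶ Y be a flat morphism of finite presentation with a section g : Y ⟶ X; for y in Y let
X_y^0 be the connected component of f⁻¹(y) containing g y, and X^0 ⊆ X the union of the X_y^0. If y
is a point such that X_y^0 is geometrically reduced over κ(y) (the fibre X_y is geometrically
reduced at every point of X_y^0), then X^0 is a neighbourhood of X_y^0 in X. -/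
theorem result {X Y : Scheme.{u}} (f : X ⟶ Y) [Flat f]
    [LocallyOfFinitePresentation f] [QuasiCompact f] [QuasiSeparated f] (g : Y ⟶ X) (hg : g ≫ f = 𝟙 Y) (y : Y)
    (hred : ∀ x' : ↥(f.fiber y), (f.fiberι y).base x' ∈ connectedComponentIn (f.base ⁻¹' {y}) (g.base y) →
      FBase.IsGeomReducedAt (f.fiberToSpecResidueField y) x') :
    connectedComponentIn (f.base ⁻¹' {y}) (g.base y) ⊆ interior (MoreMor.sectionComponents f g) := by
  exact Groth.Agent.SecComp.component_subset_interior_fp f g hg y fun x hx =>
    Groth.Agent.SecComp.isGeomReducedAt_of_fiber f x (connectedComponentIn_subset (f.base ⁻¹' {y}) _ hx)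
      fun x' hx' => hred x' (hx'.symm ▸ hx)

end Groth.Agent.S4953
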