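import Groth.Statements.S4954
import Groth.Agent.SecDim.Basic

set_option autoImplicit false
open CategoryTheory AlgebraicGeometry
universe u v w
open EGA43

namespace Groth.Agent.S4954

/-- Let f : X ⟶ Y be a morphism of finite presentation with a section g : Y ⟶ X, and for y in Y let
X_y^0 be the connected component of f⁻¹(y) containing g y. Suppose that every X_y^0 is geometrically
irreducible over κ(y) (its preimage in X_y ⊗ K is irreducible for every field extension K of κ(y)).
Then the function y ↦ dim X_y^0 is upper semicontinuous on Y. -/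
theorem result {X Y : Scheme.{u}} (f : X ⟶ Y)
    [LocallyOfFinitePresentation f] [QuasiCompact f] [QuasiSeparated f] (g : Y ⟶ X) (hg : g ≫ f = 𝟙 Y)
    (hirr : ∀ y : Y, (∀ (K : Type u) [Field K] [Algebra (IsLocalRing.ResidueField (Y.presheaf.stalk y)) K],
        IsIrreducible ((FBase.bcπ (f.fiberToSpecResidueField y) K ≫ f.fiberι y).base ⁻¹' connectedComponentIn (f.base ⁻¹' {y}) (g.base y)))) :
    UpperSemicontinuous (fun y : Y => topologicalKrullDim ↥(connectedComponentIn (f.base ⁻¹' {y}) (g.base y))) := by
  have hgy : ∀ y, f (g y) = y := fun y => by rw [← Scheme.Hom.comp_apply, hg]; rfl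
  have key : ∀ y : Y, topologicalKrullDim ↥(connectedComponentIn (f.base ⁻¹' {y}) (g.base y)) =
      FlatMor.fibreDimAt f (g y) :=
    fun y => SecDim.topDim_component_eq f (hgy y) (SecDim.isIrreducible_of_geometrically f g y (hgy y) (hirr y))
  intro y t ht
  obtain ⟨n, m, -, -, hfd⟩ := FibSemi.fibreDimAt_eq_add f (g y)
  have hopen := (FlatMisc.FibreDimScheme.isOpen_fibreDimAt_le (f := f) (n + m)).preimage g.continuous
  filter_upwards [hopen.mem_nhds (show FlatMor.fibreDimAt f (g y) ≤ ((n + m : ℕ) : WithBot ℕ∞) from hfd.le)] with z hz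
  show topologicalKrullDim ↥(connectedComponentIn (f.base ⁻¹' {z}) (g.base z)) < t
  rw [key z]
  exact lt_of_le_of_lt hz (by rw [← hfd, ← key y]; exact ht)

end Groth.Agent.S4954
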