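import Groth.Statements.S4955
import Groth.Agent.SecDim.FlatFP
-- import your own Groth.Agent.* helpers here

set_option autoImplicit false
set_option linter.style.haveILetI false
open CategoryTheory AlgebraicGeometry
universe u v w
open EGA43

namespace Groth.Agent.S4955

/-- Let f : X ⟶ Y be a morphism of finite presentation with a section g, X_y^0 the connected component
of f⁻¹(y) containing g y, X^0 their union, and suppose every X_y^0 is geometrically irreducible over
κ(y). Let x₀ be a point of X^0 and y₀ = f x₀, and suppose y ↦ dim X_y^0 is constant on a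
neighbourhood of y₀. Then there is an open neighbourhood U of y₀ such that f is universally open at
every point of X^0 lying over U; and if moreover Y is reduced and the fibre over y₀ is geometrically
reduced at x₀, then f is flat at x₀. -/
theorem result {X Y : Scheme.{u}} (f : X ⟶ Y)
    [LocallyOfFinitePresentation f] [QuasiCompact f] [QuasiSeparated f] (g : Y ⟶ X) (hg : g ≫ f = 𝟙 Y)
    (hirr : ∀ y : Y, (∀ (K : Type u) [Field K] [Algebra (IsLocalRing.ResidueField (Y.presheaf.stalk y)) K],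
        IsIrreducible ((FBase.bcπ (f.fiberToSpecResidueField y) K ≫ f.fiberι y).base ⁻¹' connectedComponentIn (f.base ⁻¹' {y}) (g.base y))))
    (x₀ : X) (hx₀ : x₀ ∈ MoreMor.sectionComponents f g)
    (hconst : ∃ V ∈ nhds (f.base x₀), ∀ z ∈ V, topologicalKrullDim ↥(connectedComponentIn (f.base ⁻¹' {z}) (g.base z)) = topologicalKrullDim ↥(connectedComponentIn (f.base ⁻¹' {(f.base x₀)}) (g.base (f.base x₀)))) :
    (∃ U : Y.Opens, f.base x₀ ∈ U ∧ ∀ x ∈ MoreMor.sectionComponents f g, f.base x ∈ U → EGA43.IsUnivOpenAt f x) ∧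
      (IsReduced Y → FBase.IsGeomReducedAt (f.fiberToSpecResidueField (f.base x₀)) (f.asFiber x₀) →
        (f.stalkMap x₀).hom.Flat) := by
  have hgy : ∀ y, f (g y) = y := fun y => by rw [← Scheme.Hom.comp_apply, hg]; rfl
  have hC : ∀ y, IsIrreducible (connectedComponentIn (f ⁻¹' {y}) (g y)) :=
    fun y => SecDim.isIrreducible_of_geometrically f g y (hgy y) (hirr y)
  obtain ⟨V₀, hV₀, hV₀d⟩ := hconst
  have hxI : f x₀ ∈ interior V₀ := mem_interior_iff_mem_nhds.mpr hV₀
  refine ⟨⟨⟨interior V₀, isOpen_interior⟩, hxI, fun x hx hxU => ?_⟩, fun hY hred => ?_⟩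
  · refine SecDim.isUnivOpenAt_of_fibreDimAt_const f g hg (hirr (f x))
      (SecDim.fibreDimAt_le_of_const f g hg hC ⟨interior V₀, isOpen_interior.mem_nhds hxU, fun z hz =>
        (hV₀d z (interior_subset hz)).trans (hV₀d (f x) (interior_subset hxU)).symm⟩) x hx
  obtain ⟨V, hV, hxV, hVI⟩ := exists_isAffineOpen_mem_and_subset (x := f x₀)
    (U := ⟨interior V₀, isOpen_interior⟩) hxI
  haveI : _root_.IsReduced Γ(Y, V) := IsReduced.component_reduced V
  obtain ⟨I, _, _, D, c, e, ⟨hc⟩, _, _, hDred⟩ := SecDim.exists_reduced_noetherian_limit Γ(Y, V)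
  haveI : IsAffine c.pt := .of_isIso e.hom
  let i : c.pt ≅ (V : Scheme.{u}) := e ≪≫ hV.isoSpec.symm
  let f' : ((f ⁻¹ᵁ V) : Scheme.{u}) ⟶ c.pt := (f ∣_ V) ≫ i.inv
  let b : c.pt ⟶ Y := i.hom ≫ V.ι
  have hpb : IsPullback (f ⁻¹ᵁ V).ι f' f b :=
    (isPullback_morphismRestrict f V).flip.of_iso (Iso.refl _) (Iso.refl _) i.symm
      (Iso.refl _) (by simp) (by simp [f']) (by simp) (by simp [b])
  haveI : LocallyOfFinitePresentation f' := MorphismProperty.of_isPullback hpb ‹_›
  haveI : QuasiCompact f' := MorphismProperty.of_isPullback hpb ‹_›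
  haveI : QuasiSeparated f' := MorphismProperty.of_isPullback hpb ‹_›
  let s' : c.pt ⟶ ((f ⁻¹ᵁ V) : Scheme.{u}) :=
    hpb.lift (b ≫ g) (𝟙 _) (by rw [Category.assoc, hg, Category.comp_id, Category.id_comp])
  have hs' : s' ≫ f' = 𝟙 _ := hpb.lift_snd _ _ _
  have hs'g : s' ≫ (f ⁻¹ᵁ V).ι = b ≫ g := hpb.lift_fst _ _ _
  let x : ↥((f ⁻¹ᵁ V) : Scheme.{u}) := ⟨x₀, hxV⟩
  have hbx : b (f' x) = f x₀ := by
    rw [← Scheme.Hom.comp_apply, ← hpb.w, Scheme.Hom.comp_apply]
    rfl
  have hbI : ∀ t, b t ∈ interior V₀ := fun t => hVI (by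
    have h : (b t : Y) ∈ Set.range V.ι := ⟨i.hom t, (Scheme.Hom.comp_apply _ _ _).symm⟩
    rwa [Scheme.Opens.range_ι] at h)
  have hdim : ∀ t, FlatMor.fibreDimAt f' (s' t) = FlatMor.fibreDimAt f' (s' (f' x)) := fun t => by
    have hps : ∀ t, (f ⁻¹ᵁ V).ι (s' t) = g (b t) := fun t => by
      rw [← Scheme.Hom.comp_apply, hs'g, Scheme.Hom.comp_apply]
    rw [AlgSpD.fibreDimAt_of_isPullback f hpb, AlgSpD.fibreDimAt_of_isPullback f hpb, hps, hps, hbx,
      ← SecDim.topDim_component_eq f (hgy _) (hC _), ← SecDim.topDim_component_eq f (hgy _) (hC _)]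
    exact hV₀d _ (interior_subset (hbI t))
  have hxC : x ∈ connectedComponentIn (f' ⁻¹' {f' x}) (s' (f' x)) := by
    rw [SecComp.mem_component_iff f g hg f' _ b hpb s' hs' hs'g (f' x), hbx]
    exact ⟨hx₀, rfl⟩
  have hflat := SecDim.flat_stalkMap_of_limit hc hDred f' s' hs'
    (fun K _ _ => SecDim.isIrreducible_ascend f g hg hpb hs' hs'g hbx (hirr (f x₀)) K) hxC hdim
    (SecDim.isGeomReducedAt_baseChange hpb x hred)
  have hfl : ((f' ≫ b).stalkMap x).hom.Flat := by
    rw [Scheme.Hom.stalkMap_comp]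
    exact RingHom.Flat.comp (Flat.stalkMap b (f' x)) hflat
  rw [← hpb.w] at hfl
  exact SecDim.flat_stalkMap_of_open_comp (f ⁻¹ᵁ V).ι f x hfl

end Groth.Agent.S4955
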