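import Groth.Statements.S4956
import Groth.Agent.SecDim.DimConstr
-- import your own Groth.Agent.* helpers here

set_option autoImplicit false
set_option linter.style.haveILetI false
open CategoryTheory AlgebraicGeometry
universe u v w
open EGA43

namespace Groth.Agent.S4956

/-- Let f : X ⟶ Y be a morphism of finite presentation with a section g, X_y^0 the connected component
of f⁻¹(y) containing g y, every X_y^0 geometrically irreducible over κ(y), and y₀ a point of Y such
that f is universally open at the generic point of X_{y₀}^0. Suppose moreover that either (α) the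
fibre over y₀ is geometrically reduced at g y₀ and the local ring O_{Y,y₀} is Noetherian, or (β) dim
X_{y'} = dim X_{y'}^0 for the generic point y' of every irreducible component of Y containing y₀.
Then y ↦ dim X_y^0 is constant on a neighbourhood of y₀. -/
theorem result {X Y : Scheme.{u}} (f : X ⟶ Y)
    [LocallyOfFinitePresentation f] [QuasiCompact f] [QuasiSeparated f] (g : Y ⟶ X) (hg : g ≫ f = 𝟙 Y)
    (hirr : ∀ y : Y, (∀ (K : Type u) [Field K] [Algebra (IsLocalRing.ResidueField (Y.presheaf.stalk y)) K],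
        IsIrreducible ((FBase.bcπ (f.fiberToSpecResidueField y) K ≫ f.fiberι y).base ⁻¹' connectedComponentIn (f.base ⁻¹' {y}) (g.base y))))
    (y₀ : Y) (hopen : ∀ ξ ∈ connectedComponentIn (f.base ⁻¹' {y₀}) (g.base y₀), connectedComponentIn (f.base ⁻¹' {y₀}) (g.base y₀) ⊆ closure {ξ} → EGA43.IsUnivOpenAt f ξ)
    (hαβ : (FBase.IsGeomReducedAt (f.fiberToSpecResidueField (f.base (g.base y₀))) (f.asFiber (g.base y₀)) ∧
        IsNoetherianRing (Y.presheaf.stalk y₀)) ∨
      (∀ y' : Y, y₀ ∈ closure {y'} → closure {y'} ∈ irreducibleComponents (Y : Type u) →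
        topologicalKrullDim ↥(f.fiber y') = topologicalKrullDim ↥(connectedComponentIn (f.base ⁻¹' {y'}) (g.base y')))) :
    ∃ V ∈ nhds y₀, ∀ z ∈ V, topologicalKrullDim ↥(connectedComponentIn (f.base ⁻¹' {z}) (g.base z)) = topologicalKrullDim ↥(connectedComponentIn (f.base ⁻¹' {y₀}) (g.base y₀)) := by
  have hgy : ∀ y, f (g y) = y := fun y => by rw [← Scheme.Hom.comp_apply, hg]; rfl
  have hC : ∀ y, IsIrreducible (connectedComponentIn (f ⁻¹' {y}) (g y)) :=
    fun y => SecDim.isIrreducible_of_geometrically f g y (hgy y) (hirr y)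
  have key : ∀ y : Y, topologicalKrullDim ↥(connectedComponentIn (f.base ⁻¹' {y}) (g.base y)) =
      FlatMor.fibreDimAt f (g y) := fun y => SecDim.topDim_component_eq f (hgy y) (hC y)
  obtain ⟨a, b, -, -, hd⟩ := FibSemi.fibreDimAt_eq_add f (g y₀)
  have hlow : ∀ z, z ⤳ y₀ → ((a + b : ℕ) : WithBot ℕ∞) ≤ FlatMor.fibreDimAt f (g z) := by
    intro z hz
    rw [← hd]
    rcases hαβ with ⟨hα, hα'⟩ | hβ
    · exact SecDim.topDim_le_of_geomReduced_stalk f g hg hirr hz hopen hα
    -- a maximal generization of `z`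
    obtain ⟨η, hηz, hηm⟩ := FibSemi.exists_max_specializes (X := Y) z
    have hηc : closure {η} ∈ irreducibleComponents (Y : Type u) := by
      refine ⟨isIrreducible_singleton.closure, fun S hS hle => ?_⟩
      obtain ⟨s, hs⟩ := QuasiSober.sober hS.closure isClosed_closure
      have h1 : s = η := hηm s (hs.specializes (subset_closure (hle (subset_closure rfl))))
      rw [← h1, hs.def]
      exact subset_closure
    obtain ⟨ξ, hfξ, hξg, hξm, hCξ, hfd⟩ := SecDim.exists_generic f (hgy y₀) (hC y₀)
    have hξo := hopen ξ (hCξ.ge ⟨subset_closure rfl, hfξ⟩) fun w hw => (hCξ.subset hw).1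
    have hξm' : ∀ z, f z = f ξ → z ⤳ ξ → z = ξ := fun z hz => hξm z (hz.trans hfξ)
    obtain ⟨w, hfw, hw⟩ := SecDim.exists_gen_dim_of_univOpen f hξo hξm'
      (show η ⤳ f ξ from hfξ.symm ▸ hηz.trans hz)
    obtain ⟨c, hcw, hfc, hcm, n, m, e, -, -, hfdw, hc, -⟩ := FibSemi.exists_max_fibre f w
    have hwe : FlatMor.fibreDimAt f w ≤ topologicalKrullDim ↥(f.fiber η) := by
      rw [hfdw, ← hc, ← FibSemi.topDim_closure_inter_fibre_eq, hfc, hfw]
      exact (Topology.IsInducing.topologicalKrullDim_le
        (Topology.IsEmbedding.inclusion Set.inter_subset_right).isInducing).trans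
        (f.fiberHomeo η).symm.isInducing.topologicalKrullDim_le
    rw [hβ η (hηz.trans hz).mem_closure hηc, key η] at hwe
    obtain ⟨a', b', -, -, hd'⟩ := FibSemi.fibreDimAt_eq_add f (g z)
    have hle : FlatMor.fibreDimAt f (g η) ≤ FlatMor.fibreDimAt f (g z) := by
      rw [hd']
      exact (hηz.map g.continuous).mem_open
        (FlatMisc.FibreDimScheme.isOpen_fibreDimAt_le (f := f) (a' + b')) hd'.le
    refine le_trans ?_ hle
    rw [hfd, ← GUOpen.fibreDimAt_of_max f hξm']
    exact hw.trans hwe
  have hlc := ProConsPre.isLocallyConstructible_preimage g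
    (SecDim.isLocallyConstructible_fibreDim_ge f (a + b))
  have hge := SecDim.mem_nhds_of_generizations hlc hlow
  have hle := ((FlatMisc.FibreDimScheme.isOpen_fibreDimAt_le (f := f) (a + b)).preimage g.continuous).mem_nhds
    (show FlatMor.fibreDimAt f (g y₀) ≤ ((a + b : ℕ) : WithBot ℕ∞) from hd.le)
  refine ⟨_, Filter.inter_mem hge hle, fun z hz => ?_⟩
  rw [key z, key y₀, hd]
  exact le_antisymm hz.2 hz.1

end Groth.Agent.S4956
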