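import Groth.Statements.S4957
import Groth.Agent.ProperFib.Section
import Groth.Agent.ProperFib.FibDim
-- import your own Groth.Agent.* helpers here

set_option autoImplicit false
open CategoryTheory AlgebraicGeometry
universe u v w
open EGA43

namespace Groth.Agent.S4957

set_option backward.isDefEq.respectTransparency.types false

open CategoryTheory.Limits Groth.Agent.ProperFib

/-- Let f : X ⟶ Y be a separated morphism of finite presentation with a section g : Y ⟶ X, and X_z^0 the
connected component of f⁻¹(z) containing g z. Let y be a point such that X_y^0, as an open subscheme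
of the fibre X_y, is proper over κ(y). Then for every generization y' of y one has dim X_{y'}^0 ≤
dim X_y^0. -/
theorem result {X Y : Scheme.{u}} (f : X ⟶ Y) [IsSeparated f]
    [LocallyOfFinitePresentation f] [QuasiCompact f] [QuasiSeparated f] (g : Y ⟶ X) (hg : g ≫ f = 𝟙 Y) (y : Y)
    (hop : IsOpen ((f.fiberι y).base ⁻¹' connectedComponentIn (f.base ⁻¹' {y}) (g.base y)))
    (hprop : IsProper (Scheme.Opens.ι (⟨(f.fiberι y).base ⁻¹' connectedComponentIn (f.base ⁻¹' {y}) (g.base y), hop⟩ : (f.fiber y).Opens) ≫
      f.fiberToSpecResidueField y))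
    (y' : Y) (hy' : y' ⤳ y) :
    topologicalKrullDim ↥(connectedComponentIn (f.base ⁻¹' {y'}) (g.base y')) ≤ topologicalKrullDim ↥(connectedComponentIn (f.base ⁻¹' {y}) (g.base y)) := by
  have h := FibDim.dim_le f (MoreMor.sectionComponents f g) y (ProperFib.Section.fibProper f g hg y hop hprop)
    (ProperFib.Section.isOpen_fibre f g hg y) (ProperFib.Section.meet f g hg y) y' hy'
    (ProperFib.Section.isClosed_fibre f g hg y')
  rwa [ProperFib.Section.fibre_inter, ProperFib.Section.fibre_inter] at h

end Groth.Agent.S4957
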