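import Groth.Statements.S4958
import Groth.Agent.EquidimPt.FibreFun

set_option autoImplicit false
open CategoryTheory AlgebraicGeometry
universe u v w
open EGA43

namespace Groth.Agent.S4958

/-- Let Y be an irreducible locally Noetherian scheme with generic point η, f : X ⟶ Y a morphism of
finite type and y a point of Y whose local ring O_{Y,y} is universally catenary. Suppose that dim
O_{X,z} = dim O_{Y,y} for every maximal point z of the fibre X_y. For z' in Y let E(z') be the set
of dimensions of the irreducible components of X_{z'}. Then E(y) ⊆ E(η), and hence dim X_y ≤ dim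
X_η. -/
theorem result {X Y : Scheme.{u}} [IrreducibleSpace Y]
    [IsLocallyNoetherian Y] (f : X ⟶ Y) [LocallyOfFiniteType f] [QuasiCompact f] (y : Y)
    (hcat : CAlg.IsUniversallyCatenary (Y.presheaf.stalk y))
    (hb : ∀ z : X, f.base z = y → (∀ z' : X, f.base z' = y → z ∈ closure {z'} → z' = z) →
      ringKrullDim (X.presheaf.stalk z) = ringKrullDim (Y.presheaf.stalk y)) :
    letI E : Y → Set (WithBot ℕ∞) := fun z =>
      (fun Z : Set ↥(f.fiber z) => topologicalKrullDim ↥Z) '' irreducibleComponents ↥(f.fiber z)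
    E y ⊆ E (genericPoint Y) ∧
      topologicalKrullDim ↥(f.fiber y) ≤ topologicalKrullDim ↥(f.fiber (genericPoint Y)) := by
  haveI : IsLocallyNoetherian X := LocallyOfFiniteType.isLocallyNoetherian f
  have key : ∀ Z ∈ irreducibleComponents ↥(f.fiber y),
      ∃ Z' ∈ irreducibleComponents ↥(f.fiber (genericPoint Y)),
        topologicalKrullDim ↥Z' = topologicalKrullDim ↥Z := by
    intro Z hZ
    obtain ⟨ζ, -, hfz, hmax, hdim⟩ := EquidimPt.exists_generic_of_component f hZ
    generalize f.fiberι y ζ = z at hfz hmax hdim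
    have hdz := hb z hfz fun z' hz' h => hmax z' hz' (specializes_iff_mem_closure.2 h)
    obtain ⟨ξ, hξz, hξ, hξb⟩ := EquidimPt.exists_max_attained z
    obtain ⟨b, t, a, e, n, hb', -, ha, -, hfe, hn, hfd, hen, -, heq⟩ := EquidimPt.comp_facts f hξz hξ
    obtain ⟨n', t', hn1, hn2, -, -, -⟩ := EquidimPt.fibre_facts f z
    rw [EquidimPt.dim_zero_of_fMax f (fun w hw hfw => hmax w (hfw.trans hfz) hw)] at hn2
    obtain rfl : n' = 0 := by exact_mod_cast hn2.symm
    obtain rfl : n = 0 := by rw [hn] at hn1; exact_mod_cast hn1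
    obtain ⟨d, hd⟩ := EquidimPt.exists_dim (f z)
    have had : a ≤ d := by
      have h1 := EquidimPt.dim_between_le (a := f ξ) (x := f z)
      rw [ha, hd] at h1
      exact_mod_cast h1
    have hbd : b = d := by
      rw [hb', hdz, ← hfz, hd] at hξb
      exact_mod_cast hξb
    have hsum := heq (hfz ▸ hcat)
    obtain ⟨rfl, rfl⟩ : a = d ∧ e = t := by omega
    have hη : genericPoint Y = f ξ :=
      EquidimPt.max_of_dim (hξz.map f.continuous) (ha.trans hd.symm) _ (genericPoint_specializes _)
    obtain ⟨Z', hZ', hdim'⟩ :=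
      EquidimPt.exists_component_of_max f (y := genericPoint Y) hη.symm fun w _ hw => hξ w hw
    refine ⟨Z', hZ', ?_⟩
    rw [hdim', hdim]
    have h1 := GUOpen.fibreDimAt_of_max f (c := z) fun w hw => hmax w (hw.trans hfz)
    have h2 := GUOpen.fibreDimAt_of_max f (c := ξ) fun w _ hw => hξ w hw
    rw [hfd, zero_add, hfz] at h1
    rw [hfe, ← hη] at h2
    rw [← h1, ← h2]
  refine ⟨?_, EquidimPt.topDim_le_of_components fun Z hZ => ?_⟩
  · rintro _ ⟨Z, hZ, rfl⟩
    obtain ⟨Z', hZ', h⟩ := key Z hZ
    exact ⟨Z', hZ', h⟩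
  · obtain ⟨Z', hZ', h⟩ := key Z hZ
    rw [← h]
    exact Topology.IsInducing.topologicalKrullDim_le Topology.IsInducing.subtypeVal

end Groth.Agent.S4958
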