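import Groth.Statements.S4959
import Mathlib.AlgebraicGeometry.Morphisms.Flat
import Mathlib.AlgebraicGeometry.Morphisms.Proper
import Mathlib.AlgebraicGeometry.PullbackCarrier

set_option autoImplicit false
open CategoryTheory AlgebraicGeometry
universe u v w
open EGA43

namespace Groth.Agent.S4959

open CategoryTheory.Limits in
/-- Let f : X ⟶ Y be a morphism of schemes and g : Y' ⟶ Y a surjective morphism which is either proper,
or flat and quasi-compact. If the base change f' : X ×_Y Y' ⟶ Y' is universally submersive (all of
its base changes are topological quotient maps), then f is universally submersive. -/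
theorem result {X Y Y' : Scheme.{u}} (f : X ⟶ Y) (g : Y' ⟶ Y) [Surjective g]
    (hg : IsProper g ∨ (Flat g ∧ QuasiCompact g))
    (h : MorphismProperty.universally (topologically @Topology.IsQuotientMap) (pullback.snd f g)) :
    MorphismProperty.universally (topologically @Topology.IsQuotientMap) f := by
  intro X' T i₁ i₂ f'' sq
  let gT := CategoryTheory.Limits.pullback.fst i₂ g
  let gY := CategoryTheory.Limits.pullback.snd i₂ g
  let q1 := CategoryTheory.Limits.pullback.fst f'' gT
  let q2 := CategoryTheory.Limits.pullback.snd f'' gT
  have hq : Topology.IsQuotientMap gT := by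
    haveI : Surjective gT := inferInstance
    rcases hg with hp | ⟨hf, hqc⟩
    · haveI : IsProper gT := inferInstance
      exact gT.isClosedMap.isQuotientMap gT.continuous gT.surjective
    · haveI : Flat gT := inferInstance
      haveI : QuasiCompact gT := inferInstance
      exact Flat.isQuotientMap_of_surjective gT
  have big : IsPullback (q1 ≫ i₁) q2 f (gT ≫ i₂) := (IsPullback.of_hasPullback f'' gT).paste_horiz sq.flip
  rw [CategoryTheory.Limits.pullback.condition] at big
  have w : (q1 ≫ i₁) ≫ f = (q2 ≫ gY) ≫ g := by rw [Category.assoc _ gY g]; exact big.w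
  let e := CategoryTheory.Limits.pullback.lift (q1 ≫ i₁) (q2 ≫ gY) w
  have sq' : IsPullback e q2 (CategoryTheory.Limits.pullback.snd f g) gY := by
    refine IsPullback.of_right ?_ (CategoryTheory.Limits.pullback.lift_snd _ _ _) (IsPullback.of_hasPullback f g)
    rwa [CategoryTheory.Limits.pullback.lift_fst]
  have h2 : Topology.IsQuotientMap q2 := h e gY q2 sq'.flip
  have h3 : Topology.IsQuotientMap ((f'' : X' → T) ∘ (q1 : _ → X')) := by
    have h4 := hq.comp h2
    convert h4 using 1
    funext x
    simp only [Function.comp_apply, ← Scheme.Hom.comp_apply]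
    rw [CategoryTheory.Limits.pullback.condition]
  exact Topology.IsQuotientMap.of_comp q1.continuous f''.continuous h3

end Groth.Agent.S4959
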