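import Groth.Statements.S4965
import Groth.Agent.Fibres16.SuppDims

set_option autoImplicit false
open CategoryTheory AlgebraicGeometry
universe u v w
open EGA43

namespace Groth.Agent.S4965

/-- Let f : X ⟶ Y be a proper morphism of finite presentation and F a finitely presented O_X-module
which is f-flat; for y in Y write F_y for the restriction of F to the fibre X_y. Let Φ be a finite
set of natural numbers. Then the set of points y of Y such that the set of dimensions of the
irreducible components of Supp(F_y) contains Φ is open in Y. -/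
theorem result {X Y : Scheme.{u}} (f : X ⟶ Y) [IsProper f]
    [LocallyOfFinitePresentation f] (F : X.Modules) (hF : CohB1.IsFP F) (hflat : FlatMod.IsFlatOver f F) (Φ : Finset ℕ) :
    IsOpen {y : Y | ∀ n ∈ Φ, ∃ Z ∈ irreducibleComponents ↥{z : ↥(f.fiber y) | Nontrivial (((Scheme.Modules.pullback (f.fiberι y)).obj F).presheaf.stalk z)},
      topologicalKrullDim ↥Z = (n : WithBot ℕ∞)} := by
  have key : ∀ (y : Y) (n : ℕ),
      (∃ Z ∈ irreducibleComponents ↥(Fibres16.SuppDims.suppFib f F y), topologicalKrullDim ↥Z = (n : WithBot ℕ∞)) ↔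
      ∃ w ∈ Fibres16.SuppDims.maxPts (Fibres16.SuppDims.suppFib f F y),
        topologicalKrullDim ↥(closure ({w} : Set (f.fiber y))) = (n : WithBot ℕ∞) := by
    intro y n
    have h := Set.ext_iff.1 (Fibres16.SuppDims.dims_components (Fibres16.SuppDims.isClosed_suppFib f hF y)) (n : WithBot ℕ∞)
    simpa only [Set.mem_image] using h
  convert Φ.finite_toSet.isOpen_biInter fun n _ => Fibres16.SuppDims.exists_nhd_superset f hF hflat n using 1
  ext y
  simp only [Set.mem_iInter, Finset.mem_coe]
  exact ⟨fun h n hn => (key y n).1 (h n hn), fun h n hn => (key y n).2 (h n hn)⟩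

end Groth.Agent.S4965
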