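import Groth.Statements.S4966
import Groth.Agent.S4965
import Groth.Agent.S4964
import Groth.Agent.Fibres16.SuppDims

set_option autoImplicit false
open CategoryTheory AlgebraicGeometry
universe u v w
open EGA43

namespace Groth.Agent.S4966

/-- Let f : X ⟶ Y be a proper morphism of finite presentation and F a finitely presented O_X-module
which is f-flat; for y in Y write F_y for the restriction of F to the fibre X_y. Let Φ be a finite
set of natural numbers. Then the set of points y of Y such that F_y has no embedded associated point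
and the set of dimensions of the irreducible components of Supp(F_y) is exactly Φ is open in Y. -/
theorem result {X Y : Scheme.{u}} (f : X ⟶ Y) [IsProper f]
    [LocallyOfFinitePresentation f] (F : X.Modules) (hF : CohB1.IsFP F) (hflat : FlatMod.IsFlatOver f F) (Φ : Finset ℕ) :
    IsOpen {y : Y | AssSch.NoEmbedded ((Scheme.Modules.pullback (f.fiberι y)).obj F) ∧
      (fun Z : Set ↥{z : ↥(f.fiber y) | Nontrivial (((Scheme.Modules.pullback (f.fiberι y)).obj F).presheaf.stalk z)} => topologicalKrullDim ↥Z) '' irreducibleComponents ↥{z : ↥(f.fiber y) | Nontrivial (((Scheme.Modules.pullback (f.fiberι y)).obj F).presheaf.stalk z)} =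
        (fun n : ℕ => (n : WithBot ℕ∞)) '' (Φ : Set ℕ)} := by
  haveI := Fibres16.SuppDims.isQuasicoherent F hF
  let P : (y : Y) → f.fiber y → Prop := fun y x =>
    ∀ z ∈ AssSch.Ass (Fibres16.SuppDims.fibMod f F y), x ∈ closure {z} →
      ∀ z' ∈ AssSch.Ass (Fibres16.SuppDims.fibMod f F y), z ∈ closure {z'} → z' = z
  have h1 : IsOpen {y : Y | ∀ x : f.fiber y, P y x} :=
    Fibres16.Loci.isOpen_forall_fiber f P (FibCodepth.isOpen_noEmb f F hF hflat)
  have hP : ∀ y, (∀ x : f.fiber y, P y x) ↔ AssSch.NoEmbedded (Fibres16.SuppDims.fibMod f F y) := fun y =>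
    ⟨fun h x hx w hw hwx => (h x x hx (subset_closure rfl) w hw (specializes_iff_mem_closure.1 hwx)).symm,
      fun h x z hz _ z' hz' hzz' => (h z hz z' hz' (specializes_iff_mem_closure.2 hzz')).symm⟩
  convert (h1.inter (S4964.result f F hF hflat Φ)).inter (S4965.result f F hF hflat Φ) using 1
  ext y
  have hd : ∀ (d : WithBot ℕ∞),
      d ∈ (fun Z : Set ↥(Fibres16.SuppDims.suppFib f F y) => topologicalKrullDim ↥Z) '' irreducibleComponents ↥(Fibres16.SuppDims.suppFib f F y) ↔
        ∃ w ∈ Fibres16.SuppDims.maxPts (Fibres16.SuppDims.suppFib f F y),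
          topologicalKrullDim ↥(closure ({w} : Set (f.fiber y))) = d :=
    fun d => Set.ext_iff.1 (Fibres16.SuppDims.dims_components (Fibres16.SuppDims.isClosed_suppFib f hF y)) d
  constructor
  · rintro ⟨hne, heq⟩
    refine ⟨⟨(hP y).2 hne, fun z hz => ?_⟩, fun n hn => ?_⟩
    · have hz' : z ∈ Fibres16.SuppDims.maxPts (Fibres16.SuppDims.suppFib f F y) :=
        (Fibres16.SuppDims.ass_eq_maxPts f hF y hne).le hz
      obtain ⟨n, hn, hnz⟩ := heq.le ((hd _).2 ⟨z, hz', rfl⟩)
      exact ⟨n, hn, hnz.symm⟩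
    · exact heq.ge ⟨n, hn, rfl⟩
  · rintro ⟨⟨hne, hass⟩, hsup⟩
    refine ⟨(hP y).1 hne, Set.Subset.antisymm (fun d hd' => ?_) ?_⟩
    · obtain ⟨w, hw, rfl⟩ := (hd d).1 hd'
      obtain ⟨n, hn, hnw⟩ := hass w (Fibres16.SuppDims.mem_ass_of_mem_maxPts f hF y hw)
      exact ⟨n, hn, hnw.symm⟩
    · rintro _ ⟨n, hn, rfl⟩
      exact hsup n hn

end Groth.Agent.S4966
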