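import Groth.Statements.S4968
import Groth.Agent.FibCodepth.ProperLoci

set_option autoImplicit false
open CategoryTheory AlgebraicGeometry
universe u v w
open EGA43

namespace Groth.Agent.S4968

/-- Let f : X ⟶ Y be a proper morphism of finite presentation and F a finitely presented O_X-module
which is f-flat; for y in Y write F_y for the restriction of F to the fibre X_y. Then the set of
points y of Y such that F_y is a Cohen–Macaulay O_{X_y}-module (at every point of X_y its stalk is
zero or a Cohen–Macaulay module over the local ring) is open in Y. -/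
theorem result {X Y : Scheme.{u}} (f : X ⟶ Y) [IsProper f]
    [LocallyOfFinitePresentation f] (F : X.Modules) (hF : CohB1.IsFP F) (hflat : FlatMod.IsFlatOver f F) :
    IsOpen {y : Y | ∀ x : ↥(f.fiber y), Subsingleton (((Scheme.Modules.pullback (f.fiberι y)).obj F).presheaf.stalk x) ∨
      LocCoh.IsCohenMacaulayModule ((f.fiber y).presheaf.stalk x) (((Scheme.Modules.pullback (f.fiberι y)).obj F).presheaf.stalk x)} := by
  convert Groth.Agent.FibCodepth.isOpen_base_codepth f F hF hflat 0 using 1
  ext y
  simp only [Set.mem_ofPred_eq, Nat.cast_zero, add_zero]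
  refine forall_congr' fun x => ?_
  have : LocallyOfFiniteType (f.fiberToSpecResidueField y) :=
    MorphismProperty.of_isPullback (P := @LocallyOfFiniteType) (CategoryTheory.IsPullback.of_hasPullback f (Y.fromSpecResidueField y)) inferInstance
  have : IsLocallyNoetherian (f.fiber y) :=
    LocallyOfFiniteType.isLocallyNoetherian (f.fiberToSpecResidueField y)
  obtain ⟨V, U, hV, hU, e, hxU, hfin, hqc⟩ := Groth.Agent.FibCodepth.chart_data f F hF (f.fiberι y x)
  let := Groth.Agent.FibCodepth.fibreAlg f y x hxU
  obtain ⟨μ⟩ := Groth.Agent.FibCodepth.nonempty_fibre_module_chart f hU F y x hxU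
  have := hfin
  have : Module.Finite ((f.fiber y).presheaf.stalk x)
      (((Scheme.Modules.pullback (f.fiberι y)).obj F).presheaf.stalk x) := Module.Finite.equiv μ.symm
  constructor
  · rintro (h | h)
    · rw [Module.supportDim_eq_bot_of_subsingleton]
      exact bot_le
    · exact le_of_eq h
  · intro h
    rcases subsingleton_or_nontrivial (((Scheme.Modules.pullback (f.fiberι y)).obj F).presheaf.stalk x) with hs | hs
    · exact Or.inl hs
    · exact Or.inr (le_antisymm h Groth.Agent.Depth.depth_le_supportDim)

end Groth.Agent.S4968
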