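import Groth.Statements.S5930
import Groth.Agent.CAlgA.RelSyzygy
import Groth.Agent.FlatOpen.FibreAPI
import Groth.Agent.RegLoc.PD
import Mathlib
-- import your own Groth.Agent.* helpers here

set_option autoImplicit false
universe u
open TensorProduct CategoryTheory
open EGA43

namespace Groth.Agent.S5930

attribute [local instance] Algebra.TensorProduct.rightAlgebra

variable {A B : Type u} [CommRing A] [CommRing B] [Algebra A B]

/-- The fibre module is flat once the localised module modulo `p` is reached from it. -/
lemma flat_of_fibres [Algebra.FinitePresentation A B] (K : Type u) [AddCommGroup K] [Module B K] [Module A K]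
    [IsScalarTower A B K] [Module.FinitePresentation B K] [Module.Flat A K]
    (h : ∀ (p : PrimeSpectrum A),
      Module.Flat (B ⊗[A] p.asIdeal.ResidueField) ((B ⊗[A] p.asIdeal.ResidueField) ⊗[B] K)) :
    Module.Flat B K := by
  refine Groth.Agent.FlatOpen.flat_of_forall_flatAt (S := B) fun Q hQ => ?_
  let p : Ideal A := Q.comap (algebraMap A B)
  let I : Ideal B := p.map (algebraMap A B)
  let BQ := Localization.AtPrime Q
  refine Groth.Agent.FlatOpen.fibre_flat_criterion A B B K Q
    (Groth.Agent.FlatMor.FlatAtBC.flat_localizedModule A Q.primeCompl K) I rfl ?_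
  let E := (B ⧸ I) ⊗[B] BQ
  haveI : Module.Flat (B ⧸ I) E := inferInstance
  let D := B ⊗[A] p.ResidueField
  let g : A →ₐ[A] E := Algebra.ofId A E
  have hg1 : p ≤ RingHom.ker g := fun a ha => by
    show algebraMap A E a = 0
    rw [IsScalarTower.algebraMap_apply A B E, IsScalarTower.algebraMap_apply B (B ⧸ I) E,
      Ideal.Quotient.algebraMap_eq, Ideal.Quotient.eq_zero_iff_mem.2 (Ideal.mem_map_of_mem _ ha), map_zero]
  have hg2 : p.primeCompl ≤ (IsUnit.submonoid E).comap g := fun a ha => by
    show IsUnit (algebraMap A E a)
    rw [IsScalarTower.algebraMap_apply A B E, ← AlgHom.commutes (Algebra.TensorProduct.includeRight : BQ →ₐ[B] E)]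
    exact (IsLocalization.map_units BQ (⟨algebraMap A B a, ha⟩ : Q.primeCompl)).map _
  let χ : D →ₐ[B] E := Algebra.TensorProduct.lift (Algebra.ofId B E) (Ideal.ResidueField.liftₐ p g hg1 hg2)
    fun _ _ => Commute.all _ _
  letI : Algebra D E := χ.toRingHom.toAlgebra
  haveI : IsScalarTower B D E := IsScalarTower.of_algebraMap_eq fun b => (χ.commutes b).symm
  haveI : Module.Flat D (D ⊗[B] K) := h ⟨p, inferInstance⟩
  haveI : Module.Flat E (E ⊗[D] (D ⊗[B] K)) := inferInstance
  haveI : Module.Flat E (E ⊗[B] K) :=
    Module.Flat.of_linearEquiv (TensorProduct.AlgebraTensorModule.cancelBaseChange B D E E K).symm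
  haveI : Module.Flat (B ⧸ I) (E ⊗[B] K) := Module.Flat.trans (B ⧸ I) E _
  let e : BQ ⊗[B] K ≃ₗ[B] LocalizedModule Q.primeCompl K :=
    (IsLocalizedModule.isBaseChange Q.primeCompl BQ (LocalizedModule.mkLinearMap Q.primeCompl K)).equiv.restrictScalars B
  exact Module.Flat.of_linearEquiv
    ((TensorProduct.AlgebraTensorModule.congr (LinearEquiv.refl (B ⧸ I) (B ⧸ I)) e.symm).trans
      (TensorProduct.AlgebraTensorModule.assoc B B (B ⧸ I) (B ⧸ I) BQ K).symm)

/-- A module with vanishing fibres is zero. -/
lemma subsingleton_of_fibres (M : Type u) [AddCommGroup M] [Module B M] [Module.Finite B M]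
    (h : ∀ (p : PrimeSpectrum A), Subsingleton ((B ⊗[A] p.asIdeal.ResidueField) ⊗[B] M)) : Subsingleton M := by
  rw [← Module.support_eq_empty_iff (R := B), Set.eq_empty_iff_forall_notMem]
  intro q hq
  rw [Module.mem_support_iff_nontrivial_residueField_tensorProduct] at hq
  let p : Ideal A := q.asIdeal.comap (algebraMap A B)
  let D := B ⊗[A] p.ResidueField
  let L := q.asIdeal.ResidueField
  let g : A →ₐ[A] L := Algebra.ofId A L
  have hg1 : p ≤ RingHom.ker g := fun a ha => by
    show algebraMap A L a = 0
    rw [IsScalarTower.algebraMap_apply A B L]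
    exact Ideal.algebraMap_residueField_eq_zero.2 ha
  have hg2 : p.primeCompl ≤ (IsUnit.submonoid L).comap g := fun a ha => by
    show IsUnit (algebraMap A L a)
    rw [IsScalarTower.algebraMap_apply A B L, isUnit_iff_ne_zero]
    exact fun e => ha ((Ideal.algebraMap_residueField_eq_zero (I := q.asIdeal)).1 e)
  let χ : D →ₐ[B] L := Algebra.TensorProduct.lift (Algebra.ofId B L) (Ideal.ResidueField.liftₐ p g hg1 hg2)
    fun _ _ => Commute.all _ _
  letI : Algebra D L := χ.toRingHom.toAlgebra
  haveI : IsScalarTower B D L := IsScalarTower.of_algebraMap_eq fun b => (χ.commutes b).symm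
  haveI : Subsingleton (D ⊗[B] M) := h ⟨p, inferInstance⟩
  haveI : Subsingleton (L ⊗[D] (D ⊗[B] M)) := inferInstance
  haveI : Subsingleton (L ⊗[B] M) :=
    (TensorProduct.AlgebraTensorModule.cancelBaseChange B D L L M).symm.injective.subsingleton
  exact not_nontrivial _ hq

variable [Algebra.FinitePresentation A B] [Module.Flat A B]

/-- The projective dimension is detected on the fibres. -/
lemma pd_iff (n : ℕ) : ∀ (M : Type u) [AddCommGroup M] [Module B M] [Module A M]
    [IsScalarTower A B M] [Module.FinitePresentation B M] [Module.Flat A M],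
    HasProjectiveDimensionLE (ModuleCat.of B M) n ↔ ∀ p : PrimeSpectrum A,
      HasProjectiveDimensionLE
        (ModuleCat.of (B ⊗[A] p.asIdeal.ResidueField) ((B ⊗[A] p.asIdeal.ResidueField) ⊗[B] M)) n := by
  induction n with
  | zero =>
    intro M _ _ _ _ _ _
    simp only [Groth.Agent.RegLoc.PD.pd_zero_iff]
    refine ⟨fun h p => inferInstance, fun h => ?_⟩
    haveI := flat_of_fibres (A := A) (B := B) M fun p =>
      haveI := h p
      inferInstance
    exact Module.Flat.projective_of_finitePresentation
  | succ n ih =>
    intro M _ _ _ _ _ _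
    obtain ⟨r, q, hq, hfp⟩ := Groth.Agent.CAlgA.RelSyzygy.exists_fp_syzygy A B M
    haveI : Module.Flat A (Fin r → B) := Module.Flat.trans A B (Fin r → B)
    haveI : Module.Flat A (LinearMap.ker q) :=
      Groth.Agent.CAlgA.RelSyzygy.flat_ker (q.restrictScalars A) hq
    rw [Groth.Agent.RegLoc.PD.pd_shift q hq n, ih (LinearMap.ker q)]
    refine forall_congr' fun p => ?_
    let κ := p.asIdeal.ResidueField
    let D := B ⊗[A] κ
    have hinjA : Function.Injective (((LinearMap.ker q).subtype.restrictScalars A).lTensor κ) :=
      LinearMap.lTensor_injective_of_exact_of_flat (q.restrictScalars A) hq _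
        (LinearMap.ker q).subtype_injective (LinearMap.exact_subtype_ker_map q) κ
    let c₁ := Algebra.IsPushout.cancelBaseChange A κ B D (LinearMap.ker q)
    let c₂ := Algebra.IsPushout.cancelBaseChange A κ B D (Fin r → B)
    have hnat : ∀ w, (LinearMap.ker q).subtype.baseChange D (c₁.symm w) =
        c₂.symm (((LinearMap.ker q).subtype.restrictScalars A).lTensor κ w) := by
      intro w
      induction w with
      | zero => simp
      | tmul a k => simp [c₁, c₂]
      | add a b ha hb => rw [map_add, map_add, map_add, map_add, ha, hb]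
    have hinj : Function.Injective ((LinearMap.ker q).subtype.baseChange D) := by
      intro x y hxy
      rw [← c₁.symm_apply_apply x, ← c₁.symm_apply_apply y, hnat, hnat] at hxy
      exact c₁.injective (hinjA (c₂.symm.injective hxy))
    let e := Groth.Agent.RegLoc.PD.kerBaseChangeEquiv D q hq hinj
    rw [Groth.Agent.RegLoc.PD.pd_shift (q.baseChange D) (Groth.Agent.RegLoc.PD.baseChange_surjective D q hq) n]
    exact ⟨Groth.Agent.RegLoc.PD.pd_congr e n, Groth.Agent.RegLoc.PD.pd_congr e.symm n⟩

/-- An order lemma for projective dimensions. -/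
lemma le_of_forall_lt {a b : WithBot ℕ∞} (h : ∀ n : ℕ, b < n → a < n) : a ≤ b := by
  induction b with
  | bot => exact le_of_eq (by simpa [WithBot.lt_zero_iff_eq_bot] using h 0 (WithBot.bot_lt_coe _))
  | coe b =>
    induction b with
    | top => exact le_top
    | coe b =>
      have h1 : a < ((b + 1 : ℕ) : WithBot ℕ∞) :=
        h (b + 1) (WithBot.coe_lt_coe.2 (ENat.natCast_lt_natCast.2 b.lt_succ_self))
      rw [Nat.cast_succ] at h1
      exact ENat.WithBot.lt_add_one_iff.1 h1

/-- Let A be a commutative ring, B a finitely presented A-algebra which is flat as an A-module, and M a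
finitely presented B-module which is flat as an A-module. Then the projective dimension of M as a
B-module equals the supremum, over the prime ideals p of A with residue fields κ(p), of the
projective dimensions of the modules (B ⊗_A κ(p)) ⊗_B M over the rings B ⊗_A κ(p). (Projective
dimensions are taken in the respective module categories, with values in WithBot ℕ∞ and the zero
module of dimension ⊥. The published formula also equates these with the Tor-dimension of M over B;
that equality is not stated here.) -/
theorem result (A B M : Type u) [CommRing A] [CommRing B] [Algebra A B]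
    [Algebra.FinitePresentation A B] [Module.Flat A B] [AddCommGroup M] [Module B M] [Module A M]
    [IsScalarTower A B M] [Module.FinitePresentation B M] [Module.Flat A M] :
    projectiveDimension (ModuleCat.of B M) =
      ⨆ p : PrimeSpectrum A, projectiveDimension
        (ModuleCat.of (B ⊗[A] p.asIdeal.ResidueField) ((B ⊗[A] p.asIdeal.ResidueField) ⊗[B] M)) := by
  let F : PrimeSpectrum A → WithBot ℕ∞ := fun p => projectiveDimension
    (ModuleCat.of (B ⊗[A] p.asIdeal.ResidueField) ((B ⊗[A] p.asIdeal.ResidueField) ⊗[B] M))
  have key : ∀ n : ℕ, projectiveDimension (ModuleCat.of B M) < n ↔ ∀ p, F p < n := by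
    intro n
    simp only [F, projectiveDimension_lt_iff]
    cases n with
    | zero =>
      simp only [hasProjectiveDimensionLT_zero_iff_isZero]
      refine ⟨fun h p => ?_, fun h => ?_⟩
      · haveI : Subsingleton M := ModuleCat.subsingleton_of_isZero h
        exact ModuleCat.isZero_of_subsingleton _
      · haveI := subsingleton_of_fibres (A := A) M fun p => ModuleCat.subsingleton_of_isZero (h p)
        exact ModuleCat.isZero_of_subsingleton _
    | succ n => exact pd_iff n M
  show projectiveDimension (ModuleCat.of B M) = ⨆ p, F p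
  refine le_antisymm (le_of_forall_lt fun n hn => (key n).2 fun p => lt_of_le_of_lt (le_iSup F p) hn) ?_
  exact iSup_le fun p => le_of_forall_lt fun n hn => (key n).1 hn p

end Groth.Agent.S5930
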