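import Groth.Statements.S4973
import Mathlib.AlgebraicGeometry.PullbackCarrier
import Mathlib.AlgebraicGeometry.Morphisms.ClosedImmersion
import Mathlib.AlgebraicGeometry.Morphisms.UnderlyingMap
import Mathlib.AlgebraicGeometry.FunctionField

set_option autoImplicit false
open CategoryTheory AlgebraicGeometry
universe u v w
open EGA43

namespace Groth.Agent.S4973

open CategoryTheory.Limits in
/-- Let Y₀ and Y be integral schemes, g : Y ⟶ Y₀ a dominant morphism, f₀ : X₀ ⟶ Y₀ a dominant morphism
whose fibre over the generic point of Y₀ is irreducible, and X'₀ an irreducible component of X₀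
meeting that generic fibre (it is unique), regarded as a reduced closed subscheme of X₀. If X = X₀
×_{Y₀} Y is an integral scheme, then the morphism X'₀ ×_{Y₀} Y ⟶ X induced by the inclusion of X'₀
is an isomorphism. -/
theorem result {X₀ Y₀ Y : Scheme.{u}} [IsIntegral Y₀] [IsIntegral Y]
    (g : Y ⟶ Y₀) [IsDominant g] (f₀ : X₀ ⟶ Y₀) [IsDominant f₀]
    (hirr : IsIrreducible (f₀.base ⁻¹' {genericPoint Y₀}))
    (C : TopologicalSpace.Closeds X₀) (hC : (C : Set X₀) ∈ irreducibleComponents (X₀ : Type u))
    (hCη : ((C : Set X₀) ∩ f₀.base ⁻¹' {genericPoint Y₀}).Nonempty) [IsIntegral (pullback f₀ g)]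
    (e₁ : ((Scheme.IdealSheafData.vanishingIdeal C).subschemeι ≫ f₀) ≫ 𝟙 Y₀ =
      (Scheme.IdealSheafData.vanishingIdeal C).subschemeι ≫ f₀) (e₂ : g ≫ 𝟙 Y₀ = 𝟙 Y ≫ g) :
    IsIso (pullback.map ((Scheme.IdealSheafData.vanishingIdeal C).subschemeι ≫ f₀) g f₀ g
      (Scheme.IdealSheafData.vanishingIdeal C).subschemeι (𝟙 Y) (𝟙 Y₀) e₁ e₂) := by
  set ι := (Scheme.IdealSheafData.vanishingIdeal C).subschemeι
  have : IsClosedImmersion (pullback.map (ι ≫ f₀) g f₀ g ι (𝟙 Y) (𝟙 Y₀) e₁ e₂) := by
    rw [CategoryTheory.Limits.pullback_map_eq_pullbackFstFstIso_inv]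
    infer_instance
  have hrange : Set.range ι = (C : Set X₀) := by
    rw [Scheme.IdealSheafData.range_subschemeι]
    exact Scheme.IdealSheafData.coe_support_vanishingIdeal C
  -- the component contains the generic fibre
  obtain ⟨c, hcC, hcη⟩ := hCη
  have hgC : IsGenericPoint hC.1.genericPoint (C : Set X₀) := by
    have := hC.1.isGenericPoint_genericPoint_closure
    rwa [C.isClosed.closure_eq] at this
  have hfib : f₀.base ⁻¹' {genericPoint Y₀} ⊆ (C : Set X₀) := by
    have hη : f₀.base hC.1.genericPoint = genericPoint Y₀ := by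
      refine ((genericPoint_specializes (f₀.base hC.1.genericPoint)).antisymm ?_).eq.symm
      rw [← (Set.mem_singleton_iff.mp hcη)]
      exact (hgC.specializes hcC).map f₀.continuous
    intro x hx
    have hsub : (C : Set X₀) ⊆ closure (f₀.base ⁻¹' {genericPoint Y₀}) := by
      rw [← hgC.def]
      exact closure_mono (Set.singleton_subset_iff.mpr hη)
    have heq := hC.eq_of_le (y := closure (f₀.base ⁻¹' {genericPoint Y₀}))
      hirr.closure hsub
    rw [heq]
    exact subset_closure hx
  have : Surjective (pullback.map (ι ≫ f₀) g f₀ g ι (𝟙 Y) (𝟙 Y₀) e₁ e₂) := by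
    refine ⟨fun z => ?_⟩
    have hcl : IsClosed (Set.range (pullback.map (ι ≫ f₀) g f₀ g ι (𝟙 Y) (𝟙 Y₀) e₁ e₂)) :=
      Scheme.Hom.isClosedEmbedding _ |>.isClosed_range
    have hξ : genericPoint (pullback f₀ g : Scheme) ∈
        Set.range (pullback.map (ι ≫ f₀) g f₀ g ι (𝟙 Y) (𝟙 Y₀) e₁ e₂) := by
      rw [Scheme.Pullback.range_map]
      refine ⟨?_, ⟨_, rfl⟩⟩
      rw [Set.mem_preimage, hrange]
      refine hfib ?_
      -- the generic point of the fibre product lies over the generic point of `Y`
      have hgη : g.base (genericPoint Y) = genericPoint Y₀ := by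
        have h1 := (genericPoint_spec Y).image g.continuous
        rw [Set.image_univ, g.denseRange.closure_range] at h1
        exact h1.eq (genericPoint_spec Y₀)
      obtain ⟨w, hw1, hw2⟩ := Scheme.Pullback.exists_preimage_pullback (f := f₀) (g := g) c (genericPoint Y)
        (by rw [hgη]; exact hcη)
      have h2 : (pullback.snd f₀ g).base (genericPoint (pullback f₀ g : Scheme)) = genericPoint Y := by
        refine ((genericPoint_specializes _).antisymm ?_).eq.symm
        exact hw2 ▸ (genericPoint_specializes w).map (pullback.snd f₀ g).continuous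
      show f₀.base ((pullback.fst f₀ g).base (genericPoint (pullback f₀ g : Scheme))) = genericPoint Y₀
      rw [← hgη, ← h2]
      exact congr((Scheme.Hom.toLRSHom $(pullback.condition (f := f₀) (g := g))).base
        (genericPoint (pullback f₀ g : Scheme)))
    exact (genericPoint_specializes z).mem_closed hcl hξ
  exact isIso_of_isClosedImmersion_of_surjective _

end Groth.Agent.S4973
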