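import Groth.Statements.S4974
import Groth.Agent.QSect.Scheme
import Groth.Agent.Hensel.QFinite
import Groth.Agent.Hensel.Basic

set_option autoImplicit false
open CategoryTheory AlgebraicGeometry
universe u v w
open EGA43

namespace Groth.Agent.S4974

/-- Consider a complete Noetherian local domain A and put Y = Spec A. Suppose f : X ⟶ Y is locally of
finite type, and take a point x ∈ X mapping to the closed point of Y, where f is equidimensional at
x and x is closed in the fibre containing it. Then one can find a local domain A' that contains A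
and is finite as an A-algebra, together with a Y-morphism h : Spec A' ⟶ X that is an immersion and
has x in its image. -/
theorem result {A : Type u} [CommRing A] [IsDomain A]
    [IsNoetherianRing A] [IsLocalRing A] [IsAdicComplete (IsLocalRing.maximalIdeal A) A] {X : Scheme.{u}}
    (f : X ⟶ Spec (CommRingCat.of A)) [LocallyOfFiniteType f] (x : X) (hx : f.base x = IsLocalRing.closedPoint A)
    (hf : EGA43.IsEquidimAt f x) (hcl : ∀ x' : X, f.base x' = f.base x → x ⤳ x' → x' = x) :
    ∃ (A' : Type u) (_ : CommRing A') (_ : IsDomain A') (_ : IsLocalRing A') (_ : Algebra A A') (_ : Module.Finite A A'),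
      Function.Injective (algebraMap A A') ∧
      ∃ h : Spec (CommRingCat.of A') ⟶ X, h ≫ f = Spec.map (CommRingCat.ofHom (algebraMap A A')) ∧
        IsImmersion h ∧ x ∈ Set.range h.base := by
  classical
  haveI : HenselianLocalRing A := Groth.Agent.Hensel.henselianLocalRing_of_henselianRing inferInstance
  haveI : IrreducibleSpace (Spec (CommRingCat.of A)) := inferInstance
  obtain ⟨e, U, hxU, hcomp, hdim⟩ := hf
  let x₀ : U := ⟨x, hxU⟩
  have hYcomp : ∀ W ∈ irreducibleComponents (Spec (CommRingCat.of A) : Type u), W = Set.univ := fun W hW => by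
    rw [irreducibleComponents_eq_singleton] at hW
    exact hW
  have hcl0 : ∀ x' : U, (U.ι ≫ f) x' = (U.ι ≫ f) x₀ → x₀ ⤳ x' → x' = x₀ := fun x' h1 h2 =>
    U.ι.injective (hcl _ h1 (h2.map U.ι.continuous))
  obtain ⟨Z, hZ, hxZ⟩ : ∃ Z ∈ irreducibleComponents (U : Scheme.{u}), x₀ ∈ Z :=
    ⟨_, irreducibleComponent_mem_irreducibleComponents _, mem_irreducibleComponent⟩
  obtain ⟨ξ, hξ⟩ := QuasiSober.sober hZ.1 (isClosed_of_mem_irreducibleComponents Z hZ)
  obtain ⟨T, i, h1, h2, h3, ⟨z, hz⟩, -, h5, h6, h7, h8⟩ := Groth.Agent.QSect.exists_quasiSection (U.ι ≫ f)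
    (fun Z' hZ' => by
      obtain ⟨W, hW, -, hcl'⟩ := hcomp Z' hZ'
      exact hcl'.trans (hYcomp W hW))
    hdim x₀ hcl0 ξ (Groth.Agent.QSect.max_of_component hZ hξ) (hξ.specializes hxZ)
  haveI : IsIntegral T := isIntegral_of_irreducibleSpace_of_isReduced T
  obtain ⟨W, hW, hzW, -⟩ := exists_isAffineOpen_mem_and_subset (U := ⊤) (x := z) trivial
  haveI : Nonempty W := ⟨⟨z, hzW⟩⟩
  let L := Γ(T, W)
  let j : Spec L ⟶ X := hW.fromSpec ≫ i ≫ U.ι
  let φ : CommRingCat.of A ⟶ L := Spec.preimage (j ≫ f)
  have hφ : Spec.map φ = j ≫ f := Spec.map_preimage _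
  have hj : j ≫ f = hW.fromSpec ≫ i ≫ U.ι ≫ f := by simp only [j, Category.assoc]
  letI : Algebra A L := φ.hom.toAlgebra
  haveI : LocallyOfFiniteType (j ≫ f) := by rw [hj]; infer_instance
  haveI : LocallyQuasiFinite (j ≫ f) := by rw [hj]; infer_instance
  haveI hft : Algebra.FiniteType A L := by
    rw [← RingHom.finiteType_algebraMap]
    show φ.hom.FiniteType
    rw [← HasRingHomProperty.Spec_iff (P := @LocallyOfFiniteType), hφ]
    infer_instance
  haveI hqf : Algebra.QuasiFinite A L := by
    rw [← RingHom.quasiFinite_algebraMap]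
    show φ.hom.QuasiFinite
    rw [← HasRingHomProperty.Spec_iff (P := @LocallyQuasiFinite), hφ]
    infer_instance
  haveI : IsDomain L := inferInstance
  obtain ⟨q, hq⟩ := Groth.Agent.DimSpec.exists_fromSpec hW hzW
  have hqx : j q = x := by
    show U.ι (i (hW.fromSpec q)) = x
    rw [hq]
    exact congrArg U.ι hz
  haveI := q.isPrime
  haveI : q.asIdeal.LiesOver (IsLocalRing.maximalIdeal A) := by
    constructor
    have h : Spec.map φ q = IsLocalRing.closedPoint A := by
      rw [hφ]
      show f (j q) = _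
      rw [hqx]
      exact hx
    exact (congrArg PrimeSpectrum.asIdeal h).symm
  obtain ⟨ε, hε, hεq, hfin, huniq⟩ := Groth.Agent.Hensel.exists_idempotent_of_quasiFiniteAt (R := A) q.asIdeal
  have hε1 : ε = 1 := by
    rcases IsIdempotentElem.iff_eq_zero_or_one.mp hε with h | h
    · exact absurd (h ▸ zero_mem _) hεq
    · exact h
  subst hε1
  haveI : Module.Finite A L := by
    haveI := hfin
    have hbot : Ideal.span {(1 : L) - 1} = ⊥ := by rw [sub_self]; exact Ideal.span_singleton_eq_bot.mpr rfl
    exact Module.Finite.equiv ((Ideal.quotientEquivAlgOfEq A hbot).trans (AlgEquiv.quotientBot A L)).toLinearEquiv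
  have hloc : ∀ M : Ideal L, M.IsMaximal → M = q.asIdeal := fun M hM => by
    haveI : Algebra.IsIntegral A L := inferInstance
    refine huniq M hM.isPrime ⟨?_⟩ fun h => hM.ne_top ((Ideal.eq_top_iff_one M).mpr h)
    exact (IsLocalRing.eq_maximalIdeal (Ideal.isMaximal_comap_of_isIntegral_of_isMaximal M)).symm
  haveI : IsLocalRing L := IsLocalRing.of_unique_max_ideal ⟨q.asIdeal, by
    obtain ⟨M, hM⟩ := Ideal.exists_maximal L
    exact hloc M hM ▸ hM, hloc⟩
  refine ⟨L, inferInstance, inferInstance, inferInstance, inferInstance, inferInstance, ?_, j, hφ.symm, inferInstance,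
    ⟨q, hqx⟩⟩
  -- injectivity: the generic point maps to the generic point
  let g := hW.fromSpec ≫ i ≫ U.ι ≫ f
  haveI := h8
  let η : PrimeSpectrum L := ⟨⊥, Ideal.isPrime_bot⟩
  have hgen : hW.fromSpec η = genericPoint T := by
    have h11 := genericPoint_eq_of_isOpenImmersion hW.fromSpec
    rw [genericPoint_eq_bot_of_affine] at h11
    exact h11
  have hd : IsGenericPoint ((i ≫ U.ι ≫ f) (genericPoint T)) Set.univ := by
    have h9 := ((genericPoint_spec T).image (i ≫ U.ι ≫ f).continuous)
    rw [Set.image_univ, h8.1.closure_range] at h9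
    exact h9
  have hbot : (⊥ : Ideal L).comap φ.hom = ⊥ := by
    have h10 : Spec.map φ η = (⟨⊥, Ideal.isPrime_bot⟩ : PrimeSpectrum A) := by
      rw [hφ, hj]
      show (i ≫ U.ι ≫ f) (hW.fromSpec η) = _
      rw [hgen]
      exact (hd.eq (genericPoint_spec _)).trans (genericPoint_eq_bot_of_affine (CommRingCat.of A))
    exact congrArg PrimeSpectrum.asIdeal h10
  exact (RingHom.injective_iff_ker_eq_bot _).mpr ((RingHom.ker_eq_comap_bot _).trans hbot)

end Groth.Agent.S4974
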