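import Groth.Statements.S4975
import Groth.Agent.SecDim.Const
import Groth.Agent.SecComp.Nbhd
import Groth.Agent.S3458
-- import your own Groth.Agent.* helpers here

set_option autoImplicit false
open CategoryTheory AlgebraicGeometry
universe u v w
open EGA43

namespace Groth.Agent.S4975

/-- Let f : X ⟶ Y be a morphism locally of finite type with Y locally Noetherian, g : Y ⟶ X a section of
f, X_y^0 the connected component of f⁻¹(y) containing g y, and X^0 ⊆ X their union. Suppose every
X_y^0 is geometrically integral over κ(y) (its preimage in X_y ⊗ K is irreducible and has reduced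
local rings, for every field extension K of κ(y)). Then y ↦ dim X_y^0 is locally constant on Y if
and only if f is universally open at every point of X^0; and when this holds, X^0 is open in X. (The
published statement also lists, as a further equivalent condition, flatness of the base change of f
to the reduced closed subscheme Y_red at the points of X^0; that condition is not stated here.) -/
theorem result {X Y : Scheme.{u}}
    [IsLocallyNoetherian Y] (f : X ⟶ Y) [LocallyOfFiniteType f] (g : Y ⟶ X) (hg : g ≫ f = 𝟙 Y)
    (hint : ∀ y : Y, (∀ (K : Type u) [Field K] [Algebra (IsLocalRing.ResidueField (Y.presheaf.stalk y)) K],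
        IsIrreducible ((FBase.bcπ (f.fiberToSpecResidueField y) K ≫ f.fiberι y).base ⁻¹' connectedComponentIn (f.base ⁻¹' {y}) (g.base y)) ∧
        ∀ x' : ↥(FBase.bc (f.fiberToSpecResidueField y) K),
          (FBase.bcπ (f.fiberToSpecResidueField y) K ≫ f.fiberι y).base x' ∈ connectedComponentIn (f.base ⁻¹' {y}) (g.base y) →
          _root_.IsReduced ((FBase.bc (f.fiberToSpecResidueField y) K).presheaf.stalk x'))) :
    (IsLocallyConstant (fun y : Y => topologicalKrullDim ↥(connectedComponentIn (f.base ⁻¹' {y}) (g.base y))) ↔ ∀ x ∈ MoreMor.sectionComponents f g, EGA43.IsUnivOpenAt f x) ∧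
      (IsLocallyConstant (fun y : Y => topologicalKrullDim ↥(connectedComponentIn (f.base ⁻¹' {y}) (g.base y))) → IsOpen (MoreMor.sectionComponents f g)) := by
  have hgy : ∀ y, f (g y) = y := fun y => by rw [← Scheme.Hom.comp_apply, hg]; rfl
  have hgi : ∀ (y : Y) (K : Type u) [Field K] [Algebra (IsLocalRing.ResidueField (Y.presheaf.stalk y)) K],
      IsIrreducible ((FBase.bcπ (f.fiberToSpecResidueField y) K ≫ f.fiberι y).base ⁻¹'
        connectedComponentIn (f.base ⁻¹' {y}) (g.base y)) := fun y K _ _ => (hint y K).1
  have hirr := fun y => SecDim.isIrreducible_of_geometrically f g y (hgy y) (hgi y)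
  have hred : ∀ y, ∀ x ∈ connectedComponentIn (f.base ⁻¹' {y}) (g.base y),
      FBase.IsGeomReducedAt (f.fiberToSpecResidueField (f x)) (f.asFiber x) := by
    intro y x hx
    have hfx : f x = y := (connectedComponentIn_subset (f ⁻¹' {y}) _ hx :)
    subst hfx
    intro K _ _ x' hx'
    refine (hint _ K).2 x' ?_
    rw [Scheme.Hom.comp_apply, hx', Scheme.Hom.fiberι_asFiber]
    exact hx
  have hopen : IsLocallyConstant (fun y : Y => topologicalKrullDim ↥(connectedComponentIn (f.base ⁻¹' {y}) (g.base y))) →
      ∀ y, ∀ x ∈ connectedComponentIn (f.base ⁻¹' {y}) (g.base y), EGA43.IsUnivOpenAt f x := by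
    intro hlc y
    obtain ⟨V, hV, hyV, hVd⟩ := (IsLocallyConstant.iff_exists_open _).mp hlc y
    exact S3458.result f g hg hgi y ⟨V, hV.mem_nhds hyV, hVd⟩
  refine ⟨⟨fun hlc x hx => hopen hlc _ x hx, fun huo => ?_⟩, fun hlc => ?_⟩
  · refine (IsLocallyConstant.iff_eventually_eq _).mpr fun y => ?_
    have huo' : ∀ b, ∀ x ∈ connectedComponentIn (f.base ⁻¹' {b}) (g.base b), EGA43.IsUnivOpenAt f x := by
      intro b x hx
      refine huo x ?_
      have hfx : f x = b := (connectedComponentIn_subset (f ⁻¹' {b}) _ hx :)
      show x ∈ connectedComponentIn (f ⁻¹' {f x}) (g (f x))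
      rw [hfx]
      exact hx
    obtain ⟨V, hV, hVd⟩ := SecDim.eventually_eq_of_specializes
      (fun y : Y => topologicalKrullDim ↥(connectedComponentIn (f.base ⁻¹' {y}) (g.base y))) y
      fun a b hab => SecDim.topDim_eq_of_specializes f g hg hirr hab fun x hx => ⟨huo' b x hx, hred b x hx⟩
    exact Filter.mem_of_superset hV hVd
  · rw [isOpen_iff_mem_nhds]
    intro x hx
    exact mem_interior_iff_mem_nhds.mp (SecComp.component_subset_interior f g hg (f x)
      (fun z hz => ⟨hopen hlc _ z hz, hred _ z hz⟩) hx)

end Groth.Agent.S4975
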