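import Groth.Statements.S4977
import Groth.Agent.ProperFib.SetProper
import Groth.Agent.SecComp.Basic
import Groth.Agent.SchPoints.Basic
-- import your own Groth.Agent.* helpers here

set_option autoImplicit false
open CategoryTheory AlgebraicGeometry
universe u v w
open EGA43

namespace Groth.Agent.S4977

set_option backward.isDefEq.respectTransparency.types false

open CategoryTheory.Limits Groth.Agent.ProperFib

/-- Geometric preconnectedness of a fibre part gives preconnectedness after base change. -/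
theorem isPreconnected_baseChange {X Y T : Scheme.{u}} (f : X ⟶ Y) (Z : Set X) (h : T ⟶ Y) (a : T)
    (hgc : ∀ (K : Type u) [Field K] [Algebra (IsLocalRing.ResidueField (Y.presheaf.stalk (h a))) K],
        _root_.IsPreconnected ((FBase.bcπ (f.fiberToSpecResidueField (h a)) K ≫ f.fiberι (h a)).base ⁻¹' Z)) :
    _root_.IsPreconnected (pullback.snd f h ⁻¹' {a} ∩ pullback.fst f h ⁻¹' Z) := by
  let q := pullback.snd f h
  obtain ⟨φ, hφ, hφz⟩ := SetProper.exists_fibre_map (f := f) h a
  let : Algebra (IsLocalRing.ResidueField (Y.presheaf.stalk (h a))) (T.residueField a) :=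
    (h.residueFieldMap a).hom.toAlgebra
  have hK := hgc (T.residueField a)
  let e := hφ.isoPullback.inv
  have heq : q ⁻¹' {a} ∩ pullback.fst f h ⁻¹' Z = (e ≫ q.fiberι a) ''
      ((FBase.bcπ (f.fiberToSpecResidueField (h a)) (T.residueField a) ≫
        f.fiberι (h a)) ⁻¹' Z) := by
    have hrel : ∀ p, f.fiberι (h a) (φ (e p)) =
        (FBase.bcπ (f.fiberToSpecResidueField (h a)) (T.residueField a) ≫
          f.fiberι (h a)) p := fun p => by
      rw [Scheme.Hom.comp_apply]
      refine congrArg (f.fiberι (h a)) ?_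
      show φ (hφ.isoPullback.inv p) = _
      rw [← Scheme.Hom.comp_apply, hφ.isoPullback_inv_fst]
      rfl
    ext z
    constructor
    · rintro ⟨hz, hzZ⟩
      obtain ⟨w, rfl⟩ := (q.range_fiberι a).ge hz
      have : e (hφ.isoPullback.hom w) = w := by
        rw [← Scheme.Hom.comp_apply, Iso.hom_inv_id]
        rfl
      refine ⟨hφ.isoPullback.hom w, ?_, ?_⟩
      · show _ ∈ Z
        rw [← hrel, this, hφz]
        exact hzZ
      · exact (Scheme.Hom.comp_apply e (q.fiberι a) _).trans (congrArg _ this)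
    · rintro ⟨p, hp, rfl⟩
      refine ⟨(q.range_fiberι a).le ⟨e p, rfl⟩, ?_⟩
      show pullback.fst f h (q.fiberι a (e p)) ∈ Z
      rw [← hφz, hrel]
      exact hp
  rw [heq]
  exact hK.image _ (e ≫ q.fiberι a).continuous.continuousOn

open CategoryTheory.Limits in
/-- Let Y be a locally Noetherian scheme, y a point of Y, f : X ⟶ Y a separated morphism of finite type,
and Z a locally constructible subset of X such that: (i) for every generization y' of y, Z ∩ f⁻¹(y')
is a connected component of the fibre f⁻¹(y') and is geometrically connected over κ(y'); (ii) Z ∩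
f⁻¹(y), an open and closed subscheme of the fibre X_y, is proper over κ(y); (iii) Z is universally
submersive onto f(Z): for every morphism h : Y' ⟶ Y, writing p and f' for the two projections of X
×_Y Y', a subset E of h⁻¹(f(Z)) is open in h⁻¹(f(Z)) as soon as f'⁻¹(E) ∩ p⁻¹(Z) is open in p⁻¹(Z)
(induced topologies). Then Z is proper over Y at y: there is an open neighbourhood U of y such that
Z ∩ f⁻¹(U) is closed in f⁻¹(U) and, with its reduced subscheme structure, proper over U. -/
theorem result {X Y : Scheme.{u}} [IsLocallyNoetherian Y] (y : Y)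
    (f : X ⟶ Y) [IsSeparated f] [LocallyOfFiniteType f] [QuasiCompact f] (Z : Set X)
    (hZ : Topology.IsLocallyConstructible Z)
    (h1 : ∀ y' : Y, y' ⤳ y → (∃ x ∈ Z, f.base x = y' ∧ Z ∩ f.base ⁻¹' {y'} = connectedComponentIn (f.base ⁻¹' {y'}) x) ∧
      ∀ (K : Type u) [Field K] [Algebra (IsLocalRing.ResidueField (Y.presheaf.stalk y')) K],
        _root_.IsPreconnected ((FBase.bcπ (f.fiberToSpecResidueField y') K ≫ f.fiberι y').base ⁻¹' Z))
    (hop : IsOpen ((f.fiberι y).base ⁻¹' Z))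
    (h2 : IsProper (Scheme.Opens.ι (⟨(f.fiberι y).base ⁻¹' Z, hop⟩ : (f.fiber y).Opens) ≫ f.fiberToSpecResidueField y))
    (h3 : ∀ (Y' : Scheme.{u}) (h : Y' ⟶ Y) (E : Set Y'), E ⊆ h.base ⁻¹' (f.base '' Z) →
      (∃ W : Set ↥(pullback f h), IsOpen W ∧
        W ∩ (pullback.fst f h).base ⁻¹' Z = (pullback.snd f h).base ⁻¹' E ∩ (pullback.fst f h).base ⁻¹' Z) →
      ∃ V : Set Y', IsOpen V ∧ V ∩ h.base ⁻¹' (f.base '' Z) = E) :
    ∃ U : Y.Opens, y ∈ U ∧ ∃ hC : IsClosed ((f ⁻¹ᵁ U).ι.base ⁻¹' Z),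
      IsProper ((Scheme.IdealSheafData.vanishingIdeal
        (⟨(f ⁻¹ᵁ U).ι.base ⁻¹' Z, hC⟩ : TopologicalSpace.Closeds ↥(f ⁻¹ᵁ U))).subschemeι ≫ (f ∣_ U)) := by
  have : LocallyOfFinitePresentation f := LocallyOfFinitePresentation.iff_locallyOfFiniteType.2 inferInstance
  have hcomp : ∀ y', y' ⤳ y → ∃ w : f.fiber y', f.fiberι y' ⁻¹' Z = connectedComponent w := by
    intro y' hy'
    obtain ⟨x, -, hxy, hx⟩ := (h1 y' hy').1
    obtain ⟨w, rfl⟩ := (f.range_fiberι y').ge hxy
    refine ⟨w, ?_⟩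
    rw [Groth.Agent.SecComp.connectedComponentIn_fibre] at hx
    rw [← Set.preimage_image_eq (connectedComponent w) (f.fiberι y').isEmbedding.injective, ← hx]
    ext z
    exact ⟨fun hz => ⟨hz, (f.range_fiberι y').le ⟨z, rfl⟩⟩, fun hz => hz.1⟩
  have hopen : ∀ y' : Y, y' ⤳ y → IsOpen (f.fiberι y' ⁻¹' Z) := fun y' hy' => by
    obtain ⟨w, hw⟩ := hcomp y' hy'
    have : LocallyOfFiniteType (f.fiberToSpecResidueField y') :=
      MorphismProperty.pullback_snd (P := @LocallyOfFiniteType) _ _ inferInstance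
    have : IsLocallyNoetherian (f.fiber y') :=
      LocallyOfFiniteType.isLocallyNoetherian (f.fiberToSpecResidueField y')
    have : LocallyConnectedSpace ↥(f.fiber y') :=
      Groth.Agent.SchPoints.locallyConnectedSpace Groth.Agent.SchPoints.exists_noetherian_nhd
    exact hw ▸ isOpen_connectedComponent
  refine SetProper.exists_nhd f Z hZ y (SetProper.fibProper_of_isOpen f Z y hop h2)
    (fun y' hy' => (hcomp y' hy').elim fun w hw => hw ▸ isClosed_connectedComponent) hopen
    fun y' hy' P hPc hPs x hx => ?_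
  let h := Spread.henPoint y'
  let q := pullback.snd f h
  have hgen : ∀ a, h a ⤳ y := fun a => (SetProper.henPoint_specializes y' a).trans hy'
  have himg : h ⁻¹' (f '' Z) = Set.univ := Set.eq_univ_of_forall fun a => by
    obtain ⟨x₀, hx₀, hx₀a, -⟩ := (h1 _ (hgen a)).1
    exact ⟨x₀, hx₀, hx₀a⟩
  have hconn : ∀ a, _root_.IsPreconnected (q ⁻¹' {a} ∩ pullback.fst f h ⁻¹' Z) := fun a =>
    isPreconnected_baseChange f Z h a (h1 _ (hgen a)).2
  let E : Set ↥(Spec (CommRingCat.of (Groth.Agent.Hens.Henselization (Y.presheaf.stalk y')))) :=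
    {a | ∀ z, q z = a → pullback.fst f h z ∈ Z → z ∈ P}
  obtain ⟨V, hV, hVE⟩ := h3 _ h E (himg ▸ Set.subset_univ E) ⟨P, P.isOpen, by
    ext z
    refine ⟨fun ⟨hzP, hzZ⟩ => ⟨fun z' hz' hz'Z => ?_, hzZ⟩, fun ⟨hzE, hzZ⟩ => ⟨hzE z rfl hzZ, hzZ⟩⟩
    exact (hconn (q z)).subset_isClopen ⟨hPc, P.isOpen⟩ ⟨z, ⟨rfl, hzZ⟩, hzP⟩ ⟨hz', hz'Z⟩⟩
  have hEo : IsOpen E := by
    rw [himg, Set.inter_univ] at hVE
    exact hVE ▸ hV
  have hs : IsLocalRing.closedPoint _ ∈ E := fun z hz hzZ => (hPs z hz).2 hzZ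
  exact ((IsLocalRing.specializes_closedPoint (q x)).mem_open hEo hs) x rfl hx

end Groth.Agent.S4977
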