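import Groth.Statements.S9348
import Mathlib
-- import your own Groth.Agent.* helpers here

set_option autoImplicit false
universe u
open Dom

namespace Groth.Agent.S9348

open AlgebraicGeometry CategoryTheory in
/-- Let f : X → Y be a morphism and g : Y' → Y open and surjective. If the base change f' : X ×_Y Y' →
Y' of f is quasi-compact, then so is f. -/
theorem result {X Y X' Y' : Scheme.{u}} (f : X ⟶ Y) (g : Y' ⟶ Y) [Surjective g]
    (hg : IsOpenMap g.base) (g' : X' ⟶ X) (f' : X' ⟶ Y') (hsq : IsPullback g' f' f g) [QuasiCompact f'] :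
    QuasiCompact f := by
  refine ⟨fun V hVo hV => ?_⟩
  have hW : ∀ y ∈ V, ∃ W : Y'.Opens, IsCompact (W : Set Y') ∧ g '' (W : Set Y') ⊆ V ∧ y ∈ g '' (W : Set Y') := by
    intro y hy
    obtain ⟨y', rfl⟩ := g.surjective y
    obtain ⟨W, hW, hyW, hWV⟩ := exists_isAffineOpen_mem_and_subset
      (show y' ∈ (⟨g ⁻¹' V, hVo.preimage g.continuous⟩ : Y'.Opens) from hy)
    exact ⟨W, hW.isCompact, Set.image_subset_iff.2 hWV, y', hyW, rfl⟩
  choose W hWc hWV hyW using hW
  obtain ⟨t, ht⟩ := hV.elim_finite_subcover (fun y : V => g '' (W y.1 y.2 : Set Y'))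
    (fun y => hg _ (W y.1 y.2).2) (fun y hy => Set.mem_iUnion.2 ⟨⟨y, hy⟩, hyW y hy⟩)
  have heq : f ⁻¹' V = ⋃ y ∈ t, g' '' (f' ⁻¹' (W y.1 y.2 : Set Y')) := by
    ext x
    simp only [Set.mem_preimage, Set.mem_iUnion, Set.mem_image]
    constructor
    · intro hx
      obtain ⟨y, hy, y', hy', hgy⟩ := Set.mem_iUnion₂.1 (ht hx)
      obtain ⟨z, hz1, hz2⟩ := Scheme.Pullback.exists_preimage_pullback x y' hgy.symm
      refine ⟨y, hy, hsq.isoPullback.inv z, ?_, ?_⟩
      · rw [← Scheme.Hom.comp_apply, hsq.isoPullback_inv_snd, hz2]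
        exact hy'
      · rw [← Scheme.Hom.comp_apply, hsq.isoPullback_inv_fst, hz1]
    · rintro ⟨y, hy, z, hz, rfl⟩
      rw [← Scheme.Hom.comp_apply, hsq.w, Scheme.Hom.comp_apply]
      exact hWV y.1 y.2 ⟨_, hz, rfl⟩
  rw [heq]
  exact t.finite_toSet.isCompact_biUnion fun y _ =>
    (f'.isCompact_preimage (hWc y.1 y.2)).image g'.continuous

end Groth.Agent.S9348
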