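import Groth.Statements.S4979
import Groth.Agent.Fibres16.NormAmp.Apply
import Groth.Agent.Fibres16.UOSect.Descent
import Groth.Agent.S2332
import Groth.Agent.S9348
import Groth.Agent.Props.AmpleRel
import Groth.Agent.Desc44.ProjBundle.Chart

set_option autoImplicit false
open CategoryTheory AlgebraicGeometry
universe u v w
open EGA43

namespace Groth.Agent.S4979

open CategoryTheory.Limits in
/-- Let Y be a locally Noetherian scheme, f : X ⟶ Y a morphism locally of finite type, g : Y' ⟶ Y a
morphism locally of finite type which is universally open and surjective, f' : X ×_Y Y' ⟶ Y' the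
base change of f, L an invertible O_X-module and L' its pullback to X ×_Y Y'. Suppose there is a
closed subset Z of X which, with its reduced subscheme structure, is proper over Y, and such that
the local rings of X at the points outside Z are integrally closed domains. Then L is ample relative
to f if and only if L' is ample relative to f'. -/
theorem result {X Y Y' : Scheme.{u}}
    [IsLocallyNoetherian Y] (f : X ⟶ Y) [LocallyOfFiniteType f] (g : Y' ⟶ Y) [LocallyOfFiniteType g]
    [UniversallyOpen g] [Surjective g] (L : X.Modules) (hL : FlatMod.IsFinLocFreeOfRank 1 L)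
    (Z : TopologicalSpace.Closeds X) (hZ : IsProper ((Scheme.IdealSheafData.vanishingIdeal Z).subschemeι ≫ f))
    (hnor : ∀ x : X, x ∉ (Z : Set X) → IsDomain (X.presheaf.stalk x) ∧ IsIntegrallyClosed (X.presheaf.stalk x)) :
    RelAmple.IsRelAmple f L ↔
      RelAmple.IsRelAmple (pullback.snd f g) ((Scheme.Modules.pullback (pullback.fst f g)).obj L) := by
  have hL' := Desc44.ProjBundle.isInvertible_of_rank_one hL
  refine ⟨fun h => by haveI := h.1; exact S2332.result f g L h, fun hA => ?_⟩
  haveI := hA.1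
  haveI : QuasiCompact f :=
    S9348.result f g g.isOpenMap (pullback.fst f g) (pullback.snd f g) (IsPullback.of_hasPullback f g)
  refine AmpleLib.isRelAmple_of_cover f (fun U : Y.affineOpens => U.1) (by rw [iSup_affineOpens_eq_top]) hL' ?_
  rintro ⟨U, hU⟩
  haveI : IsAffine U.toScheme := hU
  let fU := f ∣_ U
  haveI : LocallyOfFiniteType fU := IsZariskiLocalAtTarget.restrict ‹_› U
  haveI : QuasiCompact fU := IsZariskiLocalAtTarget.restrict ‹_› U
  obtain ⟨Y₁, h, _, _, _, hlift⟩ := Fibres16.UOSect.exists_cover' g U.ι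
  let q := pullback.fst fU h
  let r := pullback.snd fU h
  haveI : IsFinite q := MorphismProperty.pullback_fst fU h inferInstance
  haveI : Surjective q := MorphismProperty.pullback_fst fU h inferInstance
  haveI : QuasiCompact r := MorphismProperty.pullback_snd fU h inferInstance
  let L₁ := (Scheme.Modules.pullback (f ⁻¹ᵁ U).ι).obj L
  have hL₁ : PicF.IsInvertible L₁ := PicCl.isInvertible_pullback _ hL'
  have hr : RelAmple.IsRelAmple r ((Scheme.Modules.pullback q).obj L₁) := by
    refine Props.AmpleRel.isRelAmple_of_cover r fun y => ?_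
    obtain ⟨O, t, hyO, ht⟩ := hlift y
    obtain ⟨W, hW, hyW, hWO⟩ := exists_isAffineOpen_mem_and_subset (X := Y₁) (x := y) (U := O) hyO
    refine ⟨W, hW, hyW, ?_⟩
    haveI : IsAffine W.toScheme := hW
    let w : W.toScheme ⟶ Y' := Y₁.homOfLE hWO ≫ t
    have hw : w ≫ g = (W.ι ≫ h) ≫ U.ι := by
      simp only [w, Category.assoc, ht, Scheme.homOfLE_ι_assoc]
    have h2 := (AmpleLib.isRelAmple_iff_isAmple _).mp (S2332.result (pullback.snd f g) w _ hA)
    let P := pullback (pullback.snd f g) w
    have hP : IsPullback (pullback.fst (pullback.snd f g) w ≫ pullback.fst f g)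
        (pullback.snd (pullback.snd f g) w) f (w ≫ g) :=
      (IsPullback.of_hasPullback (pullback.snd f g) w).paste_horiz (IsPullback.of_hasPullback f g)
    have hP' : IsPullback ((r ⁻¹ᵁ W).ι ≫ q ≫ (f ⁻¹ᵁ U).ι) (r ∣_ W) f (w ≫ g) := by
      rw [hw, Category.assoc]
      exact (isPullback_morphismRestrict r W).flip.paste_horiz
        ((IsPullback.of_hasPullback fU h).paste_horiz (isPullback_morphismRestrict f U).flip)
    let φ : (r ⁻¹ᵁ W).toScheme ⟶ P := (hP'.isoIsPullback _ _ hP).hom
    have hφ : φ ≫ pullback.fst (pullback.snd f g) w ≫ pullback.fst f g = (r ⁻¹ᵁ W).ι ≫ q ≫ (f ⁻¹ᵁ U).ι :=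
      hP'.isoIsPullback_hom_fst _ _ hP
    haveI : CompactSpace (r ⁻¹ᵁ W).toScheme :=
      isCompact_iff_compactSpace.mp (r.isCompact_preimage hW.isCompact)
    have h3 : CohB1.IsAmple ((Scheme.Modules.pullback φ).obj ((Scheme.Modules.pullback
        (pullback.fst (pullback.snd f g) w)).obj ((Scheme.Modules.pullback (pullback.fst f g)).obj L))) :=
      S9815.result φ φ.isEmbedding _ h2
    refine AmpleLib.isAmple_of_iso ?_ h3
    exact (Scheme.Modules.pullback φ).mapIso ((Scheme.Modules.pullbackComp _ _).app L) ≪≫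
      (Scheme.Modules.pullbackComp _ _).app L ≪≫ (Scheme.Modules.pullbackCongr hφ).app L ≪≫
      ((Scheme.Modules.pullbackComp _ _).app L).symm ≪≫
      (Scheme.Modules.pullback (r ⁻¹ᵁ W).ι).mapIso ((Scheme.Modules.pullbackComp q (f ⁻¹ᵁ U).ι).app L).symm
  haveI : QuasiCompact (q ≫ fU) := inferInstance
  have hamp := (AmpleLib.isRelAmple_iff_isAmple r).mp hr
  haveI : IsLocallyNoetherian U.toScheme := isLocallyNoetherian_of_isOpenImmersion U.ι
  have h1 := Fibres16.NormAmp.isRelAmple_of_pullback fU q hL₁ _ (Fibres16.NormAmp.isProper_restrict f Z hZ U)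
    (fun x hx => Or.inl (by
      obtain ⟨h1, h2⟩ := hnor ((f ⁻¹ᵁ U).ι x) hx
      let e := (asIso ((f ⁻¹ᵁ U).ι.stalkMap x)).commRingCatIsoToRingEquiv
      exact ⟨e.toMulEquiv.isDomain_iff.mp h1, IsIntegrallyClosed.of_equiv e⟩))
    (AmpleLib.isRelAmple_of_isAmple (q ≫ fU) hamp)
  have h2 := (AmpleLib.isRelAmple_iff_isAmple fU).mp h1
  have h3 := (AmpleLib.isAmple_pullback_openImmersion_iff hL' (f ⁻¹ᵁ U).ι).mp h2
  rwa [Scheme.Opens.opensRange_ι] at h3

end Groth.Agent.S4979
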