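import Groth.Statements.S4980
import Groth.Agent.Fibres16.FibreLength
import Groth.Agent.Fibres16.MaxPtsFin
import Groth.Agent.Fibres16.EquidimStalk
import Groth.Agent.HomShQC.Basic

set_option autoImplicit false
open CategoryTheory AlgebraicGeometry
universe u v w
open EGA43
open TopologicalSpace Groth.Agent

namespace Groth.Agent.S4980

/-- Let A be a discrete valuation ring, Y = Spec A with closed point y and generic point y', f : X ⟶ Y a
proper morphism and F a coherent O_X-module which is f-flat; write F_y, F_{y'} for the restrictions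
of F to the two fibres and suppose F_y has no embedded associated point. Then the sum, over the
maximal points z' of Supp(F_{y'}), of the lengths of the stalks (F_{y'})_{z'} is at most the sum,
over the maximal points z of Supp(F_y), of the lengths of the stalks (F_y)_z (lengths over the local
rings of the fibres). -/
theorem result {A : Type u} [CommRing A] [IsDomain A]
    [IsDiscreteValuationRing A] {X : Scheme.{u}} (f : X ⟶ Spec (CommRingCat.of A)) [IsProper f] (F : X.Modules)
    (hF : Coh.IsCoh F) (hflat : FlatMod.IsFlatOver f F)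
    (hemb : AssSch.NoEmbedded ((Scheme.Modules.pullback (f.fiberι (IsLocalRing.closedPoint A))).obj F)) :
    letI y : ↥(Spec (CommRingCat.of A)) := IsLocalRing.closedPoint A
    letI y' : ↥(Spec (CommRingCat.of A)) := genericPoint (Spec (CommRingCat.of A))
    ∑ᶠ z' : {v : ↥(f.fiber y') // Nontrivial (((Scheme.Modules.pullback (f.fiberι y')).obj F).presheaf.stalk v) ∧
        ∀ w : ↥(f.fiber y'), Nontrivial (((Scheme.Modules.pullback (f.fiberι y')).obj F).presheaf.stalk w) → v ∈ closure {w} → w = v},
        Module.length ((f.fiber y').presheaf.stalk z'.1) (((Scheme.Modules.pullback (f.fiberι y')).obj F).presheaf.stalk z'.1) ≤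
      ∑ᶠ z : {v : ↥(f.fiber y) // Nontrivial (((Scheme.Modules.pullback (f.fiberι y)).obj F).presheaf.stalk v) ∧
        ∀ w : ↥(f.fiber y), Nontrivial (((Scheme.Modules.pullback (f.fiberι y)).obj F).presheaf.stalk w) → v ∈ closure {w} → w = v},
        Module.length ((f.fiber y).presheaf.stalk z.1) (((Scheme.Modules.pullback (f.fiberι y)).obj F).presheaf.stalk z.1) := by
  classical
  haveI : IsLocallyNoetherian X := LocallyOfFiniteType.isLocallyNoetherian f
  haveI : LocallyOfFinitePresentation f := inferInstance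
  haveI : F.IsQuasicoherent := hF.1
  have hFP : CohB1.IsFP F := Groth.Agent.HomShQC.isFP_of_isCoh F hF
  let y : ↥(Spec (CommRingCat.of A)) := IsLocalRing.closedPoint A
  let y' : ↥(Spec (CommRingCat.of A)) := genericPoint (Spec (CommRingCat.of A))
  have hnoe : ∀ s, NoetherianSpace (f.fiber s) := fun s => by
    haveI := Fibres16.SuppDims.isLocallyNoetherian_fiber f s
    haveI : CompactSpace (f.fiber s) :=
      QuasiCompact.compactSpace_of_compactSpace (f.fiberToSpecResidueField s)
    haveI : IsNoetherian (f.fiber s) := {}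
    infer_instance
  have hmem : ∀ (s : Spec (CommRingCat.of A)) (v : f.fiber s),
      (Nontrivial (((Scheme.Modules.pullback (f.fiberι s)).obj F).presheaf.stalk v) ∧
        ∀ w : f.fiber s, Nontrivial (((Scheme.Modules.pullback (f.fiberι s)).obj F).presheaf.stalk w) →
          v ∈ closure {w} → w = v) ↔
      v ∈ Fibres16.SuppDims.maxPts (Fibres16.SuppDims.suppFib f F s) := fun s v =>
    and_congr Iff.rfl (forall_congr' fun w => imp_congr_right fun _ => imp_congr_left specializes_iff_mem_closure.symm)
  have hfin : ∀ s : Spec (CommRingCat.of A), Finite {v : f.fiber s //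
      Nontrivial (((Scheme.Modules.pullback (f.fiberι s)).obj F).presheaf.stalk v) ∧
        ∀ w : f.fiber s, Nontrivial (((Scheme.Modules.pullback (f.fiberι s)).obj F).presheaf.stalk w) →
          v ∈ closure {w} → w = v} := fun s => by
    haveI := hnoe s
    exact ((Fibres16.SuppDims.finite_maxPts (Fibres16.SuppDims.isClosed_suppFib f hFP s)).subset
      fun v hv => (hmem s v).1 hv).to_subtype
  haveI := hfin y
  haveI := hfin y'
  letI := Fintype.ofFinite {v : f.fiber y //
      Nontrivial (((Scheme.Modules.pullback (f.fiberι y)).obj F).presheaf.stalk v) ∧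
        ∀ w : f.fiber y, Nontrivial (((Scheme.Modules.pullback (f.fiberι y)).obj F).presheaf.stalk w) →
          v ∈ closure {w} → w = v}
  letI := Fintype.ofFinite {v : f.fiber y' //
      Nontrivial (((Scheme.Modules.pullback (f.fiberι y')).obj F).presheaf.stalk v) ∧
        ∀ w : f.fiber y', Nontrivial (((Scheme.Modules.pullback (f.fiberι y')).obj F).presheaf.stalk w) →
          v ∈ closure {w} → w = v}
  obtain ⟨ϖ, hϖ⟩ := IsDiscreteValuationRing.exists_irreducible A
  have hy : (y : PrimeSpectrum A).asIdeal = Ideal.span {ϖ} := hϖ.maximalIdeal_eq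
  have hy' : (y' : PrimeSpectrum A).asIdeal = ⊥ := by
    have : y' = (⟨⊥, Ideal.isPrime_bot⟩ : PrimeSpectrum A) :=
      (genericPoint_eq_bot_of_affine (CommRingCat.of A)).trans rfl
    rw [this]
  have hfib : ∀ (s : Spec (CommRingCat.of A)) (z : f.fiber s), f (f.fiberι s z) = s :=
    fun s z => FibCodepth.fiber_fiberι f s z
  have hsupp : ∀ (s : Spec (CommRingCat.of A)) (z : f.fiber s), z ∈ Fibres16.SuppDims.suppFib f F s ↔
      Nontrivial (F.presheaf.stalk (f.fiberι s z)) := fun s z => by
    rw [Fibres16.SuppDims.suppFib_eq f hFP s]; rfl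
  let τ : ∀ x : X, X.presheaf.stalk x := fun x =>
    (f.stalkMap x).hom ((StructureSheaf.toStalk A (f x)).hom ϖ)
  have hτreg : ∀ x : X, Function.Injective fun m : F.presheaf.stalk x => τ x • m := fun x => by
    letI := FlatMod.moduleStalkOver f F x
    haveI : Module.Flat ((Spec (CommRingCat.of A)).presheaf.stalk (f x)) (F.presheaf.stalk x) := hflat x
    exact Fibres16.FibreLength.isSMulRegular_toStalk (f x) hϖ.ne_zero (F.presheaf.stalk x)
  have hK : ∀ z : f.fiber y, (IsLocalRing.maximalIdeal ((Spec (CommRingCat.of A)).presheaf.stalk (f (f.fiberι y z)))).map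
      (f.stalkMap (f.fiberι y z)).hom = Ideal.span {τ (f.fiberι y z)} := fun z => by
    have h : (f (f.fiberι y z) : PrimeSpectrum A).asIdeal = Ideal.span {ϖ} := by rw [hfib y z]; exact hy
    exact Fibres16.FibreLength.map_maximalIdeal_stalk_singleton f _ h
  have hK' : ∀ z : f.fiber y', (IsLocalRing.maximalIdeal ((Spec (CommRingCat.of A)).presheaf.stalk (f (f.fiberι y' z)))).map
      (f.stalkMap (f.fiberι y' z)).hom = ⊥ := fun z => by
    have h : (f (f.fiberι y' z) : PrimeSpectrum A).asIdeal = ⊥ := by rw [hfib y' z]; exact hy'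
    exact Fibres16.FibreLength.map_maximalIdeal_stalk_bot f _ h
  -- points whose image prime contains `ϖ`
  have hτmem : ∀ (x : X) (Q : PrimeSpectrum (X.presheaf.stalk x)),
      τ x ∈ Q.asIdeal ↔ f (X.fromSpecStalk x Q) = y := by
    intro x Q
    have h1 : f (X.fromSpecStalk x Q) = (Spec (CommRingCat.of A)).fromSpecStalk (f x)
        (Spec.map (f.stalkMap x) Q) := (congr($(Scheme.SpecMap_stalkMap_fromSpecStalk f (x := x)) Q)).symm
    rw [h1, Scheme.Spec_fromSpecStalk']
    refine ⟨fun h => PrimeSpectrum.ext (le_antisymm (IsLocalRing.le_maximalIdeal (Ideal.IsPrime.ne_top inferInstance)) ?_), fun h => ?_⟩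
    · show (y : PrimeSpectrum A).asIdeal ≤ _
      rw [hy, Ideal.span_singleton_le_iff_mem]
      exact h
    · have h2 := congrArg PrimeSpectrum.asIdeal h
      have h3 : ϖ ∈ (y : PrimeSpectrum A).asIdeal := hy ▸ Ideal.mem_span_singleton_self ϖ
      rw [← h2] at h3
      exact h3
  -- a point of the closed fibre for each point of the generic fibre
  have hchoose : ∀ z' : {v : f.fiber y' //
      Nontrivial (((Scheme.Modules.pullback (f.fiberι y')).obj F).presheaf.stalk v) ∧
        ∀ w : f.fiber y', Nontrivial (((Scheme.Modules.pullback (f.fiberι y')).obj F).presheaf.stalk w) →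
          v ∈ closure {w} → w = v},
      ∃ z : {v : f.fiber y //
      Nontrivial (((Scheme.Modules.pullback (f.fiberι y)).obj F).presheaf.stalk v) ∧
        ∀ w : f.fiber y, Nontrivial (((Scheme.Modules.pullback (f.fiberι y)).obj F).presheaf.stalk w) →
          v ∈ closure {w} → w = v}, f.fiberι y' z'.1 ⤳ f.fiberι y z.1 := by
    intro z'
    let η := f.fiberι y' z'.1
    have hηS : Nontrivial (F.presheaf.stalk η) := (hsupp y' z'.1).1 z'.2.1
    obtain ⟨w0, hw0, hw0y⟩ : y ∈ f '' closure {η} := by
      refine Specializes.mem_closed ?_ (f.isClosedMap _ isClosed_closure) ⟨η, subset_closure rfl, hfib y' z'.1⟩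
      exact genericPoint_specializes y
    obtain ⟨v0, rfl⟩ : w0 ∈ Set.range (f.fiberι y) := by rw [f.range_fiberι]; exact hw0y
    obtain ⟨c, hc, hcv⟩ := Fibres16.SuppDims.exists_maxPt
      (T := f.fiber y) (S := (f.fiberι y).base ⁻¹' closure {η}) (isClosed_closure.preimage (f.fiberι y).continuous) hw0
    let x := f.fiberι y c
    have hηx : η ⤳ x := specializes_iff_mem_closure.2 hc.1
    obtain ⟨Q, hQ⟩ := Fibres16.EquidimStalk.exists_eq_fromSpecStalk hηx
    haveI : F.IsFiniteType := hF.2
    haveI : Module.Finite (X.presheaf.stalk x) (F.presheaf.stalk x) := FDesc.QuasiFlat.finite_stalk_of_isCoh F hF x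
    have hass : IsAssociatedPrime Q.asIdeal (F.presheaf.stalk x) := by
      refine Module.associatedPrimes.minimalPrimes_annihilator_subset_associatedPrimes (X.presheaf.stalk x) _ ?_
      refine ⟨⟨Q.2, (Fibres16.EquidimStalk.annihilator_le_iff F x Q).2 (hQ ▸ hηS)⟩, fun p hp hpQ => ?_⟩
      have hp' := (Fibres16.EquidimStalk.annihilator_le_iff F x ⟨p, hp.1⟩).1 hp.2
      have hsp : X.fromSpecStalk x ⟨p, hp.1⟩ ⤳ η := hQ ▸ ((PrimeSpectrum.le_iff_specializes ⟨p, hp.1⟩ Q).1 hpQ).map (X.fromSpecStalk x).continuous
      have hgen : f (X.fromSpecStalk x ⟨p, hp.1⟩) = y' := by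
        have := hsp.map f.continuous
        rw [hfib y' z'.1] at this
        exact (this.antisymm (genericPoint_specializes _)).eq
      obtain ⟨v, hv⟩ : X.fromSpecStalk x ⟨p, hp.1⟩ ∈ Set.range (f.fiberι y') := by
        rw [f.range_fiberι]; exact hgen
      have hvz : v = z'.1 := z'.2.2 v ((hsupp y' v).2 (hv ▸ hp'))
        ((f.fiberι y').isEmbedding.specializes_iff.1 (hv ▸ hsp)).mem_closure
      subst hvz
      exact (congrArg PrimeSpectrum.asIdeal ((X.fromSpecStalk x).isEmbedding.injective (hQ.trans hv))).le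
    have hcass : c ∈ AssSch.Ass ((Scheme.Modules.pullback (f.fiberι y)).obj F) := by
      refine Fibres16.FibreLength.mem_ass_fibre f F y c ?_
      rw [hK c, Fibres16.FibreLength.smul_span_singleton_top]
      refine Fibres16.LengthReg.maximalIdeal_mem_ass_quotient _ ((hτmem x (IsLocalRing.closedPoint _)).2
        (by rw [Scheme.fromSpecStalk_closedPoint]; exact hfib y c)) (hτreg x) hass fun q hq hQq hτq => ?_
      have h1 := (hτmem x ⟨q, hq⟩).1 hτq
      obtain ⟨v, hv⟩ : X.fromSpecStalk x ⟨q, hq⟩ ∈ Set.range (f.fiberι y) := by rw [f.range_fiberι]; exact h1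
      have hvc : X.fromSpecStalk x ⟨q, hq⟩ ⤳ x := by
        have : X.fromSpecStalk x ⟨q, hq⟩ ∈ Set.range (X.fromSpecStalk x) := ⟨_, rfl⟩
        rwa [Scheme.range_fromSpecStalk] at this
      have hηv : η ⤳ X.fromSpecStalk x ⟨q, hq⟩ :=
        hQ ▸ ((PrimeSpectrum.le_iff_specializes Q ⟨q, hq⟩).1 hQq).map (X.fromSpecStalk x).continuous
      have hvc' : v = c := hc.2 v (hv ▸ hηv).mem_closure ((f.fiberι y).isEmbedding.specializes_iff.1 (hv ▸ hvc))
      subst hvc'
      exact congrArg PrimeSpectrum.asIdeal ((X.fromSpecStalk x).isEmbedding.injective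
        (hv.symm.trans Scheme.fromSpecStalk_closedPoint.symm))
    refine ⟨⟨c, (hmem y c).2 ?_⟩, hηx⟩
    rw [← Fibres16.SuppDims.ass_eq_maxPts f hFP y hemb]
    exact hcass
  choose g hg using hchoose
  rw [finsum_eq_sum_of_fintype, finsum_eq_sum_of_fintype, ← Finset.sum_fiberwise Finset.univ g]
  refine Finset.sum_le_sum fun z _ => ?_
  let x := f.fiberι y z.1
  haveI : F.IsFiniteType := hF.2
  haveI : Module.Finite (X.presheaf.stalk x) (F.presheaf.stalk x) := FDesc.QuasiFlat.finite_stalk_of_isCoh F hF x
  choose Q hQ using fun z' : {z' // g z' = z} => Fibres16.EquidimStalk.exists_eq_fromSpecStalk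
    (show f.fiberι y' z'.1.1 ⤳ x from by have := hg z'.1; rwa [z'.2] at this)
  have hQinj : Function.Injective Q := fun a b hab => Subtype.ext (Subtype.ext ((f.fiberι y').isEmbedding.injective
    (((hQ a).symm.trans (congrArg _ hab)).trans (hQ b))))
  have hlen : ∀ z' : {z' // g z' = z},
      Module.length ((f.fiber y').presheaf.stalk z'.1.1) (((Scheme.Modules.pullback (f.fiberι y')).obj F).presheaf.stalk z'.1.1) =
        Module.length (Localization.AtPrime (Q z').asIdeal) (LocalizedModule (Q z').asIdeal.primeCompl (F.presheaf.stalk x)) := by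
    intro z'
    rw [Fibres16.FibreLength.length_fibre_stalk, hK', Fibres16.FibreLength.length_localizedModule_eq,
      (Submodule.quotEquivOfEqBot _ (Submodule.bot_smul _)).length_eq]
    exact (congrArg (fun v => Module.length (X.presheaf.stalk v) (F.presheaf.stalk v)) (hQ z')).symm
  calc _ = ∑ z' : {z' // g z' = z}, Module.length ((f.fiber y').presheaf.stalk z'.1.1)
          (((Scheme.Modules.pullback (f.fiberι y')).obj F).presheaf.stalk z'.1.1) := by
        refine Finset.sum_subtype _ (fun z' => ?_) _
        simp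
    _ = ∑ p ∈ Finset.univ.image Q, Module.length (Localization.AtPrime p.asIdeal)
          (LocalizedModule p.asIdeal.primeCompl (F.presheaf.stalk x)) := by
        rw [Finset.sum_image fun a _ b _ h => hQinj h]
        exact Finset.sum_congr rfl fun z' _ => hlen z'
    _ ≤ _ := by
        rw [Fibres16.FibreLength.length_fibre_stalk, hK z.1, Fibres16.FibreLength.smul_span_singleton_top]
        refine Fibres16.LengthReg.sum_length_localized_le _ ((hτmem x (IsLocalRing.closedPoint _)).2
          (by rw [Scheme.fromSpecStalk_closedPoint]; exact hfib y z.1)) (hτreg x) _ (fun q hq hann hτq => ?_) (fun p hp => ?_)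
        · have h1 := (hτmem x ⟨q, hq⟩).1 hτq
          obtain ⟨v, hv⟩ : X.fromSpecStalk x ⟨q, hq⟩ ∈ Set.range (f.fiberι y) := by rw [f.range_fiberι]; exact h1
          have hnt := (Fibres16.EquidimStalk.annihilator_le_iff F x ⟨q, hq⟩).1 hann
          have hvc : X.fromSpecStalk x ⟨q, hq⟩ ⤳ x := by
            have : X.fromSpecStalk x ⟨q, hq⟩ ∈ Set.range (X.fromSpecStalk x) := ⟨_, rfl⟩
            rwa [Scheme.range_fromSpecStalk] at this
          have hvz : v = z.1 := z.2.2 v ((hsupp y v).2 (hv ▸ hnt))
            ((f.fiberι y).isEmbedding.specializes_iff.1 (hv ▸ hvc)).mem_closure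
          subst hvz
          exact congrArg PrimeSpectrum.asIdeal ((X.fromSpecStalk x).isEmbedding.injective
            (hv.symm.trans Scheme.fromSpecStalk_closedPoint.symm))
        · obtain ⟨z', -, rfl⟩ := Finset.mem_image.1 hp
          refine ⟨(Fibres16.EquidimStalk.mem_maxPts_iff F x (Q z')).1 ?_, fun hτQ => ?_⟩
          · rw [hQ z']
            refine ⟨(hsupp y' z'.1.1).1 z'.1.2.1, fun w hw hwη => ?_⟩
            have hgen : f w = y' := by
              have := hwη.map f.continuous
              rw [hfib y' z'.1.1] at this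
              exact (this.antisymm (genericPoint_specializes _)).eq
            obtain ⟨v, rfl⟩ : w ∈ Set.range (f.fiberι y') := by rw [f.range_fiberι]; exact hgen
            exact congrArg _ (z'.1.2.2 v ((hsupp y' v).2 hw)
              ((f.fiberι y').isEmbedding.specializes_iff.1 hwη).mem_closure)
          · have h1 := (hτmem x (Q z')).1 hτQ
            rw [hQ z', hfib y' z'.1.1] at h1
            exact hϖ.ne_zero (Ideal.mem_bot.1 (hy'.le (h1 ▸ hy.ge (Ideal.mem_span_singleton_self ϖ))))

end Groth.Agent.S4980
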