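import Groth.Statements.S4981
import Groth.Agent.Fibres16.DVRQuasiSection
import Groth.Agent.UnivOpenDVR.Basic
import Groth.Agent.GUOpen.Main

set_option autoImplicit false
open CategoryTheory AlgebraicGeometry
universe u v w
open EGA43

namespace Groth.Agent.S4981

/-- Let Y be a locally Noetherian scheme, f : X ⟶ Y a morphism locally of finite type, y a point of Y
and x a point of the fibre X_y. Then f is universally open at x if and only if the following holds:
for every complete discrete valuation ring A with algebraically closed residue field k, every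
morphism g : Spec A ⟶ Y sending the closed point to y, and every Y-morphism u₀ : Spec k ⟶ X with
image x, there exist a discrete valuation ring B which is a finite A-algebra through a local
homomorphism φ : A → B, and a Y-morphism u : Spec B ⟶ X, such that the restriction of u to the
closed point Spec κ(B) equals u₀ composed with the morphism Spec κ(B) ⟶ Spec k. -/
theorem result {X Y : Scheme.{u}} [IsLocallyNoetherian Y]
    (f : X ⟶ Y) [LocallyOfFiniteType f] (x : X) :
    EGA43.IsUnivOpenAt f x ↔
      ∀ (A : Type u) [CommRing A] [IsDomain A] [IsDiscreteValuationRing A]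
        [IsAdicComplete (IsLocalRing.maximalIdeal A) A] [IsAlgClosed (IsLocalRing.ResidueField A)]
        (g : Spec (CommRingCat.of A) ⟶ Y), g.base (IsLocalRing.closedPoint A) = f.base x →
        ∀ u₀ : Spec (CommRingCat.of (IsLocalRing.ResidueField A)) ⟶ X,
          u₀ ≫ f = Spec.map (CommRingCat.ofHom (IsLocalRing.residue A)) ≫ g → x ∈ Set.range u₀.base →
          ∃ (B : CommRingCat.{u}) (_ : IsDomain B) (_ : IsDiscreteValuationRing B) (φ : A →+* B)
            (_ : IsLocalHom φ) (v : Spec B ⟶ X),
            φ.Finite ∧ v ≫ f = Spec.map (CommRingCat.ofHom φ) ≫ g ∧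
            Spec.map (CommRingCat.ofHom (IsLocalRing.ResidueField.map φ)) ≫ u₀ =
              Spec.map (CommRingCat.ofHom (IsLocalRing.residue B)) ≫ v := by
  classical
  rw [Groth.Agent.UnivOpenDVR.isUnivOpenAt_iff_dvr f x]
  constructor
  · intro h A _ _ _ _ _ g hg u₀ hu₀ hx
    let res := IsLocalRing.residue A
    let k := IsLocalRing.ResidueField A
    let p₀ : Spec (CommRingCat.of k) ⟶ Limits.pullback f g :=
      Limits.pullback.lift u₀ (Spec.map (CommRingCat.ofHom res)) hu₀
    let pk : Spec (CommRingCat.of k) := IsLocalRing.closedPoint k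
    have hfst : (Limits.pullback.fst f g).base (p₀ pk) = x := by
      show (p₀ ≫ Limits.pullback.fst f g) pk = x
      rw [Limits.pullback.lift_fst]
      obtain ⟨p, hp⟩ := hx
      rw [← hp, show pk = p from Subsingleton.elim (α := PrimeSpectrum k) _ _]
    have hsnd : (Limits.pullback.snd f g).base (p₀ pk) = IsLocalRing.closedPoint A := by
      show (p₀ ≫ Limits.pullback.snd f g) pk = _
      rw [Limits.pullback.lift_snd]
      exact IsLocalRing.comap_closedPoint res
    obtain ⟨z', hz', hzne⟩ := h A g hg (p₀ pk) hfst hsnd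
    obtain ⟨W, hW, hxW, -⟩ := exists_isAffineOpen_mem_and_subset (x := p₀ pk) (U := (⊤ : (Limits.pullback f g).Opens)) trivial
    let e : CommRingCat.of A ⟶ Γ(Limits.pullback f g, W) :=
      (Scheme.ΓSpecIso (CommRingCat.of A)).inv ≫ (Limits.pullback.snd f g).appLE ⊤ W le_top
    letI : Algebra A Γ(Limits.pullback f g, W) := e.hom.toAlgebra
    have he : Spec.map e = hW.fromSpec ≫ Limits.pullback.snd f g := by
      rw [Spec.map_comp, ← IsAffineOpen.SpecMap_appLE_fromSpec (Limits.pullback.snd f g) (isAffineOpen_top _) hW le_top,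
        IsAffineOpen.fromSpec_top, ← Scheme.isoSpec_Spec_inv]
    haveI : Algebra.FiniteType A Γ(Limits.pullback f g, W) := by
      have h1 := LocallyOfFiniteType.finiteType_appLE (Limits.pullback.snd f g) (isAffineOpen_top _) hW (le_top (a := W))
      exact h1.comp (RingHom.FiniteType.of_surjective _
        (ConcreteCategory.bijective_of_isIso (Scheme.ΓSpecIso (CommRingCat.of A)).inv).2)
    obtain ⟨χ, hχ⟩ := Groth.Agent.GUOpen.exists_appFactor hW p₀ fun s => by
      rw [show s = pk from Subsingleton.elim (α := PrimeSpectrum k) _ _]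
      exact hxW
    have hχA : χ.comp (algebraMap A Γ(Limits.pullback f g, W)) = res := by
      have h1 : Spec.map (e ≫ CommRingCat.ofHom χ) = Spec.map (CommRingCat.ofHom res) := by
        rw [Spec.map_comp, he, ← Category.assoc, hχ, Limits.pullback.lift_snd]
      exact congrArg CommRingCat.Hom.hom (Spec.map_injective h1)
    have hzW : z' ∈ W := hz'.mem_open W.2 hxW
    obtain ⟨q, hq⟩ : z' ∈ Set.range hW.fromSpec := by rw [hW.range_fromSpec]; exact hzW
    have hqP : q.asIdeal ≤ RingHom.ker χ := by
      have h1 : hW.fromSpec q ⤳ hW.fromSpec (Spec.map (CommRingCat.ofHom χ) pk) := by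
        rw [hq, ← Scheme.Hom.comp_apply, hχ]; exact hz'
      have h2 : q.asIdeal ≤ (Spec.map (CommRingCat.ofHom χ) pk).asIdeal :=
        (PrimeSpectrum.le_iff_specializes (R := Γ(Limits.pullback f g, W)) q (Spec.map (CommRingCat.ofHom χ) pk)).2
          (hW.fromSpec.isOpenEmbedding.isInducing.specializes_iff.1 h1)
      intro a ha
      have h3 := h2 ha
      have h4 : χ a ∈ IsLocalRing.maximalIdeal k := h3
      rwa [IsLocalRing.maximalIdeal_eq_bot, Ideal.mem_bot] at h4
    have hqA : q.asIdeal.comap (algebraMap A Γ(Limits.pullback f g, W)) = ⊥ := by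
      by_contra hne
      refine hzne ?_
      show (Limits.pullback.snd f g) z' = _
      rw [← hq, ← Scheme.Hom.comp_apply, ← he]
      exact PrimeSpectrum.ext (IsLocalRing.eq_maximalIdeal (Ideal.IsPrime.isMaximal (Ideal.IsPrime.comap _) hne))
    obtain ⟨B, _, _, _, φ, hloc, ψ, hfin, hψ, hres⟩ :=
      Groth.Agent.Fibres16.DVRQuasiSection.exists_finite_dvr A χ hχA q.asIdeal hqP hqA
    let m : Spec (CommRingCat.of B) ⟶ Limits.pullback f g := Spec.map (CommRingCat.ofHom ψ) ≫ hW.fromSpec
    have hm : m ≫ Limits.pullback.snd f g = Spec.map (CommRingCat.ofHom φ) := by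
      rw [Category.assoc, ← he, ← Spec.map_comp]
      exact congrArg (fun r => Spec.map (CommRingCat.ofHom r)) hψ
    refine ⟨CommRingCat.of B, ‹_›, ‹_›, φ, hloc, m ≫ Limits.pullback.fst f g, hfin, ?_, ?_⟩
    · rw [Category.assoc, Limits.pullback.condition, ← Category.assoc, hm]
    · have h2 : Spec.map (CommRingCat.ofHom (IsLocalRing.residue B)) ≫ m =
          Spec.map (CommRingCat.ofHom (IsLocalRing.ResidueField.map φ)) ≫ p₀ := by
        rw [← hχ, ← Category.assoc, ← Category.assoc, ← Spec.map_comp, ← Spec.map_comp]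
        exact congrArg (fun r => Spec.map (CommRingCat.ofHom r) ≫ hW.fromSpec) hres
      rw [← Category.assoc, h2, Category.assoc, Limits.pullback.lift_fst]
  · intro h A _ _ _ g hg x' hx' hx'c
    let Kx := (Limits.pullback f g).residueField x'
    let jx : Spec (CommRingCat.of Kx) ⟶ Limits.pullback f g := (Limits.pullback f g).fromSpecResidueField x'
    let Ω := AlgebraicClosure Kx
    let jΩ : Spec (CommRingCat.of Ω) ⟶ Limits.pullback f g := Spec.map (CommRingCat.ofHom (algebraMap Kx Ω)) ≫ jx
    have hjΩ : ∀ s, jΩ s = x' := fun s => Scheme.fromSpecResidueField_apply x' _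
    let ι : A →+* Ω := (Spec.preimage (jΩ ≫ Limits.pullback.snd f g)).hom
    have hι : Spec.map (CommRingCat.ofHom ι) = jΩ ≫ Limits.pullback.snd f g := by
      rw [CommRingCat.ofHom_hom, Spec.map_preimage]
    let pΩ : Spec (CommRingCat.of Ω) := IsLocalRing.closedPoint Ω
    have hker : RingHom.ker ι = IsLocalRing.maximalIdeal A := by
      have h1 : Spec.map (CommRingCat.ofHom ι) pΩ = IsLocalRing.closedPoint A := by
        rw [hι, Scheme.Hom.comp_apply, hjΩ]; exact hx'c
      have h2 : (IsLocalRing.maximalIdeal Ω).comap ι = IsLocalRing.maximalIdeal A := congrArg PrimeSpectrum.asIdeal h1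
      rwa [IsLocalRing.maximalIdeal_eq_bot, ← RingHom.ker_eq_comap_bot] at h2
    obtain ⟨A', _, _, _, _, _, j, e, hjinj, hjloc, hje⟩ :=
      Groth.Agent.Fibres16.DVRQuasiSection.exists_complete_dvr_extension A Ω ι hker
    let g' := Spec.map (CommRingCat.ofHom j) ≫ g
    let eS : Spec (CommRingCat.of (IsLocalRing.ResidueField A')) ⟶ Spec (CommRingCat.of Ω) :=
      Spec.map (CommRingCat.ofHom e.symm.toRingHom)
    let u₀ := eS ≫ jΩ ≫ Limits.pullback.fst f g
    have he' : eS ≫ jΩ ≫ Limits.pullback.snd f g = Spec.map (CommRingCat.ofHom (IsLocalRing.residue A')) ≫ Spec.map (CommRingCat.ofHom j) := by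
      rw [← hι, ← Spec.map_comp, ← Spec.map_comp]
      refine congrArg Spec.map (CommRingCat.hom_ext (RingHom.ext fun r => ?_))
      show e.symm (ι r) = IsLocalRing.residue A' (j r)
      rw [← hje, e.symm_apply_apply]
    have hg' : g'.base (IsLocalRing.closedPoint A') = f.base x := by
      show (Spec.map (CommRingCat.ofHom j) ≫ g) (IsLocalRing.closedPoint A') = _
      rw [Scheme.Hom.comp_apply, show Spec.map (CommRingCat.ofHom j) (IsLocalRing.closedPoint A') = IsLocalRing.closedPoint A from
        IsLocalRing.comap_closedPoint j]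
      exact hg
    have hu₀ : u₀ ≫ f = Spec.map (CommRingCat.ofHom (IsLocalRing.residue A')) ≫ g' := by
      show (eS ≫ jΩ ≫ Limits.pullback.fst f g) ≫ f = Spec.map (CommRingCat.ofHom (IsLocalRing.residue A')) ≫ Spec.map (CommRingCat.ofHom j) ≫ g
      rw [Category.assoc, Category.assoc, Limits.pullback.condition]
      simpa only [Category.assoc] using congrArg (· ≫ g) he'
    have hxr : x ∈ Set.range u₀.base := ⟨IsLocalRing.closedPoint _, by
      show (eS ≫ jΩ ≫ Limits.pullback.fst f g) _ = x
      rw [← hx', Scheme.Hom.comp_apply, Scheme.Hom.comp_apply, hjΩ]⟩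
    obtain ⟨B, _, _, φ, hφloc, v, hφfin, hv, hvres⟩ := h A' g' hg' u₀ hu₀ hxr
    have hcond : v ≫ f = (Spec.map (CommRingCat.ofHom φ) ≫ Spec.map (CommRingCat.ofHom j)) ≫ g := by
      rw [hv, Category.assoc]
    let m : Spec B ⟶ Limits.pullback f g := Limits.pullback.lift v _ hcond
    let kB := IsLocalRing.ResidueField B
    have hmres : Spec.map (CommRingCat.ofHom (IsLocalRing.residue B)) ≫ m =
        Spec.map (CommRingCat.ofHom (IsLocalRing.ResidueField.map φ)) ≫ eS ≫ jΩ := by
      refine Limits.pullback.hom_ext ?_ ?_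
      · rw [Category.assoc, Limits.pullback.lift_fst, ← hvres]
        simp only [u₀, Category.assoc]
      · rw [Category.assoc, Limits.pullback.lift_snd, Category.assoc, Category.assoc, he', ← Category.assoc, ← Category.assoc,
          ← Spec.map_comp, ← Spec.map_comp, ← Spec.map_comp, ← Spec.map_comp]
        refine congrArg Spec.map (CommRingCat.hom_ext (RingHom.ext fun r => ?_))
        exact (IsLocalRing.ResidueField.map_residue φ (j r)).symm
    let gen : Spec B := (⟨⊥, Ideal.isPrime_bot⟩ : PrimeSpectrum B)
    refine ⟨m gen, ?_, ?_⟩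
    · have h1 : m (Spec.map (CommRingCat.ofHom (IsLocalRing.residue B)) (IsLocalRing.closedPoint kB)) = x' := by
        rw [← Scheme.Hom.comp_apply, hmres, Scheme.Hom.comp_apply, Scheme.Hom.comp_apply, hjΩ]
      rw [← h1]
      exact Specializes.map ((PrimeSpectrum.le_iff_specializes (⟨⊥, Ideal.isPrime_bot⟩ : PrimeSpectrum B) _).1 bot_le) m.continuous
    · show (m ≫ Limits.pullback.snd f g) gen ≠ _
      rw [Limits.pullback.lift_snd]
      intro hc
      have h1 : (⊥ : Ideal B).comap (φ.comp j) = IsLocalRing.maximalIdeal A := congrArg PrimeSpectrum.asIdeal hc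
      have hφinj : Function.Injective φ := by
        rw [RingHom.injective_iff_ker_eq_bot]
        by_contra hne
        haveI : (RingHom.ker φ).IsPrime := RingHom.ker_isPrime φ
        haveI : (RingHom.ker φ).IsMaximal := Ideal.IsPrime.isMaximal inferInstance hne
        letI : Algebra (A' ⧸ RingHom.ker φ) B := (RingHom.kerLift φ).toAlgebra
        letI := Ideal.Quotient.field (RingHom.ker φ)
        haveI : Module.Finite (A' ⧸ RingHom.ker φ) B := RingHom.Finite.of_comp_finite
          (f := Ideal.Quotient.mk (RingHom.ker φ)) (g := RingHom.kerLift φ) (by rwa [show (RingHom.kerLift φ).comp (Ideal.Quotient.mk (RingHom.ker φ)) = φ from RingHom.ext fun _ => rfl])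
        haveI : Algebra.IsIntegral (A' ⧸ RingHom.ker φ) B := Algebra.IsIntegral.of_finite _ _
        exact IsDiscreteValuationRing.not_isField B (isField_of_isIntegral_of_isField' (R := A' ⧸ RingHom.ker φ) (S := B) (Field.toIsField _))
      rw [Ideal.comap_bot_of_injective (φ.comp j) (show Function.Injective (φ.comp j) from Function.Injective.comp (g := ⇑φ) hφinj hjinj)] at h1
      exact IsDiscreteValuationRing.not_isField A (IsLocalRing.isField_iff_maximalIdeal_eq.2 h1.symm)

end Groth.Agent.S4981
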