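import Groth.Statements.S4985
import Groth.Agent.FibSemi.Dims

set_option autoImplicit false
open CategoryTheory AlgebraicGeometry
universe u v w
open EGA43

namespace Groth.Agent.S4985

/-- Let Y be a locally Noetherian scheme, f : X ⟶ Y a morphism of finite type, x a point of X with y = f
x, X' an irreducible closed subset of X containing x, regarded as a reduced closed subscheme, and Y'
the closure of f(X') regarded as a reduced closed subscheme of Y, with generic point η'. Write A, B,
A', B' for the local rings of Y at y, of X at x, of Y' at y and of X' at x, and B ⊗ κ(y), B' ⊗ κ(y)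
for the local rings at x of the fibres over y of X and of X'. Then dim B' = dim A + dim(B ⊗ κ(y)) if
and only if all of the following hold: (i) dim A' = dim A; (ii) dim(B' ⊗ κ(y)) = dim(B ⊗ κ(y));
(iii) X' is equidimensional over Y' at x, i.e. the local dimension at x of the fibre of X' over y
equals dim(X' ∩ f⁻¹(η')); (iv) dim B' = dim A' + dim(B' ⊗ κ(y)) (the published (iv) carries the
correction term dim_x − dim of (iii), which vanishes under (iii)). -/
theorem result {X Y : Scheme.{u}} [IsLocallyNoetherian Y] (f : X ⟶ Y)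
    [LocallyOfFiniteType f] [QuasiCompact f] (x : X) (X' : TopologicalSpace.Closeds X) (hirr : IsIrreducible (X' : Set X))
    (hx : x ∈ X') (w : ↥(Scheme.IdealSheafData.vanishingIdeal X').subscheme)
    (hw : (Scheme.IdealSheafData.vanishingIdeal X').subschemeι.base w = x)
    (v : ↥(Scheme.IdealSheafData.vanishingIdeal
      (⟨closure (f.base '' (X' : Set X)), isClosed_closure⟩ : TopologicalSpace.Closeds Y)).subscheme)
    (hv : (Scheme.IdealSheafData.vanishingIdeal
      (⟨closure (f.base '' (X' : Set X)), isClosed_closure⟩ : TopologicalSpace.Closeds Y)).subschemeι.base v = f.base x)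
    (η' : Y) (hη' : closure ({η'} : Set Y) = closure (f.base '' (X' : Set X))) :
    letI ιX := (Scheme.IdealSheafData.vanishingIdeal X').subschemeι
    letI dA := ringKrullDim (Y.presheaf.stalk (f.base x))
    letI dB := ringKrullDim (X.presheaf.stalk x)
    letI dA' := ringKrullDim ((Scheme.IdealSheafData.vanishingIdeal
      (⟨closure (f.base '' (X' : Set X)), isClosed_closure⟩ : TopologicalSpace.Closeds Y)).subscheme.presheaf.stalk v)
    letI dB' := ringKrullDim ((Scheme.IdealSheafData.vanishingIdeal X').subscheme.presheaf.stalk w)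
    letI dBk := ringKrullDim ((f.fiber (f.base x)).presheaf.stalk (f.asFiber x))
    letI dB'k := ringKrullDim (((ιX ≫ f).fiber ((ιX ≫ f).base w)).presheaf.stalk ((ιX ≫ f).asFiber w))
    letI e' := topologicalKrullDim ↥((X' : Set X) ∩ f.base ⁻¹' {η'})
    (dB' = dA + dBk ↔
      (dA' = dA ∧ dB'k = dBk ∧ FlatMor.fibreDimAt (ιX ≫ f) w = e' ∧ dB' = dA' + dB'k)) := by
  let ιX := (Scheme.IdealSheafData.vanishingIdeal X').subschemeι
  let dA := ringKrullDim (Y.presheaf.stalk (f.base x))
  let dA' := ringKrullDim ((Scheme.IdealSheafData.vanishingIdeal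
      (⟨closure (f.base '' (X' : Set X)), isClosed_closure⟩ : TopologicalSpace.Closeds Y)).subscheme.presheaf.stalk v)
  let dB' := ringKrullDim ((Scheme.IdealSheafData.vanishingIdeal X').subscheme.presheaf.stalk w)
  let dBk := ringKrullDim ((f.fiber (f.base x)).presheaf.stalk (f.asFiber x))
  let dB'k := ringKrullDim (((ιX ≫ f).fiber ((ιX ≫ f).base w)).presheaf.stalk ((ιX ≫ f).asFiber w))
  let e' := topologicalKrullDim ↥((X' : Set X) ∩ f.base ⁻¹' {η'})
  show dB' = dA + dBk ↔ (dA' = dA ∧ dB'k = dBk ∧ FlatMor.fibreDimAt (ιX ≫ f) w = e' ∧ dB' = dA' + dB'k)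
  let g := ιX ≫ f
  haveI : LocallyOfFiniteType g := inferInstanceAs (LocallyOfFiniteType (ιX ≫ f))
  obtain ⟨ξ, hξ⟩ := QuasiSober.sober hirr X'.isClosed
  have hξX : closure ({ξ} : Set X) = (X' : Set X) := hξ
  have hrange : Set.range ιX.base = (X' : Set X) := by
    show Set.range ιX = _
    rw [Scheme.IdealSheafData.range_subschemeι, Scheme.IdealSheafData.coe_support_vanishingIdeal]
  have hxξ : ξ ⤳ x := by rw [specializes_iff_mem_closure, hξX]; exact hx
  have hfξ : f ξ = η' := by
    have h1 : closure ({f ξ} : Set Y) = closure (f.base '' (X' : Set X)) := by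
      rw [← hξX, closure_image_closure f.continuous, Set.image_singleton]
    exact (inseparable_iff_closure_eq.mpr (h1.trans hη'.symm)).eq
  subst η'
  have hιle : ∀ a b, ιX a ≤ ιX b ↔ a ≤ b := fun a b => ιX.isEmbedding.specializes_iff
  have hmemι : ∀ z : X, ξ ⤳ z → ∃ z', ιX z' = z := fun z hz => by
    have h1 : z ∈ (X' : Set X) := hξX ▸ specializes_iff_mem_closure.mp hz
    rw [← hrange] at h1
    exact h1
  have hξι : ∀ z', ξ ⤳ ιX z' := fun z' => by
    rw [specializes_iff_mem_closure, hξX, ← hrange]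
    exact ⟨z', rfl⟩
  have hw' : ιX w = x := hw
  -- the dimensions
  obtain ⟨b, t, a', e, hb, ht, ha', he, hineq⟩ := Groth.Agent.FibSemi.dim_inequality f hxξ
  obtain ⟨k, tt, hk, htt, -⟩ := Groth.Agent.FibSemi.fibreDimAt_eq_add f x
  obtain ⟨k', t', hk', ht', hfd⟩ := Groth.Agent.FibSemi.fibreDimAt_eq_add g w
  obtain ⟨a, hadA⟩ : ∃ a : ℕ, dA = a := by
    obtain ⟨a, ha⟩ := Groth.Agent.CycLib.exists_nat_height (IsLocalRing.maximalIdeal (Y.presheaf.stalk (f.base x)))
    exact ⟨a, by rw [show dA = _ from IsLocalRing.maximalIdeal_height_eq_ringKrullDim.symm, ha]; rfl⟩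
  have hdB' : dB' = b := by
    rw [show dB' = _ from Groth.Agent.FibSemi.ringKrullDim_stalk_eq w, ← hb]
    refine Groth.Agent.FibSemi.krullDim_eq_of_embedding ιX hιle ιX.isEmbedding.injective _ _ fun z => ?_
    constructor
    · rintro ⟨h1, h2⟩
      obtain ⟨z', rfl⟩ := hmemι z h1
      exact ⟨z', (ιX.isEmbedding.specializes_iff).mp (hw'.symm ▸ h2), rfl⟩
    · rintro ⟨z', hz', rfl⟩
      exact ⟨hξι z', hw' ▸ Specializes.map hz' ιX.continuous⟩
  have hdA' : dA' = a' := by
    rw [show dA' = _ from Groth.Agent.FibSemi.ringKrullDim_stalk_eq v, ← ha']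
    set ιY := (Scheme.IdealSheafData.vanishingIdeal
      (⟨closure (f.base '' (X' : Set X)), isClosed_closure⟩ : TopologicalSpace.Closeds Y)).subschemeι with hιY
    have hrY : Set.range ιY = closure ({f ξ} : Set Y) := by
      rw [hιY, Scheme.IdealSheafData.range_subschemeι, Scheme.IdealSheafData.coe_support_vanishingIdeal]
      exact hη'.symm
    have hv' : ιY v = f x := hv
    refine Groth.Agent.FibSemi.krullDim_eq_of_embedding ιY (fun a b => ιY.isEmbedding.specializes_iff)
      ιY.isEmbedding.injective _ _ fun z => ?_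
    constructor
    · rintro ⟨h1, h2⟩
      obtain ⟨z', rfl⟩ : z ∈ Set.range ιY := by rw [hrY]; exact specializes_iff_mem_closure.mp h1
      exact ⟨z', (ιY.isEmbedding.specializes_iff).mp (hv'.symm ▸ h2), rfl⟩
    · rintro ⟨z', hz', rfl⟩
      refine ⟨?_, hv' ▸ Specializes.map hz' ιY.continuous⟩
      rw [specializes_iff_mem_closure, ← hrY]
      exact ⟨z', rfl⟩
  have hdBk : dBk = k := by
    rw [show dBk = _ from AlgebraicGeometry.ringKrullDim_stalk_eq_coheight _, Groth.Agent.FibSemi.coheight_asFiber]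
    exact hk
  have hdB'k : dB'k = k' := by
    rw [show dB'k = _ from AlgebraicGeometry.ringKrullDim_stalk_eq_coheight _, Groth.Agent.FibSemi.coheight_asFiber]
    exact hk'
  have hgw : g w = f x := congrArg f hw'
  have htt' : t' = t := by
    have h : Order.krullDim {z | g z = g w ∧ w ⤳ z} = Order.krullDim {z : X | f z = f x ∧ x ⤳ z} := by
      refine Groth.Agent.FibSemi.krullDim_eq_of_embedding ιX hιle ιX.isEmbedding.injective _ _ fun z => ?_
      constructor
      · rintro ⟨h1, h2⟩
        obtain ⟨z', rfl⟩ := hmemι z (hxξ.trans h2)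
        exact ⟨z', ⟨h1.trans hgw.symm, (ιX.isEmbedding.specializes_iff).mp (hw'.symm ▸ h2)⟩, rfl⟩
      · rintro ⟨z', ⟨hz1, hz2⟩, rfl⟩
        exact ⟨hz1.trans hgw, hw' ▸ Specializes.map hz2 ιX.continuous⟩
    rw [ht', ht] at h
    exact_mod_cast h
  have hk'k : k' ≤ k := by
    have h : Order.krullDim {z | g z = g w ∧ z ⤳ w} ≤ Order.krullDim {z : X | f z = f x ∧ z ⤳ x} := by
      refine Order.krullDim_le_of_strictMono (fun z => ⟨ιX z.1, z.2.1.trans hgw, hw' ▸ Specializes.map z.2.2 ιX.continuous⟩)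
        fun p q hpq => ?_
      exact ⟨(hιle _ _).mpr hpq.le, fun hh => hpq.not_ge ((hιle _ _).mp hh)⟩
    rw [hk', hk] at h
    exact_mod_cast h
  have haa : a' ≤ a := by
    have h : Order.krullDim {z : Y | f ξ ⤳ z ∧ z ⤳ f x} ≤ Order.krullDim {z : Y | z ⤳ f x} :=
      Groth.Agent.FibSemi.krullDim_mono fun z hz => hz.2
    rw [ha', ← Groth.Agent.FibSemi.ringKrullDim_stalk_eq] at h
    rw [show ringKrullDim (Y.presheaf.stalk (f x)) = dA from rfl, hadA] at h
    exact_mod_cast h
  have he' : e' = e := by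
    rw [show e' = topologicalKrullDim ↥((X' : Set X) ∩ f.base ⁻¹' {f ξ}) from rfl, ← hξX]
    exact (Groth.Agent.FibSemi.topDim_closure_inter_fibre_eq f ξ (f ξ)).trans he
  have hfdw : FlatMor.fibreDimAt (ιX ≫ f) w = (k' + t : ℕ) := htt' ▸ hfd
  have hek : e ≤ k' + t := by
    obtain ⟨ξ', hξ'⟩ := hmemι ξ specializes_rfl
    have hspec : ξ' ⤳ w := ιX.isEmbedding.specializes_iff.mp (by rw [hξ', hw']; exact hxξ)
    have h := Groth.Agent.FibSemi.topDim_closure_le_fibreDimAt g hspec
    rw [hfdw, Groth.Agent.FibSemi.topDim_closure_inter_fibre_eq] at h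
    have heq : Order.krullDim {z | g z = g ξ' ∧ ξ' ⤳ z} = Order.krullDim {z : X | f z = f ξ ∧ ξ ⤳ z} := by
      refine Groth.Agent.FibSemi.krullDim_eq_of_embedding ιX hιle ιX.isEmbedding.injective _ _ fun z => ?_
      have hg' : g ξ' = f ξ := congrArg f hξ'
      constructor
      · rintro ⟨h1, h2⟩
        obtain ⟨z', rfl⟩ := hmemι z h2
        exact ⟨z', ⟨h1.trans hg'.symm, (ιX.isEmbedding.specializes_iff).mp (hξ'.symm ▸ h2)⟩, rfl⟩
      · rintro ⟨z', ⟨hz1, -⟩, rfl⟩
        exact ⟨hz1.trans hg', hξι z'⟩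
    rw [heq, he] at h
    exact_mod_cast h
  simp only [hdB', hadA, hdA', hdBk, hdB'k, he', hfdw]
  norm_cast
  constructor
  · intro h
    refine ⟨?_, ?_, ?_, ?_⟩ <;> omega
  · rintro ⟨h1, h2, -, h4⟩
    omega

end Groth.Agent.S4985
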