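import Groth.Statements.S4986
import Groth.Agent.FibSemi.Dims
import Groth.Agent.DimOpen.Basic
import Groth.Agent.RegLoc.Basic
import Mathlib.Topology.Sober

set_option autoImplicit false
open CategoryTheory AlgebraicGeometry
universe u v w
open EGA43 Groth.Agent Groth.Agent.FibSemi

namespace Groth.Agent.S4986

/-- Let Y be locally Noetherian, f : X ⟶ Y of finite type, x ∈ X, y = f x, X' an irreducible closed
subset containing x with its reduced structure, Y' the closure of f(X') with its reduced structure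
and generic point η', and A, B, A', B' the local rings of Y at y, of X at x, of Y' at y and of X' at
x. Suppose dim B = dim A + dim(B ⊗ κ(y)). Then X' satisfies the four conditions (i) dim A' = dim A,
(ii) dim_x(X' ∩ X_y) = dim_x(X_y), (iii) X' equidimensional over Y' at x, (iv) dim B' = dim A' +
dim(B' ⊗ κ(y)), if and only if dim B' = dim B. -/
theorem result {X Y : Scheme.{u}} [IsLocallyNoetherian Y] (f : X ⟶ Y)
    [LocallyOfFiniteType f] [QuasiCompact f] (x : X) (X' : TopologicalSpace.Closeds X) (hirr : IsIrreducible (X' : Set X))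
    (hx : x ∈ X') (w : ↥(Scheme.IdealSheafData.vanishingIdeal X').subscheme)
    (hw : (Scheme.IdealSheafData.vanishingIdeal X').subschemeι.base w = x)
    (v : ↥(Scheme.IdealSheafData.vanishingIdeal
      (⟨closure (f.base '' (X' : Set X)), isClosed_closure⟩ : TopologicalSpace.Closeds Y)).subscheme)
    (hv : (Scheme.IdealSheafData.vanishingIdeal
      (⟨closure (f.base '' (X' : Set X)), isClosed_closure⟩ : TopologicalSpace.Closeds Y)).subschemeι.base v = f.base x)
    (η' : Y) (hη' : closure ({η'} : Set Y) = closure (f.base '' (X' : Set X))) :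
    letI ιX := (Scheme.IdealSheafData.vanishingIdeal X').subschemeι
    letI dA := ringKrullDim (Y.presheaf.stalk (f.base x))
    letI dB := ringKrullDim (X.presheaf.stalk x)
    letI dA' := ringKrullDim ((Scheme.IdealSheafData.vanishingIdeal
      (⟨closure (f.base '' (X' : Set X)), isClosed_closure⟩ : TopologicalSpace.Closeds Y)).subscheme.presheaf.stalk v)
    letI dB' := ringKrullDim ((Scheme.IdealSheafData.vanishingIdeal X').subscheme.presheaf.stalk w)
    letI dBk := ringKrullDim ((f.fiber (f.base x)).presheaf.stalk (f.asFiber x))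
    letI dB'k := ringKrullDim (((ιX ≫ f).fiber ((ιX ≫ f).base w)).presheaf.stalk ((ιX ≫ f).asFiber w))
    letI e' := topologicalKrullDim ↥((X' : Set X) ∩ f.base ⁻¹' {η'})
    dB = dA + dBk →
      ((dA' = dA ∧ FlatMor.localDim ↥((X' : Set X) ∩ f.base ⁻¹' {f.base x}) ⟨x, ⟨hx, rfl⟩⟩ = FlatMor.fibreDimAt f x ∧
        FlatMor.fibreDimAt (ιX ≫ f) w = e' ∧ dB' = dA' + dB'k) ↔ dB' = dB) := by
  intro hform
  classical
  let Z := (Scheme.IdealSheafData.vanishingIdeal X').subscheme
  let ι := (Scheme.IdealSheafData.vanishingIdeal X').subschemeι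
  let Y'' : TopologicalSpace.Closeds Y := ⟨closure (f.base '' (X' : Set X)), isClosed_closure⟩
  let j := (Scheme.IdealSheafData.vanishingIdeal Y'').subschemeι
  haveI : IsLocallyNoetherian X := LocallyOfFiniteType.isLocallyNoetherian f
  haveI : IsLocallyNoetherian Z := LocallyOfFiniteType.isLocallyNoetherian ι
  have hrι : Set.range ι = (X' : Set X) := by
    rw [Scheme.IdealSheafData.range_subschemeι]
    exact Scheme.IdealSheafData.coe_support_vanishingIdeal X' ▸ rfl
  have hrj : Set.range j = (Y'' : Set Y) := by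
    rw [Scheme.IdealSheafData.range_subschemeι]
    exact Scheme.IdealSheafData.coe_support_vanishingIdeal Y'' ▸ rfl
  have hξ := hirr.isGenericPoint_genericPoint X'.2
  let ξ := hirr.genericPoint
  have hmemX : ∀ z : X, z ∈ Set.range ι ↔ ξ ⤳ z := fun z => by
    rw [hrι, specializes_iff_mem_closure, hξ.def]
  have hη : η' = f ξ := by
    have h : IsGenericPoint (f ξ) (closure (f.base '' (X' : Set X))) := hξ.image f.continuous
    exact IsGenericPoint.eq (show IsGenericPoint η' (closure (f.base '' (X' : Set X))) from hη') h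
  have hmemY : ∀ z : Y, z ∈ Set.range j ↔ η' ⤳ z := fun z => by
    rw [hrj, specializes_iff_mem_closure, hη']
    rfl
  have hξx : ξ ⤳ x := hξ.specializes hx
  have hgw : ∀ z : Z, (ι ≫ f) z = f (ι z) := fun z => rfl
  -- fibre data at `x` and at `w`
  obtain ⟨n, t, hn, ht, hfd⟩ := fibreDimAt_eq_add f x
  obtain ⟨n', t', hn', ht', hfd'⟩ := fibreDimAt_eq_add (ι ≫ f) w
  have hιle : ∀ a b : Z, ι a ≤ ι b ↔ a ≤ b := fun a b => ι.isClosedEmbedding.isInducing.specializes_iff
  have htt : t' = t := by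
    have e : Order.krullDim {z : Z | (ι ≫ f) z = (ι ≫ f) w ∧ w ⤳ z} = Order.krullDim {z : X | f z = f x ∧ x ⤳ z} := by
      refine krullDim_eq_of_embedding ι hιle ι.isClosedEmbedding.injective _ _ fun z => ⟨fun h => ?_, ?_⟩
      · obtain ⟨c, rfl⟩ := (hmemX z).2 (hξx.trans h.2)
        exact ⟨c, ⟨h.1.trans (congrArg f hw).symm, ι.isClosedEmbedding.isInducing.specializes_iff.1 (hw.symm ▸ h.2)⟩, rfl⟩
      · rintro ⟨c, ⟨h1, h2⟩, rfl⟩
        exact ⟨h1.trans (congrArg f hw), hw ▸ h2.map ι.continuous⟩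
    rw [ht', ht] at e
    exact_mod_cast e
  obtain ⟨b, t₂, a, e, hb, ht₂, ha, he, hineq⟩ := dim_inequality f hξx
  have ht2 : t₂ = t := by rw [ht] at ht₂; exact_mod_cast ht₂.symm
  subst ht2 htt
  have hB' : ringKrullDim (Z.presheaf.stalk w) = (b : WithBot ℕ∞) := by
    rw [FibSemi.ringKrullDim_stalk_eq, ← hb]
    refine krullDim_eq_of_embedding ι hιle ι.isClosedEmbedding.injective _ _ fun z => ⟨fun h => ?_, ?_⟩
    · obtain ⟨c, rfl⟩ := (hmemX z).2 h.1
      exact ⟨c, ι.isClosedEmbedding.isInducing.specializes_iff.1 (hw.symm ▸ h.2), rfl⟩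
    · rintro ⟨c, h2, rfl⟩
      exact ⟨(hmemX _).1 ⟨c, rfl⟩, hw ▸ (show c ⤳ w from h2).map ι.continuous⟩
  have hA' : ringKrullDim ((Scheme.IdealSheafData.vanishingIdeal Y'').subscheme.presheaf.stalk v) = (a : WithBot ℕ∞) := by
    rw [FibSemi.ringKrullDim_stalk_eq, ← ha, ← hη]
    refine krullDim_eq_of_embedding j (fun a b => j.isClosedEmbedding.isInducing.specializes_iff)
      j.isClosedEmbedding.injective _ _ fun z => ⟨fun h => ?_, ?_⟩
    · obtain ⟨c, rfl⟩ := (hmemY z).2 h.1
      exact ⟨c, j.isClosedEmbedding.isInducing.specializes_iff.1 (hv.symm ▸ h.2), rfl⟩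
    · rintro ⟨c, h2, rfl⟩
      exact ⟨(hmemY _).1 ⟨c, rfl⟩, hv ▸ (show c ⤳ v from h2).map j.continuous⟩
  have hBk : ringKrullDim ((f.fiber (f x)).presheaf.stalk (f.asFiber x)) = (n : WithBot ℕ∞) := by
    rw [ringKrullDim_stalk_eq_coheight, coheight_asFiber, hn]
  have hB'k : ringKrullDim (((ι ≫ f).fiber ((ι ≫ f) w)).presheaf.stalk ((ι ≫ f).asFiber w)) = (n' : WithBot ℕ∞) := by
    rw [ringKrullDim_stalk_eq_coheight, coheight_asFiber, hn']
  have he' : topologicalKrullDim ↥((X' : Set X) ∩ f.base ⁻¹' {η'}) = (e : WithBot ℕ∞) := by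
    rw [← hξ.def, hη, topDim_closure_inter_fibre_eq, he]
  have hle : e ≤ n + t' := by
    have h := topDim_closure_le_fibreDimAt f hξx
    rw [topDim_closure_inter_fibre_eq, he, hfd] at h
    exact_mod_cast h
  have hloc : FlatMor.localDim ↥((X' : Set X) ∩ f.base ⁻¹' {f.base x}) ⟨x, ⟨hx, rfl⟩⟩ =
      ((n' + t' : ℕ) : WithBot ℕ∞) := by
    rw [← hfd', FibSemi.fibreDimAt_eq]
    let e1 := ι.isClosedEmbedding.isEmbedding.homeomorphImage ((ι ≫ f) ⁻¹' {(ι ≫ f) w})
    have hset : ι '' ((ι ≫ f) ⁻¹' {(ι ≫ f) w}) = (X' : Set X) ∩ f.base ⁻¹' {f.base x} := by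
      ext z
      constructor
      · rintro ⟨c, hc, rfl⟩
        exact ⟨hrι.subset ⟨c, rfl⟩, (Set.mem_singleton_iff.1 hc).trans (congrArg f hw)⟩
      · rintro ⟨hz, hz'⟩
        obtain ⟨c, rfl⟩ := hrι.symm.subset hz
        exact ⟨c, (Set.mem_singleton_iff.1 hz').trans (congrArg f hw).symm, rfl⟩
    let E := e1.trans (Homeomorph.setCongr hset)
    have hE : E ⟨w, rfl⟩ = ⟨x, ⟨hx, rfl⟩⟩ := Subtype.ext (by
      simp [E, e1, Topology.IsEmbedding.homeomorphImage]
      exact hw)
    rw [← hE]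
    refine le_antisymm (localDim_homeo E _) ?_
    have h := localDim_homeo E.symm (E ⟨w, rfl⟩)
    rwa [E.symm_apply_apply] at h
  obtain ⟨dA, hdA, -⟩ := RegLoc.exists_natCast_eq_ringKrullDim (Y.presheaf.stalk (f x))
  have hadA : a ≤ dA := by
    rw [FibSemi.ringKrullDim_stalk_eq] at hdA
    have h := krullDim_mono (show {z : Y | f ξ ⤳ z ∧ z ⤳ f x} ⊆ {z : Y | z ⤳ f x} from fun z hz => hz.2)
    rw [ha, hdA] at h
    exact_mod_cast h
  have hn'n : n' ≤ n := by
    have h : Order.krullDim {z : Z | (ι ≫ f) z = (ι ≫ f) w ∧ z ⤳ w} ≤ Order.krullDim {z : X | f z = f x ∧ z ⤳ x} :=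
      Order.krullDim_le_of_strictMono
        (fun z => ⟨ι z.1, z.2.1.trans (congrArg f hw), hw ▸ z.2.2.map ι.continuous⟩)
        (fun z c hzc => lt_of_le_not_ge (show (ι z.1 : X) ≤ ι c.1 from (hιle _ _).2 hzc.le)
          fun h => hzc.not_ge ((hιle _ _).1 h))
    rw [hn', hn] at h
    exact_mod_cast h
  have hbd : b ≤ dA + n' := by
    have h := DimOpen.dim_le_add (ι ≫ f) w
    have hy : ringKrullDim (Y.presheaf.stalk ((ι ≫ f) w)) = (dA : WithBot ℕ∞) := by
      rw [show (ι ≫ f) w = f x from congrArg f hw]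
      exact hdA
    rw [hy, hB', hB'k] at h
    exact_mod_cast h
  have hfd'' : FlatMor.fibreDimAt (ι ≫ f) w = ((n' + t' : ℕ) : WithBot ℕ∞) := hfd'
  rw [hdA, hBk] at hform
  rw [hA', hdA, hloc, hfd, hfd'', he', hB', hB'k, hform]
  norm_cast
  omega

end Groth.Agent.S4986
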