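import Groth.Statements.S4989
import Groth.Agent.Omega.SmoothNormalScheme

set_option autoImplicit false
universe u
open CategoryTheory CategoryTheory.Limits AlgebraicGeometry TopologicalSpace
open Unram17

namespace Groth.Agent.S4989

/-- Let f : X ⟶ Y be locally of finite presentation and smooth at a point x with image y. Then the local
ring of X at x is reduced if and only if the local ring of Y at y is reduced, and it is an
integrally closed domain if and only if the local ring of Y at y is one. (The published statement
also covers geometrically unibranch local rings; this row states only the reduced and the integrally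
closed cases.) -/
theorem result {X Y : Scheme.{u}} (f : X ⟶ Y)
    [LocallyOfFinitePresentation f] (x : ↥X) (hx : x ∈ f.smoothLocus) :
    (IsReduced ↑(X.presheaf.stalk x) ↔ IsReduced ↑(Y.presheaf.stalk (f.base x))) ∧
    ((IsDomain ↑(X.presheaf.stalk x) ∧ IsIntegrallyClosed ↑(X.presheaf.stalk x)) ↔
      (IsDomain ↑(Y.presheaf.stalk (f.base x)) ∧ IsIntegrallyClosed ↑(Y.presheaf.stalk (f.base x)))) := by
  exact ⟨Omega.SmoothNormal.stalk_isReduced_iff f hx, Omega.SmoothNormal.stalk_isNormal_iff f hx⟩

end Groth.Agent.S4989
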