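import Groth.Statements.S4993
import Groth.Agent.Omega.SmoothFibreDim
import Groth.Agent.PerfSch.Etale
-- import your own Groth.Agent.* helpers here

set_option autoImplicit false
universe u
open CategoryTheory CategoryTheory.Limits AlgebraicGeometry TopologicalSpace
open Unram17

namespace Groth.Agent.S4993

/-- Let f : Y ⟶ S and h : X ⟶ S be smooth and let g : X ⟶ Y satisfy g ≫ f = h. Then g is an open
immersion if and only if g is a monomorphism and, for every point x of X, the local dimension at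
g(x) of the fibre of f through g(x) equals the local dimension at x of the fibre of h through x. -/
theorem result {X Y S : Scheme.{u}} (f : Y ⟶ S) (h : X ⟶ S)
    [Smooth f] [Smooth h] (g : X ⟶ Y) (w : g ≫ f = h) :
    IsOpenImmersion g ↔ Mono g ∧ ∀ x : ↥X, FlatMor.fibreDimAt f (g.base x) = FlatMor.fibreDimAt h x := by
  subst w
  constructor
  · intro hg
    refine ⟨inferInstance, fun x => (AlgSpD.fibreDimAt_inv g (𝟙 S) (g ≫ f) f (Category.comp_id _) x).symm⟩
  rintro ⟨hm, hd⟩
  haveI := hm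
  haveI : Etale g := by
    rw [HasRingHomProperty.iff_exists_appLE (P := @Etale)
      (RingHom.Etale.stableUnderComposition.stableUnderCompositionWithLocalizationAway
        (RingHom.Etale.propertyIsLocal.HoldsForLocalizationAway RingHom.Etale.containsIdentities)).1]
    intro x
    obtain ⟨W, hW, hxW⟩ := Omega.SmoothFibreDim.exists_mem (f (g x))
    obtain ⟨V, hV, hxV, eV⟩ := Omega.SmoothFibreDim.exists_nhd f (g x) hxW
    obtain ⟨U, hU, hxU, eU⟩ := Omega.SmoothFibreDim.exists_nhd g x hxV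
    refine ⟨⟨V, hV⟩, ⟨U, hU⟩, hxU, eU, ?_⟩
    have e : U ≤ (g ≫ f) ⁻¹ᵁ W := fun z hz => eV (eU hz)
    letI : Algebra Γ(S, W) Γ(Y, V) := (f.appLE W V eV).hom.toAlgebra
    letI : Algebra Γ(Y, V) Γ(X, U) := (g.appLE V U eU).hom.toAlgebra
    letI : Algebra Γ(S, W) Γ(X, U) := ((g ≫ f).appLE W U e).hom.toAlgebra
    have hc : f.appLE W V eV ≫ g.appLE V U eU = (g ≫ f).appLE W U e :=
      Scheme.Hom.appLE_comp_appLE g f W V U eV eU
    haveI : IsScalarTower Γ(S, W) Γ(Y, V) Γ(X, U) :=
      IsScalarTower.of_algebraMap_eq' (congrArg CommRingCat.Hom.hom hc).symm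
    haveI : Algebra.Smooth Γ(S, W) Γ(Y, V) :=
      RingHom.smooth_algebraMap.mp (HasRingHomProperty.appLE @Smooth f ‹_› ⟨W, hW⟩ ⟨V, hV⟩ eV)
    haveI : Algebra.Smooth Γ(S, W) Γ(X, U) :=
      RingHom.smooth_algebraMap.mp (HasRingHomProperty.appLE @Smooth (g ≫ f) ‹_› ⟨W, hW⟩ ⟨U, hU⟩ e)
    haveI : Algebra.FormallyUnramified Γ(Y, V) Γ(X, U) :=
      RingHom.formallyUnramified_algebraMap.mp
        (HasRingHomProperty.appLE @FormallyUnramified g inferInstance ⟨V, hV⟩ ⟨U, hU⟩ eU)
    refine RingHom.etale_algebraMap.mpr (Omega.SmoothFibreDim.etale_of_unramified_rank Γ(S, W) Γ(Y, V) Γ(X, U) fun P => ?_)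
    have h1 : g (hU.fromSpec P) = hV.fromSpec (Spec.map (g.appLE V U eU) P) := by
      rw [← Scheme.Hom.comp_apply, ← Scheme.Hom.comp_apply, hV.SpecMap_appLE_fromSpec g hU eU]
    have h := hd (hU.fromSpec P)
    rw [show g.base (hU.fromSpec P) = _ from h1, ← Omega.SmoothFibreDim.fibreDimAt_appLE f hW hV eV,
      ← Omega.SmoothFibreDim.fibreDimAt_appLE (g ≫ f) hW hU e] at h
    erw [Omega.SmoothFibreDim.fibreDimAt_spec Γ(S, W) Γ(X, U) P,
      Omega.SmoothFibreDim.fibreDimAt_spec Γ(S, W) Γ(Y, V)] at h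
    exact (Nat.cast_inj.mp h).symm
  haveI : UniversallyInjective g := inferInstance
  exact PerfSch.Etale.isOpenImmersion_of_etale_universallyInjective g

end Groth.Agent.S4993
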