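import Groth.Statements.S4998
import Mathlib.RingTheory.Etale.Field
import Mathlib.FieldTheory.Separable

set_option autoImplicit false
universe u
open Unram17

namespace Groth.Agent.S4998

/-- Let A be an algebra of finite type over a field k. Then A is formally unramified over k if and only
if A is finite over k and every element of A has separable minimal polynomial over k (equivalently,
A is a finite product of finite separable extensions of k). -/
theorem result (k A : Type u) [Field k] [CommRing A]
    [Algebra k A] [Algebra.FiniteType k A] :
    Algebra.FormallyUnramified k A ↔ Module.Finite k A ∧ Algebra.IsSeparable k A := by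
  classical
  constructor
  · intro _
    have hfin := Algebra.FormallyUnramified.finite_of_free k A
    obtain ⟨I, hI, Ai, _, _, e, hsep⟩ := (Algebra.FormallyEtale.iff_exists_algEquiv_prod k A).mp
      (Algebra.FormallyEtale.of_formallyUnramified_of_field k A)
    have : Fintype I := Fintype.ofFinite I
    refine ⟨hfin, ⟨fun a => ?_⟩⟩
    have hint : ∀ i, IsIntegral k (e a i) := fun i =>
      have := hsep i; Algebra.IsSeparable.isIntegral k _
    let s : Finset (Polynomial k) := Finset.univ.image fun i => minpoly k (e a i)
    have hs : (∏ q ∈ s, q).Separable := by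
      refine Polynomial.separable_prod' (fun q hq q' hq' hne => ?_) fun q hq => ?_
      · obtain ⟨i, -, rfl⟩ := Finset.mem_image.mp hq
        obtain ⟨j, -, rfl⟩ := Finset.mem_image.mp hq'
        refine (minpoly.irreducible (hint i)).coprime_iff_not_dvd.mpr fun hd => hne ?_
        exact Polynomial.eq_of_monic_of_associated (minpoly.monic (hint i)) (minpoly.monic (hint j))
          ((minpoly.irreducible (hint i)).associated_of_dvd (minpoly.irreducible (hint j)) hd)
      · obtain ⟨i, -, rfl⟩ := Finset.mem_image.mp hq
        have := hsep i
        exact Algebra.IsSeparable.isSeparable k (e a i)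
    refine hs.of_dvd (minpoly.dvd k a (e.injective (funext fun i => ?_)))
    rw [map_zero, ← Polynomial.aeval_algHom_apply,
      show Polynomial.aeval (e a) (∏ q ∈ s, q) i = Polynomial.aeval (e a i) (∏ q ∈ s, q) from
        (Polynomial.aeval_algHom_apply (Pi.evalAlgHom k Ai i) (e a) _).symm,
      map_prod, Pi.zero_apply]
    exact Finset.prod_eq_zero (Finset.mem_image_of_mem _ (Finset.mem_univ i)) (minpoly.aeval k _)
  · rintro ⟨_, hsep⟩
    have : IsArtinianRing A := IsArtinianRing.of_finite k A
    have : IsReduced A := ⟨fun a ⟨n, hn⟩ => by
      have hd : minpoly k a ∣ Polynomial.X ^ n := minpoly.dvd k a (by simp [hn])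
      have hd' : minpoly k a ∣ Polynomial.X :=
        ((Algebra.IsSeparable.isSeparable k a).squarefree.isRadical) n _ hd
      simpa using Polynomial.aeval_eq_zero_of_dvd_aeval_eq_zero hd' (minpoly.aeval k a)⟩
    let F (m : MaximalSpectrum A) := A ⧸ m.asIdeal
    let (m : MaximalSpectrum A) : Field (F m) := Ideal.Quotient.field m.asIdeal
    have : Algebra.FormallyEtale k A := (Algebra.FormallyEtale.iff_exists_algEquiv_prod k A).mpr
      ⟨MaximalSpectrum A, inferInstance, F, inferInstance, inferInstance,
        (IsArtinianRing.equivPi A).restrictScalars k, fun m => ⟨fun b => ?_⟩⟩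
    · infer_instance
    obtain ⟨a, rfl⟩ := Ideal.Quotient.mk_surjective b
    exact (Algebra.IsSeparable.isSeparable k a).of_dvd (minpoly.dvd k _
      ((Polynomial.aeval_algHom_apply (Ideal.Quotient.mkₐ k m.asIdeal) a _).trans (by simp)))

end Groth.Agent.S4998
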