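import Groth.Statements.S4999
import Groth.Agent.Omega.RankDimGen

set_option autoImplicit false
universe u
open Unram17

namespace Groth.Agent.S4999

/-- Let A be an algebra of finite type over a field k. Then A is smooth over k if and only if the module
of differentials of A over k is projective (locally free) and, at every minimal prime p of A, the
local ring A_p is geometrically reduced over k, which for this Artinian local ring says that A_p is
a field and a separable (not necessarily algebraic) extension of k. -/
theorem result (k A : Type u) [Field k] [CommRing A]
    [Algebra k A] [Algebra.FiniteType k A] :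
    Algebra.Smooth k A ↔
      Module.Projective A (KaehlerDifferential k A) ∧
        ∀ (p : Ideal A) [p.IsPrime], p ∈ minimalPrimes A →
          Algebra.IsGeometricallyReduced k (Localization.AtPrime p) := by
  haveI : Algebra.FinitePresentation k A := Algebra.FinitePresentation.of_finiteType.mp inferInstance
  haveI : IsNoetherianRing A := Algebra.FiniteType.isNoetherianRing k A
  constructor
  · intro h
    refine ⟨inferInstance, fun p _ hp => ?_⟩
    haveI : Algebra.FormallySmooth A (Localization.AtPrime p) :=
      Algebra.FormallySmooth.of_isLocalization p.primeCompl
    haveI : Algebra.FormallySmooth k (Localization.AtPrime p) := Algebra.FormallySmooth.comp k A _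
    exact Groth.Agent.Omega.RankDim.isGeometricallyReduced_atPrime k p hp
  · rintro ⟨hproj, h⟩
    refine ⟨Algebra.smoothLocus_eq_univ_iff.mp (Set.eq_univ_of_forall fun q => ?_), inferInstance⟩
    obtain ⟨p, hp, hpq⟩ := Ideal.exists_minimalPrimes_le (bot_le : (⊥ : Ideal A) ≤ q.asIdeal)
    haveI := hp.1.1
    haveI := h p hp
    obtain ⟨hf, hfs⟩ := Groth.Agent.Omega.RankDim.formallySmooth_atPrime_of_isGeometricallyReduced k p hp
    exact Groth.Agent.Omega.RankDim.formallySmooth_of_generic k q.asIdeal p hp hpq hf

end Groth.Agent.S4999
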