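import Groth.Statements.S5000
import Groth.Agent.Omega.DiffSimple

set_option autoImplicit false
universe u
open Unram17

namespace Groth.Agent.S5000

/-- Let k be a field of characteristic zero, A a k-algebra of finite type and q a prime of A. Then A is
smooth over k at q if and only if the module of differentials of the local ring A_q over k is free. -/
theorem result (k A : Type u) [Field k] [CharZero k] [CommRing A]
    [Algebra k A] [Algebra.FiniteType k A] (q : Ideal A) [q.IsPrime] :
    Algebra.IsSmoothAt k q ↔
      Module.Free (Localization.AtPrime q) (KaehlerDifferential k (Localization.AtPrime q)) := by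
  haveI : IsNoetherianRing A := Algebra.FiniteType.isNoetherianRing k A
  haveI : Algebra.EssFiniteType k (Localization.AtPrime q) :=
    Algebra.EssFiniteType.comp k A _
  constructor
  · intro h
    haveI : Algebra.FormallySmooth k (Localization.AtPrime q) := h
    exact Module.free_of_flat_of_isLocalRing
  · intro h
    show Algebra.FormallySmooth k (Localization.AtPrime q)
    obtain ⟨p, hp, hpq⟩ := Ideal.exists_minimalPrimes_le (bot_le : (⊥ : Ideal A) ≤ q)
    haveI := hp.1.1
    letI : Algebra (Localization.AtPrime q) (Localization.AtPrime p) :=
      (IsLocalization.map (M := q.primeCompl) (T := p.primeCompl) (Localization.AtPrime p) (RingHom.id A)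
        (fun x hx h => hx (hpq h))).toAlgebra
    haveI : IsScalarTower A (Localization.AtPrime q) (Localization.AtPrime p) :=
      IsScalarTower.of_algebraMap_eq fun x => by
        rw [RingHom.algebraMap_toAlgebra, IsLocalization.map_eq]
        rfl
    haveI : IsScalarTower k (Localization.AtPrime q) (Localization.AtPrime p) :=
      IsScalarTower.of_algebraMap_eq fun x => by
        rw [IsScalarTower.algebraMap_apply k A (Localization.AtPrime p),
          IsScalarTower.algebraMap_apply k A (Localization.AtPrime q), ← IsScalarTower.algebraMap_apply A]
    haveI : Algebra.FormallyEtale A (Localization.AtPrime q) :=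
      Algebra.FormallyEtale.of_isLocalization q.primeCompl
    haveI : Algebra.FormallyEtale A (Localization.AtPrime p) :=
      Algebra.FormallyEtale.of_isLocalization p.primeCompl
    haveI : Algebra.FormallyEtale (Localization.AtPrime q) (Localization.AtPrime p) :=
      Algebra.FormallyEtale.of_restrictScalars (R := A)
    haveI : Module.Free (Localization.AtPrime p) (KaehlerDifferential k (Localization.AtPrime p)) :=
      Module.Free.of_equiv (KaehlerDifferential.isBaseChange_of_formallyEtale k (Localization.AtPrime q)
        (Localization.AtPrime p)).equiv
    haveI : Algebra.EssFiniteType k (Localization.AtPrime p) := Algebra.EssFiniteType.comp k A _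
    haveI : IsNoetherianRing (Localization.AtPrime p) := IsLocalization.isNoetherianRing p.primeCompl _ inferInstance
    haveI : Algebra.FormallySmooth k (IsLocalRing.ResidueField (Localization.AtPrime p)) :=
      (Groth.Agent.FieldSep.MacLane.formallySmooth_iff k _).mpr
        (Groth.Agent.FieldSep.MacLane.isGeometricallyReduced_of_charZero _)
    haveI : Ring.KrullDimLE 0 (Localization.AtPrime p) := by
      rw [Ring.krullDimLE_iff, IsLocalization.AtPrime.ringKrullDim_eq_height p,
        Ideal.height_eq_zero_iff.mpr hp]
      rfl
    have hfield : IsField (Localization.AtPrime p) :=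
      Groth.Agent.Omega.DiffSimple.isField_of_free_of_nilpotent k _
        (Ring.KrullDimLE.nilradical_eq_maximalIdeal (Localization.AtPrime p) ▸ IsNoetherianRing.isNilpotent_nilradical _)
    letI : Algebra (Localization.AtPrime q) p.ResidueField :=
      ((algebraMap (Localization.AtPrime p) p.ResidueField).comp
        (algebraMap (Localization.AtPrime q) (Localization.AtPrime p))).toAlgebra
    haveI : IsScalarTower A (Localization.AtPrime q) p.ResidueField :=
      IsScalarTower.of_algebraMap_eq fun x => by
        rw [RingHom.algebraMap_toAlgebra, RingHom.comp_apply, ← IsScalarTower.algebraMap_apply A,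
          ← IsScalarTower.algebraMap_apply A]
    obtain ⟨t, ht⟩ := Groth.Agent.Omega.RankDim.exists_trdeg_eq k p
    haveI : Algebra.FormallySmooth k (Localization.AtPrime p) := by
      let e : Localization.AtPrime p ≃ₐ[k] IsLocalRing.ResidueField (Localization.AtPrime p) :=
        AlgEquiv.ofBijective (IsScalarTower.toAlgHom k _ _) (Groth.Agent.Omega.RankDim.bijective_residue p hfield)
      exact Algebra.FormallySmooth.of_equiv e.symm
    refine Groth.Agent.Omega.RankDim.formallySmooth_of_rank_le k q ?_
    have hrank : Groth.Agent.Omega.RankDim.rank k p = Groth.Agent.Omega.RankDim.rank k q := by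
      rw [Groth.Agent.Omega.RankDim.rank, Groth.Agent.Omega.RankDim.rank,
        ← Groth.Agent.Omega.RankDim.finrank_localized k (Localization.AtPrime q) q,
        ← Groth.Agent.Omega.RankDim.finrank_localized k (Localization.AtPrime q) p]
    rw [← hrank, Groth.Agent.Omega.RankDim.rank_eq_trdeg k p hfield t ht,
      Groth.Agent.CAlgLib.LocalDimSpec.localDim_eq k q, ← Groth.Agent.TrdegDim.ringKrullDim_quotient_eq p t ht]
    exact le_iSup_of_le (⟨p, hp, hpq⟩ : Groth.Agent.CAlgLib.LocalDimSpec.Mins q) le_rfl

end Groth.Agent.S5000
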