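import Groth.Statements.S5001
import Groth.Agent.Omega.EtaleCrit

set_option autoImplicit false
universe u
open Unram17

namespace Groth.Agent.S5001

/-- Let k be a field, A a k-algebra of finite type equipped with a k-algebra map from the polynomial
ring in n variables, with images g_i of the variables, and p a prime of A such that Spec A has local
dimension n at p, the residue field of p is a finite separable extension of k, and every g_i lies in
p. Then A is etale over the polynomial ring at p if and only if the images of the g_i generate the
maximal ideal of the local ring A_p. -/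
theorem result (k A : Type u) [Field k] [CommRing A] [Algebra k A]
    [Algebra.FiniteType k A] (n : ℕ) [Algebra (MvPolynomial (Fin n) k) A]
    [IsScalarTower k (MvPolynomial (Fin n) k) A] (p : Ideal A) [p.IsPrime]
    (hn : FlatMor.localDim (PrimeSpectrum A) ⟨p, inferInstance⟩ = (n : WithBot ℕ∞))
    [Module.Finite k p.ResidueField] [Algebra.IsSeparable k p.ResidueField]
    (hg : ∀ i : Fin n, algebraMap (MvPolynomial (Fin n) k) A (MvPolynomial.X i) ∈ p) :
    Algebra.IsEtaleAt (MvPolynomial (Fin n) k) p ↔
      Ideal.span (Set.range fun i : Fin n =>
        algebraMap A (Localization.AtPrime p) (algebraMap (MvPolynomial (Fin n) k) A (MvPolynomial.X i))) =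
        IsLocalRing.maximalIdeal (Localization.AtPrime p) := by
  haveI : IsNoetherianRing A := Algebra.FiniteType.isNoetherianRing k A
  have ht : Algebra.trdeg k p.ResidueField = ((0 : ℕ) : Cardinal) := by
    rw [trdeg_eq_zero (R := k) (A := p.ResidueField), Nat.cast_zero]
  have hr : ringKrullDim (Localization.AtPrime p) = (n : WithBot ℕ∞) := by
    rw [Groth.Agent.CAlgLib.LocalDimSpec.localDim_eq_add_trdeg k p 0 ht] at hn
    simpa using hn
  have hset : {i : Fin n | (i : ℕ) < n} = Set.univ := Set.eq_univ_of_forall fun i => i.2
  constructor
  · intro h
    have := (Groth.Agent.Omega.EtaleCrit.of_isEtaleAt k p n n hr le_rfl fun i _ => hg i).1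
    rwa [hset, Set.image_univ] at this
  · intro h
    haveI : Algebra.EssFiniteType k p.ResidueField := Algebra.EssFiniteType.comp k A _
    have h2 : Submodule.span p.ResidueField ((fun i : Fin n =>
        KaehlerDifferential.D k p.ResidueField (IsLocalRing.residue (Localization.AtPrime p)
          (algebraMap A (Localization.AtPrime p) (algebraMap (MvPolynomial (Fin n) k) A (MvPolynomial.X i))))) ''
          {i : Fin n | n ≤ (i : ℕ)}) = ⊤ := by
      haveI : Algebra.FormallyUnramified k p.ResidueField :=
        (Algebra.FormallyUnramified.iff_isSeparable k p.ResidueField).mpr inferInstance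
      exact Subsingleton.elim _ _
    obtain ⟨hfs, hrank, hspan⟩ := Groth.Agent.Omega.EtaleCrit.formallySmooth_and_span k p n n
      (fun i : Fin n => algebraMap A (Localization.AtPrime p)
        (algebraMap (MvPolynomial (Fin n) k) A (MvPolynomial.X i))) hn (by rw [hset, Set.image_univ]; exact h) h2
    exact Groth.Agent.Omega.EtaleCrit.isEtaleAt_of_span k p n hrank hspan

end Groth.Agent.S5001
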