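import Groth.Statements.S5006
-- import your own Groth.Agent.* helpers here

set_option autoImplicit false
universe u
open Nrm16

namespace Groth.Agent.S5006

/-- Let A be a commutative ring, I a finitely generated ideal and p a prime ideal containing I. Then
some basic open neighbourhood of p in Spec A is contained in the closed set V(I) (so that V(I) ⟶
Spec A is a local homeomorphism onto an open set near p) if and only if there is an integer n > 0
with I^n A_p = I^(n+1) A_p in the local ring at p. Affine form. -/
theorem result (A : Type u) [CommRing A] (I : Ideal A) (hI : I.FG)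
    (p : Ideal A) [p.IsPrime] (hp : I ≤ p) :
    (∃ f : A, f ∉ p ∧ ∀ q : Ideal A, q.IsPrime → f ∉ q → I ≤ q) ↔
      ∃ n : ℕ, 0 < n ∧
        (I ^ n).map (algebraMap A (Localization.AtPrime p)) =
          (I ^ (n + 1)).map (algebraMap A (Localization.AtPrime p)) := by
  constructor
  · rintro ⟨f, hf, h⟩
    have hunit : IsUnit (algebraMap A (Localization.AtPrime p) f) :=
      IsLocalization.map_units _ (⟨f, hf⟩ : p.primeCompl)
    have hnil : I.map (algebraMap A (Localization.AtPrime p)) ≤ nilradical (Localization.AtPrime p) := by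
      rw [nilradical_eq_sInf]
      refine le_sInf fun q (hq : q.IsPrime) => Ideal.map_le_iff_le_comap.mpr ?_
      exact h _ (Ideal.comap_isPrime _ q) fun hfq => hq.ne_top (Ideal.eq_top_of_isUnit_mem _ hfq hunit)
    obtain ⟨n, hn⟩ := Ideal.exists_pow_le_of_le_radical_of_fg
      (I := I.map (algebraMap A (Localization.AtPrime p))) (J := ⊥) hnil (hI.map _)
    refine ⟨n + 1, n.succ_pos, ?_⟩
    have h0 : (I.map (algebraMap A (Localization.AtPrime p))) ^ n = ⊥ := le_bot_iff.mp hn
    rw [Ideal.map_pow, Ideal.map_pow, pow_succ, pow_succ (n := n + 1), pow_succ, h0]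
    simp
  · rintro ⟨n, _, hn⟩
    let m : A →+* Localization.AtPrime p := algebraMap A _
    have hfg : ((I ^ n).map m).FG := (Ideal.FG.pow hI).map _
    have h0 : (I ^ n).map m = ⊥ := by
      refine Submodule.eq_bot_of_le_smul_of_le_jacobson_bot (I.map m) _ hfg ?_ ?_
      · rw [smul_eq_mul, ← Ideal.map_mul, ← pow_succ']
        exact hn.le
      · rw [IsLocalRing.jacobson_eq_maximalIdeal _ bot_ne_top]
        refine Ideal.map_le_iff_le_comap.mpr fun a ha => ?_
        exact (IsLocalization.AtPrime.to_map_mem_maximal_iff _ p a).mpr (hp ha)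
    obtain ⟨s, hs⟩ := Ideal.FG.pow hI (n := n)
    have hx : ∀ x : (s : Set A), ∃ t : p.primeCompl, (t : A) * x = 0 := fun x => by
      refine (IsLocalization.map_eq_zero_iff p.primeCompl (Localization.AtPrime p) _).mp ?_
      exact (Submodule.mem_bot (R := Localization.AtPrime p)).mp
        (h0 ▸ Ideal.mem_map_of_mem m (hs ▸ Submodule.subset_span x.2))
    choose t ht using hx
    refine ⟨∏ x, (t x : A), by simpa using (∏ x, t x).2, fun q hq hfq => ?_⟩
    have hle : I ^ n ≤ q := by
      rw [← hs, Submodule.span_le]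
      intro x hx
      have hmem : (t ⟨x, hx⟩ : A) * x ∈ q := by rw [ht ⟨x, hx⟩]; exact q.zero_mem
      exact (hq.mem_or_mem hmem).resolve_left fun h' =>
        hfq (q.mem_of_dvd (Finset.dvd_prod_of_mem _ (Finset.mem_univ ⟨x, hx⟩)) h')
    exact Ideal.IsPrime.le_of_pow_le hle

end Groth.Agent.S5006
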