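import Groth.Statements.S5007
import Groth.Agent.Omega.UnramBC

set_option autoImplicit false
universe u
open CategoryTheory CategoryTheory.Limits AlgebraicGeometry TopologicalSpace
open Unram17

namespace Groth.Agent.S5007

/-- Let g : Y ⟶ S and h : X ⟶ S be locally of finite presentation and f : X ⟶ Y a morphism over S. Then
f is (formally) unramified if and only if for every point s of S the base change of f along the
fibre Y_s ⟶ Y, which is the fibre map X_s ⟶ Y_s, is (formally) unramified. -/
theorem result {X Y S : Scheme.{u}} (g : Y ⟶ S) (h : X ⟶ S)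
    [LocallyOfFinitePresentation g] [LocallyOfFinitePresentation h] (f : X ⟶ Y) (w : f ≫ g = h) :
    FormallyUnramified f ↔ ∀ s : ↥S, FormallyUnramified (pullback.snd f (g.fiberι s)) := by
  subst w
  have : LocallyOfFiniteType f := locallyOfFiniteType_of_comp f g
  refine ⟨fun _ s => MorphismProperty.pullback_snd _ _ ‹_›, fun H => ?_⟩
  refine IsZariskiLocalAtSource.of_iSup_eq_top (P := @FormallyUnramified)
    (fun U : {U : X.Opens // FormallyUnramified (U.ι ≫ f)} => U.1)
    (top_le_iff.mp fun x _ => ?_) fun U => U.2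
  obtain ⟨U, hx, hU⟩ := Groth.Agent.Omega.UnramBC.exists_nhd_of_isPullback f
    (IsPullback.of_hasPullback f (g.fiberι (g (f x)))) x
    (Groth.Agent.Omega.UnramBC.toFiber g (f x) _ rfl)
    (Groth.Agent.Omega.UnramBC.toFiber_fiberι g (f x) _ rfl) ⊤ (fun _ _ => trivial)
    (MorphismProperty.comp_mem _ _ _ inferInstance (H (g (f x))))
  exact TopologicalSpace.Opens.mem_iSup.mpr ⟨⟨U, hU⟩, hx⟩

end Groth.Agent.S5007
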