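import Groth.Statements.S5008
import Mathlib
-- import your own Groth.Agent.* helpers here

set_option autoImplicit false
universe u
open CategoryTheory CategoryTheory.Limits AlgebraicGeometry TopologicalSpace
open Unram17

namespace Groth.Agent.S5008

theorem range_subset {X : Scheme.{u}} {B : Type u} [CommRing B] [IsLocalRing B]
    (γ : Spec (CommRingCat.of B) ⟶ X) (U : X.Opens) (h : γ.base (IsLocalRing.closedPoint B) ∈ U) :
    Set.range γ ⊆ (U : Set X) := by
  rintro _ ⟨w, rfl⟩
  exact ((IsLocalRing.specializes_closedPoint w).map γ.continuous).mem_open U.2 h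

theorem exists_ringHom {X : Scheme.{u}} {U : X.Opens} (hU : IsAffineOpen U) {B : Type u} [CommRing B]
    [IsLocalRing B] (γ : Spec (CommRingCat.of B) ⟶ X) (h : γ.base (IsLocalRing.closedPoint B) ∈ U) :
    ∃ g : Γ(X, U) →+* B, Spec.map (CommRingCat.ofHom g) ≫ hU.fromSpec = γ := by
  refine ⟨(Spec.preimage (IsOpenImmersion.lift hU.fromSpec γ ?_)).hom, ?_⟩
  · rw [hU.range_fromSpec]; exact range_subset γ U h
  · rw [CommRingCat.ofHom_hom, Spec.map_preimage, IsOpenImmersion.lift_fac]

theorem comp_eq_iff {X : Scheme.{u}} {U : X.Opens} (hU : IsAffineOpen U) {B : Type u} [CommRing B]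
    (g₁ g₂ : Γ(X, U) →+* B) :
    Spec.map (CommRingCat.ofHom g₁) ≫ hU.fromSpec = Spec.map (CommRingCat.ofHom g₂) ≫ hU.fromSpec ↔ g₁ = g₂ := by
  refine ⟨fun h => ?_, fun h => h ▸ rfl⟩
  exact congrArg CommRingCat.Hom.hom (Spec.map_injective ((cancel_mono _).mp h))

theorem map_comp {A B C : Type u} [CommRing A] [CommRing B] [CommRing C] (g : A →+* B) (h : B →+* C) :
    Spec.map (CommRingCat.ofHom (h.comp g)) =
      Spec.map (CommRingCat.ofHom h) ≫ Spec.map (CommRingCat.ofHom g) := by
  rw [CommRingCat.ofHom_comp, Spec.map_comp]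

theorem comp_appLE {X Y : Scheme.{u}} (f : X ⟶ Y) {V : Y.Opens} (hV : IsAffineOpen V) {U : X.Opens}
    (hU : IsAffineOpen U) (e : U ≤ f ⁻¹ᵁ V) {B : Type u} [CommRing B] (g : Γ(X, U) →+* B) :
    Spec.map (CommRingCat.ofHom g) ≫ hU.fromSpec ≫ f =
      Spec.map (CommRingCat.ofHom (g.comp (f.appLE V U e).hom)) ≫ hV.fromSpec := by
  rw [map_comp, CommRingCat.ofHom_hom, Category.assoc, hV.SpecMap_appLE_fromSpec f hU e]

theorem isLocalHom_of_sq {A B : Type u} [CommRing A] [CommRing B] (φ : A →+* B) (hφ : Function.Surjective φ)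
    (hsq : RingHom.ker φ ^ 2 = ⊥) : IsLocalHom φ := ⟨fun a ha => by
  obtain ⟨b, hb⟩ := hφ ↑ha.unit⁻¹
  have h0 : 1 - a * b ∈ RingHom.ker φ := by
    rw [RingHom.mem_ker, map_sub, map_one, map_mul, hb, IsUnit.mul_val_inv, sub_self]
  have h1 : (1 - a * b) ^ 2 = 0 := by
    rw [← Ideal.mem_bot, ← hsq]; exact Ideal.pow_mem_pow h0 2
  have h2 : IsUnit (1 - (1 - a * b)) := IsNilpotent.isUnit_one_sub ⟨2, h1⟩
  rw [sub_sub_cancel] at h2
  exact isUnit_of_mul_isUnit_left h2⟩

theorem base_comap {X : Scheme.{u}} {B B' : Type u} [CommRing B] [CommRing B'] [IsLocalRing B] [IsLocalRing B']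
    (φ : B' →+* B) [IsLocalHom φ] (γ : Spec (CommRingCat.of B') ⟶ X) :
    γ.base (IsLocalRing.closedPoint B') =
      (Spec.map (CommRingCat.ofHom φ) ≫ γ).base (IsLocalRing.closedPoint B) :=
  congrArg γ.base (IsLocalRing.comap_closedPoint φ).symm

theorem sq_ker {R P A : Type u} [CommRing R] [CommRing P] [CommRing A] [Algebra R P] [Algebra R A]
    (ψ : P →ₐ[R] A) : RingHom.ker ψ.kerSquareLift.toRingHom ^ 2 = ⊥ := by
  have h := Ideal.cotangentIdeal_square (RingHom.ker ψ.toRingHom)
  rw [← AlgHom.ker_kerSquareLift] at h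
  exact h

/-- Formal smoothness of a local ring of a finite type algebra by lifting against local thickenings. -/
theorem formallySmooth_of_lift {A C : Type u} [CommRing A] [CommRing C] [Algebra A C]
    [Algebra.FiniteType A C] (q : Ideal C) [q.IsPrime] (S : Type u) [CommRing S] [IsLocalRing S]
    [Algebra A S] [Algebra C S] [IsScalarTower A C S] [IsLocalization q.primeCompl S]
    (H : ∀ (B' : Type u) [CommRing B'] [Algebra A B'] [IsLocalRing B'] (φ : B' →ₐ[A] S),
      Function.Surjective φ → RingHom.ker φ.toRingHom ^ 2 = ⊥ →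
      ∃ c : C →ₐ[A] B', φ.comp c = IsScalarTower.toAlgHom A C S) :
    Algebra.FormallySmooth A S := by
  obtain ⟨n, π, hπ⟩ := Algebra.FiniteType.iff_quotient_mvPolynomial''.mp ‹Algebra.FiniteType A C›
  let q' := q.comap π.toRingHom
  haveI : Algebra.FormallySmooth A (Localization.AtPrime q') := by
    haveI : Algebra.FormallySmooth (MvPolynomial (Fin n) A) (Localization.AtPrime q') :=
      Algebra.FormallySmooth.of_isLocalization q'.primeCompl
    exact Algebra.FormallySmooth.comp A (MvPolynomial (Fin n) A) _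
  let ψ : Localization.AtPrime q' →ₐ[A] S :=
    IsLocalization.liftAlgHom (M := q'.primeCompl)
      (f := (IsScalarTower.toAlgHom A C S).comp π) fun y =>
        IsLocalization.map_units S (⟨π y, y.2⟩ : q.primeCompl)
  have hψe : ∀ m, ψ (algebraMap _ _ m) = algebraMap _ _ (π m) := fun m => IsLocalization.lift_eq _ m
  have hψ : Function.Surjective ψ := fun z => by
    obtain ⟨c, ⟨t, ht⟩, rfl⟩ := IsLocalization.exists_mk'_eq q.primeCompl z
    obtain ⟨c, rfl⟩ := hπ c
    obtain ⟨t, rfl⟩ := hπ t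
    refine ⟨IsLocalization.mk' _ c (⟨t, ht⟩ : q'.primeCompl), ?_⟩
    rw [IsLocalization.eq_mk'_iff_mul_eq]
    show ψ _ * algebraMap _ _ (π t) = algebraMap _ _ (π c)
    rw [← hψe, ← hψe, ← map_mul]
    exact congrArg ψ (IsLocalization.mk'_spec _ c (⟨t, ht⟩ : q'.primeCompl))
  refine (Algebra.FormallySmooth.iff_split_surjection ψ hψ).mpr ?_
  let φ := ψ.kerSquareLift
  have hφ : Function.Surjective φ := Ideal.Quotient.lift_surjective_of_surjective _ _ hψ
  have hsq := sq_ker ψ
  haveI : IsLocalHom φ.toRingHom := isLocalHom_of_sq _ hφ hsq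
  haveI := φ.toRingHom.domain_isLocalRing
  obtain ⟨c, hc⟩ := H _ φ hφ hsq
  have hu : ∀ y : q.primeCompl, IsUnit (c y) := fun y => by
    refine IsUnit.of_map φ.toRingHom _ ?_
    rw [show φ.toRingHom (c y) = algebraMap C S y from DFunLike.congr_fun hc _]
    exact IsLocalization.map_units S y
  refine ⟨IsLocalization.liftAlgHom (M := q.primeCompl) (f := c) hu, AlgHom.coe_ringHom_injective ?_⟩
  refine IsLocalization.ringHom_ext q.primeCompl (RingHom.ext fun r => ?_)
  exact (congrArg φ (IsLocalization.lift_eq _ r)).trans (DFunLike.congr_fun hc r)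

/-- Let f : X ⟶ Y be locally of finite presentation and x a point of X. Then f is smooth at x if and
only if for every surjection of local rings B' → B with square-zero kernel, every morphism Spec B ⟶
X sending the closed point to x and every morphism Spec B' ⟶ Y making the square commute, there is a
lift Spec B' ⟶ X compatible with both. (No Noetherian hypothesis on Y.) -/
theorem result {X Y : Scheme.{u}} (f : X ⟶ Y)
    [LocallyOfFinitePresentation f] (x : ↥X) :
    x ∈ f.smoothLocus ↔ ∀ (B B' : Type u) [CommRing B] [CommRing B'] [IsLocalRing B] [IsLocalRing B'] (φ : B' →+* B),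
      Function.Surjective φ → RingHom.ker φ ^ 2 = ⊥ →
      ∀ (α : Spec (CommRingCat.of B) ⟶ X) (β : Spec (CommRingCat.of B') ⟶ Y),
        α.base (IsLocalRing.closedPoint B) = x → Spec.map (CommRingCat.ofHom φ) ≫ β = α ≫ f →
        ∃ γ : Spec (CommRingCat.of B') ⟶ X, Spec.map (CommRingCat.ofHom φ) ≫ γ = α ∧ γ ≫ f = β := by
  constructor
  · intro hx B B' _ _ _ _ φ hφ hsq α β hα hcomm
    haveI : IsLocalHom φ := .of_surjective φ hφ
    obtain ⟨V, hV, U, hU, e, hxU, hs⟩ := exists_smooth_of_formallySmooth_stalk f x hx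
    algebraize [(f.appLE V U e).hom]
    haveI : Algebra.FormallySmooth Γ(Y, V) Γ(X, U) :=
      (RingHom.smooth_algebraMap.mp hs).formallySmooth
    obtain ⟨a, ha⟩ := exists_ringHom hU α (hα ▸ hxU)
    obtain ⟨b, hb⟩ := exists_ringHom hV β (by
      rw [base_comap φ, hcomm]
      show f (α.base (IsLocalRing.closedPoint B)) ∈ V
      rw [hα]
      exact e hxU)
    have hab : φ.comp b = a.comp (f.appLE V U e).hom := by
      rw [← comp_eq_iff hV, map_comp, Category.assoc, hb, hcomm, ← comp_appLE f hV hU e, ← ha, Category.assoc]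
    letI := b.toAlgebra
    letI := (φ.comp b).toAlgebra
    let φ' : B' →ₐ[Γ(Y, V)] B := AlgHom.mk φ fun _ => rfl
    let a' : Γ(X, U) →ₐ[Γ(Y, V)] B := AlgHom.mk a fun r => (DFunLike.congr_fun hab r).symm
    have hnil : IsNilpotent (RingHom.ker (φ' : B' →+* B)) := ⟨2, hsq⟩
    let c := Algebra.FormallySmooth.liftOfSurjective a' φ' hφ hnil
    refine ⟨Spec.map (CommRingCat.ofHom c.toRingHom) ≫ hU.fromSpec, ?_, ?_⟩
    · rw [← Category.assoc, ← map_comp, ← ha]
      exact (comp_eq_iff hU _ _).mpr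
        (congrArg AlgHom.toRingHom (Algebra.FormallySmooth.comp_liftOfSurjective a' φ' hφ hnil))
    · rw [Category.assoc, comp_appLE f hV hU e, ← hb]
      exact (comp_eq_iff hV _ _).mpr c.comp_algebraMap
  · intro H
    obtain ⟨_, ⟨V, hV, rfl⟩, hxV, -⟩ :=
      Y.isBasis_affineOpens.exists_subset_of_mem_open (Set.mem_univ (f x)) isOpen_univ
    obtain ⟨_, ⟨U, hU, rfl⟩, hxU, e⟩ :=
      X.isBasis_affineOpens.exists_subset_of_mem_open hxV (V.2.preimage f.continuous)
    have := f.finitePresentation_appLE hV hU e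
    algebraize [(f.appLE V U e).hom]
    refine (formallySmooth_stalkMap_iff V hV U hU e hxU).mpr ?_
    let q := (hU.primeIdealOf ⟨x, hxU⟩).asIdeal
    letI : Algebra Γ(X, U) (X.presheaf.stalk x) := X.presheaf.algebra_section_stalk (⟨x, hxU⟩ : U)
    haveI : IsLocalization.AtPrime (X.presheaf.stalk x) q := hU.isLocalization_stalk ⟨x, hxU⟩
    letI : Algebra Γ(Y, V) (X.presheaf.stalk x) :=
      ((algebraMap Γ(X, U) (X.presheaf.stalk x)).comp (f.appLE V U e).hom).toAlgebra
    haveI : IsScalarTower Γ(Y, V) Γ(X, U) (X.presheaf.stalk x) := IsScalarTower.of_algebraMap_eq fun _ => rfl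
    suffices Algebra.FormallySmooth Γ(Y, V) (X.presheaf.stalk x) from
      Algebra.FormallySmooth.of_equiv ((IsLocalization.algEquiv q.primeCompl (X.presheaf.stalk x)
        (Localization.AtPrime q)).restrictScalars Γ(Y, V))
    haveI : IsLocalization q.primeCompl (X.presheaf.stalk x) := hU.isLocalization_stalk ⟨x, hxU⟩
    refine formallySmooth_of_lift q (X.presheaf.stalk x) fun B' _ _ _ φ hφ hsq => ?_
    let g : Γ(X, U) →+* X.presheaf.stalk x := algebraMap _ _
    have hα : (X.fromSpecStalk x : Spec (CommRingCat.of (X.presheaf.stalk x)) ⟶ X) =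
        Spec.map (CommRingCat.ofHom g) ≫ hU.fromSpec :=
      (hU.fromSpecStalk_eq_fromSpecStalk hxU).symm
    haveI : IsLocalHom φ.toRingHom := .of_surjective _ hφ
    have hcomm : Spec.map (CommRingCat.ofHom φ.toRingHom) ≫
        Spec.map (CommRingCat.ofHom (algebraMap Γ(Y, V) B')) ≫ hV.fromSpec = X.fromSpecStalk x ≫ f := by
      rw [hα, ← Category.assoc, ← map_comp, Category.assoc, comp_appLE f hV hU e]
      exact (comp_eq_iff hV _ _).mpr φ.comp_algebraMap
    obtain ⟨γ, hγ₁, hγ₂⟩ := H (X.presheaf.stalk x) B' φ.toRingHom hφ hsq (X.fromSpecStalk x) _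
      Scheme.fromSpecStalk_closedPoint hcomm
    obtain ⟨c, rfl⟩ := exists_ringHom hU γ (by
      rw [base_comap φ.toRingHom, hγ₁]
      exact (Scheme.fromSpecStalk_closedPoint (X := X) (x := x)).symm ▸ hxU)
    rw [hα, ← Category.assoc, ← map_comp, comp_eq_iff hU] at hγ₁
    rw [Category.assoc, comp_appLE f hV hU e, comp_eq_iff hV] at hγ₂
    exact ⟨AlgHom.mk c (DFunLike.congr_fun hγ₂), AlgHom.coe_ringHom_injective hγ₁⟩

end Groth.Agent.S5008
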