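import Groth.Statements.S5009
import Groth.Agent.EtStruct.Scheme
import Mathlib.RingTheory.Kaehler.Basic

set_option autoImplicit false
universe u
open CategoryTheory CategoryTheory.Limits AlgebraicGeometry TopologicalSpace
open Unram17

namespace Groth.Agent.S5009

/-- Let f : X ⟶ Y be locally of finite presentation and x a point of X. Then f is (formally) unramified
on an open neighbourhood of x if and only if for every surjection of local rings B' → B with
square-zero kernel, every morphism Spec B ⟶ X sending the closed point to x and every morphism Spec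
B' ⟶ Y making the square commute, any two lifts Spec B' ⟶ X compatible with both are equal. -/
theorem result {X Y : Scheme.{u}} (f : X ⟶ Y)
    [LocallyOfFinitePresentation f] (x : ↥X) :
    (∃ U : X.Opens, x ∈ U ∧ FormallyUnramified (U.ι ≫ f)) ↔
      ∀ (B B' : Type u) [CommRing B] [CommRing B'] [IsLocalRing B] [IsLocalRing B'] (φ : B' →+* B),
      Function.Surjective φ → RingHom.ker φ ^ 2 = ⊥ →
      ∀ (α : Spec (CommRingCat.of B) ⟶ X) (β : Spec (CommRingCat.of B') ⟶ Y),
        α.base (IsLocalRing.closedPoint B) = x → Spec.map (CommRingCat.ofHom φ) ≫ β = α ≫ f →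
        ∀ γ₁ γ₂ : Spec (CommRingCat.of B') ⟶ X,
          Spec.map (CommRingCat.ofHom φ) ≫ γ₁ = α → γ₁ ≫ f = β →
          Spec.map (CommRingCat.ofHom φ) ≫ γ₂ = α → γ₂ ≫ f = β → γ₁ = γ₂ := by
  constructor
  · rintro ⟨U, hx, hU⟩ B B' _ _ _ _ φ hφ _ α β hα - γ₁ γ₂ h₁ e₁ h₂ e₂
    have hloc : IsLocalHom φ := .of_surjective φ hφ
    have hc : ∀ γ : Spec (CommRingCat.of B') ⟶ X, Spec.map (CommRingCat.ofHom φ) ≫ γ = α →
        Set.range γ ⊆ Set.range U.ι := by
      intro γ hγ
      rw [Scheme.Opens.range_ι]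
      rintro _ ⟨w, rfl⟩
      refine ((IsLocalRing.specializes_closedPoint w).map γ.continuous).mem_open U.2 ?_
      rwa [← IsLocalRing.comap_closedPoint φ,
        show γ (PrimeSpectrum.comap φ (IsLocalRing.closedPoint B)) = x from
          (congr($hγ (IsLocalRing.closedPoint B))).trans hα]
    let l₁ := IsOpenImmersion.lift U.ι γ₁ (hc γ₁ h₁)
    let l₂ := IsOpenImmersion.lift U.ι γ₂ (hc γ₂ h₂)
    have hl : l₁ ≫ U.ι ≫ f = l₂ ≫ U.ι ≫ f := by
      rw [IsOpenImmersion.lift_fac_assoc, IsOpenImmersion.lift_fac_assoc, e₁, e₂]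
    let δ := pullback.lift l₁ l₂ hl
    have hφl : Spec.map (CommRingCat.ofHom φ) ≫ l₁ = Spec.map (CommRingCat.ofHom φ) ≫ l₂ := by
      rw [← cancel_mono U.ι, Category.assoc, Category.assoc, IsOpenImmersion.lift_fac,
        IsOpenImmersion.lift_fac, h₁, h₂]
    have hδ : Spec.map (CommRingCat.ofHom φ) ≫ δ =
        (Spec.map (CommRingCat.ofHom φ) ≫ l₁) ≫ pullback.diagonal (U.ι ≫ f) :=
      pullback.hom_ext (by simp [δ, pullback.lift_fst])
        (by simp only [δ, Category.assoc, pullback.lift_snd, pullback.diagonal_snd, Category.comp_id]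
            exact hφl.symm)
    have hrange : Set.range δ ⊆ Set.range (pullback.diagonal (U.ι ≫ f)) := by
      rintro _ ⟨w, rfl⟩
      refine ((IsLocalRing.specializes_closedPoint w).map δ.continuous).mem_open
        (pullback.diagonal (U.ι ≫ f)).isOpenEmbedding.isOpen_range ?_
      rw [← IsLocalRing.comap_closedPoint φ]
      exact ⟨_, (congr($hδ (IsLocalRing.closedPoint B))).symm⟩
    have hd : l₁ = l₂ := by
      have he := IsOpenImmersion.lift_fac (pullback.diagonal (U.ι ≫ f)) δ hrange
      have h3 := congrArg (fun k => k ≫ Limits.pullback.fst (U.ι ≫ f) (U.ι ≫ f)) he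
      have h4 := congrArg (fun k => k ≫ Limits.pullback.snd (U.ι ≫ f) (U.ι ≫ f)) he
      simp only [δ, Category.assoc, pullback.lift_fst, pullback.lift_snd, pullback.diagonal_fst,
        pullback.diagonal_snd, Category.comp_id] at h3 h4
      exact h3.symm.trans h4
    rw [← IsOpenImmersion.lift_fac U.ι γ₁ (hc γ₁ h₁), ← IsOpenImmersion.lift_fac U.ι γ₂ (hc γ₂ h₂)]
    exact congrArg (· ≫ U.ι) hd
  · intro H
    refine (Groth.Agent.EtStruct.formallyUnramified_nhd_iff f x).mpr ?_
    algebraize [(f.stalkMap x).hom]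
    let R := Y.presheaf.stalk (f x)
    let S := X.presheaf.stalk x
    let I := KaehlerDifferential.ideal R S
    let B' := TensorProduct R S S ⧸ I ^ 2
    let φ : B' →+* S := Ideal.Quotient.lift (I ^ 2) (Algebra.TensorProduct.lmul' R).toRingHom
      fun a ha => (Ideal.pow_le_self two_ne_zero ha : a ∈ I)
    let i₁ : S →+* B' := (Ideal.Quotient.mk (I ^ 2)).comp Algebra.TensorProduct.includeLeftRingHom
    let i₂ : S →+* B' := (Ideal.Quotient.mk (I ^ 2)).comp
      (Algebra.TensorProduct.includeRight : S →ₐ[R] _).toRingHom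
    have hi₁ : φ.comp i₁ = RingHom.id S := by ext s; exact (Algebra.TensorProduct.lmul'_apply_tmul (R := R) s 1).trans (mul_one s)
    have hi₂ : φ.comp i₂ = RingHom.id S := by ext s; exact (Algebra.TensorProduct.lmul'_apply_tmul (R := R) 1 s).trans (one_mul s)
    have hφ : Function.Surjective φ := fun s => ⟨i₁ s, congr($hi₁ s)⟩
    have hker : RingHom.ker φ = I.map (Ideal.Quotient.mk (I ^ 2)) := by
      ext b
      obtain ⟨b, rfl⟩ := Ideal.Quotient.mk_surjective b
      refine ⟨fun h => Ideal.mem_map_of_mem _ h, fun h => ?_⟩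
      obtain ⟨a, ha, hab⟩ := (Ideal.mem_map_iff_of_surjective _ Ideal.Quotient.mk_surjective).mp h
      rw [RingHom.mem_ker, ← hab]
      exact ha
    have hsq : RingHom.ker φ ^ 2 = ⊥ := by
      rw [hker, ← Ideal.map_pow, Ideal.map_quotient_self]
    have hloc : IsLocalHom φ := ⟨fun a ha => by
      obtain ⟨b, hb⟩ := hφ ↑ha.unit⁻¹
      have h0 : 1 - a * b ∈ RingHom.ker φ := by
        rw [RingHom.mem_ker, map_sub, map_one, map_mul, hb, IsUnit.mul_val_inv, sub_self]
      have h1 : (1 - a * b) ^ 2 = 0 := by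
        rw [← Ideal.mem_bot, ← hsq]; exact Ideal.pow_mem_pow h0 2
      have h2 : IsUnit (1 - (1 - a * b)) := IsNilpotent.isUnit_one_sub ⟨2, h1⟩
      rw [sub_sub_cancel] at h2
      exact isUnit_of_mul_isUnit_left h2⟩
    have : IsLocalRing B' := φ.domain_isLocalRing
    let β : Spec (CommRingCat.of B') ⟶ Y :=
      Spec.map (CommRingCat.ofHom (i₁.comp (algebraMap R S))) ≫ Y.fromSpecStalk (f x)
    let γ (i : S →+* B') : Spec (CommRingCat.of B') ⟶ X :=
      Spec.map (CommRingCat.ofHom i) ≫ X.fromSpecStalk x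
    have hγ : ∀ i : S →+* B', γ i ≫ f =
        Spec.map (CommRingCat.ofHom (i.comp (algebraMap R S))) ≫ Y.fromSpecStalk (f x) := fun i => by
      rw [Category.assoc, ← Scheme.SpecMap_stalkMap_fromSpecStalk, ← Spec.map_comp_assoc]
      rfl
    have hsec : ∀ i : S →+* B', φ.comp i = RingHom.id S →
        Spec.map (CommRingCat.ofHom φ) ≫ γ i = X.fromSpecStalk x := fun i hi => by
      rw [← Spec.map_comp_assoc, ← CommRingCat.ofHom_comp, hi]
      exact (congrArg (· ≫ _) (Spec.map_id _)).trans (Category.id_comp _)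
    have h12 : i₂.comp (algebraMap R S) = i₁.comp (algebraMap R S) := by
      ext r
      exact congrArg (Ideal.Quotient.mk (I ^ 2))
        (((Algebra.TensorProduct.includeRight : S →ₐ[R] TensorProduct R S S).commutes r).trans
          ((Algebra.TensorProduct.includeLeft : S →ₐ[R] TensorProduct R S S).commutes r).symm)
    have heq := H S B' φ hφ hsq (X.fromSpecStalk x) β Scheme.fromSpecStalk_closedPoint
      (by rw [← hsec i₁ hi₁, Category.assoc, hγ]) (γ i₁) (γ i₂) (hsec i₁ hi₁) (hγ i₁)
      (hsec i₂ hi₂) ((hγ i₂).trans (by rw [h12]))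
    have hii : i₁ = i₂ := congrArg CommRingCat.Hom.hom (Spec.map_injective ((cancel_mono _).mp heq))
    have hD : ∀ s : S, KaehlerDifferential.D R S s = 0 := fun s => by
      rw [KaehlerDifferential.D_apply]
      exact (Ideal.toCotangent_eq_zero _ _).mpr ((Ideal.Quotient.eq (I := I ^ 2)).mp congr($hii.symm s))
    refine ⟨subsingleton_of_forall_eq 0 fun m => ?_⟩
    have hm := (KaehlerDifferential.span_range_derivation R S).ge (Submodule.mem_top (x := m))
    rw [show Set.range (KaehlerDifferential.D R S) = {0} from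
      Set.Subset.antisymm (Set.range_subset_iff.mpr hD) (by simpa using ⟨0, hD 0⟩)] at hm
    simpa using hm

end Groth.Agent.S5009
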