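import Groth.Statements.S5011
import Groth.Agent.EtStruct.Scheme
import Mathlib
-- import your own Groth.Agent.* helpers here

set_option autoImplicit false
universe u
open CategoryTheory CategoryTheory.Limits AlgebraicGeometry TopologicalSpace
open Unram17

namespace Groth.Agent.S5011

theorem core {A B : Type u} [CommRing A] [CommRing B] [IsLocalRing A] [IsLocalRing B] [Algebra A B]
    [IsLocalHom (algebraMap A B)] [Algebra.EssFiniteType A B] :
    Algebra.FormallyUnramified A B ↔
      letI 𝔪 := IsLocalRing.maximalIdeal A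
      letI := (Ideal.quotientMap (𝔪.map (algebraMap A B)) (algebraMap A B) Ideal.le_comap_map).toAlgebra
      IsField (B ⧸ 𝔪.map (algebraMap A B)) ∧
        Module.Finite (A ⧸ 𝔪) (B ⧸ 𝔪.map (algebraMap A B)) ∧
        Algebra.IsSeparable (A ⧸ 𝔪) (B ⧸ 𝔪.map (algebraMap A B)) := by
  let 𝔪 := IsLocalRing.maximalIdeal A
  letI := (Ideal.quotientMap (𝔪.map (algebraMap A B)) (algebraMap A B) Ideal.le_comap_map).toAlgebra
  letI : Field (A ⧸ 𝔪) := Ideal.Quotient.field 𝔪
  haveI : IsScalarTower A (A ⧸ 𝔪) (B ⧸ 𝔪.map (algebraMap A B)) := IsScalarTower.of_algebraMap_eq fun _ => rfl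
  constructor
  · intro hfu
    have hf := Algebra.FormallyUnramified.isField_quotient_map_maximalIdeal (R := A) (S := B)
    letI := hf.toField
    haveI : Algebra.FormallyUnramified (A ⧸ 𝔪) (B ⧸ 𝔪.map (algebraMap A B)) :=
      Algebra.FormallyUnramified.of_restrictScalars A _ _
    haveI : Algebra.EssFiniteType (A ⧸ 𝔪) (B ⧸ 𝔪.map (algebraMap A B)) := Algebra.EssFiniteType.of_comp A _ _
    exact ⟨hf, Algebra.FormallyUnramified.finite_of_free _ _, Algebra.FormallyUnramified.isSeparable _ _⟩
  · rintro ⟨hf, hfin, hsep⟩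
    have h : 𝔪.map (algebraMap A B) = IsLocalRing.maximalIdeal B :=
      IsLocalRing.eq_maximalIdeal ((Ideal.Quotient.maximal_ideal_iff_isField_quotient _).mpr hf)
    haveI : Algebra.IsSeparable (IsLocalRing.ResidueField A) (IsLocalRing.ResidueField B) :=
      Algebra.IsSeparable.of_equiv_equiv (A₁ := A ⧸ 𝔪) (B₁ := B ⧸ 𝔪.map (algebraMap A B))
        (RingEquiv.refl _) (Ideal.quotEquivOfEq h) (by
          refine RingHom.ext fun a => ?_
          obtain ⟨a, rfl⟩ := Ideal.Quotient.mk_surjective a
          rfl)
    exact Algebra.FormallyUnramified.of_map_maximalIdeal h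

/-- Let f : X ⟶ Y be locally of finite presentation. Then f is etale if and only if f is flat and, for
every point x of X with image y, the quotient of the local ring of X at x by the extension of the
maximal ideal of the local ring of Y at y is a field, finite and separable over the residue field
κ(y); that is, every fibre of f is a sum of spectra of finite separable extensions of the residue
field. -/
theorem result {X Y : Scheme.{u}} (f : X ⟶ Y)
    [LocallyOfFinitePresentation f] :
    Etale f ↔ Flat f ∧ ∀ x : ↥X,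
      letI φ := (f.stalkMap x).hom
      letI 𝔪 := IsLocalRing.maximalIdeal ↑(Y.presheaf.stalk (f.base x))
      letI := (Ideal.quotientMap (𝔪.map φ) φ Ideal.le_comap_map).toAlgebra
      IsField (↑(X.presheaf.stalk x) ⧸ 𝔪.map φ) ∧
        Module.Finite (↑(Y.presheaf.stalk (f.base x)) ⧸ 𝔪) (↑(X.presheaf.stalk x) ⧸ 𝔪.map φ) ∧
        Algebra.IsSeparable (↑(Y.presheaf.stalk (f.base x)) ⧸ 𝔪) (↑(X.presheaf.stalk x) ⧸ 𝔪.map φ) := by
  have key : ∀ x, (f.stalkMap x).hom.FormallyUnramified ↔ _ := fun x => by
    letI := (f.stalkMap x).hom.toAlgebra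
    haveI : IsLocalHom (algebraMap (Y.presheaf.stalk (f x)) (X.presheaf.stalk x)) :=
      inferInstanceAs (IsLocalHom (f.stalkMap x).hom)
    haveI : Algebra.EssFiniteType (Y.presheaf.stalk (f x)) (X.presheaf.stalk x) :=
      RingHom.essFiniteType_algebraMap.mp (LocallyOfFiniteType.stalkMap f x)
    exact RingHom.formallyUnramified_algebraMap.trans (core (A := Y.presheaf.stalk (f x)) (B := X.presheaf.stalk x))
  constructor
  · intro hf
    exact ⟨inferInstance, fun x => (key x).mp (FormallyUnramified.stalkMap f x)⟩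
  · rintro ⟨hflat, H⟩
    haveI : FormallyUnramified f := by
      refine IsZariskiLocalAtSource.of_iSup_eq_top (P := @FormallyUnramified)
        (fun x : X => Classical.choose ((EtStruct.formallyUnramified_nhd_iff f x).mpr ((key x).mpr (H x)))) ?_ fun x => ?_
      · exact top_le_iff.mp fun x _ => TopologicalSpace.Opens.mem_iSup.mpr
          ⟨x, (Classical.choose_spec ((EtStruct.formallyUnramified_nhd_iff f x).mpr ((key x).mpr (H x)))).1⟩
      · exact (Classical.choose_spec ((EtStruct.formallyUnramified_nhd_iff f x).mpr ((key x).mpr (H x)))).2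
    exact Etale.of_formallyUnramified_of_flat (f := f)

end Groth.Agent.S5011
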