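import Groth.Statements.S5012
import Groth.Agent.Omega.RankDimGen

set_option autoImplicit false
universe u
open Unram17

namespace Groth.Agent.S5012

/-- Let A be an algebra of finite type over a field k. Then Spec A has a dense open subset consisting of
points at which A is smooth over k if and only if, for every minimal prime p of A, the local ring
A_p is geometrically reduced over k (that is, A_p is a field and a separable extension of k). -/
theorem result (k A : Type u) [Field k] [CommRing A] [Algebra k A]
    [Algebra.FiniteType k A] :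
    (∃ U : TopologicalSpace.Opens (PrimeSpectrum A), Dense (U : Set (PrimeSpectrum A)) ∧
        ∀ p ∈ U, Algebra.IsSmoothAt k p.asIdeal) ↔
      ∀ (p : Ideal A) [p.IsPrime], p ∈ minimalPrimes A →
        Algebra.IsGeometricallyReduced k (Localization.AtPrime p) := by
  haveI : Algebra.FinitePresentation k A := Algebra.FinitePresentation.of_finiteType.mp inferInstance
  haveI : IsNoetherianRing A := Algebra.FiniteType.isNoetherianRing k A
  constructor
  · rintro ⟨U, hU, h⟩ p _ hp
    let x : PrimeSpectrum A := ⟨p, inferInstance⟩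
    obtain ⟨f, hfp, hf⟩ : ∃ f : A, f ∉ p ∧ ∀ r ∈ minimalPrimes A, r ≠ p → f ∈ r := by
      have hfin := minimalPrimes.finite_of_isNoetherianRing A
      have hnot : ¬ (hfin.toFinset.erase p).inf id ≤ p := by
        rw [Ideal.IsPrime.inf_le' ‹p.IsPrime›]
        rintro ⟨r, hr, hrp⟩
        rw [Finset.mem_erase, Set.Finite.mem_toFinset] at hr
        exact hr.1 (le_antisymm hrp (hp.2 hr.2.1 hrp))
      obtain ⟨f, hf, hfp⟩ := SetLike.not_le_iff_exists.mp hnot
      exact ⟨f, hfp, fun r hr hrp => Finset.inf_le (f := id)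
        (Finset.mem_erase.mpr ⟨hrp, hfin.mem_toFinset.mpr hr⟩) hf⟩
    obtain ⟨y, hyf, hyU⟩ := hU.inter_open_nonempty (PrimeSpectrum.basicOpen f)
      (PrimeSpectrum.basicOpen f).isOpen ⟨x, hfp⟩
    have hle : p ≤ y.asIdeal := by
      obtain ⟨r, hr, hry⟩ := Ideal.exists_minimalPrimes_le (bot_le : (⊥ : Ideal A) ≤ y.asIdeal)
      by_contra hne
      exact hyf (hry (hf r hr fun e => hne (e ▸ hry)))
    have hxU : x ∈ U :=
      (((PrimeSpectrum.le_iff_specializes x y).mp hle).mem_open U.isOpen hyU)
    haveI : Algebra.FormallySmooth k (Localization.AtPrime p) := h x hxU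
    exact Groth.Agent.Omega.RankDim.isGeometricallyReduced_atPrime k p hp
  · intro h
    refine ⟨⟨Algebra.smoothLocus k A, Algebra.isOpen_smoothLocus⟩, fun y => ?_, fun p hp => hp⟩
    obtain ⟨p, hp, hpy⟩ := Ideal.exists_minimalPrimes_le (bot_le : (⊥ : Ideal A) ≤ y.asIdeal)
    haveI := hp.1.1
    haveI := h p hp
    have hx : (⟨p, inferInstance⟩ : PrimeSpectrum A) ∈ Algebra.smoothLocus k A :=
      (Groth.Agent.Omega.RankDim.formallySmooth_atPrime_of_isGeometricallyReduced k p hp).2
    exact closure_mono (Set.singleton_subset_iff.mpr hx)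
      (specializes_iff_mem_closure.mp ((PrimeSpectrum.le_iff_specializes ⟨p, inferInstance⟩ y).mp hpy))

end Groth.Agent.S5012
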