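import Groth.Statements.S5013
import Groth.Agent.Omega.GeomRegFibre
import Groth.Agent.Omega.SmoothPoint
import Groth.Agent.Omega.RankDim
import Groth.Agent.EtStruct.Scheme
import Groth.Agent.S2561
import Groth.Agent.S2595
import Groth.Agent.S4939
import Groth.Agent.Depth.CM
-- import your own Groth.Agent.* helpers here

set_option autoImplicit false
universe u
open CategoryTheory CategoryTheory.Limits AlgebraicGeometry TopologicalSpace
open Unram17

namespace Groth.Agent.S5013

/-- Let Y be locally Noetherian, f : X ⟶ Y locally of finite type, x a point of X with image y, and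
suppose the local ring of Y at y is reduced and geometrically unibranch. Then f is smooth on an open
neighbourhood of x if and only if f is equidimensional at x and the local ring of the fibre at x
(the quotient of the local ring of X at x by the extension of the maximal ideal at y) is
geometrically regular over the residue field κ(y). -/
theorem result {X Y : Scheme.{u}} (f : X ⟶ Y)
    [IsLocallyNoetherian Y] [LocallyOfFiniteType f] (x : ↥X)
    (hred : IsReduced ↑(Y.presheaf.stalk (f.base x)))
    (hgu : CAlg2.IsGeomUnibranch ↑(Y.presheaf.stalk (f.base x))) :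
    letI φ := (f.stalkMap x).hom
    letI 𝔪 := IsLocalRing.maximalIdeal ↑(Y.presheaf.stalk (f.base x))
    letI : Algebra (IsLocalRing.ResidueField ↑(Y.presheaf.stalk (f.base x))) (↑(X.presheaf.stalk x) ⧸ 𝔪.map φ) :=
      (Ideal.quotientMap (𝔪.map φ) φ Ideal.le_comap_map).toAlgebra
    (∃ U : X.Opens, x ∈ U ∧ Smooth (U.ι ≫ f)) ↔
      EGA43.IsEquidimAt f x ∧
        CAlg.IsGeometricallyRegular (IsLocalRing.ResidueField ↑(Y.presheaf.stalk (f.base x)))
          (↑(X.presheaf.stalk x) ⧸ 𝔪.map φ) := by
  haveI : LocallyOfFinitePresentation f := LocallyOfFinitePresentation.iff_locallyOfFiniteType.mpr ‹_›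
  have hfib : f.fiberι (f x) (f.asFiber x) = x := f.fiberι_asFiber x
  constructor
  · intro hx
    have h1 := Omega.SmoothPoint.mem_smoothLocus_of_nhd f hx
    have h2 : (f.stalkMap (f.fiberι (f x) (f.asFiber x))).hom.FormallySmooth := by
      rw [hfib]; exact h1
    have hs := ((FlatOpen.SmoothAt.formallySmooth_stalkMap_iff_fibre f (f x) (f.asFiber x)).mp h2).2
    have hgr := Omega.GeomRegFibre.isGeometricallyRegular_of_fibre f x hs
    refine ⟨S2595.result f x (Omega.SmoothPoint.flat_stalkMap f h1) ?_, hgr⟩
    obtain ⟨A, _, _, j, p, hjo, hjp, hj, hfp, -⟩ := Omega.GeomRegFibre.exists_chart f x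
    haveI := hjo
    haveI := hfp
    let k := IsLocalRing.ResidueField ↑(Y.presheaf.stalk (f x))
    letI : (f.fiber (f x)).Over (Spec (CommRingCat.of k)) := ⟨f.fiberToSpecResidueField (f x)⟩
    haveI : LocallyOfFiniteType (f.fiber (f x) ↘ Spec (CommRingCat.of k)) :=
      inferInstanceAs (LocallyOfFiniteType (pullback.snd f (Y.fromSpecResidueField (f x))))
    haveI := GeomLoc.locallyOfFinitePresentation (k := k) (X := f.fiber (f x))
    haveI := Omega.RankDim.isRegularLocalRing_of_isSmoothAt k A p.asIdeal
      ((GeomLoc.mem_smoothLocus_iff_chart (k := k) (X := f.fiber (f x)) j hj p).mp (by rw [hjp]; exact hs))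
    haveI : IsRegularLocalRing ((f.fiber (f x)).presheaf.stalk (f.asFiber x)) := by
      rw [← hjp]
      exact IsRegularLocalRing.of_ringEquiv (R := Localization.AtPrime p.asIdeal) (FBase.PointScheme.chartStalkEquiv j p).symm
    exact Depth.isCohenMacaulayLocalRing_of_isRegularLocalRing (R := (f.fiber (f x)).presheaf.stalk (f.asFiber x))
  · rintro ⟨heq, hgr⟩
    obtain ⟨hs, hred'⟩ := Omega.GeomRegFibre.of_isGeometricallyRegular f x hgr
    have hflat : (f.stalkMap x).hom.Flat :=
      S2561.result f x (((S4939.result f x hgu).out 0 2 rfl rfl).mp heq).2 hred' hred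
    have h2 : (f.stalkMap (f.fiberι (f x) (f.asFiber x))).hom.FormallySmooth := by
      refine (FlatOpen.SmoothAt.formallySmooth_stalkMap_iff_fibre f (f x) (f.asFiber x)).mpr ⟨?_, hs⟩
      rw [hfib]; exact hflat
    rw [hfib] at h2
    exact (EtStruct.smooth_nhd_iff f x).mpr h2

end Groth.Agent.S5013
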