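import Groth.Statements.S5937
import Groth.Agent.Omega.Chart
import Mathlib.AlgebraicGeometry.Morphisms.FormallyUnramified

set_option autoImplicit false
universe u
open CategoryTheory CategoryTheory.Limits AlgebraicGeometry
open Unram17

namespace Groth.Agent.S5937

/-- Take a morphism of schemes f : X ⟶ Y and an O_X-module Ω' equipped with a universal Y-derivation d :
O_X → Ω' (so that Ω' is a sheaf of differentials of X over Y). Then f is formally unramified if and
only if Ω' is a zero object of the category of O_X-modules. -/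
theorem result {X Y : Scheme.{u}} (f : X ⟶ Y)
    (Ω' : X.Modules) (d : OmegaSh.Der f Ω') (hd : OmegaSh.IsUniversal d) :
    FormallyUnramified f ↔ IsZero Ω' := by
  constructor
  · intro _
    refine Omega.Chart.isZero_of_forall_chart fun x => ?_
    obtain ⟨U, hU, V, hV, hxV, -, e⟩ := Omega.Chart.exists_affine_pair f x (W := ⊤) trivial
    let := (f.appLE U V e).hom.toAlgebra
    have : Algebra.FormallyUnramified Γ(Y, U) Γ(X, V) := f.formallyUnramified_appLE hU hV e
    obtain ⟨i, -⟩ := Omega.Chart.exists_iso_tilde (Omega.Chart.fromSpec_comp f hU hV e).symm hd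
    refine ⟨_, hV.fromSpec, inferInstance, by rw [hV.range_fromSpec]; exact hxV, ?_⟩
    exact IsZero.of_iso ((tilde.functor Γ(X, V)).map_isZero
      (ModuleCat.isZero_of_subsingleton (Omega.SpecDer.omegaMod Γ(Y, U) Γ(X, V)))) i.symm
  · intro h
    refine ⟨fun {U hU V hV e} => ?_⟩
    let := (f.appLE U V e).hom.toAlgebra
    obtain ⟨i, -⟩ := Omega.Chart.exists_iso_tilde (Omega.Chart.fromSpec_comp f hU hV e).symm hd
    have hz : ∀ t : Γ(Ω', hV.fromSpec ''ᵁ ⊤), t = 0 := fun t => by
      have h0 : (𝟙 Ω' : _ ⟶ _).app (hV.fromSpec ''ᵁ ⊤) = 0 := by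
        rw [h.eq_of_src (𝟙 Ω') 0]
        rfl
      exact congr($h0 t)
    have : Subsingleton (Ω[Γ(X, V)⁄Γ(Y, U)]) := subsingleton_of_forall_eq 0 fun m => by
      refine (Omega.SpecDer.sect_bijective Γ(Y, U) Γ(X, V)).1 ?_
      have hinj : Function.Injective (i.hom.app ⊤) :=
        (ConcreteCategory.bijective_of_isIso (i.hom.app ⊤)).1
      exact hinj ((hz _).trans (hz _).symm)
    exact ⟨this⟩

end Groth.Agent.S5937
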