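import Groth.Statements.S5015
import Groth.Agent.Omega.Transitivity
import Groth.Agent.Omega.Exists
import Groth.Agent.S5937

set_option autoImplicit false
universe u
open CategoryTheory CategoryTheory.Limits AlgebraicGeometry TopologicalSpace
open Unram17

namespace Groth.Agent.S5015

/-- Let g : Y ⟶ S and h : X ⟶ S be morphisms and f : X ⟶ Y with f ≫ g = h. Given sheaves of
differentials of Y over S and of X over S (universal derivations dY, dX) and the canonical map c
from the pullback of the former to the latter (the O_X-linear map carrying the pullback of dY s to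
dX of the pullback of s), f is formally unramified if and only if c is an epimorphism of
O_X-modules. -/
theorem result {X Y S : Scheme.{u}} (g : Y ⟶ S) (h : X ⟶ S)
    (f : X ⟶ Y) (w : f ≫ g = h)
    (ΩY : Y.Modules) (dY : OmegaSh.Der g ΩY) (hY : OmegaSh.IsUniversal dY)
    (ΩX : X.Modules) (dX : OmegaSh.Der h ΩX) (hX : OmegaSh.IsUniversal dX)
    (c : (Scheme.Modules.pullback f).obj ΩY ⟶ ΩX) (hc : OmegaSh.IsDiffCompat f dY dX c) :
    FormallyUnramified f ↔ Epi c := by
  subst w
  obtain ⟨ΩXY, dXY, hXY⟩ := Omega.Exists.exists_isUniversal f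
  obtain ⟨c₂, hc₂, -⟩ := Omega.Basic.existsUnique_diffCompat (𝟙 X) (f := f ≫ g) (f' := f) (b := g)
    (Category.id_comp _).symm hX dXY
  obtain ⟨hcol⟩ := Omega.Transitivity.nonempty_isColimit hY hX hXY hc hc₂
  rw [S5937.result f ΩXY dXY hXY]
  constructor
  · intro hz
    refine Preadditive.epi_of_cancel_zero c fun γ hγ => ?_
    obtain ⟨l, hl⟩ := CokernelCofork.IsColimit.desc' hcol γ hγ
    rw [← hl, hz.eq_of_src l 0]
    exact comp_zero
  · intro hep
    have he0 : (Scheme.Modules.pullbackId X).inv.app ΩX ≫ c₂ = 0 :=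
      zero_of_epi_comp c (Omega.Transitivity.comp_eq_zero hY hc hc₂)
    have : Epi ((Scheme.Modules.pullbackId X).inv.app ΩX ≫ c₂) := epi_of_isColimit_cofork hcol
    exact IsZero.of_epi_eq_zero _ he0

end Groth.Agent.S5015
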