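import Groth.Statements.S5017
import Groth.Agent.EtStruct.Scheme
import Mathlib
-- import your own Groth.Agent.* helpers here

set_option autoImplicit false
universe u
open CategoryTheory CategoryTheory.Limits AlgebraicGeometry TopologicalSpace
open Unram17

namespace Groth.Agent.S5017

theorem bijective_quotientMap_iff {A B : Type u} [CommRing A] [CommRing B] [IsLocalRing A] [IsLocalRing B]
    [Algebra A B] [IsLocalHom (algebraMap A B)] :
    Function.Bijective (Ideal.quotientMap ((IsLocalRing.maximalIdeal A).map (algebraMap A B)) (algebraMap A B)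
      Ideal.le_comap_map) ↔
      (IsLocalRing.maximalIdeal A).map (algebraMap A B) = IsLocalRing.maximalIdeal B ∧
        Function.Surjective (IsLocalRing.ResidueField.map (algebraMap A B)) := by
  constructor
  · intro h
    have hf : IsField (B ⧸ (IsLocalRing.maximalIdeal A).map (algebraMap A B)) :=
      (RingEquiv.ofBijective _ h).toMulEquiv.symm.isField
        ((Ideal.Quotient.maximal_ideal_iff_isField_quotient _).mp inferInstance)
    refine ⟨IsLocalRing.eq_maximalIdeal ((Ideal.Quotient.maximal_ideal_iff_isField_quotient _).mpr hf), fun b => ?_⟩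
    obtain ⟨b, rfl⟩ := IsLocalRing.residue_surjective b
    obtain ⟨a, ha⟩ := h.2 (Ideal.Quotient.mk _ b)
    obtain ⟨a, rfl⟩ := Ideal.Quotient.mk_surjective a
    rw [Ideal.quotientMap_mk, Ideal.Quotient.eq] at ha
    refine ⟨IsLocalRing.residue A a, ?_⟩
    rw [IsLocalRing.ResidueField.map_residue]
    refine Ideal.Quotient.eq.mpr ?_
    exact ((IsLocalRing.local_hom_TFAE (algebraMap A B)).out 0 2 rfl rfl).mp ‹_› ha
  · rintro ⟨h1, h2⟩
    refine ⟨?_, fun b => ?_⟩
    · rw [injective_iff_map_eq_zero]
      intro a ha
      obtain ⟨a, rfl⟩ := Ideal.Quotient.mk_surjective a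
      rw [Ideal.quotientMap_mk, Ideal.Quotient.eq_zero_iff_mem, h1] at ha
      exact Ideal.Quotient.eq_zero_iff_mem.mpr (by
        rw [IsLocalRing.mem_maximalIdeal, mem_nonunits_iff] at ha ⊢
        exact fun hu => ha (hu.map _))
    · obtain ⟨b, rfl⟩ := Ideal.Quotient.mk_surjective b
      obtain ⟨a, ha⟩ := h2 (IsLocalRing.residue B b)
      obtain ⟨a, rfl⟩ := IsLocalRing.residue_surjective a
      rw [IsLocalRing.ResidueField.map_residue] at ha
      refine ⟨Ideal.Quotient.mk _ a, ?_⟩
      rw [Ideal.quotientMap_mk, Ideal.Quotient.eq, h1]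
      exact Ideal.Quotient.eq.mp ha

/-- Let f : X ⟶ Y be locally of finite type. Then f is a monomorphism if and only if, for every point x
of X with image y, x is the only point of its fibre and the canonical map from the residue field
κ(y) to the quotient of the local ring of X at x by the extension of the maximal ideal at y is
bijective (each nonempty fibre is Spec κ(y)). -/
theorem result {X Y : Scheme.{u}} (f : X ⟶ Y) [LocallyOfFiniteType f] :
    Mono f ↔ ∀ x : ↥X,
      (∀ x' : ↥X, f.base x' = f.base x → x' = x) ∧
        Function.Bijective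
          (Ideal.quotientMap
            ((IsLocalRing.maximalIdeal ↑(Y.presheaf.stalk (f.base x))).map (f.stalkMap x).hom)
            (f.stalkMap x).hom Ideal.le_comap_map) := by
  constructor
  · intro hm x
    refine ⟨fun x' h => (Scheme.Hom.injective f) h, ?_⟩
    algebraize [(f.stalkMap x).hom]
    haveI : IsLocalHom (algebraMap (Y.presheaf.stalk (f x)) (X.presheaf.stalk x)) :=
      inferInstanceAs (IsLocalHom (f.stalkMap x).hom)
    haveI : Algebra.EssFiniteType (Y.presheaf.stalk (f x)) (X.presheaf.stalk x) :=
      RingHom.essFiniteType_algebraMap.mp (LocallyOfFiniteType.stalkMap f x)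
    haveI : Algebra.FormallyUnramified (Y.presheaf.stalk (f x)) (X.presheaf.stalk x) :=
      RingHom.formallyUnramified_algebraMap.mp (FormallyUnramified.stalkMap f x)
    refine (bijective_quotientMap_iff (A := Y.presheaf.stalk (f x)) (B := X.presheaf.stalk x)).mpr
      ⟨Algebra.FormallyUnramified.map_maximalIdeal, ?_⟩
    have hp : (f.residueFieldMap x).hom.IsPurelyInseparable :=
      (((tfae_universallyInjective f).out 0 2 rfl rfl).mp inferInstance).2 x
    algebraize [(f.residueFieldMap x).hom]
    haveI : IsPurelyInseparable (Y.residueField (f x)) (X.residueField x) := hp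
    exact IsPurelyInseparable.surjective_algebraMap_of_isSeparable (Y.residueField (f x)) (X.residueField x)
  · intro H
    have key : ∀ x, (f.stalkMap x).hom.FormallyUnramified ∧ Function.Surjective (f.residueFieldMap x).hom := by
      intro x
      letI := (f.stalkMap x).hom.toAlgebra
      haveI : IsLocalHom (algebraMap (Y.presheaf.stalk (f x)) (X.presheaf.stalk x)) :=
        inferInstanceAs (IsLocalHom (f.stalkMap x).hom)
      haveI : Algebra.EssFiniteType (Y.presheaf.stalk (f x)) (X.presheaf.stalk x) :=
        RingHom.essFiniteType_algebraMap.mp (LocallyOfFiniteType.stalkMap f x)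
      obtain ⟨h1, h2⟩ := (bijective_quotientMap_iff (A := Y.presheaf.stalk (f x)) (B := X.presheaf.stalk x)).mp (H x).2
      haveI : Algebra.IsSeparable (IsLocalRing.ResidueField (Y.presheaf.stalk (f x)))
          (IsLocalRing.ResidueField (X.presheaf.stalk x)) := ⟨fun z => by
        obtain ⟨y, rfl⟩ := h2 z
        exact isSeparable_algebraMap _⟩
      exact ⟨RingHom.formallyUnramified_algebraMap.mpr (Algebra.FormallyUnramified.of_map_maximalIdeal h1), h2⟩
    haveI : FormallyUnramified f := by
      refine IsZariskiLocalAtSource.of_iSup_eq_top (P := @FormallyUnramified)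
        (fun x : X => Classical.choose ((EtStruct.formallyUnramified_nhd_iff f x).mpr (key x).1)) ?_ fun x => ?_
      · exact top_le_iff.mp fun x _ => TopologicalSpace.Opens.mem_iSup.mpr
          ⟨x, (Classical.choose_spec ((EtStruct.formallyUnramified_nhd_iff f x).mpr (key x).1)).1⟩
      · exact (Classical.choose_spec ((EtStruct.formallyUnramified_nhd_iff f x).mpr (key x).1)).2
    have hui : UniversallyInjective f := by
      refine ((tfae_universallyInjective f).out 0 2 rfl rfl).mpr ⟨fun a b h => (H b).1 a h, fun x => ?_⟩
      algebraize [(f.residueFieldMap x).hom]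
      show IsPurelyInseparable (Y.residueField (f x)) (X.residueField x)
      exact { isIntegral := ⟨fun z => by obtain ⟨y, hy⟩ := (key x).2 z; exact hy ▸ isIntegral_algebraMap⟩
              inseparable' := fun z _ => (key x).2 z }
    haveI : Surjective (pullback.diagonal f) := (UniversallyInjective.iff_diagonal f).mp hui
    haveI : IsIso (pullback.diagonal f) := isIso_of_isOpenImmersion_of_opensRange_eq_top _ (by
      ext z
      exact ⟨fun _ => trivial, fun _ => (pullback.diagonal f).surjective z⟩)
    exact (pullback.isIso_diagonal_iff f).mp inferInstance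

end Groth.Agent.S5017
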