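import Groth.Statements.S5026
import Groth.Agent.Omega.EtaleCrit

set_option autoImplicit false
universe u
open Unram17

namespace Groth.Agent.S5026

/-- Let k be a field, A a k-algebra of finite type equipped with a k-algebra map from the polynomial
ring in n variables (images g_i of the variables), p a prime of A such that Spec A has local
dimension n at p, r the Krull dimension of the local ring A_p, and suppose g_i ∈ p for the indices i
< r. Then A is etale at p over the polynomial ring if and only if the images of the g_i with i < r
generate the maximal ideal of A_p and the differentials of the residue classes of the g_i with i ≥ r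
generate the module of differentials of the residue field κ(p) over k. (The published statement adds
that these conditions imply that A is smooth at p over k and that κ(p) is separable over k; this row
does not state that consequence.) -/
theorem result (k A : Type u) [Field k]
    [CommRing A] [Algebra k A] [Algebra.FiniteType k A] (n r : ℕ) [Algebra (MvPolynomial (Fin n) k) A]
    [IsScalarTower k (MvPolynomial (Fin n) k) A] (p : Ideal A) [p.IsPrime]
    (hn : FlatMor.localDim (PrimeSpectrum A) ⟨p, inferInstance⟩ = (n : WithBot ℕ∞))
    (hr : ringKrullDim (Localization.AtPrime p) = (r : WithBot ℕ∞))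
    (hg : ∀ i : Fin n, (i : ℕ) < r → algebraMap (MvPolynomial (Fin n) k) A (MvPolynomial.X i) ∈ p) :
    Algebra.IsEtaleAt (MvPolynomial (Fin n) k) p ↔
      Ideal.span ((fun i : Fin n =>
          algebraMap A (Localization.AtPrime p) (algebraMap (MvPolynomial (Fin n) k) A (MvPolynomial.X i))) ''
            {i : Fin n | (i : ℕ) < r}) = IsLocalRing.maximalIdeal (Localization.AtPrime p) ∧
        Submodule.span p.ResidueField ((fun i : Fin n =>
          KaehlerDifferential.D k p.ResidueField
            (IsLocalRing.residue (Localization.AtPrime p)
              (algebraMap A (Localization.AtPrime p) (algebraMap (MvPolynomial (Fin n) k) A (MvPolynomial.X i))))) ''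
            {i : Fin n | r ≤ (i : ℕ)}) = ⊤ := by
  obtain ⟨hrn, -⟩ := Groth.Agent.Omega.LocalFibre.exists_dims k p n r hn hr
  constructor
  · intro h
    exact Groth.Agent.Omega.EtaleCrit.of_isEtaleAt k p n r hr hrn hg
  · rintro ⟨h1, h2⟩
    obtain ⟨hfs, hrank, hspan⟩ := Groth.Agent.Omega.EtaleCrit.formallySmooth_and_span k p n r _ hn h1 h2
    exact Groth.Agent.Omega.EtaleCrit.isEtaleAt_of_span k p n hrank hspan

end Groth.Agent.S5026
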