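import Groth.Statements.S5027
import Groth.Agent.Omega.EtaleCrit

set_option autoImplicit false
universe u
open Unram17

namespace Groth.Agent.S5027

/-- Let A be an algebra of finite type over a field k, p a prime of A such that Spec A has local
dimension n at p, and r the Krull dimension of the local ring A_p. Then A_p is regular and the
residue field κ(p) is a separable extension of k (geometrically reduced over k) if and only if there
exist n elements of the local ring A_p (germs at p in place of sections over an open neighbourhood
of p, which is equivalent) of which those with index < r generate the maximal ideal and the residue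
classes of the remaining ones have differentials generating the module of differentials of κ(p) over
k. -/
theorem result (k A : Type u) [Field k]
    [CommRing A] [Algebra k A] [Algebra.FiniteType k A] (n r : ℕ) (p : Ideal A) [p.IsPrime]
    (hn : FlatMor.localDim (PrimeSpectrum A) ⟨p, inferInstance⟩ = (n : WithBot ℕ∞))
    (hr : ringKrullDim (Localization.AtPrime p) = (r : WithBot ℕ∞)) :
    (IsRegularLocalRing (Localization.AtPrime p) ∧ Algebra.IsGeometricallyReduced k p.ResidueField) ↔
      ∃ g : Fin n → Localization.AtPrime p,
        Ideal.span (g '' {i : Fin n | (i : ℕ) < r}) = IsLocalRing.maximalIdeal (Localization.AtPrime p) ∧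
          Submodule.span p.ResidueField ((fun i : Fin n =>
            KaehlerDifferential.D k p.ResidueField (IsLocalRing.residue (Localization.AtPrime p) (g i))) ''
              {i : Fin n | r ≤ (i : ℕ)}) = ⊤ := by
  classical
  haveI : IsNoetherianRing A := Algebra.FiniteType.isNoetherianRing k A
  haveI : Algebra.EssFiniteType k p.ResidueField := Algebra.EssFiniteType.comp k A _
  obtain ⟨hrn, ht⟩ := Groth.Agent.Omega.LocalFibre.exists_dims k p n r hn hr
  constructor
  · rintro ⟨hreg, hgr⟩
    haveI : Algebra.FormallySmooth k p.ResidueField :=
      (Groth.Agent.FieldSep.MacLane.formallySmooth_iff k _).mpr hgr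
    have hfin := Groth.Agent.Omega.RankDim.finrank_kaehler_eq_trdeg k p.ResidueField (n - r) ht
    obtain ⟨f, hf, hfspan, -⟩ := Submodule.exists_fun_fin_finrank_span_eq p.ResidueField
      (Set.range (KaehlerDifferential.D k p.ResidueField))
    have hfspan' := hfspan.trans (KaehlerDifferential.span_range_derivation k p.ResidueField)
    have hcard : Module.finrank p.ResidueField (Submodule.span p.ResidueField
        (Set.range (KaehlerDifferential.D k p.ResidueField))) = n - r := by
      rw [KaehlerDifferential.span_range_derivation, finrank_top, hfin]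
    choose e he using hf
    choose a ha using fun i => IsLocalRing.residue_surjective (R := Localization.AtPrime p) (e i)
    have hgen : (IsLocalRing.maximalIdeal (Localization.AtPrime p)).spanFinrank = r := by
      have := IsRegularLocalRing.spanFinrank_maximalIdeal (R := Localization.AtPrime p)
      rw [hr] at this
      exact_mod_cast this
    obtain ⟨x, hx⟩ : ∃ x : Fin r → Localization.AtPrime p,
        Ideal.span (Set.range x) = IsLocalRing.maximalIdeal (Localization.AtPrime p) := by
      have hfg : (IsLocalRing.maximalIdeal (Localization.AtPrime p)).FG := IsNoetherian.noetherian _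
      obtain ⟨x, hx⟩ := Submodule.FG.exists_span_set_encard_eq_spanFinrank hfg
      have hfs : x.Finite := Set.finite_of_encard_eq_coe hx.1
      have hc : hfs.toFinset.card = r := by
        have h' := hx.1
        rw [hfs.encard_eq_coe_toFinset_card, hgen] at h'
        exact_mod_cast h'
      refine ⟨fun i => (hfs.toFinset.equivFinOfCardEq hc).symm i, ?_⟩
      refine Eq.trans (congrArg Ideal.span ?_) hx.2
      ext y
      exact ⟨fun ⟨i, hi⟩ => hi ▸ hfs.mem_toFinset.mp ((hfs.toFinset.equivFinOfCardEq hc).symm i).2,
        fun hy => ⟨hfs.toFinset.equivFinOfCardEq hc ⟨y, hfs.mem_toFinset.mpr hy⟩, by simp⟩⟩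
    refine ⟨fun i => if h : (i : ℕ) < r then x ⟨i, h⟩ else a (Fin.cast hcard.symm ⟨(i : ℕ) - r, by omega⟩), ?_, ?_⟩
    · rw [← hx]
      congr 1
      ext y
      constructor
      · rintro ⟨i, hi, rfl⟩
        exact ⟨⟨i, hi⟩, by simp [show (i : ℕ) < r from hi]⟩
      · rintro ⟨i, rfl⟩
        exact ⟨⟨i, by omega⟩, i.2, by simp⟩
    · refine top_le_iff.mp (hfspan'.ge.trans (Submodule.span_le.mpr ?_))
      rintro _ ⟨j, rfl⟩
      have hj : (j : ℕ) < n - r := by simpa [hcard] using j.2
      refine Submodule.subset_span ⟨⟨r + j, by omega⟩, by simp, ?_⟩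
      have hnot : ¬ r + (j : ℕ) < r := by omega
      simp only [hnot, dif_neg, not_false_eq_true]
      rw [show Fin.cast hcard.symm ⟨r + (j : ℕ) - r, by omega⟩ = j from Fin.ext (by simp), ha, he]
  · rintro ⟨g, h1, h2⟩
    obtain ⟨hfs, -, -⟩ := Groth.Agent.Omega.EtaleCrit.formallySmooth_and_span k p n r g hn h1 h2
    refine ⟨Groth.Agent.Omega.RankDim.isRegularLocalRing_of_isSmoothAt k A p hfs, ?_⟩
    have hle := Groth.Agent.Omega.EtaleCrit.finrank_kaehler_residue_le k p n r g h2
    exact Groth.Agent.Omega.RankDim.isGeometricallyReduced_of_finrank_le k p.ResidueField (n - r) ht hle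

end Groth.Agent.S5027
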