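import Groth.Statements.S5028
import Groth.Agent.Omega.GeomRegFibre
import Groth.Agent.Omega.UnivOpen
import Groth.Agent.Omega.SmoothPoint
import Groth.Agent.EtStruct.Scheme
import Groth.Agent.S2561
-- import your own Groth.Agent.* helpers here

set_option autoImplicit false
universe u
open CategoryTheory CategoryTheory.Limits AlgebraicGeometry TopologicalSpace
open Unram17

namespace Groth.Agent.S5028

/-- Let Y be locally Noetherian, f : X ⟶ Y locally of finite type, x a point of X with image y, and
suppose the local ring of Y at y is reduced. Then f is smooth on an open neighbourhood of x if and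
only if f is universally open at every point of some neighbourhood of x in the fibre over y (that
is, for the points x' of some open neighbourhood of x in X lying over y, every base change of f is
open at each point lying over x') and the local ring of the fibre at x (the quotient of the local
ring of X at x by the extension of the maximal ideal at y) is geometrically regular over the residue
field κ(y). -/
theorem result {X Y : Scheme.{u}} (f : X ⟶ Y)
    [IsLocallyNoetherian Y] [LocallyOfFiniteType f] (x : ↥X)
    (hred : IsReduced ↑(Y.presheaf.stalk (f.base x))) :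
    letI φ := (f.stalkMap x).hom
    letI 𝔪 := IsLocalRing.maximalIdeal ↑(Y.presheaf.stalk (f.base x))
    letI : Algebra (IsLocalRing.ResidueField ↑(Y.presheaf.stalk (f.base x))) (↑(X.presheaf.stalk x) ⧸ 𝔪.map φ) :=
      (Ideal.quotientMap (𝔪.map φ) φ Ideal.le_comap_map).toAlgebra
    (∃ U : X.Opens, x ∈ U ∧ Smooth (U.ι ≫ f)) ↔
      (∃ W : X.Opens, x ∈ W ∧ ∀ x' ∈ W, f.base x' = f.base x → EGA43.IsUnivOpenAt f x') ∧
        CAlg.IsGeometricallyRegular (IsLocalRing.ResidueField ↑(Y.presheaf.stalk (f.base x)))
          (↑(X.presheaf.stalk x) ⧸ 𝔪.map φ) := by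
  haveI : LocallyOfFinitePresentation f := LocallyOfFinitePresentation.iff_locallyOfFiniteType.mpr ‹_›
  have hfib : f.fiberι (f x) (f.asFiber x) = x := f.fiberι_asFiber x
  constructor
  · rintro ⟨U, hxU, hU⟩
    refine ⟨⟨U, hxU, fun x' hx' _ => Omega.UnivOpen.isUnivOpenAt_of_nhd f U hx'⟩, ?_⟩
    have h1 := Omega.SmoothPoint.mem_smoothLocus_of_nhd f ⟨U, hxU, hU⟩
    have h2 : (f.stalkMap (f.fiberι (f x) (f.asFiber x))).hom.FormallySmooth := by
      rw [hfib]; exact h1
    exact Omega.GeomRegFibre.isGeometricallyRegular_of_fibre f x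
      ((FlatOpen.SmoothAt.formallySmooth_stalkMap_iff_fibre f (f x) (f.asFiber x)).mp h2).2
  · rintro ⟨⟨W, hxW, hW⟩, hgr⟩
    obtain ⟨hs, hred'⟩ := Omega.GeomRegFibre.of_isGeometricallyRegular f x hgr
    have hflat : (f.stalkMap x).hom.Flat := S2561.result f x (fun z hz _ => by
      have hzx : f.fiberι (f x) z ⤳ x := by
        have := (specializes_iff_mem_closure.mpr hz).map (f.fiberι (f x)).continuous
        rwa [hfib] at this
      refine hW _ (hzx.mem_open W.2 hxW) ?_
      have : f.fiberι (f x) z ∈ Set.range (f.fiberι (f x)) := ⟨z, rfl⟩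
      rwa [f.range_fiberι] at this) hred' hred
    have h2 : (f.stalkMap (f.fiberι (f x) (f.asFiber x))).hom.FormallySmooth := by
      refine (FlatOpen.SmoothAt.formallySmooth_stalkMap_iff_fibre f (f x) (f.asFiber x)).mpr ⟨?_, hs⟩
      rw [hfib]; exact hflat
    rw [hfib] at h2
    exact (EtStruct.smooth_nhd_iff f x).mpr h2

end Groth.Agent.S5028
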