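import Groth.Statements.S5029
import Groth.Agent.SymLib.Affine
import Groth.Agent.RelSpecLib.Local
import Groth.Agent.Props.QProj
import Groth.Agent.S2094
-- import your own Groth.Agent.* helpers here

set_option autoImplicit false
universe u
open CategoryTheory CategoryTheory.Limits AlgebraicGeometry TopologicalSpace
open Unram17
open Opposite

namespace Groth.Agent.S5029

/-- Let S be a scheme and E a quasi-coherent O_S-module that is finite locally free. If A is a
quasi-coherent O_S-algebra which is the symmetric algebra of E (through j : E ⟶ A), then the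
structure morphism of the relative spectrum of A, i.e. of the vector bundle V(E), is smooth. -/
theorem result {S : Scheme.{u}} (E : S.Modules) (hE : Coh.IsQCoh E)
    (hlf : FlatMod.IsFinLocFree E) (A : RelSpec.QCAlg S) (j : E ⟶ A.toModule) (hA : RelSpec.IsSymAlg E A j) :
    Smooth A.π := by
  haveI : E.IsQuasicoherent := hE
  refine RelSpecLib.π_property @Smooth fun U hU => ?_
  rw [HasRingHomProperty.Spec_iff (P := @Smooth)]
  letI : Algebra Γ(S, U) (A.presheaf.obj (op U)) := (A.str.app (op U)).hom.toAlgebra
  change (algebraMap Γ(S, U) (A.presheaf.obj (op U))).Smooth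
  rw [RingHom.smooth_algebraMap]
  haveI := Props.QProj.finitePresentation_sections E hlf hU
  haveI := Props.QProj.projective_sections E hlf hU
  haveI : Algebra.Smooth Γ(S, U) (SymmetricAlgebra Γ(S, U) Γ(E, U)) := S2094.result.mpr ⟨inferInstance, inferInstance⟩
  exact Algebra.Smooth.of_equiv (AlgEquiv.ofRingEquiv (f := RingEquiv.ofBijective _ (SymLib.affLift_bijective hA hU))
    (fun r => SymLib.affLift_algebraMap j U r))

end Groth.Agent.S5029
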