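import Groth.Statements.S5032
import Groth.Agent.Omega.FGModelP

set_option autoImplicit false
universe u
open CategoryTheory CategoryTheory.Limits AlgebraicGeometry TopologicalSpace
open Unram17

namespace Groth.Agent.S5032

/-- Let A be a commutative ring and f : X ⟶ Spec A an unramified morphism that is quasi-compact and
quasi-separated (hence of finite presentation). Then there exist a finitely generated ℤ-subalgebra
A₀ of A, a scheme X₀ with an unramified morphism of finite type f₀ : X₀ ⟶ Spec A₀, and a morphism X
⟶ X₀ making X the base change of X₀ along Spec A ⟶ Spec A₀. This is the case of unramified morphisms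
(the converse is stability under base change). -/
theorem result (A : Type u) [CommRing A] {X : Scheme.{u}}
    (f : X ⟶ Spec (CommRingCat.of A)) [FormallyUnramified f] [LocallyOfFinitePresentation f] [QuasiCompact f] [QuasiSeparated f] :
    ∃ A₀ : Subalgebra ℤ A, A₀.FG ∧
      ∃ (X₀ : Scheme.{u}) (f₀ : X₀ ⟶ Spec (CommRingCat.of ↥A₀)) (g : X ⟶ X₀),
        FormallyUnramified f₀ ∧ LocallyOfFinitePresentation f₀ ∧ QuasiCompact f₀ ∧
          IsPullback g f f₀ (Spec.map (CommRingCat.ofHom (algebraMap (↥A₀) A))) := by
  obtain ⟨A₀, hA₀, X₀, f₀, g, hP, hlfp, hqc, h⟩ := Groth.Agent.Omega.FGModelP.exists_fg_model_of_descends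
    (P := @FormallyUnramified) (fun D c hc hD h1 h2 i X₀ f₀ h3 h4 hQ => Groth.Agent.LimLib.descends_formallyUnramified D c hc hD h1 h2 i X₀ f₀ h3 h4 (by
      have : LocallyOfFinitePresentation f₀ := hQ
      infer_instance)) ℤ A f inferInstance
  exact ⟨A₀, hA₀, X₀, f₀, g, hP, hlfp, hqc, h⟩

end Groth.Agent.S5032
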