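import Groth.Statements.S5034
import Groth.Agent.Hensel.Local

set_option autoImplicit false
universe u
open Hensel

namespace Groth.Agent.S5034

/-- a') implies a): let R be a local ring such that for every monic polynomial F over R the quotient
ring R[T]/(F) is isomorphic, as a ring, to a finite product of local rings. Then R is henselian. -/
theorem result (R : Type u) [CommRing R] [IsLocalRing R]
    (h : ∀ F : Polynomial R, F.Monic →
      ∃ (ι : Type u) (_ : Fintype ι) (A : ι → Type u) (_ : ∀ i, CommRing (A i)),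
        (∀ i, IsLocalRing (A i)) ∧ Nonempty (AdjoinRoot F ≃+* (∀ i, A i))) :
    HenselianLocalRing R := by
  refine Hensel.henselianLocalRing_of_henselianRing (Hensel.henselianRing_of_gabberRoots
    (IsLocalRing.maximalIdeal_le_jacobson ⊥) ?_)
  set I := IsLocalRing.maximalIdeal R
  have hI : I ≤ Ideal.jacobson ⊥ := IsLocalRing.maximalIdeal_le_jacobson ⊥
  intro n hn p hdeg hp
  open Polynomial in
  set F : R[X] := X ^ n * (X - 1) + p with hF
  have hm : F.Monic := by
    refine Polynomial.Monic.add_of_left ((Polynomial.monic_X_pow n).mul (Polynomial.monic_X_sub_C (1 : R))) ?_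
    calc p.degree ≤ p.natDegree := Polynomial.degree_le_natDegree
      _ ≤ (n : WithBot ℕ) := by exact_mod_cast hdeg
      _ < _ := by
        rw [← Polynomial.C_1, Polynomial.degree_eq_natDegree ((Polynomial.monic_X_pow n).mul (Polynomial.monic_X_sub_C (1 : R))).ne_zero,
          (Polynomial.monic_X_pow n).natDegree_mul' (Polynomial.monic_X_sub_C (1 : R)).ne_zero,
          Polynomial.natDegree_X_pow, Polynomial.natDegree_X_sub_C]
        exact_mod_cast Nat.lt_succ_self n
  haveI := hm.finite_adjoinRoot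
  haveI := hm.free_adjoinRoot
  set J := I.map (algebraMap R (AdjoinRoot F)) with hJ
  have hpJ : ∀ q : Polynomial R, (∀ i, q.coeff i ∈ I) → AdjoinRoot.mk F q ∈ J := fun q hq => by
    have := Ideal.mem_map_of_mem (AdjoinRoot.mk F) (Ideal.mem_map_C_iff.2 hq)
    rwa [Ideal.map_map] at this
  set x := AdjoinRoot.root F with hx
  have hxrel : x ^ n * (x - 1) ∈ J := by
    have h1 : x ^ n * (x - 1) = AdjoinRoot.mk F (-p) := by
      have h0 : AdjoinRoot.mk F (Polynomial.X ^ n * (Polynomial.X - 1) + p) = 0 := AdjoinRoot.mk_self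
      rw [map_neg, eq_neg_iff_add_eq_zero, ← h0]
      simp [x]
    rw [h1]
    exact hpJ _ fun i => by simpa using hp i
  have hsucc : ∀ k, Ideal.Quotient.mk J (x ^ (n + k)) = Ideal.Quotient.mk J (x ^ n) := fun k => by
    induction k with
    | zero => rfl
    | succ k ih =>
      rw [← ih, Ideal.Quotient.eq]
      have := J.mul_mem_left (x ^ k) hxrel
      convert this using 1; ring
  obtain ⟨ι, _, A, _, hA, ⟨φ⟩⟩ := h F hm
  obtain ⟨E, hE, hEe⟩ := (Hensel.idempotents_bijOn_of_ringEquiv_pi (J := J)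
    (Hensel.map_le_jacobson_bot_of_isIntegral hI) A hA φ).surjOn
    (show IsIdempotentElem (Ideal.Quotient.mk J (x ^ n)) by
      rw [IsIdempotentElem, ← map_mul, ← pow_add, hsucc])
  have hone : Polynomial.aeval (1 : R ⧸ I) F = 0 := by
    have hp' : p.map (Ideal.Quotient.mk I) = 0 := by
      ext i; simp [Ideal.Quotient.eq_zero_iff_mem, hp i]
    rw [Polynomial.aeval_def, Ideal.Quotient.algebraMap_eq, ← Polynomial.eval_map, hF, Polynomial.map_add, hp']
    simp
  let σ : AdjoinRoot F →ₐ[R] R ⧸ I := AdjoinRoot.liftAlgHom F (Algebra.ofId R _) 1 hone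
  have hσx : σ x = 1 := AdjoinRoot.liftAlgHom_root _ _ _ _
  have hEσ : σ E = 1 := by
    have hle : J ≤ RingHom.ker σ.toRingHom := Ideal.map_le_iff_le_comap.2 fun a ha =>
      ((σ.commutes a).trans (Ideal.Quotient.eq_zero_iff_mem.2 ha) : σ (algebraMap R _ a) = 0)
    have h1 : σ (E - x ^ n) = 0 := hle (Ideal.Quotient.eq.1 hEe)
    rwa [map_sub, map_pow, hσx, one_pow, sub_eq_zero] at h1
  have hker : ∀ z, σ z = 0 → E * z ∈ J := by
    intro z hz
    obtain ⟨P, rfl⟩ := AdjoinRoot.mk_surjective z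
    have h1 : (P.map (Ideal.Quotient.mk I)).IsRoot 1 := by
      rw [Polynomial.IsRoot.def, Polynomial.eval_map]; exact hz
    obtain ⟨Q, hQ⟩ := Polynomial.dvd_iff_isRoot.2 h1
    obtain ⟨Q, rfl⟩ := Polynomial.map_surjective _ Ideal.Quotient.mk_surjective Q
    have h2 : AdjoinRoot.mk F (P - (Polynomial.X - 1) * Q) ∈ J := hpJ _ fun i => by
      rw [← Ideal.Quotient.eq_zero_iff_mem, ← Polynomial.coeff_map]
      simp [hQ]
    have h4 := J.add_mem (J.mul_mem_right (AdjoinRoot.mk F P) (Ideal.Quotient.eq.1 hEe))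
      (J.add_mem (J.mul_mem_left (x ^ n) h2) (J.mul_mem_right (AdjoinRoot.mk F Q) hxrel))
    convert! h4 using 1
    simp [x]; ring
  obtain ⟨τ, hτ⟩ := Hensel.exists_algHom_of_idempotent hI (AlgHom.id R (AdjoinRoot F)) σ hE σ rfl hEσ hker
  refine ⟨τ x, ?_, ?_⟩
  · rw [← Ideal.Quotient.eq, map_one, ← hσx, ← hτ]; rfl
  · rw [Polynomial.IsRoot.def, ← Polynomial.coe_aeval_eq_eval, Polynomial.aeval_algHom_apply]
    exact (congrArg τ ((AdjoinRoot.aeval_eq F).trans AdjoinRoot.mk_self)).trans (map_zero τ)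

end Groth.Agent.S5034
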