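import Groth.Statements.S5037
import Groth.Agent.Hensel.IdemScheme.Glue
-- import your own Groth.Agent.* helpers here

set_option autoImplicit false
open CategoryTheory CategoryTheory.Limits AlgebraicGeometry
universe u
open Hensel

namespace Groth.Agent.S5037

/-- b) implies a'): let i : S₀ ⟶ S be a closed immersion. Suppose that for every étale separated
morphism g : S' ⟶ S and every section u₀ of S' ×_S S₀ ⟶ S₀ there is exactly one section u of g with
i ≫ u = u₀ followed by the first projection. Then for every finite locally free morphism g : S' ⟶ S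
(finite, flat and locally of finite presentation), every open-closed subset of S' ×_S S₀ is the
inverse image under the first projection of exactly one open-closed subset of S'. -/
theorem result {S S₀ : Scheme.{u}} (i : S₀ ⟶ S) [IsClosedImmersion i]
    (hb : ∀ (S' : Scheme.{u}) (g : S' ⟶ S), Etale g → IsSeparated g →
      ∀ u₀ : S₀ ⟶ pullback g i, u₀ ≫ pullback.snd g i = 𝟙 S₀ →
        ∃! u : S ⟶ S', u ≫ g = 𝟙 S ∧ i ≫ u = u₀ ≫ pullback.fst g i)
    {S' : Scheme.{u}} (g : S' ⟶ S) [IsFinite g] [Flat g] [LocallyOfFinitePresentation g]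
    (V : Set ↥(pullback g i)) (hV : IsClopen V) :
    ∃! U : Set ↥S', IsClopen U ∧ (pullback.fst g i).base ⁻¹' U = V := by
  obtain ⟨X, p, Vu, hVu, hp, hpa, hrep⟩ := Groth.Agent.Hensel.IdemScheme.exists_rep g
  let κ : S' ⟶ pullback (𝟙 S) g := pullback.lift g (𝟙 S') (by simp)
  have hκ : κ ≫ pullback.snd (𝟙 S) g = 𝟙 S' := pullback.lift_snd _ _ _
  have hκf : κ ≫ pullback.fst (𝟙 S) g = g := pullback.lift_fst _ _ _
  have hκ' : pullback.snd (𝟙 S) g ≫ κ = 𝟙 _ := by
    apply pullback.hom_ext
    · rw [Category.assoc, hκf, Category.id_comp, ← pullback.condition, Category.comp_id]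
    · rw [Category.assoc, hκ, Category.comp_id, Category.id_comp]
  have hbci : (pullbackSymmetry i g).hom ≫ pullback.fst g i ≫ κ =
      Groth.Agent.Hensel.IdemScheme.bc g i (Category.comp_id i) := by
    apply pullback.hom_ext <;> simp [hκf, hκ, pullback.condition]
  obtain ⟨ū, ⟨eū, hū⟩, hūu⟩ := hrep S₀ i ((pullbackSymmetry i g).hom.base ⁻¹' V)
    (hV.preimage (pullbackSymmetry i g).hom.continuous)
  obtain ⟨u, ⟨hu, hiu⟩, huu⟩ := hb X p hp inferInstance (pullback.lift ū (𝟙 S₀) (by simp [eū]))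
    (pullback.lift_snd _ _ _)
  rw [pullback.lift_fst] at hiu
  let U : Set S' := (κ ≫ Groth.Agent.Hensel.IdemScheme.bc g u hu).base ⁻¹' Vu
  have hσ : Function.Surjective (pullbackSymmetry i g).hom.base :=
    (Scheme.homeoOfIso (pullbackSymmetry i g)).surjective
  refine ⟨U, ⟨hVu.preimage (κ ≫ Groth.Agent.Hensel.IdemScheme.bc g u hu).continuous, ?_⟩, ?_⟩
  · apply hσ.preimage_injective
    show ((pullbackSymmetry i g).hom ≫ pullback.fst g i ≫ κ ≫ _).base ⁻¹' Vu = _
    rw [← Category.assoc (pullback.fst g i), ← Category.assoc, hbci,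
      ← Groth.Agent.Hensel.IdemScheme.bc_comp g i (Category.comp_id i) u hu
        (by rw [Category.assoc, hu, Category.comp_id]),
      Groth.Agent.Hensel.IdemScheme.bc_congr g hiu _ eū, hū]
  · rintro U' ⟨hU', hU'V⟩
    obtain ⟨u', ⟨eu', hu'⟩, -⟩ := hrep S (𝟙 S) ((pullback.snd (𝟙 S) g).base ⁻¹' U')
      (hU'.preimage (pullback.snd (𝟙 S) g).continuous)
    have h1 : i ≫ u' = ū := hūu _ ⟨by rw [Category.assoc, eu', Category.comp_id], by
      rw [Groth.Agent.Hensel.IdemScheme.bc_preimage_comp g i (Category.comp_id i) u' eu', hu',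
        ← hbci, ← hU'V, ← Set.preimage_comp, ← TopCat.coe_comp, ← Scheme.Hom.comp_base,
        ← Set.preimage_comp, ← TopCat.coe_comp, ← Scheme.Hom.comp_base]
      simp [hκ]⟩
    have h2 : u' = u := huu u' ⟨eu', by rw [pullback.lift_fst]; exact h1⟩
    subst h2
    show U' = (κ ≫ _).base ⁻¹' Vu
    rw [Scheme.Hom.comp_base, TopCat.coe_comp, Set.preimage_comp, hu', ← Set.preimage_comp,
      ← TopCat.coe_comp, ← Scheme.Hom.comp_base, hκ]
    rfl

end Groth.Agent.S5037
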