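import Groth.Statements.S5039
import Groth.Agent.Hensel.NagataHens
import Groth.Agent.S0567

set_option autoImplicit false
universe u
open Hensel

namespace Groth.Agent.S5039

/-- Let R be a Noetherian local ring and S its henselization. Then S is universally Japanese if and only
if R is. -/
theorem result (R S : Type u) [CommRing R] [IsLocalRing R] [IsNoetherianRing R]
    [CommRing S] [IsLocalRing S] [Algebra R S] [IsLocalHom (algebraMap R S)] [Hensel.IsHenselization R S] :
    CAlg.IsUniversallyJapanese S ↔ CAlg.IsUniversallyJapanese R := by
  haveI := (Groth.Agent.Hensel.isEtLike_of_isHenselization R S).isNoetherianRing_of_base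
  refine ⟨fun hS => ((Groth.Agent.S0567.result R).1 ?_).2, fun hR => ((Groth.Agent.S0567.result S).1 ?_).2⟩
  · exact Groth.Agent.Hensel.isNagata_of_henselization ((Groth.Agent.S0567.result S).2 ⟨inferInstance, hS⟩)
  · exact Groth.Agent.Hensel.isNagata_henselization ((Groth.Agent.S0567.result R).2 ⟨inferInstance, hR⟩)

end Groth.Agent.S5039
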