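import Groth.Statements.S5042
import Groth.Agent.Hensel.ExcellentHens
import Groth.Agent.Hensel.Catenary
import Groth.Agent.S2772

set_option autoImplicit false
universe u
open Hensel

namespace Groth.Agent.S5042

/-- The henselization S of an excellent local ring R is excellent. -/
theorem result (R S : Type u) [CommRing R] [IsLocalRing R]
    [CommRing S] [IsLocalRing S] [Algebra R S] [IsLocalHom (algebraMap R S)] [Hensel.IsHenselization R S]
    (h : EGA4.IsExcellent R) : EGA4.IsExcellent S := by
  obtain ⟨hN, hC, hG, -⟩ := h
  haveI := hN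
  have he := Groth.Agent.Hensel.isEtLike_of_isHenselization R S
  haveI := he.isNoetherianRing_of_base
  have hS := (Groth.Agent.S2772.result R S).2 ((Groth.Agent.Hensel.isGRing_iff_isRegularHom_cpl R).1 hG)
  exact ⟨inferInstance, he.isUniversallyCatenary hC,
    (Groth.Agent.Hensel.isGRing_iff_isRegularHom_cpl S).2 hS, Groth.Agent.Hensel.isJ2_of_isRegularHom_cpl S hS⟩

end Groth.Agent.S5042
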