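import Groth.Statements.S5048
import Mathlib
import Groth.Agent.EtStruct.Generic
-- import your own Groth.Agent.* helpers here

set_option autoImplicit false
open CategoryTheory AlgebraicGeometry
universe u
open Unram

namespace Groth.Agent.S5048

/-- Let Y be an irreducible scheme with generic point η and f : X ⟶ Y flat, locally of finite type and
locally quasi-finite. Then a point x of X maps to η if and only if its closure is an irreducible
component of X; thus the irreducible components of X are in canonical bijection with the fibre over
η. -/
theorem result {X Y : Scheme.{u}} [IrreducibleSpace ↥Y] (f : X ⟶ Y)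
    [Flat f] [LocallyOfFiniteType f] [LocallyQuasiFinite f] (x : X) :
    f.base x = genericPoint Y ↔ closure ({x} : Set ↥X) ∈ irreducibleComponents ↥X := by
  rw [Groth.Agent.EtStruct.closure_mem_irreducibleComponents_iff,
    Groth.Agent.EtStruct.maximal_iff_map_maximal f]
  constructor
  · intro h w hw
    exact ((h ▸ hw : w ⤳ genericPoint Y).antisymm (genericPoint_specializes w)).eq.trans h.symm
  · intro h
    exact (h _ (genericPoint_specializes _)).symm

end Groth.Agent.S5048
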