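import Groth.Statements.S5049
import Mathlib
import Groth.Agent.EtStruct.Generic
-- import your own Groth.Agent.* helpers here

set_option autoImplicit false
open CategoryTheory AlgebraicGeometry
universe u
open Unram

namespace Groth.Agent.S5049

/-- Let f : X ⟶ Y be flat, locally of finite type and locally quasi-finite. If the irreducible
components of Y form a locally finite family of subsets, then so do the irreducible components of X. -/
theorem result {X Y : Scheme.{u}} (f : X ⟶ Y)
    [Flat f] [LocallyOfFiniteType f] [LocallyQuasiFinite f]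
    (hY : LocallyFinite (fun Z : ↥(irreducibleComponents ↥Y) => (Z : Set ↥Y))) :
    LocallyFinite (fun Z : ↥(irreducibleComponents ↥X) => (Z : Set ↥X)) := by
  intro x
  obtain ⟨N, hN, hfin⟩ := hY (f x)
  obtain ⟨V, hVN, hVo, hxV⟩ := mem_nhds_iff.mp hN
  obtain ⟨_, ⟨U, hU, rfl⟩, hxU, hUV⟩ :=
    Y.isBasis_affineOpens.exists_subset_of_mem_open hxV hVo
  obtain ⟨_, ⟨W, hW, rfl⟩, hxW, hWU⟩ :=
    X.isBasis_affineOpens.exists_subset_of_mem_open hxU (U.2.preimage f.continuous)
  have hWV : (W : Set X) ⊆ f ⁻¹' V := fun a ha ↦ hUV (hWU ha)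
  refine ⟨W, W.2.mem_nhds hxW, ?_⟩
  let E : Set Y := {w | (∀ v, v ⤳ w → v = w) ∧ w ∈ V}
  have hE : E.Finite := by
    have hmem : ∀ w : E, closure ({w.1} : Set Y) ∈ irreducibleComponents Y := fun w ↦
      (Groth.Agent.EtStruct.closure_mem_irreducibleComponents_iff _).mpr w.2.1
    let φ : E → {Z : irreducibleComponents Y | ((Z : Set Y) ∩ N).Nonempty} := fun w ↦
      ⟨⟨_, hmem w⟩, ⟨w.1, subset_closure rfl, hVN w.2.2⟩⟩
    have hinj : Function.Injective φ := by
      intro a b h
      have h' : closure ({a.1} : Set Y) = closure {b.1} := congr_arg (fun t ↦ (t.1 : Set Y)) h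
      exact Subtype.ext ((inseparable_iff_closure_eq.mpr h').eq)
    have := hfin.to_subtype
    exact Set.finite_coe_iff.mp (Finite.of_injective φ hinj)
  let W' : X.Opens := W
  have : IsAffine W'.toScheme := hW
  let U' : Y.Opens := U
  have : IsAffine U'.toScheme := hU
  have hpts : ((W'.ι ≫ f) ⁻¹' E).Finite := by
    have hle : W' ≤ f ⁻¹ᵁ U' := hWU
    rw [← Scheme.Hom.resLE_comp_ι f hle, Scheme.Hom.comp_base, TopCat.coe_comp,
      Set.preimage_comp]
    exact Scheme.Hom.finite_preimage _ (hE.preimage U'.ι.isOpenEmbedding.injective.injOn)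
  refine ((hpts.image fun z ↦ closure {W'.ι z}).preimage
    Subtype.val_injective.injOn).subset ?_
  rintro ⟨Z, hZ⟩ ⟨z', hz'Z, hz'W⟩
  have hg := hZ.1.isGenericPoint_genericPoint (isClosed_of_mem_irreducibleComponents Z hZ)
  set z := hZ.1.genericPoint
  have hzW : z ∈ W := (hg.specializes hz'Z).mem_open W.2 hz'W
  refine ⟨⟨z, hzW⟩, ?_, hg.def⟩
  refine ⟨?_, hWV hzW⟩
  refine (Groth.Agent.EtStruct.maximal_iff_map_maximal f z).mp
    ((Groth.Agent.EtStruct.closure_mem_irreducibleComponents_iff z).mp ?_)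
  exact (congrArg (· ∈ irreducibleComponents X) hg.def).mpr hZ

end Groth.Agent.S5049
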