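import Groth.Statements.S5050
import Mathlib.RingTheory.Filtration

set_option autoImplicit false
universe u v
open CInt

namespace Groth.Agent.S5050

/-- Let A be a Noetherian ring, N a finitely generated A-module, E and F submodules of N and Q an ideal
of A. For every natural number k there is h > 0 with E ⊓ (F ⊔ Q^h N) ≤ (E ⊓ F) ⊔ Q^k N. -/
theorem result {A : Type u} [CommRing A] [IsNoetherianRing A] {N : Type v} [AddCommGroup N]
    [Module A N] [Module.Finite A N] (E F : Submodule A N) (Q : Ideal A) (k : ℕ) :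
    ∃ h : ℕ, 0 < h ∧ E ⊓ (F ⊔ Q ^ h • (⊤ : Submodule A N)) ≤ (E ⊓ F) ⊔ Q ^ k • (⊤ : Submodule A N) := by
  obtain ⟨c, hc⟩ := Ideal.exists_pow_inf_eq_pow_smul Q (E.map F.mkQ)
  refine ⟨k + c + 1, by omega, ?_⟩
  intro x hx
  obtain ⟨hxE, hx⟩ := hx
  obtain ⟨y, hy, z, hz, rfl⟩ := Submodule.mem_sup.mp hx
  have h1 : F.mkQ (y + z) ∈ (Q ^ (k + c + 1) • ⊤ : Submodule A (N ⧸ F)) ⊓ E.map F.mkQ := by
    refine ⟨?_, Submodule.mem_map_of_mem hxE⟩
    have : F.mkQ (y + z) = F.mkQ z := by
      rw [map_add]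
      simp [hy]
    rw [this]
    have := Submodule.mem_map_of_mem (f := F.mkQ) hz
    rw [Submodule.map_smul''] at this
    exact Submodule.smul_mono le_rfl le_top this
  rw [hc (k + c + 1) (by omega)] at h1
  have h2 : F.mkQ (y + z) ∈ (Q ^ k • E).map F.mkQ := by
    rw [Submodule.map_smul'']
    refine Submodule.smul_mono ?_ inf_le_right h1
    exact Ideal.pow_le_pow_right (by omega)
  obtain ⟨e, he, hee⟩ := Submodule.mem_map.mp h2
  refine Submodule.mem_sup.mpr ⟨y + z - e, ⟨E.sub_mem hxE (Submodule.smul_le_right he), ?_⟩, e,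
    Submodule.smul_mono le_rfl le_top he, sub_add_cancel _ _⟩
  exact (Submodule.Quotient.eq F).mp hee.symm

end Groth.Agent.S5050
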