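import Groth.Statements.S5053
import Groth.Agent.S5052
-- import your own Groth.Agent.* helpers here

set_option autoImplicit false
open CategoryTheory AlgebraicGeometry
universe u
open Unram

namespace Groth.Agent.S5053

/-- Let Y be a connected scheme and f : X ⟶ Y étale, separated and of finite type. Then f is finite if
and only if all geometric fibres of f have the same number of points. -/
theorem result {X Y : Scheme.{u}} [ConnectedSpace ↥Y] (f : X ⟶ Y)
    [Etale f] [IsSeparated f] [LocallyOfFiniteType f] [QuasiCompact f] :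
    IsFinite f ↔ ∃ n : ℕ∞, ∀ y : Y, ENat.card ↥(MoreMor.geomFiber f y) = n := by
  haveI : LocallyQuasiFinite f := Groth.Agent.Wt.Master.locallyQuasiFinite_of_etale f
  constructor
  · intro _
    have : IsFinite (f ∣_ ⊤) := IsZariskiLocalAtTarget.restrict (P := @IsFinite) ‹IsFinite f› ⊤
    have hloc : IsLocallyConstant fun y : Y => ENat.card ↥(MoreMor.geomFiber f y) :=
      (IsLocallyConstant.iff_exists_open _).2 fun y => by
        obtain ⟨V, hyV, hV⟩ := Groth.Agent.Unram.FiniteEtaleCard.eventually_card_eq f ⊤ ⟨y, trivial⟩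
        exact ⟨V, V.2, hyV, hV⟩
    obtain ⟨y₀⟩ := (inferInstance : Nonempty Y)
    exact ⟨ENat.card ↥(MoreMor.geomFiber f y₀), fun y => hloc.apply_eq_of_preconnectedSpace y y₀⟩
  · rintro ⟨n, hn⟩
    refine IsZariskiLocalAtTarget.of_forall_exists_morphismRestrict (P := @IsFinite) fun y => ?_
    obtain ⟨U, hyU, hU⟩ := (Groth.Agent.S5052.result f y).1
      ⟨⊤, trivial, fun v _ => (hn v).trans (hn y).symm⟩
    exact ⟨U, hyU, hU⟩

end Groth.Agent.S5053
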