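import Groth.Statements.S5056
import Groth.Agent.Hensel.CplTensor
import Groth.Agent.FBase.Point

set_option autoImplicit false
universe u
open Hensel
open scoped TensorProduct

namespace Groth.Agent.S5056

/-- Let A be a Noetherian henselian local domain whose formal fibres are geometrically normal, Â its
completion (an integral domain), K and L fraction fields of A and Â with L a K-algebra compatibly.
Then L is geometrically reduced over K (a separable extension) and every element of L algebraic over
K lies in K. -/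
theorem result (A : Type u) [CommRing A] [IsNoetherianRing A]
    [HenselianLocalRing A] [IsDomain A] (h : EGA4.HasGeomNormalFormalFibres A) [IsDomain (EGA4.Cpl A)]
    (K L : Type u) [Field K] [Field L] [Algebra A K] [IsFractionRing A K]
    [Algebra (EGA4.Cpl A) L] [IsFractionRing (EGA4.Cpl A) L] [Algebra K L] [Algebra A L]
    [IsScalarTower A K L] [IsScalarTower A (EGA4.Cpl A) L] :
    Algebra.IsGeometricallyReduced K L ∧ ∀ x : L, IsAlgebraic K x → x ∈ Set.range (algebraMap K L) := by
  classical
  have hcomp : ∀ a : A, algebraMap (EGA4.Cpl A) L (algebraMap A (EGA4.Cpl A) a) = algebraMap A L a :=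
    fun a => (IsScalarTower.algebraMap_apply A (EGA4.Cpl A) L a).symm
  refine ⟨?_, fun x hx => ?_⟩
  · -- `L` is a localisation of the generic formal fibre
    haveI : IsReduced (AlgebraicClosure K ⊗[A] EGA4.Cpl A) :=
      Groth.Agent.Hensel.isReduced_tensor_cpl_of_geomNormal h _
    haveI : Algebra.IsGeometricallyReduced K (K ⊗[A] EGA4.Cpl A) := by
      rw [Algebra.isGeometricallyReduced_field_iff]
      exact isReduced_of_injective (Algebra.TensorProduct.cancelBaseChange A K (AlgebraicClosure K)
        (AlgebraicClosure K) (EGA4.Cpl A)) (AlgEquiv.injective _)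
    let φ : K ⊗[A] EGA4.Cpl A →ₐ[K] L := Algebra.TensorProduct.lift (Algebra.ofId K L)
      (IsScalarTower.toAlgHom A (EGA4.Cpl A) L) (fun _ _ => Commute.all _ _)
    letI : Algebra (K ⊗[A] EGA4.Cpl A) L := φ.toRingHom.toAlgebra
    haveI : IsScalarTower K (K ⊗[A] EGA4.Cpl A) L := IsScalarTower.of_algebraMap_eq fun k => (φ.commutes k).symm
    have hrep : ∀ w : K ⊗[A] EGA4.Cpl A, ∃ (s : A) (c : EGA4.Cpl A), s ≠ 0 ∧
        algebraMap A (K ⊗[A] EGA4.Cpl A) s * w = 1 ⊗ₜ c := fun w => by
      induction w using TensorProduct.induction_on with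
      | zero => exact ⟨1, 0, one_ne_zero, by rw [mul_zero, TensorProduct.tmul_zero]⟩
      | tmul k c =>
        obtain ⟨a, b, hb, hk⟩ := IsFractionRing.div_surjective (A := A) k
        refine ⟨b, algebraMap A _ a * c, nonZeroDivisors.ne_zero hb, ?_⟩
        rw [Algebra.TensorProduct.algebraMap_apply, Algebra.TensorProduct.tmul_mul_tmul, one_mul, ← hk,
          mul_div_cancel₀ _ ((map_ne_zero_iff _ (IsFractionRing.injective A K)).2 (nonZeroDivisors.ne_zero hb)),
          Algebra.algebraMap_eq_smul_one, TensorProduct.smul_tmul, Algebra.smul_def]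
      | add w v hw hv =>
        obtain ⟨s, c, hs, hc⟩ := hw
        obtain ⟨t, d, ht, hd⟩ := hv
        refine ⟨s * t, algebraMap A _ t * c + algebraMap A _ s * d, mul_ne_zero hs ht, ?_⟩
        calc algebraMap A (K ⊗[A] EGA4.Cpl A) (s * t) * (w + v)
            = algebraMap A _ t * (algebraMap A _ s * w) + algebraMap A _ s * (algebraMap A _ t * v) := by
              rw [map_mul]; ring
          _ = 1 ⊗ₜ (algebraMap A _ t * c + algebraMap A _ s * d) := by
              rw [hc, hd, TensorProduct.tmul_add, ← Algebra.smul_def, ← Algebra.smul_def, ← Algebra.smul_def,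
                ← Algebra.smul_def, TensorProduct.tmul_smul, TensorProduct.tmul_smul]
    haveI : FaithfulSMul (K ⊗[A] EGA4.Cpl A) L := (faithfulSMul_iff_algebraMap_injective _ _).2 <| by
      refine (injective_iff_map_eq_zero φ).2 fun w hw => ?_
      obtain ⟨s, c, hs, hc⟩ := hrep w
      have h1 : φ (1 ⊗ₜ c) = 0 := by rw [← hc, map_mul, hw, mul_zero]
      rw [show φ (1 ⊗ₜ c) = algebraMap (EGA4.Cpl A) L c by
        rw [Algebra.TensorProduct.lift_tmul, map_one, one_mul]; rfl] at h1
      rw [IsFractionRing.injective (EGA4.Cpl A) L (h1.trans (map_zero _).symm), TensorProduct.tmul_zero] at hc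
      have hu : IsUnit (algebraMap A (K ⊗[A] EGA4.Cpl A) s) := by
        rw [IsScalarTower.algebraMap_apply A K (K ⊗[A] EGA4.Cpl A)]
        exact (Ne.isUnit ((map_ne_zero_iff _ (IsFractionRing.injective A K)).2 hs)).map _
      exact hu.mul_right_eq_zero.1 hc
    haveI : IsFractionRing (K ⊗[A] EGA4.Cpl A) L := IsFractionRing.of_field _ _ fun z => by
      obtain ⟨a, b, hb, rfl⟩ := IsFractionRing.div_surjective (A := EGA4.Cpl A) z
      refine ⟨1 ⊗ₜ a, 1 ⊗ₜ b, ?_⟩
      show _ = φ _ / φ _
      rw [Algebra.TensorProduct.lift_tmul, Algebra.TensorProduct.lift_tmul, map_one, one_mul, one_mul]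
      rfl
    exact Groth.Agent.FBase.Point.isGeometricallyReduced_of_isLocalization (k := K) (A := K ⊗[A] EGA4.Cpl A)
      (M := nonZeroDivisors _) L
  · -- algebraic elements
    obtain ⟨p, hp0, hpx⟩ := (IsFractionRing.isAlgebraic_iff A K L).2 hx
    obtain ⟨s, hs, hsx⟩ : ∃ s : A, s ≠ 0 ∧ IsIntegral A (s • x) :=
      ⟨p.leadingCoeff, Polynomial.leadingCoeff_ne_zero.2 hp0, isIntegral_leadingCoeff_smul p x hpx⟩
    let C := integralClosure A L
    haveI : Algebra.IsIntegral A C := ⟨fun y => (isIntegral_algHom_iff C.val Subtype.val_injective).1 y.2⟩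
    haveI : IsIntegrallyClosedIn C L := inferInstance
    haveI : IsIntegrallyClosed C := IsIntegrallyClosed.of_isIntegrallyClosedIn C L
    haveI := Groth.Agent.Hensel.isDomain_tensor_cpl h C
    let μ : C ⊗[A] EGA4.Cpl A →ₐ[A] L := Algebra.TensorProduct.lift C.val
      (IsScalarTower.toAlgHom A (EGA4.Cpl A) L) (fun _ _ => Commute.all _ _)
    letI : Algebra (EGA4.Cpl A) (C ⊗[A] EGA4.Cpl A) := Algebra.TensorProduct.rightAlgebra
    haveI : Algebra.IsIntegral (EGA4.Cpl A) (C ⊗[A] EGA4.Cpl A) := by
      refine ⟨fun w => ?_⟩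
      induction w using TensorProduct.induction_on with
      | zero => exact isIntegral_zero
      | tmul b c =>
        have h1 : b ⊗ₜ[A] c = (b ⊗ₜ[A] (1 : EGA4.Cpl A)) * algebraMap (EGA4.Cpl A) (C ⊗[A] EGA4.Cpl A) c := by
          show b ⊗ₜ[A] c = b ⊗ₜ[A] (1 : EGA4.Cpl A) * ((1 : C) ⊗ₜ[A] c)
          rw [Algebra.TensorProduct.tmul_mul_tmul, mul_one, one_mul]
        rw [h1]
        exact ((IsIntegral.map (Algebra.TensorProduct.includeLeft : C →ₐ[A] C ⊗[A] EGA4.Cpl A)
          (Algebra.IsIntegral.isIntegral (R := A) b)).tower_top).mul isIntegral_algebraMap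
      | add v w hv hw => exact hv.add hw
    have hμ : RingHom.ker μ.toRingHom = ⊥ := by
      haveI := RingHom.ker_isPrime μ.toRingHom
      refine Ideal.eq_bot_of_comap_eq_bot (R := EGA4.Cpl A) ?_
      refine eq_bot_iff.2 fun c hc => ?_
      have hc' : μ (1 ⊗ₜ c) = 0 := hc
      rw [Algebra.TensorProduct.lift_tmul, map_one, one_mul] at hc'
      exact (Submodule.mem_bot _).2 (IsFractionRing.injective (EGA4.Cpl A) L (hc'.trans (map_zero _).symm))
    obtain ⟨α, β, hβ, hαβ⟩ := IsFractionRing.div_surjective (A := EGA4.Cpl A) (s • x)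
    have hβ0 : β ≠ 0 := nonZeroDivisors.ne_zero hβ
    let y : C := ⟨s • x, hsx⟩
    have h0 : y ⊗ₜ[A] β - (1 : C) ⊗ₜ[A] α = 0 := by
      have : y ⊗ₜ[A] β - (1 : C) ⊗ₜ[A] α ∈ RingHom.ker μ.toRingHom := by
        show μ _ = 0
        rw [map_sub, Algebra.TensorProduct.lift_tmul, Algebra.TensorProduct.lift_tmul, map_one, one_mul]
        show (s • x) * algebraMap (EGA4.Cpl A) L β - algebraMap (EGA4.Cpl A) L α = 0
        rw [← hαβ, div_mul_cancel₀ _ ((map_ne_zero_iff _ (IsFractionRing.injective (EGA4.Cpl A) L)).2 hβ0), sub_self]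
      rwa [hμ, Submodule.mem_bot] at this
    by_contra hxK
    let q := (Submodule.span A {(1 : C)}).mkQ
    let f : A →ₗ[A] C ⧸ Submodule.span A {(1 : C)} := LinearMap.toSpanSingleton A _ (q y)
    have hf : Function.Injective f := by
      refine (injective_iff_map_eq_zero f).2 fun a ha => ?_
      rw [LinearMap.toSpanSingleton_apply, ← map_smul, Submodule.mkQ_apply, Submodule.Quotient.mk_eq_zero,
        Submodule.mem_span_singleton] at ha
      obtain ⟨b, hb⟩ := ha
      by_contra ha0
      apply hxK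
      refine ⟨algebraMap A K b / algebraMap A K (a * s), ?_⟩
      have hb' : b • (1 : L) = a • (s • x) := congrArg Subtype.val hb
      rw [map_div₀, ← IsScalarTower.algebraMap_apply, ← IsScalarTower.algebraMap_apply,
        Algebra.algebraMap_eq_smul_one b, hb', Algebra.smul_def, Algebra.smul_def, ← mul_assoc, ← map_mul,
        mul_div_cancel_left₀]
      rw [IsScalarTower.algebraMap_apply A K L]
      exact (map_ne_zero_iff _ (algebraMap K L).injective).2
        ((map_ne_zero_iff _ (IsFractionRing.injective A K)).2 (mul_ne_zero ha0 hs))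
    have h1 := congrArg (q.rTensor (EGA4.Cpl A)) h0
    rw [map_sub, map_zero, LinearMap.rTensor_tmul, LinearMap.rTensor_tmul,
      show q (1 : C) = 0 from (Submodule.Quotient.mk_eq_zero _).2 (Submodule.mem_span_singleton_self _),
      TensorProduct.zero_tmul, sub_zero] at h1
    have h2 : f.rTensor (EGA4.Cpl A) ((1 : A) ⊗ₜ β) = 0 := by
      rw [LinearMap.rTensor_tmul, LinearMap.toSpanSingleton_apply, one_smul]
      exact h1
    have h3 := Module.Flat.rTensor_preserves_injective_linearMap (M := EGA4.Cpl A) f hf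
      (h2.trans (map_zero _).symm)
    apply hβ0
    have := congrArg (TensorProduct.lid A (EGA4.Cpl A)) h3
    rwa [TensorProduct.lid_tmul, one_smul, map_zero] at this

end Groth.Agent.S5056
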