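import Groth.Statements.S5057
import Mathlib.AlgebraicGeometry.IdealSheaf.Subscheme
import Mathlib.AlgebraicGeometry.Morphisms.Finite
import Mathlib.AlgebraicGeometry.PullbackCarrier

set_option autoImplicit false
open CategoryTheory CategoryTheory.Limits AlgebraicGeometry
universe u
open Hensel

namespace Groth.Agent.S5057

/-- Let i : S₀ ⟶ S be a closed immersion such that for every finite morphism g : S' ⟶ S every
open-closed subset of S' ×_S S₀ is the inverse image under the first projection of exactly one
open-closed subset of S'. Then for every finite morphism g : S' ⟶ S, every open subset of S'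
containing the image of S' ×_S S₀ is all of S'. -/
theorem result {S S₀ : Scheme.{u}} (i : S₀ ⟶ S) [IsClosedImmersion i]
    (ha : ∀ (S' : Scheme.{u}) (g : S' ⟶ S), IsFinite g →
      ∀ V : Set ↥(pullback g i), IsClopen V → ∃! U : Set ↥S', IsClopen U ∧ (pullback.fst g i).base ⁻¹' U = V)
    {S' : Scheme.{u}} (g : S' ⟶ S) [IsFinite g] (U : Set ↥S') (hU : IsOpen U)
    (hU₀ : Set.range (pullback.fst g i).base ⊆ U) : U = Set.univ := by
  let Z : TopologicalSpace.Closeds ↥S' := ⟨Uᶜ, hU.isClosed_compl⟩
  let J := Scheme.IdealSheafData.vanishingIdeal Z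
  let g' := J.subschemeι ≫ g
  have hrange : Set.range J.subschemeι.base = Uᶜ := by
    rw [Scheme.IdealSheafData.range_subschemeι, Scheme.IdealSheafData.coe_support_vanishingIdeal]; rfl
  haveI : IsFinite g' := inferInstance
  obtain ⟨W, -, hW⟩ := ha _ g' inferInstance ∅ isClopen_empty
  have hempty : ∀ z : ↥(pullback g' i), False := fun z => by
    let m : pullback g' i ⟶ pullback g i := pullback.map g' i g i J.subschemeι (𝟙 _) (𝟙 _) (by simp [g']) (by simp)
    have h1 : (pullback.fst g i).base (m.base z) ∈ U := hU₀ ⟨_, rfl⟩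
    have hm : m ≫ pullback.fst g i = pullback.fst g' i ≫ J.subschemeι := pullback.lift_fst _ _ _
    have h2 : J.subschemeι.base ((pullback.fst g' i).base z) = (pullback.fst g i).base (m.base z) := by
      change (pullback.fst g' i ≫ J.subschemeι).base z = (m ≫ pullback.fst g i).base z
      rw [hm]
    exact (hrange.le ⟨_, h2⟩) h1
  have key : (∅ : Set ↥J.subscheme) = Set.univ := (hW ∅ ⟨isClopen_empty, Set.preimage_empty⟩).trans
    (hW Set.univ ⟨isClopen_univ, Set.eq_empty_of_forall_notMem fun z _ => hempty z⟩).symm
  refine Set.eq_univ_of_forall fun x => by_contra fun hx => ?_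
  obtain ⟨z, -⟩ := hrange.ge hx
  exact Set.notMem_empty z (key.ge (Set.mem_univ z))

end Groth.Agent.S5057
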