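import Groth.Statements.S5058
import Groth.Agent.LimLib.FGSub
import Groth.Agent.Hens.Unique
import Groth.Agent.S0511
import Mathlib.RingTheory.FiniteType
-- import your own Groth.Agent.* helpers here

set_option autoImplicit false
open CategoryTheory CategoryTheory.Limits AlgebraicGeometry
universe u
open Hensel

namespace Groth.Agent.S5058

/-- Let A be a henselian local ring and f : X ⟶ Spec A a morphism of finite presentation. Then there
exist a Noetherian henselian local ring A₀, a local ring homomorphism φ : A₀ → A, a morphism of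
finite type f₀ : X₀ ⟶ Spec A₀ and a cartesian square exhibiting X as the base change of X₀ along
Spec φ. -/
theorem result (A : Type u) [CommRing A] [HenselianLocalRing A]
    {X : Scheme.{u}} (f : X ⟶ Spec (CommRingCat.of A)) [LocallyOfFinitePresentation f] [QuasiCompact f] [QuasiSeparated f] :
    ∃ (A₀ : Type u) (_ : CommRing A₀) (_ : HenselianLocalRing A₀) (_ : IsNoetherianRing A₀) (φ : A₀ →+* A) (_ : IsLocalHom φ)
      (X₀ : Scheme.{u}) (f₀ : X₀ ⟶ Spec (CommRingCat.of A₀)) (g : X ⟶ X₀),
      LocallyOfFiniteType f₀ ∧ QuasiCompact f₀ ∧ IsPullback g f f₀ (Spec.map (CommRingCat.ofHom φ)) := by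
  obtain ⟨A₁, hfg, X₁, f₁, g₁, h₁, h₂, h₃, hpb⟩ :=
    Groth.Agent.LimLib.exists_fg_model ℤ A f
  haveI : Algebra.FiniteType ℤ A₁ := (Subalgebra.fg_iff_finiteType A₁).1 hfg
  haveI : IsNoetherianRing A₁ := Algebra.FiniteType.isNoetherianRing ℤ A₁
  let p : Ideal A₁ := (IsLocalRing.maximalIdeal A).comap A₁.val.toRingHom
  haveI : p.IsPrime := Ideal.IsPrime.comap _
  have hu : ∀ y : p.primeCompl, IsUnit (A₁.val.toRingHom y) := fun y => by
    by_contra hy
    exact y.2 hy
  let χ : Localization.AtPrime p →+* A := IsLocalization.lift hu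
  haveI hχ : IsLocalHom χ := by
    constructor
    intro z hz
    obtain ⟨x, s, rfl⟩ := IsLocalization.exists_mk'_eq p.primeCompl z
    rw [IsLocalization.AtPrime.isUnit_mk'_iff]
    intro hx
    have hsp : χ (IsLocalization.mk' _ x s) * A₁.val.toRingHom s = A₁.val.toRingHom x := by
      rw [show A₁.val.toRingHom s = χ (algebraMap _ _ (s : A₁)) from (IsLocalization.lift_eq hu _).symm,
        ← map_mul, IsLocalization.mk'_spec]
      exact IsLocalization.lift_eq hu _
    exact hx (hsp ▸ hz.mul (hu s))
  let A₀ := Groth.Agent.Hens.Henselization (Localization.AtPrime p)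
  obtain ⟨φ, hφ, -⟩ := Hensel.IsHenselization.universal (R := Localization.AtPrime p) (S := A₀)
    A χ hχ
  haveI hN : IsNoetherianRing A₀ := (Groth.Agent.S0511.result (Localization.AtPrime p) A₀).1
    (IsLocalization.isNoetherianRing p.primeCompl _ inferInstance)
  haveI hloc : IsLocalHom φ := by
    constructor
    intro z hz
    by_contra hzu
    have hm : z ∈ IsLocalRing.maximalIdeal A₀ := hzu
    rw [← Groth.Agent.Hens.map_maximalIdeal_of_isHenselization (R := Localization.AtPrime p)] at hm
    have h' := Ideal.mem_map_of_mem φ hm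
    rw [Ideal.map_map, hφ] at h'
    have hle : (IsLocalRing.maximalIdeal (Localization.AtPrime p)).map χ ≤
        IsLocalRing.maximalIdeal A := by
      rw [Ideal.map_le_iff_le_comap]
      intro x hx hu
      exact hx (isUnit_of_map_unit χ _ hu)
    exact hle h' hz
  let ι : A₁ →+* A₀ := (algebraMap (Localization.AtPrime p) A₀).comp (algebraMap A₁ _)
  have hι : φ.comp ι = A₁.val.toRingHom := by
    rw [← RingHom.comp_assoc, hφ]
    exact IsLocalization.lift_comp hu
  let q := Spec.map (CommRingCat.ofHom ι)
  have hbot := IsPullback.of_hasPullback f₁ q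
  have e : Spec.map (CommRingCat.ofHom φ) ≫ q = Spec.map (CommRingCat.ofHom A₁.val.toRingHom) := by
    rw [← Spec.map_comp, ← CommRingCat.ofHom_comp, hι]
  let g : X ⟶ Limits.pullback f₁ q :=
    Limits.pullback.lift g₁ (f ≫ Spec.map (CommRingCat.ofHom φ))
      (by rw [hpb.w, Category.assoc, e])
  refine ⟨A₀, inferInstance, inferInstance, hN, φ, hloc, Limits.pullback f₁ q,
    Limits.pullback.snd f₁ q, g, inferInstance, inferInstance, ?_⟩
  refine IsPullback.of_right ?_ (Limits.pullback.lift_snd _ _ _) hbot.flip.flip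
  rw [Limits.pullback.lift_fst, e]
  exact hpb

end Groth.Agent.S5058
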