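import Groth.Statements.S5059
import Groth.Agent.NormFlatReg.Basic
-- import your own Groth.Agent.* helpers here

set_option autoImplicit false
universe u
open CInt

namespace Groth.Agent.S5059

/-- a) iff c) in the Noetherian case: let A be a Noetherian ring, R an ideal of A, f_1, …, f_n elements
of the Jacobson radical of A whose images form a regular sequence on A/R, Q = R + (f_1, …, f_n), and
M a finitely generated A-module. Then every graded piece R^k M / R^(k+1) M is flat over A/R if and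
only if, for every k, (R^k M / R^(k+1) M) ⊗ A/Q is flat over A/Q and f_1, …, f_n is a regular
sequence on R^k M / R^(k+1) M. -/
theorem result (A : Type u) [CommRing A] [IsNoetherianRing A]
    (R : Ideal A) {n : ℕ} (f : Fin n → A) (hrad : ∀ i, f i ∈ (⊥ : Ideal A).jacobson)
    (hreg : RingTheory.Sequence.IsWeaklyRegular (A ⧸ R) (List.ofFn f))
    (M : Type u) [AddCommGroup M] [Module A M] [Module.Finite A M] :
    EGA4.IsNormallyFlat R M ↔
      ∀ k : ℕ, Module.Flat (A ⧸ (R ⊔ Ideal.span (Set.range f))) ((↥(R ^ k • (⊤ : Submodule A M)) ⧸ (R • (⊤ : Submodule A ↥(R ^ k • (⊤ : Submodule A M))))) ⧸ ((R ⊔ Ideal.span (Set.range f)) • (⊤ : Submodule A (↥(R ^ k • (⊤ : Submodule A M)) ⧸ (R • (⊤ : Submodule A ↥(R ^ k • (⊤ : Submodule A M)))))))) ∧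
        RingTheory.Sequence.IsWeaklyRegular (↥(R ^ k • (⊤ : Submodule A M)) ⧸ (R • (⊤ : Submodule A ↥(R ^ k • (⊤ : Submodule A M))))) (List.ofFn f) := by
  unfold EGA4.IsNormallyFlat
  refine forall_congr' fun k => ?_
  set P := ↥(R ^ k • (⊤ : Submodule A M)) ⧸ (R • (⊤ : Submodule A ↥(R ^ k • (⊤ : Submodule A M))))
  haveI : Module.Finite (A ⧸ R) P := Module.Finite.of_restrictScalars_finite A _ _
  set π := Ideal.Quotient.mk R
  set fs := List.ofFn f
  set F := Ideal.span (Set.range f)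
  have hA : RingTheory.Sequence.IsWeaklyRegular (A ⧸ R) (fs.map (algebraMap A (A ⧸ R))) :=
    (RingTheory.Sequence.isWeaklyRegular_map_algebraMap_iff (A ⧸ R) (A ⧸ R) fs).mpr hreg
  have hofList : Ideal.ofList fs = F := by
    simp only [fs, F, Ideal.ofList]
    congr 1
    ext a
    simp [List.mem_ofFn, Set.mem_range]
  have hI : Ideal.ofList (fs.map (algebraMap A (A ⧸ R))) = F.map π := by
    rw [← Ideal.map_ofList, hofList]; rfl
  have hj : Ideal.ofList (fs.map (algebraMap A (A ⧸ R))) ≤ (⊥ : Ideal (A ⧸ R)).jacobson := by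
    rw [hI, Ideal.map_span, Ideal.span_le]
    rintro _ ⟨_, ⟨i, rfl⟩, rfl⟩
    rw [SetLike.mem_coe, Ideal.mem_jacobson_bot]
    intro y
    obtain ⟨y, rfl⟩ := Ideal.Quotient.mk_surjective y
    rw [← map_mul, ← map_one π, ← map_add]
    exact (Ideal.mem_jacobson_bot.mp (hrad i) y).map π
  rw [Groth.Agent.NormFlatReg.flat_iff_quot_and_regular _ hA hj,
    RingTheory.Sequence.isWeaklyRegular_map_algebraMap_iff (A ⧸ R) P fs]
  refine and_congr ?_ Iff.rfl
  set I := Ideal.ofList (fs.map (algebraMap A (A ⧸ R)))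
  have hsmul : ∀ y : P, y ∈ (R ⊔ F) • (⊤ : Submodule A P) ↔ y ∈ I • (⊤ : Submodule (A ⧸ R) P) := by
    intro y
    rw [hI]
    have e : ∀ (a : A) (p : P), π a • p = a • p := fun a p => algebraMap_smul (A ⧸ R) a p
    constructor
    · intro hy
      refine Submodule.smul_induction_on hy (fun a ha m _ => ?_) fun _ _ h h' => add_mem h h'
      rw [← e]
      refine Submodule.smul_mem_smul ?_ trivial
      obtain ⟨r, hr, b, hb, rfl⟩ := Submodule.mem_sup.mp ha
      rw [map_add, Ideal.Quotient.eq_zero_iff_mem.mpr hr, zero_add]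
      exact Ideal.mem_map_of_mem π hb
    · intro hy
      refine Submodule.smul_induction_on hy (fun a ha m _ => ?_) fun _ _ h h' => add_mem h h'
      obtain ⟨b, hb, rfl⟩ := (Ideal.mem_map_iff_of_surjective π Ideal.Quotient.mk_surjective).mp ha
      rw [e]
      exact Submodule.smul_mem_smul (Ideal.mem_sup_right hb) trivial
  let g : (P ⧸ (R ⊔ F) • (⊤ : Submodule A P)) ≃+ (P ⧸ I • (⊤ : Submodule (A ⧸ R) P)) :=
    QuotientAddGroup.quotientAddEquivOfEq (by ext y; exact hsmul y)
  let e₂ : (A ⧸ (R ⊔ F)) ≃+* ((A ⧸ R) ⧸ I) :=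
    (DoubleQuot.quotQuotEquivQuotSup R F).symm.trans (Ideal.quotEquivOfEq hI.symm)
  let τ := TensorProduct.quotTensorEquivQuotSMul P I
  let g' := g.trans τ.symm.toAddEquiv
  have hg' : ∀ (s : A ⧸ (R ⊔ F)) (p), g' (s • p) = e₂ s • g' p := by
    intro s p
    obtain ⟨s, rfl⟩ := Ideal.Quotient.mk_surjective s
    obtain ⟨p, rfl⟩ := Submodule.Quotient.mk_surjective _ p
    show τ.symm (Submodule.Quotient.mk (s • p)) =
      Ideal.Quotient.mk I (π s) • τ.symm (Submodule.Quotient.mk p)
    rw [← algebraMap_smul (A ⧸ R) s p, Submodule.Quotient.mk_smul, map_smul]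
    exact (algebraMap_smul ((A ⧸ R) ⧸ I) (π s) (τ.symm (Submodule.Quotient.mk p))).symm
  constructor
  · intro h
    refine Groth.Agent.NormFlatReg.flat_of_ringEquiv e₂.symm _ _ g'.symm fun s q => g'.injective ?_
    rw [AddEquiv.apply_symm_apply, hg', RingEquiv.apply_symm_apply, AddEquiv.apply_symm_apply]
  · intro h
    exact Groth.Agent.NormFlatReg.flat_of_ringEquiv e₂ _ _ g' hg'

end Groth.Agent.S5059
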