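import Groth.Statements.S5061
import Groth.Agent.FBase.PerfectReduced
import Mathlib.FieldTheory.IsPerfectClosure
import Mathlib.RingTheory.Noetherian.OfPrime
import Mathlib.RingTheory.HopkinsLevitzki
-- import your own Groth.Agent.* helpers here

set_option autoImplicit false
set_option linter.style.haveILetI false
open scoped TensorProduct
universe u
open EGA418

namespace Groth.Agent.S5061


open Groth.Agent.FBase.PerfectReduced Groth.Agent.CAlgA.GeomTensor in
theorem exists_of_artinian (p : ℕ) [Fact p.Prime] (k K P : Type u) [Field k] [CharP k p] [Field K] [Algebra k K]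
    [Field P] [Algebra k P] [PerfectRing P p] [IsPRadical (algebraMap k P) p] [IsArtinianRing (P ⊗[k] K)] :
    ∃ (k' : Type u) (_ : Field k') (_ : Algebra k k'), Module.Finite k k' ∧ IsPurelyInseparable k k' ∧
      Algebra.IsGeometricallyReduced k' ((k' ⊗[k] K) ⧸ nilradical (k' ⊗[k] K)) := by
  classical
  haveI : ExpChar k p := ExpChar.prime Fact.out
  haveI := charP_of_injective_algebraMap (algebraMap k P).injective p
  haveI : ExpChar P p := ExpChar.prime Fact.out
  haveI := IsPRadical.isPurelyInseparable k P p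
  haveI : PerfectField P := PerfectRing.toPerfectField P p
  obtain ⟨s, hs⟩ := IsNoetherian.noetherian (nilradical (P ⊗[k] K))
  obtain ⟨F, hF, hsub⟩ := exists_finite_sub (k := k) (S := K) (E := P) s s.finite_toSet
  haveI : Algebra.IsAlgebraic F P := Algebra.IsAlgebraic.tower_top (K := k) _
  exact ⟨F, inferInstance, inferInstance, hF, IsPurelyInseparable.tower_bot k F P,
    isGeometricallyReduced_of_generators K F P _ hs hsub⟩

theorem isUnit_or_isNilpotent {k K P : Type u} [Field k] [Field K] [Algebra k K] [Field P] [Algebra k P]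
    [IsPurelyInseparable k P] (x : K ⊗[k] P) : IsUnit x ∨ IsNilpotent x := by
  obtain ⟨n, hn, c, hc⟩ := IsPurelyInseparable.exists_pow_mem_range_tensorProduct (k := k) x
  rcases eq_or_ne c 0 with rfl | h
  · exact Or.inr ⟨n, by rw [← hc, map_zero]⟩
  · exact Or.inl ((isUnit_pow_iff hn.ne').mp (hc ▸ (IsUnit.map _ (isUnit_iff_ne_zero.mpr h))))

open Groth.Agent.CAlgA.GeomTensor Groth.Agent.FBase.TensorAlgClosed in
theorem fg_nilradical (p : ℕ) [Fact p.Prime] (k K P k' : Type u) [Field k] [CharP k p] [Field K] [Algebra k K]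
    [Field P] [Algebra k P] [Field k'] [Algebra k k'] [Algebra k' P] [IsScalarTower k k' P]
    [Module.Finite k k'] (h : Algebra.IsGeometricallyReduced k' ((k' ⊗[k] K) ⧸ nilradical (k' ⊗[k] K))) :
    (nilradical (P ⊗[k] K)).FG := by
  classical
  let B := k' ⊗[k] K
  let R := B ⧸ nilradical B
  let φ : B →ₐ[k'] P ⊗[k] K := Algebra.TensorProduct.map (Algebra.ofId k' P) (AlgHom.id k K)
  haveI : Module.Finite K (K ⊗[k] k') := inferInstance
  haveI : IsNoetherianRing (K ⊗[k] k') := IsNoetherianRing.of_finite K _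
  haveI : IsNoetherianRing B := isNoetherianRing_of_ringEquiv _ (Algebra.TensorProduct.comm k K k').toRingEquiv
  set N := (nilradical B).map φ.toRingHom with hN
  suffices hle : nilradical (P ⊗[k] K) ≤ N by
    have hge : N ≤ nilradical (P ⊗[k] K) := Ideal.map_le_iff_le_comap.mpr fun z hz =>
      mem_nilradical.mpr ((mem_nilradical.mp hz).map φ.toRingHom)
    rw [le_antisymm hle hge]
    exact Ideal.FG.map (IsNoetherian.noetherian _) _
  haveI : IsReduced (P ⊗[k'] R) := isReduced_tensor_of_isGeometricallyReduced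
  let β : R →ₐ[k'] (P ⊗[k] K) ⧸ N := Ideal.Quotient.liftₐ _ ((Ideal.Quotient.mkₐ k' N).comp φ)
    fun z hz => Ideal.Quotient.eq_zero_iff_mem.mpr (Ideal.mem_map_of_mem _ hz)
  let χ : P ⊗[k'] R →ₐ[P] (P ⊗[k] K) ⧸ N :=
    Algebra.TensorProduct.lift (Algebra.ofId P _) β fun _ _ => Commute.all _ _
  let ψ : P ⊗[k] K →ₐ[P] P ⊗[k'] R :=
    Algebra.TensorProduct.lift (Algebra.ofId P _)
      ((Algebra.TensorProduct.includeRight.restrictScalars k).comp
        (((Ideal.Quotient.mkₐ k' _).restrictScalars k).comp Algebra.TensorProduct.includeRight))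
      fun x y => @mul_comm (P ⊗[k'] R) _ _ _
  have hχψ : ∀ z, χ (ψ z) = Ideal.Quotient.mk N z := by
    intro z
    induction z using TensorProduct.induction_on with
    | zero => simp
    | add a b ha hb => rw [map_add, map_add, ha, hb, map_add]
    | tmul a b =>
      rw [show ψ (a ⊗ₜ[k] b) = algebraMap P (P ⊗[k'] R) a *
          ((1 : P) ⊗ₜ[k'] (Ideal.Quotient.mk _ ((1 : k') ⊗ₜ[k] b) : R)) from Algebra.TensorProduct.lift_tmul ..,
        map_mul, AlgHom.commutes, show χ ((1 : P) ⊗ₜ[k'] (Ideal.Quotient.mk _ ((1 : k') ⊗ₜ[k] b) : R)) =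
          algebraMap P _ 1 * Ideal.Quotient.mk N (φ ((1 : k') ⊗ₜ[k] b)) from Algebra.TensorProduct.lift_tmul ..,
        map_one, one_mul, show algebraMap P ((P ⊗[k] K) ⧸ N) a = Ideal.Quotient.mk N (a ⊗ₜ[k] (1 : K)) from rfl,
        ← map_mul, show φ ((1 : k') ⊗ₜ[k] b) = algebraMap k' P 1 ⊗ₜ[k] b from rfl, map_one,
        Algebra.TensorProduct.tmul_mul_tmul, mul_one, one_mul]
  intro z hz
  rw [← Ideal.Quotient.eq_zero_iff_mem, ← hχψ, ((mem_nilradical.mp hz).map ψ).eq_zero, map_zero]

/-- a) iff c): let k be a field of characteristic p > 0, P a perfect closure of k (a perfect field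
purely inseparable over k) and K an extension field of k. Then the ring K ⊗_k P is Artinian if and
only if there exists a finite purely inseparable extension k' of k such that (k' ⊗_k K) modulo its
nilradical is geometrically reduced over k'. -/
theorem result (p : ℕ) [Fact p.Prime]
    (k K : Type u) [Field k] [CharP k p] [Field K] [Algebra k K]
    (P : Type u) [Field P] [Algebra k P] [PerfectRing P p] [IsPRadical (algebraMap k P) p] :
    IsArtinianRing (K ⊗[k] P) ↔
      ∃ (k' : Type u) (_ : Field k') (_ : Algebra k k'), Module.Finite k k' ∧ IsPurelyInseparable k k' ∧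
        Algebra.IsGeometricallyReduced k' ((k' ⊗[k] K) ⧸ nilradical (k' ⊗[k] K)) := by

  classical
  haveI : ExpChar k p := ExpChar.prime Fact.out
  haveI := charP_of_injective_algebraMap (algebraMap k P).injective p
  haveI : ExpChar P p := ExpChar.prime Fact.out
  haveI := IsPRadical.isPurelyInseparable k P p
  let e : K ⊗[k] P ≃+* P ⊗[k] K := (Algebra.TensorProduct.comm k K P).toRingEquiv
  constructor
  · intro hA
    haveI : IsArtinianRing (P ⊗[k] K) := e.isArtinianRing
    exact exists_of_artinian p k K P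
  · rintro ⟨k', _, _, hfin, hpi, hgr⟩
    haveI := hfin
    haveI := hpi
    haveI := charP_of_injective_algebraMap (algebraMap k k').injective p
    haveI : ExpChar k' p := ExpChar.prime Fact.out
    let i : k' →+* P := PerfectRing.lift (algebraMap k k') (algebraMap k P) p
    letI : Algebra k' P := i.toAlgebra
    haveI : IsScalarTower k k' P := IsScalarTower.of_algebraMap_eq fun x =>
      (PerfectRing.lift_comp_apply (algebraMap k k') (algebraMap k P) p x).symm
    have hfg := fg_nilradical p k K P k' hgr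
    have hprime : ∀ Q : Ideal (P ⊗[k] K), Q.IsPrime → Q = nilradical (P ⊗[k] K) := fun Q hQ =>
      le_antisymm (fun x hx => ((isUnit_or_isNilpotent (e.symm x)).resolve_left fun hu => hQ.ne_top
        (Q.eq_top_of_isUnit_mem hx (by simpa using hu.map e))) |>.map e |> fun h => mem_nilradical.mpr (by simpa using h))
        (nilradical_le_prime Q)
    haveI : IsNoetherianRing (P ⊗[k] K) := IsNoetherianRing.of_prime fun Q hQ => hprime Q hQ ▸ hfg
    haveI : Ring.KrullDimLE 0 (P ⊗[k] K) := Ring.KrullDimLE.mk₀ fun Q hQ => by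
      obtain ⟨M, hM, hQM⟩ := Ideal.exists_le_maximal Q hQ.ne_top
      rwa [hprime Q hQ, ← hprime M hM.isPrime]
    haveI : IsArtinianRing (P ⊗[k] K) :=
      isArtinianRing_iff_isNoetherianRing_krullDimLE_zero.mpr ⟨inferInstance, inferInstance⟩
    exact e.symm.isArtinianRing

end Groth.Agent.S5061
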