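import Groth.Statements.S5062
import Groth.Agent.Hensel.SepClosed
import Groth.Agent.S0502
import Mathlib.AlgebraicGeometry.Morphisms.Etale

set_option autoImplicit false
open CategoryTheory AlgebraicGeometry
universe u
open Hensel

namespace Groth.Agent.S5062

/-- a) iff c): a local ring A is henselian with separably closed residue field if and only if, for every
étale morphism f : X ⟶ Spec A and every point x of X lying over the closed point s, there is a
section u of f with u s = x. -/
theorem result (A : Type u) [CommRing A] [IsLocalRing A] :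
    (HenselianLocalRing A ∧ IsSepClosed (IsLocalRing.ResidueField A)) ↔
      ∀ (X : Scheme.{u}) (f : X ⟶ Spec (CommRingCat.of A)), Etale f →
        ∀ x : X, f.base x = IsLocalRing.closedPoint A →
          ∃ u : Spec (CommRingCat.of A) ⟶ X, u ≫ f = 𝟙 _ ∧ u.base (IsLocalRing.closedPoint A) = x := by
  open CategoryTheory AlgebraicGeometry in
  constructor
  · rintro ⟨hA, hsep⟩ X f hf x hx
    obtain ⟨_, ⟨U, (hU : IsAffineOpen U), rfl⟩, hxU, -⟩ := X.isBasis_affineOpens.exists_subset_of_mem_open (Set.mem_univ x) isOpen_univ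
    let B := Γ(X, U)
    let φ : CommRingCat.of A ⟶ B := Spec.preimage (hU.fromSpec ≫ f)
    have hφ : Spec.map φ = hU.fromSpec ≫ f := Spec.map_preimage _
    letI : Algebra A B := φ.hom.toAlgebra
    haveI : Algebra.Etale A B := by
      have h1 : Etale (Spec.map φ) := by rw [hφ]; infer_instance
      have h2 : φ.hom.Etale := (HasRingHomProperty.Spec_iff (P := @Etale)).1 h1
      exact h2
    let y : Spec B := ⟨(hU.primeIdealOf ⟨x, hxU⟩).asIdeal, (hU.primeIdealOf ⟨x, hxU⟩).isPrime⟩
    have hy : hU.fromSpec.base y = x := hU.fromSpec_primeIdealOf ⟨x, hxU⟩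
    have hym : y.asIdeal.comap (algebraMap A B) = IsLocalRing.maximalIdeal A := by
      have h1 : (Spec.map φ).base y = IsLocalRing.closedPoint A := by
        rw [hφ]
        change f.base (hU.fromSpec.base y) = _
        rw [hy, hx]
      exact congrArg PrimeSpectrum.asIdeal h1
    let K := y.asIdeal.ResidueField
    letI : Algebra (IsLocalRing.ResidueField A) K :=
      (Ideal.Quotient.lift (IsLocalRing.maximalIdeal A) (algebraMap A K) fun a ha => by
        rw [IsScalarTower.algebraMap_apply A B K, Ideal.algebraMap_residueField_eq_zero]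
        exact hym.ge ha).toAlgebra
    haveI : IsScalarTower A (IsLocalRing.ResidueField A) K := .of_algebraMap_eq fun a => rfl
    let π : B →ₐ[A] K := IsScalarTower.toAlgHom A B K
    choose a ha using fun b : B => Hensel.mem_range_of_point_of_sepClosed π b
    have hinj : Function.Injective (algebraMap (IsLocalRing.ResidueField A) K) := RingHom.injective _
    let σ₀ : B →ₐ[A] IsLocalRing.ResidueField A :=
      { toFun := a
        map_one' := hinj (by rw [ha, map_one, map_one])
        map_mul' := fun x y => hinj (by rw [map_mul, ha, ha, ha, map_mul])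
        map_zero' := hinj (by rw [ha, map_zero, map_zero])
        map_add' := fun x y => hinj (by rw [map_add, ha, ha, ha, map_add])
        commutes' := fun r => hinj (by rw [ha, AlgHom.commutes, ← IsScalarTower.algebraMap_apply]) }
    obtain ⟨τ, hτ, -⟩ := Hensel.existsUnique_algHom_residue B σ₀
    refine ⟨Spec.map (CommRingCat.ofHom τ.toRingHom) ≫ hU.fromSpec, ?_, ?_⟩
    · rw [Category.assoc, ← hφ, ← Spec.map_comp, ← Spec.map_id]
      congr 1
      ext r
      exact τ.commutes r
    · change hU.fromSpec.base ((Spec.map (CommRingCat.ofHom τ.toRingHom)).base (IsLocalRing.closedPoint A)) = x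
      rw [← hy]
      congr 1
      refine PrimeSpectrum.ext (Ideal.ext fun b => ?_)
      change τ b ∈ IsLocalRing.maximalIdeal A ↔ b ∈ y.asIdeal
      rw [← IsLocalRing.residue_eq_zero_iff, hτ, ← Ideal.algebraMap_residueField_eq_zero (I := y.asIdeal)]
      change a b = 0 ↔ π b = 0
      rw [← ha b, map_eq_zero]
  · intro h
    have sec : ∀ (B : Type u) [CommRing B] [Algebra A B] [Algebra.Etale A B] (q : Ideal B) [q.IsPrime],
        q.comap (algebraMap A B) = IsLocalRing.maximalIdeal A → Nonempty (B →ₐ[A] A) := by
      intro B _ _ _ q _ hq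
      have h1 : Etale (Spec.map (CommRingCat.ofHom (algebraMap A B))) :=
        (HasRingHomProperty.Spec_iff (P := @Etale)).2 (RingHom.etale_algebraMap.2 inferInstance)
      obtain ⟨u, hu, -⟩ := h _ _ h1 ⟨q, inferInstance⟩ (PrimeSpectrum.ext hq)
      refine ⟨{ toRingHom := (Spec.preimage u).hom, commutes' := fun r => ?_ }⟩
      have h2 : CommRingCat.ofHom (algebraMap A B) ≫ Spec.preimage u = 𝟙 _ :=
        Spec.map_injective (by rw [Spec.map_comp, Spec.map_preimage, hu, Spec.map_id])
      exact congr($h2 r)
    refine ⟨Groth.Agent.S0502.result A fun B _ _ _ q _ hq _ => sec B q hq.over.symm, ?_⟩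
    refine IsSepClosed.of_exists_root _ fun p hp hirr hsep => ?_
    obtain ⟨F, hFmap, -, hF⟩ := Polynomial.lifts_and_degree_eq_and_monic
      ((Polynomial.mem_lifts p).2 (Polynomial.map_surjective (IsLocalRing.residue A) IsLocalRing.residue_surjective p)) hp
    let P : StandardEtalePair A :=
      { f := F, monic_f := hF, g := Polynomial.derivative F, cond := ⟨1, 0, 1, by simp⟩ }
    haveI : Fact (Irreducible p) := ⟨hirr⟩
    have hev : ∀ g : Polynomial A, Polynomial.aeval (AdjoinRoot.root p) g =
        AdjoinRoot.mk p (g.map (IsLocalRing.residue A)) := fun g => by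
      rw [← AdjoinRoot.aeval_eq, ← IsLocalRing.ResidueField.algebraMap_eq, Polynomial.aeval_map_algebraMap]
    have hmap : P.HasMap (AdjoinRoot.root p) := by
      refine ⟨?_, ?_⟩
      · rw [hev, hFmap, AdjoinRoot.mk_self]
      · rw [hev, ← Polynomial.derivative_map, hFmap]
        obtain ⟨a, b, hab⟩ := hsep
        refine IsUnit.of_mul_eq_one (AdjoinRoot.mk p b) ?_
        have := congrArg (AdjoinRoot.mk p) hab
        rwa [map_add, map_mul, map_mul, AdjoinRoot.mk_self, mul_zero, zero_add, map_one, mul_comm] at this
    haveI : (RingHom.ker (P.lift _ hmap).toRingHom).IsPrime := RingHom.ker_isPrime _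
    obtain ⟨τ⟩ := sec P.Ring (RingHom.ker (P.lift _ hmap).toRingHom) (by
      ext a
      rw [Ideal.mem_comap, RingHom.mem_ker]
      change (P.lift _ hmap) (algebraMap A _ a) = 0 ↔ _
      rw [AlgHom.commutes, IsScalarTower.algebraMap_apply A (IsLocalRing.ResidueField A) (AdjoinRoot p),
        map_eq_zero, IsLocalRing.ResidueField.algebraMap_eq, IsLocalRing.residue_eq_zero_iff])
    refine ⟨IsLocalRing.residue A (τ P.X), ?_⟩
    rw [← hFmap, Polynomial.eval_map, Polynomial.eval₂_at_apply, ← Polynomial.coe_aeval_eq_eval,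
      Polynomial.aeval_algHom_apply, P.hasMap_X.1, map_zero, map_zero]

end Groth.Agent.S5062
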