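import Groth.Statements.S5064
import Groth.Agent.EtStruct.LocalImm
import Groth.Agent.EtStruct.BaseChangeDescentScheme
-- import your own Groth.Agent.* helpers here

set_option autoImplicit false
open CategoryTheory CategoryTheory.Limits AlgebraicGeometry
universe u
open Unram

namespace Groth.Agent.S5064

open AlgebraicGeometry CategoryTheory CategoryTheory.Limits Groth.Agent.EtStruct

set_option backward.isDefEq.respectTransparency false

/-- Let f : X ⟶ Y be locally of finite presentation. If f is étale then there are étale morphisms g_a :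
Y'_a ⟶ Y and opens U_a of the fibre products X ×_Y Y'_a whose images under the first projections
cover X, such that each U_a ⟶ Y'_a (inclusion followed by the second projection) is an open
immersion. Conversely, the existence of such a family with the g_a only assumed flat implies that f
is étale. -/
theorem result {X Y : Scheme.{u}} (f : X ⟶ Y) [LocallyOfFinitePresentation f] :
    (Etale f → ∃ (ι : Type u) (Y' : ι → Scheme.{u}) (g : ∀ a, Y' a ⟶ Y) (U : ∀ a, (pullback f (g a)).Opens),
      (∀ a, Etale (g a)) ∧ (∀ x : X, ∃ a, x ∈ (pullback.fst f (g a)).base '' (U a : Set ↥(pullback f (g a)))) ∧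
        ∀ a, IsOpenImmersion ((U a).ι ≫ pullback.snd f (g a))) ∧
    ((∃ (ι : Type u) (Y' : ι → Scheme.{u}) (g : ∀ a, Y' a ⟶ Y) (U : ∀ a, (pullback f (g a)).Opens),
      (∀ a, Flat (g a)) ∧ (∀ x : X, ∃ a, x ∈ (pullback.fst f (g a)).base '' (U a : Set ↥(pullback f (g a)))) ∧
        ∀ a, IsOpenImmersion ((U a).ι ≫ pullback.snd f (g a))) → Etale f) := by
  constructor
  · intro hf
    have key : ∀ x : X, ∃ (Y' : Scheme.{u}) (g : Y' ⟶ Y) (U : (pullback f g).Opens),
        Etale g ∧ x ∈ pullback.fst f g '' (U : Set ↥(pullback f g)) ∧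
          IsOpenImmersion (U.ι ≫ pullback.snd f g) := by
      intro x
      obtain ⟨Y', g, u, hg, hgu, D, hD⟩ := exists_parts_etale f (f x) (fun _ : Unit ↦ x) (fun _ ↦ rfl)
        (fun _ ↦ ⟨⊤, trivial, MorphismProperty.comp_mem @Etale _ _ inferInstance hf⟩)
      obtain ⟨w, h1, h2⟩ := Scheme.Pullback.exists_preimage_pullback (f := f) (g := g) x u hgu.symm
      obtain ⟨k, rfl⟩ := D.cover w () h2 h1
      exact ⟨Y', g, D.V k, hg, ⟨_, D.mem k, h1⟩, hD k⟩
    choose Y' g U hg hx hU using key
    exact ⟨X, Y', g, U, hg, fun x ↦ ⟨x, hx x⟩, hU⟩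
  · rintro ⟨ι, Y', g, U, hg, hx, hU⟩
    have key : ∀ x : X, ∃ W : X.Opens, x ∈ W ∧ Etale (W.ι ≫ f) := by
      intro x
      obtain ⟨a, w, hw, rfl⟩ := hx x
      have := hg a
      have := hU a
      exact etale_nhd_of_baseChange (IsPullback.of_hasPullback f (g a)) w
        (Flat.stalkMap _ _) ⟨U a, hw, inferInstance⟩
    choose W hxW hW using key
    have hcov : ⨆ x, W x = ⊤ :=
      eq_top_iff.mpr fun x _ ↦ TopologicalSpace.Opens.mem_iSup.mpr ⟨x, hxW x⟩
    exact (IsZariskiLocalAtSource.iff_of_iSup_eq_top (P := @Etale) _ hcov).mpr hW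

end Groth.Agent.S5064
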