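import Groth.Statements.S5065
import Groth.Agent.EtStruct.Compositum
-- import your own Groth.Agent.* helpers here

set_option autoImplicit false
universe u
open Unram

namespace Groth.Agent.S5065

open TensorProduct

/-- Let A ⊆ A' be integrally closed domains, L a field algebraic over the fraction field of A in which A
embeds and whose integral closure C over A is an étale A-algebra, and L₁ a field in which A' and L
both embed, compatibly over A, and which is generated as a field by the images of A' and L (a
compositum of L with the fraction field of A'; the map A' → L₁ is injective, so that the fraction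
field of A' is a subfield of L₁). Then the integral closure of A' in L₁ is an étale A'-algebra and
coincides with the A'-subalgebra generated by the image of C. -/
theorem result (A A' L L₁ : Type u) [CommRing A] [IsDomain A]
    [IsIntegrallyClosed A] [CommRing A'] [IsDomain A'] [IsIntegrallyClosed A'] [Algebra A A']
    [Field L] [Algebra A L] [Algebra.IsAlgebraic A L] (hinj : Function.Injective (algebraMap A L))
    [Algebra.Etale A ↥(integralClosure A L)]
    [Field L₁] [Algebra A' L₁] [Algebra L L₁] [Algebra A L₁] [IsScalarTower A A' L₁] [IsScalarTower A L L₁]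
    (hinj' : Function.Injective (algebraMap A' L₁))
    (hgen : Subfield.closure (Set.range (algebraMap A' L₁) ∪ Set.range (algebraMap L L₁)) = ⊤) :
    Algebra.Etale A' ↥(integralClosure A' L₁) ∧
      integralClosure A' L₁ = Algebra.adjoin A' ((algebraMap L L₁) '' {x : L | IsIntegral A x}) := by
  have hA' : ∀ a : A, algebraMap A L₁ a = 0 → a = 0 := fun a h ↦ hinj (by
    rw [map_zero]
    apply (algebraMap L L₁).injective
    rwa [← IsScalarTower.algebraMap_apply, map_zero])
  have : Algebra.IsIntegral A' (A' ⊗[A] ↥(integralClosure A L)) := inferInstance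
  let ψ : A' ⊗[A] ↥(integralClosure A L) →ₐ[A'] L₁ :=
    Algebra.TensorProduct.lift (Algebra.ofId A' L₁)
      ((IsScalarTower.toAlgHom A L L₁).comp (integralClosure A L).val) fun _ _ ↦ .all _ _
  let α : FractionRing A' →ₐ[A'] L₁ := IsFractionRing.liftAlgHom (g := Algebra.ofId A' L₁) hinj'
  have hgen' : Subfield.closure (Set.range α ∪ Set.range ψ) = ⊤ := by
    rw [eq_top_iff, ← hgen, Subfield.closure_le]
    rintro _ (⟨a, rfl⟩ | ⟨l, rfl⟩)
    · exact Subfield.subset_closure (Or.inl ⟨algebraMap A' _ a, α.commutes a⟩)
    · obtain ⟨a, ha, hl⟩ := (Algebra.IsAlgebraic.isAlgebraic (R := A) l).exists_integral_multiple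
      have h1 : algebraMap L L₁ (a • l) ∈ Subfield.closure (Set.range α ∪ Set.range ψ) :=
        Subfield.subset_closure (Or.inr ⟨(1 : A') ⊗ₜ ⟨a • l, hl⟩, by simp [ψ]⟩)
      have h2 : algebraMap A L₁ a ∈ Subfield.closure (Set.range α ∪ Set.range ψ) :=
        Subfield.subset_closure (Or.inl ⟨algebraMap A' _ (algebraMap A A' a),
          (α.commutes _).trans (IsScalarTower.algebraMap_apply A A' L₁ a).symm⟩)
      have h3 : algebraMap A L₁ a ≠ 0 := fun h ↦ ha (hA' a h)
      have : algebraMap L L₁ l = (algebraMap A L₁ a)⁻¹ * algebraMap L L₁ (a • l) := by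
        rw [Algebra.smul_def, map_mul, ← IsScalarTower.algebraMap_apply, inv_mul_cancel_left₀ h3]
      rw [this]
      exact mul_mem (inv_mem h2) h1
  obtain ⟨het, heq⟩ :=
    Groth.Agent.EtStruct.etale_range_and_eq_integralClosure ψ α hgen'
  refine ⟨heq ▸ het, heq.symm.trans (le_antisymm ?_ (Algebra.adjoin_le ?_))⟩
  · rintro _ ⟨c, rfl⟩
    show ψ c ∈ _
    induction c using TensorProduct.induction_on with
    | zero => rw [map_zero]; exact zero_mem _
    | add a b ha hb => rw [map_add]; exact add_mem ha hb
    | tmul a c =>
      rw [Algebra.TensorProduct.lift_tmul]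
      exact mul_mem (Subalgebra.algebraMap_mem _ a) (Algebra.subset_adjoin ⟨_, c.2, rfl⟩)
  · rintro _ ⟨x, hx, rfl⟩
    exact ⟨1 ⊗ₜ ⟨x, hx⟩, by simp [ψ]⟩

end Groth.Agent.S5065
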