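import Groth.Statements.S5066
import Groth.Agent.Hensel.Local

set_option autoImplicit false
universe u
open Hensel

namespace Groth.Agent.S5066

/-- Case of a local ring, affine étale schemes: a local ring A with maximal ideal m is henselian if and
only if, for every finite A-algebra C and every étale A-algebra E, composing with the projection C →
C/mC is a bijection from the set of A-algebra homomorphisms E → C onto the set of A-algebra
homomorphisms E → C/mC. -/
theorem result (A : Type u) [CommRing A] [IsLocalRing A] :
    HenselianLocalRing A ↔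
      ∀ (C : Type u) [CommRing C] [Algebra A C] [Module.Finite A C] (E : Type u) [CommRing E] [Algebra A E] [Algebra.Etale A E],
        Function.Bijective (fun φ : E →ₐ[A] C =>
          (Ideal.Quotient.mkₐ A (Ideal.map (algebraMap A C) (IsLocalRing.maximalIdeal A))).comp φ) := by
  refine ⟨fun hA C _ _ _ E _ _ _ => ?_, fun h => ?_⟩
  · let J := Ideal.map (algebraMap A C) (IsLocalRing.maximalIdeal A)
    haveI : HenselianRing C J := Hensel.henselianRing_of_isIntegral C
    refine ⟨fun φ ψ hφψ => Hensel.algHom_eq_of_sub_mem (HenselianRing.jac (I := J))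
      fun s => Ideal.Quotient.eq.1 (DFunLike.congr_fun hφψ s), fun σ => ?_⟩
    let σC : TensorProduct A C E →ₐ[C] C ⧸ J :=
      Algebra.TensorProduct.lift (Algebra.ofId C _) σ fun _ _ => .all _ _
    obtain ⟨τ, hτ⟩ := Hensel.exists_algHom_lift (I := J) (TensorProduct A C E) σC
    refine ⟨(τ.restrictScalars A).comp Algebra.TensorProduct.includeRight, AlgHom.ext fun s => ?_⟩
    have := DFunLike.congr_fun hτ (Algebra.TensorProduct.includeRight s)
    simpa [σC] using this
  · refine Hensel.henselianLocalRing_of_henselianRing (Hensel.henselianRing_of_etale_lift fun E _ _ _ σ => ?_)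
    have hI : Ideal.map (algebraMap A A) (IsLocalRing.maximalIdeal A) = IsLocalRing.maximalIdeal A :=
      Ideal.map_id _
    let e : (A ⧸ IsLocalRing.maximalIdeal A) ≃ₐ[A] A ⧸ Ideal.map (algebraMap A A) (IsLocalRing.maximalIdeal A) :=
      Ideal.quotientEquivAlgOfEq A hI.symm
    obtain ⟨τ, hτ⟩ := (h A E).2 (e.toAlgHom.comp σ)
    exact ⟨τ, AlgHom.ext fun s => e.injective (DFunLike.congr_fun hτ s)⟩

end Groth.Agent.S5066
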