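import Groth.Statements.S5067
import Mathlib
import Groth.Agent.EtStruct.Instances
-- import your own Groth.Agent.* helpers here

set_option autoImplicit false
open CategoryTheory AlgebraicGeometry
universe u
open Unram

namespace Groth.Agent.S5067

open Limits

/-- Let f : X ⟶ Y be an étale separated morphism of integral schemes which maps the generic point of X
to the generic point of Y and induces a bijection between the residue fields of the generic points
(f is birational). Then f is an open immersion. -/
theorem result {X Y : Scheme.{u}} [IsIntegral X] [IsIntegral Y]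
    (f : X ⟶ Y) [Etale f] [IsSeparated f] (hgen : f.base (genericPoint X) = genericPoint Y)
    (hbir : Function.Bijective (f.residueFieldMap (genericPoint X)).hom) : IsOpenImmersion f := by
  let η := genericPoint X
  have hfib : ∀ y : X, f y = genericPoint Y → y = η := by
    intro y hy
    have := Groth.Agent.EtStruct.locallyQuasiFinite_of_formallyUnramified f
    have hd : _root_.IsDiscrete (f ⁻¹' {genericPoint Y}) := f.isDiscrete_preimage_singleton _
    have := hd.1
    let y' : f ⁻¹' {genericPoint Y} := ⟨y, hy⟩
    let η' : f ⁻¹' {genericPoint Y} := ⟨η, hgen⟩
    have hs : η' ⤳ y' := (subtype_specializes_iff (x := η') (y := y')).2 (genericPoint_specializes y)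
    exact (congr_arg Subtype.val hs.eq).symm
  have : Mono (Spec.map (f.residueFieldMap η)) := by
    have : IsIso (f.residueFieldMap η) := (ConcreteCategory.isIso_iff_bijective _).mpr hbir
    infer_instance
  have hmono : Mono (X.fromSpecResidueField η ≫ f) := by
    rw [← Scheme.Hom.SpecMap_residueFieldMap_fromSpecResidueField]
    infer_instance
  have hsurj : Surjective (pullback.diagonal f) := by
    refine ⟨fun z ↦ ?_⟩
    obtain ⟨w, hwz, hw⟩ := Flat.generalizingMap (pullback.fst f f)
      (show η ⤳ pullback.fst f f z from genericPoint_specializes _)
    have hw2 : pullback.snd f f w = η := by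
      refine hfib _ ?_
      have : (pullback.fst f f ≫ f) w = (pullback.snd f f ≫ f) w := by rw [pullback.condition]
      simpa [hw, η, hgen] using this.symm
    have key : ∀ p : (pullback f f) ⟶ X, p w = η → ∃ a, a ≫ X.fromSpecResidueField η =
        (pullback f f).fromSpecResidueField w ≫ p := fun p hp ↦
      ⟨Spec.map (p.residueFieldMap w) ≫ Spec.map (X.residueFieldCongr hp.symm).hom, by
        simp [Scheme.residueFieldCongr_fromSpecResidueField,
          Scheme.Hom.SpecMap_residueFieldMap_fromSpecResidueField]⟩
    obtain ⟨a, ha⟩ := key _ hw
    obtain ⟨b, hb⟩ := key _ hw2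
    have hab : a = b := by
      rw [← cancel_mono (X.fromSpecResidueField η ≫ f), reassoc_of% ha, reassoc_of% hb,
        pullback.condition]
    have hdiag : (pullback f f).fromSpecResidueField w =
        (a ≫ X.fromSpecResidueField η) ≫ pullback.diagonal f := by
      apply pullback.hom_ext
      · simp [ha]
      · simp only [Category.assoc, pullback.diagonal_snd, Category.comp_id]
        rw [hab, hb]
    have hwr : w ∈ Set.range (pullback.diagonal f) := by
      rw [← (pullback f f).fromSpecResidueField_apply w (IsLocalRing.closedPoint _)]
      rw [hdiag]
      exact ⟨_, rfl⟩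
    exact (pullback.diagonal f).isClosedEmbedding.isClosed_range.stableUnderSpecialization hwz hwr
  have : IsIso (pullback.diagonal f) :=
    (isIso_iff_isOpenImmersion_and_surjective _).mpr ⟨inferInstance, hsurj⟩
  have : Mono f := (pullback.isIso_diagonal_iff f).mp this
  exact IsOpenImmersion.of_flat_of_mono f

end Groth.Agent.S5067
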