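import Groth.Statements.S5068
import Groth.Agent.CIntCI.TransReg
import Groth.Agent.CIntCI.Basic

set_option autoImplicit false
universe u
open CInt

namespace Groth.Agent.S5068

/-- Suppose A and C are Noetherian local rings joined by a flat local homomorphism A → C whose closed
fibre C/m_A C is a regular local ring, and consider a local ring B obtained as a quotient of C by an
ideal J (encoded as a surjective C-algebra B, with J taken to be the kernel). The ideal J admits a
generating sequence that is transversally regular relative to A (each term a non-zero-divisor modulo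
the previous ones, and every partial quotient C/(f_1, …, f_j) A-flat) exactly when two things hold:
B is A-flat, and B/m_A B is a complete intersection (meaning its completion is a regular local ring
divided by a regular sequence). -/
theorem result (A C B : Type u) [CommRing A] [IsLocalRing A]
    [IsNoetherianRing A] [CommRing C] [IsLocalRing C] [IsNoetherianRing C] [Algebra A C] [IsLocalHom (algebraMap A C)]
    [Module.Flat A C] (hreg : IsRegularLocalRing (EGA4.FibRing A C))
    [CommRing B] [IsLocalRing B] [Algebra C B] [Algebra A B] [IsScalarTower A C B] [IsLocalHom (algebraMap A B)]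
    (hsurj : Function.Surjective (algebraMap C B)) :
    (∃ rs : List C, Ideal.ofList rs = RingHom.ker (algebraMap C B) ∧ RegImm.IsTransRegularSeq A C rs) ↔
      (Module.Flat A B ∧ Pi1.IsCompleteIntersection (EGA4.FibRing A B)) := by
  classical
  have hC0 : IsRegularLocalRing (EGA4.FibRing A C) := hreg
  let J : Ideal C := RingHom.ker (algebraMap C B)
  have hJne : J ≠ ⊤ := RingHom.ker_ne_top _
  let mk := Ideal.Quotient.mk (EGA4.mB A C)
  let eB : (C ⧸ J) ≃ₐ[A] B :=
    Ideal.quotientKerAlgEquivOfSurjective (f := IsScalarTower.toAlgHom A C B) hsurj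
  let π : C →+* EGA4.FibRing A B := (Ideal.Quotient.mk (EGA4.mB A B)).comp (algebraMap C B)
  have hπ : Function.Surjective π := Ideal.Quotient.mk_surjective.comp hsurj
  have hkπ : RingHom.ker π = EGA4.mB A C ⊔ J := by
    rw [← RingHom.comap_ker, Ideal.mk_ker, show EGA4.mB A B = (EGA4.mB A C).map (algebraMap C B) by
      rw [EGA4.mB, EGA4.mB, Ideal.map_map, ← IsScalarTower.algebraMap_eq],
      Ideal.comap_map_of_surjective' _ hsurj]
  let ef : (EGA4.FibRing A C ⧸ J.map mk) ≃+* EGA4.FibRing A B :=
    (DoubleQuot.quotQuotEquivQuotSup (EGA4.mB A C) J).trans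
      ((Ideal.quotEquivOfEq hkπ.symm).trans (RingHom.quotientKerEquivOfSurjective hπ))
  haveI : IsLocalRing (EGA4.FibRing A C ⧸ J.map mk) := ef.symm.isLocalRing
  have hne : J.map mk ≠ ⊤ := fun h =>
    not_subsingleton (EGA4.FibRing A C ⧸ J.map mk) (Ideal.Quotient.subsingleton_iff.2 h)
  rw [Groth.Agent.CIntCI.isCI_iff_of_ringEquiv ef.symm, Groth.Agent.S2166.result (J.map mk) hne]
  constructor
  · rintro ⟨rs, hrs, htr⟩
    have hflat : Module.Flat A (C ⧸ J) := by
      have h := htr.2 rs.length le_rfl
      rw [List.take_length, hrs] at h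
      exact h
    refine ⟨Module.Flat.of_linearEquiv eB.symm.toLinearEquiv, rs.map mk, ?_, ?_⟩
    · rw [← Ideal.map_ofList, hrs]
    · refine .of_isWeaklyRegular_of_mem_maximalIdeal _ (fun x hx => ?_)
        ((Groth.Agent.CIntCI.isTransRegularSeq_iff rs).1 htr)
      refine IsLocalRing.le_maximalIdeal hne ?_
      rw [show J = Ideal.ofList rs from hrs.symm, Ideal.map_ofList]
      exact Ideal.subset_span hx
  · rintro ⟨hB, ys, hys, hyreg⟩
    haveI := hB
    haveI : Module.Flat A (C ⧸ J) := Module.Flat.of_linearEquiv eB.toLinearEquiv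
    have hlift : ∀ y ∈ ys, ∃ t ∈ J, mk t = y := fun y hy =>
      (Ideal.mem_map_iff_of_surjective mk Ideal.Quotient.mk_surjective).1 (hys ▸ Ideal.subset_span hy)
    choose! t htJ htm using hlift
    have hmap : (ys.map t).map mk = ys := by
      rw [List.map_map]
      conv_rhs => rw [← List.map_id ys]
      exact List.map_congr_left htm
    refine ⟨ys.map t, ?_, (Groth.Agent.CIntCI.isTransRegularSeq_iff _).2 (hmap.symm ▸ hyreg.toIsWeaklyRegular)⟩
    refine Groth.Agent.CIntCI.eq_of_flat_quotient (A := A) (Ideal.span_le.2 fun x hx => ?_) ?_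
    · obtain ⟨y, hy, rfl⟩ := List.mem_map.1 hx
      exact htJ y hy
    · intro x hx
      have h1 : mk x ∈ (Ideal.ofList (ys.map t)).map mk := by
        rw [Ideal.map_ofList, hmap, hys]
        exact Ideal.mem_map_of_mem mk hx
      rwa [← Ideal.mem_comap, Ideal.comap_map_quotientMk] at h1

end Groth.Agent.S5068
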