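import Groth.Statements.S5069
import Mathlib.RingTheory.HopkinsLevitzki


set_option autoImplicit false
universe u v
open Hensel

namespace Groth.Agent.S5069

/-- First assertion, phrased for the images of the inductive system: let B be a Noetherian commutative
ring and (C_i) a family of Artinian subrings of B, directed under inclusion, whose union is B. Then
B is an Artinian ring. -/
theorem result (B : Type u) [CommRing B] [IsNoetherianRing B]
    {ι : Type v} [Nonempty ι] (C : ι → Subring B) (hdir : Directed (fun a b => a ≤ b) C)
    (hart : ∀ i, IsArtinianRing ↥(C i)) (hcov : ∀ b : B, ∃ i, b ∈ C i) : IsArtinianRing B := by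
  rw [isArtinianRing_iff_isNoetherianRing_krullDimLE_zero]
  refine ⟨‹_›, Ring.krullDimLE_zero_iff.2 fun p hp => ?_⟩
  obtain ⟨q, hq, hpq⟩ := Ideal.exists_le_maximal p hp.ne_top
  suffices q ≤ p by rwa [le_antisymm hpq this]
  intro x hx
  obtain ⟨i, hi⟩ := hcov x
  haveI := hart i
  have hmax : (p.comap (C i).subtype).IsMaximal := (hp.comap _).isMaximal'
  have : q.comap (C i).subtype = p.comap (C i).subtype :=
    (hmax.eq_of_le (Ideal.IsPrime.ne_top (hq.isPrime.comap _)) (Ideal.comap_mono hpq)).symm
  exact this.le (show (⟨x, hi⟩ : C i) ∈ q.comap (C i).subtype from hx)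

end Groth.Agent.S5069
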