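import Groth.Statements.S5070
import Groth.Agent.NFHilb12.Generic
import Groth.Agent.S2892
import Groth.Agent.S2280
import Groth.Agent.CycLib.SpecPt
import Groth.Agent.FDesc.QuasiFlat
import Groth.Agent.AssSch.Stalk

set_option autoImplicit false
open CategoryTheory AlgebraicGeometry
universe u
open CInt

namespace Groth.Agent.S5070

open Groth.Agent.PullStalk.Sky TopologicalSpace

/-- The stalk at a generisation is a localisation of the stalk. -/
theorem exists_specializes_map {X : Scheme.{u}} (M : X.Modules) [M.IsQuasicoherent] {x ξ : X} (h : ξ ⤳ x) :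
    letI := (X.presheaf.stalkSpecializes h).hom.toAlgebra
    letI : Module (X.presheaf.stalk x) (M.presheaf.stalk ξ) :=
      Module.compHom _ (X.presheaf.stalkSpecializes h).hom
    ∃ φ : M.presheaf.stalk x →ₗ[X.presheaf.stalk x] M.presheaf.stalk ξ,
      haveI : IsScalarTower (X.presheaf.stalk x) (X.presheaf.stalk ξ) (M.presheaf.stalk ξ) :=
        IsScalarTower.of_algebraMap_smul fun _ _ => rfl
      IsBaseChange (X.presheaf.stalk ξ) φ := by
  letI axy := (X.presheaf.stalkSpecializes h).hom.toAlgebra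
  letI mxy : Module (X.presheaf.stalk x) (M.presheaf.stalk ξ) :=
    Module.compHom _ (X.presheaf.stalkSpecializes h).hom
  obtain ⟨W, hW, hxW, -⟩ := exists_isAffineOpen_mem_and_subset (Opens.mem_top x)
  have hξW : ξ ∈ W := h.mem_open W.isOpen hxW
  letI aAx : Algebra Γ(X, W) (X.presheaf.stalk x) := (X.presheaf.germ W x hxW).hom.toAlgebra
  letI aAy : Algebra Γ(X, W) (X.presheaf.stalk ξ) := (X.presheaf.germ W ξ hξW).hom.toAlgebra
  haveI : IsScalarTower Γ(X, W) (X.presheaf.stalk x) (X.presheaf.stalk ξ) :=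
    IsScalarTower.of_algebraMap_eq' (congrArg CommRingCat.Hom.hom
      (X.presheaf.germ_stalkSpecializes hxW h)).symm
  letI mAx : Module Γ(X, W) (M.presheaf.stalk x) := Module.compHom _ (X.presheaf.germ W x hxW).hom
  letI mAy : Module Γ(X, W) (M.presheaf.stalk ξ) := Module.compHom _ (X.presheaf.germ W ξ hξW).hom
  haveI t1 : IsScalarTower Γ(X, W) (X.presheaf.stalk x) (M.presheaf.stalk x) :=
    IsScalarTower.of_algebraMap_smul fun _ _ => rfl
  haveI t2 : IsScalarTower (X.presheaf.stalk x) (X.presheaf.stalk ξ) (M.presheaf.stalk ξ) :=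
    IsScalarTower.of_algebraMap_smul fun _ _ => rfl
  haveI t3 : IsScalarTower Γ(X, W) (X.presheaf.stalk ξ) (M.presheaf.stalk ξ) :=
    IsScalarTower.of_algebraMap_smul fun _ _ => rfl
  haveI t4 : IsScalarTower Γ(X, W) (X.presheaf.stalk x) (M.presheaf.stalk ξ) :=
    IsScalarTower.of_algebraMap_smul fun a m =>
      congrArg (· • m) (ConcreteCategory.congr_hom (X.presheaf.germ_stalkSpecializes hxW h) a)
  let φ : M.presheaf.stalk x →ₗ[X.presheaf.stalk x] M.presheaf.stalk ξ :=
    { toFun := M.presheaf.stalkSpecializes h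
      map_add' := map_add (M.presheaf.stalkSpecializes h).hom
      map_smul' := fun r t => by
        obtain ⟨U, hxU, m, rfl⟩ := exists_germM_eq M x t
        obtain ⟨V, hxV, r, rfl⟩ := X.presheaf.exists_germ_eq (x := x) r
        have hx : x ∈ U ⊓ V := ⟨hxU, hxV⟩
        rw [← X.presheaf.germ_res_apply (homOfLE (inf_le_right : U ⊓ V ≤ V)) x hx r,
          ← AssSch.Stalk.germM_res M (inf_le_left : U ⊓ V ≤ U) x hx m, ← germM_smul]
        refine (ConcreteCategory.congr_hom (M.presheaf.germ_stalkSpecializes hx h) _).trans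
          ((germM_smul M _ _ _ _ _).trans ?_)
        exact congrArg₂ (· • ·)
          (ConcreteCategory.congr_hom (X.presheaf.germ_stalkSpecializes hx h) _).symm
          (ConcreteCategory.congr_hom (M.presheaf.germ_stalkSpecializes hx h) _).symm }
  haveI : IsLocalization.AtPrime (X.presheaf.stalk x) (AssSch.Stalk.primeOf hW x hxW) :=
    hW.isLocalization_stalk ⟨x, hxW⟩
  haveI : IsLocalization.AtPrime (X.presheaf.stalk ξ) (AssSch.Stalk.primeOf hW ξ hξW) :=
    hW.isLocalization_stalk ⟨ξ, hξW⟩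
  have hbx := (isLocalizedModule_iff_isBaseChange (AssSch.Stalk.primeOf hW x hxW).primeCompl
    (X.presheaf.stalk x) _).mp (AssSch.Stalk.isLocalizedModule_germLinear M hW x hxW)
  have hby := (isLocalizedModule_iff_isBaseChange (AssSch.Stalk.primeOf hW ξ hξW).primeCompl
    (X.presheaf.stalk ξ) _).mp (AssSch.Stalk.isLocalizedModule_germLinear M hW ξ hξW)
  have hcomp : φ.restrictScalars Γ(X, W) ∘ₗ AssSch.Stalk.germLinear M x hxW =
      AssSch.Stalk.germLinear M ξ hξW :=
    LinearMap.ext fun m => ConcreteCategory.congr_hom (M.presheaf.germ_stalkSpecializes hxW h) m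
  rw [← hcomp] at hby
  exact ⟨φ, IsBaseChange.of_comp hbx hby⟩

/-- Let X be a locally Noetherian scheme, Y the closed subscheme defined by an ideal sheaf, assumed
regular and connected, and F a coherent O_X-module which is normally flat along Y (at every point y
of Y, every I_y^h F_y / I_y^(h+1) F_y is flat over O_{Y,y}). Then there is a single sequence of
natural numbers R such that for every y in Y, if n is the dimension of O_{Y,y}, then for all h the
length of m^h F_y / m^(h+1) F_y over the residue field (m the maximal ideal of O_{X,y}) equals the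
sum over r ≤ h of C(r+n-1, r) R(h-r): the Poincaré series of gr_m(F_y) is R(T)(1-T)^(-n). -/
theorem result {X : Scheme.{u}} [IsLocallyNoetherian X]
    (𝓘 : X.IdealSheafData) [ConnectedSpace ↥𝓘.subscheme]
    (hreg : ∀ y : ↥𝓘.subscheme, IsRegularLocalRing ↑(𝓘.subscheme.presheaf.stalk y))
    (F : X.Modules) (hF : Coh.IsCoh F)
    (hnf : ∀ y : ↥𝓘.subscheme, EGA4.IsNormallyFlat (RingHom.ker (𝓘.subschemeι.stalkMap y).hom) ↑(F.presheaf.stalk (𝓘.subschemeι y))) :
    ∃ R : ℕ → ℕ, ∀ (y : ↥𝓘.subscheme) (n : ℕ), ringKrullDim ↑(𝓘.subscheme.presheaf.stalk y) = n →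
      ∀ h : ℕ, Module.finrank (↑(X.presheaf.stalk (𝓘.subschemeι y)) ⧸ IsLocalRing.maximalIdeal ↑(X.presheaf.stalk (𝓘.subschemeι y)))
          (↥(IsLocalRing.maximalIdeal ↑(X.presheaf.stalk (𝓘.subschemeι y)) ^ h • (⊤ : Submodule ↑(X.presheaf.stalk (𝓘.subschemeι y)) ↑(F.presheaf.stalk (𝓘.subschemeι y)))) ⧸
            (IsLocalRing.maximalIdeal ↑(X.presheaf.stalk (𝓘.subschemeι y)) • (⊤ : Submodule ↑(X.presheaf.stalk (𝓘.subschemeι y)) ↥(IsLocalRing.maximalIdeal ↑(X.presheaf.stalk (𝓘.subschemeι y)) ^ h • (⊤ : Submodule ↑(X.presheaf.stalk (𝓘.subschemeι y)) ↑(F.presheaf.stalk (𝓘.subschemeι y))))))) =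
        ∑ r ∈ Finset.range (h + 1), Nat.choose (r + n - 1) r * R (h - r) := by
  classical
  haveI : F.IsQuasicoherent := hF.1
  haveI hYn : IsLocallyNoetherian 𝓘.subscheme := LocallyOfFiniteType.isLocallyNoetherian 𝓘.subschemeι
  haveI hdom : ∀ y : ↥𝓘.subscheme, IsDomain ↑(𝓘.subscheme.presheaf.stalk y) := fun y =>
    haveI := hreg y
    Groth.Agent.RegLoc.isDomain _
  haveI : IsIntegral 𝓘.subscheme := (Groth.Agent.S2280.result 𝓘.subscheme).2.2 ⟨inferInstance, hdom⟩
  let η : ↥𝓘.subscheme := genericPoint ↥𝓘.subscheme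
  let ξ : ↥X := 𝓘.subschemeι η
  let L : ℕ → ℕ∞ := fun j => Module.length (X.presheaf.stalk ξ)
    (↑(F.presheaf.stalk ξ) ⧸ (IsLocalRing.maximalIdeal (X.presheaf.stalk ξ) ^ j •
      (⊤ : Submodule (X.presheaf.stalk ξ) ↑(F.presheaf.stalk ξ))))
  refine ⟨fun k => (L (k + 1)).toNat - (L k).toNat, fun y n hn h => ?_⟩
  let x : ↥X := 𝓘.subschemeι y
  have hy : η ⤳ y := genericPoint_specializes y
  have hx : ξ ⤳ x := hy.map 𝓘.subschemeι.continuous
  let K := RingHom.ker (𝓘.subschemeι.stalkMap y).hom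
  haveI : K.IsPrime := RingHom.ker_isPrime _
  let eY : (X.presheaf.stalk x ⧸ K) ≃+* 𝓘.subscheme.presheaf.stalk y :=
    RingHom.quotientKerEquivOfSurjective (𝓘.subschemeι.stalkMap_surjective y)
  haveI := hreg y
  haveI : IsRegularLocalRing (X.presheaf.stalk x ⧸ K) := IsRegularLocalRing.of_ringEquiv eY.symm
  have hn' : ringKrullDim (X.presheaf.stalk x ⧸ K) = n := (ringKrullDim_eq_of_ringEquiv eY).trans hn
  haveI : Module.Finite (X.presheaf.stalk x) (F.presheaf.stalk x) :=
    Groth.Agent.FDesc.QuasiFlat.finite_stalk_of_isCoh F hF x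
  have hfac := (Groth.Agent.S2892.result (X.presheaf.stalk x) K n hn' (F.presheaf.stalk x)).1 (hnf y) h
  -- the prime of the generic point
  have hK : RingHom.ker (Cyc.specMap x ξ hx) = K := by
    rw [Groth.Agent.CycLib.ker_specMap_eq_comap]
    have hinj : Function.Injective (𝓘.subscheme.presheaf.stalkSpecializes hy).hom :=
      IsFractionRing.injective (𝓘.subscheme.presheaf.stalk y) 𝓘.subscheme.functionField
    letI : Field (𝓘.subscheme.presheaf.stalk η) :=
      inferInstanceAs (Field 𝓘.subscheme.functionField)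
    have hker : RingHom.ker (𝓘.subschemeι.stalkMap η).hom =
        IsLocalRing.maximalIdeal (X.presheaf.stalk ξ) :=
      IsLocalRing.eq_maximalIdeal
        (RingHom.ker_isMaximal_of_surjective _ (𝓘.subschemeι.stalkMap_surjective η))
    rw [← hker, RingHom.comap_ker]
    have hcomm := congrArg CommRingCat.Hom.hom
      (Scheme.Hom.stalkSpecializes_stalkMap 𝓘.subschemeι η y hy)
    rw [CommRingCat.hom_comp, CommRingCat.hom_comp] at hcomm
    rw [hcomm, RingHom.ker_comp_of_injective _ hinj]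
  have hloc := Groth.Agent.CycLib.isLocalization_stalkSpecializes (X := X) hx
  simp only [hK] at hloc
  letI := (X.presheaf.stalkSpecializes hx).hom.toAlgebra
  haveI : IsLocalization.AtPrime (X.presheaf.stalk ξ) K := hloc
  letI : Module (X.presheaf.stalk x) (F.presheaf.stalk ξ) :=
    Module.compHom _ (X.presheaf.stalkSpecializes hx).hom
  haveI : IsScalarTower (X.presheaf.stalk x) (X.presheaf.stalk ξ) (F.presheaf.stalk ξ) :=
    IsScalarTower.of_algebraMap_smul fun _ _ => rfl
  obtain ⟨φ, hφ⟩ := exists_specializes_map F hx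
  haveI : IsLocalizedModule K.primeCompl φ :=
    (isLocalizedModule_iff_isBaseChange K.primeCompl (X.presheaf.stalk ξ) φ).2 hφ
  have hL : ∀ j, L j = ((∑ k ∈ Finset.range j, Module.finrank
      (X.presheaf.stalk x ⧸ IsLocalRing.maximalIdeal (X.presheaf.stalk x))
      (Groth.Agent.NFHilb12.Q K (F.presheaf.stalk x) k ⧸ (IsLocalRing.maximalIdeal (X.presheaf.stalk x) •
        (⊤ : Submodule (X.presheaf.stalk x) (Groth.Agent.NFHilb12.Q K (F.presheaf.stalk x) k)))) : ℕ) : ℕ∞) :=
    fun j => Groth.Agent.NFHilb12.length_eq_sum_finrank (hnf y) φ j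
  refine hfac.trans (Finset.sum_congr rfl fun r _ => congrArg _ ?_)
  simp only [hL, ENat.toNat_natCast, Finset.sum_range_succ, Nat.add_sub_cancel_left]

end Groth.Agent.S5070
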