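import Groth.Statements.S5073
import Mathlib
-- import your own Groth.Agent.* helpers here

set_option autoImplicit false
universe u
open EGA418

namespace Groth.Agent.S5073

open scoped TensorProduct

/-- Let A be a Noetherian local ring, p a prime ideal and x an element of A. Then there is an element x'
of A whose image in A_p equals that of x and which belongs to no minimal prime ideal of A not
contained in p. -/
theorem result (A : Type u) [CommRing A] [IsNoetherianRing A] [IsLocalRing A]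
    (p : Ideal A) [p.IsPrime] (x : A) :
    ∃ x' : A, algebraMap A (Localization.AtPrime p) x' = algebraMap A (Localization.AtPrime p) x ∧
      ∀ q ∈ minimalPrimes A, ¬ q ≤ p → x' ∉ q := by
  classical
  have hfin : (minimalPrimes A).Finite := minimalPrimes.finite_of_isNoetherianRing A
  have key : ∀ q ∈ minimalPrimes A, ¬ q ≤ p → ∃ t, t ∉ q ∧ algebraMap A (Localization.AtPrime p) t = 0 := by
    intro q hq hqp
    obtain ⟨s, hsq, hsp⟩ := SetLike.not_le_iff_exists.mp hqp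
    have : q.IsPrime := hq.1.1
    have hmax := IsLocalization.AtPrime.map_eq_maximalIdeal q (Localization.AtPrime q)
    have hn : IsNilpotent (algebraMap A (Localization.AtPrime q) s) := by
      rw [← mem_nilradical, nilradical_eq_sInf, Ideal.mem_sInf]
      intro P hP
      have : P.IsPrime := hP
      have hd := (IsLocalization.disjoint_under_iff q.primeCompl _ P).mpr (Ideal.IsPrime.ne_top ‹_›)
      have h2 : P.comap (algebraMap A _) ≤ q := fun y hy ↦
        by_contra fun hyq ↦ Set.disjoint_left.mp hd hyq hy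
      exact hq.2 ⟨Ideal.IsPrime.comap _, bot_le⟩ h2 hsq
    obtain ⟨n, hn⟩ := hn
    rw [← map_pow, IsLocalization.map_eq_zero_iff q.primeCompl] at hn
    obtain ⟨⟨t, htq⟩, ht⟩ := hn
    exact ⟨t, htq, (IsLocalization.map_eq_zero_iff p.primeCompl _ _).mpr
      ⟨⟨s ^ n, fun h ↦ hsp (Ideal.IsPrime.mem_of_pow_mem ‹_› _ h)⟩, by simpa [mul_comm] using ht⟩⟩
  have sep : ∀ q ∈ minimalPrimes A, ∀ q' ∈ minimalPrimes A, q' ≠ q → ∃ r, r ∈ q' ∧ r ∉ q := by
    intro q hq q' hq' hne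
    exact SetLike.not_le_iff_exists.mp fun h ↦ hne (le_antisymm h (hq.2 hq'.1 h))
  choose t ht0 ht1 using key
  choose r hr0 hr1 using sep
  let F := (hfin.toFinset.filter fun q ↦ ¬ q ≤ p ∧ x ∈ q).attach
  have hF : ∀ q : {q // q ∈ hfin.toFinset.filter fun q ↦ ¬ q ≤ p ∧ x ∈ q},
      q.1 ∈ minimalPrimes A ∧ ¬ q.1 ≤ p ∧ x ∈ q.1 := fun q ↦
    ⟨hfin.mem_toFinset.mp (Finset.mem_filter.mp q.2).1, (Finset.mem_filter.mp q.2).2⟩
  let z : {q // q ∈ hfin.toFinset.filter fun q ↦ ¬ q ≤ p ∧ x ∈ q} → A := fun q ↦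
    t q.1 (hF q).1 (hF q).2.1 * ∏ q' ∈ (hfin.toFinset.erase q.1).attach,
      r q.1 (hF q).1 q'.1 (hfin.mem_toFinset.mp (Finset.mem_of_mem_erase q'.2)) (Finset.ne_of_mem_erase q'.2)
  have hz : ∀ q, ∀ q' ∈ minimalPrimes A, (q' ≠ q.1 → z q ∈ q') ∧ (q' = q.1 → z q ∉ q') := by
    intro q q' hq'
    have : q'.IsPrime := hq'.1.1
    refine ⟨fun hne ↦ Ideal.mul_mem_left _ _ ?_, ?_⟩
    · rw [← Finset.mul_prod_erase _ _ (Finset.mem_attach _ ⟨q', Finset.mem_erase.mpr ⟨hne, hfin.mem_toFinset.mpr hq'⟩⟩)]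
      exact Ideal.mul_mem_right _ _ (hr0 ..)
    · rintro rfl h
      rcases Ideal.IsPrime.mem_or_mem ‹_› h with h | h
      · exact ht0 _ _ _ h
      · rw [Ideal.IsPrime.prod_mem_iff] at h
        obtain ⟨i, _, hi⟩ := h
        exact hr1 _ _ _ _ _ hi
  refine ⟨x + ∑ q ∈ F, z q, ?_, fun q hq hqp hx' ↦ ?_⟩
  · simp [z, ht1]
  · by_cases hxq : x ∈ q
    · let q0 : {q // q ∈ hfin.toFinset.filter fun q ↦ ¬ q ≤ p ∧ x ∈ q} := ⟨q, Finset.mem_filter.mpr ⟨hfin.mem_toFinset.mpr hq, hqp, hxq⟩⟩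
      rw [← Finset.add_sum_erase F z (Finset.mem_attach _ q0)] at hx'
      have hrest : ∑ i ∈ F.erase q0, z i ∈ q := Ideal.sum_mem _ fun i hi ↦
        (hz i q hq).1 fun e ↦ (Finset.ne_of_mem_erase hi) (Subtype.ext e.symm)
      exact (hz q0 q hq).2 rfl ((q.add_mem_iff_left hrest).mp ((q.add_mem_iff_right hxq).mp hx'))
    · have hrest : ∑ i ∈ F, z i ∈ q := Ideal.sum_mem _ fun i _ ↦
        (hz i q hq).1 fun e ↦ hxq (e ▸ (hF i).2.2)
      exact hxq ((q.add_mem_iff_left hrest).mp hx')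

end Groth.Agent.S5073
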