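import Groth.Statements.S5076
import Mathlib.RingTheory.Unramified.LocalRing
import Mathlib.RingTheory.Unramified.LocalStructure
-- import your own Groth.Agent.* helpers here

set_option autoImplicit false
universe u
open Unram

namespace Groth.Agent.S5076

/-- Let A be a local ring with maximal ideal m, C a finite A-algebra, r a maximal ideal of C, and u an
element of C which lies in every maximal ideal of C other than r, does not lie in r, and whose image
generates C_r modulo m C_r as an A-algebra. Let B = A[u] be the A-subalgebra of C generated by u and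
n the inverse image of r in B. Then the canonical homomorphism B_n → C_r is bijective. -/
theorem result (A C : Type u) [CommRing A] [IsLocalRing A]
    [CommRing C] [Algebra A C] [Module.Finite A C] (r : Ideal C) [r.IsMaximal] (u : C)
    (hu₁ : ∀ r' : Ideal C, r'.IsMaximal → r' ≠ r → u ∈ r') (hu₂ : u ∉ r)
    (hu₃ : Subalgebra.toSubmodule (Algebra.adjoin A {algebraMap C (Localization.AtPrime r) u}) ⊔
        Submodule.restrictScalars A (Ideal.map (algebraMap A (Localization.AtPrime r)) (IsLocalRing.maximalIdeal A)) = ⊤) :
    Function.Bijective (Localization.localRingHom (Ideal.comap (Algebra.adjoin A ({u} : Set C)).val.toRingHom r) r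
      (Algebra.adjoin A ({u} : Set C)).val.toRingHom rfl) := by
  let B := Algebra.adjoin A ({u} : Set C)
  have : Module.Finite A B := Algebra.finite_adjoin_simple_of_isIntegral (Algebra.IsIntegral.isIntegral u)
  have : Algebra.IsIntegral A B := Algebra.IsIntegral.of_finite A B
  let n : Ideal B := r.under B
  have : r.LiesOver n := ⟨rfl⟩
  let : Algebra (Localization.AtPrime n) (Localization.AtPrime r) :=
    Localization.AtPrime.algebraOfLiesOver n r
  have : Module.Finite B C := .of_restrictScalars_finite A _ _
  have hn : n.IsMaximal := Ideal.isMaximal_comap_of_isIntegral_of_isMaximal r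
  have hq : n.primesOver C = {r} := by
    refine Set.ext fun Q' => ⟨fun ⟨hp, hl⟩ => ?_, fun e => ?_⟩
    · by_contra hne
      have : Q'.IsMaximal := Ideal.isMaximal_of_isIntegral_of_isMaximal_comap Q'
        (by rw [show Q'.comap (algebraMap B C) = n from hl.over.symm]; exact hn)
      have hu' : (⟨u, Algebra.subset_adjoin rfl⟩ : B) ∈ n := by
        rw [hl.over]; exact hu₁ Q' this hne
      exact hu₂ hu'
    · subst e; exact ⟨inferInstance, ⟨rfl⟩⟩
  refine ⟨Localization.localRingHom_injective_of_primesOver_eq_singleton hq, ?_⟩
  have := Localization.finite_of_primesOver_eq_singleton hq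
  have : IsScalarTower B (Localization.AtPrime n) (Localization.AtPrime r) := .of_algebraMap_eq fun b => by
    rw [Localization.AtPrime.IsLiesOverAlgebra.algebraMap_eq, Localization.localRingHom_to_map]
    exact IsScalarTower.algebraMap_apply B C _ b
  show Function.Surjective (Localization.localRingHom n r (algebraMap B C) rfl)
  rw [← @Localization.AtPrime.IsLiesOverAlgebra.algebraMap_eq _ _ _ _ _ n _ r _ ‹r.LiesOver n› _ _]
  change Function.Surjective (Algebra.linearMap _ _)
  rw [← LinearMap.range_eq_top, ← top_le_iff]
  apply Submodule.le_of_le_smul_of_le_jacobson_bot Module.Finite.fg_top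
    (IsLocalRing.maximalIdeal_le_jacobson _)
  rw [Ideal.smul_top_eq_map]
  rintro x -
  obtain ⟨a, ha, y, hy, rfl⟩ := Submodule.mem_sup.1 (hu₃.ge (Submodule.mem_top (x := x)))
  refine add_mem (Submodule.mem_sup_left ?_) (Submodule.mem_sup_right ?_)
  · have : Algebra.adjoin A {algebraMap C (Localization.AtPrime r) u} ≤
        (IsScalarTower.toAlgHom A B (Localization.AtPrime r)).range :=
      Algebra.adjoin_le (Set.singleton_subset_iff.2 ⟨⟨u, Algebra.subset_adjoin rfl⟩,
        IsScalarTower.algebraMap_apply B C _ _⟩)
    obtain ⟨b, rfl⟩ := this ha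
    exact ⟨algebraMap B (Localization.AtPrime n) b,
      (IsScalarTower.algebraMap_apply B (Localization.AtPrime n) (Localization.AtPrime r) b).symm⟩
  · have hm : Ideal.map (algebraMap A (Localization.AtPrime r)) (IsLocalRing.maximalIdeal A) ≤
        Ideal.map (algebraMap (Localization.AtPrime n) (Localization.AtPrime r))
          (IsLocalRing.maximalIdeal (Localization.AtPrime n)) := by
      rw [IsScalarTower.algebraMap_eq A B (Localization.AtPrime r),
        IsScalarTower.algebraMap_eq B (Localization.AtPrime n) (Localization.AtPrime r),
        ← Ideal.map_map, ← Ideal.map_map]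
      refine Ideal.map_mono ?_
      rw [← Localization.AtPrime.map_eq_maximalIdeal]
      refine Ideal.map_mono (Ideal.map_le_iff_le_comap.2 ?_)
      rw [IsLocalRing.eq_maximalIdeal (Ideal.isMaximal_comap_of_isIntegral_of_isMaximal n)]
    exact hm hy

end Groth.Agent.S5076
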