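import Groth.Statements.S5080
import Mathlib
import Groth.Agent.Adic.Basic
-- import your own Groth.Agent.* helpers here

set_option autoImplicit false
universe u
open EGA418

namespace Groth.Agent.S5080

/-- Let k be a field, A a complete Noetherian local k-algebra with maximal ideal m whose residue field
is a finite extension of k, p a prime ideal distinct from m, Ω̂ the completion of the module of
differentials of A over k, and M the least number of generators of the A_p-module Ω̂_p. Then for
every family x_1, …, x_M of elements of m not in p there are units u_1, …, u_M of A such that the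
images in Ω̂_p of the differentials d(u_i x_i) generate Ω̂_p. -/
theorem result (k A : Type u) [Field k] [CommRing A]
    [IsLocalRing A] [IsNoetherianRing A] [Algebra k A] [IsAdicComplete (IsLocalRing.maximalIdeal A) A]
    [Module.Finite k (IsLocalRing.ResidueField A)] (p : Ideal A) [p.IsPrime] (hp : p ≠ IsLocalRing.maximalIdeal A)
    (M : ℕ) (hgen : ∃ s : Fin M → (LocalizedModule p.primeCompl (AdicCompletion (IsLocalRing.maximalIdeal A) (KaehlerDifferential k A))), Submodule.span (Localization.AtPrime p) (Set.range s) = ⊤)
    (hmin : ∀ (s : Finset (LocalizedModule p.primeCompl (AdicCompletion (IsLocalRing.maximalIdeal A) (KaehlerDifferential k A)))), Submodule.span (Localization.AtPrime p) (↑s : Set (LocalizedModule p.primeCompl (AdicCompletion (IsLocalRing.maximalIdeal A) (KaehlerDifferential k A)))) = ⊤ → M ≤ s.card)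
    (x : Fin M → A) (hx : ∀ i, x i ∈ IsLocalRing.maximalIdeal A ∧ x i ∉ p) :
    ∃ u : Fin M → Aˣ, Submodule.span (Localization.AtPrime p)
      (Set.range (fun i => LocalizedModule.mkLinearMap p.primeCompl (AdicCompletion (IsLocalRing.maximalIdeal A) (KaehlerDifferential k A)) (AdicCompletion.of (IsLocalRing.maximalIdeal A) (KaehlerDifferential k A) (KaehlerDifferential.D k A ((u i : A) * x i))))) = ⊤ := by

  classical
  set m := IsLocalRing.maximalIdeal A
  set Ω := KaehlerDifferential k A
  let of' : Ω →ₗ[A] AdicCompletion m Ω := AdicCompletion.of m Ω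
  -- the completion map is surjective
  have hof : Function.Surjective of' := by
    obtain ⟨s, hs⟩ := (IsNoetherian.noetherian m : m.FG)
    obtain ⟨t, ht⟩ := (Module.Finite.fg_top : (⊤ : Submodule k (IsLocalRing.ResidueField A)).FG)
    let g : (s ⊕ t) → A := Sum.elim (fun i => (i : A))
      (fun j => Function.surjInv IsLocalRing.residue_surjective (j : IsLocalRing.ResidueField A))
    let f : ((s ⊕ t) → A) →ₗ[A] Ω := Fintype.linearCombination A (fun i => KaehlerDifferential.D k A (g i))
    have hmem : ∀ a, KaehlerDifferential.D k A a ∈ LinearMap.range f ⊔ m • ⊤ := by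
      intro a
      have hr : ∀ i, KaehlerDifferential.D k A (g i) ∈ LinearMap.range f := fun i =>
        ⟨Pi.single i 1, by simp [f, Fintype.linearCombination_apply_single]⟩
      have hμ : ∀ μ ∈ m, KaehlerDifferential.D k A μ ∈ LinearMap.range f ⊔ m • ⊤ := by
        intro μ hμ
        rw [← hs] at hμ
        induction hμ using Submodule.span_induction with
        | mem z hz => exact Submodule.mem_sup_left (hr (Sum.inl ⟨z, hz⟩))
        | zero => simp
        | add y z _ _ hy hz => rw [map_add]; exact add_mem hy hz
        | smul r z hz ihz =>
          rw [smul_eq_mul, Derivation.leibniz]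
          refine add_mem (Submodule.smul_mem _ _ ihz) (Submodule.mem_sup_right ?_)
          exact Submodule.smul_mem_smul (hs ▸ hz) trivial
      have h1 : IsLocalRing.residue A a ∈ Submodule.span k (t : Set (IsLocalRing.ResidueField A)) := by
        rw [ht]; trivial
      suffices ∀ z ∈ Submodule.span k (t : Set (IsLocalRing.ResidueField A)),
          ∀ a, IsLocalRing.residue A a = z →
            KaehlerDifferential.D k A a ∈ LinearMap.range f ⊔ m • ⊤ from this _ h1 a rfl
      intro z hz
      induction hz using Submodule.span_induction with
      | mem z hz =>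
        intro a ha
        have h := hμ (a - g (Sum.inr ⟨z, hz⟩)) ((IsLocalRing.residue_eq_zero_iff _).mp (by
          rw [map_sub, ha]; simp [g, Function.surjInv_eq]))
        rw [map_sub] at h
        have := add_mem h (Submodule.mem_sup_left (hr (Sum.inr ⟨z, hz⟩)) :
          KaehlerDifferential.D k A (g (Sum.inr ⟨z, hz⟩)) ∈ LinearMap.range f ⊔ m • ⊤)
        simpa using this
      | zero => intro a ha; exact hμ a ((IsLocalRing.residue_eq_zero_iff _).mp ha)
      | add y z _ _ hy hz =>
        intro a ha
        obtain ⟨b, hb⟩ := IsLocalRing.residue_surjective y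
        have hc : IsLocalRing.residue A (a - b) = z := by rw [map_sub, ha, hb]; abel
        have := add_mem (hy b hb) (hz (a - b) hc)
        rwa [← map_add, add_sub_cancel] at this
      | smul r z _ ihz =>
        intro a ha
        obtain ⟨b, hb⟩ := IsLocalRing.residue_surjective z
        have hc := hμ (a - r • b) ((IsLocalRing.residue_eq_zero_iff _).mp (by
          rw [map_sub, ha, Algebra.smul_def, Algebra.smul_def, map_mul, hb, sub_eq_zero]; rfl))
        have := add_mem hc (Submodule.smul_of_tower_mem _ r (ihz b hb))
        rwa [map_sub, Derivation.map_smul, sub_add_cancel] at this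
    have hsurj : Function.Surjective (Submodule.mkQ (m • ⊤) ∘ₗ f) := by
      have hle : Submodule.span A (Set.range (KaehlerDifferential.D k A)) ≤ LinearMap.range f ⊔ m • ⊤ := by
        rw [Submodule.span_le]
        rintro _ ⟨a, rfl⟩
        exact hmem a
      rw [KaehlerDifferential.span_range_derivation] at hle
      rw [← LinearMap.range_eq_top, LinearMap.range_comp, Submodule.map_mkQ_eq_top, sup_comm]
      exact top_le_iff.mp hle
    intro y
    obtain ⟨z, hz⟩ := AdicCompletion.map_surjective_of_mkQ_comp_surjective hsurj y
    have : Module.Finite A ((s ⊕ t) → A) := inferInstance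
    obtain ⟨w, hw⟩ : ∃ w, AdicCompletion.of m _ w = z := AdicCompletion.of_surjective m _ z
    exact ⟨f w, by rw [← hz, ← hw, AdicCompletion.map_of]⟩
  set Ap := Localization.AtPrime p
  set L := LocalizedModule p.primeCompl (AdicCompletion m Ω)
  have : Module.Finite Ap L := by
    obtain ⟨s, hs⟩ := hgen
    exact .of_fg_top ⟨Finset.univ.image s, by simpa using hs⟩
  let loc : AdicCompletion m Ω →ₗ[A] L := LocalizedModule.mkLinearMap p.primeCompl _
  let w : A → L := fun a => loc (of' (KaehlerDifferential.D k A a))
  -- images of differentials span
  have hspan : Submodule.span Ap (Set.range w) = ⊤ := by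
    rw [eq_top_iff]
    intro z hz'
    clear hz'
    induction z using LocalizedModule.induction_on with
    | h y c =>
      obtain ⟨η, rfl⟩ := hof y
      have h1 : loc (of' η) ∈ Submodule.span Ap (Set.range w) := by
        have hη : η ∈ Submodule.span A (Set.range (KaehlerDifferential.D k A)) := by
          rw [KaehlerDifferential.span_range_derivation]; trivial
        induction hη using Submodule.span_induction with
        | mem z hz =>
          obtain ⟨a, rfl⟩ := hz
          exact Submodule.subset_span ⟨a, rfl⟩
        | zero => simp
        | add y z _ _ hy hz => rw [map_add, map_add]; exact add_mem hy hz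
        | smul r z _ ihz => rw [map_smul, map_smul]; exact Submodule.smul_of_tower_mem _ r ihz
      have : LocalizedModule.mk (of' η) c = Localization.mk (1 : A) c • loc (of' η) := by
        rw [show loc (of' η) = LocalizedModule.mk (of' η) 1 from rfl, show (Localization.mk (1 : A) c : Ap) = Localization.mk 1 c from rfl, LocalizedModule.mk_smul_mk, one_smul, mul_one]
      rw [this]
      exact Submodule.smul_mem _ _ h1
  let mp := IsLocalRing.maximalIdeal Ap
  let K := Ap ⧸ mp
  letI : Field K := Ideal.Quotient.field mp
  let Q := L ⧸ (mp • ⊤ : Submodule Ap L)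
  let q : L →ₗ[Ap] Q := Submodule.mkQ _
  have hK : ∀ S : Set Q, (Submodule.span K S).restrictScalars Ap = Submodule.span Ap S := fun S =>
    Submodule.restrictScalars_span Ap K Ideal.Quotient.mk_surjective S
  -- Nakayama
  have hnak : ∀ S : Set L, Submodule.span K (q '' S) = ⊤ → Submodule.span Ap S = ⊤ := by
    intro S hS
    have h1 : Submodule.span Ap (q '' S) = ⊤ := by rw [← hK, hS]; rfl
    rw [Submodule.span_image, Submodule.map_mkQ_eq_top] at h1
    refine eq_top_iff.mpr (Submodule.le_of_le_smul_of_le_jacobson_bot (I := mp) Module.Finite.fg_top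
      (IsLocalRing.maximalIdeal_le_jacobson _) ?_)
    rw [sup_comm, h1]
  -- a unit can be chosen so that the differential avoids a proper subspace
  have hchoose : ∀ (S : Submodule K Q), S ≠ ⊤ → ∀ y : A, y ∉ p → ∃ u : Aˣ, q (w (u * y)) ∉ S := by
    intro S hS y hy
    by_contra hcon
    push Not at hcon
    apply hS
    let T : Submodule Ap L := (S.restrictScalars Ap).comap q
    have hy1 : IsUnit (algebraMap A Ap y) := IsLocalization.map_units Ap (⟨y, hy⟩ : p.primeCompl)
    have hdy : w y ∈ T := by
      have h := hcon 1
      rw [Units.val_one, one_mul] at h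
      exact h
    have hu : ∀ u : Aˣ, w u ∈ T := by
      intro u
      have h := hcon u
      have e : w (u * y) = algebraMap A Ap u • w y + algebraMap A Ap y • w u := by
        simp only [w, Derivation.leibniz, map_add, map_smul, algebraMap_smul]
      rw [e] at h
      have : algebraMap A Ap y • w u ∈ T := (Submodule.add_mem_iff_right T (T.smul_mem _ hdy)).mp h
      exact (T.smul_mem_iff' hy1.unit).mp this
    have hall : ∀ a, w a ∈ T := by
      intro a
      rcases IsLocalRing.isUnit_or_isUnit_one_sub_self a with h | h
      · exact hu h.unit
      · have e : w a = - w (1 - a) := by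
          simp only [w]
          rw [map_sub, Derivation.map_one_eq_zero, zero_sub, map_neg, map_neg, neg_neg]
        rw [e]
        exact neg_mem (hu h.unit)
    have hT : T = ⊤ := by
      rw [eq_top_iff, ← hspan, Submodule.span_le]
      rintro _ ⟨a, rfl⟩
      exact hall a
    rw [eq_top_iff]
    intro z _
    obtain ⟨l, rfl⟩ := Submodule.mkQ_surjective _ z
    have : l ∈ T := hT ▸ trivial
    exact this
  have key : ∀ j, ∀ hj : j ≤ M, ∃ u : Fin j → Aˣ,
      LinearIndependent K (fun i => q (w (u i * x (Fin.castLE hj i)))) := by
    intro j
    induction j with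
    | zero => exact fun _ => ⟨Fin.elim0, linearIndependent_empty_type⟩
    | succ j ih =>
      intro hj
      obtain ⟨u, hu⟩ := ih (by omega)
      have hne : Submodule.span K (Set.range fun i => q (w (u i * x (Fin.castLE (by omega) i)))) ≠ ⊤ := by
        intro htop
        rw [Set.range_comp' q] at htop
        have h1 := hmin (Finset.univ.image fun i => w (u i * x (Fin.castLE (by omega) i)))
          (by rw [Finset.coe_image, Finset.coe_univ, Set.image_univ]; exact hnak _ htop)
        have h2 := h1.trans Finset.card_image_le
        simp at h2
        omega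
      obtain ⟨v, hv⟩ := hchoose _ hne (x ⟨j, by omega⟩) (hx _).2
      refine ⟨Fin.snoc u v, ?_⟩
      have e : (fun i => q (w ((Fin.snoc u v : Fin (j + 1) → Aˣ) i * x (Fin.castLE hj i)))) =
          Fin.snoc (fun i => q (w (u i * x (Fin.castLE (by omega) i)))) (q (w (v * x ⟨j, by omega⟩))) := by
        funext i
        induction i using Fin.lastCases with
        | last => simp only [Fin.snoc_last]; rfl
        | cast i => simp only [Fin.snoc_castSucc]; rfl
      rw [e]
      exact hu.finSnoc hv
  obtain ⟨u, hu⟩ := key M le_rfl
  refine ⟨u, ?_⟩
  have hQ : Module.finrank K Q ≤ M := by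
    obtain ⟨s, hs⟩ := hgen
    have h1 : Submodule.span K (Set.range (q ∘ s)) = ⊤ := by
      rw [← Submodule.restrictScalars_eq_top_iff Ap, hK, Set.range_comp, Submodule.span_image, hs,
        Submodule.map_top, Submodule.range_mkQ]
    have h2 := finrank_range_le_card (R := K) (q ∘ s)
    unfold Set.finrank at h2
    rw [h1, finrank_top, Fintype.card_fin] at h2
    exact h2
  have : Module.Finite K Q := Module.Finite.of_restrictScalars_finite Ap K Q
  have hcard : Fintype.card (Fin M) = Module.finrank K Q :=
    le_antisymm hu.fintype_card_le_finrank (by simpa using hQ)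
  have h3 := hu.span_eq_top_of_card_eq_finrank' hcard
  rw [Set.range_comp' q] at h3
  exact hnak _ h3

end Groth.Agent.S5080
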