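import Groth.Statements.S5081
import Mathlib
-- import your own Groth.Agent.* helpers here

set_option autoImplicit false
universe u
open Unram

namespace Groth.Agent.S5081

open scoped TensorProduct

/-- Let B be a finite A-algebra generated by a single element u and F a polynomial with coefficients in
A such that F(u) = 0. Then the ideal generated by F'(u) is contained in the annihilator of the
module of differentials of B over A, and equals it when the kernel of the surjection A[T] → B
sending T to u is generated by F. -/
theorem result (A B : Type u) [CommRing A] [CommRing B] [Algebra A B]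
    [Module.Finite A B] (u : B) (hu : Algebra.adjoin A ({u} : Set B) = ⊤) (F : Polynomial A) (hF : Polynomial.aeval u F = 0) :
    Ideal.span {Polynomial.aeval u (Polynomial.derivative F)} ≤ Module.annihilator B (KaehlerDifferential A B) ∧
      (RingHom.ker (Polynomial.aeval u : Polynomial A →ₐ[A] B) = Ideal.span {F} →
        Module.annihilator B (KaehlerDifferential A B) = Ideal.span {Polynomial.aeval u (Polynomial.derivative F)}) := by
  have hspan : Submodule.span B {KaehlerDifferential.D A B u} = ⊤ := by
    rw [eq_top_iff, ← KaehlerDifferential.span_range_derivation, Submodule.span_le]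
    rintro _ ⟨b, rfl⟩
    have hb : b ∈ Algebra.adjoin A ({u} : Set B) := hu ▸ trivial
    rw [Algebra.adjoin_singleton_eq_range_aeval] at hb
    obtain ⟨G, rfl⟩ := hb
    show KaehlerDifferential.D A B (Polynomial.aeval u G) ∈ _
    rw [(KaehlerDifferential.D A B).map_aeval]
    exact Submodule.smul_mem _ _ (Submodule.subset_span rfl)
  have h1 : Ideal.span {Polynomial.aeval u (Polynomial.derivative F)} ≤
      Module.annihilator B (KaehlerDifferential A B) := by
    rw [Ideal.span_singleton_le_iff_mem, Module.mem_annihilator]
    intro m
    obtain ⟨c, rfl⟩ := Submodule.mem_span_singleton.mp (hspan.ge (Submodule.mem_top (x := m)))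
    have h0 := (KaehlerDifferential.D A B).map_aeval (P := F) (x := u)
    rw [hF, map_zero] at h0
    rw [smul_comm, ← h0, smul_zero]
  refine ⟨h1, fun hker ↦ le_antisymm ?_ h1⟩
  let N : Ideal B := Ideal.span {Polynomial.aeval u (Polynomial.derivative F)}
  have hsurj : Function.Surjective (Polynomial.aeval u : Polynomial A →ₐ[A] B) := fun b ↦ by
    have hb : b ∈ Algebra.adjoin A ({u} : Set B) := hu ▸ trivial
    rwa [Algebra.adjoin_singleton_eq_range_aeval] at hb
  let g : B → B ⧸ N := fun b ↦
    Ideal.Quotient.mk N (Polynomial.aeval u (Polynomial.derivative (Function.surjInv hsurj b)))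
  have hg : ∀ G : Polynomial A, g (Polynomial.aeval u G) =
      Ideal.Quotient.mk N (Polynomial.aeval u (Polynomial.derivative G)) := by
    intro G
    obtain ⟨H, hH⟩ : ∃ H, Function.surjInv hsurj (Polynomial.aeval u G) - G = H * F := by
      have hm : Function.surjInv hsurj (Polynomial.aeval u G) - G ∈
          RingHom.ker (Polynomial.aeval u : Polynomial A →ₐ[A] B) := by
        simp [RingHom.mem_ker, Function.surjInv_eq hsurj]
      rw [hker, Ideal.mem_span_singleton'] at hm
      obtain ⟨H, hH⟩ := hm
      exact ⟨H, hH.symm⟩
    rw [Ideal.Quotient.eq, ← map_sub, ← map_sub, hH, Polynomial.derivative_mul, map_add, map_mul,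
      map_mul, hF, mul_zero, zero_add]
    exact N.mul_mem_left _ (Ideal.mem_span_singleton_self _)
  let d : Derivation A B (B ⧸ N) :=
    Derivation.mk'
      { toFun := g
        map_add' := fun a b ↦ by
          obtain ⟨G, rfl⟩ := hsurj a
          obtain ⟨H, rfl⟩ := hsurj b
          rw [← map_add, hg, hg, hg, map_add, map_add, map_add]
        map_smul' := fun c a ↦ by
          obtain ⟨G, rfl⟩ := hsurj a
          rw [← map_smul, hg, hg, Polynomial.derivative_smul, map_smul]
          rfl }
      (fun a b ↦ by
        obtain ⟨G, rfl⟩ := hsurj a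
        obtain ⟨H, rfl⟩ := hsurj b
        show g (_ * _) = _
        rw [← map_mul, hg]
        simp only [LinearMap.coe_mk, AddHom.coe_mk, hg, Polynomial.derivative_mul, map_add, map_mul,
          Algebra.smul_def, Ideal.Quotient.algebraMap_eq]
        ring)
  intro a ha
  rw [Module.mem_annihilator] at ha
  have h2 := congr_arg d.liftKaehlerDifferential (ha (KaehlerDifferential.D A B u))
  rw [map_smul, Derivation.liftKaehlerDifferential_comp_D, map_zero] at h2
  have h3 : d u = Ideal.Quotient.mk N 1 := by
    show g u = _
    conv_lhs => rw [← Polynomial.aeval_X (R := A) u]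
    rw [hg]
    simp
  rw [h3, Algebra.smul_def, Ideal.Quotient.algebraMap_eq, ← map_mul, mul_one] at h2
  exact Ideal.Quotient.eq_zero_iff_mem.mp h2

end Groth.Agent.S5081
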