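import Groth.Statements.S5082
import Groth.Agent.MeroDivMod.Depth
-- import your own Groth.Agent.* helpers here

set_option autoImplicit false
universe u
open CategoryTheory CategoryTheory.Limits AlgebraicGeometry TopologicalSpace
open Mero

namespace Groth.Agent.S5082

/-- Let A be a Noetherian local ring. Then the group of divisors of Spec A is trivial (every divisor
equals the unit divisor, divisors being written multiplicatively) if and only if A has depth 0, that
is, if and only if every element of the maximal ideal of A is a zero-divisor. -/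
theorem result (A : Type u) [CommRing A] [IsNoetherianRing A] [IsLocalRing A] :
    (∀ D : Mero.Divisor (Spec (CommRingCat.of A)), D = 1) ↔ LocCoh.depth A A = 0 := by
  let X := Spec (CommRingCat.of A)
  have hV : IsAffineOpen (⊤ : X.Opens) := isAffineOpen_top X
  let e : A ≃+* Γ(X, ⊤) := (Scheme.ΓSpecIso (CommRingCat.of A)).commRingCatIsoToRingEquiv.symm
  have hloc : IsLocalRing Γ(X, ⊤) := e.isLocalRing
  let c : X := hV.fromSpec (IsLocalRing.closedPoint Γ(X, ⊤))
  have hc : hV.primeIdealOf ⟨c, Opens.mem_top c⟩ = IsLocalRing.closedPoint Γ(X, ⊤) :=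
    hV.fromSpec.isOpenEmbedding.injective (hV.fromSpec_primeIdealOf _)
  have hspec : ∀ y : X, y ⤳ c := fun y => by
    have h1 : hV.primeIdealOf ⟨y, Opens.mem_top y⟩ ⤳ IsLocalRing.closedPoint Γ(X, ⊤) :=
      (PrimeSpectrum.le_iff_specializes _ _).mp
        (IsLocalRing.le_maximalIdeal (hV.primeIdealOf _).isPrime.ne_top)
    have h2 := h1.map hV.fromSpec.continuous
    rwa [hV.fromSpec_primeIdealOf] at h2
  letI := X.presheaf.algebra_section_stalk (U := ⊤) ⟨c, Opens.mem_top c⟩
  haveI : IsLocalization.AtPrime (X.presheaf.stalk c) (hV.primeIdealOf ⟨c, Opens.mem_top c⟩).asIdeal :=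
    hV.isLocalization_stalk ⟨c, Opens.mem_top c⟩
  have hgu : ∀ r : Γ(X, ⊤), IsUnit (X.presheaf.germ ⊤ c (Opens.mem_top c) r) ↔ IsUnit r := fun r => by
    refine (IsLocalization.AtPrime.isUnit_to_map_iff (X.presheaf.stalk c)
      (hV.primeIdealOf ⟨c, Opens.mem_top c⟩).asIdeal r).trans ?_
    rw [hc]
    exact IsLocalRing.notMem_maximalIdeal
  constructor
  · intro h
    by_contra h0
    obtain ⟨a, ham, hareg⟩ := Groth.Agent.Depth.exists_isSMulRegular_of_one_le_idealDepth
      (Order.one_le_iff_pos.mpr (pos_iff_ne_zero.mpr h0) :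
        1 ≤ LocCoh.idealDepth (IsLocalRing.maximalIdeal A) A)
    have hnzd : e a ∈ nonZeroDivisors Γ(X, ⊤) := mem_nonZeroDivisors_iff_left.mpr fun r hr => by
      refine e.symm.injective ((hareg ?_).trans (map_zero _).symm)
      change a * e.symm r = a * 0
      rw [mul_zero, ← e.symm_apply_apply a, ← map_mul, hr, map_zero]
    let a' : Mero.regSub X ⊤ := ⟨e a, Groth.Agent.MeroTotal.mem_regSub hV hnzd⟩
    let F : Γ(Mero.kmod X, ⊤)ˣ := Groth.Agent.MeroDivMod.quot 1 a'
    have hD := congrArg (fun D : Mero.Divisor X => D.1 c) (h (Mero.div F))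
    have heff : Mero.IsEffectiveAt (Mero.div F) c :=
      Groth.Agent.MeroDivMod.isEffectiveAt_of_eq_one _ c hD
    have hdvd := (Groth.Agent.MeroDivMod.isEffectiveAt_iff (Mero.div F) 1 a' ⟨c, Opens.mem_top c⟩ _
      (Groth.Agent.MeroDivMod.quot_apply 1 a' ⟨c, Opens.mem_top c⟩) rfl).mp heff
    have hu : IsUnit (e a) := (hgu _).mp (isUnit_of_dvd_one (hdvd.trans (dvd_of_eq (map_one _))))
    have hau : IsUnit a := by simpa using hu.map e.symm
    exact (IsLocalRing.mem_maximalIdeal a).mp ham hau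
  · intro h D
    obtain ⟨P, hP, hmP⟩ := Groth.Agent.Depth.idealDepth_eq_zero_iff.mp
      (h : LocCoh.idealDepth (IsLocalRing.maximalIdeal A) A = 0)
    have hA : ∀ a ∈ nonZeroDivisors A, IsUnit a := fun a ha =>
      Groth.Agent.WeakAssSch.isUnit_of_isAssociatedPrime
        (by rw [le_antisymm hmP (IsLocalRing.le_maximalIdeal hP.isPrime.ne_top)]; exact hP) ha
    have hunit : ∀ r : Γ(X, ⊤), X.presheaf.germ ⊤ c (Opens.mem_top c) r ∈
        nonZeroDivisors (X.presheaf.stalk c) → IsUnit r := fun r hr => by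
      have hnr : e.symm r ∈ nonZeroDivisors A := mem_nonZeroDivisors_iff_right.mpr fun t ht => by
        have h1 : e t * r = 0 := by
          rw [← e.apply_symm_apply r, ← map_mul, ht, map_zero]
        have h2 : algebraMap Γ(X, ⊤) (X.presheaf.stalk c) (e t) = 0 :=
          mem_nonZeroDivisors_iff_right.mp hr _ (by
            change X.presheaf.germ ⊤ c _ (e t) * _ = 0
            rw [← map_mul, h1, map_zero])
        obtain ⟨⟨s, hs⟩, hst⟩ := (IsLocalization.map_eq_zero_iff
          (hV.primeIdealOf ⟨c, Opens.mem_top c⟩).asIdeal.primeCompl _ _).mp h2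
        rw [hc] at hs
        have hsu : IsUnit s := IsLocalRing.notMem_maximalIdeal.mp hs
        exact e.injective ((hsu.mul_right_eq_zero.mp hst).trans (map_zero _).symm)
      simpa using (hA _ hnr).map e
    refine Subtype.ext (funext fun y => ?_)
    obtain ⟨U, hcU, f, hf⟩ := Groth.Agent.MeroDivMod.exists_local D c
    obtain ⟨V, hcV, hV', a, b, w⟩ := Groth.Agent.MeroDivMod.exists_regular_fraction f c hcU
    have hu : ∀ r : Mero.regSub X V.1, IsUnit (X.presheaf.germ V.1 y ((hspec y).mem_open V.1.2 hcV) r.1) := by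
      intro r
      have h1 : IsUnit (X.presheaf.germ V.1 c hcV r.1) := by
        obtain ⟨⟨r', s⟩, hs⟩ := IsLocalization.surj
          (hV.primeIdealOf ⟨c, Opens.mem_top c⟩).asIdeal.primeCompl (X.presheaf.germ V.1 c hcV r.1)
        have hsu : IsUnit (algebraMap Γ(X, ⊤) (X.presheaf.stalk c) (s : Γ(X, ⊤))) :=
          IsLocalization.map_units _ s
        have hn : X.presheaf.germ ⊤ c (Opens.mem_top c) r' ∈ nonZeroDivisors (X.presheaf.stalk c) := by
          change algebraMap Γ(X, ⊤) (X.presheaf.stalk c) r' ∈ _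
          rw [← hs]
          exact mul_mem (r.2 ⟨c, hcV⟩) hsu.mem_nonZeroDivisors
        have := (hunit r' hn).map (algebraMap Γ(X, ⊤) (X.presheaf.stalk c))
        rw [← hs] at this
        exact isUnit_of_mul_isUnit_left this
      have h2 := h1.map (X.presheaf.stalkSpecializes (hspec y)).hom
      rwa [← ConcreteCategory.comp_apply, X.presheaf.germ_stalkSpecializes] at h2
    have hyV : y ∈ V.1 := (hspec y).mem_open V.1.2 hcV
    refine Groth.Agent.MeroDivMod.eq_one_of_effective D y
      ((Groth.Agent.MeroDivMod.isEffectiveAt_iff D a b ⟨y, hyV⟩ _ (w ⟨y, hyV⟩) (hf ⟨y, hV' hyV⟩)).mpr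
        (hu b).dvd) ?_
    refine (Groth.Agent.MeroDivMod.isEffectiveAt_iff D⁻¹ b a ⟨y, hyV⟩
      ((Units.map (Mero.evalK X U ⟨y, hV' hyV⟩).toMonoidHom f)⁻¹) ?_ ?_).mpr (hu a).dvd
    · refine Units.inv_eq_of_mul_eq_one_right ?_
      change (f : Γ(Mero.kmod X, U)).1 ⟨y, hV' hyV⟩ * _ = 1
      rw [w ⟨y, hyV⟩]
      refine LocalizedModule.mk_mul_mk.trans ?_
      rw [← Mero.mk_self_eq_one (Mero.regGerm ⟨y, hyV⟩ b * Mero.regGerm ⟨y, hyV⟩ a),
        Groth.Agent.Mero.mk_eq_mk_iff]
      simp only [Submonoid.coe_mul, Mero.regGerm]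
      ring
    · change (D.1 y)⁻¹ = _
      rw [hf ⟨y, hV' hyV⟩]
      rfl

end Groth.Agent.S5082
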