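import Groth.Statements.S5083
import Groth.Agent.MeroDivMod.Basic
-- import your own Groth.Agent.* helpers here

set_option autoImplicit false
universe u
open CategoryTheory CategoryTheory.Limits AlgebraicGeometry TopologicalSpace
open Mero

namespace Groth.Agent.S5083

open Groth.Agent.MeroDivMod in
/-- Multiplication by a meromorphic unit. -/
noncomputable def twist {X : Scheme.{u}} (D D' : Mero.Divisor X) (F : Γ(Mero.kmod X, ⊤)ˣ)
    (key : ∀ x : X, D.1 x = D'.1 x * Mero.germOf F ⟨x, Opens.mem_top x⟩) :
    Mero.divMod D ⟶ Mero.divMod D' :=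
  ⟨PresheafOfModules.homMk (M₁ := (Mero.divMod D).val) (M₂ := (Mero.divMod D').val)
    { app := fun V => AddCommGrpCat.ofHom
        { toFun := fun t : Γ(Mero.divMod D, V.unop) =>
            (⟨(incl t * kres le_top (F : Γ(Mero.kmod X, ⊤))).1,
              (incl t * kres le_top (F : Γ(Mero.kmod X, ⊤))).2, fun y g hg => by
                have h := t.2.2 y (g * Units.map (Mero.evalK X ⊤ ⟨y.1, Opens.mem_top y.1⟩).toMonoidHom F)
                  (by rw [key y.1, hg, QuotientGroup.mk_mul])
                change t.1 y * (F : Γ(Mero.kmod X, ⊤)).1 ⟨y.1, _⟩ * (g : Mero.KStalk X y.1) ∈ _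
                rw [mul_assoc, mul_comm _ (g : Mero.KStalk X y.1)]
                exact h⟩ : Γ(Mero.divMod D', V.unop))
          map_zero' := Subtype.ext (funext fun y => zero_mul _)
          map_add' := fun t t' => Subtype.ext (funext fun y => add_mul _ _ _) }
      naturality := fun {V V'} i => by ext t; rfl }
    (fun V r t => Subtype.ext (funext fun y => smul_mul_assoc _ _ _))⟩

open Groth.Agent.MeroDivMod in
theorem twist_comp {X : Scheme.{u}} (D D' : Mero.Divisor X) (F G : Γ(Mero.kmod X, ⊤)ˣ) (h1) (h2)
    (hFG : (F : Γ(Mero.kmod X, ⊤)) * (G : Γ(Mero.kmod X, ⊤)) = 1) :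
    twist D D' F h1 ≫ twist D' D G h2 = 𝟙 _ := by
  ext V t
  refine Subtype.ext (funext fun y => ?_)
  change t.1 y * (F : Γ(Mero.kmod X, ⊤)).1 ⟨y.1, _⟩ * (G : Γ(Mero.kmod X, ⊤)).1 ⟨y.1, _⟩ = t.1 y
  rw [mul_assoc, ← Mero.kmod_mul_apply, hFG, Mero.kmod_one_apply, mul_one]


/-- Let X be a scheme and D, D' divisors on X (global sections of the sheaf of units of K_X modulo units
of O_X, written multiplicatively). If D and D' are linearly equivalent, i.e. D · D'⁻¹ is the divisor
of a unit of the ring of global sections of K_X, then the O_X-modules O_X(D) and O_X(D') are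
isomorphic. (The published statement is an equivalence: O_X(D) and O_X(D') are isomorphic if and
only if D and D' are linearly equivalent; this row states only that linearly equivalent divisors
have isomorphic modules.) -/
theorem result (X : Scheme.{u}) (D D' : Mero.Divisor X) (h : Mero.LinEquiv D D') :
    Nonempty (Mero.divMod D ≅ Mero.divMod D') := by
  obtain ⟨F, hF⟩ := h
  have key : ∀ x : X, D.1 x = D'.1 x * Mero.germOf F ⟨x, Opens.mem_top x⟩ := fun x => by
    have e := congrArg (fun E : Mero.Divisor X => E.1 x) hF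
    have e' : D.1 x * (D'.1 x)⁻¹ = Mero.germOf F ⟨x, Opens.mem_top x⟩ := e
    rw [← e', mul_comm (D.1 x), mul_inv_cancel_left]
  refine ⟨{ hom := twist D D' F key, inv := twist D' D F⁻¹ ?_, hom_inv_id := ?_, inv_hom_id := ?_ }⟩
  · intro x
    rw [key x, mul_assoc, Mero.germOf, Mero.germOf, map_inv, QuotientGroup.mk_inv, mul_inv_cancel, mul_one]
  · exact twist_comp D D' _ _ _ _ F.mul_inv
  · exact twist_comp D' D _ _ _ _ F.inv_mul

end Groth.Agent.S5083
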