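import Groth.Statements.S5084
import Mathlib.RingTheory.Ideal.AssociatedPrime.Finiteness
import Groth.Agent.Mero.Basic
import Groth.Agent.QCoh.Exact
import Groth.Agent.WeakAssSch.Unit
import Groth.Agent.WeakAssSch.Regular

set_option autoImplicit false
set_option linter.style.haveILetI false
universe u
open CategoryTheory CategoryTheory.Limits AlgebraicGeometry TopologicalSpace
open Mero

namespace Groth.Agent.S5084

open Groth.Agent.PullStalk.Sky

/-- In a Noetherian local ring whose maximal ideal is not associated some nonzerodivisor is no unit. -/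
theorem exists_nzd_mem {R : Type*} [CommRing R] [IsLocalRing R] [IsNoetherianRing R]
    (h : ¬ IsAssociatedPrime (IsLocalRing.maximalIdeal R) R) :
    ∃ a ∈ IsLocalRing.maximalIdeal R, a ∈ nonZeroDivisors R := by
  by_contra hcon
  push Not at hcon
  have hsub : ((IsLocalRing.maximalIdeal R : Ideal R) : Set R) ⊆
      ⋃ p ∈ (associatedPrimes.finite R R).toFinset, ((id p : Ideal R) : Set R) := by
    intro a ha
    have h1 := hcon a ha
    rw [mem_nonZeroDivisors_iff_right] at h1
    push Not at h1
    obtain ⟨y, hy, hy0⟩ := h1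
    obtain ⟨p, hp, hle⟩ := exists_le_isAssociatedPrime_of_isNoetherianRing R y hy0
    refine Set.mem_iUnion₂.mpr ⟨p, (associatedPrimes.finite R R).mem_toFinset.mpr hp, hle ?_⟩
    simp [Submodule.mem_colon_singleton, smul_eq_mul, mul_comm a y, hy]
  obtain ⟨p, hp, hle⟩ := (Ideal.subset_union_prime ⊥ ⊥ (fun i hi _ _ =>
    ((associatedPrimes.finite R R).mem_toFinset.mp hi).isPrime)).mp hsub
  have hp' := (associatedPrimes.finite R R).mem_toFinset.mp hp
  exact h ((IsLocalRing.eq_maximalIdeal (((IsLocalRing.maximalIdeal.isMaximal R).eq_of_le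
    hp'.isPrime.ne_top hle) ▸ IsLocalRing.maximalIdeal.isMaximal R)) ▸ hp')

theorem result (X : Scheme.{u}) [IsLocallyNoetherian X]
    (F : X.Modules) (hF : Coh.IsQCoh F) :
    Mono (Mero.toMer F) ↔
      ∀ x : ↥X, Curv2.IsAssPoint F x →
        IsAssociatedPrime (IsLocalRing.maximalIdeal ↑(X.presheaf.stalk x)) ↑(X.presheaf.stalk x) := by
  haveI : F.IsQuasicoherent := hF
  constructor
  · intro hmono x hx
    by_contra hna
    obtain ⟨a, ham, ha⟩ := exists_nzd_mem hna
    obtain ⟨m, hm, hp⟩ := WeakAss.mem_weakAss_iff.mp ((WeakAssSch.isWeakAssPoint_iff F x).mp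
      ((WeakAssSch.isAssPoint_iff_isWeakAssPoint F x).mp hx))
    obtain ⟨s, hs, n, hn⟩ := hp a ham
    rw [← Groth.Agent.Mero.regStalk_eq] at ha
    obtain ⟨W, hxW, b, hb, hbe⟩ := pow_mem ha n
    obtain ⟨W', hxW', m', rfl⟩ := TopCat.Presheaf.exists_germ_eq F.presheaf (x := x) m
    have hsu : IsUnit s := by
      by_contra hsu
      exact hs ((IsLocalRing.mem_maximalIdeal s).mpr hsu)
    have hn' : a ^ n • germM F W' x hxW' m' = 0 := by
      rw [mul_smul] at hn
      exact hsu.smul_eq_zero.mp hn
    set b' := X.presheaf.map (homOfLE (inf_le_left : W ⊓ W' ≤ W)).op b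
    set mm := QCoh.res F (inf_le_right : W ⊓ W' ≤ W') m'
    have hz : germM F (W ⊓ W') x ⟨hxW, hxW'⟩ (b' • mm) = germM F (W ⊓ W') x ⟨hxW, hxW'⟩ 0 := by
      refine (germM_smul F (W ⊓ W') x ⟨hxW, hxW'⟩ b' mm).trans ?_
      refine Eq.trans ?_ (map_zero (F.presheaf.germ _ x _).hom).symm
      refine Eq.trans ?_ hn'
      rw [← hbe]
      congr 1
      · exact X.presheaf.germ_res_apply _ _ _ _
      · exact F.presheaf.germ_res_apply _ _ _ _
    obtain ⟨V, hxV, i, j, e⟩ := TopCat.Presheaf.germ_eq _ x _ _ _ _ hz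
    replace e : X.presheaf.map i.op b' • QCoh.res F i.le mm = 0 :=
      (Scheme.Modules.map_smul F i b' mm).symm.trans (e.trans (map_zero (F.presheaf.map j.op).hom))
    have h0 : (toMer F).app V (QCoh.res F i.le mm) = 0 := Subtype.ext (funext fun y => by
      change LocalizedModule.mk (F.presheaf.germ V y.1 y.2 (QCoh.res F i.le mm)) 1 = 0
      refine (LocalizedModule.mk_eq.mpr ⟨regGerm y ⟨X.presheaf.map i.op b', regSub_res _ (regSub_res _ hb)⟩, ?_⟩).trans
        (LocalizedModule.zero_mk 1)
      rw [one_smul, smul_zero, smul_zero, Submonoid.smul_def]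
      change _ • germM F V y.1 y.2 _ = 0
      rw [← germM_smul, e]
      exact map_zero (F.presheaf.germ _ _ _).hom)
    have h1 : QCoh.res F i.le mm = 0 := QCoh.app_injective_of_mono (toMer F) V
      (h0.trans (map_zero _).symm)
    refine hs (hm s ?_)
    have h2 : germM F W' x hxW' m' = 0 := by
      refine Eq.trans ?_ ((congrArg (germM F V x hxV) h1).trans (map_zero (F.presheaf.germ _ _ _).hom))
      exact ((F.presheaf.germ_res_apply i x hxV mm).trans (F.presheaf.germ_res_apply _ _ _ _)).symm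
    rw [show (TopCat.Presheaf.germ F.presheaf W' x hxW') m' = 0 from h2, smul_zero]
  · intro h
    refine WeakAssSch.mono_of_app_injective _ fun U => ?_
    rw [injective_iff_map_eq_zero]
    intro t ht
    refine WeakAssSch.eq_zero_of_germ_weakAss F t fun x hx hwa => ?_
    have h0 : LocalizedModule.mk (F.presheaf.germ U x hx t) (1 : regStalk X x) = 0 :=
      congrFun (congrArg Subtype.val ht) ⟨x, hx⟩
    obtain ⟨c, hc⟩ := LocalizedModule.mk_eq.mp (h0.trans (LocalizedModule.zero_mk 1).symm)
    rw [one_smul, smul_zero, smul_zero, Submonoid.smul_def] at hc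
    exact (WeakAssSch.isUnit_of_isAssociatedPrime (h x ((WeakAssSch.isAssPoint_iff_isWeakAssPoint F x).mpr hwa))
      (regStalk_le_nonZeroDivisors x c.2)).smul_eq_zero.mp hc

end Groth.Agent.S5084
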