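import Groth.Statements.S5086
import Groth.Agent.MeroDivMod.Basic
import Groth.Agent.MeroDivMod.Values
-- import your own Groth.Agent.* helpers here

set_option autoImplicit false
universe u
open CategoryTheory CategoryTheory.Limits AlgebraicGeometry TopologicalSpace
open Mero

namespace Groth.Agent.S5086

theorem finite_of_locallyFinite {X : Scheme.{u}} [IsReduced X]
    (hX : ∀ x : ↥X, ∃ W : X.Opens, x ∈ W ∧
      {Z : Set ↥X | Z ∈ irreducibleComponents ↥X ∧ (Z ∩ (W : Set ↥X)).Nonempty}.Finite)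
    (U : X.Opens) (hU : IsCompact (U : Set X)) :
    {z : X | z ∈ U ∧ Curv2.IsWeakAssPoint (Coh.structureModule X) z}.Finite := by
  choose W hW hfin using hX
  obtain ⟨t, ht⟩ := hU.elim_finite_subcover (fun x => (W x : Set X)) (fun x => (W x).2)
    (fun x _ => Set.mem_iUnion.mpr ⟨x, hW x⟩)
  refine Set.Finite.of_finite_image ((t.finite_toSet.biUnion fun x _ => hfin x).subset ?_)
    (f := fun z => closure ({z} : Set X)) ?_
  · rintro _ ⟨z, ⟨hzU, hzw⟩, rfl⟩
    obtain ⟨x, hxt, hzx⟩ := Set.mem_iUnion₂.mp (ht hzU)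
    refine Set.mem_iUnion₂.mpr ⟨x, hxt, ⟨isIrreducible_singleton.closure, fun T hT hle => ?_⟩,
      z, subset_closure rfl, hzx⟩
    obtain ⟨w, hw⟩ := QuasiSober.sober hT.closure isClosed_closure
    have hwz : w ⤳ z := hw.specializes (subset_closure (hle (subset_closure rfl)))
    have := (Groth.Agent.WeakAssSch.isWeakAssPoint_unit_iff_maximal z).mp hzw w hwz
    subst this
    exact subset_closure.trans hw.def.ge
  · intro z _ z' _ e
    exact (inseparable_iff_closure_eq.mpr e).eq

/-- A schematically dense open contains the weakly associated points. -/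
theorem mem_of_dense {X : Scheme.{u}}
    (hfin : ∀ W : X.Opens, IsAffineOpen W →
      {z : X | z ∈ W ∧ Curv2.IsWeakAssPoint (Coh.structureModule X) z}.Finite) {U V : X.Opens}
    (hV : ∀ W : X.Opens, W ≤ U →
      Function.Injective ⇑(X.presheaf.map (homOfLE (inf_le_left : W ⊓ V ≤ W)).op))
    (z : X) (hzU : z ∈ U) (hw : Curv2.IsWeakAssPoint (Coh.structureModule X) z) : z ∈ V := by
  classical
  by_contra hzV
  obtain ⟨m, hmne, hm⟩ := Groth.Agent.WeakAss.mem_weakAss_iff.mp
    ((Groth.Agent.WeakAssSch.isWeakAssPoint_unit_iff z).mp hw)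
  obtain ⟨N, hzN, r, rfl⟩ := X.presheaf.exists_germ_eq (x := z) m
  obtain ⟨W, hzW, hWle⟩ := Groth.Agent.IdealSh.Comap.exists_affine_le z (U ⊓ N) ⟨hzU, hzN⟩
  let S := (hfin W.1 W.2).toFinset.filter fun w => ¬ w ⤳ z
  let D : X.Opens := ⟨(⋃ w ∈ (S : Set X), closure {w})ᶜ ∩ W.1,
    ((Set.Finite.isClosed_biUnion (S.finite_toSet) fun w _ => isClosed_closure).isOpen_compl).inter W.1.2⟩
  have hzD : z ∈ D := by
    refine ⟨?_, hzW⟩
    simp only [Set.mem_compl_iff, Set.mem_iUnion, not_exists]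
    intro w hwS hwz
    exact (Finset.mem_filter.mp hwS).2 (specializes_iff_mem_closure.mpr hwz)
  have hDU : D ≤ U := fun y hy => (hWle hy.2).1
  have hDN : D ≤ N := fun y hy => (hWle hy.2).2
  have h0 : X.presheaf.map (homOfLE hDN).op r = 0 := by
    refine hV D hDU ?_
    rw [map_zero]
    refine TopCat.Presheaf.section_ext X.sheaf _ _ _ fun y hy => ?_
    refine Eq.trans ?_ (map_zero _).symm
    refine Groth.Agent.MeroTotal.RegularSection.germ_eq_zero _ (fun w hw' hww => ?_) y hy
    rw [TopCat.Presheaf.germ_res_apply, TopCat.Presheaf.germ_res_apply]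
    have hwz : w ⤳ z := by
      by_contra hwz
      exact hw'.1.1 (Set.mem_iUnion₂.mpr ⟨w, Finset.mem_filter.mpr
        ⟨(hfin W.1 W.2).mem_toFinset.mpr ⟨hw'.1.2, hww⟩, hwz⟩, subset_closure rfl⟩)
    have hwne : w ≠ z := fun h => hzV (h ▸ hw'.2)
    obtain ⟨f, hf, hfu⟩ : ∃ f ∈ IsLocalRing.maximalIdeal (X.presheaf.stalk z),
        IsUnit (X.presheaf.stalkSpecializes hwz f) := by
      have hWa : IsAffineOpen W.1 := W.2
      have hwW : w ∈ W.1 := hw'.1.2
      obtain ⟨t, ht, ht'⟩ : ∃ t, t ∈ (hWa.primeIdealOf ⟨z, hzW⟩).asIdeal ∧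
          t ∉ (hWa.primeIdealOf ⟨w, hwW⟩).asIdeal := by
        refine SetLike.not_le_iff_exists.mp fun hle => hwne ?_
        have h1 : hWa.primeIdealOf ⟨z, hzW⟩ ⤳ hWa.primeIdealOf ⟨w, hwW⟩ :=
          (PrimeSpectrum.le_iff_specializes _ _).mp hle
        have h2 := h1.map hWa.fromSpec.continuous
        rw [hWa.fromSpec_primeIdealOf, hWa.fromSpec_primeIdealOf] at h2
        exact (hwz.antisymm h2).eq
      refine ⟨X.presheaf.germ W.1 z hzW t, (IsLocalRing.mem_maximalIdeal _).mpr fun hu => ?_, ?_⟩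
      · letI := X.presheaf.algebra_section_stalk ⟨z, hzW⟩
        haveI : IsLocalization.AtPrime (X.presheaf.stalk z) (hWa.primeIdealOf ⟨z, hzW⟩).asIdeal :=
          hWa.isLocalization_stalk ⟨z, hzW⟩
        exact (IsLocalization.AtPrime.isUnit_to_map_iff (X.presheaf.stalk z) _ t).mp hu ht
      · rw [← ConcreteCategory.comp_apply, X.presheaf.germ_stalkSpecializes]
        letI := X.presheaf.algebra_section_stalk ⟨w, hwW⟩
        haveI : IsLocalization.AtPrime (X.presheaf.stalk w) (hWa.primeIdealOf ⟨w, hwW⟩).asIdeal :=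
          hWa.isLocalization_stalk ⟨w, hwW⟩
        exact (IsLocalization.AtPrime.isUnit_to_map_iff (X.presheaf.stalk w) _ t).mpr ht'
    obtain ⟨s, hs, n, hn⟩ := hm f hf
    have h1 := congrArg (X.presheaf.stalkSpecializes hwz).hom hn
    rw [smul_eq_mul, map_mul, map_mul, map_pow, map_zero] at h1
    have h2 := ((IsLocalRing.notMem_maximalIdeal.mp hs).map (X.presheaf.stalkSpecializes hwz).hom).mul
      (hfu.pow n)
    have h3 := h2.mul_right_eq_zero.mp h1
    rwa [← ConcreteCategory.comp_apply, X.presheaf.germ_stalkSpecializes] at h3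
  refine (hmne 1 ?_ |> fun h => IsLocalRing.notMem_maximalIdeal.mpr isUnit_one h)
  have e := congrArg (X.presheaf.germ D z hzD) h0
  rw [TopCat.Presheaf.germ_res_apply, map_zero] at e
  rw [one_smul]
  exact e


/-- Let X be a scheme which is either locally Noetherian, or reduced with locally finite set of
irreducible components (every point has an open neighbourhood meeting only finitely many irreducible
components). Let U be an open subset, V an open subset of U schematically dense in U (restriction of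
functions from every open W ⊆ U to W ∩ V is injective) and g a function on V. Then there is a
section of the sheaf of meromorphic functions K_X over U whose restriction to V is g/1; with part
(i), meromorphic functions over U are exactly the pseudo-functions on U. -/
theorem result (X : Scheme.{u})
    (hX : IsLocallyNoetherian X ∨ (IsReduced X ∧ ∀ x : ↥X, ∃ W : X.Opens, x ∈ W ∧
      {Z : Set ↥X | Z ∈ irreducibleComponents ↥X ∧ (Z ∩ (W : Set ↥X)).Nonempty}.Finite))
    (U V : X.Opens) (hVU : V ≤ U)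
    (hV : ∀ W : X.Opens, W ≤ U →
      Function.Injective ⇑(X.presheaf.map (homOfLE (inf_le_left : W ⊓ V ≤ W)).op))
    (g : Γ(X, V)) :
    ∃ s : Γ(Mero.kmod X, U), (Mero.kmod X).presheaf.map (homOfLE hVU).op s = Mero.toK X V g := by
  classical
  have hfin : ∀ W : X.Opens, IsAffineOpen W →
      {z : X | z ∈ W ∧ Curv2.IsWeakAssPoint (Coh.structureModule X) z}.Finite := by
    intro W hW
    rcases hX with h | ⟨h, hc⟩
    · haveI : IsNoetherianRing Γ(X, W) := IsLocallyNoetherian.component_noetherian ⟨W, hW⟩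
      exact Groth.Agent.MeroTotal.finite_of_isNoetherianRing hW
    · exact finite_of_locallyFinite hc W hW.isCompact
  have hmem : ∀ z ∈ U, Curv2.IsWeakAssPoint (Coh.structureModule X) z → z ∈ V :=
    fun z hz hw => mem_of_dense hfin hV z hz hw
  have hloc : ∀ x : U, ∃ (W : X.Opens) (_ : x.1 ∈ W) (_ : W ≤ U) (a : Γ(X, W)) (S : Mero.regSub X W),
      ∀ (z : X) (hz : z ∈ W), Curv2.IsWeakAssPoint (Coh.structureModule X) z → ∀ hzV : z ∈ V,
        X.presheaf.germ W z hz S.1 * X.presheaf.germ V z hzV g = X.presheaf.germ W z hz a := by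
    intro x
    obtain ⟨W, hxW, hWU⟩ := Groth.Agent.IdealSh.Comap.exists_affine_le x.1 U x.2
    obtain ⟨a, S, h⟩ := Groth.Agent.MeroDivMod.exists_denominator_of_open W.2 (hfin W.1 W.2) V
      (fun z hz hw => hmem z (hWU hz) hw) (X.presheaf.map (homOfLE inf_le_right).op g)
    refine ⟨W.1, hxW, hWU, a, ⟨S, fun y => Groth.Agent.WeakAssSch.germ_mem_nonZeroDivisors_of_isUnit S
      (fun z hz hw => (h z hz hw).1) y.1 y.2⟩, fun z hz hw hzV => ?_⟩
    refine Eq.trans ?_ (h z hz hw).2
    exact congrArg _ (X.presheaf.germ_res_apply (homOfLE (inf_le_right : W.1 ⊓ V ≤ V)) z ⟨hz, hzV⟩ g).symm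
  choose W hxW hWU a S hS using hloc
  let v : ∀ (x : U) (y : X), y ∈ W x → Mero.KStalk X y := fun x y hy =>
    LocalizedModule.mk (X.presheaf.germ (W x) y hy (a x)) (Mero.regGerm ⟨y, hy⟩ (S x))
  have hagree : ∀ (x x' : U) (y : X) (hy : y ∈ W x) (hy' : y ∈ W x'), v x y hy = v x' y hy' := by
    intro x x' y hy hy'
    let N : X.Opens := W x ⊓ W x'
    have hI : y ∈ N := ⟨hy, hy'⟩
    have h0 := Groth.Agent.MeroTotal.RegularSection.germ_eq_zero
      (X.presheaf.map (homOfLE (inf_le_right : N ≤ W x')).op (S x').1 * X.presheaf.map (homOfLE (inf_le_left : N ≤ W x)).op (a x) -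
        X.presheaf.map (homOfLE (inf_le_left : N ≤ W x)).op (S x).1 * X.presheaf.map (homOfLE (inf_le_right : N ≤ W x')).op (a x'))
      (fun z hz hw => by
        have hzV := hmem z (hWU x hz.1) hw
        simp only [map_sub, map_mul, TopCat.Presheaf.germ_res_apply]
        rw [← hS x z hz.1 hw hzV, ← hS x' z hz.2 hw hzV]
        ring) y hI
    simp only [map_sub, map_mul, TopCat.Presheaf.germ_res_apply, sub_eq_zero] at h0
    rw [Groth.Agent.Mero.mk_eq_mk_iff]
    exact h0
  let s : Γ(Mero.kmod X, U) := ⟨fun y => v y y.1 (hxW y), fun x => ⟨W x, hxW x, homOfLE (hWU x), a x, S x,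
    fun y => hagree _ x y.1 (hxW ⟨y.1, hWU x y.2⟩) y.2⟩⟩
  refine ⟨s, Groth.Agent.MeroDivMod.kext fun y => ?_⟩
  change v ⟨y.1, hVU y.2⟩ y.1 (hxW ⟨y.1, hVU y.2⟩) = LocalizedModule.mk (X.presheaf.germ V y.1 y.2 g) 1
  set x : U := ⟨y.1, hVU y.2⟩
  have h0 := Groth.Agent.MeroTotal.RegularSection.germ_eq_zero
    (X.presheaf.map (homOfLE (inf_le_left : W x ⊓ V ≤ W x)).op (a x) -
      X.presheaf.map (homOfLE (inf_le_left : W x ⊓ V ≤ W x)).op (S x).1 * X.presheaf.map (homOfLE (inf_le_right : W x ⊓ V ≤ V)).op g)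
    (fun z hz hw => by
      simp only [map_sub, map_mul, TopCat.Presheaf.germ_res_apply]
      rw [hS x z hz.1 hw hz.2, sub_self]) y.1 ⟨hxW x, y.2⟩
  simp only [map_sub, map_mul, sub_eq_zero] at h0
  rw [Groth.Agent.Mero.mk_eq_mk_iff, OneMemClass.coe_one, one_mul]
  refine Eq.trans ?_ (h0.trans (congrArg₂ (· * ·) ?_ ?_))
  · exact (X.presheaf.germ_res_apply _ _ _ _).symm
  · exact X.presheaf.germ_res_apply _ _ _ _
  · exact X.presheaf.germ_res_apply _ _ _ _

end Groth.Agent.S5086
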