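import Groth.Statements.S5087
import Groth.Agent.MeroDivMod.OfSection
-- import your own Groth.Agent.* helpers here

set_option autoImplicit false
universe u
open CategoryTheory CategoryTheory.Limits AlgebraicGeometry TopologicalSpace
open Mero

namespace Groth.Agent.S5087

/-- For a locally Noetherian scheme X (so that at every point the germs of regular functions are all the
non-zero-divisors of the local ring, and a regular meromorphic section of an invertible module is
locally a unit of K_X times a generator): an invertible O_X-module L is isomorphic to O_X(D) for
some divisor D on X if and only if L has a regular meromorphic section. (The published statement is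
for an arbitrary scheme, with regular meromorphic sections defined through local trivialisations;
this row assumes X locally Noetherian, where that notion agrees with the stalkwise one used here.) -/
theorem result (X : Scheme.{u}) [IsLocallyNoetherian X] (L : X.Modules)
    (hL : PicF.IsInvertible L) :
    (∃ D : Mero.Divisor X, Nonempty (L ≅ Mero.divMod D)) ↔ Mero.HasRegularMero L := by
  constructor
  · rintro ⟨D, ⟨φ⟩⟩
    exact Groth.Agent.MeroDivMod.hasRegularMero_of_iso D φ
  · rintro ⟨s, hs⟩
    obtain ⟨D, -, φ, -⟩ := Groth.Agent.MeroDivMod.exists_divisor_iso hL hs
    exact ⟨D, ⟨φ⟩⟩

end Groth.Agent.S5087
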