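import Groth.Statements.S5088
import Groth.Agent.MeroDivMod.Values
import Groth.Agent.ProjTwist.Invertible
import Groth.Agent.Props.QStalk
import Groth.Agent.MeroDivMod.OfSection
-- import your own Groth.Agent.* helpers here

set_option autoImplicit false
universe u
open CategoryTheory CategoryTheory.Limits AlgebraicGeometry TopologicalSpace
open Mero

namespace Groth.Agent.S5088

open Groth.Agent.PullStalk.Sky in
/-- A section over an affine open generating at finitely many points. -/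
theorem exists_generating {X : Scheme.{u}} {L : X.Modules} (hL : PicF.IsInvertible L) {W : X.Opens}
    (hW : IsAffineOpen W)
    (hfin : {z : X | z ∈ W ∧ Curv2.IsWeakAssPoint (Coh.structureModule X) z}.Finite) :
    ∃ m : Γ(L, W), ∀ (z : X) (hz : z ∈ W), Curv2.IsWeakAssPoint (Coh.structureModule X) z →
      ∀ t : L.presheaf.stalk z, ∃ r : X.presheaf.stalk z, r • L.presheaf.germ W z hz m = t := by
  classical
  haveI : L.IsQuasicoherent := Groth.Agent.ProjTwist.isQCoh_of_isInvertible hL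
  let P := hfin.toFinset.filter fun z => ∀ w ∈ hfin.toFinset, z ⤳ w → w = z
  have hP : ∀ z : P, z.1 ∈ W := fun z =>
    (hfin.mem_toFinset.mp (Finset.mem_filter.mp z.2).1).1
  let p : P → Ideal Γ(X, W) := fun z => (hW.primeIdealOf ⟨z.1, hP z⟩).asIdeal
  have hunit : ∀ (z : P) (r : Γ(X, W)), r ∉ p z ↔ IsUnit (X.presheaf.germ W z.1 (hP z) r) := by
    intro z r
    let := X.presheaf.algebra_section_stalk ⟨z.1, hP z⟩
    have : IsLocalization.AtPrime (X.presheaf.stalk z.1) (p z) := hW.isLocalization_stalk ⟨z.1, hP z⟩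
    exact (IsLocalization.AtPrime.isUnit_to_map_iff (X.presheaf.stalk z.1) _ r).symm
  have hsep : ∀ z z' : P, z' ≠ z → ∃ t, t ∈ p z' ∧ t ∉ p z := by
    intro z z' hne
    refine SetLike.not_le_iff_exists.mp fun hle => hne (Subtype.ext ?_)
    have h1 : hW.primeIdealOf ⟨z'.1, hP z'⟩ ⤳ hW.primeIdealOf ⟨z.1, hP z⟩ :=
      (PrimeSpectrum.le_iff_specializes _ _).mp hle
    have h2 := h1.map hW.fromSpec.continuous
    rw [hW.fromSpec_primeIdealOf, hW.fromSpec_primeIdealOf] at h2
    exact ((Finset.mem_filter.mp z'.2).2 z.1 (Finset.mem_filter.mp z.2).1 h2).symm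
  choose t ht ht' using hsep
  let h : P → Γ(X, W) := fun z => ∏ z' : {z' : P // z' ≠ z}, t z z'.1 z'.2
  have hgen : ∀ z : P, ∃ (n : Γ(L, W)) (U : X.Opens) (e : Γ(L, U)) (hzU : z.1 ∈ U)
      (u : X.presheaf.stalk z.1), Groth.Agent.Props.GenLocus.IsGen L U e ∧ IsUnit u ∧
        germM L W z.1 (hP z) n = u • germM L U z.1 hzU e := by
    intro z
    obtain ⟨U, e, hzU, he⟩ := Groth.Agent.Props.GenLocus.exists_isGen hL z.1
    letI := Groth.Agent.Props.QStalk.moduleSections L (hP z)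
    haveI := Groth.Agent.Props.QStalk.isLocalizedModule_germLin L (hP z) hW
    obtain ⟨⟨n, d⟩, hd⟩ := IsLocalizedModule.surj (p z).primeCompl
      (Groth.Agent.Props.QStalk.germLin L (hP z)) (germM L U z.1 hzU e)
    exact ⟨n, U, e, hzU, _, he, (hunit z _).mp d.2, hd.symm⟩
  choose n U e hzU u he hu hn using hgen
  refine ⟨∑ z, h z • n z, fun y hy hyw t' => ?_⟩
  obtain ⟨c, hc, hmax⟩ : ∃ c ∈ hfin.toFinset, y ⤳ c ∧ ∀ w ∈ hfin.toFinset, c ⤳ w → w = c := by
    obtain ⟨c, hc, hcmax⟩ := (hfin.toFinset.filter fun w => y ⤳ w).exists_min_image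
      (fun w => (hfin.toFinset.filter fun v => w ⤳ v).card)
      ⟨y, Finset.mem_filter.mpr ⟨hfin.mem_toFinset.mpr ⟨hy, hyw⟩, specializes_rfl⟩⟩
    obtain ⟨hcS, hyc⟩ := Finset.mem_filter.mp hc
    refine ⟨c, hcS, hyc, fun w hw hcw => ?_⟩
    by_contra hne
    have hlt : (hfin.toFinset.filter fun v => w ⤳ v).card < (hfin.toFinset.filter fun v => c ⤳ v).card := by
      refine Finset.card_lt_card ⟨fun v hv => ?_, fun hsub => hne ?_⟩
      · obtain ⟨hv1, hv2⟩ := Finset.mem_filter.mp hv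
        exact Finset.mem_filter.mpr ⟨hv1, hcw.trans hv2⟩
      · exact ((Finset.mem_filter.mp (hsub (Finset.mem_filter.mpr ⟨hcS, specializes_rfl⟩))).2.antisymm hcw).eq
    exact not_le.mpr hlt (hcmax w (Finset.mem_filter.mpr ⟨hw, hyc.trans hcw⟩))
  obtain ⟨hyc, hcmax⟩ := hmax
  let zc : P := ⟨c, Finset.mem_filter.mpr ⟨hc, hcmax⟩⟩
  set M := ∑ z, h z • n z
  have hcoef : ∀ z : P, ∃ r : X.presheaf.stalk zc.1,
      r • germM L (U zc) zc.1 (hzU zc) (e zc) = germM L W zc.1 (hP zc) (n z) := fun z =>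
    (Groth.Agent.MeroTotal.RegularSection.bijective_smul_germ (he zc) zc.1 (hzU zc)).2 _
  choose r hr using hcoef
  have hM : germM L W zc.1 (hP zc) M = (X.presheaf.germ W zc.1 (hP zc) (h zc) * u zc +
      ∑ z ∈ Finset.univ.erase zc, X.presheaf.germ W zc.1 (hP zc) (h z) * r z) •
        germM L (U zc) zc.1 (hzU zc) (e zc) := by
    change L.presheaf.germ W zc.1 (hP zc) M = _
    rw [map_sum, ← Finset.add_sum_erase _ _ (Finset.mem_univ zc), add_smul, Finset.sum_smul]
    refine congrArg₂ (· + ·) ?_ (Finset.sum_congr rfl fun z _ => ?_)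
    · exact (germM_smul L W _ _ _ _).trans (by rw [hn zc, smul_smul])
    · exact (germM_smul L W _ _ _ _).trans (by rw [← hr z, smul_smul])
  have hcu : IsUnit (X.presheaf.germ W zc.1 (hP zc) (h zc) * u zc +
      ∑ z ∈ Finset.univ.erase zc, X.presheaf.germ W zc.1 (hP zc) (h z) * r z) := by
    have hh : IsUnit (X.presheaf.germ W zc.1 (hP zc) (h zc)) := by
      rw [map_prod, IsUnit.prod_univ_iff]
      exact fun z' => (hunit _ _).mp (ht' zc z'.1 z'.2)
    have hsum : (∑ z ∈ Finset.univ.erase zc, X.presheaf.germ W zc.1 (hP zc) (h z) * r z) ∈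
        IsLocalRing.maximalIdeal (X.presheaf.stalk zc.1) := by
      refine Ideal.sum_mem _ fun z hz => Ideal.mul_mem_right _ _
        ((IsLocalRing.mem_maximalIdeal _).mpr fun hu' => ?_)
      rw [map_prod, IsUnit.prod_univ_iff] at hu'
      exact (hunit _ _).mpr (hu' ⟨zc, Ne.symm (Finset.mem_erase.mp hz).1⟩) (ht z zc _)
    by_contra hn'
    have hm' := Ideal.sub_mem _ ((IsLocalRing.mem_maximalIdeal _).mpr hn') hsum
    rw [add_sub_cancel_right] at hm'
    exact (IsLocalRing.mem_maximalIdeal _).mp hm' (hh.mul (hu zc))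
  obtain ⟨N, hcN, q, hq⟩ := X.presheaf.exists_germ_eq (x := zc.1) (hcu.unit⁻¹ : (X.presheaf.stalk zc.1)ˣ).1
  have hgM : germM L (U zc) zc.1 (hzU zc) (e zc) = X.presheaf.germ N zc.1 hcN q • germM L W zc.1 (hP zc) M := by
    rw [hq, hM, smul_smul, IsUnit.val_inv_mul, one_smul]
  have hI : zc.1 ∈ (U zc ⊓ N) ⊓ W := ⟨⟨hzU zc, hcN⟩, hP zc⟩
  have hE : L.presheaf.germ ((U zc ⊓ N) ⊓ W) zc.1 hI
      (L.presheaf.map (homOfLE (inf_le_left.trans inf_le_left : (U zc ⊓ N) ⊓ W ≤ U zc)).op (e zc)) =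
      L.presheaf.germ ((U zc ⊓ N) ⊓ W) zc.1 hI (X.presheaf.map (homOfLE (inf_le_left.trans inf_le_right : (U zc ⊓ N) ⊓ W ≤ N)).op q •
        L.presheaf.map (homOfLE (inf_le_right : (U zc ⊓ N) ⊓ W ≤ W)).op M) := by
    refine (L.presheaf.germ_res_apply _ _ _ _).trans (hgM.trans ?_)
    refine Eq.trans ?_ (germM_smul L _ _ _ _ _).symm
    rw [X.presheaf.germ_res_apply]
    exact congrArg _ (L.presheaf.germ_res_apply _ _ _ _).symm
  obtain ⟨K, hcK, i, j, hK⟩ := L.presheaf.germ_eq _ hI hI _ _ hE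
  have hyK : y ∈ K := hyc.mem_open K.2 hcK
  have hyI := i.le hyK
  have h5 := congrArg (L.presheaf.germ K y hyK) hK
  rw [L.presheaf.germ_res_apply, L.presheaf.germ_res_apply] at h5
  have h6 : germM L (U zc) y hyI.1.1 (e zc) = X.presheaf.germ N y hyI.1.2 q • germM L W y hy M := by
    refine h5.trans ?_
    refine (L.presheaf.germ_res_apply j y hyK _).trans ((germM_smul L _ _ _ _ _).trans ?_)
    rw [X.presheaf.germ_res_apply]
    exact congrArg _ (L.presheaf.germ_res_apply _ _ _ _)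
  obtain ⟨r', hr'⟩ := (Groth.Agent.MeroTotal.RegularSection.bijective_smul_germ (he zc) y hyI.1.1).2 t'
  refine ⟨r' * X.presheaf.germ N y hyI.1.2 q, ?_⟩
  rw [mul_smul]
  exact (congrArg (r' • ·) h6.symm).trans hr'


/-- Case a): let X be a locally Noetherian scheme such that the set of associated points of O_X (the
points x such that the maximal ideal of O_{X,x} is an associated prime of O_{X,x}) is contained in
an affine open subset of X. Then every invertible O_X-module is isomorphic to O_X(D) for some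
divisor D on X; in other words the canonical homomorphism Div(X) → Pic(X) is surjective and Pic(X)
is the group of divisors modulo linear equivalence. -/
theorem result (X : Scheme.{u}) [IsLocallyNoetherian X]
    (hX : ∃ W : X.Opens, IsAffineOpen W ∧ ∀ x : ↥X,
      IsAssociatedPrime (IsLocalRing.maximalIdeal ↑(X.presheaf.stalk x)) ↑(X.presheaf.stalk x) → x ∈ W)
    (L : X.Modules) (hL : PicF.IsInvertible L) :
    ∃ D : Mero.Divisor X, Nonempty (L ≅ Mero.divMod D) := by
  classical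
  obtain ⟨W, hW, hWass⟩ := hX
  have hWw : ∀ z : X, Curv2.IsWeakAssPoint (Coh.structureModule X) z → z ∈ W := fun z hz =>
    hWass z ((Groth.Agent.WeakAssSch.isWeakAssPoint_unit_iff_isAssociatedPrime z).mp hz)
  haveI hN : ∀ V : X.affineOpens, IsNoetherianRing Γ(X, V.1) := fun V =>
    IsLocallyNoetherian.component_noetherian V
  haveI := hN ⟨W, hW⟩
  have hfinW := Groth.Agent.MeroTotal.finite_of_isNoetherianRing hW
  obtain ⟨m, hm⟩ := exists_generating hL hW hfinW
  obtain ⟨s, hs⟩ := Groth.Agent.MeroDivMod.hasRegularMero_of_values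
    (fun z => if hz : z ∈ W then L.presheaf.germ W z hz m else 0) (fun x => by
    obtain ⟨U₀, e₀, hxU₀, he₀⟩ := Groth.Agent.Props.GenLocus.exists_isGen hL x
    obtain ⟨V, hxV, hle⟩ := Groth.Agent.IdealSh.Comap.exists_affine_le x U₀ hxU₀
    haveI := hN V
    have he := he₀.restrict hle
    obtain ⟨c, hc, -⟩ := he.exists_eq (inf_le_left : V.1 ⊓ W ≤ V.1)
      (Groth.Agent.QCoh.res L (inf_le_right : V.1 ⊓ W ≤ W) m)
    have hcg : ∀ (z : X) (hz : z ∈ V.1 ⊓ W), L.presheaf.germ W z hz.2 m =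
        X.presheaf.germ (V.1 ⊓ W) z hz c • L.presheaf.germ V.1 z hz.1 (Groth.Agent.QCoh.res L hle e₀) := by
      intro z hz
      have h1 := congrArg (Groth.Agent.PullStalk.Sky.germM L (V.1 ⊓ W) z hz) hc
      rw [Groth.Agent.PullStalk.Sky.germM_smul] at h1
      exact (L.presheaf.germ_res_apply _ z hz _).symm.trans (h1.trans
        (congrArg _ (L.presheaf.germ_res_apply _ z hz _)))
    obtain ⟨a, S, haS⟩ := Groth.Agent.MeroDivMod.exists_fraction_of_open V.2
      (Groth.Agent.MeroTotal.finite_of_isNoetherianRing V.2) W (fun z _ hw => hWw z hw) c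
      (fun z hz hw => by
        obtain ⟨r, hr⟩ := hm z hz.2 hw
          (L.presheaf.germ V.1 z hz.1 (Groth.Agent.QCoh.res L hle e₀))
        rw [hcg z hz, smul_smul] at hr
        refine IsUnit.of_mul_eq_one r
          ((Groth.Agent.MeroTotal.RegularSection.bijective_smul_germ he z hz.1).1 ?_)
        change (_ * r) • L.presheaf.germ V.1 z hz.1 (Groth.Agent.QCoh.res L hle e₀) =
          (1 : X.presheaf.stalk z) • L.presheaf.germ V.1 z hz.1 (Groth.Agent.QCoh.res L hle e₀)
        rw [one_smul, mul_comm]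
        exact hr)
    refine ⟨V, hxV, _, he, a, S, fun z hz hw => ⟨(haS z hz hw).1, (haS z hz hw).2.1, ?_⟩⟩
    rw [dif_pos (hWw z hw), hcg z ⟨hz, hWw z hw⟩, smul_smul, (haS z hz hw).2.2])
  obtain ⟨D, -, φ, -⟩ := Groth.Agent.MeroDivMod.exists_divisor_iso hL hs
  exact ⟨D, ⟨φ⟩⟩

end Groth.Agent.S5088
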