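import Groth.Statements.S5089
import Groth.Agent.MeroDivMod.OfSection
-- import your own Groth.Agent.* helpers here

set_option autoImplicit false
universe u
open CategoryTheory CategoryTheory.Limits AlgebraicGeometry TopologicalSpace
open Mero

namespace Groth.Agent.S5089

theorem finite_components {X : Scheme.{u}}
    (hX : ∀ x : ↥X, ∃ W : X.Opens, x ∈ W ∧
      {Z : Set ↥X | Z ∈ irreducibleComponents ↥X ∧ (Z ∩ (W : Set ↥X)).Nonempty}.Finite)
    (U : X.Opens) (hU : IsCompact (U : Set X)) :
    {Z : Set ↥X | Z ∈ irreducibleComponents ↥X ∧ (Z ∩ (U : Set ↥X)).Nonempty}.Finite := by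
  choose W hW hfin using hX
  obtain ⟨t, ht⟩ := hU.elim_finite_subcover (fun x => (W x : Set X)) (fun x => (W x).2)
    (fun x _ => Set.mem_iUnion.mpr ⟨x, hW x⟩)
  refine (t.finite_toSet.biUnion fun x _ => hfin x).subset ?_
  rintro Z ⟨hZ, y, hyZ, hyU⟩
  obtain ⟨x, hxt, hyx⟩ := Set.mem_iUnion₂.mp (ht hyU)
  exact Set.mem_iUnion₂.mpr ⟨x, hxt, hZ, y, hyZ, hyx⟩


/-- Case b): let X be a reduced scheme whose set of irreducible components is locally finite (every
point has an open neighbourhood meeting only finitely many irreducible components). Then every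
invertible O_X-module is isomorphic to O_X(D) for some divisor D on X; in other words the canonical
homomorphism Div(X) → Pic(X) is surjective. -/
theorem result (X : Scheme.{u}) [IsReduced X]
    (hX : ∀ x : ↥X, ∃ W : X.Opens, x ∈ W ∧
      {Z : Set ↥X | Z ∈ irreducibleComponents ↥X ∧ (Z ∩ (W : Set ↥X)).Nonempty}.Finite)
    (L : X.Modules) (hL : PicF.IsInvertible L) :
    ∃ D : Mero.Divisor X, Nonempty (L ≅ Mero.divMod D) := by
  have ha : ∀ x : X, Curv2.IsWeakAssPoint (Coh.structureModule X) x → ∀ y : X, y ⤳ x → y = x :=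
    fun x hx => (Groth.Agent.WeakAssSch.isWeakAssPoint_unit_iff_maximal x).mp hx
  have hfin : ∀ U : X.Opens, IsAffineOpen U →
      {z : X | z ∈ U ∧ Curv2.IsWeakAssPoint (Coh.structureModule X) z}.Finite := by
    intro U hU
    have hfinI := finite_components hX U hU.isCompact
    refine Set.Finite.of_finite_image (hfinI.subset ?_) (f := fun z => closure ({z} : Set X)) ?_
    · rintro _ ⟨z, ⟨hzU, hzw⟩, rfl⟩
      refine ⟨?_, z, subset_closure rfl, hzU⟩
      refine ⟨isIrreducible_singleton.closure, fun T hT hle => ?_⟩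
      obtain ⟨w, hw⟩ := QuasiSober.sober hT.closure isClosed_closure
      have hwz : w ⤳ z := hw.specializes (subset_closure (hle (subset_closure rfl)))
      have := ha z hzw w hwz
      subst this
      exact subset_closure.trans hw.def.ge
    · intro z _ z' _ e
      exact (inseparable_iff_closure_eq.mpr e).eq
  obtain ⟨s, hs⟩ := Groth.Agent.MeroTotal.RegularSection.hasRegularMero ha hfin hL
  obtain ⟨D, -, φ, -⟩ := Groth.Agent.MeroDivMod.exists_divisor_iso hL hs
  exact ⟨D, ⟨φ⟩⟩

end Groth.Agent.S5089
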