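import Groth.Statements.S5090
import Groth.Agent.CycLib.SpecPt
import Groth.Agent.SchPoints.Basic
import Mathlib.RingTheory.Ideal.UFD
import Mathlib.RingTheory.Ideal.KrullsHeightTheorem
-- import your own Groth.Agent.* helpers here

set_option autoImplicit false
universe u
open CategoryTheory CategoryTheory.Limits AlgebraicGeometry TopologicalSpace
open Div21

namespace Groth.Agent.S5090

set_option backward.isDefEq.respectTransparency.types false
set_option linter.style.haveILetI false

theorem exists_height_one {A : Type u} [CommRing A] [IsLocalRing A] [IsNoetherianRing A]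
    (h : ringKrullDim A ≠ 0) : ∃ P : PrimeSpectrum A, P.asIdeal.height = 1 := by
  have h1 : (1 : ℕ∞) ≤ Order.height (IsLocalRing.closedPoint A) := by
    rw [← PrimeSpectrum.height_eq_orderHeight, Order.one_le_iff_pos, pos_iff_ne_zero]
    intro h0
    apply h
    rw [← IsLocalRing.maximalIdeal_height_eq_ringKrullDim]
    exact congrArg ((↑) : ℕ∞ → WithBot ℕ∞) h0
  by_cases he : Order.height (IsLocalRing.closedPoint A) = 1
  · exact ⟨_, (PrimeSpectrum.height_eq_orderHeight _).trans he⟩
  · obtain ⟨n, hn⟩ : ∃ n : ℕ, Order.height (IsLocalRing.closedPoint A) = n :=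
      ENat.ne_top_iff_exists.mp (by
        rw [← PrimeSpectrum.height_eq_orderHeight]
        exact Ideal.height_ne_top (IsLocalRing.maximalIdeal.isMaximal A).ne_top) |>.imp fun _ h => h.symm
    have h2 : 1 < n := by
      rw [hn] at he h1
      exact lt_of_le_of_ne (by exact_mod_cast h1) (fun e => he (by exact_mod_cast e.symm))
    obtain ⟨p, -, hp⟩ := (Order.coe_lt_height_iff (x := IsLocalRing.closedPoint A) (n := 1)
      (by rw [hn]; exact ENat.coe_lt_top n)).mp (by rw [hn]; exact_mod_cast h2)
    exact ⟨p, (PrimeSpectrum.height_eq_orderHeight _).trans hp⟩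

theorem isDomain_of_principal {A : Type u} [CommRing A] [IsLocalRing A] [IsNoetherianRing A]
    (h : ringKrullDim A ≠ 0)
    (hP : ∀ P : PrimeSpectrum A, P.asIdeal.height = 1 → ∃ t ∈ nonZeroDivisors A, P.asIdeal = Ideal.span {t}) :
    IsDomain A := by
  obtain ⟨P, hP1⟩ := exists_height_one h
  obtain ⟨t, ht, hPt⟩ := hP P hP1
  obtain ⟨Q, hQ, hQP⟩ := Ideal.exists_minimalPrimes_le (J := P.asIdeal) (bot_le : (⊥ : Ideal A) ≤ P.asIdeal)
  haveI := hQ.1.1
  have htQ : t ∉ Q := fun h' => by
    have hle : P.asIdeal ≤ Q := hPt ▸ (Ideal.span_singleton_le_iff_mem _).mpr h'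
    have h0 : P.asIdeal.height = 0 := by
      rw [le_antisymm hle hQP, Ideal.height_eq_zero_iff]
      exact hQ
    rw [hP1] at h0
    exact one_ne_zero h0
  have hbot : Q = ⊥ := by
    refine Submodule.eq_bot_of_le_smul_of_le_jacobson_bot (P.asIdeal) Q (IsNoetherian.noetherian Q) (fun a ha => ?_) ?_
    · obtain ⟨b, rfl⟩ := Ideal.mem_span_singleton'.mp (hPt ▸ hQP ha)
      rw [mul_comm]
      exact Submodule.smul_mem_smul (hPt ▸ Ideal.mem_span_singleton_self t) ((hQ.1.1.mem_or_mem ha).resolve_right htQ)
    · rw [IsLocalRing.jacobson_eq_maximalIdeal _ bot_ne_top]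
      exact IsLocalRing.le_maximalIdeal P.isPrime.ne_top
  haveI : (⊥ : Ideal A).IsPrime := hbot ▸ hQ.1.1
  exact IsDomain.of_bot_isPrime A

/-- Equivalence of conditions a'') and c): let X be a locally Noetherian scheme which is reduced at each
of its isolated points (for every point x such that {x} is open, the local ring O_{X,x} is reduced).
Then the following are equivalent. (a'') Every integral closed subscheme of X of codimension 1 is
regularly immersed in X: for every point ζ whose local ring has dimension 1 and every specialization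
x of ζ, the ideal of O_{X,x} defining the closure of ζ with its reduced structure (the preimage of
the maximal ideal of O_{X,ζ} under the specialization map) is generated by one non-zero-divisor of
O_{X,x}. (c) X is locally factorial: every local ring of X is a unique factorisation domain. -/
theorem result (X : Scheme.{u}) [IsLocallyNoetherian X]
    (hred : ∀ x : ↥X, IsOpen ({x} : Set ↥X) → IsReduced ↑(X.presheaf.stalk x)) :
    (∀ ζ : ↥X, ringKrullDim ↑(X.presheaf.stalk ζ) = 1 → ∀ (x : ↥X) (h : ζ ⤳ x),
        ∃ t : ↑(X.presheaf.stalk x), t ∈ nonZeroDivisors ↑(X.presheaf.stalk x) ∧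
          (IsLocalRing.maximalIdeal ↑(X.presheaf.stalk ζ)).comap (X.presheaf.stalkSpecializes h).hom =
            Ideal.span {t}) ↔
      ∀ x : ↥X, ∃ _ : IsDomain ↑(X.presheaf.stalk x), UniqueFactorizationMonoid ↑(X.presheaf.stalk x) := by
  constructor
  · intro h x
    have hP : ∀ x : X, ∀ P : PrimeSpectrum (X.presheaf.stalk x), P.asIdeal.height = 1 →
        ∃ t ∈ nonZeroDivisors (X.presheaf.stalk x), P.asIdeal = Ideal.span {t} := fun x P hP1 => by
      obtain ⟨ζ, hζ, hζP⟩ := CycLib.exists_ptPrime x P
      letI := (X.presheaf.stalkSpecializes hζ).hom.toAlgebra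
      have hk : RingHom.ker (Cyc.specMap x ζ hζ) = P.asIdeal := congrArg PrimeSpectrum.asIdeal hζP
      haveI : (RingHom.ker (Cyc.specMap x ζ hζ)).IsPrime := RingHom.ker_isPrime _
      have hloc : IsLocalization.AtPrime (X.presheaf.stalk ζ) (RingHom.ker (Cyc.specMap x ζ hζ)) :=
        CycLib.isLocalization_stalkSpecializes hζ
      have hdim : ringKrullDim (X.presheaf.stalk ζ) = 1 := by
        rw [IsLocalization.AtPrime.ringKrullDim_eq_height (RingHom.ker (Cyc.specMap x ζ hζ)), hk, hP1]
        rfl
      obtain ⟨t, ht, e⟩ := h ζ hdim x hζ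
      exact ⟨t, ht, hk.symm.trans ((CycLib.ker_specMap_eq_comap x ζ hζ).trans e)⟩
    have hdom : IsDomain (X.presheaf.stalk x) := by
      by_cases hdim : ringKrullDim (X.presheaf.stalk x) = 0
      swap
      · exact isDomain_of_principal hdim (hP x)
      haveI : Ring.KrullDimLE 0 (X.presheaf.stalk x) := Ring.krullDimLE_iff.mpr hdim.le
      have hmax : ∀ z, z ⤳ x → z = x := fun z hz => by
        have he : CycLib.ptPrime x z hz = CycLib.ptPrime x x (specializes_refl x) := Subsingleton.elim _ _
        rw [← CycLib.fromSpecStalk_ptPrime x z hz, he, CycLib.fromSpecStalk_ptPrime]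
      have hN : ∀ z : X, ∃ N ∈ nhds z, TopologicalSpace.NoetherianSpace N := SchPoints.exists_noetherian_nhd
      by_cases hopen : IsOpen ({x} : Set X)
      · haveI := hred x hopen
        have hp : (nilradical (X.presheaf.stalk x)).IsPrime := by
          haveI : (nilradical (X.presheaf.stalk x)).IsMaximal := by
            rw [Ring.KrullDimLE.nilradical_eq_maximalIdeal]
            infer_instance
          infer_instance
        rw [nilradical_eq_zero, Ideal.zero_eq_bot] at hp
        exact IsDomain.of_bot_isPrime _
      · let T : Set X := closure {x}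
        have hT : T ∈ irreducibleComponents (X : Type u) :=
          SchPoints.closure_mem_irreducibleComponents_iff.mpr fun z hz => (hmax z hz) ▸ specializes_refl _
        let S : Set (Set X) := {T' ∈ irreducibleComponents (X : Type u) | T' ≠ T}
        let O : Set X := (⋃₀ S)ᶜ
        have hO : IsOpen O := (SchPoints.isClosed_sUnion_components hN fun T' h' => h'.1).isOpen_compl
        have hxO : x ∈ O := fun ⟨T', ⟨hT', hne⟩, hxT'⟩ => hne
          (le_antisymm (hT.2 hT'.1 (closure_minimal (Set.singleton_subset_iff.mpr hxT')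
            (isClosed_of_mem_irreducibleComponents T' hT')))
            (closure_minimal (Set.singleton_subset_iff.mpr hxT') (isClosed_of_mem_irreducibleComponents T' hT')))
        obtain ⟨z, hzO, hzx⟩ : ∃ z ∈ O, z ≠ x := by
          by_contra hcon
          push Not at hcon
          exact hopen (by rwa [show ({x} : Set X) = O from le_antisymm (Set.singleton_subset_iff.mpr hxO) hcon])
        have hzT : z ∈ T := by
          by_contra hzT
          exact hzO ⟨irreducibleComponent z, ⟨irreducibleComponent_mem_irreducibleComponents z,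
            fun e => hzT (e ▸ mem_irreducibleComponent)⟩, mem_irreducibleComponent⟩
        have hxz : x ⤳ z := specializes_iff_mem_closure.mpr hzT
        have hne : ringKrullDim (X.presheaf.stalk z) ≠ 0 := fun h0 => hzx <| by
          haveI : Ring.KrullDimLE 0 (X.presheaf.stalk z) := Ring.krullDimLE_iff.mpr h0.le
          have he : CycLib.ptPrime z x hxz = CycLib.ptPrime z z (specializes_refl z) := Subsingleton.elim _ _
          rw [← CycLib.fromSpecStalk_ptPrime z x hxz, he, CycLib.fromSpecStalk_ptPrime]
        haveI := isDomain_of_principal hne (hP z)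
        letI := (X.presheaf.stalkSpecializes hxz).hom.toAlgebra
        haveI : (RingHom.ker (Cyc.specMap z x hxz)).IsPrime := RingHom.ker_isPrime _
        haveI : IsLocalization.AtPrime (X.presheaf.stalk x) (RingHom.ker (Cyc.specMap z x hxz)) :=
          CycLib.isLocalization_stalkSpecializes hxz
        exact IsLocalization.isDomain_of_le_nonZeroDivisors (R := X.presheaf.stalk z)
          (X.presheaf.stalk x) (RingHom.ker (Cyc.specMap z x hxz)).primeCompl_le_nonZeroDivisors
    refine ⟨hdom, UniqueFactorizationMonoid.of_forall_isPrincipal_of_height_eq_one fun p _ hp => ?_⟩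
    obtain ⟨t, -, e⟩ := hP x ⟨p, inferInstance⟩ hp
    exact ⟨t, e⟩
  · intro h ζ hdim x hζ
    obtain ⟨hd, hu⟩ := h x
    letI := (X.presheaf.stalkSpecializes hζ).hom.toAlgebra
    haveI : (RingHom.ker (Cyc.specMap x ζ hζ)).IsPrime := RingHom.ker_isPrime _
    have hloc : IsLocalization.AtPrime (X.presheaf.stalk ζ) (RingHom.ker (Cyc.specMap x ζ hζ)) :=
      CycLib.isLocalization_stalkSpecializes hζ
    have hht : (RingHom.ker (Cyc.specMap x ζ hζ)).height = 1 := by
      have := (IsLocalization.AtPrime.ringKrullDim_eq_height (RingHom.ker (Cyc.specMap x ζ hζ)) (X.presheaf.stalk ζ)).symm.trans hdim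
      exact WithBot.coe_injective this
    obtain ⟨t, ht⟩ := (UniqueFactorizationMonoid.isPrincipal_of_height_eq_one hht).1
    refine ⟨t, mem_nonZeroDivisors_of_ne_zero fun h0 => ?_, (CycLib.ker_specMap_eq_comap x ζ hζ).symm.trans ht⟩
    exact Ideal.ne_bot_of_height_eq_one hht (by rw [ht, h0]; simp)

end Groth.Agent.S5090
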