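import Groth.Statements.S5095
import Groth.Agent.EGA43Lim.Basic
import Groth.Agent.LimLib.FGSub
import Groth.Agent.LimLib.Model
import Groth.Agent.UIEndo.Core
-- import your own Groth.Agent.* helpers here

set_option autoImplicit false
set_option linter.style.haveILetI false
set_option backward.isDefEq.respectTransparency false
set_option backward.defeqAttrib.useBackward true
universe u
open CategoryTheory CategoryTheory.Limits AlgebraicGeometry TopologicalSpace Opposite
open EGA43
open FlatMor

namespace Groth.Agent.S5095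

/-- The case of an affine base. -/
theorem affine {A : Type u} [CommRing A] {X : Scheme.{u}} (f : X ⟶ Spec (CommRingCat.of A))
    [LocallyOfFinitePresentation f] [QuasiCompact f] [QuasiSeparated f]
    (g : X ⟶ X) (hg : g ≫ f = f) [UniversallyInjective g] : Surjective g ∧ IsFinite g := by
  letI : Algebra (ULift.{u} ℤ) A := ((Int.castRingHom A).comp ULift.ringEquiv.toRingHom).toAlgebra
  haveI : CompactSpace X := QuasiCompact.compactSpace_of_compactSpace f
  haveI : QuasiSeparatedSpace X := quasiSeparatedSpace_of_quasiSeparated f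
  let D := LimLib.fgDiagram (ULift.{u} ℤ) A
  let c := LimLib.fgCone (ULift.{u} ℤ) A
  let hc := LimLib.isLimitFgCone (ULift.{u} ℤ) A
  haveI : ∀ (i j : (Finset A)ᵒᵖ) (a : i ⟶ j), IsAffineHom (D.map a) := fun _ _ _ => inferInstance
  haveI : ∀ {i j : (Finset A)ᵒᵖ} (a : i ⟶ j), IsAffineHom (D.map a) := fun {_ _} _ => inferInstance
  haveI : ∀ i, CompactSpace (D.obj i) := fun _ => inferInstance
  haveI : ∀ i, QuasiSeparatedSpace (D.obj i) := fun _ => inferInstance
  haveI : @LocallyOfFinitePresentation X c.pt f := ‹LocallyOfFinitePresentation f›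
  obtain ⟨i, Xi, fi, q, h₁, h₂, h₃, hX⟩ := LimLib.hasModel hc (X := X) f
  haveI := h₁; haveI := h₂; haveI := h₃
  -- the endomorphism comes from a stage
  let D' := LimLib.bcDiag D i fi
  let t : D' ⟶ (Functor.const _).obj (D.obj i) :=
    { app := fun j => pullback.fst fi (D.map j.hom) ≫ fi
      naturality := fun j k a => by simp [D', LimLib.bcDiag] }
  obtain ⟨j, gj, hgj, hgj'⟩ := Scheme.exists_π_app_comp_eq_of_locallyOfFinitePresentation D' t fi
    (LimLib.bcCone (D := D) (c := c) hX) (LimLib.isLimitBcCone (D := D) (c := c) hc hX) (g ≫ q) (by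
      ext k
      simp only [NatTrans.comp_app, t, D', LimLib.bcCone_π_app, Functor.const_map_app]
      rw [pullback.lift_fst_assoc, Category.assoc, hX.w, reassoc_of% hg])
  let Xj := pullback fi (D.map j.hom)
  let sj : Xj ⟶ D.obj j.left := pullback.snd _ _
  let hj : Xj ⟶ Xj := pullback.lift gj sj (by rw [hgj']; exact pullback.condition)
  have hjs : hj ≫ sj = sj := pullback.lift_snd _ _ _
  let qj : X ⟶ Xj := (LimLib.bcCone (D := D) (c := c) hX).π.app j
  have hqj : IsPullback qj f sj (c.π.app j.left) := LimLib.isPullback_bcCone (D := D) (c := c) hX j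
  have hsq : g ≫ qj = qj ≫ hj := by
    apply pullback.hom_ext
    · refine Eq.trans ?_ (Category.assoc _ _ _).symm
      rw [pullback.lift_fst]
      refine Eq.trans ?_ hgj.symm
      rw [Category.assoc]
      exact congrArg (g ≫ ·) (pullback.lift_fst _ _ _)
    · show (g ≫ qj) ≫ sj = (qj ≫ hj) ≫ sj
      rw [Category.assoc, Category.assoc, hjs, hqj.w, reassoc_of% hg]
  have hgX : IsPullback qj g hj qj := by
    refine IsPullback.of_bot ?_ hsq.symm hqj
    rw [hjs]
    exact hg.symm ▸ hqj
  haveI : LocallyOfFinitePresentation sj := inferInstance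
  haveI : LocallyOfFinitePresentation (hj ≫ sj) := by rw [hjs]; infer_instance
  haveI : QuasiCompact fi := (HasAffineProperty.iff_of_isAffine (P := @QuasiCompact)).mpr inferInstance
  haveI : QuasiSeparated fi := (HasAffineProperty.iff_of_isAffine (P := @QuasiSeparated)).mpr inferInstance
  haveI : QuasiCompact sj := inferInstance
  haveI : QuasiSeparated sj := inferInstance
  haveI : QuasiCompact (hj ≫ sj) := by rw [hjs]; infer_instance
  haveI : QuasiSeparated (hj ≫ sj) := by rw [hjs]; infer_instance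
  obtain ⟨k, φ, Xk, Yk, gk, sk, pY, pX, hY', hX', hmono⟩ :=
    EGA43Lim.exists_stage_fp hc hqj hgX (Q := @LocallyOfFiniteType) EGA43Lim.descends_universallyInjective
      (fun a ha => inferInstance) (show UniversallyInjective g from inferInstance)
  haveI : UniversallyInjective gk := hmono
  -- `Xk` and `Yk` are both the base change of `Xj`
  have hXk : IsPullback pX (gk ≫ sk) sj (D.map φ) := by
    have := hX'.paste_vert hY'
    rwa [hjs] at this
  let θ : Yk ≅ Xk := hY'.isoIsPullback _ _ hXk
  haveI : CompactSpace Xk :=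
    haveI : QuasiCompact (gk ≫ sk) := MorphismProperty.of_isPullback hXk inferInstance
    QuasiCompact.compactSpace_of_compactSpace (gk ≫ sk)
  haveI : LocallyOfFiniteType (FlatMor.MonoEndo.toInt (D.obj k)) := by
    have : FlatMor.MonoEndo.toInt (D.obj k) = Spec.map (CommRingCat.ofHom
        (algebraMap (ULift.{u} ℤ) (Algebra.adjoin (ULift.{u} ℤ) (k.unop : Set A)))) :=
      specULiftZIsTerminal.hom_ext _ _
    rw [this, HasRingHomProperty.Spec_iff (P := @LocallyOfFiniteType)]
    exact RingHom.finiteType_algebraMap.mpr ((Subalgebra.fg_iff_finiteType _).mp ⟨k.unop, rfl⟩)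
  haveI : LocallyOfFiniteType (gk ≫ sk) := MorphismProperty.of_isPullback hXk inferInstance
  haveI : LocallyOfFiniteType (FlatMor.MonoEndo.toInt Xk) := by
    rw [specULiftZIsTerminal.hom_ext (FlatMor.MonoEndo.toInt Xk)
      ((gk ≫ sk) ≫ FlatMor.MonoEndo.toInt (D.obj k))]
    infer_instance
  haveI : UniversallyInjective θ.hom := inferInstance
  haveI : UniversallyInjective (gk ≫ θ.hom) := MorphismProperty.comp_mem _ _ _ inferInstance inferInstance
  obtain ⟨hbij, hfin⟩ := UIEndo.core (gk ≫ θ.hom)
  haveI : IsFinite gk := (MorphismProperty.cancel_right_of_respectsIso @IsFinite gk θ.hom).1 hfin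
  haveI : Surjective gk :=
    (MorphismProperty.cancel_right_of_respectsIso @Surjective gk θ.hom).1 ⟨hbij.2⟩
  let v : X ⟶ Yk := hY'.lift qj (f ≫ c.π.app k) (by rw [hqj.w, Category.assoc, c.w])
  exact ⟨LimLib.property_of_factor (P := @Surjective)
      hX' hgX v (hY'.lift_fst _ _ _) (show Surjective gk from inferInstance),
    LimLib.property_of_factor (P := @IsFinite)
      hX' hgX v (hY'.lift_fst _ _ _) (show IsFinite gk from inferInstance)⟩

/-- Let S be a scheme, X an S-scheme of finite presentation (the structure morphism is locally of finite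
presentation, quasi-compact and quasi-separated) and f a radicial (universally injective)
S-endomorphism of X. Then f is bijective and finite, hence a universal homeomorphism. -/
theorem result {X S : Scheme.{u}} (p : X ⟶ S)
    [LocallyOfFinitePresentation p] [QuasiCompact p] [QuasiSeparated p]
    (f : X ⟶ X) (hf : f ≫ p = p) [UniversallyInjective f] :
    Function.Bijective ⇑f.base ∧ IsFinite f := by
  have key : ∀ V : S.affineOpens, Surjective (f ∣_ (p ⁻¹ᵁ V.1)) ∧ IsFinite (f ∣_ (p ⁻¹ᵁ V.1)) := by
    intro V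
    have hV : f ⁻¹ᵁ (p ⁻¹ᵁ V.1) = p ⁻¹ᵁ V.1 := by rw [← Scheme.Hom.comp_preimage, hf]
    let g' := f.resLE (p ⁻¹ᵁ V.1) (p ⁻¹ᵁ V.1) hV.ge
    haveI : UniversallyInjective g' :=
      MorphismProperty.comp_mem _ _ _ inferInstance (IsZariskiLocalAtTarget.restrict ‹UniversallyInjective f› _)
    let f' := (p ∣_ V.1) ≫ V.2.isoSpec.hom
    have hf' : g' ≫ f' = f' := by
      have h1 : g' ≫ (p ∣_ V.1) = p ∣_ V.1 := by
        rw [← cancel_mono V.1.ι, Category.assoc, morphismRestrict_ι, Scheme.Hom.resLE_comp_ι_assoc, hf]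
      simp only [f', reassoc_of% h1]
    have key : ∀ (W : X.Opens) (e : W = f ⁻¹ᵁ (p ⁻¹ᵁ V.1)),
        Surjective (f.resLE (p ⁻¹ᵁ V.1) W e.le) ∧ IsFinite (f.resLE (p ⁻¹ᵁ V.1) W e.le) →
        Surjective (f ∣_ (p ⁻¹ᵁ V.1)) ∧ IsFinite (f ∣_ (p ⁻¹ᵁ V.1)) := by
      rintro W rfl h
      rwa [Scheme.Hom.resLE_eq_morphismRestrict] at h
    exact key _ hV.symm (affine f' g' hf')
  have hsup : ⨆ V : S.affineOpens, p ⁻¹ᵁ V.1 = ⊤ := by
    rw [← Scheme.Hom.preimage_iSup, iSup_affineOpens_eq_top, Scheme.Hom.preimage_top]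
  have h1 : Surjective f :=
    (IsZariskiLocalAtTarget.iff_of_iSup_eq_top (P := @Surjective) _ hsup).2 fun V => (key V).1
  exact ⟨⟨f.injective, h1.surj⟩,
    (IsZariskiLocalAtTarget.iff_of_iSup_eq_top (P := @IsFinite) _ hsup).2 fun V => (key V).2⟩

end Groth.Agent.S5095
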