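import Groth.Statements.S5097
import Groth.Agent.MeroDivMod.Basic
-- import your own Groth.Agent.* helpers here

set_option autoImplicit false
universe u
open CategoryTheory CategoryTheory.Limits AlgebraicGeometry TopologicalSpace
open Mero

namespace Groth.Agent.S5097

/-- Injectivity of the canonical homomorphism from divisors to invertible fractional ideals: let X be a
scheme and D, D' two divisors on X such that, over every open subset U, a section t of the sheaf of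
meromorphic functions lies in O_X(D) (t_x · g ∈ O_{X,x} for a representative g of the germ of D at
x, for all x in U) if and only if it lies in O_X(D'). Then D = D'. -/
theorem result (X : Scheme.{u}) (D D' : Mero.Divisor X)
    (h : ∀ (U : X.Opens) (t : Γ(Mero.kmod X, U)),
      (∀ x : ↥U, Mero.DivCond D x.1 (t.1 x)) ↔ (∀ x : ↥U, Mero.DivCond D' x.1 (t.1 x))) :
    D = D' := by
  refine Subtype.ext (funext fun x => ?_)
  obtain ⟨U, hx, f, hf⟩ := Groth.Agent.MeroDivMod.exists_local D x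
  obtain ⟨U', hx', f', hf'⟩ := Groth.Agent.MeroDivMod.exists_local D' x
  have e1 : ∀ (W : X.Opens) (hW : W ≤ U) (hW' : W ≤ U') (y : W),
      (↑f⁻¹ : Γ(Mero.kmod X, U)).1 ⟨y.1, hW y.2⟩ * (f' : Γ(Mero.kmod X, U')).1 ⟨y.1, hW' y.2⟩ ∈
          (algebraMap (X.presheaf.stalk y.1) (Mero.KStalk X y.1)).range ∧
      (↑f'⁻¹ : Γ(Mero.kmod X, U')).1 ⟨y.1, hW' y.2⟩ * (f : Γ(Mero.kmod X, U)).1 ⟨y.1, hW y.2⟩ ∈
          (algebraMap (X.presheaf.stalk y.1) (Mero.KStalk X y.1)).range := by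
    intro W hW hW' y
    refine ⟨(Groth.Agent.MeroDivMod.divCond_iff D' f' ⟨y.1, hW' y.2⟩ (hf' _) _).mp
        ((h W (Groth.Agent.MeroDivMod.kres hW ↑f⁻¹)).mp (fun z => ?_) y),
      (Groth.Agent.MeroDivMod.divCond_iff D f ⟨y.1, hW y.2⟩ (hf _) _).mp
        ((h W (Groth.Agent.MeroDivMod.kres hW' ↑f'⁻¹)).mpr (fun z => ?_) y)⟩
    · exact (Groth.Agent.MeroDivMod.gen D f hf).2.2 ⟨z.1, hW z.2⟩
    · exact (Groth.Agent.MeroDivMod.gen D' f' hf').2.2 ⟨z.1, hW' z.2⟩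
  obtain ⟨⟨r, hr⟩, r', hr'⟩ := e1 (U ⊓ U') inf_le_left inf_le_right ⟨x, hx, hx'⟩
  have hf1 : (f : Γ(Mero.kmod X, U)).1 ⟨x, hx⟩ * (↑f⁻¹ : Γ(Mero.kmod X, U)).1 ⟨x, hx⟩ = 1 := by
    rw [← Mero.kmod_mul_apply, f.mul_inv, Mero.kmod_one_apply]
  have hf2 : (f' : Γ(Mero.kmod X, U')).1 ⟨x, hx'⟩ * (↑f'⁻¹ : Γ(Mero.kmod X, U')).1 ⟨x, hx'⟩ = 1 := by
    rw [← Mero.kmod_mul_apply, f'.mul_inv, Mero.kmod_one_apply]
  have hu : IsUnit r := IsUnit.of_mul_eq_one r' (Mero.algebraMap_KStalk_injective x (by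
    rw [map_one, map_mul, hr, hr']
    calc _ = ((f : Γ(Mero.kmod X, U)).1 ⟨x, hx⟩ * (↑f⁻¹ : Γ(Mero.kmod X, U)).1 ⟨x, hx⟩) *
          ((f' : Γ(Mero.kmod X, U')).1 ⟨x, hx'⟩ * (↑f'⁻¹ : Γ(Mero.kmod X, U')).1 ⟨x, hx'⟩) := by ring
      _ = 1 := by rw [hf1, hf2, mul_one]))
  rw [hf ⟨x, hx⟩, hf' ⟨x, hx'⟩]
  refine QuotientGroup.eq.mpr (MonoidHom.mem_range.mpr ⟨hu.unit, Units.ext ?_⟩)
  exact hr

end Groth.Agent.S5097
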