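import Groth.Statements.S5098
import Groth.Agent.MeroDivMod.Depth
import Mathlib.RingTheory.Ideal.KrullsHeightTheorem
-- import your own Groth.Agent.* helpers here

set_option autoImplicit false
universe u
open CategoryTheory CategoryTheory.Limits AlgebraicGeometry TopologicalSpace
open Mero

namespace Groth.Agent.S5098

theorem effective {X : Scheme.{u}} [IsLocallyNoetherian X] (D : Mero.Divisor X)
    (h : ∀ x : ↥X, LocCoh.depth ↑(X.presheaf.stalk x) ↑(X.presheaf.stalk x) = 1 → Mero.IsEffectiveAt D x)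
    (x : X) : Mero.IsEffectiveAt D x := by
  by_contra hx
  obtain ⟨V, hxV, -⟩ := Groth.Agent.IdealSh.Comap.exists_affine_le x ⊤ trivial
  have hV : IsAffineOpen V.1 := V.2
  have hN : IsNoetherianRing Γ(X, V.1) := IsLocallyNoetherian.component_noetherian V
  let P : Set (PrimeSpectrum Γ(X, V.1)) := {q | q ≤ hV.primeIdealOf ⟨x, hxV⟩ ∧
    ¬ Mero.IsEffectiveAt D (hV.fromSpec q)}
  have hmem : hV.primeIdealOf ⟨x, hxV⟩ ∈ P := by
    refine ⟨le_rfl, ?_⟩
    rwa [hV.fromSpec_primeIdealOf]
  obtain ⟨q, ⟨hqle, hq⟩, hmin⟩ :=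
    (InvImage.wf (fun q : PrimeSpectrum Γ(X, V.1) => q.asIdeal.height) wellFounded_lt).has_min P ⟨_, hmem⟩
  refine hq (h _ (Groth.Agent.MeroDivMod.depth_eq_one D _ hq fun y hy hne => ?_))
  by_contra hyeff
  have hyV : y ∈ V.1 := hy.mem_open V.1.2 (hV.range_fromSpec.le ⟨q, rfl⟩)
  have hle : hV.primeIdealOf ⟨y, hyV⟩ ≤ q :=
    (PrimeSpectrum.le_iff_specializes _ _).mpr
      (hV.fromSpec.isOpenEmbedding.isInducing.specializes_iff.mp (by rwa [hV.fromSpec_primeIdealOf]))
  refine hmin _ ⟨hle.trans hqle, ?_⟩ (Ideal.height_strict_mono_of_isPrime_of_isPrime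
    (lt_of_le_of_ne (show (hV.primeIdealOf ⟨y, hyV⟩).asIdeal ≤ q.asIdeal from hle) fun he => hne ?_))
  · rwa [hV.fromSpec_primeIdealOf]
  · rw [← show hV.primeIdealOf ⟨y, hyV⟩ = q from PrimeSpectrum.ext he, hV.fromSpec_primeIdealOf]


/-- General form, for divisors on a scheme that need not be integral: let X be a locally Noetherian
scheme and D a divisor on X. If the germ of D is effective (resp. trivial) at every point x whose
local ring O_{X,x} has depth 1, then D is effective (resp. D is the unit divisor, in the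
multiplicative notation used here). -/
theorem result (X : Scheme.{u}) [IsLocallyNoetherian X] (D : Mero.Divisor X) :
    ((∀ x : ↥X, LocCoh.depth ↑(X.presheaf.stalk x) ↑(X.presheaf.stalk x) = 1 → Mero.IsEffectiveAt D x) →
        Mero.IsEffective D) ∧
      ((∀ x : ↥X, LocCoh.depth ↑(X.presheaf.stalk x) ↑(X.presheaf.stalk x) = 1 → D.1 x = 1) → D = 1) := by
  constructor
  · intro h x
    exact effective D h x
  · intro h
    refine Subtype.ext (funext fun x => ?_)
    refine Groth.Agent.MeroDivMod.eq_one_of_effective D x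
      (effective D (fun y hy => Groth.Agent.MeroDivMod.isEffectiveAt_of_eq_one D y (h y hy)) x)
      (effective D⁻¹ (fun y hy => Groth.Agent.MeroDivMod.isEffectiveAt_of_eq_one D⁻¹ y ?_) x)
    change (D.1 y)⁻¹ = 1
    rw [h y hy, inv_one]

end Groth.Agent.S5098
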