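import Groth.Statements.S5099
import Groth.Agent.MeroDivMod.Depth
-- import your own Groth.Agent.* helpers here

set_option autoImplicit false
universe u
open CategoryTheory CategoryTheory.Limits AlgebraicGeometry TopologicalSpace
open Mero

namespace Groth.Agent.S5099

/-- General form, for divisors on a scheme that need not be integral: let X be a locally Noetherian
scheme, D a divisor on X and x a maximal point of the support of D (a point at which the germ of D
is not trivial and none of whose proper generizations has that property). Then the local ring of X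
at x has depth 1. -/
theorem result (X : Scheme.{u}) [IsLocallyNoetherian X] (D : Mero.Divisor X)
    (x : ↥X) (hx : x ∈ Mero.supp D) (hmax : ∀ z : ↥X, z ∈ Mero.supp D → z ⤳ x → z = x) :
    LocCoh.depth ↑(X.presheaf.stalk x) ↑(X.presheaf.stalk x) = 1 := by
  have hgen : ∀ y : X, y ⤳ x → y ≠ x → D.1 y = 1 := fun y hy hne => by
    by_contra h
    exact hne (hmax y h hy)
  by_cases he : Mero.IsEffectiveAt D x
  · refine Groth.Agent.MeroDivMod.depth_eq_one D⁻¹ x (fun he' =>
      hx (Groth.Agent.MeroDivMod.eq_one_of_effective D x he he')) fun y hy hne => ?_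
    refine Groth.Agent.MeroDivMod.isEffectiveAt_of_eq_one D⁻¹ y ?_
    change (D.1 y)⁻¹ = 1
    rw [hgen y hy hne, inv_one]
  · exact Groth.Agent.MeroDivMod.depth_eq_one D x he fun y hy hne =>
      Groth.Agent.MeroDivMod.isEffectiveAt_of_eq_one D y (hgen y hy hne)

end Groth.Agent.S5099
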