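import Groth.Statements.S5100
import Groth.Agent.Div61.Uniform
-- import your own Groth.Agent.* helpers here

set_option autoImplicit false
set_option linter.style.haveILetI false
universe u
open CategoryTheory CategoryTheory.Limits AlgebraicGeometry TopologicalSpace
open Div21

namespace Groth.Agent.S5100

/-- Suppose X and Y are locally Noetherian schemes, and consider a morphism f : X → Y that is flat and
surjective (i.e. faithfully flat) and is either quasi-compact or open. Assume Y is normal, and that
whenever y ∈ Y has a local ring of dimension 1, the fibre X_y has no embedded associated point (if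
one associated point of X_y specializes to another, the two coincide). Given an effective Cartier
divisor D' on X, described by its ideal sheaf 𝓙, D' arises as the inverse image of some effective
Cartier divisor on Y exactly when both of the following hold: (1) at each maximal point η of Y,
pulling D' back to the fibre X_η gives zero (the resulting ideal is the unit ideal); and (2) at each
y ∈ Y with one-dimensional local ring (a discrete valuation ring, because Y is normal) one can find
an integer n ≥ 0 so that, for any uniformizer t of O_{Y,y} and any maximal point x of f⁻¹(y), the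
ideal of D' in O_{X,x} (namely the inverse image of 𝓙 on Spec O_{X,x}) is generated by the image of
t raised to the n-th power. -/
theorem result {X Y : Scheme.{u}}
    [IsLocallyNoetherian X] [IsLocallyNoetherian Y] (f : X ⟶ Y) [Flat f] [Surjective f]
    (hf : QuasiCompact f ∨ IsOpenMap f) (hY : Pi1.IsNormalScheme Y)
    (hfib : ∀ y : ↥Y, ringKrullDim ↑(Y.presheaf.stalk y) = 1 → ∀ z z' : ↥(f.fiber y),
      IsAssociatedPrime (IsLocalRing.maximalIdeal ↑((f.fiber y).presheaf.stalk z)) ↑((f.fiber y).presheaf.stalk z) →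
      IsAssociatedPrime (IsLocalRing.maximalIdeal ↑((f.fiber y).presheaf.stalk z')) ↑((f.fiber y).presheaf.stalk z') →
      z' ⤳ z → z' = z)
    (𝓙 : X.IdealSheafData) (hJ : BlowUp.IsEffCartierIdeal 𝓙) :
    (∃ 𝓘 : Y.IdealSheafData, BlowUp.IsEffCartierIdeal 𝓘 ∧ 𝓘.comap f = 𝓙) ↔
      ((∀ η : ↥Y, (∀ z : ↥Y, z ⤳ η → z = η) → 𝓙.comap (f.fiberι η) = ⊤) ∧
        ∀ y : ↥Y, ringKrullDim ↑(Y.presheaf.stalk y) = 1 → ∃ n : ℕ, ∀ t : ↑(Y.presheaf.stalk y),
          IsLocalRing.maximalIdeal ↑(Y.presheaf.stalk y) = Ideal.span {t} →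
          ∀ (x : ↥X) (hx : f x = y), (∀ z : ↥X, f z = y → z ⤳ x → z = x) →
            (𝓙.comap (X.fromSpecStalk x)).ideal ⟨⊤, isAffineOpen_top _⟩ =
              Ideal.span {(Scheme.ΓSpecIso (X.presheaf.stalk x)).inv
                (((f.stalkMap x).hom ((Y.presheaf.stalkCongr (.of_eq hx.symm)).hom t)) ^ n)}) := by

  open IntMult IsLocalRing in
  classical
  have hgen0 : ∀ η : Y, (∀ z : Y, z ⤳ η → z = η) → IsField (Y.presheaf.stalk η) := fun η hη => by
    haveI := (hY η).1
    rw [IsLocalRing.isField_iff_maximalIdeal_eq, eq_bot_iff]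
    intro a ha
    obtain ⟨z, hz, hzp⟩ := CDivLib.exists_genPrime_eq (⊥ : Ideal (Y.presheaf.stalk η))
    have hzη := hη z hz
    subst hzη
    rw [← hzp]
    simpa [CDivLib.genPrime] using ha
  have bridge : ∀ (y : Y) (x : X) (hx : f x = y) (a : Y.presheaf.stalk y),
      Div61.pull f (specializes_of_eq hx) a = (f.stalkMap x).hom ((Y.presheaf.stalkCongr (.of_eq hx.symm)).hom a) :=
    fun y x hx a => rfl
  have ideal_iff : ∀ (x : X) (r : X.presheaf.stalk x),
      (𝓙.comap (X.fromSpecStalk x)).ideal ⟨⊤, isAffineOpen_top _⟩ = Ideal.span {(Scheme.ΓSpecIso (X.presheaf.stalk x)).inv r} ↔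
        stalkIdeal 𝓙 x = Ideal.span {r} := fun x r => by
    rw [Div61.ideal_top_comap_fromSpecStalk, ← Set.image_singleton (f := (Scheme.ΓSpecIso (X.presheaf.stalk x)).inv),
      ← Ideal.map_span]
    have hbij := ConcreteCategory.bijective_of_isIso (Scheme.ΓSpecIso (X.presheaf.stalk x)).inv
    constructor
    · intro h
      have h2 := congrArg (Ideal.comap (Scheme.ΓSpecIso (X.presheaf.stalk x)).inv.hom) h
      rwa [Ideal.comap_map_of_bijective _ hbij, Ideal.comap_map_of_bijective _ hbij] at h2
    · intro h; rw [h]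
  constructor
  · rintro ⟨𝓘, h𝓘, hc⟩
    refine ⟨fun η hη => ?_, fun y hy => ?_⟩
    · rw [← hc, ← Scheme.IdealSheafData.comap_comp]
      refine IdealSh.Comap.comap_eq_top_of_disjoint _ _ (Set.disjoint_left.mpr ?_)
      rintro _ ⟨z, rfl⟩ hmem
      have hz : (f.fiberι η ≫ f) z = η := by
        have : f.fiberι η z ∈ Set.range (f.fiberι η) := ⟨z, rfl⟩
        rw [f.range_fiberι] at this
        exact this
      rw [hz] at hmem
      haveI := (hY η).1
      obtain ⟨b, hb, hbI⟩ := Div61.exists_regular_gen 𝓘 h𝓘 η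
      refine (IdealSh.stalkIdeal_eq_top_iff 𝓘 η).mp ?_ hmem
      rw [hbI, Ideal.span_singleton_eq_top]
      obtain ⟨u, hu⟩ := (hgen0 η hη).mul_inv_cancel (nonZeroDivisors.ne_zero hb)
      exact IsUnit.of_mul_eq_one u hu
    · haveI := (hY y).1
      haveI := (hY y).2
      haveI hD := Div61.isDiscreteValuationRing_of_normal hy
      obtain ⟨c, hc', hcI⟩ := Div61.exists_regular_gen 𝓘 h𝓘 y
      obtain ⟨t₀, ht₀⟩ := IsDiscreteValuationRing.exists_irreducible (Y.presheaf.stalk y)
      obtain ⟨n, u, hu⟩ := IsDiscreteValuationRing.eq_unit_mul_pow_irreducible (nonZeroDivisors.ne_zero hc') ht₀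
      refine ⟨n, fun t ht x hx _ => ?_⟩
      subst hx
      rw [show (((f.stalkMap x).hom ((Y.presheaf.stalkCongr (.of_eq (rfl : f x = f x).symm)).hom t)) ^ n) =
          Div61.pull f (specializes_of_eq rfl) (t ^ n) by rw [map_pow, bridge _ x rfl],
        ideal_iff, ← hc, SDivFib.stalkIdeal_comap, hcI, hu,
        Ideal.span_singleton_mul_left_unit u.isUnit, Ideal.map_span, Set.image_singleton]
      have h3 : Ideal.span {t₀ ^ n} = Ideal.span {t ^ n} := by
        rw [← Ideal.span_singleton_pow, ← Ideal.span_singleton_pow, ← ht, ← ht₀.maximalIdeal_eq]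
      rw [← Set.image_singleton (f := (f.stalkMap x)), ← Ideal.map_span, h3, Ideal.map_span, Set.image_singleton]
      exact congrArg (fun c => Ideal.span {c}) (Div61.pull_self f x (t ^ n)).symm
  · rintro ⟨h1, h2⟩
    refine Div61.exists_descent f hf 𝓙 hJ fun y hy => ?_
    haveI := (hY y).1
    haveI := (hY y).2
    have hdim : ringKrullDim (Y.presheaf.stalk y) ≤ 1 := by
      by_contra hd
      have h2 : (2 : WithBot ℕ∞) ≤ ringKrullDim (Y.presheaf.stalk y) := by
        rw [ringKrullDim_stalk_eq_coheight] at hd ⊢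
        have : ¬ Order.coheight y ≤ 1 := fun h => hd (WithBot.coe_le_coe.mpr h)
        exact WithBot.coe_le_coe.mpr (Order.add_one_le_of_lt (not_le.mp this) : (2 : ℕ∞) ≤ Order.coheight y)
      exact absurd ((ParaFLib.PicUFD.two_le_depth_of_normal (A := Y.presheaf.stalk y) h2).trans hy) (by norm_num)
    by_cases hmax : ∀ z : Y, z ⤳ y → z = y
    · exact ⟨1, fun x h => by
        rw [map_one, Ideal.span_singleton_one]
        exact Div61.stalkIdeal_eq_top_of_fibre f 𝓙 (h1 y hmax) (hmax _ h)⟩
    push Not at hmax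
    obtain ⟨z, hz, hzy⟩ := hmax
    have hlt : Order.coheight z < Order.coheight y ∨ Order.coheight y = ⊤ := by
      by_cases htop : Order.coheight y = ⊤
      · exact Or.inr htop
      have hle : y < z := lt_of_le_not_ge hz fun h' => hzy (Specializes.antisymm hz h').eq
      exact Or.inl (Order.coheight_strictAnti hle ((Order.coheight_anti hle.le).trans_lt (lt_top_iff_ne_top.mpr htop)))
    have hdim1 : ringKrullDim (Y.presheaf.stalk y) = 1 := by
      rw [ringKrullDim_stalk_eq_coheight] at hdim ⊢
      have hc : Order.coheight y ≤ 1 := WithBot.coe_le_coe.mp hdim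
      rcases hlt with hlt | htop
      · exact congrArg _ (le_antisymm hc (ENat.one_le_iff_ne_zero.mpr (hlt.trans_le' bot_le).ne'))
      · rw [htop] at hc; exact absurd hc (by simp)
    haveI hD := Div61.isDiscreteValuationRing_of_normal hdim1
    obtain ⟨n, hn⟩ := h2 y hdim1
    obtain ⟨t, ht⟩ := IsDiscreteValuationRing.exists_irreducible (Y.presheaf.stalk y)
    refine ⟨t ^ n, Div61.eq_pow_on_fibre f 𝓙 hJ (hfib y hdim1) (fun x hxy hne => ?_) n ht.maximalIdeal_eq
      fun x hxy hx hxmax => ?_⟩
    · refine Div61.stalkIdeal_eq_top_of_fibre f 𝓙 (h1 (f x) fun w hw => ?_) rfl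
      by_contra hwne
      have hle : f x < w := lt_of_le_not_ge hw fun h' => hwne (Specializes.antisymm hw h').eq
      have hle' : y < f x := lt_of_le_not_ge hxy fun h' => hne (Specializes.antisymm hxy h').eq
      have h3 := Order.coheight_add_one_le hle'
      have h4 := Order.coheight_add_one_le hle
      rw [ringKrullDim_stalk_eq_coheight] at hdim1
      rw [show Order.coheight y = 1 from WithBot.coe_eq_coe.mp hdim1] at h3
      have h5 : (1 : ℕ∞) + 1 ≤ 1 :=
        ((add_le_add_left ((le_add_self (a := (1 : ℕ∞))).trans h4) 1).trans h3)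
      exact absurd h5 (by norm_num)
    · refine (ideal_iff x _).mp ?_
      rw [map_pow, bridge y x hx]
      exact hn t ht.maximalIdeal_eq x hx hxmax

end Groth.Agent.S5100
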