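import Groth.Statements.S5102
import Groth.Agent.MeroDivMod.OfSection
-- import your own Groth.Agent.* helpers here

set_option autoImplicit false
universe u
open CategoryTheory CategoryTheory.Limits AlgebraicGeometry TopologicalSpace
open Mero

namespace Groth.Agent.S5102

theorem app_injective {X : Scheme.{u}} {M N : X.Modules} (φ : M ⟶ N) [Mono φ] (V : X.Opens) :
    Function.Injective (φ.app V) := by
  intro s t h
  refine TopCat.Presheaf.section_ext ⟨_, M.isSheaf⟩ _ _ _ fun y hy => ?_
  refine Groth.Agent.Omega.Stalks.stalkLin_injective_of_mono φ y ?_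
  change Groth.Agent.PullStalk.Exact.stalkLin φ y (Groth.Agent.PullStalk.Sky.germM M V y hy s) =
    Groth.Agent.PullStalk.Exact.stalkLin φ y (Groth.Agent.PullStalk.Sky.germM M V y hy t)
  rw [Groth.Agent.PullStalk.Exact.stalkLin_germ, Groth.Agent.PullStalk.Exact.stalkLin_germ, h]


/-- Let X be a scheme and J a fractional ideal, i.e. a sub-O_X-module of the sheaf of meromorphic
functions K_X (given by a monomorphism J → K_X). Then J is an invertible O_X-module if and only if
every point of X has an open neighbourhood U together with a unit f of the ring Γ(U, K_X) such that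
J|_U = O_U · f: over every open subset V of U, the sections of J are exactly the r · f|_V with r a
function on V. -/
theorem result (X : Scheme.{u}) (J : X.Modules)
    (ι : J ⟶ Mero.kmod X) [Mono ι] :
    PicF.IsInvertible J ↔ ∀ x : ↥X, ∃ (U : X.Opens) (_ : x ∈ U) (f : (Γ(Mero.kmod X, U))ˣ),
      ∀ (V : X.Opens) (hV : V ≤ U),
        Set.range ⇑(ι.val.app (Opposite.op V)) =
          {t : Γ(Mero.kmod X, V) | ∃ r : Γ(X, V),
            t = Mero.toK X V r * (Mero.kmod X).presheaf.map (homOfLE hV).op (f : Γ(Mero.kmod X, U))} := by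
  constructor
  · intro hJ x
    obtain ⟨U₀, e₀, hxU₀, he₀⟩ := Groth.Agent.Props.GenLocus.exists_isGen hJ x
    obtain ⟨V, hxV, hVU, a, b, w⟩ := Groth.Agent.Mero.exists_fraction
      (ι.app U₀ e₀ : Γ(Mero.kmod X, U₀)) x hxU₀
    have he := he₀.restrict hVU
    have hk : ∀ (W : X.Opens) (hW : W ≤ V.1) (c : Γ(X, W)),
        ι.app W (c • Groth.Agent.QCoh.res J hW (Groth.Agent.QCoh.res J hVU e₀)) =
          Mero.toK X W c * (Mero.kmod X).presheaf.map (homOfLE (hW.trans hVU)).op (ι.app U₀ e₀) := by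
      intro W hW c
      rw [Groth.Agent.QCoh.res_res, Scheme.Modules.Hom.app_smul, Groth.Agent.QCoh.app_res]
      refine Groth.Agent.MeroDivMod.kext fun y => ?_
      refine (Algebra.smul_def _ _).trans ?_
      rfl
    have ha : a ∈ Mero.regSub X V.1 := fun y => mem_nonZeroDivisors_iff_right.mpr fun r hr => by
      obtain ⟨W, hyW, r, rfl⟩ := X.presheaf.exists_germ_eq (x := y.1) r
      let W' : X.Opens := W ⊓ V.1
      have hyW' : y.1 ∈ W' := ⟨hyW, y.2⟩
      have e0 : X.presheaf.germ W' y.1 hyW' (X.presheaf.map (homOfLE inf_le_left).op r *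
          X.presheaf.map (homOfLE inf_le_right).op a) = X.presheaf.germ W' y.1 hyW' 0 := by
        rw [map_mul, TopCat.Presheaf.germ_res_apply, TopCat.Presheaf.germ_res_apply, hr, map_zero]
      obtain ⟨N, hyN, i, j, e⟩ := TopCat.Presheaf.germ_eq _ y.1 hyW' hyW' _ _ e0
      have hNV : N ≤ V.1 := i.le.trans inf_le_right
      have h0 : ι.app N (X.presheaf.map (homOfLE (i.le.trans inf_le_left)).op r •
          Groth.Agent.QCoh.res J hNV (Groth.Agent.QCoh.res J hVU e₀)) = ι.app N 0 := by
        rw [hk, map_zero]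
        refine Groth.Agent.MeroDivMod.kext fun z => ?_
        change LocalizedModule.mk _ 1 * (ι.app U₀ e₀ : Γ(Mero.kmod X, U₀)).1 ⟨z.1, _⟩ = 0
        rw [w ⟨z.1, hNV z.2⟩]
        refine LocalizedModule.mk_mul_mk.trans ((Groth.Agent.Mero.mk_eq_zero_iff _ _).mpr ?_)
        have e2 := congrArg (X.presheaf.germ N z.1 z.2) e
        simp only [TopCat.Presheaf.germ_res_apply, map_mul, map_zero] at e2
        rw [TopCat.Presheaf.germ_res_apply]
        exact e2
      have h1 := app_injective ι N h0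
      have h2 : X.presheaf.map (homOfLE (i.le.trans inf_le_left : N ≤ W)).op r = 0 :=
        (he N hNV).1 (h1.trans (zero_smul Γ(X, N) _).symm)
      have := congrArg (X.presheaf.germ N y.1 hyN) h2
      rwa [TopCat.Presheaf.germ_res_apply, map_zero] at this
    refine ⟨V.1, hxV, Groth.Agent.MeroDivMod.quot ⟨a, ha⟩ b, fun W hW => ?_⟩
    have hF : (Mero.kmod X).presheaf.map (homOfLE hW).op
        (Groth.Agent.MeroDivMod.quot ⟨a, ha⟩ b : Γ(Mero.kmod X, V.1)) =
        (Mero.kmod X).presheaf.map (homOfLE (hW.trans hVU)).op (ι.app U₀ e₀) :=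
      Groth.Agent.MeroDivMod.kext fun y => (Groth.Agent.MeroDivMod.quot_apply _ _ _).trans (w ⟨y.1, hW y.2⟩).symm
    ext t
    constructor
    · rintro ⟨j, rfl⟩
      obtain ⟨c, rfl⟩ := (he W hW).2 j
      exact ⟨c, by rw [hF]; exact hk W hW c⟩
    · rintro ⟨c, rfl⟩
      exact ⟨c • Groth.Agent.QCoh.res J hW (Groth.Agent.QCoh.res J hVU e₀), by rw [hF]; exact hk W hW c⟩
  · intro h x
    obtain ⟨U, hx, f, hf⟩ := h x
    obtain ⟨e₁, he₁⟩ : (f : Γ(Mero.kmod X, U)) ∈ Set.range ⇑(ι.val.app (Opposite.op U)) := by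
      rw [hf U le_rfl]
      refine ⟨1, ?_⟩
      rw [map_one, one_mul]
      exact Groth.Agent.MeroDivMod.kext fun y => rfl
    obtain ⟨e, he⟩ : ∃ e : Γ(J, U), ι.app U e = (f : Γ(Mero.kmod X, U)) := ⟨e₁, he₁⟩
    have hk : ∀ (V : X.Opens) (hV : V ≤ U) (c : Γ(X, V)),
        ι.app V (c • Groth.Agent.QCoh.res J hV e) =
          Mero.toK X V c * (Mero.kmod X).presheaf.map (homOfLE hV).op (f : Γ(Mero.kmod X, U)) := by
      intro V hV c
      rw [Scheme.Modules.Hom.app_smul, Groth.Agent.QCoh.app_res, ← he]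
      exact Groth.Agent.MeroDivMod.kext fun y => (Algebra.smul_def _ _).trans rfl
    refine ⟨U, hx, Groth.Agent.LFFrame.IsFrame.nonempty_restrict_iso
      ((Groth.Agent.Props.GenLocus.isGen_iff_isFrame e).mp fun V hV => ⟨fun c c' hcc => ?_, fun t => ?_⟩)⟩
    · have h1 := congrArg (ι.app V) hcc
      simp only [Groth.Agent.Props.GenLocus.sm, hk] at h1
      refine Groth.Agent.MeroTotal.toK_injective ?_
      exact ((f.isUnit.map (Groth.Agent.MeroDivMod.kres hV)).mul_left_inj).mp h1
    · obtain ⟨c, hc⟩ : ∃ r : Γ(X, V), ι.app V t = Mero.toK X V r *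
          (Mero.kmod X).presheaf.map (homOfLE hV).op (f : Γ(Mero.kmod X, U)) :=
        (hf V hV).le ⟨t, rfl⟩
      exact ⟨c, app_injective ι V ((hk V hV c).trans hc.symm)⟩

end Groth.Agent.S5102
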