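import Groth.Statements.S5103
import Groth.Agent.Div61.Principal
-- import your own Groth.Agent.* helpers here

set_option autoImplicit false
universe u
open CategoryTheory CategoryTheory.Limits AlgebraicGeometry TopologicalSpace
open Div21

namespace Groth.Agent.S5103

open CategoryTheory AlgebraicGeometry TopologicalSpace

/-- For an integral scheme (the canonical homomorphism Pic(X) → Cl(X) to the group of codimension-1
cycle classes is injective): let X be a normal locally Noetherian integral scheme, L an invertible
O_X-module and s a nonzero rational section of L (a nonzero element of the fibre of L at the generic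
point). If the Weil divisor of s is principal — there is a nonzero rational function f whose order
of vanishing at every point of codimension 1 (coheight 1 in the specialization order) equals the
order of s there — then L is isomorphic to O_X. -/
theorem result (X : Scheme.{u}) [IsIntegral X] [IsLocallyNoetherian X]
    (hX : Pi1.IsNormalScheme X) (L : X.Modules) (hL : PicF.IsInvertible L)
    (s : Cyc.secFibre L (genericPoint ↥X)) (hs : s ≠ 0) (f : ↑X.functionField) (hf : f ≠ 0)
    (h : ∀ x : ↥X, Order.coheight x = 1 →
      Cyc.secOrdAt L (genericPoint ↥X) x (genericPoint_specializes x) s = Scheme.ord f x) :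
    Nonempty (L ≅ Coh.structureModule X) := by

  obtain ⟨s', rfl⟩ := Submodule.Quotient.mk_surjective _ s
  have hs' : s' ≠ 0 := fun h0 => hs (by rw [h0, Submodule.Quotient.mk_zero])
  have hO := Ref1.isRef1_structureModule (X := X)
  let one : (Coh.structureModule X).presheaf.stalk (genericPoint X) :=
    HomShQC.unitStalk (genericPoint X) (1 : X.presheaf.stalk (genericPoint X))
  have h1 : one ≠ 0 := fun h0 => one_ne_zero ((HomShQC.unitStalk (genericPoint X)).injective (h0.trans (map_zero _).symm))
  let f' : X.presheaf.stalk (genericPoint X) := f
  have hf' : f' ≠ 0 := hf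
  refine Ref1.iso_of_ordS_eq hX (ExtPowSt.isRef1_of_isInvertible hL) hO hs'
    (t := f' • one) (fun h0 => h1 (((Ref1.rankOne_of_isRef1 hO).eq_zero_or _ _ h0).resolve_left hf')) fun y hy => ?_
  rw [Ref1.ordS_smul hX hO hy h1 hf', Ref1.ordS_one hy, zero_add]
  exact h y hy

end Groth.Agent.S5103
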