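import Groth.Statements.S5105
import Groth.Agent.Div61.UFD
-- import your own Groth.Agent.* helpers here

set_option autoImplicit false
universe u
open CategoryTheory CategoryTheory.Limits AlgebraicGeometry TopologicalSpace
open Div21

namespace Groth.Agent.S5105

open CategoryTheory AlgebraicGeometry TopologicalSpace

/-- For an integral scheme (X is locally factorial exactly when the canonical map Pic(X) → Cl(X) is a
bijection; in the presence of (i), being bijective means that each codimension-1 cycle arises as the
Weil divisor of some rational section of an invertible module): suppose X is an integral scheme that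
is normal and locally Noetherian. Then these two conditions are equivalent: (1) whenever Z is a
function from the points of X to the integers that is zero away from the points of codimension 1
(coheight 1) and whose support is locally finite, one can find an invertible O_X-module L together
with a nonzero rational section s of L (a nonzero element of the generic fibre of L) such that, at
each point of codimension 1, the order of s equals the value Z takes there; (2) each local ring of X
is a unique factorisation domain. -/
theorem result (X : Scheme.{u}) [IsIntegral X]
    [IsLocallyNoetherian X] (hX : Pi1.IsNormalScheme X) :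
    (∀ Z : ↥X → ℤ, (∀ x : ↥X, Order.coheight x ≠ 1 → Z x = 0) →
        (∀ x : ↥X, ∃ W : X.Opens, x ∈ W ∧ {z : ↥X | z ∈ W ∧ Z z ≠ 0}.Finite) →
        ∃ (L : X.Modules) (_ : PicF.IsInvertible L) (s : Cyc.secFibre L (genericPoint ↥X)), s ≠ 0 ∧
          ∀ x : ↥X, Order.coheight x = 1 →
            Cyc.secOrdAt L (genericPoint ↥X) x (genericPoint_specializes x) s = Z x) ↔
      ∀ x : ↥X, UniqueFactorizationMonoid ↑(X.presheaf.stalk x) := by

  constructor
  · intro h x
    exact Div61.ufd_stalk hX h x
  · intro h Z hZ hZfin
    obtain ⟨F, hF, s, hs, hord⟩ := Ref1.exists_ref1_of_divisor hX Z (fun z => by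
      obtain ⟨W, hz, hW⟩ := hZfin z
      exact ⟨W, W.2.mem_nhds hz, hW.subset fun y hy => ⟨hy.1, hy.2⟩⟩) hZ
    refine ⟨F, Div61.isInvertible_of_parafactorial hX hF hs (fun y _ hdim => ?_), Submodule.Quotient.mk s,
      fun h0 => hs (Ref1.mk_η_injective F (h0.trans (Submodule.Quotient.mk_zero _).symm)), hord⟩
    exact S2834.result _ (h y) hdim

end Groth.Agent.S5105
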