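import Groth.Statements.S5107
import Groth.Agent.LimTop.FlatLim
import Groth.Agent.AlgSp.SchDense

set_option autoImplicit false
universe u
open CategoryTheory CategoryTheory.Limits AlgebraicGeometry TopologicalSpace
open Lim8

namespace Groth.Agent.S5107

open Limits TensorProduct Groth.Agent.AlgSp

/-- Injectivity into finitely many localisations up to an ideal killed by a flat algebra. -/
theorem eq_zero_of_finite {A B : Type u} [CommRing A] [CommRing B] [Algebra A B] [Module.Flat A B]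
    {κ : Type*} [Finite κ] (g : κ → A)
    (hg : ∀ m : A, (∀ k, ∃ e : ℕ, g k ^ e * m = 0) → algebraMap A B m = 0) (x : B)
    (hx : ∀ k, ∃ e : ℕ, algebraMap A B (g k) ^ e * x = 0) : x = 0 := by
  classical
  have := Fintype.ofFinite κ
  choose e he using hx
  let L : A →ₗ[A] (κ → A) := LinearMap.pi fun k => LinearMap.mulLeft A (g k ^ e k)
  have hex := Module.Flat.lTensor_exact B (L.exact_subtype_ker_map)
  have key : L.lTensor B (x ⊗ₜ[A] 1) = 0 := by
    apply (TensorProduct.piScalarRight A A B κ).injective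
    rw [map_zero]
    ext k
    simp only [LinearMap.lTensor_tmul, TensorProduct.piScalarRight_apply,
      TensorProduct.piScalarRightHom_tmul, Pi.zero_apply]
    simpa [L, Algebra.smul_def, map_pow] using he k
  obtain ⟨t, ht⟩ := (hex _).mp key
  have h0 : ∀ t, TensorProduct.rid A B ((LinearMap.ker L).subtype.lTensor B t) = 0 := by
    intro t
    induction t using TensorProduct.induction_on with
    | zero => simp
    | add a b ha hb => rw [map_add, map_add, ha, hb, add_zero]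
    | tmul b m =>
      have h := hg m.1 fun k => ⟨e k, congrFun (m.2 : L m.1 = 0) k⟩
      simp [Algebra.smul_def, h]
  have := h0 t
  rw [ht] at this
  simpa using this

/-- The preimage of a quasi-compact open under a flat morphism is schematically dense over an affine
open, as soon as the morphism kills the functions vanishing on the open. -/
theorem eq_zero_of_flat {X Y : Scheme.{u}} (f : X ⟶ Y) [Flat f] (V : Y.Opens) [QuasiCompact V.ι]
    {U : Y.Opens} (hU : IsAffineOpen U)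
    (hkill : ∀ m : Γ(Y, U),
      Y.presheaf.map (homOfLE (inf_le_left : U ⊓ V ≤ U)).op m = 0 → f.app U m = 0)
    {Ω : X.Opens} (hΩ : IsAffineOpen Ω) (e : Ω ≤ f ⁻¹ᵁ U) (s : Γ(X, Ω))
    (hs : X.presheaf.map (homOfLE (inf_le_left : Ω ⊓ f ⁻¹ᵁ V ≤ Ω)).op s = 0) : s = 0 := by
  have hc : IsCompact ((U ⊓ V : Y.Opens) : Set Y) := by
    have h1 := QuasiCompact.isCompact_preimage (f := V.ι) (U : Set Y) U.2 hU.isCompact
    have h2 := h1.image V.ι.continuous
    rw [Set.image_preimage_eq_inter_range, Scheme.Opens.range_ι] at h2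
    exact h2
  let g : {a : Γ(Y, U) // Y.basicOpen a ≤ V} → Γ(Y, U) := fun k => k.1
  obtain ⟨t, ht⟩ := hc.elim_finite_subcover (fun k => (Y.basicOpen (g k) : Set Y))
    (fun k => (Y.basicOpen (g k)).2) fun y hy => by
      obtain ⟨a, ha, hya⟩ := hU.exists_basicOpen_le (V := V) ⟨y, hy.2⟩ hy.1
      exact Set.mem_iUnion.2 ⟨⟨a, ha⟩, hya⟩
  algebraize [(f.appLE U Ω e).hom]
  have hflat : (f.appLE U Ω e).hom.Flat :=
    HasRingHomProperty.appLE @Flat f inferInstance ⟨U, hU⟩ ⟨Ω, hΩ⟩ e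
  have : Module.Flat Γ(Y, U) Γ(X, Ω) := hflat
  refine eq_zero_of_finite (fun k : t => g k.1) (fun m hm => ?_) _ fun k => ?_
  · have hm0 : Y.presheaf.map (homOfLE (inf_le_left : U ⊓ V ≤ U)).op m = 0 := by
      refine DenseFlat.eq_zero_of_locally _ fun y hy => ?_
      obtain ⟨k, hk, hyk⟩ := Set.mem_iUnion₂.1 (ht hy)
      obtain ⟨d, hd⟩ := hm ⟨k, hk⟩
      refine ⟨Y.basicOpen (g k), le_inf (Y.basicOpen_le _) k.2, hyk, ?_⟩
      rw [DenseFlat.res_trans]
      exact DenseFlat.res_basicOpen_eq_zero hU m (g k) d hd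
    show f.appLE U Ω e m = 0
    rw [Scheme.Hom.appLE, CommRingCat.comp_apply, hkill m hm0, map_zero]
  · have hle' : X.basicOpen (f.appLE U Ω e (g k.1)) ≤ Ω ⊓ f ⁻¹ᵁ V :=
      le_inf (X.basicOpen_le _) (by
        rw [Scheme.basicOpen_appLE]
        exact inf_le_right.trans (f.preimage_mono k.1.2))
    exact exists_pow_mul_eq_zero_of_res_basicOpen_eq_zero_of_isAffineOpen X hΩ _
      (f.appLE U Ω e (g k.1)) (DenseFlat.res_eq_zero_mono inf_le_left hle' _ hs)

lemma app_eq_zero_of_comp {A B C : Scheme.{u}} (a : A ⟶ B) (b : B ⟶ C) (f : A ⟶ C) (e : f = a ≫ b)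
    (U : C.Opens) (m : Γ(C, U)) (h : b.app U m = 0) : f.app U m = 0 := by
  subst e
  rw [Scheme.Hom.comp_app]
  exact (congrArg (a.app (b ⁻¹ᵁ U)) h).trans (map_zero _)

/-- The ideal of functions on `U` vanishing on `V`, killed at a stage when the limit open is dense. -/
theorem exists_kill {I : Type u} [SmallCategory I] [IsCofiltered I] {D : I ⥤ Scheme.{u}}
    {c : Cone D} (hc : IsLimit c) [∀ (i j : I) (g : i ⟶ j), IsAffineHom (D.map g)]
    {i₀ : I} [IsLocallyNoetherian (D.obj i₀)] {U₀ : (D.obj i₀).Opens}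
    (h : CInt.IsSchematicallyDense ((c.π.app i₀) ⁻¹ᵁ U₀))
    (W : (D.obj i₀).Opens) (hW : IsAffineOpen W) :
    ∃ (j : I) (φ : j ⟶ i₀), ∀ m : Γ(D.obj i₀, W),
      (D.obj i₀).presheaf.map (homOfLE (inf_le_left : W ⊓ U₀ ≤ W)).op m = 0 →
        (D.map φ).app W m = 0 := by
  have : IsNoetherianRing Γ(D.obj i₀, W) := IsLocallyNoetherian.component_noetherian ⟨W, hW⟩
  let K : Ideal Γ(D.obj i₀, W) :=
    RingHom.ker ((D.obj i₀).presheaf.map (homOfLE (inf_le_left : W ⊓ U₀ ≤ W)).op).hom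
  obtain ⟨S, hS⟩ := (IsNoetherian.noetherian K : K.FG)
  have key : ∀ m : S, ∃ (j : I) (φ : j ⟶ i₀), (D.map φ).app W m.1 = 0 := by
    intro m
    refine exists_app_map_eq_zero_of_isLimit D c hc hW.isCompact m.1 ?_
    refine h (c.π.app i₀ ⁻¹ᵁ W) ?_
    rw [map_zero, ← CommRingCat.comp_apply]
    have hm : (D.obj i₀).presheaf.map (homOfLE (inf_le_left : W ⊓ U₀ ≤ W)).op m.1 = 0 :=
      hS.le (Submodule.subset_span m.2)
    erw [← (c.π.app i₀).naturality (homOfLE (inf_le_left : W ⊓ U₀ ≤ W)).op]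
    exact (congrArg ((c.π.app i₀).app (W ⊓ U₀)) hm).trans (map_zero _)
  choose j φ hj using key
  obtain ⟨l, fl, fk, hl⟩ := IsCofiltered.wideCospan φ
  refine ⟨l, fl, fun m hm => ?_⟩
  have hle : K ≤ RingHom.ker ((D.map fl).app W).hom := by
    rw [← hS]
    refine Submodule.span_le.mpr fun x hx => ?_
    exact app_eq_zero_of_comp (D.map (fk ⟨x, hx⟩)) (D.map (φ ⟨x, hx⟩)) (D.map fl)
      (by rw [← D.map_comp, hl]) W x (hj ⟨x, hx⟩)
  exact hle hm

end Groth.Agent.S5107

namespace Groth.Agent.S5107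

/-- Let (X_i) be a cofiltered system of Noetherian schemes with affine and flat transition morphisms, X
its limit, assumed Noetherian as well, and U₀ an open subset of X_{i₀}, with inverse images U_i in
X_i (for i over i₀) and U in X. Then U is schematically dense in X if and only if there is an index
i over i₀ such that U_i is schematically dense in X_i (and then, the transition morphisms being
flat, U_j is schematically dense in X_j for every j over i). -/
theorem result {I : Type u} [SmallCategory I]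
    [IsCofiltered I] (D : I ⥤ Scheme.{u}) (c : Limits.Cone D) (hc : Limits.IsLimit c)
    [∀ (i j : I) (g : i ⟶ j), IsAffineHom (D.map g)] [∀ (i j : I) (g : i ⟶ j), Flat (D.map g)]
    [∀ i : I, IsNoetherian (D.obj i)] [IsNoetherian c.pt] (i₀ : I) (U₀ : (D.obj i₀).Opens) :
    CInt.IsSchematicallyDense ((c.π.app i₀) ⁻¹ᵁ U₀) ↔
      ∃ (i : I) (g : i ⟶ i₀), CInt.IsSchematicallyDense ((D.map g) ⁻¹ᵁ U₀) := by
  constructor
  · intro h
    obtain ⟨S, hS, hcov⟩ := isCompact_and_isOpen_iff_finite_and_eq_biUnion_affineOpens.mp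
      ⟨(isCompact_univ : IsCompact (Set.univ : Set (D.obj i₀))), isOpen_univ⟩
    choose j φ hj using fun W : S => exists_kill hc h W.1.1 W.1.2
    have := hS.to_subtype
    have := Fintype.ofFinite S
    obtain ⟨l, fl, fk, hl⟩ := IsCofiltered.wideCospan φ
    refine ⟨l, fl, fun A => ?_⟩
    rw [injective_iff_map_eq_zero]
    intro s hs
    refine AlgSp.DenseFlat.eq_zero_of_locally s fun x hx => ?_
    obtain ⟨W, hWS, hxW⟩ := Set.mem_iUnion₂.mp (hcov.le (Set.mem_univ (D.map fl x)))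
    obtain ⟨_, ⟨Ω, hΩ, rfl⟩, hxΩ, hle⟩ := (D.obj l).isBasis_affineOpens.exists_subset_of_mem_open
      (show x ∈ A ⊓ D.map fl ⁻¹ᵁ (W : (D.obj i₀).Opens) from ⟨hx, hxW⟩)
      (A ⊓ D.map fl ⁻¹ᵁ (W : (D.obj i₀).Opens)).2
    have hΩA : Ω ≤ A := fun y hy => (hle hy).1
    have e : Ω ≤ D.map fl ⁻¹ᵁ (W : (D.obj i₀).Opens) := fun y hy => (hle hy).2
    refine ⟨Ω, hΩA, hxΩ, eq_zero_of_flat (D.map fl) U₀ W.2 (fun m hm => ?_) hΩ e _ ?_⟩
    · exact app_eq_zero_of_comp (D.map (fk ⟨W, hWS⟩)) (D.map (φ ⟨W, hWS⟩)) (D.map fl)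
        (by rw [← D.map_comp, hl]) _ m (hj ⟨W, hWS⟩ m hm)
    · rw [AlgSp.DenseFlat.res_trans]
      exact AlgSp.DenseFlat.res_eq_zero_mono inf_le_left
        (show Ω ⊓ D.map fl ⁻¹ᵁ U₀ ≤ A ⊓ D.map fl ⁻¹ᵁ U₀ from inf_le_inf_right _ hΩA) s hs
  · rintro ⟨i, g, h⟩
    have := LimTop.flat_π hc i fun j φ => inferInstance
    rw [← c.w g, Scheme.Hom.comp_preimage]
    exact AlgSp.SchDense.preimage_of_quasiCompact (c.π.app i) _ h

end Groth.Agent.S5107
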