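import Groth.Statements.S5108
import Groth.Agent.PurW12.Reduce
-- import your own Groth.Agent.* helpers here

set_option autoImplicit false
universe u
open CategoryTheory CategoryTheory.Limits AlgebraicGeometry TopologicalSpace
open Pur21

namespace Groth.Agent.S5108

/-- Let X and Y be locally Noetherian schemes, g : X → Y a morphism, y a closed point of Y and Y' = Y −
{y}; suppose that the restriction g⁻¹(Y') → Y' of g is an open immersion and that the local ring
O_{Y,y} satisfies condition (W): every open subset U of the punctured spectrum of O_{Y,y} which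
contains no irreducible component of the punctured spectrum and whose inclusion into the punctured
spectrum is an affine morphism is itself affine. Then for every irreducible component Z of the fibre
g⁻¹(y), with generic point z (a point over y with no proper generization over y), either Z has
codimension ≤ 1 in X (dim O_{X,z} ≤ 1) or z is isolated in Z (some open neighbourhood of z contains
no other point of Z). The morphism g is not assumed locally of finite type. (The published statement
adds that, when the component is locally of finite type over the residue field of y, the second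
alternative forces it to be a single point; this row omits that clause.) -/
theorem result {X Y : Scheme.{u}}
    [IsLocallyNoetherian X] [IsLocallyNoetherian Y] (g : X ⟶ Y) (y : ↥Y) (Y' : Y.Opens)
    (hY' : (Y' : Set ↥Y) = {y}ᶜ) [IsOpenImmersion (g ∣_ Y')]
    (hW : (∀ U : (Spec (Y.presheaf.stalk y)).Opens, ∀ hU : U ≤ FEt.puncturedSpec ↑(Y.presheaf.stalk y),
        (∀ T ∈ irreducibleComponents ↥(FEt.puncturedSpec ↑(Y.presheaf.stalk y)), ¬ Subtype.val '' T ⊆ (U : Set _)) →
        IsAffineHom ((Spec (Y.presheaf.stalk y)).homOfLE hU) → IsAffineOpen U))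
    (z : ↥X) (hz : g z = y) (hmax : ∀ z' : ↥X, g z' = y → z' ⤳ z → z' = z) :
    ringKrullDim ↑(X.presheaf.stalk z) ≤ 1 ∨
      ∃ O : X.Opens, z ∈ O ∧ ∀ z' : ↥X, z' ∈ O → g z' = y → z ⤳ z' → z' = z := by
  classical
  obtain ⟨V, hV, hyV, -⟩ := exists_isAffineOpen_mem_and_subset (U := (⊤ : Y.Opens)) (x := y) trivial
  obtain ⟨W, hWa, hzW, hle⟩ := exists_isAffineOpen_mem_and_subset (U := g ⁻¹ᵁ V) (x := z)
    (show g z ∈ V by rw [hz]; exact hyV)
  by_cases hiso : ∀ z' : ↥X, z' ∈ W → g z' = y → z ⤳ z' → z' = z
  · exact Or.inr ⟨W, hzW, hiso⟩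
  push Not at hiso
  obtain ⟨z', hz'W, hz', hsp, hne⟩ := hiso
  let Q : Y.Opens := ⟨(closure {y})ᶜ, isClosed_closure.isOpen_compl⟩
  have hQY : Q ≤ Y' := fun t ht => by
    show t ∈ (Y' : Set ↥Y)
    rw [hY']
    exact fun h => ht (subset_closure h)
  haveI : IsOpenImmersion ((W ⊓ g ⁻¹ᵁ Q).ι ≫ g) := by
    rw [show (W ⊓ g ⁻¹ᵁ Q).ι ≫ g = X.homOfLE (inf_le_right.trans (g.preimage_mono hQY)) ≫ (g ∣_ Y') ≫ Y'.ι by
      rw [morphismRestrict_ι, Scheme.homOfLE_ι_assoc]]
    infer_instance
  refine Or.inl (PurW12.ringKrullDim_le_one g hV hWa hle y hyV Q (fun t ht => ?_) hW z z' hzW hz'W hz hz' hsp hne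
    fun t _ h1 h2 => hmax t h1 h2)
  refine ⟨fun h he => h (by rw [he]; exact subset_closure rfl), fun h hm => h ?_⟩
  exact (ht.antisymm (specializes_iff_mem_closure.2 hm)).eq

end Groth.Agent.S5108
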