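import Groth.Statements.S7658
import Mathlib.AlgebraicGeometry.Properties
import Mathlib.AlgebraicGeometry.Morphisms.OpenImmersion
import Mathlib.AlgebraicGeometry.ResidueField
-- import your own Groth.Agent.* helpers here

set_option autoImplicit false
universe u
open CategoryTheory CategoryTheory.Limits AlgebraicGeometry
open Variety

namespace Groth.Agent.S7658
set_option backward.isDefEq.respectTransparency.types false

theorem exists_generic (Z : Scheme.{u}) (z : Z) :
    ∃ η : Z, closure ({η} : Set Z) ∈ irreducibleComponents (Z : Type u) ∧ η ⤳ z := by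
  obtain ⟨C, hC, hsub⟩ := exists_mem_irreducibleComponents_subset_of_isIrreducible _ (isIrreducible_singleton (x := z))
  obtain ⟨η, hη⟩ := QuasiSober.sober hC.1 (isClosed_of_mem_irreducibleComponents _ hC)
  exact ⟨η, hη.def.symm ▸ hC, hη.specializes (hsub rfl)⟩

theorem isIso_stalkMap_of_comp {U X Y : Scheme.{u}} (g : U ⟶ X) [IsOpenImmersion g] (f : X ⟶ Y) (u : U)
    (h : IsIso ((g ≫ f).stalkMap u)) : IsIso (f.stalkMap (g.base u)) := by
  rw [Scheme.Hom.stalkMap_comp] at h
  exact (isIso_comp_right_iff (f.stalkMap (g.base u)) (g.stalkMap u)).mp h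

/-- A separated morphism of schemes f : X → Y such that X has an open covering on whose members f
restricts to open immersions, and such that no two distinct generic points of irreducible components
of X have the same image under f, is an open immersion. -/
theorem result {X Y : Scheme.{u}}
    (f : X ⟶ Y) [IsSeparated f]
    (hloc : ∀ x : X, ∃ U : X.Opens, x ∈ U ∧ IsOpenImmersion (U.ι ≫ f))
    (hinj : ∀ ξ ξ' : X, closure ({ξ} : Set X) ∈ irreducibleComponents (X : Type u) → closure ({ξ'} : Set X) ∈ irreducibleComponents (X : Type u) →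
      f.base ξ = f.base ξ' → ξ = ξ') :
    IsOpenImmersion f := by
  have hf : Function.Injective f.base := by
    intro a b hab
    obtain ⟨U, haU, hU⟩ := hloc a
    obtain ⟨V, hbV, hV⟩ := hloc b
    set W : Y.Opens := (U.ι ≫ f).opensRange ⊓ (V.ι ≫ f).opensRange with hWdef
    have hyW : f.base a ∈ W := ⟨⟨⟨a, haU⟩, rfl⟩, ⟨⟨b, hbV⟩, hab.symm⟩⟩
    have hUr : Set.range W.ι ⊆ Set.range (U.ι ≫ f) := by
      rw [Scheme.Opens.range_ι]; exact fun z hz => hz.1
    have hVr : Set.range W.ι ⊆ Set.range (V.ι ≫ f) := by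
      rw [Scheme.Opens.range_ι]; exact fun z hz => hz.2
    let sU := IsOpenImmersion.lift (U.ι ≫ f) W.ι hUr
    let sV := IsOpenImmersion.lift (V.ι ≫ f) W.ι hVr
    have hsU : sU ≫ U.ι ≫ f = W.ι := IsOpenImmersion.lift_fac _ _ _
    have hsV : sV ≫ V.ι ≫ f = W.ι := IsOpenImmersion.lift_fac _ _ _
    let s := sU ≫ U.ι
    let t := sV ≫ V.ι
    have hst : s ≫ f = t ≫ f := by simp only [s, t, Category.assoc, hsU, hsV]
    let d : (W : Scheme.{u}) ⟶ pullback f f := pullback.lift s t hst
    set E := d.base ⁻¹' Set.range (pullback.diagonal f).base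
    have hEcl : IsClosed E := ((pullback.diagonal f).isClosedEmbedding.isClosed_range).preimage d.continuous
    have hsU' : ∀ w, f.base (s w) = w.1 := fun w =>
      congr($(show s ≫ f = W.ι by simp only [s, Category.assoc, hsU]) w)
    have hsV' : ∀ w, f.base (t w) = w.1 := fun w =>
      congr($(show t ≫ f = W.ι by simp only [t, Category.assoc, hsV]) w)
    have hE : ∀ w, s w = t w → w ∈ E := by
      intro w hw
      have hrU : Set.range ((W : Scheme.{u}).fromSpecResidueField w ≫ t) ⊆ Set.range U.ι := by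
        rintro _ ⟨z, rfl⟩
        rw [Scheme.Hom.comp_apply, Scheme.fromSpecResidueField_apply, ← hw, Scheme.Opens.range_ι]
        exact (sU w).2
      have h2 : (W : Scheme.{u}).fromSpecResidueField w ≫ s = (W : Scheme.{u}).fromSpecResidueField w ≫ t := by
        haveI := hU
        rw [← IsOpenImmersion.lift_fac U.ι _ hrU]
        have : (W : Scheme.{u}).fromSpecResidueField w ≫ sU =
            IsOpenImmersion.lift U.ι ((W : Scheme.{u}).fromSpecResidueField w ≫ t) hrU := by
          rw [← cancel_mono (U.ι ≫ f), Category.assoc, hsU, IsOpenImmersion.lift_fac_assoc, Category.assoc,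
            show t ≫ f = W.ι by simp only [t, Category.assoc, hsV]]
        rw [← this]
        simp only [s, Category.assoc]
      have h3 : (W : Scheme.{u}).fromSpecResidueField w ≫ d =
          ((W : Scheme.{u}).fromSpecResidueField w ≫ s) ≫ pullback.diagonal f := by
        apply pullback.hom_ext
        · rw [Category.assoc, Category.assoc, pullback.diagonal_fst, Category.comp_id]
          exact congrArg (((W : Scheme.{u}).fromSpecResidueField w) ≫ ·) (pullback.lift_fst s t hst)
        · rw [Category.assoc, Category.assoc, pullback.diagonal_snd, Category.comp_id, h2]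
          exact congrArg (((W : Scheme.{u}).fromSpecResidueField w) ≫ ·) (pullback.lift_snd s t hst)
      obtain ⟨z⟩ : Nonempty (Spec ((W : Scheme.{u}).residueField w)) := inferInstance
      refine ⟨((W : Scheme.{u}).fromSpecResidueField w ≫ s) z, ?_⟩
      have h4 := congr($h3 z)
      rw [Scheme.Hom.comp_apply, Scheme.fromSpecResidueField_apply] at h4
      exact h4.symm
    have hgen : ∀ w : (W : Scheme.{u}), closure ({w} : Set (W : Scheme.{u})) ∈ irreducibleComponents (W : Scheme.{u}) → w ∈ E := by
      intro w hw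
      apply hE
      have hmax : ∀ (g : (W : Scheme.{u}) ⟶ X), (∀ v, f.base (g v) = v.1) → (∃ O : X.Opens, IsOpenImmersion (O.ι ≫ f) ∧ g w ∈ O) →
          closure ({g w} : Set X) ∈ irreducibleComponents X := by
        rintro g hg ⟨O, hO, hgO⟩
        refine ⟨isIrreducible_singleton.closure, fun Z hZ hle => ?_⟩
        have hcl : IsIrreducible (closure Z) := hZ.closure
        obtain ⟨η, hη⟩ := QuasiSober.sober hcl isClosed_closure
        have hηw : η ⤳ g w := hη.specializes (subset_closure (hle (subset_closure rfl)))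
        have hfη : f.base η ⤳ w.1 := hg w ▸ hηw.map f.continuous
        have hηW : f.base η ∈ W := hfη.mem_open W.2 w.2
        have hsp : (⟨f.base η, hηW⟩ : (W : Scheme.{u})) ⤳ w := W.ι.isOpenEmbedding.isInducing.specializes_iff.mp hfη
        have heq : (⟨f.base η, hηW⟩ : (W : Scheme.{u})) = w := by
          have hsub := hw.2 (isIrreducible_singleton (x := (⟨f.base η, hηW⟩ : (W : Scheme.{u})))).closure
            (closure_minimal (Set.singleton_subset_iff.mpr (specializes_iff_mem_closure.mp hsp)) isClosed_closure)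
          exact (IsGenericPoint.eq (S := closure {w}) (Set.Subset.antisymm hsub
            (closure_minimal (Set.singleton_subset_iff.mpr (specializes_iff_mem_closure.mp hsp)) isClosed_closure)) rfl)
        have hηO : η ∈ O := hηw.mem_open O.2 hgO
        haveI := hO
        have hii : (⟨η, hηO⟩ : (O : Scheme.{u})) = ⟨g w, hgO⟩ :=
          (O.ι ≫ f).isOpenEmbedding.injective ((congrArg Subtype.val heq).trans (hg w).symm)
        intro z hz
        have h2 := hη.def ▸ subset_closure hz
        rwa [show η = g w from congrArg Subtype.val hii] at h2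
      exact hinj _ _ (hmax s hsU' ⟨U, hU, (sU w).2⟩) (hmax t hsV' ⟨V, hV, (sV w).2⟩) ((hsU' w).trans (hsV' w).symm)
    have hmem : (⟨f.base a, hyW⟩ : (W : Scheme.{u})) ∈ E := by
      obtain ⟨η, hη, hsp⟩ := exists_generic (W : Scheme.{u}) ⟨f.base a, hyW⟩
      exact hsp.mem_closed hEcl (hgen η hη)
    obtain ⟨z, hz⟩ := hmem
    have e1 : s ⟨f.base a, hyW⟩ = z := by
      have h1 := congr($(pullback.diagonal_fst f) z)
      rw [Scheme.Hom.comp_apply, hz] at h1
      have h2 := congr($(show d ≫ pullback.fst f f = s from pullback.lift_fst _ _ _) ⟨f.base a, hyW⟩)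
      exact h2.symm.trans h1
    have e2 : t ⟨f.base a, hyW⟩ = z := by
      have h1 := congr($(pullback.diagonal_snd f) z)
      rw [Scheme.Hom.comp_apply, hz] at h1
      have h2 := congr($(show d ≫ pullback.snd f f = t from pullback.lift_snd _ _ _) ⟨f.base a, hyW⟩)
      exact h2.symm.trans h1
    haveI := hU
    haveI := hV
    have ea : sU ⟨f.base a, hyW⟩ = ⟨a, haU⟩ := (U.ι ≫ f).isOpenEmbedding.injective (congr($hsU ⟨f.base a, hyW⟩))
    have eb : sV ⟨f.base a, hyW⟩ = ⟨b, hbV⟩ :=
      (V.ι ≫ f).isOpenEmbedding.injective ((congr($hsV ⟨f.base a, hyW⟩)).trans hab)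
    calc a = s ⟨f.base a, hyW⟩ := (congrArg Subtype.val ea).symm
      _ = t ⟨f.base a, hyW⟩ := e1.trans e2.symm
      _ = b := congrArg Subtype.val eb
  have hst : ∀ x, IsIso (f.stalkMap x) := by
    intro x
    obtain ⟨U, hxU, hU⟩ := hloc x
    haveI := hU
    have h1 : IsIso ((U.ι ≫ f).stalkMap (⟨x, hxU⟩ : (U : Scheme.{u}))) := inferInstance
    exact isIso_stalkMap_of_comp U.ι f (⟨x, hxU⟩ : (U : Scheme.{u})) h1
  haveI := hst
  refine IsOpenImmersion.of_isIso_stalkMap f (Topology.IsOpenEmbedding.of_continuous_injective_isOpenMap f.continuous hf ?_)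
  intro O hO
  rw [isOpen_iff_forall_mem_open]
  rintro _ ⟨x, hx, rfl⟩
  obtain ⟨U, hxU, hU⟩ := hloc x
  refine ⟨(U.ι ≫ f) '' (U.ι ⁻¹' O), ?_, (U.ι ≫ f).isOpenEmbedding.isOpenMap _ (hO.preimage U.ι.continuous), ⟨⟨x, hxU⟩, hx, rfl⟩⟩
  rintro _ ⟨w, hw, rfl⟩
  exact ⟨_, hw, rfl⟩

end Groth.Agent.S7658
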