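import Groth.Statements.S5109
import Groth.Agent.PurW12.Reduce
import Groth.Agent.S7658
-- import your own Groth.Agent.* helpers here

set_option autoImplicit false
universe u
open CategoryTheory CategoryTheory.Limits AlgebraicGeometry TopologicalSpace
open Pur21

namespace Groth.Agent.S5109

/-- A good point generalizing `z` over the same point equals `z`, on an affine open. -/
theorem eq_of_good {X Y : Scheme.{u}} (g : X ⟶ Y) {W : X.Opens} (hW : IsAffineOpen W) {z t : X} (hzW : z ∈ W)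
    (htW : t ∈ W) (hts : t ⤳ z) (he : g t = g z) {U : X.Opens} (htU : t ∈ U) [IsOpenImmersion (U.ι ≫ g)] : t = z := by
  haveI : IsIso (g.stalkMap t) :=
    S7658.isIso_stalkMap_of_comp U.ι g ⟨t, htU⟩ (inferInstance : IsIso ((U.ι ≫ g).stalkMap ⟨t, htU⟩))
  have key : ∀ r : Γ(X, W), t ∈ X.basicOpen r → z ∈ X.basicOpen r := by
    intro r hr
    rw [Scheme.mem_basicOpen _ _ _ htW] at hr
    rw [Scheme.mem_basicOpen _ _ _ hzW]
    obtain ⟨a, ha⟩ := (ConcreteCategory.bijective_of_isIso (g.stalkMap t)).2 (X.presheaf.germ W t htW r)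
    let θ := Y.presheaf.stalkSpecializes (g.base.hom.map_specializes hts)
    haveI : IsIso θ := by
      have : θ = (Y.presheaf.stalkCongr (Inseparable.of_eq he.symm)).hom := rfl
      rw [this]; infer_instance
    obtain ⟨b, hb⟩ := (ConcreteCategory.bijective_of_isIso θ).2 a
    have hau : IsUnit a := (isUnit_map_iff (g.stalkMap t).hom a).1 (by rw [ha]; exact hr)
    have hbu : IsUnit b := (isUnit_map_iff θ.hom b).1 (by rw [hb]; exact hau)
    have h0 : X.presheaf.stalkSpecializes hts (X.presheaf.germ W z hzW r - g.stalkMap z b) = 0 := by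
      rw [map_sub, ← Scheme.Hom.stalkSpecializes_stalkMap_apply g t z hts b,
        show Y.presheaf.stalkSpecializes _ b = a from hb, ha]
      exact sub_eq_zero.2 (congr($(TopCat.Presheaf.germ_stalkSpecializes X.presheaf hzW hts) r))
    by_contra hnu
    have h2 : X.presheaf.germ W z hzW r - (X.presheaf.germ W z hzW r - g.stalkMap z b) ∈
        IsLocalRing.maximalIdeal (X.presheaf.stalk z) :=
      Ideal.sub_mem _ ((IsLocalRing.mem_maximalIdeal _).2 hnu)
        ((IsLocalRing.mem_maximalIdeal _).2 fun hu => not_isUnit_zero (h0 ▸ hu.map _))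
    rw [sub_sub_cancel] at h2
    exact (IsLocalRing.mem_maximalIdeal _).1 h2 (hbu.map _)
  by_contra hne
  haveI : T0Space (X : Type u) := inferInstance
  have hpr : hW.primeIdealOf ⟨t, htW⟩ ≠ hW.primeIdealOf ⟨z, hzW⟩ := fun h => hne (by
    have := congrArg hW.fromSpec h
    rwa [hW.fromSpec_primeIdealOf, hW.fromSpec_primeIdealOf] at this)
  refine hpr (PrimeSpectrum.ext (le_antisymm (fun r hr => ?_) fun r hr => ?_))
  · by_contra hr'
    have hzr : z ∈ X.basicOpen r := by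
      have h : hW.primeIdealOf ⟨z, hzW⟩ ∈ hW.fromSpec ⁻¹ᵁ X.basicOpen r := by
        rw [hW.fromSpec_preimage_basicOpen]; exact hr'
      change hW.fromSpec _ ∈ X.basicOpen r at h
      rwa [hW.fromSpec_primeIdealOf] at h
    have h := hts.mem_open (X.basicOpen r).2 hzr
    have h' : hW.primeIdealOf ⟨t, htW⟩ ∈ hW.fromSpec ⁻¹ᵁ X.basicOpen r := by
      show hW.fromSpec _ ∈ X.basicOpen r
      rw [hW.fromSpec_primeIdealOf]; exact h
    rw [hW.fromSpec_preimage_basicOpen] at h'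
    exact h' hr
  · by_contra hr'
    have htr : t ∈ X.basicOpen r := by
      have h : hW.primeIdealOf ⟨t, htW⟩ ∈ hW.fromSpec ⁻¹ᵁ X.basicOpen r := by
        rw [hW.fromSpec_preimage_basicOpen]; exact hr'
      change hW.fromSpec _ ∈ X.basicOpen r at h
      rwa [hW.fromSpec_primeIdealOf] at h
    have h := key r htr
    have h' : hW.primeIdealOf ⟨z, hzW⟩ ∈ hW.fromSpec ⁻¹ᵁ X.basicOpen r := by
      show hW.fromSpec _ ∈ X.basicOpen r
      rw [hW.fromSpec_primeIdealOf]; exact h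
    rw [hW.fromSpec_preimage_basicOpen] at h'
    exact h' hr

/-- Let X and Y be locally Noetherian schemes with X irreducible, g : X → Y a morphism locally of finite
type, and V the largest open subset of X on which g is a local isomorphism. Suppose that for every
point y of Y the local ring O_{Y,y} satisfies the following condition (W): every open subset of its
punctured spectrum which contains no irreducible component of the punctured spectrum and whose
inclusion is affine is itself affine. Then every irreducible component of T = X − V either has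
codimension ≤ 1 in X or has its generic point z isolated in the fibre g⁻¹(g(z)): for every point z
with no open neighbourhood on which g is a local isomorphism, and maximal with this property under
generization, either dim O_{X,z} ≤ 1 or some open neighbourhood of z meets the fibre through z only
in z. -/
theorem result {X Y : Scheme.{u}}
    [IsLocallyNoetherian X] [IsLocallyNoetherian Y] [IrreducibleSpace ↥X] (g : X ⟶ Y) [LocallyOfFiniteType g]
    (hW : ∀ y : ↥Y, (∀ U : (Spec (Y.presheaf.stalk y)).Opens, ∀ hU : U ≤ FEt.puncturedSpec ↑(Y.presheaf.stalk y),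
        (∀ T ∈ irreducibleComponents ↥(FEt.puncturedSpec ↑(Y.presheaf.stalk y)), ¬ Subtype.val '' T ⊆ (U : Set _)) →
        IsAffineHom ((Spec (Y.presheaf.stalk y)).homOfLE hU) → IsAffineOpen U))
    (z : ↥X) (hz : ¬ ∃ W : X.Opens, z ∈ W ∧ IsLocalIso (W.ι ≫ g))
    (hmax : ∀ z' : ↥X, (¬ ∃ W : X.Opens, z' ∈ W ∧ IsLocalIso (W.ι ≫ g)) → z' ⤳ z → z' = z) :
    ringKrullDim ↑(X.presheaf.stalk z) ≤ 1 ∨
      ∃ O : X.Opens, z ∈ O ∧ ∀ z' : ↥X, z' ∈ O → g z' = g z → z' = z := by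
  classical
  let G : X.Opens := ⟨{x | ∃ U : X.Opens, x ∈ U ∧ IsOpenImmersion (U.ι ≫ g)},
    isOpen_iff_forall_mem_open.2 fun x ⟨U, hxU, hU⟩ => ⟨U, fun x' hx' => ⟨U, hx', hU⟩, U.2, hxU⟩⟩
  have hG : ∀ x, x ∉ G ↔ ¬ ∃ W : X.Opens, x ∈ W ∧ IsLocalIso (W.ι ≫ g) := fun x => by
    refine not_congr ⟨fun ⟨U, hxU, hU⟩ => ⟨U, hxU, ⟨fun _ => ⟨⊤, trivial, ?_⟩⟩⟩, fun ⟨W, hxW, hW'⟩ => ?_⟩
    · haveI := hU
      infer_instance
    obtain ⟨U, hxU, hU⟩ := hW'.exists_isOpenImmersion ⟨x, hxW⟩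
    refine ⟨W.ι ''ᵁ U, ⟨⟨x, hxW⟩, hxU, rfl⟩, ?_⟩
    haveI := hU
    rw [show (W.ι ''ᵁ U).ι ≫ g = (W.ι.isoImage U).inv ≫ U.ι ≫ W.ι ≫ g by simp [← cancel_epi (W.ι.isoImage U).hom]]
    infer_instance
  have hzG : z ∉ G := (hG z).2 hz
  obtain ⟨V, hV, hyV, -⟩ := exists_isAffineOpen_mem_and_subset (U := (⊤ : Y.Opens)) (x := g z) trivial
  obtain ⟨W₀, hW₀, hzW₀, hW₀V⟩ := exists_isAffineOpen_mem_and_subset (U := g ⁻¹ᵁ V) (x := z) hyV
  obtain ⟨W₁, hzW₁, hW₁⟩ : ∃ W₁ : X.Opens, z ∈ W₁ ∧ ∀ t ∈ W₁, t ∈ W₀ → t ∉ G → z ⤳ t := by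
    haveI : IsNoetherianRing Γ(X, W₀) := IsLocallyNoetherian.component_noetherian ⟨W₀, hW₀⟩
    haveI : NoetherianSpace ↥(W₀ : Scheme.{u}) := noetherianSpace_of_isAffineOpen W₀ hW₀
    let F : Closeds ↥(W₀ : Scheme.{u}) := ⟨Subtype.val ⁻¹' (G : Set X)ᶜ, G.2.isClosed_compl.preimage continuous_subtype_val⟩
    obtain ⟨S, hSf, hSc, hSi, hSe⟩ := NoetherianSpace.exists_finite_set_isClosed_irreducible F.2
    let Bad := {C ∈ S | (⟨z, hzW₀⟩ : ↥(W₀ : Scheme.{u})) ∉ C}
    have hcl : IsClosed (⋃₀ Bad) := Set.sUnion_eq_biUnion ▸ (hSf.subset fun C hC => hC.1).isClosed_biUnion fun C hC => hSc C hC.1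
    refine ⟨W₀.ι ''ᵁ ⟨(⋃₀ Bad)ᶜ, hcl.isOpen_compl⟩, ⟨⟨z, hzW₀⟩, fun ⟨C, hC, hzC⟩ => hC.2 hzC, rfl⟩, ?_⟩
    rintro _ ⟨t, ht, rfl⟩ - htG
    obtain ⟨C, hC, htC⟩ := Set.mem_sUnion.1 (hSe.le (show t ∈ (F : Set ↥(W₀ : Scheme.{u})) from htG))
    have hzC : (⟨z, hzW₀⟩ : ↥(W₀ : Scheme.{u})) ∈ C := of_not_not fun h => ht ⟨C, ⟨hC, h⟩, htC⟩
    obtain ⟨c, hc⟩ := QuasiSober.sober (hSi C hC) (hSc C hC)
    have hcG : W₀.ι c ∉ G := hSe.ge ⟨C, hC, hc.mem⟩
    have hcz := hmax _ ((hG _).1 hcG) ((hc.specializes hzC).map continuous_subtype_val)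
    exact hcz ▸ (hc.specializes htC).map continuous_subtype_val
  obtain ⟨W, hWa, hzW, hWle⟩ := exists_isAffineOpen_mem_and_subset (U := W₁ ⊓ W₀) (x := z) ⟨hzW₁, hzW₀⟩
  have hWV : W ≤ g ⁻¹ᵁ V := fun t ht => hW₀V (hWle ht).2
  have hbad : ∀ t ∈ W, t ∉ G → z ⤳ t := fun t ht => hW₁ t (hWle ht).1 (hWle ht).2
  have hmax' : ∀ t ∈ W, g t = g z → t ⤳ z → t = z := fun t ht he hts => by
    by_cases htG : t ∈ G
    · obtain ⟨U, htU, hU⟩ := htG
      haveI := hU
      exact eq_of_good g hWa hzW ht hts he htU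
    · exact hmax t ((hG t).1 htG) hts
  have hopen : ∀ O : X.Opens, O ≤ W ⊓ G → IsOpenImmersion (O.ι ≫ g) := fun O hO => by
    haveI : IsAffine (W : Scheme.{u}) := hWa
    haveI : IsAffine (V : Scheme.{u}) := hV
    haveI : IsSeparated (O.ι ≫ g) := by
      rw [show O.ι ≫ g = X.homOfLE (hO.trans inf_le_left) ≫ g.resLE V W hWV ≫ V.ι by simp]
      infer_instance
    refine S7658.result _ (fun x => ?_) fun ξ ξ' hξ hξ' _ => ?_
    · obtain ⟨U, hxU, hU⟩ := (hO x.2).2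
      haveI := hU
      refine ⟨O.ι ⁻¹ᵁ U, hxU, ?_⟩
      rw [show (O.ι ⁻¹ᵁ U).ι ≫ O.ι ≫ g = O.ι.resLE U (O.ι ⁻¹ᵁ U) le_rfl ≫ U.ι ≫ g by
        rw [Scheme.Hom.resLE_comp_ι_assoc]]
      haveI : IsOpenImmersion (O.ι.resLE U (O.ι ⁻¹ᵁ U) le_rfl ≫ U.ι) := by
        rw [Scheme.Hom.resLE_comp_ι]; infer_instance
      haveI := IsOpenImmersion.of_comp (O.ι.resLE U (O.ι ⁻¹ᵁ U) le_rfl) U.ι
      infer_instance
    · haveI : Nonempty ↥(O : Scheme.{u}) := ⟨ξ⟩
      haveI : IrreducibleSpace ↥(O : Scheme.{u}) :=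
        { toPreirreducibleSpace := Subtype.preirreducibleSpace ((PreirreducibleSpace.isPreirreducible_univ (X := X)).open_subset O.2 (Set.subset_univ _)) , toNonempty := inferInstance }
      rw [irreducibleComponents_eq_singleton, Set.mem_singleton_iff] at hξ hξ'
      exact ((isGenericPoint_def.2 (hξ : closure _ = Set.univ)).eq (isGenericPoint_def.2 (hξ' : closure _ = Set.univ)))
  by_cases hcase : ∀ z' ∈ W, g z' = g z → z' ∉ G → z' = z
  · refine Or.inr ?_
    by_cases h0 : ∃ t₀ ∈ W, g t₀ = g z ∧ t₀ ≠ z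
    · obtain ⟨t₀, ht₀, he₀, hne₀⟩ := h0
      refine ⟨W ⊓ ⟨(closure {t₀})ᶜ, isClosed_closure.isOpen_compl⟩,
        ⟨hzW, fun h => hne₀ (hmax' t₀ ht₀ he₀ (specializes_iff_mem_closure.2 h))⟩, fun z' hz' he => ?_⟩
      by_contra hne
      have hg₀ : t₀ ∈ G := of_not_not fun h => hne₀ (hcase t₀ ht₀ he₀ h)
      have hg' : z' ∈ G := of_not_not fun h => hne (hcase z' hz'.1 he h)
      haveI := hopen _ (le_refl (W ⊓ G))
      have := ((W ⊓ G).ι ≫ g).isOpenEmbedding.injective (a₁ := ⟨z', hz'.1, hg'⟩) (a₂ := ⟨t₀, ht₀, hg₀⟩)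
        (he.trans he₀.symm)
      have hzt : z' = t₀ := congrArg Subtype.val this
      exact hz'.2 (hzt ▸ subset_closure rfl)
    · push Not at h0
      exact ⟨W, hzW, h0⟩
  · push Not at hcase
    obtain ⟨z', hz'W, hz', hz'G, hne⟩ := hcase
    let Q : Y.Opens := ⟨(closure {g z})ᶜ, isClosed_closure.isOpen_compl⟩
    haveI : IsOpenImmersion ((W ⊓ g ⁻¹ᵁ Q).ι ≫ g) := hopen _ fun t ht => by
      refine ⟨ht.1, of_not_not fun htG => ht.2 ?_⟩
      exact ((hbad t ht.1 htG).map g.continuous).mem_closure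
    refine Or.inl (PurW12.ringKrullDim_le_one g hV hWa hWV (g z) hyV Q (fun t ht => ?_) (hW (g z)) z z' hzW hz'W rfl hz'
      (hbad z' hz'W hz'G) hne hmax')
    refine ⟨fun h he => h (by rw [he]; exact subset_closure rfl), fun h hm => h ?_⟩
    exact (ht.antisymm (specializes_iff_mem_closure.2 hm)).eq

end Groth.Agent.S5109
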