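import Groth.Statements.S5110
import Groth.Agent.LimTop.Maximal

set_option autoImplicit false
universe u
open CategoryTheory CategoryTheory.Limits AlgebraicGeometry TopologicalSpace
open Lim8

namespace Groth.Agent.S5110

/-- Let (S_i) be a cofiltered system of schemes with affine transition morphisms and S its limit, such
that every S_i has finitely many maximal points and the transition morphisms send maximal points to
maximal points; let S_{i₀} be quasi-compact and V₀ an open subset of S_{i₀}, with inverse images V_i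
in the S_i over i₀ and V in S. If V₀ is dense in S_{i₀} then every V_i and V are dense. Conversely,
if V is dense in S and S has only finitely many maximal points, then V_i is dense in S_i for some i
over i₀. -/
theorem result {I : Type u} [SmallCategory I] [IsCofiltered I]
    (D : I ⥤ Scheme.{u}) (c : Limits.Cone D) (hc : Limits.IsLimit c)
    [∀ (i j : I) (g : i ⟶ j), IsAffineHom (D.map g)]
    (hfin : ∀ i : I, {s : ↥(D.obj i) | ∀ z : ↥(D.obj i), z ⤳ s → z = s}.Finite)
    (hsys : ∀ (i j : I) (g : i ⟶ j) (s : ↥(D.obj i)), (∀ z : ↥(D.obj i), z ⤳ s → z = s) →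
      ∀ z : ↥(D.obj j), z ⤳ D.map g s → z = D.map g s)
    (i₀ : I) [CompactSpace ↥(D.obj i₀)] (V₀ : (D.obj i₀).Opens) :
    (Dense (V₀ : Set ↥(D.obj i₀)) →
        (∀ (i : I) (g : i ⟶ i₀), Dense (((D.map g) ⁻¹ᵁ V₀ : (D.obj i).Opens) : Set ↥(D.obj i))) ∧
          Dense (((c.π.app i₀) ⁻¹ᵁ V₀ : c.pt.Opens) : Set ↥c.pt)) ∧
      (Dense (((c.π.app i₀) ⁻¹ᵁ V₀ : c.pt.Opens) : Set ↥c.pt) →
        {s : ↥c.pt | ∀ z : ↥c.pt, z ⤳ s → z = s}.Finite →
          ∃ (i : I) (g : i ⟶ i₀), Dense (((D.map g) ⁻¹ᵁ V₀ : (D.obj i).Opens) : Set ↥(D.obj i))) := by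
  constructor
  · intro hd
    refine ⟨fun i g ↦ LimTop.dense_of_isMaxPt_mem fun η hη ↦
      LimTop.isMaxPt_mem_of_dense (hfin i₀) V₀.2 hd (hsys _ _ g η hη), ?_⟩
    exact LimTop.dense_of_isMaxPt_mem fun η hη ↦
      LimTop.isMaxPt_mem_of_dense (hfin i₀) V₀.2 hd ((LimTop.isMaxPt_iff hc hfin hsys η).mp hη i₀)
  · intro hd hS
    by_contra hcon
    obtain ⟨s, hs⟩ := LimTop.exists_mem_of_finite hc (i₀ := i₀)
      (fun j φ ↦ {m | LimTop.IsMaxPt m ∧ D.map φ m ∉ V₀})
      (fun j φ ↦ (hfin j).subset fun m hm ↦ hm.1)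
      (fun j φ ↦ by
        by_contra hne
        refine hcon ⟨j, φ, LimTop.dense_of_isMaxPt_mem fun η hη ↦ ?_⟩
        by_contra hη'
        exact hne ⟨η, hη, hη'⟩)
      (fun j k ψ φ m hm ↦ ⟨hsys _ _ ψ m hm.1, by
        rw [← LimTop.map_comp_apply]; exact hm.2⟩)
    have hmax : LimTop.IsMaxPt s := by
      refine (LimTop.isMaxPt_iff hc hfin hsys s).mpr fun i ↦ ?_
      rw [← LimTop.π_apply c (IsCofiltered.minToLeft i i₀)]
      exact hsys _ _ _ _ (hs _ (IsCofiltered.minToRight i i₀)).1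
    have hmem := LimTop.isMaxPt_mem_of_dense (V := ⇑(c.π.app i₀) ⁻¹' (V₀ : Set ↥(D.obj i₀))) hS
      (V₀.2.preimage (c.π.app i₀).continuous) hd hmax
    exact (hs i₀ (𝟙 i₀)).2 (by rw [LimTop.map_id_apply]; exact hmem)

end Groth.Agent.S5110
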