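import Groth.Statements.S5111
import Groth.Agent.RatMapExt.Valuative
import Groth.Agent.RatMapExt.Sections

set_option autoImplicit false
universe u
open CategoryTheory CategoryTheory.Limits AlgebraicGeometry TopologicalSpace
open Rat20

namespace Groth.Agent.S5111

open RatMapExt

theorem resMap_surjective {Z X : Scheme.{u}} (i : Z ⟶ X) [IsClosedImmersion i] (z : Z) :
    Function.Surjective (i.residueFieldMap z) := by
  intro c
  obtain ⟨a, rfl⟩ := Scheme.residue_surjective Z z c
  obtain ⟨b, rfl⟩ := i.stalkMap_surjective z a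
  exact ⟨X.residue (i z) b, by rw [← ConcreteCategory.comp_apply, Scheme.residue_residueFieldMap]; rfl⟩

theorem residue_closedPoint (R : Type u) [CommRing R] [IsLocalRing R]
    (t : Spec (CommRingCat.of (IsLocalRing.ResidueField R))) :
    Spec.map (CommRingCat.ofHom (IsLocalRing.residue R)) t = IsLocalRing.closedPoint R := by
  refine PrimeSpectrum.ext ?_
  show Ideal.comap (IsLocalRing.residue R) t.asIdeal = IsLocalRing.maximalIdeal R
  rw [Ideal.eq_bot_of_prime t.asIdeal]
  exact IsLocalRing.ker_residue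

theorem eq_into {W W' Y : Scheme.{u}} [IsReduced W] {V : Y.Opens} (hV : IsAffineOpen V) (a b : W ⟶ Y)
    (ha : Set.range a ⊆ (V : Set Y)) (hb : Set.range b ⊆ (V : Set Y)) (ι : W' ⟶ W) [IsDominant ι]
    (hι : ι ≫ a = ι ≫ b) : a = b := by
  haveI : IsAffine (V : Scheme.{u}) := hV
  let a' := IsOpenImmersion.lift V.ι a (by simpa using ha)
  let b' := IsOpenImmersion.lift V.ι b (by simpa using hb)
  have ha' : a' ≫ V.ι = a := IsOpenImmersion.lift_fac _ _ _
  have hb' : b' ≫ V.ι = b := IsOpenImmersion.lift_fac _ _ _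
  have : a' = b' := ext_of_isDominant ι
    (by rw [← cancel_mono V.ι, Category.assoc, Category.assoc, ha', hb', hι])
  rw [← ha', ← hb', this]

theorem eq_of_field {Y : Scheme.{u}} {k F : Type u} [Field k] [Field F] (φ : CommRingCat.of k ⟶ CommRingCat.of F)
    (a b : Spec (CommRingCat.of k) ⟶ Y) (h : Spec.map φ ≫ a = Spec.map φ ≫ b) : a = b := by
  let p : Spec (CommRingCat.of k) := default
  let q : Spec (CommRingCat.of F) := default
  have hpt : ∀ t, t = p := fun t => Subsingleton.elim _ _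
  have hab : a p = b p := by
    have := congr($h q)
    rwa [Scheme.Hom.comp_apply, Scheme.Hom.comp_apply, hpt (Spec.map φ q)] at this
  obtain ⟨V, hV, hpV, -⟩ := exists_isAffineOpen_mem_and_subset (x := a p) (U := ⊤) trivial
  haveI : IsDominant (Spec.map φ) := ⟨Function.Surjective.denseRange fun t => ⟨q, Subsingleton.elim _ _⟩⟩
  refine eq_into hV a b ?_ ?_ (Spec.map φ) h
  · rintro _ ⟨t, rfl⟩; rw [hpt t]; exact hpV
  · rintro _ ⟨t, rfl⟩; rw [hpt t, ← hab]; exact hpV

theorem eq_of_residue {W Y : Scheme.{u}} [IsReduced W] (a b : W ⟶ Y)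
    (H : ∀ w : W, W.fromSpecResidueField w ≫ a = W.fromSpecResidueField w ≫ b) : a = b := by
  have hpt : ∀ w, a w = b w := fun w => by
    have := congr($(H w) default)
    simpa using this
  refine Scheme.Cover.hom_ext (Scheme.openCoverOfIsOpenCover W
    (fun V : Y.affineOpens => a ⁻¹ᵁ V.1) ?_) _ _ fun V => ?_
  · refine TopologicalSpace.Opens.ext (Set.eq_univ_of_forall fun w => ?_)
    obtain ⟨V, hV, hwV, -⟩ := exists_isAffineOpen_mem_and_subset (x := a w) (U := ⊤) trivial
    exact TopologicalSpace.Opens.mem_iSup.2 ⟨⟨V, hV⟩, hwV⟩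
  · haveI : IsAffine (V.1 : Scheme.{u}) := V.2
    show (a ⁻¹ᵁ V.1).ι ≫ a = (a ⁻¹ᵁ V.1).ι ≫ b
    haveI : IsReduced ((a ⁻¹ᵁ V.1 : W.Opens) : Scheme.{u}) := isReduced_of_isOpenImmersion (a ⁻¹ᵁ V.1).ι
    have hb : Set.range ((a ⁻¹ᵁ V.1).ι ≫ b) ⊆ (V.1 : Set Y) := by
      rintro _ ⟨t, rfl⟩
      rw [Scheme.Hom.comp_apply, ← hpt]
      exact t.2
    let a' := a ∣_ V.1
    let b' := IsOpenImmersion.lift V.1.ι ((a ⁻¹ᵁ V.1).ι ≫ b) (by simpa using hb)
    have hb' : b' ≫ V.1.ι = _ := IsOpenImmersion.lift_fac _ _ _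
    have : a' = b' := by
      refine ext_of_fromSpecResidueField_eq a' b' (terminal.from _) Set.univ dense_univ
        (fun t _ => ?_) (terminal.hom_ext _ _)
      rw [← cancel_mono V.1.ι]
      simp only [Category.assoc, a', morphismRestrict_ι, hb']
      rw [← Scheme.Hom.SpecMap_residueFieldMap_fromSpecResidueField_assoc,
        ← Scheme.Hom.SpecMap_residueFieldMap_fromSpecResidueField_assoc, H]
    rw [← morphismRestrict_ι, ← hb']
    exact congrArg (· ≫ V.1.ι) this

/-- equality of two sections on an open, checked locally -/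
theorem eq_on_open {X Y : Scheme.{u}} [IsLocallyNoetherian X] (O U₀ : X.Opens) (a b : (O : Scheme.{u}) ⟶ Y)
    (hU : X.homOfLE (inf_le_left : O ⊓ U₀ ≤ O) ≫ a = X.homOfLE (inf_le_left : O ⊓ U₀ ≤ O) ≫ b)
    (hdom : ∀ w ∈ O, w ∉ U₀ → IsDomain ↑(X.presheaf.stalk w))
    (hres : ∀ w : (O : Scheme.{u}), O.ι w ∉ U₀ →
      (O : Scheme.{u}).fromSpecResidueField w ≫ a = (O : Scheme.{u}).fromSpecResidueField w ≫ b) :
    a = b := by
  have hres' : ∀ w : (O : Scheme.{u}),
      (O : Scheme.{u}).fromSpecResidueField w ≫ a = (O : Scheme.{u}).fromSpecResidueField w ≫ b := by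
    intro w
    by_cases hw : O.ι w ∈ U₀
    · let i := X.homOfLE (inf_le_left : O ⊓ U₀ ≤ O)
      let w' : ((O ⊓ U₀ : X.Opens) : Scheme.{u}) := ⟨O.ι w, w.2, hw⟩
      have hiw : i w' = w := O.ι.isOpenEmbedding.injective
        (by rw [← Scheme.Hom.comp_apply, X.homOfLE_ι]; rfl)
      rw [← hiw]
      haveI : IsIso (i.residueFieldMap w') := inferInstance
      rw [← cancel_epi (Spec.map (i.residueFieldMap w')),
        i.SpecMap_residueFieldMap_fromSpecResidueField_assoc,
        i.SpecMap_residueFieldMap_fromSpecResidueField_assoc, hU]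
    · exact hres w hw
  have key : ∀ w : O, ∃ D : X.Opens, w.1 ∈ D ∧ ∃ hD : D ≤ O, X.homOfLE hD ≫ a = X.homOfLE hD ≫ b := by
    intro w
    by_cases hw : w.1 ∈ U₀
    · exact ⟨O ⊓ U₀, ⟨w.2, hw⟩, inf_le_left, hU⟩
    · haveI := hdom w.1 w.2 hw
      obtain ⟨W, hW, hWd, hwW, hWO⟩ := exists_affine_domain_nhd w.1 O w.2
      haveI : IsReduced (W : Scheme.{u}) := by
        haveI : IsReduced (Spec Γ(X, W)) := inferInstance
        exact isReduced_of_isOpenImmersion hW.isoSpec.hom
      refine ⟨W, hwW, hWO, eq_of_residue _ _ fun t => ?_⟩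
      rw [← Scheme.Hom.SpecMap_residueFieldMap_fromSpecResidueField_assoc,
        ← Scheme.Hom.SpecMap_residueFieldMap_fromSpecResidueField_assoc, hres']
  choose D hwD hDO hD using key
  refine Scheme.Cover.hom_ext (Scheme.openCoverOfIsOpenCover (O : Scheme.{u})
    (fun w : O => O.ι ⁻¹ᵁ D w) ?_) _ _ fun w => ?_
  · exact TopologicalSpace.Opens.ext (Set.eq_univ_of_forall fun w =>
      TopologicalSpace.Opens.mem_iSup.2 ⟨w, hwD w⟩)
  · show (O.ι ⁻¹ᵁ D w).ι ≫ a = (O.ι ⁻¹ᵁ D w).ι ≫ b
    have hr : Set.range ((O.ι ⁻¹ᵁ D w).ι ≫ O.ι) ⊆ Set.range (D w).ι := by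
      rintro _ ⟨t, rfl⟩
      rw [Scheme.Opens.range_ι, Scheme.Hom.comp_apply]
      exact t.2
    have hl : IsOpenImmersion.lift (D w).ι _ hr ≫ X.homOfLE (hDO w) = (O.ι ⁻¹ᵁ D w).ι := by
      rw [← cancel_mono O.ι, Category.assoc, X.homOfLE_ι, IsOpenImmersion.lift_fac]
    rw [← hl, Category.assoc, Category.assoc, hD]

/-- Let S and X be locally Noetherian schemes, f : X → S a flat morphism, g : Y → S a morphism locally
of finite type, U a dense open subset of S, h : f⁻¹(U) → Y an S-morphism, Z the reduced closed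
subscheme of X with underlying space f⁻¹(S − U), and h₀ : Z → Y an S-morphism; suppose X is normal
at every point of Z. Then there is an S-morphism h' : X → Y extending h and inducing h₀ on Z if and
only if: for every spectrum S₁ of a discrete valuation ring and every morphism u : S₁ → S sending
the closed point outside U and the generic point into U, there is an S₁-morphism h'₁ : X ×_S S₁ → Y
×_S S₁ which extends the base change of h on the inverse image of U and which, at every point z₁ of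
Z ×_S S₁, agrees on Spec k(z₁) with the base change of h₀. (Morphisms into Y ×_S S₁ over S₁ are
compared through their components in Y.) -/
theorem result {X Y S : Scheme.{u}} [IsLocallyNoetherian S]
    [IsLocallyNoetherian X] (f : X ⟶ S) [Flat f] (g : Y ⟶ S) [LocallyOfFiniteType g]
    (U : S.Opens) (hU : Dense (U : Set ↥S)) (h : ↑(f ⁻¹ᵁ U) ⟶ Y) (hh : h ≫ g = (f ⁻¹ᵁ U).ι ≫ f)
    (Z : Scheme.{u}) (iZ : Z ⟶ X) [IsClosedImmersion iZ] [IsReduced Z]
    (hZ : Set.range ⇑iZ = ((f ⁻¹ᵁ U : X.Opens) : Set ↥X)ᶜ) (h₀ : Z ⟶ Y) (hh₀ : h₀ ≫ g = iZ ≫ f)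
    (hnorm : ∀ z : ↥Z, IsDomain ↑(X.presheaf.stalk (iZ z)) ∧ IsIntegrallyClosed ↑(X.presheaf.stalk (iZ z))) :
    (∃ h' : X ⟶ Y, h' ≫ g = f ∧ (f ⁻¹ᵁ U).ι ≫ h' = h ∧ iZ ≫ h' = h₀) ↔
      ∀ (R : Type u) [CommRing R] [IsDomain R] [IsDiscreteValuationRing R]
        (u : Spec (CommRingCat.of R) ⟶ S),
        u (IsLocalRing.closedPoint R) ∉ U → u (genericPoint ↥(Spec (CommRingCat.of R))) ∈ U →
        ∃ h₁ : pullback f u ⟶ pullback g u,
          h₁ ≫ pullback.snd g u = pullback.snd f u ∧
          ((pullback.fst f u) ⁻¹ᵁ (f ⁻¹ᵁ U)).ι ≫ h₁ ≫ pullback.fst g u = (pullback.fst f u ∣_ (f ⁻¹ᵁ U)) ≫ h ∧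
          ∀ z₁ : ↥(pullback (iZ ≫ f) u),
            (pullback (iZ ≫ f) u).fromSpecResidueField z₁ ≫
                pullback.lift (pullback.fst (iZ ≫ f) u ≫ iZ) (pullback.snd (iZ ≫ f) u)
                  ((Category.assoc _ _ _).trans pullback.condition) ≫ h₁ ≫ pullback.fst g u =
              (pullback (iZ ≫ f) u).fromSpecResidueField z₁ ≫ pullback.fst (iZ ≫ f) u ≫ h₀ := by
  constructor
  · rintro ⟨h', hg, hU', hZ'⟩ R _ _ _ u - -
    refine ⟨pullback.map f u g u h' (𝟙 _) (𝟙 _) (by rw [Category.comp_id, hg]) (by simp), ?_, ?_, ?_⟩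
    · exact (pullback.lift_snd _ _ _).trans (Category.comp_id _)
    · rw [show pullback.map f u g u h' (𝟙 _) (𝟙 _) _ _ ≫ pullback.fst g u = pullback.fst f u ≫ h' from
        pullback.lift_fst _ _ _, ← hU', morphismRestrict_ι_assoc]
    · intro z₁
      rw [show pullback.map f u g u h' (𝟙 _) (𝟙 _) _ _ ≫ pullback.fst g u = pullback.fst f u ≫ h' from
        pullback.lift_fst _ _ _, pullback.lift_fst_assoc, Category.assoc, hZ']
  intro H
  have hnotU : ∀ z, iZ z ∉ f ⁻¹ᵁ U := fun z => by
    have : iZ z ∈ ((f ⁻¹ᵁ U : X.Opens) : Set X)ᶜ := hZ ▸ ⟨z, rfl⟩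
    exact this
  have hmemZ : ∀ x, x ∉ f ⁻¹ᵁ U → ∃ z, iZ z = x := fun x hx => hZ.ge hx
  -- generizations in the open
  have hgen : ∀ x : X, ∃ w ∈ f ⁻¹ᵁ U, w ⤳ x := by
    intro x
    obtain ⟨A, hA, hxA, -⟩ := exists_isAffineOpen_mem_and_subset (x := f x) (U := ⊤) trivial
    haveI : NoetherianSpace ↥(A : Set S) := by
      haveI : IsNoetherianRing Γ(S, A) := IsLocallyNoetherian.component_noetherian ⟨A, hA⟩
      exact (noetherianSpace_iff_of_homeomorph hA.isoSpec.hom.homeomorph.symm).mp inferInstance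
    obtain ⟨s', ⟨hs'U, -⟩, hs'⟩ := exists_specializes_of_mem_closure_inter A.2 U.2 isClosed_univ hxA
      (by rw [Set.inter_univ]; exact hU (f x))
    obtain ⟨w, hw, rfl⟩ := Flat.generalizingMap f hs'
    exact ⟨w, hs'U, hw⟩
  have hdense : Dense ((f ⁻¹ᵁ U : X.Opens) : Set X) := fun x => by
    obtain ⟨w, hw, hwx⟩ := hgen x
    exact hwx.mem_closed isClosed_closure (subset_closure hw)
  -- the values on discrete valuation rings
  have hval : ∀ (R : Type u) [CommRing R] [IsDomain R] [IsDiscreteValuationRing R]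
      (u : Spec (CommRingCat.of R) ⟶ X) (ub : Spec (CommRingCat.of (FractionRing R)) ⟶ ↑(f ⁻¹ᵁ U)),
      u (IsLocalRing.closedPoint R) ∉ f ⁻¹ᵁ U →
      ub ≫ (f ⁻¹ᵁ U).ι = Spec.map (CommRingCat.ofHom (algebraMap R (FractionRing R))) ≫ u →
      ∃ (m : Spec (CommRingCat.of R) ⟶ Y) (z : Z)
        (φ : Z.residueField z ⟶ CommRingCat.of (IsLocalRing.ResidueField R)),
        m ≫ g = u ≫ f ∧
        Spec.map (CommRingCat.ofHom (algebraMap R (FractionRing R))) ≫ m = ub ≫ h ∧
        Spec.map φ ≫ Z.fromSpecResidueField z ≫ iZ =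
          Spec.map (CommRingCat.ofHom (IsLocalRing.residue R)) ≫ u ∧
        Spec.map (CommRingCat.ofHom (IsLocalRing.residue R)) ≫ m =
          Spec.map φ ≫ Z.fromSpecResidueField z ≫ h₀ := by
    intro R _ _ _ u ub hu hub
    let j := Spec.map (CommRingCat.ofHom (algebraMap R (FractionRing R)))
    let c := Spec.map (CommRingCat.ofHom (IsLocalRing.residue R))
    have hgU : (u ≫ f) (genericPoint ↥(Spec (CommRingCat.of R))) ∈ U := by
      have h1 : (u ≫ f) (j default) ∈ U := by
        rw [← Scheme.Hom.comp_apply, ← Category.assoc, ← hub, Scheme.Hom.comp_apply,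
          Scheme.Hom.comp_apply]
        exact (ub default).2
      exact ((genericPoint_specializes (j default)).map (u ≫ f).continuous).mem_open U.2 h1
    obtain ⟨h₁, hh₁, hh₁U, hh₁Z⟩ := H R (u ≫ f) hu hgU
    let σ : Spec (CommRingCat.of R) ⟶ pullback f (u ≫ f) := pullback.lift u (𝟙 _) (by simp)
    refine ⟨σ ≫ h₁ ≫ pullback.fst g (u ≫ f), ?_⟩
    -- the closed point
    let x := u (IsLocalRing.closedPoint R)
    obtain ⟨z, hz⟩ := hmemZ x hu
    haveI : IsIso (iZ.residueFieldMap z) := (ConcreteCategory.isIso_iff_bijective _).mpr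
      ⟨RingHom.injective _, resMap_surjective iZ z⟩
    obtain ⟨x', ψ, hψ⟩ : ∃ x' ψ, Spec.map ψ ≫ X.fromSpecResidueField x' = c ≫ u :=
      ⟨_, _, Scheme.descResidueField_stalkClosedPointTo_fromSpecResidueField _ X (c ≫ u)⟩
    obtain rfl : iZ z = x' := by
      have := congr($hψ default)
      rw [Scheme.Hom.comp_apply, Scheme.fromSpecResidueField_apply, Scheme.Hom.comp_apply] at this
      rw [this, hz]
      exact congrArg u (residue_closedPoint R _).symm
    let φ := inv (iZ.residueFieldMap z) ≫ ψ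
    have hφ : Spec.map φ ≫ Z.fromSpecResidueField z ≫ iZ = c ≫ u := by
      rw [← iZ.SpecMap_residueFieldMap_fromSpecResidueField, ← Spec.map_comp_assoc,
        IsIso.hom_inv_id_assoc, hψ]
    refine ⟨z, φ, ?_, ?_, hφ, ?_⟩
    · simp only [σ, Category.assoc]
      rw [pullback.condition, reassoc_of% hh₁, pullback.lift_snd_assoc, Category.id_comp]
    · let τ := IsOpenImmersion.lift ((pullback.fst f (u ≫ f)) ⁻¹ᵁ (f ⁻¹ᵁ U)).ι (j ≫ σ) (by
        rintro _ ⟨t, rfl⟩
        rw [Scheme.Opens.range_ι]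
        show pullback.fst f (u ≫ f) ((j ≫ σ) t) ∈ f ⁻¹ᵁ U
        rw [← Scheme.Hom.comp_apply, Category.assoc, pullback.lift_fst, ← hub, Scheme.Hom.comp_apply]
        exact (ub t).2)
      have hτ : τ ≫ _ = j ≫ σ := IsOpenImmersion.lift_fac _ _ _
      have hτ' : τ ≫ (pullback.fst f (u ≫ f) ∣_ (f ⁻¹ᵁ U)) = ub := by
        rw [← cancel_mono (f ⁻¹ᵁ U).ι, Category.assoc, morphismRestrict_ι, reassoc_of% hτ,
          pullback.lift_fst, hub]
      show j ≫ σ ≫ h₁ ≫ pullback.fst g (u ≫ f) = ub ≫ h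
      rw [← reassoc_of% hτ, hh₁U, reassoc_of% hτ']
    · let d : Spec (CommRingCat.of (IsLocalRing.ResidueField R)) ⟶ pullback (iZ ≫ f) (u ≫ f) :=
        pullback.lift (Spec.map φ ≫ Z.fromSpecResidueField z) c
          (by simp only [Category.assoc]; rw [reassoc_of% hφ])
      obtain ⟨z₁, χ, hχ⟩ : ∃ z₁ χ, Spec.map χ ≫ (pullback (iZ ≫ f) (u ≫ f)).fromSpecResidueField z₁ = d :=
        ⟨_, _, Scheme.descResidueField_stalkClosedPointTo_fromSpecResidueField _ _ d⟩
      have h1 := congrArg (fun m => Spec.map χ ≫ m) (hh₁Z z₁)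
      simp only [reassoc_of% hχ] at h1
      have e1 : d ≫ pullback.fst (iZ ≫ f) (u ≫ f) = Spec.map φ ≫ Z.fromSpecResidueField z :=
        pullback.lift_fst _ _ _
      rw [reassoc_of% e1] at h1
      refine Eq.trans ?_ h1
      show c ≫ σ ≫ _ = _
      rw [← Category.assoc, ← Category.assoc d]
      congr 1
      apply pullback.hom_ext
      · simp only [Category.assoc, σ, d]
        erw [pullback.lift_fst, pullback.lift_fst, pullback.lift_fst_assoc]
        rw [Category.assoc]
        exact hφ.symm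
      · simp only [Category.assoc, σ, d]
        erw [pullback.lift_snd, pullback.lift_snd, pullback.lift_snd]
        exact Category.comp_id _
  -- the projection
  let q := pullback.fst f g
  let hP : ↑(f ⁻¹ᵁ U) ⟶ pullback f g := pullback.lift (f ⁻¹ᵁ U).ι h hh.symm
  let zP : Z ⟶ pullback f g := pullback.lift iZ h₀ hh₀.symm
  have hloc : ∀ z : Z, ∃ (W : X.Opens), iZ z ∈ W ∧ ∃ a : (W : Scheme.{u}) ⟶ Y, a ≫ g = W.ι ≫ f ∧
      X.homOfLE (inf_le_left : W ⊓ f ⁻¹ᵁ U ≤ W) ≫ a = X.homOfLE (inf_le_right : W ⊓ f ⁻¹ᵁ U ≤ f ⁻¹ᵁ U) ≫ h ∧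
      ∀ (w : Z) (w' : (W : Scheme.{u})) (hw : W.ι w' = iZ w)
        (t : Spec (Z.residueField w) ⟶ (W : Scheme.{u})), t ≫ W.ι = Z.fromSpecResidueField w ≫ iZ →
        t ≫ a = Z.fromSpecResidueField w ≫ h₀ := by
    intro z
    haveI := (hnorm z).1
    have hk : Function.Surjective (q.residueFieldMap (zP z)) := by
      have e : (zP ≫ q).residueFieldMap z = q.residueFieldMap (zP z) ≫ zP.residueFieldMap z :=
        Scheme.residueFieldMap_comp zP q z
      have hs : Function.Surjective ((zP ≫ q).residueFieldMap z) := by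
        rw [show zP ≫ q = iZ from pullback.lift_fst _ _ _]
        exact resMap_surjective iZ z
      intro c
      obtain ⟨d, hd⟩ := hs (zP.residueFieldMap z c)
      refine ⟨d, RingHom.injective (zP.residueFieldMap z).hom ?_⟩
      rw [e] at hd
      exact hd
    obtain ⟨U', hUU', hxU', c, hcq, hch, hcx⟩ := exists_extension_of_dvr q (f ⁻¹ᵁ U) hdense hP
      (pullback.lift_fst _ _ _) (iZ z) (hnotU z) (hnorm z).2 (zP z)
      (by rw [← Scheme.Hom.comp_apply, pullback.lift_fst]) hk
      (fun R _ _ _ u hu ub hub => by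
        obtain ⟨m, z', φ, hm1, hm2, hm3, hm4⟩ := hval R u ub (hu ▸ hnotU z) hub
        refine ⟨pullback.lift u m hm1.symm, pullback.lift_fst _ _ _, ?_, ?_⟩
        · let cl := Spec.map (CommRingCat.ofHom (IsLocalRing.residue R))
          have hcl : cl default = IsLocalRing.closedPoint R := residue_closedPoint R default
          have e : cl ≫ pullback.lift u m hm1.symm = Spec.map φ ≫ Z.fromSpecResidueField z' ≫ zP := by
            apply pullback.hom_ext
            · simp only [Category.assoc, zP, cl]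
              erw [pullback.lift_fst, pullback.lift_fst]
              exact hm3.symm
            · simp only [Category.assoc, zP, cl]
              erw [pullback.lift_snd, pullback.lift_snd]
              exact hm4
          have e1 := congr($hm3 default)
          simp only [Scheme.Hom.comp_apply, Scheme.fromSpecResidueField_apply] at e1
          rw [hcl, hu] at e1
          have hzz : z' = z := iZ.isClosedEmbedding.injective e1
          rw [← hcl, ← Scheme.Hom.comp_apply, e]
          simp only [Scheme.Hom.comp_apply, Scheme.fromSpecResidueField_apply, hzz]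
        · apply pullback.hom_ext
          · simp only [Category.assoc, hP]
            erw [pullback.lift_fst, pullback.lift_fst]
            exact hub.symm
          · simp only [Category.assoc, hP]
            erw [pullback.lift_snd, pullback.lift_snd]
            exact hm2)
    obtain ⟨V, hV, hzV, -⟩ := exists_isAffineOpen_mem_and_subset (x := h₀ z) (U := ⊤) trivial
    obtain ⟨O, hO, hOV⟩ := iZ.isClosedEmbedding.isInducing.isOpen_iff.1 (h₀ ⁻¹ᵁ V).2
    let a₀ := c ≫ pullback.snd f g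
    let W : X.Opens := U'.ι ''ᵁ (a₀ ⁻¹ᵁ V) ⊓ ⟨O, hO⟩
    have hWU' : W ≤ U' := inf_le_left.trans (U'.ι_image_le _)
    refine ⟨W, ⟨⟨⟨iZ z, hxU'⟩, ?_, rfl⟩, ?_⟩, X.homOfLE hWU' ≫ a₀, ?_, ?_, ?_⟩
    · show (c ≫ pullback.snd f g) _ ∈ V
      rw [Scheme.Hom.comp_apply, hcx, ← Scheme.Hom.comp_apply, pullback.lift_snd]
      exact hzV
    · show z ∈ iZ ⁻¹' O
      rw [hOV]; exact hzV
    · simp only [a₀, Category.assoc]
      rw [← pullback.condition, reassoc_of% hcq, Scheme.homOfLE_ι_assoc]
    · have := congrArg (fun m => X.homOfLE (inf_le_right : W ⊓ f ⁻¹ᵁ U ≤ f ⁻¹ᵁ U) ≫ m ≫ pullback.snd f g) hch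
      simp only [Category.assoc, hP, pullback.lift_snd, Scheme.homOfLE_homOfLE_assoc] at this
      simp only [a₀, Scheme.homOfLE_homOfLE_assoc]
      exact this
    · intro w w' hw t ht
      obtain ⟨v, hv, hvx⟩ := hgen (iZ w)
      obtain ⟨R, i1, i2, i3, u, hu, hug⟩ := exists_dvr_of_specializes hvx (fun e => hnotU w (e ▸ hv))
      letI := i1; letI := i2; letI := i3
      let j := Spec.map (CommRingCat.ofHom (algebraMap R (FractionRing R)))
      let ub := IsOpenImmersion.lift (f ⁻¹ᵁ U).ι (j ≫ u)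
        (by rintro _ ⟨s, rfl⟩; rw [Scheme.Opens.range_ι, hug s]; exact hv)
      have hub : ub ≫ _ = j ≫ u := IsOpenImmersion.lift_fac _ _ _
      obtain ⟨m, z', φ, hm1, hm2, hm3, hm4⟩ := hval R u ub (hu ▸ hnotU w) hub
      let cl := Spec.map (CommRingCat.ofHom (IsLocalRing.residue R))
      have hcl : cl default = IsLocalRing.closedPoint R := residue_closedPoint R default
      have e1 := congr($hm3 default)
      simp only [Scheme.Hom.comp_apply, Scheme.fromSpecResidueField_apply] at e1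
      rw [hcl, hu] at e1
      obtain rfl : z' = w := iZ.isClosedEmbedding.injective e1
      have hwW : iZ z' ∈ W := hw ▸ w'.2
      let uW := IsOpenImmersion.lift W.ι u (by simpa using range_subset_of_closedPoint u W (hu ▸ hwW))
      have huW : uW ≫ W.ι = u := IsOpenImmersion.lift_fac _ _ _
      let b := uW ≫ X.homOfLE hWU' ≫ a₀
      have hbm : b = m := by
        haveI : IsDominant j := ⟨by
          show DenseRange (PrimeSpectrum.comap (algebraMap R (FractionRing R)))
          rw [PrimeSpectrum.denseRange_comap_iff_ker_le_nilRadical,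
            (RingHom.injective_iff_ker_eq_bot _).mp (IsFractionRing.injective R (FractionRing R))]
          exact bot_le⟩
        refine eq_into hV b m ?_ ?_ j ?_
        · rintro _ ⟨s, rfl⟩
          obtain ⟨p, hp, hpe⟩ := (uW s).2.1
          rw [show b s = a₀ (X.homOfLE hWU' (uW s)) from rfl]
          have : X.homOfLE hWU' (uW s) = p := U'.ι.isOpenEmbedding.injective
            (by rw [← Scheme.Hom.comp_apply, X.homOfLE_ι]; exact hpe.symm)
          rw [this]; exact hp
        · refine range_subset_of_closedPoint m V ?_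
          rw [← hcl, ← Scheme.Hom.comp_apply, hm4]
          simp only [Scheme.Hom.comp_apply, Scheme.fromSpecResidueField_apply]
          have : z' ∈ iZ ⁻¹' O := hwW.2
          rw [hOV] at this
          exact this
        · let ub' := IsOpenImmersion.lift (W ⊓ f ⁻¹ᵁ U).ι (j ≫ u) (by
            rintro _ ⟨s, rfl⟩
            rw [Scheme.Opens.range_ι]
            refine ⟨?_, by rw [hug s]; exact hv⟩
            rw [← huW, ← Category.assoc]
            exact ((j ≫ uW) s).2)
          have hub' : ub' ≫ _ = j ≫ u := IsOpenImmersion.lift_fac _ _ _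
          have e2 : j ≫ uW = ub' ≫ X.homOfLE inf_le_left := by
            rw [← cancel_mono W.ι, Category.assoc, huW, Category.assoc, X.homOfLE_ι, hub']
          have e3 : ub = ub' ≫ X.homOfLE inf_le_right := by
            rw [← cancel_mono (f ⁻¹ᵁ U).ι, hub, Category.assoc, X.homOfLE_ι, hub']
          have := congrArg (fun k => X.homOfLE (inf_le_right : W ⊓ f ⁻¹ᵁ U ≤ f ⁻¹ᵁ U) ≫ k ≫ pullback.snd f g) hch
          simp only [Category.assoc, hP, pullback.lift_snd, Scheme.homOfLE_homOfLE_assoc] at this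
          rw [hm2, e3, show j ≫ b = (j ≫ uW) ≫ X.homOfLE hWU' ≫ a₀ from (Category.assoc _ _ _).symm, e2]
          simp only [a₀, Category.assoc, Scheme.homOfLE_homOfLE_assoc]
          rw [this]
      refine eq_of_field (F := IsLocalRing.ResidueField R) φ _ _ ?_
      change _ = Spec.map φ ≫ _
      rw [← hm4, ← hbm]
      have : Spec.map φ ≫ t = cl ≫ uW := by
        rw [← cancel_mono W.ι, Category.assoc, ht, hm3, Category.assoc, huW]
      exact (Category.assoc _ _ _).symm.trans ((congrArg (fun k => k ≫ X.homOfLE hWU' ≫ a₀) this).trans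
        (Category.assoc _ _ _))
  choose W hzW a hag haU haZ using hloc
  -- glue
  let T : Option Z → X.Opens := fun i => i.elim (f ⁻¹ᵁ U) W
  let aa : ∀ i, (T i : Scheme.{u}) ⟶ Y := fun i => match i with | none => h | some z => a z
  have haag : ∀ i, aa i ≫ g = (T i).ι ≫ f := fun i => match i with | none => hh | some z => hag z
  have haaU : ∀ i, X.homOfLE (inf_le_left : T i ⊓ f ⁻¹ᵁ U ≤ T i) ≫ aa i =
      X.homOfLE (inf_le_right : T i ⊓ f ⁻¹ᵁ U ≤ f ⁻¹ᵁ U) ≫ h := fun i =>
    match i with | none => rfl | some z => haU z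
  have haaZ : ∀ i (w : Z) (t : Spec (Z.residueField w) ⟶ (T i : Scheme.{u})),
      t ≫ (T i).ι = Z.fromSpecResidueField w ≫ iZ → t ≫ aa i = Z.fromSpecResidueField w ≫ h₀ := by
    intro i w t ht
    have hw : (T i).ι (t default) = iZ w := by
      rw [← Scheme.Hom.comp_apply, ht, Scheme.Hom.comp_apply, Scheme.fromSpecResidueField_apply]
    match i with
    | none => exact absurd (hw ▸ (t default).2) (hnotU w)
    | some z => exact haZ z w _ hw t ht
  have hover : ∀ i i', X.homOfLE (inf_le_left : T i ⊓ T i' ≤ T i) ≫ aa i =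
      X.homOfLE (inf_le_right : T i ⊓ T i' ≤ T i') ≫ aa i' := by
    intro i i'
    refine eq_on_open _ (f ⁻¹ᵁ U) _ _ ?_ ?_ ?_
    · have e1 := congrArg (fun m => X.homOfLE (inf_le_inf_right (f ⁻¹ᵁ U) (inf_le_left : T i ⊓ T i' ≤ T i)) ≫ m) (haaU i)
      have e2 := congrArg (fun m => X.homOfLE (inf_le_inf_right (f ⁻¹ᵁ U) (inf_le_right : T i ⊓ T i' ≤ T i')) ≫ m) (haaU i')
      simp only [Scheme.homOfLE_homOfLE_assoc] at e1 e2 ⊢
      rw [e1, e2]
    · intro w _ hw
      obtain ⟨z, rfl⟩ := hmemZ w hw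
      exact (hnorm z).1
    · intro w hw
      obtain ⟨z, hz⟩ := hmemZ _ hw
      let t₀ := ((T i ⊓ T i' : X.Opens) : Scheme.{u}).fromSpecResidueField w
      haveI : IsIso (iZ.residueFieldMap z) := (ConcreteCategory.isIso_iff_bijective _).mpr
        ⟨RingHom.injective _, resMap_surjective iZ z⟩
      obtain ⟨x', ψ, hψ⟩ : ∃ x' ψ, Spec.map ψ ≫ X.fromSpecResidueField x' = t₀ ≫ (T i ⊓ T i').ι :=
        ⟨_, _, Scheme.descResidueField_stalkClosedPointTo_fromSpecResidueField _ X (t₀ ≫ (T i ⊓ T i').ι)⟩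
      obtain rfl : iZ z = x' := by
        have := congr($hψ default)
        simp only [Scheme.Hom.comp_apply, Scheme.fromSpecResidueField_apply, t₀] at this
        rw [this, hz]
      -- transport to the residue field of the point of the closed subscheme
      let lz : Spec (Z.residueField z) ⟶ ((T i ⊓ T i' : X.Opens) : Scheme.{u}) :=
        IsOpenImmersion.lift (T i ⊓ T i').ι (Z.fromSpecResidueField z ≫ iZ) (by
          rintro _ ⟨s, rfl⟩
          rw [Scheme.Opens.range_ι, Scheme.Hom.comp_apply, Scheme.fromSpecResidueField_apply, hz]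
          exact w.2)
      have hlz : lz ≫ _ = Z.fromSpecResidueField z ≫ iZ := IsOpenImmersion.lift_fac _ _ _
      have ht₀ : t₀ = Spec.map (inv (iZ.residueFieldMap z) ≫ ψ) ≫ lz := by
        rw [← cancel_mono (T i ⊓ T i').ι, Category.assoc, hlz,
          ← iZ.SpecMap_residueFieldMap_fromSpecResidueField, ← Spec.map_comp_assoc,
          IsIso.hom_inv_id_assoc, hψ]
      change t₀ ≫ _ = t₀ ≫ _
      rw [ht₀, Category.assoc, Category.assoc, ← Category.assoc lz, ← Category.assoc lz,
        haaZ i z (lz ≫ X.homOfLE inf_le_left) (by rw [Category.assoc, X.homOfLE_ι, hlz]),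
        haaZ i' z (lz ≫ X.homOfLE inf_le_right) (by rw [Category.assoc, X.homOfLE_ι, hlz])]
  have hT : TopologicalSpace.IsOpenCover T := TopologicalSpace.Opens.ext (Set.eq_univ_of_forall fun x => by
    rw [SetLike.mem_coe, TopologicalSpace.Opens.mem_iSup]
    by_cases hx : x ∈ f ⁻¹ᵁ U
    · exact ⟨none, hx⟩
    · obtain ⟨z, rfl⟩ := hmemZ x hx
      exact ⟨some z, hzW z⟩)
  let 𝒰 := X.openCoverOfIsOpenCover T hT
  let h' : X ⟶ Y := 𝒰.glueMorphisms aa (fun i i' => by
    let p := pullback.fst (T i).ι (T i').ι ≫ (T i).ι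
    have hr : Set.range p ⊆ Set.range (T i ⊓ T i').ι := by
      rintro _ ⟨s, rfl⟩
      rw [Scheme.Opens.range_ι]
      refine ⟨(pullback.fst (T i).ι (T i').ι s).2, ?_⟩
      have : p = pullback.snd (T i).ι (T i').ι ≫ (T i').ι := pullback.condition
      rw [this]
      exact (pullback.snd (T i).ι (T i').ι s).2
    let l := IsOpenImmersion.lift (T i ⊓ T i').ι p hr
    have hl : l ≫ _ = p := IsOpenImmersion.lift_fac _ _ _
    have e1 : l ≫ X.homOfLE inf_le_left = pullback.fst (T i).ι (T i').ι := by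
      rw [← cancel_mono (T i).ι, Category.assoc, X.homOfLE_ι, hl]
    have e2 : l ≫ X.homOfLE inf_le_right = pullback.snd (T i).ι (T i').ι := by
      rw [← cancel_mono (T i').ι, Category.assoc, X.homOfLE_ι, hl]
      exact pullback.condition
    show pullback.fst (T i).ι (T i').ι ≫ aa i = pullback.snd (T i).ι (T i').ι ≫ aa i'
    rw [← e1, ← e2, Category.assoc, Category.assoc, hover])
  have hh' : ∀ i, (T i).ι ≫ h' = aa i := fun i => 𝒰.ι_glueMorphisms aa _ i
  refine ⟨h', ?_, hh' none, ?_⟩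
  · exact Scheme.Cover.hom_ext 𝒰 _ _ fun i => by
      show (T i).ι ≫ h' ≫ g = (T i).ι ≫ f
      rw [← Category.assoc, hh', haag]
  · refine eq_of_residue _ _ fun w => ?_
    let t : Spec (Z.residueField w) ⟶ (T (some w) : Scheme.{u}) :=
      IsOpenImmersion.lift (T (some w)).ι (Z.fromSpecResidueField w ≫ iZ) (by
        rintro _ ⟨s, rfl⟩
        rw [Scheme.Opens.range_ι, Scheme.Hom.comp_apply, Scheme.fromSpecResidueField_apply]
        exact hzW w)
    have ht : t ≫ _ = Z.fromSpecResidueField w ≫ iZ := IsOpenImmersion.lift_fac _ _ _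
    refine Eq.trans ?_ (haaZ (some w) w t ht)
    exact ((congrArg (fun k => t ≫ k) (hh' (some w))).symm.trans ((Category.assoc _ _ _).symm.trans
      ((congrArg (fun k => k ≫ h') ht).trans (Category.assoc _ _ _)))).symm

end Groth.Agent.S5111
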