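import Groth.Statements.S5112
import Groth.Agent.Div61.Principal
-- import your own Groth.Agent.* helpers here

set_option autoImplicit false
universe u
open CategoryTheory CategoryTheory.Limits AlgebraicGeometry TopologicalSpace
open Div21

namespace Groth.Agent.S5112

open CategoryTheory AlgebraicGeometry TopologicalSpace

/-- The implication from (b) to (a), for an integral scheme (a normal locally Noetherian scheme is the
disjoint union of its integral components): let X be a normal locally Noetherian integral scheme and
S a subset of X. A codimension-1 cycle Z (an integer-valued function on points, zero off the points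
of codimension 1, i.e. of coheight 1, with locally finite support) is principal at a point x when
there is a nonzero rational function whose order at every codimension-1 point generizing x is the
value of Z there (the trace of Z on Spec O_{X,x} is a principal divisor). Suppose (b): for every
point x of X which is not a generization of a point of S (the closure of x does not meet S) and
whose local ring has dimension at least 2, the local ring O_{X,x} is parafactorial. Then (a): every
codimension-1 cycle which is principal at all points of S is principal at every point of X (it is
locally principal). (The published statement asserts that (a) and (b) are equivalent. The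
implication from (a) to (b) fails: on the quotient of the real 2-sphere x² + y² + z² = 1 by (x, y,
z) ↦ (−x, −y, z), a normal Noetherian integral surface with exactly two singular points and divisor
class group of order 2, take S to be one singular point; every cycle principal there is principal
everywhere, while the local ring at the other singular point has dimension 2 and is not
parafactorial. This row states the implication from (b) to (a), which the published argument does
prove.) -/
theorem result (X : Scheme.{u}) [IsIntegral X]
    [IsLocallyNoetherian X] (hX : Pi1.IsNormalScheme X) (S : Set ↥X)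
    (hpar : ∀ x : ↥X, closure {x} ∩ S = ∅ → (2 : WithBot ℕ∞) ≤ ringKrullDim ↑(X.presheaf.stalk x) →
        ParaF.IsParafactorialLocalRing ↑(X.presheaf.stalk x))
    (Z : ↥X → ℤ) (hZ : ∀ x : ↥X, Order.coheight x ≠ 1 → Z x = 0)
    (hZfin : ∀ x : ↥X, ∃ W : X.Opens, x ∈ W ∧ {z : ↥X | z ∈ W ∧ Z z ≠ 0}.Finite)
    (hS : ∀ s : ↥X, s ∈ S →
        ∃ f : ↑X.functionField, f ≠ 0 ∧ ∀ x' : ↥X, Order.coheight x' = 1 → x' ⤳ s → Z x' = Scheme.ord f x')
    (x : ↥X) :
    ∃ f : ↑X.functionField, f ≠ 0 ∧ ∀ x' : ↥X, Order.coheight x' = 1 → x' ⤳ x → Z x' = Scheme.ord f x' := by

  obtain ⟨F, hF, s, hs, hord⟩ := Ref1.exists_ref1_of_divisor hX Z (fun z => by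
    obtain ⟨W, hz, hW⟩ := hZfin z
    exact ⟨W, W.2.mem_nhds hz, hW.subset fun y hy => ⟨hy.1, hy.2⟩⟩) hZ
  have hinv : PicF.IsInvertible F := Div61.isInvertible_of_parafactorial hX hF hs fun y hy hdim => hpar y (by
    rw [Set.eq_empty_iff_forall_notMem]
    rintro z ⟨hzy, hzS⟩
    obtain ⟨f, hf, hfz⟩ := hS z hzS
    refine hy (Div61.PrincipalAt.gen (x := z) ⟨f, hf, fun w hw hwz => ?_⟩ (specializes_iff_mem_closure.mpr hzy))
    rw [hord w hw]
    exact hfz w hw hwz) hdim
  obtain ⟨f, hf, hfx⟩ := Div61.principalAt_of_isInvertible hinv hs x
  exact ⟨f, hf, fun y hy hyx => by rw [← hord y hy]; exact hfx y hy hyx⟩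

end Groth.Agent.S5112
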