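import Groth.Statements.S5113
-- import your own Groth.Agent.* helpers here

set_option autoImplicit false
universe u
open SGA1

namespace Groth.Agent.S5113

open AlgebraicGeometry CategoryTheory CategoryTheory.Limits in
/-- Let g : S' ⟶ S be submersive, i.e. surjective and making S a topological quotient of S'. Then the
sequence of sets of open subsets Ouv(S) → Ouv(S') ⇉ Ouv(S' ×_S S') (inverse images along g and along
the two projections) is exact: an open subset U' of S' whose inverse images under the two
projections of S' ×_S S' agree is the inverse image of one and only one open subset of S. -/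
theorem result {S' S : Scheme.{u}} (g : S' ⟶ S)
    (hg : Topology.IsQuotientMap g.base) (U' : S'.Opens)
    (h : (pullback.fst g g) ⁻¹ᵁ U' = (pullback.snd g g) ⁻¹ᵁ U') :
    ∃! U : S.Opens, g ⁻¹ᵁ U = U' := by
  have key : ∀ x x' : S', g x = g x' → x ∈ U' → x' ∈ U' := by
    intro x x' he hx
    obtain ⟨z, h1, h2⟩ := Scheme.Pullback.exists_preimage_pullback x x' he
    have hz : z ∈ (pullback.fst g g) ⁻¹ᵁ U' := by change _ ∈ U'; rw [h1]; exact hx
    rw [h] at hz
    change _ ∈ U' at hz
    rwa [h2] at hz
  have hpre : g.base ⁻¹' (g.base '' (U' : Set S')) = (U' : Set S') := by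
    ext x
    exact ⟨fun ⟨y, hy, he⟩ => key y x he hy, fun hx => ⟨x, hx, rfl⟩⟩
  refine ⟨⟨g.base '' (U' : Set S'), hg.isOpen_preimage.1 (by rw [hpre]; exact U'.isOpen)⟩,
    TopologicalSpace.Opens.ext hpre, fun V hV => TopologicalSpace.Opens.ext ?_⟩
  have : (g ⁻¹ᵁ V : Set S') = g.base ⁻¹' (V : Set S) := rfl
  rw [hV] at this
  change (V : Set S) = g.base '' (U' : Set S')
  rw [this, Set.image_preimage_eq _ hg.surjective]

end Groth.Agent.S5113
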