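import Groth.Statements.S5116
import Groth.Agent.FEtCat.CompleteProper
import Groth.Agent.S0269

set_option backward.isDefEq.respectTransparency.types false

set_option autoImplicit false
universe u
open Pi1

namespace Groth.Agent.S5116

open AlgebraicGeometry CategoryTheory CategoryTheory.Limits in
/-- The injectivity of π₁ of the geometric closed fibre into π₁ of the total space, in terms of covers.
Let A be a complete Noetherian local ring with residue field k, k̄ an algebraic closure of k, ξ :
Spec k̄ ⟶ Spec A the resulting geometric point, X a proper A-scheme with X ×_A Spec k̄ connected.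
Then every finite etale cover of X ×_A Spec k̄ admits an open and closed immersion, over X ×_A Spec
k̄, into the base change of some finite etale cover of X. -/
theorem result (A : Type u) [CommRing A]
    [IsNoetherianRing A] [IsLocalRing A] [IsAdicComplete (IsLocalRing.maximalIdeal A) A]
    {X : Scheme.{u}} (f : X ⟶ Spec (CommRingCat.of A)) [IsProper f]
    (ξ : Spec (CommRingCat.of (AlgebraicClosure (IsLocalRing.ResidueField A))) ⟶ Spec (CommRingCat.of A))
    (hξ : ξ = Spec.map (CommRingCat.ofHom ((algebraMap (IsLocalRing.ResidueField A)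
      (AlgebraicClosure (IsLocalRing.ResidueField A))).comp (IsLocalRing.residue A))))
    [ConnectedSpace ↥(pullback f ξ)] (V : FEt.Cat (pullback f ξ)) :
    ∃ (U : FEt.Cat X) (ι : V ⟶ (FEt.restrict (pullback.fst f ξ)).obj U),
      IsOpenImmersion ι.left ∧ IsClosedImmersion ι.left := by
  let I := IsLocalRing.maximalIdeal A
  let i : Spec (CommRingCat.of (IsLocalRing.ResidueField A)) ⟶ Spec (CommRingCat.of A) :=
    Spec.map (CommRingCat.ofHom (Ideal.Quotient.mk I))
  let bk : Spec (CommRingCat.of (AlgebraicClosure (IsLocalRing.ResidueField A))) ⟶ Spec (CommRingCat.of (IsLocalRing.ResidueField A)) :=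
    Spec.map (CommRingCat.ofHom (algebraMap (IsLocalRing.ResidueField A) (AlgebraicClosure (IsLocalRing.ResidueField A))))
  have hbk : bk ≫ i = ξ := by
    rw [hξ, ← Spec.map_comp]
    rfl
  let fk := pullback.snd f i
  let e : pullback fk bk ≅ pullback f ξ :=
    pullbackLeftPullbackSndIso f i bk ≪≫ pullback.congrHom rfl hbk
  have : ConnectedSpace ↥(pullback fk bk) :=
    e.inv.homeomorph.surjective.connectedSpace e.inv.continuous
  have : CompactSpace ↥(pullback f i) := QuasiCompact.compactSpace_of_compactSpace fk
  have : QuasiSeparatedSpace ↥(pullback f i) := quasiSeparatedSpace_of_quasiSeparated fk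
  obtain ⟨U₀, ι₀, ho, hc⟩ := S0269.result (IsLocalRing.ResidueField A) fk ((FEt.restrict e.hom).obj V)
  obtain ⟨U, ⟨iso⟩⟩ := FEtCat.CompleteProper.exists_extension I f U₀
  have he : pullback.fst fk bk ≫ pullback.fst f i = e.hom ≫ pullback.fst f ξ := by
    simp only [e, Iso.trans_hom, pullback.congrHom_hom, Category.assoc, pullback.map, pullback.lift_fst, Category.comp_id]
    exact (pullbackLeftPullbackSndIso_hom_fst f i bk).symm
  let j : (FEt.restrict (pullback.fst fk bk)).obj U₀ ≅
      (FEt.restrict e.hom).obj ((FEt.restrict (pullback.fst f ξ)).obj U) :=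
    (FEt.restrict (pullback.fst fk bk)).mapIso iso.symm ≪≫
      ((MorphismProperty.Over.pullbackComp (pullback.fst fk bk) (pullback.fst f i) _ rfl).app U).symm ≪≫
      (MorphismProperty.Over.pullbackCongr he).app U ≪≫
      (MorphismProperty.Over.pullbackComp e.hom (pullback.fst f ξ) _ rfl).app U
  have := Groth.Agent.S0238.result e.hom
  let ι : V ⟶ (FEt.restrict (pullback.fst f ξ)).obj U := (FEt.restrict e.hom).preimage (ι₀ ≫ j.hom)
  have : IsIso j.hom.left := ((MorphismProperty.Over.forget _ _ _ ⋙ Over.forget _).mapIso j).isIso_hom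
  have hm : ((FEt.restrict e.hom).map ι).left = ι₀.left ≫ j.hom.left :=
    congrArg (fun q => q.left) ((FEt.restrict e.hom).map_preimage (ι₀ ≫ j.hom))
  have hsq : ((FEt.restrict e.hom).map ι).left ≫ pullback.fst ((FEt.restrict (pullback.fst f ξ)).obj U).hom e.hom =
      pullback.fst V.hom e.hom ≫ ι.left := pullback.lift_fst _ _ _
  have hι : ι.left = inv (pullback.fst V.hom e.hom) ≫ ι₀.left ≫ j.hom.left ≫
      pullback.fst ((FEt.restrict (pullback.fst f ξ)).obj U).hom e.hom := by
    rw [IsIso.eq_inv_comp, ← hsq, hm]
    exact Category.assoc _ _ _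
  refine ⟨U, ι, ?_, ?_⟩
  · rw [hι]
    refine MorphismProperty.comp_mem @IsOpenImmersion _ _ ?_ (MorphismProperty.comp_mem @IsOpenImmersion _ _ ho
      (MorphismProperty.comp_mem @IsOpenImmersion _ _ ?_ (MorphismProperty.pullback_fst _ _ inferInstance))) <;> infer_instance
  · rw [hι]
    refine MorphismProperty.comp_mem @IsClosedImmersion _ _ ?_ (MorphismProperty.comp_mem @IsClosedImmersion _ _ hc
      (MorphismProperty.comp_mem @IsClosedImmersion _ _ ?_ (MorphismProperty.pullback_fst _ _ inferInstance))) <;> infer_instance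

end Groth.Agent.S5116
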