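import Groth.Statements.S5117
import Groth.Agent.FEtCat.AlgClosureStage
import Groth.Agent.FEtCat.Galois
import Groth.Agent.GalCat.Exact
import Groth.Agent.GalCat.Unique
import Groth.Agent.S0268

set_option autoImplicit false
universe u
open Pi1

namespace Groth.Agent.S5117

open AlgebraicGeometry CategoryTheory CategoryTheory.Limits in
/-- (ii bis) ⇒ (i), over a field. Let k be a field with algebraic closure k̄, X a quasi-compact and
quasi-separated k-scheme such that X ×_k k̄ is connected, and X' a connected finite etale cover of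
X. If the induced cover X' ×_k k̄ → X ×_k k̄ admits a section, then X' is isomorphic over X to X ×_k
S' for some finite etale k-scheme S'. (The published statement allows the spectrum of an Artinian
local ring with residue field k as base and asks only that X be quasi-compact; this row takes a
field and X quasi-compact and quasi-separated.) -/
theorem result (k : Type u) [Field k] {X : Scheme.{u}}
    (f : X ⟶ Spec (CommRingCat.of k)) [CompactSpace X] [QuasiSeparatedSpace X]
    [ConnectedSpace ↥(pullback f (Spec.map (CommRingCat.ofHom (algebraMap k (AlgebraicClosure k)))))]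
    (X' : FEt.Cat X) [ConnectedSpace X'.left]
    (σ : pullback f (Spec.map (CommRingCat.ofHom (algebraMap k (AlgebraicClosure k)))) ⟶ X'.left)
    (hσ : σ ≫ X'.hom = pullback.fst f (Spec.map (CommRingCat.ofHom (algebraMap k (AlgebraicClosure k))))) :
    ∃ S' : FEt.Cat (Spec (CommRingCat.of k)), Nonempty ((FEt.restrict f).obj S' ≅ X') := by
  let L := AlgebraicClosure k
  let bk : Spec (CommRingCat.of L) ⟶ Spec (CommRingCat.of k) :=
    Spec.map (CommRingCat.ofHom (algebraMap k L))
  let b := pullback.fst f bk
  have : Surjective bk :=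
    ⟨fun x => ⟨default, Subsingleton.elim (α := PrimeSpectrum k) _ _⟩⟩
  have : Surjective b := inferInstanceAs (Surjective (pullback.fst f bk))
  have : ConnectedSpace X := b.surjective.connectedSpace b.continuous
  have : ConnectedSpace (Spec (CommRingCat.of k)) :=
    inferInstanceAs (ConnectedSpace (PrimeSpectrum k))
  let := FEtCat.Galois.galoisCategory (X := X)
  let := FEtCat.Galois.galoisCategory (X := Spec (CommRingCat.of k))
  obtain ⟨S, φ, -, hS, -⟩ := FEtCat.AlgClosureStage.exists_etale_stage_hom k f L X' σ hσ
  obtain ⟨x₀⟩ := (inferInstance : Nonempty X)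
  obtain ⟨ξ, -⟩ := FEtCat.Sigma.exists_geomPoint x₀
  let F' := FEtCat.Basic.fibre ξ
  let H := FEt.restrict f
  have := GalCat.Unique.fiberFunctor_comp H F'
  obtain ⟨h1, h2⟩ := S0268.result k f
  have hsurj := (GalCat.Exact.surjective_iff H F').mpr ⟨h1, h2⟩
  obtain ⟨S', hS'⟩ := GalCat.Exact.exists_iso_of_ker_trivial H F' hsurj X' fun τ hτ x => by
    have : Surjective f := ⟨fun z => ⟨x₀, Subsingleton.elim (α := PrimeSpectrum k) _ _⟩⟩
    have hf : Surjective (pullback.fst S.hom f) := inferInstance
    have : Nonempty (H.obj S).left := ⟨(hf.1 hS.some).choose⟩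
    have hrange : Set.range φ.left = Set.univ := by
      have := (FEtCat.Basic.prop_left φ).1
      have := (FEtCat.Basic.prop_left φ).2
      exact IsClopen.eq_univ ⟨φ.left.isClosedMap.isClosed_range, φ.left.isOpenMap.isOpen_range⟩
        (Set.range_nonempty _)
    obtain ⟨z, hz⟩ : x.1 default ∈ Set.range φ.left := hrange ▸ Set.mem_univ _
    obtain ⟨⟨p, hp⟩, -⟩ := FEtCat.Count.exists_sec_apply_eq φ.left x.1 z hz
    have hy : p ≫ (H.obj S).hom = ξ := by
      rw [← MorphismProperty.Over.w φ, ← Category.assoc, hp]
      exact x.2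
    obtain ⟨y, hy'⟩ : ∃ y : F'.obj (H.obj S), F'.map φ y = x := ⟨⟨p, hy⟩, Subtype.ext hp⟩
    rw [← hy', GalCat.Basic.smul_map, GalCat.Exact.ker_le_of_exists_iso H F' (Iso.refl (H.obj S)) τ hτ y]
  exact ⟨S', hS'⟩

end Groth.Agent.S5117
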