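import Groth.Statements.S5118
import Mathlib.RingTheory.Etale.StandardEtale
import Mathlib.Algebra.TrivSqZeroExt.Basic

set_option autoImplicit false
universe u
open SGA1t

namespace Groth.Agent.S5118

open Polynomial in
/-- The etaleness criterion for the Kummer group scheme: Let A be a commutative ring and n ≥ 1. The
group scheme μ_n over Spec A is the spectrum of A[t]/(t^n − 1), a free A-module of rank n; it is
etale over A if and only if n is a unit of A (equivalently, n is prime to the characteristic of the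
residue field at every point of Spec A). -/
theorem result (A : Type u) [CommRing A] (n : ℕ) (hn : 1 ≤ n) :
    Algebra.Etale A (AdjoinRoot ((X : A[X]) ^ n - 1)) ↔ IsUnit ((n : ℕ) : A) := by
  constructor
  · intro het
    let A' := A ⧸ Ideal.span {(n : A)}
    have hroot : ∀ e : TrivSqZeroExt A' A', (n : TrivSqZeroExt A' A') = 0 → e ^ 2 = 0 →
        aeval (1 + e) ((X : A[X]) ^ n - 1) = 0 := by
      intro e hn0 he
      obtain ⟨k, rfl⟩ : ∃ k, n = k + 1 := ⟨n - 1, by omega⟩
      have h0 : ∀ j : ℕ, (1 + e) ^ j = 1 + (j : ℕ) * e := by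
        intro j
        induction j with
        | zero => simp
        | succ j ih =>
          rw [pow_succ, ih]
          push_cast
          linear_combination (j : TrivSqZeroExt A' A') * he
      have h1 := h0 (k + 1)
      simp [h1, hn0]
    have hn0 : (n : TrivSqZeroExt A' A') = 0 := by
      have : (n : A') = 0 := by
        rw [← map_natCast (Ideal.Quotient.mk (Ideal.span {(n : A)})), Ideal.Quotient.eq_zero_iff_mem]
        exact Ideal.mem_span_singleton_self _
      rw [← TrivSqZeroExt.inl_natCast, this, TrivSqZeroExt.inl_zero]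
    let ε : TrivSqZeroExt A' A' := TrivSqZeroExt.inr 1
    have hε : ε ^ 2 = 0 := by simp [ε, pow_two, TrivSqZeroExt.inr_mul_inr]
    let g₁ : AdjoinRoot ((X : A[X]) ^ n - 1) →ₐ[A] TrivSqZeroExt A' A' :=
      AdjoinRoot.liftAlgHom _ (Algebra.ofId A _) (1 + ε) (hroot ε hn0 hε)
    let g₂ : AdjoinRoot ((X : A[X]) ^ n - 1) →ₐ[A] TrivSqZeroExt A' A' :=
      AdjoinRoot.liftAlgHom _ (Algebra.ofId A _) (1 + 0) (hroot 0 hn0 (by simp))
    have hI : IsNilpotent (Ideal.span {ε}) := ⟨2, by simp [Ideal.span_singleton_pow, hε]⟩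
    have hg : g₁ = g₂ := Algebra.FormallyUnramified.ext (I := Ideal.span {ε}) hI fun x => by
      have : (Ideal.Quotient.mkₐ A (Ideal.span {ε})).comp g₁ =
          (Ideal.Quotient.mkₐ A (Ideal.span {ε})).comp g₂ := by
        apply AdjoinRoot.algHom_ext
        have e1 : g₁ (AdjoinRoot.root _) = 1 + ε := AdjoinRoot.lift_root (hroot ε hn0 hε)
        have e2 : g₂ (AdjoinRoot.root _) = 1 + 0 := AdjoinRoot.lift_root (hroot 0 hn0 (by simp))
        simp [e1, e2, Ideal.Quotient.eq_zero_iff_mem, Ideal.mem_span_singleton_self]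
      exact congr($this x)
    have h0 : ε = 0 := by
      have := congr($hg (AdjoinRoot.root _))
      rw [show g₁ (AdjoinRoot.root _) = 1 + ε from AdjoinRoot.lift_root (hroot ε hn0 hε),
        show g₂ (AdjoinRoot.root _) = 1 + 0 from AdjoinRoot.lift_root (hroot 0 hn0 (by simp))] at this
      simpa using this
    have h1 : (1 : A') = 0 := congrArg TrivSqZeroExt.snd h0
    rw [← map_one (Ideal.Quotient.mk (Ideal.span {(n : A)})), Ideal.Quotient.eq_zero_iff_mem,
      Ideal.mem_span_singleton] at h1
    exact isUnit_of_dvd_one h1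
  · intro hn'
    obtain ⟨u, hu⟩ := hn'
    obtain ⟨k, rfl⟩ : ∃ k, n = k + 1 := ⟨n - 1, by omega⟩
    let P : StandardEtalePair A :=
      { f := X ^ (k + 1) - 1
        monic_f := by simpa using monic_X_pow_sub_C (1 : A) (Nat.succ_ne_zero k)
        g := 1
        cond := ⟨C (↑u⁻¹ : A) * X, -1, 0, by
          have h : (C ((k + 1 : ℕ) : A) : A[X]) * C (↑u⁻¹ : A) = 1 := by
            rw [← C_mul, ← hu, u.mul_inv, C_1]
          rw [derivative_sub, derivative_one, sub_zero, derivative_X_pow, Nat.add_sub_cancel, pow_zero]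
          linear_combination (X : A[X]) ^ (k + 1) * h⟩ }
    have e : P.Ring ≃ₐ[A] AdjoinRoot ((X : A[X]) ^ (k + 1) - 1) :=
      P.equivAwayAdjoinRoot.trans (((IsLocalization.atUnit (AdjoinRoot P.f) (Localization.Away (AdjoinRoot.mk P.f P.g))
        (AdjoinRoot.mk P.f P.g) (by simp [P])).symm).restrictScalars A)
    exact Algebra.Etale.of_equiv e

end Groth.Agent.S5118
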