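import Groth.Statements.S5119

set_option autoImplicit false
universe u
open scoped LaurentPolynomial
open SGA1t

namespace Groth.Agent.S5119

/-- The computation behind the exactness of the Kummer sequence 0 → μ_n → G_m → G_m → 0, i.e. faithful
flatness of the n-th power map u_n of G_m: Let A be a commutative ring and n ≥ 1, and let u_n be the
ring endomorphism of A[t, t⁻¹] with u_n(t) = t^n (on monomials, t^k ↦ t^{nk}). Then A[t, t⁻¹] is
free of rank n over itself via u_n, with basis 1, t, …, t^{n−1}: every Laurent polynomial q can be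
written in exactly one way as Σ_{i<n} u_n(c_i) t^i. -/
theorem result (A : Type u) [CommRing A] (n : ℕ) (hn : 1 ≤ n) (q : A[T;T⁻¹]) :
    ∃! c : Fin n → A[T;T⁻¹],
      q = ∑ i : Fin n, (AddMonoidAlgebra.mapDomainRingHom A (AddMonoidHom.mulLeft (n : ℤ)) : A[T;T⁻¹] →+* A[T;T⁻¹]) (c i) *
        LaurentPolynomial.T (i : ℤ) := by
  have hn' : (n : ℤ) ≠ 0 := by omega
  set φ : A[T;T⁻¹] →+* A[T;T⁻¹] := AddMonoidAlgebra.mapDomainRingHom A (AddMonoidHom.mulLeft (n : ℤ))
  let F : (Fin n → A[T;T⁻¹]) →+ A[T;T⁻¹] :=
    { toFun := fun c => ∑ i : Fin n, φ (c i) * LaurentPolynomial.T (i : ℤ)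
      map_zero' := by simp
      map_add' := fun a b => by simp [add_mul, Finset.sum_add_distrib] }
  have hφ : ∀ (m : ℤ) (a : A), φ (AddMonoidAlgebra.single m a) = AddMonoidAlgebra.single ((n : ℤ) * m) a := by
    intro m a
    exact AddMonoidAlgebra.mapDomain_single
  have hcoeff : ∀ (p : A[T;T⁻¹]) (m : ℤ) (i j : Fin n),
      (φ p * LaurentPolynomial.T (i : ℤ)).coeff ((n : ℤ) * m + j) = if i = j then p.coeff m else 0 := by
    intro p m i j
    induction p using LaurentPolynomial.induction_on' with
    | add p q hp hq =>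
      rw [map_add φ, add_mul, AddMonoidAlgebra.coeff_add, Finsupp.add_apply, hp, hq]
      split <;> simp
    | C_mul_T k a =>
      rw [← LaurentPolynomial.single_eq_C_mul_T, hφ]
      simp only [LaurentPolynomial.T, AddMonoidAlgebra.single_mul_single, mul_one,
        AddMonoidAlgebra.coeff_single, Finsupp.single_apply]
      by_cases hij : i = j
      · subst hij
        simp [hn', show n ≠ 0 by omega]
      · rw [if_neg hij, if_neg]
        intro h
        apply hij
        have h' := congrArg (fun z : ℤ => z % (n : ℤ)) h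
        have hi := i.isLt
        have hj := j.isLt
        simp only [Int.mul_add_emod_self_left] at h'
        rw [Int.emod_eq_of_lt (by omega) (by omega), Int.emod_eq_of_lt (by omega) (by omega)] at h'
        exact Fin.ext (by omega)
  have hinj : Function.Injective F := by
    intro c d h
    funext j
    refine LaurentPolynomial.ext fun m => ?_
    have := congrArg (fun z => (z : A[T;T⁻¹]).coeff ((n : ℤ) * m + j)) h
    simp only [F, AddMonoidHom.coe_mk, ZeroHom.coe_mk, AddMonoidAlgebra.coeff_sum, Finsupp.coe_finsetSum,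
      Finset.sum_apply, hcoeff] at this
    simpa using this
  have hsurj : ∀ q, ∃ c, F c = q := by
    intro q
    induction q using LaurentPolynomial.induction_on' with
    | add p q hp hq =>
      obtain ⟨c, rfl⟩ := hp
      obtain ⟨d, rfl⟩ := hq
      exact ⟨c + d, map_add F c d⟩
    | C_mul_T k a =>
      have h0 := Int.emod_nonneg k hn'
      have h1 := Int.emod_lt_of_pos k (show (0:ℤ) < n by omega)
      let i : Fin n := ⟨(k % n).toNat, by omega⟩
      refine ⟨Pi.single i (AddMonoidAlgebra.single (k / n) a), ?_⟩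
      have hi : (((i : ℕ)) : ℤ) = k % n := by simp [i, h0]
      simp only [F, AddMonoidHom.coe_mk, ZeroHom.coe_mk]
      rw [Finset.sum_eq_single i (fun j _ hj => by simp [Pi.single_eq_of_ne hj]) (by simp), Pi.single_eq_same,
        hφ, ← LaurentPolynomial.single_eq_C_mul_T, LaurentPolynomial.T, AddMonoidAlgebra.single_mul_single,
        mul_one, hi, Int.mul_ediv_add_emod]
  obtain ⟨c, hc⟩ := hsurj q
  exact ⟨c, hc.symm, fun d hd => hinj (hd.symm.trans hc.symm)⟩

end Groth.Agent.S5119
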