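import Groth.Statements.S5120

set_option autoImplicit false
universe u
open SGA1t

namespace Groth.Agent.S5120

open Polynomial in
/-- The computation behind the exactness of the Artin-Schreier sequence 0 → Z/p → G_a → G_a → 0 in
characteristic p, i.e. faithful flatness of ℘ = id − F: Let p be a prime and A a ring of
characteristic p. Then A[t] is free of rank p over itself via the endomorphism t ↦ t − t^p, with
basis 1, t, …, t^{p−1}: every polynomial q can be written in exactly one way as Σ_{i<p} c_i(t − t^p)
t^i. -/
theorem result (p : ℕ) [Fact p.Prime] (A : Type u) [CommRing A] [CharP A p]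
    (q : A[X]) :
    ∃! c : Fin p → A[X], q = ∑ i : Fin p, aeval (X - X ^ p : A[X]) (c i) * X ^ (i : ℕ) := by
  let φ : A[X] →ₐ[A] A[X] := aeval (X - X ^ p : A[X])
  let g : A[X][X] := X ^ p + (C (X : A[X]) - X)
  have hp1 : 1 < p := (Fact.out : p.Prime).one_lt
  have : Nontrivial A := CharP.nontrivial_of_char_ne_one (R := A) (v := p) (by omega)
  have hdeg : degree (C (X : A[X]) - X : A[X][X]) < (p : WithBot ℕ) := by
    refine lt_of_le_of_lt (degree_sub_le _ _) (max_lt (lt_of_le_of_lt degree_C_le (by exact_mod_cast (by omega : 0 < p))) ?_)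
    rw [degree_X]; exact_mod_cast hp1
  have hg : g.Monic := monic_X_pow_add hdeg
  have hnat : g.natDegree = p := by
    apply natDegree_eq_of_degree_eq_some
    simp only [g]
    rw [degree_add_eq_left_of_degree_lt (by rwa [degree_X_pow]), degree_X_pow]
  let fwd : AdjoinRoot g →+* A[X] := AdjoinRoot.lift φ.toRingHom X (by simp [g, φ])
  let bwd : A[X] →+* AdjoinRoot g := eval₂RingHom ((AdjoinRoot.of g).comp C) (AdjoinRoot.root g)
  have h1 : ∀ x, fwd (bwd x) = x := by
    have : fwd.comp bwd = RingHom.id _ := by
      apply Polynomial.ringHom_ext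
      · intro a; simp [fwd, bwd, φ]
      · simp [fwd, bwd]
    intro x; exact congr($this x)
  have hroot : AdjoinRoot.root g ^ p + (AdjoinRoot.of g X - AdjoinRoot.root g) = 0 := by
    have := AdjoinRoot.eval₂_root g
    simpa [g] using this
  have h2 : ∀ x, bwd (fwd x) = x := by
    have : bwd.comp fwd = RingHom.id _ := by
      apply AdjoinRoot.ringHom_ext
      · apply Polynomial.ringHom_ext
        · intro a; simp [fwd, bwd, φ]
        · simp [fwd, bwd, φ]
          linear_combination -hroot
      · simp [fwd, bwd]
    intro x; exact congr($this x)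
  let b := (AdjoinRoot.powerBasisAux' hg).reindex (finCongr hnat)
  have hb : ∀ i : Fin p, b i = AdjoinRoot.root g ^ (i : ℕ) := by
    intro i
    have := (AdjoinRoot.powerBasis' hg).basis_eq_pow (finCongr hnat.symm i)
    simp [b, AdjoinRoot.powerBasis'] at this ⊢
    exact this
  have key : ∀ c : Fin p → A[X], fwd (∑ i, c i • b i) = ∑ i : Fin p, φ (c i) * X ^ (i : ℕ) := by
    intro c
    simp [hb, fwd, Algebra.smul_def, AdjoinRoot.algebraMap_eq]
  refine ⟨fun i => b.repr (bwd q) i, ?_, ?_⟩
  · show q = _
    rw [← key, b.sum_repr, h1]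
  · intro c hc
    have h3 : bwd q = ∑ i, c i • b i := by rw [hc, ← key, h2]
    funext i
    rw [h3, b.repr_sum_self]

end Groth.Agent.S5120
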