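import Groth.Statements.S5122
import Groth.Agent.SGA1Desc.EffDescend
import Groth.Agent.SGA1Desc.EffFam
-- import your own Groth.Agent.* helpers here

set_option autoImplicit false
universe u
open SGA1

namespace Groth.Agent.S5122

open AlgebraicGeometry CategoryTheory CategoryTheory.Limits in
/-- Let g : S' ⟶ S be universally submersive, D a descent datum relative to g (functor-of-points form,
for the one-member family g) whose underlying S'-scheme is etale, separated and of finite type over
S', and p : S₁ ⟶ S faithfully flat and quasi-compact. Then D is effective in the fibred category of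
etale separated finite-type schemes (isomorphic to the canonical datum of some etale, separated,
quasi-compact S-scheme) if and only if the descent datum obtained by base change along p, relative
to S' ×_S S₁ ⟶ S₁, is effective in the same sense over S₁. -/
theorem result {S S' S₁ : Scheme.{u}} (g : S' ⟶ S) (hg : SGA1.UnivSubmersive g)
    (D : Desc.SchDDFam (fun _ : PUnit.{1} => g))
    [Etale (D.obj PUnit.unit).hom] [IsSeparated (D.obj PUnit.unit).hom] [QuasiCompact (D.obj PUnit.unit).hom]
    (p : S₁ ⟶ S) [Flat p] [Surjective p] [QuasiCompact p] :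
    (∃ U : Over S, Etale U.hom ∧ IsSeparated U.hom ∧ QuasiCompact U.hom ∧ Nonempty ((Desc.toDDFam (fun _ : PUnit.{1} => g)).obj U ≅ D)) ↔
      (∃ U : Over S₁, Etale U.hom ∧ IsSeparated U.hom ∧ QuasiCompact U.hom ∧
        Nonempty ((Desc.toDDFam (fun _ : PUnit.{1} => pullback.snd g p)).obj U ≅
          (Desc.pullDDFam (f := fun _ : PUnit.{1} => g) (f' := fun _ : PUnit.{1} => pullback.snd g p)
        (α := id) (p := p) (p' := fun _ => pullback.fst g p) (fun _ => pullback.condition)).obj D)) := by
  constructor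
  · rintro h
    obtain ⟨E, hs, hc⟩ := (Groth.Agent.SGA1Desc.eff_id_iff' D
      (fun {U} (q : U ⟶ S) => IsSeparated q ∧ QuasiCompact q)).1 (by
        obtain ⟨U, h1, h2, h3, h4⟩ := h
        exact ⟨U, h1, ⟨h2, h3⟩, h4⟩)
    obtain ⟨U, h1, ⟨h2, h3⟩, h4⟩ := (Groth.Agent.SGA1Desc.eff_iff' (D := D) (j := p)
      (fun {U} (q : U ⟶ S₁) => IsSeparated q ∧ QuasiCompact q)).2
      ⟨E.pull p p (Category.comp_id _), MorphismProperty.pullback_snd _ _ hs,
        MorphismProperty.pullback_snd _ _ hc⟩
    exact ⟨U, h1, h2, h3, h4⟩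
  · rintro h
    obtain ⟨E, hs, hc⟩ := (Groth.Agent.SGA1Desc.eff_iff' (D := D) (j := p)
      (fun {U} (q : U ⟶ S₁) => IsSeparated q ∧ QuasiCompact q)).1 (by
        obtain ⟨U, h1, h2, h3, h4⟩ := h
        exact ⟨U, h1, ⟨h2, h3⟩, h4⟩)
    obtain ⟨E', hs', hc'⟩ := Groth.Agent.SGA1Desc.exists_eff_descend E hg
    obtain ⟨U, h1, ⟨h2, h3⟩, h4⟩ := (Groth.Agent.SGA1Desc.eff_id_iff' D
      (fun {U} (q : U ⟶ S) => IsSeparated q ∧ QuasiCompact q)).2 ⟨E', hs', hc'⟩
    exact ⟨U, h1, h2, h3, h4⟩

end Groth.Agent.S5122
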