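import Groth.Statements.S5123
import Groth.Agent.SGA1Desc.EffFam
-- import your own Groth.Agent.* helpers here

set_option autoImplicit false
universe u
open SGA1

namespace Groth.Agent.S5123

open AlgebraicGeometry CategoryTheory CategoryTheory.Limits in
/-- Let g : S' ⟶ S be universally submersive, D a descent datum relative to g (functor-of-points form,
for the one-member family g) whose underlying S'-scheme is etale over S', and (S_i)_{i ∈ ι} a cover
of S by open subschemes. Then D is effective in the fibred category of etale schemes (isomorphic to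
the canonical datum of some etale S-scheme) if and only if for every i the descent datum obtained by
base change along S_i ⟶ S, relative to S' ×_S S_i ⟶ S_i, is the canonical datum of some etale
S_i-scheme. -/
theorem result {S S' : Scheme.{u}} (g : S' ⟶ S) (hg : SGA1.UnivSubmersive g)
    (D : Desc.SchDDFam (fun _ : PUnit.{1} => g)) [Etale (D.obj PUnit.unit).hom]
    {ι : Type u} (V : ι → S.Opens) (hV : ⨆ i, V i = ⊤) :
    (∃ U : Over S, Etale U.hom ∧ Nonempty ((Desc.toDDFam (fun _ : PUnit.{1} => g)).obj U ≅ D)) ↔
      ∀ i : ι, (∃ U : Over (V i : Scheme.{u}), Etale U.hom ∧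
        Nonempty ((Desc.toDDFam (fun _ : PUnit.{1} => pullback.snd g (V i).ι)).obj U ≅
          (Desc.pullDDFam (f := fun _ : PUnit.{1} => g) (f' := fun _ : PUnit.{1} => pullback.snd g (V i).ι)
        (α := id) (p := (V i).ι) (p' := fun _ => pullback.fst g (V i).ι) (fun _ => pullback.condition)).obj D)) := by
  rw [Groth.Agent.SGA1Desc.eff_id_iff D]
  constructor
  · rintro ⟨E⟩ i
    exact Groth.Agent.SGA1Desc.eff_iff.2 ⟨E.pull (V i).ι (V i).ι (Category.comp_id _)⟩
  · intro h
    refine Groth.Agent.SGA1Desc.exists_eff_of_openCover _ hg fun s => ?_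
    obtain ⟨i, hi⟩ := TopologicalSpace.Opens.mem_iSup.1
      (show s ∈ ⨆ i, V i from hV ▸ TopologicalSpace.Opens.mem_top s)
    exact ⟨V i, hi, Groth.Agent.SGA1Desc.eff_iff.1 (h i)⟩

end Groth.Agent.S5123
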