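import Groth.Statements.S5125
import Groth.Agent.SGA1Desc.Stalk
import Groth.Agent.SGA1Desc.EffFam
-- import your own Groth.Agent.* helpers here

set_option autoImplicit false
universe u
open SGA1

namespace Groth.Agent.S5125

open AlgebraicGeometry CategoryTheory CategoryTheory.Limits in
/-- Let g : S' ⟶ S be universally submersive and of finite presentation, and D a descent datum relative
to g (functor-of-points form, for the one-member family g) whose underlying S'-scheme is etale and
of finite presentation (quasi-compact and quasi-separated) over S'. Then D is the canonical datum of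
some etale S-scheme if and only if for every point a of S the descent datum induced over Spec
O_{S,a} is the canonical datum of some etale scheme over Spec O_{S,a}. -/
theorem result {S S' : Scheme.{u}} (g : S' ⟶ S) (hg : SGA1.UnivSubmersive g)
    [LocallyOfFinitePresentation g] [QuasiCompact g] [QuasiSeparated g]
    (D : Desc.SchDDFam (fun _ : PUnit.{1} => g)) [Etale (D.obj PUnit.unit).hom]
    [QuasiCompact (D.obj PUnit.unit).hom] [QuasiSeparated (D.obj PUnit.unit).hom] :
    (∃ U : Over S, Etale U.hom ∧ Nonempty ((Desc.toDDFam (fun _ : PUnit.{1} => g)).obj U ≅ D)) ↔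
      ∀ a : S, (∃ U : Over (Spec (S.presheaf.stalk a)), Etale U.hom ∧
        Nonempty ((Desc.toDDFam (fun _ : PUnit.{1} => pullback.snd g (S.fromSpecStalk a))).obj U ≅
          (Desc.pullDDFam (f := fun _ : PUnit.{1} => g) (f' := fun _ : PUnit.{1} => pullback.snd g (S.fromSpecStalk a))
        (α := id) (p := (S.fromSpecStalk a)) (p' := fun _ => pullback.fst g (S.fromSpecStalk a)) (fun _ => pullback.condition)).obj D)) := by
  let D₀ : Desc.SchDD g := (Desc.SchDDFam.toSchDD g).obj D
  haveI : LocallyOfFinitePresentation D₀.obj.hom :=
    inferInstanceAs (LocallyOfFinitePresentation (D.obj PUnit.unit).hom)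
  haveI : QuasiCompact D₀.obj.hom := inferInstanceAs (QuasiCompact (D.obj PUnit.unit).hom)
  haveI : QuasiSeparated D₀.obj.hom := inferInstanceAs (QuasiSeparated (D.obj PUnit.unit).hom)
  constructor
  · intro h a
    obtain ⟨E⟩ := (Groth.Agent.SGA1Desc.eff_id_iff D).1 h
    exact Groth.Agent.SGA1Desc.eff_iff.2 ⟨E.pull (S.fromSpecStalk a) _ (Category.comp_id _)⟩
  · intro h
    exact (Groth.Agent.SGA1Desc.eff_id_iff D).2
      (Groth.Agent.SGA1Desc.exists_eff_of_forall_stalk D₀ hg fun a =>
        Groth.Agent.SGA1Desc.eff_iff.1 (h a))

end Groth.Agent.S5125
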