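import Groth.Statements.S5127
import Groth.Agent.SGA1Desc.CompletionEff
import Groth.Agent.SGA1Desc.EffFam
import Groth.Agent.EtStruct.Completion
import Groth.Agent.CAlgLib.ResidueExt
-- import your own Groth.Agent.* helpers here

set_option autoImplicit false
universe u
open SGA1

namespace Groth.Agent.S5127

open AlgebraicGeometry CategoryTheory CategoryTheory.Limits in
/-- Let S be locally Noetherian, g : S' ⟶ S universally submersive and of finite presentation, and D a
descent datum relative to g (functor-of-points form, for the one-member family g) whose underlying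
S'-scheme is etale, separated and of finite presentation over S'. Then D is the canonical datum of
some etale S-scheme if and only if, for every complete Noetherian local ring B with algebraically
closed residue field and every morphism q : Spec B ⟶ S, the descent datum induced over Spec B
(relative to S' ×_S Spec B ⟶ Spec B) is the canonical datum of some etale B-scheme. -/
theorem result {S S' : Scheme.{u}} [IsLocallyNoetherian S]
    (g : S' ⟶ S) (hg : SGA1.UnivSubmersive g) [LocallyOfFinitePresentation g] [QuasiCompact g] [QuasiSeparated g]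
    (D : Desc.SchDDFam (fun _ : PUnit.{1} => g)) [Etale (D.obj PUnit.unit).hom]
    [QuasiCompact (D.obj PUnit.unit).hom] [IsSeparated (D.obj PUnit.unit).hom] :
    (∃ U : Over S, Etale U.hom ∧ Nonempty ((Desc.toDDFam (fun _ : PUnit.{1} => g)).obj U ≅ D)) ↔ ∀ (B : Type u) [CommRing B] [IsNoetherianRing B] [IsLocalRing B]
      [IsAdicComplete (IsLocalRing.maximalIdeal B) B] [IsAlgClosed (IsLocalRing.ResidueField B)]
      (q : Spec (CommRingCat.of B) ⟶ S), (∃ U : Over (Spec (CommRingCat.of B)), Etale U.hom ∧
        Nonempty ((Desc.toDDFam (fun _ : PUnit.{1} => pullback.snd g q)).obj U ≅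
          (Desc.pullDDFam (f := fun _ : PUnit.{1} => g) (f' := fun _ : PUnit.{1} => pullback.snd g q)
        (α := id) (p := q) (p' := fun _ => pullback.fst g q) (fun _ => pullback.condition)).obj D)) := by
  let D₀ : Desc.SchDD g := (Desc.SchDDFam.toSchDD g).obj D
  haveI : LocallyOfFinitePresentation D₀.obj.hom :=
    inferInstanceAs (LocallyOfFinitePresentation (D.obj PUnit.unit).hom)
  haveI : QuasiCompact D₀.obj.hom := inferInstanceAs (QuasiCompact (D.obj PUnit.unit).hom)
  haveI : IsSeparated D₀.obj.hom := inferInstanceAs (IsSeparated (D.obj PUnit.unit).hom)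
  constructor
  · intro h B _ _ _ _ _ q
    obtain ⟨E⟩ := (Groth.Agent.SGA1Desc.eff_id_iff D).1 h
    exact Groth.Agent.SGA1Desc.eff_iff.2 ⟨E.pull _ _ (Category.comp_id _)⟩
  · intro h
    refine (Groth.Agent.SGA1Desc.eff_id_iff D).2
      (Groth.Agent.SGA1Desc.exists_eff_of_forall_stalk D₀ hg fun a => ?_)
    let A : Type u := S.presheaf.stalk a
    let K : Type u := AlgebraicClosure (IsLocalRing.ResidueField A)
    letI : Algebra A K :=
      ((algebraMap (IsLocalRing.ResidueField A) K).comp (IsLocalRing.residue A)).toAlgebra
    have hA : RingHom.ker (algebraMap A K) = IsLocalRing.maximalIdeal A := by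
      rw [RingHom.algebraMap_toAlgebra,
        RingHom.ker_comp_of_injective _ (algebraMap (IsLocalRing.ResidueField A) K).injective,
        IsLocalRing.ker_residue]
    obtain ⟨B₀, _, _, _, _, _, _, ψ, hψ, -⟩ :=
      Groth.Agent.CAlgLib.ResidueExt.exists_flat_extension A K hA
    let B : Type u := AdicCompletion (IsLocalRing.maximalIdeal B₀) B₀
    haveI : IsNoetherianRing B := Groth.Agent.EtStruct.Completion.isNoetherian B₀
    haveI : IsAlgClosed (IsLocalRing.ResidueField B₀) :=
      IsAlgClosed.of_ringEquiv K _ (((Ideal.quotEquivOfEq (IsLocalRing.eq_maximalIdeal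
        (RingHom.ker_isMaximal_of_surjective ψ.toRingHom hψ)).symm).trans
          (RingHom.quotientKerEquivOfSurjective (f := ψ.toRingHom) hψ)).symm)
    haveI : IsAlgClosed (IsLocalRing.ResidueField B) :=
      IsAlgClosed.of_ringEquiv (IsLocalRing.ResidueField B₀) _
        (RingEquiv.ofBijective _ (AdicCompletion.residueField_map_bijective B₀))
    haveI : Module.FaithfullyFlat A B₀ := Module.FaithfullyFlat.of_flat_of_isLocalHom
    haveI : Module.FaithfullyFlat B₀ B := Groth.Agent.EtStruct.Completion.faithfullyFlat B₀
    haveI : IsScalarTower A B₀ B := inferInstance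
    haveI : Module.FaithfullyFlat A B := Module.FaithfullyFlat.trans A B₀ B
    obtain ⟨E⟩ := Groth.Agent.SGA1Desc.eff_iff.1 (h B
      (Spec.map (CommRingCat.ofHom (algebraMap A B)) ≫ S.fromSpecStalk a))
    obtain ⟨E', -⟩ := Groth.Agent.SGA1Desc.exists_eff_of_faithfullyFlat hg
      (R := S.presheaf.stalk a) (R' := CommRingCat.of B) (CommRingCat.ofHom (algebraMap A B))
      (RingHom.faithfullyFlat_algebraMap_iff.2 ‹_›) E
    exact ⟨E'⟩

end Groth.Agent.S5127
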