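import Groth.Statements.S5129
import Groth.Agent.FEtCat.ProperHenselian

set_option autoImplicit false
universe u
open Pi1

namespace Groth.Agent.S5129

open AlgebraicGeometry CategoryTheory CategoryTheory.Limits in
/-- Surjectivity of π₁(X) → π₁(Spec A), in terms of covers. Let A be a complete Noetherian local ring
with residue field k, k̄ an algebraic closure of k, ξ : Spec k̄ ⟶ Spec A the resulting geometric
point, and X a proper A-scheme with X ×_A Spec k̄ connected. Then pulling back finite etale covers
along X ⟶ Spec A is fully faithful. -/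
theorem result (A : Type u) [CommRing A]
    [IsNoetherianRing A] [IsLocalRing A] [IsAdicComplete (IsLocalRing.maximalIdeal A) A]
    {X : Scheme.{u}} (f : X ⟶ Spec (CommRingCat.of A)) [IsProper f]
    (ξ : Spec (CommRingCat.of (AlgebraicClosure (IsLocalRing.ResidueField A))) ⟶ Spec (CommRingCat.of A))
    (hξ : ξ = Spec.map (CommRingCat.ofHom ((algebraMap (IsLocalRing.ResidueField A)
      (AlgebraicClosure (IsLocalRing.ResidueField A))).comp (IsLocalRing.residue A))))
    [ConnectedSpace ↥(pullback f ξ)] :
    (FEt.restrict f).Full ∧ (FEt.restrict f).Faithful := by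
  let I := IsLocalRing.maximalIdeal A
  let i : Spec (CommRingCat.of (IsLocalRing.ResidueField A)) ⟶ Spec (CommRingCat.of A) :=
    Spec.map (CommRingCat.ofHom (Ideal.Quotient.mk I))
  let bk : Spec (CommRingCat.of (AlgebraicClosure (IsLocalRing.ResidueField A))) ⟶ Spec (CommRingCat.of (IsLocalRing.ResidueField A)) :=
    Spec.map (CommRingCat.ofHom (algebraMap (IsLocalRing.ResidueField A) (AlgebraicClosure (IsLocalRing.ResidueField A))))
  have hbk : bk ≫ i = ξ := by
    rw [hξ, ← Spec.map_comp]
    rfl
  let fk := pullback.snd f i
  let e : pullback fk bk ≅ pullback f ξ :=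
    pullbackLeftPullbackSndIso f i bk ≪≫ pullback.congrHom rfl hbk
  have : ConnectedSpace ↥(pullback fk bk) :=
    e.inv.homeomorph.surjective.connectedSpace e.inv.continuous
  have : CompactSpace ↥(pullback f i) := QuasiCompact.compactSpace_of_compactSpace fk
  have : QuasiSeparatedSpace ↥(pullback f i) := quasiSeparatedSpace_of_quasiSeparated fk
  exact FEtCat.ProperHenselian.full_faithful_of_fibre I f (S0268.result (IsLocalRing.ResidueField A) fk)

end Groth.Agent.S5129
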