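import Groth.Statements.S5130
import Groth.Agent.FEtCat.ProperHenselian
import Groth.Agent.S5117

set_option autoImplicit false
universe u
open Pi1

namespace Groth.Agent.S5130

open AlgebraicGeometry CategoryTheory CategoryTheory.Limits in
/-- Exactness in the middle of e → π₁(X ⊗ k̄) → π₁(X) → π₁(Spec A) → e, in terms of covers. Let A be a
complete Noetherian local ring with residue field k, k̄ an algebraic closure of k, ξ : Spec k̄ ⟶
Spec A the resulting geometric point, X a proper A-scheme with X ×_A Spec k̄ connected, and X' a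
connected finite etale cover of X such that the induced cover of X ×_A Spec k̄ has a section. Then
X' is isomorphic over X to the pullback of some finite etale cover of Spec A. -/
theorem result (A : Type u) [CommRing A]
    [IsNoetherianRing A] [IsLocalRing A] [IsAdicComplete (IsLocalRing.maximalIdeal A) A]
    {X : Scheme.{u}} (f : X ⟶ Spec (CommRingCat.of A)) [IsProper f]
    (ξ : Spec (CommRingCat.of (AlgebraicClosure (IsLocalRing.ResidueField A))) ⟶ Spec (CommRingCat.of A))
    (hξ : ξ = Spec.map (CommRingCat.ofHom ((algebraMap (IsLocalRing.ResidueField A)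
      (AlgebraicClosure (IsLocalRing.ResidueField A))).comp (IsLocalRing.residue A))))
    [ConnectedSpace ↥(pullback f ξ)] (X' : FEt.Cat X) [ConnectedSpace X'.left]
    (σ : pullback f ξ ⟶ X'.left) (hσ : σ ≫ X'.hom = pullback.fst f ξ) :
    ∃ T : FEt.Cat (Spec (CommRingCat.of A)), Nonempty ((FEt.restrict f).obj T ≅ X') := by
  let I := IsLocalRing.maximalIdeal A
  let i : Spec (CommRingCat.of (IsLocalRing.ResidueField A)) ⟶ Spec (CommRingCat.of A) :=
    Spec.map (CommRingCat.ofHom (Ideal.Quotient.mk I))
  let bk : Spec (CommRingCat.of (AlgebraicClosure (IsLocalRing.ResidueField A))) ⟶ Spec (CommRingCat.of (IsLocalRing.ResidueField A)) :=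
    Spec.map (CommRingCat.ofHom (algebraMap (IsLocalRing.ResidueField A) (AlgebraicClosure (IsLocalRing.ResidueField A))))
  have hbk : bk ≫ i = ξ := by
    rw [hξ, ← Spec.map_comp]
    rfl
  let fk := pullback.snd f i
  let e : pullback fk bk ≅ pullback f ξ :=
    pullbackLeftPullbackSndIso f i bk ≪≫ pullback.congrHom rfl hbk
  have : ConnectedSpace ↥(pullback fk bk) :=
    e.inv.homeomorph.surjective.connectedSpace e.inv.continuous
  have : CompactSpace ↥(pullback f i) := QuasiCompact.compactSpace_of_compactSpace fk
  have : QuasiSeparatedSpace ↥(pullback f i) := quasiSeparatedSpace_of_quasiSeparated fk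
  let iX := FEtCat.ProperHenselian.incl I f
  let Xk := (FEt.restrict iX).obj X'
  have : ConnectedSpace Xk.left := FEtCat.ProperHenselian.connected_restrict I f X'
  let σk : pullback fk bk ⟶ Xk.left := pullback.lift (e.hom ≫ σ) (pullback.fst fk bk) (by
    rw [Category.assoc, hσ]
    simp only [e, Iso.trans_hom, pullback.congrHom_hom, Category.assoc, pullback.lift_fst, Category.comp_id]
    exact (pullbackLeftPullbackSndIso_hom_fst f i bk).trans rfl)
  obtain ⟨S₀, ⟨φ⟩⟩ := S5117.result (IsLocalRing.ResidueField A) fk Xk σk (pullback.lift_snd _ _ _)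
  have : (FEt.restrict i).IsEquivalence := S0239.result A I
  let T := (FEt.restrict i).objPreimage S₀
  obtain ⟨h1, h2⟩ := FEtCat.ProperHenselian.clopen_incl I f
  obtain ⟨hf, hf'⟩ := FEtCat.Full.full_faithful iX h1 h2
  exact ⟨T, ⟨(FEt.restrict iX).preimageIso ((FEtCat.ProperHenselian.squareIso I f).app T ≪≫
    (FEt.restrict fk).mapIso ((FEt.restrict i).objObjPreimageIso S₀) ≪≫ φ)⟩⟩

end Groth.Agent.S5130
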