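import Groth.Statements.S5131
import Groth.Agent.FEtProperConn.SteinFibre
-- import your own Groth.Agent.* helpers here

set_option autoImplicit false
universe u
open SGA1

namespace Groth.Agent.S5131

open AlgebraicGeometry CategoryTheory CategoryTheory.Limits in
/-- Let f : X ⟶ S be a proper morphism of locally Noetherian schemes with f_* O_X = O_S (the maps O_S(U)
→ O_X(f⁻¹U) are bijective), X' a scheme proper over X via g, and X' → S' → S the Stein factorisation
of g ≫ f (S' the normalisation of S in X'), with c : X' ⟶ X ×_S S' the canonical morphism. Let s be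
a point of S, s' a point of S' over s, and F'₁ the open and closed part of the fibre X'_s consisting
of the points sent to s' (a connected component of X'_s). Then c is an isomorphism over some open
neighbourhood U' of s' with U' etale over S if and only if X' is etale over X at every point of F'₁
and F'₁ is a finite etale cover of the fibre X_s which splits completely after base change to an
algebraic closure of k(s). -/
theorem result {X X' S : Scheme.{u}} [IsLocallyNoetherian S]
    [IsLocallyNoetherian X] (f : X ⟶ S) [IsProper f] (hO : ∀ U : S.Opens, Function.Bijective (f.app U).hom)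
    (g : X' ⟶ X) [IsProper g]
    (c : X' ⟶ pullback f (g ≫ f).fromNormalization)
    (hc1 : c ≫ pullback.fst f (g ≫ f).fromNormalization = g)
    (hc2 : c ≫ pullback.snd f (g ≫ f).fromNormalization = (g ≫ f).toNormalization)
    (s : S) (s' : ↥((g ≫ f).normalization)) (hs' : (g ≫ f).fromNormalization.base s' = s)
    (C : (pullback (g ≫ f) (S.fromSpecResidueField s)).Opens)
    (hC : ∀ x : ↥(pullback (g ≫ f) (S.fromSpecResidueField s)),
      x ∈ C ↔ (g ≫ f).toNormalization.base ((pullback.fst (g ≫ f) (S.fromSpecResidueField s)).base x) = s') :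
    (∃ U' : ((g ≫ f).normalization).Opens, s' ∈ U' ∧ Etale (U'.ι ≫ (g ≫ f).fromNormalization) ∧
        IsIso (c ∣_ ((pullback.snd f (g ≫ f).fromNormalization) ⁻¹ᵁ U'))) ↔
      ((∀ x : C, (pullback.fst (g ≫ f) (S.fromSpecResidueField s)).base x.1 ∈ Pi1X.etaleLocus g) ∧
        ∃ (hF : IsFinite (C.ι ≫ pullback.map (g ≫ f) (S.fromSpecResidueField s) f (S.fromSpecResidueField s) g (𝟙 _) (𝟙 S)
        (Category.comp_id _) ((Category.comp_id _).trans (Category.id_comp _).symm)))
          (hE : Etale (C.ι ≫ pullback.map (g ≫ f) (S.fromSpecResidueField s) f (S.fromSpecResidueField s) g (𝟙 _) (𝟙 S)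
        (Category.comp_id _) ((Category.comp_id _).trans (Category.id_comp _).symm))),
          Pi1.IsSplit ((FEt.restrict (pullback.fst (pullback.snd f (S.fromSpecResidueField s))
            (Spec.map (CommRingCat.ofHom (algebraMap (S.residueField s) (AlgebraicClosure (S.residueField s))))))).obj
            (MorphismProperty.Over.mk ⊤ (C.ι ≫ pullback.map (g ≫ f) (S.fromSpecResidueField s) f (S.fromSpecResidueField s) g (𝟙 _) (𝟙 S)
        (Category.comp_id _) ((Category.comp_id _).trans (Category.id_comp _).symm)) ⟨hF, hE⟩))) := by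
  have hm1 : (C.ι ≫ pullback.map (g ≫ f) (S.fromSpecResidueField s) f (S.fromSpecResidueField s) g (𝟙 _) (𝟙 S)
        (Category.comp_id _) ((Category.comp_id _).trans (Category.id_comp _).symm)) ≫
      pullback.fst f (S.fromSpecResidueField s) =
      C.ι ≫ pullback.fst (g ≫ f) (S.fromSpecResidueField s) ≫ g :=
    (Category.assoc _ _ _).trans (congrArg (C.ι ≫ ·) (pullback.lift_fst _ _ _))
  have hm2 : (C.ι ≫ pullback.map (g ≫ f) (S.fromSpecResidueField s) f (S.fromSpecResidueField s) g (𝟙 _) (𝟙 S)
        (Category.comp_id _) ((Category.comp_id _).trans (Category.id_comp _).symm)) ≫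
      pullback.snd f (S.fromSpecResidueField s) =
      C.ι ≫ pullback.snd (g ≫ f) (S.fromSpecResidueField s) :=
    (Category.assoc _ _ _).trans (congrArg (C.ι ≫ ·) ((pullback.lift_snd _ _ _).trans (Category.comp_id _)))
  constructor
  · rintro ⟨U', hsU, hU, hiso⟩
    obtain ⟨h₁, hF, hE, hsp⟩ := FEtProperConn.fibre_of_etale f g c hc1 hc2 s s' hs' C hC _ hm1 hm2 U' hsU hU hiso
    exact ⟨h₁, hF, hE, hsp⟩
  · rintro ⟨het, hF, hE, ι, hι, e, he⟩
    exact FEtProperConn.etale_of_fibre f g hO c hc1 hc2 s s' hs' C hC _ hm1 het e he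

end Groth.Agent.S5131
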