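import Groth.Statements.S5132
import Groth.Agent.FpqcDesc.Props
-- import your own Groth.Agent.* helpers here

set_option autoImplicit false
open CategoryTheory AlgebraicGeometry
universe u
open SGA1

namespace Groth.Agent.S5132

open CategoryTheory.Limits in
/-- Quasi-compactness of a morphism descends along a surjective and quasi-compact base change; flatness
of the base change is not needed for this property. -/
theorem result :
    MorphismProperty.DescendsAlong @QuasiCompact (@Surjective ⊓ @QuasiCompact : MorphismProperty Scheme.{u}) := by
  refine MorphismProperty.DescendsAlong.mk' fun {A B C} f g _ hf hg => ⟨fun U hU hcU => ?_⟩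
  obtain ⟨hs, hqc⟩ := hf
  haveI : QuasiCompact f := hqc
  have e : g ⁻¹' U = pullback.snd f g '' (pullback.fst f g ⁻¹' (f ⁻¹' U)) := by
    ext y
    refine ⟨fun hy => ?_, ?_⟩
    · obtain ⟨x, hx⟩ := hs.surj (g y)
      obtain ⟨z, hz₁, hz₂⟩ := Scheme.Pullback.exists_preimage_pullback (f := f) (g := g) x y hx
      refine ⟨z, ?_, hz₂⟩
      simp only [Set.mem_preimage, hz₁, hx]
      exact hy
    · rintro ⟨z, hz, rfl⟩
      simp only [Set.mem_preimage] at hz ⊢
      rwa [← Scheme.Hom.comp_apply, ← pullback.condition, Scheme.Hom.comp_apply]
  rw [e]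
  exact (QuasiCompact.isCompact_preimage _ (hU.preimage f.continuous)
    (QuasiCompact.isCompact_preimage U hU hcU)).image (pullback.snd f g).continuous

end Groth.Agent.S5132
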