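import Groth.Statements.S5135
-- import your own Groth.Agent.* helpers here

set_option autoImplicit false
universe u
open scoped TensorProduct
open SGA1

namespace Groth.Agent.S5135

private theorem lTensor_mkQ_comp_eq_zero {A B M V : Type*} [CommRing A] [AddCommGroup B] [Module A B]
    [AddCommGroup M] [Module A M] [AddCommGroup V] [Module A V] (N : Submodule A V)
    (f : M →ₗ[A] V) (x : TensorProduct A B M)
    (h : f.lTensor B x ∈ LinearMap.range (N.subtype.lTensor B)) :
    (N.mkQ ∘ₗ f).lTensor B x = 0 := by
  rw [LinearMap.lTensor_comp, LinearMap.comp_apply]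
  exact (lTensor_exact B (LinearMap.exact_subtype_mkQ N) N.mkQ_surjective _).2 h

/-- The affine case, in submodule form (descent of submodules, equivalently of quotient modules): for A
⟶ A' faithfully flat, M an A-module and N' an A'-submodule of A' ⊗ M whose two extensions to (A' ⊗
A') ⊗ M, along a ↦ a ⊗ 1 and a ↦ 1 ⊗ a, generate the same submodule, N' is the base change of the
submodule of M formed by the elements m with 1 ⊗ m in N'. -/
theorem result (A A' : Type u) [CommRing A] [CommRing A'] [Algebra A A']
    [Module.FaithfullyFlat A A'] (M : Type u) [AddCommGroup M] [Module A M] (N' : Submodule A' (A' ⊗[A] M))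
    (h : Submodule.span (A' ⊗[A] A')
          ((N'.restrictScalars A).map
            ((Algebra.TensorProduct.includeLeft : A' →ₐ[A] A' ⊗[A] A').toLinearMap.rTensor M) : Set ((A' ⊗[A] A') ⊗[A] M)) =
        Submodule.span (A' ⊗[A] A')
          ((N'.restrictScalars A).map
            ((Algebra.TensorProduct.includeRight : A' →ₐ[A] A' ⊗[A] A').toLinearMap.rTensor M) : Set ((A' ⊗[A] A') ⊗[A] M))) :
    ((N'.restrictScalars A).comap (TensorProduct.mk A A' M 1)).baseChange A' = N' := by
  classical
  let P := (N'.restrictScalars A).comap (TensorProduct.mk A A' M 1)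
  refine le_antisymm ?_ ?_
  · rw [Submodule.baseChange_eq_span, Submodule.span_le]
    rintro _ ⟨m, hm, rfl⟩
    exact hm
  intro x hx
  let N := N'.restrictScalars A
  let φ : M →ₗ[A] (A' ⊗[A] M) ⧸ N := N.mkQ ∘ₗ TensorProduct.mk A A' M 1
  let e := TensorProduct.assoc A A' A' M
  let R := LinearMap.range (N.subtype.lTensor A')
  -- the image of the second extension consists of elements of `A' ⊗ N'`
  have key : ∀ y ∈ Submodule.span (A' ⊗[A] A')
      ((N'.restrictScalars A).map
        ((Algebra.TensorProduct.includeRight : A' →ₐ[A] A' ⊗[A] A').toLinearMap.rTensor M) :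
        Set ((A' ⊗[A] A') ⊗[A] M)), e y ∈ R := by
    intro y hy
    induction hy using Submodule.span_induction with
    | mem y hy =>
      obtain ⟨n, hn, rfl⟩ := hy
      refine ⟨1 ⊗ₜ ⟨n, hn⟩, ?_⟩
      rw [LinearMap.lTensor_tmul, Submodule.subtype_apply]
      suffices H : ∀ n : A' ⊗[A] M, (1 : A') ⊗ₜ[A] n =
          e ((Algebra.TensorProduct.includeRight : A' →ₐ[A] A' ⊗[A] A').toLinearMap.rTensor M n) from H n
      intro n
      induction n using TensorProduct.induction_on with
      | zero => simp
      | tmul a m => simp [e]
      | add a b ha hb => simp only [map_add, TensorProduct.tmul_add, ha, hb]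
    | zero => simp
    | add a b _ _ ha hb => simpa only [map_add] using R.add_mem ha hb
    | smul c y _ hy =>
      induction c using TensorProduct.induction_on with
      | zero => simp
      | add c d hc hd => simpa only [add_smul, map_add] using R.add_mem hc hd
      | tmul a b =>
        let Ψ : A' ⊗[A] (A' ⊗[A] M) →ₗ[A] A' ⊗[A] (A' ⊗[A] M) :=
          TensorProduct.map (LinearMap.mulLeft A a)
            (Algebra.lsmul A A (A' ⊗[A] M) b)
        have hΨ : ∀ z, e ((a ⊗ₜ[A] b) • z) = Ψ (e z) := by
          intro z
          induction z using TensorProduct.induction_on with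
          | zero => simp
          | add z w hz hw => simp only [smul_add, map_add, hz, hw]
          | tmul c m =>
            induction c using TensorProduct.induction_on with
            | zero => simp
            | add c d hc hd => simp only [TensorProduct.add_tmul, smul_add, map_add, hc, hd]
            | tmul c d => simp [e, Ψ, TensorProduct.smul_tmul']
        rw [hΨ]
        obtain ⟨z, hz⟩ := hy
        rw [← hz]
        clear hz
        induction z using TensorProduct.induction_on with
        | zero => simp
        | add z w hz hw => simpa only [map_add] using R.add_mem hz hw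
        | tmul c n =>
          exact ⟨(a * c) ⊗ₜ ⟨b • (n : A' ⊗[A] M), N'.smul_mem b n.2⟩, by simp [Ψ]⟩
  have hx1 : (TensorProduct.mk A A' M 1).lTensor A' x ∈ R := by
    have h1 : (Algebra.TensorProduct.includeLeft : A' →ₐ[A] A' ⊗[A] A').toLinearMap.rTensor M x ∈
        Submodule.span (A' ⊗[A] A')
          ((N'.restrictScalars A).map
            ((Algebra.TensorProduct.includeRight : A' →ₐ[A] A' ⊗[A] A').toLinearMap.rTensor M) :
            Set ((A' ⊗[A] A') ⊗[A] M)) := h ▸ Submodule.subset_span ⟨x, hx, rfl⟩
    have h2 := key _ h1
    convert h2 using 1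
    clear h1 h2 hx
    induction x using TensorProduct.induction_on with
    | zero => simp
    | tmul a m => simp [e]
    | add a b ha hb => simp only [map_add, ha, hb]
  have hx0 : φ.lTensor A' x = 0 := lTensor_mkQ_comp_eq_zero N _ x hx1
  have hP : Function.Exact P.subtype φ := by
    intro m
    simp only [φ, LinearMap.comp_apply, Submodule.mkQ_apply, Submodule.Quotient.mk_eq_zero]
    exact ⟨fun hm => ⟨⟨m, hm⟩, rfl⟩, by rintro ⟨m, rfl⟩; exact m.2⟩
  obtain ⟨w, rfl⟩ := ((Module.Flat.lTensor_exact A' hP) x).1 hx0
  clear hx hx0 hx1 key
  induction w using TensorProduct.induction_on with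
  | zero => simp
  | tmul a m =>
    rw [LinearMap.lTensor_tmul]
    exact Submodule.tmul_mem_baseChange_of_mem a m.2
  | add a b ha hb => simpa only [map_add] using Submodule.add_mem _ ha hb

end Groth.Agent.S5135
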