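import Groth.Statements.S5138
import Groth.Agent.AlgSpCov.Listed
-- import your own Groth.Agent.* helpers here

set_option autoImplicit false
open CategoryTheory AlgebraicGeometry
universe u
open SGA1

namespace Groth.Agent.S5138

/-- For X ⟶ X' ⟶ Y locally of finite type over a locally Noetherian Y and a point x of X, if X ⟶ X' and
the composite X ⟶ Y are both etale near x then X' ⟶ Y is etale near the image of x; 'etale near a
point' is membership in the etale locus, the union of the opens on which the morphism is etale. (The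
published statement takes the morphisms of finite type; quasi-compactness plays no role in this
assertion about single points, so only local finiteness is assumed.) -/
theorem result {X X' Y : Scheme.{u}} (f : X ⟶ X') (g : X' ⟶ Y)
    [IsLocallyNoetherian Y] [LocallyOfFiniteType f] [LocallyOfFiniteType g] (x : X)
    (hf : x ∈ Pi1X.etaleLocus f) (hfg : x ∈ Pi1X.etaleLocus (f ≫ g)) : f.base x ∈ Pi1X.etaleLocus g := by
  simp only [Pi1X.etaleLocus, TopologicalSpace.Opens.mem_sSup] at hf hfg ⊢
  obtain ⟨(U₁ : X.Opens), hU₁, hx₁⟩ := hf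
  obtain ⟨(U₂ : X.Opens), hU₂, hx₂⟩ := hfg
  replace hU₁ : Etale (U₁.ι ≫ f) := hU₁
  replace hU₂ : Etale (U₂.ι ≫ f ≫ g) := hU₂
  let U : X.Opens := U₁ ⊓ U₂
  have hUf : Etale (U.ι ≫ f) := by
    rw [← X.homOfLE_ι (inf_le_left : U ≤ U₁), Category.assoc]; infer_instance
  have hUfg : Etale (U.ι ≫ f ≫ g) := by
    rw [← X.homOfLE_ι (inf_le_right : U ≤ U₂), Category.assoc]; infer_instance
  let V : X'.Opens := ⟨Set.range (U.ι ≫ f).base, (U.ι ≫ f).isOpenMap.isOpen_range⟩
  refine ⟨V, ?_, ⟨⟨x, hx₁, hx₂⟩, rfl⟩⟩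
  have hr : Set.range (U.ι ≫ f).base ⊆ Set.range V.ι.base := by
    rw [Scheme.Opens.range_ι]; exact subset_rfl
  let e : U.toScheme ⟶ V.toScheme := IsOpenImmersion.lift V.ι (U.ι ≫ f) hr
  have he : e ≫ V.ι = U.ι ≫ f := IsOpenImmersion.lift_fac _ _ _
  have : Etale (e ≫ V.ι) := by rw [he]; exact hUf
  have hee : Etale e := Etale.of_comp e V.ι
  have hes : Surjective e := ⟨fun v => by
    obtain ⟨y, hy⟩ := v.2
    refine ⟨y, Subtype.ext ?_⟩
    have := congrArg (fun m : U.toScheme ⟶ X' => m.base y) he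
    simp only [Scheme.Hom.comp_apply] at this hy
    exact this.trans hy⟩
  have h2 : Etale (e ≫ V.ι ≫ g) := by rw [reassoc_of% he]; exact hUfg
  exact Groth.Agent.AlgSpCov.etaleLocal_etale.ofPrecomp _ _ hee hes h2

end Groth.Agent.S5138
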