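import Groth.Statements.S5140
import Groth.Agent.FibC.Basic

set_option autoImplicit false
open CategoryTheory
universe u v u₂ v₂
open FibCat

namespace Groth.Agent.S5140

/-- If the structure functor of 𝒳 is transportable (isomorphisms of C lift to isomorphisms of 𝒳 with any
prescribed source over their source), then a functor 𝒳 ⟶ 𝒴 over C whose underlying functor is an
equivalence of categories is an equivalence over C. -/
theorem result {C : Type u} [Category.{v} C]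
    {𝒳 𝒴 : BasedCategory.{v₂, u₂} C}
    (h𝒳 : ∀ ⦃T S : C⦄ (α : T ≅ S) (ξ : 𝒳.obj), 𝒳.p.obj ξ = T →
      ∃ (ξ' : 𝒳.obj) (e : ξ ≅ ξ'), 𝒳.p.IsHomLift α.hom e.hom)
    (F : 𝒳 ⥤ᵇ 𝒴) [F.toFunctor.IsEquivalence] : FibCat.IsEquivOver F := by
  refine Groth.Agent.FibC.isEquivOver_of_fullyFaithful F (fun η => ?_)
  set ξ := F.toFunctor.objPreimage η
  set e := F.toFunctor.objObjPreimageIso η
  let α : 𝒳.p.obj ξ ≅ 𝒴.p.obj η := eqToIso (F.w_obj ξ).symm ≪≫ 𝒴.p.mapIso e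
  obtain ⟨ξ', e', he'⟩ := h𝒳 α ξ rfl
  refine ⟨ξ', (F.toFunctor.mapIso e').symm ≪≫ e, ?_⟩
  have h1 : 𝒴.p.IsHomLift α.inv (F.toFunctor.map e'.inv) := inferInstance
  have h2 : 𝒴.p.IsHomLift α.hom e.hom :=
    IsHomLift.of_fac 𝒴.p _ _ (F.w_obj ξ) rfl (by simp [α])
  have h3 : 𝒴.p.IsHomLift (α.inv ≫ α.hom) (F.toFunctor.map e'.inv ≫ e.hom) := inferInstance
  rw [α.inv_hom_id] at h3
  exact h3

end Groth.Agent.S5140
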