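import Groth.Statements.S5142
import Groth.Agent.FibC.Fp

set_option autoImplicit false
open CategoryTheory
universe u v u₂ v₂
open FibCat

namespace Groth.Agent.S5142

/-- A morphism of the fibre product 𝒳 ×_C 𝒴 of two categories over C is cartesian if and only if its two
components are cartesian (each over its image in C). The fibre product is taken as the 2-fibre
product over C of the two structure functors, whose objects are pairs over one object of C together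
with an isomorphism of C lying over an identity. -/
theorem result {C : Type u} [Category.{v} C] {𝒳 𝒴 : BasedCategory.{v₂, u₂} C}
    {x y : (FibCat.fp (FibCat.toSelf 𝒳) (FibCat.toSelf 𝒴)).obj} (φ : x ⟶ y) :
    (FibCat.fp (FibCat.toSelf 𝒳) (FibCat.toSelf 𝒴)).p.IsCartesian
        ((FibCat.fp (FibCat.toSelf 𝒳) (FibCat.toSelf 𝒴)).p.map φ) φ ↔
      𝒳.p.IsCartesian (𝒳.p.map φ.hom.fst) φ.hom.fst ∧ 𝒴.p.IsCartesian (𝒴.p.map φ.hom.snd) φ.hom.snd := by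
  let f : 𝒳.p.obj x.obj.fst ⟶ 𝒳.p.obj y.obj.fst := 𝒳.p.map φ.hom.fst
  have hf : (FibCat.fp (FibCat.toSelf 𝒳) (FibCat.toSelf 𝒴)).p.IsHomLift f φ :=
    (Groth.Agent.FibC.fp_isHomLift_iff f φ).2 (IsHomLift.map 𝒳.p φ.hom.fst)
  have hfst : 𝒳.p.IsHomLift f φ.hom.fst := IsHomLift.map 𝒳.p φ.hom.fst
  have hsnd : 𝒴.p.IsHomLift f φ.hom.snd := Groth.Agent.FibC.fp_snd_isHomLift f φ
  rw [← Groth.Agent.FibC.isCartesian_self_iff (p := 𝒳.p) f φ.hom.fst,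
    ← Groth.Agent.FibC.isCartesian_self_iff (p := 𝒴.p) f φ.hom.snd]
  change @Functor.IsCartesian C (FibCat.fp (FibCat.toSelf 𝒳) (FibCat.toSelf 𝒴)).obj _ _
    (FibCat.fp (FibCat.toSelf 𝒳) (FibCat.toSelf 𝒴)).p (𝒳.p.obj x.obj.fst) (𝒳.p.obj y.obj.fst) x y f φ ↔ _
  constructor
  · intro hφ
    refine ⟨⟨fun {a'} φ' hφ' => ?_⟩, ⟨fun {b'} φ' hφ' => ?_⟩⟩
    · let z := Groth.Agent.FibC.selfMk a' x.obj.snd
        ((IsHomLift.domain_eq 𝒳.p f φ').trans (IsHomLift.domain_eq 𝒴.p f φ.hom.snd).symm)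
      have : 𝒳.p.IsHomLift f (show z.obj.fst ⟶ y.obj.fst from φ') := hφ'
      have : 𝒴.p.IsHomLift f (show z.obj.snd ⟶ y.obj.snd from φ.hom.snd) := hsnd
      let ψ : z ⟶ y := Groth.Agent.FibC.selfHom z y f φ' φ.hom.snd hφ' hsnd
      have : (FibCat.fp (FibCat.toSelf 𝒳) (FibCat.toSelf 𝒴)).p.IsHomLift f ψ :=
        (Groth.Agent.FibC.fp_isHomLift_iff _ _).2 hφ'
      obtain ⟨χ, ⟨hχ, hχ'⟩, hu⟩ := hφ.universal_property ψ
      refine ⟨χ.hom.fst, ⟨(Groth.Agent.FibC.fp_isHomLift_iff _ _).1 hχ,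
        congrArg (fun t => Limits.CategoricalPullback.Hom.fst t.hom) hχ'⟩, ?_⟩
      rintro c ⟨hc, hc'⟩
      have h2 : 𝒴.p.IsHomLift (𝟙 (𝒳.p.obj x.obj.fst)) (show z.obj.snd ⟶ x.obj.snd from 𝟙 _) :=
        IsHomLift.id (IsHomLift.domain_eq 𝒴.p f φ.hom.snd)
      have h1 : 𝒳.p.IsHomLift (𝟙 (𝒳.p.obj x.obj.fst)) (show z.obj.fst ⟶ x.obj.fst from c) := hc
      let χ' : z ⟶ x := Groth.Agent.FibC.selfHom z x (𝟙 (𝒳.p.obj x.obj.fst)) c (𝟙 _) h1 h2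
      have := hu χ' ⟨(Groth.Agent.FibC.fp_isHomLift_iff _ _).2 hc,
        Groth.Agent.FibC.fp_hom_ext hc' (Category.id_comp _)⟩
      exact congrArg (fun t => Limits.CategoricalPullback.Hom.fst t.hom) this
    · let z := Groth.Agent.FibC.selfMk x.obj.fst b'
        ((IsHomLift.domain_eq 𝒳.p f φ.hom.fst).trans (IsHomLift.domain_eq 𝒴.p f φ').symm)
      have : 𝒳.p.IsHomLift f (show z.obj.fst ⟶ y.obj.fst from φ.hom.fst) := hfst
      have : 𝒴.p.IsHomLift f (show z.obj.snd ⟶ y.obj.snd from φ') := hφ'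
      let ψ : z ⟶ y := Groth.Agent.FibC.selfHom z y f φ.hom.fst φ' hfst hφ'
      have : (FibCat.fp (FibCat.toSelf 𝒳) (FibCat.toSelf 𝒴)).p.IsHomLift f ψ :=
        (Groth.Agent.FibC.fp_isHomLift_iff _ _).2 hfst
      obtain ⟨χ, ⟨hχ, hχ'⟩, hu⟩ := hφ.universal_property ψ
      refine ⟨χ.hom.snd, ⟨@Groth.Agent.FibC.fp_snd_isHomLift _ _ _ _ _ _ _ _ _ _ _ _ _ hχ,
        congrArg (fun t => Limits.CategoricalPullback.Hom.snd t.hom) hχ'⟩, ?_⟩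
      rintro c ⟨hc, hc'⟩
      have h1 : 𝒳.p.IsHomLift (𝟙 (𝒳.p.obj x.obj.fst)) (show z.obj.fst ⟶ x.obj.fst from 𝟙 _) :=
        IsHomLift.id rfl
      have h2 : 𝒴.p.IsHomLift (𝟙 (𝒳.p.obj x.obj.fst)) (show z.obj.snd ⟶ x.obj.snd from c) := hc
      let χ' : z ⟶ x := Groth.Agent.FibC.selfHom z x (𝟙 (𝒳.p.obj x.obj.fst)) (𝟙 _) c h1 h2
      have := hu χ' ⟨(Groth.Agent.FibC.fp_isHomLift_iff _ _).2 h1,
        Groth.Agent.FibC.fp_hom_ext (Category.id_comp _) hc'⟩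
      exact congrArg (fun t => Limits.CategoricalPullback.Hom.snd t.hom) this
  · rintro ⟨h₁, h₂⟩
    refine ⟨fun {w'} ψ hψ => ?_⟩
    obtain ⟨c₁, ⟨hc₁, hc₁'⟩, hu₁⟩ :=
      Functor.IsCartesian.universal_property (p := 𝒳.p) (f := f) (φ := φ.hom.fst) ψ.hom.fst
    obtain ⟨c₂, ⟨hc₂, hc₂'⟩, hu₂⟩ :=
      Functor.IsCartesian.universal_property (p := 𝒴.p) (f := f) (φ := φ.hom.snd) ψ.hom.snd
    refine ⟨Groth.Agent.FibC.selfHom w' x (𝟙 (𝒳.p.obj x.obj.fst)) c₁ c₂ hc₁ hc₂,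
      ⟨(Groth.Agent.FibC.fp_isHomLift_iff _ _).2 hc₁, Groth.Agent.FibC.fp_hom_ext hc₁' hc₂'⟩, ?_⟩
    rintro χ ⟨hχ, hχ'⟩
    exact Groth.Agent.FibC.fp_hom_ext
      (hu₁ _ ⟨(Groth.Agent.FibC.fp_isHomLift_iff _ _).1 hχ, congrArg (fun t => Limits.CategoricalPullback.Hom.fst t.hom) hχ'⟩)
      (hu₂ _ ⟨@Groth.Agent.FibC.fp_snd_isHomLift _ _ _ _ _ _ _ _ _ _ _ _ _ hχ, congrArg (fun t => Limits.CategoricalPullback.Hom.snd t.hom) hχ'⟩)

end Groth.Agent.S5142
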