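import Groth.Statements.S5143
import Groth.Agent.FibC.Fp

set_option autoImplicit false
open CategoryTheory
universe u v u₂ v₂
open FibCat

namespace Groth.Agent.S5143

/-- The fibre product over C of two fibred (resp. prefibred) categories over C is fibred (resp.
prefibred); fibred and prefibred are Mathlib's notions for the structure functors, and the fibre
product is the 2-fibre product over C of the two structure functors. -/
theorem result {C : Type u} [Category.{v} C] {𝒳 𝒴 : BasedCategory.{v₂, u₂} C} :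
    (𝒳.p.IsFibered → 𝒴.p.IsFibered → (FibCat.fp (FibCat.toSelf 𝒳) (FibCat.toSelf 𝒴)).p.IsFibered) ∧
      (𝒳.p.IsPreFibered → 𝒴.p.IsPreFibered → (FibCat.fp (FibCat.toSelf 𝒳) (FibCat.toSelf 𝒴)).p.IsPreFibered) := by
  refine ⟨fun _ _ => Groth.Agent.FibC.fp_isFibered ?_ ?_, fun _ _ => ⟨fun {y R} f => ?_⟩⟩
  · intro R S f a b φ _
    exact Groth.Agent.FibC.sc_of_fibGrpd Groth.Agent.FibC.selfOver_fibGrpd f _
  · intro R S f a b φ _
    exact Groth.Agent.FibC.sc_of_fibGrpd Groth.Agent.FibC.selfOver_fibGrpd f _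
  · change R ⟶ 𝒳.p.obj y.obj.fst at f
    obtain ⟨a, φ, hφ⟩ := IsPreFibered.exists_isCartesian 𝒳.p (a := y.obj.fst) rfl f
    obtain ⟨b, ψ, hψ⟩ := IsPreFibered.exists_isCartesian 𝒴.p
      (Groth.Agent.FibC.fp_snd_proj (F := FibCat.toSelf 𝒳) (G := FibCat.toSelf 𝒴) y) f
    have := hφ.toIsHomLift
    have := hψ.toIsHomLift
    have ha : 𝒳.p.obj a = R := IsHomLift.domain_eq 𝒳.p f φ
    subst ha
    let z := Groth.Agent.FibC.selfMk a b (IsHomLift.domain_eq 𝒴.p f ψ).symm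
    have h1 : 𝒳.p.IsCartesian f (show z.obj.fst ⟶ y.obj.fst from φ) := hφ
    have h2 : 𝒴.p.IsCartesian f (show z.obj.snd ⟶ y.obj.snd from ψ) := hψ
    let χ : z ⟶ y := Groth.Agent.FibC.selfHom z y f φ ψ hφ.toIsHomLift hψ.toIsHomLift
    have : (FibCat.fp (FibCat.toSelf 𝒳) (FibCat.toSelf 𝒴)).p.IsHomLift f χ :=
      (Groth.Agent.FibC.fp_isHomLift_iff _ _).2 (inferInstance : 𝒳.p.IsHomLift f φ)
    refine ⟨z, χ, @Functor.IsCartesian.mk C _ _ _ _ (𝒳.p.obj a) (𝒳.p.obj y.obj.fst) z y f χ this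
      (fun {w} ω hω => ?_)⟩
    obtain ⟨c₁, ⟨hc₁, hc₁'⟩, hu₁⟩ :=
      Functor.IsCartesian.universal_property (p := 𝒳.p) (f := f) (φ := φ) ω.hom.fst
    obtain ⟨c₂, ⟨hc₂, hc₂'⟩, hu₂⟩ :=
      Functor.IsCartesian.universal_property (p := 𝒴.p) (f := f) (φ := ψ) ω.hom.snd
    have : 𝒳.p.IsHomLift (𝟙 (𝒳.p.obj a)) (show w.obj.fst ⟶ z.obj.fst from c₁) := hc₁
    have : 𝒴.p.IsHomLift (𝟙 (𝒳.p.obj a)) (show w.obj.snd ⟶ z.obj.snd from c₂) := hc₂
    refine ⟨Groth.Agent.FibC.selfHom w z (𝟙 (𝒳.p.obj a)) c₁ c₂ hc₁ hc₂,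
      ⟨(Groth.Agent.FibC.fp_isHomLift_iff _ _).2 hc₁, Groth.Agent.FibC.fp_hom_ext hc₁' hc₂'⟩, ?_⟩
    rintro c ⟨hc, hc'⟩
    exact Groth.Agent.FibC.fp_hom_ext
      (hu₁ _ ⟨(Groth.Agent.FibC.fp_isHomLift_iff _ _).1 hc, congrArg (fun t => Limits.CategoricalPullback.Hom.fst t.hom) hc'⟩)
      (hu₂ _ ⟨@Groth.Agent.FibC.fp_snd_isHomLift _ _ _ _ _ _ _ _ _ _ _ _ _ hc, congrArg (fun t => Limits.CategoricalPullback.Hom.snd t.hom) hc'⟩)

end Groth.Agent.S5143
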