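import Groth.Statements.S5144
import Mathlib.CategoryTheory.FiberedCategory.Fibered

set_option autoImplicit false
set_option backward.isDefEq.respectTransparency false
set_option backward.isDefEq.respectTransparency.types false
open CategoryTheory
universe u v u₂ v₂
open FibCat

namespace Groth.Agent.S5144

open Opposite in
theorem lift_op {C : Type u} [Category.{v} C] {𝒳 : Type u₂} [Category.{v₂} 𝒳] (p : 𝒳 ⥤ C)
    {R S : C} {a b : 𝒳} (f : R ⟶ S) (φ : a ⟶ b) [p.IsHomLift f φ] :
    p.op.IsHomLift f.op φ.op := by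
  subst_hom_lift p f φ
  exact IsHomLift.map p.op φ.op

theorem lift_unop {C : Type u} [Category.{v} C] {𝒳 : Type u₂} [Category.{v₂} 𝒳] (p : 𝒳 ⥤ C)
    {R S : Cᵒᵖ} {a b : 𝒳ᵒᵖ} (f : R ⟶ S) (φ : a ⟶ b) [p.op.IsHomLift f φ] :
    p.IsHomLift f.unop φ.unop := by
  subst_hom_lift p.op f φ
  exact IsHomLift.map p φ.unop

theorem fwd {C : Type u} [Category.{v} C] {𝒳 : Type u₂} [Category.{v₂} 𝒳] (p : 𝒳 ⥤ C)
    [p.IsFibered] [p.op.IsPreFibered] : p.op.IsFibered where
  comp {T S R} g f {c b a} ψ φ _ _ := by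
    -- `φ.unop : a → b`, `ψ.unop : b → c`
    have := lift_unop p g ψ
    have := lift_unop p f φ
    refine { universal_property := fun {c'} h hh => ?_ }
    have := lift_unop p (g ≫ f) h
    have hb' := IsHomLift.codomain_eq p (g ≫ f).unop h.unop
    obtain ⟨b', θ, hθ⟩ := CategoryTheory.IsPreFibered.exists_isCartesian p hb' g.unop
    let h' : a.unop ⟶ b' := Functor.IsStronglyCartesian.map p g.unop θ (f' := (g ≫ f).unop)
      unop_comp h.unop
    have : p.op.IsHomLift f h'.op := lift_op p f.unop h'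
    let χ₁ := Functor.IsCartesian.map p.op f φ h'.op
    have : p.IsHomLift (𝟙 (Opposite.unop S)) χ₁.unop := lift_unop p (𝟙 S) χ₁
    have : p.op.IsHomLift g (χ₁.unop ≫ θ).op := lift_op p g.unop (χ₁.unop ≫ θ)
    refine ⟨Functor.IsCartesian.map p.op g ψ (χ₁.unop ≫ θ).op, ⟨inferInstance, ?_⟩, fun χ hχ => ?_⟩
    · rw [← Category.assoc, Functor.IsCartesian.fac]
      apply Quiver.Hom.unop_inj
      have e : φ.unop ≫ χ₁.unop = h' := congrArg Quiver.Hom.unop (Functor.IsCartesian.fac p.op f φ h'.op)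
      show φ.unop ≫ χ₁.unop ≫ θ = h.unop
      rw [← Category.assoc, e, Functor.IsStronglyCartesian.fac]
    · have := hχ.1
      have := lift_unop p (𝟙 T) χ
      refine Functor.IsCartesian.map_uniq p.op g ψ (χ₁.unop ≫ θ).op χ ?_
      apply Quiver.Hom.unop_inj
      have : p.IsHomLift g.unop (χ ≫ ψ).unop := lift_unop p g (χ ≫ ψ)
      let ρ := Functor.IsCartesian.map p g.unop θ (χ ≫ ψ).unop
      have hρ : ρ ≫ θ = (χ ≫ ψ).unop := Functor.IsCartesian.fac p g.unop θ (χ ≫ ψ).unop
      have : p.op.IsHomLift (𝟙 S) ρ.op := lift_op p (𝟙 (Opposite.unop S)) ρ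
      have e : φ.unop ≫ ρ = h' := by
        refine Functor.IsStronglyCartesian.map_uniq p g.unop θ unop_comp h.unop (φ.unop ≫ ρ) ?_
        rw [Category.assoc, hρ, ← hχ.2]
        simp
      have e1 : ρ.op = χ₁ := by
        refine Functor.IsCartesian.map_uniq p.op f φ h'.op ρ.op ?_
        rw [← e]
        simp
      rw [← e1]
      exact hρ.symm

theorem bwd {C : Type u} [Category.{v} C] {𝒳 : Type u₂} [Category.{v₂} 𝒳] (p : 𝒳 ⥤ C)
    [p.IsPreFibered] [p.op.IsFibered] : p.IsFibered where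
  comp {R S T} f g {a b c} φ ψ _ _ := by
    refine { universal_property := fun {a'} h hh => ?_ }
    have := lift_op p f φ
    have := lift_op p g ψ
    have := lift_op p (f ≫ g) h
    have ha' := IsHomLift.codomain_eq p.op (f ≫ g).op h.op
    obtain ⟨b', θ, hθ⟩ := CategoryTheory.IsPreFibered.exists_isCartesian p.op ha' f.op
    let h' : Opposite.op c ⟶ b' := Functor.IsStronglyCartesian.map p.op f.op θ (f' := (f ≫ g).op)
      op_comp h.op
    have : p.IsHomLift g h'.unop := lift_unop p g.op h'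
    let χ₁ := Functor.IsCartesian.map p g ψ h'.unop
    have : p.op.IsHomLift (𝟙 (Opposite.op S)) χ₁.op := lift_op p (𝟙 S) χ₁
    have : p.IsHomLift f (χ₁.op ≫ θ).unop := lift_unop p f.op (χ₁.op ≫ θ)
    refine ⟨Functor.IsCartesian.map p f φ (χ₁.op ≫ θ).unop, ⟨inferInstance, ?_⟩, fun χ hχ => ?_⟩
    · rw [← Category.assoc, Functor.IsCartesian.fac]
      apply Quiver.Hom.op_inj
      have e : ψ.op ≫ χ₁.op = h' := congrArg Quiver.Hom.op (Functor.IsCartesian.fac p g ψ h'.unop)
      show ψ.op ≫ χ₁.op ≫ θ = h.op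
      rw [← Category.assoc, e, Functor.IsStronglyCartesian.fac]
    · have := hχ.1
      have := lift_op p (𝟙 R) χ
      refine Functor.IsCartesian.map_uniq p f φ (χ₁.op ≫ θ).unop χ ?_
      apply Quiver.Hom.op_inj
      have : p.op.IsHomLift f.op (χ ≫ φ).op := lift_op p f (χ ≫ φ)
      let ρ := Functor.IsCartesian.map p.op f.op θ (χ ≫ φ).op
      have hρ : ρ ≫ θ = (χ ≫ φ).op := Functor.IsCartesian.fac p.op f.op θ (χ ≫ φ).op
      have : p.IsHomLift (𝟙 S) ρ.unop := lift_unop p (𝟙 (Opposite.op S)) ρ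
      have e : ψ.op ≫ ρ = h' := by
        refine Functor.IsStronglyCartesian.map_uniq p.op f.op θ op_comp h.op (ψ.op ≫ ρ) ?_
        rw [Category.assoc, hρ, ← hχ.2]
        simp
      have e1 : ρ.unop = χ₁ := by
        refine Functor.IsCartesian.map_uniq p g ψ h'.unop ρ.unop ?_
        rw [← e]
        simp
      rw [← e1]
      exact hρ.symm

/-- If p : 𝒳 ⥤ C is both prefibred and co-prefibred (its opposite functor is prefibred), then p is
fibred if and only if it is co-fibred (its opposite functor is fibred). Prefibred and fibred are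
Mathlib's notions, which are the source's. -/
theorem result {C : Type u} [Category.{v} C] {𝒳 : Type u₂} [Category.{v₂} 𝒳]
    (p : 𝒳 ⥤ C) [p.IsPreFibered] [p.op.IsPreFibered] : p.IsFibered ↔ p.op.IsFibered := by
  exact ⟨fun _ => fwd p, fun _ => bwd p⟩

end Groth.Agent.S5144
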