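import Groth.Statements.S5145
import Groth.Agent.GalCat.Exact
import Mathlib.CategoryTheory.Limits.Constructions.FiniteProductsOfBinaryProducts

set_option autoImplicit false
universe u v w
open CategoryTheory PreGaloisCategory
open Pi1

namespace Groth.Agent.S5145

open CategoryTheory.Limits in
/-- (iii) ⇒ (i): on a Galois category with fibre functor F, a functor F' to finite sets that preserves
finite limits, preserves binary coproducts and takes nonempty values on non-initial objects is
isomorphic to F (existence of an isomorphism of functors; in particular F' is a fibre functor). -/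
theorem result {C : Type u} [Category.{v} C] [GaloisCategory C]
    (F : C ⥤ FintypeCat.{w}) [FiberFunctor F] (F' : C ⥤ FintypeCat.{w}) [PreservesFiniteLimits F']
    [PreservesColimitsOfShape (Discrete WalkingPair) F']
    (h : ∀ X : C, IsEmpty (F'.obj X) → Nonempty (IsInitial X)) : Nonempty (F' ≅ F) := by
  have hinit : IsEmpty (F'.obj (⊥_ C)) := by
    let e : F'.obj ((⊥_ C) ⨿ (⊥_ C)) ≃ F'.obj (⊥_ C) ⊕ F'.obj (⊥_ C) :=
      ((PreservesColimitPair.iso (F' ⋙ FintypeCat.incl) (⊥_ C) (⊥_ C)).symm.trans
        (Types.binaryCoproductIso (FintypeCat.incl.obj (F'.obj (⊥_ C))) (FintypeCat.incl.obj (F'.obj (⊥_ C))))).toEquiv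
    let i : (⊥_ C) ⨿ (⊥_ C) ≅ ⊥_ C := ⟨coprod.desc (𝟙 _) (𝟙 _), coprod.inl, by
      apply coprod.hom_ext <;> exact initialIsInitial.hom_ext _ _, coprod.inl_desc _ _⟩
    let e' : F'.obj ((⊥_ C) ⨿ (⊥_ C)) ≃ F'.obj (⊥_ C) := ((F' ⋙ FintypeCat.incl).mapIso i).toEquiv
    have h1 := Nat.card_congr (e'.symm.trans e)
    rw [Nat.card_sum] at h1
    exact Finite.card_eq_zero_iff.mp (by omega)
  have : PreservesColimit (Functor.empty.{0} C) F' := preservesInitial_of_iso F'
    (initialIsInitial.uniqueUpToIso ((Concrete.initial_iff_empty_of_preserves_of_reflects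
      (F'.obj (⊥_ C))).mpr hinit).some)
  have := preservesColimitsOfShape_pempty_of_preservesInitial F'
  have : PreservesFiniteCoproducts F' := ⟨fun n => preservesShape_fin_of_preserves_binary_and_initial F' n⟩
  refine Groth.Agent.GalCat.Unique.nonempty_iso F F' fun A hA => ?_
  by_contra hne
  obtain ⟨hi⟩ := h A (not_nonempty_iff.mp hne)
  exact IsConnected.notInitial hi

end Groth.Agent.S5145
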