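import Groth.Statements.S5155
import Groth.Agent.InjHull.Matlis
import Mathlib.Algebra.Module.SpanRankOperations

set_option autoImplicit false
universe u
open Matlis

namespace Groth.Agent.S5155

/-- Let A be a Noetherian local ring with residue field k. An A-module E is an injective hull of k if
and only if E is injective, E is m-power torsion, and Hom_A(k, E) is simple (one-dimensional over
k). (The torsion condition is needed: for a prime p ≠ m the module E(k) ⊕ E(A/p) is injective with
Hom_A(k, −) simple, represents the same functor on modules of finite length, and is not an injective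
hull of k; the published definition of a dualizing module leaves this condition implicit and the
published proof uses it.) -/
theorem result (A : Type u) [CommRing A] [IsLocalRing A] [IsNoetherianRing A] (E : Type u) [AddCommGroup E] [Module A E] : (∃ f : IsLocalRing.ResidueField A →ₗ[A] E, InjHull.IsInjectiveHull f) ↔ (Module.Injective A E ∧ LocCoh.IsPowerTorsion (IsLocalRing.maximalIdeal A) E ∧ IsSimpleModule A (IsLocalRing.ResidueField A →ₗ[A] E)) := by
  constructor
  · rintro ⟨f, hf⟩
    refine ⟨hf.isInjective, InjHull.Matlis.isPowerTorsion_hull hf, ?_⟩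
    obtain ⟨e⟩ := InjHull.Matlis.dual_residueField hf
    exact isSimpleModule_iff_quot_maximal.mpr ⟨_, inferInstance, ⟨e⟩⟩
  · rintro ⟨hinj, hpt, hsimple⟩
    have := IsSimpleModule.nontrivial A (IsLocalRing.ResidueField A →ₗ[A] E)
    obtain ⟨φ, hφ⟩ := exists_ne (0 : IsLocalRing.ResidueField A →ₗ[A] E)
    have hφ1 : φ 1 ≠ 0 := by
      intro h
      refine hφ (LinearMap.ext fun c => ?_)
      obtain ⟨a, rfl⟩ := Ideal.Quotient.mk_surjective c
      have e : (Ideal.Quotient.mk (IsLocalRing.maximalIdeal A) a) = a • (1 : IsLocalRing.ResidueField A) := by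
        rw [Algebra.smul_def, mul_one]; rfl
      exact ((congrArg φ e).trans (by rw [map_smul, h, smul_zero]) : φ _ = 0)
    obtain ⟨g, hg, -⟩ := InjHull.Prime.exists_hull_of_socle_elem hinj hφ1 (fun a ha => by
      rw [← map_smul, InjHull.Matlis.residue_smul_eq_zero ha, map_zero]) (fun x hx => by
      obtain ⟨r, hr0, hr⟩ := InjHull.Matlis.exists_smul_socle hpt hx
      let ψ : IsLocalRing.ResidueField A →ₗ[A] E :=
        Submodule.liftQ (IsLocalRing.maximalIdeal A) (LinearMap.toSpanSingleton A E (r • x))
          (fun a ha => by simpa using hr a ha)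
      obtain ⟨c, hc⟩ := IsSimpleModule.toSpanSingleton_surjective A hφ ψ
      refine ⟨r, c, ?_, hr0⟩
      have := LinearMap.congr_fun hc 1
      exact ((one_smul A (r • x)).symm.trans this.symm).trans rfl)
    exact ⟨g, hg⟩

end Groth.Agent.S5155
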