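import Groth.Statements.S5156
import Groth.Agent.InjHull.Coextend
import Groth.Agent.InjHull.Recognize
import Mathlib.RingTheory.LocalRing.Quotient

set_option autoImplicit false
universe u
open Matlis

namespace Groth.Agent.S5156

/-- Let A and B be Noetherian local rings with B a finite A-algebra, and E an injective hull of the
residue field of A (a dualizing module for A). Then Hom_A(B, E), as a B-module through the action on
the source, is an injective hull of the residue field of B (a dualizing module for B). -/
theorem result (A B : Type u) [CommRing A] [IsLocalRing A] [IsNoetherianRing A] [CommRing B] [IsLocalRing B] [IsNoetherianRing B] [Algebra A B] [Module.Finite A B] (E : Type u) [AddCommGroup E] [Module A E] (f : IsLocalRing.ResidueField A →ₗ[A] E) (hf : InjHull.IsInjectiveHull f) : ∃ g : IsLocalRing.ResidueField B →ₗ[B] (ModuleCat.coextendScalars (algebraMap A B)).obj (ModuleCat.of A E), InjHull.IsInjectiveHull g := by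
  set H := (ModuleCat.coextendScalars (algebraMap A B)).obj (ModuleCat.of A E)
  set mB := IsLocalRing.maximalIdeal B
  set J := (IsLocalRing.maximalIdeal A).map (algebraMap A B) with hJ
  have hloc : IsLocalHom (algebraMap A B) := by
    refine ((IsLocalRing.local_hom_TFAE (algebraMap A B)).out 0 2).mpr ?_
    refine IsLocalRing.le_maximalIdeal fun h => ?_
    have h1 : (IsLocalRing.maximalIdeal A) • (⊤ : Submodule A B) = ⊤ := by
      rw [Ideal.smul_top_eq_map, h]; rfl
    have h2 := Submodule.eq_bot_of_le_smul_of_le_jacobson_bot (IsLocalRing.maximalIdeal A)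
      (⊤ : Submodule A B) Module.Finite.fg_top h1.ge (IsLocalRing.maximalIdeal_le_jacobson _)
    exact one_ne_zero ((Submodule.mem_bot A).mp (h2 ▸ Submodule.mem_top (x := (1 : B))))
  have hfinQ : IsFiniteLength A (IsLocalRing.ResidueField B) := by
    refine InjHull.Recognize.isFiniteLength_quotient_of_pow_le (a := IsLocalRing.maximalIdeal A)
      (N := 1) (by rw [pow_one]) |> fun h0 => ?_
    letI : Field (A ⧸ IsLocalRing.maximalIdeal A) := Ideal.Quotient.field _
    have : Module.Finite A (IsLocalRing.ResidueField B) := inferInstance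
    obtain ⟨n, s, hs⟩ := Module.Finite.exists_fin (R := A) (M := IsLocalRing.ResidueField B)
    have hle : ∀ a ∈ IsLocalRing.maximalIdeal A, ∀ x : IsLocalRing.ResidueField B, a • x = 0 :=
      fun a ha x => by
        rw [← algebraMap_smul B a, InjHull.Matlis.residue_smul_eq_zero]
        exact map_nonunit (algebraMap A B) a ha
    let Φ : (Fin n → A ⧸ IsLocalRing.maximalIdeal A) →ₗ[A] IsLocalRing.ResidueField B :=
      ∑ i, (Submodule.liftQ _ (LinearMap.toSpanSingleton A _ (s i))
        (fun a ha => by simpa using hle a ha (s i))).comp (LinearMap.proj i)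
    refine IsFiniteLength.of_surjective (f := Φ) ?_ ?_
    · have := (isFiniteLength_iff_isNoetherian_isArtinian.mp h0)
      obtain ⟨_, _⟩ := this
      exact isFiniteLength_iff_isNoetherian_isArtinian.mpr ⟨inferInstance, inferInstance⟩
    · rw [← LinearMap.range_eq_top, eq_top_iff, ← hs, Submodule.span_le]
      rintro _ ⟨i, rfl⟩
      refine ⟨Pi.single i 1, ?_⟩
      simp only [Φ, LinearMap.sum_apply]
      rw [Finset.sum_eq_single i (fun j _ hj => by simp [hj]) (by simp)]
      simp only [LinearMap.comp_apply, LinearMap.proj_apply, Pi.single_eq_same]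
      exact one_smul A (s i)
  obtain ⟨g, hg⟩ := InjHull.Coextend.exists_hull_gam (A := A) (B := B) hf.isInjective hfinQ
    (InjHull.Matlis.length_dual hf hfinQ)
  have htop : InjHull.Noetherian.Gam mB (InjHull.Coextend.Co A B E) = ⊤ := by
    rw [eq_top_iff]
    intro x _
    obtain ⟨n, hn⟩ := InjHull.Noetherian.exists_pow_smul_eq_zero
      (InjHull.Matlis.isPowerTorsion_hull hf) (InjHull.Coextend.ap x)
    have hart : IsArtinianRing (B ⧸ J) := by
      have h0 : IsArtinianRing (A ⧸ IsLocalRing.maximalIdeal A) := by
        letI : Field (A ⧸ IsLocalRing.maximalIdeal A) := Ideal.Quotient.field _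
        infer_instance
      have : Module.Finite (A ⧸ IsLocalRing.maximalIdeal A) (B ⧸ J) :=
        Module.Finite.of_restrictScalars_finite A _ _
      exact IsArtinianRing.of_finite (A ⧸ IsLocalRing.maximalIdeal A) (B ⧸ J)
    obtain ⟨N, hN⟩ := IsLocalRing.exists_maximalIdeal_pow_le_of_isArtinianRing_quotient J
    refine InjHull.Noetherian.mem_gam.mpr ⟨N * n, fun b hb => ?_⟩
    have hb' : b ∈ J ^ n := Ideal.pow_right_mono hN n (by rwa [← pow_mul])
    rw [hJ, ← Ideal.map_pow] at hb'
    refine Submodule.span_induction (p := fun u _ => u • x = 0) ?_ (zero_smul _ _)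
      (fun u v _ _ hu hv => by rw [add_smul, hu, hv, add_zero])
      (fun c u _ hu => by rw [smul_eq_mul, mul_smul, hu, smul_zero]) hb'
    rintro _ ⟨a, ha, rfl⟩
    refine InjHull.Coextend.ext_ap fun t => ?_
    rw [InjHull.Coextend.ap_smul, InjHull.Coextend.ap_zero, mul_comm, ← Algebra.smul_def, map_smul,
      hn a ha]
  let e : InjHull.Noetherian.Gam mB (InjHull.Coextend.Co A B E) ≃ₗ[B] InjHull.Coextend.Co A B E :=
    (LinearEquiv.ofEq _ _ htop).trans Submodule.topEquiv
  exact ⟨e.toLinearMap.comp g, InjHull.Basic.isInjectiveHull_equiv_comp hg e⟩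

end Groth.Agent.S5156
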