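import Groth.Statements.S5160
import Groth.Agent.DualCx.GorNormal
import Groth.Agent.S0342
import Groth.Agent.OldExt.Compare

set_option autoImplicit false
universe u
open Dual

namespace Groth.Agent.S5160

/-- Let A be a regular local ring of dimension n with maximal ideal m. Then the local cohomology module
H^n_m(A), the direct limit of the Ext^n_A(A/m^r, A), is an injective hull of the residue field (it
is the dualizing module of A). -/
theorem result (A : Type u) [CommRing A] [IsRegularLocalRing A] (n : ℕ) (hn : ringKrullDim A = n) : ∃ f : IsLocalRing.ResidueField A →ₗ[A] LocCoh.H (IsLocalRing.maximalIdeal A) n A, InjHull.IsInjectiveHull f := by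
  have : LocCoh.IsGorensteinLocalRing A := S0342.result A
  exact DualCx.GorNormal.exists_hull hn

end Groth.Agent.S5160
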