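import Groth.Statements.S5163
import Groth.Agent.Depth.Open

set_option autoImplicit false
universe u
open LocCoh

namespace Groth.Agent.S5163

/-- For modules over a Noetherian ring. Let P be a finite A-module and H any A-module with Supp H ⊆ Supp
P. If Hom_A(P, H) = 0 then H = 0. (The published lemma is stated over an arbitrary prescheme; its
proof uses that a nonzero module has an associated prime, so the ring is taken Noetherian here.) -/
theorem result (A : Type u) [CommRing A] [IsNoetherianRing A] (P H : Type u) [AddCommGroup P] [Module A P] [Module.Finite A P] [AddCommGroup H] [Module A H] (hsupp : Module.support A H ⊆ Module.support A P) (hhom : Subsingleton (P →ₗ[A] H)) : Subsingleton H := by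
  by_contra hne
  rw [not_subsingleton_iff_nontrivial] at hne
  obtain ⟨p, hp⟩ := associatedPrimes.nonempty A H
  have hprime := Depth.isPrime_of_mem_associatedPrimes hp
  obtain ⟨-, φ, hφ⟩ := (isAssociatedPrime_iff_exists_injective_linearMap p H).mp hp
  have hpP : (⟨p, hprime⟩ : PrimeSpectrum A) ∈ Module.support A P := by
    refine hsupp ?_
    exact Module.mem_support_iff'.mpr ⟨φ (Ideal.Quotient.mk p 1), fun r hr h0 => hr <| by
      rw [← map_smul] at h0
      have h1 := hφ (h0.trans (map_zero φ).symm)
      rwa [Algebra.smul_def, Ideal.Quotient.algebraMap_eq, ← map_mul, mul_one,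
        Ideal.Quotient.eq_zero_iff_mem] at h1⟩
  have hss : Subsingleton (P →ₗ[A] A ⧸ p) := by
    refine ⟨fun a b => LinearMap.ext fun x => hφ ?_⟩
    exact LinearMap.congr_fun (hhom.elim (φ ∘ₗ a) (φ ∘ₗ b)) x
  obtain ⟨r, hr, hreg⟩ := IsSMulRegular.subsingleton_linearMap_iff.mp hss
  rw [Module.support_eq_zeroLocus] at hpP
  have hrp : r ∈ p := hpP hr
  have h0 : r • (Ideal.Quotient.mk p 1) = r • (0 : A ⧸ p) := by
    rw [smul_zero, Algebra.smul_def, Ideal.Quotient.algebraMap_eq, ← map_mul, mul_one]
    exact Ideal.Quotient.eq_zero_iff_mem.mpr hrp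
  exact hprime.ne_top ((Ideal.eq_top_iff_one p).mpr (Ideal.Quotient.eq_zero_iff_mem.mp (hreg h0)))

end Groth.Agent.S5163
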