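import Groth.Statements.S5164
import Groth.Agent.DualShiftPrime.Basic

set_option autoImplicit false
universe u
open LocCoh

namespace Groth.Agent.S5164

/-- A longest chain from `p` to the nearest point of `V(I)`: every step is saturated and the
penultimate point has codimension one. -/
theorem exists_chain {A : Type u} [CommRing A] (I : Ideal A) (p : PrimeSpectrum A) (hp : ¬ I ≤ p.asIdeal)
    {c : ℕ} (hc : SGA2.relCodim I p = c) :
    ∃ (k : ℕ) (s : ℕ → PrimeSpectrum A), k + 1 = c ∧ s 0 = p ∧ (∀ i < k, s i ⋖ s (i + 1)) ∧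
      ¬ I ≤ (s k).asIdeal ∧ SGA2.relCodim I (s k) = 1 := by
  have hne : Nonempty {q : PrimeSpectrum A // p ≤ q ∧ I ≤ q.asIdeal} := by
    by_contra h
    rw [not_nonempty_iff] at h
    unfold SGA2.relCodim at hc
    rw [iInf_of_empty] at hc
    exact ENat.top_ne_coe c hc
  obtain ⟨⟨q, hpq, hIq⟩, hq⟩ := ENat.exists_eq_iInf
    (fun q : {q : PrimeSpectrum A // p ≤ q ∧ I ≤ q.asIdeal} => Order.height (⟨q.1, q.2.1⟩ : Set.Ici p))
  replace hq : Order.height (⟨q, hpq⟩ : Set.Ici p) = c := hq.trans hc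
  have hlow : ∀ (x : Set.Ici p), I ≤ x.1.asIdeal → (c : ℕ∞) ≤ Order.height x := fun x hx =>
    hc ▸ iInf_le (fun q : {q : PrimeSpectrum A // p ≤ q ∧ I ≤ q.asIdeal} =>
      Order.height (⟨q.1, q.2.1⟩ : Set.Ici p)) ⟨x.1, x.2, hx⟩
  have hbot : Order.height (⟨p, Set.self_mem_Ici⟩ : Set.Ici p) = 0 :=
    Order.height_eq_zero.mpr fun x _ => x.2
  obtain ⟨k, rfl⟩ : ∃ k, c = k + 1 := Nat.exists_eq_succ_of_ne_zero fun h0 => hp (by
    subst h0
    have : IsMin (⟨q, hpq⟩ : Set.Ici p) := Order.height_eq_zero.mp (by simpa using hq)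
    exact hIq.trans (this (show (⟨p, Set.self_mem_Ici⟩ : Set.Ici p) ≤ ⟨q, hpq⟩ from hpq)))
  obtain ⟨l, hlast, hlen⟩ := Order.exists_series_of_height_eq_coe _ hq
  have hh : ∀ i : Fin (l.length + 1), Order.height (l i) = i :=
    Order.height_eq_index_of_length_eq_height_last (by rw [hlast, hq, hlen])
  let s : ℕ → PrimeSpectrum A := fun i => if h : i < l.length + 1 then (l ⟨i, h⟩).1 else p
  have hs : ∀ i (h : i < l.length + 1), s i = (l ⟨i, h⟩).1 := fun i h => dif_pos h
  have hcov : ∀ i (h : i + 1 < l.length + 1), (l ⟨i, by omega⟩).1 ⋖ (l ⟨i + 1, h⟩).1 := fun i h => by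
    refine ⟨l.step ⟨i, by omega⟩, fun x hx hx' => ?_⟩
    have hxp : p ≤ x := (l ⟨i, by omega⟩).2.trans hx.le
    have e1 := Order.height_add_one_le (show l ⟨i, by omega⟩ < ⟨x, hxp⟩ from hx)
    have e2 := Order.height_add_one_le (show (⟨x, hxp⟩ : Set.Ici p) < l ⟨i + 1, h⟩ from hx')
    rw [hh] at e1 e2
    have e3 := (add_le_add e1 le_rfl).trans e2
    simp only [Fin.val_mk] at e3
    norm_cast at e3
    omega
  have hk : ¬ I ≤ (l ⟨k, by omega⟩).1.asIdeal := fun h => by
    have := hlow _ h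
    rw [hh] at this
    simp only [Fin.val_mk] at this
    norm_cast at this
    omega
  refine ⟨k, s, rfl, ?_, fun i hi => ?_, ?_, ?_⟩
  · rw [hs 0 (by omega)]
    exact le_antisymm ((Order.height_eq_zero.mp ((hh ⟨0, by omega⟩).trans (by simp)))
      (show (⟨p, Set.self_mem_Ici⟩ : Set.Ici p) ≤ l ⟨0, by omega⟩ from (l ⟨0, by omega⟩).2)) (l ⟨0, by omega⟩).2
  · rw [hs i (by omega), hs (i + 1) (by omega)]
    exact hcov i (by omega)
  · rwa [hs k (by omega)]
  rw [hs k (by omega)]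
  have hlq : (l ⟨k + 1, by omega⟩).1 = q := by
    have : l ⟨k + 1, by omega⟩ = l.last := congrArg l (Fin.ext (by simp [hlen]))
    rw [this, hlast]
  have hc' : (l ⟨k, by omega⟩).1 ⋖ q := hlq ▸ hcov k (by omega)
  refine le_antisymm ?_ ?_
  · refine (iInf_le (fun x : {x : PrimeSpectrum A // (l ⟨k, by omega⟩).1 ≤ x ∧ I ≤ x.asIdeal} =>
      Order.height (⟨x.1, x.2.1⟩ : Set.Ici (l ⟨k, by omega⟩).1)) ⟨q, hc'.1.le, hIq⟩).trans ?_
    refine Order.height_le fun t ht => ?_
    by_contra hlt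
    have h2 : 2 ≤ t.length := by
      have : ((1 : ℕ) : ℕ∞) < (t.length : ℕ∞) := by simpa using not_le.mp hlt
      exact_mod_cast this
    have a01 : (t ⟨0, by omega⟩).1 < (t ⟨1, by omega⟩).1 := t.strictMono (by simp [Fin.lt_def])
    have a12 : (t ⟨1, by omega⟩).1 < t.last.1 := t.strictMono (by simp [Fin.lt_def]; omega)
    rw [ht] at a12
    exact hc'.2 (lt_of_le_of_lt (t ⟨0, by omega⟩).2 a01) a12
  · refine le_iInf fun ⟨x, hx, hxI⟩ => ?_
    rw [Order.one_le_iff_ne_zero]
    refine fun h0 => hk ?_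
    have : IsMin (⟨x, hx⟩ : Set.Ici (l ⟨k, by omega⟩).1) := Order.height_eq_zero.mp h0
    exact hxI.trans (this (show (⟨_, Set.self_mem_Ici⟩ : Set.Ici (l ⟨k, by omega⟩).1) ≤ ⟨x, hx⟩ from hx))

/-- Affine form. Let A be a Noetherian ring which is a quotient of a regular ring, I an ideal, M a
finite A-module and i ≥ 0; c(p) denotes the codimension of V(p) ∩ V(I) in V(p). Then the hypothesis
of the finiteness criterion — H^{i−c(p)}_{pA_p}(M_p) = 0 for all primes p ⊉ I — is equivalent to its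
codimension-one case: H^{i−1}_{pA_p}(M_p) = 0 for all primes p ⊉ I with c(p) = 1. -/
theorem result (R : Type u) [CommRing R] [IsRegularRing R] (A : Type u) [CommRing A] [IsNoetherianRing A] (π : R →+* A) (hπ : Function.Surjective π) (I : Ideal A) (M : Type u) [AddCommGroup M] [Module A M] [Module.Finite A M] (i : ℕ) : (∀ p : PrimeSpectrum A, ¬ I ≤ p.asIdeal → ∀ (c j : ℕ), SGA2.relCodim I p = c → j + c = i → Subsingleton (LocCoh.H (IsLocalRing.maximalIdeal (Localization.AtPrime p.asIdeal)) j (LocalizedModule p.asIdeal.primeCompl M))) ↔ (∀ p : PrimeSpectrum A, ¬ I ≤ p.asIdeal → SGA2.relCodim I p = 1 → ∀ j : ℕ, j + 1 = i → Subsingleton (LocCoh.H (IsLocalRing.maximalIdeal (Localization.AtPrime p.asIdeal)) j (LocalizedModule p.asIdeal.primeCompl M))) := by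
  refine ⟨fun h p hp hc j hj => h p hp 1 j (by simpa using hc) hj, fun h p hp c j hc hjc => ?_⟩
  by_contra hne
  letI : Algebra R A := π.toAlgebra
  letI : Module R M := Module.compHom M π
  haveI : IsScalarTower R A M := ⟨fun r a m => mul_smul (π r) a m⟩
  obtain ⟨k, s, hkc, hs0, hstep, hk, hk1⟩ := exists_chain I p hp hc
  have key : ∀ i ≤ k, ¬ Subsingleton (LocCoh.H (IsLocalRing.maximalIdeal (Localization.AtPrime (s i).asIdeal))
      (j + i) (LocalizedModule (s i).asIdeal.primeCompl M)) := by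
    intro i hi
    induction i with
    | zero =>
      subst hs0
      exact hne
    | succ i ih => exact DualShiftPrime.not_subsingleton_H_succ (R := R) M hπ (hstep i hi) (ih (by omega))
  exact key k le_rfl (h (s k) hk hk1 (j + k) (by omega))

end Groth.Agent.S5164
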