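import Groth.Statements.S5167
import Groth.Agent.LocCohSweep.DualityLocus
import Groth.Agent.S0342

set_option autoImplicit false
open Groth.Agent
universe u
open LocCoh

namespace Groth.Agent.S5167

/-- Let A be a Noetherian local ring which is a quotient of a regular local ring, m its maximal ideal, M
a finite A-module and n ≥ 0. Then H^i_m(M) is of finite length for all i ≤ n if and only if
depth(M_p) > n − dim(A/p) for every prime p ≠ m. -/
theorem result (R : Type u) [CommRing R] [IsRegularLocalRing R] (A : Type u) [CommRing A] [IsLocalRing A] [IsNoetherianRing A] (π : R →+* A) (hπ : Function.Surjective π) (M : Type u) [AddCommGroup M] [Module A M] [Module.Finite A M] (n : ℕ) : (∀ i : ℕ, i ≤ n → IsFiniteLength A (LocCoh.H (IsLocalRing.maximalIdeal A) i M)) ↔ ∀ p : PrimeSpectrum A, p.asIdeal ≠ IsLocalRing.maximalIdeal A → ∀ e : ℕ, ringKrullDim (A ⧸ p.asIdeal) = e → (n : ℕ∞) < LocCoh.depth (Localization.AtPrime p.asIdeal) (LocalizedModule p.asIdeal.primeCompl M) + e := by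
  have : LocCoh.IsGorensteinLocalRing R := S0342.result R
  obtain ⟨ω, hω, hn⟩ := Groth.Agent.LocCohSweep.DualityLocus.exists_normalized A R π hπ
  simp only [Groth.Agent.LocCohSweep.DualityLocus.isFiniteLength_iff_Z hω hn M]
  constructor
  · intro h p hp e he
    obtain ⟨hd, hle⟩ := Groth.Agent.LocCohSweep.DualityLocus.deg_eq hω hn p
    rw [hd] at he
    have he' : (-DualCx.Dimfun.deg hω p).toNat = e := by exact_mod_cast he
    by_cases hsub : Subsingleton (LocalizedModule p.asIdeal.primeCompl M)
    · have : LocCoh.depth (Localization.AtPrime p.asIdeal) (LocalizedModule p.asIdeal.primeCompl M) = ⊤ :=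
        if_pos (Subsingleton.elim _ _)
      rw [this, top_add]
      exact ENat.natCast_lt_top n
    · have := not_subsingleton_iff_nontrivial.mp hsub
      obtain ⟨k, hk, -, hnZ⟩ := DualCx.Normalized.depth_spec hω p M
      rw [hk]
      by_contra hlt
      have hle' : k + e ≤ n := by exact_mod_cast le_of_not_gt hlt
      have := h (k + e) hle' p hp
      rw [show -((k + e : ℕ) : ℤ) = DualCx.Dimfun.deg hω p - k by omega] at this
      exact hnZ this
  · intro h i hi p hp
    obtain ⟨hd, hle⟩ := Groth.Agent.LocCohSweep.DualityLocus.deg_eq hω hn p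
    by_cases hsub : Subsingleton (LocalizedModule p.asIdeal.primeCompl M)
    · rw [DualCx.Normalized.Z_E_iff hω]
      exact DualCx.Devissage.subsingleton_of_subsingleton _
    · have := not_subsingleton_iff_nontrivial.mp hsub
      obtain ⟨k, hk, hZ, -⟩ := DualCx.Normalized.depth_spec hω p M
      have h1 := h p hp _ hd
      rw [hk] at h1
      have h2 : n < k + (-DualCx.Dimfun.deg hω p).toNat := by exact_mod_cast h1
      exact hZ _ (by omega)

end Groth.Agent.S5167
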