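import Groth.Statements.S5171
import Groth.Agent.LocCoh.DepthVanishing
-- import your own Groth.Agent.* helpers here

set_option autoImplicit false
universe u
open LocCoh

namespace Groth.Agent.S5171

/-- Let A be a Noetherian ring, J an ideal, n ≥ 0 and G a finite Cohen–Macaulay A-module (each
localization G_p is zero or Cohen–Macaulay). Then H^i_J(G) = 0 for i < n if and only if codim(V(J) ∩
Supp G, Supp G) ≥ n, i.e. dim Supp(G_p) ≥ n for every p ∈ V(J) ∩ Supp G. -/
theorem result (A : Type u) [CommRing A] [IsNoetherianRing A] (J : Ideal A) (G : Type u) [AddCommGroup G] [Module A G] [Module.Finite A G] (hCM : ∀ p : PrimeSpectrum A, Subsingleton (LocalizedModule p.asIdeal.primeCompl G) ∨ LocCoh.IsCohenMacaulayModule (Localization.AtPrime p.asIdeal) (LocalizedModule p.asIdeal.primeCompl G)) (n : ℕ) : (∀ i : ℕ, i < n → Subsingleton (LocCoh.H J i G)) ↔ ∀ p : PrimeSpectrum A, J ≤ p.asIdeal → p ∈ Module.support A G → (n : WithBot ℕ∞) ≤ Module.supportDim (Localization.AtPrime p.asIdeal) (LocalizedModule p.asIdeal.primeCompl G) :=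 by
  have hsupp : Module.support A (A ⧸ J) = PrimeSpectrum.zeroLocus (J : Set A) := by
    rw [Module.support_eq_zeroLocus, Ideal.annihilator_quotient]
  have hk : J ^ 1 ≤ Module.annihilator A (A ⧸ J) := by rw [Ideal.annihilator_quotient, pow_one]
  have hmain : (∀ i : ℕ, i < n → Subsingleton (LocCoh.H J i G)) ↔
      (n : ℕ∞) ≤ LocCoh.idealDepth J G := by
    rw [Groth.Agent.Depth.le_idealDepth_iff_ext]
    exact ⟨fun h => Groth.Agent.LocCoh.subsingleton_ext_of_forall_subsingleton_H n
        (ModuleCat.of A G) h (ModuleCat.of A (A ⧸ J)) 1 hk,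
      fun h => Groth.Agent.LocCoh.subsingleton_H_of_forall_subsingleton_ext (A ⧸ J) hsupp n
        (ModuleCat.of A G) h⟩
  rw [hmain, Groth.Agent.Depth.idealDepth_eq_iInf_depth, le_iInf₂_iff]
  refine forall_congr' fun p => forall_congr' fun hp => ?_
  by_cases hG : p ∈ Module.support A G
  · rcases hCM p with h | h
    · exact absurd h (not_subsingleton_iff_nontrivial.mpr (Module.mem_support_iff.mp hG))
    · have h' : Module.supportDim (Localization.AtPrime p.asIdeal)
          (LocalizedModule p.asIdeal.primeCompl G) =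
          ((LocCoh.depth (Localization.AtPrime p.asIdeal)
            (LocalizedModule p.asIdeal.primeCompl G) : ℕ∞) : WithBot ℕ∞) := h
      rw [h']
      exact ⟨fun h _ => WithBot.coe_le_coe.mpr h, fun h => WithBot.coe_le_coe.mp (h hG)⟩
  · have h := Module.notMem_support_iff.mp hG
    refine ⟨fun _ h => absurd h hG, fun _ => ?_⟩
    have : LocCoh.depth (Localization.AtPrime p.asIdeal) (LocalizedModule p.asIdeal.primeCompl G) = ⊤ :=
      Groth.Agent.Depth.idealDepth_eq_top_of_smul_top_eq_top (Subsingleton.elim _ _)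
    rw [this]; exact le_top

end Groth.Agent.S5171
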