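import Groth.Statements.S5172
import Groth.Agent.S5164
import Groth.Agent.LocCoh.DepthVanishing
import Groth.Agent.LocCohZW.DepthZ

set_option autoImplicit false
universe u
open LocCoh

namespace Groth.Agent.S5172

/-- Let A be a Noetherian ring which is a quotient of a regular ring, I an ideal, M a finite A-module
and n ≥ 0; c(p) = codim(V(p) ∩ V(I), V(p)). Then depth M_p > n − c(p) for all primes p ⊉ I if and
only if depth M_p ≥ n for all primes p ⊉ I with c(p) = 1. -/
theorem result (R : Type u) [CommRing R] [IsRegularRing R] (A : Type u) [CommRing A] [IsNoetherianRing A] (π : R →+* A) (hπ : Function.Surjective π) (I : Ideal A) (M : Type u) [AddCommGroup M] [Module A M] [Module.Finite A M] (n : ℕ) : (∀ p : PrimeSpectrum A, ¬ I ≤ p.asIdeal → (n : ℕ∞) < LocCoh.depth (Localization.AtPrime p.asIdeal) (LocalizedModule p.asIdeal.primeCompl M) + SGA2.relCodim I p) ↔ (∀ p : PrimeSpectrum A, ¬ I ≤ p.asIdeal → SGA2.relCodim I p = 1 → (n : ℕ∞) ≤ LocCoh.depth (Localization.AtPrime p.asIdeal) (LocalizedModule p.asIdeal.primeCompl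 M)) := by
  refine ⟨fun h p hp hc => ?_, fun h p hp => ?_⟩
  · have := h p hp
    rw [hc] at this
    rcases eq_or_ne (LocCoh.depth (Localization.AtPrime p.asIdeal) (LocalizedModule p.asIdeal.primeCompl M)) ⊤ with htop | htop
    · rw [htop]; exact le_top
    · exact Order.lt_add_one_iff_of_not_isMax (by simpa using htop) |>.1 this
  by_contra hle
  rw [not_lt] at hle
  obtain ⟨d, hd⟩ : ∃ d : ℕ, LocCoh.depth (Localization.AtPrime p.asIdeal) (LocalizedModule p.asIdeal.primeCompl M) = d :=
    ENat.ne_top_iff_exists.1 (ne_top_of_le_ne_top (ENat.natCast_ne_top n) (le_self_add.trans hle)) |>.imp fun _ => Eq.symm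
  obtain ⟨c, hc⟩ : ∃ c : ℕ, SGA2.relCodim I p = c :=
    ENat.ne_top_iff_exists.1 (ne_top_of_le_ne_top (ENat.natCast_ne_top n) (le_add_self.trans hle)) |>.imp fun _ => Eq.symm
  rw [hd, hc] at hle
  have hle' : d + c ≤ n := by exact_mod_cast hle
  letI : Algebra R A := π.toAlgebra
  letI : Module R M := Module.compHom M π
  haveI : IsScalarTower R A M := ⟨fun r a m => mul_smul (π r) a m⟩
  have hfin : ∀ q : PrimeSpectrum A, Module.Finite (Localization.AtPrime q.asIdeal) (LocalizedModule q.asIdeal.primeCompl M) :=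
    fun q => Module.Finite.equiv (LocalizedModule.equivTensorProduct q.asIdeal.primeCompl M).symm
  obtain ⟨k, s, hkc, hs0, hstep, hk, hk1⟩ := S5164.exists_chain I p hp hc
  have key : ∀ i ≤ k, ¬ Subsingleton (LocCoh.H (IsLocalRing.maximalIdeal (Localization.AtPrime (s i).asIdeal))
      (d + i) (LocalizedModule (s i).asIdeal.primeCompl M)) := by
    intro i hi
    induction i with
    | zero =>
      subst hs0
      have := hfin (s 0)
      exact not_subsingleton_iff_nontrivial.2 (LocCoh.H_of_idealDepth_eq _ d _ hd).2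
    | succ i ih => exact DualShiftPrime.not_subsingleton_H_succ (R := R) M hπ (hstep i hi) (ih (by omega))
  have h1 := h (s k) hk hk1
  have := hfin (s k)
  refine key k le_rfl ?_
  obtain hlt : ((d + k : ℕ) : ℕ∞) < LocCoh.depth (Localization.AtPrime (s k).asIdeal)
      (LocalizedModule (s k).asIdeal.primeCompl M) :=
    lt_of_lt_of_le (by exact_mod_cast (show d + k < n by omega)) h1
  exact LocCohZW.DepthZ.subsingleton_H_of_lt_idealDepth _ (d + k) _ hlt

end Groth.Agent.S5172
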