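import Groth.Statements.S5175
import Groth.Agent.InjHull.Coextend
import Mathlib.LinearAlgebra.Dual.Lemmas

set_option autoImplicit false
universe u
open Matlis

namespace Groth.Agent.S5175

/-- Let k₀ be a field and A a Noetherian local k₀-algebra with [k : k₀] finite, k the residue field.
Then the topological dual A' = colim_n Hom_{k₀}(A/m^n, k₀), i.e. the submodule of Hom_{k₀}(A, k₀) of
forms killing some power of m (A acting through the source), is an injective hull of k (it is the
dualizing module of A). -/
theorem result (k₀ : Type u) [Field k₀] (A : Type u) [CommRing A] [IsLocalRing A] [IsNoetherianRing A] [Algebra k₀ A] [Module.Finite k₀ (A ⧸ IsLocalRing.maximalIdeal A)] : ∃ f : IsLocalRing.ResidueField A →ₗ[A] ↥(⨆ n : ℕ, Submodule.torsionBySet A ((ModuleCat.coextendScalars (algebraMap k₀ A)).obj (ModuleCat.of k₀ k₀)) ((IsLocalRing.maximalIdeal A ^ n : Ideal A) : Set A)), InjHull.IsInjectiveHull f := by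
  have hinj : Module.Injective k₀ k₀ := by
    apply Module.Baer.injective
    intro I g
    rcases Ideal.eq_bot_or_top I with rfl | rfl
    · exact ⟨0, fun x hx => by
        have : x = 0 := by simpa using hx
        subst this
        exact (map_zero g).symm⟩
    · exact ⟨g.comp (Submodule.topEquiv.symm).toLinearMap, fun x hx => rfl⟩
  have : Module.Finite k₀ (IsLocalRing.ResidueField A) :=
    inferInstanceAs (Module.Finite k₀ (A ⧸ IsLocalRing.maximalIdeal A))
  have hlen : Module.length k₀ (IsLocalRing.ResidueField A) =
      Module.finrank k₀ (IsLocalRing.ResidueField A) := Module.length_eq_finrank _ _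
  exact InjHull.Coextend.exists_hull_gam (A := k₀) (B := A) hinj
    (Module.length_ne_top_iff.mp (by rw [hlen]; simp))
    (by rw [hlen, Module.length_eq_finrank, Subspace.dual_finrank_eq])

end Groth.Agent.S5175
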