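import Groth.Statements.S5181
import Groth.Agent.EtDepthLib.Clopen

set_option autoImplicit false
universe u
open CategoryTheory CategoryTheory.Limits AlgebraicGeometry Opposite
open EtDepth

namespace Groth.Agent.S5181

/-- Last assertion, in the cases of depth ≥ 1 and depth ≥ 2. Let X be a scheme and j : U → X an open
immersion with closed complement Y; for X' étale over X write U' = X' ×_X U. Then (a) the Y-étale
depth of X is ≥ 1, i.e. the local cohomology sheaf H^0_Y(Z/ℓ) vanishes for every prime ℓ, if and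
only if for every scheme X' étale over X the restriction functor from finite étale covers of X' to
finite étale covers of U' is faithful; and (b) the Y-étale depth of X is ≥ 2, i.e. H^0_Y(Z/ℓ) and
H^1_Y(Z/ℓ) vanish for every prime ℓ, if and only if for every scheme X' étale over X that
restriction functor is full and faithful. (The case of depth ≥ 3 versus equivalences is the
prelude's definition of homotopic depth ≥ 3.) -/
theorem result {X U : Scheme.{u}} (j : U ⟶ X) [IsOpenImmersion j] [EtCoh.BCCont j] : ((∀ ℓ : ℕ, ℓ.Prime → EtDepth.DepthGE j (EtCoh.const X (ZMod ℓ)) 1) ↔ ∀ (X' : Scheme.{u}) (g : X' ⟶ X) [Etale g], (FEt.restrict (pullback.snd j g)).Faithful) ∧ ((∀ ℓ : ℕ, ℓ.Prime → EtDepth.DepthGE j (EtCoh.const X (ZMod ℓ)) 2) ↔ ∀ (X' : Scheme.{u}) (g : X' ⟶ X) [Etale g], (FEt.restrict (pullback.snd j g)).Full ∧ (FEt.restrict (pullback.snd j g)).Faithful) := by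
  open EtDepthLib in
  have h1 : ∀ F : EtCoh.Ab X, EtDepth.DepthGE j F 1 ↔ Mono (EtDual.unitApp j F) := fun F => by
    rw [← isZero_locCoh_zero_iff]
    exact ⟨fun h => h 0 Nat.one_pos, fun h p hp => by obtain rfl : p = 0 := (by omega); exact h⟩
  have h2 : ∀ F : EtCoh.Ab X, EtDepth.DepthGE j F 2 ↔ IsIso (EtDual.unitApp j F) := fun F => by
    rw [EtDepthLib.isIso_unit_iff]
    refine ⟨fun h => ⟨h 0 (by omega), h 1 (by omega)⟩, fun h p hp => ?_⟩
    rcases p with _ | _ | p
    exacts [h.1, h.2, absurd hp (by omega)]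
  let M : ℕ → AddCommGrpCat.{u + 1} := fun ℓ => AddCommGrpCat.of (ULift.{u + 1} (ZMod ℓ))
  have hc : (ULift.up 1 : M 2) ≠ 0 := fun h => one_ne_zero (α := ZMod 2) (congrArg ULift.down h)
  have hfin : ∀ ℓ : ℕ, ℓ.Prime → Finite (M ℓ) := fun ℓ hℓ => by
    have : NeZero ℓ := ⟨hℓ.ne_zero⟩
    exact inferInstanceAs (Finite (ULift.{u + 1} (ZMod ℓ)))
  refine ⟨⟨fun h X' g _ => ?_, fun h ℓ hℓ => ?_⟩, ⟨fun h X' g _ => ?_, fun h ℓ hℓ => ?_⟩⟩
  · have : Mono (EtDual.unitApp j (EtaleSite.ConstSections.cSheaf X (M 2))) :=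
      (h1 _).1 (h 2 Nat.prime_two)
    exact EtDepthLib.faithful_restrict j (EtDepthLib.clopenI_of_mono j (M 2) hc) g
  · exact (h1 _).2 (EtDepthLib.mono_unit_const j (M ℓ) (EtDepthLib.clopenI_of_faithful j h))
  · have hi : IsIso (EtDual.unitApp j (EtaleSite.ConstSections.cSheaf X (M 2))) :=
      (h2 _).1 (h 2 Nat.prime_two)
    have hI := EtDepthLib.clopenI_of_mono j (M 2) hc
    have hS := EtDepthLib.clopenS_of_extends j (M 2) hc (EtDepthLib.extends_of_isIso j (M 2))
    exact ⟨EtDepthLib.full_restrict j hI hS g, EtDepthLib.faithful_restrict j hI g⟩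
  · have hI := EtDepthLib.clopenI_of_faithful j fun X' g _ => (h X' g).2
    have hS := EtDepthLib.clopenS_of_full j fun X' g _ => (h X' g).1
    have := EtDepthLib.mono_unit_const j (M ℓ) hI
    have := hfin ℓ hℓ
    exact (h2 _).2 (EtDepthLib.isIso_unit_of_extends j (EtaleSite.ConstSections.cSheaf X (M ℓ))
      (EtDepthLib.extends_of_clopen j (M ℓ) hI hS))

end Groth.Agent.S5181
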