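import Groth.Statements.S5182
import Groth.Agent.NormFlatSeq12.Basic
import Mathlib.LinearAlgebra.TensorProduct.Basic

set_option autoImplicit false
universe u
open CInt

namespace Groth.Agent.S5182

open RingTheory.Sequence in
/-- In the local algebraic form to which its proof reduces. Let A be a Noetherian local ring, J a proper
ideal such that A is normally flat along J, i.e. every J^k/J^{k+1} is a flat (equivalently free)
A/J-module, and f_1, …, f_r elements of A whose images form a weakly regular sequence on A/J (each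
f_i a non-zero-divisor on A/J modulo the preceding ones). Then for every k ≥ 0 the f_i form a weakly
regular sequence on the A-module J^k and on the A-module J^k/J^{k+1}; in particular (k = 0) on A
itself, so that they are regular on the Rees algebra ⊕ J^k and on the associated graded ring ⊕
J^k/J^{k+1}. -/
theorem result (A : Type u) [CommRing A] [IsLocalRing A] [IsNoetherianRing A] (J : Ideal A) (hJ : J ≠ ⊤) (hflat : ∀ k : ℕ, Module.Flat (A ⧸ J) (↥(J ^ k) ⧸ (J • (⊤ : Submodule A ↥(J ^ k))))) (fs : List A) (hreg : RingTheory.Sequence.IsWeaklyRegular (A ⧸ J) fs) (k : ℕ) : RingTheory.Sequence.IsWeaklyRegular (↥(J ^ k)) fs ∧ RingTheory.Sequence.IsWeaklyRegular (↥(J ^ k) ⧸ (J • (⊤ : Submodule A ↥(J ^ k)))) fs := by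
  have hgr : ∀ j : ℕ, IsWeaklyRegular (↥(J ^ j) ⧸ (J • (⊤ : Submodule A ↥(J ^ j)))) fs := fun j => by
    rw [← isWeaklyRegular_map_algebraMap_iff (S := A ⧸ J)] at hreg ⊢
    haveI := hflat j
    exact ((TensorProduct.lid (A ⧸ J) (↥(J ^ j) ⧸ (J • (⊤ : Submodule A ↥(J ^ j))))).isWeaklyRegular_congr _).1
      (hreg.isWeaklyRegular_rTensor)
  refine ⟨?_, hgr k⟩
  refine Groth.Agent.NormFlatSeq12.of_forall_pow J hJ fs fun n => ?_
  induction n with
  | zero =>
    haveI : Subsingleton (↥(J ^ k) ⧸ J ^ 0 • (⊤ : Submodule A ↥(J ^ k))) :=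
      Submodule.Quotient.subsingleton_iff.2 (by rw [pow_zero, Ideal.one_eq_top, Submodule.top_smul])
    exact ⟨fun i hi => fun a b _ => Submodule.Quotient.mk_surjective _ |>.forall₂.2
      (fun x y => congrArg Submodule.Quotient.mk (Subsingleton.elim x y)) a b⟩
  | succ n ih =>
    let S : Submodule A ↥(J ^ k) := J ^ (n + 1) • ⊤
    let T : Submodule A ↥(J ^ k) := J ^ n • ⊤
    have hST : S ≤ T := Submodule.smul_mono_left (Ideal.pow_le_pow_right n.le_succ)
    have hm : ∀ x : ↥(J ^ (n + k)), (x : A) ∈ J ^ k := fun x => Ideal.pow_le_pow_right (Nat.le_add_left k n) x.2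
    have hT : ∀ y : ↥(J ^ k), y ∈ T ↔ (y : A) ∈ J ^ (n + k) := fun y => by
      rw [Submodule.mem_smul_top_iff, smul_eq_mul, ← pow_add]
    have hS : ∀ y : ↥(J ^ k), y ∈ S ↔ (y : A) ∈ J ^ (n + k + 1) := fun y => by
      rw [Submodule.mem_smul_top_iff, smul_eq_mul, ← pow_add, Nat.add_right_comm]
    have hJS : ∀ x : ↥(J ^ (n + k)), x ∈ J • (⊤ : Submodule A ↥(J ^ (n + k))) ↔ (x : A) ∈ J ^ (n + k + 1) := fun x => by
      rw [Submodule.mem_smul_top_iff, smul_eq_mul, pow_succ']
    let ι : ↥(J ^ (n + k)) →ₗ[A] ↥(J ^ k) := Submodule.inclusion (Ideal.pow_le_pow_right (Nat.le_add_left k n))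
    let f := Submodule.mapQ (J • (⊤ : Submodule A ↥(J ^ (n + k)))) S ι
      (fun x hx => (hS (ι x)).2 ((hJS x).1 hx))
    refine Groth.Agent.NormFlatSeq12.of_exact (f := f) (g := Submodule.factor hST) ?_ ?_
      (Submodule.factor_surjective hST) fs (hgr (n + k)) ih
    · rw [injective_iff_map_eq_zero]
      intro a ha
      obtain ⟨x, rfl⟩ := Submodule.Quotient.mk_surjective _ a
      rw [Submodule.mapQ_apply, Submodule.Quotient.mk_eq_zero, hS] at ha
      rw [Submodule.Quotient.mk_eq_zero, hJS]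
      exact ha
    · intro a
      obtain ⟨y, rfl⟩ := Submodule.Quotient.mk_surjective _ a
      change Submodule.Quotient.mk y = (0 : ↥(J ^ k) ⧸ T) ↔ _
      rw [Submodule.Quotient.mk_eq_zero, hT]
      constructor
      · intro hy
        exact ⟨Submodule.Quotient.mk ⟨y, hy⟩, rfl⟩
      · rintro ⟨z, hz⟩
        obtain ⟨x, rfl⟩ := Submodule.Quotient.mk_surjective _ z
        rw [Submodule.mapQ_apply, Submodule.Quotient.eq, hS] at hz
        have := Ideal.sub_mem _ x.2 (Ideal.pow_le_pow_right (Nat.le_succ (n + k)) hz)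
        simpa [ι] using this

end Groth.Agent.S5182
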