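import Groth.Statements.S5186
import Groth.Agent.Chow.Main
import Groth.Agent.Chow.PushDevissage
import Groth.Agent.ProperFin.Proper
import Groth.Agent.CohDev.Coh
import Groth.Agent.ModShf.GrothAb
import Groth.Agent.Props.QApprox

set_option autoImplicit false
universe u
open CategoryTheory AlgebraicGeometry
open Coherent

namespace Groth.Agent.S5186

open Limits in
/-- Direct image along an open immersion preserves injectives. -/
theorem preservesInjectives {X Y : AlgebraicGeometry.Scheme.{u}} (g : X ⟶ Y) [IsOpenImmersion g] :
    (Scheme.Modules.pushforward g).PreservesInjectiveObjects :=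
  ⟨fun {I} (_ : Injective I) => Injective.injective_of_adjoint (Scheme.Modules.restrictAdjunction g) I⟩

/-- Let f : X → S be a proper morphism of schemes with S locally Noetherian, U an open subset of X with
inclusion g : U → X, h = f ∘ g : U → S, F an O_U-module and n ≥ 0. If the higher direct images R^i
g_*(F) are coherent O_X-modules for all i ≤ n, then the higher direct images R^i h_*(F) are coherent
O_S-modules for all i ≤ n. (The existence of injective resolutions in the module categories is
carried as instance arguments.) -/
theorem result {X S : Scheme.{u}} (f : X ⟶ S) [IsProper f] [IsLocallyNoetherian S] (U : X.Opens) [HasInjectiveResolutions (U : Scheme.{u}).Modules] [HasInjectiveResolutions X.Modules] (F : (U : Scheme.{u}).Modules) (n : ℕ) (hg : ∀ i : ℕ, i ≤ n → Coh.IsCoh ((Coh.Rpush U.ι i).obj F)) (i : ℕ) (hi : i ≤ n) : Coh.IsCoh ((Coh.Rpush (U.ι ≫ f) i).obj F) := by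
  let h := Groth.Agent.Chow.PushDevissage.homology_mem (A := X.Modules) (B := S.Modules) (Q := Coh.IsCoh)
    { iso := fun e h => Groth.Agent.CohDev.isCoh_of_iso e h
      ker := fun f h h' => Groth.Agent.CohDev.isCoh_kernel f h h'.1
      coker := fun f h h' => Groth.Agent.CohDev.isCoh_cokernel f h.1 h'
      ext := fun hS h h' => Groth.Agent.CohDev.isCoh_of_shortExact hS h h' }
    (Scheme.Modules.pushforward f)
  have := preservesInjectives U.ι
  let I := injectiveResolution F
  let K := ((Scheme.Modules.pushforward U.ι).mapHomologicalComplex _).obj I.cocomplex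
  refine Groth.Agent.CohDev.isCoh_of_iso ((I.isoRightDerivedObj (Scheme.Modules.pushforward (U.ι ≫ f)) i) ≪≫
    (HomologicalComplex.homologyFunctor _ _ i).mapIso
      ((NatIso.mapHomologicalComplex (Scheme.Modules.pushforwardComp U.ι f) _).symm.app I.cocomplex)).symm ?_
  exact h K (fun j => Functor.injective_obj (Scheme.Modules.pushforward U.ι) (I.cocomplex.X j)) n
    (fun j hj p => Groth.Agent.ProperFin.isCoh_rpush
      (fun B _ _ Z g _ => Groth.Agent.Chow.chow g) f _
      (Groth.Agent.CohDev.isCoh_of_iso (I.isoRightDerivedObj (Scheme.Modules.pushforward U.ι) j) (hg j hj)) p) i hi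

end Groth.Agent.S5186
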