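import Groth.Statements.S5190
import Groth.Agent.FormalSupp.Punct
import Groth.Agent.FormalSupp.TorFree
-- import your own Groth.Agent.* helpers here

set_option autoImplicit false
universe u
open CategoryTheory CategoryTheory.Limits AlgebraicGeometry
open Formal

namespace Groth.Agent.S5190

theorem relCodim_eq_one {A : Type u} [CommRing A] {I : Ideal A} {p q : PrimeSpectrum A}
    (hp : ¬ I ≤ p.asIdeal) (hq : I ≤ q.asIdeal) (hpq : p ⋖ q) : SGA2.relCodim I p = 1 := by
  refine le_antisymm ((iInf_le _ ⟨q, hpq.le, hq⟩).trans ?_) (le_iInf fun r => ?_)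
  · refine Order.height_le_coe_iff.mpr fun b hb => ?_
    have hb' : b.1 = p := by
      by_contra hne
      exact hpq.2 (lt_of_le_of_ne b.2 (Ne.symm hne)) hb
    have hmin : IsMin b := fun c _ => show b.1 ≤ c.1 from hb'.le.trans c.2
    rw [Order.height_eq_zero.mpr hmin]
    exact_mod_cast Nat.one_pos
  · refine Order.one_le_iff_ne_zero.mpr fun h => ?_
    have hle : r.1 ≤ p := Order.height_eq_zero.mp h
      (show (⟨p, le_refl p⟩ : Set.Ici p) ≤ ⟨r.1, r.2.1⟩ from r.2.1)
    exact hp (r.2.2.trans hle)

/-- For a general closed subset T of Spec A. Let A be a Noetherian ring which is a quotient of a regular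
ring, t an element of A such that A is separated and complete for the t-adic topology, I an ideal
with T = V(I), X = Spec A − T (the union of the basic opens D(f), f ∈ I), and F a coherent
O_X-module on which multiplication by t is injective. Assume that for every point x of X such that
codim(cl(x) ∩ T, cl(x)) = 1, closures taken in Spec A, the stalk F_x has depth ≥ n + 1 over O_{X,x}.
Then the canonical map H^i(X, F) → lim_k H^i(X, F/t^(k+1)F) is bijective for i < n and injective for
i = n. -/
theorem result (R : Type u) [CommRing R] [IsRegularRing R] (A : Type u) [CommRing A] [IsNoetherianRing A] (π : R →+* A) (hπ : Function.Surjective π) (t : A) [IsAdicComplete (Ideal.span {t}) A] (I : Ideal A) (F : (↑(⨆ f : ↥I, (Spec (CommRingCat.of A)).basicOpen ((Scheme.ΓSpecIso (CommRingCat.of A)).inv f.1)) : Scheme.{u}).Modules) (hF : Coh.IsCoh F) (hreg : Mono (Formal.smulMod A F t)) (n : ℕ) (hdepth : ∀ x : (↑(⨆ f : ↥I, (Spec (CommRingCat.of A)).basicOpen ((Scheme.ΓSpecIso (CommRingCat.of A)).inv f.1)) : Scheme.{u}),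 SGA2.relCodim I ((⨆ f : ↥I, (Spec (CommRingCat.of A)).basicOpen ((Scheme.ΓSpecIso (CommRingCat.of A)).inv f.1)).ι.base x) = 1 → ((n + 1 : ℕ) : ℕ∞) ≤ LocCoh.depth ((↑(⨆ f : ↥I, (Spec (CommRingCat.of A)).basicOpen ((Scheme.ΓSpecIso (CommRingCat.of A)).inv f.1)) : Scheme.{u}).presheaf.stalk x) (F.presheaf.stalk x)) (i : ℕ) : (i < n → Function.Bijective (Formal.toHHlim (Ideal.span {t}) F i)) ∧ (i = n → Function.Injective (Formal.toHHlim (Ideal.span {t}) F i)) := by
  have hU : ((⨆ f : ↥I, (Spec (CommRingCat.of A)).basicOpen ((Scheme.ΓSpecIso (CommRingCat.of A)).inv f.1)).carrier :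
      Set (PrimeSpectrum A)) = (PrimeSpectrum.zeroLocus (I : Set A))ᶜ := by
    refine Set.ext fun p => ?_
    refine Iff.trans (TopologicalSpace.Opens.mem_iSup) ?_
    refine Iff.trans ?_ (Set.not_subset (s := (I : Set A)) (t := (PrimeSpectrum.asIdeal p : Set A))).symm
    constructor
    · rintro ⟨f, hf⟩
      refine ⟨f.1, f.2, ?_⟩
      rw [basicOpen_eq_of_affine] at hf
      exact hf
    · rintro ⟨a, ha, hap⟩
      refine ⟨⟨a, ha⟩, ?_⟩
      rw [basicOpen_eq_of_affine]
      exact hap
  have hfin : ∀ j, j ≤ n → Module.Finite A (Coh.HH _ F j) := fun j hj =>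
    Groth.Agent.FormalSupp.Punct.finite_HH π hπ I _ hU F hF n (fun p q hp hq hpq =>
      hdepth (Groth.Agent.FormalSupp.Punct.pt _ p hp) (relCodim_eq_one (fun h => ((Set.ext_iff.mp hU p).mp hp) h)
        hq hpq)) j hj
  haveI := hreg
  refine ⟨fun hi => ?_, fun hi => ?_⟩
  · haveI := hfin i hi.le
    haveI := hfin (i + 1) hi
    exact Groth.Agent.FormalSupp.TorFree.bijective F t
  · haveI := hfin i hi.le
    exact Groth.Agent.FormalSupp.TorFree.injective F t

end Groth.Agent.S5190
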