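import Groth.Statements.S5195
import Groth.Agent.CIntCodim.Basic
import Groth.Agent.Props.AmpleProper
import Groth.Agent.AbSch51.InvSection
import Groth.Agent.AmpCrit.NegVan
import Groth.Agent.IdealSh.IdealMod

set_option autoImplicit false
universe u
open CategoryTheory CategoryTheory.Limits AlgebraicGeometry
open Lef

namespace Groth.Agent.S5195

/-- For the structure sheaf, with the key step of its proof made explicit. Let A be a Noetherian ring, X
a proper A-scheme and 𝓘 a quasi-coherent ideal whose ideal module is invertible with ample inverse L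
(Y = V(𝓘) is an ample effective Cartier divisor), and let Z be a closed subset of X not meeting Y.
Then (1) every point of Z is closed in its fibre over Spec A (indeed Z is finite over A, being
proper and contained in the affine X − Y); and (2) if moreover X is flat over A and for every s the
fibre X_s has depth ≥ n at each of its closed points, then the local ring O_{X,z} has depth ≥ n at
every point z of Z. (The published statement allows any coherent module flat over the base whose
fibres have depth ≥ n at closed points; this row takes the structure sheaf.) -/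
theorem result (A : Type u) [CommRing A] [IsNoetherianRing A] (X : Scheme.{u}) [X.Over (Spec (CommRingCat.of A))] [IsProper (X ↘ Spec (CommRingCat.of A))] (𝓘 : X.IdealSheafData) (L : X.Modules) (hL : ClSub.IsInverseOf L (ClSub.idealMod 𝓘)) (hamp : CohB1.IsAmple L) (Z : Set X) (hZ : IsClosed Z) (hZY : Disjoint Z (𝓘.support : Set X)) (n : ℕ) : (∀ z : X, z ∈ Z → IsClosed ({((X ↘ Spec (CommRingCat.of A))).asFiber z} : Set ↥(((X ↘ Spec (CommRingCat.of A))).fiber (((X ↘ Spec (CommRingCat.of A))).base z)))) ∧ (Flat (X ↘ Spec (CommRingCat.of A)) → (∀ x : X, IsClosed ({((X ↘ Spec (CommRingCat.of A))).asFiber x} : Set ↥(((X ↘ Spec (CommRingCat.of A))).fiber (((X ↘ Spec (CommRingCat.of A))).base x))) → (n : ℕ∞) ≤ LocCoh.depth ↑(CInt.fiberStalk (X ↘ Spec (CommRingCat.of A)) x) ↑(CInt.fiberStalk (X ↘ Spec (CommRingCat.of A)) x)) → ∀ z : X, z ∈ Z → (n : ℕ∞) ≤ LocCoh.depth (X.presheaf.stalk z) (X.presheaf.stalk z)) := by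
  set f := X ↘ Spec (CommRingCat.of A) with hf
  have : IsLocallyNoetherian X := LocallyOfFiniteType.isLocallyNoetherian f
  have h1 : ∀ z : X, z ∈ Z → IsClosed ({f.asFiber z} : Set ↥(f.fiber (f.base z))) := by
    intro z hz
    have hM : PicF.IsInvertible (ClSub.idealMod 𝓘) :=
      AmpCrit.NegVan.isInvertible_of_inverse hamp.1 hL.some
    obtain ⟨t, ht⟩ := AbSch51.InvSection.exists_section 𝓘
      (IdealSh.IdealMod.isEffCartierIdeal_of_isInvertible 𝓘 hM) hamp.1 hL
    let V : X.Opens := CohB1.genLocus _ t
    have hV : IsAffineOpen V := Props.AmpleProper.isAffineOpen_genLocus f hamp t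
    have hZV : Z ⊆ (V : Set X) := by
      rw [show (V : Set X) = _ from ht]
      exact Set.subset_compl_iff_disjoint_right.mpr hZY
    let J := Scheme.IdealSheafData.vanishingIdeal (⟨Z, hZ⟩ : TopologicalSpace.Closeds X)
    have hr : Set.range J.subschemeι = Z := by
      rw [Scheme.IdealSheafData.range_subschemeι, Scheme.IdealSheafData.coe_support_vanishingIdeal]
      rfl
    have hrV : Set.range J.subschemeι ⊆ Set.range V.ι := by
      rw [hr, Scheme.Opens.range_ι]; exact hZV
    let j := IsOpenImmersion.lift V.ι J.subschemeι hrV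
    have hj : j ≫ V.ι = J.subschemeι := IsOpenImmersion.lift_fac _ _ _
    have : IsClosedImmersion (j ≫ V.ι) := by rw [hj]; infer_instance
    have : IsClosedImmersion j := .of_comp j V.ι
    have : IsAffine V.toScheme := hV
    have : IsAffine J.subscheme := isAffine_of_isAffineHom j
    have : IsFinite (J.subschemeι ≫ f) :=
      (IsFinite.iff_isProper_and_isAffineHom (f := J.subschemeι ≫ f)).mpr ⟨inferInstance, inferInstance⟩
    have hfin : (Z ∩ f.base ⁻¹' {f.base z}).Finite := by
      refine (((J.subschemeι ≫ f).finite_preimage_singleton (f.base z)).image J.subschemeι).subset ?_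
      rintro x ⟨hx, hx'⟩
      obtain ⟨w, rfl⟩ := hr.ge hx
      exact ⟨w, hx', rfl⟩
    have : JacobsonSpace ↥(f.fiber (f.base z)) :=
      LocallyOfFiniteType.jacobsonSpace (Y := Spec _) (f.fiberToSpecResidueField (f.base z))
    let W := f.fiber (f.base z)
    let C : Set W := closure {f.asFiber z}
    have hC : C.Finite := by
      refine Set.Finite.of_finite_image (hfin.subset ?_)
        ((f.fiberι (f.base z)).isEmbedding.injective.injOn)
      rintro _ ⟨w, hw, rfl⟩
      refine ⟨?_, ?_⟩
      · have hcl : IsClosed ((f.fiberι (f.base z)).base ⁻¹' Z) :=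
          hZ.preimage (f.fiberι (f.base z)).continuous
        refine closure_minimal ?_ hcl hw
        rintro _ rfl
        show (f.fiberι (f.base z)) (f.asFiber z) ∈ Z
        rw [Scheme.Hom.fiberι_asFiber]
        exact hz
      · exact (f.range_fiberι (f.base z)).le ⟨w, rfl⟩
    have hc1 : IsClosed (C ∩ closedPoints W) := by
      rw [← Set.biUnion_of_singleton (C ∩ closedPoints W)]
      exact (hC.inter_of_left _).isClosed_biUnion fun x hx => hx.2
    have hc2 : closure (C ∩ closedPoints W) = C := closure_inter_closedPoints isClosed_closure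
    rw [hc1.closure_eq] at hc2
    exact (hc2.ge (subset_closure rfl)).2
  refine ⟨h1, fun hflat hd z hz => ?_⟩
  exact (hd z (h1 z hz)).trans (CIntCodim.depth_fiberStalk_le f z)

end Groth.Agent.S5195
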