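import Groth.Statements.S5196
import Groth.Agent.DeltaFlat.Pullback

set_option autoImplicit false
universe u
open CategoryTheory CategoryTheory.Limits AlgebraicGeometry Opposite
open EtDepth

namespace Groth.Agent.S5196

/-- Let A → A' be a faithfully flat homomorphism of Noetherian local rings whose fibre over the closed
point of Spec A is the single closed point of Spec A' (the only prime of A' over m_A is m_{A'}), f :
X → Spec A a morphism locally of finite type, X' = X ×_A A' with projections h : X' → X and f' : X'
→ Spec A'. For a point x' of X' put x = h(x'), s = f(x), s' = f'(x'). Then trdeg(κ(x')/κ(s')) ≤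
trdeg(κ(x)/κ(s)) and dim A'/p_{s'} ≤ dim A/p_s, so that δ(x') ≤ δ(x) for δ(x) = trdeg(κ(x)/κ(s)) +
dim cl(s), with equality exactly when both inequalities are equalities; and for every point x of X
there is a point x' of X' over x for which both are equalities. -/
theorem result (A A' : Type u) [CommRing A] [CommRing A'] [IsLocalRing A] [IsLocalRing A'] [IsNoetherianRing A] [IsNoetherianRing A'] [Algebra A A'] [Module.FaithfullyFlat A A'] (hfib : ∀ q : Ideal A', ∀ _ : q.IsPrime, q.comap (algebraMap A A') = IsLocalRing.maximalIdeal A → q = IsLocalRing.maximalIdeal A') (X : Scheme.{u}) (f : X ⟶ (Spec (CommRingCat.of A))) [LocallyOfFiniteType f] : (∀ x' : ↥(pullback f (Spec.map (CommRingCat.ofHom (algebraMap A A')))), @Algebra.trdeg ↑((Spec (CommRingCat.of A')).residueField ((pullback.snd f (Spec.map (CommRingCat.ofHom (algebraMap A A')))).base x')) ↑((pullback f (Spec.map (CommRingCat.ofHom (algebraMap A A')))).residueField x') _ _ ((pullback.snd f (Spec.map (CommRingCat.ofHom (algebraMap A A')))).residueFieldMap x').hom.toAlgebra ≤ @Algebra.trdeg ↑((Spec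 (CommRingCat.of A)).residueField (f.base ((pullback.fst f (Spec.map (CommRingCat.ofHom (algebraMap A A')))).base x'))) ↑(X.residueField ((pullback.fst f (Spec.map (CommRingCat.ofHom (algebraMap A A')))).base x')) _ _ (f.residueFieldMap ((pullback.fst f (Spec.map (CommRingCat.ofHom (algebraMap A A')))).base x')).hom.toAlgebra ∧ ringKrullDim (A' ⧸ ((pullback.snd f (Spec.map (CommRingCat.ofHom (algebraMap A A')))).base x').asIdeal) ≤ ringKrullDim (A ⧸ (f.base ((pullback.fst f (Spec.map (CommRingCat.ofHom (algebraMap A A')))).base x')).asIdeal)) ∧ (∀ x : X, ∃ x' : ↥(pullback f (Spec.map (CommRingCat.ofHom (algebraMap A A')))), (pullback.fst f (Spec.map (CommRingCat.ofHom (algebraMap A A')))).base x' = x ∧ @Algebra.trdeg ↑((Spec (CommRingCat.of A')).residueField ((pullback.snd f (Spec.map (CommRingCat.ofHom (algebraMap A A')))).base x')) ↑((pullback f (Spec.map (CommRingCat.ofHom (algebraMap A A')))).residueField x') _ _ ((pullback.snd f (Spec.map (CommRingCat.ofHom (algebraMap A A')))).residueFieldMap x').hom.toAlgebra = @Algebra.trdeg ↑((Spec (CommRingCat.of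 A)).residueField (f.base ((pullback.fst f (Spec.map (CommRingCat.ofHom (algebraMap A A')))).base x'))) ↑(X.residueField ((pullback.fst f (Spec.map (CommRingCat.ofHom (algebraMap A A')))).base x')) _ _ (f.residueFieldMap ((pullback.fst f (Spec.map (CommRingCat.ofHom (algebraMap A A')))).base x')).hom.toAlgebra ∧ ringKrullDim (A' ⧸ ((pullback.snd f (Spec.map (CommRingCat.ofHom (algebraMap A A')))).base x').asIdeal) = ringKrullDim (A ⧸ (f.base ((pullback.fst f (Spec.map (CommRingCat.ofHom (algebraMap A A')))).base x')).asIdeal)) := by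
  refine ⟨fun x' => ⟨DeltaFlat.trdeg_residueField_le f (algebraMap A A') x', ?_⟩, fun x => ?_⟩
  · have h := congrArg PrimeSpectrum.asIdeal (DeltaFlat.fst_point f (algebraMap A A') x')
    have : ((pullback.snd f (Spec.map (CommRingCat.ofHom (algebraMap A A')))).base x').asIdeal.LiesOver
        (f.base ((pullback.fst f (Spec.map (CommRingCat.ofHom (algebraMap A A')))).base x')).asIdeal := ⟨h.symm⟩
    exact DeltaFlat.ringKrullDim_quotient_le hfib _ _
  · obtain ⟨q, hq, hdim⟩ := DeltaFlat.exists_ringKrullDim_quotient_eq hfib (f.base x).asIdeal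
    obtain ⟨x', rfl, hs, hle⟩ := DeltaFlat.exists_point f (algebraMap A A') x q (PrimeSpectrum.ext hq)
    refine ⟨x', rfl, le_antisymm (DeltaFlat.trdeg_residueField_le f (algebraMap A A') x') hle, ?_⟩
    subst hs
    exact hdim

end Groth.Agent.S5196
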