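import Groth.Statements.S5201
import Groth.Agent.EtSupp.EtaleBC
import Groth.Agent.EtaleSite.Clopen
import Groth.Agent.EtSupp.TateLoc
import Groth.Agent.RDerLES
import Mathlib.GroupTheory.Perm.Cycle.Type

set_option autoImplicit false
universe u
open CategoryTheory CategoryTheory.Limits AlgebraicGeometry Opposite
open EtDepth

namespace Groth.Agent.S5201

section Loc

variable {X : Scheme.{u}} (U : X.Etale) [Etale U.hom] [EtShriek.JCont U.hom]

/-- Étale `U.left`-schemes as objects over `U`. -/
noncomputable def toOver : U.left.Etale ⥤ Over U where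
  obj W :=
    let a : (EtShriek.compEtale U.hom).obj W ⟶ U := MorphismProperty.Over.homMk W.hom (by rfl)
    Over.mk a
  map {W W'} a := Over.homMk ((EtShriek.compEtale U.hom).map a)
    (MorphismProperty.Over.Hom.ext (MorphismProperty.Over.w a))

theorem mem_functorPullback (W : U.left.Etale) (S : Sieve ((toOver U).obj W))
    (hS : S ∈ (X.smallEtaleTopology.over U) _) :
    S.functorPullback (toOver U) ∈ U.left.smallEtaleTopology W := by
  refine EtaleSite.mem_topology_of_forall_exists _ fun w => ?_
  rw [GrothendieckTopology.mem_over_iff] at hS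
  obtain ⟨V, g, v, hg, hv⟩ := EtaleSite.exists_of_mem_topology hS w
  let W' := (EtShriek.compEtaleLift U.hom g).1
  let a : W' ⟶ W := MorphismProperty.Over.homMk g.left rfl
  refine ⟨W', a, v, ?_, hv⟩
  let d : (toOver U).obj W' ⟶ Over.mk (g ≫ ((toOver U).obj W).hom) :=
    Over.homMk (EtShriek.compEtaleLift U.hom g).2.hom (by
      apply MorphismProperty.Over.Hom.ext
      exact Category.id_comp _)
  have hb := (Sieve.overEquiv_iff S g).mp hg
  have he : d ≫ Over.homMk g rfl = (toOver U).map a := by
    apply Over.OverMorphism.ext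
    apply MorphismProperty.Over.Hom.ext
    exact Category.id_comp _
  show S ((toOver U).map a)
  rw [← he]
  exact S.downward_closed hb d

/-- A sheaf constant on the site over `U` restricts to a constant sheaf on `U`. -/
theorem nonempty_restrAlong_iso_const (F : EtCoh.Ab X) (M : Type) [AddCommGroup M]
    (e : EtCoh.restr F U ≅ (constantSheaf (X.smallEtaleTopology.over U) AddCommGrpCat.{u + 1}).obj
      (AddCommGrpCat.of (ULift.{u + 1} M))) :
    Nonempty ((EtShriek.restrAlong U.hom).obj F ≅ EtCoh.const U.left M) := by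
  let P : (Over U)ᵒᵖ ⥤ AddCommGrpCat.{u + 1} :=
    (Functor.const _).obj (AddCommGrpCat.of (ULift.{u + 1} M))
  let η : P ⟶ (EtCoh.restr F U).obj :=
    toSheafify (X.smallEtaleTopology.over U) P ≫ (sheafToPresheaf _ _).map e.inv
  have hη : Presheaf.IsLocallyInjective (X.smallEtaleTopology.over U) η ∧
      Presheaf.IsLocallySurjective (X.smallEtaleTopology.over U) η := by
    rw [← GrothendieckTopology.W_iff_isLocallyBijective]
    exact (X.smallEtaleTopology.over U).W.comp_mem _ _ (GrothendieckTopology.W_toSheafify _ P)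
      (MorphismProperty.of_isIso _ _)
  let c : (Functor.const _).obj (AddCommGrpCat.of (ULift.{u + 1} M)) ⟶
      ((EtShriek.restrAlong U.hom).obj F).obj :=
    { app := fun W => (show _ ⟶ _ from η.app (op ((toOver U).obj W.unop)))
      naturality := fun _ _ f => η.naturality ((toOver U).map f.unop).op }
  have : Presheaf.IsLocallyInjective U.left.smallEtaleTopology c := by
    refine ⟨fun {W} a b hab => ?_⟩
    have := hη.1.equalizerSieve_mem (X := op ((toOver U).obj W.unop)) a b hab
    exact U.left.smallEtaleTopology.superset_covering (fun Z g hg => hg) (mem_functorPullback U _ _ this)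
  have : Presheaf.IsLocallySurjective U.left.smallEtaleTopology c := by
    refine ⟨fun {W} t => ?_⟩
    have := hη.2.imageSieve_mem (U := (toOver U).obj W) t
    exact U.left.smallEtaleTopology.superset_covering (fun Z g hg => hg) (mem_functorPullback U _ _ this)
  have hW := U.left.smallEtaleTopology.W_of_isLocallyBijective c
  rw [GrothendieckTopology.W_iff] at hW
  let adj := sheafificationAdjunction U.left.smallEtaleTopology AddCommGrpCat.{u + 1}
  let G : EtCoh.Ab U.left := (EtShriek.restrAlong U.hom).obj F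
  let i₁ := @asIso _ _ _ _ _ hW
  let i₂ : (presheafToSheaf U.left.smallEtaleTopology AddCommGrpCat.{u + 1}).obj G.obj ≅ G :=
    asIso (adj.counit.app G)
  exact ⟨(i₁ ≪≫ i₂).symm⟩

end Loc

/-- The constant sheaf of an `ℓ`-group inherits the depth of `ℤ/ℓ`. -/
theorem isZero_locCoh_const {X U : Scheme.{u}} (j : U ⟶ X) [IsOpenImmersion j] [EtCoh.BCCont j]
    (ℓ : ℕ) [Fact ℓ.Prime] (p : ℕ) (h : IsZero ((EtDual.locCoh j p).obj (EtCoh.const X (ZMod ℓ)))) :
    ∀ (m : ℕ) (M : Type) [AddCommGroup M] [Finite M], Nat.card M = m →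
      (∀ x : M, ∃ k, ℓ ^ k • x = 0) → IsZero ((EtDual.locCoh j p).obj (EtCoh.const X M)) := by
  intro m
  induction m using Nat.strong_induction_on with
  | _ m ih =>
    intro M _ _ hm hM
    let C := constantSheaf X.smallEtaleTopology AddCommGrpCat.{u + 1}
    have : C.Additive := inferInstance
    have : PreservesFiniteLimits C := by unfold C constantSheaf; infer_instance
    have : PreservesFiniteColimits C := by unfold C constantSheaf; infer_instance
    have : (EtDual.locCoh j p).Additive := by unfold EtDual.locCoh; infer_instance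
    rcases subsingleton_or_nontrivial M with hM0 | hM0
    · refine (EtDual.locCoh j p).map_isZero (C.map_isZero ?_)
      exact AddCommGrpCat.isZero_of_subsingleton _
    · obtain ⟨y, hy⟩ := exists_ne (0 : M)
      -- an element of order `ℓ`
      classical
      let k := Nat.find (hM y)
      have hk0 : k ≠ 0 := fun hk => hy (by simpa [k, hk] using Nat.find_spec (hM y))
      let x := ℓ ^ (k - 1) • y
      have hx : x ≠ 0 := Nat.find_min (hM y) (by omega : k - 1 < k)
      have hlx : ℓ • x = 0 := by
        rw [← mul_nsmul', ← pow_succ', Nat.sub_add_cancel (Nat.one_le_iff_ne_zero.mpr hk0)]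
        exact Nat.find_spec (hM y)
      have hord : addOrderOf x = ℓ := addOrderOf_eq_prime hlx hx
      let K := AddSubgroup.zmultiples x
      have eK : ZMod ℓ ≃+ K :=
        (ZMod.ringEquivCongr (hord.symm.trans (Nat.card_zmultiples x).symm)).toAddEquiv.trans
          (zmodAddCyclicAddEquiv (inferInstance : IsAddCyclic K))
      have hq : Nat.card (M ⧸ K) < m := by
        have hc := AddSubgroup.card_eq_card_quotient_mul_card_addSubgroup K
        have hK2 : 2 ≤ Nat.card K := by
          rw [show Nat.card K = addOrderOf x from Nat.card_zmultiples x, hord]; exact (Fact.out : ℓ.Prime).two_le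
        have : 0 < Nat.card (M ⧸ K) := Nat.card_pos
        nlinarith
      have hQ := ih _ hq (M ⧸ K) rfl (fun z => by
        obtain ⟨z, rfl⟩ := QuotientAddGroup.mk_surjective z
        obtain ⟨i, hi⟩ := hM z
        exact ⟨i, by rw [← QuotientAddGroup.mk_nsmul, hi, QuotientAddGroup.mk_zero]⟩)
      let up : ∀ {A B : Type} [AddCommGroup A] [AddCommGroup B], (A →+ B) →
          (AddCommGrpCat.of (ULift.{u + 1} A) ⟶ AddCommGrpCat.of (ULift.{u + 1} B)) := fun f =>
        AddCommGrpCat.ofHom (AddEquiv.ulift.symm.toAddMonoidHom.comp (f.comp AddEquiv.ulift.toAddMonoidHom))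
      let S : ShortComplex AddCommGrpCat.{u + 1} :=
        ShortComplex.mk (up K.subtype) (up (QuotientAddGroup.mk' K)) (by
          refine AddCommGrpCat.hom_ext (DFunLike.ext _ _ fun z => ?_)
          exact ULift.ext _ _ ((QuotientAddGroup.eq_zero_iff _).mpr z.down.2))
      have hS : S.ShortExact :=
        { exact := (ShortComplex.ab_exact_iff _).mpr fun z hz =>
            ⟨⟨⟨z.down, (QuotientAddGroup.eq_zero_iff _).mp (congrArg ULift.down hz)⟩⟩, rfl⟩
          mono_f := (AddCommGrpCat.mono_iff_injective _).mpr fun a b hab =>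
            ULift.ext _ _ (Subtype.ext (congrArg ULift.down hab))
          epi_g := (AddCommGrpCat.epi_iff_surjective _).mpr fun z => by
            obtain ⟨w, hw⟩ := QuotientAddGroup.mk_surjective z.down
            exact ⟨⟨w⟩, ULift.ext _ _ hw⟩ }
      have h1 : IsZero ((EtDual.locCoh j p).obj (C.obj S.X₁)) :=
        h.of_iso ((EtDual.locCoh j p).mapIso (C.mapIso
          ((AddEquiv.ulift.trans (eK.symm.trans AddEquiv.ulift.symm)).toAddCommGrpIso)))
      exact ((RDerLES.derivedLES (EtDual.secSupp j)).exact₂ (S.map C) (hS.map_of_exact C) p).isZero_of_both_zeros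
        (h1.eq_of_src _ _) (hQ.eq_of_tgt _ _)

/-- For a finite locally constant sheaf and a single prime ℓ. Let X be a scheme, j : U → X a
quasi-compact open immersion (U retrocompact in X) with closed complement Y, ℓ a prime and n ≥ 0,
and suppose the Y-étale depth of X for ℓ is ≥ n, i.e. the local cohomology sheaves H^p_Y(Z/ℓ) vanish
for p < n. Then for every finite locally constant abelian sheaf F on the small étale site of X which
is ℓ-torsion (every section étale-locally killed by a power of ℓ), the Y-étale depth of F is ≥ n. -/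
theorem result {X U : Scheme.{u}} (j : U ⟶ X) [IsOpenImmersion j] [QuasiCompact j] [EtCoh.BCCont j] (ℓ : ℕ) (hℓ : ℓ.Prime) (n : ℕ) (hX : EtDepth.DepthGE j (EtCoh.const X (ZMod ℓ)) n) (F : EtCoh.Ab X) (hFlc : EtCoh.IsFiniteLocallyConstant F) (hFt : EtDepth.IsLTorsion ℓ F) : EtDepth.DepthGE j F n := by
  haveI : Fact ℓ.Prime := ⟨hℓ⟩
  obtain ⟨ι, U', hcov, hU⟩ := hFlc
  intro p hp
  refine EtSupp.EtaleBC.isZero_of_forall_exists _ fun x => ?_
  obtain ⟨i, y, hy⟩ := hcov x
  obtain ⟨M, _, _, ⟨e⟩⟩ := hU i
  haveI : Etale (U' i).hom := (U' i).prop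
  haveI : EtShriek.JCont (U' i).hom := inferInstance
  obtain ⟨eF⟩ := nonempty_restrAlong_iso_const (U' i) F M e
  have hM : ∀ m : M, ∃ k, ℓ ^ k • m = 0 := by
    intro m
    let c : (Functor.const (U' i).left.Etaleᵒᵖ).obj (AddCommGrpCat.of (ULift.{u + 1} M)) ⟶
        ((EtShriek.restrAlong (U' i).hom).obj F).obj :=
      toSheafify _ _ ≫ (sheafToPresheaf _ _).map eF.inv
    let T := EtCoh.top (U' i).left
    obtain ⟨V, g, ⟨v, hv⟩, k, hk⟩ := hFt ((EtShriek.compEtale (U' i).hom).obj T) (c.app (op T) ⟨m⟩) y
    let W := (EtShriek.compEtaleLift (U' i).hom g).1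
    let eW := (EtShriek.compEtaleLift (U' i).hom g).2
    let a : W ⟶ T := MorphismProperty.Over.homMk g.left rfl
    have ha : eW.hom ≫ g = (EtShriek.compEtale (U' i).hom).map a :=
      MorphismProperty.Over.Hom.ext (Category.id_comp _)
    haveI : Nonempty W.left := ⟨v⟩
    have h0 : c.app (op W) ⟨ℓ ^ k • m⟩ = 0 := by
      rw [show (⟨ℓ ^ k • m⟩ : ULift.{u + 1} M) = ℓ ^ k • ⟨m⟩ from rfl, map_nsmul]
      have hn : c.app (op W) ⟨m⟩ = F.obj.map ((EtShriek.compEtale (U' i).hom).map a).op (c.app (op T) ⟨m⟩) :=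
        NatTrans.naturality_apply c a.op _
      rw [hn, ← ha, op_comp, Functor.map_comp, ConcreteCategory.comp_apply]
      exact ((map_nsmul (F.obj.map eW.hom.op).hom _ _).symm.trans (congrArg _ hk)).trans (map_zero _)
    have hc : Presheaf.IsLocallyInjective (U' i).left.smallEtaleTopology c := by
      refine ((GrothendieckTopology.W_iff_isLocallyBijective _ c).1 ?_).1
      exact (GrothendieckTopology.W _).comp_mem _ _ (GrothendieckTopology.W_toSheafify _ _) (MorphismProperty.of_isIso _ _)
    have hS := hc.equalizerSieve_mem (X := op W) (⟨ℓ ^ k • m⟩ : ULift.{u + 1} M) 0 (h0.trans (map_zero _).symm)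
    obtain ⟨Z, f, -, hf, -⟩ := EtaleSite.exists_of_mem_topology hS (Classical.arbitrary W.left)
    exact ⟨k, congrArg ULift.down hf⟩
  refine ⟨(U' i).left, (U' i).hom, inferInstance, inferInstance, ⟨y, hy⟩, ?_⟩
  let g := (U' i).hom
  let j' := (g ⁻¹ᵁ j.opensRange).ι
  have hr : Set.range j'.base = g.base ⁻¹' Set.range j.base := Scheme.Opens.range_ι _
  obtain ⟨a⟩ := EtSupp.EtaleBC.nonempty_locCoh_restr_iso g j j' hr p F
  obtain ⟨b⟩ := EtSupp.EtaleBC.nonempty_locCoh_restr_iso g j j' hr p (EtCoh.const X (ZMod ℓ))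
  obtain ⟨d⟩ := EtSupp.TateLoc.nonempty_restr_const_iso g (ZMod ℓ)
  have hℓ' : IsZero ((EtDual.locCoh j' p).obj (EtCoh.const (U' i).left (ZMod ℓ))) :=
    ((EtShriek.restrAlong g).map_isZero (hX p hp)).of_iso (((EtDual.locCoh j' p).mapIso d.symm) ≪≫ b.symm)
  exact (isZero_locCoh_const j' ℓ p hℓ' _ M rfl hM).of_iso (a ≪≫ (EtDual.locCoh j' p).mapIso eF)

end Groth.Agent.S5201
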