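import Groth.Statements.S5209
import Groth.Agent.DescCatLib

set_option autoImplicit false
open CategoryTheory CategoryTheory.Limits
universe w v₁ u₁
open DescCat

namespace Groth.Agent.S5209

/-- In a category with pullbacks, let `f : S' ⟶ S` be a universal effective epimorphism, that is, a
morphism all of whose base changes are effective epimorphisms. Then a morphism `g` over `S` is an
isomorphism (resp. a monomorphism) if and only if its base change along `f` is. -/
theorem result {C : Type u₁} [Category.{v₁} C] [HasPullbacks C]
    {S' S : C} (f : S' ⟶ S) (hf : (MorphismProperty.universally (fun (A B : C) (p : A ⟶ B) => EffectiveEpi p)) f) {X Y : Over S} (g : X ⟶ Y) :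
    (IsIso g ↔ IsIso ((Over.pullback f).map g)) ∧ (Mono g ↔ Mono ((Over.pullback f).map g)) := by
  have he := Groth.Agent.DescCatLib.uee_pullback_fst Y.hom hf
  have h : IsPullback ((Over.pullback f).map g).left (pullback.fst X.hom f) (pullback.fst Y.hom f) g.left := by
    refine (IsPullback.of_right (h₁₂ := pullback.snd Y.hom f) (h₂₂ := Y.hom) ?_ ?_ (IsPullback.of_hasPullback Y.hom f).flip)
    · rw [show ((Over.pullback f).map g).left = pullback.lift _ _ _ from rfl, pullback.lift_snd, Over.w g]
      exact (IsPullback.of_hasPullback X.hom f).flip
    · exact pullback.lift_fst _ _ _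
  refine ⟨?_, ?_⟩
  · rw [← isIso_iff_of_reflects_iso g (Over.forget S), ← isIso_iff_of_reflects_iso ((Over.pullback f).map g) (Over.forget S')]
    exact Groth.Agent.DescCatLib.isIso_iff_baseChange h he
  · refine ⟨fun _ => ?_, fun _ => ?_⟩
    · have := (Groth.Agent.DescCatLib.mono_iff_baseChange h he).1 inferInstance
      exact Over.mono_of_mono_left _
    · have := (Groth.Agent.DescCatLib.mono_iff_baseChange h he).2 inferInstance
      exact Over.mono_of_mono_left g

end Groth.Agent.S5209
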