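import Groth.Statements.S5210
import Groth.Agent.DescCatLib

set_option autoImplicit false
open CategoryTheory CategoryTheory.Limits
universe w v₁ u₁
open DescCat

namespace Groth.Agent.S5210

/-- In a category with pullbacks, let `f : S' ⟶ S` be a universal effective epimorphism (all of its base
changes are effective epimorphisms) and `Y ⟶ S` a monomorphism. Then an object `X` over `S` admits a
morphism to `Y` over `S` if and only if it does so after base change along `f`. -/
theorem result {C : Type u₁} [Category.{v₁} C] [HasPullbacks C]
    {S' S : C} (f : S' ⟶ S) (hf : (MorphismProperty.universally (fun (A B : C) (p : A ⟶ B) => EffectiveEpi p)) f) (X Y : Over S) [Mono Y.hom] :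
    Nonempty (X ⟶ Y) ↔ Nonempty ((Over.pullback f).obj X ⟶ (Over.pullback f).obj Y) := by
  refine ⟨fun ⟨k⟩ => ⟨(Over.pullback f).map k⟩, fun ⟨k⟩ => ?_⟩
  obtain ⟨m, hm⟩ := Groth.Agent.DescCatLib.exists_lift_of_mono
    (Groth.Agent.DescCatLib.uee_pullback_fst X.hom hf) X.hom Y.hom (k.left ≫ pullback.fst Y.hom f) (by
      have := Over.w k
      simp only [Over.pullback_obj_hom] at this
      rw [Category.assoc, pullback.condition, reassoc_of% this, pullback.condition])
  exact ⟨Over.homMk m hm⟩

end Groth.Agent.S5210
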