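import Groth.Statements.S5211
import Groth.Agent.DescCatLib

set_option autoImplicit false
open CategoryTheory CategoryTheory.Limits
universe w v₁ u₁
open DescCat

namespace Groth.Agent.S5211

/-- In a category with pullbacks: if `f : S' ⟶ S` is a universal effective epimorphism and the canonical
map `S' ×_S S' ⟶ S' ×_T S'` induced by `g : S ⟶ T` is an isomorphism, then `g` is a monomorphism. -/
theorem result {C : Type u₁} [Category.{v₁} C] [HasPullbacks C]
    {S' S T : C} (f : S' ⟶ S) (hf : (MorphismProperty.universally (fun (A B : C) (p : A ⟶ B) => EffectiveEpi p)) f) (g : S ⟶ T)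
    [IsIso (pullback.mapDesc f f g)] : Mono g := by
  refine Groth.Agent.DescCatLib.mono_of_cover hf g fun a b hab => ?_
  let r := pullback.lift a b hab ≫ inv (pullback.mapDesc f f g)
  have hr : r ≫ pullback.mapDesc f f g = pullback.lift a b hab := by simp [r]
  have k1 : pullback.mapDesc f f g ≫ pullback.fst _ _ = pullback.fst f f := by
    unfold pullback.mapDesc pullback.map; exact (pullback.lift_fst (f := f ≫ g) (g := f ≫ g) _ _ _).trans (Category.comp_id _)
  have k2 : pullback.mapDesc f f g ≫ pullback.snd _ _ = pullback.snd f f := by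
    unfold pullback.mapDesc pullback.map; exact (pullback.lift_snd (f := f ≫ g) (g := f ≫ g) _ _ _).trans (Category.comp_id _)
  have h1 : r ≫ pullback.fst f f = a := by
    rw [← k1, ← Category.assoc, hr]; exact pullback.lift_fst _ _ _
  have h2 : r ≫ pullback.snd f f = b := by
    rw [← k2, ← Category.assoc, hr]; exact pullback.lift_snd _ _ _
  calc a ≫ f = r ≫ (pullback.fst f f ≫ f) := by rw [← Category.assoc, h1]
    _ = r ≫ (pullback.snd f f ≫ f) := by rw [pullback.condition]
    _ = b ≫ f := by rw [← Category.assoc, h2]

end Groth.Agent.S5211
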