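import Groth.Statements.S5212
import Groth.Agent.GrpdLib.Norm
import Mathlib.LinearAlgebra.Dimension.Free

set_option autoImplicit false
universe u
open GrpQ

namespace Groth.Agent.S5212

/-- For `A'` finite and free as an `A`-module, a prime `p` of `A` and `a ∈ A'`, the element `a` belongs
to some prime of `A'` lying over `p` if and only if its norm belongs to `p`. (The published
statement allows `A'` projective of constant rank over `A`; this row takes `A'` free, where the norm
is the determinant of multiplication.) -/
theorem result {A A' : Type u} [CommRing A] [CommRing A'] [Algebra A A']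
    [Module.Free A A'] [Module.Finite A A'] (p : Ideal A) [p.IsPrime] (a : A') :
    (∃ q : Ideal A', q.IsPrime ∧ q.LiesOver p ∧ a ∈ q) ↔ Algebra.norm A a ∈ p := by
  rw [← GrpdLib.Pres.norm_ofBasis ((Module.Free.chooseBasis A A').reindex (Fintype.equivFin _)), ← GrpdLib.Pres.exists_prime_iff_norm_mem]
  · exact exists_congr fun q => and_congr_right fun _ => and_congr_left fun _ =>
      ⟨fun h => h.over.symm, fun h => ⟨h.symm⟩⟩

end Groth.Agent.S5212
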