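import Groth.Statements.S5214
import Groth.Agent.DescCatLib

set_option autoImplicit false
open CategoryTheory CategoryTheory.Limits
universe w v₁ u₁
open DescCat

namespace Groth.Agent.S5214

/-- In a category with pullbacks and binary products: the product `u × u'` of two universal effective
epimorphisms (morphisms all of whose base changes are effective epimorphisms) is a universal
effective epimorphism. -/
theorem result {C : Type u₁} [Category.{v₁} C] [HasPullbacks C] [HasBinaryProducts C]
    {X Y X' Y' : C} (u : X ⟶ Y) (u' : X' ⟶ Y')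
    (hu : (MorphismProperty.universally (fun (A B : C) (p : A ⟶ B) => EffectiveEpi p)) u) (hu' : (MorphismProperty.universally (fun (A B : C) (p : A ⟶ B) => EffectiveEpi p)) u') :
    (MorphismProperty.universally (fun (A B : C) (p : A ⟶ B) => EffectiveEpi p)) (prod.map u u') := by
  have h1 : IsPullback (prod.map u (𝟙 X')) prod.fst prod.fst u := by
    refine ⟨⟨by simp⟩, ⟨PullbackCone.IsLimit.mk _ (fun s => prod.lift s.snd (s.fst ≫ prod.snd))
      (fun s => ?_) (fun s => by simp [prod.lift_fst, prod.lift_snd]) (fun s m h1 h2 => ?_)⟩⟩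
    · ext <;> simp [s.condition, prod.lift_fst, prod.lift_snd]
    · ext
      · simpa [prod.lift_fst, prod.lift_snd] using h2
      · have := congrArg (· ≫ prod.snd) h1
        simpa [prod.lift_fst, prod.lift_snd] using this
  have h2 : IsPullback (prod.map (𝟙 Y) u') prod.snd prod.snd u' := by
    refine ⟨⟨by simp⟩, ⟨PullbackCone.IsLimit.mk _ (fun s => prod.lift (s.fst ≫ prod.fst) s.snd)
      (fun s => ?_) (fun s => by simp [prod.lift_fst, prod.lift_snd]) (fun s m h1 h2 => ?_)⟩⟩
    · ext <;> simp [s.condition, prod.lift_fst, prod.lift_snd]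
    · ext
      · have := congrArg (· ≫ prod.fst) h1
        simpa [prod.lift_fst, prod.lift_snd] using this
      · simpa [prod.lift_fst, prod.lift_snd] using h2
  have : prod.map u u' = prod.map u (𝟙 X') ≫ prod.map (𝟙 Y) u' := by simp
  rw [this]
  exact Groth.Agent.DescCatLib.uee_comp _ _ (Groth.Agent.DescCatLib.uee_of_isPullback h1 hu)
    (Groth.Agent.DescCatLib.uee_of_isPullback h2 hu')

end Groth.Agent.S5214
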