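import Groth.Statements.S5215
import Groth.Agent.DescCatLib

set_option autoImplicit false
open CategoryTheory CategoryTheory.Limits
universe w v₁ u₁
open DescCat

namespace Groth.Agent.S5215

/-- In a category with pullbacks: for a universally effective equivalence relation `p₁, p₂ : R ⇉ X` with
quotient map `π : X ⟶ X/R` and a morphism `g` out of the quotient, `g` is a monomorphism if and only
if `R` is the kernel pair of `π ≫ g`. -/
theorem result {C : Type u₁} [Category.{v₁} C] [HasPullbacks C]
    {R X Z : C} {p₁ p₂ : R ⟶ X} (e : UniversallyEffectiveEquivalenceRelation p₁ p₂)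
    (f : X ⟶ Z) (g : e.B ⟶ Z) (hg : e.π ≫ g = f) :
    Mono g ↔ IsKernelPair f p₁ p₂ := by
  subst hg
  constructor
  · intro _
    exact IsKernelPair.comp_of_mono e.isKernelPair
  · intro h
    refine Groth.Agent.DescCatLib.mono_of_cover e.universally_effectiveEpi_π g fun a b hab => ?_
    have h1 := h.lift_fst a b hab
    have h2 := h.lift_snd a b hab
    have hw := congrArg (h.lift a b hab ≫ ·) e.isKernelPair.w
    simp only [← Category.assoc, h1, h2] at hw
    exact hw

end Groth.Agent.S5215
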