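import Groth.Statements.S5219
import Groth.Agent.ModShf.GrothAb

set_option autoImplicit false
open CategoryTheory
universe u
open ShfCat CategoryTheory.Limits

namespace Groth.Agent.S5219

/-- For a small category `C` and a presheaf of rings `O` on it, the category of presheaves of
`O`-modules has enough injectives. (The published statement also asserts that `O` itself is a
generator; in general only the family of modules `O_S` induced on the objects `S` of `C` generates —
for the category with one non-identity arrow a → b and a module vanishing at b, no direct sum of
copies of `O` maps onto it — and the row keeps the conclusion the argument establishes.) -/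
theorem result (C : Type u) [SmallCategory C] (O : Cᵒᵖ ⥤ RingCat.{u}) :
    EnoughInjectives (PresheafOfModules.{u} O) := by
  have : HasSeparator (PresheafOfModules.{u} O) := by
    have : HasCoproducts.{u} (PresheafOfModules.{u} O) := fun _ => inferInstance
    exact ⟨⟨∐ fun X : C => (yoneda ⋙ PresheafOfModules.free O).obj X, (isSeparator_sigma _).2 (PresheafOfModules.freeYoneda.isSeparating O)⟩⟩
  have : HasFilteredColimitsOfSize.{u, u} (PresheafOfModules.{u} O) := ⟨fun _ _ _ => inferInstance⟩
  have : AB5OfSize.{u, u} (PresheafOfModules.{u} O) := ⟨fun K _ _ => inferInstance⟩
  have : IsGrothendieckAbelian.{u} (PresheafOfModules.{u} O) := { }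
  infer_instance

end Groth.Agent.S5219
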