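import Groth.Statements.S5221
import Groth.Agent.GrpdLib.InvImage

set_option autoImplicit false
open CategoryTheory CategoryTheory.Limits
universe w v₁ u₁
open GrpQ

namespace Groth.Agent.S5221

/-- Existence part: in a category with pullbacks: with `d₀ d₁ : X₁ ⇉ X₀` admitting a common section and
`f₀ : Y₀ ⟶ X₀` an effective and universal epimorphism, the pair `(d₀, d₁)` has a coequalizer if and
only if its inverse-image pair on `Y₀` has one. -/
theorem result {C : Type u₁} [Category.{v₁} C] [HasPullbacks C]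
    {X₁ X₀ Y₀ : C} (d₀ d₁ : X₁ ⟶ X₀) (s : X₀ ⟶ X₁) (hs₀ : s ≫ d₀ = 𝟙 X₀) (hs₁ : s ≫ d₁ = 𝟙 X₀)
    (f₀ : Y₀ ⟶ X₀) [EffectiveEpi f₀]
    (hf : MorphismProperty.universally (MorphismProperty.epimorphisms C) f₀) :
    HasCoequalizer d₁ d₀ ↔
      HasCoequalizer (pullback.fst (pullback.snd f₀ d₁ ≫ d₀) f₀ ≫ pullback.fst f₀ d₁)
        (pullback.snd (pullback.snd f₀ d₁ ≫ d₀) f₀) := by
  constructor
  · intro _
    refine HasColimit.mk ⟨Cofork.ofπ (f₀ ≫ coequalizer.π d₁ d₀)
      (GrpdLib.invImage_equalizes f₀ _ (coequalizer.condition d₁ d₀)), ?_⟩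
    refine Cofork.IsColimit.mk' _ fun t => ?_
    have H := GrpdLib.exists_invImage_desc s hs₀ hs₁ f₀ hf t.π t.condition
    refine ⟨coequalizer.desc H.choose H.choose_spec.1.1, ?_, ?_⟩
    · simpa using H.choose_spec.1.2
    · intro m hm
      apply Cofork.IsColimit.hom_ext (coequalizerIsCoequalizer _ _)
      simp only [Cofork.π_ofπ]
      rw [coequalizer.π_desc]
      exact H.choose_spec.2 _ ⟨by rw [← Category.assoc, coequalizer.condition, Category.assoc],
        by simpa using hm⟩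
  · intro _
    obtain ⟨h, ⟨hh, hfh⟩, huniq⟩ := GrpdLib.exists_invImage_desc s hs₀ hs₁ f₀ hf _
      (coequalizer.condition (pullback.fst (pullback.snd f₀ d₁ ≫ d₀) f₀ ≫ pullback.fst f₀ d₁)
        (pullback.snd (pullback.snd f₀ d₁ ≫ d₀) f₀))
    refine HasColimit.mk ⟨Cofork.ofπ h hh, ?_⟩
    refine Cofork.IsColimit.mk' _ fun t => ?_
    refine ⟨coequalizer.desc (f₀ ≫ t.π) (GrpdLib.invImage_equalizes f₀ _ t.condition), ?_, ?_⟩
    · rw [← cancel_epi f₀, Cofork.π_ofπ, reassoc_of% hfh, coequalizer.π_desc]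
    · intro m hm
      apply Cofork.IsColimit.hom_ext (coequalizerIsCoequalizer _ _)
      simp only [Cofork.π_ofπ]
      rw [coequalizer.π_desc, ← hm, Cofork.π_ofπ, reassoc_of% hfh]

end Groth.Agent.S5221
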