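import Groth.Statements.S5222
import Mathlib.CategoryTheory.Monoidal.Cartesian.Grp

set_option autoImplicit false
open CategoryTheory CategoryTheory.Limits MonoidalCategory
universe v₁ u₁
open DescCat

namespace Groth.Agent.S5222

open MonObj CartesianMonoidalCategory SemiCartesianMonoidalCategory in
/-- In a cartesian monoidal category with pullbacks: for a homomorphism `f : G ⟶ G'` of group objects
with kernel `K = G ×_{G'} e`, the pair `G × K ⇉ G` given by the projection and by multiplication is
the kernel pair of `f`. -/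
theorem result {C : Type u₁} [Category.{v₁} C]
    [CartesianMonoidalCategory C] [HasPullbacks C]
    {G G' : C} [GrpObj G] [GrpObj G'] (f : G ⟶ G') [IsMonHom f] :
    IsKernelPair f (fst G (pullback f η[G']))
      ((G ◁ pullback.fst f η[G']) ≫ μ[G]) := by
  have key : ∀ {T : C} (x : T ⟶ G ⊗ pullback f η[G']),
      x ≫ (G ◁ pullback.fst f η[G']) ≫ μ[G] =
        (x ≫ fst _ _) * ((x ≫ snd _ _) ≫ pullback.fst f η[G']) := by
    intro T x
    rw [Hom.mul_def, ← Category.assoc]
    congr 1
    ext <;> simp
  have hone : ∀ {T : C} (y : T ⟶ pullback f η[G']), (y ≫ pullback.fst f η[G']) ≫ f = 1 := by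
    intro T y
    rw [Category.assoc, pullback.condition, Hom.one_def, ← Category.assoc]
    congr 1
    exact toUnit_unique _ _
  refine ⟨⟨?_⟩, ⟨PullbackCone.IsLimit.mk _ (fun s => lift s.fst
      (pullback.lift (s.fst⁻¹ * s.snd) (toUnit _) ?_)) (fun s => ?_) (fun s => ?_) (fun s m h1 h2 => ?_)⟩⟩
  · have := key (𝟙 (G ⊗ pullback f η[G']))
    rw [Category.id_comp] at this
    rw [this, MonObj.mul_comp, hone]
    simp
  · rw [MonObj.mul_comp, GrpObj.inv_comp, s.condition, inv_mul_cancel, Hom.one_def]
  · simp
  · rw [key]; simp [pullback.lift_fst]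
  · rw [key] at h2
    apply CartesianMonoidalCategory.hom_ext
    · simpa using h1
    · apply pullback.hom_ext
      · rw [lift_snd, pullback.lift_fst, ← h1, ← h2]
        simp
      · exact toUnit_unique _ _

end Groth.Agent.S5222
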