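import Groth.Statements.S5225
import Groth.Agent.GrpdLib.EtQuot

set_option autoImplicit false
open CategoryTheory CategoryTheory.Limits AlgebraicGeometry
universe u
open GrpQ

namespace Groth.Agent.S5225

/-- For the étale topology: let `s, t : R ⇉ U` be an equivalence relation of schemes over `S` with `s`
étale and surjective. A morphism `q : U ⟶ Y` over `S` is an étale surjective quotient with kernel
pair `R` if and only if `q` identifies `h_Y` with the étale quotient sheaf `U/R`. -/
theorem result {S : Scheme.{u}} {R U Y : Over S} (s t : R ⟶ U)
    [IsEquivalenceRelation s t] [Etale s.left] [Surjective s.left]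
    (q : U ⟶ Y) :
    (IsKernelPair q s t ∧ Etale q.left ∧ Surjective q.left) ↔
      QuotSh.IsQuotient Scheme.etalePrecoverage s t q := by
  have heq := GrpdLib.isEqvRel_of_isEquivalenceRelation s t
  constructor
  · rintro ⟨hk, _, _⟩
    have hc : IsPullback t.left s.left q.left q.left :=
      (show IsPullback s t q q from hk).flip.map (Over.forget S)
    refine S7490.result _ s t q hk.w hc.w (GrpdLib.epi_repMap_of_etale q) ?_
    have : IsIso (pullback.lift t.left s.left hc.w) := by
      rw [show pullback.lift t.left s.left hc.w = hc.isoPullback.hom by
        apply pullback.hom_ext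
        · exact (pullback.lift_fst _ _ _).trans hc.isoPullback_hom_fst.symm
        · exact (pullback.lift_snd _ _ _).trans hc.isoPullback_hom_snd.symm]
      infer_instance
    let c : R ⟶ Over.mk (pullback.fst q.left q.left ≫ U.hom) :=
      Over.homMk (pullback.lift t.left s.left hc.w)
        (((Category.assoc _ _ _).symm.trans (congrArg (fun k => k ≫ U.hom) (pullback.lift_fst t.left s.left hc.w))).trans (Over.w t))
    have : IsIso ((Over.forget S).map c) := ‹IsIso (pullback.lift t.left s.left hc.w)›
    have : IsIso c := isIso_of_reflects_iso c (Over.forget S)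
    exact inferInstanceAs (Epi (QuotSh.repMap Scheme.etalePrecoverage c))
  · intro hq
    obtain ⟨hpb, hP⟩ := GrpdLib.repWith_map_of_isQuotient heq
      (GrpdLib.isQuotient_fppf_of_etale s t heq hq)
    exact ⟨hpb.flip, hP @Etale inferInstance, hP @Surjective inferInstance⟩

end Groth.Agent.S5225
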