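import Groth.Statements.S5226
import Mathlib
import Groth.Agent.Topos.Quot

set_option autoImplicit false
open CategoryTheory CategoryTheory.Limits
universe w v₁ u₁
open ShfCat

namespace Groth.Agent.S5226

/-- For sheaves of sets on a site with sheafification: if `R ⇉ X` is an equivalence relation with
(universally effective) quotient `X/R` and `Y ⊆ X` is a subsheaf with induced relation `R_Y`, then
the canonical map `Y/R_Y ⟶ X/R` is a monomorphism. Here `R_Y` is built as the iterated pullback of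
`R` along `Y ⟶ X` on both sides. -/
theorem result {C : Type u₁} [Category.{v₁} C]
    (J : GrothendieckTopology C) [HasSheafify J (Type w)]
    {R X Y : Sheaf J (Type w)} {p₁ p₂ : R ⟶ X} (e : UniversallyEffectiveEquivalenceRelation p₁ p₂)
    (ι : Y ⟶ X) [Mono ι]
    [HasCoequalizer (pullback.fst (pullback.fst p₁ ι ≫ p₂) ι ≫ pullback.snd p₁ ι)
      (pullback.snd (pullback.fst p₁ ι ≫ p₂) ι)]
    (g : coequalizer (pullback.fst (pullback.fst p₁ ι ≫ p₂) ι ≫ pullback.snd p₁ ι)
      (pullback.snd (pullback.fst p₁ ι ≫ p₂) ι) ⟶ e.B)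
    (hg : coequalizer.π _ _ ≫ g = ι ≫ e.π) :
    Mono g := by
  refine ⟨fun {T} a b hab => ?_⟩
  obtain ⟨T', d, la, lb, hd, hla, hlb⟩ := Groth.Agent.Topos.Quot.exists_lift₂
    (coequalizer.π (pullback.fst (pullback.fst p₁ ι ≫ p₂) ι ≫ pullback.snd p₁ ι)
      (pullback.snd (pullback.fst p₁ ι ≫ p₂) ι))
    (coequalizer.π (pullback.fst (pullback.fst p₁ ι ≫ p₂) ι ≫ pullback.snd p₁ ι)
      (pullback.snd (pullback.fst p₁ ι ≫ p₂) ι)) a b
  have h2 : (la ≫ ι) ≫ e.π = (lb ≫ ι) ≫ e.π := by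
    rw [Category.assoc, Category.assoc, ← hg, reassoc_of% hla, reassoc_of% hlb, hab]
  have h := e.isKernelPair
  let r := IsPullback.lift h (la ≫ ι) (lb ≫ ι) h2
  have hr₁ : r ≫ p₁ = la ≫ ι := IsPullback.lift_fst h _ _ h2
  have hr₂ : r ≫ p₂ = lb ≫ ι := IsPullback.lift_snd h _ _ h2
  let r' := pullback.lift r la hr₁
  have hr' : r' ≫ pullback.fst p₁ ι ≫ p₂ = lb ≫ ι := by
    rw [← Category.assoc, pullback.lift_fst, hr₂]
  rw [← cancel_epi d, ← hla, ← hlb]
  have := congrArg (pullback.lift r' lb hr' ≫ ·)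
    (coequalizer.condition (pullback.fst (pullback.fst p₁ ι ≫ p₂) ι ≫ pullback.snd p₁ ι)
      (pullback.snd (pullback.fst p₁ ι ≫ p₂) ι))
  simpa [r', pullback.lift_fst_assoc, pullback.lift_snd_assoc] using this

end Groth.Agent.S5226
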