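import Groth.Statements.S5227
import Mathlib
import Groth.Agent.Topos.Quot

set_option autoImplicit false
open CategoryTheory CategoryTheory.Limits
universe w v₁ u₁
open ShfCat
open Groth.Agent.DescCatLib (uee_effectiveEpi)

namespace Groth.Agent.S5227

/-- For sheaves of sets on a site with sheafification: for an equivalence relation `R ⇉ X` with
(universally effective) quotient `π : X ⟶ X/R`, inverse image along `π` is a bijection from the
subsheaves of `X/R` onto the subsheaves of `X` stable under `R` (those whose two inverse images in
`R` agree). -/
theorem result {C : Type u₁} [Category.{v₁} C]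
    (J : GrothendieckTopology C) [HasSheafify J (Type w)]
    {R X : Sheaf J (Type w)} {p₁ p₂ : R ⟶ X} (e : UniversallyEffectiveEquivalenceRelation p₁ p₂) :
    Function.Injective (Subobject.pullback e.π).obj ∧
      Set.range (Subobject.pullback e.π).obj =
        {Y : Subobject X | (Subobject.pullback p₁).obj Y = (Subobject.pullback p₂).obj Y} := by
  have := uee_effectiveEpi (f := e.π) e.universally_effectiveEpi_π
  refine ⟨Groth.Agent.Topos.Quot.pullback_injective e.π, Set.ext fun Y => ⟨?_, fun hY => ?_⟩⟩
  · rintro ⟨K, rfl⟩
    change (Subobject.pullback p₁).obj _ = (Subobject.pullback p₂).obj _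
    rw [← Subobject.pullback_comp, ← Subobject.pullback_comp, e.isKernelPair.w]
  · refine Groth.Agent.Topos.Quot.exists_pullback_eq e.π Y fun {T} x y hxy hx => ?_
    have h := e.isKernelPair
    have h1 := (Groth.Agent.Topos.Quot.factors_pullback_iff p₁ Y (IsPullback.lift h x y hxy)).2
      (by rwa [IsPullback.lift_fst])
    rw [show (Subobject.pullback p₁).obj Y = _ from hY, Groth.Agent.Topos.Quot.factors_pullback_iff,
      IsPullback.lift_snd] at h1
    exact h1

end Groth.Agent.S5227
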