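import Groth.Statements.S5228
import Groth.Agent.Comod.LinRed
import Groth.Prelude.Def_ComodSub
import Mathlib.RingTheory.Bialgebra.MonoidAlgebra

set_option autoImplicit false
universe w u
open HopfRep

namespace Groth.Agent.S5228

/-- Over an affine base, in comodule form: for a representation `V` of a diagonalizable group `D(M)`
over a commutative ring `k` (a `k[M]`-comodule), every sub-representation which is a direct summand
as a `k`-module is a direct summand as a representation. (The published statement: a short exact
sequence of quasi-coherent `D(M)`-modules that splits as a sequence of modules splits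
equivariantly.) -/
theorem result {k : Type u} [CommRing k] {M : Type u} [CommGroup M]
    (V : Type w) [AddCommGroup V] [Module k V] [HopfRep.Comod k (MonoidAlgebra k M) V]
    (W : Submodule k V) (hW : HopfRep.IsSubcomod (k := k) (A := MonoidAlgebra k M) W)
    (hsplit : ∃ W' : Submodule k V, IsCompl W W') :
    ∃ W'' : Submodule k V, HopfRep.IsSubcomod (k := k) (A := MonoidAlgebra k M) W'' ∧ IsCompl W W'' := by
  obtain ⟨W', hW'⟩ := hsplit
  let η : MonoidAlgebra k M →ₗ[k] k := Finsupp.lapply (1 : M) ∘ₗ (MonoidAlgebra.coeffLinearEquiv k).toLinearMap
  have hη : Comod.IsIntegral k η := by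
    refine ⟨fun a => ?_, by simp [η, MonoidAlgebra.one_def]⟩
    induction a using MonoidAlgebra.induction_linear with
    | zero => simp
    | add y z hy hz => simp only [map_add, TensorProduct.add_tmul, hy, hz]
    | single g r =>
      simp only [MonoidAlgebra.comul_single, CommSemiring.comul_apply, TensorProduct.map_tmul, LinearMap.rTensor_tmul]
      rcases eq_or_ne g 1 with rfl | hg
      · simp [η, MonoidAlgebra.one_def]
        rw [show MonoidAlgebra.single (1 : M) r = r • MonoidAlgebra.single (1 : M) (1 : k) by simp,
          ← TensorProduct.smul_tmul, smul_eq_mul, mul_one]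
      · simp [η, hg]
  have hp : Submodule.projectionOnto W W' hW' ∘ₗ W.subtype = LinearMap.id :=
    LinearMap.ext fun w => Submodule.projectionOnto_apply_left hW' w
  haveI : Module.Free k (MonoidAlgebra k M) := inferInstance
  let cW := ComodSub.Comod.restr (inferInstance : HopfRep.Comod k (MonoidAlgebra k M) V) W hW
  obtain ⟨r, hr, hr1⟩ := hη.exists_retraction W.subtype
    (ComodSub.isComodHom_subtype _ W hW) (Submodule.projectionOnto W W' hW') hp
  exact ⟨LinearMap.ker r, Comod.isSubcomod_ker hr, LinearMap.isCompl_of_proj (LinearMap.congr_fun hr1)⟩

end Groth.Agent.S5228
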