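import Groth.Statements.S5231
import Mathlib

set_option autoImplicit false
open CategoryTheory
universe w v₁ u₁
open ShfCat

namespace Groth.Agent.S5231

/-- (iii) ⇒ (i): a morphism `f` of sheaves of sets on a site is a monomorphism (resp. an epimorphism) as
soon as, for every object `S`, the morphisms `T ⟶ S` over which the restriction of `f` to the
induced site `C/T` is a monomorphism (resp. an epimorphism) form a covering sieve. No sheafification
is assumed. (The published statement also treats isomorphisms in the same way; that case is left out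
here.) -/
theorem result {C : Type u₁} [Category.{v₁} C]
    (J : GrothendieckTopology C) {F G : Sheaf J (Type w)} (f : F ⟶ G) :
    ((∀ S : C, ∃ R : Sieve S, R ∈ J S ∧ ∀ ⦃T : C⦄ (g : T ⟶ S), R g →
        Mono ((J.overPullback (Type w) T).map f)) → Mono f) ∧
    ((∀ S : C, ∃ R : Sieve S, R ∈ J S ∧ ∀ ⦃T : C⦄ (g : T ⟶ S), R g →
        Epi ((J.overPullback (Type w) T).map f)) → Epi f) := by
  have hsep : ∀ (H : Sheaf J (Type w)), Presieve.IsSheaf J H.obj :=
    fun H => (isSheaf_iff_isSheaf_of_type _ _).1 H.property
  refine ⟨fun h => ?_, fun h => ⟨fun {H} a b hab => ?_⟩⟩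
  · have hinj : ∀ (X : C), Function.Injective (f.hom.app (Opposite.op X)) := by
      intro X x y hxy
      obtain ⟨R, hR, hR'⟩ := h X
      refine ((hsep F) R hR).isSeparatedFor.ext fun T g hg => ?_
      have := hR' g hg
      have hm : Mono ((sheafToPresheaf _ _).map ((J.overPullback (Type w) T).map f)) := inferInstance
      have hi := (mono_iff_injective _).1 ((NatTrans.mono_iff_mono_app _).1 hm (Opposite.op (Over.mk (𝟙 T))))
      apply hi
      change f.hom.app (Opposite.op T) (F.obj.map g.op x) = f.hom.app (Opposite.op T) (F.obj.map g.op y)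
      rw [NatTrans.naturality_apply f.hom, NatTrans.naturality_apply f.hom, hxy]
    have : Mono ((sheafToPresheaf _ _).map f) :=
      (NatTrans.mono_iff_mono_app _).2 fun X => (mono_iff_injective _).2 (hinj X.unop)
    exact (sheafToPresheaf _ _).mono_of_mono_map this
  · refine Sheaf.hom_ext (NatTrans.ext (funext fun X => ?_))
    ext y
    obtain ⟨R, hR, hR'⟩ := h X.unop
    refine ((hsep H) R hR).isSeparatedFor.ext fun T g hg => ?_
    have := hR' g hg
    have e : (J.overPullback (Type w) T).map a = (J.overPullback (Type w) T).map b := by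
      rw [← cancel_epi ((J.overPullback (Type w) T).map f), ← Functor.map_comp, ← Functor.map_comp, hab]
    have e' := ConcreteCategory.congr_hom
      (NatTrans.congr_app (congrArg (fun t => t.hom) e) (Opposite.op (Over.mk (𝟙 T)))) (G.obj.map g.op y)
    change H.obj.map g.op (a.hom.app X y) = H.obj.map g.op (b.hom.app X y)
    rw [← NatTrans.naturality_apply a.hom, ← NatTrans.naturality_apply b.hom]
    exact e'

end Groth.Agent.S5231
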