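import Groth.Statements.S5232
import Groth.Agent.AlgSp.DescentRep
import Groth.Agent.AlgSp.Quot

set_option autoImplicit false
open CategoryTheory CategoryTheory.Limits AlgebraicGeometry
universe u
open GrpQ

namespace Groth.Agent.S5232

set_option backward.isDefEq.respectTransparency false

/-- On the big fppf site of a scheme `S`, in the case where the local representing objects are affine
over the cover (so that the canonical descent datum is effective): if `Z` is an fppf sheaf over `S`
and, for an fppf cover `S' ⟶ S`, the sheaf `Z ×_S S'` is represented over `S'` by a scheme affine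
over `S'`, then `Z` is represented by a scheme affine over `S`. -/
theorem result {S S' : Scheme.{u}} (f : S' ⟶ S)
    [Flat f] [Surjective f] [LocallyOfFinitePresentation f]
    (Z : QuotSh.Sh Scheme.fppfPrecoverage S)
    (T' : Over S) (a : T' ⟶ Over.mk f) [IsAffineHom a.left]
    (φ : QuotSh.rep Scheme.fppfPrecoverage T' ≅ Z ⨯ QuotSh.rep Scheme.fppfPrecoverage (Over.mk f))
    (hφ : φ.hom ≫ prod.snd = QuotSh.repMap Scheme.fppfPrecoverage a) :
    ∃ T : Over S, IsAffineHom T.hom ∧ Nonempty (QuotSh.rep Scheme.fppfPrecoverage T ≅ Z) := by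
  let G : AlgSp.Sp S := (AlgSp.yon S).obj (Over.mk (𝟙 S))
  have hG : IsTerminal G := IsTerminal.isTerminalObj (AlgSp.yon S) _ Over.mkIdTerminal
  let p : Over.mk f ⟶ Over.mk (𝟙 S) := Over.homMk f (Category.comp_id f)
  let b := (AlgSp.yon S).map p
  have : Sheaf.IsLocallySurjective b := AlgSp.isLocallySurjective_of_repWith b
    ((AlgSp.repWith_yon_map_iff _ p).2 (inferInstanceAs (Flat f)))
    ((AlgSp.repWith_yon_map_iff _ p).2 (inferInstanceAs (LocallyOfFinitePresentation f)))
    ((AlgSp.repWith_yon_map_iff _ p).2 (inferInstanceAs (Surjective f)))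
  let eH := QuotSh.repIsoUliftYoneda Scheme.fppfPrecoverage (Over.mk f)
  let eT := QuotSh.repIsoUliftYoneda Scheme.fppfPrecoverage T'
  have h0 : IsPullback (prod.fst : Z ⨯ QuotSh.rep Scheme.fppfPrecoverage (Over.mk f) ⟶ Z) prod.snd
      (hG.from Z) (hG.from _) :=
    IsPullback.of_is_product' (prodIsProd _ _) hG
  have sq : IsPullback (eT.inv ≫ φ.hom ≫ prod.fst) ((AlgSp.yon S).map a) (hG.from Z) b :=
    IsPullback.of_iso h0 (φ.symm ≪≫ eT) (Iso.refl _) eH (Iso.refl _)
      (by simp)
      (by
        rw [Iso.trans_hom, Category.assoc, ← cancel_mono eH.inv, Category.assoc, Category.assoc,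
          Category.assoc, eH.hom_inv_id, Category.comp_id]
        erw [← AlgSp.repMap_repIso]
        rw [Iso.hom_inv_id_assoc, ← hφ]
        simp)
      (hG.hom_ext _ _) (hG.hom_ext _ _)
  have h := AlgSp.repWith_isAffineHom_of_baseChange (hG.from Z) b sq
    ((AlgSp.repWith_yon_map_iff _ a).2 (inferInstanceAs (IsAffineHom a.left)))
  obtain ⟨T, t, fst, sT⟩ := h.1 (𝟙 G)
  have ht : IsAffineHom t.left := h.2 (𝟙 G) fst t sT
  have : IsIso fst := sT.isIso_fst_of_isIso
  refine ⟨T, ?_, ⟨QuotSh.repIsoUliftYoneda Scheme.fppfPrecoverage T ≪≫ asIso fst⟩⟩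
  have e : t.left = T.hom := (Category.comp_id _).symm.trans (Over.w t)
  exact e ▸ ht

end Groth.Agent.S5232
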