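import Groth.Statements.S5234
import Groth.Agent.AGFQuot.Basic
import Groth.Agent.Thick.FlatCancel
import Mathlib.AlgebraicGeometry.Morphisms.LocalFlatDescent
-- import your own Groth.Agent.* helpers here

set_option autoImplicit false
open CategoryTheory CategoryTheory.Limits AlgebraicGeometry MonoidalCategory
universe u
open RedSub

namespace Groth.Agent.S5234

open CartesianMonoidalCategory SemiCartesianMonoidalCategory in
/-- (ii) ⇔ (iii), for schemes with the fppf topology: let `G` be an `S`-group scheme which is faithfully
flat and locally of finite presentation over `S`, acting on `X` so that `X` is formally principal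
homogeneous. Then `X` is a torsor (its structure map is faithfully flat and locally of finite
presentation) if and only if `X` has a point over some faithfully flat, locally finitely presented
`S' ⟶ S`. -/
theorem result {S : Scheme.{u}} {G X : Over S} [GrpObj G]
    (a : AlgGrp.Action G X)
    [Flat G.hom] [Surjective G.hom] [LocallyOfFinitePresentation G.hom]
    (hX : IsIso (lift a.act (snd G X))) :
    RedSub.IsTorsor a ↔
      ∃ S' : Over S, Surjective S'.hom ∧ Flat S'.hom ∧ LocallyOfFinitePresentation S'.hom ∧
        Nonempty (S' ⟶ X) := by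
  refine ⟨fun h => ⟨X, h.1, h.2.1, h.2.2.1, ⟨𝟙 X⟩⟩, ?_⟩
  rintro ⟨S', hs, hf, hp, ⟨σ⟩⟩
  haveI := hX
  haveI : Surjective (σ.left ≫ X.hom) := by rw [Over.w σ]; exact hs
  have hsurj : Surjective X.hom := Surjective.of_comp σ.left X.hom
  let d := inv (lift a.act (snd G X))
  have hd : ∀ {T : Over S} (x y : T ⟶ X), GrpScheme.Basic.smul a (lift x y ≫ d ≫ fst G X) y = x := by
    intro T x y
    have h := lift x y ≫= IsIso.inv_hom_id (lift a.act (snd G X))
    rw [Category.comp_id] at h
    have h1 := h =≫ fst X X
    have h2 := h =≫ snd X X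
    simp only [Category.assoc, lift_fst, lift_snd] at h1 h2
    have e : lift x y ≫ d = lift (lift x y ≫ d ≫ fst G X) y := by
      apply CartesianMonoidalCategory.hom_ext
      · simp
      · rw [Category.assoc, h2, lift_snd]
    calc _ = (lift x y ≫ d) ≫ a.act := by rw [e]; rfl
      _ = x := by rw [Category.assoc]; exact h1
  have hd' : ∀ {T : Over S} (g : T ⟶ G) (y : T ⟶ X),
      lift (GrpScheme.Basic.smul a g y) y ≫ d ≫ fst G X = g := by
    intro T g y
    have h : lift (GrpScheme.Basic.smul a g y) y = lift g y ≫ lift a.act (snd G X) := by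
      simp [GrpScheme.Basic.smul, comp_lift]
    rw [h, Category.assoc, IsIso.hom_inv_id_assoc, lift_fst]
  let e : G ⊗ S' ≅ X ⊗ S' :=
    { hom := lift (GrpScheme.Basic.smul a (fst G S') (snd G S' ≫ σ)) (snd G S')
      inv := lift (lift (fst X S') (snd X S' ≫ σ) ≫ d ≫ fst G X) (snd X S')
      hom_inv_id := by
        apply CartesianMonoidalCategory.hom_ext
        · rw [Category.assoc, lift_fst, comp_lift_assoc, lift_fst, lift_snd_assoc, Category.id_comp, hd']
        · simp
      inv_hom_id := by
        apply CartesianMonoidalCategory.hom_ext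
        · rw [Category.assoc, lift_fst, GrpScheme.Basic.comp_smul, lift_fst, lift_snd_assoc,
            hd, Category.id_comp]
        · simp }
  have hsnd : ∀ (P : MorphismProperty Scheme.{u}) [P.IsStableUnderBaseChange], P G.hom →
      P (snd X S').left := by
    intro P _ hG
    have h1 : (snd X S').left = e.inv.left ≫ (snd G S').left := by
      rw [← Over.comp_left]; simp [e]
    have : IsIso e.inv := Iso.isIso_inv e
    have : IsIso e.inv.left := GrpScheme.Basic.isIso_left e.inv
    rw [h1, P.cancel_left_of_respectsIso]
    exact GrpScheme.Basic.snd_left_mem P hG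
  refine ⟨hsurj, ?_, ?_, hX⟩
  · haveI : Flat (fst X S').left := MorphismProperty.pullback_fst (P := @Flat) X.hom S'.hom hf
    haveI : Surjective (fst X S').left := MorphismProperty.pullback_fst (P := @Surjective) X.hom S'.hom hs
    haveI : Flat ((fst X S').left ≫ X.hom) := by
      rw [Over.w, show (X ⊗ S').hom = (snd X S').left ≫ S'.hom from (Over.w _).symm]
      exact MorphismProperty.comp_mem _ _ _ (hsnd @Flat ‹_›) hf
    exact Thick.FlatCancel.flat_of_comp (fst X S').left X.hom
  · exact MorphismProperty.of_pullback_snd_of_descendsAlong (P := @LocallyOfFinitePresentation)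
      (Q := @Surjective ⊓ @Flat ⊓ @LocallyOfFinitePresentation) (g := S'.hom) ⟨⟨hs, hf⟩, hp⟩
      (hsnd @LocallyOfFinitePresentation ‹_›)

end Groth.Agent.S5234
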