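import Groth.Statements.S5236
import Groth.Agent.AGFQuot.Basic
-- import your own Groth.Agent.* helpers here

set_option autoImplicit false
open CategoryTheory CategoryTheory.Limits AlgebraicGeometry MonoidalCategory
universe u
open RedSub

namespace Groth.Agent.S5236

/-- For group schemes and the fppf topology: if `i : H ⟶ G` is a normal monomorphism of `S`-group
schemes and `q : G ⟶ Q` exhibits `Q` as the fppf quotient `G/H`, then there is exactly one
group-scheme structure on `Q` over `S` making `q` a homomorphism. -/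
theorem result {S : Scheme.{u}} {H G Q : Over S} [GrpObj H] [hG : GrpObj G]
    (i : H ⟶ G) [IsMonHom i] [Mono i] (hn : AlgGrp.IsNormalHom i)
    (q : G ⟶ Q) (hq : RedSub.IsQuotient i q) :
    ∃! s : GrpObj Q, @IsMonHom (Over S) _ _ G Q hG.toMonObj s.toMonObj q := by
  open MonObj GrpObj CartesianMonoidalCategory in
  have hc := AGFQuot.Basic.IsCover.of_isQuotient hq
  have hsq := hq.2.2.2
  have hiff := fun {T : Over S} (a b : T ⟶ G) => AGFQuot.Basic.comp_eq_iff hsq a b
  have hcong : ∀ (T : Over S) (a a' b b' : T ⟶ G), a ≫ q = a' ≫ q → b ≫ q = b' ≫ q →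
      (a * b) ≫ q = (a' * b') ≫ q := by
    intro T a a' b b' ha hb
    obtain ⟨h, rfl⟩ := (hiff a a').mp ha
    obtain ⟨h', rfl⟩ := (hiff b b').mp hb
    obtain ⟨n, hn'⟩ := hn T b⁻¹ h
    refine (hiff _ _).mpr ⟨n * h', ?_⟩
    rw [MonObj.mul_comp, ← hn']
    group
  have hcongi : ∀ (T : Over S) (a a' : T ⟶ G), a ≫ q = a' ≫ q → a⁻¹ ≫ q = a'⁻¹ ≫ q := by
    intro T a a' ha
    obtain ⟨h, rfl⟩ := (hiff a a').mp ha
    obtain ⟨n, hn'⟩ := hn T a h
    refine (hiff _ _).mpr ⟨n⁻¹, ?_⟩
    rw [GrpObj.inv_comp, ← hn']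
    group
  have := (hc.tensor hc).effectiveEpi
  have := hc.effectiveEpi
  obtain ⟨m, hm, hmu⟩ := GrpdLib.GrpOver.existsUnique_desc (q ⊗ₘ q) (μ[G] ≫ q) fun T a b e => by
    have e1 := e =≫ fst Q Q
    have e2 := e =≫ snd Q Q
    simp only [Category.assoc, tensorHom_fst, tensorHom_snd] at e1 e2
    have h2 : ∀ x : T ⟶ G ⊗ G, x ≫ μ[G] = (x ≫ fst G G) * (x ≫ snd G G) := fun x => by
      rw [Hom.mul_def, lift_comp_fst_snd]
    rw [← Category.assoc, ← Category.assoc, h2, h2]
    exact hcong T _ _ _ _ (by simpa using e1) (by simpa using e2)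
  obtain ⟨ν, hν, hνu⟩ := AGFQuot.Basic.existsUnique_desc hc hsq (ι[G] ≫ q) fun T a h => by
    rw [← Category.assoc, ← Category.assoc, ← Hom.inv_def, ← Hom.inv_def]
    exact hcongi T _ _ ((hiff a _).mpr ⟨h, rfl⟩).symm
  have hmul : ∀ {T : Over S} (a b : T ⟶ G), lift (a ≫ q) (b ≫ q) ≫ m = (a * b) ≫ q := by
    intro T a b
    rw [← lift_map_assoc, hm, Hom.mul_def, Category.assoc]
  have hinv : ∀ {T : Over S} (a : T ⟶ G), a ≫ q ≫ ν = a⁻¹ ≫ q := fun a => by
    rw [hν, Hom.inv_def, Category.assoc]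
  have hone : ∀ {T : Over S} (f : T ⟶ 𝟙_ (Over S)), f ≫ η[G] = (1 : T ⟶ G) := fun f => by
    rw [toUnit_unique f (toUnit _)]; rfl
  let s : GrpObj Q :=
    { one := η[G] ≫ q
      mul := m
      one_mul := by
        refine (hc.whiskerLeft (𝟙_ (Over S))).cancel ?_
        rw [show (𝟙_ (Over S)) ◁ q ≫ (η[G] ≫ q) ▷ Q ≫ m =
          lift ((fst _ G ≫ η[G]) ≫ q) (snd _ G ≫ q) ≫ m by
            rw [← Category.assoc]; congr 1; apply CartesianMonoidalCategory.hom_ext <;> simp [leftUnitor_hom, toUnit_unique (fst (𝟙_ (Over S)) G) (toUnit _)],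
          hmul, hone, _root_.one_mul]
        simp [leftUnitor_hom]
      mul_one := by
        refine (hc.whiskerRight (𝟙_ (Over S))).cancel ?_
        rw [show q ▷ (𝟙_ (Over S)) ≫ Q ◁ (η[G] ≫ q) ≫ m =
          lift (fst G _ ≫ q) ((snd G _ ≫ η[G]) ≫ q) ≫ m by
            rw [← Category.assoc]; congr 1; apply CartesianMonoidalCategory.hom_ext <;> simp [rightUnitor_hom, toUnit_unique (snd G (𝟙_ (Over S))) (toUnit _)],
          hmul, hone, _root_.mul_one]
        simp [rightUnitor_hom]
      mul_assoc := by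
        refine ((hc.tensor hc).tensor hc).cancel ?_
        have l : ((q ⊗ₘ q) ⊗ₘ q) ≫ m ▷ Q ≫ m = lift (lift ((fst _ _ ≫ fst G G) ≫ q) ((fst _ _ ≫ snd G G) ≫ q) ≫ m) (snd (G ⊗ G) G ≫ q) ≫ m := by
          rw [← Category.assoc]; congr 1
          apply CartesianMonoidalCategory.hom_ext
          · simp only [Category.assoc, whiskerRight_fst, tensorHom_fst_assoc, lift_fst]
            rw [← Category.assoc]
            congr 1
            apply CartesianMonoidalCategory.hom_ext <;> simp
          · simp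
        have r : ((q ⊗ₘ q) ⊗ₘ q) ≫ (α_ Q Q Q).hom ≫ Q ◁ m ≫ m =
            lift ((fst _ _ ≫ fst G G) ≫ q) (lift ((fst _ _ ≫ snd G G) ≫ q) (snd (G ⊗ G) G ≫ q) ≫ m) ≫ m := by
          rw [← Category.assoc, ← Category.assoc]; congr 1
          apply CartesianMonoidalCategory.hom_ext
          · simp
          · simp only [Category.assoc, whiskerLeft_snd, lift_snd]
            rw [← Category.assoc, ← Category.assoc]
            congr 1
            apply CartesianMonoidalCategory.hom_ext <;> simp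
        rw [l, r, hmul, hmul, hmul, hmul, _root_.mul_assoc]
      inv := ν
      left_inv := by
        refine hc.cancel ?_
        rw [comp_lift_assoc, comp_toUnit_assoc, Category.comp_id]
        have e := hmul (ι[G]) (𝟙 G)
        rw [Category.id_comp] at e
        rw [hν, e, Hom.mul_def, GrpObj.left_inv, Category.assoc]
      right_inv := by
        refine hc.cancel ?_
        rw [comp_lift_assoc, comp_toUnit_assoc, Category.comp_id]
        have e := hmul (𝟙 G) (ι[G])
        rw [Category.id_comp] at e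
        rw [hν, e, Hom.mul_def, GrpObj.right_inv, Category.assoc] }
  refine ⟨s, ⟨rfl, hm.symm⟩, fun s' hs' => ?_⟩
  apply GrpObj.ext
  refine MonObj.ext _ _ ?_
  exact hmu _ hs'.mul_hom.symm

end Groth.Agent.S5236
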