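import Groth.Statements.S5238
import Groth.Agent.S2735

set_option autoImplicit false
open CategoryTheory AlgebraicGeometry
universe w u
open GrpQ

namespace Groth.Agent.S5238

/-- A presheaf of sets on schemes is a sheaf for the fppf topology (the topology generated by jointly
surjective families of flat morphisms locally of finite presentation) if and only if it is a Zariski
sheaf and satisfies the sheaf condition for every single morphism of affine schemes `T ⟶ S` which is
flat, surjective, locally of finite presentation and locally quasi-finite. (Between affine schemes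
such a morphism is faithfully flat, of finite presentation and quasi-finite; that these quasi-finite
covers suffice rests on the existence of quasi-finite flat quasi-sections of flat surjective
morphisms locally of finite presentation.) -/
theorem result (F : Scheme.{u}ᵒᵖ ⥤ Type w) :
    Presheaf.IsSheaf Scheme.fppfTopology F ↔
      Presheaf.IsSheaf Scheme.zariskiTopology F ∧
        ∀ (T S : Scheme.{u}) [IsAffine T] [IsAffine S] (f : T ⟶ S)
          [Flat f] [Surjective f] [LocallyOfFinitePresentation f] [LocallyQuasiFinite f],
          Presieve.IsSheafFor F (Presieve.singleton f) := by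
  have hle1 : Scheme.fppfPrecoverage ≤ Scheme.propQCPrecoverage.{u} (@Flat ⊓ @LocallyOfFinitePresentation) := by
    rw [Scheme.propQCPrecoverage, le_inf_iff]
    refine ⟨?_, le_of_eq rfl⟩
    exact Scheme.precoverage_le_qcPrecoverage_of_isOpenMap fun X Y f ⟨_, _⟩ ↦ f.isOpenMap
  have hle2 : Scheme.propQCPrecoverage.{u} (@Flat ⊓ @LocallyOfFinitePresentation) ≤ Scheme.fppfPrecoverage := by
    rw [Scheme.propQCPrecoverage]
    exact inf_le_right
  have hJ : Scheme.fppfTopology.{u} = Scheme.propQCTopology (@Flat ⊓ @LocallyOfFinitePresentation) :=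
    le_antisymm (Precoverage.toGrothendieck_mono hle1) (Precoverage.toGrothendieck_mono hle2)
  rw [CategoryTheory.isSheaf_iff_isSheaf_of_type, CategoryTheory.isSheaf_iff_isSheaf_of_type]
  constructor
  · intro hF
    refine ⟨Presieve.isSheaf_of_le _ (Precoverage.toGrothendieck_mono
      Scheme.zariskiPrecoverage_le_fppfPrecoverage) hF, fun T S _ _ f _ _ _ _ => ?_⟩
    rw [Presieve.isSheafFor_iff_generate]
    exact hF _ (Precoverage.generate_mem_toGrothendieck f.singleton_mem_fppfPrecoverage)
  · rintro ⟨hzar, hqf⟩
    haveI : (@Flat ⊓ @LocallyOfFinitePresentation : MorphismProperty Scheme.{u}).IsMultiplicative :=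
      { id_mem := fun X => ⟨inferInstance, inferInstance⟩
        comp_mem := fun f g hf hg => ⟨MorphismProperty.comp_mem _ f g hf.1 hg.1,
          MorphismProperty.comp_mem _ f g hf.2 hg.2⟩ }
    rw [hJ, isSheaf_type_propQCTopology_iff]
    refine ⟨hzar, fun {R S} φ hφ hsurj => ?_⟩
    obtain ⟨hfl, hlfp⟩ := hφ
    obtain ⟨S', g, h, hg, hgfl, hglfp, hgqf, hgs, hgaff⟩ := Groth.Agent.S2735.result (Spec.map φ)
    haveI : IsAffine S' := hgaff inferInstance
    rw [Presieve.isSheafFor_singleton]
    intro x hx
    have hsep := fun {T U : Scheme.{u}} [IsAffine T] [IsAffine U] (f : T ⟶ U) [Flat f] [Surjective f]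
      [LocallyOfFinitePresentation f] [LocallyQuasiFinite f] => Presieve.isSheafFor_singleton.mp (hqf T U f)
    obtain ⟨y, hy, hyu⟩ := hsep g (F.map h.op x) fun {Z} p₁ p₂ hp => by
      have h12 := hx (p₁ ≫ h) (p₂ ≫ h) (by rw [Category.assoc, Category.assoc, hg]; exact hp)
      simpa only [op_comp, Functor.map_comp, ConcreteCategory.comp_apply] using h12
    refine ⟨y, ?_, fun y' hy' => hyu y' ?_⟩
    · let P := Limits.pullback (Spec.map φ) g
      let p : P ⟶ Spec S := Limits.pullback.fst _ _
      let q : P ⟶ S' := Limits.pullback.snd _ _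
      have e : p ≫ Spec.map φ = q ≫ g := Limits.pullback.condition
      haveI : Flat p := CategoryTheory.MorphismProperty.pullback_fst _ _ hgfl
      haveI : Surjective p := CategoryTheory.MorphismProperty.pullback_fst _ _ hgs
      haveI : LocallyOfFinitePresentation p := CategoryTheory.MorphismProperty.pullback_fst _ _ hglfp
      haveI : LocallyQuasiFinite p := CategoryTheory.MorphismProperty.pullback_fst _ _ hgqf
      have h1 : F.map p.op (F.map (Spec.map φ).op y) = F.map p.op x := by
        rw [← ConcreteCategory.comp_apply, ← F.map_comp, ← op_comp, e, op_comp, F.map_comp, ConcreteCategory.comp_apply,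
          hy, ← ConcreteCategory.comp_apply, ← F.map_comp, ← op_comp]
        exact hx (q ≫ h) p (by rw [Category.assoc, hg, e])
      obtain ⟨z, hz, hzu⟩ := hsep p (F.map p.op x) fun {Z} p₁ p₂ hp => by
        rw [← ConcreteCategory.comp_apply, ← F.map_comp, ← op_comp, ← ConcreteCategory.comp_apply, ← F.map_comp,
          ← op_comp, hp]
      exact (hzu _ h1).trans (hzu _ rfl).symm
    · rw [← hy', ← ConcreteCategory.comp_apply, ← F.map_comp, ← op_comp, hg]

end Groth.Agent.S5238
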