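import Groth.Statements.S5242
import Groth.Agent.MultType.KerPow

set_option autoImplicit false
universe u
open TensorProduct SGA3b
open SGA3b

namespace Groth.Agent.S5242

/-- Let G = Spec A be an R-group of multiplicative type and of finite type and n > 0 an integer. Then
the kernel ₙG = Spec (A/J) of the n-th power map of G, J being the ideal generated by the image of
the augmentation ideal under the n-th power endomorphism (a Hopf ideal; the instance hypothesis
holds automatically for this J), is an R-group of multiplicative type which is finite over R.
(Affine group schemes over an affine base are taken in Hopf-algebra form; base change is the tensor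
product; a homomorphism of groups Spec A ⟶ Spec C is a bialgebra map C → A.) -/
theorem result (R : Type u) [CommRing R] (A : Type u) [CommRing A] [HopfAlgebra R A]
    (hft : Algebra.FiniteType R A) (h : IsMultType R A) (n : ℕ) (hn : 0 < n)
    (J : Ideal A) [J.IsHopfIdeal R] (hJ : J = torsionIdeal R A n) :
    IsMultType R (A ⧸ J) ∧ Module.Finite R (A ⧸ J) := by
  haveI := Groth.Agent.MultType.Isotrivial.isCocomm_of_isMultType h
  haveI := hft
  subst hJ
  exact ⟨Groth.Agent.MultType.KerPow.isMultType_torsion hft h n, Groth.Agent.MultType.TorsionMult.finite_torsion h hn⟩

end Groth.Agent.S5242
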