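import Groth.Statements.S5243
import Groth.Agent.MultType.Mono

set_option autoImplicit false
universe u
open TensorProduct SGA3b
open SGA3b

namespace Groth.Agent.S5243

/-- Let G = Spec A be an R-group of multiplicative type, H = Spec C an affine R-group and u : G ⟶ H a
homomorphism of R-groups, given by the bialgebra map φ : C → A, which is a monomorphism: for every
R-algebra T the induced map on T-valued points G(T) → H(T) is injective. Then u is a closed
immersion, i.e. φ is surjective. (The published statement also asserts that the quotient of H by G
exists and is affine over the base, and that H is a torsor over it; this row states only that u is a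
closed immersion.) (Affine group schemes over an affine base are taken in Hopf-algebra form; base
change is the tensor product; a homomorphism of groups Spec A ⟶ Spec C is a bialgebra map C → A.) -/
theorem result (R : Type u) [CommRing R] (A : Type u) [CommRing A] [HopfAlgebra R A]
    (h : IsMultType R A) (C : Type u) [CommRing C] [HopfAlgebra R C] (φ : C →ₐc[R] A)
    (hmono : ∀ (T : Type u) [CommRing T] [Algebra R T],
      Function.Injective (fun x : A →ₐ[R] T => x.comp (φ : C →ₐ[R] A))) :
    Function.Surjective φ := by
  let L : C →ₗ[R] A := (φ : C →ₐ[R] A).toLinearMap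
  suffices hr : LinearMap.range L = ⊤ from LinearMap.range_eq_top.mp hr
  rw [← Submodule.Quotient.subsingleton_iff]
  refine subsingleton_of_forall_eq 0 fun x => ?_
  obtain ⟨a, rfl⟩ := Submodule.Quotient.mk_surjective _ x
  refine Groth.Agent.MultType.Split.eq_zero_of_forall_flat (R := R) _ fun p => ?_
  obtain ⟨S⟩ := Groth.Agent.MultType.Split.exists_splitAt h p
  refine ⟨S.T, inferInstance, inferInstance, inferInstance, ⟨S.q, S.comap_q⟩, ?_⟩
  have hsurj : Function.Surjective (Groth.Agent.MultType.Split.push S φ) := by
    refine Groth.Agent.MultType.Mono.surjective_of_points _ fun K _ _ x y hxy => ?_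
    let algR : Algebra R K := ((algebraMap S.T K).comp (algebraMap R S.T)).toAlgebra
    have : IsScalarTower R S.T K := IsScalarTower.of_algebraMap_eq' rfl
    let e' : S.T ⊗[R] A →ₐ[S.T] MonoidAlgebra S.T S.M := S.equiv
    have hh : ((x.comp e').restrictScalars R).comp Algebra.TensorProduct.includeRight =
        ((y.comp e').restrictScalars R).comp Algebra.TensorProduct.includeRight :=
      hmono K (AlgHom.ext fun c => by
        have h2 := AlgHom.congr_fun hxy ((1 : S.T) ⊗ₜ[R] c)
        simpa [e'] using h2)
    have h3 : x.comp e' = y.comp e' := Algebra.TensorProduct.ext_ring hh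
    refine AlgHom.ext fun z => ?_
    obtain ⟨w, rfl⟩ := S.equiv.surjective z
    exact AlgHom.congr_fun h3 w
  obtain ⟨z, hz⟩ := hsurj (S.equiv ((1 : S.T) ⊗ₜ[R] a))
  have key : ∀ z, LinearMap.lTensor S.T (LinearMap.range L).mkQ (LinearMap.lTensor S.T L z) = 0 := by
    intro z
    rw [← LinearMap.comp_apply, ← LinearMap.lTensor_comp]
    have : (LinearMap.range L).mkQ ∘ₗ L = 0 := LinearMap.ext fun c => by simp
    rw [this, LinearMap.lTensor_zero, LinearMap.zero_apply]
  have h4 : LinearMap.lTensor S.T L z = (1 : S.T) ⊗ₜ[R] a := by
    apply S.equiv.injective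
    change S.equiv (LinearMap.lTensor S.T L z) = S.equiv ((1 : S.T) ⊗ₜ[R] a)
    rw [← hz]
    clear hz key
    induction z using TensorProduct.induction_on with
    | zero => simp
    | tmul t c => simp [L]
    | add z z' hz hz' => simp [map_add, hz, hz']
  have h5 := key z
  rw [h4] at h5
  simpa using h5

end Groth.Agent.S5243
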