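import Groth.Statements.S5248
import Groth.Agent.DiagRig.SubTransporter

set_option autoImplicit false
open CategoryTheory MonoidalCategory CartesianMonoidalCategory MonObj GrpObj AlgebraicGeometry
universe u
open SGA3x Groth.Agent.DiagRig

namespace Groth.Agent.S5248

/-- Let G be an S-group smooth and affine over S and i : H ⟶ G a subgroup scheme of G of multiplicative
type (H of multiplicative type and of finite type, which is automatic here since G is affine and of
finite type over S). Then the normalizer of H in G (the subfunctor of points g of G with g H g⁻¹ ⊆ H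
and g⁻¹ H g ⊆ H after every base change) is representable by a closed subgroup scheme of G which is
smooth over S. -/
theorem result {S : Scheme.{u}} (H G : Over S) [GrpObj H] [GrpObj G]
    (hH : SGA3x.IsMultTypeFT H) (hG : Smooth G.hom) (hGa : IsAffineHom G.hom) (i : H ⟶ G) [IsMonHom i] [Mono i] :
    ∃ (N : Over S) (_ : GrpObj N) (j : N ⟶ G), Red.IsNormalizerOf i j ∧ IsClosedImmersion j.left ∧ Smooth N.hom := by
  have := hG
  have := hGa
  obtain ⟨T, j, hj, hs, hT⟩ := exists_subTransporter i i hH hH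
  have : Mono j := Over.mono_of_mono_left j
  have hone : ∀ X, ∃ z : X ⟶ T, z ≫ j = (1 : X ⟶ G) := fun X => (hT X 1).mpr fun X' x =>
    ⟨fun h => ⟨h, by rw [MonObj.comp_one, _root_.one_mul, inv_one, _root_.mul_one]⟩,
      fun h => ⟨h, by rw [MonObj.comp_one, inv_one, _root_.one_mul, _root_.mul_one]⟩⟩
  have hmul : ∃ z : T ⊗ T ⟶ T, z ≫ j = (fst T T ≫ j) * (snd T T ≫ j) := (hT _ _).mpr fun X' x => by
    have ha := (hT X' (x ≫ fst T T ≫ j)).mp ⟨x ≫ fst T T, Category.assoc _ _ _⟩ X' (𝟙 X')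
    have hb := (hT X' (x ≫ snd T T ≫ j)).mp ⟨x ≫ snd T T, Category.assoc _ _ _⟩ X' (𝟙 X')
    simp only [Category.id_comp] at ha hb
    refine ⟨fun h => ?_, fun h => ?_⟩
    · obtain ⟨h', e⟩ := hb.1 h
      obtain ⟨h'', e'⟩ := ha.1 h'
      refine ⟨h'', ?_⟩
      rw [← e', ← e, MonObj.comp_mul]
      group
    · obtain ⟨h', e⟩ := ha.2 h
      obtain ⟨h'', e'⟩ := hb.2 h'
      refine ⟨h'', ?_⟩
      rw [← e', ← e, MonObj.comp_mul]
      group
  have hinv : ∃ z : T ⟶ T, z ≫ j = j⁻¹ := (hT _ _).mpr fun X' x => by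
    have ha := (hT T j).mp ⟨𝟙 T, Category.id_comp j⟩ X' x
    rw [GrpObj.comp_inv]
    exact ⟨fun h => (ha.2 h).imp fun h' e => by rw [_root_.inv_inv, e],
      fun h => (ha.1 h).imp fun h' e => by rw [_root_.inv_inv, e]⟩
  obtain ⟨inst, hmon⟩ := Groth.Agent.GrpScheme.SubgroupObj.exists_grpObj j
    (hmul.imp fun z hz => hz.trans (by rw [Hom.mul_def]; congr 1))
    ((hone _).imp fun z hz => hz.trans (by rw [Hom.one_def, toUnit_unique (toUnit _) (𝟙 _), Category.id_comp]))
    (hinv.imp fun z hz => hz.trans (by rw [Hom.inv_def]))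
  exact ⟨T, inst, j, ⟨hmon, ‹Mono j›, fun X g => (hT X g).trans
    ⟨fun h X' x a => ⟨(h X' x).1 a, (h X' x).2 a⟩, fun h X' x => ⟨fun a => (h X' x a).1, fun a => (h X' x a).2⟩⟩⟩,
    hj, hs⟩

end Groth.Agent.S5248
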