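import Groth.Statements.S5249
import Groth.Agent.DiagRig.Transporter
import Groth.Agent.DiagRig.MultBC

set_option autoImplicit false
open CategoryTheory MonoidalCategory CartesianMonoidalCategory MonObj GrpObj AlgebraicGeometry
universe u
open SGA3x Groth.Agent.DiagRig Limits

namespace Groth.Agent.S5249

/-- Let G be an S-group smooth and affine over S, i : H ⟶ G a subgroup scheme of multiplicative type (H
of multiplicative type and of finite type), j : Z ⟶ G the centralizer and k : N ⟶ G the normalizer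
of H in G. Then Z ⟶ G factors through N by a morphism which is an open and closed immersion: the
centralizer is an open and closed subgroup scheme of the normalizer. -/
theorem result {S : Scheme.{u}} (H G Z N : Over S) [GrpObj H] [GrpObj G] [GrpObj Z] [GrpObj N]
    (hH : SGA3x.IsMultTypeFT H) (hG : Smooth G.hom) (hGa : IsAffineHom G.hom) (i : H ⟶ G) [IsMonHom i] [Mono i]
    (j : Z ⟶ G) (k : N ⟶ G) (hj : Red.IsCentralizerOf i j) (hk : Red.IsNormalizerOf i k) :
    ∃ f : Z ⟶ N, f ≫ k = j ∧ IsOpenImmersion f.left ∧ IsClosedImmersion f.left := by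
  have := hG
  have := hGa
  obtain ⟨hjm, hjmono, hjiff⟩ := hj
  obtain ⟨hkm, hkmono, hkiff⟩ := hk
  -- the factorisation
  obtain ⟨f, hf⟩ := (hkiff Z j).mpr fun X' x h => by
    have hc := (hjiff Z j).mp ⟨𝟙 Z, Category.id_comp j⟩ X' x h
    refine ⟨⟨h, ?_⟩, ⟨h, ?_⟩⟩
    · rw [hc]; group
    · rw [_root_.mul_assoc, ← hc]; group
  have : Mono j := hjmono
  have : Mono k := hkmono
  -- closed immersion
  obtain ⟨T, jT, hjT, -, hT⟩ := exists_transporter i i (splitFpqc_of_multTypeFT H hH)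
  have : Mono jT := Over.mono_of_mono_left jT
  have hiff : ∀ (X : Over S) (g : X ⟶ G), (∃ t : X ⟶ T, t ≫ jT = g) ↔ ∃ z : X ⟶ Z, z ≫ j = g := fun X g => by
    rw [hT, hjiff]
    exact forall_congr' fun X' => forall_congr' fun x => forall_congr' fun h => mul_inv_eq_iff_eq_mul
  obtain ⟨a, ha⟩ := (hiff Z j).mpr ⟨𝟙 Z, Category.id_comp j⟩
  obtain ⟨b, hb⟩ := (hiff T jT).mp ⟨𝟙 T, Category.id_comp jT⟩
  let eZ : Z ≅ T := ⟨a, b, by rw [← cancel_mono j, Category.assoc, hb, ha, Category.id_comp],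
    by rw [← cancel_mono jT, Category.assoc, ha, hb, Category.id_comp]⟩
  have hiso : IsIso eZ.hom.left := ((Over.forget S).mapIso eZ).isIso_hom
  have hjc : IsClosedImmersion j.left := by
    rw [show j = eZ.hom ≫ jT from ha.symm, Over.comp_left]
    infer_instance
  have hfc : IsClosedImmersion f.left := by
    have : IsClosedImmersion (f.left ≫ k.left) := by rw [← Over.comp_left, hf]; exact hjc
    exact IsClosedImmersion.of_comp f.left k.left
  have : Mono f := Over.mono_of_mono_left f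
  refine ⟨f, hf, ?_, hfc⟩
  -- the induced endomorphism over N
  let Y0 : Over S := (Over.map N.hom).obj (Red.bc N.hom H)
  let n0 : Y0 ⟶ N := Over.homMk (Red.bc N.hom H).hom
  let a0 : Y0 ⟶ H := bcTr N.hom (𝟙 _)
  obtain ⟨h', hh'⟩ := ((hkiff Y0 (n0 ≫ k)).mp ⟨n0, rfl⟩ Y0 (𝟙 _) a0).1
  rw [Category.id_comp] at hh'
  let c : Red.bc N.hom H ⟶ Red.bc N.hom H := bcUn N.hom h'
  have nY : ∀ Y : Over N.left, ∃ n : (Over.map N.hom).obj Y ⟶ N, n.left = Y.hom := fun Y =>
    ⟨Over.homMk Y.hom, rfl⟩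
  have hc : ∀ (Y : Over N.left) (g : Y ⟶ Red.bc N.hom H) (n : (Over.map N.hom).obj Y ⟶ N), n.left = Y.hom →
      bcTr N.hom (g ≫ c) ≫ i = (n ≫ k) * (bcTr N.hom g ≫ i) * (n ≫ k)⁻¹ := by
    intro Y g n hn
    have e1 : bcTr N.hom (g ≫ c) = (Over.map N.hom).map g ≫ h' := by rw [bcTr_comp, bcTr_bcUn]
    have e2 : (Over.map N.hom).map g ≫ n0 = n := by ext1; exact (Over.w g).trans hn.symm
    have e3 : (Over.map N.hom).map g ≫ a0 = bcTr N.hom g := by rw [← bcTr_comp, Category.comp_id]
    rw [e1, Category.assoc, ← hh', MonObj.comp_mul, MonObj.comp_mul, GrpObj.comp_inv, ← Category.assoc,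
      ← Category.assoc, e2, e3]
  have : IsMonHom c := isMonHom_of_pts c fun Y x y => by
    obtain ⟨n, hn⟩ := nY Y
    refine bcTr_injective N.hom ((cancel_mono i).mp ?_)
    rw [hc Y _ n hn, bcTr_mul, bcTr_mul, MonObj.mul_comp, MonObj.mul_comp, hc Y _ n hn, hc Y _ n hn]
    group
  obtain ⟨U, hU, hUiff, hUpts⟩ := agree_clopen hH hH N.hom c (𝟙 _)
  -- points of U centralise
  let oU : Over.mk (U.ι ≫ N.hom) ⟶ N := Over.homMk U.ι
  have hcomm : ∀ (X' : Over S) (x : X' ⟶ Over.mk (U.ι ≫ N.hom)) (h : X' ⟶ H),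
      (x ≫ oU ≫ k) * (h ≫ i) = (h ≫ i) * (x ≫ oU ≫ k) := by
    intro X' x h
    obtain ⟨n, hn⟩ : ∃ n : X' ⟶ N, x ≫ oU = n := ⟨_, rfl⟩
    rw [← Category.assoc x oU k, hn]
    have hr : Set.range n.left.base ⊆ U := by
      rintro _ ⟨y, rfl⟩
      have h0 : n.left.base y = U.ι.base (x.left.base y) := by rw [← hn]; rfl
      rw [h0]
      exact (Scheme.Opens.range_ι U).le ⟨_, rfl⟩
    let e : (Over.map N.hom).obj (Over.mk n.left) ≅ X' :=
      Over.isoMk (Iso.refl _) ((Category.id_comp _).trans (Over.w n).symm)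
    have h1 := hc (Over.mk n.left) (bcUn N.hom (e.hom ≫ h)) (e.hom ≫ n) (Category.id_comp _)
    rw [hUpts (Over.mk n.left) _ hr, Category.comp_id, bcTr_bcUn, Category.assoc, Category.assoc] at h1
    rw [← GrpObj.comp_inv, ← MonObj.comp_mul, ← MonObj.comp_mul, cancel_epi e.hom] at h1
    exact mul_inv_eq_iff_eq_mul.mp h1.symm
  obtain ⟨tU, htU⟩ := (hjiff _ (oU ≫ k)).mpr hcomm
  have htf : tU ≫ f = (Over.homMk U.ι : Over.mk (U.ι ≫ N.hom) ⟶ N) := by
    rw [← cancel_mono k, Category.assoc, hf, htU]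
  have htf' : tU.left ≫ f.left = U.ι := congrArg CommaMorphism.left htf
  -- the image of Z is in U
  have hZU : Set.range f.left.base ⊆ Set.range U.ι.base := by
    rintro x ⟨z', hz'⟩
    rw [Scheme.Opens.range_ι]
    show x ∈ U
    refine (hUiff x).mpr fun Y g z hz => ?_
    let r := pullback.fst (N.left.fromSpecResidueField x) f.left
    have : Surjective r := ⟨fun p => by
      obtain ⟨w, hw, -⟩ := Scheme.Pullback.exists_preimage_pullback p z'
        (show (N.left.fromSpecResidueField x).base p = f.left.base z' by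
          rw [hz']; exact Scheme.fromSpecResidueField_apply x p)
      exact ⟨w, hw⟩⟩
    have : IsIso r := isIso_of_isClosedImmersion_of_surjective r
    let m : Y.left ⟶ Z.left := z ≫ inv r ≫ pullback.snd _ _
    have hm : m ≫ f.left = Y.hom := by
      rw [Category.assoc, Category.assoc, ← pullback.condition, IsIso.inv_hom_id_assoc, hz]
    let zY : (Over.map N.hom).obj Y ⟶ Z := Over.homMk m (by
      show m ≫ Z.hom = Y.hom ≫ N.hom
      rw [← Over.w f, reassoc_of% hm])
    refine bcTr_injective N.hom ((cancel_mono i).mp ?_)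
    rw [hc Y g (zY ≫ f) hm, Category.assoc, hf, Category.comp_id]
    have h1 := (hjiff _ (zY ≫ j)).mp ⟨zY, rfl⟩ _ (𝟙 _) (bcTr N.hom g)
    rw [Category.id_comp] at h1
    rw [h1, mul_inv_cancel_right]
  let l := IsOpenImmersion.lift U.ι f.left hZU
  have hl : l ≫ U.ι = f.left := IsOpenImmersion.lift_fac _ _ _
  have : IsIso l := ⟨tU.left, by rw [← cancel_mono f.left, Category.assoc, htf', hl, Category.id_comp],
    by rw [← cancel_mono U.ι, Category.assoc, hl, Category.id_comp, htf']⟩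
  rw [← hl]
  infer_instance

end Groth.Agent.S5249
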