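import Groth.Statements.S5251
import Groth.Agent.S5285
import Groth.Agent.MultType.TorusType

set_option autoImplicit false
universe u
open TensorProduct SGA3b
open SGA3b

namespace Groth.Agent.S5251

/-- Let A be a Noetherian ring, separated and complete for the I-adic topology, and H = Spec C an affine
A-group with C flat and of finite type over A, such that every fibre Spec (κ(p) ⊗ C) of H is
connected and the reduction H₀ = Spec ((A/I) ⊗ C) is an isotrivial (A/I)-group of multiplicative
type. Then H is an isotrivial A-group of multiplicative type. (Affine group schemes over an affine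
base are taken in Hopf-algebra form; base change is the tensor product; a homomorphism of groups
Spec A ⟶ Spec C is a bialgebra map C → A.) -/
theorem result (A : Type u) [CommRing A] [IsNoetherianRing A] (I : Ideal A) [IsAdicComplete I A]
    (C : Type u) [CommRing C] [HopfAlgebra A C] [Module.Flat A C] (hft : Algebra.FiniteType A C)
    (hconn : ∀ (p : Ideal A) [p.IsPrime], ConnectedSpace (PrimeSpectrum (p.ResidueField ⊗[A] C)))
    (h0 : IsIsotrivial (A ⧸ I) ((A ⧸ I) ⊗[A] C)) :
    IsIsotrivial A C := by
  classical
  obtain ⟨e, he, _, hHopf, hiso⟩ := Groth.Agent.S5285.result A I C hft (fun q _ _ => inferInstance) h0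
  haveI := hHopf
  have h0e : e = 0 := Groth.Agent.MultType.TorusType.eq_zero_of_connected he
    (Submodule.IsCoideal.counit_eq_zero (I := (Ideal.span {e}).restrictScalars A) (Ideal.subset_span rfl)) hconn
  let π : C →ₐc[A] C ⧸ Ideal.span {e} := Bialgebra.Quotient.mkBialgHom _
  have hπ : Function.Bijective π := by
    refine ⟨fun a b hab => ?_, Ideal.Quotient.mk_surjective⟩
    have h1 : a - b ∈ Ideal.span {e} := Ideal.Quotient.eq.mp hab
    rw [h0e, Ideal.span_singleton_eq_bot.mpr rfl, Ideal.mem_bot, sub_eq_zero] at h1
    exact h1
  have hiC : IsIsotrivial A C :=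
    Groth.Agent.MultType.LiftApps.isIsotrivial_of_equiv (BialgEquiv.ofBijective π hπ).symm hiso
  exact hiC

end Groth.Agent.S5251
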