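import Groth.Statements.S5252
import Groth.Agent.MultType.QIT
import Groth.Agent.MultType.FieldSplit
import Groth.Agent.MultType.Diag
-- import your own Groth.Agent.* helpers here

set_option autoImplicit false
universe u
open TensorProduct SGA3b
open SGA3b

namespace Groth.Agent.S5252

/-- Let A be an Artinian local ring with residue field k and H = Spec C an affine A-group with C flat
and of finite type over A, whose closed fibre Spec (k ⊗ C) is a k-group of multiplicative type. Then
H is of multiplicative type and isotrivial. (Affine group schemes over an affine base are taken in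
Hopf-algebra form; base change is the tensor product; a homomorphism of groups Spec A ⟶ Spec C is a
bialgebra map C → A.) -/
theorem result (A : Type u) [CommRing A] [IsArtinianRing A] [IsLocalRing A]
    (C : Type u) [CommRing C] [HopfAlgebra A C] [Module.Flat A C] (hft : Algebra.FiniteType A C)
    (h0 : IsMultType (IsLocalRing.ResidueField A) (IsLocalRing.ResidueField A ⊗[A] C)) :
    IsMultType A C ∧ IsIsotrivial A C := by
  let k := IsLocalRing.ResidueField A
  haveI : Algebra.FiniteType k (k ⊗[A] C) := inferInstance
  obtain ⟨K, _, _, hfin, hsep, hdiag⟩ := Groth.Agent.MultType.FieldSplit.exists_separable_split h0 inferInstance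
  haveI : Algebra.FormallyEtale k K := Algebra.FormallyEtale.of_isSeparable k K
  haveI : Algebra.FinitePresentation k K := Algebra.FinitePresentation.of_finiteType.mp inferInstance
  haveI : Algebra.Etale k K := ⟨inferInstance, inferInstance⟩
  letI : Algebra A K := ((algebraMap k K).comp (algebraMap A k)).toAlgebra
  haveI : IsScalarTower A k K := IsScalarTower.of_algebraMap_eq fun _ => rfl
  have hs : Function.Surjective (algebraMap A k) := IsLocalRing.residue_surjective
  have hker : RingHom.ker (algebraMap A k) = IsLocalRing.maximalIdeal A := Ideal.mk_ker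
  have hn : IsNilpotent (RingHom.ker (algebraMap A k)) := by
    rw [hker, ← IsLocalRing.jacobson_eq_maximalIdeal (⊥ : Ideal A) bot_ne_top]
    exact IsArtinianRing.isNilpotent_jacobson_bot
  obtain ⟨M, _, _, he⟩ := hdiag
  obtain ⟨A', _, _, φ, hφ, hφker, hA', hA'ff, hdiag'⟩ :=
    Groth.Agent.MultType.QIT.exists_split_lift hs hn K ⟨M, inferInstance, he⟩
  haveI : Module.Finite A A' := by
    haveI : Module.Finite A k := Module.Finite.of_surjective (Algebra.linearMap A k) hs
    haveI : Module.Finite A K := Module.Finite.trans k K
    obtain ⟨t, ht⟩ := (Module.Finite.fg_top : (⊤ : Submodule A K).FG)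
    choose g hg using hφ
    classical
    refine ⟨⟨t.image g, ?_⟩⟩
    refine Groth.Agent.MultType.Deform.span_eq_top hn _ fun a _ => ?_
    have h1 : φ a ∈ Submodule.span A (t : Set K) := ht ▸ Submodule.mem_top
    have h2 : Submodule.span A (t : Set K) ≤
        Submodule.map φ.toLinearMap (Submodule.span A (↑(t.image g) : Set A')) := by
      rw [Submodule.map_span]
      refine Submodule.span_mono fun x hx => ?_
      exact ⟨g x, by simpa using ⟨x, hx, rfl⟩, hg x⟩
    obtain ⟨y, hy, hya⟩ := h2 h1
    rw [← sub_add_cancel a y, add_comm]
    refine Submodule.add_mem_sup hy ?_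
    rw [Ideal.smul_top_eq_map, Submodule.restrictScalars_mem, ← hφker, RingHom.mem_ker, map_sub, sub_eq_zero]
    exact hya.symm
  exact ⟨Groth.Agent.MultType.Diag.isMultType_of_diag A' hdiag', A', inferInstance, inferInstance, hA', inferInstance,
    hA'ff, hdiag'⟩

end Groth.Agent.S5252
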