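import Groth.Statements.S5256
import Groth.Agent.DiagRig.LocApps

set_option autoImplicit false
open CategoryTheory MonoidalCategory CartesianMonoidalCategory MonObj GrpObj AlgebraicGeometry
universe u
open SGA3x

namespace Groth.Agent.S5256

/-- Let u : H ⟶ G be a homomorphism of S-groups, with H of multiplicative type and of finite type and G
of finite presentation over S (locally of finite presentation, quasi-compact and quasi-separated).
If for every s ∈ S the homomorphism u_s : H_s ⟶ G_s induced on the fibres at s is central (every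
point of G_s commutes with the image of every point of H_s), then u is central. -/
theorem result {S : Scheme.{u}} (H G : Over S) [GrpObj H] [GrpObj G]
    (hH : SGA3x.IsMultTypeFT H) [LocallyOfFinitePresentation G.hom] [QuasiCompact G.hom] [QuasiSeparated G.hom]
    (u : H ⟶ G) [IsMonHom u]
    (hfib : ∀ (s : S) (X : Over (Spec (S.residueField s))) (g : X ⟶ Red.bc (S.fromSpecResidueField s) G)
      (h : X ⟶ Red.bc (S.fromSpecResidueField s) H),
      g * (h ≫ (Over.pullback (S.fromSpecResidueField s)).map u) = (h ≫ (Over.pullback (S.fromSpecResidueField s)).map u) * g) :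
    ∀ (X : Over S) (g : X ⟶ G) (h : X ⟶ H), g * (h ≫ u) = (h ≫ u) * g := by
  intro X g h
  have hc := Groth.Agent.DiagRig.trivial_of_fibres (Groth.Agent.DiagRig.biAction u u) hH
    (Groth.Agent.DiagRig.isSeparated_fibre G) (fun s => ?_) X h g
  · rw [Groth.Agent.DiagRig.smul_biAction, mul_inv_eq_iff_eq_mul] at hc
    exact hc.symm
  · intro Y g' y z hz
    obtain ⟨Y₀, π, hπ⟩ := Groth.Agent.DiagRig.exists_over_fibre z hz
    rw [Groth.Agent.DiagRig.smul_biAction, mul_inv_eq_iff_eq_mul]
    symm
    rw [← cancel_epi π, MonObj.comp_mul, MonObj.comp_mul]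
    have h1 := hfib s Y₀ (Groth.Agent.DiagRig.bcUn _ (π ≫ y)) (Groth.Agent.DiagRig.bcUn _ (π ≫ g'))
    have key : Groth.Agent.DiagRig.bcUn _ (π ≫ g') ≫ (Over.pullback (S.fromSpecResidueField s)).map u =
        Groth.Agent.DiagRig.bcUn _ ((π ≫ g') ≫ u) :=
      ((Over.mapPullbackAdj (S.fromSpecResidueField s)).homEquiv_naturality_right _ u).symm
    rw [key, ← Groth.Agent.DiagRig.bcUn_mul, ← Groth.Agent.DiagRig.bcUn_mul] at h1
    simpa only [Groth.Agent.DiagRig.bcTr_bcUn, Category.assoc] using
      congrArg (Groth.Agent.DiagRig.bcTr (S.fromSpecResidueField s)) h1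

end Groth.Agent.S5256
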