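import Groth.Statements.S5261
import Groth.Agent.DiagRig.MultProp
import Groth.Agent.DiagRig.FibreIso
import Groth.Agent.DiagRig.Split

set_option autoImplicit false
open CategoryTheory MonoidalCategory CartesianMonoidalCategory MonObj GrpObj AlgebraicGeometry
universe u
open SGA3x

namespace Groth.Agent.S5261

open Limits Groth.Agent.DiagRig in
/-- A homomorphism with monomorphic fibres out of a group of finite type is a monomorphism. -/
lemma mono_of_fibres {S : Scheme.{u}} (H G : Over S) [GrpObj H] [GrpObj G] [LocallyOfFiniteType H.hom]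
    (u : H ⟶ G) [IsMonHom u]
    (hfib : ∀ s : S, Mono ((Over.pullback (S.fromSpecResidueField s)).map u).left) : Mono u.left := by
  let o₁ : 𝟙_ (Over S) ⟶ G := 1
  have : IsImmersion o₁.left :=
    haveI : IsImmersion (o₁.left ≫ G.hom) := by rw [Over.w o₁]; exact (inferInstance : IsImmersion (𝟙 S))
    IsImmersion.of_comp o₁.left G.hom
  let K : Scheme.{u} := pullback u.left o₁.left
  let KO : Over S := Over.mk (pullback.fst u.left o₁.left ≫ H.hom)
  let kH : KO ⟶ H := Over.homMk (pullback.fst _ _)
  let e : S ⟶ K := pullback.lift (1 : 𝟙_ (Over S) ⟶ H).left (𝟙 S) (by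
    rw [Category.id_comp, ← Over.comp_left, MonObj.one_comp])
  have he : e ≫ KO.hom = 𝟙 S := by
    show e ≫ pullback.fst _ _ ≫ H.hom = _
    rw [pullback.lift_fst_assoc]
    exact Over.w (1 : 𝟙_ (Over S) ⟶ H)
  have : LocallyOfFiniteType KO.hom := inferInstanceAs (LocallyOfFiniteType (pullback.fst u.left o₁.left ≫ H.hom))
  have hker : KO.hom ≫ e = 𝟙 K := by
    refine comp_section_eq_id_of_fibres KO.hom e he fun L _ g X x y z hx hy => ?_
    let s := g.base (IsLocalRing.closedPoint L)
    let φ : S.residueField s ⟶ CommRingCat.of L := ((Scheme.SpecToEquivOfField L S) g).2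
    have hφ : Spec.map φ ≫ S.fromSpecResidueField s = g := (Scheme.SpecToEquivOfField L S).symm_apply_apply g
    let Y : Over (Spec (S.residueField s)) := Over.mk (z ≫ Spec.map φ)
    have hw : ∀ (a : X ⟶ K), a ≫ KO.hom = z ≫ g →
        a ≫ KO.hom = ((Over.map (S.fromSpecResidueField s)).obj Y).hom := fun a ha => by
      rw [ha, ← hφ]; exact (Category.assoc _ _ _).symm
    let x' : (Over.map (S.fromSpecResidueField s)).obj Y ⟶ KO := Over.homMk x (hw x hx)
    let y' : (Over.map (S.fromSpecResidueField s)).obj Y ⟶ KO := Over.homMk y (hw y hy)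
    have hK : ∀ a : (Over.map (S.fromSpecResidueField s)).obj Y ⟶ KO, (a ≫ kH) ≫ u = 1 := by
      intro a
      rw [Category.assoc, show kH ≫ u = toUnit KO ≫ o₁ from ?_, ← Category.assoc, toUnit_unique (a ≫ toUnit KO) (toUnit _)]
      · exact MonObj.comp_one _
      · ext1
        show pullback.fst _ _ ≫ u.left = (toUnit KO).left ≫ o₁.left
        rw [pullback.condition]
        congr 1
        have h1 := Over.w (toUnit KO)
        simp only [show (𝟙_ (Over S)).hom = 𝟙 S from rfl] at h1
        refine Eq.trans ?_ (h1.symm.trans (Category.comp_id _))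
        show pullback.snd u.left o₁.left = pullback.fst u.left o₁.left ≫ H.hom
        calc pullback.snd u.left o₁.left = pullback.snd u.left o₁.left ≫ o₁.left ≫ G.hom := by
              rw [show o₁.left ≫ G.hom = 𝟙 S from Over.w o₁]; exact (Category.comp_id _).symm
          _ = _ := by rw [← Category.assoc, ← pullback.condition, Category.assoc, Over.w u]
    have hxy : x' ≫ kH = y' ≫ kH := by
      have : Mono ((Over.pullback (S.fromSpecResidueField s)).map u) :=
        haveI := hfib s
        Over.mono_of_mono_left _
      have h1 : bcUn _ (x' ≫ kH) ≫ (Over.pullback (S.fromSpecResidueField s)).map u =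
          bcUn _ (y' ≫ kH) ≫ (Over.pullback (S.fromSpecResidueField s)).map u := by
        simp only [bcUn, ← Adjunction.homEquiv_naturality_right, hK]
      rw [cancel_mono] at h1
      simpa [bcTr_bcUn] using congrArg (bcTr (S.fromSpecResidueField s)) h1
    have hm : Mono kH.left := inferInstanceAs (Mono (pullback.fst u.left o₁.left))
    exact (cancel_mono kH.left).mp congr($(hxy).left)
  suffices Mono u from inferInstanceAs (Mono u.left)
  refine ⟨fun {Z} a b hab => ?_⟩
  rw [← mul_inv_eq_one]
  have hd : (a * b⁻¹) ≫ u = 1 := by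
    rw [MonObj.mul_comp, GrpObj.inv_comp, hab, mul_inv_cancel]
  let k : Z.left ⟶ K := pullback.lift (a * b⁻¹).left Z.hom (by
    rw [← Over.comp_left, hd, show (1 : Z ⟶ G) = toUnit Z ≫ o₁ from (MonObj.comp_one _).symm, Over.comp_left]
    rfl)
  have hk : k = k ≫ KO.hom ≫ e := (Category.comp_id k).symm.trans (congrArg (k ≫ ·) hker.symm)
  ext1
  have h2 := congrArg (· ≫ pullback.fst u.left o₁.left) hk
  simp only [k, e, KO, Over.mk_hom, Category.assoc, pullback.lift_fst, pullback.lift_fst_assoc] at h2
  rw [h2, show (1 : Z ⟶ H) = toUnit Z ≫ (1 : 𝟙_ (Over S) ⟶ H) from (MonObj.comp_one _).symm, Over.comp_left]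
  rw [← Category.assoc, Over.w]
  rfl

/-- Let u : H ⟶ G be a homomorphism of S-groups, with H of multiplicative type and of finite type, and
suppose S locally Noetherian or G locally of finite presentation over S. If for every s ∈ S the
homomorphism u_s : H_s ⟶ G_s induced on the fibres at s is a monomorphism, then u is a monomorphism. -/
theorem result {S : Scheme.{u}} (H G : Over S) [GrpObj H] [GrpObj G]
    (hH : SGA3x.IsMultTypeFT H) (hG : IsLocallyNoetherian S ∨ LocallyOfFinitePresentation G.hom)
    (u : H ⟶ G) [IsMonHom u]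
    (hfib : ∀ s : S, Mono ((Over.pullback (S.fromSpecResidueField s)).map u).left) :
    Mono u.left := by
  have := Groth.Agent.DiagRig.multType_locallyOfFiniteType H hH
  exact mono_of_fibres H G u hfib

end Groth.Agent.S5261
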