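import Groth.Statements.S5263
import Groth.Agent.HomSch.HomGrp
import Groth.Agent.DiagRig.HomFinEt
-- import your own Groth.Agent.* helpers here

set_option autoImplicit false
open CategoryTheory MonoidalCategory CartesianMonoidalCategory MonObj GrpObj AlgebraicGeometry
universe u
open SGA3x

namespace Groth.Agent.S5263

set_option backward.isDefEq.respectTransparency.types false in
/-- Let G and H be S-groups of multiplicative type which are finite over S. Then the functor of group
homomorphisms from G to H is representable by an S-scheme which is finite and etale over S (with its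
universal family of homomorphisms). -/
theorem result {S : Scheme.{u}} (G H : Over S) [GrpObj G] [GrpObj H]
    (hG : SGA3x.IsMultTypeFT G) [IsFinite G.hom] (hH : SGA3x.IsMultTypeFT H) [IsFinite H.hom] :
    ∃ (A : Over S) (υ : G ⊗ A ⟶ H), AutFam.RepresentsHom G H A υ ∧ IsFinite A.hom ∧ Etale A.hom := by
  open Groth.Agent.DiagRig in
  have := Groth.Agent.DiagRig.multType_flat G hG
  have := Groth.Agent.DiagRig.multType_locallyOfFinitePresentation G hG
  have hp := Groth.Agent.DiagRig.multType_locallyOfFinitePresentation H hH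
  obtain ⟨A, υ, hυ, hA, -, hA2⟩ := Groth.Agent.HomSch.exists_homGrpScheme G H
  have := hA2 hp
  have key : ∀ W : S.affineOpens, ∃ (κ : Type u) (_ : Finite κ) (T : κ → CommRingCat.{u}) (t : ∀ k, Γ(S, W) ⟶ T k),
      (∀ k, Flat (Spec.map (t k))) ∧ (∀ z, ∃ k q, (Spec.map (t k)).base q = z) ∧
        ∀ k, IsFinite (Limits.pullback.snd A.hom (Spec.map (t k) ≫ W.2.fromSpec)) ∧
          Etale (Limits.pullback.snd A.hom (Spec.map (t k) ≫ W.2.fromSpec)) := by
    intro W
    obtain ⟨κ, hκ, T, t, hf, hs, hP⟩ := exists_common_fpqc (splitFpqc_of_multTypeFT G hG) (splitFpqc_of_multTypeFT H hH) W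
    refine ⟨κ, hκ, T, t, hf, hs, fun k => ?_⟩
    obtain ⟨M, M', _, _, P, P', hPi, hPi'⟩ := hP k
    exact finite_etale_hom_chart hυ _ P hPi P' hPi'
  refine ⟨A, υ, hυ, ?_, ?_⟩
  · haveI := Groth.Agent.FpqcDesc.descendsAlong_isFinite.{u}
    exact prop_of_charts @IsFinite A.hom fun W => by
      obtain ⟨κ, hκ, T, t, hf, hs, h⟩ := key W
      exact ⟨κ, hκ, T, t, hf, hs, fun k => (h k).1⟩
  · exact prop_of_charts @Etale A.hom fun W => by
      obtain ⟨κ, hκ, T, t, hf, hs, h⟩ := key W
      exact ⟨κ, hκ, T, t, hf, hs, fun k => (h k).2⟩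

end Groth.Agent.S5263
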