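import Groth.Statements.S5266
import Groth.Agent.DiagRig.FpqcLocal
import Groth.Agent.TwCLib.Etale
-- import your own Groth.Agent.* helpers here

set_option autoImplicit false
open CategoryTheory MonoidalCategory CartesianMonoidalCategory MonObj GrpObj AlgebraicGeometry
universe u
open SGA3x
open CategoryTheory.Limits

namespace Groth.Agent.S5266

/-- A quasi-compact closed subscheme of a disjoint union of copies of an affine scheme is finite over it. -/
theorem finite_const (V : Scheme.{u}) [IsAffine V] (I : Type u) {Z P : Scheme.{u}} (p : P ⟶ V)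
    (e : I → (V ⟶ P)) [∀ i, IsOpenImmersion (e i)] (hsec : ∀ i, e i ≫ p = 𝟙 V)
    (hdisj : ∀ i k x y, (e i).base x = (e k).base y → i = k) (hcov : ∀ x, ∃ i, x ∈ Set.range (e i).base)
    (z : Z ⟶ P) [IsClosedImmersion z] [QuasiCompact (z ≫ p)] :
    IsFinite (z ≫ p) := by
  classical
  have : CompactSpace Z := QuasiCompact.compactSpace_of_compactSpace (z ≫ p)
  obtain ⟨F, hF⟩ := isCompact_univ.elim_finite_subcover (fun i : I => z.base ⁻¹' Set.range (e i).base)
    (fun i => (e i).isOpenEmbedding.isOpen_range.preimage z.base.hom.continuous)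
    (fun x _ => Set.mem_iUnion.mpr (by
      exact hcov (z.base x)))
  let j : (∐ fun i : F => V : Scheme.{u}) ⟶ P :=
    Limits.Sigma.desc fun i : F => e i.1
  let w : (∐ fun i : F => V : Scheme.{u}) ⟶ V := Limits.Sigma.desc fun _ : F => 𝟙 V
  have hjw : j ≫ p = w := Limits.Sigma.hom_ext _ _ fun i => by simp [j, w, hsec]
  have : IsOpenImmersion j := by
    refine isOpenImmersion_sigmaDesc _ _ fun a b hab => ?_
    show Disjoint (Set.range (e a.1).base) (Set.range (e b.1).base)
    rw [Set.disjoint_iff_forall_ne]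
    rintro _ ⟨x, rfl⟩ _ ⟨y, rfl⟩ h
    exact hab (Subtype.ext (hdisj _ _ _ _ h))
  have hr : Set.range z.base ⊆ Set.range j.base := by
    rintro _ ⟨x, rfl⟩
    obtain ⟨i, hi, s, hs⟩ := Set.mem_iUnion₂.mp (hF (Set.mem_univ x))
    refine ⟨(Limits.Sigma.ι (fun _ : F => V) ⟨i, hi⟩).base s, ?_⟩
    rw [← Scheme.Hom.comp_apply, Limits.Sigma.ι_desc]
    exact hs
  have hfac := IsOpenImmersion.lift_fac j z hr
  set l := IsOpenImmersion.lift j z hr
  have : IsClosedImmersion (l ≫ j) := hfac ▸ inferInstance
  have : IsClosedImmersion l := IsClosedImmersion.of_comp l j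
  have : IsFinite w := by
    have := TwCLib.isSeparated_constHom V F
    have := TwCLib.etale_constHom V F
    have : IsAffineHom w := isAffineHom_of_isAffine w
    have : UniversallyClosed w := TwCLib.universallyClosed_of_jointlySurjective
      (fun i : F => Limits.Sigma.ι (fun _ : F => V) i) w
      (fun x => let ⟨i, s, hs⟩ := TwCLib.exists_ι_eq V F x; ⟨i, s, hs⟩)
      (fun i => by simp [w]; infer_instance)
    have : IsProper w := {}
    exact IsFinite.iff_isProper_and_isAffineHom.mpr ⟨inferInstance, inferInstance⟩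
  rw [← hfac, Category.assoc, hjw]
  infer_instance

set_option backward.isDefEq.respectTransparency.types false in
/-- Let R be a twisted constant S-scheme (fpqc-locally on S isomorphic to a constant scheme, the index
set being allowed to vary) and Z a closed subscheme of R which is quasi-compact over S. Then Z is
finite over S. -/
theorem result {S : Scheme.{u}} (R : Over S) (hR : TwC.IsTwConst TwC.Topology.fpqc R)
    {Z : Scheme.{u}} (z : Z ⟶ R.left) [IsClosedImmersion z] [QuasiCompact (z ≫ R.hom)] :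
    IsFinite (z ≫ R.hom) := by
  have : MorphismProperty.DescendsAlong (@IsFinite : MorphismProperty Scheme.{u}) (@Surjective ⊓ @Flat ⊓ @QuasiCompact) :=
    Groth.Agent.FpqcDesc.descendsAlong_isFinite
  obtain ⟨S', f, hf, hsurj, hcov, hloc⟩ := hR
  refine DiagRig.of_fpqc_locally @IsFinite _ f hcov fun s' => ?_
  obtain ⟨U, hU, I, ⟨e⟩⟩ := hloc s'
  obtain ⟨(V : S'.Opens), hV, hsV, hVU⟩ := (TopologicalSpace.Opens.isBasis_iff_nbhd.mp S'.isBasis_affineOpens) hU
  refine ⟨V, hsV, ?_⟩
  have : IsAffine V := hV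
  let h : (V : Scheme.{u}) ⟶ U := S'.homOfLE hVU
  let g : (V : Scheme.{u}) ⟶ S := V.ι ≫ f
  have hg : h ≫ U.ι ≫ f = g := by
    simp [h, g]
  let m : pullback R.hom g ⟶ pullback R.hom (U.ι ≫ f) :=
    pullback.lift (pullback.fst _ _) (pullback.snd _ _ ≫ h) (by rw [Category.assoc, hg]; exact pullback.condition)
  have hm : IsPullback m (pullback.snd R.hom g) (pullback.snd R.hom (U.ι ≫ f)) h :=
    IsPullback.of_right (by
      rw [hg, show m ≫ pullback.fst R.hom (U.ι ≫ f) = pullback.fst R.hom g from pullback.lift_fst _ _ _]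
      exact IsPullback.of_hasPullback R.hom g) (pullback.lift_snd _ _ _) (IsPullback.of_hasPullback _ _)
  have : IsOpenImmersion m := MorphismProperty.of_isPullback hm.flip (inferInstanceAs (IsOpenImmersion h))
  let ei : I → ((V : Scheme.{u}) ⟶ pullback R.hom (U.ι ≫ f)) := fun i =>
    h ≫ Limits.Sigma.ι (fun _ : I => (U : Scheme.{u})) i ≫ e.inv.left
  have hei : ∀ i, ei i ≫ pullback.snd R.hom (U.ι ≫ f) = 𝟙 _ ≫ h := fun i => by
    have h1 : e.inv.left ≫ pullback.snd R.hom (U.ι ≫ f) = (TwC.const (U : Scheme.{u}) I).hom :=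
      CategoryTheory.Over.w e.inv
    simp [ei, h1]
  let s : I → ((V : Scheme.{u}) ⟶ pullback R.hom g) := fun i => hm.lift (ei i) (𝟙 _) (hei i)
  have hsm : ∀ i, s i ≫ m = ei i := fun i => hm.lift_fst _ _ _
  have : ∀ i, IsOpenImmersion (s i) := fun i => by
    have : IsIso e.inv.left := inferInstance
    have : IsOpenImmersion (s i ≫ m) := by rw [hsm]; infer_instance
    exact IsOpenImmersion.of_comp (s i) m
  let q := (pullbackRightPullbackFstIso R.hom g z)
  have hq : q.inv ≫ pullback.snd z (pullback.fst R.hom g) ≫ pullback.snd R.hom g = pullback.snd (z ≫ R.hom) g := by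
    simp [q]
  have : QuasiCompact (pullback.snd z (pullback.fst R.hom g) ≫ pullback.snd R.hom g) := by
    rw [← MorphismProperty.cancel_left_of_respectsIso (P := @QuasiCompact) q.inv, hq]
    infer_instance
  rw [← hq, MorphismProperty.cancel_left_of_respectsIso (P := @IsFinite)]
  have hinj : Function.Injective e.inv.left.base :=
    (CategoryTheory.asIso e.inv.left).schemeIsoToHomeo.injective
  refine finite_const V I (pullback.snd R.hom g) s (fun i => hm.lift_snd _ _ _) ?_ ?_ _
  · intro i k x y hxy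
    have h1 : (ei i).base x = (ei k).base y := by
      rw [← hsm, ← hsm, Scheme.Hom.comp_apply, Scheme.Hom.comp_apply, hxy]
    simp only [ei, Scheme.Hom.comp_apply] at h1
    exact congrArg Sigma.fst ((sigmaι_eq_iff _ _ _ _ _).mp (hinj h1))
  · intro x
    obtain ⟨i, a, ha⟩ := TwCLib.exists_ι_eq (U : Scheme.{u}) I (e.hom.left.base (m.base x))
    refine ⟨i, (pullback.snd R.hom g).base x, m.isOpenEmbedding.injective ?_⟩
    rw [← Scheme.Hom.comp_apply, hsm]
    have h2 : a = h.base ((pullback.snd R.hom g).base x) := by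
      have h3 := congrArg (TwC.const (U : Scheme.{u}) I).hom.base ha
      have h4 : e.hom.left ≫ (TwC.const (U : Scheme.{u}) I).hom = pullback.snd R.hom (U.ι ≫ f) :=
        CategoryTheory.Over.w e.hom
      rw [← Scheme.Hom.comp_apply, ← Scheme.Hom.comp_apply, ← Scheme.Hom.comp_apply] at h3
      rw [show Limits.Sigma.ι (fun _ : I => (U : Scheme.{u})) i ≫ (TwC.const (U : Scheme.{u}) I).hom = 𝟙 _ from
        Limits.Sigma.ι_desc _ _, h4, hm.w] at h3
      exact h3
    simp only [ei, Scheme.Hom.comp_apply, ← h2, ha]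
    rw [← Scheme.Hom.comp_apply, ← Over.comp_left, e.hom_inv_id]
    rfl

end Groth.Agent.S5266
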