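import Groth.Statements.S5270
import Groth.Agent.MultType.Rigid
import Mathlib.RingTheory.AdicCompletion.Noetherian

set_option autoImplicit false
universe u
open TensorProduct SGA3b
open SGA3b

namespace Groth.Agent.S5270

/-- Injectivity of the map to formal homomorphisms. Let A be a Noetherian ring, separated and complete
for the I-adic topology, H = Spec B an isotrivial A-group of multiplicative type and G = Spec C an
affine A-group. If two homomorphisms H ⟶ G, given by bialgebra maps φ, ψ : C → B, have the same
reduction modulo I^(n+1) for every n ≥ 0, then φ = ψ. (Affine group schemes over an affine base are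
taken in Hopf-algebra form; base change is the tensor product; a homomorphism of groups Spec A ⟶
Spec C is a bialgebra map C → A.) -/
theorem result (A : Type u) [CommRing A] [IsNoetherianRing A] (I : Ideal A) [IsAdicComplete I A]
    (B : Type u) [CommRing B] [HopfAlgebra A B] (hH : IsIsotrivial A B)
    (C : Type u) [CommRing C] [HopfAlgebra A C] (φ ψ : C →ₐc[A] B)
    (h : ∀ (n : ℕ) (c : C), (1 : A ⧸ I ^ (n + 1)) ⊗ₜ[A] (φ c) = (1 : A ⧸ I ^ (n + 1)) ⊗ₜ[A] (ψ c)) :
    φ = ψ := by
  obtain ⟨T, _, _, _, _, _, M, _, ⟨e⟩⟩ := hH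
  apply BialgHom.coe_toAlgHom_injective
  apply AlgHom.ext
  intro c
  apply Module.FaithfullyFlat.tensorProduct_mk_injective (A := A) (B := T) B
  change (1 : T) ⊗ₜ[A] φ c = 1 ⊗ₜ[A] ψ c
  apply e.injective
  rcases subsingleton_or_nontrivial A with hA | hA
  · have : Subsingleton B := Module.subsingleton A B
    rw [Subsingleton.elim (φ c) (ψ c)]
  obtain ⟨m, hm⟩ := Ideal.exists_maximal A
  obtain ⟨q, hq⟩ := PrimeSpectrum.comap_surjective_of_faithfullyFlat (B := T) ⟨m, hm.isPrime⟩
  let S : Groth.Agent.MultType.Split.SplitAt A B ⟨m, hm.isPrime⟩ :=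
    { T := T, q := q, comap_q := hq, M := M, equiv := e }
  have : IsHausdorff I T := IsHausdorff.of_le_jacobson I (M := T) (IsAdicComplete.le_jacobson_bot I)
  ext k
  rw [← sub_eq_zero]
  refine IsHausdorff.haus this _ fun n => ?_
  rw [SModEq.zero, Ideal.smul_top_eq_map, Submodule.restrictScalars_mem]
  cases n with
  | zero => simp [Ideal.map_top]
  | succ n =>
    exact Groth.Agent.MultType.Split.push_sub_mem S
      (fun c => Groth.Agent.MultType.Rigid.sub_mem_map_of_tmul_eq (h n c)) ((1 : T) ⊗ₜ c) k

end Groth.Agent.S5270
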