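import Groth.Statements.S5278
import Mathlib.AlgebraicGeometry.Morphisms.QuasiFinite
import Mathlib.AlgebraicGeometry.Morphisms.FlatDescent
-- import your own Groth.Agent.* helpers here

set_option autoImplicit false
open CategoryTheory AlgebraicGeometry
universe u
open SGA3x

namespace Groth.Agent.S5278

/-- Let X be a connected scheme, f : X' ⟶ X a finite etale morphism and x a point of X. Then every
connected component of X' meets the fibre of f over x; equivalently the map from the connected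
components of the fibre (or of the geometric fibre) to those of X' is surjective. -/
theorem result {X X' : Scheme.{u}} [ConnectedSpace X] (f : X' ⟶ X)
    [IsFinite f] [Etale f] (x : X) (c : X') :
    ∃ x' : X', f.base x' = x ∧ x' ∈ connectedComponent c := by
  classical
  have hfin := f.finite_preimage_singleton x
  let P : Set X' → Prop := fun C => IsClopen C ∧ c ∈ C
  obtain ⟨n, ⟨C, hC, hn⟩, hmin⟩ : ∃ n, (∃ C, P C ∧ (C ∩ f.base ⁻¹' {x}).ncard = n) ∧
      ∀ m, (∃ C, P C ∧ (C ∩ f.base ⁻¹' {x}).ncard = m) → n ≤ m := by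
    have h : ∃ n, ∃ C, P C ∧ (C ∩ f.base ⁻¹' {x}).ncard = n := ⟨_, Set.univ, ⟨isClopen_univ, trivial⟩, rfl⟩
    exact ⟨Nat.find h, Nat.find_spec h, fun m hm => Nat.find_min' h hm⟩
  have meets : ∀ D : Set X', IsClopen D → D.Nonempty → ∃ y ∈ D, f.base y = x := fun D hD hne => by
    have himg : IsClopen (f.base '' D) := ⟨f.isClosedMap _ hD.1, f.isOpenMap _ hD.2⟩
    have := himg.eq_univ (hne.image _)
    exact this.ge (Set.mem_univ x)
  obtain ⟨y, hy, hyx⟩ := meets C hC.1 ⟨c, hC.2⟩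
  refine ⟨y, hyx, ?_⟩
  have hpre : _root_.IsPreconnected C := isPreconnected_iff_subset_of_disjoint.mpr fun A B hA hB hAB hd => by
    by_contra h
    push Not at h
    obtain ⟨⟨a, haC, haA⟩, ⟨b, hbC, hbB⟩⟩ := Set.not_subset.mp h.1, Set.not_subset.mp h.2
    have key : ∀ A B : Set X', IsOpen A → IsOpen B → C ⊆ A ∪ B → C ∩ (A ∩ B) = ∅ → c ∈ A → (∃ b ∈ C, b ∉ A) → False := by
      intro A B hA hB hAB hd hcA hb
      have hD : IsClopen (C ∩ A) := by
        refine ⟨?_, hC.1.2.inter hA⟩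
        have e : C ∩ A = C ∩ Bᶜ := by
          ext z
          exact ⟨fun ⟨h1, h2⟩ => ⟨h1, fun h3 => (hd.le ⟨h1, h2, h3⟩ : z ∈ (∅ : Set X'))⟩,
            fun ⟨h1, h2⟩ => ⟨h1, (hAB h1).resolve_right h2⟩⟩
        rw [e]
        exact hC.1.1.inter hB.isClosed_compl
      have hE : IsClopen (C \ (C ∩ A)) := hC.1.diff hD
      obtain ⟨z, hz, hzx⟩ := meets _ hE (by obtain ⟨b, hbC, hbA⟩ := hb; exact ⟨b, hbC, fun h => hbA h.2⟩)
      have hlt : ((C ∩ A) ∩ f.base ⁻¹' {x}).ncard < n := hn ▸ Set.ncard_lt_ncard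
        ⟨fun w hw => ⟨hw.1.1, hw.2⟩, fun hsub => hz.2 ((hsub ⟨hz.1, hzx⟩).1)⟩ (hfin.subset Set.inter_subset_right)
      exact absurd (hmin _ ⟨_, ⟨hD, hC.2, hcA⟩, rfl⟩) (Nat.not_le.mpr hlt)
    rcases hAB hC.2 with hc | hc
    · exact key A B hA hB hAB hd hc ⟨a, haC, haA⟩
    · exact key B A hB hA (Set.union_comm A B ▸ hAB) (Set.inter_comm A B ▸ hd) hc ⟨b, hbC, hbB⟩
  exact hpre.subset_connectedComponent hC.2 hy


end Groth.Agent.S5278
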