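import Groth.Statements.S5283
import Groth.Agent.DiagRig.MonoLocus.Closed

set_option autoImplicit false
open CategoryTheory MonoidalCategory CartesianMonoidalCategory MonObj GrpObj AlgebraicGeometry
universe u
open SGA3x

namespace Groth.Agent.S5283

/-- Let X be an S-group which is smooth and of finite presentation over S with connected fibres, Y an
S-group of finite presentation over S and i : Y ⟶ X a homomorphism which is a monomorphism. Then the
functor on S-schemes whose value at S' ⟶ S is a point when X ×_S S' ⟶ X factors through Y and empty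
otherwise is representable by a closed subscheme of S whose immersion is of finite presentation. -/
theorem result {S : Scheme.{u}} (X Y : Over S) [GrpObj X] [GrpObj Y]
    [Smooth X.hom] [QuasiCompact X.hom] [QuasiSeparated X.hom]
    (hconn : ∀ s : S, ConnectedSpace ↥(Limits.pullback X.hom (S.fromSpecResidueField s)))
    [LocallyOfFinitePresentation Y.hom] [QuasiCompact Y.hom] [QuasiSeparated Y.hom]
    (i : Y ⟶ X) [IsMonHom i] [Mono i] :
    ∃ (T : Scheme.{u}) (t : T ⟶ S), IsClosedImmersion t ∧ LocallyOfFinitePresentation t ∧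
      ∀ (S' : Scheme.{u}) (g : S' ⟶ S), (∃ g' : S' ⟶ T, g' ≫ t = g) ↔
        ∃ l : Limits.pullback X.hom g ⟶ Y.left, l ≫ i.left = Limits.pullback.fst X.hom g := by
  have : LocallyOfFinitePresentation i.left := by
    have : LocallyOfFinitePresentation (i.left ≫ X.hom) := by rw [Over.w i]; infer_instance
    exact Groth.Agent.GrpScheme.FlatFib.locallyOfFinitePresentation_of_comp i.left X.hom
  obtain ⟨T, t, ht, hlfp, hT⟩ := Groth.Agent.DiagRig.MonoLocus.exists_closed_forall
    (snd (𝟙_ (Over S)) X) i hconn ⟨1, by rw [lift_snd, MonObj.one_comp]⟩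
    fun Z x a b ⟨κ, hκ⟩ ⟨κ', hκ'⟩ => ⟨κ * κ', by
      rw [lift_snd] at hκ hκ' ⊢
      rw [MonObj.mul_comp, hκ, hκ']⟩
  have hr : ∀ {Z : Over S} (z : Z ⟶ 𝟙_ (Over S)), z.left = Z.hom := fun z =>
    (Category.comp_id _).symm.trans (Over.w z)
  refine ⟨T.left, T.hom, ?_, ?_, fun S' g => ?_⟩
  · rw [← hr t]; exact ht
  · rw [← hr t]; exact hlfp
  have key := hT (Over.mk g) (toUnit _)
  have e1 : (∃ g' : S' ⟶ T.left, g' ≫ T.hom = g) ↔ ∃ x : Over.mk g ⟶ T, x ≫ t = toUnit _ :=
    ⟨fun ⟨g', hg'⟩ => ⟨Over.homMk g' hg', toUnit_unique _ _⟩, fun ⟨x, _⟩ => ⟨x.left, Over.w x⟩⟩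
  rw [e1, key]
  refine ⟨fun h => ?_, fun ⟨l, hl⟩ X' x a => ?_⟩
  · let P : Over S := Over.mk (Limits.pullback.fst X.hom g ≫ X.hom)
    obtain ⟨κ, hκ⟩ := h P (Over.homMk (Limits.pullback.snd X.hom g) Limits.pullback.condition.symm)
      (Over.homMk (Limits.pullback.fst X.hom g) rfl)
    rw [lift_snd] at hκ
    exact ⟨κ.left, congrArg CommaMorphism.left hκ⟩
  · have e : a.left ≫ X.hom = x.left ≫ g := (Over.w a).trans (Over.w x).symm
    have h1 : (Limits.pullback.lift a.left x.left e ≫ l) ≫ i.left = a.left := by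
      rw [Category.assoc, hl, Limits.pullback.lift_fst]
    refine ⟨Over.homMk (Limits.pullback.lift a.left x.left e ≫ l) (by rw [← Over.w i, ← Category.assoc, h1, Over.w a]), ?_⟩
    rw [lift_snd]
    exact Over.OverMorphism.ext h1

end Groth.Agent.S5283
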