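import Groth.Statements.S5284
import Groth.Agent.DiagRig.FreeAction
-- import your own Groth.Agent.* helpers here

set_option autoImplicit false
open CategoryTheory MonoidalCategory CartesianMonoidalCategory MonObj GrpObj AlgebraicGeometry
universe u
open SGA3x

namespace Groth.Agent.S5284

/-- Let G be an S-group of multiplicative type (fpqc-locally on S isomorphic, as a group, to
diagonalisable groups D(M), M allowed to vary and taken in Type 0) acting on an S-scheme X which is
affine over S, the action being free (a point g of G fixing a point x of X is the unit). Then the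
graph morphism G ×_S X ⟶ X ×_S X, (g, x) ↦ (g·x, x), is a closed immersion; and for every section σ
of X over S the orbit morphism G ⟶ X, g ↦ g·σ, is a closed immersion. -/
theorem result {S : Scheme.{u}} (G X : Over S) [GrpObj G]
    (hG : TwC.Locally S TwC.Topology.fpqc (fun S' f => ∃ (M : Type) (_ : AddCommGroup M), Nonempty (Grp.mk (Red.bc f G) ≅ Grp.mk (Red.DS S' M)))) (hX : IsAffineHom X.hom) (a : AlgGrp.Action G X)
    (hfree : ∀ (Y : Over S) (g : Y ⟶ G) (x : Y ⟶ X), lift g x ≫ a.act = x → g = 1) :
    IsClosedImmersion (lift a.act (snd G X)).left ∧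
      ∀ σ : 𝟙_ (Over S) ⟶ X, IsClosedImmersion (a.orbitMap σ).left := by
  open Groth.Agent.DiagRig in
  obtain ⟨S', f, hf, hsurj, hcov, hloc⟩ := hG
  have := hX
  have := hf
  have hgr : IsClosedImmersion (lift a.act (snd G X)).left :=
    Groth.Agent.DiagRig.isClosedImmersion_graph a (Groth.Agent.DiagRig.splitFpqc_of_cover G f hcov hloc) hfree
  refine ⟨hgr, fun σ => ?_⟩
  let j : G ⟶ G ⊗ X := lift (𝟙 G) (toUnit G ≫ σ)
  have : IsSeparated X.hom := inferInstance
  have : IsSeparated (fst G X).left := inferInstanceAs (IsSeparated (CategoryTheory.Limits.pullback.fst G.hom X.hom))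
  have hj : IsClosedImmersion j.left := by
    have e : j.left ≫ (fst G X).left = 𝟙 _ := by
      rw [← Over.comp_left, lift_fst]; rfl
    have : IsClosedImmersion (j.left ≫ (fst G X).left) := by rw [e]; infer_instance
    exact IsClosedImmersion.of_comp j.left (fst G X).left
  let k : X ⟶ X ⊗ X := lift (𝟙 X) (toUnit X ≫ σ)
  have : IsSeparated (fst X X).left := inferInstanceAs (IsSeparated (CategoryTheory.Limits.pullback.fst X.hom X.hom))
  have hk : IsSeparated k.left := by
    have e : k.left ≫ (fst X X).left = 𝟙 _ := by
      rw [← Over.comp_left, lift_fst]; rfl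
    have : IsSeparated (k.left ≫ (fst X X).left) := by rw [e]; infer_instance
    exact IsSeparated.of_comp k.left (fst X X).left
  have e : (a.orbitMap σ).left ≫ k.left = j.left ≫ (lift a.act (snd G X)).left := by
    rw [← Over.comp_left, ← Over.comp_left]
    congr 1
    apply CartesianMonoidalCategory.hom_ext <;> simp [j, k, AlgGrp.Action.orbitMap]
  have : IsClosedImmersion ((a.orbitMap σ).left ≫ k.left) := by rw [e]; infer_instance
  exact IsClosedImmersion.of_comp (a.orbitMap σ).left k.left

end Groth.Agent.S5284
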