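import Groth.Statements.S5286
import Groth.Agent.DiagRig.TrivialLocus

set_option autoImplicit false
open CategoryTheory MonoidalCategory CartesianMonoidalCategory MonObj GrpObj AlgebraicGeometry
universe u
open SGA3x Groth.Agent.DiagRig

namespace Groth.Agent.S5286

/-- Let u : H ⟶ G be a homomorphism of S-groups, with H of multiplicative type and of finite type and G
separated over S; suppose S locally Noetherian or G of finite presentation over S. Then the set U of
points s ∈ S such that u_s : H_s ⟶ G_s is the unit homomorphism is open and closed in S, and the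
homomorphism H|_U ⟶ G|_U induced above U is the unit homomorphism. -/
theorem result {S : Scheme.{u}} (H G : Over S) [GrpObj H] [GrpObj G]
    (hH : SGA3x.IsMultTypeFT H) [IsSeparated G.hom]
    (hG : IsLocallyNoetherian S ∨ (LocallyOfFinitePresentation G.hom ∧ QuasiCompact G.hom ∧ QuasiSeparated G.hom))
    (u : H ⟶ G) [IsMonHom u] :
    ∃ U : S.Opens, IsClosed (U : Set S) ∧
      (∀ s : S, s ∈ U ↔ (Over.pullback (S.fromSpecResidueField s)).map u = 1) ∧
      (Over.pullback U.ι).map u = 1 := by
  obtain ⟨U, hU, hiff, hone⟩ := trivial_locus u hH (hG.imp id And.left)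
  refine ⟨U, hU, fun s => (hiff s).trans (map_eq_one_iff u s).symm, ?_⟩
  have h := hone _ (bcTr U.ι (𝟙 (Red.bc U.ι H))) (by
    rintro _ ⟨x, rfl⟩
    exact ((Red.bc U.ι H).hom.base x).2)
  have h1 : bcUn U.ι (1 : (Over.map U.ι).obj (Red.bc U.ι H) ⟶ G) = 1 := by
    have h2 := bcUn_mul U.ι (1 : (Over.map U.ι).obj (Red.bc U.ι H) ⟶ G) 1
    rw [_root_.mul_one] at h2
    exact mul_eq_left.mp h2.symm
  have h3 := congrArg (bcUn U.ι) h
  rw [h1, show bcUn U.ι (bcTr U.ι (𝟙 (Red.bc U.ι H)) ≫ u) =
      bcUn U.ι (bcTr U.ι (𝟙 _)) ≫ (Over.pullback U.ι).map u from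
    (Over.mapPullbackAdj U.ι).homEquiv_naturality_right _ u, bcUn_bcTr, Category.id_comp] at h3
  exact h3

end Groth.Agent.S5286
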