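import Groth.Statements.S5288
import Groth.Agent.MultType.HenselHom

set_option autoImplicit false
universe u
open TensorProduct SGA3b
open SGA3b

namespace Groth.Agent.S5288

/-- Let A be a henselian Noetherian local ring with maximal ideal 𝔪, residue field k and completion A';
let G = Spec B be an A-group of multiplicative type and of finite type, and H = Spec C an affine
A-group with C of finite type over A, flat over A at the points of the closed fibre (C localised at
any prime containing 𝔪C is flat over A), whose closed fibre Spec (k ⊗ C) is a k-group of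
multiplicative type. Then base change to A' is a bijection from homomorphisms of A-groups G ⟶ H
(bialgebra maps C → B) to homomorphisms of A'-groups G' ⟶ H': two bialgebra maps C → B with the same
base change are equal, and every bialgebra map A' ⊗ C → A' ⊗ B over A' is a base change. (The
published statement allows H locally of finite type and separated over A, not necessarily affine;
this row takes H affine.) (Affine group schemes over an affine base are taken in Hopf-algebra form;
base change is the tensor product; a homomorphism of groups Spec A ⟶ Spec C is a bialgebra map C →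
A.) -/
theorem result (A : Type u) [CommRing A] [IsNoetherianRing A] [HenselianLocalRing A]
    (B : Type u) [CommRing B] [HopfAlgebra A B] (hGft : Algebra.FiniteType A B) (hG : IsMultType A B)
    (C : Type u) [CommRing C] [HopfAlgebra A C] (hHft : Algebra.FiniteType A C)
    (hfl : ∀ (q : Ideal C) [q.IsPrime], Ideal.map (algebraMap A C) (IsLocalRing.maximalIdeal A) ≤ q → Module.Flat A (Localization.AtPrime q))
    (hs : IsMultType (IsLocalRing.ResidueField A) (IsLocalRing.ResidueField A ⊗[A] C)) :
    (∀ φ ψ : C →ₐc[A] B, (∀ c : C, (1 : AdicCompletion (IsLocalRing.maximalIdeal A) A) ⊗ₜ[A] (φ c) = (1 : AdicCompletion (IsLocalRing.maximalIdeal A) A) ⊗ₜ[A] (ψ c)) → φ = ψ) ∧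
    (∀ φ' : (AdicCompletion (IsLocalRing.maximalIdeal A) A ⊗[A] C) →ₐc[AdicCompletion (IsLocalRing.maximalIdeal A) A] (AdicCompletion (IsLocalRing.maximalIdeal A) A ⊗[A] B),
      ∃ φ : C →ₐc[A] B, ∀ c : C, φ' ((1 : AdicCompletion (IsLocalRing.maximalIdeal A) A) ⊗ₜ[A] c) = (1 : AdicCompletion (IsLocalRing.maximalIdeal A) A) ⊗ₜ[A] (φ c)) := by
  let m := IsLocalRing.maximalIdeal A
  haveI : IsNoetherianRing (AdicCompletion m A) :=
    Groth.Agent.RegLoc.Completion.isNoetherianRing_adicCompletion' _
  haveI : IsLocalHom (algebraMap A (AdicCompletion m A)) := inferInstance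
  haveI : Module.FaithfullyFlat A (AdicCompletion m A) := Module.FaithfullyFlat.of_flat_of_isLocalHom
  refine ⟨fun φ ψ h => ?_, fun φ' => ?_⟩
  · apply DFunLike.ext
    exact fun c => Module.FaithfullyFlat.tensorProduct_mk_injective (A := A) (B := AdicCompletion m A) B (h c)
  · exact Groth.Agent.MultType.HenselHom.exists_bialgHom hG hGft hHft hfl hs (AdicCompletion m A)
      AdicCompletion.maximalIdeal_eq_map (AdicCompletion.evalOneₐ m) φ'

end Groth.Agent.S5288
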