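import Groth.Statements.S5289
import Groth.Agent.DiagRig.RigidConj

set_option autoImplicit false
open CategoryTheory MonoidalCategory CartesianMonoidalCategory MonObj GrpObj AlgebraicGeometry
universe u
open SGA3x Groth.Agent.DiagRig

namespace Groth.Agent.S5289

/-- Let S = Spec R be affine, J an ideal of R with J² = 0 and S₀ = Spec (R/J); let G be an arbitrary
S-group and i : H ⟶ G, i' : H' ⟶ G two sub-group-schemes (homomorphisms which are immersions) of
multiplicative type (fpqc-locally on S isomorphic, as groups, to diagonalisable groups D(M), M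
allowed to vary and taken in Type 0), such that H ×_S S₀ and H' ×_S S₀ coincide as subgroups of G
×_S S₀. Then there is an S-point g of G whose restriction to S₀ is the unit and which conjugates H
onto H': int(g) ∘ i factors through i' by an isomorphism H ≅ H'. -/
theorem result {R : Type u} [CommRing R] (J : Ideal R) (hJ : J ^ 2 = ⊥)
    (G H H' : Over (Spec (CommRingCat.of R))) [GrpObj G] [GrpObj H] [GrpObj H']
    (hH : TwC.Locally (Spec (CommRingCat.of R)) TwC.Topology.fpqc (fun S' f => ∃ (M : Type) (_ : AddCommGroup M), Nonempty (Grp.mk (Red.bc f H) ≅ Grp.mk (Red.DS S' M))))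
    (hH' : TwC.Locally (Spec (CommRingCat.of R)) TwC.Topology.fpqc (fun S' f => ∃ (M : Type) (_ : AddCommGroup M), Nonempty (Grp.mk (Red.bc f H') ≅ Grp.mk (Red.DS S' M))))
    (i : H ⟶ G) [IsMonHom i] [IsImmersion i.left] (i' : H' ⟶ G) [IsMonHom i'] [IsImmersion i'.left]
    (h0 : ∃ ψ : Red.bc (Spec.map (CommRingCat.ofHom (Ideal.Quotient.mk J))) H ≅ Red.bc (Spec.map (CommRingCat.ofHom (Ideal.Quotient.mk J))) H',
      ψ.hom ≫ (Over.pullback (Spec.map (CommRingCat.ofHom (Ideal.Quotient.mk J)))).map i' = (Over.pullback (Spec.map (CommRingCat.ofHom (Ideal.Quotient.mk J)))).map i) :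
    ∃ g : 𝟙_ (Over (Spec (CommRingCat.of R))) ⟶ G, toUnit (Over.mk (Spec.map (CommRingCat.ofHom (Ideal.Quotient.mk J))) : Over (Spec (CommRingCat.of R))) ≫ g = 1 ∧ SGA3x.ConjBy i i' g := by
  haveI : Mono i := Over.mono_of_mono_left i
  haveI : Mono i' := Over.mono_of_mono_left i'
  obtain ⟨ψ, hψ⟩ := h0
  let q := Spec.map (CommRingCat.ofHom (Ideal.Quotient.mk J))
  have hψ' : ψ.inv ≫ (Over.pullback q).map i = (Over.pullback q).map i' := by rw [← hψ, Iso.inv_hom_id_assoc]
  obtain ⟨φ, hφm, hφ⟩ := exists_iso_lift (R := CommRingCat.of R) J ⟨2, hJ⟩ (splitLoc_of_locally hH) (splitLoc_of_locally hH') i i'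
    (fun X x hX => le_of_iso i i' (j := q) ψ.hom hψ X x hX) (fun X x hX => le_of_iso i' i (j := q) ψ.inv hψ' X x hX)
  obtain ⟨S', f, hf, hsurj, hc, hloc⟩ := splitLoc_of_locally hH
  obtain ⟨g, hg1, hg⟩ := exists_conj_of_congr (G := G) (H := H) f hc hloc (by rw [← pow_two]; exact hJ)
    i (φ.hom ≫ i') (fun T _ _ hT x => (hφ _ x ⟨Spec.map (CommRingCat.ofHom (Ideal.Quotient.lift J (algebraMap R T) hT)),
      by rw [← Spec.map_comp]; rfl⟩).symm)
  refine ⟨g, hg1, φ, ?_⟩
  simpa using (hg H (𝟙 H)).symm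

end Groth.Agent.S5289
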