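import Groth.Statements.S5291
import Groth.Agent.MultType.Conj
-- import your own Groth.Agent.* helpers here

set_option autoImplicit false
universe u
open TensorProduct SGA3b
open SGA3b

namespace Groth.Agent.S5291

/-- Let R be a ring, I a nilpotent ideal of R, u : H₁ ⟶ H₂ a homomorphism of R-groups of multiplicative
type (H₁ = Spec A₁, H₂ = Spec A₂, u given by the bialgebra map α : A₂ → A₁), G = Spec C an affine
R-group with C smooth over R, v : H₁ ⟶ G a homomorphism (bialgebra map β : C → A₁) and w₀ : H₂,₀ ⟶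
G₀ a homomorphism over R/I (bialgebra map γ₀ : C₀ → A₂,₀) with w₀ ∘ u₀ = v₀ (the reduction of α
composed with γ₀ is the reduction of β). Then there is a homomorphism w : H₂ ⟶ G (bialgebra map γ :
C → A₂) lifting w₀ with w ∘ u = v, i.e. α ∘ γ = β. (The published statement says that the map of
homomorphism functors w ↦ w ∘ u is formally smooth, for any smooth S-group G; this row states the
lifting property this means over an affine base, for G affine.) (Affine group schemes over an affine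
base are taken in Hopf-algebra form; base change is the tensor product; a homomorphism of groups
Spec A ⟶ Spec C is a bialgebra map C → A.) -/
theorem result (R : Type u) [CommRing R] (I : Ideal R) (hI : IsNilpotent I)
    (A₁ : Type u) [CommRing A₁] [HopfAlgebra R A₁] (h₁ : IsMultType R A₁)
    (A₂ : Type u) [CommRing A₂] [HopfAlgebra R A₂] (h₂ : IsMultType R A₂) (α : A₂ →ₐc[R] A₁)
    (C : Type u) [CommRing C] [HopfAlgebra R C] [Algebra.Smooth R C] (β : C →ₐc[R] A₁)
    (γ₀ : ((R ⧸ I) ⊗[R] C) →ₐc[R ⧸ I] ((R ⧸ I) ⊗[R] A₂))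
    (h0 : ∀ c : C, Algebra.TensorProduct.map (AlgHom.id (R ⧸ I) (R ⧸ I)) (α : A₂ →ₐ[R] A₁) (γ₀ ((1 : R ⧸ I) ⊗ₜ[R] c)) =
      (1 : R ⧸ I) ⊗ₜ[R] (β c)) :
    ∃ γ : C →ₐc[R] A₂, (∀ c : C, γ₀ ((1 : R ⧸ I) ⊗ₜ[R] c) = (1 : R ⧸ I) ⊗ₜ[R] (γ c)) ∧ ∀ c : C, α (γ c) = β c := by
  obtain ⟨l₁, hl₁⟩ := Groth.Agent.MultType.Integral.exists_isIntegral h₁
  obtain ⟨l₂, hl₂⟩ := Groth.Agent.MultType.Integral.exists_isIntegral h₂
  have hs : Function.Surjective (algebraMap R (R ⧸ I)) := Ideal.Quotient.mk_surjective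
  have hker : RingHom.ker (algebraMap R (R ⧸ I)) = I := Ideal.mk_ker
  obtain ⟨γ₁, hγ₁⟩ := Groth.Agent.MultType.Lift.exists_lift hs (hker.symm ▸ hI) hl₂ γ₀
  have hcong : ∀ c, β c - (α.comp γ₁) c ∈ Ideal.map (algebraMap R A₁) I := fun c => by
    have h1 := h0 c
    rw [hγ₁, Algebra.TensorProduct.map_tmul] at h1
    have h2 := (Groth.Agent.MultType.Lift.red_eq_iff hs).mp h1.symm
    rw [hker] at h2
    exact h2
  obtain ⟨E, hE, hEeq⟩ := Groth.Agent.MultType.Conj.exists_conj hI hl₁ (α.comp γ₁) β hcong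
  let γ := Groth.Agent.MultType.Lift.toHom
    (Groth.Agent.MultType.Conj.conj E (WithConv.toConv (γ₁ : C →ₐ[R] A₂)))
    (Groth.Agent.MultType.Conj.conj_isHom E (Groth.Agent.MultType.Lift.hom_eq γ₁))
  refine ⟨γ, fun c => ?_, fun c => ?_⟩
  · rw [hγ₁]
    refine ((Groth.Agent.MultType.Lift.red_eq_iff hs).mpr ?_).symm
    rw [hker]
    exact Groth.Agent.MultType.Conj.conj_cong hE _ c
  · have h2 := Groth.Agent.MultType.Conj.postHom_conj (α : A₂ →ₐ[R] A₁) E (WithConv.toConv (γ₁ : C →ₐ[R] A₂))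
    exact (AlgHom.congr_fun (congrArg WithConv.ofConv h2) c).trans
      (AlgHom.congr_fun (congrArg WithConv.ofConv hEeq) c).symm

end Groth.Agent.S5291
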