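import Groth.Statements.S5294
import Groth.Agent.DiagRig.RigidConj

set_option autoImplicit false
open CategoryTheory MonoidalCategory CartesianMonoidalCategory MonObj GrpObj AlgebraicGeometry
universe u
open SGA3x Groth.Agent.DiagRig

namespace Groth.Agent.S5294

/-- Let S = Spec R be affine, J a nilpotent ideal of R and S₀ = Spec (R/J); let G be an S-group smooth
over S, i : H ⟶ G and i' : H' ⟶ G two sub-group-schemes (homomorphisms which are immersions) of
multiplicative type (fpqc-locally on S isomorphic, as groups, to diagonalisable groups D(M), M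
allowed to vary and taken in Type 0), and g₀ an S₀-valued point of G with int(g₀)(H₀) = H'₀: for
points over S₀-schemes, conjugation by g₀ carries the points of H onto the points of H'. Then g₀
lifts to an S-point g of G with int(g)(H) = H' (int(g) ∘ i factors through i' by an isomorphism). -/
theorem result {R : Type u} [CommRing R] (J : Ideal R) (hJ : IsNilpotent J)
    (G H H' : Over (Spec (CommRingCat.of R))) [GrpObj G] [GrpObj H] [GrpObj H'] (hG : Smooth G.hom)
    (hH : TwC.Locally (Spec (CommRingCat.of R)) TwC.Topology.fpqc (fun S' f => ∃ (M : Type) (_ : AddCommGroup M), Nonempty (Grp.mk (Red.bc f H) ≅ Grp.mk (Red.DS S' M))))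
    (hH' : TwC.Locally (Spec (CommRingCat.of R)) TwC.Topology.fpqc (fun S' f => ∃ (M : Type) (_ : AddCommGroup M), Nonempty (Grp.mk (Red.bc f H') ≅ Grp.mk (Red.DS S' M))))
    (i : H ⟶ G) [IsMonHom i] [IsImmersion i.left] (i' : H' ⟶ G) [IsMonHom i'] [IsImmersion i'.left]
    (g₀ : (Over.mk (Spec.map (CommRingCat.ofHom (Ideal.Quotient.mk J))) : Over (Spec (CommRingCat.of R))) ⟶ G)
    (h0 : ∀ (X : Over (Spec (CommRingCat.of R))) (p : X ⟶ (Over.mk (Spec.map (CommRingCat.ofHom (Ideal.Quotient.mk J))) : Over (Spec (CommRingCat.of R)))),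
      (∀ h : X ⟶ H, ∃ h' : X ⟶ H', (p ≫ g₀) * (h ≫ i) * (p ≫ g₀)⁻¹ = h' ≫ i') ∧
      (∀ h' : X ⟶ H', ∃ h : X ⟶ H, (p ≫ g₀)⁻¹ * (h' ≫ i') * (p ≫ g₀) = h ≫ i)) :
    ∃ g : 𝟙_ (Over (Spec (CommRingCat.of R))) ⟶ G, toUnit (Over.mk (Spec.map (CommRingCat.ofHom (Ideal.Quotient.mk J))) : Over (Spec (CommRingCat.of R))) ≫ g = g₀ ∧ SGA3x.ConjBy i i' g := by
  haveI : Mono i := Over.mono_of_mono_left i
  haveI : Mono i' := Over.mono_of_mono_left i'
  obtain ⟨m, hm⟩ := id hJ
  have := hG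
  obtain ⟨l, hl, hlf⟩ := exists_lift_nilpotent G.hom m R J (by rw [pow_succ, hm, zero_mul]; rfl) (𝟙 _) g₀.left (by
    rw [Category.comp_id]; exact (Over.w g₀).symm)
  let g₁ : 𝟙_ (Over (Spec (CommRingCat.of R))) ⟶ G := Over.homMk l hlf
  let S₀ : Over (Spec (CommRingCat.of R)) := Over.mk (Spec.map (CommRingCat.ofHom (Ideal.Quotient.mk J)))
  have hS : toUnit S₀ ≫ g₁ = g₀ := by ext1; exact hl
  haveI : IsMonHom (conjHom i g₁) := isMonHom_conjHom i g₁
  haveI : Mono (conjHom i g₁) := mono_conjHom i g₁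
  obtain ⟨φ, hφm, hφ⟩ := exists_iso_lift J hJ (splitLoc_of_locally hH) (splitLoc_of_locally hH') (conjHom i g₁) i'
    (fun X x ⟨w, hw⟩ => by
      obtain ⟨h', h⟩ := (h0 X (Over.homMk w hw)).1 x
      refine ⟨h', ?_⟩
      rw [← h, comp_conjHom, ← hS, ← Category.assoc, comp_toUnit])
    (fun X x ⟨w, hw⟩ => by
      obtain ⟨h', h⟩ := (h0 X (Over.homMk w hw)).2 x
      refine ⟨h', ?_⟩
      rw [comp_conjHom, ← h, ← hS, ← Category.assoc, comp_toUnit]
      group)
  obtain ⟨g, hg1, hg⟩ := exists_conj_lift J hJ H G (splitLoc_of_locally hH) hG i (φ.hom ≫ i') g₀ fun X p h => by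
    rw [hφ X h ⟨p.left, Over.w p⟩, comp_conjHom, ← hS, ← Category.assoc, comp_toUnit]
  refine ⟨g, hg1, φ, ?_⟩
  simpa using (hg H (𝟙 H)).symm

end Groth.Agent.S5294
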