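import Groth.Statements.S5295
import Groth.Agent.DiagRig.FieldCentral

set_option autoImplicit false
open CategoryTheory MonoidalCategory CartesianMonoidalCategory MonObj GrpObj AlgebraicGeometry
universe u
open SGA3x

namespace Groth.Agent.S5295

open Limits Groth.Agent.DiagRig in
/-- Centrality on a fibre is centrality for points over it. -/
lemma fibre_comm {S : Scheme.{u}} {H G : Over S} [GrpObj H] [GrpObj G] (u : H ⟶ G) [IsMonHom u] (s : S)
    (hs : ∀ (X : Over (Spec (S.residueField s))) (g : X ⟶ Red.bc (S.fromSpecResidueField s) G)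
      (h : X ⟶ Red.bc (S.fromSpecResidueField s) H),
      g * (h ≫ (Over.pullback (S.fromSpecResidueField s)).map u) = (h ≫ (Over.pullback (S.fromSpecResidueField s)).map u) * g)
    (Y : Over S) (h : Y ⟶ H) (y : Y ⟶ G) (z : Y.left ⟶ Spec (S.residueField s))
    (hz : z ≫ S.fromSpecResidueField s = Y.hom) : (h ≫ u) * y = y * (h ≫ u) := by
  obtain ⟨Y₀, π, hπ⟩ := exists_over_fibre z hz
  symm
  rw [← cancel_epi π, MonObj.comp_mul, MonObj.comp_mul]
  have h1 := hs Y₀ (bcUn _ (π ≫ y)) (bcUn _ (π ≫ h))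
  have key : bcUn _ (π ≫ h) ≫ (Over.pullback (S.fromSpecResidueField s)).map u = bcUn _ ((π ≫ h) ≫ u) :=
    ((Over.mapPullbackAdj (S.fromSpecResidueField s)).homEquiv_naturality_right _ u).symm
  rw [key, ← bcUn_mul, ← bcUn_mul] at h1
  simpa only [bcTr_bcUn, Category.assoc] using congrArg (bcTr (S.fromSpecResidueField s)) h1

/-- Let u : H ⟶ G be a homomorphism of S-groups, with H of multiplicative type and of finite type and G
of finite presentation over S (locally of finite presentation, quasi-compact, quasi-separated) with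
connected fibres, and let s ∈ S be a point such that u_s : H_s ⟶ G_s is central. Then there is an
open neighbourhood U of s such that the homomorphism H|_U ⟶ G|_U induced by u is central: for every
S-scheme X lying over U, every X-point of G commutes with the image of every X-point of H. -/
theorem result {S : Scheme.{u}} (H G : Over S) [GrpObj H] [GrpObj G]
    (hH : SGA3x.IsMultTypeFT H) [LocallyOfFinitePresentation G.hom] [QuasiCompact G.hom] [QuasiSeparated G.hom]
    (hconn : ∀ t : S, ConnectedSpace ↥(Limits.pullback G.hom (S.fromSpecResidueField t)))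
    (u : H ⟶ G) [IsMonHom u] (s : S)
    (hs : ∀ (X : Over (Spec (S.residueField s))) (g : X ⟶ Red.bc (S.fromSpecResidueField s) G)
      (h : X ⟶ Red.bc (S.fromSpecResidueField s) H),
      g * (h ≫ (Over.pullback (S.fromSpecResidueField s)).map u) = (h ≫ (Over.pullback (S.fromSpecResidueField s)).map u) * g) :
    ∃ U : S.Opens, s ∈ U ∧ ∀ (X : Over S) (q : X ⟶ Over.mk U.ι) (g : X ⟶ G) (h : X ⟶ H),
      g * (h ≫ u) = (h ≫ u) * g := by
  obtain ⟨O, hO, hO'⟩ := Groth.Agent.DiagRig.exists_open_of_fibre (Groth.Agent.DiagRig.biAction u u) hH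
    (Groth.Agent.DiagRig.isSeparated_fibre G) s (fun Y h y z hz => by
      rw [Groth.Agent.DiagRig.smul_biAction, mul_inv_eq_iff_eq_mul]
      exact fibre_comm u s hs Y h y z hz)
  let e : S ⟶ G.left := (1 : 𝟙_ (Over S) ⟶ G).left
  have he : e ≫ G.hom = 𝟙 S := Over.w (1 : 𝟙_ (Over S) ⟶ G)
  have hes : ∀ t, G.hom.base (e.base t) = t := fun t => by rw [← Scheme.Hom.comp_apply, he]; rfl
  refine ⟨e ⁻¹ᵁ O, hO _ (hes s), fun X q g h => ?_⟩
  -- the fibres over the open are central
  have hfib : ∀ t ∈ e ⁻¹ᵁ O, Groth.Agent.DiagRig.FibreTriv (Groth.Agent.DiagRig.biAction u u) t := by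
    intro t ht Y h y z hz
    let k := S.fromSpecResidueField t
    let Gt : Over (Spec (CommRingCat.of (S.residueField t))) := Red.bc k G
    let Ht : Over (Spec (CommRingCat.of (S.residueField t))) := Red.bc k H
    let ut : Ht ⟶ Gt := (Over.pullback k).map u
    have : IsMonHom ut := inferInstanceAs (IsMonHom ((Over.pullback k).map u))
    have : LocallyOfFiniteType Gt.hom := inferInstanceAs (LocallyOfFiniteType (Limits.pullback.snd G.hom k))
    have := hconn t
    have : ConnectedSpace Gt.left := hconn t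
    have : IrreducibleSpace Gt.left := by
      have h1 := Groth.Agent.GrpScheme.IdComponent.connectedComponent_eq Gt
      rw [PreconnectedSpace.connectedComponent_eq_univ] at h1
      rw [irreducibleSpace_def, Set.top_eq_univ, h1]
      exact isIrreducible_irreducibleComponent
    let W : Gt.left.Opens := (Limits.pullback.fst G.hom k) ⁻¹ᵁ O
    obtain ⟨q₀, hq₀, -⟩ := Scheme.Pullback.exists_preimage_pullback (f := G.hom) (g := k) (e.base t)
      (IsLocalRing.closedPoint _) ((hes t).trans (Scheme.fromSpecResidueField_apply t _).symm)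
    have hη : genericPoint Gt.left ∈ W := ((genericPoint_spec Gt.left).mem_open_set_iff W.isOpen).mpr
      ⟨q₀, Set.mem_univ _, show (Limits.pullback.fst G.hom k).base q₀ ∈ O by rw [hq₀]; exact ht⟩
    have hcent := Groth.Agent.DiagRig.central_of_open ut W hη (fun Y₀ y₀ h₀ hy₀ => by
      have h1 := hO' _ (Groth.Agent.DiagRig.bcTr k h₀) (Groth.Agent.DiagRig.bcTr k y₀) (by
        rintro _ ⟨w, rfl⟩
        rw [Groth.Agent.DiagRig.bcTr_left, Scheme.Hom.comp_apply]
        exact hy₀ ⟨w, rfl⟩)
      rw [Groth.Agent.DiagRig.smul_biAction, mul_inv_eq_iff_eq_mul] at h1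
      have key : Groth.Agent.DiagRig.bcTr k (h₀ ≫ ut) = Groth.Agent.DiagRig.bcTr k h₀ ≫ u :=
        (Over.mapPullbackAdj k).homEquiv_naturality_right_symm h₀ u
      rw [← key, ← Groth.Agent.DiagRig.bcTr_mul, ← Groth.Agent.DiagRig.bcTr_mul] at h1
      simpa only [Groth.Agent.DiagRig.bcUn_bcTr] using congrArg (Groth.Agent.DiagRig.bcUn k) h1)
    rw [Groth.Agent.DiagRig.smul_biAction, mul_inv_eq_iff_eq_mul]
    exact fibre_comm u t (fun X₀ g₀ h₀ => (hcent X₀ g₀ h₀).symm) Y h y z hz
  -- spread out to the open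
  symm
  ext1
  refine Groth.Agent.DiagRig.hom_ext_of_forall _ _ fun w => ?_
  have hw : G.hom.base (g.left.base w) ∈ e ⁻¹ᵁ O := by
    rw [← Scheme.Hom.comp_apply, Over.w g, ← Over.w q, Scheme.Hom.comp_apply]
    exact (q.left.base w).2
  have hlft : LocallyOfFiniteType G.hom := inferInstance
  obtain ⟨O₂, hO₂, hO₂'⟩ := Groth.Agent.DiagRig.exists_open_of_fibre (Groth.Agent.DiagRig.biAction u u) hH
    (Groth.Agent.DiagRig.isSeparated_fibre G) _ (hfib _ hw)
  let U := g.left ⁻¹ᵁ O₂
  refine ⟨U, hO₂ _ rfl, ?_⟩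
  let j : Over.mk (U.ι ≫ X.hom) ⟶ X := Over.homMk U.ι
  have h1 := hO₂' _ (j ≫ h) (j ≫ g) (by rintro _ ⟨z, rfl⟩; exact z.2)
  rw [Groth.Agent.DiagRig.smul_biAction, mul_inv_eq_iff_eq_mul, Category.assoc, ← MonObj.comp_mul,
    ← MonObj.comp_mul] at h1
  exact congr($(h1).left)

end Groth.Agent.S5295
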