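import Groth.Statements.S5297
import Groth.Agent.DiagRig.HomLiftNil
import Groth.Agent.DiagRig.MultProp

set_option autoImplicit false
open CategoryTheory MonoidalCategory CartesianMonoidalCategory MonObj GrpObj AlgebraicGeometry
universe u
open SGA3x

namespace Groth.Agent.S5297

open Groth.Agent.DiagRig CategoryTheory.Limits

set_option linter.style.haveILetI false

/-- A homomorphism congruent to one with values in `K` which lifts. -/
theorem exists_hom_into {R : Type u} [CommRing R] (J : Ideal R) (hJ : IsNilpotent J)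
    {G K H : Over (Spec (CommRingCat.of R))} [GrpObj G] [GrpObj K] [GrpObj H] [IsAffine H.left]
    (k : K ⟶ G) [IsMonHom k] [Mono k]
    (hK : Smooth K.hom ∨ SplitLoc (R := CommRingCat.of R) K) (hH : SplitLoc (R := CommRingCat.of R) H)
    (u : H ⟶ G) [IsMonHom u]
    (h0 : ∀ (X : Over (Spec (CommRingCat.of R))) (x : X ⟶ H), OverJ (R := CommRingCat.of R) J X →
      ∃ y : X ⟶ K, y ≫ k = x ≫ u) :
    ∃ φ : H ⟶ K, IsMonHom φ ∧ ∀ (X : Over (Spec (CommRingCat.of R))) (x : X ⟶ H),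
      OverJ (R := CommRingCat.of R) J X → x ≫ φ ≫ k = x ≫ u := by
  rcases hK with hK | hK
  · let q : Spec (CommRingCat.of (R ⧸ J)) ⟶ Spec (CommRingCat.of R) :=
      Spec.map (CommRingCat.ofHom (Ideal.Quotient.mk J))
    obtain ⟨y₀, hy₀⟩ := h0 ((Over.map q).obj (Red.bc q H)) (bcTr q (𝟙 _)) ⟨(Red.bc q H).hom, rfl⟩
    let v₀ : Red.bc q H ⟶ Red.bc q K := bcUn q y₀
    have hv : ∀ {Y : Over (Spec (CommRingCat.of (R ⧸ J)))} (a : Y ⟶ Red.bc q H),
        bcTr q (a ≫ v₀) ≫ k = bcTr q a ≫ u := fun a => by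
      rw [bcTr_comp, bcTr_bcUn, Category.assoc, hy₀, ← Category.assoc, ← bcTr_comp, Category.comp_id]
    have : IsMonHom v₀ := isMonHom_of_pts v₀ fun Y a b => bcTr_injective q (by
      rw [← cancel_mono k, hv, bcTr_mul, bcTr_mul, MonObj.mul_comp _ _ u, MonObj.mul_comp _ _ k, hv, hv])
    obtain ⟨φ, hφ, hφq⟩ := exists_hom_lift_smooth J hJ hH hK v₀
    refine ⟨φ, hφ, fun X x ⟨w, hw⟩ => ?_⟩
    let i : (Over.map q).obj (Over.mk w) ≅ X := Over.isoMk (Iso.refl _) ((Category.id_comp _).trans hw.symm)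
    have h := hv (bcUn q (i.hom ≫ x))
    rw [← hφq, bcTr_map, bcTr_bcUn] at h
    simp only [Category.assoc, cancel_epi] at h
    exact h
  · exact exists_hom_lift (R := CommRingCat.of R) J hJ hH hK u k fun X x hX => h0 X x hX


/-- In the lifting form that formal smoothness of the transporter means. Let S = Spec R be affine, J a
nilpotent ideal of R and S₀ = Spec (R/J); let G be an S-group smooth over S, k : K ⟶ G a
sub-group-scheme (a homomorphism which is an immersion) with K smooth over S or of multiplicative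
type, H an S-group of multiplicative type (fpqc-locally on S isomorphic, as a group, to
diagonalisable groups D(M), M allowed to vary and taken in Type 0), u : H ⟶ G a homomorphism, and g₀
an S₀-valued point of G such that int(g₀) ∘ u takes the points of H defined over S₀-schemes into K.
Then g₀ lifts to an S-point g of G such that int(g) ∘ u factors through K on all points. -/
theorem result {R : Type u} [CommRing R] (J : Ideal R) (hJ : IsNilpotent J)
    (G K H : Over (Spec (CommRingCat.of R))) [GrpObj G] [GrpObj K] [GrpObj H] (hG : Smooth G.hom)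
    (k : K ⟶ G) [IsMonHom k] [IsImmersion k.left]
    (hK : Smooth K.hom ∨ TwC.Locally (Spec (CommRingCat.of R)) TwC.Topology.fpqc (fun S' f => ∃ (M : Type) (_ : AddCommGroup M), Nonempty (Grp.mk (Red.bc f K) ≅ Grp.mk (Red.DS S' M))))
    (hH : TwC.Locally (Spec (CommRingCat.of R)) TwC.Topology.fpqc (fun S' f => ∃ (M : Type) (_ : AddCommGroup M), Nonempty (Grp.mk (Red.bc f H) ≅ Grp.mk (Red.DS S' M))))
    (u : H ⟶ G) [IsMonHom u] (g₀ : (Over.mk (Spec.map (CommRingCat.ofHom (Ideal.Quotient.mk J))) : Over (Spec (CommRingCat.of R))) ⟶ G)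
    (h0 : ∀ (X : Over (Spec (CommRingCat.of R))) (p : X ⟶ (Over.mk (Spec.map (CommRingCat.ofHom (Ideal.Quotient.mk J))) : Over (Spec (CommRingCat.of R)))) (h : X ⟶ H),
      ∃ x : X ⟶ K, (p ≫ g₀) * (h ≫ u) * (p ≫ g₀)⁻¹ = x ≫ k) :
    ∃ g : 𝟙_ (Over (Spec (CommRingCat.of R))) ⟶ G, toUnit (Over.mk (Spec.map (CommRingCat.ofHom (Ideal.Quotient.mk J))) : Over (Spec (CommRingCat.of R))) ≫ g = g₀ ∧
      ∀ (X : Over (Spec (CommRingCat.of R))) (h : X ⟶ H), ∃ x : X ⟶ K, (toUnit X ≫ g) * (h ≫ u) * (toUnit X ≫ g)⁻¹ = x ≫ k := by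
  have hHs : SplitLoc (R := CommRingCat.of R) H := splitLoc_of_locally hH
  have := isAffineHom_of_locally H hH
  have : IsAffine H.left := isAffine_of_isAffineHom H.hom
  have : Mono k := Over.mono_of_mono_left k
  have hK' : Smooth K.hom ∨ SplitLoc (R := CommRingCat.of R) K := hK.imp id splitLoc_of_locally
  let S₀ : Over (Spec (CommRingCat.of R)) := Over.mk (Spec.map (CommRingCat.ofHom (Ideal.Quotient.mk J)))
  obtain ⟨m, hm⟩ := id hJ
  obtain ⟨l, hl, hlf⟩ := exists_lift_nilpotent G.hom m R J (by rw [pow_succ, hm, zero_mul]; rfl) (𝟙 _) g₀.left (by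
    rw [Category.comp_id]; exact (Over.w g₀).symm)
  let g₁ : 𝟙_ (Over (Spec (CommRingCat.of R))) ⟶ G := Over.homMk l hlf
  have hS : toUnit S₀ ≫ g₁ = g₀ := by ext1; exact hl
  have : IsMonHom (conjHom u g₁) := isMonHom_conjHom u g₁
  obtain ⟨φ, hφ, hφk⟩ := exists_hom_into J hJ k hK' hHs (conjHom u g₁) (fun X x ⟨w, hw⟩ => by
    obtain ⟨y, hy⟩ := h0 X (Over.homMk w hw) x
    refine ⟨y, ?_⟩
    rw [← hy, comp_conjHom, ← hS, ← Category.assoc, comp_toUnit])
  have : IsMonHom (φ ≫ k) := inferInstance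
  obtain ⟨g₂, hg₂, hg⟩ := exists_conj_lift J hJ H G hHs hG (conjHom u g₁) (φ ≫ k) 1 (fun X p h => by
    rw [MonObj.comp_one, _root_.one_mul, inv_one, _root_.mul_one]
    exact hφk X h ⟨p.left, Over.w p⟩)
  refine ⟨g₂ * g₁, ?_, fun X h => ⟨h ≫ φ, ?_⟩⟩
  · rw [MonObj.comp_mul, hg₂, _root_.one_mul, hS]
  · rw [Category.assoc, hg, comp_conjHom, MonObj.comp_mul]
    group

end Groth.Agent.S5297
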