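import Groth.Statements.S5304
import Groth.Agent.DiagRig.AgreeLocus

set_option autoImplicit false
open CategoryTheory MonoidalCategory CartesianMonoidalCategory MonObj GrpObj AlgebraicGeometry
universe u
open SGA3x Groth.Agent.DiagRig

namespace Groth.Agent.S5304

lemma lfp_pullback_fst {S : Scheme.{u}} {Z G : Over S} [GrpObj G] [LocallyOfFiniteType Z.hom] [IsSeparated G.hom]
    (hG : IsLocallyNoetherian S ∨ LocallyOfFinitePresentation G.hom) (w : Z ⟶ G) :
    LocallyOfFinitePresentation (Limits.pullback.fst w.left (1 : 𝟙_ (Over S) ⟶ G).left) := by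
  have : LocallyOfFiniteType (1 : 𝟙_ (Over S) ⟶ G).left := inferInstance
  rcases hG with h | h
  · have : IsLocallyNoetherian Z.left := LocallyOfFiniteType.isLocallyNoetherian Z.hom
    exact LocallyOfFinitePresentation.iff_locallyOfFiniteType.mpr inferInstance
  · have : LocallyOfFinitePresentation ((1 : 𝟙_ (Over S) ⟶ G).left ≫ G.hom) := by
      rw [Over.w (1 : 𝟙_ (Over S) ⟶ G)]; exact (inferInstance : LocallyOfFinitePresentation (𝟙 S))
    have : LocallyOfFinitePresentation (1 : 𝟙_ (Over S) ⟶ G).left :=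
      MorphismProperty.of_postcomp (W' := @LocallyOfFiniteType) @LocallyOfFinitePresentation
        (1 : 𝟙_ (Over S) ⟶ G).left G.hom (inferInstance : LocallyOfFiniteType G.hom) this
    infer_instance

/-- Let G be an S-group separated over S, suppose S locally Noetherian or G of finite presentation over
S, and let i₁ : H₁ ⟶ G, i₂ : H₂ ⟶ G be two sub-group-schemes (homomorphisms which are immersions) of
multiplicative type and of finite type, with H₁ central in G. Then the set U of points s ∈ S such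
that (H₁)_s = (H₂)_s as subgroups of G_s (an isomorphism of the fibres compatible with the
inclusions) is open and closed, and H₁|_U = H₂|_U as subgroups of G|_U. (The published statement
asks only that the fibres of H₁ be central; this row assumes H₁ central in G.) -/
theorem result {S : Scheme.{u}} (G H₁ H₂ : Over S) [GrpObj G] [GrpObj H₁] [GrpObj H₂]
    [IsSeparated G.hom] (hG : IsLocallyNoetherian S ∨ (LocallyOfFinitePresentation G.hom ∧ QuasiCompact G.hom ∧ QuasiSeparated G.hom))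
    (h₁ : SGA3x.IsMultTypeFT H₁) (h₂ : SGA3x.IsMultTypeFT H₂)
    (i₁ : H₁ ⟶ G) [IsMonHom i₁] [IsImmersion i₁.left] (i₂ : H₂ ⟶ G) [IsMonHom i₂] [IsImmersion i₂.left]
    (hc : ∀ (X : Over S) (g : X ⟶ G) (h : X ⟶ H₁), g * (h ≫ i₁) = (h ≫ i₁) * g) :
    ∃ U : S.Opens, IsClosed (U : Set S) ∧
      (∀ s : S, s ∈ U ↔ ∃ ψ : Red.bc (S.fromSpecResidueField s) H₁ ≅ Red.bc (S.fromSpecResidueField s) H₂,
        ψ.hom ≫ (Over.pullback (S.fromSpecResidueField s)).map i₂ = (Over.pullback (S.fromSpecResidueField s)).map i₁) ∧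
      ∃ ψ : Red.bc U.ι H₁ ≅ Red.bc U.ι H₂, ψ.hom ≫ (Over.pullback U.ι).map i₂ = (Over.pullback U.ι).map i₁ := by
  have : Mono i₁ := haveI : Mono i₁.left := inferInstance; Over.mono_of_mono_left i₁
  have : Mono i₂ := haveI : Mono i₂.left := inferInstance; Over.mono_of_mono_left i₂
  have := multType_locallyOfFiniteType H₁ h₁
  have := multType_locallyOfFiniteType H₂ h₂
  have : LocallyOfFiniteType (H₁ ⊗ H₂).hom := by rw [Over.tensorObj_hom]; infer_instance
  have : LocallyOfFiniteType (H₂ ⊗ H₁).hom := by rw [Over.tensorObj_hom]; infer_instance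
  have hG' : IsLocallyNoetherian S ∨ LocallyOfFinitePresentation G.hom := hG.imp id And.left
  have hcomm : ∀ (Y : Over S) (a : Y ⟶ H₁) (b : Y ⟶ H₂), Commute (a ≫ i₁) (b ≫ i₂) :=
    fun Y a b => (hc Y (b ≫ i₂) a).symm
  obtain ⟨U, hU, hUiff, hUle⟩ := le_locus i₁ i₂ h₁ h₂ hcomm (lfp_pullback_fst hG' _)
  obtain ⟨V, hV, hViff, hVle⟩ := le_locus i₂ i₁ h₂ h₁ (fun Y a b => (hcomm Y b a).symm) (lfp_pullback_fst hG' _)
  refine ⟨U ⊓ V, hU.inter hV, fun s => ⟨fun hs => exists_iso_of_le i₁ i₂ ((hUiff s).mp hs.1) ((hViff s).mp hs.2),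
    fun ⟨ψ, hψ⟩ => ⟨(hUiff s).mpr (le_of_iso i₁ i₂ ψ.hom hψ),
      (hViff s).mpr (le_of_iso i₂ i₁ ψ.inv ((Iso.inv_comp_eq ψ).mpr hψ.symm))⟩⟩, ?_⟩
  exact exists_iso_of_le i₁ i₂ ((hUle.comp i₁ i₂ (S.homOfLE inf_le_left)).of_eq i₁ i₂ (S.homOfLE_ι _))
    ((hVle.comp i₂ i₁ (S.homOfLE inf_le_right)).of_eq i₂ i₁ (S.homOfLE_ι _))

end Groth.Agent.S5304
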