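import Groth.Statements.S5307
import Groth.Agent.DiagRig.SubDescent

set_option autoImplicit false
open CategoryTheory MonoidalCategory CartesianMonoidalCategory MonObj GrpObj AlgebraicGeometry
universe u
open SGA3x

namespace Groth.Agent.S5307

open Groth.Agent.DiagRig CategoryTheory.Limits

lemma bcUn_comp {S S' : Scheme.{u}} (π : S' ⟶ S) {Y : Over S'} {A B : Over S} (x : (Over.map π).obj Y ⟶ A)
    (g : A ⟶ B) : bcUn π (x ≫ g) = bcUn π x ≫ (Over.pullback π).map g :=
  (Over.mapPullbackAdj π).homEquiv_naturality_right x g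


set_option backward.isDefEq.respectTransparency.types false in
set_option maxHeartbeats 1000000 in
/-- The case of an fpqc covering. Let G be an S-group separated and of finite presentation over S
(locally of finite presentation, quasi-compact, quasi-separated), π : S' ⟶ S a flat surjective
morphism which is an fpqc covering (every affine open of S is the image of a quasi-compact open of
S') with geometrically connected fibres, and j' : H' ⟶ G ×_S S' a central sub-group-scheme (a
homomorphism which is an immersion, every point of G ×_S S' commuting with every point of H') of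
multiplicative type and of finite type. Then there is a sub-group-scheme j : H ⟶ G of multiplicative
type and of finite type with H ×_S S' = H' as subgroups of G ×_S S' (an isomorphism compatible with
the inclusions), and any two such subgroups of G coincide (are isomorphic compatibly with their
inclusions). -/
theorem result {S S' : Scheme.{u}} (G : Over S) [GrpObj G]
    [IsSeparated G.hom] [LocallyOfFinitePresentation G.hom] [QuasiCompact G.hom] [QuasiSeparated G.hom]
    (π : S' ⟶ S) [Flat π] [Surjective π]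
    (hcov : ∀ V : S.Opens, IsAffineOpen V → ∃ W : S'.Opens, IsCompact (W : Set S') ∧ π.base '' (W : Set S') = (V : Set S))
    (hconn : ∀ s : S, ConnectedSpace ↥(Limits.pullback π (Red.geomPt s)))
    (H' : Over S') [GrpObj H'] (hH' : SGA3x.IsMultTypeFT H') (j' : H' ⟶ Red.bc π G) [IsMonHom j'] [IsImmersion j'.left]
    (hc : ∀ (X : Over S') (g : X ⟶ Red.bc π G) (h : X ⟶ H'), g * (h ≫ j') = (h ≫ j') * g) :
    (∃ (H : Over S) (_ : GrpObj H) (j : H ⟶ G), IsMonHom j ∧ IsImmersion j.left ∧ SGA3x.IsMultTypeFT H ∧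
      ∃ φ : Red.bc π H ≅ H', φ.hom ≫ j' = (Over.pullback π).map j) ∧
    (∀ (H₁ H₂ : Over S) [GrpObj H₁] [GrpObj H₂] (j₁ : H₁ ⟶ G) (j₂ : H₂ ⟶ G) [IsMonHom j₁] [IsMonHom j₂]
      [IsImmersion j₁.left] [IsImmersion j₂.left],
      (∃ φ₁ : Red.bc π H₁ ≅ H', φ₁.hom ≫ j' = (Over.pullback π).map j₁) →
      (∃ φ₂ : Red.bc π H₂ ≅ H', φ₂.hom ≫ j' = (Over.pullback π).map j₂) →
      ∃ ψ : H₁ ≅ H₂, ψ.hom ≫ j₂ = j₁) := by
  have : Mono j' := Over.mono_of_mono_left j'
  refine ⟨?_, fun H₁ H₂ _ _ j₁ j₂ _ _ _ _ hh₁ hh₂ => ?_⟩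
  · have : IsAffineHom H'.hom := multType_isAffineHom H' hH'
    have : IsSeparated (Red.bc π G).hom :=
      MorphismProperty.pullback_snd (P := @IsSeparated) G.hom π inferInstance
    have : QuasiCompact (j'.left ≫ (Red.bc π G).hom) := by rw [Over.w j']; infer_instance
    have : QuasiCompact j'.left := QuasiCompact.of_comp j'.left (Red.bc π G).hom
    let f : (Red.bc π G).left ⟶ G.left := pullback.fst G.hom π
    have : Flat f := inferInstanceAs (Flat (pullback.fst G.hom π))
    have : Surjective f := inferInstanceAs (Surjective (pullback.fst G.hom π))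
    obtain ⟨Z, i, k, hi, sq⟩ := exists_descend_immersion f (cov_fst G.hom π hcov) j'.left
      (lift_stable π j' hH' hconn hc)
    let H : Over S := Over.mk (i ≫ G.hom)
    let j : H ⟶ G := Over.homMk i rfl
    have : IsImmersion j.left := hi
    have : Mono j := Over.mono_of_mono_left j
    have pts : ∀ (Y : Over S') (x : (Over.map π).obj Y ⟶ G),
        (∃ y, y ≫ j = x) ↔ ∃ h : Y ⟶ H', h ≫ j' = bcUn π x := by
      intro Y x
      have hx : (bcUn π x).left ≫ f = x.left := by rw [← bcTr_left, bcTr_bcUn]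
      constructor
      · rintro ⟨y, hy⟩
        have e : y.left ≫ i = (bcUn π x).left ≫ f := by rw [hx, ← hy]; rfl
        refine ⟨Over.homMk (sq.lift y.left (bcUn π x).left e) ?_, ?_⟩
        · rw [← Over.w j', ← Category.assoc, sq.lift_snd, Over.w (bcUn π x)]
        · apply Over.OverMorphism.ext
          exact sq.lift_snd _ _ _
      · rintro ⟨h, hh⟩
        have e : (h.left ≫ k) ≫ i = x.left := by
          rw [Category.assoc, sq.w, ← hx, ← hh, Over.comp_left, Category.assoc]
        refine ⟨Over.homMk (h.left ≫ k) ?_, ?_⟩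
        · show (h.left ≫ k) ≫ i ≫ G.hom = _
          rw [← Category.assoc, e, Over.w x]
        · apply Over.OverMorphism.ext
          exact e
    let c : ∀ Y : Over S, (Over.map π).obj (Over.mk (pullback.snd Y.hom π)) ⟶ Y := fun Y =>
      Over.homMk (pullback.fst Y.hom π) pullback.condition
    have loc : ∀ {Y : Over S} (a : Y ⟶ G),
        (∃ h : Over.mk (pullback.snd Y.hom π) ⟶ H',
          h ≫ j' = bcUn π (c Y ≫ a)) →
        ∃ y : Y ⟶ H, y ≫ j = a := fun a h => exists_lift_of_bc π hcov j a ((pts _ _).mpr h)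
    have cl1 : ∀ Y : Over S, ∃ y : Y ⟶ H, y ≫ j = 1 := fun Y => loc 1 ⟨1, by
      rw [MonObj.one_comp, MonObj.comp_one]; exact bcTr_injective π (by rw [bcTr_bcUn, bcTr_one])⟩
    have cl2 : ∀ {Y : Over S} (a b : Y ⟶ H), ∃ y : Y ⟶ H, y ≫ j = (a ≫ j) * (b ≫ j) := fun {Y} a b => by
      obtain ⟨ha, ea⟩ := (pts _ ((c Y ≫ a) ≫ j)).mp ⟨c Y ≫ a, rfl⟩
      obtain ⟨hb, eb⟩ := (pts _ ((c Y ≫ b) ≫ j)).mp ⟨c Y ≫ b, rfl⟩
      refine loc _ ⟨ha * hb, ?_⟩
      show _ = bcUn π (c Y ≫ _)
      rw [MonObj.mul_comp, ea, eb, MonObj.comp_mul, bcUn_mul, Category.assoc, Category.assoc]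
    have cl3 : ∀ {Y : Over S} (a : Y ⟶ H), ∃ y : Y ⟶ H, y ≫ j = (a ≫ j)⁻¹ := fun {Y} a => by
      obtain ⟨ha, ea⟩ := (pts _ ((c Y ≫ a) ≫ j)).mp ⟨c Y ≫ a, rfl⟩
      refine loc _ ⟨ha⁻¹, ?_⟩
      rw [GrpObj.inv_comp, ea]
      refine bcTr_injective π ?_
      rw [bcTr_inv, bcTr_bcUn, bcTr_bcUn, GrpObj.comp_inv, Category.assoc]
    obtain ⟨instH, hmon⟩ := Groth.Agent.GrpScheme.SubgroupObj.exists_grpObj j
      (by
        obtain ⟨y, hy⟩ := cl2 (fst H H) (snd H H)
        refine ⟨y, hy.trans ?_⟩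
        rw [Hom.mul_def]
        congr 1)
      (by
        obtain ⟨y, hy⟩ := cl1 (𝟙_ (Over S))
        refine ⟨y, hy.trans ?_⟩
        rw [Hom.one_def, toUnit_unique (toUnit _) (𝟙 (𝟙_ (Over S))), Category.id_comp])
      (by
        obtain ⟨y, hy⟩ := cl3 (𝟙 H)
        refine ⟨y, hy.trans ?_⟩
        rw [Category.id_comp, Hom.inv_def])
    obtain ⟨a, ha⟩ := (pts _ (bcTr π (𝟙 (Red.bc π H)) ≫ j)).mp ⟨_, rfl⟩
    rw [bcUn_comp, bcUn_bcTr, Category.id_comp] at ha
    obtain ⟨y, hy⟩ := (pts H' (bcTr π j')).mpr ⟨𝟙 H', by rw [bcUn_bcTr, Category.id_comp]⟩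
    have hb : bcUn π y ≫ (Over.pullback π).map j = j' := by rw [← bcUn_comp, hy, bcUn_bcTr]
    have : Mono ((Over.pullback π).map j) := inferInstance
    let φ : Red.bc π H ≅ H' :=
      ⟨a, bcUn π y, by rw [← cancel_mono ((Over.pullback π).map j), Category.assoc, hb, ha, Category.id_comp],
        by rw [← cancel_mono j', Category.assoc, ha, hb, Category.id_comp]⟩
    have hjm : IsMonHom (M := Red.bc π H) (N := Red.bc π G) ((Over.pullback π).map j) := isMonHom_bcMap π j
    have hφ : φ.hom ≫ j' = (Over.pullback π).map j := ha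
    have : IsMonHom φ.hom := isMonHom_of_pts φ.hom fun Y p q => by
      rw [← cancel_mono j', Category.assoc, MonObj.mul_comp (p ≫ φ.hom) (q ≫ φ.hom) j', Category.assoc, Category.assoc, hφ]
      exact MonObj.mul_comp (M := Red.bc π H) (N := Red.bc π G) p q ((Over.pullback π).map j)
    exact ⟨H, instH, j, hmon, inferInstance, isMultTypeFT_descend π hcov (Grp.mkIso' φ) hH', φ, hφ⟩
  · have : Mono j₁ := Over.mono_of_mono_left j₁
    have : Mono j₂ := Over.mono_of_mono_left j₂
    have key : ∀ {A B : Over S} (u : A ⟶ G) (v : B ⟶ G) [Mono v],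
        (∃ φ₁ : Red.bc π A ≅ H', φ₁.hom ≫ j' = (Over.pullback π).map u) →
        (∃ φ₂ : Red.bc π B ≅ H', φ₂.hom ≫ j' = (Over.pullback π).map v) → ∃ z : A ⟶ B, z ≫ v = u := by
      intro A B u v _ ⟨φ₁, h₁⟩ ⟨φ₂, h₂⟩
      refine exists_lift_of_bc π hcov v u ?_
      let k₀ : (Over.map π).obj (Over.mk (pullback.snd A.hom π)) ⟶ A :=
        Over.homMk (pullback.fst A.hom π) pullback.condition
      refine ⟨bcTr π (bcUn π k₀ ≫ φ₁.hom ≫ φ₂.inv), ?_⟩
      rw [← bcTr_map]
      simp only [Category.assoc]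
      rw [← h₂, Iso.inv_hom_id_assoc, h₁, bcTr_map, bcTr_bcUn]
    obtain ⟨a, ha⟩ := key j₁ j₂ hh₁ hh₂
    obtain ⟨b, hb⟩ := key j₂ j₁ hh₂ hh₁
    exact ⟨⟨a, b, by rw [← cancel_mono j₁, Category.assoc, hb, ha, Category.id_comp],
      by rw [← cancel_mono j₂, Category.assoc, ha, hb, Category.id_comp]⟩, ha⟩

end Groth.Agent.S5307
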