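import Groth.Statements.S5308
import Groth.Agent.TwCLib.Etale
import Mathlib.AlgebraicGeometry.ZariskisMainTheorem

set_option autoImplicit false
open CategoryTheory MonoidalCategory CartesianMonoidalCategory MonObj GrpObj AlgebraicGeometry
universe u
open SGA3x

namespace Groth.Agent.S5308

/-- (i) ⇒ (ii). Let R be a commutative twisted constant S-group which is isotrivial (it becomes a
constant group over the open and closed pieces of one finite etale surjective S' ⟶ S). Then R is a
union of open and closed subschemes which are quasi-compact, indeed finite, over S: every point of R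
has an open and closed neighbourhood U in R with U ⟶ S finite. -/
theorem result {S : Scheme.{u}} (R : Over S) [GrpObj R]
    (hcomm : ∀ (X : Over S) (a b : X ⟶ R), a * b = b * a) (hR : TwC.IsTwConstGrp TwC.Topology.finiteEtale R) (x : R.left) :
    ∃ U : R.left.Opens, x ∈ U ∧ IsClosed (U : Set R.left) ∧ IsFinite (U.ι ≫ R.hom) := by
  obtain ⟨S', f, hf, hfe, hfs, hloc⟩ := hR
  have hX : TwC.IsTwConst TwC.Topology.etale R := fun s => by
    obtain ⟨s', rfl⟩ := f.surjective s
    obtain ⟨U, hs, hUc, M, _, e, -⟩ := hloc s'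
    exact ⟨U, U.ι ≫ f, inferInstance, ⟨⟨s', hs⟩, rfl⟩, M, ⟨e⟩⟩
  obtain ⟨hsep, het⟩ := TwCLib.isSeparated_and_etale hX
  obtain ⟨s', hs'⟩ := f.surjective (R.hom.base x)
  obtain ⟨U, hs, hUc, M, _, e, -⟩ := hloc s'
  have : IsClosedImmersion U.ι := IsClosedImmersion.of_isPreimmersion _ (by rwa [Scheme.Opens.range_ι])
  obtain ⟨y, hy, -⟩ := Scheme.Pullback.exists_preimage_pullback (f := R.hom) (g := U.ι ≫ f) x ⟨s', hs⟩ hs'.symm
  obtain ⟨i, a, ha⟩ := TwCLib.exists_ι_eq (U : Scheme.{u}) M (e.hom.left.base y)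
  let sec : (U : Scheme.{u}) ⟶ Limits.pullback R.hom (U.ι ≫ f) :=
    Limits.Sigma.ι (fun _ : M => (U : Scheme.{u})) i ≫ e.inv.left
  have hsec : sec ≫ Limits.pullback.snd R.hom (U.ι ≫ f) = 𝟙 _ := by
    show (Limits.Sigma.ι (fun _ : M => (U : Scheme.{u})) i ≫ e.inv.left) ≫ _ = _
    rw [Category.assoc, show e.inv.left ≫ Limits.pullback.snd R.hom (U.ι ≫ f) = (TwC.const (U : Scheme.{u}) M).hom from Over.w e.inv]
    exact Limits.Sigma.ι_desc _ _
  have hsy : sec.base a = y := by
    rw [Scheme.Hom.comp_apply, ha, ← Scheme.Hom.comp_apply, ← Over.comp_left, e.hom_inv_id]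
    rfl
  let h : (U : Scheme.{u}) ⟶ R.left := sec ≫ Limits.pullback.fst R.hom (U.ι ≫ f)
  have hh : h ≫ R.hom = U.ι ≫ f := by
    show (sec ≫ _) ≫ _ = _
    rw [Category.assoc, Limits.pullback.condition, ← Category.assoc, hsec, Category.id_comp]
  have : IsFinite (h ≫ R.hom) := by rw [hh]; infer_instance
  have : Etale (h ≫ R.hom) := by rw [hh]; infer_instance
  have : IsFinite h := IsFinite.of_comp h R.hom
  have : Etale h := Etale.of_comp h R.hom
  let V : R.left.Opens := ⟨Set.range h.base, h.isOpenMap.isOpen_range⟩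
  have hVc : IsClosed (V : Set R.left) := h.isClosedMap.isClosed_range
  refine ⟨V, ⟨a, ?_⟩, hVc, ?_⟩
  · show (sec ≫ Limits.pullback.fst R.hom (U.ι ≫ f)).base a = x
    rw [Scheme.Hom.comp_apply, hsy, hy]
  · have : IsClosedImmersion V.ι := IsClosedImmersion.of_isPreimmersion _ (by rwa [Scheme.Opens.range_ι])
    let h' : (U : Scheme.{u}) ⟶ V := IsOpenImmersion.lift V.ι h (by simp [V])
    have hh' : h' ≫ V.ι = h := IsOpenImmersion.lift_fac _ _ _
    have : Surjective h' := ⟨fun v => by
      obtain ⟨u, hu⟩ := v.2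
      exact ⟨u, Subtype.ext ((congrArg (fun m : (U : Scheme.{u}) ⟶ R.left => m.base u) hh').trans hu)⟩⟩
    have : UniversallyClosed (h' ≫ V.ι ≫ R.hom) := by rw [reassoc_of% hh', hh]; infer_instance
    have : UniversallyClosed (V.ι ≫ R.hom) := UniversallyClosed.of_comp_surjective h' _
    have : IsProper (V.ι ≫ R.hom) := ⟨⟩
    have : LocallyQuasiFinite (V.ι ≫ R.hom) := .of_finite_preimage_singleton _ fun t => by
      refine ((((U.ι ≫ f).finite_preimage_singleton t)).image h'.base).subset fun v hv => ?_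
      obtain ⟨u, rfl⟩ := h'.surjective v
      refine ⟨u, ?_, rfl⟩
      show (U.ι ≫ f).base u = t
      rw [← hh, ← hh', Category.assoc, Scheme.Hom.comp_apply]
      exact hv
    exact (IsFinite.iff_isProper_and_locallyQuasiFinite (f := V.ι ≫ R.hom)).2 ⟨inferInstance, inferInstance⟩

end Groth.Agent.S5308
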