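import Groth.Statements.S5309
import Groth.Agent.FormalExh93.Local

set_option autoImplicit false
open CategoryTheory MonoidalCategory CartesianMonoidalCategory MonObj GrpObj AlgebraicGeometry
universe u
open CategoryTheory.Limits
open SGA3x

namespace Groth.Agent.S5309

/-- Let S be a Noetherian scheme, f : X ⟶ S quasi-finite (locally quasi-finite, of finite type), and
(X_i) an increasing filtered family of subschemes of X (immersions x_i : X_i ⟶ X indexed by a
directed preorder, x_i factoring through x_j for i ≤ j) such that for every s ∈ S and every n ≥ 0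
there is an index i for which the base change of x_i to Spec (O_{S,s}/𝔪_s^(n+1)) is an isomorphism
onto X ×_S Spec (O_{S,s}/𝔪_s^(n+1)). Then x_i is an isomorphism for some i. -/
theorem result {S X : Scheme.{u}} [IsNoetherian S] (f : X ⟶ S)
    [LocallyQuasiFinite f] [LocallyOfFiniteType f] [QuasiCompact f]
    {D : Type u} [Preorder D] [IsDirected D (fun a b => a ≤ b)] [Nonempty D]
    (Xi : D → Scheme.{u}) (x : ∀ i, Xi i ⟶ X) (hx : ∀ i, IsImmersion (x i))
    (hmono : ∀ i j, i ≤ j → ∃ t : Xi i ⟶ Xi j, t ≫ x j = x i)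
    (h : ∀ (s : S) (n : ℕ), ∃ i : D,
      IsIso (pullback.snd (x i) (pullback.fst f
        (Spec.map (CommRingCat.ofHom (Ideal.Quotient.mk (IsLocalRing.maximalIdeal (S.presheaf.stalk s) ^ (n + 1)))) ≫ S.fromSpecStalk s)))) :
    ∃ i : D, IsIso (x i) := by
  classical
  haveI : IsLocallyNoetherian X := LocallyOfFiniteType.isLocallyNoetherian f
  haveI : CompactSpace X := QuasiCompact.compactSpace_of_compactSpace f
  haveI : IsNoetherian X := ⟨⟩
  haveI := hx
  haveI : ∀ i, Mono (x i) := fun i => inferInstance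
  have hdir : Directed (· ≤ ·) fun i => FormalExh93.isoLocus (x i) := by
    intro i j
    obtain ⟨m, h1, h2⟩ := exists_ge_ge i j
    obtain ⟨t, ht⟩ := hmono i m h1
    obtain ⟨t', ht'⟩ := hmono j m h2
    exact ⟨m, FormalExh93.isoLocus_mono _ _ t ht, FormalExh93.isoLocus_mono _ _ t' ht'⟩
  -- infinitesimal neighbourhoods factor
  have hlift : ∀ (z : X) (n : ℕ), ∃ i, ∀ j, i ≤ j →
      ∃ l : Spec (CommRingCat.of (X.presheaf.stalk z ⧸ IsLocalRing.maximalIdeal (X.presheaf.stalk z) ^ (n + 1))) ⟶ Xi j,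
        l ≫ x j = Spec.map (CommRingCat.ofHom (Ideal.Quotient.mk _)) ≫ X.fromSpecStalk z := by
    intro z n
    obtain ⟨i, hi⟩ := h (f z) n
    let gam := Ideal.quotientMap (IsLocalRing.maximalIdeal (X.presheaf.stalk z) ^ (n + 1)) (f.stalkMap z).hom
      (Ideal.map_le_iff_le_comap.1 (by
        rw [Ideal.map_pow]
        exact Ideal.pow_right_mono (show (IsLocalRing.maximalIdeal (S.presheaf.stalk (f z))).map (f.stalkMap z).hom ≤
          IsLocalRing.maximalIdeal (X.presheaf.stalk z) from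
            Ideal.map_le_iff_le_comap.2 fun a ha => map_nonunit (f.stalkMap z).hom a ha) _))
    have hgam : CommRingCat.ofHom (Ideal.Quotient.mk (IsLocalRing.maximalIdeal (S.presheaf.stalk (f z)) ^ (n + 1))) ≫
        CommRingCat.ofHom gam = f.stalkMap z ≫ CommRingCat.ofHom (Ideal.Quotient.mk (IsLocalRing.maximalIdeal (X.presheaf.stalk z) ^ (n + 1))) :=
      CommRingCat.hom_ext (RingHom.ext fun a => rfl)
    let p := pullback.lift (f := f)
      (g := Spec.map (CommRingCat.ofHom (Ideal.Quotient.mk (IsLocalRing.maximalIdeal (S.presheaf.stalk (f z)) ^ (n + 1)))) ≫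
        S.fromSpecStalk (f z))
      (Spec.map (CommRingCat.ofHom (Ideal.Quotient.mk (IsLocalRing.maximalIdeal (X.presheaf.stalk z) ^ (n + 1)))) ≫
        X.fromSpecStalk z) (Spec.map (CommRingCat.ofHom gam)) (by
          rw [← Category.assoc, ← Spec.map_comp, hgam, Spec.map_comp, Category.assoc, Category.assoc,
            Scheme.SpecMap_stalkMap_fromSpecStalk]
          rfl)
    haveI := hi
    refine ⟨i, fun j hij => ?_⟩
    obtain ⟨t, ht⟩ := hmono i j hij
    refine ⟨p ≫ inv (pullback.snd (x i) (pullback.fst f _)) ≫ pullback.fst (x i) _ ≫ t, ?_⟩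
    simp only [Category.assoc, ht]
    rw [pullback.condition, IsIso.inv_hom_id_assoc, pullback.lift_fst]
    rfl
  suffices hall : ∀ z : X, ∃ i, z ∈ FormalExh93.isoLocus (x i) by
    obtain ⟨i, hi⟩ := isCompact_univ.elim_directed_cover (fun i => (FormalExh93.isoLocus (x i) : Set X))
      (fun i => (FormalExh93.isoLocus (x i)).2) (fun z _ => Set.mem_iUnion.2 (hall z))
      (fun i j => (hdir i j).imp fun m hm => hm)
    exact ⟨i, FormalExh93.isIso_of_isoLocus_eq_top _ (top_le_iff.1 fun z _ => hi trivial)⟩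
  intro b
  by_contra hb
  -- a point outside all loci all of whose generalisations are inside
  have hBc : IsClosed (⋃ i, (X.fromSpecStalk b ⁻¹' (FormalExh93.isoLocus (x i) : Set X)))ᶜ :=
    (isOpen_iUnion fun i => (FormalExh93.isoLocus (x i)).2.preimage (X.fromSpecStalk b).continuous).isClosed_compl
  obtain ⟨I, hI⟩ := (PrimeSpectrum.isClosed_iff_zeroLocus_ideal _).1 hBc
  have hbB : IsLocalRing.closedPoint (X.presheaf.stalk b) ∈ PrimeSpectrum.zeroLocus (I : Set (X.presheaf.stalk b)) := by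
    rw [← hI]
    intro hmem
    obtain ⟨i, hi⟩ := Set.mem_iUnion.1 hmem
    exact hb ⟨i, Scheme.fromSpecStalk_closedPoint (x := b) ▸ hi⟩
  obtain ⟨q, hq, -⟩ := Ideal.exists_minimalPrimes_le
    (show I ≤ (IsLocalRing.closedPoint (X.presheaf.stalk b)).asIdeal from hbB)
  let q' : PrimeSpectrum (X.presheaf.stalk b) := ⟨q, hq.1.1⟩
  let z := X.fromSpecStalk b q'
  have hzbad : ∀ i, z ∉ FormalExh93.isoLocus (x i) := by
    intro i hi
    have : q' ∈ PrimeSpectrum.zeroLocus (I : Set (X.presheaf.stalk b)) := hq.1.2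
    rw [← hI] at this
    exact this (Set.mem_iUnion.2 ⟨i, hi⟩)
  have hgen : ∀ w : X, w ⤳ z → w ≠ z → ∃ i, w ∈ FormalExh93.isoLocus (x i) := by
    intro w hw hne
    by_contra hw'
    have hwb : w ⤳ b := by
      have : z ∈ Set.range (X.fromSpecStalk b) := ⟨q', rfl⟩
      rw [Scheme.range_fromSpecStalk] at this
      exact hw.trans this
    obtain ⟨p, rfl⟩ : w ∈ Set.range (X.fromSpecStalk b) := by rw [Scheme.range_fromSpecStalk]; exact hwb
    have hle : p.asIdeal ≤ q := (PrimeSpectrum.le_iff_specializes p q').2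
      ((X.fromSpecStalk b).isEmbedding.isInducing.specializes_iff.1 hw)
    have hp : p ∈ PrimeSpectrum.zeroLocus (I : Set (X.presheaf.stalk b)) := by
      rw [← hI]
      exact fun hp => hw' ((Set.mem_iUnion.1 hp).imp fun i hi => hi)
    exact hne (congrArg _ (PrimeSpectrum.ext (le_antisymm hle (hq.2 ⟨p.isPrime, hp⟩ hle))))
  -- one index covering the punctured local scheme
  have hK : IsCompact {p : Spec (X.presheaf.stalk z) | p ≠ IsLocalRing.closedPoint (X.presheaf.stalk z)} :=
    TopologicalSpace.NoetherianSpace.isCompact _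
  obtain ⟨i₀, hi₀⟩ := hK.elim_directed_cover
    (fun i => X.fromSpecStalk z ⁻¹' (FormalExh93.isoLocus (x i) : Set X))
    (fun i => (FormalExh93.isoLocus (x i)).2.preimage (X.fromSpecStalk z).continuous)
    (fun p hp => by
      have h1 : X.fromSpecStalk z p ⤳ z := by
        have : X.fromSpecStalk z p ∈ Set.range (X.fromSpecStalk z) := ⟨p, rfl⟩
        rwa [Scheme.range_fromSpecStalk] at this
      have h2 : X.fromSpecStalk z p ≠ z := fun e => hp ((X.fromSpecStalk z).isEmbedding.injective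
        (e.trans Scheme.fromSpecStalk_closedPoint.symm))
      exact Set.mem_iUnion.2 (hgen _ h1 h2))
    (fun i j => (hdir i j).imp fun m hm => ⟨fun a ha => hm.1 ha, fun a ha => hm.2 ha⟩)
  obtain ⟨i', hi'⟩ := hlift z 0
  obtain ⟨i₁, h01, h'1⟩ := exists_ge_ge i₀ i'
  have hrange : ∀ j, i' ≤ j → z ∈ Set.range (x j) := by
    intro j hj
    obtain ⟨l, hl⟩ := hi' j hj
    haveI : Nontrivial ((X.presheaf.stalk z) ⧸ IsLocalRing.maximalIdeal (X.presheaf.stalk z) ^ (0 + 1)) :=
      Ideal.Quotient.nontrivial_iff.2 (by simpa using IsLocalRing.maximalIdeal.isMaximal (X.presheaf.stalk z) |>.ne_top)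
    let pt : PrimeSpectrum ((X.presheaf.stalk z) ⧸ IsLocalRing.maximalIdeal (X.presheaf.stalk z) ^ (0 + 1)) := Classical.arbitrary _
    refine ⟨l pt, ?_⟩
    refine (congrArg (fun g : Spec (CommRingCat.of _) ⟶ X => g pt) hl).trans ?_
    have e : Spec.map (CommRingCat.ofHom (Ideal.Quotient.mk (IsLocalRing.maximalIdeal (X.presheaf.stalk z) ^ (0 + 1)))) pt = IsLocalRing.closedPoint (X.presheaf.stalk z) := by
      refine PrimeSpectrum.ext ((IsLocalRing.maximalIdeal.isMaximal (X.presheaf.stalk z)).eq_of_le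
        (Ideal.IsPrime.ne_top inferInstance) ?_).symm
      intro a ha
      show Ideal.Quotient.mk (IsLocalRing.maximalIdeal (X.presheaf.stalk z) ^ (0 + 1)) a ∈ pt.asIdeal
      rw [Ideal.Quotient.eq_zero_iff_mem.2 (by simpa using ha)]
      exact pt.asIdeal.zero_mem
    exact (congrArg _ e).trans Scheme.fromSpecStalk_closedPoint
  obtain ⟨J, hJ, l₁, hl₁⟩ := FormalExh93.exists_ideal (x i₁) z (hrange i₁ h'1)
  -- the ideal is supported at the closed point
  have hkill : ∀ p : PrimeSpectrum (X.presheaf.stalk z), p ≠ IsLocalRing.closedPoint (X.presheaf.stalk z) →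
      J ≤ RingHom.ker (algebraMap (X.presheaf.stalk z) (Localization.AtPrime p.asIdeal)) := by
    intro p hp
    obtain ⟨V, hpV, hV⟩ := (FormalExh93.mem_isoLocus _).1 (hi₀ hp)
    let q : Spec (CommRingCat.of (Localization.AtPrime p.asIdeal)) ⟶ X :=
      Spec.map (CommRingCat.ofHom (algebraMap (X.presheaf.stalk z) (Localization.AtPrime p.asIdeal))) ≫ X.fromSpecStalk z
    have hq : Set.range q ⊆ Set.range V.ι := by
      rw [Scheme.Opens.range_ι]
      rintro _ ⟨a, rfl⟩
      refine Specializes.mem_open ?_ V.2 hpV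
      rw [Scheme.Hom.comp_apply]
      refine Specializes.map ?_ (X.fromSpecStalk z).continuous
      refine (PrimeSpectrum.le_iff_specializes (PrimeSpectrum.comap (algebraMap (X.presheaf.stalk z) _) a) p).1 ?_
      intro r hr
      by_contra hr'
      exact a.isPrime.ne_top (Ideal.eq_top_of_isUnit_mem _ hr
        (IsLocalization.map_units (Localization.AtPrime p.asIdeal) (⟨r, hr'⟩ : p.asIdeal.primeCompl)))
    obtain ⟨t, ht⟩ := hmono i₀ i₁ h01
    haveI := hV
    refine hJ (CommRingCat.ofHom (algebraMap (X.presheaf.stalk z) (Localization.AtPrime p.asIdeal)))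
      (IsOpenImmersion.lift V.ι q hq ≫ inv (x i₀ ∣_ V) ≫ (x i₀ ⁻¹ᵁ V).ι ≫ t) ?_
    simp only [Category.assoc, ht]
    rw [← morphismRestrict_ι, IsIso.inv_hom_id_assoc, IsOpenImmersion.lift_fac]
    rfl
  obtain ⟨M, hM⟩ := FormalExh93.exists_pow_inf_eq_bot J fun p hp a ha => by
    obtain ⟨s, hs⟩ := (IsLocalization.map_eq_zero_iff p.asIdeal.primeCompl (Localization.AtPrime p.asIdeal) a).1
      (hkill p hp ha)
    exact ⟨s.1, s.2, hs⟩
  obtain ⟨i₂, hi₂⟩ := hlift z M
  obtain ⟨j, h1j, h2j⟩ := exists_ge_ge i₁ i₂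
  obtain ⟨J', hJ', l', hl'⟩ := FormalExh93.exists_ideal (x j) z (hrange j (h'1.trans h1j))
  obtain ⟨t, ht⟩ := hmono i₁ j h1j
  obtain ⟨l₂, hl₂⟩ := hi₂ j h2j
  have hA : J' ≤ J := by
    refine (hJ' (CommRingCat.ofHom (Ideal.Quotient.mk J)) (l₁ ≫ t) (by rw [Category.assoc, ht, hl₁]; rfl)).trans ?_
    exact le_of_eq Ideal.mk_ker
  have hB : J' ≤ IsLocalRing.maximalIdeal (X.presheaf.stalk z) ^ (M + 1) := (hJ' (CommRingCat.ofHom (Ideal.Quotient.mk (IsLocalRing.maximalIdeal (X.presheaf.stalk z) ^ (M + 1)))) l₂ hl₂).trans (le_of_eq Ideal.mk_ker)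
  have hJ0 : J' = ⊥ := hM J' hA hB
  let e : CommRingCat.of ((X.presheaf.stalk z) ⧸ J') ⟶ (X.presheaf.stalk z) :=
    CommRingCat.ofHom (Ideal.Quotient.lift J' (RingHom.id (X.presheaf.stalk z)) fun a ha => Ideal.mem_bot.1 (hJ0 ▸ ha))
  refine hzbad j (FormalExh93.mem_isoLocus_of_lift (x j) z (Spec.map e ≫ l') ?_)
  rw [Category.assoc, hl', ← Category.assoc, ← Spec.map_comp,
    show CommRingCat.ofHom (Ideal.Quotient.mk J') ≫ e = 𝟙 (X.presheaf.stalk z) from CommRingCat.hom_ext (RingHom.ext fun a => rfl)]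
  erw [Spec.map_id, Category.id_comp]

end Groth.Agent.S5309
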