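import Groth.Statements.S5312
import Groth.Agent.GrpSGA.FibreCrit
-- import your own Groth.Agent.* helpers here

set_option autoImplicit false
universe u
open CategoryTheory CategoryTheory.Limits MonoidalCategory CartesianMonoidalCategory MonObj GrpObj AlgebraicGeometry
open SGA3

namespace Groth.Agent.S5312

/-- Let u : G → H be a homomorphism of S-group schemes, with G flat and locally of finite presentation
over S and H locally of finite type over S. Then the set U of points s of S such that the fibre u_s
: G_s → H_s over κ(s) is flat is open in S, and the set of points of G at which u is flat (the local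
ring of G is flat over that of H) is the inverse image of U in G. (The published statement assumes
the finiteness and flatness conditions only at the points of the unit sections for the openness of
U; this row assumes them on all of G and H, the case in which the second assertion is stated.) -/
theorem result (S : Scheme.{u}) (G H : Over S) [GrpObj G] [GrpObj H] (u : G ⟶ H) [IsMonHom u]
    [Flat G.hom] [LocallyOfFinitePresentation G.hom] [LocallyOfFiniteType H.hom] :
    IsOpen {s : S | Flat ((Over.pullback (S.fromSpecResidueField s)).map u).left} ∧
    {x : G.left | (u.left.stalkMap x).hom.Flat} = G.hom.base ⁻¹' {s : S | Flat ((Over.pullback (S.fromSpecResidueField s)).map u).left} := by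
  have : LocallyOfFinitePresentation (u.left ≫ H.hom) := by rw [Over.w]; infer_instance
  have : LocallyOfFinitePresentation u.left :=
    Groth.Agent.GrpScheme.FlatFib.locallyOfFinitePresentation_of_comp u.left H.hom
  have hG : ∀ s : S, LocallyOfFiniteType (G.hom.fiberToSpecResidueField s) := fun s =>
    MorphismProperty.pullback_snd _ _ inferInstance
  exact Groth.Agent.GrpSGA.FibreCrit.locus_eq u (Q := Groth.Agent.GrpSGA.LocalProp.flatAt) (P' := @Flat)
    Groth.Agent.GrpSGA.LocalProp.bc_flatAt
    (fun _ _ _ _ _ _ _ _ sq x' hg => Groth.Agent.GrpSGA.LocalProp.desc_flatAt sq x' (hg.mono inf_le_left))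
    hG (fun s y h => Groth.Agent.GrpSGA.FibreCrit.fib_flatAt u y h)
    (fun s => ⟨fun h y => Flat.stalkMap _ y, fun h => Flat.of_stalkMap _ h⟩)
    (Groth.Agent.FlatOpen.Scheme.isOpen_stalkMap_flat u.left)

end Groth.Agent.S5312
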