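import Groth.Statements.S5315
import Groth.Agent.GrpSGA.FibreCrit
-- import your own Groth.Agent.* helpers here

set_option autoImplicit false
universe u
open CategoryTheory CategoryTheory.Limits MonoidalCategory CartesianMonoidalCategory MonObj GrpObj AlgebraicGeometry
open SGA3

namespace Groth.Agent.S5315

/-- Let u : G → H be a homomorphism of S-group schemes which is locally of finite type, and suppose
every fibre G_s is locally of finite type over κ(s). Then the set U of points s of S such that u_s :
G_s → H_s is locally quasi-finite is open in S, and the set of points of G at which u is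
quasi-finite (u is locally quasi-finite on some open neighbourhood) is the inverse image of U in G.
(The published statement assumes u locally of finite type only near the unit section for the
openness of U; this row assumes it on all of G, the case in which the second assertion is stated.) -/
theorem result (S : Scheme.{u}) (G H : Over S) [GrpObj G] [GrpObj H] (u : G ⟶ H)
    [IsMonHom u] [LocallyOfFiniteType u.left] (hG : ∀ s : S, LocallyOfFiniteType (G.hom.fiberToSpecResidueField s)) :
    IsOpen {s : S | LocallyQuasiFinite ((Over.pullback (S.fromSpecResidueField s)).map u).left} ∧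
    {x : G.left | ∃ W : G.left.Opens, x ∈ W ∧ LocallyQuasiFinite (W.ι ≫ u.left)} =
      G.hom.base ⁻¹' {s : S | LocallyQuasiFinite ((Over.pullback (S.fromSpecResidueField s)).map u).left} := by
  open Groth.Agent.GrpSGA in
  have hfib : ∀ s : S, LocallyOfFiniteType (FibreCrit.fibMap u s).left := fun s =>
    MorphismProperty.of_isPullback (FibreCrit.isPullback_fibMap u s) ‹LocallyOfFiniteType u.left›
  open Groth.Agent.GrpSGA in
  have h := FibreCrit.locus_eq u (Q := LocalProp.AtPt Groth.Agent.GrpSGA.LocalProp.QFinFT) (P' := @LocallyQuasiFinite)
    LocalProp.bc_atPt LocalProp.desc_qFinFT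
    hG (fun s y h => FibreCrit.fib_qFinFTAt u y h)
    (fun s => ⟨fun h => (FibreCrit.mem_iff_forall _).mp ⟨h, hfib s⟩,
      fun h => ((FibreCrit.mem_iff_forall _).mpr h).1⟩)
    (FibreCrit.isOpen_setOf_atPt _ _)
  refine ⟨h.1, Eq.trans ?_ h.2⟩
  ext x
  exact ⟨fun ⟨W, hx, hW⟩ => ⟨W, hx, hW, inferInstance⟩, fun ⟨W, hx, hW⟩ => ⟨W, hx, hW.1⟩⟩

end Groth.Agent.S5315
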