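import Groth.Statements.S5317
import Groth.Agent.GrpSGA.FibreCrit
import Groth.Agent.EtaleSite.TopInv
-- import your own Groth.Agent.* helpers here

set_option autoImplicit false
universe u
open CategoryTheory CategoryTheory.Limits MonoidalCategory CartesianMonoidalCategory MonObj GrpObj AlgebraicGeometry
open SGA3

namespace Groth.Agent.S5317

/-- Let u : G → H be a homomorphism of S-group schemes which is universally injective (for instance a
monomorphism), with G flat and locally of finite presentation over S and H locally of finite type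
over S. Then the set U of points s of S such that u_s : G_s → H_s is an open immersion is open in S,
and the restriction of u over every open of S contained in U is an open immersion. -/
theorem result (S : Scheme.{u}) (G H : Over S) [GrpObj G] [GrpObj H]
    (u : G ⟶ H) [IsMonHom u] [UniversallyInjective u.left]
    [Flat G.hom] [LocallyOfFinitePresentation G.hom] [LocallyOfFiniteType H.hom] :
    IsOpen {s : S | IsOpenImmersion ((Over.pullback (S.fromSpecResidueField s)).map u).left} ∧
    ∀ W : S.Opens, (W : Set S) ⊆ {s : S | IsOpenImmersion ((Over.pullback (S.fromSpecResidueField s)).map u).left} → IsOpenImmersion ((G.hom ⁻¹ᵁ W).ι ≫ u.left) := by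
  have : LocallyOfFinitePresentation (u.left ≫ H.hom) := by rw [Over.w]; infer_instance
  have hG : ∀ s : S, LocallyOfFiniteType (G.hom.fiberToSpecResidueField s) := fun s =>
    MorphismProperty.pullback_snd _ _ inferInstance
  obtain ⟨ho, heq⟩ := Groth.Agent.GrpSGA.FibreCrit.locus_eq u
    (Q := Groth.Agent.GrpSGA.LocalProp.AtPt @Etale) (P' := @Etale)
    Groth.Agent.GrpSGA.LocalProp.bc_atPt Groth.Agent.GrpSGA.LocalProp.desc_etale
    hG (fun s y h => Groth.Agent.GrpSGA.FibreCrit.fib_etaleAt u y h)
    (fun s => Groth.Agent.GrpSGA.FibreCrit.mem_iff_forall _)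
    (Groth.Agent.GrpSGA.FibreCrit.isOpen_setOf_atPt _ _)
  have hiff : {s : S | IsOpenImmersion ((Over.pullback (S.fromSpecResidueField s)).map u).left} =
      {s : S | Etale ((Over.pullback (S.fromSpecResidueField s)).map u).left} := by
    ext s
    have : UniversallyInjective ((Over.pullback (S.fromSpecResidueField s)).map u).left :=
      MorphismProperty.of_isPullback (Groth.Agent.GrpSGA.FibreCrit.isPullback_fibMap u s)
        ‹UniversallyInjective u.left›
    exact ⟨fun (h : IsOpenImmersion _) => inferInstanceAs (Etale _), fun (h : Etale _) =>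
      Groth.Agent.EtaleSite.isOpenImmersion_of_etale_of_universallyInjective _⟩
  rw [hiff]
  refine ⟨ho, fun W hW => ?_⟩
  have : UniversallyInjective ((G.hom ⁻¹ᵁ W).ι ≫ u.left) :=
    MorphismProperty.comp_mem _ _ _ inferInstance ‹UniversallyInjective u.left›
  have : Etale ((G.hom ⁻¹ᵁ W).ι ≫ u.left) := by
    refine Groth.Agent.GrpSGA.LocalProp.of_forall_atPt _ fun z => ?_
    have hz : (G.hom ⁻¹ᵁ W).ι z ∈ {x : G.left | Groth.Agent.GrpSGA.LocalProp.AtPt @Etale u.left x} := by
      rw [heq]; exact hW z.2
    obtain ⟨V, hxV, hV⟩ := hz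
    refine ⟨(G.hom ⁻¹ᵁ W).ι ⁻¹ᵁ V, hxV, ?_⟩
    rw [← morphismRestrict_ι_assoc]
    exact IsZariskiLocalAtSource.comp hV _
  exact Groth.Agent.EtaleSite.isOpenImmersion_of_etale_of_universallyInjective _

end Groth.Agent.S5317
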