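import Groth.Statements.S5319
import Groth.Agent.GrpSGA.KernelCrit
-- import your own Groth.Agent.* helpers here

set_option autoImplicit false
universe u
open CategoryTheory CategoryTheory.Limits MonoidalCategory CartesianMonoidalCategory MonObj GrpObj AlgebraicGeometry
open SGA3

namespace Groth.Agent.S5319

/-- Let u : G → H be a homomorphism of S-group schemes which is locally of finite type, with every fibre
G_s locally of finite type over κ(s), and let i : K → G be the kernel of u (the square i, u, unit of
H is cartesian). The following are equivalent: u is locally quasi-finite; every fibre u_s : G_s →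
H_s is locally quasi-finite; K is locally quasi-finite over S; every fibre of K over S is a discrete
space. -/
theorem result (S : Scheme.{u}) (G H : Over S) [GrpObj G] [GrpObj H] (u : G ⟶ H) [IsMonHom u]
    [LocallyOfFiniteType u.left] (hG : ∀ s : S, LocallyOfFiniteType (G.hom.fiberToSpecResidueField s)) (K : Over S) [GrpObj K] (i : K ⟶ G) [IsMonHom i] (hK : AlgGrp.IsKernel i u) :
    (LocallyQuasiFinite u.left ↔ ∀ s : S, LocallyQuasiFinite ((Over.pullback (S.fromSpecResidueField s)).map u).left) ∧
    (LocallyQuasiFinite u.left ↔ LocallyQuasiFinite K.hom) ∧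
    (LocallyQuasiFinite u.left ↔ ∀ s : S, DiscreteTopology ↥(K.hom.base ⁻¹' {s})) := by
  open Groth.Agent.GrpSGA in
  have hsq := KernelCrit.isPullback_left u i hK
  have : LocallyOfFiniteType K.hom := MorphismProperty.of_isPullback hsq ‹LocallyOfFiniteType u.left›
  open Groth.Agent.GrpSGA in
  obtain ⟨h1, h2, -⟩ := KernelCrit.forall_atPt u i (P := LocalProp.QFinFT) LocalProp.desc_qFinFT hG
    (fun s y h => FibreCrit.fib_qFinFTAt u y h) hK (fun k hk => by
      obtain ⟨W, hW, hWP⟩ := LocalProp.desc_qFin_lft hsq k (hk.mono inf_le_left)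
      exact ⟨W, hW, hWP, inferInstance⟩)
  have hfib : ∀ s : S, LocallyOfFiniteType ((Over.pullback (S.fromSpecResidueField s)).map u).left := fun s =>
    MorphismProperty.of_isPullback (Groth.Agent.GrpSGA.FibreCrit.isPullback_fibMap u s)
      ‹LocallyOfFiniteType u.left›
  have hiff : LocallyQuasiFinite u.left ↔ LocallyQuasiFinite K.hom :=
    ⟨fun h => (h2.mp ⟨h, inferInstance⟩).1, fun h => (h2.mpr ⟨h, inferInstance⟩).1⟩
  refine ⟨⟨fun h s => (h1.mp ⟨h, inferInstance⟩ s).1, fun h => (h1.mpr fun s => ⟨h s, hfib s⟩).1⟩, hiff,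
    hiff.trans ?_⟩
  rw [locallyQuasiFinite_iff_isDiscrete_preimage_singleton]
  exact forall_congr' fun s => isDiscrete_iff_discreteTopology

end Groth.Agent.S5319
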