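import Groth.Statements.S5320
import Groth.Agent.GrpSGA.KernelCrit
-- import your own Groth.Agent.* helpers here

set_option autoImplicit false
universe u
open CategoryTheory CategoryTheory.Limits MonoidalCategory CartesianMonoidalCategory MonObj GrpObj AlgebraicGeometry
open SGA3

namespace Groth.Agent.S5320

/-- Let u : G → H be a homomorphism of S-group schemes which is locally of finite presentation, with
every fibre G_s locally of finite type over κ(s), and let i : K → G be the kernel of u (the square
i, u, unit of H is cartesian, K with the group structure making i a homomorphism). The following are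
equivalent: u is unramified (formally unramified); every fibre u_s : G_s → H_s is unramified; K is
unramified over S; the unit section of K is an open immersion. -/
theorem result (S : Scheme.{u}) (G H : Over S) [GrpObj G] [GrpObj H] (u : G ⟶ H) [IsMonHom u]
    [LocallyOfFinitePresentation u.left] (hG : ∀ s : S, LocallyOfFiniteType (G.hom.fiberToSpecResidueField s)) (K : Over S) [GrpObj K] (i : K ⟶ G) [IsMonHom i] (hK : AlgGrp.IsKernel i u) :
    (FormallyUnramified u.left ↔ ∀ s : S, FormallyUnramified ((Over.pullback (S.fromSpecResidueField s)).map u).left) ∧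
    (FormallyUnramified u.left ↔ FormallyUnramified K.hom) ∧
    (FormallyUnramified u.left ↔ IsOpenImmersion η[K].left) := by
  open Groth.Agent.GrpSGA in
  have hsq := KernelCrit.isPullback_left u i hK
  have : LocallyOfFinitePresentation K.hom :=
    MorphismProperty.of_isPullback hsq ‹LocallyOfFinitePresentation u.left›
  open Groth.Agent.GrpSGA in
  obtain ⟨h1, h2, h3⟩ := KernelCrit.forall_atPt u i (P := LocalProp.UnramFP) LocalProp.desc_unramFP hG
    (fun s y h => FibreCrit.fib_unramFPAt u y h) hK (fun k hk => by
      obtain ⟨W, hW, hWP⟩ := LocalProp.desc_unramified_any hsq k (hk.mono inf_le_left)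
      exact ⟨W, hW, hWP, inferInstance⟩)
  have hfib : ∀ s : S,
      LocallyOfFinitePresentation ((Over.pullback (S.fromSpecResidueField s)).map u).left := fun s =>
    MorphismProperty.of_isPullback (Groth.Agent.GrpSGA.FibreCrit.isPullback_fibMap u s)
      ‹LocallyOfFinitePresentation u.left›
  have hiff : FormallyUnramified u.left ↔ FormallyUnramified K.hom :=
    ⟨fun h => (h2.mp ⟨h, inferInstance⟩).1, fun h => (h2.mpr ⟨h, inferInstance⟩).1⟩
  refine ⟨⟨fun h s => (h1.mp ⟨h, inferInstance⟩ s).1, fun h => (h1.mpr fun s => ⟨h s, hfib s⟩).1⟩, hiff,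
    fun h => ?_, fun h => (h3.mpr fun s => ?_).1⟩
  · have : FormallyUnramified K.hom := hiff.mp h
    have h' : η[K].left ≫ K.hom = 𝟙 S := Over.w η[K]
    have hd : IsOpenImmersion (pullback.diagonal K.hom) := inferInstance
    have : (@IsOpenImmersion : MorphismProperty Scheme.{u}).HasOfPostcompProperty
        (@FormallyUnramified ⊓ @LocallyOfFiniteType) :=
      MorphismProperty.hasOfPostcompProperty_iff_le_diagonal.mpr fun X Y f hf =>
        have := hf.1
        have := hf.2
        inferInstanceAs (IsOpenImmersion (pullback.diagonal f))
    exact MorphismProperty.of_postcomp (W := @IsOpenImmersion) (W' := @FormallyUnramified ⊓ @LocallyOfFiniteType)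
      η[K].left K.hom ⟨inferInstance, inferInstance⟩ (by rw [h']; exact MorphismProperty.id_mem @IsOpenImmersion _)
  · let W : K.left.Opens := η[K].left.opensRange
    refine ⟨W, ⟨s, rfl⟩, ?_, inferInstance⟩
    have : IsIso (W.ι ≫ K.hom) := by
      have hW : η[K].left.isoOpensRange.hom ≫ W.ι ≫ K.hom = 𝟙 S := by
        rw [← Category.assoc, Scheme.Hom.isoOpensRange_hom_ι, Over.w]
        rfl
      rw [show W.ι ≫ K.hom = η[K].left.isoOpensRange.inv from by
        rw [← cancel_epi η[K].left.isoOpensRange.hom, hW, Iso.hom_inv_id]; rfl]
      infer_instance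
    infer_instance

end Groth.Agent.S5320
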