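import Groth.Statements.S5321
import Groth.Agent.S5318

set_option autoImplicit false
universe u
open CategoryTheory CategoryTheory.Limits MonoidalCategory CartesianMonoidalCategory MonObj GrpObj AlgebraicGeometry
open SGA3

namespace Groth.Agent.S5321

open Groth.Agent.GrpSGA.LocalProp

/-- The fibre of an open subscheme. -/
lemma formallyUnramified_fibre {X S : Scheme.{u}} (π : X ⟶ S) (W : X.Opens) (s : S)
    (h : FormallyUnramified (π.fiberToSpecResidueField s)) :
    FormallyUnramified ((W.ι ≫ π).fiberToSpecResidueField s) := by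
  let φ := pullback.map (W.ι ≫ π) (S.fromSpecResidueField s) π (S.fromSpecResidueField s)
    W.ι (𝟙 _) (𝟙 _) (Category.comp_id _) (by simp)
  have hsnd : φ ≫ pullback.snd π (S.fromSpecResidueField s) =
      pullback.snd (W.ι ≫ π) (S.fromSpecResidueField s) :=
    (pullback.lift_snd _ _ _).trans (Category.comp_id _)
  have hsq : IsPullback (pullback.fst (W.ι ≫ π) (S.fromSpecResidueField s)) φ W.ι
      (pullback.fst π (S.fromSpecResidueField s)) := by
    refine IsPullback.of_bot ?_ (pullback.lift_fst _ _ _).symm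
      (IsPullback.of_hasPullback π (S.fromSpecResidueField s))
    rw [hsnd]
    exact IsPullback.of_hasPullback _ _
  have : IsOpenImmersion φ := MorphismProperty.of_isPullback hsq (inferInstance : IsOpenImmersion W.ι)
  rw [show (W.ι ≫ π).fiberToSpecResidueField s = φ ≫ π.fiberToSpecResidueField s from hsnd.symm]
  exact @IsZariskiLocalAtSource.comp @FormallyUnramified inferInstance _ _ _ _ h φ this

/-- Shrinking the base of a closed map around a point. -/
lemma exists_open {X S : Scheme.{u}} (π : X ⟶ S) (hcl : IsClosedMap π.base) (O : X.Opens) (s : S)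
    (h : ∀ x, π x = s → x ∈ O) : ∃ U : S.Opens, s ∈ U ∧ ∀ x, π x ∈ U → x ∈ O :=
  ⟨⟨(π '' (O : Set X)ᶜ)ᶜ, (hcl _ O.2.isClosed_compl).isOpen_compl⟩,
    fun ⟨x, hx, hxs⟩ => hx (h x hxs), fun x hx => not_not.mp fun hxO => hx ⟨x, hxO, rfl⟩⟩

/-- Consider a morphism π : X → S admitting a section ε, and assume the map of underlying spaces of π is
closed. Fix a point s of S, and suppose that on some open neighbourhood of ε(s) the morphism π is
locally of finite presentation, and that the fibre X_s → Spec κ(s) is an isomorphism. Under these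
assumptions one can find an open subset U of S containing s such that π restricts to an isomorphism
π⁻¹(U) → U (consequently ε restricted to U is an isomorphism onto π⁻¹(U)). -/
theorem result (X S : Scheme.{u}) (π : X ⟶ S) (ε : S ⟶ X) (hε : ε ≫ π = 𝟙 S)
    (hcl : IsClosedMap π.base) (s : S)
    (hfp : ∃ W : X.Opens, ε.base s ∈ W ∧ LocallyOfFinitePresentation (W.ι ≫ π))
    (hs : IsIso (π.fiberToSpecResidueField s)) :
    ∃ U : S.Opens, s ∈ U ∧ IsIso (π ∣_ U) := by
  obtain ⟨W, hεW, hW⟩ := hfp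
  have hε' : ∀ t, π (ε t) = t := fun t => by
    rw [← Scheme.Hom.comp_apply, hε]; rfl
  have hfib : ∀ x, π x = s → x = ε s := by
    intro x hx
    obtain ⟨a, ha⟩ := (π.range_fiberι s).ge (show π x ∈ ({s} : Set S) from hx)
    obtain ⟨b, hb⟩ := (π.range_fiberι s).ge (show π (ε s) ∈ ({s} : Set S) from hε' s)
    have : a = b := (π.fiberToSpecResidueField s).homeomorph.injective
      (Subsingleton.elim (α := ↥(Spec (S.residueField s))) _ _)
    exact ha.symm.trans ((congrArg _ this).trans hb)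
  -- unramified near `ε s`
  have hfu : FormallyUnramified (π.fiberToSpecResidueField s) := inferInstance
  have hx0 : (W.ι ≫ π) ⟨ε s, hεW⟩ = s := hε' s
  obtain ⟨W₁, hεW₁, hW₁⟩ : AtPt @FormallyUnramified (W.ι ≫ π) ⟨ε s, hεW⟩ := by
    refine (EtStruct.formallyUnramified_nhd_iff _ _).mpr ?_
    refine UnramFib.stalkMap_formallyUnramified_of_fiber_nhd _ _ ⊤ trivial
      (IsZariskiLocalAtSource.comp (P := @FormallyUnramified) ?_ _)
    rw [hx0]
    exact formallyUnramified_fibre π W s hfu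
  let W' : X.Opens := W.ι ''ᵁ W₁
  have hεW' : ε s ∈ W' := ⟨⟨ε s, hεW⟩, hεW₁, rfl⟩
  let U₁ : S.Opens := ε ⁻¹ᵁ W'
  let W'' : X.Opens := W' ⊓ π ⁻¹ᵁ U₁
  let q := π.resLE U₁ W'' (inf_le_right : W'' ≤ π ⁻¹ᵁ U₁)
  have hqfu : FormallyUnramified (q ≫ U₁.ι) ∧ LocallyOfFiniteType (q ≫ U₁.ι) := by
    rw [Scheme.Hom.resLE_comp_ι, ← Scheme.homOfLE_ι _ (inf_le_left : W'' ≤ W'), Category.assoc]
    have e : W'.ι ≫ π = (Scheme.Hom.isoImage W.ι W₁).inv ≫ W₁.ι ≫ W.ι ≫ π := by
      rw [Iso.eq_inv_comp, ← Category.assoc, ← Category.assoc, Scheme.Hom.isoImage_hom_ι]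
    rw [e]
    exact ⟨IsZariskiLocalAtSource.comp (P := @FormallyUnramified)
      (IsZariskiLocalAtSource.comp (P := @FormallyUnramified) hW₁ _) _,
      IsZariskiLocalAtSource.comp (P := @LocallyOfFiniteType)
      (IsZariskiLocalAtSource.comp (P := @LocallyOfFiniteType) (IsZariskiLocalAtSource.comp
        (P := @LocallyOfFiniteType) (inferInstance : LocallyOfFiniteType (W.ι ≫ π)) _) _) _⟩
  have := hqfu.1
  have := hqfu.2
  have : FormallyUnramified q := FormallyUnramified.of_comp q U₁.ι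
  have : LocallyOfFiniteType q := locallyOfFiniteType_of_comp q U₁.ι
  let l := ε.resLE W'' U₁ (fun t ht => ⟨ht, by show π (ε t) ∈ U₁; rw [hε']; exact ht⟩)
  have hl : l ≫ q = 𝟙 _ := by
    rw [← cancel_mono U₁.ι]
    simp only [l, q, Category.assoc, Scheme.Hom.resLE_comp_ι, Scheme.Hom.resLE_comp_ι_assoc,
      Category.id_comp, hε, Category.comp_id]
  have hlo := Groth.Agent.S5318.isOpenImmersion_of_section q l hl
  let O : X.Opens := (l ≫ W''.ι).opensRange
  have hsU₁ : s ∈ U₁ := hεW'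
  obtain ⟨U₂, hsU₂, hU₂⟩ := exists_open π hcl O s fun x hx => by
    rw [hfib x hx]
    refine ⟨⟨s, hsU₁⟩, ?_⟩
    rw [Scheme.Hom.resLE_comp_ι, Scheme.Hom.comp_apply]
    rfl
  let U := U₂ ⊓ U₁
  refine ⟨U, ⟨hsU₂, hsU₁⟩, ?_⟩
  have hle : U ≤ ε ⁻¹ᵁ (π ⁻¹ᵁ U) := fun t ht => by
    show π (ε t) ∈ U
    rwa [hε']
  let σ := ε.resLE (π ⁻¹ᵁ U) U hle
  have hσ : σ ≫ π ∣_ U = 𝟙 _ := by
    rw [← cancel_mono U.ι]
    simp only [σ, Category.assoc, morphismRestrict_ι, Scheme.Hom.resLE_comp_ι_assoc, Category.id_comp,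
      hε, Category.comp_id]
  have : IsOpenImmersion σ := by
    have : IsOpenImmersion (σ ≫ (π ⁻¹ᵁ U).ι) := by
      have e : σ ≫ (π ⁻¹ᵁ U).ι = S.homOfLE (inf_le_right : U ≤ U₁) ≫ l ≫ W''.ι := by
        simp [σ, l]; rfl
      rw [e]
      infer_instance
    exact IsOpenImmersion.of_comp σ (π ⁻¹ᵁ U).ι
  have : Surjective σ := ⟨fun x => by
    obtain ⟨t, ht⟩ := hU₂ x.1 x.2.1
    rw [Scheme.Hom.resLE_comp_ι, Scheme.Hom.comp_apply] at ht
    have htt : π x.1 = U₁.ι t := by rw [← ht, hε']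
    have htU : U₁.ι t ∈ U := htt ▸ x.2
    refine ⟨⟨U₁.ι t, htU⟩, Subtype.ext ?_⟩
    rw [← ht]
    show ((π ⁻¹ᵁ U).ι (σ _)) = _
    rw [← Scheme.Hom.comp_apply, Scheme.Hom.resLE_comp_ι, Scheme.Hom.comp_apply]
    rfl⟩
  have : IsIso σ := (isIso_iff_isOpenImmersion_and_surjective (f := σ)).mpr ⟨‹_›, ‹_›⟩
  rw [show π ∣_ U = inv σ from (IsIso.inv_eq_of_hom_inv_id hσ).symm]
  infer_instance

end Groth.Agent.S5321
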