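import Groth.Statements.S5323
import Groth.Agent.GrpSGA.NeutralCompact
-- import your own Groth.Agent.* helpers here

set_option autoImplicit false
universe u
open CategoryTheory CategoryTheory.Limits MonoidalCategory CartesianMonoidalCategory MonObj GrpObj AlgebraicGeometry
open SGA3

namespace Groth.Agent.S5323

/-- Let S be a quasi-compact quasi-separated scheme and G an S-group scheme whose fibres G_s are locally
of finite type over κ(s). Then there is a quasi-compact open subset of G containing the union of the
neutral components of the fibres G_s. -/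
theorem result (S : Scheme.{u}) [CompactSpace S] [QuasiSeparatedSpace S]
    (G : Over S) [GrpObj G] (hG : ∀ s : S, LocallyOfFiniteType (G.hom.fiberToSpecResidueField s)) :
    ∃ U : G.left.Opens, IsCompact (U : Set G.left) ∧ SGA3x.neutralSet G ⊆ U := by
  obtain ⟨K, hK, hNK, -⟩ := Groth.Agent.GrpSGA.NeutralCompact.exists_compact G (𝟙 S)
  have key : ∀ y : K, ∃ A : G.left.Opens, IsAffineOpen A ∧ y.1 ∈ A := fun y => by
    obtain ⟨A, hA, hyA, -⟩ := exists_isAffineOpen_mem_and_subset (X := G.left) (U := ⊤) (x := y.1) trivial
    exact ⟨A, hA, hyA⟩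
  choose A hA hyA using key
  obtain ⟨t, ht⟩ := hK.elim_finite_subcover (fun y => (A y : Set G.left)) (fun y => (A y).2)
    fun y hy => Set.mem_iUnion.mpr ⟨⟨y, hy⟩, hyA _⟩
  refine ⟨⨆ y ∈ t, A y, ?_, fun x hx => ?_⟩
  · simp only [TopologicalSpace.Opens.coe_iSup]
    exact t.isCompact_biUnion fun y _ => (hA y).isCompact
  · simp only [TopologicalSpace.Opens.coe_iSup]
    exact ht (hNK ⟨hx, by simp⟩)

end Groth.Agent.S5323
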