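import Groth.Statements.S5326
import Groth.Agent.GrpSGA.Represent
import Groth.Agent.S5325
import Groth.Agent.GrpSGA.NeutralCons

set_option autoImplicit false
universe u
open CategoryTheory CategoryTheory.Limits MonoidalCategory CartesianMonoidalCategory MonObj GrpObj AlgebraicGeometry
open SGA3

namespace Groth.Agent.S5326

open Groth.Agent.GrpSGA

variable {S : Scheme.{u}} (G : Over S) [GrpObj G] [LocallyOfFinitePresentation G.hom]

/-- Over an affine open of the base an open neutral set is quasi-compact. -/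
lemma isCompact_over (hN : IsOpen (SGA3x.neutralSet G)) {V : S.Opens} (hV : IsAffineOpen V) :
    IsCompact (SGA3x.neutralSet G ∩ G.hom ⁻¹' V) := by
  let N : G.left.Opens := ⟨_, hN⟩
  have hc : IsCompact (η[G].left '' (V : Set S)) := hV.isCompact.image η[G].left.continuous
  have hmem : ∀ t ∈ V, η[G].left t ∈ (N ⊓ G.hom ⁻¹ᵁ V : G.left.Opens) := fun t ht =>
    ⟨NeutralCons.unitSec_mem G t, by
      show G.hom (η[G].left t) ∈ V
      rw [show G.hom (η[G].left t) = t from NeutralCons.hom_unitSec G t]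
      exact ht⟩
  have key : ∀ y : η[G].left '' (V : Set S), ∃ A : G.left.Opens, IsAffineOpen A ∧ y.1 ∈ A ∧
      A ≤ N ⊓ G.hom ⁻¹ᵁ V := fun y => by
    obtain ⟨t, ht, e⟩ := y.2
    obtain ⟨A, hA, hyA, hAV⟩ := exists_isAffineOpen_mem_and_subset (hmem t ht)
    exact ⟨A, hA, e ▸ hyA, hAV⟩
  choose A hA hyA hAV using key
  obtain ⟨t, ht⟩ := hc.elim_finite_subcover (fun y => (A y : Set G.left)) (fun y => (A y).2)
    fun y hy => Set.mem_iUnion.mpr ⟨⟨y, hy⟩, hyA _⟩
  let U : G.left.Opens := ⨆ y ∈ t, A y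
  have hUc : IsCompact (U : Set G.left) := by
    simp only [U, TopologicalSpace.Opens.coe_iSup]
    exact t.isCompact_biUnion fun y _ => (hA y).isCompact
  have hU : U ≤ N ⊓ G.hom ⁻¹ᵁ V := iSup₂_le fun y _ => hAV y
  have : CompactSpace U.toScheme := isCompact_iff_compactSpace.mp hUc
  have : IsAffine V.toScheme := hV
  let h' := G.hom.resLE V U (fun x hx => (hU hx).2)
  have hh : h' ≫ V.ι = U.ι ≫ G.hom := Scheme.Hom.resLE_comp_ι _ _
  have : CompactSpace ↥(pullback h' h') :=
    QuasiCompact.compactSpace_of_compactSpace (pullback.fst h' h')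
  let j : pullback h' h' ⟶ (G ⊗ G).left := pullback.map h' h' G.hom G.hom U.ι U.ι V.ι hh hh
  convert isCompact_range (j ≫ μ[G].left).continuous using 1
  refine Set.Subset.antisymm ?_ ?_
  · rintro x ⟨hx, hxV⟩
    have hxU : η[G].left (G.hom x) ∈ U := by
      obtain ⟨y, hy, hyA⟩ := Set.mem_iUnion₂.mp
        (ht (show η[G].left (G.hom x) ∈ η[G].left '' (V : Set S) from ⟨_, hxV, rfl⟩))
      exact TopologicalSpace.Opens.mem_iSup.mpr ⟨y, TopologicalSpace.Opens.mem_iSup.mpr ⟨hy, hyA⟩⟩
    obtain ⟨p, hp₁, hp₂, hp₃⟩ := NeutralCompact.exists_mul G U hxU hx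
    obtain ⟨z, hz⟩ : p ∈ Set.range j := by
      rw [show Set.range j = _ from Scheme.Pullback.range_map ..]
      exact ⟨by rw [Scheme.Opens.range_ι]; exact hp₁, by rw [Scheme.Opens.range_ι]; exact hp₂⟩
    exact ⟨z, by rw [Scheme.Hom.comp_apply, hz, hp₃]⟩
  · rintro _ ⟨z, rfl⟩
    have h1 : (fst G G).left (j z) = U.ι (pullback.fst h' h' z) := by
      show pullback.fst G.hom G.hom (j z) = _
      rw [← Scheme.Hom.comp_apply, pullback.lift_fst, Scheme.Hom.comp_apply]
    have h2 : (snd G G).left (j z) = U.ι (pullback.snd h' h' z) := by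
      show pullback.snd G.hom G.hom (j z) = _
      rw [← Scheme.Hom.comp_apply, pullback.lift_snd, Scheme.Hom.comp_apply]
    have hN' := Neutral.mul_mem (G := G) (T := G ⊗ G) (j z) (fst G G) (snd G G)
      (h1 ▸ (hU (pullback.fst h' h' z).2).1) (h2 ▸ (hU (pullback.snd h' h' z).2).1)
    rw [← mul_eq_mul (M := G)] at hN'
    refine ⟨by rw [Scheme.Hom.comp_apply]; exact hN', ?_⟩
    show G.hom ((j ≫ μ[G].left) z) ∈ V
    have hh2 : G.hom ((fst G G).left (j z)) ∈ V := by
      rw [h1]; exact (hU (pullback.fst h' h' z).2).2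
    rwa [Scheme.Hom.comp_apply, ← Scheme.Hom.comp_apply μ[G].left G.hom,
      show μ[G].left ≫ G.hom = (fst G G).left ≫ G.hom from (Over.w μ[G]).trans (Over.w (fst G G)).symm,
      Scheme.Hom.comp_apply]

/-- Let G be an S-group scheme locally of finite presentation over S, and suppose the neutral component
subfunctor of G is representable: there is a monomorphism i : G⁰ → G of S-schemes such that a point
g : T → G factors through i exactly when the image of the underlying map of g lies in the union of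
the neutral components of the fibres G_s. Then i is an open immersion and G⁰ is quasi-compact over
S. -/
theorem result (S : Scheme.{u}) (G : Over S) [GrpObj G]
    [LocallyOfFinitePresentation G.hom] (G0 : Over S) (i : G0 ⟶ G) [Mono i]
    (hrep : ∀ (T : Over S) (g : T ⟶ G), (∃ z : T ⟶ G0, z ≫ i = g) ↔ Set.range g.left.base ⊆ SGA3x.neutralSet G) :
    IsOpenImmersion i.left ∧ QuasiCompact G0.hom := by
  have hrange : Set.range i.left ⊆ SGA3x.neutralSet G := (hrep G0 i).mp ⟨𝟙 _, Category.id_comp _⟩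
  obtain ⟨hopen, himm, hr⟩ := Groth.Agent.GrpSGA.Represent.isOpenImmersion_of_represents i.left
    (Groth.Agent.S5325.result S G).1 hrange (fun T g hg => by
      obtain ⟨z, hz⟩ := (hrep (Over.mk (g ≫ G.hom)) (Over.homMk g)).mpr hg
      exact ⟨z.left, congrArg CommaMorphism.left hz⟩)
  refine ⟨himm, ?_⟩
  rw [quasiCompact_iff_forall_isAffineOpen]
  intro V hV
  rw [i.left.isOpenEmbedding.isInducing.isCompact_iff]
  convert isCompact_over G hopen hV using 1
  ext x
  constructor
  · rintro ⟨z, hz, rfl⟩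
    refine ⟨hr.le ⟨z, rfl⟩, ?_⟩
    show G.hom (i.left z) ∈ V
    rw [← Scheme.Hom.comp_apply, Over.w i]
    exact hz
  · rintro ⟨hx, hxV⟩
    obtain ⟨z, rfl⟩ := hr.ge hx
    refine ⟨z, ?_, rfl⟩
    show G0.hom z ∈ V
    rw [← Over.w i, Scheme.Hom.comp_apply]
    exact hxV

end Groth.Agent.S5326
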