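import Groth.Statements.S5327
import Groth.Agent.GrpSGA.Fibre
import Groth.Agent.GrpSGA.FibreCrit
import Groth.Agent.GrpScheme.Points
-- import your own Groth.Agent.* helpers here

set_option autoImplicit false
universe u
open CategoryTheory CategoryTheory.Limits MonoidalCategory CartesianMonoidalCategory MonObj GrpObj AlgebraicGeometry
open SGA3

namespace Groth.Agent.S5327

/-- Let G be an S-group scheme whose fibres are locally of finite type over κ(s), and let i : H → G be a
homomorphism of S-group schemes which is an open immersion (an open subgroup scheme). Then the union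
G⁰ of the neutral components of the fibres of G is contained in the image of i, and G⁰ is the image
under i of the union H⁰ of the neutral components of the fibres of H. -/
theorem result (S : Scheme.{u}) (G H : Over S) [GrpObj G] [GrpObj H]
    (hG : ∀ s : S, LocallyOfFiniteType (G.hom.fiberToSpecResidueField s)) (i : H ⟶ G) [IsMonHom i]
    [IsOpenImmersion i.left] :
    SGA3x.neutralSet G ⊆ Set.range i.left.base ∧ i.left.base '' SGA3x.neutralSet H = SGA3x.neutralSet G := by
  open Groth.Agent.GrpSGA Groth.Agent.GrpScheme in
  have key : ∀ s : S,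
      connectedComponent (IdComponent.e₀ (Fibre.fib G s)) ⊆ Set.range (FibreCrit.fibMap i s).left ∧
      (FibreCrit.fibMap i s).left '' connectedComponent (IdComponent.e₀ (Fibre.fib H s)) =
        connectedComponent (IdComponent.e₀ (Fibre.fib G s)) := by
    intro s
    let j := FibreCrit.fibMap i s
    have : IsOpenImmersion j.left := MorphismProperty.of_isPullback (FibreCrit.isPullback_fibMap i s) ‹IsOpenImmersion i.left›
    have he : j.left (IdComponent.e₀ (Fibre.fib H s)) = IdComponent.e₀ (Fibre.fib G s) := by
      rw [← Points.comp_apply, IsMonHom.one_hom j]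
    have hclopen : IsClopen (Set.range j.left) :=
      ⟨Points.isClosed_range_of_isLocallyClosed j j.left.isOpenEmbedding.isOpen_range.isLocallyClosed,
        j.left.isOpenEmbedding.isOpen_range⟩
    have hsub := hclopen.connectedComponent_subset ⟨_, he⟩
    refine ⟨hsub, subset_antisymm ?_ fun x hx => ?_⟩
    · have := j.left.continuous.image_connectedComponent_subset (IdComponent.e₀ (Fibre.fib H s))
      rwa [he] at this
    · obtain ⟨y, rfl⟩ := hsub hx
      refine ⟨y, ?_, rfl⟩
      have hpre : _root_.IsPreconnected (j.left ⁻¹' connectedComponent (IdComponent.e₀ (Fibre.fib G s))) := by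
        rw [← j.left.isOpenEmbedding.isEmbedding.isInducing.isPreconnected_image,
          Set.image_preimage_eq_of_subset hsub]
        exact isPreconnected_connectedComponent
      refine hpre.subset_connectedComponent ?_ hx
      show j.left _ ∈ connectedComponent (IdComponent.e₀ (Fibre.fib G s))
      rw [he]
      exact mem_connectedComponent
  open Groth.Agent.GrpSGA Groth.Agent.GrpScheme in
  have hι : ∀ (s : S) (w : (Fibre.fib H s).left),
      i.left (Fibre.fibι H s w) = Fibre.fibι G s ((FibreCrit.fibMap i s).left w) := fun s w => by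
    rw [← Scheme.Hom.comp_apply, ← Scheme.Hom.comp_apply, (FibreCrit.isPullback_fibMap i s).w]
  open Groth.Agent.GrpSGA Groth.Agent.GrpScheme in
  have hN : SGA3x.neutralSet G ⊆ i.left.base '' SGA3x.neutralSet H := by
    intro x hx
    obtain ⟨y, hy⟩ := Fibre.exists_mem_fib G (x := x) (s := G.hom x) rfl
    generalize G.hom x = s at y hy
    subst hy
    rw [Fibre.mem_neutralSet_iff, ← (key s).2] at hx
    obtain ⟨w, hw, rfl⟩ := hx
    exact ⟨Fibre.fibι H s w, (Fibre.mem_neutralSet_iff H s w).mpr hw, hι s w⟩
  refine ⟨hN.trans (Set.image_subset_range _ _), subset_antisymm ?_ hN⟩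
  open Groth.Agent.GrpSGA Groth.Agent.GrpScheme in
  rintro _ ⟨z, hz, rfl⟩
  obtain ⟨w, hw⟩ := Groth.Agent.GrpSGA.Fibre.exists_mem_fib H (x := z) (s := H.hom z) rfl
  generalize H.hom z = s at w hw
  subst hw
  rw [Groth.Agent.GrpSGA.Fibre.mem_neutralSet_iff] at hz
  rw [hι, Groth.Agent.GrpSGA.Fibre.mem_neutralSet_iff, ← (key s).2]
  exact ⟨w, hz, rfl⟩

end Groth.Agent.S5327
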