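import Groth.Statements.S5328
import Groth.Agent.GrpSGA.FibreCrit
import Groth.Agent.GrpSGA.FieldComp
import Groth.Agent.GrpScheme.IdSubgroup

set_option autoImplicit false
universe u
open CategoryTheory CategoryTheory.Limits MonoidalCategory CartesianMonoidalCategory MonObj GrpObj AlgebraicGeometry
open SGA3

namespace Groth.Agent.S5328

open Groth.Agent.GrpScheme Groth.Agent.GrpSGA Groth.Agent.GrpSGA.LocalProp Groth.Agent.GrpSGA.Fibre
  Groth.Agent.GrpSGA.FibreCrit

section Field

variable {K : Type u} [Field K] {A B : Over (Spec (CommRingCat.of K))} [GrpObj A] [GrpObj B]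
  [LocallyOfFiniteType A.hom] [LocallyOfFiniteType B.hom] (v : A ⟶ B) [IsMonHom v]

/-- A flat homomorphism maps the neutral component onto the neutral component. -/
lemma image_component [Flat v.left] :
    v.left '' connectedComponent (IdComponent.e₀ A) = connectedComponent (IdComponent.e₀ B) := by
  have : IsLocallyNoetherian B.left := LocallyOfFiniteType.isLocallyNoetherian B.hom
  have : LocallyOfFiniteType (v.left ≫ B.hom) := by rw [Over.w]; infer_instance
  have : LocallyOfFiniteType v.left := locallyOfFiniteType_of_comp v.left B.hom
  have : LocallyOfFinitePresentation v.left := inferInstance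
  have he : v.left (IdComponent.e₀ A) = IdComponent.e₀ B := by
    rw [IdComponent.e₀, IdComponent.e₀, ← Points.comp_apply, IsMonHom.one_hom]
  have hopen : IsOpen (v.left '' connectedComponent (IdComponent.e₀ A)) := by
    rw [(FieldComp.connectedComponent_eq A _).1]
    exact v.left.isOpenMap _ (FieldComp.connectedComponent_eq A _).2
  have hrange : Set.range (IdSubgroup.incl A ≫ v).left = v.left '' connectedComponent (IdComponent.e₀ A) := by
    rw [Over.comp_left, Scheme.Hom.comp_base, TopCat.coe_comp, Set.range_comp, IdSubgroup.range_incl]
  have hcl : IsClosed (v.left '' connectedComponent (IdComponent.e₀ A)) := by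
    rw [← hrange]
    exact Points.isClosed_range_of_isLocallyClosed _ (hrange.symm ▸ hopen.isLocallyClosed)
  refine Set.Subset.antisymm ?_ (IsClopen.connectedComponent_subset ⟨hcl, hopen⟩ ⟨_, mem_connectedComponent, he⟩)
  exact (isPreconnected_connectedComponent.image _ v.left.continuous.continuousOn).subset_connectedComponent
    ⟨_, mem_connectedComponent, he⟩

/-- Onto a reduced group a homomorphism which is surjective on neutral components is flat. -/
lemma flat_of_image_component [IsReduced B.left]
    (h : v.left '' connectedComponent (IdComponent.e₀ A) = connectedComponent (IdComponent.e₀ B)) :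
    Flat v.left := by
  obtain ⟨ξ, hξ⟩ := QuasiSober.sober (isIrreducible_irreducibleComponent (x := IdComponent.e₀ B))
    isClosed_irreducibleComponent
  have hmax : Component.IsMaxGen ξ := Component.isMaxGen_iff.mpr
    (hξ.def.symm ▸ irreducibleComponent_mem_irreducibleComponents _)
  obtain ⟨a, -, ha⟩ := h.ge ((FieldComp.connectedComponent_eq B (IdComponent.e₀ B)).1.symm ▸ hξ.mem)
  have hflat : flatAt v.left a := by
    have hF := HomFlat.isField_stalk hmax
    rw [← ha] at hF
    letI := hF.toField
    letI := (v.left.stalkMap a).hom.toAlgebra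
    show Module.Flat (B.left.presheaf.stalk (v.left a)) (A.left.presheaf.stalk a)
    infer_instance
  refine Flat.of_stalkMap _ fun x => ?_
  exact (Translate.hom_iff_of_same_fibre (R := @Flat) bc_flatAt desc_flatAt
    (fun y => atPt_of_mem (P := @Flat) A.hom (inferInstance : Flat A.hom) y) v
    (Subsingleton.elim (α := ↥(Spec (CommRingCat.of K))) (A.hom x) (A.hom a))).mpr hflat

end Field

/-- Let u : G → H be a homomorphism between S-group schemes locally of finite presentation over S, and
let G⁰, H⁰ be the unions of the neutral components of the fibres. If u is flat then u(G⁰) = H⁰.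
Conversely, if G is flat over S, the fibres H_s are reduced and u(G⁰) = H⁰, then u is flat. -/
theorem result (S : Scheme.{u}) (G H : Over S) [GrpObj G] [GrpObj H]
    [LocallyOfFinitePresentation G.hom] [LocallyOfFinitePresentation H.hom] (u : G ⟶ H) [IsMonHom u] :
    (Flat u.left → u.left.base '' SGA3x.neutralSet G = SGA3x.neutralSet H) ∧
    (Flat G.hom → (∀ s : S, IsReduced (H.hom.fiber s)) → u.left.base '' SGA3x.neutralSet G = SGA3x.neutralSet H →
      Flat u.left) := by
  have hG : ∀ s : S, LocallyOfFiniteType (fib G s).hom := fun s =>
    MorphismProperty.pullback_snd _ _ (inferInstanceAs (LocallyOfFiniteType G.hom))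
  have hH : ∀ s : S, LocallyOfFiniteType (fib H s).hom := fun s =>
    MorphismProperty.pullback_snd _ _ (inferInstanceAs (LocallyOfFiniteType H.hom))
  have hcomm : ∀ (s : S) (y : (fib G s).left),
      u.left (fibι G s y) = fibι H s ((fibMap u s).left y) := fun s y => by
    rw [← Scheme.Hom.comp_apply, (isPullback_fibMap u s).w, Scheme.Hom.comp_apply]
  refine ⟨fun hflat => ?_, fun hflat hred himg => ?_⟩
  · have himage : ∀ s, (fibMap u s).left '' connectedComponent (IdComponent.e₀ (fib G s)) =
        connectedComponent (IdComponent.e₀ (fib H s)) := fun s => by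
      have : Flat (fibMap u s).left := MorphismProperty.of_isPullback (isPullback_fibMap u s) hflat
      have := hG s
      have := hH s
      exact image_component (fibMap u s)
    ext x
    constructor
    · rintro ⟨g, hg, rfl⟩
      obtain ⟨y, hy⟩ := exists_mem_fib G (x := g) (s := G.hom g) rfl
      generalize G.hom g = s at y hy
      subst hy
      rw [hcomm, mem_neutralSet_iff]
      exact (himage s).le ⟨y, (mem_neutralSet_iff G _ y).mp hg, rfl⟩
    · intro hx
      obtain ⟨y, hy⟩ := exists_mem_fib H (x := x) (s := H.hom x) rfl
      generalize H.hom x = s at y hy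
      subst hy
      obtain ⟨z, hz, hzy⟩ := (himage s).ge ((mem_neutralSet_iff H _ y).mp hx)
      exact ⟨_, (mem_neutralSet_iff G _ z).mpr hz, by rw [hcomm, hzy]⟩
  · refine Flat.of_stalkMap _ fun g => ?_
    obtain ⟨y, hy⟩ := exists_mem_fib G (x := g) (s := G.hom g) rfl
    generalize G.hom g = s at y hy
    subst hy
    have := hG s
    have := hH s
    have : IsReduced (fib H s).left := hred s
    have him : (fibMap u s).left '' connectedComponent (IdComponent.e₀ (fib G s)) =
        connectedComponent (IdComponent.e₀ (fib H s)) := by
      ext z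
      constructor
      · rintro ⟨a, ha, rfl⟩
        rw [← mem_neutralSet_iff, ← hcomm, ← himg]
        exact ⟨_, (mem_neutralSet_iff G _ a).mpr ha, rfl⟩
      · intro hz
        obtain ⟨a, ha, haz⟩ := himg.ge ((mem_neutralSet_iff H _ z).mpr hz)
        have has : G.hom a = s := by
          rw [← Over.w u, Scheme.Hom.comp_apply, haz, hom_fibι]
        obtain ⟨b, rfl⟩ := exists_mem_fib G has
        exact ⟨b, (mem_neutralSet_iff G _ b).mp ha,
          (isEmbedding_fibι H s).injective ((hcomm s b).symm.trans haz)⟩
    have := flat_of_image_component (fibMap u s) him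
    exact fib_flatAt u y (Flat.stalkMap (fibMap u s).left y)

end Groth.Agent.S5328
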