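import Groth.Statements.S5331
import Groth.Agent.GrpScheme.Basic
-- import your own Groth.Agent.* helpers here

set_option autoImplicit false
universe u
open CategoryTheory CategoryTheory.Limits MonoidalCategory CartesianMonoidalCategory MonObj GrpObj AlgebraicGeometry
open SGA3

namespace Groth.Agent.S5331

/-- Let S be a scheme whose underlying topological space is discrete. Then every S-group scheme is
separated over S. -/
theorem result (S : Scheme.{u}) [DiscreteTopology S] (G : Over S) [GrpObj G] :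
    IsSeparated G.hom := by
  suffices h : IsClosedImmersion η[G].left from
    ⟨Groth.Agent.GrpScheme.Basic.diagonal_mem @IsClosedImmersion h⟩
  have himm : IsImmersion η[G].left := by
    have : IsImmersion (η[G].left ≫ G.hom) := by rw [Over.w]; exact inferInstanceAs (IsImmersion (𝟙 S))
    exact IsImmersion.of_comp η[G].left G.hom
  refine IsClosedImmersion.of_isPreimmersion η[G].left ?_
  refine isClosed_of_closure_subset fun y hy => ?_
  let V : S.Opens := ⟨{G.hom y}, isOpen_discrete _⟩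
  obtain ⟨U, hU, hyU, hUV⟩ : ∃ U : G.left.Opens, IsAffineOpen U ∧ y ∈ U ∧ (U : Set G.left) ⊆ (G.hom ⁻¹ᵁ V : G.left.Opens) := by
    obtain ⟨_, ⟨U, hU, rfl⟩, hyU, hUV⟩ := G.left.isBasis_affineOpens.exists_subset_of_mem_open
      (show y ∈ G.hom ⁻¹ᵁ V from rfl) (G.hom ⁻¹ᵁ V).2
    exact ⟨U, hU, hyU, hUV⟩
  let ηV : (V : Scheme.{u}) ⟶ G.left := V.ι ≫ η[G].left
  have hmem : ∀ p : (V : Scheme.{u}), ηV p = η[G].left (G.hom y) := fun p => by
    rw [Scheme.Hom.comp_apply]
    exact congrArg _ (show V.ι p = G.hom y from (p.2 : _))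
  by_contra hyr
  obtain ⟨z, hzU, p, rfl⟩ := mem_closure_iff.mp hy U U.2 hyU
  have hp : ∀ q, η[G].left q ∈ U → q = G.hom y := fun q hq => by
    have h1 : G.hom (η[G].left q) = G.hom y := hUV hq
    rw [← Scheme.Hom.comp_apply, Over.w] at h1
    exact h1
  rw [hp p hzU] at hzU
  have hrange : Set.range ηV ⊆ Set.range U.ι := by
    rintro _ ⟨q, rfl⟩
    rw [hmem, Scheme.Opens.range_ι]
    exact hzU
  let f := IsOpenImmersion.lift U.ι ηV hrange
  have hf : f ≫ U.ι ≫ G.hom = V.ι := by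
    rw [IsOpenImmersion.lift_fac_assoc, Category.assoc, Over.w]
    exact Category.comp_id _
  let g : (U : Scheme.{u}) ⟶ V := IsOpenImmersion.lift V.ι (U.ι ≫ G.hom) (by
    rintro _ ⟨v, rfl⟩
    rw [Scheme.Opens.range_ι]
    exact hUV v.2)
  have : IsAffine (U : Scheme.{u}) := hU
  have hfg : f ≫ g = 𝟙 _ := by
    rw [← cancel_mono V.ι, Category.assoc, IsOpenImmersion.lift_fac, hf, Category.id_comp]
  have : IsClosedImmersion (f ≫ g) := by rw [hfg]; infer_instance
  have : IsClosedImmersion f := IsClosedImmersion.of_comp f g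
  have hfv : ∀ q, U.ι (f q) = η[G].left (G.hom y) := fun q => by
    rw [← hmem q, ← Scheme.Hom.comp_apply, IsOpenImmersion.lift_fac]
  obtain ⟨z, hz, q, rfl⟩ := mem_closure_iff.mp hy (U.ι '' (Set.range f)ᶜ)
    (U.ι.isOpenEmbedding.isOpenMap _ f.isClosedEmbedding.isClosed_range.isOpen_compl)
    ⟨⟨y, hyU⟩, fun ⟨q, hq⟩ => hyr ⟨G.hom y, by rw [← hfv q, hq]; rfl⟩, rfl⟩
  obtain ⟨v, hv, hve⟩ := hz
  have hq : η[G].left q ∈ U := by rw [← hve]; exact v.2
  rw [hp q hq] at hve
  refine hv ⟨⟨G.hom y, rfl⟩, U.ι.isOpenEmbedding.injective ?_⟩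
  rw [hfv, hve]

end Groth.Agent.S5331
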