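import Groth.Statements.S5333
import Groth.Agent.RedSub.Basic
-- import your own Groth.Agent.* helpers here

set_option autoImplicit false
universe u
open CategoryTheory CategoryTheory.Limits MonoidalCategory CartesianMonoidalCategory MonObj GrpObj AlgebraicGeometry
open SGA3

namespace Groth.Agent.S5333

/-- (i) ⟺ (iii) ⟺ (iv'): let f : X → S be a morphism of schemes. Then X is separated over S if and only
if for every reduced scheme T and every two morphisms T → X with the same composite to S which agree
on a dense open subscheme of T are equal; and X is separated over S if and only if every two points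
of X in the same fibre over S lie in a common open subscheme of X which is separated over S. -/
theorem result (X S : Scheme.{u}) (f : X ⟶ S) :
    (IsSeparated f ↔ ∀ (T : Scheme.{u}) [IsReduced T] (g₁ g₂ : T ⟶ X) (U : T.Opens), g₁ ≫ f = g₂ ≫ f →
      Dense (U : Set T) → U.ι ≫ g₁ = U.ι ≫ g₂ → g₁ = g₂) ∧
    (IsSeparated f ↔ ∀ x₁ x₂ : X, f.base x₁ = f.base x₂ →
      ∃ V : X.Opens, x₁ ∈ V ∧ x₂ ∈ V ∧ IsSeparated (V.ι ≫ f)) := by
  have key1 : IsSeparated f → ∀ (T : Scheme.{u}) [IsReduced T] (g₁ g₂ : T ⟶ X) (U : T.Opens),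
      g₁ ≫ f = g₂ ≫ f → Dense (U : Set T) → U.ι ≫ g₁ = U.ι ≫ g₂ → g₁ = g₂ := by
    intro _ T _ g₁ g₂ U h hd hU
    have : IsDominant U.ι := ⟨by
      show Dense (Set.range U.ι)
      rw [Scheme.Opens.range_ι]
      exact hd⟩
    exact ext_of_isDominant_of_isSeparated f h U.ι hU
  have hΔ : IsImmersion (pullback.diagonal f) := inferInstance
  refine ⟨⟨key1, fun H => ⟨IsClosedImmersion.of_isPreimmersion _ ?_⟩⟩,
    ⟨fun _ x₁ x₂ _ => ⟨⊤, trivial, trivial, MorphismProperty.comp_mem _ _ _ inferInstance ‹_›⟩,
      fun H => ⟨IsClosedImmersion.of_isPreimmersion _ ?_⟩⟩⟩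
  · let Z : TopologicalSpace.Closeds ↥(pullback f f) := ⟨closure (Set.range (pullback.diagonal f)), isClosed_closure⟩
    let I := Scheme.IdealSheafData.vanishingIdeal Z
    have hr : Set.range I.subschemeι = closure (Set.range (pullback.diagonal f)) :=
      (Scheme.IdealSheafData.range_subschemeι _).trans
        (Scheme.IdealSheafData.coe_support_vanishingIdeal _)
    obtain ⟨O, hO, hOr⟩ : ∃ O : (pullback f f).Opens,
        Set.range (pullback.diagonal f) = (O : Set ↥(pullback f f)) ∩ closure (Set.range (pullback.diagonal f)) ∧ True := by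
      obtain ⟨O, Zc, hO, hZc, he⟩ := (pullback.diagonal f).isLocallyClosed_range
      refine ⟨⟨O, hO⟩, subset_antisymm (fun x hx => ⟨(he ▸ hx : x ∈ O ∩ Zc).1, subset_closure hx⟩) ?_, trivial⟩
      rintro x ⟨hxO, hxc⟩
      rw [he]
      exact ⟨hxO, hZc.closure_subset_iff.mpr (by rw [he]; exact Set.inter_subset_right) hxc⟩
    let U : I.subscheme.Opens := I.subschemeι ⁻¹ᵁ O
    have hd : Dense (U : Set I.subscheme) := by
      rw [I.subschemeι.isEmbedding.isInducing.dense_iff]
      intro x
      refine closure_mono ?_ (hr.le ⟨x, rfl⟩)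
      intro z hz
      obtain ⟨hzO, hzc⟩ := hO.le hz
      obtain ⟨w, rfl⟩ := hr.ge hzc
      exact ⟨w, hzO, rfl⟩
    have : IsReduced I.subscheme := Groth.Agent.RedSub.isReduced_vanishingIdeal Z
    have hcov : ∀ w : (U : Scheme.{u}), (U.ι ≫ I.subschemeι) w ∈ Set.range (pullback.diagonal f) := fun w => by
      rw [hO, Scheme.Hom.comp_apply]
      exact ⟨w.2, hr.le ⟨_, rfl⟩⟩
    have : IsReduced (U : Scheme.{u}) := inferInstance
    let W := pullback (U.ι ≫ I.subschemeι) (pullback.diagonal f)
    have : Surjective (pullback.fst (U.ι ≫ I.subschemeι) (pullback.diagonal f)) := ⟨fun w => by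
      obtain ⟨x, hx⟩ := hcov w
      obtain ⟨p, hp, -⟩ := Scheme.Pullback.exists_preimage_pullback
        (f := U.ι ≫ I.subschemeι) (g := pullback.diagonal f) w x hx.symm
      exact ⟨p, hp⟩⟩
    have : IsClosedImmersion (pullback.fst (U.ι ≫ I.subschemeι) (pullback.diagonal f)) :=
      IsClosedImmersion.of_isPreimmersion _ (by
        rw [Function.Surjective.range_eq (pullback.fst (U.ι ≫ I.subschemeι) (pullback.diagonal f)).surjective]
        exact isClosed_univ)
    have : IsIso (pullback.fst (U.ι ≫ I.subschemeι) (pullback.diagonal f)) :=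
      by
        have : IsDominant (pullback.fst (U.ι ≫ I.subschemeι) (pullback.diagonal f)) :=
          ⟨(pullback.fst (U.ι ≫ I.subschemeι) (pullback.diagonal f)).surjective.denseRange⟩
        have := IsSchemeTheoreticallyDominant.of_isDominant (pullback.fst (U.ι ≫ I.subschemeι) (pullback.diagonal f))
        exact IsClosedImmersion.isIso_iff_ker_eq_bot.mpr (Scheme.Hom.ker_eq_bot _)
    have hU : U.ι ≫ I.subschemeι ≫ pullback.fst f f = U.ι ≫ I.subschemeι ≫ pullback.snd f f := by
      rw [← cancel_epi (pullback.fst (U.ι ≫ I.subschemeι) (pullback.diagonal f))]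
      simp only [← Category.assoc]
      rw [Category.assoc _ U.ι, pullback.condition, Category.assoc, Category.assoc, pullback.diagonal_fst,
        pullback.diagonal_snd]
    have he := H I.subscheme (I.subschemeι ≫ pullback.fst f f) (I.subschemeι ≫ pullback.snd f f) U
      (by rw [Category.assoc, Category.assoc, pullback.condition]) hd hU
    have hfac : (I.subschemeι ≫ pullback.fst f f) ≫ pullback.diagonal f = I.subschemeι := by
      apply pullback.hom_ext
      · simp
      · rw [Category.assoc, pullback.diagonal_snd, Category.comp_id, he]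
    refine isClosed_of_closure_subset fun z hz => ?_
    obtain ⟨w, rfl⟩ := hr.ge hz
    exact ⟨_, (Scheme.Hom.comp_apply _ _ _).symm.trans congr(($hfac) w)⟩
  · refine isClosed_of_closure_subset fun z hz => ?_
    have hzf : f (pullback.fst f f z) = f (pullback.snd f f z) := by
      rw [← Scheme.Hom.comp_apply, ← Scheme.Hom.comp_apply, pullback.condition]
    obtain ⟨V, hV₁, hV₂, _⟩ := H _ _ hzf
    let j : pullback (V.ι ≫ f) (V.ι ≫ f) ⟶ pullback f f :=
      pullback.map _ _ _ _ V.ι V.ι (𝟙 S) (by simp) (by simp)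
    obtain ⟨z', rfl⟩ : z ∈ Set.range j := by
      rw [show Set.range j = _ from Scheme.Pullback.range_map ..]
      exact ⟨by rw [Scheme.Opens.range_ι]; exact hV₁, by rw [Scheme.Opens.range_ι]; exact hV₂⟩
    have : IsOpenImmersion j := inferInstance
    have hcl := (pullback.diagonal (V.ι ≫ f)).isClosedEmbedding.isClosed_range
    have hjd : pullback.diagonal (V.ι ≫ f) ≫ j = V.ι ≫ pullback.diagonal f := by
      apply pullback.hom_ext
      · simp only [j, Category.assoc]
        erw [pullback.lift_fst, pullback.diagonal_fst_assoc]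
        simp
      · simp only [j, Category.assoc]
        erw [pullback.lift_snd, pullback.diagonal_snd_assoc]
        simp
    by_contra hn
    have hz' : z' ∉ Set.range (pullback.diagonal (V.ι ≫ f)) := by
      rintro ⟨v, rfl⟩
      exact hn ⟨V.ι v, by rw [← Scheme.Hom.comp_apply, ← hjd, Scheme.Hom.comp_apply]⟩
    obtain ⟨w, ⟨w', hw', hww⟩, x, rfl⟩ := mem_closure_iff.mp hz _
      (j.isOpenEmbedding.isOpenMap _ hcl.isOpen_compl) ⟨z', hz', rfl⟩
    have hxV : x ∈ V := by
      have h : pullback.fst f f (j w') ∈ (V : Set X) := by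
        rw [← Scheme.Hom.comp_apply, show j ≫ pullback.fst f f = pullback.fst _ _ ≫ V.ι from
          pullback.lift_fst _ _ _, Scheme.Hom.comp_apply]
        exact (pullback.fst (V.ι ≫ f) (V.ι ≫ f) w').2
      rw [congrArg (pullback.fst f f) hww, ← Scheme.Hom.comp_apply, pullback.diagonal_fst] at h
      exact h
    refine hw' ⟨⟨x, hxV⟩, j.isOpenEmbedding.injective ?_⟩
    rw [hww, ← Scheme.Hom.comp_apply, hjd, Scheme.Hom.comp_apply]
    rfl

end Groth.Agent.S5333
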