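import Groth.Statements.S5335
import Groth.Agent.GrpSGA.ArtThick
import Groth.Agent.GrpScheme.Basic
-- import your own Groth.Agent.* helpers here

set_option autoImplicit false
universe u
open CategoryTheory CategoryTheory.Limits MonoidalCategory CartesianMonoidalCategory MonObj GrpObj AlgebraicGeometry
open SGA3

namespace Groth.Agent.S5335

/-- Let A be a local artinian ring and f : X' → X, g : Y' → Y two quasi-compact dominant morphisms of
schemes over A. Then the product morphism f ×_A g : X' ×_A Y' → X ×_A Y is dominant (and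
quasi-compact). -/
theorem result (A : Type u) [CommRing A] [IsArtinianRing A] [IsLocalRing A] (X X' Y Y' : Over (Spec (CommRingCat.of A)))
    (f : X' ⟶ X) (g : Y' ⟶ Y) [QuasiCompact f.left] [QuasiCompact g.left]
    (hf : DenseRange f.left.base) (hg : DenseRange g.left.base) :
    DenseRange (f ⊗ₘ g).left.base ∧ QuasiCompact (f ⊗ₘ g).left := by
  open Groth.Agent.GrpScheme Groth.Agent.GrpSGA in
  have h₁ : DenseRange (f ▷ Y').left.base := ArtThick.denseRange_of_isPullback (f := f.left)
    ((Basic.isPullback_whiskerRight f (R := Y')).flip.map (Over.forget _))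
    (ArtThick.generalizingMap_fst X.hom Y'.hom) hf
  open Groth.Agent.GrpScheme Groth.Agent.GrpSGA in
  have h₂ : DenseRange (X ◁ g).left.base := by
    have hg' : GeneralizingMap (snd X Y).left := by
      have e : (snd X Y).left = (pullbackSymmetry X.hom Y.hom).hom ≫ pullback.fst Y.hom X.hom :=
        (pullbackSymmetry_hom_comp_fst X.hom Y.hom).symm
      intro z y hy
      rw [e, Scheme.Hom.comp_apply] at hy
      obtain ⟨w, hw, rfl⟩ := ArtThick.generalizingMap_fst Y.hom X.hom hy
      refine ⟨(pullbackSymmetry X.hom Y.hom).inv w, ?_, ?_⟩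
      · have := hw.map (pullbackSymmetry X.hom Y.hom).inv.continuous
        rwa [← Scheme.Hom.comp_apply, Iso.hom_inv_id] at this
      · rw [e, ← Scheme.Hom.comp_apply, Iso.inv_hom_id_assoc]
    exact ArtThick.denseRange_of_isPullback (f := g.left)
      ((Basic.isPullback_whiskerLeft g (R := X)).flip.map (Over.forget _)) hg' hg
  have q₁ : QuasiCompact (f ▷ Y').left := Groth.Agent.GrpScheme.Basic.whiskerRight_mem @QuasiCompact f Y' inferInstance
  have q₂ : QuasiCompact (X ◁ g).left := Groth.Agent.GrpScheme.Basic.whiskerLeft_mem @QuasiCompact g X inferInstance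
  rw [MonoidalCategory.tensorHom_def, Over.comp_left]
  refine ⟨?_, inferInstance⟩
  rw [Scheme.Hom.comp_base, TopCat.coe_comp]
  exact h₂.comp h₁ (X ◁ g).left.continuous

end Groth.Agent.S5335
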