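import Groth.Statements.S5336
import Groth.Agent.GrpSGA.Translate
import Groth.Agent.GrpSGA.ArtThick
-- import your own Groth.Agent.* helpers here

set_option autoImplicit false
universe u
open CategoryTheory CategoryTheory.Limits MonoidalCategory CartesianMonoidalCategory MonObj GrpObj AlgebraicGeometry
open SGA3

namespace Groth.Agent.S5336

/-- Let A be a local artinian ring, G an A-group scheme which is flat and locally of finite type over A,
and u : G → H a homomorphism of A-group schemes. If u is flat at some point x of G (the local ring
of G at x is flat over the local ring of H at u(x)), then u is flat. -/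
theorem result (A : Type u) [CommRing A] [IsArtinianRing A] [IsLocalRing A] (G H : Over (Spec (CommRingCat.of A))) [GrpObj G] [GrpObj H]
    [Flat G.hom] [LocallyOfFiniteType G.hom] (u : G ⟶ H) [IsMonHom u]
    (h : ∃ x : G.left, (u.left.stalkMap x).hom.Flat) : Flat u.left := by
  obtain ⟨g, hg⟩ := h
  exact Flat.of_stalkMap _ fun x => (Groth.Agent.GrpSGA.Translate.hom_iff_of_same_fibre
    Groth.Agent.GrpSGA.LocalProp.bc_flatAt Groth.Agent.GrpSGA.LocalProp.desc_flatAt
    (fun y => Groth.Agent.GrpSGA.LocalProp.atPt_of_mem _ ‹Flat G.hom› y) u
    (Subsingleton.elim (α := ↥(Spec (CommRingCat.of A))) _ _)).mp hg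

end Groth.Agent.S5336
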