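import Groth.Statements.S5337
import Groth.Agent.GrpSGA.Translate
import Groth.Agent.GrpSGA.ArtThick
import Groth.Agent.GrpSGA.LocalQF
-- import your own Groth.Agent.* helpers here

set_option autoImplicit false
universe u
open CategoryTheory CategoryTheory.Limits MonoidalCategory CartesianMonoidalCategory MonObj GrpObj AlgebraicGeometry
open SGA3

namespace Groth.Agent.S5337

/-- Quasi-finite, unramified, smooth and etale cases: let A be a local artinian ring, G an A-group
scheme which is flat and locally of finite type over A, and u : G → H a homomorphism of A-group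
schemes. If u is locally quasi-finite (resp. unramified, that is formally unramified and locally of
finite presentation, resp. smooth, resp. etale) on some nonempty open subscheme of G, then u is
locally quasi-finite (resp. unramified, resp. smooth, resp. etale). (Here u is automatically locally
of finite type.) -/
theorem result (A : Type u) [CommRing A] [IsArtinianRing A] [IsLocalRing A] (G H : Over (Spec (CommRingCat.of A))) [GrpObj G] [GrpObj H]
    [Flat G.hom] [LocallyOfFiniteType G.hom] (u : G ⟶ H) [IsMonHom u] (W : G.left.Opens) (hW : (W : Set G.left).Nonempty) :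
    (LocallyQuasiFinite (W.ι ≫ u.left) → LocallyQuasiFinite u.left) ∧
    (FormallyUnramified (W.ι ≫ u.left) → LocallyOfFinitePresentation (W.ι ≫ u.left) →
      FormallyUnramified u.left ∧ LocallyOfFinitePresentation u.left) ∧
    (Smooth (W.ι ≫ u.left) → Smooth u.left) ∧ (Etale (W.ι ≫ u.left) → Etale u.left) := by
  open Groth.Agent.GrpSGA in
  have hgood : ∀ y, LocalProp.AtPt LocalProp.FlatFP G.hom y :=
    fun y => LocalProp.atPt_of_mem _ ⟨inferInstance, inferInstance⟩ y
  open Groth.Agent.GrpSGA in
  have key : ∀ (P : MorphismProperty Scheme.{u}) [P.IsStableUnderBaseChange] [IsZariskiLocalAtSource P],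
      LocalProp.Desc (LocalProp.AtPt P) LocalProp.FlatFP → P (W.ι ≫ u.left) → P u.left := by
    intro P _ _ hd hPW
    obtain ⟨w, hw⟩ := hW
    exact LocalProp.of_forall_atPt _ fun x => (Translate.hom_iff_of_same_fibre LocalProp.bc_atPt hd
      hgood u (Subsingleton.elim (α := ↥(Spec (CommRingCat.of A))) _ _)).mp ⟨W, hw, hPW⟩
  have hlft : LocallyOfFiniteType u.left := by
    have : LocallyOfFiniteType (u.left ≫ H.hom) := by rw [Over.w]; infer_instance
    exact locallyOfFiniteType_of_comp u.left H.hom
  refine ⟨fun h => (key _ Groth.Agent.GrpSGA.LocalProp.desc_qFinFT ⟨h, inferInstance⟩).1,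
    fun h h' => key _ Groth.Agent.GrpSGA.LocalProp.desc_unramFP ⟨h, h'⟩,
    fun h => key @Smooth Groth.Agent.GrpSGA.LocalProp.desc_smooth h,
    fun h => key @Etale Groth.Agent.GrpSGA.LocalProp.desc_etale h⟩

end Groth.Agent.S5337
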