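import Groth.Statements.S5338
import Mathlib.RingTheory.Flat.EquationalCriterion
import Mathlib.RingTheory.FinitePresentation

set_option autoImplicit false
universe u
open CategoryTheory CategoryTheory.Limits MonoidalCategory CartesianMonoidalCategory MonObj GrpObj AlgebraicGeometry
open SGA3

namespace Groth.Agent.S5338

/-- A congruence modulo a nilpotent ideal that reproduces itself is an equality. -/
lemma le_of_le_sup_mul {R : Type u} [CommRing R] (J K L : Ideal R) (hJ : IsNilpotent J)
    (h : L ≤ K ⊔ J * L) : L ≤ K := by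
  obtain ⟨k, hk⟩ := hJ
  have : ∀ m : ℕ, L ≤ K ⊔ J ^ m * L := fun m => by
    induction m with
    | zero => simp
    | succ m ih =>
      refine ih.trans (sup_le le_sup_left ?_)
      calc J ^ m * L ≤ J ^ m * (K ⊔ J * L) := Ideal.mul_mono le_rfl h
        _ = J ^ m * K ⊔ J ^ m * (J * L) := Ideal.mul_sup _ _ _
        _ ≤ K ⊔ J ^ (m + 1) * L := sup_le_sup Ideal.mul_le_right (le_of_eq (by rw [pow_succ, _root_.mul_assoc]))
  simpa [hk] using this k

/-- Over a nilpotent ideal, a submodule congruent to everything is everything. -/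
lemma top_le_of_top_le_sup {B M : Type u} [CommRing B] [AddCommGroup M] [Module B M] (J : Ideal B)
    (hJ : IsNilpotent J) (N : Submodule B M) (h : ⊤ ≤ N ⊔ J • (⊤ : Submodule B M)) : ⊤ ≤ N := by
  obtain ⟨k, hk⟩ := hJ
  have : ∀ m : ℕ, ⊤ ≤ N ⊔ J ^ m • (⊤ : Submodule B M) := fun m => by
    induction m with
    | zero => simp
    | succ m ih =>
      refine ih.trans (sup_le le_sup_left ?_)
      calc J ^ m • (⊤ : Submodule B M) ≤ J ^ m • (N ⊔ J • (⊤ : Submodule B M)) :=
          Submodule.smul_mono le_rfl h
        _ = J ^ m • N ⊔ J ^ m • (J • (⊤ : Submodule B M)) := Submodule.smul_sup _ _ _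
        _ ≤ N ⊔ J ^ (m + 1) • (⊤ : Submodule B M) :=
          sup_le_sup Submodule.smul_le_right (le_of_eq (by rw [pow_succ, Submodule.mul_smul]))
  simpa [hk] using this k

/-- A surjection onto a flat algebra: kernel elements with coefficients in `n` lie in `n`·kernel. -/
lemma mem_map_mul_ker {A P C : Type u} [CommRing A] [CommRing P] [CommRing C] [Algebra A P]
    [Algebra A C] [Module.Flat A C] (f : P →ₐ[A] C) (hf : Function.Surjective f) (n : Ideal A)
    (x : P) (hx : x ∈ n.map (algebraMap A P)) (hfx : f x = 0) :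
    x ∈ n.map (algebraMap A P) * RingHom.ker f := by
  obtain ⟨m, p, a, rfl⟩ := Submodule.mem_span_set'.mp hx
  have ha : ∀ i, ∃ a' ∈ n, algebraMap A P a' = (a i : P) := fun i => (a i).2
  choose a' ha' haa using ha
  have hrel : ∑ i, a' i • f (p i) = 0 := by
    rw [← hfx, map_sum]
    refine Finset.sum_congr rfl fun i _ => ?_
    rw [smul_eq_mul, ← haa i, map_mul, AlgHom.commutes, Algebra.smul_def, mul_comm]
  obtain ⟨κ, b, y, hy, hb⟩ := Module.Flat.isTrivialRelation_of_sum_smul_eq_zero hrel
  choose y' hy' using fun l => hf (y l)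
  have key : ∀ i, p i - ∑ l, b i l • y' l ∈ RingHom.ker f := fun i => by
    rw [RingHom.mem_ker, map_sub, map_sum, sub_eq_zero]
    refine (hy i).trans ?_
    exact Finset.sum_congr rfl fun l _ => by rw [map_smul, hy']
  have hsum : ∑ i, p i • (a i : P) =
      ∑ i, algebraMap A P (a' i) * (p i - ∑ l, b i l • y' l) := by
    have h0 : ∑ i, algebraMap A P (a' i) * ∑ l, b i l • y' l = 0 := by
      simp only [Finset.mul_sum, Algebra.smul_def]
      rw [Finset.sum_comm]
      refine Finset.sum_eq_zero fun l _ => ?_
      simp only [← _root_.mul_assoc, ← map_mul]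
      rw [← Finset.sum_mul, ← map_sum, show ∑ i, a' i * b i l = 0 from by simpa [mul_comm] using hb l,
        map_zero, zero_mul]
    simp only [mul_sub, Finset.sum_sub_distrib, h0, sub_zero, smul_eq_mul]
    exact Finset.sum_congr rfl fun i _ => by rw [haa, mul_comm]
  rw [hsum]
  exact Ideal.sum_mem _ fun i _ => Ideal.mul_mem_mul (Ideal.mem_map_of_mem _ (ha' i)) (key i)

/-- Let A → B → C be homomorphisms of commutative rings and n a nilpotent ideal of A; write nB and nC
for the extended ideals. (i) If C/nC is a (B/nB)-algebra of finite type, then C is a B-algebra of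
finite type. (ii) If moreover C is flat over A and C/nC is a (B/nB)-algebra of finite presentation,
then C is a B-algebra of finite presentation. -/
theorem result (A B C : Type u) [CommRing A] [CommRing B] [CommRing C]
    [Algebra A B] [Algebra B C] [Algebra A C] [IsScalarTower A B C] (n : Ideal A) (hn : IsNilpotent n) :
    (Algebra.FiniteType (B ⧸ n.map (algebraMap A B)) (C ⧸ (n.map (algebraMap A B)).map (algebraMap B C)) →
      Algebra.FiniteType B C) ∧
    (Module.Flat A C →
      Algebra.FinitePresentation (B ⧸ n.map (algebraMap A B)) (C ⧸ (n.map (algebraMap A B)).map (algebraMap B C)) →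
      Algebra.FinitePresentation B C) := by
  classical
  set J := n.map (algebraMap A B)
  have hJ : IsNilpotent J := by
    obtain ⟨k, hk⟩ := hn
    exact ⟨k, by rw [← Ideal.map_pow, hk]; exact Ideal.map_bot⟩
  have lift : ∀ (m : ℕ) (g : MvPolynomial (Fin m) (B ⧸ J) →ₐ[B ⧸ J] C ⧸ J.map (algebraMap B C)),
      Function.Surjective g → ∃ f : MvPolynomial (Fin m) B →ₐ[B] C, Function.Surjective f ∧
        ∀ q, Ideal.Quotient.mk (J.map (algebraMap B C)) (f q) =
          g (MvPolynomial.map (Ideal.Quotient.mk J) q) := by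
    intro m g hg
    choose c hc using fun i => Ideal.Quotient.mk_surjective (g (MvPolynomial.X i))
    let f : MvPolynomial (Fin m) B →ₐ[B] C := MvPolynomial.aeval c
    have hcomm : ∀ q, Ideal.Quotient.mk (J.map (algebraMap B C)) (f q) =
        g (MvPolynomial.map (Ideal.Quotient.mk J) q) := by
      intro q
      induction q using MvPolynomial.induction_on with
      | C b =>
        rw [MvPolynomial.map_C, ← MvPolynomial.algebraMap_eq, ← MvPolynomial.algebraMap_eq,
          AlgHom.commutes, AlgHom.commutes]
        rfl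
      | add p q hp hq => simp only [map_add, hp, hq]
      | mul_X p i hp =>
        simp only [map_mul, hp, MvPolynomial.map_X]
        rw [← hc i]
        simp [f]
    refine ⟨f, fun x => ?_, hcomm⟩
    have h := top_le_of_top_le_sup J hJ (LinearMap.range f.toLinearMap) fun y _ => by
      obtain ⟨qb, hqb⟩ := hg (Ideal.Quotient.mk _ y)
      obtain ⟨q, rfl⟩ := MvPolynomial.map_surjective _ Ideal.Quotient.mk_surjective qb
      have hd : y - f q ∈ J.map (algebraMap B C) := by
        rw [← Ideal.Quotient.eq_zero_iff_mem, map_sub, hcomm, hqb, sub_self]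
      rw [show y = f q + (y - f q) from (add_sub_cancel _ _).symm]
      refine Submodule.add_mem_sup ⟨q, rfl⟩ ?_
      rw [Ideal.smul_top_eq_map]
      exact hd
    exact h (Submodule.mem_top (x := x))
  refine ⟨fun hft => ?_, fun hflat hfp => ?_⟩
  · obtain ⟨m, g, hg⟩ := Algebra.FiniteType.iff_quotient_mvPolynomial''.mp hft
    obtain ⟨f, hf, -⟩ := lift m g hg
    exact Algebra.FiniteType.iff_quotient_mvPolynomial''.mpr ⟨m, f, hf⟩
  · obtain ⟨m, g, hg, hkg⟩ := hfp.out
    obtain ⟨f, hf, hcomm⟩ := lift m g hg
    refine Algebra.FinitePresentation.mk ⟨m, f, hf, ?_⟩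
    let P := MvPolynomial (Fin m) B
    have hJP : ∀ z : P, MvPolynomial.map (Ideal.Quotient.mk J) z = 0 ↔
        z ∈ J.map (algebraMap B P) := fun z => by
      rw [← RingHom.mem_ker, MvPolynomial.ker_map, Ideal.mk_ker]
      rfl
    obtain ⟨T, hT⟩ := hkg
    have hlift : ∀ t : (T : Set (MvPolynomial (Fin m) (B ⧸ J))), ∃ k : P, f k = 0 ∧
        MvPolynomial.map (Ideal.Quotient.mk J) k = t := fun t => by
      obtain ⟨q, hq⟩ := MvPolynomial.map_surjective _ Ideal.Quotient.mk_surjective (t : MvPolynomial (Fin m) (B ⧸ J))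
      have h0 : f q ∈ J.map (algebraMap B C) := by
        rw [← Ideal.Quotient.eq_zero_iff_mem, hcomm, hq, ← RingHom.mem_ker]
        exact (congrArg (fun I : Ideal (MvPolynomial (Fin m) (B ⧸ J)) => (t : MvPolynomial (Fin m) (B ⧸ J)) ∈ I) hT).mp
          (Ideal.subset_span t.2)
      have h1 : f q ∈ (J.map (algebraMap B P)).map f := by
        show f q ∈ (J.map (algebraMap B P)).map (f : P →+* C)
        rwa [Ideal.map_map, f.comp_algebraMap]
      obtain ⟨z, hz, hzq⟩ := (Ideal.mem_map_iff_of_surjective _ hf).mp h1
      exact ⟨q - z, by rw [map_sub, hzq, sub_self], by rw [map_sub, hq, (hJP z).mpr hz, sub_zero]⟩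
    choose k hk0 hkt using hlift
    refine ⟨Finset.univ.image k, le_antisymm ?_ ?_⟩
    · rw [Ideal.span_le]
      intro x hx
      obtain ⟨t, -, rfl⟩ := Finset.mem_image.mp hx
      exact hk0 t
    · refine le_of_le_sup_mul (J.map (algebraMap B P)) _ _ ?_ ?_
      · obtain ⟨e, he⟩ := hJ
        exact ⟨e, by rw [← Ideal.map_pow, he]; exact Ideal.map_bot⟩
      · intro x (hx : f x = 0)
        set K := Ideal.span ((Finset.univ.image k : Finset P) : Set P)
        have hmapK : RingHom.ker g.toRingHom ≤ K.map (MvPolynomial.map (Ideal.Quotient.mk J)) := by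
          rw [← hT, Ideal.span_le]
          intro t ht
          have := Ideal.mem_map_of_mem (MvPolynomial.map (Ideal.Quotient.mk J))
            (show k ⟨t, ht⟩ ∈ K from Ideal.subset_span (Finset.mem_image_of_mem k (Finset.mem_univ _)))
          rwa [hkt] at this
        have h1 : MvPolynomial.map (Ideal.Quotient.mk J) x ∈ K.map (MvPolynomial.map (Ideal.Quotient.mk J)) :=
          hmapK (by
            show g _ = 0
            rw [← hcomm, hx, map_zero])
        obtain ⟨y, hy, hyx⟩ := (Ideal.mem_map_iff_of_surjective _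
          (MvPolynomial.map_surjective _ Ideal.Quotient.mk_surjective)).mp h1
        have hz : x - y ∈ J.map (algebraMap B P) := (hJP _).mp (by rw [map_sub, hyx, sub_self])
        have hy0 : f y = 0 := by
          have hKle : K ≤ RingHom.ker f.toRingHom := by
            rw [Ideal.span_le]
            intro w hw
            obtain ⟨t, -, rfl⟩ := Finset.mem_image.mp hw
            exact hk0 t
          exact hKle hy
        have hJn : J.map (algebraMap B P) = n.map (algebraMap A P) := by
          rw [Ideal.map_map, ← IsScalarTower.algebraMap_eq]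
        rw [show x = y + (x - y) from (add_sub_cancel _ _).symm]
        refine Submodule.add_mem_sup hy ?_
        rw [hJn] at hz ⊢
        exact mem_map_mul_ker (f.restrictScalars A) hf n _ hz (by
          show f (x - y) = 0
          rw [map_sub, hx, hy0, sub_self])

end Groth.Agent.S5338
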