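import Groth.Statements.S5339
import Groth.Agent.S5340
import Groth.Agent.GrpSGA.LocalQF
import Groth.Agent.GrpSGA.Translate

set_option autoImplicit false
universe u
open CategoryTheory CategoryTheory.Limits MonoidalCategory CartesianMonoidalCategory MonObj GrpObj AlgebraicGeometry
open SGA3

namespace Groth.Agent.S5339

open Groth.Agent.GrpSGA Groth.Agent.GrpSGA.LocalProp

/-- A local property which descends holds everywhere as soon as it holds on a nonempty open. -/
lemma of_open {A : Type u} [CommRing A] [IsArtinianRing A] [IsLocalRing A]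
    {G : Over (Spec (CommRingCat.of A))} [GrpObj G] [Flat G.hom] {P : MorphismProperty Scheme.{u}}
    [P.IsStableUnderBaseChange] [IsZariskiLocalAtSource P] (hdesc : Desc (AtPt P) FlatFP)
    (hP : P ≤ @LocallyOfFiniteType) (W : G.left.Opens) (hW : (W : Set G.left).Nonempty)
    (h : P (W.ι ≫ G.hom)) : P G.hom := by
  obtain ⟨w, hw⟩ := hW
  obtain ⟨V, hV, hwV, hVW⟩ := exists_isAffineOpen_mem_and_subset (x := w) (U := W) hw
  have : LocallyOfFiniteType (V.ι ≫ G.hom) := by
    rw [← Scheme.homOfLE_ι _ (show V ≤ W from hVW), Category.assoc]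
    exact IsZariskiLocalAtSource.comp (P := @LocallyOfFiniteType) (hP _ h) _
  have : QuasiCompact (V.ι ≫ G.hom) := by
    rw [quasiCompact_iff_compactSpace]
    exact isCompact_iff_compactSpace.mp hV.isCompact
  have : LocallyOfFiniteType G.hom := Groth.Agent.S5340.result A G V ⟨w, hwV⟩
  have : LocallyOfFinitePresentation G.hom := inferInstance
  refine of_forall_atPt G.hom fun x => ?_
  exact (Translate.hom_iff_of_same_fibre (R := FlatFP) bc_atPt hdesc
    (fun y => atPt_of_mem G.hom ⟨‹_›, ‹_›⟩ y) (toUnit G)
    (Subsingleton.elim (G.hom x) (G.hom w))).mpr ⟨W, hw, h⟩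

/-- Let A be a local artinian ring and G a flat A-group scheme (not assumed locally of finite type). If
G is locally quasi-finite and locally of finite type (resp. unramified, resp. smooth, resp. etale)
over A on some nonempty open subscheme, then G is locally quasi-finite and locally of finite type
(resp. unramified, resp. smooth, resp. etale) over A. -/
theorem result (A : Type u) [CommRing A] [IsArtinianRing A] [IsLocalRing A] (G : Over (Spec (CommRingCat.of A))) [GrpObj G] [Flat G.hom]
    (W : G.left.Opens) (hW : (W : Set G.left).Nonempty) :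
    (LocallyQuasiFinite (W.ι ≫ G.hom) → LocallyOfFiniteType (W.ι ≫ G.hom) → LocallyQuasiFinite G.hom ∧ LocallyOfFiniteType G.hom) ∧
    (FormallyUnramified (W.ι ≫ G.hom) → LocallyOfFinitePresentation (W.ι ≫ G.hom) →
      FormallyUnramified G.hom ∧ LocallyOfFinitePresentation G.hom) ∧
    (Smooth (W.ι ≫ G.hom) → Smooth G.hom) ∧ (Etale (W.ι ≫ G.hom) → Etale G.hom) := by
  refine ⟨fun h1 h2 => of_open (P := QFinFT) desc_qFinFT inf_le_right W hW ⟨h1, h2⟩,
    fun h1 h2 => of_open (P := UnramFP) desc_unramFP
      (fun _ _ f hf => by have := hf.2; infer_instance) W hW ⟨h1, h2⟩,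
    fun h => of_open (P := @Smooth) desc_smooth (fun _ _ f hf => by have : Smooth f := hf; infer_instance) W hW h,
    fun h => of_open (P := @Etale) desc_etale (fun _ _ f hf => by have : Etale f := hf; infer_instance) W hW h⟩

end Groth.Agent.S5339
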