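import Groth.Statements.S5343
import Mathlib

set_option autoImplicit false
universe u
open CategoryTheory CategoryTheory.Limits MonoidalCategory CartesianMonoidalCategory MonObj GrpObj AlgebraicGeometry
open SGA3

namespace Groth.Agent.S5343

/-- Let R be a commutative ring and B a commutative R-algebra which is projective as an R-module. Then
the image of Spec B → Spec R is an open and closed subset of Spec R. (The published statement
concerns a quasi-coherent algebra on any scheme which is a direct summand of a free module; this row
is the affine case.) -/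
theorem result (R B : Type u) [CommRing R] [CommRing B] [Algebra R B] [Module.Projective R B] :
    IsClopen (Set.range (PrimeSpectrum.comap (algebraMap R B))) := by
  classical
  obtain ⟨s, hs⟩ := Module.projective_def.mp (inferInstance : Module.Projective R B)
  let I : Ideal R := Ideal.span (((s 1).support.image fun j => s 1 j : Finset R) : Set R)
  have h1 : (1 : B) ∈ I • (⊤ : Submodule R B) := by
    rw [← hs 1, Finsupp.linearCombination_apply]
    exact Submodule.sum_mem _ fun j hj => Submodule.smul_mem_smul
      (Ideal.subset_span (Finset.mem_coe.mpr (Finset.mem_image_of_mem _ hj))) trivial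
  have htop : I • (⊤ : Submodule R B) = ⊤ := by
    refine top_unique fun b _ => ?_
    rw [Ideal.smul_top_eq_map] at h1 ⊢
    rw [(Ideal.eq_top_iff_one _).mpr h1]
    trivial
  have hI : IsIdempotentElem I := by
    refine le_antisymm Ideal.mul_le_left (Ideal.span_le.mpr ?_)
    intro c hc
    obtain ⟨j, -, rfl⟩ := Finset.mem_image.mp (Finset.mem_coe.mp hc)
    let φ : B →ₗ[R] R := Finsupp.lapply j ∘ₗ s
    have key : ∀ b ∈ I • (⊤ : Submodule R B), φ b ∈ I := fun b hb =>
      Submodule.smul_induction_on hb
        (fun r hr m _ => by rw [map_smul]; exact I.mul_mem_right _ hr)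
        (fun a b ha hb => by rw [map_add]; exact add_mem ha hb)
    have h2 : φ 1 ∈ I * I := by
      refine Submodule.smul_induction_on h1 (fun r hr m _ => ?_)
        (fun a b ha hb => by rw [map_add]; exact add_mem ha hb)
      rw [map_smul]
      exact Ideal.mul_mem_mul hr (key m (htop.symm ▸ trivial))
    exact h2
  obtain ⟨e, he, hIe⟩ := (Ideal.isIdempotentElem_iff_of_fg I
    (Submodule.fg_span (Finset.finite_toSet _))).mp hI
  have key : Set.range (PrimeSpectrum.comap (algebraMap R B)) = PrimeSpectrum.basicOpen e := by
    ext p
    constructor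
    · rintro ⟨q, rfl⟩ (he' : algebraMap R B e ∈ q.asIdeal)
      refine q.isPrime.ne_top ((Ideal.eq_top_iff_one _).mpr ?_)
      rw [Ideal.smul_top_eq_map] at h1
      refine Ideal.map_le_iff_le_comap.mpr ?_ h1
      rw [hIe, Ideal.span_singleton_le_iff_mem]
      exact he'
    · intro hp
      refine (Ideal.comap_map_eq_self_iff_of_isPrime p.asIdeal).mp ?_ |>.elim
        fun q hq => ⟨⟨q, hq.1⟩, PrimeSpectrum.ext hq.2⟩
      refine le_antisymm (fun r hr => ?_) Ideal.le_comap_map
      rw [Ideal.mem_comap] at hr
      have hr' : algebraMap R B r ∈ p.asIdeal • (⊤ : Submodule R B) := by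
        rw [Ideal.smul_top_eq_map]; exact hr
      have h3 : ∀ φ : B →ₗ[R] R, r * φ 1 ∈ p.asIdeal := fun φ => by
        rw [← smul_eq_mul, ← map_smul, ← Algebra.algebraMap_eq_smul_one]
        exact Submodule.smul_induction_on hr'
          (fun a ha m _ => by rw [map_smul]; exact p.asIdeal.mul_mem_right _ ha)
          (fun a b ha hb => by rw [map_add]; exact add_mem ha hb)
      by_contra hr0
      have hle : I ≤ p.asIdeal := Ideal.span_le.mpr fun c hc => by
        obtain ⟨j, -, rfl⟩ := Finset.mem_image.mp (Finset.mem_coe.mp hc)
        exact (p.isPrime.mem_or_mem (h3 (Finsupp.lapply j ∘ₗ s))).resolve_left hr0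
      exact hp (hle (hIe ▸ Ideal.mem_span_singleton_self e))
  rw [key]
  refine ⟨?_, PrimeSpectrum.basicOpen e |>.isOpen⟩
  rw [PrimeSpectrum.basicOpen_eq_zeroLocus_of_isIdempotentElem e he]
  exact PrimeSpectrum.isClosed_zeroLocus _


end Groth.Agent.S5343
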