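import Groth.Statements.S5344
import Groth.Agent.GrpSGA.Neutral
import Groth.Agent.GrpSGA.ArtThick
-- import your own Groth.Agent.* helpers here

set_option autoImplicit false
universe u
open CategoryTheory CategoryTheory.Limits MonoidalCategory CartesianMonoidalCategory MonObj GrpObj AlgebraicGeometry
open SGA3

namespace Groth.Agent.S5344

/-- Let A be a local artinian ring and G an A-group scheme locally of finite type, and let G⁰ be the
connected component of the unit point. Then G⁰ is open in G; it is stable under the group law: for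
every A-scheme T and all points g, h : T → G whose images lie in G⁰, the image of g h⁻¹ lies in G⁰
(so G⁰ carries an open subgroup scheme, the neutral component); and it is normal: for every A-scheme
T, every point g : T → G and every point n : T → G whose image lies in G⁰, the image of g n g⁻¹ lies
in G⁰. -/
theorem result (A : Type u) [CommRing A] [IsArtinianRing A] [IsLocalRing A] (G : Over (Spec (CommRingCat.of A))) [GrpObj G] [LocallyOfFiniteType G.hom]
    (pt : ↥(𝟙_ (Over (Spec (CommRingCat.of A)))).left) :
    IsOpen (connectedComponent (η[G].left.base pt)) ∧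
    (∀ (T : Over (Spec (CommRingCat.of A))) (g h : T ⟶ G), Set.range g.left.base ⊆ connectedComponent (η[G].left.base pt) →
      Set.range h.left.base ⊆ connectedComponent (η[G].left.base pt) →
      Set.range (g * h⁻¹).left.base ⊆ connectedComponent (η[G].left.base pt)) ∧
    ∀ (T : Over (Spec (CommRingCat.of A))) (g n : T ⟶ G), Set.range n.left.base ⊆ connectedComponent (η[G].left.base pt) →
      Set.range (g * n * g⁻¹).left.base ⊆ connectedComponent (η[G].left.base pt) := by
  have hN : SGA3x.neutralSet G = connectedComponent (η[G].left.base pt) := by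
    have h : ∀ p : ↥(𝟙_ (Over (Spec (CommRingCat.of A)))).left,
        G.hom.base ⁻¹' {(𝟙_ (Over (Spec (CommRingCat.of A)))).hom.base p} = Set.univ := fun p =>
      Set.eq_univ_of_forall fun x => Subsingleton.elim (α := ↥(Spec (CommRingCat.of A))) _ _
    ext x
    rw [SGA3x.neutralSet, Set.mem_iUnion]
    simp only [h, connectedComponentIn_univ]
    exact ⟨fun ⟨p, hp⟩ => Subsingleton.elim (α := ↥(Spec (CommRingCat.of A))) p pt ▸ hp, fun hx => ⟨pt, hx⟩⟩
  have : IsLocallyNoetherian G.left := LocallyOfFiniteType.isLocallyNoetherian G.hom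
  have : LocallyConnectedSpace G.left := Groth.Agent.SchPoints.locallyConnectedSpace
    Groth.Agent.SchPoints.exists_noetherian_nhd
  rw [← hN]
  refine ⟨by rw [hN]; exact isOpen_connectedComponent, ?_, ?_⟩
  · rintro T g h hg hh _ ⟨z, rfl⟩
    exact Groth.Agent.GrpSGA.Neutral.mul_mem z g h⁻¹ (hg ⟨z, rfl⟩)
      (Groth.Agent.GrpSGA.Neutral.inv_mem z h (hh ⟨z, rfl⟩))
  · rintro T g n hn _ ⟨z, rfl⟩
    exact Groth.Agent.GrpSGA.Neutral.conj_mem z g n (hn ⟨z, rfl⟩)

end Groth.Agent.S5344
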