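import Groth.Statements.S5345
import Groth.Agent.GrpSGA.Neutral
import Groth.Agent.GrpSGA.ArtThick
-- import your own Groth.Agent.* helpers here

set_option autoImplicit false
universe u
open CategoryTheory CategoryTheory.Limits MonoidalCategory CartesianMonoidalCategory MonObj GrpObj AlgebraicGeometry
open SGA3

namespace Groth.Agent.S5345

/-- Let A be a local artinian ring and G an A-group scheme locally of finite type. Then every connected
component of G, in particular the connected component of the unit, is quasi-compact (so the open
subscheme it carries is of finite type over A). (The published statement also asserts that the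
components are irreducible and of equal dimension; this row states only their quasi-compactness.) -/
theorem result (A : Type u) [CommRing A] [IsArtinianRing A] [IsLocalRing A] (G : Over (Spec (CommRingCat.of A))) [GrpObj G] [LocallyOfFiniteType G.hom]
    (g : G.left) : IsCompact (connectedComponent g) := by
  open Groth.Agent.GrpSGA in
  have : LocallyOfFiniteType (Fibre.fib G (G.hom g)).hom :=
    inferInstanceAs (LocallyOfFiniteType (pullback.snd G.hom ((Spec (CommRingCat.of A)).fromSpecResidueField (G.hom g))))
  let e := (Groth.Agent.GrpSGA.Fibre.isEmbedding_fibι G (G.hom g)).toHomeomorphOfSurjective
    (fun x => Groth.Agent.GrpSGA.Fibre.exists_mem_fib G (Subsingleton.elim _ _))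
  obtain ⟨y, hy⟩ := e.surjective g
  have himg : e '' connectedComponent y = connectedComponent (e y) := by
    refine subset_antisymm (e.continuous.image_connectedComponent_subset y) fun w hw => ?_
    exact ⟨e.symm w, by simpa using e.symm.continuous.image_connectedComponent_subset (e y) ⟨w, hw, rfl⟩, by simp⟩
  rw [← hy, ← himg]
  exact (Groth.Agent.GrpSGA.FieldComp.isCompact_connectedComponent _ y).image e.continuous

end Groth.Agent.S5345
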