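import Groth.Statements.S5346
import Groth.Agent.GrpSGA.ArtThick
-- import your own Groth.Agent.* helpers here

set_option autoImplicit false
universe u
open CategoryTheory CategoryTheory.Limits MonoidalCategory CartesianMonoidalCategory MonObj GrpObj AlgebraicGeometry
open SGA3

namespace Groth.Agent.S5346

/-- Let A be a local artinian ring with residue field k and i : Spec k → Spec A the closed point. (i) If
X is an A-scheme whose base change X ⊗_A k is locally of finite type (resp. of finite type) over k,
then X is locally of finite type (resp. of finite type) over A. (ii) If u : X → Y is a morphism of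
A-schemes whose base change u ⊗_A k is an immersion (resp. a closed immersion), then u is an
immersion (resp. a closed immersion). -/
theorem result (A : Type u) [CommRing A] [IsArtinianRing A] [IsLocalRing A] (X Y : Over (Spec (CommRingCat.of A))) (u : X ⟶ Y) :
    letI i : Spec (CommRingCat.of (IsLocalRing.ResidueField A)) ⟶ (Spec (CommRingCat.of A)) := Spec.map (CommRingCat.ofHom (IsLocalRing.residue A))
    (LocallyOfFiniteType (pullback.snd X.hom i) → LocallyOfFiniteType X.hom) ∧
    (LocallyOfFiniteType (pullback.snd X.hom i) → QuasiCompact (pullback.snd X.hom i) → QuasiCompact X.hom) ∧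
    (IsImmersion ((Over.pullback i).map u).left → IsImmersion u.left) ∧
    (IsClosedImmersion ((Over.pullback i).map u).left → IsClosedImmersion u.left) := by
  let i := Groth.Agent.GrpSGA.ArtThick.closedPt A
  have hX : IsPullback (pullback.fst X.hom i) (pullback.snd X.hom i) X.hom i :=
    IsPullback.of_hasPullback _ _
  have hn := Groth.Agent.GrpSGA.ArtThick.isNilpotent_ker_closedPt A
  have hc : IsPullback (pullback.fst X.hom i) ((Over.pullback i).map u).left u.left
      (pullback.fst Y.hom i) := by
    refine IsPullback.of_bot ?_ (pullback.lift_fst _ _ _).symm (IsPullback.of_hasPullback Y.hom i)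
    rw [Over.w]
    have : ((Over.pullback i).map u).left ≫ pullback.snd Y.hom i = pullback.snd X.hom i :=
      pullback.lift_snd _ _ _
    rw [this]
    exact hX
  have hn' := Groth.Agent.GrpSGA.ArtThick.isNilpotent_ker_of_isPullback hn
    (IsPullback.of_hasPullback Y.hom i)
  refine ⟨fun h => Groth.Agent.FlatMor.Thickening.locallyOfFiniteType_of_isPullback hn hX,
    fun h hq => ?_, fun h => (Groth.Agent.GrpSGA.ArtThick.isImmersion_of_isPullback hn' hc).1,
    fun h => (Groth.Agent.GrpSGA.ArtThick.isImmersion_of_isPullback hn' hc).2 h⟩
  have : CompactSpace ↥(pullback X.hom i) := QuasiCompact.compactSpace_of_compactSpace (pullback.snd X.hom i)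
  have : CompactSpace X.left := ⟨by
    have := isCompact_range (pullback.fst X.hom i).continuous
    rwa [(pullback.fst X.hom i).surjective.range_eq] at this⟩
  exact (quasiCompact_iff_compactSpace X.hom).mpr this

end Groth.Agent.S5346
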