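import Groth.Statements.S5350
import Groth.Agent.GrpSGA.Homog

set_option autoImplicit false
universe u
open CategoryTheory CategoryTheory.Limits MonoidalCategory CartesianMonoidalCategory MonObj GrpObj AlgebraicGeometry
open SGA3

namespace Groth.Agent.S5350

open Groth.Agent.GrpScheme Groth.Agent.GrpSGA

variable {k : Type u} [Field k] {G X : Over (Spec (CommRingCat.of k))} [GrpObj G]

lemma range_whiskerRight : Set.range (IdComponent.zι G ▷ X).left =
    (fst G X).left ⁻¹' irreducibleComponent (IdComponent.e₀ G) := by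
  refine Set.Subset.antisymm ?_ fun p hp => ?_
  · rintro _ ⟨q, rfl⟩
    rw [Set.mem_preimage, ← Points.comp_apply, whiskerRight_fst, Points.comp_apply,
      ← IdComponent.range_zι]
    exact ⟨_, rfl⟩
  · rw [Set.mem_preimage, ← IdComponent.range_zι] at hp
    obtain ⟨y, hy⟩ := hp
    obtain ⟨q, hq, -⟩ := Scheme.exists_preimage_of_isPullback
      ((Basic.isPullback_whiskerRight (R := X) (IdComponent.zι G)).map (Over.forget _)) p y hy.symm
    exact ⟨q, hq⟩

lemma isOpen_sat (a : AlgGrp.Action G X) (U : X.left.Opens) :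
    IsOpen (a.act.left '' {z : ↥(G ⊗ X).left |
      (fst G X).left z ∈ irreducibleComponent (IdComponent.e₀ G) ∧ (snd G X).left z ∈ U}) := by
  let Zo := IdComponent.zObj G
  have e : (IdComponent.zι G ▷ X) ≫ a.act = (Basic.shear a (IdComponent.zι G)).hom ≫ snd Zo X := by
    rw [show IdComponent.zι G ▷ X = lift (fst Zo X ≫ IdComponent.zι G) (snd Zo X) from
      CartesianMonoidalCategory.hom_ext _ _ (by simp [Zo]) (by simp [Zo])]
    simp [Basic.shear, Basic.smul, Zo]
  have : UniversallyOpen ((IdComponent.zι G ▷ X) ≫ a.act).left := by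
    rw [e, Over.comp_left]
    have := Basic.isIso_left (Basic.shear a (IdComponent.zι G)).hom
    have := Basic.snd_left_mem @UniversallyOpen (T := Zo) (X := X) (inferInstanceAs (UniversallyOpen Zo.hom))
    infer_instance
  have heq : a.act.left '' {z : ↥(G ⊗ X).left |
      (fst G X).left z ∈ irreducibleComponent (IdComponent.e₀ G) ∧ (snd G X).left z ∈ U} =
      ((IdComponent.zι G ▷ X) ≫ a.act).left '' ((snd Zo X).left ⁻¹' U) := by
    ext y
    constructor
    · rintro ⟨z, ⟨h1, h2⟩, rfl⟩
      obtain ⟨q, rfl⟩ := (range_whiskerRight (G := G) (X := X)).ge h1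
      refine ⟨q, ?_, Points.comp_apply _ _ _⟩
      rwa [← Points.comp_apply, whiskerRight_snd] at h2
    · rintro ⟨q, hq, rfl⟩
      refine ⟨(IdComponent.zι G ▷ X).left q, ⟨(range_whiskerRight (G := G) (X := X)).le ⟨q, rfl⟩, ?_⟩,
        (Points.comp_apply _ _ _).symm⟩
      rw [← Points.comp_apply, whiskerRight_snd]
      exact hq
  rw [heq]
  exact Scheme.Hom.isOpenMap _ _ (U.2.preimage (snd Zo X).left.continuous)

/-- The identity component maps each component into itself. -/
lemma act_mem_closure (a : AlgGrp.Action G X) {ξ : X.left} (hξ : Component.IsMaxGen ξ)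
    (z : ↥(G ⊗ X).left) (h1 : (fst G X).left z ∈ irreducibleComponent (IdComponent.e₀ G))
    (h2 : ξ ⤳ (snd G X).left z) : ξ ⤳ a.act.left z := by
  let Z : TopologicalSpace.Closeds X.left := ⟨closure {ξ}, isClosed_closure⟩
  let iZ : Component.redSub X Z ⟶ X :=
    Over.homMk (Scheme.IdealSheafData.vanishingIdeal Z).subschemeι rfl
  have hrZ : Set.range iZ.left = closure {ξ} := (Scheme.IdealSheafData.range_subschemeι _).trans
    (Scheme.IdealSheafData.coe_support_vanishingIdeal _)
  have : IrreducibleSpace (Component.redSub X Z).left :=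
    Homog.irreducibleSpace_redSub isIrreducible_singleton.closure
  have := IdComponent.irreducibleSpace_tensor G (Component.redSub X Z)
  have hrange : Set.range (IdComponent.zι G ⊗ₘ iZ).left = {p : ↥(G ⊗ X).left |
      (fst G X).left p ∈ irreducibleComponent (IdComponent.e₀ G) ∧ ξ ⤳ (snd G X).left p} := by
    refine (Scheme.Pullback.range_map (f := (IdComponent.zObj G).hom) (g := (Component.redSub X Z).hom)
      G.hom X.hom (IdComponent.zι G).left iZ.left (𝟙 _) (by simp) (by simp)).trans ?_
    ext p
    simp only [Set.mem_inter_iff, Set.mem_preimage, IdComponent.range_zι, hrZ,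
      ← specializes_iff_mem_closure]
    rfl
  set S := closure (a.act.left '' Set.range (IdComponent.zι G ⊗ₘ iZ).left) with hS
  have hirr : IsIrreducible S := by
    refine (IsIrreducible.image ?_ _ a.act.left.continuous.continuousOn).closure
    rw [← Set.image_univ]
    exact (IrreducibleSpace.isIrreducible_univ _).image _
      (IdComponent.zι G ⊗ₘ iZ).left.continuous.continuousOn
  have hsub : closure {ξ} ⊆ S := by
    intro y hy
    refine subset_closure ⟨(lift (toUnit X ≫ η[G]) (𝟙 X)).left y, ?_, ?_⟩
    · rw [hrange]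
      refine ⟨?_, ?_⟩
      · rw [← Points.comp_apply, lift_fst, Points.comp_apply,
          Subsingleton.elim (α := Spec (CommRingCat.of k)) ((toUnit X).left y) (IsLocalRing.closedPoint k)]
        exact mem_irreducibleComponent
      · rw [← Points.comp_apply, lift_snd]
        exact specializes_iff_mem_closure.mpr hy
    · rw [← Points.comp_apply, show lift (toUnit X ≫ η[G]) (𝟙 X) ≫ a.act = 𝟙 X by
        rw [← Hom.one_def]
        exact Basic.one_smul' a (𝟙 X)]
      rfl
  refine specializes_iff_mem_closure.mpr ((Component.isMaxGen_iff.mp hξ).2 hirr hsub ?_)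
  exact subset_closure ⟨z, hrange.ge ⟨h1, h2⟩, rfl⟩

/-- Let G be a group scheme over a field k (not assumed of finite type) acting on a k-scheme X so that G
×_k X → X ×_k X, (g, x) ↦ (gx, x), is surjective; let C⁰ be an irreducible component of G containing
the unit point and U an open subset of X. Let C⁰·U be the image under the action of the set of
points of G ×_k X whose projections lie in C⁰ and in U. Then (i) C⁰·U is open in X and equals the
union of the irreducible components of X whose generic point lies in U; (ii) if U is retrocompact in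
X then C⁰·U is the closure of U (so is open and closed). -/
theorem result (k : Type u) [Field k] (G X : Over (Spec (CommRingCat.of k))) [GrpObj G] (a : AlgGrp.Action G X) (hΦ : Surjective (lift a.act (snd G X)).left)
    (pt : ↥(𝟙_ (Over (Spec (CommRingCat.of k)))).left) (C0 : Set G.left) (hC0 : C0 ∈ irreducibleComponents ↥G.left)
    (he : η[G].left.base pt ∈ C0) (U : X.left.Opens) :
    letI V : Set X.left := a.act.left.base '' {z : ↥(G ⊗ X).left | (fst G X).left.base z ∈ C0 ∧ (snd G X).left.base z ∈ U}
    IsOpen V ∧ V = ⋃₀ {Z : Set X.left | Z ∈ irreducibleComponents ↥X.left ∧ ∃ ξ ∈ U, closure {ξ} = Z} ∧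
    (IsRetrocompact (U : Set X.left) → V = closure (U : Set X.left)) := by
  have hC : C0 = irreducibleComponent (IdComponent.e₀ G) := by
    obtain ⟨W, -, hu⟩ := Component.existsUnique_component G (IdComponent.e₀ G)
    rw [hu _ ⟨irreducibleComponent_mem_irreducibleComponents _, mem_irreducibleComponent⟩]
    exact hu _ ⟨hC0, (congrArg (fun p => η[G].left p ∈ C0)
      (Subsingleton.elim (α := ↥(Spec (CommRingCat.of k))) pt (IsLocalRing.closedPoint k))).mp he⟩
  subst hC
  have hV : a.act.left '' {z : ↥(G ⊗ X).left |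
      (fst G X).left z ∈ irreducibleComponent (IdComponent.e₀ G) ∧ (snd G X).left z ∈ U} =
      ⋃₀ {Z : Set X.left | Z ∈ irreducibleComponents ↥X.left ∧ ∃ ξ ∈ U, closure {ξ} = Z} := by
    ext y
    constructor
    · rintro ⟨z, ⟨h1, h2⟩, rfl⟩
      obtain ⟨ξ, hξ, hs⟩ := Component.exists_isMaxGen ((snd G X).left z)
      exact ⟨closure {ξ}, ⟨Component.isMaxGen_iff.mp hξ, ξ, hs.mem_open U.2 h2, rfl⟩,
        specializes_iff_mem_closure.mp (act_mem_closure a hξ z h1 hs)⟩
    · rintro ⟨_, ⟨hZ, ξ, hξU, rfl⟩, hy⟩
      obtain ⟨q, h1, h2, rfl⟩ := Homog.exists_act_eq a hΦ (Component.isMaxGen_iff.mpr hZ)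
        (specializes_iff_mem_closure.mpr hy)
      exact ⟨q, ⟨h1, h2.symm ▸ hξU⟩, rfl⟩
  refine ⟨isOpen_sat a U, hV, fun hU => hV.trans (Set.Subset.antisymm ?_ fun y hy => ?_)⟩
  · rintro y ⟨_, ⟨-, ξ, hξU, rfl⟩, hy⟩
    exact closure_mono (Set.singleton_subset_iff.mpr hξU) hy
  · obtain ⟨_, ⟨O : X.left.Opens, hO, rfl⟩, hyO, -⟩ :=
      X.left.isBasis_affineOpens.exists_subset_of_mem_open (Set.mem_univ y) isOpen_univ
    have hc : IsCompact ((U : Set X.left) ∩ O) := hU hO.isCompact O.2
    let W := U ⊓ O
    have hWc : CompactSpace W := isCompact_iff_compactSpace.mp hc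
    have hyW : y ∈ closure ((U : Set X.left) ∩ O) := by
      rw [Set.inter_comm]
      exact O.2.inter_closure ⟨hyO, hy⟩
    let ι' := IsOpenImmersion.lift O.ι W.ι (by
      rw [Scheme.Opens.range_ι, Scheme.Opens.range_ι]; exact Set.inter_subset_right)
    have : IsAffine (O : Scheme.{u}) := hO
    have : QuasiCompact ι' := quasiCompact_iff_compactSpace (f := ι') |>.mpr hWc
    have hcl : (⟨y, hyO⟩ : (O : Scheme.{u})) ∈ closure (Set.range ι') := by
      rw [O.ι.isOpenEmbedding.isEmbedding.closure_eq_preimage_closure_image, ← Set.range_comp]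
      show y ∈ closure (Set.range (O.ι ∘ ι'))
      have : ⇑O.ι ∘ ⇑ι' = ⇑W.ι := by
        rw [← IsOpenImmersion.lift_fac O.ι W.ι (by
          rw [Scheme.Opens.range_ι, Scheme.Opens.range_ι]; exact Set.inter_subset_right),
          Scheme.Hom.comp_base, TopCat.coe_comp]
      rw [this, Scheme.Opens.range_ι]
      exact hyW
    obtain ⟨w, hw⟩ := Groth.Agent.SchPoints.exists_specializes_of_mem_closure_range ι' hcl
    have hw' : W.ι w ⤳ y := by
      have h := hw.map O.ι.continuous
      rwa [← Scheme.Hom.comp_apply, IsOpenImmersion.lift_fac] at h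
    obtain ⟨ξ, hξ, hs⟩ := Component.exists_isMaxGen (W.ι w)
    exact ⟨closure {ξ}, ⟨Component.isMaxGen_iff.mp hξ, ξ, hs.mem_open U.2 w.2.1, rfl⟩,
      specializes_iff_mem_closure.mp (hs.trans hw')⟩

end Groth.Agent.S5350
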