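import Groth.Statements.S5349
import Groth.Agent.S5350

set_option autoImplicit false
universe u
open CategoryTheory CategoryTheory.Limits MonoidalCategory CartesianMonoidalCategory MonObj GrpObj AlgebraicGeometry
open SGA3

namespace Groth.Agent.S5349

/-- Let G be a group scheme over a field k (not assumed of finite type) acting on an irreducible
k-scheme X so that the morphism G ×_k X → X ×_k X, (g, x) ↦ (gx, x), is surjective. Then X is
quasi-compact. -/
theorem result (k : Type u) [Field k] (G X : Over (Spec (CommRingCat.of k))) [GrpObj G] (a : AlgGrp.Action G X) (hΦ : Surjective (lift a.act (snd G X)).left)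
    [IrreducibleSpace X.left] : CompactSpace X.left := by
  obtain ⟨ξ, hξ⟩ := QuasiSober.sober (IrreducibleSpace.isIrreducible_univ X.left) isClosed_univ
  obtain ⟨_, ⟨U : X.left.Opens, hU, rfl⟩, hξU, -⟩ :=
    X.left.isBasis_affineOpens.exists_subset_of_mem_open (Set.mem_univ ξ) isOpen_univ
  let e₀ := Groth.Agent.GrpScheme.IdComponent.e₀ G
  obtain ⟨-, hV, -⟩ := Groth.Agent.S5350.result k G X a hΦ (IsLocalRing.closedPoint k)
    (irreducibleComponent e₀) (irreducibleComponent_mem_irreducibleComponents _) mem_irreducibleComponent U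
  have huniv : a.act.left '' {z : ↥(G ⊗ X).left |
      (fst G X).left z ∈ irreducibleComponent e₀ ∧ (snd G X).left z ∈ U} = Set.univ := by
    rw [hV]
    refine Set.eq_univ_of_forall fun y => ⟨Set.univ, ⟨?_, ξ, hξU, hξ.def⟩, trivial⟩
    rw [irreducibleComponents_eq_singleton]
    rfl
  let Uo : Over (Spec (CommRingCat.of k)) := Over.mk (U.ι ≫ X.hom)
  let w : Uo ⟶ X := Over.homMk U.ι rfl
  let Zo := Groth.Agent.GrpScheme.IdComponent.zObj G
  have hr : Set.range (Groth.Agent.GrpScheme.IdComponent.zι G ⊗ₘ w).left = {z : ↥(G ⊗ X).left |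
      (fst G X).left z ∈ irreducibleComponent e₀ ∧ (snd G X).left z ∈ U} := by
    refine (Scheme.Pullback.range_map (f := Zo.hom) (g := Uo.hom)
      G.hom X.hom (Groth.Agent.GrpScheme.IdComponent.zι G).left w.left (𝟙 _) (by simp [Zo]) (by simp [Uo, w])).trans ?_
    ext p
    refine and_congr (iff_of_eq ?_) (iff_of_eq ?_)
    · exact congrArg ((fst G X).left p ∈ ·) (Groth.Agent.GrpScheme.IdComponent.range_zι G)
    · exact congrArg ((snd G X).left p ∈ ·) U.range_ι
  have : CompactSpace Zo.left :=
    ⟨(Groth.Agent.GrpScheme.IdComponent.zι G).left.isClosedEmbedding.isEmbedding.isCompact_iff.mpr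
      (by rw [Set.image_univ, Groth.Agent.GrpScheme.IdComponent.range_zι]
          exact Groth.Agent.GrpScheme.IdComponent.isCompact_component G)⟩
  have : QuasiCompact Zo.hom := inferInstance
  have : CompactSpace Uo.left := isCompact_iff_compactSpace.mp hU.isCompact
  have : CompactSpace (Zo ⊗ Uo).left := inferInstanceAs (CompactSpace ↥(pullback Zo.hom Uo.hom))
  refine ⟨?_⟩
  rw [← huniv, ← hr]
  exact (isCompact_range (Groth.Agent.GrpScheme.IdComponent.zι G ⊗ₘ w).left.continuous).image
    a.act.left.continuous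

end Groth.Agent.S5349
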