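import Groth.Statements.S5351
import Groth.Agent.GrpSGA.QuotComp
import Groth.Agent.S5330
import Groth.Agent.S5369
import Groth.Agent.S5370
import Groth.Agent.S5371
import Groth.Agent.GrpQuot19.Artinian

set_option autoImplicit false
universe u
open CategoryTheory CategoryTheory.Limits MonoidalCategory CartesianMonoidalCategory MonObj GrpObj AlgebraicGeometry
open SGA3

namespace Groth.Agent.S5351

open Groth.Agent

/-- A flat, surjective morphism locally of finite presentation is covering for the fpqc topology. -/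
lemma hcov {X Y : Scheme.{u}} (p : X ⟶ Y) [Flat p] [Surjective p] [LocallyOfFinitePresentation p] :
    ∃ (Z : Scheme.{u}) (q : Z ⟶ Y) (r : Z ⟶ X), r ≫ p = q ∧ Surjective q ∧ Flat q ∧
        ∀ V : Y.Opens, IsAffineOpen V → ∃ W : Z.Opens, IsCompact (W : Set Z) ∧ q.base '' (W : Set Z) = (V : Set Y) := by
  refine ⟨X, p, 𝟙 X, Category.id_comp _, inferInstance, inferInstance, fun V hV => ?_⟩
  have : UniversallyOpen p := UniversallyOpen.of_flat p
  have hsub : ∀ y ∈ V, ∃ W : X.Opens, IsAffineOpen W ∧ (W : Set X) ⊆ p ⁻¹' V ∧ y ∈ p '' (W : Set X) := by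
    intro y hy
    obtain ⟨x, rfl⟩ := p.surjective y
    obtain ⟨W, hW, hxW, hWV⟩ := exists_isAffineOpen_mem_and_subset (x := x) (U := p ⁻¹ᵁ V) hy
    exact ⟨W, hW, hWV, x, hxW, rfl⟩
  choose W hW hWV hyW using hsub
  obtain ⟨t, ht⟩ := hV.isCompact.elim_finite_subcover (fun y : V => p '' (W y.1 y.2 : Set X))
    (fun y => p.isOpenMap _ (W y.1 y.2).2) (fun y hy => Set.mem_iUnion.mpr ⟨⟨y, hy⟩, hyW y hy⟩)
  refine ⟨⨆ y ∈ t, W y.1 y.2, ?_, ?_⟩
  · simp only [TopologicalSpace.Opens.coe_iSup]
    exact t.finite_toSet.isCompact_biUnion fun y _ => (hW y.1 y.2).isCompact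
  · simp only [TopologicalSpace.Opens.coe_iSup, Set.image_iUnion]
    exact subset_antisymm (Set.iUnion₂_subset fun y _ => Set.image_subset_iff.mpr (hWV y.1 y.2)) ht

/-- From right cosets to left cosets. -/
lemma isPullback_inv {S : Scheme.{u}} {F G X : Over S} [GrpObj F] [GrpObj G] (u : F ⟶ G) [IsMonHom u]
    (p : G ⟶ X) (hsq : IsPullback ((G ◁ u) ≫ μ[G]) (fst G F) p p) :
    IsPullback ((u ▷ G) ≫ μ[G]) (snd F G) (ι[G] ≫ p) (ι[G] ≫ p) := by
  have hR : ∀ {T : Over S} (z : T ⟶ G ⊗ F), z ≫ (G ◁ u) ≫ μ[G] = (z ≫ fst G F) * (z ≫ snd G F ≫ u) :=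
    fun z => by
      rw [MonObj.mul_eq_mul, MonObj.comp_mul, MonObj.comp_mul, whiskerLeft_fst, whiskerLeft_snd]
  have hL : ∀ {T : Over S} (z : T ⟶ F ⊗ G), z ≫ (u ▷ G) ≫ μ[G] = (z ≫ fst F G ≫ u) * (z ≫ snd F G) :=
    fun z => by
      rw [MonObj.mul_eq_mul, MonObj.comp_mul, MonObj.comp_mul, whiskerRight_fst, whiskerRight_snd]
  have hι : ∀ {T : Over S} (z : T ⟶ G), z ≫ ι[G] = z⁻¹ := fun z => by
    rw [GrpObj.inv_eq_inv, GrpObj.comp_inv, Category.comp_id]
  have : Mono u := by
    refine ⟨fun {T} f g h => ?_⟩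
    have h1 : lift (1 : T ⟶ G) f = lift 1 g := hsq.hom_ext
      (by rw [hR, hR]; simp [h]) (by simp)
    simpa using congrArg (· ≫ snd G F) h1
  have h := (hR (lift (snd F G)⁻¹ (fst F G)⁻¹))
  rw [lift_fst, lift_snd_assoc, GrpObj.inv_comp, ← _root_.mul_inv_rev] at h
  have hw : ((u ▷ G) ≫ μ[G]) ≫ ι[G] ≫ p = snd F G ≫ ι[G] ≫ p := by
    have h0 := hL (𝟙 (F ⊗ G))
    rw [Category.id_comp, Category.id_comp, Category.id_comp] at h0
    rw [← Category.assoc, ← Category.assoc (snd F G), hι, hι, h0, ← h, Category.assoc, Category.assoc]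
    exact (congrArg (lift (snd F G)⁻¹ (fst F G)⁻¹ ≫ ·) hsq.w).trans (by rw [lift_fst_assoc])
  choose l hl₁ hl₂ using fun c : PullbackCone (ι[G] ≫ p) (ι[G] ≫ p) =>
    hsq.exists_lift (c.fst⁻¹) (c.snd⁻¹) (by
      have := c.condition
      rwa [← Category.assoc, ← Category.assoc, hι, hι] at this)
  refine IsPullback.of_isLimit' ⟨hw⟩ (PullbackCone.IsLimit.mk _
    (fun c => lift (l c ≫ snd G F)⁻¹ c.snd) (fun c => ?_) (fun c => lift_snd _ _) (fun c m h₁ h₂ => ?_))
  · have h1 := hl₁ c
    rw [hR, hl₂] at h1
    rw [hL, lift_fst_assoc, lift_snd, GrpObj.inv_comp, Category.assoc]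
    rw [← _root_.inv_inv c.fst, ← h1, _root_.mul_inv_rev, _root_.inv_inv]
  · refine CartesianMonoidalCategory.hom_ext _ _ ?_ (by rw [lift_snd]; exact h₂)
    rw [lift_fst, ← cancel_mono u]
    rw [hL, h₂] at h₁
    have h1 := hl₁ c
    rw [hR, hl₂] at h1
    rw [GrpObj.inv_comp, Category.assoc, Category.assoc, eq_mul_inv_of_mul_eq h₁,
      inv_mul_eq_iff_eq_mul.mp h1, _root_.mul_inv_rev, _root_.inv_inv]

/-- Let A be a local artinian ring, G an A-group scheme locally of finite type, and u : F → G a
homomorphism which is a closed immersion, with F flat and quasi-compact (hence of finite type) over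
A (G is not assumed flat). Then there are an A-scheme X and a morphism p : G → X over A (the
quotient of G by F acting by left translations) such that: X is separated and locally of finite type
over A; p is surjective, flat and locally of finite presentation; the square formed by (f, g) ↦
u(f)·g, the second projection F ×_A G → G and p (twice) is cartesian; X is flat (resp.
quasi-compact, resp. smooth) over A when G is; and every connected component of X is irreducible and
quasi-compact, of dimension d with d + dim F = dim G. (The published statement asks only that F be a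
closed subgroup scheme flat over A, hence locally of finite type; this row also assumes F
quasi-compact over A, the case in which the second projection F ×_A G → G is of finite presentation,
as the reduction to the residue field used in the proof requires. The published statement also
asserts exactness of F ×_A G ⇉ G → X in the category of all ringed spaces and a right action of G on
X; these are not part of this row.) -/
theorem result (A : Type u) [CommRing A] [IsArtinianRing A] [IsLocalRing A] (F G : Over (Spec (CommRingCat.of A))) [GrpObj F] [GrpObj G]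
    [LocallyOfFiniteType G.hom] [Flat F.hom] [QuasiCompact F.hom] (u : F ⟶ G) [IsMonHom u] [IsClosedImmersion u.left] :
    ∃ (X : Over (Spec (CommRingCat.of A))) (p : G ⟶ X),
      IsSeparated X.hom ∧ LocallyOfFiniteType X.hom ∧
      Surjective p.left ∧ Flat p.left ∧ LocallyOfFinitePresentation p.left ∧
      IsPullback ((u ▷ G) ≫ μ[G]) (snd F G) p p ∧
      (Flat G.hom → Flat X.hom) ∧ (QuasiCompact G.hom → QuasiCompact X.hom) ∧ (Smooth G.hom → Smooth X.hom) ∧
      ∀ x : X.left, IsIrreducible (connectedComponent x) ∧ IsCompact (connectedComponent x) ∧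
        topologicalKrullDim ↥(connectedComponent x) + topologicalKrullDim ↥F.left = topologicalKrullDim ↥G.left := by
  have : Mono u := Over.mono_of_mono_left u
  have : IsNoetherianRing A := inferInstance
  have : LocallyOfFiniteType F.hom := by rw [← Over.w u]; infer_instance
  have : LocallyOfFinitePresentation F.hom := inferInstance
  have : IsLocallyNoetherian F.left := LocallyOfFiniteType.isLocallyNoetherian F.hom
  have : QuasiSeparated F.hom := inferInstance
  obtain ⟨X, p, _, _, _, hsq⟩ := GrpQuot19.Artinian.exists_quotient_of_closedSubgroup u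
  have hc := hcov p.left
  obtain ⟨-, h71, h71'⟩ := S5371.result _ G F X u p hc hsq
  obtain ⟨hlfp, hlft, hqcX, hsm, -⟩ := h71 inferInstance inferInstance
  obtain ⟨hqcp, -, -, -⟩ := h71' inferInstance inferInstance inferInstance inferInstance
  have hXlft := hlft inferInstance
  have hsep : IsSeparated X.hom := (S5369.result _ G F X u p hc hsq).2.2.1.2 inferInstance
  have hflat : Flat G.hom → Flat X.hom := ((S5370.result _ G F X u p hc hsq).2.2 inferInstance).2
  have hinv : IsIso (ι[G]).left := GrpScheme.Basic.isIso_left _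
  have hs : ∀ g : G.left, FlatMor.fibreDimAt p.left g = topologicalKrullDim F.left := by
    intro g
    let z := (lift (𝟙 G) (toUnit G ≫ η[F])).left g
    have hz : ((G ◁ u) ≫ μ[G]).left z = g := by
      have : lift (𝟙 G) (toUnit G ≫ η[F]) ≫ (G ◁ u) ≫ μ[G] = 𝟙 G := by
        rw [lift_whiskerLeft_assoc, Category.assoc, IsMonHom.one_hom, ← Hom.one_def, ← Hom.mul_def,
          _root_.mul_one]
      show ((G ◁ u) ≫ μ[G]).left ((lift (𝟙 G) (toUnit G ≫ η[F])).left g) = g
      rw [← GrpScheme.Points.comp_apply, this]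
      rfl
    have h1 := AlgSpD.fibreDimAt_of_isPullback p.left (GrpdLib.GrpOver.isPullback_left hsq) z
    rw [hz] at h1
    have sq : IsPullback (snd G F).left (fst G F).left F.hom G.hom := (IsPullback.of_hasPullback G.hom F.hom).flip
    rw [← h1, AlgSpD.fibreDimAt_of_isPullback F.hom sq]
    have : Subsingleton ↥(Spec (CommRingCat.of A)) := inferInstanceAs (Subsingleton (PrimeSpectrum A))
    rw [← S5330.dim_at F _ _ rfl]
    have huniv : F.hom.base ⁻¹' {F.hom ((snd G F).left z)} = Set.univ :=
      Set.eq_univ_of_forall fun _ => Subsingleton.elim _ _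
    exact IsHomeomorph.topologicalKrullDim_eq _ ((Homeomorph.setCongr huniv).trans
      (Homeomorph.Set.univ F.left)).isHomeomorph
  refine ⟨X, ι[G] ≫ p, hsep, hXlft, ?_, ?_, ?_, isPullback_inv u p hsq, hflat, hqcX inferInstance, hsm,
    fun x => GrpSGA.QuotComp.component_of_artinian p _ hs x⟩
  all_goals rw [Over.comp_left]; infer_instance

end Groth.Agent.S5351
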