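import Groth.Statements.S5354
import Groth.Agent.GrpScheme.Component
-- import your own Groth.Agent.* helpers here

set_option autoImplicit false
universe u
open CategoryTheory CategoryTheory.Limits MonoidalCategory CartesianMonoidalCategory MonObj GrpObj AlgebraicGeometry
open SGA3

namespace Groth.Agent.S5354

open Groth.Agent.GrpScheme in
/-- Let G be a group scheme over a field k (not assumed of finite type). For every point x of G there is
a point z of G ×_k G with product x whose two projections are maximal points of G (generic points of
irreducible components). -/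
theorem result (k : Type u) [Field k] (G : Over (Spec (CommRingCat.of k))) [GrpObj G] (x : G.left) :
    ∃ z : ↥(G ⊗ G).left, μ[G].left.base z = x ∧
      closure {(fst G G).left.base z} ∈ irreducibleComponents ↥G.left ∧
      closure {(snd G G).left.base z} ∈ irreducibleComponents ↥G.left := by
  let T := Points.pointObj G x
  let pt := Points.pointHom G x
  have hfl : Flat (snd T G).left := Basic.snd_left_mem @Flat inferInstance
  let e : T ⊗ G ≅ T ⊗ G :=
    { hom := lift (fst T G) ((snd T G)⁻¹ * (fst T G ≫ pt))
      inv := lift (fst T G) ((fst T G ≫ pt) * (snd T G)⁻¹)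
      hom_inv_id := by
        refine CartesianMonoidalCategory.hom_ext _ _ (by simp) ?_
        rw [Category.assoc, lift_snd, MonObj.comp_mul, GrpObj.comp_inv, lift_snd,
          ← Category.assoc, lift_fst]
        simp
      inv_hom_id := by
        refine CartesianMonoidalCategory.hom_ext _ _ (by simp) ?_
        rw [Category.assoc, lift_snd, MonObj.comp_mul, GrpObj.comp_inv, lift_snd,
          ← Category.assoc, lift_fst]
        simp }
  have : IsIso e.hom.left := @Basic.isIso_left _ _ _ e.hom (Iso.isIso_hom e)
  let φ : T ⊗ G ⟶ G ⊗ G := lift (snd T G) ((snd T G)⁻¹ * (fst T G ≫ pt))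
  have hμ : φ ≫ μ[G] = fst T G ≫ pt := by
    rw [← Hom.mul_def, mul_inv_cancel_left]
  obtain ⟨t⟩ : Nonempty T.left := inferInstance
  obtain ⟨w, hw, -⟩ := Component.exists_isMaxGen ((lift (𝟙 T) pt).left t)
  have key : ∀ (f : T ⊗ G ⟶ G), Flat f.left → closure {f.left w} ∈ irreducibleComponents ↥G.left := by
    intro f hf
    refine Component.isMaxGen_iff.mp fun a ha => ?_
    obtain ⟨a', ha', rfl⟩ := Flat.generalizingMap f.left ha
    rw [hw a' ha']
  refine ⟨φ.left w, ?_, ?_, ?_⟩
  · rw [← Points.comp_apply, hμ, Points.comp_apply]
    exact Points.pointHom_apply G x _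
  · rw [← Points.comp_apply, lift_fst]
    exact key _ hfl
  · rw [← Points.comp_apply, lift_snd]
    refine key _ ?_
    have : (snd T G)⁻¹ * (fst T G ≫ pt) = e.hom ≫ snd T G := (lift_snd _ _).symm
    rw [this, Over.comp_left]
    infer_instance

end Groth.Agent.S5354
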