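import Groth.Statements.S5355
import Groth.Agent.GrpScheme.HomFlat

set_option autoImplicit false
universe u
open CategoryTheory CategoryTheory.Limits MonoidalCategory CartesianMonoidalCategory MonObj GrpObj AlgebraicGeometry
open SGA3

namespace Groth.Agent.S5355

open Groth.Agent.GrpScheme Groth.Agent.GrpScheme.Component in
/-- A flat morphism maps maximal points to maximal points. -/
lemma isMaxGen_map {X Y : Scheme.{u}} (f : X ⟶ Y) [Flat f] {x : X} (hx : IsMaxGen x) :
    IsMaxGen (f x) := fun w hw => by
  obtain ⟨x', h1, h2⟩ := Flat.generalizingMap f hw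
  rw [← h2, hx x' h1]

open Groth.Agent.GrpScheme Groth.Agent.GrpScheme.Component in
/-- Every point of a group scheme over a field is the product of two maximal points. -/
lemma exists_mul {K : Type u} [Field K] (G : Over (Spec (CommRingCat.of K))) [GrpObj G]
    (x : G.left) : ∃ (T : Over (Spec (CommRingCat.of K))) (_ : Nonempty T.left) (a b : T ⟶ G),
      (∀ t, IsMaxGen (a.left t)) ∧ (∀ t, IsMaxGen (b.left t)) ∧ ∀ t, (a * b).left t = x := by
  let T := Points.pointObj G x
  let g : T ⟶ G := Points.pointHom G x
  have : Flat (snd T G).left := Basic.snd_left_mem @Flat inferInstance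
  let d := lift (fst T G) ((fst T G ≫ g) * (snd T G)⁻¹)
  let d' := lift (fst T G) ((snd T G)⁻¹ * (fst T G ≫ g))
  have hd : d' ≫ d = 𝟙 _ := by
    refine CartesianMonoidalCategory.hom_ext _ _ (by simp [d, d']) ?_
    simp only [d, d', Category.assoc, lift_snd, MonObj.comp_mul, GrpObj.comp_inv, lift_fst_assoc,
      Category.id_comp]
    simp
  have hd' : d ≫ d' = 𝟙 _ := by
    refine CartesianMonoidalCategory.hom_ext _ _ (by simp [d, d']) ?_
    simp only [d, d', Category.assoc, lift_snd, MonObj.comp_mul, GrpObj.comp_inv, lift_fst_assoc,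
      Category.id_comp]
    simp
  have : IsIso d := ⟨d', hd', hd⟩
  have : IsIso d.left := Basic.isIso_left d
  have := Points.snd_surjective_of_field T G
  obtain ⟨q₀, -⟩ := (snd T G).left.surjective x
  obtain ⟨q, hq, -⟩ := exists_isMaxGen q₀
  let P := Points.pointObj (T ⊗ G) q
  let π : P ⟶ T ⊗ G := Points.pointHom (T ⊗ G) q
  refine ⟨P, inferInstance, π ≫ d ≫ snd T G, π ≫ snd T G, fun t => ?_, fun t => ?_, fun t => ?_⟩
  · rw [Points.comp_apply, Points.pointHom_apply, Points.comp_apply]
    exact isMaxGen_map _ (isMaxGen_map d.left hq)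
  · rw [Points.comp_apply, Points.pointHom_apply]
    exact isMaxGen_map _ hq
  · rw [show (π ≫ d ≫ snd T G) * (π ≫ snd T G) = π ≫ fst T G ≫ g by
      rw [← MonObj.comp_mul]; simp [d]]
    rw [Points.comp_apply, Points.comp_apply, Points.pointHom_apply]

/-- Let f : G → H be a homomorphism of group schemes over a field k (not assumed of finite type) which
is quasi-compact and dominant. Then (i) f is surjective; (ii) if H is reduced, f is flat (hence
faithfully flat). -/
theorem result (k : Type u) [Field k] (G H : Over (Spec (CommRingCat.of k))) [GrpObj G] [GrpObj H]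
    (f : G ⟶ H) [IsMonHom f] [QuasiCompact f.left] (hf : DenseRange f.left.base) :
    Surjective f.left ∧ (IsReduced H.left → Flat f.left) := by
  have hsurj : Surjective f.left := by
    refine ⟨fun y => ?_⟩
    obtain ⟨T, _, a, b, ha, hb, hab⟩ := exists_mul H y
    have hmax : ∀ w : H.left, Groth.Agent.GrpScheme.Component.IsMaxGen w →
        w ∈ Set.range f.left := fun w hw => by
      obtain ⟨v, hv⟩ := Groth.Agent.SchPoints.exists_specializes_of_mem_closure_range f.left (hf w)
      exact ⟨v, hw _ hv⟩
    exact Groth.Agent.GrpScheme.Points.mul_mem_range f a b (fun t => hmax _ (ha t))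
      (fun t => hmax _ (hb t)) y hab
  exact ⟨hsurj, fun _ => Groth.Agent.GrpScheme.HomFlat.flat_of_surjective f⟩

end Groth.Agent.S5355
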