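import Groth.Statements.S5356
import Groth.Agent.LocFlat.Artinian
import Groth.Agent.AlgSpCov.SchemeDescent
import Mathlib.AlgebraicGeometry.Morphisms.Affine

set_option autoImplicit false
universe u
open CategoryTheory CategoryTheory.Limits MonoidalCategory CartesianMonoidalCategory MonObj GrpObj AlgebraicGeometry
open SGA3

namespace Groth.Agent.S5356

open Groth.Agent in
/-- Over an Artinian ring flat modules are projective. -/
lemma projective_of_flat (R : Type u) [CommRing R] [IsArtinianRing R] (N : Type u) [AddCommGroup N]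
    [Module R N] [Module.Flat R N] : Module.Projective R N := by
  obtain ⟨P, _, _, p, hP, hp, hker⟩ := LocFlat.Artinian.exists_cover (R := R) N
  set J := Ideal.jacobson (⊥ : Ideal R)
  have h1 : LinearMap.ker p ≤ J • LinearMap.ker p := LocFlat.Artinian.ker_le_smul J p hp hker
  obtain ⟨n, hn⟩ := IsArtinianRing.isNilpotent_jacobson_bot (R := R)
  have hpow : ∀ k : ℕ, LinearMap.ker p ≤ J ^ k • LinearMap.ker p := by
    intro k
    induction k with
    | zero => simp
    | succ k ih =>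
      rw [pow_succ, Submodule.mul_smul]
      exact ih.trans (Submodule.smul_mono le_rfl h1)
  have h2 := hpow n
  rw [hn, Submodule.zero_eq_bot, Submodule.bot_smul] at h2
  exact Module.Projective.of_equiv
    (LinearEquiv.ofBijective p ⟨LinearMap.ker_eq_bot.mp (le_bot_iff.mp h2), hp⟩)

/-- Affine charts with projective coordinate rings. -/
def HasProjCover {X S : Scheme.{u}} (h : X ⟶ S) : Prop :=
  ∀ x : X, ∃ V : X.Opens, x ∈ V ∧ IsAffineOpen V ∧
    (letI := (V.ι ≫ h).appTop.hom.toAlgebra; Module.Projective Γ(S, ⊤) Γ(↑V, ⊤))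

lemma HasProjCover.flat {X S : Scheme.{u}} [IsAffine S] {h : X ⟶ S} (hc : HasProjCover h) :
    Flat h := by
  choose V hxV hV hproj using hc
  refine IsZariskiLocalAtSource.of_iSup_eq_top (P := @Flat.{u}) V (eq_top_iff.2 fun x _ => ?_) fun x => ?_
  · exact TopologicalSpace.Opens.mem_iSup.2 ⟨x, hxV x⟩
  · have : IsAffine (V x).toScheme := hV x
    rw [HasRingHomProperty.iff_of_isAffine (P := @Flat.{u})]
    let := ((V x).ι ≫ h).appTop.hom.toAlgebra
    have := hproj x
    exact (inferInstance : Module.Flat Γ(S, ⊤) Γ(↑(V x), ⊤))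

lemma HasProjCover.of_isPullback {Z T X S : Scheme.{u}} [IsAffine S] [IsAffine T]
    {π : Z ⟶ X} {q : Z ⟶ T} {h : X ⟶ S} {t : T ⟶ S} (sq : IsPullback π q h t)
    (hc : HasProjCover h) : HasProjCover q := by
  intro z
  obtain ⟨V, hzV, hV, hproj⟩ := hc (π z)
  have : IsAffine V.toScheme := hV
  have sq' : IsPullback (π ∣_ V) ((π ⁻¹ᵁ V).ι ≫ q) (V.ι ≫ h) t :=
    (isPullback_morphismRestrict π V).paste_vert sq
  have : IsAffine (π ⁻¹ᵁ V).toScheme := .of_isPullback sq'
  refine ⟨π ⁻¹ᵁ V, hzV, this, ?_⟩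
  have hpush := isPushout_appTop_of_isPullback sq'
  let := (V.ι ≫ h).appTop.hom.toAlgebra
  let := t.appTop.hom.toAlgebra
  let := (π ∣_ V).appTop.hom.toAlgebra
  let := ((π ⁻¹ᵁ V).ι ≫ q).appTop.hom.toAlgebra
  let := ((π ∣_ V).appTop.hom.comp (V.ι ≫ h).appTop.hom).toAlgebra
  have : IsScalarTower Γ(S, ⊤) Γ(↑V, ⊤) Γ(↑(π ⁻¹ᵁ V), ⊤) := .of_algebraMap_eq' rfl
  have : IsScalarTower Γ(S, ⊤) Γ(T, ⊤) Γ(↑(π ⁻¹ᵁ V), ⊤) :=
    .of_algebraMap_eq' congr($(hpush.1.1).hom)
  have : Algebra.IsPushout Γ(S, ⊤) Γ(↑V, ⊤) Γ(T, ⊤) Γ(↑(π ⁻¹ᵁ V), ⊤) :=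
    CommRingCat.isPushout_iff_isPushout.mp hpush
  have : Algebra.IsPushout Γ(S, ⊤) Γ(T, ⊤) Γ(↑V, ⊤) Γ(↑(π ⁻¹ᵁ V), ⊤) := Algebra.IsPushout.symm this
  exact Module.Projective.of_equiv
    (Algebra.IsPushout.equiv Γ(S, ⊤) Γ(T, ⊤) Γ(↑V, ⊤) Γ(↑(π ⁻¹ᵁ V), ⊤)).toLinearEquiv

lemma flat_of_isEssentiallyFree {X S : Scheme.{u}} (f : X ⟶ S)
    (hf : SGA3x.IsEssentiallyFree f) : Flat f := by
  choose U hsU hU S' hS' g hg hgs hc using hf
  refine IsZariskiLocalAtTarget.of_iSup_eq_top (P := @Flat.{u}) U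
    (eq_top_iff.2 fun s _ => TopologicalSpace.Opens.mem_iSup.2 ⟨s, hsU s⟩) fun s => ?_
  have : IsAffine (U s).toScheme := hU s
  have := hS' s; have := hg s; have := hgs s
  have hflat : Flat (pullback.snd f (g s ≫ (U s).ι)) :=
    HasProjCover.flat (h := pullback.snd f (g s ≫ (U s).ι)) (hc s)
  let j : pullback f (g s ≫ (U s).ι) ⟶ (f ⁻¹ᵁ U s).toScheme :=
    (isPullback_morphismRestrict f (U s)).lift (pullback.snd _ _ ≫ g s) (pullback.fst _ _)
      (by rw [Category.assoc, pullback.condition])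
  have sq : IsPullback (pullback.snd f (g s ≫ (U s).ι)) j (g s) (f ∣_ U s) := by
    refine IsPullback.of_bot ?_ ?_ (isPullback_morphismRestrict f (U s))
    · rw [IsPullback.lift_snd]
      exact (IsPullback.of_hasPullback f (g s ≫ (U s).ι)).flip
    · exact ((isPullback_morphismRestrict f (U s)).lift_fst _ _ _).symm
  have : QuasiCompact (g s) := inferInstance
  exact MorphismProperty.of_isPullback_of_descendsAlong (P := @Flat.{u})
    (Q := AlgSpCov.Fpqc) sq ⟨⟨hgs s, hg s⟩, inferInstance⟩ hflat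

lemma isEssentiallyFree_of_flat (A : Type u) [CommRing A] [IsArtinianRing A] (X : Scheme.{u})
    (f : X ⟶ Spec (CommRingCat.of A)) (hf : Flat f) : SGA3x.IsEssentiallyFree f := by
  intro s
  let S := Spec (CommRingCat.of A)
  let g : S ⟶ ((⊤ : S.Opens) : Scheme.{u}) := S.topIso.inv
  refine ⟨⊤, trivial, isAffineOpen_top S, S, inferInstance, g, inferInstance, inferInstance,
    fun x => ?_⟩
  obtain ⟨V, hV, hxV, -⟩ := exists_isAffineOpen_mem_and_subset
    (show x ∈ (⊤ : (pullback f (g ≫ (⊤ : S.Opens).ι)).Opens) from trivial)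
  refine ⟨V, hxV, hV, ?_⟩
  have : IsAffine V.toScheme := hV
  have h1 : Flat (V.ι ≫ pullback.snd f (g ≫ (⊤ : S.Opens).ι)) := by
    have : Flat f := hf
    infer_instance
  rw [HasRingHomProperty.iff_of_isAffine (P := @Flat.{u})] at h1
  let := (V.ι ≫ pullback.snd f (g ≫ (⊤ : S.Opens).ι)).appTop.hom.toAlgebra
  have : Module.Flat Γ(S, ⊤) Γ(↑V, ⊤) := h1
  have : IsArtinianRing Γ(S, ⊤) :=
    (Scheme.ΓSpecIso (CommRingCat.of A)).commRingCatIsoToRingEquiv.symm.isArtinianRing
  exact projective_of_flat _ _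

lemma isEssentiallyFree_baseChange {X S S' : Scheme.{u}} (f : X ⟶ S) (g : S' ⟶ S)
    (hf : SGA3x.IsEssentiallyFree f) : SGA3x.IsEssentiallyFree (pullback.snd f g) := by
  intro s'
  obtain ⟨U, hsU, hU, S₁, _, g₁, _, _, hc⟩ := hf (g s')
  obtain ⟨U', hU', hsU', hU'U⟩ := exists_isAffineOpen_mem_and_subset (show s' ∈ g ⁻¹ᵁ U from hsU)
  have : IsAffine U.toScheme := hU
  have : IsAffine U'.toScheme := hU'
  let g₀ : U'.toScheme ⟶ U.toScheme := g.resLE U U' hU'U
  refine ⟨U', hsU', hU', pullback g₁ g₀, inferInstance, pullback.snd g₁ g₀, inferInstance,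
    inferInstance, ?_⟩
  let b : pullback g₁ g₀ ⟶ S' := pullback.snd g₁ g₀ ≫ U'.ι
  have hb : b ≫ g = pullback.fst g₁ g₀ ≫ g₁ ≫ U.ι := by
    rw [← Category.assoc, pullback.condition, Category.assoc, Category.assoc]
    exact congrArg (pullback.snd g₁ g₀ ≫ ·) (Scheme.Hom.resLE_comp_ι g hU'U).symm
  let π : pullback (pullback.snd f g) b ⟶ pullback f (g₁ ≫ U.ι) :=
    pullback.lift (pullback.fst _ _ ≫ pullback.fst f g) (pullback.snd _ _ ≫ pullback.fst g₁ g₀) (by
      rw [Category.assoc, Category.assoc, pullback.condition, ← hb, ← Category.assoc,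
        pullback.condition, Category.assoc])
  refine HasProjCover.of_isPullback (π := π) (h := pullback.snd f (g₁ ≫ U.ι))
    (t := pullback.fst g₁ g₀) ?_ hc
  refine IsPullback.of_right ?_ (pullback.lift_snd _ _ _) (IsPullback.of_hasPullback f (g₁ ≫ U.ι))
  rw [show π ≫ pullback.fst f (g₁ ≫ U.ι) = pullback.fst (pullback.snd f g) b ≫ pullback.fst f g from
    pullback.lift_fst _ _ _, ← hb]
  exact (IsPullback.of_hasPullback _ _).paste_horiz (IsPullback.of_hasPullback f g)


/-- b), c) (first assertion of c)): (a) an essentially free morphism f : X → S is flat, and conversely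
if S is the spectrum of an artinian ring every flat S-scheme is essentially free over S; (b) every
scheme over a field is essentially free over it; (c) if X is essentially free over S then X ×_S S'
is essentially free over S' for every S' → S. -/
theorem result :
    (∀ (X S : Scheme.{u}) (f : X ⟶ S), SGA3x.IsEssentiallyFree f → Flat f) ∧
    (∀ (A : Type u) [CommRing A] [IsArtinianRing A] (X : Scheme.{u}) (f : X ⟶ Spec (CommRingCat.of A)),
      Flat f → SGA3x.IsEssentiallyFree f) ∧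
    (∀ (k : Type u) [Field k] (X : Scheme.{u}) (f : X ⟶ Spec (CommRingCat.of k)), SGA3x.IsEssentiallyFree f) ∧
    (∀ (X S S' : Scheme.{u}) (f : X ⟶ S) (g : S' ⟶ S), SGA3x.IsEssentiallyFree f →
      SGA3x.IsEssentiallyFree (pullback.snd f g)) := by
  refine ⟨fun X S f => flat_of_isEssentiallyFree f, isEssentiallyFree_of_flat, fun k _ X f => ?_,
    fun X S S' f g => isEssentiallyFree_baseChange f g⟩
  exact isEssentiallyFree_of_flat k X f inferInstance

end Groth.Agent.S5356
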