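import Groth.Statements.S5358
import Groth.Agent.TransRep27.Basic
import Groth.Agent.GrpScheme.Points

set_option autoImplicit false
universe u
open CategoryTheory CategoryTheory.Limits MonoidalCategory CartesianMonoidalCategory MonObj GrpObj AlgebraicGeometry
open SGA3

namespace Groth.Agent.S5358

open Groth.Agent

/-- Let G be a group scheme over a field k, y' : Y' → G an immersion and y : Y → G a closed immersion.
(ii) The transporter of Y' into Y, whose points with values in S' are the g such that conjugation by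
g carries every point of Y' (after any base change S'' → S') into Y, is represented by a closed
subscheme of G; if y' is also a closed immersion, so is the strict transporter (g Y' g⁻¹ = Y
functorially). (iii) For every subgroup scheme h : H → G (a homomorphism which is an immersion), the
normalizer of H in G is represented by a closed subscheme of G. -/
theorem result (k : Type u) [Field k] (G Y Y' : Over (Spec (CommRingCat.of k))) [GrpObj G]
    (y : Y ⟶ G) [IsClosedImmersion y.left] (y' : Y' ⟶ G) [IsImmersion y'.left] :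
    (∃ (T : Over (Spec (CommRingCat.of k))) (t : T ⟶ G), IsClosedImmersion t.left ∧
      ∀ (S' : Over (Spec (CommRingCat.of k))) (g : S' ⟶ G), (∃ z : S' ⟶ T, z ≫ t = g) ↔
        ∀ (S'' : Over (Spec (CommRingCat.of k))) (s : S'' ⟶ S') (x : S'' ⟶ Y'),
          ∃ x' : S'' ⟶ Y, (s ≫ g) * (x ≫ y') * (s ≫ g)⁻¹ = x' ≫ y) ∧
    (IsClosedImmersion y'.left →
      ∃ (T : Over (Spec (CommRingCat.of k))) (t : T ⟶ G), IsClosedImmersion t.left ∧
      ∀ (S' : Over (Spec (CommRingCat.of k))) (g : S' ⟶ G), (∃ z : S' ⟶ T, z ≫ t = g) ↔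
        ((∀ (S'' : Over (Spec (CommRingCat.of k))) (s : S'' ⟶ S') (x : S'' ⟶ Y'),
          ∃ x' : S'' ⟶ Y, (s ≫ g) * (x ≫ y') * (s ≫ g)⁻¹ = x' ≫ y) ∧
        (∀ (S'' : Over (Spec (CommRingCat.of k))) (s : S'' ⟶ S') (x' : S'' ⟶ Y),
          ∃ x : S'' ⟶ Y', (s ≫ g)⁻¹ * (x' ≫ y) * (s ≫ g) = x ≫ y'))) ∧
    (∀ (H : Over (Spec (CommRingCat.of k))) [GrpObj H] (h : H ⟶ G) [IsMonHom h] [IsImmersion h.left],
      ∃ (N : Over (Spec (CommRingCat.of k))) (_ : GrpObj N) (n : N ⟶ G), IsClosedImmersion n.left ∧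
        Red.IsNormalizerOf h n) := by
  have trans : ∀ {A B : Over (Spec (CommRingCat.of k))} (a : A ⟶ G) (b : B ⟶ G)
      [IsClosedImmersion b.left],
      ∃ (T : Over (Spec (CommRingCat.of k))) (t : T ⟶ G), IsClosedImmersion t.left ∧
        (∀ (S' : Over (Spec (CommRingCat.of k))) (g : S' ⟶ G), (∃ z : S' ⟶ T, z ≫ t = g) ↔
          ∀ (S'' : Over (Spec (CommRingCat.of k))) (s : S'' ⟶ S') (x : S'' ⟶ A),
            ∃ x' : S'' ⟶ B, (s ≫ g) * (x ≫ a) * (s ≫ g)⁻¹ = x' ≫ b) := by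
    intro A B a b _
    obtain ⟨T, t, ht, hT⟩ := TransRep27.exists_mapsInto
      (fst G A * (snd G A ≫ a) * (fst G A)⁻¹) b
    refine ⟨T, t, ht, fun S' g => (hT S' g).trans (forall_congr' fun S'' => forall_congr' fun s =>
      forall_congr' fun x => exists_congr fun x' => ?_)⟩
    simp only [MonObj.comp_mul, GrpObj.comp_inv, lift_fst, lift_snd_assoc]
    exact eq_comm
  have strict : ∀ {A B : Over (Spec (CommRingCat.of k))} (a : A ⟶ G) (b : B ⟶ G)
      [IsClosedImmersion a.left] [IsClosedImmersion b.left],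
      ∃ (T : Over (Spec (CommRingCat.of k))) (t : T ⟶ G), IsClosedImmersion t.left ∧
      ∀ (S' : Over (Spec (CommRingCat.of k))) (g : S' ⟶ G), (∃ z : S' ⟶ T, z ≫ t = g) ↔
        ((∀ (S'' : Over (Spec (CommRingCat.of k))) (s : S'' ⟶ S') (x : S'' ⟶ A),
          ∃ x' : S'' ⟶ B, (s ≫ g) * (x ≫ a) * (s ≫ g)⁻¹ = x' ≫ b) ∧
        (∀ (S'' : Over (Spec (CommRingCat.of k))) (s : S'' ⟶ S') (x' : S'' ⟶ B),
          ∃ x : S'' ⟶ A, (s ≫ g)⁻¹ * (x' ≫ b) * (s ≫ g) = x ≫ a)) := by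
    intro A B a b _ _
    obtain ⟨T₁, t₁, h₁, hT₁⟩ := trans a b
    obtain ⟨T₂, t₂, h₂, hT₂⟩ := TransRep27.exists_mapsInto
      ((fst G B)⁻¹ * (snd G B ≫ b) * fst G B) a
    refine ⟨pullback t₁ t₂, pullback.fst t₁ t₂ ≫ t₁, ?_, fun S' g => ?_⟩
    · have : IsClosedImmersion (pullback.fst t₁ t₂).left :=
        MorphismProperty.of_isPullback (P := @IsClosedImmersion)
          ((IsPullback.of_hasPullback t₁ t₂).map (Over.forget _)).flip h₂
      rw [Over.comp_left]
      infer_instance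
    rw [← hT₁ S' g]
    have h2 := hT₂ S' g
    simp only [MonObj.comp_mul, GrpObj.comp_inv, lift_fst, lift_snd_assoc] at h2
    constructor
    · rintro ⟨z, rfl⟩
      refine ⟨⟨z ≫ pullback.fst t₁ t₂, Category.assoc _ _ _⟩, fun S'' s x' => ?_⟩
      obtain ⟨x, hx⟩ := h2.1 ⟨z ≫ pullback.snd t₁ t₂, by
        rw [Category.assoc, ← pullback.condition]⟩ S'' s x'
      exact ⟨x, hx.symm⟩
    · rintro ⟨⟨z₁, hz₁⟩, h⟩
      obtain ⟨z₂, hz₂⟩ := h2.2 fun S'' s x' => (h S'' s x').imp fun _ => Eq.symm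
      exact ⟨pullback.lift z₁ z₂ (hz₁.trans hz₂.symm), by rw [pullback.lift_fst_assoc, hz₁]⟩
  refine ⟨trans y' y, fun _ => strict y' y, fun H _ h _ _ => ?_⟩
  have hcl : IsClosedImmersion h.left := IsClosedImmersion.of_isPreimmersion _
    (GrpScheme.Points.isClosed_range_of_isLocallyClosed h h.left.isLocallyClosed_range)
  obtain ⟨N, n, hn, hN⟩ := strict h h
  let p : ∀ T : Over (Spec (CommRingCat.of k)), Subgroup (T ⟶ G) := fun T =>
    { carrier := {g | ∀ (T' : Over (Spec (CommRingCat.of k))) (s : T' ⟶ T) (x : T' ⟶ H),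
        (∃ x' : T' ⟶ H, (s ≫ g) * (x ≫ h) * (s ≫ g)⁻¹ = x' ≫ h) ∧
        (∃ x' : T' ⟶ H, (s ≫ g)⁻¹ * (x ≫ h) * (s ≫ g) = x' ≫ h)}
      one_mem' := fun T' s x => by simp [MonObj.comp_one]; exact ⟨x, rfl⟩
      mul_mem' := fun {a b} ha hb T' s x => by
        constructor
        · obtain ⟨x₁, e₁⟩ := (hb T' s x).1
          obtain ⟨x₂, e₂⟩ := (ha T' s x₁).1
          exact ⟨x₂, by rw [← e₂, ← e₁, MonObj.comp_mul]; group⟩
        · obtain ⟨x₁, e₁⟩ := (ha T' s x).2
          obtain ⟨x₂, e₂⟩ := (hb T' s x₁).2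
          exact ⟨x₂, by rw [← e₂, ← e₁, MonObj.comp_mul]; group⟩
      inv_mem' := fun {a} ha T' s x => by
        refine ⟨?_, ?_⟩
        · simpa [GrpObj.comp_inv] using (ha T' s x).2
        · simpa [GrpObj.comp_inv] using (ha T' s x).1 }
  have hN' : ∀ T (g : T ⟶ G), (∃ z : T ⟶ N, z ≫ n = g) ↔ g ∈ p T := fun T g =>
    (hN T g).trans ⟨fun h T' s x => ⟨h.1 T' s x, h.2 T' s x⟩,
      fun h => ⟨fun T' s x => (h T' s x).1, fun T' s x => (h T' s x).2⟩⟩
  obtain ⟨gN, hmon⟩ := TransRep27.exists_grpObj_of_points n p hN'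
  exact ⟨N, gN, n, hn, hmon, TransRep27.mono_of_mono_left n, fun X g => hN' X g⟩

end Groth.Agent.S5358
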