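import Groth.Statements.S5359
import Groth.Agent.S2732

set_option autoImplicit false
universe u
open CategoryTheory CategoryTheory.Limits MonoidalCategory CartesianMonoidalCategory MonObj GrpObj AlgebraicGeometry
open SGA3

namespace Groth.Agent.S5359

/-- Let G be an S-group scheme and u : X → G a monomorphism of S-schemes with X of finite presentation
over S. If a point g : T → G is such that, for every T' → T and every point x of X with values in
T', the conjugate g x g⁻¹ is again a point of X, then the same holds for g⁻¹: the transporter of X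
into X coincides with the strict transporter (the normalizer of X). -/
theorem result (S : Scheme.{u}) (G X : Over S) [GrpObj G] (u : X ⟶ G) [Mono u]
    [LocallyOfFinitePresentation X.hom] [QuasiCompact X.hom] [QuasiSeparated X.hom]
    (T : Over S) (g : T ⟶ G)
    (hg : ∀ (T' : Over S) (t : T' ⟶ T) (x : T' ⟶ X), ∃ x' : T' ⟶ X, (t ≫ g) * (x ≫ u) * (t ≫ g)⁻¹ = x' ≫ u) :
    ∀ (T' : Over S) (t : T' ⟶ T) (x : T' ⟶ X), ∃ x' : T' ⟶ X, (t ≫ g)⁻¹ * (x ≫ u) * (t ≫ g) = x' ≫ u := by
  intro T' t x
  obtain ⟨x₀, hx₀⟩ := hg (T ⊗ X) (fst T X) (snd T X)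
  have key : ∀ {W : Over S} (a : W ⟶ T ⊗ X),
      a ≫ x₀ ≫ u = (a ≫ fst T X ≫ g) * (a ≫ snd T X ≫ u) * (a ≫ fst T X ≫ g)⁻¹ := fun a => by
    rw [← hx₀, MonObj.comp_mul, MonObj.comp_mul, GrpObj.comp_inv]
  let φ : T ⊗ X ⟶ T ⊗ X := lift (fst T X) x₀
  haveI : Mono φ := ⟨fun {W} a b h => by
    have h1 := congrArg (· ≫ fst T X) h
    have h2 := congrArg (fun m => m ≫ snd T X ≫ u) h
    simp only [φ, Category.assoc, lift_fst, lift_snd_assoc] at h1 h2
    refine CartesianMonoidalCategory.hom_ext _ _ h1 ((cancel_mono u).1 ?_)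
    rw [key, key, reassoc_of% h1] at h2
    simpa only [Category.assoc] using mul_left_cancel (mul_right_cancel h2)⟩
  haveI : LocallyOfFinitePresentation (fst T X).left :=
    MorphismProperty.pullback_fst (P := @LocallyOfFinitePresentation) T.hom X.hom inferInstance
  haveI : QuasiCompact (fst T X).left :=
    MorphismProperty.pullback_fst (P := @QuasiCompact) T.hom X.hom inferInstance
  haveI : QuasiSeparated (fst T X).left :=
    MorphismProperty.pullback_fst (P := @QuasiSeparated) T.hom X.hom inferInstance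
  haveI : Mono φ.left := Functor.map_mono (Over.forget S) φ
  haveI : IsIso φ.left := Groth.Agent.S2732.result (fst T X).left φ.left
    (congrArg CommaMorphism.left (lift_fst (fst T X) x₀))
  haveI : IsIso ((Over.forget S).map φ) := this
  haveI : IsIso φ := isIso_of_reflects_iso φ (Over.forget S)
  obtain ⟨a, ha⟩ : ∃ a, a ≫ φ = lift t x := ⟨lift t x ≫ inv φ, by simp⟩
  have h1 : a ≫ fst T X = t := by
    have := congrArg (· ≫ fst T X) ha
    simpa [φ] using this
  have h2 : a ≫ x₀ = x := by
    have := congrArg (· ≫ snd T X) ha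
    simpa [φ] using this
  refine ⟨a ≫ snd T X, ?_⟩
  have h3 := key a
  rw [reassoc_of% h1, reassoc_of% h2] at h3
  rw [h3, Category.assoc]
  group

end Groth.Agent.S5359
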