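import Groth.Statements.S5360
import Groth.Agent.S2732

set_option autoImplicit false
universe u
open CategoryTheory CategoryTheory.Limits MonoidalCategory CartesianMonoidalCategory MonObj GrpObj AlgebraicGeometry
open SGA3

namespace Groth.Agent.S5360

set_option backward.isDefEq.respectTransparency.types false

open CartesianMonoidalCategory in
/-- A monomorphic endomorphism of `G ⊗ G` over the first factor is an isomorphism. -/
theorem isIso_over_fst {S : Scheme.{u}} {G : Over S}
    [LocallyOfFinitePresentation G.hom] [QuasiCompact G.hom] [QuasiSeparated G.hom]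
    (φ : G ⊗ G ⟶ G ⊗ G) [Mono φ] (hφ : φ ≫ fst G G = fst G G) : IsIso φ := by
  have : LocallyOfFinitePresentation (fst G G).left :=
    MorphismProperty.pullback_fst (P := @LocallyOfFinitePresentation) G.hom G.hom inferInstance
  have : QuasiCompact (fst G G).left :=
    MorphismProperty.pullback_fst (P := @QuasiCompact) G.hom G.hom inferInstance
  have : QuasiSeparated (fst G G).left :=
    MorphismProperty.pullback_fst (P := @QuasiSeparated) G.hom G.hom inferInstance
  have : Mono φ.left := Functor.map_mono (Over.forget S) φ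
  have : IsIso φ.left := Groth.Agent.S2732.result (fst G G).left φ.left (congrArg CommaMorphism.left hφ)
  have : IsIso ((Over.forget S).map φ) := this
  exact isIso_of_reflects_iso φ (Over.forget S)

/-- Let G be an S-scheme of finite presentation over S with an associative composition law m : G ×_S G →
G such that for every S-scheme S' and every point g of G with values in S' the left and right
translations by g are injective on G(S'), and such that G has an S-point. Then G is an S-group
scheme: there is a group object structure on G over S whose multiplication is m. -/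
theorem result (S : Scheme.{u}) (G : Over S)
    [LocallyOfFinitePresentation G.hom] [QuasiCompact G.hom] [QuasiSeparated G.hom]
    (m : G ⊗ G ⟶ G) (hassoc : (m ▷ G) ≫ m = (α_ G G G).hom ≫ (G ◁ m) ≫ m)
    (hl : ∀ (T : Over S) (g : T ⟶ G), Function.Injective (fun x : T ⟶ G => lift g x ≫ m))
    (hr : ∀ (T : Over S) (g : T ⟶ G), Function.Injective (fun x : T ⟶ G => lift x g ≫ m))
    (e : 𝟙_ (Over S) ⟶ G) :
    ∃ inst : GrpObj G, inst.mul = m := by
  let L : G ⊗ G ⟶ G ⊗ G := lift (fst G G) m
  let R : G ⊗ G ⟶ G ⊗ G := lift (fst G G) (lift (snd G G) (fst G G) ≫ m)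
  have hL : ∀ {T : Over S} (a : T ⟶ G ⊗ G), a ≫ L = lift (a ≫ fst G G) (lift (a ≫ fst G G) (a ≫ snd G G) ≫ m) := by
    intro T a
    ext1 <;> simp [L, lift_comp_fst_snd]
  have hR : ∀ {T : Over S} (a : T ⟶ G ⊗ G), a ≫ R = lift (a ≫ fst G G) (lift (a ≫ snd G G) (a ≫ fst G G) ≫ m) := by
    intro T a
    ext1
    · simp [R]
    · simp only [R, Category.assoc, lift_snd, ← comp_lift_assoc]
  have : Mono L := ⟨fun {T} a b h => by
    have h1 := congrArg (· ≫ fst G G) h
    have h2 := congrArg (· ≫ snd G G) h
    simp only [hL, lift_fst, lift_snd] at h1 h2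
    rw [← h1] at h2
    exact CartesianMonoidalCategory.hom_ext _ _ h1 (hl T _ h2)⟩
  have : Mono R := ⟨fun {T} a b h => by
    have h1 := congrArg (· ≫ fst G G) h
    have h2 := congrArg (· ≫ snd G G) h
    simp only [hR, lift_fst, lift_snd] at h1 h2
    rw [← h1] at h2
    exact CartesianMonoidalCategory.hom_ext _ _ h1 (hr T _ h2)⟩
  have := isIso_over_fst L (lift_fst _ _)
  have := isIso_over_fst R (lift_fst _ _)
  -- divisions
  have hdl : ∀ {T : Over S} (g y : T ⟶ G), lift g (lift g y ≫ inv L ≫ snd G G) ≫ m = y := by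
    intro T g y
    have h := hL (lift g y ≫ inv L)
    rw [Category.assoc (lift g y), IsIso.inv_hom_id, Category.comp_id] at h
    have hf : (lift g y ≫ inv L) ≫ fst G G = g := by simpa using (congrArg (· ≫ fst G G) h).symm
    rw [hf] at h
    simpa using (congrArg (· ≫ snd G G) h).symm
  have hdr : ∀ {T : Over S} (g y : T ⟶ G), ∃ x : T ⟶ G, lift x g ≫ m = y := by
    intro T g y
    have h := hR (lift g y ≫ inv R)
    rw [Category.assoc (lift g y), IsIso.inv_hom_id, Category.comp_id] at h
    have hf : (lift g y ≫ inv R) ≫ fst G G = g := by simpa using (congrArg (· ≫ fst G G) h).symm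
    rw [hf] at h
    exact ⟨_, by simpa using (congrArg (· ≫ snd G G) h).symm⟩
  have hass : ∀ {T : Over S} (x y z : T ⟶ G),
      lift (lift x y ≫ m) z ≫ m = lift x (lift y z ≫ m) ≫ m := by
    intro T x y z
    have h := congrArg (lift (lift x y) z ≫ ·) hassoc
    simpa using h
  let d : G ⊗ G ⟶ G := inv L ≫ snd G G
  let ε : 𝟙_ (Over S) ⟶ G := lift e e ≫ d
  have hone_r : ∀ {T : Over S} (y : T ⟶ G), lift y (toUnit T ≫ ε) ≫ m = y := by
    intro T y
    obtain ⟨x, hx⟩ := hdr (toUnit T ≫ e) y
    have he : lift (toUnit T ≫ e) (toUnit T ≫ ε) ≫ m = toUnit T ≫ e := by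
      have h := hdl (toUnit T ≫ e) (toUnit T ≫ e)
      rwa [show toUnit T ≫ ε = lift (toUnit T ≫ e) (toUnit T ≫ e) ≫ d from comp_lift_assoc _ _ _ _]
    rw [← hx, hass, he]
  have hone_l : ∀ {T : Over S} (y : T ⟶ G), lift (toUnit T ≫ ε) y ≫ m = y := fun {T} y =>
    hl T y (by simp only; rw [← hass, hone_r])
  let ι' : G ⟶ G := lift (𝟙 G) (toUnit G ≫ ε) ≫ d
  have hri : lift (𝟙 G) ι' ≫ m = toUnit G ≫ ε := hdl _ _
  have hli : lift ι' (𝟙 G) ≫ m = toUnit G ≫ ε := hl G (𝟙 G) (by
    simp only
    rw [← hass, hri, hone_l, hone_r])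
  exact ⟨{
    one := ε
    mul := m
    one_mul := by
      have h : ε ▷ G = lift (toUnit _ ≫ ε) (snd (𝟙_ (Over S)) G) := by
        ext1 <;> simp [toUnit_unique (fst (𝟙_ (Over S)) G) (toUnit _)]
      rw [h, hone_l, leftUnitor_hom]
    mul_one := by
      have h : G ◁ ε = lift (fst G (𝟙_ (Over S))) (toUnit _ ≫ ε) := by
        ext1 <;> simp [toUnit_unique (snd G (𝟙_ (Over S))) (toUnit _)]
      rw [h, hone_r, rightUnitor_hom]
    mul_assoc := hassoc
    inv := ι'
    left_inv := hli
    right_inv := hri }, rfl⟩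

end Groth.Agent.S5360
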