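import Groth.Statements.S5361
-- import your own Groth.Agent.* helpers here

import Groth.Agent.GrpGen19.Basic
import Groth.Agent.GrpScheme.Points
import Groth.Agent.TransRep27.Basic

set_option autoImplicit false
universe u
open CategoryTheory CategoryTheory.Limits MonoidalCategory CartesianMonoidalCategory MonObj GrpObj AlgebraicGeometry
open SGA3

namespace Groth.Agent.S5361

open Groth.Agent

/-- Words factor after base change. -/
lemma word_factor {k : Type u} [Field k] {G X : Over (Spec (CommRingCat.of k))} [GrpObj G] (f : X ⟶ G)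
    {S : Scheme.{u}} (σ : S ⟶ Spec (CommRingCat.of k)) {Γ' : Over S} [GrpObj Γ'] (i' : Γ' ⟶ Red.bc σ G)
    [IsMonHom i'] (f'' : Red.bc σ X ⟶ Γ') (hf : f'' ≫ i' = (Over.pullback σ).map f) :
    ∀ l, ∃ v : Red.bc σ (GrpGen19.word X l) ⟶ Γ', v ≫ i' = (Over.pullback σ).map (GrpGen19.wordMap f l)
  | [] => ⟨1, by
      rw [MonObj.one_comp]
      exact (map_one ((Over.pullback σ).homMonoidHom)).symm⟩
  | b :: l => by
    obtain ⟨v, hv⟩ := word_factor f σ i' f'' hf l
    have hmap : (Over.pullback σ).map (GrpGen19.wordMap f (b :: l)) =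
        ((Over.pullback σ).map (fst X (GrpGen19.word X l)) ≫ (Over.pullback σ).map (GrpGen19.letter f b)) *
          ((Over.pullback σ).map (snd X (GrpGen19.word X l)) ≫ (Over.pullback σ).map (GrpGen19.wordMap f l)) := by
      rw [← Functor.map_comp, ← Functor.map_comp, ← Functor.map_mul]
      rfl
    have hinv : (Over.pullback σ).map (f⁻¹) = ((Over.pullback σ).map f)⁻¹ :=
      eq_inv_of_mul_eq_one_left (by
        rw [← Functor.map_mul, inv_mul_cancel]
        exact map_one ((Over.pullback σ).homMonoidHom))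
    refine ⟨(((Over.pullback σ).map (fst X (GrpGen19.word X l)) ≫ (if b then f'' else f''⁻¹)) *
      ((Over.pullback σ).map (snd X (GrpGen19.word X l)) ≫ v)), ?_⟩
    refine Eq.trans ?_ hmap.symm
    refine (MonObj.mul_comp _ _ _).trans ?_
    erw [Category.assoc, Category.assoc, hv]
    congr 2
    cases b
    · simp only [GrpGen19.letter, Bool.false_eq_true, if_false, GrpObj.inv_comp, hf, hinv]
    · simpa only [GrpGen19.letter, if_true] using hf


lemma sd_precomp {X : Scheme.{u}} {J : Type u} {Z Z' : J → Scheme.{u}} (h : ∀ j, Z j ⟶ X)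
    (e : ∀ j, Z' j ⟶ Z j) (f : ∀ j, Z' j ⟶ X) (he : ∀ j, e j ≫ h j = f j) (hf : SchDom.SD f) :
    SchDom.SD h := fun V t ht => hf V t fun j => by
  rw [← he j, Scheme.Hom.comp_app]
  show ((e j).app _).hom (((h j).app V).hom t) = 0
  rw [ht j, map_zero]

lemma dense_of_sd {X : Scheme.{u}} {J : Type u} {Z : J → Scheme.{u}} (f : ∀ j, Z j ⟶ X) (hf : SchDom.SD f) :
    Dense (⋃ j, Set.range (f j)) := by
  rw [dense_iff_inter_open]
  intro O hO hne
  by_contra he
  let V : X.Opens := ⟨O, hO⟩
  have h1 : (1 : Γ(X, V)) = 0 := hf V 1 fun j => by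
    have hb : f j ⁻¹ᵁ V = ⊥ := le_bot_iff.1 fun z hz =>
      he ⟨f j z, hz, Set.mem_iUnion.2 ⟨j, z, rfl⟩⟩
    haveI : Subsingleton Γ(Z j, f j ⁻¹ᵁ V) := hb ▸ CommRingCat.subsingleton_of_isTerminal (Z j).sheaf.isTerminalOfEmpty
    exact Subsingleton.elim _ _
  haveI : Nonempty V := hne.to_subtype
  exact one_ne_zero h1

/-- Let G be a group scheme over a field k, X a geometrically reduced k-scheme, f : X → G a k-morphism,
and i : Γ → G the smallest closed subgroup scheme of G through which f factors (the subgroup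
generated by f). Then for every k-scheme S, the base change Γ_S → G_S is the smallest subgroup
scheme of G_S through which f_S factors: for every homomorphism i' : Γ' → G_S of S-group schemes
which is an immersion (not necessarily closed) such that f_S factors through i', Γ_S → G_S factors
through i'. -/
theorem result (k : Type u) [Field k] (G X : Over (Spec (CommRingCat.of k))) [GrpObj G]
    [GeometricallyReduced X.hom] (f : X ⟶ G) (Γ : Over (Spec (CommRingCat.of k))) [GrpObj Γ] (i : Γ ⟶ G) [IsMonHom i] [IsClosedImmersion i.left]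
    (hf : ∃ f' : X ⟶ Γ, f' ≫ i = f)
    (hmin : ∀ (Γ' : Over (Spec (CommRingCat.of k))) (_ : GrpObj Γ') (i' : Γ' ⟶ G), IsMonHom i' → IsClosedImmersion i'.left →
        (∃ f'' : X ⟶ Γ', f'' ≫ i' = f) → ∃ j : Γ ⟶ Γ', j ≫ i' = i)
    (S : Scheme.{u}) (σ : S ⟶ (Spec (CommRingCat.of k))) :
    ∀ (Γ' : Over S) (_ : GrpObj Γ') (i' : Γ' ⟶ Red.bc σ G), IsMonHom i' → IsImmersion i'.left →
      (∃ f'' : Red.bc σ X ⟶ Γ', f'' ≫ i' = (Over.pullback σ).map f) →
      ∃ j : Red.bc σ Γ ⟶ Γ', j ≫ i' = (Over.pullback σ).map i := by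
  intro Γ' hΓ' i' hi'M hi' hf''
  obtain ⟨f'', hf''⟩ := hf''
  obtain ⟨f', hf'⟩ := hf
  -- `Γ` is the reduced closure of the words
  obtain ⟨Γ₁, hΓ₁, i₁, hM₁, hci₁, hfac₁, hgr, hr₁, hmin₁⟩ := GrpGen19.exists_generated f
  obtain ⟨j₀, hj₀⟩ := hmin Γ₁ hΓ₁ i₁ hM₁ hci₁ hfac₁
  obtain ⟨j₁, hj₁⟩ := hmin₁ Γ inferInstance i inferInstance inferInstance ⟨f', hf'⟩
  haveI : Mono i := TransRep27.mono_of_mono_left i
  haveI : Mono i₁ := TransRep27.mono_of_mono_left i₁
  haveI : IsIso j₀.left := ⟨j₁.left, by
      rw [← Over.comp_left, show j₀ ≫ j₁ = 𝟙 Γ by rw [← cancel_mono i, Category.assoc, hj₁, hj₀, Category.id_comp]]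
      rfl,
    by
      rw [← Over.comp_left, show j₁ ≫ j₀ = 𝟙 Γ₁ by rw [← cancel_mono i₁, Category.assoc, hj₀, hj₁, Category.id_comp]]
      rfl⟩
  haveI : IsReduced Γ₁.left := by
    haveI : IsReduced (pullback Γ₁.hom (𝟙 (Spec (CommRingCat.of k)))) :=
      GeometricallyReduced.geometrically_isReduced _ _ _ (IsPullback.of_hasPullback _ _)
    exact isReduced_of_isOpenImmersion (inv (pullback.fst Γ₁.hom (𝟙 (Spec (CommRingCat.of k)))))
  haveI : IsReduced Γ.left := isReduced_of_isOpenImmersion j₀.left
  have hr : Set.range i.left = (GrpGen19.genSet f : Set G.left) := by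
    rw [← hr₁]
    refine Set.Subset.antisymm ?_ ?_ <;> rintro _ ⟨z, rfl⟩
    · exact ⟨j₀.left z, by rw [← GrpScheme.Points.comp_apply, hj₀]⟩
    · exact ⟨j₁.left z, by rw [← GrpScheme.Points.comp_apply, hj₁]⟩
  choose v hv using fun l : ULift.{u} (List Bool) => GrpGen19.exists_factor_word f i f' hf' l.down
  have hsd := GrpGen19.sd_of_dense (fun l => (v l).left)
    (GrpGen19.dense_range_of_lift f (C := GrpGen19.genSet f) rfl i i.left.isClosedEmbedding.isEmbedding hr v hv)
  -- base change of the family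
  have hbase : ∀ (T : Scheme.{u}) (τ : T ⟶ Spec (CommRingCat.of k)),
      SchDom.SD (fun l => ((Over.pullback τ).map (v l)).left) := fun T τ => by
    refine sd_precomp _ (fun l => pullback.map ((v l).left ≫ Γ.hom) τ (GrpGen19.word X l.down).hom τ
      (𝟙 _) (𝟙 _) (𝟙 _) (by simp) (by simp)) _ (fun l => ?_) (SchDom.univ_of_field (fun l => (v l).left) Γ.hom τ hsd)
    show pullback.map _ _ _ _ _ _ _ _ _ ≫ pullback.lift _ _ _ = SchDom.fMap Γ.hom τ (fun l => (v l).left) l
    apply pullback.hom_ext <;>
      simp [pullback.map, SchDom.fMap, pullback.lift_fst, pullback.lift_fst_assoc, pullback.lift_snd, pullback.lift_snd_assoc]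
  choose w hw using word_factor f σ i' f'' hf''
  let iS := (Over.pullback σ).map i
  have hiw : ∀ l : ULift.{u} (List Bool), (Over.pullback σ).map (v l) ≫ iS = w l.down ≫ i' := fun l => by
    rw [hw, ← Functor.map_comp, hv]
  -- surjectivity of `P → Γ_S`
  have hsub : ∀ x, iS.left x ∈ Set.range i'.left := by
    intro x
    set s := (Red.bc σ Γ).hom x
    let ρ : Spec (CommRingCat.of (S.residueField s)) ⟶ S := S.fromSpecResidueField s
    letI : GrpObj Γ' := hΓ'
    letI : GrpObj ((Over.pullback ρ).obj Γ') := Red.grpObj_bc ρ Γ'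
    letI : GrpObj ((Over.pullback ρ).obj (Red.bc σ G)) := Red.grpObj_bc ρ (Red.bc σ G)
    haveI : IsMonHom ((Over.pullback ρ).map i') := inferInstance
    let α := (Over.pullback ρ).map iS
    let β := (Over.pullback ρ).map i'
    haveI : IsImmersion β.left := by
      have h : IsPullback β.left (pullback.fst Γ'.hom ρ) (pullback.fst (Red.bc σ G).hom ρ) i'.left := by
        refine IsPullback.of_right (h₁₂ := pullback.snd (Red.bc σ G).hom ρ) (v₁₃ := ρ) (h₂₂ := (Red.bc σ G).hom)
          ?_ (pullback.lift_fst _ _ _) (IsPullback.of_hasPullback _ ρ).flip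
        show IsPullback (β.left ≫ ((Over.pullback ρ).obj (Red.bc σ G)).hom) _ _ _
        rw [Over.w β, Over.w i']
        exact (IsPullback.of_hasPullback _ ρ).flip
      exact MorphismProperty.of_isPullback (P := @IsImmersion) h.flip hi'
    have hcl : IsClosed (Set.range β.left) :=
      GrpScheme.Points.isClosed_range_of_isLocallyClosed β β.left.isLocallyClosed_range
    let g : Spec (CommRingCat.of (S.residueField s)) ⟶ Spec (CommRingCat.of k) := ρ ≫ σ
    let e : pullback Γ.hom g ⟶ pullback (pullback.snd Γ.hom σ) ρ :=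
      pullback.lift (pullback.lift (pullback.fst Γ.hom g) (pullback.snd Γ.hom g ≫ ρ)
        (by rw [Category.assoc]; exact pullback.condition)) (pullback.snd Γ.hom g) (by simp [pullback.lift_snd])
    obtain ⟨z, hz, -⟩ := Scheme.Pullback.exists_preimage_pullback (f := (Red.bc σ Γ).hom) (g := ρ) x
      (IsLocalRing.closedPoint _) (Scheme.fromSpecResidueField_apply s _).symm
    let e' : pullback (pullback.snd Γ.hom σ) ρ ⟶ pullback Γ.hom g :=
      pullback.lift (pullback.fst _ ρ ≫ pullback.fst Γ.hom σ) (pullback.snd _ ρ) (by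
        simp only [g, Category.assoc, pullback.condition]
        rw [pullback.condition_assoc])
    have he' : e' ≫ e = 𝟙 _ := by
      refine pullback.hom_ext (pullback.hom_ext ?_ ?_) ?_
      · simp [e, e', pullback.lift_fst, pullback.lift_fst_assoc, pullback.lift_snd, pullback.lift_snd_assoc]
      · simp [e, e', pullback.condition, pullback.lift_fst, pullback.lift_fst_assoc, pullback.lift_snd, pullback.lift_snd_assoc]
      · simp [e, e', pullback.lift_fst, pullback.lift_fst_assoc, pullback.lift_snd, pullback.lift_snd_assoc]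
    have hC : Set.univ ⊆ e ⁻¹' (α.left ⁻¹' Set.range β.left) := by
      rw [← (dense_of_sd _ (hbase _ g)).closure_eq]
      refine closure_minimal ?_ ((hcl.preimage α.left.continuous).preimage e.continuous)
      refine Set.iUnion_subset fun l => ?_
      rintro _ ⟨q, rfl⟩
      let q' : ↥(pullback (pullback.snd (GrpGen19.word X l.down).hom σ) ρ) :=
        (pullback.lift (pullback.lift (pullback.fst _ g) (pullback.snd _ g ≫ ρ)
          (by rw [Category.assoc]; exact pullback.condition)) (pullback.snd _ g) (by simp [pullback.lift_snd]) :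
          pullback (GrpGen19.word X l.down).hom g ⟶ pullback (pullback.snd (GrpGen19.word X l.down).hom σ) ρ) q
      have h1 : e (((Over.pullback g).map (v l)).left q) =
          ((Over.pullback ρ).map ((Over.pullback σ).map (v l))).left q' := by
        rw [← Scheme.Hom.comp_apply, ← Scheme.Hom.comp_apply]
        refine congrArg (fun m : pullback (GrpGen19.word X l.down).hom g ⟶ pullback (pullback.snd Γ.hom σ) ρ => m q) ?_
        apply pullback.hom_ext
        · apply pullback.hom_ext <;> simp [e, Over.pullback, pullback.lift_fst, pullback.lift_fst_assoc, pullback.lift_snd, pullback.lift_snd_assoc]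
        · simp [e, Over.pullback, pullback.lift_fst, pullback.lift_fst_assoc, pullback.lift_snd, pullback.lift_snd_assoc]
      show α.left (e (((Over.pullback g).map (v l)).left q)) ∈ Set.range β.left
      rw [h1, ← GrpScheme.Points.comp_apply, ← Functor.map_comp, hiw, Functor.map_comp, GrpScheme.Points.comp_apply]
      exact ⟨_, rfl⟩
    have hzC := hC (Set.mem_univ (e' z))
    rw [Set.mem_preimage, ← Scheme.Hom.comp_apply, he'] at hzC
    obtain ⟨q, hq⟩ := hzC
    refine ⟨pullback.fst Γ'.hom ρ q, ?_⟩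
    rw [← hz, ← Scheme.Hom.comp_apply, ← Scheme.Hom.comp_apply]
    have hβ : β.left ≫ pullback.fst (Red.bc σ G).hom ρ = pullback.fst Γ'.hom ρ ≫ i'.left := pullback.lift_fst _ _ _
    have hα : α.left ≫ pullback.fst (Red.bc σ G).hom ρ = pullback.fst (Red.bc σ Γ).hom ρ ≫ iS.left :=
      pullback.lift_fst _ _ _
    rw [← hβ, ← hα, Scheme.Hom.comp_apply, Scheme.Hom.comp_apply, hq]
    rfl
  haveI : IsImmersion (pullback.fst iS.left i'.left) :=
    MorphismProperty.pullback_fst (P := @IsImmersion) _ _ hi'
  set p := pullback.fst iS.left i'.left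
  haveI : IsClosedImmersion p := .of_isPreimmersion p (by
    rw [Scheme.Pullback.range_fst]
    convert isClosed_univ
    exact Set.eq_univ_of_forall fun x => hsub x)
  haveI : IsIso p := by
    rw [IsClosedImmersion.isIso_iff_ker_eq_bot, eq_bot_iff]
    intro U a ha
    rw [Scheme.Hom.ker_apply, RingHom.mem_ker] at ha
    refine (Submodule.mem_bot _).2 (hbase S σ U.1 a fun l => ?_)
    have hfac : pullback.lift ((Over.pullback σ).map (v l)).left (w l.down).left
        (congrArg Over.Hom.left (hiw l)) ≫ p = ((Over.pullback σ).map (v l)).left := pullback.lift_fst _ _ _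
    show ((((Over.pullback σ).map (v l)).left).app U.1).hom a = 0
    rw [← hfac, Scheme.Hom.comp_app]
    show ((pullback.lift _ _ _ : _ ⟶ pullback iS.left i'.left).app _).hom ((p.app U.1).hom a) = 0
    rw [ha, map_zero]
    rfl
  refine ⟨Over.homMk (inv p ≫ pullback.snd iS.left i'.left) ?_, Over.OverMorphism.ext ?_⟩
  · rw [← Over.w i', Category.assoc, ← pullback.condition_assoc, IsIso.inv_hom_id_assoc, Over.w]
  · show (inv p ≫ pullback.snd iS.left i'.left) ≫ i'.left = iS.left
    rw [Category.assoc, ← pullback.condition, IsIso.inv_hom_id_assoc]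

end Groth.Agent.S5361
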