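import Groth.Statements.S5362
-- import your own Groth.Agent.* helpers here

import Groth.Agent.GrpGen19.Basic
import Groth.Agent.GrpdLib.SepDense
import Groth.Agent.GrpScheme.IdComponent
import Groth.Agent.GrpScheme.ClosedImage
import Groth.Agent.TransRep27.Basic

set_option autoImplicit false
universe u
open CategoryTheory CategoryTheory.Limits MonoidalCategory CartesianMonoidalCategory MonObj GrpObj AlgebraicGeometry
open SGA3

namespace Groth.Agent.S5362

/-- The subgroup generated by a quasi-compact homomorphism lies in its image. -/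
theorem core {k : Type u} [Field k] {H P G : Over (Spec (CommRingCat.of k))} [GrpObj H] [GrpObj P] [GrpObj G]
    [LocallyOfFiniteType G.hom] [LocallyOfFiniteType H.hom] [QuasiCompact H.hom] [GeometricallyReduced H.hom]
    (i : H ⟶ P) (p : P ⟶ G) [IsMonHom i] [IsMonHom p] (m : H ⟶ G) (e : i ≫ p = m) :
    ∃ (Γ₁ : Over (Spec (CommRingCat.of k))) (_ : GrpObj Γ₁) (i₁ : Γ₁ ⟶ G), IsMonHom i₁ ∧
      IsClosedImmersion i₁.left ∧ (∃ f₁ : H ⟶ Γ₁, f₁ ≫ i₁ = m) ∧ IsReduced Γ₁.left ∧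
      Set.range i₁.left ⊆ Set.range m.left := by
  subst e
  haveI : IsSeparated G.hom := GrpScheme.IdComponent.isSeparated G
  haveI : QuasiCompact ((i ≫ p).left ≫ G.hom) := by rw [Over.w]; infer_instance
  haveI : QuasiCompact (i ≫ p).left := QuasiCompact.of_comp (i ≫ p).left G.hom
  have hcl := GrpScheme.ClosedImage.isClosed_range (f := i ≫ p)
  obtain ⟨Γ₁, hΓ₁, i₁, hM₁, hci₁, hf₁, hgr, hr₁, -⟩ := GrpGen19.exists_generated (i ≫ p)
  haveI : IsReduced (pullback Γ₁.hom (𝟙 (Spec (CommRingCat.of k)))) :=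
    GeometricallyReduced.geometrically_isReduced _ _ _ (IsPullback.of_hasPullback _ _)
  refine ⟨Γ₁, hΓ₁, i₁, hM₁, hci₁, hf₁,
    isReduced_of_isOpenImmersion (inv (pullback.fst Γ₁.hom (𝟙 (Spec (CommRingCat.of k))))), ?_⟩
  rw [hr₁]
  refine closure_minimal (Set.iUnion_subset fun l => ?_) hcl
  rintro _ ⟨z, rfl⟩
  obtain ⟨v, hv⟩ := GrpGen19.exists_factor_word (i ≫ p) (i ≫ p) (𝟙 _) (Category.id_comp _) l.down
  exact ⟨v.left z, by rw [← GrpScheme.Points.comp_apply, hv]⟩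

/-- Let G be a group scheme locally of finite type over a field k, and a : A → G, b : B → G two closed
subgroup schemes which are smooth and of finite type over k, such that B normalizes A (conjugating a
point of A by a point of B gives a point of A). Let i : Γ → G be the smallest closed subgroup scheme
of G through which both a and b factor. Then Γ is reduced and its underlying set is A·B, the image
of A ×_k B under (x, y) ↦ a(x) b(y). -/
theorem result (k : Type u) [Field k] (G A B : Over (Spec (CommRingCat.of k))) [GrpObj G] [GrpObj A] [GrpObj B]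
    [LocallyOfFiniteType G.hom] (a : A ⟶ G) [IsMonHom a] [IsClosedImmersion a.left] (b : B ⟶ G) [IsMonHom b]
    [IsClosedImmersion b.left] [Smooth A.hom] [QuasiCompact A.hom] [Smooth B.hom] [QuasiCompact B.hom]
    (hN : ∀ (T : Over (Spec (CommRingCat.of k))) (y : T ⟶ B) (x : T ⟶ A), ∃ x' : T ⟶ A, (y ≫ b) * (x ≫ a) * (y ≫ b)⁻¹ = x' ≫ a)
    (Γ : Over (Spec (CommRingCat.of k))) [GrpObj Γ] (i : Γ ⟶ G) [IsMonHom i] [IsClosedImmersion i.left]
    (ha : ∃ a' : A ⟶ Γ, a' ≫ i = a) (hb : ∃ b' : B ⟶ Γ, b' ≫ i = b)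
    (hmin : ∀ (Γ' : Over (Spec (CommRingCat.of k))) (_ : GrpObj Γ') (i' : Γ' ⟶ G), IsMonHom i' → IsClosedImmersion i'.left →
        (∃ a'' : A ⟶ Γ', a'' ≫ i' = a) → (∃ b'' : B ⟶ Γ', b'' ≫ i' = b) → ∃ j : Γ ⟶ Γ', j ≫ i' = i) :
    IsReduced Γ.left ∧ Set.range i.left.base = Set.range ((a ⊗ₘ b) ≫ μ[G]).left.base := by
  haveI : Mono a := TransRep27.mono_of_mono_left a
  haveI := GrpdLib.SepDense.geometricallyReduced_of_smooth A.hom
  haveI := GrpdLib.SepDense.geometricallyReduced_of_smooth B.hom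
  haveI : GeometricallyReduced (A ⊗ B).hom := GrpGen19.geometricallyReduced_tensor A B
  let m : A ⊗ B ⟶ G := (fst A B ≫ a) * (snd A B ≫ b)
  have hm : (a ⊗ₘ b) ≫ μ[G] = m := by
    simp only [m, Hom.mul_def]
    congr 1
  have hmx : ∀ {T : Over (Spec (CommRingCat.of k))} (x : T ⟶ A) (y : T ⟶ B),
      lift x y ≫ m = (x ≫ a) * (y ≫ b) := fun x y => by simp [m, MonObj.comp_mul]
  let i₀ : A ⊗ B ⟶ G ⊗ B := lift m (snd A B)
  have hi₀ : ∀ {T : Over (Spec (CommRingCat.of k))} (z : T ⟶ A ⊗ B),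
      z ≫ m = (z ≫ fst A B ≫ a) * (z ≫ snd A B ≫ b) := fun z => MonObj.comp_mul _ _ _
  haveI : Mono i₀ := ⟨fun {T} z w h => by
    have h1 : z ≫ m = w ≫ m := by simpa [i₀] using congrArg (· ≫ fst G B) h
    have h2 : z ≫ snd A B = w ≫ snd A B := by simpa [i₀] using congrArg (· ≫ snd G B) h
    refine CartesianMonoidalCategory.hom_ext _ _ ((cancel_mono a).1 ?_) h2
    rw [hi₀, hi₀, reassoc_of% h2] at h1
    simpa using mul_right_cancel h1⟩
  have pair : ∀ {T : Over (Spec (CommRingCat.of k))} (g : T ⟶ G ⊗ B) (x : T ⟶ A) (y : T ⟶ B),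
      (x ≫ a) * (y ≫ b) = g ≫ fst G B → y = g ≫ snd G B → lift x y ≫ i₀ = g := fun g x y h1 h2 =>
    CartesianMonoidalCategory.hom_ext _ _ (by simp [i₀, hmx, h1]) (by simp [i₀, h2])
  obtain ⟨hg, hi₀M⟩ := GrpScheme.SubgroupObj.exists_grpObj i₀ (by
      let P := (A ⊗ B) ⊗ (A ⊗ B)
      let x : P ⟶ A := fst _ _ ≫ fst _ _
      let y : P ⟶ B := fst _ _ ≫ snd _ _
      let x' : P ⟶ A := snd _ _ ≫ fst _ _
      let y' : P ⟶ B := snd _ _ ≫ snd _ _
      obtain ⟨x'', hx⟩ := hN P y x'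
      refine ⟨lift (x * x'') (y * y'), pair _ _ _ ?_ ?_⟩
      · rw [MonObj.mul_comp, MonObj.mul_comp, ← hx,
          show (i₀ ⊗ₘ i₀) ≫ μ[G ⊗ B] = (fst _ _ ≫ i₀) * (snd _ _ ≫ i₀) by
            rw [Hom.mul_def, ← lift_map, lift_fst_snd, Category.id_comp],
          MonObj.mul_comp]
        simp only [i₀, Category.assoc, lift_fst, hi₀, x, y, x', y']
        group
      · rw [show (i₀ ⊗ₘ i₀) ≫ μ[G ⊗ B] = (fst _ _ ≫ i₀) * (snd _ _ ≫ i₀) by
            rw [Hom.mul_def, ← lift_map, lift_fst_snd, Category.id_comp],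
          MonObj.mul_comp]
        simp only [i₀, Category.assoc, lift_snd, y, y'])
    ⟨lift 1 1, by
      rw [show η[G ⊗ B] = (1 : 𝟙_ _ ⟶ G ⊗ B) by simp [Hom.one_def]]
      exact pair _ _ _ (by simp [MonObj.one_comp]) (by simp [MonObj.one_comp])⟩ (by
      obtain ⟨x'', hx⟩ := hN (A ⊗ B) (snd A B)⁻¹ (fst A B)⁻¹
      refine ⟨lift x'' (snd A B)⁻¹, ?_⟩
      rw [← Hom.inv_def]
      refine pair _ _ _ ?_ ?_
      · rw [← hx, GrpObj.inv_comp, GrpObj.inv_comp, GrpObj.inv_comp]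
        simp only [i₀, lift_fst, m]
        group
      · rw [GrpObj.inv_comp]
        simp only [i₀, lift_snd])
  haveI : LocallyOfFiniteType (A ⊗ B).hom :=
    inferInstanceAs (LocallyOfFiniteType (pullback.fst A.hom B.hom ≫ A.hom))
  haveI : QuasiCompact (A ⊗ B).hom :=
    inferInstanceAs (QuasiCompact (pullback.fst A.hom B.hom ≫ A.hom))
  haveI : IsMonHom (fst G B) := ⟨by simp, by simp⟩
  obtain ⟨Γ₁, hΓ₁, i₁, hM₁, hci₁, ⟨f₁, hf₁⟩, hred, h1m⟩ :=
    @core k _ (A ⊗ B) (G ⊗ B) G hg _ _ _ _ _ _ i₀ (fst G B) hi₀M _ m (lift_fst _ _)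
  have hlift_a : lift (𝟙 A) 1 ≫ m = a := by rw [hmx, MonObj.one_comp, _root_.mul_one, Category.id_comp]
  have hlift_b : lift 1 (𝟙 B) ≫ m = b := by rw [hmx, MonObj.one_comp, _root_.one_mul, Category.id_comp]
  obtain ⟨j, hj⟩ := hmin Γ₁ hΓ₁ i₁ hM₁ hci₁ ⟨lift (𝟙 A) 1 ≫ f₁, by rw [Category.assoc, hf₁, hlift_a]⟩
    ⟨lift 1 (𝟙 B) ≫ f₁, by rw [Category.assoc, hf₁, hlift_b]⟩
  obtain ⟨a', ha'⟩ := ha
  obtain ⟨b', hb'⟩ := hb
  have hfac : ((fst A B ≫ a') * (snd A B ≫ b')) ≫ i = m := by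
    rw [MonObj.mul_comp, Category.assoc, Category.assoc, ha', hb']
  have hmΓ : Set.range m.left ⊆ Set.range i.left := by
    rintro _ ⟨z, rfl⟩
    exact ⟨((fst A B ≫ a') * (snd A B ≫ b')).left z, by rw [← GrpScheme.Points.comp_apply, hfac]⟩
  have hii₁ : Set.range i.left ⊆ Set.range i₁.left := by
    rintro _ ⟨z, rfl⟩
    exact ⟨j.left z, by rw [← GrpScheme.Points.comp_apply, hj]⟩
  refine ⟨?_, ?_⟩
  · haveI := hred
    obtain ⟨l, hl⟩ := RedSub.exists_lift_closed i.left i₁.left (h1m.trans hmΓ)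
    have h2 : j.left ≫ l = 𝟙 _ := by
      rw [← cancel_mono i.left, Category.assoc, hl, ← Over.comp_left, hj, Category.id_comp]
    have h3 : l ≫ j.left = 𝟙 _ := by
      rw [← cancel_mono i₁.left, Category.assoc, ← Over.comp_left, hj, hl, Category.id_comp]
    haveI : IsIso j.left := ⟨l, h2, h3⟩
    exact isReduced_of_isOpenImmersion j.left
  · rw [hm]
    exact (hii₁.trans h1m).antisymm hmΓ

end Groth.Agent.S5362
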