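import Groth.Statements.S5363
import Groth.Agent.TransRep27.Basic
import Groth.Agent.GrpScheme.Points

set_option autoImplicit false
universe u
open CategoryTheory CategoryTheory.Limits MonoidalCategory CartesianMonoidalCategory MonObj GrpObj AlgebraicGeometry
open SGA3

namespace Groth.Agent.S5363

open Groth.Agent

/-- Let G be a group scheme over a field k and g a k-rational point of G. Then the smallest closed
subgroup scheme Γ of G through which g factors (the closed subgroup generated by g) is commutative. -/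
theorem result (k : Type u) [Field k] (G : Over (Spec (CommRingCat.of k))) [GrpObj G]
    (g : 𝟙_ (Over (Spec (CommRingCat.of k))) ⟶ G) (Γ : Over (Spec (CommRingCat.of k))) [GrpObj Γ] (i : Γ ⟶ G) [IsMonHom i] [IsClosedImmersion i.left]
    (hf : ∃ f' : 𝟙_ (Over (Spec (CommRingCat.of k))) ⟶ Γ, f' ≫ i = g)
    (hmin : ∀ (Γ' : Over (Spec (CommRingCat.of k))) (_ : GrpObj Γ') (i' : Γ' ⟶ G), IsMonHom i' → IsClosedImmersion i'.left →
        (∃ f'' : 𝟙_ (Over (Spec (CommRingCat.of k))) ⟶ Γ', f'' ≫ i' = g) → ∃ j : Γ ⟶ Γ', j ≫ i' = i) :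
    IsCommMonObj Γ := by
  obtain ⟨g', hg'⟩ := hf
  have key : ∀ {Y : Over (Spec (CommRingCat.of k))} (v : Y ⟶ G),
      (∀ (T : Over (Spec (CommRingCat.of k))) (y : T ⟶ Y), Commute (toUnit T ≫ g) (y ≫ v)) →
      ∀ (T : Over (Spec (CommRingCat.of k))) (z : T ⟶ Γ) (y : T ⟶ Y), Commute (z ≫ i) (y ≫ v) := by
    intro Y v hv
    obtain ⟨C, c, hc, hC⟩ := TransRep27.exists_equalizer (fst G Y * (snd G Y ≫ v))
      ((snd G Y ≫ v) * fst G Y)
    let p : ∀ T : Over (Spec (CommRingCat.of k)), Subgroup (T ⟶ G) := fun T =>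
      { carrier := {x | ∀ (T' : Over (Spec (CommRingCat.of k))) (s : T' ⟶ T) (y : T' ⟶ Y),
          Commute (s ≫ x) (y ≫ v)}
        one_mem' := fun T' s y => by rw [MonObj.comp_one]; exact Commute.one_left _
        mul_mem' := fun {a b} ha hb T' s y => by
          rw [MonObj.comp_mul]; exact (ha T' s y).mul_left (hb T' s y)
        inv_mem' := fun {a} ha T' s y => by
          rw [GrpObj.comp_inv]; exact (ha T' s y).inv_left }
    have hC' : ∀ (T : Over (Spec (CommRingCat.of k))) (x : T ⟶ G),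
        (∃ z : T ⟶ C, z ≫ c = x) ↔ x ∈ p T := fun T x => by
      rw [hC]
      simp only [MonObj.comp_mul, lift_fst, lift_snd_assoc]
      rfl
    obtain ⟨gC, hmon⟩ := TransRep27.exists_grpObj_of_points c p hC'
    obtain ⟨j, hj⟩ := hmin C gC c hmon hc ((hC' _ _).2 fun T' s y => by
      rw [show s = toUnit T' from toUnit_unique _ _]; exact hv T' y)
    intro T z y
    have := (hC' T (z ≫ i)).1 ⟨z ≫ j, by rw [Category.assoc, hj]⟩ T (𝟙 T) y
    rwa [Category.id_comp] at this
  have h1 := key g fun T y => by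
    rw [show y = toUnit T from toUnit_unique _ _]
  have h2 := key i fun T y => (h1 T y (toUnit T)).symm
  have : Mono i := TransRep27.mono_of_mono_left i
  refine ⟨?_⟩
  rw [← cancel_mono i]
  have h := h2 (Γ ⊗ Γ) (snd Γ Γ) (fst Γ Γ)
  rw [commute_iff_eq, ← MonObj.mul_comp, ← MonObj.mul_comp] at h
  rw [show μ[Γ] = fst Γ Γ * snd Γ Γ by simp [Hom.mul_def],
    show (β_ Γ Γ).hom ≫ (fst Γ Γ * snd Γ Γ) = snd Γ Γ * fst Γ Γ by simp [MonObj.comp_mul]]
  exact h

end Groth.Agent.S5363
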