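import Groth.Statements.S5364
import Groth.Agent.TransRep27.Basic
import Groth.Agent.GrpScheme.Points

set_option autoImplicit false
universe u
open CategoryTheory CategoryTheory.Limits MonoidalCategory CartesianMonoidalCategory MonObj GrpObj AlgebraicGeometry
open SGA3

namespace Groth.Agent.S5364

open Groth.Agent

/-- Let G be a group scheme over a field k and a : A → G, b : B → G two closed subgroup schemes which
are geometrically reduced over k and normal in G. Let i : Γ → G be the commutator subgroup scheme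
(A, B): the smallest closed subgroup scheme of G through which the morphism A ×_k B → G, (x, y) ↦
a(x) b(y) a(x)⁻¹ b(y)⁻¹, factors. Then Γ is normal in G. (The published statement also covers
characteristic subgroups; this row states the case of normal subgroups only.) -/
theorem result (k : Type u) [Field k] (G A B : Over (Spec (CommRingCat.of k))) [GrpObj G] [GrpObj A] [GrpObj B]
    (a : A ⟶ G) [IsMonHom a] [IsClosedImmersion a.left] (b : B ⟶ G) [IsMonHom b] [IsClosedImmersion b.left]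
    [GeometricallyReduced A.hom] [GeometricallyReduced B.hom] (hA : AlgGrp.IsNormalHom a) (hB : AlgGrp.IsNormalHom b)
    (Γ : Over (Spec (CommRingCat.of k))) [GrpObj Γ] (i : Γ ⟶ G) [IsMonHom i] [IsClosedImmersion i.left]
    (hf : ∃ f' : A ⊗ B ⟶ Γ, f' ≫ i = (((fst A B) ≫ a) * ((snd A B) ≫ b) * ((fst A B) ≫ a)⁻¹ * ((snd A B) ≫ b)⁻¹))
    (hmin : ∀ (Γ' : Over (Spec (CommRingCat.of k))) (_ : GrpObj Γ') (i' : Γ' ⟶ G), IsMonHom i' → IsClosedImmersion i'.left →
        (∃ f'' : A ⊗ B ⟶ Γ', f'' ≫ i' = (((fst A B) ≫ a) * ((snd A B) ≫ b) * ((fst A B) ≫ a)⁻¹ * ((snd A B) ≫ b)⁻¹)) → ∃ j : Γ ⟶ Γ', j ≫ i' = i) :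
    AlgGrp.IsNormalHom i := by
  obtain ⟨M, m, hm, hM⟩ := TransRep27.exists_mapsInto
    (snd G G * fst G G * (snd G G)⁻¹) i
  have hM' : ∀ (T : Over (Spec (CommRingCat.of k))) (x : T ⟶ G), (∃ z : T ⟶ M, z ≫ m = x) ↔
      ∀ (T' : Over (Spec (CommRingCat.of k))) (s : T' ⟶ T) (g : T' ⟶ G),
        ∃ l : T' ⟶ Γ, l ≫ i = g * (s ≫ x) * g⁻¹ := fun T x => by
    rw [hM]
    simp only [MonObj.comp_mul, GrpObj.comp_inv, lift_fst, lift_snd]
  let p : ∀ T : Over (Spec (CommRingCat.of k)), Subgroup (T ⟶ G) := fun T =>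
    { carrier := {x | ∀ (T' : Over (Spec (CommRingCat.of k))) (s : T' ⟶ T) (g : T' ⟶ G),
        ∃ l : T' ⟶ Γ, l ≫ i = g * (s ≫ x) * g⁻¹}
      one_mem' := fun T' s g => ⟨1, by simp [MonObj.one_comp, MonObj.comp_one]⟩
      mul_mem' := fun {a b} ha hb T' s g => by
        obtain ⟨l₁, h₁⟩ := ha T' s g
        obtain ⟨l₂, h₂⟩ := hb T' s g
        exact ⟨l₁ * l₂, by rw [MonObj.mul_comp, h₁, h₂, MonObj.comp_mul]; group⟩
      inv_mem' := fun {a} ha T' s g => by
        obtain ⟨l₁, h₁⟩ := ha T' s g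
        exact ⟨l₁⁻¹, by rw [GrpObj.inv_comp, h₁, GrpObj.comp_inv]; group⟩ }
  obtain ⟨gM, hmon⟩ := TransRep27.exists_grpObj_of_points m p hM'
  obtain ⟨f', hf'⟩ := hf
  obtain ⟨j, hj⟩ := hmin M gM m hmon hm ((hM' _ _).2 fun T' s g => by
    obtain ⟨a', ha'⟩ := hA T' g (s ≫ fst A B)
    obtain ⟨b', hb'⟩ := hB T' g (s ≫ snd A B)
    refine ⟨lift a' b' ≫ f', ?_⟩
    rw [Category.assoc, hf']
    simp only [MonObj.comp_mul, GrpObj.comp_inv, lift_fst_assoc, lift_snd_assoc, ← ha', ← hb',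
      Category.assoc]
    group)
  intro T g n
  obtain ⟨l, hl⟩ := (hM' T (n ≫ i)).1 ⟨n ≫ j, by rw [Category.assoc, hj]⟩ T (𝟙 T) g
  exact ⟨l, by rw [hl, Category.id_comp]⟩

end Groth.Agent.S5364
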