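import Groth.Statements.S5366
import Groth.Agent.GrpdLib.SepExt
import Groth.Agent.GrpdLib.GrpOver

set_option autoImplicit false
universe u
open CategoryTheory CategoryTheory.Limits MonoidalCategory CartesianMonoidalCategory MonObj GrpObj AlgebraicGeometry
open SGA3

namespace Groth.Agent.S5366

open scoped commutatorElement

/-- The commutator of subgroups generated by conjugation-stable sets is generated by commutators. -/
lemma commutator_closure {H : Type*} [Group H] (A B : Set H)
    (hA : ∀ a ∈ A, ∀ g : H, g * a * g⁻¹ ∈ A) (hB : ∀ b ∈ B, ∀ g : H, g * b * g⁻¹ ∈ B) :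
    ⁅Subgroup.closure A, Subgroup.closure B⁆ = Subgroup.closure (Set.image2 (⁅·, ·⁆) A B) := by
  refine le_antisymm ?_ ((Subgroup.closure_le _).2 ?_)
  · let N := Subgroup.closure (Set.image2 (⁅·, ·⁆) A B)
    have hN : N.Normal := ⟨fun x hx g => by
      have h1 : N ≤ N.comap (MulAut.conj g).toMonoidHom := by
        refine (Subgroup.closure_le _).2 ?_
        rintro _ ⟨a, ha, b, hb, rfl⟩
        show (MulAut.conj g).toMonoidHom ⁅a, b⁆ ∈ N
        rw [map_commutatorElement]
        exact Subgroup.subset_closure ⟨_, hA a ha g, _, hB b hb g, rfl⟩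
      exact h1 hx⟩
    let π := QuotientGroup.mk' N
    have h1 : Subgroup.closure A ≤ (Subgroup.centralizer (π '' B)).comap π := by
      refine (Subgroup.closure_le _).2 fun a ha => ?_
      rintro _ ⟨b, hb, rfl⟩
      have h0 : π ⁅a, b⁆ = 1 :=
        (QuotientGroup.eq_one_iff _).2 (Subgroup.subset_closure ⟨a, ha, b, hb, rfl⟩)
      rw [map_commutatorElement, commutatorElement_eq_one_iff_mul_comm] at h0
      exact h0.symm
    have h2 : Subgroup.closure B ≤ (Subgroup.centralizer (π '' Subgroup.closure A)).comap π := by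
      refine (Subgroup.closure_le _).2 fun b hb => ?_
      rintro _ ⟨a, ha, rfl⟩
      exact (h1 ha _ ⟨b, hb, rfl⟩).symm
    rw [Subgroup.commutator_le]
    intro a ha b hb
    rw [← QuotientGroup.eq_one_iff (N := N)]
    show π ⁅a, b⁆ = 1
    rw [map_commutatorElement, commutatorElement_eq_one_iff_mul_comm]
    exact h2 hb _ ⟨a, ha, rfl⟩
  · rintro _ ⟨a, ha, b, hb, rfl⟩
    exact Subgroup.commutator_mem_commutator (Subgroup.subset_closure ha) (Subgroup.subset_closure hb)

variable {k : Type u} [Field k] (G : Over (Spec (CommRingCat.of k))) [GrpObj G]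

/-- The universal value of the iterated commutator word. -/
noncomputable def derWord : ℕ → Σ T : Over (Spec (CommRingCat.of k)), T ⟶ G
  | 0 => ⟨G, 𝟙 G⟩
  | n + 1 => ⟨(derWord n).1 ⊗ (derWord n).1, ⁅fst (derWord n).1 (derWord n).1 ≫ (derWord n).2, snd (derWord n).1 (derWord n).1 ≫ (derWord n).2⁆⟩

/-- The universal value of the left-normed commutator word. -/
noncomputable def lcsWord : ℕ → Σ T : Over (Spec (CommRingCat.of k)), T ⟶ G
  | 0 => ⟨G, 𝟙 G⟩
  | n + 1 => ⟨(lcsWord n).1 ⊗ G, ⁅fst (lcsWord n).1 G ≫ (lcsWord n).2, snd (lcsWord n).1 G⁆⟩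

lemma comp_commutatorElement {T T' : Over (Spec (CommRingCat.of k))} (f : T ⟶ T') (a b : T' ⟶ G) :
    f ≫ ⁅a, b⁆ = ⁅f ≫ a, f ≫ b⁆ := by
  simp only [commutatorElement_def, MonObj.comp_mul, GrpObj.comp_inv]

lemma range_conj {T : Over (Spec (CommRingCat.of k))} {U : Over (Spec (CommRingCat.of k))}
    (w : U ⟶ G) (P : Set (T ⟶ G)) (hP : P = Set.range (fun φ : T ⟶ U => φ ≫ w))
    (hw : ∀ (φ : T ⟶ U) (g : T ⟶ G), ∃ ψ : T ⟶ U, ψ ≫ w = g * (φ ≫ w) * g⁻¹) :
    ∀ a ∈ P, ∀ g, g * a * g⁻¹ ∈ P := by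
  subst hP
  rintro _ ⟨φ, rfl⟩ g
  obtain ⟨ψ, hψ⟩ := hw φ g
  exact ⟨ψ, hψ⟩

lemma conj_derWord (n : ℕ) {T : Over (Spec (CommRingCat.of k))} :
    ∀ (φ : T ⟶ (derWord G n).1) (g : T ⟶ G), ∃ ψ, ψ ≫ (derWord G n).2 = g * (φ ≫ (derWord G n).2) * g⁻¹ := by
  induction n with
  | zero =>
    intro φ g
    change T ⟶ G at φ
    exact ⟨(g * φ * g⁻¹ : T ⟶ G), by simp [derWord]⟩
  | succ n ih =>
    intro φ g
    obtain ⟨ψ₁, h₁⟩ := ih (φ ≫ fst _ _) g
    obtain ⟨ψ₂, h₂⟩ := ih (φ ≫ snd _ _) g
    refine ⟨lift ψ₁ ψ₂, ?_⟩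
    simp only [derWord, comp_commutatorElement, lift_fst_assoc, lift_snd_assoc, h₁, h₂, Category.assoc]
    rw [← conjugate_commutatorElement]

lemma conj_lcsWord (n : ℕ) {T : Over (Spec (CommRingCat.of k))} :
    ∀ (φ : T ⟶ (lcsWord G n).1) (g : T ⟶ G), ∃ ψ, ψ ≫ (lcsWord G n).2 = g * (φ ≫ (lcsWord G n).2) * g⁻¹ := by
  induction n with
  | zero =>
    intro φ g
    change T ⟶ G at φ
    exact ⟨(g * φ * g⁻¹ : T ⟶ G), by simp [lcsWord]⟩
  | succ n ih =>
    intro φ g
    obtain ⟨ψ₁, h₁⟩ := ih (φ ≫ fst _ _) g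
    refine ⟨lift ψ₁ (g * (φ ≫ snd _ _) * g⁻¹), ?_⟩
    simp only [lcsWord, comp_commutatorElement, lift_fst_assoc, lift_snd, h₁, Category.assoc]
    rw [← conjugate_commutatorElement]

lemma derivedSeries_eq (n : ℕ) (T : Over (Spec (CommRingCat.of k))) :
    derivedSeries (T ⟶ G) n = Subgroup.closure (Set.range fun φ : T ⟶ (derWord G n).1 => φ ≫ (derWord G n).2) := by
  induction n with
  | zero =>
    rw [derivedSeries_zero, eq_comm, eq_top_iff]
    intro x _
    exact Subgroup.subset_closure ⟨x, by simp [derWord]⟩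
  | succ n ih =>
    rw [derivedSeries_succ, ih, commutator_closure _ _ (range_conj G _ _ rfl (conj_derWord G n))
      (range_conj G _ _ rfl (conj_derWord G n))]
    congr 1
    ext x
    constructor
    · rintro ⟨_, ⟨φ, rfl⟩, _, ⟨ψ, rfl⟩, rfl⟩
      exact ⟨lift φ ψ, by simp [derWord, comp_commutatorElement]⟩
    · rintro ⟨φ, rfl⟩
      exact ⟨_, ⟨φ ≫ fst _ _, rfl⟩, _, ⟨φ ≫ snd _ _, rfl⟩, by simp [derWord, comp_commutatorElement]⟩

lemma lowerCentralSeries_eq (n : ℕ) (T : Over (Spec (CommRingCat.of k))) :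
    Subgroup.lowerCentralSeries (⊤ : Subgroup (T ⟶ G)) n =
      Subgroup.closure (Set.range fun φ : T ⟶ (lcsWord G n).1 => φ ≫ (lcsWord G n).2) := by
  induction n with
  | zero =>
    rw [Subgroup.lowerCentralSeries_zero, eq_comm, eq_top_iff]
    intro x _
    exact Subgroup.subset_closure ⟨x, by simp [lcsWord]⟩
  | succ n ih =>
    rw [Subgroup.lowerCentralSeries_succ, ih, ← Subgroup.closure_univ, commutator_closure _ Set.univ
      (range_conj G _ _ rfl (conj_lcsWord G n)) (fun _ _ _ => Set.mem_univ _)]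
    congr 1
    ext x
    constructor
    · rintro ⟨_, ⟨φ, rfl⟩, b, -, rfl⟩
      exact ⟨lift φ b, by simp [lcsWord, comp_commutatorElement]⟩
    · rintro ⟨φ, rfl⟩
      exact ⟨_, ⟨φ ≫ fst _ _, rfl⟩, φ ≫ snd _ _, trivial, by simp [lcsWord, comp_commutatorElement]⟩

lemma smooth_derWord [Smooth G.hom] (n : ℕ) : Smooth (derWord G n).1.hom := by
  induction n with
  | zero => assumption
  | succ n ih => exact inferInstanceAs (Smooth (pullback.fst (derWord G n).1.hom (derWord G n).1.hom ≫ (derWord G n).1.hom))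

lemma smooth_lcsWord [Smooth G.hom] (n : ℕ) : Smooth (lcsWord G n).1.hom := by
  induction n with
  | zero => assumption
  | succ n ih => exact inferInstanceAs (Smooth (pullback.fst (lcsWord G n).1.hom G.hom ≫ (lcsWord G n).1.hom))

/-- A word is trivial everywhere if it is trivial on points over an algebraically closed field. -/
lemma word_eq_one [Smooth G.hom] (Ω : Type u) [Field Ω] [Algebra k Ω] [IsAlgClosed Ω]
    {U : Over (Spec (CommRingCat.of k))} [Smooth U.hom] (w : U ⟶ G)
    (h : ∀ φ : Over.mk (Spec.map (CommRingCat.ofHom (algebraMap k Ω))) ⟶ U, φ ≫ w = 1) : w = 1 := by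
  have : GeometricallyReduced U.hom := GrpdLib.SepDense.geometricallyReduced_of_smooth _
  have : IsSeparated G.hom := GrpdLib.GrpOver.isSeparated_hom G
  exact GrpdLib.SepExt.ext_of_points k Ω w 1 fun φ => by rw [h φ, MonObj.comp_one]


/-- (i) ⟺ (iii): let G be a smooth group scheme of finite type over a field k, Ω an algebraically closed
extension field of k and n a natural number. Then G is solvable of class n (the n-th term of the
derived series of the group G(T) is trivial for every k-scheme T) if and only if the n-th term of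
the derived series of the group of Ω-points G(Ω) is trivial; and G is nilpotent of class n (the n-th
term of the lower central series of G(T) is trivial for every T) if and only if the n-th term of the
lower central series of G(Ω) is trivial. -/
theorem result (k : Type u) [Field k] (G : Over (Spec (CommRingCat.of k))) [GrpObj G]
    [Smooth G.hom] [QuasiCompact G.hom] (Ω : Type u) [Field Ω] [Algebra k Ω] [IsAlgClosed Ω] (n : ℕ) :
    ((∀ T : Over (Spec (CommRingCat.of k)), derivedSeries (T ⟶ G) n = ⊥) ↔ derivedSeries ((Over.mk (Spec.map (CommRingCat.ofHom (algebraMap k Ω))) : Over (Spec (CommRingCat.of k))) ⟶ G) n = ⊥) ∧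
    ((∀ T : Over (Spec (CommRingCat.of k)), Subgroup.lowerCentralSeries (⊤ : Subgroup (T ⟶ G)) n = ⊥) ↔ Subgroup.lowerCentralSeries (⊤ : Subgroup (((Over.mk (Spec.map (CommRingCat.ofHom (algebraMap k Ω))) : Over (Spec (CommRingCat.of k))) ⟶ G))) n = ⊥) := by
  refine ⟨⟨fun h => h _, fun h T => ?_⟩, ⟨fun h => h _, fun h T => ?_⟩⟩
  · rw [derivedSeries_eq, eq_bot_iff, Subgroup.closure_le] at h ⊢
    have := smooth_derWord G n
    have hw := word_eq_one G Ω (derWord G n).2 fun φ => h ⟨φ, rfl⟩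
    rintro _ ⟨φ, rfl⟩
    rw [hw]
    exact MonObj.comp_one φ
  · rw [lowerCentralSeries_eq, eq_bot_iff, Subgroup.closure_le] at h ⊢
    have := smooth_lcsWord G n
    have hw := word_eq_one G Ω (lcsWord G n).2 fun φ => h ⟨φ, rfl⟩
    rintro _ ⟨φ, rfl⟩
    rw [hw]
    exact MonObj.comp_one φ

end Groth.Agent.S5366
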