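import Groth.Statements.S5365
import Groth.Agent.Solv19.Locus
import Groth.Agent.Borel50.Pts
import Groth.Agent.GrpGen19.Basic
import Groth.Agent.GrpScheme.IdComponent

set_option autoImplicit false
universe u
open CategoryTheory CategoryTheory.Limits MonoidalCategory CartesianMonoidalCategory MonObj GrpObj AlgebraicGeometry
open SGA3

namespace Groth.Agent.S5365

open CategoryTheory.Limits Borel50.Pts
open scoped commutatorElement

variable {k : Type u} [Field k]

/-- The base change morphism to an algebraic closure. -/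
noncomputable abbrev bs (k : Type u) [Field k] : Spec (CommRingCat.of (AlgebraicClosure k)) ⟶ Spec (CommRingCat.of k) :=
  Spec.map (CommRingCat.ofHom (algebraMap k (AlgebraicClosure k)))

/-- Points with values in an algebraic closure. -/
abbrev GPt (X : Over (Spec (CommRingCat.of k))) : Type u :=
  (Over.map (bs k)).obj (𝟙_ (Over (Spec (CommRingCat.of (AlgebraicClosure k))))) ⟶ X

/-- Transposition to rational points of the base change. -/
noncomputable abbrev trans {X : Over (Spec (CommRingCat.of k))} (p : GPt X) : Pt (Red.bc (bs k) X) :=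
  (Over.mapPullbackAdj (bs k)).homEquiv _ _ p

lemma fst_pt_trans {X : Over (Spec (CommRingCat.of k))} (p : GPt X) :
    pullback.fst X.hom (bs k) (pt (trans p)) = p.left (IsLocalRing.closedPoint _) := by
  have h : p = (Over.map (bs k)).map (trans p) ≫ (Over.mapPullbackAdj (bs k)).counit.app X :=
    (((Over.mapPullbackAdj (bs k)).homEquiv _ X).symm_apply_apply p).symm.trans
      (Adjunction.homEquiv_counit _ _ _ _)
  conv_rhs => rw [h]
  simp

/-- A closed point is the image of a point with values in an algebraic closure. -/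
lemma exists_gpt {X : Over (Spec (CommRingCat.of k))} [LocallyOfFiniteType X.hom] {x : X.left}
    (hx : IsClosed ({x} : Set X.left)) : ∃ p : GPt X, p.left (IsLocalRing.closedPoint _) = x :=
  Solv19.exists_geomPoint_mem' (X := X) hx.isLocallyClosed (Set.mem_singleton x) (bs k)
    (Subsingleton.elim (α := PrimeSpectrum k) _ _)

lemma dense_pt {X : Over (Spec (CommRingCat.of (AlgebraicClosure k)))} [LocallyOfFiniteType X.hom] :
    Dense (Set.range (fun x : Pt X => pt x)) := by
  haveI : JacobsonSpace X.left := LocallyOfFiniteType.jacobsonSpace X.hom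
  have h : closure (closedPoints X.left) = Set.univ := closure_closedPoints
  rw [dense_iff_closure_eq, Set.eq_univ_iff_forall]
  intro y
  refine closure_mono ?_ (h ▸ Set.mem_univ y : y ∈ closure (closedPoints X.left))
  intro z hz
  obtain ⟨p, hp⟩ := exists_pt hz
  exact ⟨p, hp⟩

variable {G A B : Over (Spec (CommRingCat.of k))} [GrpObj G] [GrpObj A] [GrpObj B]
  (a : A ⟶ G) (b : B ⟶ G)

/-- The commutators of geometric points. -/
def comms : Set (Pt (Red.bc (bs k) G)) :=
  Set.range fun q : GPt A × GPt B => ⁅trans (q.1 ≫ a), trans (q.2 ≫ b)⁆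

/-- The closure of the group of commutators of geometric points. -/
noncomputable def commClosure : Set (Red.bc (bs k) G).left := closure (pts (Subgroup.closure (comms a b)))

omit [GrpObj A] [GrpObj B] in
lemma gen_subset [LocallyOfFiniteType G.hom] [LocallyOfFiniteType A.hom] [LocallyOfFiniteType B.hom] :
    (GrpGen19.genSet ⁅fst A B ≫ a, snd A B ≫ b⁆ : Set G.left) ⊆
      pullback.fst G.hom (bs k) '' commClosure a b := by
  haveI : IsIntegralHom (bs k) := by
    rw [IsIntegralHom.SpecMap_iff]; exact algebraMap_isIntegral_iff.mpr inferInstance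
  have hcl : IsClosed (pullback.fst G.hom (bs k) '' commClosure a b) :=
    (pullback.fst G.hom (bs k)).isClosedMap _ isClosed_closure
  refine closure_minimal ?_ hcl
  refine Set.iUnion_subset fun l => ?_
  have key : ∀ (l : List Bool) (p : GPt (GrpGen19.word (A ⊗ B) l)),
      trans (p ≫ GrpGen19.wordMap ⁅fst A B ≫ a, snd A B ≫ b⁆ l) ∈ Subgroup.closure (comms a b) := by
    intro l
    induction l with
    | nil =>
      intro p
      have h : (p ≫ GrpGen19.wordMap ⁅fst A B ≫ a, snd A B ≫ b⁆ [] : GPt G) = 1 := MonObj.comp_one p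
      show (Solv19.ptsEquiv G (bs k)) _ ∈ _
      rw [h, map_one]
      exact one_mem _
    | cons c l ih =>
      intro p
      let u : GPt (A ⊗ B) := p ≫ fst (A ⊗ B) (GrpGen19.word (A ⊗ B) l)
      let v : GPt (GrpGen19.word (A ⊗ B) l) := p ≫ snd (A ⊗ B) (GrpGen19.word (A ⊗ B) l)
      have h : (p ≫ GrpGen19.wordMap ⁅fst A B ≫ a, snd A B ≫ b⁆ (c :: l) : GPt G) =
          (u ≫ GrpGen19.letter ⁅fst A B ≫ a, snd A B ≫ b⁆ c) *
            (v ≫ GrpGen19.wordMap ⁅fst A B ≫ a, snd A B ≫ b⁆ l) :=
        (MonObj.comp_mul p _ _).trans (congrArg₂ (· * ·) (Category.assoc _ _ _).symm (Category.assoc _ _ _).symm)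
      show (Solv19.ptsEquiv G (bs k)) _ ∈ _
      rw [h, map_mul]
      refine mul_mem ?_ (ih v)
      have hgen : ∀ x : GPt (A ⊗ B),
          (Solv19.ptsEquiv G (bs k)) (x ≫ ⁅fst A B ≫ a, snd A B ≫ b⁆) ∈ Subgroup.closure (comms a b) := fun x => by
        refine Subgroup.subset_closure ⟨(x ≫ fst A B, x ≫ snd A B), ?_⟩
        rw [Solv19.comp_commutator, map_commutatorElement, ← Category.assoc, ← Category.assoc]
        rfl
      cases c
      · simp only [GrpGen19.letter, Bool.false_eq_true, if_false, GrpObj.comp_inv, map_inv]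
        exact inv_mem (hgen _)
      · simp only [GrpGen19.letter, if_true]
        exact hgen _
  haveI : ∀ l : List Bool, LocallyOfFiniteType (GrpGen19.word (A ⊗ B) l).hom := fun l => by
    induction l with
    | nil => exact inferInstanceAs (LocallyOfFiniteType (𝟙 _))
    | cons c l ih =>
      haveI := ih
      haveI : LocallyOfFiniteType (A ⊗ B).hom :=
        inferInstanceAs (LocallyOfFiniteType (pullback.fst A.hom B.hom ≫ A.hom))
      exact inferInstanceAs (LocallyOfFiniteType
        (pullback.fst (A ⊗ B).hom (GrpGen19.word (A ⊗ B) l).hom ≫ (A ⊗ B).hom))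
  haveI : JacobsonSpace (GrpGen19.word (A ⊗ B) l.down).left :=
    LocallyOfFiniteType.jacobsonSpace (GrpGen19.word (A ⊗ B) l.down).hom
  rw [← Set.image_univ, ← closure_closedPoints]
  refine (image_closure_subset_closure_image (GrpGen19.wordMap _ _).left.continuous).trans
    (closure_minimal ?_ hcl)
  rintro _ ⟨x, hx, rfl⟩
  obtain ⟨p, rfl⟩ := exists_gpt hx
  exact ⟨pt (trans (p ≫ GrpGen19.wordMap _ l.down)), subset_closure ⟨_, key l.down p, rfl⟩,
    by rw [fst_pt_trans]; rfl⟩

variable [IsMonHom a] [IsMonHom b]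

omit [IsMonHom b] in
lemma isPreconnected_commClosure [LocallyOfFiniteType A.hom] [ConnectedSpace A.left] :
    _root_.IsPreconnected (commClosure a b) := by
  let H := Red.bc (bs k) G
  let U := commClosure a b
  have h1U : pt (1 : Pt H) ∈ U := subset_closure ⟨1, one_mem _, rfl⟩
  let C := connectedComponentIn U (pt (1 : Pt H))
  have h1C : pt (1 : Pt H) ∈ C := mem_connectedComponentIn h1U
  have htr : ∀ d ∈ Subgroup.closure (comms a b), ∃ τ : H ⟶ H, (∀ x : Pt H, pt (d * x) = τ.left (pt x)) ∧
      ∀ z ∈ U, τ.left z ∈ U := fun d hd => by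
    refine ⟨(toUnit H ≫ d) * 𝟙 H, fun x => ?_, fun z hz => ?_⟩
    · rw [← pt_comp, MonObj.comp_mul, Category.comp_id, const_comp]
    · refine map_mem_closure ((toUnit H ≫ d) * 𝟙 H).left.continuous hz ?_
      rintro _ ⟨w, hw, rfl⟩
      refine ⟨d * w, mul_mem hd hw, ?_⟩
      rw [← pt_comp, MonObj.comp_mul, Category.comp_id, const_comp]
  have himg : ∀ d ∈ Subgroup.closure (comms a b), ∀ x : Pt H, pt x ∈ C → pt (d * x) ∈ C →
      ∀ y : Pt H, pt y ∈ C → pt (d * y) ∈ C := fun d hd x hx hdx y hy => by
    obtain ⟨τ, hτ, hτU⟩ := htr d hd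
    rw [hτ] at hdx ⊢
    have hpre : _root_.IsPreconnected (τ.left '' C) :=
      isPreconnected_connectedComponentIn.image _ τ.left.continuous.continuousOn
    have hsub := hpre.subset_connectedComponentIn (x := τ.left (pt x)) ⟨_, hx, rfl⟩
      (by rintro _ ⟨z, hz, rfl⟩; exact hτU z (connectedComponentIn_subset _ _ hz))
    have e := connectedComponentIn_eq hdx
    rw [show connectedComponentIn U (pt (1 : Pt H)) = C from rfl] at e
    rw [e]
    exact hsub ⟨_, hy, rfl⟩
  let S : Subgroup (Pt H) :=
  { carrier := {d | d ∈ Subgroup.closure (comms a b) ∧ pt d ∈ C}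
    one_mem' := ⟨one_mem _, h1C⟩
    mul_mem' := fun {d e} hd he => ⟨mul_mem hd.1 he.1,
      himg d hd.1 1 h1C (by rw [_root_.mul_one]; exact hd.2) e he.2⟩
    inv_mem' := fun {d} hd => ⟨inv_mem hd.1, by
      have := himg d⁻¹ (inv_mem hd.1) d hd.2 (by rw [inv_mul_cancel]; exact h1C) 1 h1C
      rwa [_root_.mul_one] at this⟩ }
  have hle : Subgroup.closure (comms a b) ≤ S := by
    refine (Subgroup.closure_le _).2 ?_
    rintro _ ⟨⟨p, q⟩, rfl⟩
    refine ⟨Subgroup.subset_closure ⟨(p, q), rfl⟩, ?_⟩
    haveI : GeometricallyConnected A.hom := GrpGen19.geometricallyConnected_of_point η[A]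
    let AK := Red.bc (bs k) A
    haveI : ConnectedSpace AK.left :=
      GeometricallyConnected.geometrically_connectedSpace (f := A.hom) (bs k) _ _
        (IsPullback.of_hasPullback A.hom (bs k))
    haveI : LocallyOfFiniteType AK.hom := inferInstanceAs (LocallyOfFiniteType (pullback.snd A.hom (bs k)))
    let aK : AK ⟶ H := (Over.pullback (bs k)).map a
    let g : AK ⟶ H := ⁅aK, toUnit AK ≫ trans (q ≫ b)⁆
    have hg : ∀ r : GPt A, trans r ≫ g = ⁅trans (r ≫ a), trans (q ≫ b)⁆ := fun r => by
      rw [show trans (r ≫ a) = trans r ≫ aK from Adjunction.homEquiv_naturality_right _ _ _]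
      simp only [g, commutatorElement_def, MonObj.comp_mul, GrpObj.comp_inv]
      rw [show trans r ≫ toUnit AK ≫ trans (q ≫ b) = trans (q ≫ b) from const_comp _ _]
    have hsub : Set.range g.left ⊆ U := by
      rw [← Set.image_univ, ← (dense_pt (X := AK)).closure_eq]
      refine (image_closure_subset_closure_image g.left.continuous).trans (closure_minimal ?_ isClosed_closure)
      rintro _ ⟨_, ⟨x, rfl⟩, rfl⟩
      obtain ⟨r, rfl⟩ := ((Over.mapPullbackAdj (bs k)).homEquiv _ _).surjective x
      refine subset_closure ⟨_, Subgroup.subset_closure ⟨(r, q), rfl⟩, ?_⟩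
      rw [← pt_comp, hg]
    refine (isPreconnected_range g.left.continuous).subset_connectedComponentIn (x := pt (1 : Pt H)) ?_ hsub ?_
    · refine ⟨pt (trans (1 : GPt A)), ?_⟩
      rw [← pt_comp, hg, MonObj.one_comp]
      show pt ⁅(Solv19.ptsEquiv G (bs k)) 1, _⁆ = _
      rw [map_one, commutatorElement_one_left]
    · exact ⟨pt (trans p), by rw [← pt_comp, hg]⟩
  have hCc : IsClosed C := by
    have hCU : C ⊆ U := connectedComponentIn_subset _ _
    have := isPreconnected_connectedComponentIn (F := U) (x := pt (1 : Pt H))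
    exact isClosed_of_closure_subset (this.closure.subset_connectedComponentIn (subset_closure h1C)
      (closure_minimal hCU isClosed_closure))
  have : U = C := Set.Subset.antisymm (closure_minimal (by rintro _ ⟨d, hd, rfl⟩; exact (hle hd).2) hCc)
    (connectedComponentIn_subset _ _)
  show _root_.IsPreconnected U
  rw [this]
  exact isPreconnected_connectedComponentIn

/-- Let G be a group scheme locally of finite type over a field k, a : A → G and b : B → G two closed
subgroup schemes which are geometrically reduced over k, and i : Γ → G the commutator subgroup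
scheme (A, B), the smallest closed subgroup scheme through which (x, y) ↦ a(x) b(y) a(x)⁻¹ b(y)⁻¹
factors. Suppose either (a) A and B are normal in G and of finite type over k, or (b) A is connected
and B is of finite type over k. Then Γ is of finite type over k, and in case (b) Γ is connected.
(The published statement also asserts that this subgroup represents the fppf sheaf generated by
commutators and describes its neutral component; this row states only the finiteness and
connectedness assertions.) -/
theorem result (k : Type u) [Field k] (G A B : Over (Spec (CommRingCat.of k))) [GrpObj G] [GrpObj A] [GrpObj B]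
    [LocallyOfFiniteType G.hom]
    (a : A ⟶ G) [IsMonHom a] [IsClosedImmersion a.left] (b : B ⟶ G) [IsMonHom b] [IsClosedImmersion b.left]
    [GeometricallyReduced A.hom] [GeometricallyReduced B.hom] [QuasiCompact B.hom]
    (hcase : (AlgGrp.IsNormalHom a ∧ AlgGrp.IsNormalHom b ∧ QuasiCompact A.hom) ∨ ConnectedSpace A.left)
    (Γ : Over (Spec (CommRingCat.of k))) [GrpObj Γ] (i : Γ ⟶ G) [IsMonHom i] [IsClosedImmersion i.left]
    (hf : ∃ f' : A ⊗ B ⟶ Γ, f' ≫ i = (((fst A B) ≫ a) * ((snd A B) ≫ b) * ((fst A B) ≫ a)⁻¹ * ((snd A B) ≫ b)⁻¹))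
    (hmin : ∀ (Γ' : Over (Spec (CommRingCat.of k))) (_ : GrpObj Γ') (i' : Γ' ⟶ G), IsMonHom i' → IsClosedImmersion i'.left →
        (∃ f'' : A ⊗ B ⟶ Γ', f'' ≫ i' = (((fst A B) ≫ a) * ((snd A B) ≫ b) * ((fst A B) ≫ a)⁻¹ * ((snd A B) ≫ b)⁻¹)) → ∃ j : Γ ⟶ Γ', j ≫ i' = i) :
    QuasiCompact Γ.hom ∧ (ConnectedSpace A.left → ConnectedSpace Γ.left) := by
  haveI : Mono i := Over.mono_of_mono_left i
  have hfac : ∃ f' : A ⊗ B ⟶ Γ, f' ≫ i = ⁅fst A B ≫ a, snd A B ≫ b⁆ := hf
  haveI : LocallyOfFiniteType Γ.hom := by rw [← Over.w i]; infer_instance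
  haveI : LocallyOfFiniteType A.hom := by rw [← Over.w a]; infer_instance
  haveI : LocallyOfFiniteType B.hom := by rw [← Over.w b]; infer_instance
  have hconn : ConnectedSpace A.left → ConnectedSpace Γ.left := by
    intro hA
    haveI : GeometricallyReduced (A ⊗ B).hom := GrpGen19.geometricallyReduced_tensor A B
    obtain ⟨Γ₁, hΓ₁, i₁, hm₁, hci₁, hf₁, -, hr₁, -⟩ := GrpGen19.exists_generated (⁅fst A B ≫ a, snd A B ≫ b⁆)
    obtain ⟨j, hj⟩ := hmin Γ₁ hΓ₁ i₁ hm₁ hci₁ hf₁
    have hsub : Set.range i.left ⊆ Limits.pullback.fst G.hom (bs k) '' commClosure a b := by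
      refine subset_trans ?_ (gen_subset a b)
      rw [← hr₁, ← hj]
      rintro _ ⟨y, rfl⟩
      exact ⟨j.left y, rfl⟩
    have hge : Limits.pullback.fst G.hom (bs k) '' commClosure a b ⊆ Set.range i.left := by
      refine (image_closure_subset_closure_image (Limits.pullback.fst G.hom (bs k)).continuous).trans
        (closure_minimal ?_ i.left.isClosedEmbedding.isClosed_range)
      let R : Subgroup (Pt (Red.bc (bs k) G)) :=
      { carrier := {x | ∃ z : GPt Γ, trans (z ≫ i) = x}
        one_mem' := ⟨1, by rw [MonObj.one_comp]; exact (Solv19.ptsEquiv G (bs k)).map_one⟩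
        mul_mem' := by
          rintro _ _ ⟨z, rfl⟩ ⟨w, rfl⟩
          exact ⟨z * w, by rw [MonObj.mul_comp]; exact (Solv19.ptsEquiv G (bs k)).map_mul _ _⟩
        inv_mem' := by
          rintro _ ⟨z, rfl⟩
          exact ⟨z⁻¹, by rw [GrpObj.inv_comp]; exact map_inv (Solv19.ptsEquiv G (bs k)) _⟩ }
      have hR : Subgroup.closure (comms a b) ≤ R := by
        refine (Subgroup.closure_le _).2 ?_
        rintro _ ⟨⟨p, q⟩, rfl⟩
        obtain ⟨f', hf'⟩ := hfac
        refine ⟨lift p q ≫ f', ?_⟩
        show (Solv19.ptsEquiv G (bs k)) _ = _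
        rw [Category.assoc, hf', Solv19.comp_commutator, map_commutatorElement, lift_fst_assoc, lift_snd_assoc]
        rfl
      rintro _ ⟨_, ⟨x, hx, rfl⟩, rfl⟩
      obtain ⟨z, rfl⟩ := hR hx
      exact ⟨_, (fst_pt_trans (z ≫ i)).symm⟩
    have hc : _root_.IsPreconnected (Set.range i.left) := by
      rw [Set.Subset.antisymm hsub hge]
      exact (isPreconnected_commClosure a b).image _ (Limits.pullback.fst G.hom (bs k)).continuous.continuousOn
    haveI : PreconnectedSpace Γ.left := by
      constructor
      rw [← i.left.isClosedEmbedding.isInducing.isPreconnected_image, Set.image_univ]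
      exact hc
    exact { toNonempty := ⟨GrpScheme.IdComponent.e₀ Γ⟩ }
  refine ⟨?_, hconn⟩
  rcases hcase with ⟨hna, -, hqA⟩ | hA
  · obtain ⟨a', ha'⟩ := hna (A ⊗ B) (snd A B ≫ b) ((fst A B)⁻¹)
    obtain ⟨j, hj⟩ := hmin A inferInstance a inferInstance inferInstance ⟨fst A B * a', by
      rw [MonObj.mul_comp, ← ha', GrpObj.inv_comp]
      group⟩
    haveI := hqA
    haveI : IsClosedImmersion (j.left ≫ a.left) := by rw [← Over.comp_left, hj]; infer_instance
    haveI : IsClosedImmersion j.left := IsClosedImmersion.of_comp j.left a.left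
    rw [← Over.w j]
    infer_instance
  · haveI := hconn hA
    haveI : CompactSpace Γ.left := by
      constructor
      rw [← PreconnectedSpace.connectedComponent_eq_univ (GrpScheme.IdComponent.e₀ Γ),
        GrpScheme.IdComponent.connectedComponent_eq Γ]
      exact GrpScheme.IdComponent.isCompact_component Γ
    exact quasiCompact_of_compactSpace Γ.hom

end Groth.Agent.S5365
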