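import Groth.Statements.S5367
import Groth.Agent.Solv19.NilLocus

set_option autoImplicit false
universe u
open CategoryTheory CategoryTheory.Limits MonoidalCategory CartesianMonoidalCategory MonObj GrpObj AlgebraicGeometry
open SGA3
open Set.Notation

namespace Groth.Agent.S5367

/-- Let G be an S-group scheme of finite presentation over S such that every fibre G_s is smooth over
κ(s). Then the set of points s of S such that the geometric fibre of G at s is solvable (resp.
nilpotent) is locally constructible in S. (The row tests the geometric fibre over an algebraic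
closure of κ(s), which is solvable or nilpotent exactly when G_s is.) -/
theorem result (S : Scheme.{u}) (G : Over S) [GrpObj G]
    [LocallyOfFinitePresentation G.hom] [QuasiCompact G.hom] [QuasiSeparated G.hom]
    (hsm : ∀ s : S, Smooth (G.hom.fiberToSpecResidueField s)) :
    Topology.IsLocallyConstructible {s : S | Red.IsSolvableGrp (Red.geomFibre s G)} ∧
    Topology.IsLocallyConstructible {s : S | AGF.IsNilpotentGrp (Red.geomFibre s G)} := by
  have hG : LocallyOfFinitePresentation G.hom ∧ QuasiCompact G.hom ∧ QuasiSeparated G.hom :=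
    ⟨inferInstance, inferInstance, inferInstance⟩
  have key : ∀ (Z : Set S) (X : ℕ → Σ T : Over S, T ⟶ G),
      (∀ n, LocallyOfFinitePresentation (X n).1.hom ∧ QuasiCompact (X n).1.hom ∧ QuasiSeparated (X n).1.hom) →
      (∀ U : S.Opens, IsAffineOpen U → ∃ N, ∀ s ∈ U, (s ∈ Z ↔ s ∉ Solv19.nonTrivSet G (X N).2)) →
      Topology.IsLocallyConstructible Z := by
    intro Z X hX h
    refine Topology.IsLocallyConstructible.of_isOpenCover
      (U := fun V : S.affineOpens => V.1) (iSup_affineOpens_eq_top S) fun V => ?_
    obtain ⟨N, hN⟩ := h V.1 V.2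
    obtain ⟨_, _, _⟩ := hX N
    have hc := LimTop.isLocallyConstructible_compl (Solv19.isLocallyConstructible_nonTrivSet G (X N).2)
    have he : ((V.1 : Set S) ↓∩ Z) = (Subtype.val : (V.1 : Set S) → S) ⁻¹' (Solv19.nonTrivSet G (X N).2)ᶜ := by
      ext ⟨t, ht⟩
      exact hN t ht
    rw [he]
    exact hc.preimage_of_isOpenEmbedding V.1.2.isOpenEmbedding_subtypeVal
  exact ⟨key _ (Solv19.word G) (Solv19.word_mem G _ hG Solv19.fp_tensor)
      (fun U hU => Solv19.exists_solvable_iff G hsm hU),
    key _ (Solv19.lword G) (Solv19.lword_mem G _ hG Solv19.fp_tensor)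
      (fun U hU => Solv19.exists_nilpotent_iff G hsm hU)⟩

end Groth.Agent.S5367
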