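import Groth.Statements.S5368
import Groth.Agent.Solv19.NilLocus

set_option autoImplicit false
universe u
open CategoryTheory CategoryTheory.Limits MonoidalCategory CartesianMonoidalCategory MonObj GrpObj AlgebraicGeometry
open SGA3

namespace Groth.Agent.S5368

/-- Let G be an S-group scheme which is smooth, quasi-compact and separated over S. Then the set of
points s of S such that the geometric fibre of G at s is a nilpotent group is closed in S. (The
solvable case is a separate row.) -/
theorem result (S : Scheme.{u}) (G : Over S) [GrpObj G]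
    [Smooth G.hom] [QuasiCompact G.hom] [IsSeparated G.hom] :
    IsClosed {s : S | AGF.IsNilpotentGrp (Red.geomFibre s G)} := by
  have hsm : ∀ s : S, Smooth (G.hom.fiberToSpecResidueField s) := fun s =>
    inferInstanceAs (Smooth (pullback.snd G.hom (S.fromSpecResidueField s)))
  have : ∀ n, Smooth (Solv19.lword G n).1.hom :=
    fun n => Solv19.lword_mem G (fun A => Smooth A.hom) ‹Smooth G.hom› Solv19.smooth_tensor n
  rw [← isOpen_compl_iff, isOpen_iff_forall_mem_open]
  intro s hs
  obtain ⟨U, hU, hsU, -⟩ := exists_isAffineOpen_mem_and_subset (X := S) (x := s) (U := ⊤) trivial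
  obtain ⟨N, hN⟩ := Solv19.exists_nilpotent_iff G hsm hU
  exact ⟨(U : Set S) ∩ Solv19.nonTrivSet G (Solv19.lword G N).2,
    fun t ht hZ => (hN t ht.1).1 hZ ht.2, U.isOpen.inter (Solv19.isOpen_nonTrivSet G _), hsU,
    not_not.1 (fun h => hs ((hN s hsU).2 h))⟩

end Groth.Agent.S5368
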