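import Groth.Statements.S5374
-- import your own Groth.Agent.* helpers here

import Groth.Agent.TransGen27.Generic
import Groth.Agent.LimLib.Props

set_option autoImplicit false
universe u
open CategoryTheory CategoryTheory.Limits MonoidalCategory CartesianMonoidalCategory MonObj GrpObj AlgebraicGeometry
open SGA3

namespace Groth.Agent.S5374

open Groth.Agent in
/-- Equalizers into a separated finitely presented scheme are finitely presented closed immersions. -/
lemma equalizer_props {S : Scheme.{u}} {A B : Over S} [IsSeparated B.hom] [LocallyOfFinitePresentation B.hom]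
    (f g : A ⟶ B) :
    IsClosedImmersion (equalizer.ι f g).left ∧ LocallyOfFinitePresentation (equalizer.ι f g).left := by
  let d : B ⟶ B ⊗ B := lift (𝟙 B) (𝟙 B)
  have hd : IsClosedImmersion d.left ∧ LocallyOfFinitePresentation d.left := by
    haveI : IsSeparated (fst B B).left := inferInstanceAs (IsSeparated (pullback.fst B.hom B.hom))
    haveI : LocallyOfFiniteType (fst B B).left :=
      inferInstanceAs (LocallyOfFiniteType (pullback.fst B.hom B.hom))
    have e : d.left ≫ (fst B B).left = 𝟙 B.left := by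
      rw [← Over.comp_left, lift_fst]; rfl
    haveI : IsClosedImmersion (d.left ≫ (fst B B).left) := by
      rw [e]; infer_instance
    haveI : LocallyOfFinitePresentation (d.left ≫ (fst B B).left) := by
      rw [e]; infer_instance
    exact ⟨IsClosedImmersion.of_comp d.left (fst B B).left,
      MorphismProperty.of_postcomp (W := @LocallyOfFinitePresentation) (W' := @LocallyOfFiniteType) d.left (fst B B).left inferInstance inferInstance⟩
  have w : ∀ c : PullbackCone (lift f g) d, c.fst ≫ f = c.snd ∧ c.fst ≫ g = c.snd := fun c => by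
    have h1 := c.condition =≫ fst _ _
    have h2 := c.condition =≫ snd _ _
    simp only [d, Category.assoc, lift_fst, lift_snd, Category.comp_id] at h1 h2
    exact ⟨h1, h2⟩
  have hsq : IsPullback (equalizer.ι f g) (equalizer.ι f g ≫ f) (lift f g) d := by
    refine IsPullback.of_isLimit' ⟨CartesianMonoidalCategory.hom_ext _ _ (by simp [d]) (by
      simp only [d, Category.assoc, CartesianMonoidalCategory.lift_snd, Category.comp_id]
      exact (equalizer.condition f g).symm)⟩
      (PullbackCone.IsLimit.mk _ (fun c => equalizer.lift c.fst ((w c).1.trans (w c).2.symm))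
        (fun c => equalizer.lift_ι _ _) (fun c => ?_) (fun c m h₁ h₂ => ?_))
    · rw [← Category.assoc, equalizer.lift_ι, (w c).1]
    · exact equalizer.hom_ext (h₁.trans (equalizer.lift_ι _ _).symm)
  have h := (hsq.map (Over.forget S)).flip
  exact ⟨MorphismProperty.of_isPullback h hd.1, MorphismProperty.of_isPullback h hd.2⟩

open Groth.Agent in
/-- The condition of the closed subscheme on points. -/
lemma cond_iff {S : Scheme.{u}} {X Y W : Over S} (f g : X ⊗ Y ⟶ W) {T : Over S} (x : T ⟶ X) :
    GrpScheme.ClosedRepProd.Cond X.hom Y.hom (equalizer.ι f g).left x.left ↔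
      ∀ (T' : Over S) (s : T' ⟶ T) (y : T' ⟶ Y), lift (s ≫ x) y ≫ f = lift (s ≫ x) y ≫ g := by
  constructor
  · intro hc T' s y
    obtain ⟨l, hl⟩ := hc (lift (s ≫ x) y).left s.left (by
      rw [show pullback.fst X.hom Y.hom = (fst X Y).left from rfl, ← Over.comp_left, lift_fst]
      rfl)
    let l' : T' ⟶ equalizer f g := Over.homMk l (by
      rw [← Over.w (equalizer.ι f g), reassoc_of% hl, Over.w])
    have : l' ≫ equalizer.ι f g = lift (s ≫ x) y := Over.OverMorphism.ext hl
    rw [← this, Category.assoc, Category.assoc, equalizer.condition]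
  · intro h Q q q' hq
    let T' : Over S := Over.mk (q' ≫ T.hom)
    let qq : T' ⟶ X ⊗ Y := Over.homMk q (by
      show q ≫ pullback.fst X.hom Y.hom ≫ X.hom = q' ≫ T.hom
      rw [reassoc_of% hq, Over.w x])
    have hqq : lift ((Over.homMk q' rfl : T' ⟶ T) ≫ x) (qq ≫ snd X Y) = qq :=
      CartesianMonoidalCategory.hom_ext _ _ (by rw [lift_fst]; exact Over.OverMorphism.ext hq.symm)
        (by rw [lift_snd])
    have := h T' (Over.homMk q' rfl) (qq ≫ snd X Y)
    rw [hqq] at this
    exact ⟨(equalizer.lift qq this).left, by rw [← Over.comp_left, equalizer.lift_ι]; rfl⟩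

/-- The transporter of two morphisms; the centralizer of a morphism is the case u = v: let S be an
integral scheme, G an S-group scheme of finite presentation, Y an S-scheme of finite presentation
and u, v : Y → G two morphisms of S-schemes. Then there is a nonempty open subscheme S' of S such
that, after base change to S', the transporter of u into v (points g with g u(y) g⁻¹ = v(y) for all
points y of Y after any base change) is represented by a closed subscheme of G_{S'} of finite
presentation over S'. (The published statement also treats, over the same open, the transporter and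
the strict transporter of two subschemes and the normalizer of a subscheme; this row treats the
transporter of two morphisms only.) -/
theorem result (S : Scheme.{u}) [IsIntegral S] (G Y : Over S) [GrpObj G]
    [LocallyOfFinitePresentation G.hom] [QuasiCompact G.hom] [QuasiSeparated G.hom]
    [LocallyOfFinitePresentation Y.hom] [QuasiCompact Y.hom] [QuasiSeparated Y.hom] (u v : Y ⟶ G) :
    ∃ U : S.Opens, (U : Set S).Nonempty ∧
      ∃ (T : Over (U : Scheme.{u})) (t : T ⟶ Red.bc U.ι G), IsClosedImmersion t.left ∧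
        LocallyOfFinitePresentation T.hom ∧ QuasiCompact T.hom ∧ QuasiSeparated T.hom ∧
        ∀ (S' : Over (U : Scheme.{u})) (g : S' ⟶ Red.bc U.ι G), (∃ z : S' ⟶ T, z ≫ t = g) ↔
          ∀ (S'' : Over (U : Scheme.{u})) (s : S'' ⟶ S') (y : S'' ⟶ Red.bc U.ι Y),
            (s ≫ g) * (y ≫ (Over.pullback U.ι).map u) * (s ≫ g)⁻¹ = y ≫ (Over.pullback U.ι).map v := by
  obtain ⟨_, ⟨W, hW, rfl⟩, hξW, -⟩ := S.isBasis_affineOpens.exists_subset_of_mem_open
    (Set.mem_univ (genericPoint S)) isOpen_univ
  have hne : (W : Set S).Nonempty := ⟨_, hξW⟩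
  obtain ⟨a₀, ha₀, hsep⟩ := Groth.Agent.TransGen27.exists_sep G W hW hne
  obtain ⟨f₀, hf₀, hfree⟩ := Groth.Agent.TransGen27.exists_free_cover Y.hom W hW hne
  let U : S.Opens := S.basicOpen (a₀ * f₀)
  refine ⟨U, ?_, ?_⟩
  · rw [Set.nonempty_iff_ne_empty]
    intro he
    haveI : Nonempty (W : Scheme.{u}) := hne.to_subtype
    exact mul_ne_zero ha₀ hf₀ ((AlgebraicGeometry.basicOpen_eq_bot_iff _).1 (TopologicalSpace.Opens.ext he))
  haveI : IsSeparated (Red.bc U.ι G).hom := hsep U (by
    show S.basicOpen (a₀ * f₀) ≤ _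
    rw [Scheme.basicOpen_mul]; exact inf_le_left)
  haveI : IsAffine (U : Scheme.{u}) := hW.basicOpen _
  obtain ⟨Vs, hVs⟩ := hfree (a₀ * f₀) (dvd_mul_left _ _) U rfl
  let GU := Red.bc U.ι G
  let YU := Red.bc U.ι Y
  haveI : LocallyOfFinitePresentation GU.hom :=
    MorphismProperty.pullback_snd (P := @LocallyOfFinitePresentation) G.hom U.ι inferInstance
  haveI : QuasiCompact GU.hom := MorphismProperty.pullback_snd (P := @QuasiCompact) G.hom U.ι inferInstance
  let uU := (Over.pullback U.ι).map u
  let vU := (Over.pullback U.ι).map v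
  let eL : GU ⊗ YU ⟶ GU := fst GU YU * (snd GU YU ≫ uU) * (fst GU YU)⁻¹
  let eR : GU ⊗ YU ⟶ GU := snd GU YU ≫ vU
  obtain ⟨hci, hlfp⟩ := equalizer_props eL eR
  have hLF : Groth.Agent.GrpScheme.ClosedRepProd.LocallyFree YU.hom := fun s =>
    ⟨⟨⊤, isAffineOpen_top _⟩, trivial, fun y _ => by
      obtain ⟨V, h, hy, -, hV⟩ := hVs y
      exact ⟨V, h, hy, hV⟩⟩
  obtain ⟨Z, i, hi, hZ⟩ :=
    Groth.Agent.GrpScheme.ClosedRepProd.exists_closed GU.hom YU.hom (equalizer.ι eL eR).left hLF
  haveI := Groth.Agent.TransGen27.lfp_of_rep GU.hom YU.hom (equalizer.ι eL eR).left Vs hVs i hZ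
  refine ⟨Over.mk (i ≫ GU.hom), Over.homMk i rfl, hi, inferInstanceAs (LocallyOfFinitePresentation (i ≫ GU.hom)),
    inferInstanceAs (QuasiCompact (i ≫ GU.hom)), inferInstanceAs (QuasiSeparated (i ≫ GU.hom)), fun S' g => ?_⟩
  have key : ∀ (S'' : Over (U : Scheme.{u})) (s : S'' ⟶ S') (y : S'' ⟶ YU),
      lift (s ≫ g) y ≫ eL = lift (s ≫ g) y ≫ eR ↔
        (s ≫ g) * (y ≫ uU) * (s ≫ g)⁻¹ = y ≫ vU := fun S'' s y => by
    simp only [eL, eR, MonObj.comp_mul, GrpObj.comp_inv, lift_fst, ← Category.assoc]
    simp only [show lift (s ≫ g) y ≫ snd GU YU = y from lift_snd _ _]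
  constructor
  · rintro ⟨z, rfl⟩ S'' s y
    have hc : Groth.Agent.GrpScheme.ClosedRepProd.Cond GU.hom YU.hom (equalizer.ι eL eR).left
        (z ≫ Over.homMk i rfl : S' ⟶ GU).left := (hZ _ _).2 ⟨z.left, rfl⟩
    exact (key S'' s y).1 ((cond_iff eL eR _).1 hc S'' s y)
  · intro h
    obtain ⟨z, hz⟩ := (hZ _ _).1 ((cond_iff eL eR g).2 fun S'' s y => (key S'' s y).2 (h S'' s y))
    exact ⟨Over.homMk z (by show z ≫ i ≫ GU.hom = S'.hom; rw [reassoc_of% hz, Over.w]),
      Over.OverMorphism.ext hz⟩

end Groth.Agent.S5374
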