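import Groth.Statements.S5375
import Groth.Agent.HenGeomInt.SubCoalg
import Groth.Agent.HopfPts.Basic
-- import your own Groth.Agent.* helpers here

set_option autoImplicit false
universe u
open CategoryTheory CategoryTheory.Limits MonoidalCategory CartesianMonoidalCategory MonObj GrpObj AlgebraicGeometry
open SGA3

namespace Groth.Agent.S5375

/-- Let A be a commutative Hopf algebra over a field k (an affine k-group, not necessarily of finite
type) and x an element of A. Then there is a subalgebra B of A of finite type over k containing x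
which is a sub-Hopf-algebra: the comultiplication sends B into B ⊗ B and the antipode preserves B. -/
theorem result (k : Type u) [Field k] (A : Type u) [CommRing A] [HopfAlgebra k A] (x : A) :
    ∃ B : Subalgebra k A, x ∈ B ∧ B.FG ∧ SGA3.IsHopfSubalgebra k A B := by
  classical
  obtain ⟨V, hfin, hxV, hV⟩ := Groth.Agent.HenGeomInt.exists_finite_subcoalgebra (k := k) ({x} : Finset A)
  haveI := hfin
  obtain ⟨G, hG⟩ := (Module.Finite.iff_fg.1 hfin : V.FG)
  let S := HopfAlgebra.antipode k (A := A)
  let B := Algebra.adjoin k ((G : Set A) ∪ S '' (G : Set A))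
  have hVB : V ≤ Subalgebra.toSubmodule B := by
    rw [← hG, Submodule.span_le]
    exact fun g hg => Algebra.subset_adjoin (Or.inl hg)
  have hSV : ∀ v ∈ V, S v ∈ B := fun v hv => by
    have hle : V ≤ (Subalgebra.toSubmodule B).comap S := by
      rw [← hG, Submodule.span_le]
      exact fun g hg => Algebra.subset_adjoin (Or.inr ⟨g, hg, rfl⟩)
    exact hle hv
  refine ⟨B, hVB (hxV (Finset.mem_singleton_self x)), ?_, Groth.Agent.HopfPts.isHopf_adjoin _ ?_ ?_⟩
  · refine ⟨G ∪ G.image S, ?_⟩
    rw [Finset.coe_union, Finset.coe_image]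
  · rintro y (hy | ⟨g, hg, rfl⟩)
    · obtain ⟨z, hz⟩ := hV y (hG ▸ Submodule.subset_span hy)
      rw [← hz]
      clear hz
      induction z using TensorProduct.induction_on with
      | zero => rw [map_zero]; exact Submodule.zero_mem _
      | tmul p q => exact ⟨TensorProduct.tmul k ⟨_, hVB p.2⟩ ⟨_, hVB q.2⟩, rfl⟩
      | add p q hp hq => rw [map_add]; exact Submodule.add_mem _ hp hq
    · obtain ⟨z, hz⟩ := hV g (hG ▸ Submodule.subset_span hg)
      rw [Groth.Agent.Comod.comul_antipode, ← hz]
      clear hz
      induction z using TensorProduct.induction_on with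
      | zero => simp
      | tmul p q => exact ⟨TensorProduct.tmul k ⟨_, hSV _ q.2⟩ ⟨_, hSV _ p.2⟩, rfl⟩
      | add p q hp hq => simp only [map_add]; exact Submodule.add_mem _ hp hq
  · rintro y (hy | ⟨g, hg, rfl⟩)
    · exact Algebra.subset_adjoin (Or.inr ⟨y, hy, rfl⟩)
    · rw [Groth.Agent.HopfPts.antipode_antipode]
      exact Algebra.subset_adjoin (Or.inl hg)

end Groth.Agent.S5375
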