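import Groth.Statements.S5376
import Groth.Agent.Comod.Matrix
import Mathlib.RingTheory.Jacobson.Ring
import Mathlib.FieldTheory.IsAlgClosed.Basic
-- import your own Groth.Agent.* helpers here

set_option autoImplicit false
universe u
open CategoryTheory CategoryTheory.Limits MonoidalCategory CartesianMonoidalCategory MonObj GrpObj AlgebraicGeometry
open SGA3

namespace Groth.Agent.S5376

open Groth.Agent.Comod

/-- The rational points of a reduced algebra of finite type over an algebraically closed field separate. -/
lemma eq_zero_of_points {k A : Type u} [Field k] [IsAlgClosed k] [CommRing A] [Algebra k A]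
    [Algebra.FiniteType k A] [IsReduced A] (a : A) (h : ∀ g : A →ₐ[k] k, g a = 0) : a = 0 := by
  have : IsJacobsonRing A := isJacobsonRing_of_finiteType (A := k)
  have hj : (⊥ : Ideal A).jacobson = ⊥ :=
    IsJacobsonRing.out this ((Ideal.isRadical_iff_quotient_reduced _).2
      (isReduced_of_injective _ (RingEquiv.quotientBot A).injective))
  rw [← Ideal.mem_bot, ← hj, Ideal.jacobson, Ideal.mem_sInf]
  rintro m ⟨-, hm⟩
  let := Ideal.Quotient.field m
  have : Module.Finite k (A ⧸ m) := finite_of_finite_type_of_isJacobsonRing k (A ⧸ m)
  let e : k ≃ₐ[k] (A ⧸ m) := AlgEquiv.ofBijective (Algebra.ofId k (A ⧸ m))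
    IsAlgClosed.algebraMap_bijective_of_isIntegral
  have h1 : Ideal.Quotient.mk m a = 0 := e.symm.injective ((h (e.symm.toAlgHom.comp (Ideal.Quotient.mkₐ k m))).trans (map_zero e.symm).symm)
  exact Ideal.Quotient.eq_zero_iff_mem.1 h1


/-- Let k be an algebraically closed field, A a finitely generated commutative Hopf algebra over k which
is reduced (a reduced affine algebraic k-group G), V a finite-dimensional A-comodule and v a vector
of V. Let E be the k-subspace of V spanned by the vectors g·v for g running over the k-points of G
(algebra maps A → k). Then E is a subcomodule of V containing v, and it is the smallest one. -/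
theorem result (k : Type u) [Field k] [IsAlgClosed k] (A : Type u) [CommRing A] [HopfAlgebra k A]
    [Algebra.FiniteType k A] [IsReduced A] (V : Type u) [AddCommGroup V] [Module k V] [HopfRep.Comod k A V]
    [Module.Finite k V] (v : V) :
    letI E : Submodule k V := Submodule.span k (Set.range fun g : A →ₐ[k] k => HopfRep.Comod.act k A V g v)
    HopfRep.IsSubcomod (k := k) (A := A) E ∧ v ∈ E ∧
      ∀ W : Submodule k V, HopfRep.IsSubcomod (k := k) (A := A) W → v ∈ W → E ≤ W := by
  classical
  set E : Submodule k V := Submodule.span k (Set.range fun g : A →ₐ[k] k => HopfRep.Comod.act k A V g v) with hEdef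
  have hact : ∀ g : A →ₐ[k] k, HopfRep.Comod.act k A V g v = contract g.toLinearMap v := fun g => rfl
  have hall : ∀ φ : A →ₗ[k] k, contract φ v ∈ E := fun φ => by
    rw [← Subspace.dualAnnihilator_dualCoannihilator_eq (W := E), Submodule.mem_dualCoannihilator]
    intro L hL
    rw [Submodule.mem_dualAnnihilator] at hL
    have key : ∀ ψ : A →ₗ[k] k, L (contract ψ v) = ψ (sliceL L (HopfRep.Comod.coact (k := k) (A := A) v)) := fun ψ => by
      rw [contract_apply]
      induction HopfRep.Comod.coact (k := k) (A := A) v using TensorProduct.induction_on with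
      | zero => simp
      | add x y hx hy => simp only [map_add, hx, hy]
      | tmul w a => simp [mul_comm]
    have h0 : sliceL L (HopfRep.Comod.coact (k := k) (A := A) v) = 0 := eq_zero_of_points _ fun g =>
      ((key g.toLinearMap).symm.trans (hL _ (Submodule.subset_span ⟨g, hact g⟩)))
    rw [key, h0, map_zero]
  refine ⟨?_, ?_, fun W hW hv => ?_⟩
  · refine isSubcomod_iff.2 fun φ w hw => ?_
    induction hw using Submodule.span_induction with
    | mem x hx =>
      obtain ⟨g, rfl⟩ := hx
      simp only [hact, contract_contract]
      exact hall _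
    | zero => rw [map_zero]; exact zero_mem _
    | add x y _ _ hx hy => rw [map_add]; exact add_mem hx hy
    | smul t x _ hx => rw [map_smul]; exact E.smul_mem t hx
  · refine Submodule.subset_span ⟨Bialgebra.counitAlgHom k A, ?_⟩
    exact (hact _).trans (contract_counit v)
  · refine Submodule.span_le.2 ?_
    rintro _ ⟨g, rfl⟩
    simp only [SetLike.mem_coe, hact]
    exact contract_mem hW _ hv

end Groth.Agent.S5376
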