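import Groth.Statements.S5377
import Mathlib

set_option autoImplicit false
universe u
open CategoryTheory CategoryTheory.Limits MonoidalCategory CartesianMonoidalCategory MonObj GrpObj AlgebraicGeometry
open SGA3

namespace Groth.Agent.S5377
set_option linter.style.haveILetI false

/-- Let (C_i → A_i)_i be a filtered direct system of homomorphisms of commutative rings, each of which
is faithfully flat. Then the induced homomorphism colim C_i → colim A_i is faithfully flat. -/
theorem result (J : Type u) [SmallCategory J] [IsFiltered J]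
    (C A : J ⥤ CommRingCat.{u}) (φ : C ⟶ A) (h : ∀ j : J, (φ.app j).hom.FaithfullyFlat) :
    (colimMap φ).hom.FaithfullyFlat := by
  classical
  have hrep : ∀ (F : J ⥤ CommRingCat.{u}) (j₀ : J) (n : ℕ) (x : Fin n → (colimit F : CommRingCat.{u})),
      ∃ (j : J) (_ : j₀ ⟶ j) (y : Fin n → F.obj j), ∀ i, colimit.ι F j (y i) = x i := by
    intro F j₀ n x
    choose ji yi hyi using fun i => Concrete.colimit_exists_rep F (x i)
    obtain ⟨j, hj⟩ := IsFiltered.sup_objs_exists (insert j₀ (Finset.univ.image ji))
    refine ⟨j, (hj (Finset.mem_insert_self _ _)).some,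
      fun i => F.map (hj (Finset.mem_insert_of_mem
        (Finset.mem_image_of_mem ji (Finset.mem_univ i)))).some (yi i), fun i => ?_⟩
    rw [← ConcreteCategory.comp_apply, colimit.w, hyi]
  have hnat : ∀ (j : J) (c : C.obj j),
      colimMap φ (colimit.ι C j c) = colimit.ι A j (φ.app j c) := fun j c => by
    rw [← ConcreteCategory.comp_apply, ι_colimMap, ConcreteCategory.comp_apply]
  have hmap : ∀ {j k : J} (f : j ⟶ k) (c : C.obj j),
      φ.app k (C.map f c) = A.map f (φ.app j c) := fun f c => by
    rw [← ConcreteCategory.comp_apply, φ.naturality, ConcreteCategory.comp_apply]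
  letI : Algebra (colimit C : CommRingCat.{u}) (colimit A : CommRingCat.{u}) :=
    (colimMap φ).hom.toAlgebra
  have hsm : ∀ (c : (colimit C : CommRingCat.{u})) (a : (colimit A : CommRingCat.{u})),
      c • a = colimMap φ c * a := fun _ _ => rfl
  haveI hflat : Module.Flat (colimit C : CommRingCat.{u}) (colimit A : CommRingCat.{u}) := by
    refine Module.Flat.of_forall_isTrivialRelation fun {l} {f} {x} hfx => ?_
    obtain ⟨j₀⟩ := IsFiltered.nonempty (C := J)
    obtain ⟨j₁, -, f₁, hf₁⟩ := hrep C j₀ l f
    obtain ⟨j₂, g₁₂, x₂, hx₂⟩ := hrep A j₁ l x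
    let f₂ : Fin l → C.obj j₂ := fun i => C.map g₁₂ (f₁ i)
    have hf₂ : ∀ i, colimit.ι C j₂ (f₂ i) = f i := fun i => by
      rw [← ConcreteCategory.comp_apply, colimit.w, hf₁]
    have h0 : colimit.ι A j₂ (∑ i, φ.app j₂ (f₂ i) * x₂ i) = colimit.ι A j₂ 0 := by
      rw [map_zero, map_sum, ← hfx]
      refine Finset.sum_congr rfl fun i _ => ?_
      rw [map_mul, ← hnat, hf₂, hx₂, hsm]
    obtain ⟨k, a, b, hk⟩ := (Concrete.colimit_rep_eq_iff_exists A _ _).mp h0
    rw [map_zero, map_sum] at hk
    letI : Algebra (C.obj k) (A.obj k) := (φ.app k).hom.toAlgebra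
    haveI : Module.FaithfullyFlat (C.obj k) (A.obj k) := h k
    have hk' : ∑ i, C.map a (f₂ i) • A.map a (x₂ i) = 0 := by
      rw [← hk]
      refine Finset.sum_congr rfl fun i _ => ?_
      show φ.app k (C.map a (f₂ i)) * A.map a (x₂ i) = _
      rw [hmap, map_mul]
    obtain ⟨n, c, y, hy1, hy2⟩ := Module.Flat.isTrivialRelation_of_sum_smul_eq_zero (R := C.obj k) (M := A.obj k) (f := fun i => C.map a (f₂ i)) (x := fun i => A.map a (x₂ i)) hk'
    refine ⟨n, fun i j => colimit.ι C k (c i j), fun j => colimit.ι A k (y j), fun i => ?_, fun j => ?_⟩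
    · have e := congrArg (colimit.ι A k) (hy1 i)
      rw [← ConcreteCategory.comp_apply, colimit.w, hx₂, map_sum] at e
      rw [e]
      refine Finset.sum_congr rfl fun j _ => ?_
      show colimit.ι A k (φ.app k (c i j) * y j) = _
      rw [map_mul, ← hnat, hsm]
    · have e := congrArg (colimit.ι C k) (hy2 j)
      rw [map_zero, map_sum] at e
      rw [← e]
      refine Finset.sum_congr rfl fun i _ => ?_
      rw [map_mul, ← ConcreteCategory.comp_apply (C.map a), colimit.w, hf₂]
  show Module.FaithfullyFlat (colimit C : CommRingCat.{u}) (colimit A : CommRingCat.{u})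
  refine { submodule_ne_top := fun P hP htop => ?_ }
  have h1 : (1 : (colimit A : CommRingCat.{u})) ∈ P.map (colimMap φ).hom := by
    have : (1 : (colimit A : CommRingCat.{u})) ∈
        (P • ⊤ : Submodule (colimit C : CommRingCat.{u}) (colimit A : CommRingCat.{u})) := by
      rw [htop]; exact Submodule.mem_top
    rw [Ideal.smul_top_eq_map] at this
    exact this
  have key : ∀ w ∈ P.map (colimMap φ).hom, ∃ (j : J) (w' : A.obj j), colimit.ι A j w' = w ∧
      w' ∈ (P.comap (colimit.ι C j).hom).map (φ.app j).hom := by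
    intro w hw
    induction hw using Submodule.span_induction with
    | mem z hz =>
      obtain ⟨p, hp, rfl⟩ := hz
      obtain ⟨j, c, rfl⟩ := Concrete.colimit_exists_rep C p
      exact ⟨j, φ.app j c, (hnat j c).symm, Ideal.mem_map_of_mem _ hp⟩
    | zero =>
      obtain ⟨j⟩ := IsFiltered.nonempty (C := J)
      exact ⟨j, 0, map_zero _, zero_mem _⟩
    | add z z' _ _ hz hz' =>
      obtain ⟨i, w₁, rfl, hw₁⟩ := hz
      obtain ⟨j, w₂, rfl, hw₂⟩ := hz'
      let m := IsFiltered.max i j
      have tr : ∀ {i' : J} (g : i' ⟶ m) (v : A.obj i'),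
          v ∈ (P.comap (colimit.ι C i').hom).map (φ.app i').hom →
            A.map g v ∈ (P.comap (colimit.ι C m).hom).map (φ.app m).hom := by
        intro i' g v hv
        have e : (A.map g).hom.comp (φ.app i').hom = (φ.app m).hom.comp (C.map g).hom :=
          RingHom.ext fun c => (hmap g c).symm
        have := Ideal.mem_map_of_mem (A.map g).hom hv
        rw [Ideal.map_map, e, ← Ideal.map_map] at this
        refine Ideal.map_mono (Ideal.map_le_iff_le_comap.mpr fun c hc => ?_) this
        simp only [Ideal.mem_comap] at hc ⊢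
        rwa [← ConcreteCategory.comp_apply, colimit.w]
      refine ⟨m, A.map (IsFiltered.leftToMax i j) w₁ + A.map (IsFiltered.rightToMax i j) w₂, ?_,
        add_mem (tr _ _ hw₁) (tr _ _ hw₂)⟩
      rw [map_add, ← ConcreteCategory.comp_apply, colimit.w, ← ConcreteCategory.comp_apply, colimit.w]
    | smul r z _ hz =>
      obtain ⟨i, w₁, rfl, hw₁⟩ := hz
      obtain ⟨j, r', rfl⟩ := Concrete.colimit_exists_rep A r
      let m := IsFiltered.max i j
      refine ⟨m, A.map (IsFiltered.rightToMax i j) r' * A.map (IsFiltered.leftToMax i j) w₁, ?_, ?_⟩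
      · rw [map_mul, ← ConcreteCategory.comp_apply, colimit.w, ← ConcreteCategory.comp_apply, colimit.w]
        rfl
      · refine Ideal.mul_mem_left _ _ ?_
        have e : (A.map (IsFiltered.leftToMax i j)).hom.comp (φ.app i).hom =
            (φ.app m).hom.comp (C.map (IsFiltered.leftToMax i j)).hom :=
          RingHom.ext fun c => (hmap _ c).symm
        have := Ideal.mem_map_of_mem (A.map (IsFiltered.leftToMax i j)).hom hw₁
        rw [Ideal.map_map, e, ← Ideal.map_map] at this
        refine Ideal.map_mono (Ideal.map_le_iff_le_comap.mpr fun c hc => ?_) this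
        simp only [Ideal.mem_comap] at hc ⊢
        rwa [← ConcreteCategory.comp_apply, colimit.w]
  obtain ⟨j, w, hw1, hw⟩ := key 1 h1
  obtain ⟨k, a, b, hk⟩ := (Concrete.colimit_rep_eq_iff_exists A _ (1 : A.obj j)).mp
    (hw1.trans (map_one _).symm)
  letI : Algebra (C.obj k) (A.obj k) := (φ.app k).hom.toAlgebra
  haveI : Module.FaithfullyFlat (C.obj k) (A.obj k) := h k
  have e : (A.map a).hom.comp (φ.app j).hom = (φ.app k).hom.comp (C.map a).hom :=
    RingHom.ext fun c => (hmap a c).symm
  have h3 := Ideal.mem_map_of_mem (A.map a).hom hw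
  rw [hk, map_one, Ideal.map_map, e, ← Ideal.map_map, ← Ideal.eq_top_iff_one] at h3
  have h4 : ((P.comap (colimit.ι C j).hom).map (C.map a).hom) = ⊤ := by
    rw [← Ideal.comap_map_eq_self_of_faithfullyFlat (B := A.obj k)
      ((P.comap (colimit.ι C j).hom).map (C.map a).hom)]
    show Ideal.comap (φ.app k).hom _ = ⊤
    change Ideal.comap (φ.app k).hom (Ideal.map (φ.app k).hom _) = ⊤
    rw [h3, Ideal.comap_top]
  refine hP.ne_top (top_unique ?_)
  calc ⊤ = Ideal.map (colimit.ι C k).hom ⊤ := (Ideal.map_top _).symm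
    _ ≤ P := by
      rw [← h4, Ideal.map_map, ← CommRingCat.hom_comp, colimit.w]
      exact Ideal.map_comap_le


end Groth.Agent.S5377
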