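import Groth.Statements.S5378
import Groth.Agent.GrpAff.FaithfullyFlat
import Groth.Agent.UnipLib.Image

set_option autoImplicit false
universe u
open CategoryTheory CategoryTheory.Limits MonoidalCategory CartesianMonoidalCategory MonObj GrpObj AlgebraicGeometry
open SGA3

namespace Groth.Agent.S5378

open Groth.Agent

/-- Let k be a field, G a k-group scheme of finite type, G' an affine k-group scheme (not necessarily of
finite type) and u : G → G' a homomorphism. Then u factors as a homomorphism p : G → C which is
surjective and flat (C is the quotient of G by the kernel of u) followed by a homomorphism i : C →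
G' which is a closed immersion; in particular C is affine. If moreover u induces an injective map on
global sections, then i is an isomorphism (so G' is of finite type and u is faithfully flat). -/
theorem result (k : Type u) [Field k] (G G' : Over (Spec (CommRingCat.of k))) [GrpObj G] [GrpObj G']
    [LocallyOfFiniteType G.hom] [QuasiCompact G.hom] [IsAffine G'.left] (u : G ⟶ G') [IsMonHom u] :
    ∃ (C : Over (Spec (CommRingCat.of k))) (_ : GrpObj C) (p : G ⟶ C) (i : C ⟶ G'), IsMonHom p ∧ IsMonHom i ∧
      p ≫ i = u ∧ Surjective p.left ∧ Flat p.left ∧ IsClosedImmersion i.left ∧ IsAffine C.left ∧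
      (Function.Injective u.left.appTop.hom → IsIso i) := by
  obtain ⟨hcov, -⟩ := GrpAff.cover_toHull G
  let K := GrpAff.hull G
  let ū : K ⟶ G' := Over.homMk (Spec.map u.left.appTop ≫ G'.left.isoSpec.inv) (by
    have h : Epi (GrpAff.toHull G).left := by
      haveI := hcov.flat; haveI := hcov.surj
      exact Flat.epi_of_flat_of_surjective _
    have e : G.left.toSpecΓ ≫ Spec.map u.left.appTop ≫ G'.left.isoSpec.inv = u.left := by
      rw [← Category.assoc]
      erw [← Scheme.toSpecΓ_naturality]
      rw [Category.assoc, ← Scheme.isoSpec_hom, Iso.hom_inv_id, Category.comp_id]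
    rw [← cancel_epi (GrpAff.toHull G).left, Over.w (GrpAff.toHull G), ← Category.assoc,
      GrpAff.toHull_left]
    exact (congrArg (· ≫ G'.hom) e).trans (Over.w u))
  have hū : GrpAff.toHull G ≫ ū = u := Over.OverMorphism.ext (by
    show G.left.toSpecΓ ≫ Spec.map u.left.appTop ≫ G'.left.isoSpec.inv = u.left
    rw [← Category.assoc]
    erw [← Scheme.toSpecΓ_naturality]
    rw [Category.assoc, ← Scheme.isoSpec_hom, Iso.hom_inv_id, Category.comp_id])
  have : IsMonHom ū := hcov.isMonHom ū (by rw [hū]; infer_instance)
  obtain ⟨C, gC, e, i, he, hi, hC, hflat, hsurj, hcl, hei⟩ := UnipLib.exists_image ū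
  haveI := hcov.flat; haveI := hcov.surj; haveI := hflat; haveI := hsurj
  refine ⟨C, gC, GrpAff.toHull G ≫ e, i, inferInstance, hi, by rw [Category.assoc, hei, hū], ?_, ?_,
    hcl, hC, fun hinj => ?_⟩
  · rw [Over.comp_left]; infer_instance
  · rw [Over.comp_left]; infer_instance
  have h1 : u.left.appTop = i.left.appTop ≫ (GrpAff.toHull G ≫ e).left.appTop := by
    rw [← Scheme.Hom.comp_appTop, ← Over.comp_left, Category.assoc, hei, hū]
  have h2 : Function.Injective i.left.appTop.hom := by
    rw [h1, CommRingCat.hom_comp] at hinj
    exact Function.Injective.of_comp (f := (GrpAff.toHull G ≫ e).left.appTop.hom) (by exact hinj)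
  haveI : IsIso i.left := by
    refine IsClosedImmersion.isIso_iff_ker_eq_bot.mpr ?_
    rw [Scheme.ker_of_isAffine]
    refine Scheme.IdealSheafData.ext_of_isAffine ?_
    simp only [Scheme.IdealSheafData.ofIdealTop_ideal, Scheme.IdealSheafData.ideal_bot, Pi.bot_apply]
    rw [(RingHom.injective_iff_ker_eq_bot _).mp h2]
    simp
  exact GrpdLib.GrpOver.isIso_of_isIso_left i

end Groth.Agent.S5378
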