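import Groth.Statements.S5379
import Groth.Agent.GrpClosure27.Basic
import Groth.Agent.AffThick.Nil
import Groth.Agent.S5355
import Groth.Agent.GrpdLib.MonoClosedField
import Groth.Agent.FpqcDesc.Props

set_option autoImplicit false
universe u
open CategoryTheory CategoryTheory.Limits MonoidalCategory CartesianMonoidalCategory MonObj GrpObj AlgebraicGeometry
open SGA3

namespace Groth.Agent.S5379

open Groth.Agent

/-- Over a perfect field a quasi-compact monomorphic homomorphism into an affine group has affine source. -/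
theorem isAffine_of_perfect {K : Type u} [Field K] [PerfectField K]
    (G H : Over (Spec (CommRingCat.of K))) [GrpObj G] [GrpObj H] [IsAffine H.left] (u : G ⟶ H)
    [IsMonHom u] [Mono u] [QuasiCompact u.left] : IsAffine G.left := by
  obtain ⟨C, gC, c, hc, hcl, hred, hr⟩ := GrpClosure27.exists_closure u
  have := TransRep27.mono_of_mono_left c
  let π := pullback.fst u c
  let v := pullback.snd u c
  have sq := IsPullback.of_hasPullback u c
  have sq' : IsPullback π.left v.left u.left c.left := sq.map (Over.forget _)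
  have : IsClosedImmersion π.left := MorphismProperty.of_isPullback (P := @IsClosedImmersion) sq'.flip hcl
  have : QuasiCompact v.left := MorphismProperty.of_isPullback (P := @QuasiCompact) sq' inferInstance
  let q : ∀ T : Over (Spec (CommRingCat.of K)), Subgroup (T ⟶ G) := fun T =>
    { carrier := {x | ∃ y : T ⟶ C, y ≫ c = x ≫ u}
      one_mem' := ⟨1, by rw [MonObj.one_comp, MonObj.one_comp]⟩
      mul_mem' := fun {a b} ⟨y, hy⟩ ⟨y', hy'⟩ => ⟨y * y', by rw [MonObj.mul_comp, MonObj.mul_comp, hy, hy']⟩
      inv_mem' := fun {a} ⟨y, hy⟩ => ⟨y⁻¹, by rw [GrpObj.inv_comp, GrpObj.inv_comp, hy]⟩ }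
  obtain ⟨gZ, hπ⟩ := TransRep27.exists_grpObj_of_points π q fun T x =>
    ⟨fun ⟨z, hz⟩ => ⟨z ≫ v, by rw [← hz, Category.assoc, Category.assoc, pullback.condition]⟩,
      fun ⟨y, hy⟩ => ⟨pullback.lift x y hy.symm, pullback.lift_fst _ _ _⟩⟩
  have : IsMonHom v :=
    { one_hom := by
        rw [← cancel_mono c, Category.assoc, ← pullback.condition, ← Category.assoc,
          IsMonHom.one_hom π, IsMonHom.one_hom u, IsMonHom.one_hom c]
      mul_hom := by
        rw [← cancel_mono c, Category.assoc, Category.assoc, IsMonHom.mul_hom c, ← pullback.condition,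
          ← Category.assoc, IsMonHom.mul_hom π, Category.assoc, IsMonHom.mul_hom u,
          MonoidalCategory.tensorHom_comp_tensorHom_assoc, MonoidalCategory.tensorHom_comp_tensorHom_assoc,
          pullback.condition] }
  have hvd : DenseRange v.left := fun x => by
    rw [c.left.isClosedEmbedding.isEmbedding.closure_eq_preimage_closure_image, Set.mem_preimage]
    have h1 : c.left x ∈ closure (Set.range u.left) := hr ▸ Set.mem_range_self x
    refine closure_mono ?_ h1
    rintro _ ⟨g, rfl⟩
    obtain ⟨y, hy⟩ : u.left g ∈ Set.range c.left := hr ▸ subset_closure ⟨g, rfl⟩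
    obtain ⟨z, -, hz⟩ := Scheme.exists_preimage_of_isPullback sq' g y hy.symm
    exact ⟨v.left z, ⟨z, rfl⟩, by rw [hz, hy]⟩
  obtain ⟨hvs, hvf⟩ := S5355.result K _ C v hvd
  have := hvf hred
  have : Mono v.left := inferInstanceAs (Mono ((Over.forget _).map v))
  have : IsIso v.left :=
    MorphismProperty.of_pullback_fst_of_descendsAlong (P := MorphismProperty.isomorphisms Scheme.{u})
      (Q := @Surjective ⊓ @Flat ⊓ @QuasiCompact) (f := v.left) (g := v.left)
      ⟨⟨hvs, inferInstance⟩, inferInstance⟩ (inferInstanceAs (IsIso (pullback.fst v.left v.left)))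
  have : IsAffine C.left := isAffine_of_isAffineHom c.left
  have : IsAffine (pullback u c : Over (Spec (CommRingCat.of K))).left := .of_isIso v.left
  have : Surjective π.left := ⟨fun g => by
    obtain ⟨y, hy⟩ : u.left g ∈ Set.range c.left := hr ▸ subset_closure ⟨g, rfl⟩
    obtain ⟨z, hz, -⟩ := Scheme.exists_preimage_of_isPullback sq' g y hy.symm
    exact ⟨z, hz⟩⟩
  exact AffThick.isAffine_of_surjective π.left


/-- Let k be a field and u : G → H a homomorphism of k-group schemes which is a quasi-compact
monomorphism, with H affine (G and H are not assumed of finite type). Then u is a closed immersion. -/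
theorem result (k : Type u) [Field k] (G H : Over (Spec (CommRingCat.of k)))
    [GrpObj G] [GrpObj H] [IsAffine H.left] (u : G ⟶ H) [IsMonHom u] [Mono u] [QuasiCompact u.left] :
    IsClosedImmersion u.left := by
  let L := AlgebraicClosure k
  let φ : Spec (CommRingCat.of L) ⟶ Spec (CommRingCat.of k) :=
    Spec.map (CommRingCat.ofHom (algebraMap k L))
  let uL := (Over.pullback φ).map u
  have sq : IsPullback uL.left (pullback.fst G.hom φ) (pullback.fst H.hom φ) u.left := by
    refine IsPullback.of_right ?_ (pullback.lift_fst _ _ _) (IsPullback.of_hasPullback H.hom φ).flip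
    rw [show uL.left ≫ pullback.snd H.hom φ = pullback.snd G.hom φ from pullback.lift_snd _ _ _, Over.w u]
    exact (IsPullback.of_hasPullback G.hom φ).flip
  have : IsMonHom uL := inferInstance
  have : Mono uL := inferInstance
  have : QuasiCompact uL.left := MorphismProperty.of_isPullback (P := @QuasiCompact) sq.flip inferInstance
  have : IsAffine (Red.bc φ H).left := inferInstanceAs (IsAffine (pullback H.hom φ))
  have : IsAffine (Red.bc φ G).left := isAffine_of_perfect _ _ uL
  have : IsAffineHom uL.left := inferInstance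
  have hφ : Surjective φ :=
    ⟨fun x => ⟨default, Subsingleton.elim (α := PrimeSpectrum k) _ x⟩⟩
  have : Flat φ := inferInstanceAs (Flat (Y := Spec (CommRingCat.of k)) φ)
  have hQ : (@Surjective ⊓ @Flat ⊓ @QuasiCompact : MorphismProperty Scheme.{u}) (pullback.fst H.hom φ) :=
    ⟨⟨MorphismProperty.pullback_fst (P := @Surjective) H.hom φ hφ, inferInstance⟩, inferInstance⟩
  have : MorphismProperty.DescendsAlong @IsAffineHom FpqcDesc.FPQC.{u} := FpqcDesc.descendsAlong_isAffineHom
  have : IsAffineHom u.left :=
    MorphismProperty.of_isPullback_of_descendsAlong (P := @IsAffineHom) (Q := FpqcDesc.FPQC) sq.flip.flip hQ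
      inferInstance
  have : IsAffine G.left := isAffine_of_isAffineHom u.left
  obtain ⟨A, hA, eH, hH⟩ := AffGrp.Bridge.exists_iso (R := CommRingCat.of k) H
  obtain ⟨B, hB, eG, hG⟩ := AffGrp.Bridge.exists_iso (R := CommRingCat.of k) G
  let ψ : (Spec B).asOver (Spec (CommRingCat.of k)) ⟶ (Spec A).asOver (Spec (CommRingCat.of k)) :=
    eG.hom ≫ u ≫ eH.inv
  have : IsMonHom ψ := inferInstance
  obtain ⟨v, hv⟩ : ∃ v : Opposite.op (CommHopfAlgCat.of k B) ⟶ Opposite.op (CommHopfAlgCat.of k A),
      ((hopfSpec (CommRingCat.of k)).map v).hom.hom = ψ := by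
    let χ : (hopfSpec (CommRingCat.of k)).obj (Opposite.op (CommHopfAlgCat.of k B)) ⟶
        (hopfSpec (CommRingCat.of k)).obj (Opposite.op (CommHopfAlgCat.of k A)) :=
      Grp.homMk' (@Mon.Hom.mk _ _ _ _ _ ψ ⟨IsMonHom.one_hom ψ, IsMonHom.mul_hom ψ⟩)
    obtain ⟨v, hv⟩ : ∃ v, (hopfSpec (CommRingCat.of k)).map v = χ :=
      ⟨_, hopfSpec.fullyFaithful.map_preimage χ⟩
    exact ⟨v, by rw [hv]; rfl⟩
  let π : A →ₐc[k] B := v.unop.hom
  have hπ : Spec.map (CommRingCat.ofHom (π : A →+* B)) = ψ.left := congrArg CommaMorphism.left hv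
  have : Mono ψ := inferInstance
  have : Mono (Spec.map (CommRingCat.ofHom (π : A →+* B))) := by
    rw [hπ]; exact inferInstanceAs (Mono ((Over.forget _).map ψ))
  have hcl := IsClosedImmersion.spec_of_surjective (CommRingCat.ofHom (π : A →+* B))
    (GrpdLib.MonoClosedField.surjective_of_mono π)
  rw [hπ] at hcl
  have h2 : IsClosedImmersion ((eG.hom.left ≫ u.left) ≫ eH.inv.left) := by
    rw [Category.assoc, ← Over.comp_left, ← Over.comp_left]; exact hcl
  rw [MorphismProperty.cancel_right_of_respectsIso @IsClosedImmersion] at h2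
  exact (MorphismProperty.cancel_left_of_respectsIso @IsClosedImmersion eG.hom.left u.left).1 h2

end Groth.Agent.S5379
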