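import Groth.Statements.S5381
-- import your own Groth.Agent.* helpers here

set_option autoImplicit false
universe u
open CategoryTheory CategoryTheory.Limits MonoidalCategory CartesianMonoidalCategory MonObj GrpObj AlgebraicGeometry
open SGA3

namespace Groth.Agent.S5381

/-- For S the spectrum of a Dedekind domain R: let X be a scheme which is flat, quasi-compact and
quasi-separated over R. Then the ring of global sections Γ(X, O_X) is a flat R-module. (The
published remark takes S locally noetherian and regular of dimension 1 and also observes, when S is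
local with closed point s and uniformizer π, that Γ(X, O_X)/πΓ(X, O_X) → Γ(X_s, O_{X_s}) is
injective; this row takes S the spectrum of a Dedekind domain and omits the injectivity.) -/
theorem result (R : Type u) [CommRing R] [IsDedekindDomain R]
    (X : Scheme.{u}) (f : X ⟶ Spec (CommRingCat.of R)) [Flat f] [QuasiCompact f] [QuasiSeparated f] :
    letI := ((Scheme.ΓSpecIso (CommRingCat.of R)).inv ≫ f.appTop).hom.toAlgebra
    Module.Flat R Γ(X, ⊤) := by
  letI := ((Scheme.ΓSpecIso (CommRingCat.of R)).inv ≫ f.appTop).hom.toAlgebra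
  rw [IsDedekindDomain.flat_iff_torsion_eq_bot, eq_bot_iff]
  intro m hm
  obtain ⟨⟨r, hr⟩, hrm⟩ := hm
  rw [Submodule.mem_bot]
  refine TopCat.Sheaf.eq_of_locally_eq' X.sheaf (fun U : X.affineOpens => U.1) ⊤
    (fun U => homOfLE le_top) ?_ m 0 ?_
  · rw [iSup_affineOpens_eq_top]
  intro U
  let g : R →+* Γ(X, U.1) :=
    ((Scheme.ΓSpecIso (CommRingCat.of R)).inv ≫ f.appLE ⊤ U.1 le_top).hom
  have hg : g.Flat := by
    have h1 : (f.appLE ⊤ U.1 le_top).hom.Flat := f.flat_appLE (isAffineOpen_top _) U.2 le_top
    have h2 : (Scheme.ΓSpecIso (CommRingCat.of R)).inv.hom.Flat :=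
      RingHom.Flat.of_bijective (ConcreteCategory.bijective_of_isIso _)
    exact h2.comp h1
  have hreg : IsSMulRegular (Γ(X, U.1)) (g r) := by
    letI := g.toAlgebra
    haveI : Module.Flat R Γ(X, U.1) := hg
    have h3 : IsSMulRegular (Γ(X, U.1)) r :=
      Module.Flat.isSMulRegular_of_nonZeroDivisors hr
    intro a b hab
    apply h3
    simpa [Algebra.smul_def, RingHom.algebraMap_toAlgebra] using hab
  have e : g r * (X.presheaf.map (homOfLE le_top).op).hom m = 0 := by
    have hgr : g r = (X.presheaf.map (homOfLE (le_top : U.1 ≤ ⊤)).op).hom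
        (algebraMap R Γ(X, ⊤) r) := by
      simp only [g, Scheme.Hom.appLE, RingHom.algebraMap_toAlgebra]
      rfl
    have hrm' : algebraMap R Γ(X, ⊤) r * m = 0 := by
      rw [← Algebra.smul_def]; exact hrm
    rw [hgr, ← map_mul, hrm', map_zero]
  have : (X.presheaf.map (homOfLE (le_top : U.1 ≤ ⊤)).op).hom m = 0 := by
    apply hreg
    show g r * _ = g r * (0 : Γ(X, U.1))
    rw [mul_zero]; exact e
  show (X.presheaf.map (homOfLE (le_top : U.1 ≤ ⊤)).op).hom m = (X.presheaf.map (homOfLE (le_top : U.1 ≤ ⊤)).op).hom 0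
  rw [this, map_zero]

end Groth.Agent.S5381
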