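import Groth.Statements.S5383
import Groth.Agent.UBOpen.Basic
import Groth.Agent.S4937

set_option autoImplicit false
universe u
open CategoryTheory CategoryTheory.Limits MonoidalCategory CartesianMonoidalCategory MonObj GrpObj AlgebraicGeometry
open SGA3

namespace Groth.Agent.S5383

/-- (i) let A ⊆ B be domains with B integral over A, and q a prime of B such that the local ring of A at
p = q ∩ A is unibranch; then Spec B → Spec A is open at q (it maps neighbourhoods of q to
neighbourhoods of p). (ii) Let f : X → Y be a dominant morphism of irreducible schemes which is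
locally of finite type, x a point of X isolated in its fibre (f quasi-finite at x) such that the
local ring of Y at f(x) is unibranch; then f is open at x. -/
theorem result :
    (∀ (A B : Type u) [CommRing A] [IsDomain A] [CommRing B] [IsDomain B] [Algebra A B],
      Function.Injective (algebraMap A B) → Algebra.IsIntegral A B →
      ∀ q : PrimeSpectrum B, CAlg2.IsUnibranch (Localization.AtPrime (q.asIdeal.comap (algebraMap A B))) →
        EGA43.IsOpenAt (PrimeSpectrum.comap (algebraMap A B)) q) ∧
    (∀ (X Y : Scheme.{u}) (f : X ⟶ Y) [IrreducibleSpace X] [IrreducibleSpace Y] [LocallyOfFiniteType f],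
      DenseRange f.base → ∀ x : X, (nhdsWithin x (f.base ⁻¹' {f.base x})) = pure x →
        CAlg2.IsUnibranch (Y.presheaf.stalk (f.base x)) → EGA43.IsOpenAt f.base x) := by
  constructor
  · intro A B _ _ _ _ _ hinj hint q hu U hU
    haveI := hint
    obtain ⟨_, ⟨_, ⟨g, rfl⟩, rfl⟩, hqg, hgU⟩ :=
      PrimeSpectrum.isBasis_basic_opens.mem_nhds_iff.mp hU
    let D := Algebra.adjoin A ({g} : Set B)
    haveI : Module.Finite A D := Module.Finite.iff_fg.mpr
      ((Algebra.IsIntegral.isIntegral (R := A) g).fg_adjoin_singleton)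
    haveI : FaithfulSMul A D := (faithfulSMul_iff_algebraMap_injective A D).mpr fun a b h =>
      hinj (congrArg Subtype.val h)
    let g' : D := ⟨g, Algebra.self_mem_adjoin_singleton A g⟩
    let qD : PrimeSpectrum D := PrimeSpectrum.comap D.val.toRingHom q
    have hu' : CAlg2.IsUnibranch (Localization.AtPrime (qD.asIdeal.comap (algebraMap A D))) := hu
    have h := UBOpen.image_basicOpen_mem_nhds_of_isUnibranch qD hu' (g := g') hqg
    refine Filter.mem_of_superset h ?_
    rintro _ ⟨Q, hQ, rfl⟩
    letI : Algebra D B := D.val.toRingHom.toAlgebra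
    haveI : IsScalarTower A D B := .of_algebraMap_eq fun a => rfl
    haveI : Algebra.IsIntegral D B := Algebra.IsIntegral.tower_top (R := A)
    obtain ⟨Q', -, hQ', hQQ⟩ := Ideal.exists_ideal_over_prime_of_isIntegral (S := B) Q.asIdeal ⊥
      (by rw [← RingHom.ker_eq_comap_bot,
        (RingHom.injective_iff_ker_eq_bot _).mp (Subtype.val_injective : Function.Injective (algebraMap D B))]
          exact bot_le)
    refine ⟨⟨Q', hQ'⟩, hgU (fun h => hQ ?_), PrimeSpectrum.ext ?_⟩
    · rw [← hQQ]; exact h
    · show Q'.comap (algebraMap A B) = Q.asIdeal.comap (algebraMap A D)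
      rw [← hQQ]
      show Q'.comap (algebraMap A B) = (Q'.comap (algebraMap D B)).comap (algebraMap A D)
      rw [Ideal.comap_comap]
      rfl
  · intro X Y f _ _ _ hdense x hx hy U hU
    obtain ⟨V, hV, hyV, -⟩ := exists_isAffineOpen_mem_and_subset (x := f.base x) (U := (⊤ : Y.Opens)) trivial
    obtain ⟨W, hW, hxW, hWle⟩ := exists_isAffineOpen_mem_and_subset (x := x) (U := f ⁻¹ᵁ V) hyV
    have eW : W ≤ f ⁻¹ᵁ V := hWle
    let φ : Γ(Y, V) →+* Γ(X, W) := (f.appLE V W eW).hom
    have hmapP : ∀ P : PrimeSpectrum Γ(X, W), f.base (hW.fromSpec P) = hV.fromSpec (PrimeSpectrum.comap φ P) :=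
      fun P => congrArg (fun m : Spec Γ(X, W) ⟶ Y => m P) (hV.SpecMap_appLE_fromSpec f hW eW).symm
    let N := nilradical Γ(Y, V)
    let M := nilradical Γ(X, W)
    obtain ⟨GY, hGY⟩ : genericPoint Y ∈ Set.range hV.fromSpec := by
      rw [hV.range_fromSpec]; exact (genericPoint_specializes _).mem_open V.2 hyV
    obtain ⟨GX, hGX⟩ : genericPoint X ∈ Set.range hW.fromSpec := by
      rw [hW.range_fromSpec]; exact (genericPoint_specializes _).mem_open W.2 hxW
    have hnil : ∀ {Z : Scheme.{u}} [IrreducibleSpace Z] {O : Z.Opens} (hO : IsAffineOpen O) (G : PrimeSpectrum Γ(Z, O)),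
        hO.fromSpec G = genericPoint Z → nilradical Γ(Z, O) = G.asIdeal := by
      intro Z _ O hO G hG
      refine le_antisymm (nilradical_le_prime _) ?_
      rw [nilradical_eq_sInf]
      refine le_sInf fun p hp => ?_
      haveI : p.IsPrime := hp
      refine (PrimeSpectrum.le_iff_specializes G ⟨p, hp⟩).mpr (hO.fromSpec.isOpenEmbedding.isEmbedding.specializes_iff.mp ?_)
      rw [hG]
      exact genericPoint_specializes _
    have hN : N = GY.asIdeal := hnil hV GY hGY
    have hM : M = GX.asIdeal := hnil hW GX hGX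
    have hNM : N = M.comap φ := by
      rw [hN, hM]
      show GY.asIdeal = (PrimeSpectrum.comap φ GX).asIdeal
      refine congrArg PrimeSpectrum.asIdeal (hV.fromSpec.isOpenEmbedding.injective ?_)
      rw [hGY, ← hmapP, hGX]
      exact ((genericPoint_spec X).image f.continuous |>.eq (by
        rw [Set.image_univ, hdense.closure_range]
        exact genericPoint_spec Y)).symm
    haveI : N.IsPrime := hN ▸ GY.isPrime
    haveI : M.IsPrime := hM ▸ GX.isPrime
    let A := Γ(Y, V) ⧸ N
    let B := Γ(X, W) ⧸ M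
    letI : Algebra Γ(Y, V) Γ(X, W) := φ.toAlgebra
    haveI : Algebra.FiniteType Γ(Y, V) Γ(X, W) := LocallyOfFiniteType.finiteType_appLE f hV hW eW
    letI : Algebra A B := (Ideal.quotientMap M φ hNM.le).toAlgebra
    haveI : IsScalarTower Γ(Y, V) A B := IsScalarTower.of_algebraMap_eq fun _ => rfl
    haveI : Algebra.FiniteType Γ(Y, V) B :=
      .of_surjective (Ideal.Quotient.mkₐ _ M) Ideal.Quotient.mk_surjective
    haveI : Algebra.FiniteType A B := .of_restrictScalars_finiteType Γ(Y, V) A B
    haveI : FaithfulSMul A B := (faithfulSMul_iff_algebraMap_injective A B).mpr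
      (Ideal.quotientMap_injective' (H := hNM.le) hNM.ge)
    obtain ⟨P, hP⟩ : x ∈ Set.range hW.fromSpec := by rw [hW.range_fromSpec]; exact hxW
    let p := PrimeSpectrum.comap φ P
    have hp : hV.fromSpec p = f.base x := by rw [← hmapP, hP]
    haveI : (P.asIdeal.map (Ideal.Quotient.mk M)).IsPrime := Ideal.map_isPrime_of_surjective
      Ideal.Quotient.mk_surjective (by rw [Ideal.mk_ker]; exact nilradical_le_prime _)
    let Q : PrimeSpectrum B := ⟨P.asIdeal.map (Ideal.Quotient.mk M), inferInstance⟩
    have hQP : Q.asIdeal.comap (Ideal.Quotient.mk M) = P.asIdeal := by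
      show (P.asIdeal.map _).comap _ = _
      rw [Ideal.comap_map_of_surjective _ Ideal.Quotient.mk_surjective, ← RingHom.ker_eq_comap_bot, Ideal.mk_ker]
      exact sup_eq_left.mpr (nilradical_le_prime _)
    -- quasi-finiteness
    haveI : Algebra.QuasiFiniteAt A Q.asIdeal := by
      have h1 : f.QuasiFiniteAt x := by
        rw [Scheme.Hom.quasiFiniteAt_iff_isOpen_singleton_asFiber]
        obtain ⟨O, hO, hxO, hOs⟩ := mem_nhdsWithin.mp (hx.symm ▸ (Filter.mem_pure.mpr rfl) :
          ({x} : Set X) ∈ nhdsWithin x (f.base ⁻¹' {f.base x}))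
        have h2 : ({⟨x, rfl⟩} : Set ↥(f.base ⁻¹' {f.base x})) = Subtype.val ⁻¹' O := by
          ext ⟨z, hz⟩
          simp only [Set.mem_singleton_iff, Subtype.mk.injEq, Set.mem_preimage]
          exact ⟨fun h => h ▸ hxO, fun h => hOs ⟨h, hz⟩⟩
        rw [← (f.fiberHomeo (f.base x)).isOpen_image, Set.image_singleton, Scheme.Hom.asFiber, Homeomorph.apply_symm_apply, h2]
        exact hO.preimage continuous_subtype_val
      have h3 := h1.quasiFiniteAt hW hV eW (hxV := hxW)
      have hPx : hW.primeIdealOf ⟨x, hxW⟩ = P := by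
        refine hW.fromSpec.isOpenEmbedding.injective ?_
        rw [hW.fromSpec_primeIdealOf, hP]
      rw [hPx] at h3
      haveI : Algebra.QuasiFiniteAt Γ(Y, V) P.asIdeal := h3
      haveI : Algebra.QuasiFiniteAt Γ(Y, V) Q.asIdeal :=
        Algebra.QuasiFiniteAt.of_surjectiveOnStalks P.asIdeal (Ideal.Quotient.mkₐ _ M)
          (RingHom.surjectiveOnStalks_of_surjective Ideal.Quotient.mk_surjective) _ hQP.symm
      exact Algebra.QuasiFinite.of_restrictScalars Γ(Y, V) A (Localization.AtPrime Q.asIdeal)
    -- unibranchness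
    have hu : CAlg2.IsUnibranch (Localization.AtPrime (Q.asIdeal.comap (algebraMap A B))) := by
      let P₀ : Ideal A := Q.asIdeal.comap (algebraMap A B)
      have hP₀ : P₀.comap (Ideal.Quotient.mk N) = p.asIdeal := by
        show _ = P.asIdeal.comap φ
        rw [Ideal.comap_comap, ← hQP, Ideal.comap_comap]
        rfl
      rw [← hp] at hy
      letI alg := TopCat.Presheaf.algebra_section_stalk Y.presheaf (⟨hV.fromSpec p, hV.range_fromSpec.le ⟨p, rfl⟩⟩ : V)
      haveI hloc : IsLocalization.AtPrime (Y.presheaf.stalk (hV.fromSpec p)) p.asIdeal :=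
        hV.isLocalization_stalk' p (hV.range_fromSpec.le ⟨p, rfl⟩)
      let O := Y.presheaf.stalk (hV.fromSpec p)
      have hunit : ∀ s : p.asIdeal.primeCompl,
          IsUnit (((algebraMap A (Localization.AtPrime P₀)).comp (Ideal.Quotient.mk N)) s) := fun s =>
        IsLocalization.map_units (Localization.AtPrime P₀)
          (⟨Ideal.Quotient.mk N s, fun h => s.2 (hP₀.le h)⟩ : P₀.primeCompl)
      let π : O →+* Localization.AtPrime P₀ := IsLocalization.lift hunit
      have hπsurj : Function.Surjective π := fun z => by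
        obtain ⟨a, s, rfl⟩ := IsLocalization.exists_mk'_eq P₀.primeCompl z
        obtain ⟨a, rfl⟩ := Ideal.Quotient.mk_surjective a
        obtain ⟨b, hb⟩ := Ideal.Quotient.mk_surjective (s : A)
        have hbp : b ∉ p.asIdeal := fun hb' => s.2 (by rw [← hb]; rw [← hP₀] at hb'; exact hb')
        refine ⟨IsLocalization.mk' O a (⟨b, hbp⟩ : p.asIdeal.primeCompl), ?_⟩
        rw [IsLocalization.lift_mk'_spec]
        show algebraMap A _ (Ideal.Quotient.mk N a) = algebraMap A _ (Ideal.Quotient.mk N b) * _
        rw [hb, mul_comm, IsLocalization.mk'_spec]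
      have hker : RingHom.ker π = nilradical O := by
        refine le_antisymm (fun z hz => ?_) fun z hz => ?_
        · obtain ⟨a, s, rfl⟩ := IsLocalization.exists_mk'_eq p.asIdeal.primeCompl z
          rw [RingHom.mem_ker, IsLocalization.lift_mk'_spec, mul_zero] at hz
          have hz' : algebraMap A (Localization.AtPrime P₀) (Ideal.Quotient.mk N a) = 0 := hz
          have haN : a ∈ N := Ideal.Quotient.eq_zero_iff_mem.mp
            (IsLocalization.injective (Localization.AtPrime P₀) P₀.primeCompl_le_nonZeroDivisors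
              (hz'.trans (map_zero _).symm))
          rw [mem_nilradical, IsLocalization.mk'_eq_mul_mk'_one]
          obtain ⟨k, hk⟩ := mem_nilradical.mp haN
          exact ⟨k, by rw [mul_pow, ← map_pow, hk, map_zero, zero_mul]⟩
        · haveI : IsDomain (Localization.AtPrime P₀) :=
            IsLocalization.isDomain_of_le_nonZeroDivisors _ P₀.primeCompl_le_nonZeroDivisors
          exact RingHom.mem_ker.mpr ((mem_nilradical.mp hz).map π).eq_zero
      let e₁ : CAlg2.red O ≃+* Localization.AtPrime P₀ :=
        (Ideal.quotEquivOfEq hker.symm).trans (RingHom.quotientKerEquivOfSurjective hπsurj)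
      haveI : IsDomain (Localization.AtPrime P₀) :=
        IsLocalization.isDomain_of_le_nonZeroDivisors _ P₀.primeCompl_le_nonZeroDivisors
      let e₂ : Localization.AtPrime P₀ ≃+* CAlg2.red (Localization.AtPrime P₀) :=
        ((Ideal.quotEquivOfEq (nilradical_eq_zero _)).trans (RingEquiv.quotientBot _)).symm
      exact S4937.isUnibranch_of_red_equiv (e₁.trans e₂) hy
    obtain ⟨_, ⟨_, ⟨g, rfl⟩, rfl⟩, hPg, hgU⟩ := PrimeSpectrum.isBasis_basic_opens.mem_nhds_iff.mp
      (hW.fromSpec.continuous.continuousAt.preimage_mem_nhds (hP.symm ▸ hU : U ∈ nhds (hW.fromSpec P)))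
    have hgQ : Ideal.Quotient.mk M g ∉ Q.asIdeal := fun h => hPg (hQP ▸ h : g ∈ P.asIdeal)
    have h := UBOpen.image_basicOpen_mem_nhds_of_isUnibranch Q hu hgQ
    let π := PrimeSpectrum.comap (Ideal.Quotient.mk N)
    have hπ : IsHomeomorph π := by
      refine PrimeSpectrum.isHomeomorph_comap _ (fun a => ?_) ?_
      · obtain ⟨b, rfl⟩ := Ideal.Quotient.mk_surjective a
        exact ⟨1, one_pos, b, (pow_one _).symm⟩
      · rw [Ideal.mk_ker]
    have h4 := hV.fromSpec.isOpenEmbedding.isOpenMap.image_mem_nhds (hπ.isOpenMap.image_mem_nhds h)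
    have h5 : hV.fromSpec (π (PrimeSpectrum.comap (algebraMap A B) Q)) = f.base x := by
      rw [← hp]
      refine congrArg _ (PrimeSpectrum.ext ?_)
      show (Q.asIdeal.comap (algebraMap A B)).comap (Ideal.Quotient.mk N) = P.asIdeal.comap φ
      rw [Ideal.comap_comap, ← hQP, Ideal.comap_comap]
      rfl
    rw [h5] at h4
    refine Filter.mem_of_superset h4 ?_
    rintro _ ⟨_, ⟨_, ⟨R, hR, rfl⟩, rfl⟩, rfl⟩
    refine ⟨hW.fromSpec (PrimeSpectrum.comap (Ideal.Quotient.mk M) R), hgU hR, ?_⟩
    refine (hmapP _).trans (congrArg hV.fromSpec (PrimeSpectrum.ext ?_))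
    show (R.asIdeal.comap (Ideal.Quotient.mk M)).comap φ =
      (R.asIdeal.comap (algebraMap A B)).comap (Ideal.Quotient.mk N)
    rw [Ideal.comap_comap, Ideal.comap_comap]
    rfl

end Groth.Agent.S5383
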