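import Groth.Statements.S5385
import Groth.Agent.GeomLoc.CM
import Groth.Agent.Depth.CM
import Mathlib.RingTheory.Regular.IsSMulRegular
import Mathlib.RingTheory.Jacobson.Ring

set_option autoImplicit false
universe u
open CategoryTheory CategoryTheory.Limits MonoidalCategory CartesianMonoidalCategory MonObj GrpObj AlgebraicGeometry
open SGA3

namespace Groth.Agent.S5385

open Groth.Agent
open scoped Pointwise

/-- Cohen–Macaulay ascends from the quotient by a regular element. -/
lemma cm_of_quotient {L L' : Type u} [CommRing L] [CommRing L'] [IsLocalRing L] [IsNoetherianRing L]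
    (ψ : L →+* L') (hψ : Function.Surjective ψ) (t : L) (ht : t ∈ IsLocalRing.maximalIdeal L)
    (hker : RingHom.ker ψ = Ideal.span {t}) (hreg : IsSMulRegular L t)
    (h : LocCoh.IsCohenMacaulayLocalRing L') : LocCoh.IsCohenMacaulayLocalRing L := by
  algebraize [ψ]
  have : Module.Finite L L' := Module.Finite.of_surjective (Algebra.linearMap L L') hψ
  have h1 : LocCoh.IsCohenMacaulayModule L L' :=
    (Depth.isCohenMacaulayModule_iff_of_surjective (R := L) (S := L') (N := L') hψ).1 h.supportDim_eq_depth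
  have hk : LinearMap.ker (Algebra.linearMap L L') = t • (⊤ : Submodule L L) := by
    ext a
    rw [LinearMap.mem_ker, Algebra.linearMap_apply, RingHom.algebraMap_toAlgebra, ← RingHom.mem_ker,
      hker, Ideal.mem_span_singleton, Submodule.mem_smul_pointwise_iff_exists]
    exact ⟨fun ⟨c, hc⟩ => ⟨c, trivial, by rw [hc, smul_eq_mul]⟩,
      fun ⟨c, _, hc⟩ => ⟨c, by rw [← hc, smul_eq_mul]⟩⟩
  let e : QuotSMulTop t L ≃ₗ[L] L' := (Submodule.quotEquivOfEq _ _ hk.symm).trans
    ((Algebra.linearMap L L').quotKerEquivOfSurjective hψ)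
  exact Depth.isCohenMacaulayLocalRing_iff.2 ((Depth.isCohenMacaulayModule_quotSMulTop_iff ht hreg).1
    ((Depth.isCohenMacaulayModule_congr e).2 h1))

/-- A Noetherian Jacobson ring has a maximal ideal with Cohen–Macaulay localization. -/
theorem exists_cm_maximal {B : Type u} [CommRing B] [IsNoetherianRing B] [IsJacobsonRing B]
    (I : Ideal B) (hI : I ≠ ⊤) : ∃ (m : Ideal (B ⧸ I)) (_ : m.IsMaximal),
      LocCoh.IsCohenMacaulayLocalRing (Localization.AtPrime m) := by
  induction I using IsNoetherian.induction with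
  | hgt I ih =>
  have : Nontrivial (B ⧸ I) := Ideal.Quotient.nontrivial_iff.2 hI
  let C := B ⧸ I
  by_cases hall : ∀ m : Ideal C, m.IsMaximal → m ∈ associatedPrimes C C
  · have hfin : {m : Ideal C | m.IsMaximal}.Finite := (associatedPrimes.finite C C).subset hall
    have hmax : ∀ p : Ideal C, p.IsPrime → p.IsMaximal := fun p hp => by
      classical
      have h1 : (hfin.toFinset.filter fun m => p ≤ m).inf id ≤ p := by
        conv_rhs => rw [← IsJacobsonRing.out (inferInstanceAs (IsJacobsonRing C)) hp.isRadical]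
        exact le_sInf fun m hm => Finset.inf_le (by simpa using ⟨hm.2, hm.1⟩)
      obtain ⟨m, hm, hmp⟩ := (hp.inf_le' ).1 h1
      obtain ⟨hm1, hm2⟩ := Finset.mem_filter.1 hm
      have hm3 : m.IsMaximal := hfin.mem_toFinset.1 hm1
      rwa [← le_antisymm (show m ≤ p from hmp) hm2]
    have : Ring.KrullDimLE 0 C := Ring.krullDimLE_zero_iff.2 hmax
    obtain ⟨m, hm⟩ := Ideal.exists_maximal C
    refine ⟨m, hm, ?_⟩
    have hdim : ringKrullDim (Localization.AtPrime m) = 0 := by
      refine le_antisymm ?_ ringKrullDim_nonneg_of_nontrivial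
      rw [IsLocalization.AtPrime.ringKrullDim_eq_height m]
      have := Ideal.height_le_ringKrullDim_of_ne_top (I := m) hm.ne_top
      exact this.trans (Ring.krullDimLE_iff.1 ‹Ring.KrullDimLE 0 C›)
    refine Depth.isCohenMacaulayLocalRing_iff.2 (le_antisymm
      (((Module.supportDim_self_eq_ringKrullDim (R := Localization.AtPrime m)).trans hdim).le.trans
        (WithBot.coe_le_coe.2 bot_le)) Depth.depth_le_supportDim)
  · push_neg at hall
    obtain ⟨m₀, hm₀, hm₀'⟩ := hall
    have hnot : ¬ (m₀ : Set C) ⊆ ⋃ p ∈ associatedPrimes C C, (p : Set C) := by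
      intro hsub
      have hF := associatedPrimes.finite C C
      obtain ⟨p, hp, hmp⟩ := (Ideal.subset_union_prime_finite hF (f := id) m₀ m₀
        (fun i hi _ _ => IsAssociatedPrime.isPrime hi)).1 hsub
      exact hm₀' (hm₀.eq_of_le (IsAssociatedPrime.isPrime hp).ne_top hmp ▸ hp)
    rw [biUnion_associatedPrimes_eq_compl_regular, Set.not_subset] at hnot
    obtain ⟨t, htm, htreg⟩ := hnot
    rw [Set.notMem_compl_iff] at htreg
    obtain ⟨t', ht'⟩ := Ideal.Quotient.mk_surjective t
    let J : Ideal B := (Ideal.span {t}).comap (Ideal.Quotient.mk I)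
    have hIJ : I < J := by
      refine lt_of_le_of_ne (fun a ha => ?_) fun h => ?_
      · rw [Ideal.mem_comap, Ideal.Quotient.eq_zero_iff_mem.2 ha]; exact zero_mem _
      · have h1 : t' ∈ J := Ideal.mem_comap.2 (ht' ▸ Ideal.mem_span_singleton_self t)
        rw [← h, ← Ideal.Quotient.eq_zero_iff_mem, ht'] at h1
        exact one_ne_zero (htreg (show t • (1 : C) = t • 0 by rw [h1]; simp))
    have hJ : J ≠ ⊤ := fun h => hm₀.ne_top (top_le_iff.1 (by
      rw [Ideal.eq_top_iff_one, Ideal.mem_comap, map_one, Ideal.mem_span_singleton] at h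
      intro x _
      obtain ⟨c, hc⟩ := h
      rw [← _root_.one_mul x, hc, _root_.mul_assoc]
      exact Ideal.mul_mem_right _ _ htm))
    obtain ⟨n, hn, hcm⟩ := ih J hIJ hJ
    let φ : C →+* B ⧸ J := Ideal.Quotient.factor hIJ.le
    have hφ : Function.Surjective φ := Ideal.Quotient.factor_surjective hIJ.le
    have hkerφ : RingHom.ker φ = Ideal.span {t} := by
      rw [Ideal.Quotient.factor_ker, Ideal.map_comap_of_surjective _ Ideal.Quotient.mk_surjective]
    have hn' : (n.comap φ).IsMaximal := Ideal.comap_isMaximal_of_surjective φ hφ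
    refine ⟨n.comap φ, hn', ?_⟩
    have hT : Submonoid.map φ (n.comap φ).primeCompl = n.primeCompl := by
      ext y
      refine ⟨?_, fun hy => ?_⟩
      · rintro ⟨x, hx, rfl⟩; exact hx
      · obtain ⟨x, rfl⟩ := hφ y; exact ⟨x, hy, rfl⟩
    let L := Localization.AtPrime (n.comap φ)
    let ψ : L →+* Localization.AtPrime n :=
      IsLocalization.map _ φ (hT.symm ▸ (n.comap φ).primeCompl.le_comap_map)
    have hψ : Function.Surjective ψ := fun z => by
      obtain ⟨a, s, rfl⟩ := IsLocalization.exists_mk'_eq n.primeCompl z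
      obtain ⟨a', rfl⟩ := hφ a
      obtain ⟨s', hs'⟩ := hφ s
      refine ⟨IsLocalization.mk' L a' (⟨s', ?_⟩ : (n.comap φ).primeCompl), ?_⟩
      · show φ s' ∉ n
        rw [hs']; exact s.2
      · rw [IsLocalization.map_mk']
        congr 1
        exact Subtype.ext hs'
    refine cm_of_quotient ψ hψ (algebraMap C L t) ?_ ?_ ?_ hcm
    · rw [IsLocalization.AtPrime.to_map_mem_maximal_iff L (n.comap φ), Ideal.mem_comap]
      have : φ t = 0 := by rw [← RingHom.mem_ker, hkerφ]; exact Ideal.mem_span_singleton_self t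
      rw [this]; exact zero_mem n
    · rw [IsLocalization.ker_map (Localization.AtPrime n) φ hT, hkerφ, Ideal.map_span,
        Set.image_singleton]
    · have : Module.Flat C L := IsLocalization.flat L (n.comap φ).primeCompl
      have h2 := Module.Flat.isSMulRegular_of_nonZeroDivisors (M := L) (r := t) (by
        rw [mem_nonZeroDivisors_iff_right]
        intro z hz
        exact htreg (show t • z = t • 0 by rw [smul_zero, smul_eq_mul, mul_comm, hz]))
      intro a b hab
      apply h2
      simpa [Algebra.smul_def] using hab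


/-- Let A be an artinian ring and X a nonempty scheme locally of finite type over A. Then X has a closed
point whose local ring is Cohen–Macaulay. -/
theorem result (A : Type u) [CommRing A] [IsArtinianRing A] (X : Scheme.{u})
    (f : X ⟶ Spec (CommRingCat.of A)) [LocallyOfFiniteType f] [Nonempty X] :
    ∃ x : X, IsClosed ({x} : Set X) ∧ LocCoh.IsCohenMacaulayLocalRing (X.presheaf.stalk x) := by
  obtain ⟨x₀⟩ := ‹Nonempty X›
  obtain ⟨V, hV, hxV, -⟩ := exists_isAffineOpen_mem_and_subset (show x₀ ∈ (⊤ : X.Opens) from trivial)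
  have : JacobsonSpace X := LocallyOfFiniteType.jacobsonSpace f
  have hft : (f.appLE ⊤ V le_top).hom.FiniteType :=
    HasRingHomProperty.appLE @LocallyOfFiniteType f inferInstance ⟨⊤, isAffineOpen_top _⟩ ⟨V, hV⟩ le_top
  have : IsArtinianRing Γ(Spec (CommRingCat.of A), ⊤) :=
    (Scheme.ΓSpecIso (CommRingCat.of A)).commRingCatIsoToRingEquiv.symm.isArtinianRing
  algebraize [(f.appLE ⊤ V le_top).hom]
  have : IsNoetherianRing Γ(X, V) :=
    Algebra.FiniteType.isNoetherianRing Γ(Spec (CommRingCat.of A), ⊤) Γ(X, V)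
  have : IsJacobsonRing Γ(X, V) := isJacobsonRing_of_finiteType (A := Γ(Spec (CommRingCat.of A), ⊤))
  let e₀ : Γ(X, V) ≃+* (Γ(X, V) ⧸ (⊥ : Ideal Γ(X, V))) := (RingEquiv.quotientBot _).symm
  have : Nontrivial Γ(X, V) :=
    PrimeSpectrum.nonempty_iff_nontrivial.1 ⟨hV.primeIdealOf ⟨x₀, hxV⟩⟩
  obtain ⟨m, hm, hcm⟩ := exists_cm_maximal (⊥ : Ideal Γ(X, V)) bot_ne_top
  have hm' : (m.comap e₀.toRingHom).IsMaximal :=
    Ideal.comap_isMaximal_of_surjective e₀.toRingHom e₀.surjective
  let y : PrimeSpectrum Γ(X, V) := ⟨m.comap e₀.toRingHom, hm'.isPrime⟩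
  have hyV : hV.fromSpec y ∈ V := by
    have := hV.range_fromSpec.le ⟨y, rfl⟩
    exact this
  have hcl : IsClosed ({y} : Set (PrimeSpectrum Γ(X, V))) :=
    (PrimeSpectrum.isClosed_singleton_iff_isMaximal y).2 hm'
  refine ⟨hV.fromSpec y, ?_, ?_⟩
  · apply isClosed_singleton_of_isLocallyClosed_singleton
    have h1 := hcl.isLocallyClosed.image hV.fromSpec.isOpenEmbedding.isInducing
      hV.fromSpec.isOpenEmbedding.isOpen_range.isLocallyClosed
    rwa [Set.image_singleton] at h1
  · letI : Algebra Γ(X, V) (X.presheaf.stalk (hV.fromSpec y)) :=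
      TopCat.Presheaf.algebra_section_stalk X.presheaf ⟨hV.fromSpec y, hyV⟩
    have : IsLocalization.AtPrime (X.presheaf.stalk (hV.fromSpec y)) y.asIdeal :=
      hV.isLocalization_stalk' y hyV
    let e₁ : Localization.AtPrime m ≃+* X.presheaf.stalk (hV.fromSpec y) :=
      IsLocalization.ringEquivOfRingEquiv (M := m.primeCompl) (T := y.asIdeal.primeCompl) _ _ e₀.symm (by
        ext b
        refine ⟨?_, fun hb => ⟨e₀ b, ?_, e₀.symm_apply_apply b⟩⟩
        · rintro ⟨c, hc, rfl⟩ hb
          exact hc (by simpa [y] using hb)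
        · exact hb)
    exact GeomLoc.isCohenMacaulayLocalRing_congr _ _ e₁ hcm

end Groth.Agent.S5385
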