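import Groth.Statements.S5386
import Groth.Agent.S3029
import Groth.Agent.Wt.CMSliceQF
import Groth.Agent.GeomLoc.CM

set_option autoImplicit false
universe u
open CategoryTheory CategoryTheory.Limits MonoidalCategory CartesianMonoidalCategory MonObj GrpObj AlgebraicGeometry
open SGA3

namespace Groth.Agent.S5386

open Groth.Agent
open scoped TensorProduct
open IsLocalRing (maximalIdeal)

/-- The local ring of the closed fibre at a point of a chart. -/
lemma cm_localization {A : Type u} [CommRing A] [IsLocalRing A] (G : Over (Spec (CommRingCat.of A)))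
    [GrpObj G] [LocallyOfFiniteType G.hom] {B : Type u} [CommRing B] [Algebra A B]
    (j : Spec (CommRingCat.of B) ⟶ G.left) [IsOpenImmersion j]
    (hj : j ≫ G.hom = Spec.map (CommRingCat.ofHom (algebraMap A B)))
    (P : Ideal (B ⊗[A] (A ⧸ maximalIdeal A))) [P.IsPrime] :
    LocCoh.IsCohenMacaulayLocalRing (Localization.AtPrime P) := by
  letI : Field (A ⧸ maximalIdeal A) := Ideal.Quotient.field _
  let σ : Spec (CommRingCat.of (A ⧸ maximalIdeal A)) ⟶ Spec (CommRingCat.of A) :=
    Spec.map (CommRingCat.ofHom (algebraMap A (A ⧸ maximalIdeal A)))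
  let Gk := Red.bc σ G
  have : LocallyOfFiniteType Gk.hom := inferInstanceAs (LocallyOfFiniteType (pullback.snd G.hom σ))
  let m : Spec (CommRingCat.of (B ⊗[A] (A ⧸ maximalIdeal A))) ⟶ pullback G.hom σ :=
    (pullbackSpecIso A B (A ⧸ maximalIdeal A)).inv ≫
      pullback.map _ _ G.hom σ j (𝟙 _) (𝟙 _) (by rw [Category.comp_id]; exact hj.symm) (by simp [σ])
  have : IsOpenImmersion m := MorphismProperty.comp_mem @IsOpenImmersion _ _ inferInstance inferInstance
  let y : Spec (CommRingCat.of (B ⊗[A] (A ⧸ maximalIdeal A))) := ⟨P, inferInstance⟩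
  have hcm := S3029.result _ Gk (m y)
  have hcm' : LocCoh.IsCohenMacaulayLocalRing
      ((Spec (CommRingCat.of (B ⊗[A] (A ⧸ maximalIdeal A)))).presheaf.stalk y) :=
    GeomLoc.isCohenMacaulayLocalRing_congr _ _ (asIso (m.stalkMap y)).commRingCatIsoToRingEquiv hcm
  exact GeomLoc.isCohenMacaulayLocalRing_congr _ _
    (StructureSheaf.stalkIso (CommRingCat.of (B ⊗[A] (A ⧸ maximalIdeal A))) y).symm.toRingEquiv hcm'

/-- The fibre local ring as a localization of the fibre. -/
lemma cm_fibLocRing {A B : Type u} [CommRing A] [IsArtinianRing A] [IsLocalRing A] [CommRing B]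
    [Algebra A B] (q : Ideal B) [q.IsPrime]
    (h : ∀ (P : Ideal (B ⊗[A] (A ⧸ maximalIdeal A))) [P.IsPrime],
      LocCoh.IsCohenMacaulayLocalRing (Localization.AtPrime P)) :
    LocCoh.IsCohenMacaulayLocalRing (EGA4.FibLocRing A B q) := by
  let e := Algebra.TensorProduct.quotIdealMapEquivTensorQuot B (maximalIdeal A)
  let φ : B →+* B ⊗[A] (A ⧸ maximalIdeal A) :=
    e.toRingEquiv.toRingHom.comp (Ideal.Quotient.mk _)
  have hφ : Function.Surjective φ := e.surjective.comp Ideal.Quotient.mk_surjective
  have hk : RingHom.ker φ = (maximalIdeal A).map (algebraMap A B) := by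
    ext b
    rw [RingHom.mem_ker, show φ b = e (Ideal.Quotient.mk _ b) from rfl, map_eq_zero_iff e e.injective,
      Ideal.Quotient.eq_zero_iff_mem]
  have hqA : q.comap (algebraMap A B) = maximalIdeal A := by
    haveI : (q.comap (algebraMap A B)).IsPrime := Ideal.comap_isPrime _ _
    exact IsLocalRing.eq_maximalIdeal (IsArtinianRing.isMaximal_of_isPrime _)
  have hle : RingHom.ker φ ≤ q := by
    rw [hk, Ideal.map_le_iff_le_comap, hqA]
  let P := q.map φ
  haveI : P.IsPrime := Ideal.map_isPrime_of_surjective hφ hle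
  have hPc : P.comap φ = q := by
    rw [Ideal.comap_map_of_surjective' _ hφ, sup_eq_left.mpr hle]
  have hT : Submonoid.map φ q.primeCompl = P.primeCompl := by
    ext z
    refine ⟨?_, fun hz => ?_⟩
    · rintro ⟨b, hb, rfl⟩ hmem
      exact hb (hPc.le hmem)
    · obtain ⟨b, rfl⟩ := hφ z
      exact ⟨b, fun hb => hz (Ideal.mem_map_of_mem φ hb), rfl⟩
  let ψ : Localization.AtPrime q →+* Localization.AtPrime P :=
    IsLocalization.map _ φ (hT.symm ▸ q.primeCompl.le_comap_map)
  have hψ : Function.Surjective ψ := fun z => by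
    obtain ⟨a, t, rfl⟩ := IsLocalization.exists_mk'_eq P.primeCompl z
    obtain ⟨a', rfl⟩ := hφ a
    obtain ⟨t', ht'⟩ := hφ t
    refine ⟨IsLocalization.mk' _ a' (⟨t', fun hb => t.2 (ht' ▸ Ideal.mem_map_of_mem φ hb)⟩ :
      q.primeCompl), ?_⟩
    rw [IsLocalization.map_mk']
    congr 1
    exact Subtype.ext ht'
  have hker : RingHom.ker ψ = (q.comap (algebraMap A B)).map (algebraMap A (Localization.AtPrime q)) := by
    rw [IsLocalization.ker_map (Localization.AtPrime P) φ hT, hk, hqA, Ideal.map_map,
      ← IsScalarTower.algebraMap_eq]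
  exact GeomLoc.isCohenMacaulayLocalRing_congr _ _
    ((Ideal.quotEquivOfEq hker.symm).trans (RingHom.quotientKerEquivOfSurjective hψ)).symm (h P)

/-- Some finite free local algebra has a point of `G` at `x`. -/
lemma exists_point {A : Type u} [CommRing A] [IsArtinianRing A] [IsLocalRing A]
    (G : Over (Spec (CommRingCat.of A))) [GrpObj G] [Flat G.hom] [LocallyOfFiniteType G.hom]
    (x : G.left) (hx : IsClosed ({x} : Set G.left)) :
    ∃ (D : Type u) (_ : CommRing D) (_ : IsLocalRing D) (_ : Algebra A D) (_ : Module.Finite A D)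
      (_ : Module.Free A D) (h : Spec (CommRingCat.of D) ⟶ G.left),
      h ≫ G.hom = Spec.map (CommRingCat.ofHom (algebraMap A D)) ∧ ∀ p, h p = x := by
  obtain ⟨V, hV, hxV, -⟩ := exists_isAffineOpen_mem_and_subset (show x ∈ (⊤ : G.left.Opens) from trivial)
  let B := Γ(G.left, V)
  let φB : CommRingCat.of A ⟶ B := (Spec.map_surjective (hV.fromSpec ≫ G.hom)).choose
  have hφB : Spec.map φB = hV.fromSpec ≫ G.hom := (Spec.map_surjective _).choose_spec
  letI iB : Algebra A B := φB.hom.toAlgebra
  have hflat : Module.Flat A B :=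
    (HasRingHomProperty.Spec_iff (P := @Flat)).mp
      (show Flat (Spec.map φB) by rw [hφB]; infer_instance)
  have : Algebra.FiniteType A B :=
    (HasRingHomProperty.Spec_iff (P := @LocallyOfFiniteType)).mp
      (show LocallyOfFiniteType (Spec.map φB) by rw [hφB]; infer_instance)
  have : Algebra.FinitePresentation A B := Algebra.FinitePresentation.of_finiteType.mp this
  have : IsOpenImmersion hV.fromSpec := IsAffineOpen.isOpenImmersion_fromSpec _
  have hj : hV.fromSpec ≫ G.hom = Spec.map (CommRingCat.ofHom (algebraMap A B)) := hφB.symm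
  obtain ⟨q, hq⟩ : ∃ q : PrimeSpectrum B, hV.fromSpec q = x := by
    have : x ∈ Set.range hV.fromSpec := by rw [hV.range_fromSpec]; exact hxV
    exact this
  have hqmax : q.asIdeal.IsMaximal := by
    rw [← PrimeSpectrum.isClosed_singleton_iff_isMaximal]
    have h1 := hx.preimage hV.fromSpec.continuous
    have h2 : hV.fromSpec ⁻¹' {x} = {q} := by
      ext a
      exact ⟨fun ha => hV.fromSpec.isOpenEmbedding.injective (Set.mem_singleton_iff.1 ha |>.trans hq.symm),
        fun ha => by rw [Set.mem_singleton_iff.1 ha]; exact hq⟩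
    rwa [h2] at h1
  haveI := cm_fibLocRing (A := A) q.asIdeal fun P _ => cm_localization G hV.fromSpec hj P
  have hfl : FlatCA.FlatAt A q.asIdeal B := by
    haveI : Module.Flat A (Localization.AtPrime q.asIdeal) :=
      Module.Flat.trans A B (Localization.AtPrime q.asIdeal)
    exact Module.Flat.of_linearEquiv
      ((IsLocalizedModule.linearEquiv q.asIdeal.primeCompl (LocalizedModule.mkLinearMap q.asIdeal.primeCompl B)
        (Algebra.linearMap B (Localization.AtPrime q.asIdeal))).restrictScalars A)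
  obtain ⟨g, hg, rs, hrs, hslice⟩ := Wt.CMSlice.exists_slice_quasiFinite (R := A) q hfl
    (fun P hP hle _ => (hqmax.eq_of_le hP.ne_top hle).symm)
  let C := Localization.Away g
  obtain ⟨-, hflatD, hqf, hprimes⟩ := hslice C
  let J : Ideal C := Ideal.ofList (rs.map (algebraMap B C))
  let D := C ⧸ J
  haveI : Module.Flat A D := hflatD
  haveI : Algebra.QuasiFinite A D := hqf
  haveI : Module.Finite A D := Module.Finite.of_quasiFinite
  haveI : Module.Free A D := Module.free_of_flat_of_isLocalRing
  let π : B →+* D := (Ideal.Quotient.mk J).comp (algebraMap B C)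
  have hcomap : ∀ P : Ideal D, P.IsPrime → P.comap π = q.asIdeal := fun P hP => by
    haveI := hP.comap (Ideal.Quotient.mk J)
    rw [show P.comap π = (P.comap (Ideal.Quotient.mk J)).comap (algebraMap B C) from
      (Ideal.comap_comap _ _).symm]
    refine hprimes _ inferInstance (fun c hc => ?_) ?_
    · rw [Ideal.mem_comap, Ideal.Quotient.eq_zero_iff_mem.2 hc]; exact zero_mem _
    · have h1 : ∀ Q : Ideal A, Q.IsPrime → Q = maximalIdeal A := fun Q hQ =>
        IsLocalRing.eq_maximalIdeal (IsArtinianRing.isMaximal_of_isPrime Q)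
      exact (h1 _ inferInstance).trans (h1 _ inferInstance).symm
  -- a prime of `D`
  have hne : Nontrivial D := by
    refine Ideal.Quotient.nontrivial_iff.2 fun htop => ?_
    have hdisj : Disjoint (Submonoid.powers g : Set B) (q.asIdeal : Set B) := by
      rw [Ideal.disjoint_powers_iff_notMem (y := g) q.isPrime.isRadical]
      exact hg
    have hp : (q.asIdeal.map (algebraMap B C)).IsPrime :=
      IsLocalization.isPrime_of_isPrime_disjoint (Submonoid.powers g) _ _ q.isPrime hdisj
    refine hp.ne_top (top_le_iff.1 (htop ▸ ?_))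
    rw [show J = (Ideal.ofList rs).map (algebraMap B C) from (Ideal.map_ofList _ _).symm]
    exact Ideal.map_mono hrs
  haveI : IsArtinianRing D := IsArtinianRing.of_finite A D
  have hBC : Function.Surjective (Ideal.Quotient.mk J) := Ideal.Quotient.mk_surjective
  haveI : IsLocalRing D := by
    obtain ⟨M, hM⟩ := Ideal.exists_maximal D
    refine IsLocalRing.of_unique_max_ideal ⟨M, hM, fun M' hM' => ?_⟩
    have h1 : (M'.comap (Ideal.Quotient.mk J)).comap (algebraMap B C) =
        (M.comap (Ideal.Quotient.mk J)).comap (algebraMap B C) := by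
      rw [Ideal.comap_comap, Ideal.comap_comap]
      exact (hcomap M' hM'.isPrime).trans (hcomap M hM.isPrime).symm
    have h2 := congrArg (Ideal.map (algebraMap B C)) h1
    rw [IsLocalization.map_comap (Submonoid.powers g), IsLocalization.map_comap (Submonoid.powers g)] at h2
    exact Ideal.comap_injective_of_surjective _ hBC h2
  refine ⟨D, inferInstance, inferInstance, inferInstance, inferInstance, inferInstance,
    Spec.map (CommRingCat.ofHom π) ≫ hV.fromSpec, ?_, fun p => ?_⟩
  · rw [Category.assoc, hj, ← Spec.map_comp, ← CommRingCat.ofHom_comp]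
  · rw [Scheme.Hom.comp_apply, ← hq]
    congr 1
    exact PrimeSpectrum.ext (hcomap _ (PrimeSpectrum.isPrime p))

/-- A finite free local algebra receiving all residual embeddings of `D`. -/
lemma exists_splitting (A D : Type u) [CommRing A] [IsArtinianRing A] [IsLocalRing A] [CommRing D]
    [Algebra A D] [Module.Finite A D] [Module.Free A D] (Ω : Type u) [Field Ω] [Algebra A Ω]
    (S : Finset (D →ₐ[A] Ω)) :
    ∃ (E : Type u) (_ : CommRing E) (_ : IsLocalRing E) (_ : Algebra A E) (_ : Module.Finite A E)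
      (_ : Module.Free A E) (ε : E →ₐ[A] Ω), ∀ σ ∈ S, ∃ j : D →ₐ[A] E, ε.comp j = σ := by
  classical
  induction S using Finset.induction with
  | empty => exact ⟨A, inferInstance, inferInstance, inferInstance, inferInstance, inferInstance,
      Algebra.ofId A Ω, by simp⟩
  | insert σ S _ ih =>
    obtain ⟨E, _, _, _, _, _, ε, hε⟩ := ih
    let χ : E ⊗[A] D →ₐ[A] Ω := Algebra.TensorProduct.lift ε σ (fun _ _ => .all _ _)
    let P : Ideal (E ⊗[A] D) := RingHom.ker χ.toRingHom
    haveI : P.IsPrime := RingHom.ker_isPrime _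
    haveI : IsArtinianRing (E ⊗[A] D) := IsArtinianRing.of_finite A _
    let E' := Localization.AtPrime P
    haveI : Module.Finite A E' :=
      Module.Finite.of_surjective (IsScalarTower.toAlgHom A (E ⊗[A] D) E').toLinearMap
        (IsArtinianRing.localization_surjective P.primeCompl E')
    haveI : Module.Flat (E ⊗[A] D) E' := IsLocalization.flat E' P.primeCompl
    haveI : Module.Flat A E' := Module.Flat.trans A (E ⊗[A] D) E'
    haveI : Module.Free A E' := Module.free_of_flat_of_isLocalRing
    have hu : ∀ y : P.primeCompl, IsUnit (χ y) := fun y => isUnit_iff_ne_zero.2 y.2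
    let ε' : E' →ₐ[A] Ω := IsLocalization.liftAlgHom (M := P.primeCompl) (f := χ) hu
    have hε' : ∀ z, ε' (algebraMap (E ⊗[A] D) E' z) = χ z := fun z =>
      IsLocalization.lift_eq (M := P.primeCompl) hu z
    let io : E ⊗[A] D →ₐ[A] E' := IsScalarTower.toAlgHom A (E ⊗[A] D) E'
    refine ⟨E', inferInstance, inferInstance, inferInstance, inferInstance, inferInstance, ε', ?_⟩
    intro τ hτ
    rcases Finset.mem_insert.1 hτ with rfl | hτ
    · refine ⟨io.comp Algebra.TensorProduct.includeRight, AlgHom.ext fun d => ?_⟩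
      simp [io, hε', χ]
    · obtain ⟨j, hj⟩ := hε τ hτ
      refine ⟨io.comp (Algebra.TensorProduct.includeLeft.comp j), AlgHom.ext fun d => ?_⟩
      simp [io, hε', χ, ← hj]


/-- Let A be a local artinian ring, G an A-group scheme which is flat and locally of finite type over A,
and x a closed point of G. Then there is a local A-algebra A', finite and free as an A-module, such
that every point of G ⊗_A A' lying over x is strictly rational over A': it is the image of the
closed point under some section Spec A' → G ⊗_A A' of the projection. -/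
theorem result (A : Type u) [CommRing A] [IsArtinianRing A] [IsLocalRing A] (G : Over (Spec (CommRingCat.of A))) [GrpObj G] [Flat G.hom]
    [LocallyOfFiniteType G.hom] (x : G.left) (hx : IsClosed ({x} : Set G.left)) :
    ∃ (A' : Type u) (_ : CommRing A') (_ : IsLocalRing A') (_ : Algebra A A') (_ : Module.Finite A A') (_ : Module.Free A A'),
      ∀ x' : ↥(pullback G.hom (Spec.map (CommRingCat.ofHom (algebraMap A A')))),
        (pullback.fst G.hom (Spec.map (CommRingCat.ofHom (algebraMap A A')))).base x' = x →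
        ∃ s : Spec (CommRingCat.of A') ⟶ pullback G.hom (Spec.map (CommRingCat.ofHom (algebraMap A A'))),
          s ≫ pullback.snd G.hom (Spec.map (CommRingCat.ofHom (algebraMap A A'))) = 𝟙 _ ∧ x' ∈ Set.range s.base := by
  obtain ⟨D, _, _, _, _, _, h, hh, hhx⟩ := exists_point G x hx
  let k := A ⧸ maximalIdeal A
  letI : Field k := Ideal.Quotient.field _
  let Ω := AlgebraicClosure k
  haveI := Fintype.ofFinite (D →ₐ[A] Ω)
  obtain ⟨E, _, _, _, _, _, ε, hε⟩ := exists_splitting A D Ω Finset.univ
  refine ⟨E, inferInstance, inferInstance, inferInstance, inferInstance, inferInstance, fun x' hx' => ?_⟩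
  let F := CommRingCat.ofHom (algebraMap A E)
  let Z : Spec (CommRingCat.of (D ⊗[A] E)) ⟶ pullback G.hom (Spec.map F) :=
    (pullbackSpecIso A D E).inv ≫ pullback.map _ _ G.hom (Spec.map F) h (𝟙 _) (𝟙 _)
      (by rw [Category.comp_id]; exact hh.symm) (by simp [F])
  have hZ : IsPullback Z (Spec.map (CommRingCat.ofHom (Algebra.TensorProduct.includeLeftRingHom :
      D →+* D ⊗[A] E))) (pullback.fst G.hom (Spec.map F)) h := by
    refine IsPullback.of_right (h₁₂ := pullback.snd G.hom (Spec.map F)) (v₁₃ := Spec.map F) ?_ ?_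
      (IsPullback.of_hasPullback G.hom (Spec.map F)).flip
    · rw [hh, show Z ≫ pullback.snd G.hom (Spec.map F) =
          Spec.map (CommRingCat.ofHom (Algebra.TensorProduct.includeRight (R := A) (A := D) (B := E)).toRingHom) by
        rw [Category.assoc, pullback.lift_snd, Category.comp_id, pullbackSpecIso_inv_snd]; rfl]
      refine (IsPullback.of_iso_pullback ⟨?_⟩ (pullbackSpecIso A D E).symm ?_ ?_).flip
      · rw [← Spec.map_comp, ← Spec.map_comp, ← CommRingCat.ofHom_comp, ← CommRingCat.ofHom_comp]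
        congr 2
        ext a
        show (algebraMap A D a) ⊗ₜ[A] (1 : E) = (1 : D) ⊗ₜ[A] (algebraMap A E a)
        rw [Algebra.algebraMap_eq_smul_one, Algebra.algebraMap_eq_smul_one, TensorProduct.smul_tmul]
      · exact pullbackSpecIso_inv_fst A D E
      · exact pullbackSpecIso_inv_snd A D E
    · rw [Category.assoc, pullback.lift_fst, pullbackSpecIso_inv_fst_assoc]
  obtain ⟨t₀⟩ : Nonempty (Spec (CommRingCat.of D)) := inferInstance
  obtain ⟨P, hP, -⟩ := Scheme.exists_preimage_of_isPullback hZ x' t₀ (hx'.trans (hhx t₀).symm)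
  haveI : IsArtinianRing (D ⊗[A] E) := IsArtinianRing.of_finite A _
  let iP : PrimeSpectrum (D ⊗[A] E) := P
  haveI : iP.asIdeal.IsMaximal := IsArtinianRing.isMaximal_of_isPrime _
  let Q := (D ⊗[A] E) ⧸ iP.asIdeal
  letI : Field Q := Ideal.Quotient.field _
  let mE := IsLocalRing.maximalIdeal E
  letI : Field (E ⧸ mE) := Ideal.Quotient.field _
  let toQ : E →ₐ[A] Q := (Ideal.Quotient.mkₐ A iP.asIdeal).comp Algebra.TensorProduct.includeRight
  haveI : IsArtinianRing E := IsArtinianRing.of_finite A E
  have hεker : RingHom.ker ε.toRingHom = mE :=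
    haveI := RingHom.ker_isPrime ε.toRingHom
    IsLocalRing.eq_maximalIdeal (IsArtinianRing.isMaximal_of_isPrime _)
  have hQker : RingHom.ker toQ.toRingHom = mE :=
    haveI := RingHom.ker_isPrime toQ.toRingHom
    IsLocalRing.eq_maximalIdeal (IsArtinianRing.isMaximal_of_isPrime _)
  let εbar : E ⧸ mE →ₐ[A] Ω := Ideal.Quotient.liftₐ mE ε fun a ha => hεker.ge ha
  let qbar : E ⧸ mE →ₐ[A] Q := Ideal.Quotient.liftₐ mE toQ fun a ha => hQker.ge ha
  letI : Algebra (E ⧸ mE) Ω := εbar.toRingHom.toAlgebra
  letI : Algebra (E ⧸ mE) Q := qbar.toRingHom.toAlgebra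
  haveI : IsScalarTower A (E ⧸ mE) Q := .of_algebraMap_eq fun a => (qbar.commutes a).symm
  haveI : IsScalarTower A (E ⧸ mE) Ω := .of_algebraMap_eq fun a => (εbar.commutes a).symm
  haveI : Module.Finite (E ⧸ mE) Q := Module.Finite.of_restrictScalars_finite A _ _
  haveI : Algebra.IsAlgebraic (E ⧸ mE) Q := Algebra.IsAlgebraic.of_finite _ _
  let l : Q →ₐ[E ⧸ mE] Ω := IsAlgClosed.lift
  let χ : D ⊗[A] E →ₐ[A] Ω := (l.restrictScalars A).comp (Ideal.Quotient.mkₐ A iP.asIdeal)
  have hχE : ∀ e : E, χ ((1 : D) ⊗ₜ e) = ε e := fun e => l.commutes (Ideal.Quotient.mk mE e)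
  obtain ⟨j, hj⟩ := hε (χ.comp Algebra.TensorProduct.includeLeft) (Finset.mem_univ _)
  let r : D ⊗[A] E →ₐ[A] E := Algebra.TensorProduct.lift j (AlgHom.id A E) (fun _ _ => .all _ _)
  have hr : ε.comp r = χ := by
    refine Algebra.TensorProduct.ext' fun d e => ?_
    have h1 : χ (d ⊗ₜ[A] (1 : E)) = ε (j d) := (AlgHom.congr_fun hj d).symm
    have h2 : d ⊗ₜ[A] e = (d ⊗ₜ[A] (1 : E)) * ((1 : D) ⊗ₜ[A] e) := by simp
    show ε (r (d ⊗ₜ e)) = χ (d ⊗ₜ e)
    rw [h2, map_mul χ, h1, hχE]
    simp [r]
  refine ⟨Spec.map (CommRingCat.ofHom r.toRingHom) ≫ Z, ?_, IsLocalRing.closedPoint E, ?_⟩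
  · rw [Category.assoc, Category.assoc, pullback.lift_snd, Category.comp_id, pullbackSpecIso_inv_snd,
      ← Spec.map_comp, ← CommRingCat.ofHom_comp, ← Spec.map_id]
    congr 1
    ext e
    simp [r]
  · show (Spec.map (CommRingCat.ofHom r.toRingHom) ≫ Z) _ = x'
    rw [Scheme.Hom.comp_apply, ← hP]
    congr 1
    refine PrimeSpectrum.ext ?_
    show mE.comap r.toRingHom = iP.asIdeal
    rw [← hεker, RingHom.comap_ker]
    have e1 : ε.toRingHom.comp r.toRingHom = χ.toRingHom := congrArg AlgHom.toRingHom hr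
    rw [e1]
    ext z
    rw [RingHom.mem_ker]
    refine (map_eq_zero_iff l (RingHom.injective l.toRingHom)).trans Ideal.Quotient.eq_zero_iff_mem

end Groth.Agent.S5386
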