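import Groth.Statements.S5387
import Mathlib
import Groth.Agent.GrpArtin.Descend
import Groth.Agent.GrpScheme.Smooth
-- import your own Groth.Agent.* helpers here

set_option autoImplicit false
universe u
open CategoryTheory CategoryTheory.Limits MonoidalCategory CartesianMonoidalCategory MonObj GrpObj AlgebraicGeometry
open SGA3

namespace Groth.Agent.S5387

/-- Let k be an algebraically closed field, G a group scheme locally of finite type over k and x a
closed point of G. Then the local ring of G at x is isomorphic to the local ring of G at the unit
point (an isomorphism is induced by a translation; this row asserts the existence of an isomorphism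
of rings). -/
theorem result (k : Type u) [Field k] [IsAlgClosed k] (G : Over (Spec (CommRingCat.of k))) [GrpObj G]
    [LocallyOfFiniteType G.hom] (pt : ↥(𝟙_ (Over (Spec (CommRingCat.of k)))).left) (x : G.left) (hx : IsClosed ({x} : Set G.left)) :
    Nonempty (G.left.presheaf.stalk (η[G].left.base pt) ≅ G.left.presheaf.stalk x) := by
  have := Groth.Agent.GrpArtin.Descend.isClosedImmersion_unit G
  have hpt : ∀ q : ↥(𝟙_ (Over (Spec (CommRingCat.of k)))).left, q = pt := fun q =>
    Subsingleton.elim (α := ↥(Spec (CommRingCat.of k))) _ _
  have he : IsClosed ({η[G].left.base pt} : Set G.left) := by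
    have hr : Set.range η[G].left = {η[G].left pt} := by
      refine Set.eq_singleton_iff_unique_mem.mpr ⟨⟨pt, rfl⟩, ?_⟩
      rintro _ ⟨q, rfl⟩
      rw [hpt q]
    exact hr ▸ η[G].left.isClosedEmbedding.isClosed_range
  obtain ⟨α, hα⟩ := Groth.Agent.GrpScheme.Smooth.exists_translation G x (η[G].left.base pt) hx he
  have := Groth.Agent.GrpScheme.Basic.isIso_left α.hom
  exact ⟨(G.left.presheaf.stalkCongr (.of_eq hα.symm)) ≪≫ asIso (α.hom.left.stalkMap x)⟩

end Groth.Agent.S5387
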