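import Groth.Statements.S5388
import Mathlib
import Groth.Agent.GrpScheme.Smooth
-- import your own Groth.Agent.* helpers here

set_option autoImplicit false
universe u
open CategoryTheory CategoryTheory.Limits MonoidalCategory CartesianMonoidalCategory MonObj GrpObj AlgebraicGeometry
open SGA3
set_option backward.isDefEq.respectTransparency false

namespace Groth.Agent.S5388

/-- Let G be a group scheme locally of finite type over a field k, e its unit point and K a perfect
extension field of k. If K ⊗_k O_{G,e} is a reduced ring, then G is smooth over k. (The published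
statement is for a group flat and locally of finite type over a local artinian ring, with K the
perfect closure of the residue field; this row is the case of a base field, with K any perfect
extension.) -/
theorem result (k : Type u) [Field k] (G : Over (Spec (CommRingCat.of k))) [GrpObj G]
    [LocallyOfFiniteType G.hom] (pt : ↥(𝟙_ (Over (Spec (CommRingCat.of k)))).left) (K : Type u) [Field K] [Algebra k K] [PerfectField K] :
    letI := ((Scheme.ΓSpecIso (CommRingCat.of k)).inv ≫ G.hom.appTop ≫ G.left.presheaf.germ ⊤ (η[G].left.base pt) trivial).hom.toAlgebra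
    IsReduced (TensorProduct k K (G.left.presheaf.stalk (η[G].left.base pt))) → Smooth G.hom := by
  letI := ((Scheme.ΓSpecIso (CommRingCat.of k)).inv ≫ G.hom.appTop ≫ G.left.presheaf.germ ⊤ (η[G].left.base pt) trivial).hom.toAlgebra
  intro hred
  let x := η[G].left.base pt
  have : IsLocallyNoetherian G.left := LocallyOfFiniteType.isLocallyNoetherian G.hom
  obtain ⟨V, hxV, hV, hinj⟩ := G.left.exists_germ_injective x
  let φ : CommRingCat.of k ⟶ Γ(G.left, V) :=
    (Scheme.ΓSpecIso (CommRingCat.of k)).inv ≫ G.hom.appLE ⊤ V le_top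
  let : Algebra k Γ(G.left, V) := φ.hom.toAlgebra
  let χ : Γ(G.left, V) →ₐ[k] G.left.presheaf.stalk x :=
    { (G.left.presheaf.germ V x hxV).hom with
      commutes' := fun r => by
        show (φ ≫ G.left.presheaf.germ V x hxV).hom r =
          ((Scheme.ΓSpecIso (CommRingCat.of k)).inv ≫ G.hom.appTop ≫ G.left.presheaf.germ ⊤ x trivial).hom r
        simp only [φ, Scheme.Hom.appLE, Category.assoc, TopCat.Presheaf.germ_res]
        rfl }
  have hred' : _root_.IsReduced (TensorProduct k K Γ(G.left, V)) :=
    isReduced_of_injective (Algebra.TensorProduct.map (AlgHom.id k K) χ).toRingHom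
      (Module.Flat.lTensor_preserves_injective_linearMap (M := K) χ.toLinearMap hinj)
  have hred'' : _root_.IsReduced (TensorProduct k Γ(G.left, V) K) :=
    isReduced_of_injective (Algebra.TensorProduct.comm k Γ(G.left, V) K).toRingHom
      (Algebra.TensorProduct.comm k Γ(G.left, V) K).injective
  let g : Spec (CommRingCat.of K) ⟶ Spec (CommRingCat.of k) := Spec.map (CommRingCat.ofHom (algebraMap k K))
  have hφ : hV.fromSpec ≫ G.hom = Spec.map φ := by
    have h := (isAffineOpen_top (Spec (CommRingCat.of k))).SpecMap_appLE_fromSpec G.hom hV le_top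
    rw [IsAffineOpen.fromSpec_top, Scheme.isoSpec_Spec_inv, ← Spec.map_comp] at h
    exact h.symm
  apply MorphismProperty.of_pullback_snd_of_descendsAlong
    (P := @AlgebraicGeometry.Smooth) (Q := @Surjective ⊓ @Flat ⊓ @QuasiCompact) (g := g)
  · exact ⟨⟨inferInstance, inferInstance⟩, inferInstance⟩
  let : GrpObj (Over.mk G.hom) := ‹GrpObj G›
  let : GrpObj (Over.mk (pullback.snd G.hom g)) := Over.grpObjMkPullbackSnd
  have : LocallyOfFiniteType (Over.mk (pullback.snd G.hom g)).hom :=
    inferInstanceAs (LocallyOfFiniteType (pullback.snd G.hom g))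
  refine Groth.Agent.GrpScheme.Smooth.smooth_of_nonempty_smoothLocus (Over.mk (pullback.snd G.hom g)) ?_
  let j : pullback (Spec.map φ) g ⟶ pullback G.hom g :=
    pullback.map (Spec.map φ) g G.hom g hV.fromSpec (𝟙 _) (𝟙 _) (by rw [Category.comp_id, hφ]) (by simp)
  have hj : j ≫ pullback.snd G.hom g = pullback.snd (Spec.map φ) g := by simp [j]
  let W := pullback (Spec.map φ) g
  let e : W ≅ Spec (CommRingCat.of (TensorProduct k Γ(G.left, V) K)) := pullbackSpecIso k Γ(G.left, V) K
  have hW : AlgebraicGeometry.IsReduced W := by
    have : _root_.IsReduced (CommRingCat.of (TensorProduct k Γ(G.left, V) K)) := hred''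
    exact isReduced_of_isOpenImmersion e.hom
  have : Nonempty (Spec Γ(G.left, V)) := ⟨hV.primeIdealOf ⟨x, hxV⟩⟩
  have : Nonempty W := by
    obtain ⟨q⟩ := this
    obtain ⟨w, -⟩ := (pullback.fst (Spec.map φ) g).surjective q
    exact ⟨w⟩
  have : LocallyOfFiniteType (pullback.snd (Spec.map φ) g) := by
    have : LocallyOfFiniteType (Spec.map φ) := by rw [← hφ]; infer_instance
    infer_instance
  have : LocallyOfFinitePresentation (pullback.snd (Spec.map φ) g) :=
    LocallyOfFinitePresentation.iff_locallyOfFiniteType.mpr inferInstance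
  obtain ⟨w, hw⟩ := (pullback.snd (Spec.map φ) g).dense_smoothLocus_of_perfectField.nonempty
  refine ⟨j w, ?_⟩
  have hpre := Scheme.Hom.preimage_smoothLocus_eq j (pullback.snd G.hom g)
  have key : ∀ (f : W ⟶ Spec (CommRingCat.of K)) [LocallyOfFinitePresentation f],
      pullback.snd (Spec.map φ) g = f → w ∈ f.smoothLocus := by rintro f _ rfl; exact hw
  have : LocallyOfFinitePresentation (pullback.snd G.hom g) := LocallyOfFinitePresentation.iff_locallyOfFiniteType.mpr ‹LocallyOfFiniteType (Over.mk (pullback.snd G.hom g)).hom›
  have hw2 := key _ hj.symm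
  rw [← hpre] at hw2
  exact hw2

end Groth.Agent.S5388
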