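import Groth.Statements.S5389
import Mathlib
import Groth.Agent.FpqcCov27.MaxOpen
-- import your own Groth.Agent.* helpers here

set_option autoImplicit false
universe u
open CategoryTheory CategoryTheory.Limits MonoidalCategory CartesianMonoidalCategory MonObj GrpObj AlgebraicGeometry
open SGA3
set_option backward.isDefEq.respectTransparency false

namespace Groth.Agent.S5389

/-- Let P be a property of morphisms of schemes which is local on the target for the fpqc topology
(stable under base change, Zariski-local on the target, and descending along flat surjective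
quasi-compact morphisms). Let u : G → H be a homomorphism of S-group schemes with G flat and
universally open over S, W the largest open subscheme of H over which the restriction of u has P,
and V = u⁻¹(W). Then the image U of V in S is open and V is an open subgroup scheme of G over U: V
contains the unit point of every fibre of G that it meets, V is stable under the inversion of G, and
the product of a point of G ×_S G whose two projections lie in V lies in V. -/
theorem result (P : MorphismProperty Scheme.{u}) [P.IsStableUnderBaseChange] [IsZariskiLocalAtTarget P]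
    [P.DescendsAlong (@Flat ⊓ @Surjective ⊓ @QuasiCompact)]
    (S : Scheme.{u}) (G H : Over S) [GrpObj G] [GrpObj H] (u : G ⟶ H) [IsMonHom u] [Flat G.hom] [UniversallyOpen G.hom]
    (W : H.left.Opens) (hW : P (u.left ∣_ W)) (hmax : ∀ W' : H.left.Opens, P (u.left ∣_ W') → W' ≤ W) :
    letI V : G.left.Opens := u.left ⁻¹ᵁ W
    IsOpen (G.hom.base '' (V : Set G.left)) ∧
    (∀ g ∈ V, ∀ p : ↥(𝟙_ (Over S)).left, (𝟙_ (Over S)).hom.base p = G.hom.base g → η[G].left.base p ∈ V) ∧
    (∀ g ∈ V, ι[G].left.base g ∈ V) ∧
    (∀ z : ↥(G ⊗ G).left, (fst G G).left.base z ∈ V → (snd G G).left.base z ∈ V → μ[G].left.base z ∈ V) := by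
  have : P.DescendsAlong (@Surjective ⊓ @Flat ⊓ @QuasiCompact) :=
    MorphismProperty.DescendsAlong.of_le (Q := @Flat ⊓ @Surjective ⊓ @QuasiCompact)
      (fun _ _ _ h => ⟨⟨h.1.2, h.1.1⟩, h.2⟩)
  have key := Groth.Agent.FpqcCov27.mul_mem_preimage_maxOpen u hW hmax
  refine ⟨G.hom.isOpenMap _ (u.left ⁻¹ᵁ W).2, fun g hg p hp => ?_, fun g hg => ?_, fun z _ h2 => key z h2⟩
  · have h := key ((lift ι[G] (𝟙 G)).left g) (by
      rw [← Scheme.Hom.comp_apply, ← Over.comp_left, lift_snd, Over.id_left]; exact hg)
    rw [← Scheme.Hom.comp_apply, ← Over.comp_left, GrpObj.left_inv, Over.comp_left, Scheme.Hom.comp_apply] at h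
    have e : p = (toUnit G).left g := by
      rw [show (toUnit G).left g = G.hom g from by simp [Over.toUnit_left]]
      exact hp
    rw [e]
    exact h
  · have h := key ((lift (ι[G] * ι[G]) (𝟙 G)).left g) (by
      rw [← Scheme.Hom.comp_apply, ← Over.comp_left, lift_snd, Over.id_left]; exact hg)
    have e : lift (ι[G] * ι[G]) (𝟙 G) ≫ μ[G] = ι[G] := by
      rw [← Hom.mul_def, show (ι[G] : G ⟶ G) = (𝟙 G)⁻¹ by rw [Hom.inv_def, Category.id_comp], inv_mul_cancel_right]
    rw [← Scheme.Hom.comp_apply, ← Over.comp_left, e] at h
    exact h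

end Groth.Agent.S5389
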