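import Groth.Statements.S5391
import Groth.Agent.QSect27.Scheme

set_option autoImplicit false
universe u
open CategoryTheory CategoryTheory.Limits MonoidalCategory CartesianMonoidalCategory MonObj GrpObj AlgebraicGeometry
open SGA3

namespace Groth.Agent.S5391

/-- Let f : X → S be a morphism locally of finite presentation, s a point of S and x a point of the
fibre X_s = f⁻¹(s) which is closed in it. Suppose f is universally open at the generic point z of
some irreducible component Z of the fibre X_s containing x, with the local dimension of X_s at x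
equal to dim Z. Then there are an affine scheme S', an etale morphism w : S' → S, a finite
surjective morphism of finite presentation π : S'' → S', and a morphism h : S'' → X with h f = π w,
such that exactly one point s'' of S'' lies over s, h(s'') = x, and h induces an isomorphism κ(x) ≅
κ(s''). -/
theorem result (X S : Scheme.{u}) (f : X ⟶ S) [LocallyOfFinitePresentation f]
    (s : S) (x : X) (hxs : f.base x = s) (hx : IsClosed ((Subtype.val : ↥(f.base ⁻¹' {s}) → X) ⁻¹' {x}))
    (Z : Set ↥(f.base ⁻¹' {s})) (hZ : Z ∈ irreducibleComponents ↥(f.base ⁻¹' {s})) (hxZ : x ∈ (Subtype.val '' Z))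
    (z : X) (hz : z ∈ Subtype.val '' Z ∧ Subtype.val '' Z ⊆ closure {z}) (hopen : EGA43.IsUnivOpenAt f z)
    (hdim : FlatMor.localDim ↥(f.base ⁻¹' {s}) ⟨x, hxs⟩ = topologicalKrullDim ↥Z) :
    ∃ (S' S'' : Scheme.{u}) (_ : IsAffine S') (w : S' ⟶ S) (π : S'' ⟶ S') (h : S'' ⟶ X),
      Etale w ∧ IsFinite π ∧ Surjective π ∧ LocallyOfFinitePresentation π ∧ h ≫ f = π ≫ w ∧
      ∃ s'' : S'', (π ≫ w).base ⁻¹' {s} = {s''} ∧ h.base s'' = x ∧ IsIso (h.residueFieldMap s'') := by
  letI : Preorder X := specializationPreorder X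
  obtain ⟨e, he, hge⟩ := Groth.Agent.QSect27.exists_chain_of_component f s Z
    (isClosed_of_mem_irreducibleComponents Z hZ) z hz.1 hz.2
  refine Groth.Agent.QSect27.exists_quasiSection f s x hxs (fun x' hx' hxx' => ?_) z ?_
    (specializes_iff_mem_closure.mpr (hz.2 hxZ)) hopen e (fun l hl hl0 => ?_) hge
  · have h : (⟨x', hx'⟩ : ↥(f.base ⁻¹' {s})) ∈ (Subtype.val : ↥(f.base ⁻¹' {s}) → X) ⁻¹' {x} :=
      ((subtype_specializes_iff (⟨x, hxs⟩ : ↥(f.base ⁻¹' {s})) ⟨x', hx'⟩).mpr hxx').mem_closed hx rfl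
    exact h
  · obtain ⟨z', -, rfl⟩ := hz.1
    exact z'.2
  · have h1 : (l.length : WithBot ℕ∞) ≤ FlatMor.localDim ↥(f.base ⁻¹' {s}) ⟨x, hxs⟩ := by
      refine le_iInf fun U => ?_
      have hmono : ∀ i j, i ≤ j → l j ⤳ l i := fun i j hij => l.monotone hij
      have hmem : ∀ i, (⟨l i, hl i⟩ : ↥(f.base ⁻¹' {s})) ∈ (U.1 : Set ↥(f.base ⁻¹' {s})) := fun i => by
        have h0 : l i ⤳ x := hl0 ▸ hmono 0 i (Fin.zero_le i)
        exact ((subtype_specializes_iff (⟨l i, hl i⟩ : ↥(f.base ⁻¹' {s})) ⟨x, hxs⟩).mpr h0).mem_open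
          U.1.isOpen U.2
      exact Groth.Agent.QSect27.le_topologicalKrullDim (fun i => ⟨⟨l i, hl i⟩, hmem i⟩)
        (fun i j hij => (subtype_specializes_iff _ _).mpr ((subtype_specializes_iff _ _).mpr (hmono i j hij)))
        (fun i j h => l.strictMono.injective (congrArg (fun w => w.1.1) h))
    rw [hdim, he] at h1
    exact_mod_cast h1

end Groth.Agent.S5391
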