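import Groth.Statements.S5392
import Groth.Agent.S5283

set_option autoImplicit false
universe u
open CategoryTheory CategoryTheory.Limits MonoidalCategory CartesianMonoidalCategory MonObj GrpObj AlgebraicGeometry
open SGA3

namespace Groth.Agent.S5392

/-- Let X be an S-group scheme which is smooth and of finite presentation over S with connected fibres,
Y an S-group scheme of finite presentation over S and i : Y → X a homomorphism which is a
monomorphism. Then there is a closed immersion t : T → S, locally of finite presentation, such that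
a morphism g : S' → S factors through t exactly when the base change of i along g is an isomorphism. -/
theorem result (S : Scheme.{u}) (X Y : Over S) [GrpObj X] [GrpObj Y]
    [Smooth X.hom] [QuasiCompact X.hom] [QuasiSeparated X.hom]
    (hconn : ∀ s : S, _root_.IsConnected (X.hom.base ⁻¹' {s}))
    [LocallyOfFinitePresentation Y.hom] [QuasiCompact Y.hom] [QuasiSeparated Y.hom]
    (i : Y ⟶ X) [IsMonHom i] [Mono i] :
    ∃ (T : Scheme.{u}) (t : T ⟶ S), IsClosedImmersion t ∧ LocallyOfFinitePresentation t ∧
      ∀ (S' : Scheme.{u}) (g : S' ⟶ S),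
        (∃ g' : S' ⟶ T, g' ≫ t = g) ↔ IsIso ((Over.pullback g).map i) := by
  have hconn' : ∀ s : S, ConnectedSpace ↥(Limits.pullback X.hom (S.fromSpecResidueField s)) := fun s =>
    haveI : ConnectedSpace ↥(X.hom.base ⁻¹' {s}) := isConnected_iff_connectedSpace.mp (hconn s)
    (X.hom.fiberHomeo s).symm.surjective.connectedSpace (X.hom.fiberHomeo s).symm.continuous
  obtain ⟨T, t, ht, htf, hT⟩ := S5283.result X Y hconn' i
  refine ⟨T, t, ht, htf, fun S' g => (hT S' g).trans ?_⟩
  let φ := (Over.pullback g).map i
  haveI : Mono i.left := inferInstanceAs (Mono ((Over.forget S).map i))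
  have hfst : φ.left ≫ Limits.pullback.fst X.hom g = Limits.pullback.fst Y.hom g ≫ i.left :=
    Limits.pullback.lift_fst _ _ _
  have hsnd : φ.left ≫ Limits.pullback.snd X.hom g = Limits.pullback.snd Y.hom g := Over.w φ
  constructor
  · rintro ⟨l, hl⟩
    have hw : l ≫ Y.hom = Limits.pullback.snd X.hom g ≫ g := by
      rw [← Over.w i, reassoc_of% hl, Limits.pullback.condition]
    let L : Limits.pullback X.hom g ⟶ Limits.pullback Y.hom g :=
      Limits.pullback.lift l (Limits.pullback.snd X.hom g) hw
    have h1 : L ≫ φ.left = 𝟙 _ := by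
      apply Limits.pullback.hom_ext
      · rw [Category.assoc, hfst, Limits.pullback.lift_fst_assoc, hl, Category.id_comp]
      · rw [Category.assoc, hsnd, Limits.pullback.lift_snd, Category.id_comp]
    have h2 : φ.left ≫ L = 𝟙 _ := by
      apply Limits.pullback.hom_ext
      · rw [← cancel_mono i.left, Category.assoc, Category.assoc, Limits.pullback.lift_fst_assoc, hl]
        erw [Category.id_comp]
        exact hfst
      · rw [Category.assoc, Limits.pullback.lift_snd, hsnd, Category.id_comp]
    haveI : IsIso φ.left := ⟨L, h2, h1⟩
    haveI : IsIso ((Over.forget S').map φ) := ‹IsIso φ.left›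
    exact isIso_of_reflects_iso φ (Over.forget S')
  · intro h
    haveI : IsIso φ := h
    haveI : IsIso φ.left := inferInstanceAs (IsIso ((Over.forget S').map φ))
    refine ⟨inv φ.left ≫ Limits.pullback.fst Y.hom g, ?_⟩
    rw [Category.assoc, ← hfst, IsIso.inv_hom_id_assoc]

end Groth.Agent.S5392
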