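import Groth.Statements.S5393
-- import your own Groth.Agent.* helpers here

import Groth.Agent.S5260
import Groth.Agent.S5326
import Groth.Agent.GrpSGA.Fibre
import Groth.Agent.GrpScheme.Points
import Groth.Agent.FlatMor.FibMapCrit

set_option autoImplicit false
universe u
open CategoryTheory CategoryTheory.Limits MonoidalCategory CartesianMonoidalCategory MonObj GrpObj AlgebraicGeometry
open SGA3

namespace Groth.Agent.S5393

open Groth.Agent

variable {S : Scheme.{u}}

/-- The fibre map is the base change along the inclusion of the fibre. -/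
lemma map_isPullback {H N : Over S} (j : H ⟶ N) {T : Scheme.{u}} (σ : T ⟶ S) :
    IsPullback ((Over.pullback σ).map j).left (pullback.fst H.hom σ) (pullback.fst N.hom σ) j.left := by
  refine IsPullback.of_right (h₁₂ := pullback.snd N.hom σ) (v₁₃ := σ) (h₂₂ := N.hom)
    ?_ (pullback.lift_fst _ _ _) (IsPullback.of_hasPullback _ σ).flip
  show IsPullback (((Over.pullback σ).map j).left ≫ ((Over.pullback σ).obj N).hom) _ _ _
  rw [Over.w ((Over.pullback σ).map j), Over.w j]
  exact (IsPullback.of_hasPullback _ σ).flip

/-- Let G be an S-group scheme locally of finite presentation and quasi-separated over S, H an S-group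
scheme smooth and of finite presentation over S with connected fibres, u : H → G a homomorphism
which is a monomorphism, n : N → G the normalizer of H in G (a closed subgroup scheme) and j : H → N
the homomorphism with j n = u. The following are equivalent: (i) j is an open immersion; (ii) H
represents the neutral component of N: a point g : T → N factors through j exactly when the image of
its underlying map lies in the union of the neutral components of the fibres of N; (iii) for every s
in S, the fibre j_s : H_s → N_s is an open immersion whose image is the neutral component of N_s.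
(The published statement asks H only to be smooth over S with connected fibres; this row also asks H
quasi-compact and quasi-separated over S, the hypotheses under which the normalizer is shown to be
representable.) -/
theorem result (S : Scheme.{u}) (G H N : Over S) [GrpObj G] [GrpObj H] [GrpObj N]
    [LocallyOfFinitePresentation G.hom] [QuasiSeparated G.hom] [Smooth H.hom] [QuasiCompact H.hom] [QuasiSeparated H.hom]
    (hconn : ∀ s : S, _root_.IsConnected (H.hom.base ⁻¹' {s})) (u : H ⟶ G) [IsMonHom u] [Mono u]
    (n : N ⟶ G) [IsClosedImmersion n.left] (hN : Red.IsNormalizerOf u n) (j : H ⟶ N) [IsMonHom j] (hj : j ≫ n = u) :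
    (IsOpenImmersion j.left ↔
      ∀ (T : Over S) (g : T ⟶ N), (∃ h : T ⟶ H, h ≫ j = g) ↔ Set.range g.left.base ⊆ SGA3x.neutralSet N) ∧
    (IsOpenImmersion j.left ↔
      ∀ s : S, IsOpenImmersion ((Over.pullback (S.fromSpecResidueField s)).map j).left ∧
        j.left.base '' (H.hom.base ⁻¹' {s}) = SGA3x.neutralSet N ∩ N.hom.base ⁻¹' {s}) := by
  -- the normalizer is locally of finite presentation
  have hconn' : ∀ s : S, ConnectedSpace ↥(Limits.pullback H.hom (S.fromSpecResidueField s)) := fun s =>
    haveI : ConnectedSpace ↥(H.hom.base ⁻¹' {s}) := isConnected_iff_connectedSpace.mp (hconn s)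
    (H.hom.fiberHomeo s).symm.surjective.connectedSpace (H.hom.fiberHomeo s).symm.continuous
  obtain ⟨N', hN'g, n', hN', hn'ci, hn'fp⟩ := Groth.Agent.S5260.result G H hconn' u
  haveI : LocallyOfFinitePresentation n.left := by
    haveI := hN.2.1
    haveI := hN'.2.1
    obtain ⟨a, ha⟩ := (hN'.2.2 N n).2 ((hN.2.2 N n).1 ⟨𝟙 N, Category.id_comp n⟩)
    obtain ⟨b, hb⟩ := (hN.2.2 N' n').2 ((hN'.2.2 N' n').1 ⟨𝟙 N', Category.id_comp n'⟩)
    haveI : IsIso a.left := ⟨b.left, by
        rw [← Over.comp_left, show a ≫ b = 𝟙 N by rw [← cancel_mono n, Category.assoc, hb, ha, Category.id_comp]]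
        rfl,
      by
        rw [← Over.comp_left, show b ≫ a = 𝟙 N' by rw [← cancel_mono n', Category.assoc, ha, hb, Category.id_comp]]
        rfl⟩
    rw [← ha, Over.comp_left]
    infer_instance
  haveI : LocallyOfFinitePresentation N.hom := by rw [← Over.w n]; infer_instance
  haveI : Mono j := mono_of_mono_fac hj
  -- fibrewise images
  have h3 : IsOpenImmersion j.left → ∀ s : S, IsOpenImmersion ((Over.pullback (S.fromSpecResidueField s)).map j).left ∧
      j.left.base '' (H.hom.base ⁻¹' {s}) = SGA3x.neutralSet N ∩ N.hom.base ⁻¹' {s} := by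
    intro hopen s
    let σ : Spec (CommRingCat.of (S.residueField s)) ⟶ S := S.fromSpecResidueField s
    let js := (Over.pullback σ).map j
    haveI hjs : IsOpenImmersion js.left :=
      MorphismProperty.of_isPullback (P := @IsOpenImmersion) (map_isPullback j σ).flip hopen
    refine ⟨hjs, ?_⟩
    let HK : Over (Spec (CommRingCat.of (S.residueField s))) := GrpSGA.Fibre.fib H s
    let NK : Over (Spec (CommRingCat.of (S.residueField s))) := GrpSGA.Fibre.fib N s
    let js' : GrpSGA.Fibre.fib H s ⟶ GrpSGA.Fibre.fib N s := js
    haveI : IsMonHom js' := Functor.map.instIsMonHom _ _ j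
    have hclopen : IsClopen (Set.range js.left) :=
      ⟨GrpScheme.Points.isClosed_range_of_isLocallyClosed js js.left.isOpenEmbedding.isOpen_range.isLocallyClosed,
        js.left.isOpenEmbedding.isOpen_range⟩
    have he : GrpScheme.IdComponent.e₀ (GrpSGA.Fibre.fib N s) ∈ Set.range js.left := by
      refine ⟨GrpScheme.IdComponent.e₀ (GrpSGA.Fibre.fib H s), ?_⟩
      show js.left (η[GrpSGA.Fibre.fib H s].left _) = η[GrpSGA.Fibre.fib N s].left _
      rw [← GrpScheme.Points.comp_apply, IsMonHom.one_hom]
    haveI : ConnectedSpace (GrpSGA.Fibre.fib H s).left := hconn' s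
    have hrange : Set.range js.left = connectedComponent (GrpScheme.IdComponent.e₀ (GrpSGA.Fibre.fib N s)) :=
      Set.Subset.antisymm ((isPreconnected_range js.left.continuous).subset_connectedComponent he)
        (hclopen.connectedComponent_subset he)
    ext x
    constructor
    · rintro ⟨h, hh, rfl⟩
      have hx : N.hom (j.left h) = s := by
        rw [← Scheme.Hom.comp_apply, Over.w j]; exact hh
      obtain ⟨z, hz, -⟩ := Scheme.Pullback.exists_preimage_pullback (f := H.hom) (g := σ) h
        (IsLocalRing.closedPoint _) (hh.trans (Scheme.fromSpecResidueField_apply s _).symm)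
      have e : GrpSGA.Fibre.fibι N s (js.left z) = j.left h := by
        show pullback.fst N.hom σ (js.left z) = _
        rw [← Scheme.Hom.comp_apply, (map_isPullback j σ).w, Scheme.Hom.comp_apply, hz]
      refine ⟨?_, hx⟩
      show j.left h ∈ _
      rw [← e, GrpSGA.Fibre.mem_neutralSet_iff, ← hrange]
      exact ⟨z, rfl⟩
    · rintro ⟨hx, hxs⟩
      obtain ⟨y, rfl⟩ := GrpSGA.Fibre.exists_mem_fib N hxs
      rw [GrpSGA.Fibre.mem_neutralSet_iff, ← hrange] at hx
      obtain ⟨z, rfl⟩ := hx
      refine ⟨pullback.fst H.hom σ z, ?_, ?_⟩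
      · show H.hom (pullback.fst H.hom σ z) = s
        rw [← Scheme.Hom.comp_apply, pullback.condition, Scheme.Hom.comp_apply]
        exact Scheme.fromSpecResidueField_apply s _
      · show j.left (pullback.fst H.hom σ z) = pullback.fst N.hom σ (js.left z)
        rw [← Scheme.Hom.comp_apply, ← (map_isPullback j σ).w, Scheme.Hom.comp_apply]
  refine ⟨⟨fun hopen T g => ?_, fun h2 => (Groth.Agent.S5326.result S N H j h2).1⟩, ⟨h3, fun h => ?_⟩⟩
  · haveI := hopen
    have hrange : Set.range j.left = SGA3x.neutralSet N := by
      ext x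
      refine ⟨?_, fun hx => ?_⟩
      · rintro ⟨h, rfl⟩
        exact (((h3 hopen (H.hom h)).2).subset ⟨h, rfl, rfl⟩).1
      · obtain ⟨h, -, rfl⟩ := ((h3 hopen (N.hom x)).2).superset ⟨hx, rfl⟩
        exact ⟨h, rfl⟩
    constructor
    · rintro ⟨h, rfl⟩ _ ⟨t, rfl⟩
      rw [← hrange]
      exact ⟨h.left t, (Groth.Agent.GrpScheme.Points.comp_apply h j t).symm⟩
    · intro hg
      rw [← hrange] at hg
      exact ⟨Over.homMk (IsOpenImmersion.lift j.left g.left hg) (by
        rw [← Over.w j, IsOpenImmersion.lift_fac_assoc, Over.w]),
        Over.OverMorphism.ext (IsOpenImmersion.lift_fac _ _ _)⟩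
  · haveI : LocallyOfFinitePresentation H.hom := inferInstance
    refine (Groth.Agent.FlatMor.FibMap.isOpenImmersion_iff (g := N.hom) (h := H.hom) (Over.w j)).2 fun s => ?_
    haveI := (h s).1
    show IsOpenImmersion (pullback.snd j.left (pullback.fst N.hom (S.fromSpecResidueField s)))
    rw [← (map_isPullback j (S.fromSpecResidueField s)).flip.isoPullback_inv_snd]
    infer_instance

end Groth.Agent.S5393
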