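import Groth.Statements.S5394
import Groth.Agent.HomogOrbit27.Fibre
import Groth.Agent.LimLib.Props

set_option autoImplicit false
universe u
open CategoryTheory CategoryTheory.Limits MonoidalCategory CartesianMonoidalCategory MonObj GrpObj AlgebraicGeometry
open SGA3

namespace Groth.Agent.S5394

open Groth.Agent.GrpScheme Groth.Agent.GrpScheme.Component

/-- Projection from the product with a point lands in maximal points of the fibre. -/
lemma closure_snd_mem {S : Scheme.{u}} {G : Over S} (g : G.left)
    (q : (Points.pointObj G g ⊗ G).left) (hq : IsMaxGen q) :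
    ∃ h : G.hom ((snd (Points.pointObj G g) G).left q) = G.hom g,
      closure {(⟨(snd (Points.pointObj G g) G).left q, h⟩ : ↥(G.hom.base ⁻¹' {G.hom g}))} ∈
        irreducibleComponents ↥(G.hom.base ⁻¹' {G.hom g}) := by
  obtain ⟨F, hF, hflat, -⟩ := HomogOrbit27.exists_toFibre (Z := G) g rfl
  have hmax : IsMaxGen (F q) := HomogOrbit27.isMaxGen_map F hq
  let e := G.hom.fiberHomeo (G.hom g)
  have he : (e (F q)).1 = (snd (Points.pointObj G g) G).left q := by
    show G.hom.fiberι _ (F q) = _
    rw [← Scheme.Hom.comp_apply, hF]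
  refine ⟨he ▸ (e (F q)).2, ?_⟩
  have : QuasiSober ↥(G.hom.base ⁻¹' {G.hom g}) := e.symm.isClosedEmbedding.quasiSober
  rw [SchPoints.closure_mem_irreducibleComponents_iff]
  intro y hy
  have h1 : y ⤳ e (F q) := by
    convert hy using 1
    exact Subtype.ext he
  have h2 : e.symm y ⤳ F q := by
    have := h1.map e.symm.continuous
    rwa [e.symm_apply_apply] at this
  have h3 := hmax _ h2
  have h4 : y = e (F q) := by rw [← h3, e.apply_symm_apply]
  subst h4
  exact specializes_of_eq (Subtype.ext he).symm

/-- Every point is the product of two maximal points of its fibre. -/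
lemma exists_mul {S : Scheme.{u}} (G : Over S) [GrpObj G] (g : G.left) :
    ∃ (T : Over S) (_ : Nonempty T.left) (a b : T ⟶ G),
      (∀ t, ∃ h : G.hom (a.left t) = G.hom g,
        closure {(⟨a.left t, h⟩ : ↥(G.hom.base ⁻¹' {G.hom g}))} ∈
          irreducibleComponents ↥(G.hom.base ⁻¹' {G.hom g})) ∧
      (∀ t, ∃ h : G.hom (b.left t) = G.hom g,
        closure {(⟨b.left t, h⟩ : ↥(G.hom.base ⁻¹' {G.hom g}))} ∈
          irreducibleComponents ↥(G.hom.base ⁻¹' {G.hom g})) ∧
      ∀ t, (a * b).left t = g := by
  let T := Points.pointObj G g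
  let x : T ⟶ G := Points.pointHom G g
  let d := lift (fst T G) ((fst T G ≫ x) * (snd T G)⁻¹)
  let d' := lift (fst T G) ((snd T G)⁻¹ * (fst T G ≫ x))
  have hd : d' ≫ d = 𝟙 _ := by
    refine CartesianMonoidalCategory.hom_ext _ _ (by simp [d, d']) ?_
    simp only [d, d', Category.assoc, lift_snd, MonObj.comp_mul, GrpObj.comp_inv, lift_fst_assoc,
      Category.id_comp]
    simp
  have hd' : d ≫ d' = 𝟙 _ := by
    refine CartesianMonoidalCategory.hom_ext _ _ (by simp [d, d']) ?_
    simp only [d, d', Category.assoc, lift_snd, MonObj.comp_mul, GrpObj.comp_inv, lift_fst_assoc,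
      Category.id_comp]
    simp
  have : IsIso d := ⟨d', hd', hd⟩
  have : IsIso d.left := Basic.isIso_left d
  obtain ⟨t₀⟩ := (inferInstance : Nonempty T.left)
  obtain ⟨q, hq, -⟩ := exists_isMaxGen ((lift (𝟙 T) x).left t₀)
  let P := Points.pointObj (T ⊗ G) q
  let π : P ⟶ T ⊗ G := Points.pointHom (T ⊗ G) q
  refine ⟨P, inferInstance, π ≫ d ≫ snd T G, π ≫ snd T G, fun t => ?_, fun t => ?_, fun t => ?_⟩
  · rw [Points.comp_apply, Points.pointHom_apply, Points.comp_apply]
    exact closure_snd_mem g _ (HomogOrbit27.isMaxGen_map d.left hq)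
  · rw [Points.comp_apply, Points.pointHom_apply]
    exact closure_snd_mem g q hq
  · rw [show (π ≫ d ≫ snd T G) * (π ≫ snd T G) = π ≫ fst T G ≫ x by
      rw [← MonObj.comp_mul]; simp [d]]
    rw [Points.comp_apply, Points.comp_apply, Points.pointHom_apply]


/-- Let G be an S-group scheme which is flat and locally of finite presentation over S and f : X → G a
morphism of S-schemes with X locally of finite presentation over S. Suppose that for every point s
of S and every maximal point g of the fibre G_s (generic point of an irreducible component) there is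
a point x of X with f(x) = g at which f is flat. Let V be the open subscheme of X where f is flat.
Then the morphism V ×_S V → G, (x, y) ↦ f(x)·f(y), is flat, locally of finite presentation and
surjective; in particular X ×_S X → G, (x, y) ↦ f(x)·f(y), is covering for the fppf topology. (The
published statement does not assume G flat over S and asserts only the covering property; this row
assumes G flat over S, as the flatness step of the printed proof does, and concludes the flat,
locally finitely presented, surjective form that proof establishes. Without flatness of G the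
flatness conclusion fails, e.g. for the identity of the closed subgroup tx = 0 of the additive group
over k[t].) -/
theorem result (S : Scheme.{u}) (G X : Over S) [GrpObj G] [LocallyOfFinitePresentation G.hom] [Flat G.hom]
    [LocallyOfFinitePresentation X.hom] (f : X ⟶ G)
    (hf : ∀ (s : S) (g : ↥(G.hom.base ⁻¹' {s})), closure {g} ∈ irreducibleComponents ↥(G.hom.base ⁻¹' {s}) →
      ∃ x : X.left, f.left.base x = g.1 ∧ (f.left.stalkMap x).hom.Flat)
    (V : X.left.Opens) (hV : (V : Set X.left) = {x : X.left | (f.left.stalkMap x).hom.Flat}) :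
    letI fV : Over.mk (V.ι ≫ X.hom) ⟶ G := Over.homMk (V.ι ≫ f.left) ((Category.assoc _ _ _).trans (congrArg (V.ι ≫ ·) (Over.w f)))
    Flat ((fV ⊗ₘ fV) ≫ μ[G]).left ∧ LocallyOfFinitePresentation ((fV ⊗ₘ fV) ≫ μ[G]).left ∧
      Surjective ((fV ⊗ₘ fV) ≫ μ[G]).left := by
  let X' : Over S := Over.mk (V.ι ≫ X.hom)
  let fV : X' ⟶ G := Over.homMk (V.ι ≫ f.left) ((Category.assoc _ _ _).trans (congrArg (V.ι ≫ ·) (Over.w f)))
  have hflat : Flat fV.left := by
    rw [Flat.iff_flat_stalkMap]
    intro v
    show ((V.ι ≫ f.left).stalkMap v).hom.Flat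
    rw [Scheme.Hom.stalkMap_comp]
    have hv : V.ι v ∈ (V : Set X.left) := v.2
    rw [hV] at hv
    show ((V.ι.stalkMap v).hom.comp (f.left.stalkMap (V.ι v)).hom).Flat
    exact RingHom.Flat.comp hv (RingHom.Flat.of_bijective (ConcreteCategory.bijective_of_isIso _))
  have : LocallyOfFinitePresentation (fV.left ≫ G.hom) := by
    rw [Over.w fV]
    show LocallyOfFinitePresentation (V.ι ≫ X.hom)
    infer_instance
  have hlfp : LocallyOfFinitePresentation fV.left :=
    MorphismProperty.of_postcomp @LocallyOfFinitePresentation (W' := @LocallyOfFiniteType)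
      fV.left G.hom inferInstance this
  have hmem : ∀ (P : MorphismProperty Scheme.{u}) [P.IsStableUnderBaseChange]
      [P.IsStableUnderComposition], P fV.left → P G.hom → P ((fV ⊗ₘ fV) ≫ μ[G]).left := by
    intro P _ _ h1 h2
    rw [MonoidalCategory.tensorHom_def, Category.assoc, Over.comp_left, Over.comp_left]
    exact P.comp_mem _ _ (Basic.whiskerRight_mem P fV X' h1)
      (P.comp_mem _ _ (Basic.whiskerLeft_mem P fV G h1) (Basic.mul_mem P h2))
  refine ⟨hmem @Flat hflat inferInstance, hmem @LocallyOfFinitePresentation hlfp inferInstance,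
    ⟨fun g => ?_⟩⟩
  obtain ⟨T, _, a, b, ha, hb, hab⟩ := exists_mul G g
  have hrange : ∀ (c : T ⟶ G), (∀ t, ∃ h : G.hom (c.left t) = G.hom g,
      closure {(⟨c.left t, h⟩ : ↥(G.hom.base ⁻¹' {G.hom g}))} ∈
        irreducibleComponents ↥(G.hom.base ⁻¹' {G.hom g})) → ∀ t, c.left t ∈ Set.range fV.left := by
    intro c hc t
    obtain ⟨h, hcl⟩ := hc t
    obtain ⟨x, hx, hxflat⟩ := hf _ ⟨c.left t, h⟩ hcl
    have hxV : x ∈ (V : Set X.left) := by rw [hV]; exact hxflat
    exact ⟨⟨x, hxV⟩, hx⟩
  obtain ⟨T', _, π, h₁, e₁⟩ := Points.exists_lift fV a (hrange a ha)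
  obtain ⟨T'', ⟨t⟩, π', h₂, e₂⟩ := Points.exists_lift fV (π ≫ b)
    (fun t => by rw [Points.comp_apply]; exact hrange b hb _)
  refine ⟨(lift (π' ≫ h₁) h₂).left t, ?_⟩
  show ((fV ⊗ₘ fV) ≫ μ[G]).left _ = g
  rw [← hab (π.left (π'.left t)), ← Points.comp_apply, ← Points.comp_apply, ← Points.comp_apply]
  congr 2
  rw [lift_map_assoc, ← Hom.mul_def, Category.assoc, e₁, e₂, ← MonObj.comp_mul, ← MonObj.comp_mul]

end Groth.Agent.S5394
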