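import Groth.Statements.S5395
-- import your own Groth.Agent.* helpers here

set_option autoImplicit false
universe u
open CategoryTheory CategoryTheory.Limits MonoidalCategory CartesianMonoidalCategory MonObj GrpObj AlgebraicGeometry
open SGA3

namespace Groth.Agent.S5395

open Topology in
/-- A constructible set and its complement are unions of locally closed sets. -/
lemma exists_lc_of_isConstructible {X : Type*} [TopologicalSpace X] {s : Set X}
    (hs : IsConstructible s) :
    (∀ a ∈ s, ∃ L, IsLocallyClosed L ∧ a ∈ L ∧ L ⊆ s) ∧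
    (∀ a ∉ s, ∃ L, IsLocallyClosed L ∧ a ∈ L ∧ L ⊆ sᶜ) := by
  induction hs using IsConstructible.empty_union_induction with
  | open_retrocompact U hU hUc =>
    exact ⟨fun a ha => ⟨U, hU.isLocallyClosed, ha, subset_rfl⟩,
      fun a ha => ⟨Uᶜ, hU.isClosed_compl.isLocallyClosed, ha, subset_rfl⟩⟩
  | union s hs t ht h1 h2 =>
    refine ⟨?_, fun a ha => ?_⟩
    · rintro a (ha | ha)
      · obtain ⟨L, hL, haL, hLs⟩ := h1.1 a ha
        exact ⟨L, hL, haL, hLs.trans Set.subset_union_left⟩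
      · obtain ⟨L, hL, haL, hLs⟩ := h2.1 a ha
        exact ⟨L, hL, haL, hLs.trans Set.subset_union_right⟩
    · obtain ⟨L, hL, haL, hLs⟩ := h1.2 a (fun h => ha (Or.inl h))
      obtain ⟨L', hL', haL', hLs'⟩ := h2.2 a (fun h => ha (Or.inr h))
      refine ⟨L ∩ L', hL.inter hL', ⟨haL, haL'⟩, ?_⟩
      rintro b ⟨hb, hb'⟩ (hbs | hbt)
      · exact hLs hb hbs
      · exact hLs' hb' hbt
  | compl s hs h => exact ⟨h.2, fun a ha => by rw [compl_compl]; exact h.1 a (not_not.1 ha)⟩

open Topology in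
/-- An ind-constructible set is a union of locally closed sets. -/
lemma exists_lc_of_isIndConstructible {X : Type*} [TopologicalSpace X] {A : Set X}
    (hA : ProCons.IsIndConstructible A) {a : X} (ha : a ∈ A) :
    ∃ L, IsLocallyClosed L ∧ a ∈ L ∧ L ⊆ A := by
  obtain ⟨U, hU, haU, 𝒯, h𝒯, hUA⟩ := hA a
  have ha' : (⟨a, haU⟩ : U) ∈ ⋃₀ 𝒯 := hUA ▸ ha
  obtain ⟨T, hT, haT⟩ := ha'
  obtain ⟨W, hW, hWo, hWc⟩ := h𝒯 T hT ⟨a, haU⟩
  obtain ⟨L, hL, haL, hLT⟩ := (exists_lc_of_isConstructible hWc).1 ⟨_, mem_of_mem_nhds hW⟩ haT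
  refine ⟨Subtype.val '' (Subtype.val '' L),
    ((hL.image IsInducing.subtypeVal (by rw [Subtype.range_coe]; exact hWo.isLocallyClosed)).image
      IsInducing.subtypeVal (by rw [Subtype.range_coe]; exact hU.isLocallyClosed)),
    ⟨_, ⟨_, haL, rfl⟩, rfl⟩, ?_⟩
  rintro _ ⟨_, ⟨b, hb, rfl⟩, rfl⟩
  have : b.1 ∈ ⋃₀ 𝒯 := ⟨T, hT, hLT hb⟩
  rw [← hUA] at this
  exact this


/-- Let k be an algebraically closed field, G a group scheme locally of finite type over k, and A, B two
ind-constructible subsets of G. Let A·B be the image under the multiplication of the set of points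
of G ×_k G whose two projections lie in A and B. Then every closed point z of G lying in A·B is the
product of a closed point of G ×_k G whose two projections lie in A and B (and are then closed
points): the rational points of A·B are the products of rational points of A and of B. -/
theorem result (k : Type u) [Field k] [IsAlgClosed k] (G : Over (Spec (CommRingCat.of k))) [GrpObj G]
    [LocallyOfFiniteType G.hom] (A B : Set G.left) (hA : ProCons.IsIndConstructible A) (hB : ProCons.IsIndConstructible B)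
    (z : G.left) (hz : IsClosed ({z} : Set G.left))
    (hzAB : z ∈ μ[G].left.base '' {w : ↥(G ⊗ G).left | (fst G G).left.base w ∈ A ∧ (snd G G).left.base w ∈ B}) :
    ∃ w : ↥(G ⊗ G).left, IsClosed ({w} : Set ↥(G ⊗ G).left) ∧ (fst G G).left.base w ∈ A ∧ (snd G G).left.base w ∈ B ∧
      μ[G].left.base w = z := by
  obtain ⟨w, ⟨hwA, hwB⟩, hwz⟩ := hzAB
  obtain ⟨L₁, hL₁, hw₁, hL₁A⟩ := exists_lc_of_isIndConstructible hA hwA
  obtain ⟨L₂, hL₂, hw₂, hL₂B⟩ := exists_lc_of_isIndConstructible hB hwB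
  have : LocallyOfFiniteType (G ⊗ G).hom :=
    inferInstanceAs (LocallyOfFiniteType (pullback.fst G.hom G.hom ≫ G.hom))
  have : JacobsonSpace ↥(G ⊗ G).left := LocallyOfFiniteType.jacobsonSpace (G ⊗ G).hom
  obtain ⟨w', ⟨⟨h₁, h₂⟩, h₃⟩, hcl⟩ := nonempty_inter_closedPoints
    (Z := (fst G G).left ⁻¹' L₁ ∩ (snd G G).left ⁻¹' L₂ ∩ μ[G].left ⁻¹' {z})
    ⟨w, ⟨hw₁, hw₂⟩, hwz⟩
    (((hL₁.preimage (fst G G).left.continuous).inter (hL₂.preimage (snd G G).left.continuous)).inter
      (hz.preimage μ[G].left.continuous).isLocallyClosed)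
  exact ⟨w', hcl, hL₁A h₁, hL₂B h₂, h₃⟩

end Groth.Agent.S5395
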