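import Groth.Statements.S5396
import Groth.Agent.ProjDesc.Basic

set_option autoImplicit false
universe u
open CategoryTheory CategoryTheory.Limits MonoidalCategory CartesianMonoidalCategory MonObj GrpObj AlgebraicGeometry
open SGA3

namespace Groth.Agent.S5396

open scoped TensorProduct

section

variable {A : Type u} [CommRing A] {C : Type u} [AddCommGroup C] [Module A C]
  {V : Type u} [AddCommGroup V] [Module A V]

/-- Contraction with a functional. -/
noncomputable def contr (φ : C →ₗ[A] A) : V ⊗[A] C →ₗ[A] V :=
  (TensorProduct.rid A V).toLinearMap ∘ₗ φ.lTensor V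

lemma contr_tmul (φ : C →ₗ[A] A) (v : V) (c : C) : contr φ (v ⊗ₜ[A] c) = φ c • v := by
  simp [contr]

lemma contr_mem {W : Submodule A V} {x : V ⊗[A] C} (hx : x ∈ LinearMap.range (W.subtype.rTensor C))
    (φ : C →ₗ[A] A) : contr φ x ∈ W := by
  obtain ⟨y, rfl⟩ := hx
  induction y with
  | zero => simp
  | tmul w c => rw [LinearMap.rTensor_tmul, contr_tmul]; exact W.smul_mem _ w.2
  | add a b ha hb => rw [map_add, map_add]; exact add_mem ha hb

lemma exists_coords [Module.Projective A C] :
    ∃ φ : C → (C →ₗ[A] A), ∀ x : V ⊗[A] C, ∃ F : Finset C, ∀ F' : Finset C, F ⊆ F' →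
      ∑ e ∈ F', contr (φ e) x ⊗ₜ[A] e = x := by
  obtain ⟨s, hs⟩ := (Module.projective_def.1 (inferInstance : Module.Projective A C))
  refine ⟨fun e => Finsupp.lapply e ∘ₗ s, fun x => ?_⟩
  classical
  induction x with
  | zero => exact ⟨∅, fun F' _ => by simp⟩
  | add a b ha hb =>
    obtain ⟨F, hF⟩ := ha
    obtain ⟨G, hG⟩ := hb
    refine ⟨F ∪ G, fun F' h => ?_⟩
    conv_rhs => rw [← hF F' (Finset.subset_union_left.trans h), ← hG F' (Finset.subset_union_right.trans h)]
    rw [← Finset.sum_add_distrib]
    refine Finset.sum_congr rfl fun e _ => ?_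
    rw [map_add, TensorProduct.add_tmul]
  | tmul v c =>
    refine ⟨(s c).support, fun F' h => ?_⟩
    have : ∑ e ∈ F', (s c) e • e = c := by
      conv_rhs => rw [← hs c]
      rw [Finsupp.linearCombination_apply,
        Finsupp.sum_of_support_subset _ h _ (fun i _ => zero_smul A (id i))]
      rfl
    conv_rhs => rw [← this]
    rw [TensorProduct.tmul_sum]
    refine Finset.sum_congr rfl fun e _ => ?_
    rw [contr_tmul, TensorProduct.smul_tmul]
    rfl

variable [Coalgebra A C] [HopfRep.Comod A C V]

lemma mem_range_of_contr_mem [Module.Projective A C] (W : Submodule A V) (x : V ⊗[A] C)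
    (h : ∀ φ : C →ₗ[A] A, contr φ x ∈ W) : x ∈ LinearMap.range (W.subtype.rTensor C) := by
  obtain ⟨φ, hφ⟩ := exists_coords (A := A) (C := C) (V := V)
  obtain ⟨F, hF⟩ := hφ x
  exact ⟨∑ e ∈ F, (⟨_, h (φ e)⟩ : W) ⊗ₜ[A] e, by rw [map_sum]; simpa using hF F subset_rfl⟩

/-- Contractions of `Δ c` on the second factor. -/
lemma contr_coact_contr [Module.Projective A C] (m : V) (φ ψ : C →ₗ[A] A) :
    contr ψ (HopfRep.Comod.coact (k := A) (A := C) (contr φ (HopfRep.Comod.coact (k := A) (A := C) m))) =
      contr ((TensorProduct.lift ((LinearMap.mul A A).compl₁₂ ψ φ)) ∘ₗ CoalgebraStruct.comul)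
        (HopfRep.Comod.coact (k := A) (A := C) m) := by
  have h := LinearMap.congr_fun (HopfRep.Comod.coassoc (k := A) (A := C) (V := V)) m
  simp only [LinearMap.coe_comp, LinearEquiv.coe_coe, Function.comp_apply] at h
  let θ : C ⊗[A] C →ₗ[A] A := TensorProduct.lift ((LinearMap.mul A A).compl₁₂ ψ φ)
  have hr : ∀ y : V ⊗[A] C, contr θ ((CoalgebraStruct.comul (R := A) (A := C)).lTensor V y) =
      contr (θ ∘ₗ CoalgebraStruct.comul) y := fun y => by
    simp [contr, LinearMap.lTensor_comp_apply]
  have hl : ∀ y : V ⊗[A] C,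
      contr θ (TensorProduct.assoc A V C C ((HopfRep.Comod.coact (k := A) (A := C)).rTensor C y)) =
        contr ψ (HopfRep.Comod.coact (k := A) (A := C) (contr φ y)) := fun y => by
    induction y with
    | zero => simp
    | add a b ha hb => simp [map_add, ha, hb]
    | tmul v c =>
      rw [LinearMap.rTensor_tmul, contr_tmul, map_smul, map_smul]
      induction (HopfRep.Comod.coact (k := A) (A := C) v) with
      | zero => simp
      | add a b ha hb => simp [map_add, TensorProduct.add_tmul, smul_add, ha, hb]
      | tmul v' c' =>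
        rw [TensorProduct.assoc_tmul, contr_tmul, contr_tmul, smul_smul]
        simp [θ, mul_comm]
  rw [← hl, h, hr]

end


/-- Let A be a commutative ring, C an A-coalgebra, V a C-comodule, M an A-submodule of V, and A' a
faithfully flat commutative A-algebra such that A' ⊗_A C is a projective A'-module. Then there is a
smallest subcomodule of V containing M, and it is finitely generated over A when M is. (The
published statement also asserts that the formation of this subcomodule commutes with base change;
this row omits it.) -/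
theorem result (A : Type u) [CommRing A] (C : Type u) [AddCommGroup C] [Module A C]
    [Coalgebra A C] (V : Type u) [AddCommGroup V] [Module A V] [HopfRep.Comod A C V] (M : Submodule A V)
    (A' : Type u) [CommRing A'] [Algebra A A'] [Module.FaithfullyFlat A A'] [Module.Projective A' (TensorProduct A A' C)] :
    ∃ W : Submodule A V, HopfRep.IsSubcomod (k := A) (A := C) W ∧ M ≤ W ∧
      (∀ W' : Submodule A V, HopfRep.IsSubcomod (k := A) (A := C) W' → M ≤ W' → W ≤ W') ∧
      (M.FG → W.FG) := by
  have : Module.Projective A C := Groth.Agent.ProjDesc.projective_of_baseChange A A' C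
  let ρ : V →ₗ[A] V ⊗[A] C := HopfRep.Comod.coact
  let W : Submodule A V := Submodule.span A {w | ∃ m ∈ M, ∃ φ : C →ₗ[A] A, contr φ (ρ m) = w}
  have hρ : ∀ m ∈ M, ρ m ∈ LinearMap.range (W.subtype.rTensor C) := fun m hm =>
    mem_range_of_contr_mem W _ fun φ => Submodule.subset_span ⟨m, hm, φ, rfl⟩
  refine ⟨W, fun w hw => ?_, fun m hm => ?_, fun W' hW' hM => ?_, fun hfg => ?_⟩
  · refine mem_range_of_contr_mem W _ fun ψ => ?_
    induction hw using Submodule.span_induction with
    | zero => simp
    | add a b _ _ ha hb => rw [map_add, map_add]; exact add_mem ha hb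
    | smul r a _ ha => rw [map_smul, map_smul]; exact W.smul_mem r ha
    | mem w hw =>
      obtain ⟨m, hm, φ, rfl⟩ := hw
      rw [contr_coact_contr]
      exact contr_mem (hρ m hm) _
  · have h : contr CoalgebraStruct.counit (ρ m) = m := by
      have h := LinearMap.congr_fun (HopfRep.Comod.counit_comp (k := A) (A := C) (V := V)) m
      simp only [LinearMap.coe_comp, Function.comp_apply] at h
      simp [contr, ρ, h]
    exact h ▸ Submodule.subset_span ⟨m, hm, _, rfl⟩
  · refine Submodule.span_le.2 ?_
    rintro _ ⟨m, hm, φ, rfl⟩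
    exact contr_mem (hW' m (hM hm)) φ
  · classical
    obtain ⟨S, hS⟩ := hfg
    obtain ⟨φ, hφ⟩ := exists_coords (A := A) (C := C) (V := V)
    choose F hF using fun m : V => hφ (ρ m)
    refine ⟨S.biUnion fun m => (F m).image fun e => contr (φ e) (ρ m), le_antisymm ?_ ?_⟩
    · refine Submodule.span_le.2 fun w hw => ?_
      obtain ⟨m, hm, hw⟩ := Finset.mem_biUnion.1 hw
      obtain ⟨e, -, rfl⟩ := Finset.mem_image.1 hw
      exact Submodule.subset_span ⟨m, hS ▸ Submodule.subset_span hm, _, rfl⟩
    · refine Submodule.span_le.2 ?_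
      rintro _ ⟨m, hm, ψ, rfl⟩
      rw [← hS] at hm
      induction hm using Submodule.span_induction with
      | zero => simp
      | add a b _ _ ha hb => rw [map_add, map_add]; exact add_mem ha hb
      | smul r a _ ha => rw [map_smul, map_smul]; exact Submodule.smul_mem _ r ha
      | mem m hm =>
        rw [← hF m (F m) subset_rfl, map_sum]
        refine Submodule.sum_mem _ fun e he => ?_
        rw [contr_tmul]
        exact Submodule.smul_mem _ _ (Submodule.subset_span
          (Finset.mem_biUnion.2 ⟨m, hm, Finset.mem_image.2 ⟨e, he, rfl⟩⟩))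

end Groth.Agent.S5396
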