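import Groth.Statements.S5397
import Groth.Agent.SepAction.Connected
-- import your own Groth.Agent.* helpers here

set_option autoImplicit false
universe u
open CategoryTheory CategoryTheory.Limits MonoidalCategory CartesianMonoidalCategory MonObj GrpObj AlgebraicGeometry
open SGA3

namespace Groth.Agent.S5397

set_option backward.isDefEq.respectTransparency.types false

open CartesianMonoidalCategory MonoidalCategory MonObj GrpObj SepAction GrpScheme GrpScheme.Points

/-- A field-valued point factors through the residue field of its image. -/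
theorem exists_toPtS {S : Scheme.{u}} (K : Type u) [Field K] (q : Spec (CommRingCat.of K) ⟶ S) :
    ∃ (s : S) (_ : Over.mk q ⟶ ptS s), ∀ c, q c = s := by
  obtain ⟨⟨s, φ⟩, hφ⟩ := (Scheme.SpecToEquivOfField K S).symm.surjective q
  change Spec.map φ ≫ S.fromSpecResidueField s = q at hφ
  refine ⟨s, Over.homMk (Spec.map φ) hφ, fun c => ?_⟩
  rw [← hφ]
  exact (Scheme.Hom.comp_apply _ _ c).trans (Scheme.fromSpecResidueField_apply s _)

/-- The trace on a fibre of an affine open lying over an affine open is compact. -/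
theorem isCompact_inter_fibre {X S : Scheme.{u}} (f : X ⟶ S) (V : X.Opens) [QuasiCompact (V.ι ≫ f)] (s : S) :
    IsCompact ((V : Set X) ∩ f.base ⁻¹' {s}) := by
  have : CompactSpace ↥((V.ι ≫ f).fiber s) := inferInstance
  have h : (V : Set X) ∩ f.base ⁻¹' {s} = V.ι '' Set.range ((V.ι ≫ f).fiberι s) := by
    rw [Scheme.Hom.range_fiberι]
    ext v
    constructor
    · rintro ⟨hv, hvs⟩
      exact ⟨⟨v, hv⟩, hvs, rfl⟩
    · rintro ⟨w, hw, rfl⟩
      exact ⟨w.2, hw⟩
  rw [h]
  exact (isCompact_range ((V.ι ≫ f).fiberι s).continuous).image V.ι.continuous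


/-- Let G be an S-group scheme locally of finite presentation over S and universally open over S on some
open containing the unit section, acting on an S-scheme X so that G ×_S X → X ×_S X, (g, x) ↦ (gx,
x), is surjective, and suppose every fibre X_s is a quasi-separated and connected space. Then X is
separated over S; and if there is an open subscheme V of X, quasi-compact over S, meeting every
nonempty fibre X_s, then X is quasi-compact over S. (The published statement concludes that X is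
quasi-compact over S without the open V; for a local scheme S whose punctured spectrum is not
quasi-compact, the trivial group acting on the disjoint union of the closed point and the punctured
spectrum satisfies every hypothesis and is not quasi-compact over S, so the open V is required
here.) -/
theorem result (S : Scheme.{u}) (G X : Over S) [GrpObj G]
    [LocallyOfFinitePresentation G.hom]
    (hGo : ∃ W : G.left.Opens, (∀ p : ↥(𝟙_ (Over S)).left, η[G].left.base p ∈ W) ∧ UniversallyOpen (W.ι ≫ G.hom))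
    (a : AlgGrp.Action G X) (hΦ : Surjective (lift a.act (snd G X)).left)
    (hqs : ∀ s : S, QuasiSeparatedSpace ↥(X.hom.base ⁻¹' {s}))
    (hconn : ∀ s : S, _root_.IsPreconnected (X.hom.base ⁻¹' {s})) :
    IsSeparated X.hom ∧
    ((∃ V : X.left.Opens, QuasiCompact (V.ι ≫ X.hom) ∧
        ∀ s : S, (X.hom.base ⁻¹' {s}).Nonempty → ((V : Set X.left) ∩ X.hom.base ⁻¹' {s}).Nonempty) →
      QuasiCompact X.hom) := by
  obtain ⟨W0, hW0, hW0o⟩ := hGo
  have hsep : IsSeparated X.hom := by
    refine SepAction.isSeparated_of_translate a W0 fun T₀ L _ e x y => ?_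
    let K := AlgebraicClosure L
    let q₁ : Spec (CommRingCat.of K) ⟶ S :=
      Spec.map (CommRingCat.ofHom (algebraMap L K)) ≫ e.inv ≫ T₀.hom
    let π : Over.mk q₁ ⟶ T₀ := Over.homMk (Spec.map (CommRingCat.ofHom (algebraMap L K)) ≫ e.inv) (Category.assoc _ _ _)
    let c : (Over.mk q₁).left := IsLocalRing.closedPoint K
    obtain ⟨s, t, hs⟩ := exists_toPtS K q₁
    let v := (π ≫ x).left c
    have hv : X.hom v = s := by
      rw [← Scheme.Hom.comp_apply, Over.w (π ≫ x)]
      exact hs c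
    obtain ⟨S₀, hS₀, hsS₀, -⟩ := exists_isAffineOpen_mem_and_subset (X := S) (x := s) (U := ⊤) trivial
    obtain ⟨V, hV, hvV, hVle⟩ := exists_isAffineOpen_mem_and_subset (X := X.left) (x := v) (U := X.hom ⁻¹ᵁ S₀)
      (show X.hom v ∈ S₀ by rw [hv]; exact hsS₀)
    have : IsAffine V.toScheme := hV
    have : IsSeparated (V.ι ≫ X.hom) := inferInstance
    have hVc : IsCompact ((V : Set X.left) ∩ X.hom.base ⁻¹' {s}) := by
      have : IsAffine S₀.toScheme := hS₀
      let g : V.toScheme ⟶ S₀.toScheme := IsOpenImmersion.lift S₀.ι (V.ι ≫ X.hom) (by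
        rintro _ ⟨w, rfl⟩; rw [Scheme.Opens.range_ι, Scheme.Hom.comp_apply]; exact hVle w.2)
      have hg : g ≫ S₀.ι = V.ι ≫ X.hom := IsOpenImmersion.lift_fac _ _ _
      have : CompactSpace ↥(g.fiber ⟨s, hsS₀⟩) := inferInstance
      have h : (V : Set X.left) ∩ X.hom.base ⁻¹' {s} = V.ι '' Set.range (g.fiberι ⟨s, hsS₀⟩) := by
        rw [Scheme.Hom.range_fiberι]
        ext v
        constructor
        · rintro ⟨hv, hvs⟩
          refine ⟨⟨v, hv⟩, ?_, rfl⟩
          apply Subtype.ext
          change S₀.ι (g ⟨v, hv⟩) = s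
          rw [← Scheme.Hom.comp_apply, hg, Scheme.Hom.comp_apply]
          exact hvs
        · rintro ⟨w, hw, rfl⟩
          refine ⟨w.2, ?_⟩
          have := congrArg S₀.ι (show g w = ⟨s, hsS₀⟩ from hw)
          rw [← Scheme.Hom.comp_apply, hg, Scheme.Hom.comp_apply] at this
          exact this
      rw [h]
      exact (isCompact_range (g.fiberι ⟨s, hsS₀⟩).continuous).image V.ι.continuous
    have hne : ((V : Set X.left) ∩ X.hom.base ⁻¹' {s}).Nonempty := ⟨v, hvV, hv⟩
    obtain ⟨p₁, hp₁⟩ := SepAction.exists_orbit_mem a s hΦ (hqs s) (hconn s) V hVc hne K q₁ t (π ≫ x)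
    obtain ⟨p₂, hp₂⟩ := SepAction.exists_orbit_mem a s hΦ (hqs s) (hconn s) V hVc hne K q₁ t (π ≫ y)
    have := SepAction.irreducible_compT (G := G) t K (Iso.refl _)
    obtain ⟨p₀, hp₀⟩ := SepAction.connectedComponent_subset_range_compTι (G := G) t c
      (mem_connectedComponent (x := (unitPt G (Over.mk q₁)).left c))
    let T := Over.mk q₁
    have hW : p₀ ∈ ((compTι (G := G) t).left ⁻¹ᵁ (fst G T).left ⁻¹ᵁ W0) := by
      show (fst G T).left ((compTι (G := G) t).left p₀) ∈ W0
      rw [hp₀, ← Points.comp_apply, lift_fst, Hom.one_def, Points.comp_apply]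
      exact hW0 _
    let Ax := (compTι (G := G) t).left ⁻¹ᵁ (orbit a (π ≫ x)).left ⁻¹ᵁ V
    let Ay := (compTι (G := G) t).left ⁻¹ᵁ (orbit a (π ≫ y)).left ⁻¹ᵁ V
    obtain ⟨q', hq'⟩ := nonempty_preirreducible_inter Ax.isOpen Ay.isOpen ⟨p₁, hp₁⟩ ⟨p₂, hp₂⟩
    obtain ⟨q'', ⟨hqx, hqy⟩, hqW⟩ := nonempty_preirreducible_inter (Ax.isOpen.inter Ay.isOpen)
      ((compTι (G := G) t).left ⁻¹ᵁ (fst G T).left ⁻¹ᵁ W0).isOpen ⟨q', hq'⟩ ⟨p₀, hW⟩
    let q := pointHom (compT (G := G) t) q'' ≫ compTι t
    refine ⟨V, inferInstance, _, inferInstance, q ≫ snd G T ≫ π, q ≫ fst G T, fun t' => ⟨?_, ?_, ?_⟩⟩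
    · rw [Points.comp_apply, Points.comp_apply, pointHom_apply]
      exact hqW
    · rw [show (q ≫ snd G T ≫ π) ≫ x = (q ≫ snd G T) ≫ π ≫ x by simp only [Category.assoc], ← comp_orbit,
        ← comp_lift, lift_fst_snd, Category.comp_id, Points.comp_apply, Points.comp_apply, pointHom_apply]
      exact hqx
    · rw [show (q ≫ snd G T ≫ π) ≫ y = (q ≫ snd G T) ≫ π ≫ y by simp only [Category.assoc], ← comp_orbit,
        ← comp_lift, lift_fst_snd, Category.comp_id, Points.comp_apply, Points.comp_apply, pointHom_apply]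
      exact hqy
  refine ⟨hsep, ?_⟩
  rintro ⟨V, hVqc, hVne⟩
  rw [IsZariskiLocalAtTarget.iff_of_iSup_eq_top (P := @QuasiCompact) (fun U : S.affineOpens => (U : S.Opens))
    (iSup_affineOpens_eq_top S)]
  rintro ⟨U, hU⟩
  have : IsAffine U.toScheme := hU
  refine (HasAffineProperty.iff_of_isAffine (P := @QuasiCompact)).2 (isCompact_iff_compactSpace.1 ?_)
  -- a compact open of the group over `U` containing the unit section
  obtain ⟨W₁, hW₁c, hW₁U, hW₁⟩ : ∃ W₁ : G.left.Opens, IsCompact (W₁ : Set G.left) ∧ W₁ ≤ G.hom ⁻¹ᵁ U ∧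
      ∀ p : ↥(𝟙_ (Over S)).left, p ∈ U → η[G].left p ∈ W₁ := by
    have hc : IsCompact (η[G].left '' (U : Set S)) := hU.isCompact.image η[G].left.continuous
    have hsub : η[G].left '' (U : Set S) ⊆ (G.hom ⁻¹ᵁ U : G.left.Opens) := by
      rintro _ ⟨p, hp, rfl⟩
      show G.hom (η[G].left p) ∈ U
      rw [← Scheme.Hom.comp_apply, Over.w η[G]]
      exact hp
    let J := {A : G.left.Opens // IsAffineOpen A ∧ A ≤ G.hom ⁻¹ᵁ U}
    let B : J → Set G.left := fun A => (A.1 : Set G.left)
    obtain ⟨F, hF⟩ := hc.elim_finite_subcover B (fun A => A.1.isOpen) (fun z hz => by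
      obtain ⟨A, hA, hzA, hle⟩ := exists_isAffineOpen_mem_and_subset (X := G.left) (x := z) (U := G.hom ⁻¹ᵁ U) (hsub hz)
      exact Set.mem_iUnion.2 ⟨⟨A, hA, hle⟩, hzA⟩)
    refine ⟨⨆ A : F, A.1.1, ?_, iSup_le fun A => A.1.2.2, fun p hp => ?_⟩
    · rw [TopologicalSpace.Opens.coe_iSup]
      exact isCompact_iUnion fun A => A.1.2.1.isCompact
    · obtain ⟨A, hA, hpA⟩ := Set.mem_iUnion₂.1 (hF ⟨p, hp, rfl⟩)
      exact TopologicalSpace.Opens.mem_iSup.2 ⟨⟨A, hA⟩, hpA⟩
  let G₁ : Over S := Over.mk (W₁.ι ≫ G.hom)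
  let i₁ : G₁ ⟶ G := Over.homMk W₁.ι rfl
  let V₁ : X.left.Opens := V ⊓ X.hom ⁻¹ᵁ U
  let X₁ : Over S := Over.mk (V₁.ι ≫ X.hom)
  let j₁ : X₁ ⟶ X := Over.homMk V₁.ι rfl
  have hV₁c : CompactSpace V₁.toScheme := by
    refine isCompact_iff_compactSpace.1 ?_
    have := (V.ι ≫ X.hom).isCompact_preimage (U := U) hU.isCompact
    rw [V.ι.isOpenEmbedding.isEmbedding.isCompact_iff] at this
    refine (congrArg IsCompact ?_).mp this
    ext v
    exact ⟨fun ⟨w, hw, e⟩ => e ▸ ⟨w.2, hw⟩, fun ⟨h1, h2⟩ => ⟨⟨v, h1⟩, h2, rfl⟩⟩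
  have hW₁s : CompactSpace W₁.toScheme := isCompact_iff_compactSpace.1 hW₁c
  let gG : W₁.toScheme ⟶ U.toScheme := IsOpenImmersion.lift U.ι (W₁.ι ≫ G.hom) (by
    rintro _ ⟨w, rfl⟩; rw [Scheme.Opens.range_ι, Scheme.Hom.comp_apply]; exact hW₁U w.2)
  let gX : V₁.toScheme ⟶ U.toScheme := IsOpenImmersion.lift U.ι (V₁.ι ≫ X.hom) (by
    rintro _ ⟨w, rfl⟩; rw [Scheme.Opens.range_ι, Scheme.Hom.comp_apply]; exact w.2.2)
  have hgG : QuasiCompact gG := (HasAffineProperty.iff_of_isAffine (P := @QuasiCompact)).2 hW₁s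
  have hcp : CompactSpace (G₁ ⊗ X₁).left := by
    have : CompactSpace ↥(Limits.pullback gG gX) := QuasiCompact.compactSpace_of_compactSpace (Limits.pullback.snd gG gX)
    let j : Limits.pullback gG gX ⟶ (G₁ ⊗ X₁).left := Limits.pullback.map gG gX (W₁.ι ≫ G.hom) (V₁.ι ≫ X.hom)
      (𝟙 _) (𝟙 _) U.ι (by simp [gG]) (by simp [gX])
    refine ⟨?_⟩
    have hj : Set.range j = Set.univ := by
      rw [Scheme.Pullback.range_map]
      simp
    rw [← hj]
    exact isCompact_range j.continuous
  let m : G₁ ⊗ X₁ ⟶ X := Basic.smul a (fst G₁ X₁ ≫ i₁) (snd G₁ X₁ ≫ j₁)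
  suffices e : ((X.hom ⁻¹ᵁ U : X.left.Opens) : Set X.left) = Set.range m.left by
    rw [e]; exact isCompact_range m.left.continuous
  ext z
  constructor
  · intro hz
    let K := AlgebraicClosure (X.left.residueField z)
    let mz : Spec (CommRingCat.of K) ⟶ X.left :=
      Spec.map (CommRingCat.ofHom (algebraMap (X.left.residueField z) K)) ≫ X.left.fromSpecResidueField z
    let T := Over.mk (mz ≫ X.hom)
    let x : T ⟶ X := Over.homMk mz rfl
    let c : T.left := IsLocalRing.closedPoint K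
    have hxc : x.left c = z := (Scheme.Hom.comp_apply _ _ c).trans (Scheme.fromSpecResidueField_apply z _)
    obtain ⟨s, t, hs⟩ := exists_toPtS K (mz ≫ X.hom)
    have hzs : X.hom z = s := by
      rw [← hxc, ← Scheme.Hom.comp_apply]
      exact hs c
    obtain ⟨v, hvV, hvs⟩ := hVne s ⟨z, hzs⟩
    obtain ⟨p₁, hp₁⟩ := SepAction.exists_orbit_mem a s hΦ (hqs s) (hconn s) V
      (isCompact_inter_fibre X.hom V s) ⟨v, hvV, hvs⟩ K (mz ≫ X.hom) t x
    have := SepAction.irreducible_compT (G := G) t K (Iso.refl _)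
    let inv' : G ⊗ T ⟶ G ⊗ T := lift (fst G T)⁻¹ (snd G T)
    have hR : IsIrreducible (Set.range (compTι (G := G) t).left) :=
      Set.image_univ (f := (compTι (G := G) t).left) ▸
        (IrreducibleSpace.isIrreducible_univ _).image _ (compTι (G := G) t).left.continuous.continuousOn
    let Rset := Set.range (compTι (G := G) t).left
    have he : (unitPt G T).left c ∈ Rset :=
      SepAction.connectedComponent_subset_range_compTι (G := G) t c mem_connectedComponent
    have hinv : inv'.left ((compTι (G := G) t).left p₁) ∈ Rset := by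
      refine SepAction.connectedComponent_subset_range_compTι (G := G) t c ?_
      have hfix : inv'.left ((unitPt G T).left c) = (unitPt G T).left c := by
        rw [← Points.comp_apply]
        congr 2
        simp [inv', comp_lift, GrpObj.comp_inv]
      have hsub : Rset ⊆ connectedComponent ((unitPt G T).left c) :=
        hR.isConnected.2.subset_connectedComponent he
      rw [← hfix]
      exact inv'.left.continuous.image_connectedComponent_subset _ ⟨_, hsub ⟨p₁, rfl⟩, rfl⟩
    let h : G ⊗ T ⟶ X := inv' ≫ orbit a x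
    have hB : inv'.left ((compTι (G := G) t).left p₁) ∈ h.left ⁻¹ᵁ V := by
      show h.left (inv'.left ((compTι (G := G) t).left p₁)) ∈ V
      have : inv' ≫ h = orbit a x := by
        simp only [h, inv', comp_orbit, Basic.comp_smul, GrpObj.comp_inv, lift_fst, lift_snd_assoc, _root_.inv_inv,
          orbit, comp_lift_assoc]
      rw [← Points.comp_apply, this]
      exact hp₁
    have hA : (unitPt G T).left c ∈ (fst G T).left ⁻¹ᵁ W₁ := by
      show (fst G T).left ((unitPt G T).left c) ∈ W₁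
      rw [← Points.comp_apply, lift_fst, Hom.one_def, Points.comp_apply]
      refine hW₁ _ ?_
      have : (toUnit T).left c = s := by
        rw [← hs c]
        exact congr($(Over.w (toUnit T)) c)
      rw [this, ← hzs]
      exact hz
    obtain ⟨q', hq'R, hq'A, hq'B⟩ := hR.2 _ _ ((fst G T).left ⁻¹ᵁ W₁).isOpen (h.left ⁻¹ᵁ V).isOpen
      ⟨_, he, hA⟩ ⟨_, hinv, hB⟩
    let q := pointHom (G ⊗ T) q'
    obtain ⟨d⟩ := (inferInstance : Nonempty (pointObj (G ⊗ T) q').left)
    let gam : pointObj (G ⊗ T) q' ⟶ G₁ := Over.homMk (IsOpenImmersion.lift W₁.ι (q ≫ fst G T).left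
        (by rintro _ ⟨w, rfl⟩; rw [Scheme.Opens.range_ι, Points.comp_apply, pointHom_apply]; exact hq'A)) (by
      change IsOpenImmersion.lift W₁.ι _ _ ≫ W₁.ι ≫ G.hom = _
      rw [IsOpenImmersion.lift_fac_assoc]
      exact Over.w (q ≫ fst G T))
    have hq'U : ∀ w, (q ≫ h).left w ∈ V₁ := by
      intro w
      refine ⟨by rw [Points.comp_apply, pointHom_apply]; exact hq'B, ?_⟩
      show X.hom ((q ≫ h).left w) ∈ U
      rw [← Scheme.Hom.comp_apply, Over.w (q ≫ h), ← Over.w (q ≫ snd G T), Scheme.Hom.comp_apply]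
      show (mz ≫ X.hom) ((q ≫ snd G T).left w) ∈ U
      rw [hs, ← hzs]
      exact hz
    let ξ : pointObj (G ⊗ T) q' ⟶ X₁ := Over.homMk (IsOpenImmersion.lift V₁.ι (q ≫ h).left
        (by rintro _ ⟨w, rfl⟩; rw [Scheme.Opens.range_ι]; exact hq'U w)) (by
      change IsOpenImmersion.lift V₁.ι _ _ ≫ V₁.ι ≫ X.hom = _
      rw [IsOpenImmersion.lift_fac_assoc]
      exact Over.w (q ≫ h))
    have hgam : gam ≫ i₁ = q ≫ fst G T := Over.OverMorphism.ext (IsOpenImmersion.lift_fac _ _ _)
    have hξ : ξ ≫ j₁ = q ≫ h := Over.OverMorphism.ext (IsOpenImmersion.lift_fac _ _ _)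
    refine ⟨(lift gam ξ).left d, ?_⟩
    have e : lift gam ξ ≫ m = q ≫ snd G T ≫ x := by
      simp only [m, Basic.comp_smul, lift_fst_assoc, lift_snd_assoc, hgam, hξ, h, inv', orbit, GrpObj.comp_inv,
        lift_fst, Category.assoc]
      exact Basic.smul_inv_smul' a _ _
    rw [← Points.comp_apply, e, Points.comp_apply, Points.comp_apply]
    exact (congrArg x.left (Subsingleton.elim (α := PrimeSpectrum K) _ _)).trans hxc
  · rintro ⟨w, rfl⟩
    show X.hom (m.left w) ∈ U
    rw [← Scheme.Hom.comp_apply, Over.w m, show (G₁ ⊗ X₁).hom = (snd G₁ X₁).left ≫ V₁.ι ≫ X.hom from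
      (Over.w (snd G₁ X₁)).symm, Scheme.Hom.comp_apply, Scheme.Hom.comp_apply]
    exact (((snd G₁ X₁).left w)).2.2

end Groth.Agent.S5397
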