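import Groth.Statements.S5398
import Groth.Agent.SmoothUnit27.Scheme
import Groth.Agent.S1937
import Groth.Agent.KFlat.LocFree

set_option autoImplicit false
universe u
open CategoryTheory CategoryTheory.Limits MonoidalCategory CartesianMonoidalCategory MonObj GrpObj AlgebraicGeometry
open SGA3

namespace Groth.Agent.S5398

/-- Let S be a scheme all of whose residue fields have characteristic zero and G an S-group scheme which
is locally of finite presentation over S on some open containing the unit section ε. Then G is
smooth over S on some open containing the unit section if and only if the O_S-module ω_{G/S} =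
ε^*(Ω¹_{G/S}) is finite locally free. (The published statement asks residue characteristic zero only
at the closed points of S; on a scheme with no closed point that condition is empty and the
equivalence fails for the group of p-th roots of unity in characteristic p, while the Jacobian
criterion used in the proof needs every residue field of characteristic zero, so this row asks it at
every point. This row also assumes G quasi-separated over S, so that the diagonal used to define Ω¹
is quasi-compact.) -/
theorem result (S : Scheme.{u})
    (hS : ∀ x : S, CharZero (S.residueField x))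
    (G : Over S) [GrpObj G] [QuasiSeparated G.hom]
    (hfp : ∃ W : G.left.Opens, (∀ p : ↥(𝟙_ (Over S)).left, η[G].left.base p ∈ W) ∧ LocallyOfFinitePresentation (W.ι ≫ G.hom)) :
    (∃ W : G.left.Opens, (∀ p : ↥(𝟙_ (Over S)).left, η[G].left.base p ∈ W) ∧ Smooth (W.ι ≫ G.hom)) ↔
      FlatMod.IsFinLocFree ((Scheme.Modules.pullback η[G].left).obj (Omega.sheaf G.hom)) := by
  constructor
  · rintro ⟨W, hW, hs⟩
    exact SmoothUnit27.isFinLocFree_of_smooth G.hom η[G].left W hs hW
  · intro h
    obtain ⟨W, hW, hlfp⟩ := hfp
    have he : η[G].left ≫ G.hom = 𝟙 S := Over.w η[G]
    obtain ⟨i⟩ := S1937.omega_iso G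
    let j : (Scheme.Modules.pullback η[G].left).obj (Omega.sheaf G.hom) ≅ Omega.conormal η[G].left :=
      (Scheme.Modules.pullback η[G].left).mapIso i ≪≫
        (Scheme.Modules.pullbackComp η[G].left G.hom).app _ ≪≫
        (Scheme.Modules.pullbackCongr he).app _ ≪≫ (Scheme.Modules.pullbackId S).app _
    have hΩ : FlatMod.IsFinLocFree (Omega.sheaf G.hom) :=
      KFlat.LocFree.isFinLocFree_of_iso i.symm
        (KFlat.LocFree.isFinLocFree_pull G.hom (KFlat.LocFree.isFinLocFree_of_iso j h))
    exact SmoothUnit27.exists_smooth_open G.hom η[G].left hlfp hW fun p =>
      SmoothUnit27.exists_smooth_nhd G.hom η[G].left he hS hlfp p (hW p) hΩ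

end Groth.Agent.S5398
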