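import Groth.Statements.S5399
-- import your own Groth.Agent.* helpers here

import Groth.Agent.FlatMor.GenericPts
import Groth.Agent.GeomIrredField.SepClosed
import Groth.Agent.GrpScheme.Dimension
import Mathlib.RingTheory.AlgebraicIndependent.TranscendenceBasis
import Mathlib.RingTheory.AlgebraicIndependent.Adjoin
import Mathlib.RingTheory.Polynomial.UniqueFactorization
import Mathlib.Algebra.MvPolynomial.Nilpotent

set_option autoImplicit false
universe u
open CategoryTheory CategoryTheory.Limits MonoidalCategory CartesianMonoidalCategory MonObj GrpObj AlgebraicGeometry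
open SGA3

namespace Groth.Agent.S5399

open Topology in
/-- Maximal points of a fibre. -/
theorem max_iff {X Y : Type*} [TopologicalSpace X] [TopologicalSpace Y] [QuasiSober X] [T0Space X]
    [T0Space Y] (π : X → Y) (hπ : Continuous π) (g : Y) (z : ↥(π ⁻¹' {g})) :
    closure {z} ∈ irreducibleComponents ↥(π ⁻¹' {g}) ↔ ∀ w, π w = g → w ⤳ z.1 → w = z.1 := by
  constructor
  · intro h w hw hwz
    let w' : ↥(π ⁻¹' {g}) := ⟨w, hw⟩
    have h1 : closure {z} ⊆ closure {w'} :=
      specializes_iff_closure_subset.mp ((subtype_specializes_iff w' z).mpr hwz)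
    have h2 : z ⤳ w' := specializes_iff_closure_subset.mpr (h.2 isIrreducible_singleton.closure h1)
    exact (hwz.antisymm ((subtype_specializes_iff z w').mp h2)).eq
  · intro h
    refine ⟨isIrreducible_singleton.closure, fun T hT hle => ?_⟩
    have hT' : IsIrreducible (Subtype.val '' T) := hT.image _ continuous_subtype_val.continuousOn
    have hgen := hT'.isGenericPoint_genericPoint_closure
    set w := hT'.genericPoint
    have hwz : w ⤳ z.1 :=
      hgen.specializes (subset_closure ⟨z, hle (subset_closure rfl), rfl⟩)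
    have hw : π w = g := by
      have h1 : π w ⤳ g := by
        simpa [show π z.1 = g from z.2] using hwz.map hπ
      have h2 : π w ∈ closure {g} := by
        refine map_mem_closure hπ (hgen.mem) ?_
        rintro _ ⟨a, -, rfl⟩
        exact a.2
      exact (h1.antisymm (specializes_iff_mem_closure.mpr h2)).eq
    have hwz' := h w hw hwz
    intro a ha
    refine (subtype_specializes_iff z a).mpr ?_ |>.mem_closure
    rw [← hwz']
    exact hgen.specializes (subset_closure ⟨a, ha, rfl⟩)

/-- `k` is separably closed in a purely transcendental extension. -/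
theorem sepClosedIn_fractionRing (k : Type u) [Field k] (σ : Type u) :
    GeomIrredField.SepClosedIn k (FractionRing (MvPolynomial σ k)) := by
  intro x hx
  have hint : IsIntegral k x := IsSeparable.isIntegral hx
  obtain ⟨q, hq⟩ := IsIntegrallyClosed.algebraMap_eq_of_integral
    (R := MvPolynomial σ k) (hint.tower_top)
  have hq' : IsIntegral k q := by
    rw [← hq] at hint
    exact (isIntegral_algHom_iff (IsScalarTower.toAlgHom k (MvPolynomial σ k)
      (FractionRing (MvPolynomial σ k))) (IsFractionRing.injective _ _)).mp hint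
  rcases eq_or_ne q 0 with rfl | hne
  · exact ⟨0, by rw [← hq, map_zero, map_zero]⟩
  · obtain ⟨c, -, hc⟩ := MvPolynomial.isUnit_iff_eq_C_of_isReduced.mp
      (hq'.isUnit hne)
    exact ⟨c, by rw [← hq, hc, IsScalarTower.algebraMap_apply k (MvPolynomial σ k)]; rfl⟩

/-- Let G be a nonempty scheme of finite type over a field k, K a field extension of k, π : G ⊗_k K → G
the projection and W a dense open subset of G ⊗_k K. Then the set U of points g of G such that W
contains every maximal point of the fibre π⁻¹(g) (every point whose closure in π⁻¹(g) is an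
irreducible component of π⁻¹(g)) is open and dense in G. -/
theorem result (k : Type u) [Field k] (K : Type u) [Field K] [Algebra k K]
    (G : Scheme.{u}) (f : G ⟶ Spec (CommRingCat.of k)) [LocallyOfFiniteType f] [QuasiCompact f] [Nonempty G]
    (W : (pullback f (Spec.map (CommRingCat.ofHom (algebraMap k K)))).Opens)
    (hW : Dense (W : Set ↥(pullback f (Spec.map (CommRingCat.ofHom (algebraMap k K)))))) :
    letI π := (pullback.fst f (Spec.map (CommRingCat.ofHom (algebraMap k K)))).base
    letI U : Set G := {g : G | ∀ z : ↥(π ⁻¹' {g}), closure {z} ∈ irreducibleComponents ↥(π ⁻¹' {g}) → z.1 ∈ W}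
    IsOpen U ∧ Dense U := by
  set π : ↥(pullback f (Spec.map (CommRingCat.ofHom (algebraMap k K)))) → G :=
    ⇑(pullback.fst f (Spec.map (CommRingCat.ofHom (algebraMap k K))))
  set U : Set G := {g : G | ∀ z : ↥(π ⁻¹' {g}), closure {z} ∈ irreducibleComponents ↥(π ⁻¹' {g}) → z.1 ∈ W}
  obtain ⟨B, hB⟩ := exists_isTranscendenceBasis k K
  let L := IntermediateField.adjoin k (Set.range ((↑) : B → K))
  have hsc : GeomIrredField.SepClosedIn k L :=
    GeomIrredField.SepClosedIn.of_algHom hB.1.aevalEquivField.symm.toAlgHom
      (sepClosedIn_fractionRing k B)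
  haveI := hsc.geometricallyIrreducible
  haveI : Algebra.IsAlgebraic L K := hB.isAlgebraic_field
  let jK : Spec (CommRingCat.of K) ⟶ Spec (CommRingCat.of L) :=
    Spec.map (CommRingCat.ofHom (algebraMap L K))
  let jL : Spec (CommRingCat.of L) ⟶ Spec (CommRingCat.of k) :=
    Spec.map (CommRingCat.ofHom (algebraMap k L))
  let jk : Spec (CommRingCat.of K) ⟶ Spec (CommRingCat.of k) :=
    Spec.map (CommRingCat.ofHom (algebraMap k K))
  have hj : jk = jK ≫ jL := by
    simp only [jk, jK, jL, ← Spec.map_comp, ← CommRingCat.ofHom_comp, ← IsScalarTower.algebraMap_eq]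
  let p : pullback f jk ⟶ pullback f jL :=
    pullback.map f jk f jL (𝟙 _) jK (𝟙 _) (by simp) (by simp [hj])
  have hp1 : p ≫ pullback.fst f jL = pullback.fst f jk := by simp only [p, pullback.map, pullback.lift_fst, pullback.lift_snd, Category.comp_id]
  have hp2 : p ≫ pullback.snd f jL = pullback.snd f jk ≫ jK := by simp only [p, pullback.map, pullback.lift_fst, pullback.lift_snd, Category.comp_id]
  have hsq : IsPullback p (pullback.snd f jk) (pullback.snd f jL) jK :=
    IsPullback.of_right (by rw [hp1, ← hj]; exact IsPullback.of_hasPullback f jk) hp2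
      (IsPullback.of_hasPullback f jL)
  haveI : IsIntegralHom jK := IsIntegralHom.SpecMap_iff.mpr
    (algebraMap_isIntegral_iff.mpr inferInstance)
  haveI : IsIntegralHom p := MorphismProperty.of_isPullback hsq.flip inferInstance
  haveI : Flat jK := Flat.SpecMap_iff.mpr
    (RingHom.flat_algebraMap_iff.mpr inferInstance)
  haveI : Flat p := MorphismProperty.of_isPullback hsq.flip inferInstance
  haveI : GeometricallyIrreducible jL := by assumption
  let π' : pullback f jL ⟶ G := pullback.fst f jL
  haveI : GeometricallyIrreducible π' :=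
    MorphismProperty.pullback_fst (P := @GeometricallyIrreducible) f jL inferInstance
  haveI : UniversallyOpen π' := inferInstanceAs (UniversallyOpen (pullback.fst f jL))
  have hcomp : ∀ z, π' (p z) = π z := fun z => congrArg (fun m : _ ⟶ G => m z) hp1
  -- the generic point of a fibre of `π'`
  have hgen : ∀ g : G, ∃ ξ, π' ξ = g ∧ ∀ x, π' x = g → ξ ⤳ x := by
    intro g
    have hT := π'.isIrreducible_preimage π'.isOpenMap (isIrreducible_singleton (x := g))
    have hgp := hT.isGenericPoint_genericPoint_closure
    refine ⟨hT.genericPoint, ?_, fun x hx => hgp.specializes (subset_closure hx)⟩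
    obtain ⟨x, hx⟩ := hT.nonempty
    have h1 : π' hT.genericPoint ⤳ g := by
      simpa [show π' x = g from hx] using (hgp.specializes (subset_closure hx)).map π'.continuous
    have h2 : π' hT.genericPoint ∈ closure {g} :=
      map_mem_closure π'.continuous hgp.mem fun a ha => ha
    exact (h1.antisymm (specializes_iff_mem_closure.mpr h2)).eq
  have hcont : Continuous π := (pullback.fst f jk).continuous
  have hZ : IsClosed (p '' (W : Set _)ᶜ) := p.isClosedMap _ W.2.isClosed_compl
  have hU : U = π' '' (p '' (W : Set _)ᶜ)ᶜ := by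
    ext g
    obtain ⟨ξ, hξ, hξs⟩ := hgen g
    constructor
    · intro hg
      refine ⟨ξ, ?_, hξ⟩
      rintro ⟨z, hzW, hz⟩
      have hzg : π z = g := by rw [← hcomp, hz, hξ]
      refine hzW (hg ⟨z, hzg⟩ ((max_iff π hcont g ⟨z, hzg⟩).mpr fun w hw hwz => ?_))
      have e : p w = p z := ((hwz.map p.continuous).antisymm
        (hz ▸ hξs (p w) (by rw [hcomp, hw]))).eq
      exact GrpScheme.Dimension.eq_of_specializes_of_apply_eq p hwz e
    · rintro ⟨x, hx, hxg⟩ z hz
      by_contra hzW
      have hzg : π z.1 = g := z.2
      obtain ⟨w, hwz, hwξ⟩ := Flat.generalizingMap p (hξs (p z.1) (by rw [hcomp, hzg]))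
      have := (max_iff π hcont g z).mp hz w (by rw [← hcomp, hwξ, hξ]) hwz
      exact hx ((hξs x hxg).mem_closed hZ ⟨z.1, hzW, by rw [← this]; exact hwξ⟩)
  refine ⟨hU ▸ π'.isOpenMap _ hZ.isOpen_compl, ?_⟩
  haveI : IsLocallyNoetherian (pullback f jk) :=
    LocallyOfFiniteType.isLocallyNoetherian (pullback.snd f jk)
  rw [dense_iff_inter_open]
  intro V hV ⟨x, hx⟩
  obtain ⟨ξ, hξ, hξx⟩ := FlatMor.GenericPts.exists_generic_specializes x
  refine ⟨ξ, hξx.mem_open hV hx, fun z hz => ?_⟩
  refine FlatMor.GenericPts.mem_of_dense hW ?_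
  rw [FlatMor.GenericPts.closure_mem_irreducibleComponents_iff] at hξ ⊢
  intro w hw
  have hwz : π w ⤳ ξ := by simpa [show π z.1 = ξ from z.2] using hw.map hcont
  have := (max_iff π hcont ξ z).mp hz w ((hwz.antisymm (hξ _ hwz)).eq) hw
  rw [this]

end Groth.Agent.S5399
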