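import Groth.Statements.S5400
import Groth.Agent.S5322
import Groth.Agent.S5325
import Groth.Agent.S5326
import Groth.Agent.S4787
import Groth.Agent.LimLib.Basic
import Groth.Agent.EtModWLib.Gen

set_option autoImplicit false
universe u
open CategoryTheory CategoryTheory.Limits MonoidalCategory CartesianMonoidalCategory MonObj GrpObj AlgebraicGeometry
open SGA3

namespace Groth.Agent.S5400

open Groth.Agent Topology

set_option linter.style.haveILetI false
set_option backward.isDefEq.respectTransparency.types false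

theorem isProConstructible {X : Scheme.{u}} {s : Set X} (hs : IsConstructible s) :
    ProCons.IsProConstructible s := fun x =>
  ⟨Set.univ, isOpen_univ, trivial, {Subtype.val ⁻¹' s}, fun T hT => by
    rw [Set.mem_singleton_iff.1 hT]
    exact (hs.preimage_of_isOpenEmbedding isOpen_univ.isOpenEmbedding_subtypeVal).isLocallyConstructible,
    by simp⟩

/-- The neutral component is representable exactly when it is open. -/
theorem representable_iff_isOpen {S : Scheme.{u}} (G : Over S) [GrpObj G] [LocallyOfFinitePresentation G.hom] :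
    (∃ (G0 : Over S) (i0 : G0 ⟶ G), Mono i0 ∧
      ∀ (T : Over S) (g : T ⟶ G), (∃ z : T ⟶ G0, z ≫ i0 = g) ↔ Set.range g.left.base ⊆ SGA3x.neutralSet G) ↔
      IsOpen (SGA3x.neutralSet G) := by
  constructor
  · rintro ⟨G0, i0, hm, hrep⟩
    obtain ⟨hop, -⟩ := S5326.result S G G0 i0 hrep
    have h : Set.range i0.left.base = SGA3x.neutralSet G := by
      refine (((hrep G0 i0).1 ⟨𝟙 G0, Category.id_comp i0⟩)).antisymm fun x hx => ?_
      let T : Over S := Over.mk (G.left.fromSpecResidueField x ≫ G.hom)
      let g : T ⟶ G := Over.homMk (G.left.fromSpecResidueField x) rfl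
      obtain ⟨z, hz⟩ := (hrep T g).2 (by
        change Set.range (G.left.fromSpecResidueField x) ⊆ _
        rw [Scheme.range_fromSpecResidueField]
        simpa using hx)
      obtain ⟨t, ht⟩ : x ∈ Set.range (G.left.fromSpecResidueField x) := by
        rw [Scheme.range_fromSpecResidueField]
        rfl
      exact ⟨z.left t, (congrArg (fun m => m.left t) hz).trans ht⟩
    rw [← h]
    exact i0.left.isOpenEmbedding.isOpen_range
  · intro hop
    let U : G.left.Opens := ⟨SGA3x.neutralSet G, hop⟩
    refine ⟨Over.mk (U.ι ≫ G.hom), Over.homMk U.ι rfl, ?_, fun T g => ⟨?_, fun h => ?_⟩⟩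
    · refine ⟨fun a b hab => Over.OverMorphism.ext ?_⟩
      rw [← cancel_mono U.ι]
      exact congrArg CommaMorphism.left hab
    · rintro ⟨z, rfl⟩ _ ⟨t, rfl⟩
      exact (z.left t).2
    · have h' : Set.range g.left ⊆ Set.range U.ι := by rw [Scheme.Opens.range_ι]; exact h
      refine ⟨Over.homMk (IsOpenImmersion.lift U.ι g.left h') ?_, Over.OverMorphism.ext (IsOpenImmersion.lift_fac ..)⟩
      exact (IsOpenImmersion.lift_fac_assoc U.ι g.left h' G.hom).trans (Over.w g)

/-- Let S be the limit of a cofiltered system (S_i) of quasi-compact quasi-separated schemes with affine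
transition morphisms, j an index and G_j an S_j-group scheme of finite presentation; put G = G_j
×_{S_j} S. Then the neutral component subfunctor of G is representable (there is a monomorphism G⁰ →
G through which a point factors exactly when its image lies in the union of the neutral components
of the fibres) if and only if there is an index i over j such that the neutral component of G_j
×_{S_j} S_i is representable. -/
theorem result {I : Type u} [SmallCategory I] [IsCofiltered I]
    (D : I ⥤ Scheme.{u}) (c : Limits.Cone D) (hc : Limits.IsLimit c)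
    [∀ (i i' : I) (f : i ⟶ i'), IsAffineHom (D.map f)] [∀ i, CompactSpace (D.obj i)] [∀ i, QuasiSeparatedSpace (D.obj i)]
    (j : I) (Gj : Over (D.obj j)) [GrpObj Gj]
    [LocallyOfFinitePresentation Gj.hom] [QuasiCompact Gj.hom] [QuasiSeparated Gj.hom] :
    (∃ (G0 : Over c.pt) (i0 : G0 ⟶ Red.bc (c.π.app j) Gj), Mono i0 ∧
      ∀ (T : Over c.pt) (g : T ⟶ Red.bc (c.π.app j) Gj), (∃ z : T ⟶ G0, z ≫ i0 = g) ↔
        Set.range g.left.base ⊆ SGA3x.neutralSet (Red.bc (c.π.app j) Gj)) ↔
    ∃ (i : I) (f : i ⟶ j) (G0 : Over (D.obj i)) (i0 : G0 ⟶ Red.bc (D.map f) Gj), Mono i0 ∧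
      ∀ (T : Over (D.obj i)) (g : T ⟶ Red.bc (D.map f) Gj), (∃ z : T ⟶ G0, z ≫ i0 = g) ↔
        Set.range g.left.base ⊆ SGA3x.neutralSet (Red.bc (D.map f) Gj) := by
  haveI hl : LocallyOfFinitePresentation (Red.bc (c.π.app j) Gj).hom :=
    MorphismProperty.pullback_snd (P := @LocallyOfFinitePresentation) _ _ inferInstance
  have hli : ∀ (i : I) (f : i ⟶ j), LocallyOfFinitePresentation (Red.bc (D.map f) Gj).hom := fun i f =>
    MorphismProperty.pullback_snd (P := @LocallyOfFinitePresentation) _ _ inferInstance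
  haveI : CompactSpace Gj.left := QuasiCompact.compactSpace_of_compactSpace Gj.hom
  haveI : QuasiSeparatedSpace Gj.left := quasiSeparatedSpace_of_quasiSeparated Gj.hom
  have hN : IsConstructible (SGA3x.neutralSet Gj) :=
    (S5325.result (D.obj j) Gj).2.1 inferInstance inferInstance inferInstance
  have hY : IsPullback (pullback.fst Gj.hom (c.π.app j)) (pullback.snd Gj.hom (c.π.app j)) Gj.hom (c.π.app j) :=
    IsPullback.of_hasPullback _ _
  let P := LimLib.bcDiag D j Gj.hom
  let cP := LimLib.bcCone hY
  have hcP : Limits.IsLimit cP := LimLib.isLimitBcCone hc hY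
  let N : ∀ a : Over j, Set (P.obj a) := fun a => (pullback.fst Gj.hom (D.map a.hom)) ⁻¹' SGA3x.neutralSet Gj
  have hNlim : ∀ a : Over j, ⇑(cP.π.app a) ⁻¹' N a = SGA3x.neutralSet (Red.bc (c.π.app j) Gj) := fun a => by
    rw [S5322.result]
    ext x
    change pullback.fst Gj.hom (D.map a.hom) ((cP.π.app a) x) ∈ SGA3x.neutralSet Gj ↔
      pullback.fst Gj.hom (c.π.app j) x ∈ SGA3x.neutralSet Gj
    have e : (cP.π.app a ≫ pullback.fst Gj.hom (D.map a.hom)) = pullback.fst Gj.hom (c.π.app j) :=
      pullback.lift_fst _ _ _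
    exact Iff.of_eq (congrArg (fun m => m x ∈ SGA3x.neutralSet Gj) e)
  have hNm : ∀ (a b : Over j) (φ : a ⟶ b), ⇑(P.map φ) ⁻¹' N b = N a := fun a b φ => by
    ext x
    change pullback.fst Gj.hom (D.map b.hom) ((P.map φ) x) ∈ SGA3x.neutralSet Gj ↔
      pullback.fst Gj.hom (D.map a.hom) x ∈ SGA3x.neutralSet Gj
    have e : (P.map φ ≫ pullback.fst Gj.hom (D.map b.hom)) = pullback.fst Gj.hom (D.map a.hom) :=
      pullback.lift_fst _ _ _
    exact Iff.of_eq (congrArg (fun m => m x ∈ SGA3x.neutralSet Gj) e)
  rw [representable_iff_isOpen]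
  constructor
  · intro hop
    haveI : ∀ (a b : Over j) (f : a ⟶ b), IsAffineHom (P.map f) := fun a b f => LimLib.isAffineHom_bcDiag_map D j Gj.hom a b f
    haveI : ∀ a : Over j, CompactSpace (P.obj a) := fun a => LimLib.compactSpace_bcDiag D j Gj.hom a
    haveI : ∀ a : Over j, QuasiSeparatedSpace (P.obj a) := fun a => LimLib.quasiSeparatedSpace_bcDiag D j Gj.hom a
    haveI : CompactSpace cP.pt := Scheme.compactSpace_of_isLimit P cP hcP
    haveI : QuasiSeparatedSpace cP.pt := by
      haveI := isAffineHom_π_app P cP hcP (Over.mk (𝟙 j))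
      exact quasiSeparatedSpace_of_quasiSeparated (cP.π.app (Over.mk (𝟙 j)))
    let U : cP.pt.Opens := ⟨SGA3x.neutralSet (Red.bc (c.π.app j) Gj), hop⟩
    have hU : IsCompact (U : Set cP.pt) := by
      refine EtModWLib.isCompact_of_isConstructible ?_
      change IsConstructible (SGA3x.neutralSet (Red.bc (c.π.app j) Gj))
      rw [← hNlim (Over.mk (𝟙 j))]
      exact Scheme.Hom.isConstructible_preimage _ (Scheme.Hom.isConstructible_preimage _ hN)
    obtain ⟨a, W, hW, hWU⟩ := exists_preimage_eq P cP hcP U hU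
    let Δ : Set (P.obj a) := ((W : Set (P.obj a)) \ N a) ∪ (N a \ W)
    have hWc : IsConstructible (W : Set (P.obj a)) :=
      IsRetrocompact.isConstructible W.2 (hW.isRetrocompact W.2)
    have hΔ : IsConstructible Δ :=
      (hWc.sdiff (Scheme.Hom.isConstructible_preimage _ hN)).union
        ((Scheme.Hom.isConstructible_preimage _ hN).sdiff hWc)
    let P' := Over.forget a ⋙ P
    let cP' : Limits.Cone P' := cP.whisker (Over.forget a)
    have hcP' : Limits.IsLimit cP' := (Functor.Initial.isLimitWhiskerEquiv (Over.forget a) cP).symm hcP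
    haveI : ∀ (b b' : Over a) (f : b ⟶ b'), IsAffineHom (P'.map f) := fun b b' f =>
      inferInstanceAs (IsAffineHom (P.map ((Over.forget a).map f)))
    haveI : CompactSpace (P'.obj (Over.mk (𝟙 a))) := inferInstanceAs (CompactSpace (P.obj a))
    obtain ⟨b, -, hb⟩ := (S4787.result P' cP' hcP' (Over.mk (𝟙 a)) (fun b => ⇑(P.map b.hom) ⁻¹' Δ) (fun _ => ∅)
      (fun b => isProConstructible (Scheme.Hom.isConstructible_preimage _ hΔ))
      (fun b x => ⟨Set.univ, isOpen_univ, trivial, ∅, by simp, by simp⟩)
      (fun b b' φ x hx => by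
        change (P.map b'.hom) ((P.map φ.left) x) ∈ Δ
        rw [← Scheme.Hom.comp_apply, ← P.map_comp, Over.w φ]
        exact hx)
      (fun _ _ _ _ h => h)).1 (by
        intro x hx
        exfalso
        have h := Set.mem_iInter.1 hx (Over.mk (𝟙 a))
        change (P.map (𝟙 a)) ((cP.π.app a) x) ∈ Δ at h
        rw [P.map_id] at h
        change (cP.π.app a) x ∈ Δ at h
        have hWx : (cP.π.app a) x ∈ W ↔ x ∈ (U : Set cP.pt) := by rw [← hWU]; rfl
        have hNx : (cP.π.app a) x ∈ N a ↔ x ∈ (U : Set cP.pt) := Set.ext_iff.1 (hNlim a) x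
        rcases h with ⟨h1, h2⟩ | ⟨h1, h2⟩
        · exact h2 (hNx.2 (hWx.1 h1))
        · exact h2 (hWx.2 (hNx.1 h1)))
    refine ⟨b.left.left, b.left.hom, ?_⟩
    haveI := hli b.left.left b.left.hom
    rw [representable_iff_isOpen, S5322.result]
    change IsOpen (N b.left)
    have he : N b.left = (P.map b.hom) ⁻¹' (W : Set (P.obj a)) := by
      rw [← hNm _ _ b.hom]
      ext x
      have hx := fun h => hb b (𝟙 b) (show x ∈ ⇑(P.map b.hom) ⁻¹' Δ from h)
      constructor
      · exact fun h1 => by_contra fun h2 => hx (Or.inr ⟨h1, h2⟩)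
      · exact fun h1 => by_contra fun h2 => hx (Or.inl ⟨h1, h2⟩)
    rw [he]
    exact W.2.preimage (P.map b.hom).continuous
  · rintro ⟨i, f, h⟩
    haveI := hli i f
    have hop := (representable_iff_isOpen _).1 h
    rw [S5322.result] at hop
    rw [← hNlim (Over.mk f)]
    exact hop.preimage (cP.π.app (Over.mk f)).continuous

end Groth.Agent.S5400
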