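import Groth.Statements.S5401
import Groth.Agent.S4787
import Groth.Agent.S5325
import Groth.Agent.S15543
import Groth.Agent.StFib.ImmersionCrit

set_option autoImplicit false
universe u
open CategoryTheory CategoryTheory.Limits MonoidalCategory CartesianMonoidalCategory MonObj GrpObj AlgebraicGeometry
open SGA3

namespace Groth.Agent.S5401

/-- Let S₀ be a scheme, (S_i) a cofiltered system of quasi-compact quasi-separated S₀-schemes with
affine transition morphisms and S its limit, and G an S₀-group scheme locally of finite presentation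
over S₀. Write G⁰(T), for an S₀-scheme T, for the set of S₀-morphisms T → G whose image lies in the
union of the neutral components of the fibres of G. Then the canonical map colim G⁰(S_i) → G⁰(S) is
surjective: every element of G⁰(S) is the restriction of an element of G⁰(S_i) for some i. (The
published statement asserts that this map is bijective; its injectivity holds for S₀-morphisms to
any scheme locally of finite type over S₀ and is not stated here. The published setting takes S₀
quasi-compact and quasi-separated and the S_i affine over S₀; this row allows any cofiltered system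
of quasi-compact quasi-separated S₀-schemes with affine transition morphisms.) -/
theorem result {I : Type u} [SmallCategory I] [IsCofiltered I]
    (D : I ⥤ Scheme.{u}) (c : Limits.Cone D) (hc : Limits.IsLimit c)
    [∀ (i i' : I) (f : i ⟶ i'), IsAffineHom (D.map f)] [∀ i, CompactSpace (D.obj i)] [∀ i, QuasiSeparatedSpace (D.obj i)]
    (S₀ : Scheme.{u}) (q : ∀ i, D.obj i ⟶ S₀) (hq : ∀ (i i' : I) (f : i ⟶ i'), D.map f ≫ q i' = q i)
    (qlim : c.pt ⟶ S₀) (hqlim : ∀ i, c.π.app i ≫ q i = qlim)
    (G : Over S₀) [GrpObj G] [LocallyOfFinitePresentation G.hom] :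
    ∀ u : c.pt ⟶ G.left, u ≫ G.hom = qlim → Set.range u.base ⊆ SGA3x.neutralSet G →
      ∃ (i : I) (ui : D.obj i ⟶ G.left), ui ≫ G.hom = q i ∧ Set.range ui.base ⊆ SGA3x.neutralSet G ∧ c.π.app i ≫ ui = u := by
  intro u hu hrange
  let t : D ⟶ (Functor.const I).obj S₀ := { app := q, naturality := fun i i' f => by simp [hq i i' f] }
  obtain ⟨i₀, g, hg, hg'⟩ := Scheme.exists_π_app_comp_eq_of_locallyOfFinitePresentation D t G.hom c hc u
    (by ext i; simp [t, hqlim i, hu])
  let D' := Over.forget i₀ ⋙ D
  let c' : Limits.Cone D' := c.whisker (Over.forget i₀)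
  have hc' : Limits.IsLimit c' := (Functor.Initial.isLimitWhiskerEquiv (Over.forget i₀) c).symm hc
  haveI : ∀ (a b : Over i₀) (f : a ⟶ b), IsAffineHom (D'.map f) := fun a b f =>
    inferInstanceAs (IsAffineHom (D.map ((Over.forget i₀).map f)))
  let a₀ : Over i₀ := Over.mk (𝟙 i₀)
  haveI : CompactSpace (D'.obj a₀) := inferInstanceAs (CompactSpace (D.obj _))
  let F : ∀ a : Over i₀, Set (D'.obj a) := fun a => (D.map a.hom ≫ g).base ⁻¹' SGA3x.neutralSet G
  have hF : ∀ a, ProCons.IsIndConstructible (F a) := fun a =>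
    Groth.Agent.S15543.result (D.map a.hom ≫ g) _ (Groth.Agent.S5325.result S₀ G).1
  have hFm : ∀ (a b : Over i₀) (φ : a ⟶ b), ⇑(D'.map φ) ⁻¹' F b ⊆ F a := by
    intro a b φ x hx
    have e : D.map ((Over.forget i₀).map φ) ≫ D.map b.hom ≫ g = D.map a.hom ≫ g := by
      rw [← Category.assoc, ← D.map_comp]
      exact congrArg (fun m => D.map m ≫ g) (Over.w φ)
    change (D.map a.hom ≫ g) x ∈ SGA3x.neutralSet G
    rw [← e]
    exact hx
  obtain ⟨a, -, ha⟩ := (Groth.Agent.S4787.result D' c' hc' a₀ (fun _ => Set.univ) F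
    (fun a x => ⟨Set.univ, isOpen_univ, trivial, ∅, by simp, by simp⟩) hF (fun a b φ x _ => trivial) hFm).1 (by
      intro x _
      refine Set.mem_iUnion.2 ⟨a₀, ?_⟩
      change (D.map (𝟙 i₀) ≫ g) ((c.π.app i₀) x) ∈ SGA3x.neutralSet G
      rw [D.map_id, Category.id_comp, ← Scheme.Hom.comp_apply, hg]
      exact hrange ⟨x, rfl⟩)
  refine ⟨a.left, D.map a.hom ≫ g, ?_, ?_, ?_⟩
  · rw [Category.assoc, hg']
    exact hq _ _ _
  · rintro _ ⟨x, rfl⟩
    exact ha a (𝟙 a) (Set.mem_univ x)
  · have hw : c.π.app a.left ≫ D.map a.hom = c.π.app i₀ := c.w a.hom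
    rw [← Category.assoc, hw, hg]

end Groth.Agent.S5401
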