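import Groth.Statements.S5402
import Groth.Agent.QSect27.Scheme
import Groth.Agent.HomogOrbit27.Fibre
import Groth.Agent.FlatMor.GenericPts

set_option autoImplicit false
universe u
open CategoryTheory CategoryTheory.Limits MonoidalCategory CartesianMonoidalCategory MonObj GrpObj AlgebraicGeometry
open SGA3

namespace Groth.Agent.S5402

open Groth.Agent.GrpScheme Groth.Agent.HomogOrbit27

/-- Universal openness on an open gives universal openness at its points. -/
lemma isUnivOpenAt_of_mem {X Y : Scheme.{u}} (f : X ⟶ Y) (W : X.Opens) (hW : UniversallyOpen (W.ι ≫ f))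
    {z : X} (hz : z ∈ W) : EGA43.IsUnivOpenAt f z := fun Y' g x' hx' => by
  have h : UniversallyOpen ((pullback.fst f g ⁻¹ᵁ W).ι ≫ pullback.snd f g) :=
    MorphismProperty.of_isPullback (P := @UniversallyOpen)
      ((isPullback_morphismRestrict (pullback.fst f g) W).flip.paste_horiz
        (IsPullback.of_hasPullback f g).flip).flip hW
  intro N hN
  let v : ↥((pullback.fst f g ⁻¹ᵁ W) : Scheme.{u}) := ⟨x', show pullback.fst f g x' ∈ W from hx'.symm ▸ hz⟩
  have h1 : (pullback.fst f g ⁻¹ᵁ W).ι ⁻¹' N ∈ nhds v :=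
    (pullback.fst f g ⁻¹ᵁ W).ι.continuous.continuousAt hN
  refine Filter.mem_of_superset (((pullback.fst f g ⁻¹ᵁ W).ι ≫ pullback.snd f g).isOpenMap.image_mem_nhds h1) ?_
  rintro _ ⟨w, hw, rfl⟩
  exact ⟨_, hw, rfl⟩

variable {S : Scheme.{u}} {G X : Over S} [GrpObj G] (a : AlgGrp.Action G X)

/-- The points of the fibre of `G` translating some point over `b` outside `U` form a closed set
without maximal points. -/
lemma exists_bad (hΦ : Surjective (lift a.act (snd G X)).left) (U : X.left.Opens) (s : S)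
    (hft : LocallyOfFiniteType (X.hom.fiberToSpecResidueField s))
    (hdense : X.hom.base ⁻¹' {s} ⊆ closure ((U : Set X.left) ∩ X.hom.base ⁻¹' {s}))
    (b : X.left) (hb : X.hom b = s)
    (hcl : IsClosed ((Subtype.val : ↥(X.hom.base ⁻¹' {s}) → X.left) ⁻¹' {b})) :
    ∃ B : Set ↥(G.hom.fiber s), IsClosed B ∧ (∀ ξ, Component.IsMaxGen ξ → ξ ∉ B) ∧
      ∀ (g : ↥(G.hom.fiber s)) (Q : (G ⊗ X).left), g ∉ B → (fst G X).left Q = G.hom.fiberι s g →
        (snd G X).left Q = b → a.act.left Q ∈ U := by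
  obtain ⟨F, hF, hFflat, hFfin⟩ := exists_toFibre' (Z := G) b hb
  have := hFfin hft hcl
  let α := (G ◁ Points.pointHom X b) ≫ a.act
  refine ⟨F '' (α.left ⁻¹' (U : Set X.left)ᶜ),
    F.isClosedMap _ (U.2.isClosed_compl.preimage α.left.continuous), ?_, fun g Q hg hQ₁ hQ₂ => ?_⟩
  · rintro _ hξ ⟨P, hP, rfl⟩
    have hPmax : Component.IsMaxGen P := fun w hw => by
      have h1 : F w = F P := hξ _ (hw.map F.continuous)
      have hd := F.isDiscrete_preimage_singleton (F P)
      haveI := isDiscrete_iff_discreteTopology.mp hd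
      have h2 : (⟨w, h1⟩ : ↥(F ⁻¹' {F P})) ⤳ ⟨P, rfl⟩ :=
        (subtype_specializes_iff (⟨w, h1⟩ : ↥(F ⁻¹' {F P})) ⟨P, rfl⟩).mpr hw
      exact congrArg Subtype.val h2.eq
    obtain ⟨F', hF', hF'flat, -⟩ := exists_toFibre' (Z := X) b hb
    have := hF'flat
    have h1 := HomogOrbit27.isMaxGen_map F' (isMaxGen_orb a hΦ b hPmax)
    have h2 : α.left P = X.hom.fiberι s (F' ((orb a b).left P)) := by
      rw [← Scheme.Hom.comp_apply F', hF']
      show α.left P = ((orb a b).left ≫ (fst X (Points.pointObj X b)).left) P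
      rw [← Over.comp_left, orb, lift_fst]
    haveI := hft
    haveI : IsLocallyNoetherian (X.hom.fiber s) :=
      LocallyOfFiniteType.isLocallyNoetherian (X.hom.fiberToSpecResidueField s)
    apply hP
    show α.left P ∈ U
    rw [h2]
    refine Groth.Agent.FlatMor.GenericPts.mem_of_dense (U := X.hom.fiberι s ⁻¹ᵁ U) ?_
      (Component.isMaxGen_iff.mp h1)
    intro w
    rw [(X.hom.fiberι s).isEmbedding.closure_eq_preimage_closure_image]
    have hw : X.hom.fiberι s w ∈ X.hom.base ⁻¹' {s} := by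
      rw [← X.hom.range_fiberι s]; exact ⟨w, rfl⟩
    refine closure_mono ?_ (hdense hw)
    rintro y ⟨hyU, hys⟩
    rw [← X.hom.range_fiberι s] at hys
    obtain ⟨y', rfl⟩ := hys
    exact ⟨y', hyU, rfl⟩
  · by_contra hU
    obtain ⟨P, hP⟩ : ∃ P : (G ⊗ Points.pointObj X b).left, (G ◁ Points.pointHom X b).left P = Q := by
      obtain ⟨P, hP, -⟩ := Scheme.exists_preimage_of_isPullback
        ((Basic.isPullback_whiskerLeft (R := G) (Points.pointHom X b)).map (Over.forget S)) Q
        (IsLocalRing.closedPoint (X.left.residueField b))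
        (hQ₂.trans (Points.pointHom_apply X b _).symm)
      exact ⟨P, hP⟩
    refine hg ⟨P, ?_, (G.hom.fiberι s).isEmbedding.injective ?_⟩
    · show α.left P ∉ U
      rw [show α.left P = a.act.left Q by rw [← hP, ← Points.comp_apply]]
      exact hU
    · rw [← Scheme.Hom.comp_apply, hF, ← hQ₁, ← hP, ← Points.comp_apply, whiskerLeft_fst]

/-- Let G be an S-group scheme locally of finite presentation over S and universally open over S on some
open containing the unit section, acting on an S-scheme X so that G ×_S X → X ×_S X, (g, x) ↦ (gx,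
x), is surjective. Let U be an open subset of X, s a point of S such that the fibre X_s is locally
of finite type over κ(s) and U ∩ X_s is dense in X_s, and A a finite set of points of X_s. Then
there are morphisms S'' → S' → S, the first finite and surjective and the second etale, with exactly
one point of S'' lying over s, and an S-morphism h : S'' → G, such that for every point z of X ×_S
S'' whose image in X lies in A, the image in X of the translate h·z lies in U. -/
theorem result (S : Scheme.{u}) (G X : Over S) [GrpObj G]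
    [LocallyOfFinitePresentation G.hom]
    (hGo : ∃ W : G.left.Opens, (∀ p : ↥(𝟙_ (Over S)).left, η[G].left.base p ∈ W) ∧ UniversallyOpen (W.ι ≫ G.hom))
    (a : AlgGrp.Action G X) (hΦ : Surjective (lift a.act (snd G X)).left)
    (U : X.left.Opens) (s : S) (hft : LocallyOfFiniteType (X.hom.fiberToSpecResidueField s))
    (hdense : X.hom.base ⁻¹' {s} ⊆ closure ((U : Set X.left) ∩ X.hom.base ⁻¹' {s}))
    (A : Set X.left) (hA : A.Finite) (hAs : A ⊆ X.hom.base ⁻¹' {s}) :
    ∃ (S' S'' : Scheme.{u}) (w : S' ⟶ S) (π : S'' ⟶ S') (h : Over.mk (π ≫ w) ⟶ G),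
      Etale w ∧ IsFinite π ∧ Surjective π ∧ (∃ s₀ : S'', (π ≫ w).base ⁻¹' {s} = {s₀}) ∧
      ∀ z : ↥(X ⊗ Over.mk (π ≫ w)).left, (fst X (Over.mk (π ≫ w))).left.base z ∈ A →
        (lift (snd X (Over.mk (π ≫ w)) ≫ h) (fst X (Over.mk (π ≫ w))) ≫ a.act).left.base z ∈ U := by
  classical
  obtain ⟨W, hWe, hWo⟩ := hGo
  haveI : LocallyOfFiniteType (G.hom.fiberToSpecResidueField s) :=
    inferInstanceAs (LocallyOfFiniteType (pullback.snd G.hom (S.fromSpecResidueField s)))
  haveI : IsLocallyNoetherian (G.hom.fiber s) :=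
    LocallyOfFiniteType.isLocallyNoetherian (G.hom.fiberToSpecResidueField s)
  haveI : JacobsonSpace (G.hom.fiber s) :=
    LocallyOfFiniteType.jacobsonSpace (G.hom.fiberToSpecResidueField s)
  haveI := hft
  haveI : JacobsonSpace (X.hom.fiber s) :=
    LocallyOfFiniteType.jacobsonSpace (X.hom.fiberToSpecResidueField s)
  -- closed points below the given points
  have hA0 : ∀ b ∈ A, ∃ b' w w' : X.left, X.hom b' = s ∧ w = b ∧ w' = b' ∧ b ⤳ b' ∧
      IsClosed ((Subtype.val : ↥(X.hom.base ⁻¹' {s}) → X.left) ⁻¹' {b'}) := fun b hb => by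
    let E := X.hom.fiberHomeo s
    let bb := E.symm ⟨b, hAs hb⟩
    obtain ⟨w, hw, hwc⟩ := nonempty_inter_closedPoints (Z := closure {bb})
      ⟨bb, subset_closure rfl⟩ isClosed_closure.isLocallyClosed
    refine ⟨(E w).1, b, (E w).1, (E w).2, rfl, rfl, ?_, ?_⟩
    · have h1 := ((specializes_iff_mem_closure.mpr hw).map E.continuous).map continuous_subtype_val
      simpa [bb] using h1
    · have : ((Subtype.val : ↥(X.hom.base ⁻¹' {s}) → X.left) ⁻¹' {(E w).1}) = E '' {w} := by
        rw [Set.image_singleton]; ext t; exact Subtype.val_injective.eq_iff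
      rw [this]
      exact E.isClosedMap _ hwc
  choose b0 w1 w2 hb0s _hw1 _hw2 hbb0 hb0c using hA0
  choose B hBc hBmax hB using fun b hb => exists_bad a hΦ U s hft hdense (b0 b hb) (hb0s b hb) (hb0c b hb)
  let Bad : Set ↥(G.hom.fiber s) := ⋃ b ∈ hA.toFinset.attach, B b.1 (hA.mem_toFinset.mp b.2)
  have hBad : IsClosed Bad := isClosed_biUnion_finset fun b _ => hBc _ _
  -- a maximal point in `W`
  have he : G.hom (η[G].left s) = s := by
    rw [← Scheme.Hom.comp_apply, Over.w]
    rfl
  let e₀ := (G.hom.fiberHomeo s).symm ⟨η[G].left s, he⟩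
  have he₀ : G.hom.fiberι s e₀ = η[G].left s :=
    congrArg Subtype.val ((G.hom.fiberHomeo s).apply_symm_apply _)
  obtain ⟨ξ, hξ, hξe⟩ := Groth.Agent.GrpScheme.Component.exists_isMaxGen e₀
  have hξW : G.hom.fiberι s ξ ∈ W :=
    (hξe.map (G.hom.fiberι s).continuous).mem_open W.2 (he₀ ▸ hWe s)
  have hξBad : ξ ∉ Bad := by
    simp only [Bad, Set.mem_iUnion, not_exists]
    exact fun b _ => hBmax _ _ ξ hξ
  obtain ⟨O, hξO, hO⟩ := exists_open_specializations ξ hξ
  let O' : Set ↥(G.hom.fiber s) := O ∩ (G.hom.fiberι s ⁻¹' W ∩ Badᶜ)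
  have hO' : IsOpen O' := O.2.inter ((W.2.preimage (G.hom.fiberι s).continuous).inter hBad.isOpen_compl)
  obtain ⟨g, ⟨hgO, hgW, hgBad⟩, hgc⟩ :=
    nonempty_inter_closedPoints (Z := O') ⟨ξ, hξO, hξW, hξBad⟩ hO'.isLocallyClosed
  let E := G.hom.fiberHomeo s
  let Z : Set ↥(G.hom.base ⁻¹' {s}) := closure {E ξ}
  letI : Preorder G.left := specializationPreorder G.left
  obtain ⟨e, hdim, hge⟩ := Groth.Agent.QSect27.exists_chain_of_component G.hom s Z isClosed_closure
    (E ξ).1 ⟨E ξ, subset_closure rfl, rfl⟩ (by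
      rintro _ ⟨w, hw, rfl⟩
      exact specializes_iff_mem_closure.mp ((specializes_iff_mem_closure.mpr hw).map continuous_subtype_val))
  obtain ⟨S', S'', _, w, π, h, hw, hπ, hπs, -, hhf, s₀, hs₀, hhs, -⟩ :=
    Groth.Agent.QSect27.exists_quasiSection G.hom s (E g).1 (E g).2
      (fun x' hx' hgx' => by
        have h1 : E g ⤳ (⟨x', hx'⟩ : ↥(G.hom.base ⁻¹' {s})) := (subtype_specializes_iff _ _).mpr hgx'
        have h2 : E.symm ⟨x', hx'⟩ ∈ ({g} : Set _) := by
          refine (show g ⤳ E.symm ⟨x', hx'⟩ from ?_).mem_closed hgc rfl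
          simpa using h1.map E.symm.continuous
        have h3 := congrArg E (Set.mem_singleton_iff.mp h2)
        simpa using congrArg Subtype.val h3)
      (E ξ).1 (E ξ).2 (((hO g hgO).map E.continuous).map continuous_subtype_val)
      (isUnivOpenAt_of_mem G.hom W hWo hξW) e
      (fun l hl hl0 => by
        have h1 : (l.length : WithBot ℕ∞) ≤ topologicalKrullDim ↥Z := by
          have hmem : ∀ i, (⟨l i, hl i⟩ : ↥(G.hom.base ⁻¹' {s})) ∈ Z := fun i => by
            have h0 : l i ⤳ (E g).1 := hl0 ▸ l.monotone (Fin.zero_le i)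
            have h2 : E.symm ⟨l i, hl i⟩ ⤳ g := by
              simpa using ((subtype_specializes_iff (⟨l i, hl i⟩ : ↥(G.hom.base ⁻¹' {s})) (E g)).mpr h0).map
                E.symm.continuous
            have h3 := (hO _ (h2.mem_open O.2 hgO)).map E.continuous
            rw [E.apply_symm_apply] at h3
            exact specializes_iff_mem_closure.mp h3
          exact Groth.Agent.QSect27.le_topologicalKrullDim (fun i => (⟨⟨l i, hl i⟩, hmem i⟩ : ↥Z))
            (fun i j hij => (subtype_specializes_iff _ _).mpr ((subtype_specializes_iff _ _).mpr (l.monotone hij)))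
            (fun i j h => l.strictMono.injective (congrArg (fun w => w.1.1) h))
        rw [hdim] at h1
        exact_mod_cast h1)
      hge
  refine ⟨S', S'', w, π, Over.homMk h hhf, hw, hπ, hπs, ⟨s₀, hs₀⟩, fun z hz => ?_⟩
  let T := Over.mk (π ≫ w)
  set b := (fst X T).left.base z with hb
  -- the point over `s`
  have hsnd : (snd X T).left z = s₀ := by
    have h1 : T.hom ((snd X T).left z) = s := by
      rw [← Scheme.Hom.comp_apply, Over.w, ← Over.w (fst X T), Scheme.Hom.comp_apply]
      exact hAs hz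
    have h2 : (snd X T).left z ∈ (π ≫ w).base ⁻¹' {s} := h1
    rwa [hs₀] at h2
  let Pz : (G ⊗ X).left := (lift (snd X T ≫ Over.homMk h hhf) (fst X T)).left z
  have hP₁ : (fst G X).left Pz = (E g).1 := by
    show (fst G X).left ((lift (snd X T ≫ Over.homMk h hhf) (fst X T)).left z) = (E g).1
    rw [← Points.comp_apply, lift_fst, Points.comp_apply, hsnd]
    exact hhs
  have hP₂ : (snd G X).left Pz = b := by
    show (snd G X).left ((lift (snd X T ≫ Over.homMk h hhf) (fst X T)).left z) = b
    rw [← Points.comp_apply, lift_snd, hb]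
  -- specialize to the closed point
  obtain ⟨P, hP⟩ : ∃ P : (Points.pointObj G (E g).1 ⊗ X).left,
      (Points.pointHom G (E g).1 ▷ X).left P = Pz := by
    obtain ⟨P, hP, -⟩ := Scheme.exists_preimage_of_isPullback
      ((HomogOrbit27.isPullback_whiskerRight (R := X) (Points.pointHom G (E g).1)).map (Over.forget S)) Pz
      (IsLocalRing.closedPoint (G.left.residueField (E g).1))
      (hP₁.trans (Points.pointHom_apply G (E g).1 _).symm)
    exact ⟨P, hP⟩
  obtain ⟨F, hF, -, hFfin⟩ := exists_toFibre (Z := X) (E g).1 (s := s) (E g).2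
  have := hFfin ‹_› (by
    have : ((Subtype.val : ↥(G.hom.base ⁻¹' {s}) → G.left) ⁻¹' {(E g).1}) = E '' {g} := by
      rw [Set.image_singleton]; ext t; exact Subtype.val_injective.eq_iff
    rw [this]
    exact E.isClosedMap _ hgc)
  let EX := X.hom.fiberHomeo s
  have hFP : X.hom.fiberι s (F P) = b := by
    rw [← Scheme.Hom.comp_apply, hF, ← hP₂, ← hP, ← Points.comp_apply, whiskerRight_snd]
  have hspec : F P ⤳ EX.symm ⟨b0 b hz, hb0s b hz⟩ := by
    rw [← (X.hom.fiberι s).isEmbedding.specializes_iff]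
    show X.hom.fiberι s (F P) ⤳ X.hom.fiberι s (EX.symm ⟨b0 b hz, hb0s b hz⟩)
    rw [hFP, show X.hom.fiberι s (EX.symm ⟨b0 b hz, hb0s b hz⟩) = b0 b hz from
      congrArg Subtype.val (EX.apply_symm_apply _)]
    exact hbb0 b hz
  obtain ⟨P₀, hPP₀, hP₀⟩ := F.isClosedMap.specializingMap hspec
  let Q := (Points.pointHom G (E g).1 ▷ X).left P₀
  have hQ₁ : (fst G X).left Q = G.hom.fiberι s g := by
    show (fst G X).left ((Points.pointHom G (E g).1 ▷ X).left P₀) = _
    rw [← Points.comp_apply, whiskerRight_fst, Points.comp_apply, Points.pointHom_apply]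
    rfl
  have hQ₂ : (snd G X).left Q = b0 b hz := by
    show (snd G X).left ((Points.pointHom G (E g).1 ▷ X).left P₀) = _
    rw [← Points.comp_apply, whiskerRight_snd, ← hF, Scheme.Hom.comp_apply, hP₀]
    exact congrArg Subtype.val (EX.apply_symm_apply _)
  have hgB : g ∉ B b hz := fun hgB => hgBad (Set.mem_iUnion₂.mpr
    ⟨⟨b, hA.mem_toFinset.mpr hz⟩, Finset.mem_attach _ _, hgB⟩)
  have hQU := hB b hz g Q hgB hQ₁ hQ₂
  have hle : Pz ⤳ Q := hP ▸ hPP₀.map (Points.pointHom G (E g).1 ▷ X).left.continuous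
  exact (hle.map a.act.left.continuous).mem_open U.2 hQU

end Groth.Agent.S5402
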