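import Groth.Statements.S5403
import Groth.Agent.HomogOrbit27.Comp

set_option autoImplicit false
universe u
open CategoryTheory CategoryTheory.Limits MonoidalCategory CartesianMonoidalCategory MonObj GrpObj AlgebraicGeometry
open SGA3

namespace Groth.Agent.S5403

/-- Let G be a group scheme over a field k (not assumed of finite type) acting on a quasi-separated
k-scheme X so that G ×_k X → X ×_k X, (g, x) ↦ (gx, x), is surjective, and let x be a k-rational
point of X and C the connected component of X containing x. Then the orbit morphism g ↦ g·x maps the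
irreducible component of G containing the unit point (the underlying set of the neutral component
G⁰) onto C, and for every field extension K of k the inverse image of C in X ⊗_k K is irreducible. -/
theorem result (k : Type u) [Field k] (G X : Over (Spec (CommRingCat.of k)))
    [GrpObj G] [QuasiSeparatedSpace X.left] (a : AlgGrp.Action G X) (hΦ : Surjective (lift a.act (snd G X)).left)
    (x : 𝟙_ (Over (Spec (CommRingCat.of k))) ⟶ X) (pt : ↥(𝟙_ (Over (Spec (CommRingCat.of k)))).left)
    (C0 : Set G.left) (hC0 : C0 ∈ irreducibleComponents ↥G.left) (he : η[G].left.base pt ∈ C0) :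
    (a.orbitMap x).left.base '' C0 = connectedComponent (x.left.base pt) ∧
    ∀ (K : Type u) [Field K] [Algebra k K],
      IsIrreducible ((pullback.fst X.hom (Spec.map (CommRingCat.ofHom (algebraMap k K)))).base ⁻¹' connectedComponent (x.left.base pt)) := by
  have hpt : pt = IsLocalRing.closedPoint k := Subsingleton.elim (α := Spec (CommRingCat.of k)) _ _
  set xp := x.left.base pt with hxp
  let Z := Groth.Agent.GrpScheme.IdComponent.zObj G
  let iZ : Z ⟶ G := Groth.Agent.GrpScheme.IdComponent.zι G
  have hC0' : C0 = Set.range iZ.left := by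
    rw [Groth.Agent.GrpScheme.IdComponent.range_zι]
    obtain ⟨C, -, huniq⟩ := Groth.Agent.GrpScheme.Component.existsUnique_component G
      (Groth.Agent.GrpScheme.IdComponent.e₀ G)
    refine (huniq C0 ⟨hC0, ?_⟩).trans (huniq _
      ⟨irreducibleComponent_mem_irreducibleComponents _, mem_irreducibleComponent⟩).symm
    subst hpt
    exact he
  let oz : Z ⟶ X := lift (𝟙 Z) (toUnit Z ≫ x) ≫ Groth.Agent.HomogOrbit27.act₀ a
  have hoz : ∀ {T : Over (Spec (CommRingCat.of k))} (g : T ⟶ Z),
      g ≫ oz = Groth.Agent.GrpScheme.Basic.smul a (g ≫ iZ) (toUnit T ≫ x) := fun {T} g => by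
    simp only [oz, iZ, comp_lift_assoc, Category.comp_id, Groth.Agent.HomogOrbit27.lift_act₀,
      Groth.Agent.GrpScheme.Basic.comp_smul, Category.id_comp]
    rw [← Category.assoc g (toUnit Z), toUnit_unique (g ≫ toUnit Z) (toUnit T)]
  have horb : ∀ {T : Over (Spec (CommRingCat.of k))} (g : T ⟶ G),
      g ≫ a.orbitMap x = Groth.Agent.GrpScheme.Basic.smul a g (toUnit T ≫ x) := fun {T} g => by
    simp only [AlgGrp.Action.orbitMap, Groth.Agent.GrpScheme.Basic.smul, comp_lift_assoc, Category.comp_id]
    rw [← Category.assoc g, toUnit_unique (g ≫ toUnit G) (toUnit T)]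
  have hiZ : iZ ≫ a.orbitMap x = oz := by
    rw [horb, ← Category.id_comp oz, hoz, Category.id_comp]
  have hxT : ∀ {T : Over (Spec (CommRingCat.of k))} (t : T.left), (toUnit T ≫ x).left t = xp :=
    fun {T} t => by
      rw [Groth.Agent.GrpScheme.Points.comp_apply, hxp]
      exact congrArg x.left (Subsingleton.elim (α := Spec (CommRingCat.of k)) _ _)
  obtain ⟨θ, hθ, hθx⟩ := Groth.Agent.GrpScheme.Component.exists_isMaxGen xp
  have hcc : connectedComponent xp = closure {θ} :=
    Groth.Agent.HomogOrbit27.connectedComponent_eq a hΦ hθ hθx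
  have hsub : Set.range oz.left ⊆ closure {θ} := by
    rintro _ ⟨v, rfl⟩
    rw [← specializes_iff_mem_closure]
    show θ ⤳ (lift (𝟙 Z) (toUnit Z ≫ x) ≫ Groth.Agent.HomogOrbit27.act₀ a).left v
    rw [Groth.Agent.GrpScheme.Points.comp_apply]
    refine Groth.Agent.HomogOrbit27.specializes_act₀ a hθ _ ?_
    rw [← Groth.Agent.GrpScheme.Points.comp_apply, lift_snd, hxT]
    exact hθx
  -- the maximal point is in the orbit
  obtain ⟨g₀, hg₀⟩ : θ ∈ Set.range oz.left := by
    obtain ⟨p, hp, hpθ⟩ := Groth.Agent.HomogOrbit27.exists_act₀_of_specializes a hΦ hθ hθx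
    let P := Groth.Agent.GrpScheme.Points.pointHom (Z ⊗ X) p
    obtain ⟨T', ⟨t⟩, π, h, e⟩ := Groth.Agent.GrpScheme.Points.exists_lift x (P ≫ snd Z X) fun s => by
      rw [Groth.Agent.GrpScheme.Points.comp_apply, Groth.Agent.GrpScheme.Points.pointHom_apply, hp]
      exact ⟨pt, rfl⟩
    refine ⟨(π ≫ P ≫ fst Z X).left t, ?_⟩
    have e' : (π ≫ P ≫ fst Z X) ≫ oz = π ≫ P ≫ Groth.Agent.HomogOrbit27.act₀ a := by
      rw [hoz, ← toUnit_unique h (toUnit T'), e, ← Groth.Agent.HomogOrbit27.lift_act₀, ← comp_lift_assoc,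
        ← comp_lift_assoc, lift_fst_snd, Category.id_comp]
    rw [← Groth.Agent.GrpScheme.Points.comp_apply, e', Groth.Agent.GrpScheme.Points.comp_apply,
      Groth.Agent.GrpScheme.Points.comp_apply, Groth.Agent.GrpScheme.Points.pointHom_apply, hpθ]
  have hsup : closure {θ} ⊆ Set.range oz.left := fun y hy => by
    obtain ⟨p, hp, hpθ⟩ := Groth.Agent.HomogOrbit27.exists_act₀_of_specializes a hΦ hθ
      (specializes_iff_mem_closure.mpr hy)
    let P := Groth.Agent.GrpScheme.Points.pointHom (Z ⊗ X) p
    obtain ⟨T', ⟨t⟩, π, h, e⟩ := Groth.Agent.GrpScheme.Points.exists_lift oz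
      (P ≫ Groth.Agent.HomogOrbit27.act₀ a) fun s => by
        rw [Groth.Agent.GrpScheme.Points.comp_apply, Groth.Agent.GrpScheme.Points.pointHom_apply, hpθ]
        exact ⟨g₀, hg₀⟩
    let g := π ≫ P ≫ fst Z X
    obtain ⟨v, hv⟩ := Groth.Agent.HomogOrbit27.inv_mul_mem_range g h t
    refine ⟨v, ?_⟩
    rw [← hiZ, Groth.Agent.GrpScheme.Points.comp_apply]
    show (a.orbitMap x).left (iZ.left v) = y
    rw [show iZ.left v = _ from hv, ← Groth.Agent.GrpScheme.Points.comp_apply, horb,
      Groth.Agent.GrpScheme.Basic.mul_smul', ← hoz, e,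
      show π ≫ P ≫ Groth.Agent.HomogOrbit27.act₀ a = Groth.Agent.GrpScheme.Basic.smul a (g ≫ iZ)
          (π ≫ P ≫ snd Z X) by
        rw [← Groth.Agent.HomogOrbit27.lift_act₀, ← comp_lift_assoc,
          ← comp_lift_assoc, lift_fst_snd, Category.id_comp],
      Groth.Agent.GrpScheme.Basic.inv_smul_smul', Groth.Agent.GrpScheme.Points.comp_apply,
      Groth.Agent.GrpScheme.Points.comp_apply, Groth.Agent.GrpScheme.Points.pointHom_apply, hp]
  have hrange : Set.range oz.left = connectedComponent xp := hcc ▸ hsub.antisymm hsup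
  refine ⟨?_, fun K _ _ => ?_⟩
  · rw [hC0', ← hrange]
    ext y
    constructor
    · rintro ⟨_, ⟨v, rfl⟩, rfl⟩
      exact ⟨v, by rw [← hiZ, Groth.Agent.GrpScheme.Points.comp_apply]⟩
    · rintro ⟨v, rfl⟩
      exact ⟨_, ⟨v, rfl⟩, by rw [← hiZ, Groth.Agent.GrpScheme.Points.comp_apply]⟩
  · let sp := Spec.map (CommRingCat.ofHom (algebraMap k K))
    haveI : IrreducibleSpace ↥(Spec (CommRingCat.of K)) :=
      Groth.Agent.GrpScheme.IdComponent.irreducibleSpace_of_subsingleton
    haveI : IrreducibleSpace ↥(pullback Z.hom sp) :=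
      inferInstanceAs (IrreducibleSpace ↥(pullback Z.hom sp))
    let m : pullback Z.hom sp ⟶ pullback X.hom sp :=
      pullback.map _ _ _ _ oz.left (𝟙 _) (𝟙 _) (by simp) (by simp)
    have hm : IsPullback m (pullback.fst Z.hom sp) (pullback.fst X.hom sp) oz.left := by
      refine IsPullback.of_right ?_ (pullback.lift_fst _ _ _) (IsPullback.of_hasPullback X.hom sp).flip
      have h1 : m ≫ pullback.snd X.hom sp = pullback.snd Z.hom sp :=
        (pullback.lift_snd _ _ _).trans (Category.comp_id _)
      rw [h1, Over.w oz]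
      exact (IsPullback.of_hasPullback Z.hom sp).flip
    have hpre : (pullback.fst X.hom sp).base ⁻¹' connectedComponent xp = Set.range m := by
      ext w
      constructor
      · intro hw
        rw [Set.mem_preimage, ← hrange] at hw
        obtain ⟨v, hv⟩ := hw
        obtain ⟨w', hw', -⟩ := Scheme.exists_preimage_of_isPullback hm w v hv.symm
        exact ⟨w', hw'⟩
      · rintro ⟨w', rfl⟩
        rw [Set.mem_preimage, ← hrange]
        exact ⟨pullback.fst Z.hom sp w', by rw [← Scheme.Hom.comp_apply, ← hm.w, Scheme.Hom.comp_apply]⟩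
    rw [hpre, ← Set.image_univ]
    exact (IrreducibleSpace.isIrreducible_univ _).image m m.continuous.continuousOn

end Groth.Agent.S5403
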