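import Groth.Statements.S5414
import Groth.Agent.AlgSpCov.QCImmDescent
import Mathlib.AlgebraicGeometry.ZariskisMainTheorem
-- import your own Groth.Agent.* helpers here

set_option autoImplicit false
universe u
open CategoryTheory MonoidalCategory CartesianMonoidalCategory MonObj GrpObj AlgebraicGeometry CategoryTheory.Limits
open SGA3x

namespace Groth.Agent.S5414

section
open AlgebraicGeometry CategoryTheory CategoryTheory.Limits TopologicalSpace

theorem isAffine_of_isClosed_range {X W : Scheme.{u}} [IsAffine W] (i : X ⟶ W) [IsOpenImmersion i]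
    (h : IsClosed (Set.range i)) : IsAffine X := by
  haveI : IsClosedImmersion i := IsClosedImmersion.of_isPreimmersion i h
  exact isAffine_of_isAffineHom i

set_option backward.isDefEq.respectTransparency false in
theorem isAffineHom_openImmersion (S : Scheme.{u}) [IsLocallyNoetherian S]
    (hdim : topologicalKrullDim ↥S ≤ 1) {X N : Scheme.{u}} (π : N ⟶ S) (j : X ⟶ N) [IsOpenImmersion j]
    [QuasiCompact j]
    (hA : ∀ (s : S) (z : N), π z = s → z ∈ closure (Set.range j ∩ π ⁻¹' {s}) → z ∈ Set.range j) :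
    IsAffineHom j := by
  classical
  refine IsZariskiLocalAtTarget.of_forall_exists_morphismRestrict (P := @IsAffineHom.{u}) fun z => ?_
  by_cases hz : z ∈ Set.range j
  · obtain ⟨W, hW, hzW, hWr⟩ := exists_isAffineOpen_mem_and_subset (X := N) (x := z) (U := j.opensRange) hz
    refine ⟨W, hzW, ?_⟩
    haveI : Surjective (j ∣_ W) := ⟨fun w => by
      obtain ⟨x, hx⟩ := hWr w.2
      let x' : (j ⁻¹ᵁ W).toScheme := ⟨x, show j x ∈ W by rw [hx]; exact w.2⟩
      exact ⟨x', Subtype.ext ((congrArg (fun k : (j ⁻¹ᵁ W).toScheme ⟶ N => k x') (morphismRestrict_ι j W)).trans hx)⟩⟩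
    haveI : Epi (j ∣_ W).base := (TopCat.epi_iff_surjective _).mpr (j ∣_ W).surjective
    haveI : IsIso (j ∣_ W) := IsOpenImmersion.isIso _
    infer_instance
  obtain ⟨V, hV, hsV, -⟩ := exists_isAffineOpen_mem_and_subset (X := S) (x := π z) (U := ⊤) trivial
  haveI : IsNoetherianRing Γ(S, V) := IsLocallyNoetherian.component_noetherian ⟨V, hV⟩
  have hR : ringKrullDim Γ(S, V) ≤ 1 := by
    rw [← PrimeSpectrum.topologicalKrullDim_eq_ringKrullDim]
    exact (hV.fromSpec.isOpenEmbedding.isInducing.topologicalKrullDim_le).trans hdim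
  let p := hV.primeIdealOf ⟨π z, hsV⟩
  have hp : hV.fromSpec p = π z := hV.fromSpec_primeIdealOf _
  obtain ⟨W₀, hW₀, hzW₀, hW₀V⟩ := exists_isAffineOpen_mem_and_subset (X := N) (x := z) (U := π ⁻¹ᵁ V) hsV
  haveI : CompactSpace (j ⁻¹ᵁ W₀).toScheme :=
    isCompact_iff_compactSpace.mp (j.isCompact_preimage hW₀.isCompact)
  haveI : IsAffine W₀.toScheme := hW₀
  have hspec : ∀ y : N, y ∈ W₀ → y ∈ closure (Set.range j) → ∃ x, j x ∈ W₀ ∧ j x ⤳ y := by
    intro y hy hcl
    have h : (⟨y, hy⟩ : W₀.toScheme) ∈ closure (Set.range (j ∣_ W₀)) := by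
      rw [W₀.ι.isOpenEmbedding.isInducing.closure_eq_preimage_closure_image]
      refine closure_mono ?_ (W₀.2.inter_closure ⟨hy, hcl⟩)
      rintro _ ⟨hw, x, rfl⟩
      exact ⟨(j ∣_ W₀) ⟨x, hw⟩, ⟨_, rfl⟩, congrArg (fun k => k ⟨x, hw⟩) (morphismRestrict_ι j W₀)⟩
    obtain ⟨x, hx⟩ := AlgSpCov.exists_specializes_of_mem_closure_range (j ∣_ W₀) h
    have e : ((j ∣_ W₀) x).1 = j x.1 := congrArg (fun k => k x) (morphismRestrict_ι j W₀)
    exact ⟨x.1, x.2, e ▸ hx.map W₀.ι.continuous⟩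
  have hgen : ∀ q : PrimeSpectrum Γ(S, V), q.asIdeal ∈ minimalPrimes Γ(S, V) → ∀ y : N, y ∈ W₀ →
      π y = hV.fromSpec q → y ∈ closure (Set.range j) → y ∈ Set.range j := by
    intro q hq y hy hyq hcl
    obtain ⟨x, hxW, hx⟩ := hspec y hy hcl
    refine hA _ y rfl ?_
    obtain ⟨q', hq'⟩ : π (j x) ∈ Set.range hV.fromSpec := by rw [hV.range_fromSpec]; exact hW₀V hxW
    have h1 : (q' : Spec Γ(S, V)) ⤳ (q : Spec Γ(S, V)) :=
      hV.fromSpec.isOpenEmbedding.isInducing.specializes_iff.mp (by rw [hq', ← hyq]; exact hx.map π.continuous)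
    have h2 : q' = q := PrimeSpectrum.ext (le_antisymm ((PrimeSpectrum.le_iff_specializes q' q).mpr h1)
      (hq.2 ⟨q'.isPrime, bot_le⟩ ((PrimeSpectrum.le_iff_specializes q' q).mpr h1)))
    refine closure_mono ?_ (specializes_iff_mem_closure.mp hx)
    refine Set.singleton_subset_iff.mpr ⟨⟨x, rfl⟩, ?_⟩
    show π (j x) ∈ ({π y} : Set S)
    rw [← hq', h2, ← hyq]; rfl
  have hdim' : ∀ q : PrimeSpectrum Γ(S, V), q.asIdeal ∈ minimalPrimes Γ(S, V) ∨ q.asIdeal.IsMaximal := by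
    haveI : Ring.KrullDimLE 1 Γ(S, V) := Ring.krullDimLE_iff.mpr (by simpa using hR)
    intro q
    rcases Ring.krullDimLE_one_iff.mp ‹_› q.asIdeal q.isPrime with h | h
    · exact Or.inl h
    · exact Or.inr h
  rcases hdim' p with hpmin | hpmax
  · have hncl : z ∉ closure (Set.range j) := fun h => hz (hgen p hpmin z hzW₀ hp.symm h)
    obtain ⟨W, hW, hzW, hWsub⟩ := exists_isAffineOpen_mem_and_subset (X := N) (x := z)
      (U := ⟨_, (isClosed_closure (s := Set.range j)).isOpen_compl⟩) hncl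
    refine ⟨W, hzW, ?_⟩
    haveI : IsAffine W.toScheme := hW
    haveI : IsEmpty (j ⁻¹ᵁ W).toScheme := ⟨fun x => hWsub x.2 (subset_closure ⟨x.1, rfl⟩)⟩
    exact isAffineHom_of_isAffine _
  by_cases hpmin : p.asIdeal ∈ minimalPrimes Γ(S, V)
  · have hncl : z ∉ closure (Set.range j) := fun h => hz (hgen p hpmin z hzW₀ hp.symm h)
    obtain ⟨W, hW, hzW, hWsub⟩ := exists_isAffineOpen_mem_and_subset (X := N) (x := z)
      (U := ⟨_, (isClosed_closure (s := Set.range j)).isOpen_compl⟩) hncl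
    refine ⟨W, hzW, ?_⟩
    haveI : IsAffine W.toScheme := hW
    haveI : IsEmpty (j ⁻¹ᵁ W).toScheme := ⟨fun x => hWsub x.2 (subset_closure ⟨x.1, rfl⟩)⟩
    exact isAffineHom_of_isAffine _
  have hfin := minimalPrimes.finite_of_isNoetherianRing Γ(S, V)
  obtain ⟨a, hap, ha⟩ : ∃ a ∈ p.asIdeal, ∀ q ∈ minimalPrimes Γ(S, V), a ∉ q := by
    by_contra hne
    simp only [not_exists, not_and, not_forall, not_not, exists_prop] at hne
    have hsub : (p.asIdeal : Set Γ(S, V)) ⊆ ⋃ q ∈ (hfin.toFinset : Set (Ideal Γ(S, V))), (q : Set Γ(S, V)) := by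
      intro a ha
      obtain ⟨q, hq, haq⟩ := hne a ha
      exact Set.mem_biUnion (by simpa using hq) haq
    obtain ⟨q, hq, hle⟩ := (Ideal.subset_union_prime (f := fun q : Ideal Γ(S, V) => q) ⊥ ⊥
      (fun q hq _ _ => (hfin.mem_toFinset.mp hq).1.1)).mp hsub
    exact hpmin (by
      have hq' := hfin.mem_toFinset.mp hq
      have : p.asIdeal = q := le_antisymm hle (hq'.2 ⟨p.isPrime, bot_le⟩ hle)
      rw [this]; exact hq')
  let ρ : Γ(S, V) →+* Γ(N, W₀) := (π.appLE V W₀ hW₀V).hom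
  obtain ⟨I, hI⟩ : ∃ I : Ideal Γ(N, W₀), hW₀.fromSpec ⁻¹' (closure (Set.range j) ∩ (Set.range j)ᶜ) =
      PrimeSpectrum.zeroLocus (I : Set Γ(N, W₀)) := by
    refine (PrimeSpectrum.isClosed_iff_zeroLocus_ideal _).mp ?_
    exact (isClosed_closure.inter j.opensRange.2.isClosed_compl).preimage hW₀.fromSpec.continuous
  have hcover : ∀ m : PrimeSpectrum Γ(S, V), m.asIdeal ∈ minimalPrimes Γ(S, V) → ∃ c, c ∉ m.asIdeal ∧ ρ c ∈ I := by
    intro m hm
    by_contra hno
    have hdisj : Disjoint (I : Set Γ(N, W₀)) (Submonoid.map ρ m.asIdeal.primeCompl : Set Γ(N, W₀)) := by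
      rw [Set.disjoint_right]
      rintro _ ⟨c, hc, rfl⟩ hcI
      exact hno ⟨c, hc, hcI⟩
    obtain ⟨P, hP, hIP, hPd⟩ := Ideal.exists_le_prime_disjoint I _ hdisj
    let P' : PrimeSpectrum Γ(N, W₀) := ⟨P, hP⟩
    have hle : (P.comap ρ) ≤ m.asIdeal := fun c hc => by
      by_contra hcm
      exact Set.disjoint_left.mp hPd hc ⟨c, hcm, rfl⟩
    have heq : (Spec.map (π.appLE V W₀ hW₀V)) P' = m :=
      PrimeSpectrum.ext (le_antisymm hle (hm.2 ⟨Ideal.IsPrime.comap ρ, bot_le⟩ hle))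
    have hπP : π (hW₀.fromSpec P') = hV.fromSpec m := by
      have h0 : hV.fromSpec ((Spec.map (π.appLE V W₀ hW₀V)) P') = π (hW₀.fromSpec P') :=
        congrArg (fun k : Spec Γ(N, W₀) ⟶ S => k P') (IsAffineOpen.SpecMap_appLE_fromSpec π hV hW₀ hW₀V)
      rw [← h0, heq]
    have hmem' : P' ∈ PrimeSpectrum.zeroLocus (I : Set Γ(N, W₀)) := hIP
    rw [← hI] at hmem'
    exact hmem'.2 (hgen m hm _ (by rw [← SetLike.mem_coe, ← hW₀.range_fromSpec]; exact ⟨_, rfl⟩) hπP hmem'.1)
  choose! c₀ hc₀ hc₀I using hcover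
  have hfinA : {q : PrimeSpectrum Γ(S, V) | a ∈ q.asIdeal ∨
      ∀ m : PrimeSpectrum Γ(S, V), m.asIdeal ∈ minimalPrimes Γ(S, V) → c₀ m ∈ q.asIdeal}.Finite := by
    rw [Set.setOf_or]
    refine Set.Finite.union ?_ ?_
    swap
    · let J := Ideal.span (c₀ '' {m : PrimeSpectrum Γ(S, V) | m.asIdeal ∈ minimalPrimes Γ(S, V)})
      refine Set.Finite.of_finite_image (f := PrimeSpectrum.asIdeal) ?_ (fun q _ q' _ h => PrimeSpectrum.ext h)
      refine (Ideal.finite_minimalPrimes_of_isNoetherianRing Γ(S, V) J).subset ?_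
      rintro _ ⟨q, hq, rfl⟩
      have hJq : J ≤ q.asIdeal := Ideal.span_le.mpr (by rintro _ ⟨m, hm, rfl⟩; exact hq m hm)
      refine ⟨⟨q.isPrime, hJq⟩, fun I' hI' hle => ?_⟩
      rcases hdim' ⟨I', hI'.1⟩ with h | h
      · exact absurd (hI'.2 (Ideal.subset_span ⟨⟨I', hI'.1⟩, h, rfl⟩)) (hc₀ ⟨I', hI'.1⟩ h)
      · exact (h.eq_of_le q.isPrime.ne_top hle).ge
    refine Set.Finite.of_finite_image (f := PrimeSpectrum.asIdeal) ?_ (fun q _ q' _ h => PrimeSpectrum.ext h)
    refine (Ideal.finite_minimalPrimes_of_isNoetherianRing Γ(S, V) (Ideal.span {a})).subset ?_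
    rintro _ ⟨q, hq, rfl⟩
    refine ⟨⟨q.isPrime, (Ideal.span_singleton_le_iff_mem _).mpr hq⟩, fun I hI hle => ?_⟩
    rcases hdim' ⟨I, hI.1⟩ with h | h
    · exact absurd (hI.2 (Ideal.mem_span_singleton_self a)) (ha I h)
    · exact (h.eq_of_le q.isPrime.ne_top hle).ge
  obtain ⟨g, hgp, hg⟩ : ∃ g, g ∉ p.asIdeal ∧ ∀ q : PrimeSpectrum Γ(S, V), (a ∈ q.asIdeal ∨
      ∀ m : PrimeSpectrum Γ(S, V), m.asIdeal ∈ minimalPrimes Γ(S, V) → c₀ m ∈ q.asIdeal) → q ≠ p → g ∈ q.asIdeal := by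
    let T := hfinA.toFinset.filter (· ≠ p)
    have hnot : ∀ q ∈ T, ∃ g, g ∈ q.asIdeal ∧ g ∉ p.asIdeal := by
      intro q hq
      obtain ⟨hqA, hqp⟩ := Finset.mem_filter.mp hq
      rcases hdim' q with h | h
      · rcases hfinA.mem_toFinset.mp hqA with hqa | hqc
        · exact absurd hqa (ha _ h)
        · exact absurd (hqc q h) (hc₀ q h)
      · exact Set.not_subset.mp fun hle => hqp (PrimeSpectrum.ext (h.eq_of_le p.isPrime.ne_top hle))
    choose! c hc hcp using hnot
    refine ⟨∏ q ∈ T, c q, fun h => ?_, fun q hqa hqp => ?_⟩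
    · obtain ⟨q, hq, hcq⟩ := p.isPrime.prod_mem_iff.mp h
      exact hcp q hq hcq
    · exact q.asIdeal.mem_of_dvd (Finset.dvd_prod_of_mem c (Finset.mem_filter.mpr ⟨hfinA.mem_toFinset.mpr hqa, hqp⟩))
        (hc q (Finset.mem_filter.mpr ⟨hfinA.mem_toFinset.mpr hqa, hqp⟩))
  have hbasic : ∀ (b : Γ(S, V)) (q : PrimeSpectrum Γ(S, V)), hV.fromSpec q ∈ S.basicOpen b ↔ b ∉ q.asIdeal := by
    intro b q
    show q ∈ hV.fromSpec ⁻¹ᵁ S.basicOpen b ↔ _
    rw [hV.fromSpec_preimage_basicOpen b]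
    exact PrimeSpectrum.mem_basicOpen b q
  have hzg : π z ∈ S.basicOpen g := hp ▸ (hbasic g p).mpr hgp
  have hncl : z ∉ closure (Set.range j ∩ π ⁻¹' {π z}) := fun h => hz (hA _ z rfl h)
  obtain ⟨W, hW, hzW, hWsub⟩ := exists_isAffineOpen_mem_and_subset (X := N) (x := z)
    (U := W₀ ⊓ (π ⁻¹ᵁ S.basicOpen g) ⊓ ⟨_, (isClosed_closure (s := Set.range j ∩ π ⁻¹' {π z})).isOpen_compl⟩)
    ⟨⟨hzW₀, hzg⟩, hncl⟩
  refine ⟨W, hzW, ?_⟩
  haveI : IsAffine W.toScheme := hW
  have hWV : W ≤ π ⁻¹ᵁ V := fun w hw => hW₀V (hWsub hw).1.1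
  let b := (π.appLE V W hWV).hom a
  let Wa := N.basicOpen b
  have hWa : (Wa : Set N) = (W : Set N) ∩ π ⁻¹' (S.basicOpen a : Set S) := by
    have : Wa = W ⊓ π ⁻¹ᵁ S.basicOpen a := by
      simp only [Wa, b, Scheme.Hom.appLE, CommRingCat.comp_apply]
      rw [Scheme.basicOpen_res, Scheme.preimage_basicOpen]
    rw [this]
    try rfl
  haveI : IsAffine Wa.toScheme := hW.basicOpen b
  have hmem : ∀ y ∈ W, ∀ q, hV.fromSpec q = π y → (y ∈ Wa ↔ a ∉ q.asIdeal) := by
    intro y hy q hq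
    rw [← SetLike.mem_coe, hWa, ← hbasic a q, hq]
    exact ⟨fun h => h.2, fun h => ⟨hy, h⟩⟩
  have hXW : j ⁻¹ᵁ W = j ⁻¹ᵁ Wa := by
    refine le_antisymm (fun x hx => ?_) (fun x hx => N.basicOpen_le b hx)
    obtain ⟨q, hq⟩ : π (j x) ∈ Set.range hV.fromSpec := by rw [hV.range_fromSpec]; exact hWV hx
    refine (hmem (j x) hx q hq).mpr fun hqa => ?_
    have hqg : g ∉ q.asIdeal := (hbasic g q).mp (hq ▸ (hWsub hx).1.2)
    have hqp : q = p := by_contra fun h => hqg (hg q (Or.inl hqa) h)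
    exact (hWsub hx).2 (subset_closure ⟨⟨x, rfl⟩, by rw [Set.mem_preimage, ← hq, hqp, hp]; rfl⟩)
  haveI : IsAffine (j ⁻¹ᵁ Wa).toScheme := by
    refine isAffine_of_isClosed_range (j ∣_ Wa) ?_
    refine isClosed_of_closure_subset fun y hy => ?_
    have hyW : y.1 ∈ W := N.basicOpen_le b y.2
    have hcl : y.1 ∈ closure (Set.range j) := by
      refine closure_mono ?_ (image_closure_subset_closure_image Wa.ι.continuous ⟨y, hy, rfl⟩)
      rintro _ ⟨_, ⟨x, rfl⟩, rfl⟩
      exact ⟨x.1, (congrArg (fun k => k x) (morphismRestrict_ι j Wa)).symm⟩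
    obtain ⟨q, hq⟩ : π y.1 ∈ Set.range hV.fromSpec := by rw [hV.range_fromSpec]; exact hWV hyW
    have hqa : a ∉ q.asIdeal := (hmem y.1 hyW q hq).mp y.2
    have hqg : g ∉ q.asIdeal := (hbasic g q).mp (hq ▸ (hWsub hyW).1.2)
    obtain ⟨x, hx⟩ : y.1 ∈ Set.range j := by
      by_contra hyr
      obtain ⟨P', hP'⟩ : y.1 ∈ Set.range hW₀.fromSpec := by
        rw [hW₀.range_fromSpec]; exact (hWsub hyW).1.1
      have hPI : P' ∈ PrimeSpectrum.zeroLocus (I : Set Γ(N, W₀)) := by
        rw [← hI]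
        show hW₀.fromSpec P' ∈ closure (Set.range j) ∧ hW₀.fromSpec P' ∈ (Set.range j)ᶜ
        rw [hP']
        exact ⟨hcl, hyr⟩
      have hqP : Spec.map (π.appLE V W₀ hW₀V) P' = q := by
        refine hV.fromSpec.isOpenEmbedding.injective ?_
        have h0 : hV.fromSpec ((Spec.map (π.appLE V W₀ hW₀V)) P') = π (hW₀.fromSpec P') :=
          congrArg (fun k : Spec Γ(N, W₀) ⟶ S => k P') (IsAffineOpen.SpecMap_appLE_fromSpec π hV hW₀ hW₀V)
        rw [h0, hP', hq]
      refine hqg (hg q (Or.inr fun m hm => ?_) fun h => hqa (h ▸ hap))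
      rw [← hqP]
      exact hPI (hc₀I m hm)
    refine ⟨⟨x, show j x ∈ Wa by rw [hx]; exact y.2⟩, Subtype.ext ?_⟩
    exact (congrArg (fun k : (j ⁻¹ᵁ Wa).toScheme ⟶ N => k ⟨x, show j x ∈ Wa by rw [hx]; exact y.2⟩) (morphismRestrict_ι j Wa)).trans hx
  haveI : IsAffine (j ⁻¹ᵁ W).toScheme := by rw [hXW]; infer_instance
  exact isAffineHom_of_isAffine _

end

/-- Let S be a locally Noetherian scheme of dimension at most 1, X and Y two S-schemes locally of finite
type over S and u : X → Y an S-morphism which is quasi-finite (quasi-compact, locally quasi-finite)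
and separated. Suppose that for every point s of S the morphism u_s : X_s → Y_s induced on the
fibres over s is finite. Then u is affine. (The published statement takes S of dimension 1; this row
allows dimension at most 1, which its proof covers.) -/
theorem result (S : Scheme.{u}) [IsLocallyNoetherian S] (hdim : topologicalKrullDim ↥S ≤ 1)
    (X Y : Over S) [LocallyOfFiniteType X.hom] [LocallyOfFiniteType Y.hom] (u : X ⟶ Y)
    [QuasiCompact u.left] [LocallyQuasiFinite u.left] [IsSeparated u.left]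
    (hfin : ∀ s : S, IsFinite ((Over.pullback (S.fromSpecResidueField s)).map u).left) :
    IsAffineHom u.left := by
  haveI : LocallyOfFiniteType u.left := by
    haveI : LocallyOfFiniteType (u.left ≫ Y.hom) := by rw [Over.w u]; infer_instance
    exact locallyOfFiniteType_of_comp u.left Y.hom
  let j := u.left.toNormalization
  let v := u.left.fromNormalization
  have hjv : j ≫ v = u.left := u.left.toNormalization_fromNormalization
  haveI : QuasiCompact j := by
    haveI : QuasiCompact (j ≫ v) := by rw [hjv]; infer_instance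
    exact QuasiCompact.of_comp j v
  let π := v ≫ Y.hom
  have hjπ : j ≫ π = X.hom := by
    show j ≫ v ≫ Y.hom = X.hom
    rw [reassoc_of% hjv, Over.w u]
  suffices IsAffineHom j by rw [← hjv]; infer_instance
  refine isAffineHom_openImmersion S hdim π j fun s z hzs hcl => ?_
  let fs := S.fromSpecResidueField s
  let m : pullback X.hom fs ⟶ pullback π fs :=
    pullback.lift (pullback.fst X.hom fs ≫ j) (pullback.snd X.hom fs)
      (by rw [Category.assoc, hjπ, pullback.condition])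
  let v' : pullback π fs ⟶ pullback Y.hom fs :=
    pullback.lift (pullback.fst π fs ≫ v) (pullback.snd π fs)
      (by rw [Category.assoc]; exact pullback.condition)
  haveI : IsFinite (m ≫ v') := by
    have e : m ≫ v' = ((Over.pullback fs).map u).left := by
      have e1 : v' ≫ pullback.fst Y.hom fs = pullback.fst π fs ≫ v := pullback.lift_fst _ _ _
      have e2 : v' ≫ pullback.snd Y.hom fs = pullback.snd π fs := pullback.lift_snd _ _ _
      have e3 : m ≫ pullback.fst π fs = pullback.fst X.hom fs ≫ j := pullback.lift_fst _ _ _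
      have e4 : m ≫ pullback.snd π fs = pullback.snd X.hom fs := pullback.lift_snd _ _ _
      refine pullback.hom_ext (Eq.trans ?_ (pullback.lift_fst _ _ _).symm) (Eq.trans ?_ (pullback.lift_snd _ _ _).symm)
      · rw [Category.assoc, e1, ← Category.assoc, e3, Category.assoc, hjv]
      · rw [Category.assoc, e2, e4]
    rw [e]; exact hfin s
  haveI : IsSeparated v' := by
    haveI : IsSeparated (v' ≫ pullback.fst Y.hom fs) := by
      rw [pullback.lift_fst]; infer_instance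
    exact IsSeparated.of_comp v' (pullback.fst Y.hom fs)
  haveI : UniversallyClosed m := UniversallyClosed.of_comp_of_isSeparated m v'
  have hC : IsClosed (Set.range m) := m.isClosedMap.isClosed_range
  obtain ⟨z', rfl⟩ : z ∈ Set.range (pullback.fst π fs) := by
    rw [Scheme.Pullback.range_fst, Scheme.range_fromSpecResidueField]; exact hzs
  have hz' : z' ∈ closure (Set.range m) := by
    rw [(pullback.fst π fs).isEmbedding.isInducing.closure_eq_preimage_closure_image]
    refine closure_mono ?_ hcl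
    rintro _ ⟨⟨x, rfl⟩, hx⟩
    obtain ⟨x', hx'⟩ : x ∈ Set.range (pullback.fst X.hom fs) := by
      rw [Scheme.Pullback.range_fst, Scheme.range_fromSpecResidueField]
      show X.hom x = s
      rw [← hjπ]
      exact hx
    refine ⟨m x', ⟨x', rfl⟩, ?_⟩
    rw [← Scheme.Hom.comp_apply, pullback.lift_fst, Scheme.Hom.comp_apply, hx']
  rw [hC.closure_eq] at hz'
  obtain ⟨x', rfl⟩ := hz'
  exact ⟨pullback.fst X.hom fs x', by rw [← Scheme.Hom.comp_apply, ← Scheme.Hom.comp_apply, pullback.lift_fst]⟩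

end Groth.Agent.S5414
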