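import Groth.Statements.S5415
import Groth.Agent.FpqcDesc.Props

set_option autoImplicit false
universe u
open CategoryTheory MonoidalCategory CartesianMonoidalCategory MonObj GrpObj AlgebraicGeometry CategoryTheory.Limits
open SGA3x

namespace Groth.Agent.S5415

set_option backward.isDefEq.respectTransparency.types false

lemma isPullback_whiskerRight {S : Scheme.{u}} {A B C : Over S} (f : A ⟶ B) :
    IsPullback (fst A C) (f ▷ C) f (fst B C) := by
  have hw : fst A C ≫ f = (f ▷ C) ≫ fst B C := (whiskerRight_fst _ _).symm
  refine ⟨⟨hw⟩, ⟨PullbackCone.IsLimit.mk hw (fun s => lift s.fst (s.snd ≫ snd B C))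
    (fun s => lift_fst _ _) (fun s => ?_) (fun s m h₁ h₂ => ?_)⟩⟩
  · apply CartesianMonoidalCategory.hom_ext
    · rw [Category.assoc, whiskerRight_fst, lift_fst_assoc, s.condition]
    · rw [Category.assoc, whiskerRight_snd, lift_snd]
  · apply CartesianMonoidalCategory.hom_ext
    · rw [h₁, lift_fst]
    · rw [lift_snd, ← h₂, Category.assoc, whiskerRight_snd]

lemma isPullback_whiskerLeft {S : Scheme.{u}} {A B C : Over S} (f : A ⟶ B) :
    IsPullback (snd C A) (C ◁ f) f (snd C B) := by
  have hw : snd C A ≫ f = (C ◁ f) ≫ snd C B := (whiskerLeft_snd _ _).symm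
  refine ⟨⟨hw⟩, ⟨PullbackCone.IsLimit.mk hw (fun s => lift (s.snd ≫ fst C B) s.fst)
    (fun s => lift_snd _ _) (fun s => ?_) (fun s m h₁ h₂ => ?_)⟩⟩
  · apply CartesianMonoidalCategory.hom_ext
    · rw [Category.assoc, whiskerLeft_fst, lift_fst]
    · rw [Category.assoc, whiskerLeft_snd, lift_snd_assoc, s.condition]
  · apply CartesianMonoidalCategory.hom_ext
    · rw [lift_fst, ← h₂, Category.assoc, whiskerLeft_fst]
    · rw [h₁, lift_snd]

/-- Let G be an S-group scheme of finite presentation over S, p : G → G'' a homomorphism which is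
surjective, flat and locally of finite presentation onto an S-group scheme G'' proper and of finite
presentation over S, and i : G' → G its kernel, with G' flat and of finite presentation over S. Let
H be an S-group scheme which is of finite presentation over S, or locally of finite presentation
over a locally Noetherian S, and u : G → H a homomorphism. If the restriction u ∘ i of u to G' is
proper, then u is proper. -/
theorem result (S : Scheme.{u}) (G G' G'' : Over S) [GrpObj G] [GrpObj G'] [GrpObj G'']
    [QuasiCompact G.hom] [QuasiSeparated G.hom] [LocallyOfFinitePresentation G.hom]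
    [IsProper G''.hom] [LocallyOfFinitePresentation G''.hom]
    [Flat G'.hom] [QuasiCompact G'.hom] [QuasiSeparated G'.hom] [LocallyOfFinitePresentation G'.hom]
    (p : G ⟶ G'') [IsMonHom p] [Surjective p.left] [Flat p.left] [LocallyOfFinitePresentation p.left]
    (i : G' ⟶ G) [IsMonHom i] (hker : AlgGrp.IsKernel i p)
    (H : Over S) [GrpObj H] [LocallyOfFinitePresentation H.hom]
    (hH : (QuasiCompact H.hom ∧ QuasiSeparated H.hom) ∨ IsLocallyNoetherian S)
    (u : G ⟶ H) [IsMonHom u] (hu : IsProper (i ≫ u).left) : IsProper u.left := by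
  let f : G ⟶ H ⊗ G'' := lift u p
  let m : G' ⊗ G ⟶ G := (fst G' G ≫ i) * snd G' G
  let r : G' ⊗ G ⟶ H ⊗ G := lift ((fst G' G ≫ i ≫ u) * (snd G' G ≫ u)) (snd G' G)
  have hη : IsPullback i (toUnit G') p η[G''] := hker
  have : Mono i := ⟨fun a b h => hη.hom_ext h (toUnit_unique _ _)⟩
  have hip : i ≫ p = 1 := by rw [Hom.one_def]; exact hker.w
  have hw : m ≫ f = r ≫ (H ◁ p) := by
    apply CartesianMonoidalCategory.hom_ext
    · simp only [f, r, Category.assoc, lift_fst, whiskerLeft_fst]
      simp only [m, MonObj.mul_comp, Category.assoc]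
    · simp only [f, r, Category.assoc, lift_snd, whiskerLeft_snd, lift_snd_assoc]
      simp only [m, MonObj.mul_comp, Category.assoc, hip, MonObj.comp_one, _root_.one_mul]
  have sq : IsPullback m r f (H ◁ p) := by
    have hn : ∀ s : PullbackCone f (H ◁ p), ∃ n : s.pt ⟶ G', n ≫ i = s.fst * (s.snd ≫ snd H G)⁻¹ := fun s => by
      have h2 : s.fst ≫ p = s.snd ≫ snd H G ≫ p := by
        have := congrArg (· ≫ snd H G'') s.condition
        simpa [f] using this
      exact ⟨hη.lift (s.fst * (s.snd ≫ snd H G)⁻¹) (toUnit _) (by
        rw [MonObj.mul_comp, GrpObj.inv_comp, h2, Category.assoc, mul_inv_cancel, Hom.one_def]), hη.lift_fst _ _ _⟩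
    choose n hn using hn
    refine ⟨⟨hw⟩, ⟨PullbackCone.IsLimit.mk hw (fun s => lift (n s) (s.snd ≫ snd H G)) (fun s => ?_) (fun s => ?_)
      (fun s e h₁ h₂ => ?_)⟩⟩
    · simp only [m, MonObj.comp_mul, lift_fst_assoc, lift_snd, hn, inv_mul_cancel_right]
    · apply CartesianMonoidalCategory.hom_ext
      · simp only [r, Category.assoc, lift_fst, MonObj.comp_mul, lift_fst_assoc, lift_snd_assoc]
        rw [← Category.assoc (n s), hn, ← Category.assoc s.snd (snd H G) u, ← MonObj.mul_comp, inv_mul_cancel_right]
        have := congrArg (· ≫ fst H G'') s.condition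
        simpa [f] using this
      · simp only [r, Category.assoc, lift_snd]
    · have e2 : e ≫ snd G' G = s.snd ≫ snd H G := by
        rw [← h₂]; simp only [r, Category.assoc, lift_snd]
      apply CartesianMonoidalCategory.hom_ext
      · rw [lift_fst, ← cancel_mono i, hn, ← h₁, ← e2]
        simp only [m, MonObj.comp_mul, mul_inv_cancel_right, Category.assoc]
      · rw [lift_snd, e2]
  let sh : H ⊗ G ≅ H ⊗ G :=
    ⟨lift (fst H G * (snd H G ≫ u)) (snd H G), lift (fst H G * (snd H G ≫ u)⁻¹) (snd H G),
      by
        apply CartesianMonoidalCategory.hom_ext <;>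
          simp only [Category.assoc, lift_fst, lift_snd, MonObj.comp_mul, GrpObj.comp_inv, lift_snd_assoc,
            mul_inv_cancel_right, Category.id_comp],
      by
        apply CartesianMonoidalCategory.hom_ext <;>
          simp only [Category.assoc, lift_fst, lift_snd, MonObj.comp_mul, lift_snd_assoc,
            inv_mul_cancel_right, Category.id_comp]⟩
  have hr : r = ((i ≫ u) ▷ G) ≫ sh.hom := by
    apply CartesianMonoidalCategory.hom_ext <;>
      simp only [r, sh, Category.assoc, lift_fst, lift_snd, MonObj.comp_mul, whiskerRight_fst, whiskerRight_snd,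
        whiskerRight_snd_assoc]
  have h1 : IsProper ((i ≫ u) ▷ G).left :=
    MorphismProperty.of_isPullback (P := @IsProper) ((isPullback_whiskerRight (i ≫ u)).map (Over.forget S)) hu
  have h2 : IsProper r.left := by
    rw [hr, Over.comp_left]
    haveI := h1
    haveI : IsIso sh.hom := sh.isIso_hom
    haveI : IsIso sh.hom.left := inferInstanceAs (IsIso ((Over.forget S).map sh.hom))
    infer_instance
  haveI : QuasiCompact p.left := by
    have : QuasiCompact (p.left ≫ G''.hom) := by rw [Over.w p]; infer_instance
    exact QuasiCompact.of_comp p.left G''.hom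
  have sqp := (isPullback_whiskerLeft (C := H) p).map (Over.forget S)
  have hQ : (@Surjective ⊓ @Flat ⊓ @QuasiCompact : MorphismProperty Scheme.{u}) (H ◁ p).left :=
    ⟨⟨MorphismProperty.of_isPullback (P := @Surjective) sqp ‹Surjective p.left›,
      MorphismProperty.of_isPullback (P := @Flat) sqp ‹Flat p.left›⟩,
      MorphismProperty.of_isPullback (P := @QuasiCompact) sqp ‹QuasiCompact p.left›⟩
  haveI : MorphismProperty.DescendsAlong (@IsProper : MorphismProperty Scheme.{u})
      (@Surjective ⊓ @Flat ⊓ @QuasiCompact) := FpqcDesc.descendsAlong_isProper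
  have hf : IsProper f.left := MorphismProperty.of_isPullback_of_descendsAlong (P := @IsProper)
    (Q := @Surjective ⊓ @Flat ⊓ @QuasiCompact) (sq.map (Over.forget S)).flip hQ h2
  have hu' : u.left = f.left ≫ (fst H G'').left := by rw [← Over.comp_left, lift_fst]
  haveI : IsProper (fst H G'').left := MorphismProperty.pullback_fst (P := @IsProper) H.hom G''.hom inferInstance
  rw [hu']
  infer_instance

end Groth.Agent.S5415
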