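import Groth.Statements.S5421
import Groth.Agent.DiagRig.TorusBasic
import Groth.Agent.DiagRig.SubDescent
import Groth.Agent.DiagRig.DSQuot
import Groth.Agent.DiagRig.DSLocusApps

set_option autoImplicit false
universe u
open CategoryTheory MonoidalCategory CartesianMonoidalCategory MonObj GrpObj AlgebraicGeometry CategoryTheory.Limits
open Red

namespace Groth.Agent.S5421

open Groth.Agent.RedPts Groth.Agent.DiagRig

section
set_option backward.isDefEq.respectTransparency.types false
set_option maxHeartbeats 1000000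
variable {S : Scheme.{u}} {T : Over S} [GrpObj T]

/-- Faithful flatness. -/
abbrev FS : MorphismProperty Scheme.{u} :=
  (@Flat : MorphismProperty Scheme.{u}) ⊓ (@Surjective : MorphismProperty Scheme.{u})

/-- Over a field the character becomes `D(φ)` after a field extension. -/
theorem exists_field_test (hT : Red.IsTorus T) (α : T ⟶ Red.Gm S) [IsMonHom α] {K : Type u} [Field K]
    (p : Spec (CommRingCat.of K) ⟶ S) :
    ∃ (L : Type u) (_ : Field L) (a : Spec (CommRingCat.of L) ⟶ Spec (CommRingCat.of K)) (P : Prop),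
      Flat a ∧ Surjective a ∧ ((Over.pullback (a ≫ p)).map α = 1 ↔ ¬ P) ∧
      (BCProp (FS) α (a ≫ p) ↔ P) := by
  obtain ⟨S', f, hf, hfs, -, hloc⟩ := hT
  have hne : Nonempty ↥(Spec (CommRingCat.of K)) := inferInstanceAs (Nonempty (PrimeSpectrum K))
  have hsub : Subsingleton ↥(Spec (CommRingCat.of K)) := inferInstanceAs (Subsingleton (PrimeSpectrum K))
  obtain ⟨t⟩ := hne
  obtain ⟨w, hw⟩ := (pullback.fst p f).surjective t
  let W : Scheme.{u} := pullback p f
  obtain ⟨U, hU, r, ⟨e⟩⟩ := hloc (pullback.snd p f w)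
  let j : Spec (W.residueField w) ⟶ W := W.fromSpecResidueField w
  let a : Spec (W.residueField w) ⟶ Spec (CommRingCat.of K) := j ≫ pullback.fst p f
  have hrange : Set.range (j ≫ pullback.snd p f).base ⊆ Set.range U.ι.base := by
    rintro _ ⟨y, rfl⟩
    rw [Scheme.Opens.range_ι, Scheme.Hom.comp_apply]
    have hy : j.base y = w := (W.range_fromSpecResidueField w).le ⟨y, rfl⟩
    rw [hy]
    exact hU
  let c : Spec (W.residueField w) ⟶ (U : Scheme.{u}) := IsOpenImmersion.lift U.ι _ hrange
  have hck : c ≫ U.ι ≫ f = a ≫ p := by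
    rw [← Category.assoc, IsOpenImmersion.lift_fac, Category.assoc, ← pullback.condition, ← Category.assoc]
  obtain ⟨d₁, -⟩ := DSQuot.exists_dsBC c (Fin r → ℤ)
  obtain ⟨d₂, -⟩ := DSQuot.exists_dsBC (a ≫ p) ℤ
  let e₁ : Grp.mk (Red.bc (a ≫ p) T) ≅ Grp.mk (Red.DS (Spec (W.residueField w)) (Fin r → ℤ)) :=
    (bcGrpIso (U.ι ≫ f) c (a ≫ p) hck T).symm ≪≫ bcGrpMap c e ≪≫ d₁
  let i₁ : Red.bc (a ≫ p) T ≅ Red.DS (Spec (W.residueField w)) (Fin r → ℤ) := (Grp.forget _).mapIso e₁
  let i₂ : Red.bc (a ≫ p) (Red.Gm S) ≅ Red.DS (Spec (W.residueField w)) ℤ := (Grp.forget _).mapIso d₂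
  have : IsMonHom i₁.inv := e₁.inv.hom.isMonHom_hom
  have : IsMonHom i₂.hom := d₂.hom.hom.isMonHom_hom
  have : IsMonHom i₂.inv := d₂.inv.hom.isMonHom_hom
  let m := (Over.pullback (a ≫ p)).map α
  have : IsMonHom m := isMonHom_bcMap (a ≫ p) α
  obtain ⟨v, hv⟩ : ∃ v, v = i₁.inv ≫ m ≫ i₂.hom := ⟨_, rfl⟩
  have : IsMonHom v := hv ▸ inferInstance
  have hneL : Nonempty ↥(Spec (W.residueField w)) := inferInstanceAs (Nonempty (PrimeSpectrum (W.residueField w)))
  have hsubL : Subsingleton ↥(Spec (W.residueField w)) :=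
    inferInstanceAs (Subsingleton (PrimeSpectrum (W.residueField w)))
  obtain ⟨V, hV, φ, hφ⟩ := DSHom.exists_localHom v (AddGroup.fg_iff_addMonoid_fg.mpr inferInstance)
    (Classical.arbitrary _)
  have hvφ : v = Red.DSmap _ φ := by
    have h := hφ _ (𝟙 _) (fun y _ => Subsingleton.elim (Classical.arbitrary _) y ▸ hV)
    rwa [Category.id_comp, Category.id_comp] at h
  have hone : ∀ {Y : Over (Spec (W.residueField w))} (n : ℤ),
      dFn (1 : Y ⟶ Red.DS (Spec (W.residueField w)) ℤ) n = 1 := fun {Y} n => by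
    have h := (congrArg (fun q => dFn q n) (_root_.mul_one (1 : Y ⟶ Red.DS (Spec (W.residueField w)) ℤ))).symm.trans
      (d_mul (1 : Y ⟶ Red.DS (Spec (W.residueField w)) ℤ) 1 n)
    exact (d_isUnit _ n).mul_eq_left.mp h.symm
  have hv1 : v = 1 ↔ φ 1 = 0 := by
    rw [hvφ]
    constructor
    · intro h
      refine DSHom.dFn_id_eq_one (U := Spec (W.residueField w)) _ ?_
      have h' := congrArg (fun q => dFn q 1) h
      rw [← Category.id_comp (Red.DSmap _ φ)] at h'
      exact (DSmap_fn _ φ 1).symm.trans (h'.trans (hone 1))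
    · intro h
      refine d_ext fun n => ?_
      have hn : φ n = 0 := by rw [← _root_.mul_one n, ← smul_eq_mul, map_zsmul, h, smul_zero]
      rw [hone, ← Category.id_comp (Red.DSmap _ φ), DSmap_fn, hn, d_zero]
  have hone₂ : (1 : Red.bc (a ≫ p) T ⟶ Red.bc (a ≫ p) (Red.Gm S)) ≫ i₂.hom = 1 :=
    @MonObj.one_comp _ _ _ _ _ _ _ _ i₂.hom d₂.hom.hom.isMonHom_hom
  have hone₂' : (1 : Red.DS (Spec (W.residueField w)) (Fin r → ℤ) ⟶ Red.DS (Spec (W.residueField w)) ℤ) ≫ i₂.inv = 1 :=
    @MonObj.one_comp _ _ _ _ _ _ _ _ i₂.inv d₂.inv.hom.isMonHom_hom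
  have hm1 : m = 1 ↔ v = 1 := by
    rw [hv]
    constructor
    · intro h; rw [h, hone₂, MonObj.comp_one]
    · intro h
      have h' := congrArg (fun q => i₁.hom ≫ q ≫ i₂.inv) h
      simp only [Category.assoc, Iso.hom_inv_id, Category.comp_id, Iso.hom_inv_id_assoc] at h'
      rw [h', hone₂', MonObj.comp_one]
  have hP : BCProp (FS) α (a ≫ p) ↔ FS v.left := by
    rw [hv]
    exact (MorphismProperty.cancel_left_of_respectsIso _ i₁.inv.left _).symm.trans
      (Iff.of_eq (congrArg _ rfl)) |>.trans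
      ((MorphismProperty.cancel_right_of_respectsIso _ _ i₂.hom.left).symm.trans (Iff.of_eq (congrArg _ (Category.assoc _ _ _))))
  have hinj : Function.Injective φ ↔ φ 1 ≠ 0 := by
    constructor
    · intro h h0; exact one_ne_zero (h (h0.trans (map_zero φ).symm))
    · intro h x y hxy
      have e : (x - y) • φ 1 = 0 := by rw [← map_zsmul, smul_eq_mul, _root_.mul_one, map_sub, hxy, sub_self]
      exact sub_eq_zero.mp ((smul_eq_zero.mp e).resolve_right h)
  refine ⟨W.residueField w, inferInstance, a, Function.Injective φ, ?_, ⟨fun x => ⟨Classical.arbitrary _, hsub.elim _ _⟩⟩,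
    ?_, ?_⟩
  · rw [← Spec.map_preimage a, HasRingHomProperty.Spec_iff (P := @Flat)]
    letI := (Spec.preimage a).hom.toAlgebra
    exact RingHom.flat_algebraMap_iff.mpr (inferInstance : Module.Flat K (W.residueField w))
  · rw [show ((Over.pullback (a ≫ p)).map α = 1) ↔ m = 1 from Iff.rfl, hm1, hv1, hinj, not_not]
  · rw [hP, hvφ]
    refine ⟨fun h => ?_, fun h => DSHom.flat_surjective_DSmap φ h⟩
    obtain ⟨h1, h2⟩ := h
    have : Epi (Red.DSmap (Spec (W.residueField w)) φ).left := Flat.epi_of_flat_of_surjective _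
    exact DSHom.injective_of_epi (U := Spec (W.residueField w)) φ this

/-- Triviality of a character is detected along flat surjective maps. -/
theorem eq_one_of_comp (α : T ⟶ Red.Gm S) {W W' : Scheme.{u}} (a : W' ⟶ W) [Flat a] [Surjective a] (k : W ⟶ S)
    (h : (Over.pullback (a ≫ k)).map α = 1) : (Over.pullback k).map α = 1 := by
  let Y := Red.bc k T
  let P : Over W := Over.mk (pullback.fst Y.hom a ≫ Y.hom)
  let π : P ⟶ Y := Over.homMk (pullback.fst Y.hom a)
  have : Epi π.left := Flat.epi_of_flat_of_surjective (pullback.fst Y.hom a)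
  have : Epi π := Over.epi_of_epi_left π
  rw [← cancel_epi π, MonObj.comp_one]
  let P' : Over W' := Over.mk (pullback.snd Y.hom a)
  let i : P ⟶ (Over.map a).obj P' := Over.homMk (𝟙 _) (by
    show 𝟙 _ ≫ pullback.snd Y.hom a ≫ a = pullback.fst Y.hom a ≫ Y.hom
    rw [Category.id_comp, pullback.condition])
  -- the point as a point over `W'`
  let z : P' ⟶ Red.bc (a ≫ k) T := Over.homMk (pullback.lift (pullback.fst Y.hom a ≫ pullback.fst T.hom k)
    (pullback.snd Y.hom a) (by
      rw [Category.assoc, pullback.condition, ← Category.assoc (pullback.fst Y.hom a),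
        show pullback.fst Y.hom a ≫ pullback.snd T.hom k = pullback.snd Y.hom a ≫ a from pullback.condition,
        Category.assoc])) (pullback.lift_snd _ _ _)
  let i' : (Over.map k).obj P ⟶ (Over.map (a ≫ k)).obj P' := Over.homMk (𝟙 _) (by
    show 𝟙 _ ≫ pullback.snd Y.hom a ≫ a ≫ k = (pullback.fst Y.hom a ≫ Y.hom) ≫ k
    rw [Category.id_comp, pullback.condition, Category.assoc])
  have hz : bcTr k π = i' ≫ bcTr (a ≫ k) z := Over.OverMorphism.ext (by
    rw [CategoryTheory.Over.comp_left, bcTr_left, bcTr_left]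
    show pullback.fst Y.hom a ≫ pullback.fst T.hom k = 𝟙 _ ≫ z.left ≫ pullback.fst _ _
    rw [Category.id_comp]
    exact (pullback.lift_fst _ _ _).symm)
  apply bcTr_injective k
  rw [bcTr_map, hz, Category.assoc, ← bcTr_map, h, MonObj.comp_one, bcTr_one, MonObj.comp_one, bcTr_one]

/-- Triviality of a character is stable under base change. -/
theorem eq_one_bc (α : T ⟶ Red.Gm S) {W W' : Scheme.{u}} (b : W' ⟶ W) (k : W ⟶ S)
    (h : (Over.pullback k).map α = 1) (k' : W' ⟶ S) (hk : k' = b ≫ k) : (Over.pullback k').map α = 1 := by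
  subst hk
  apply bcTr_injective (b ≫ k)
  rw [← Category.id_comp ((Over.pullback _).map α), bcTr_map, bcTr_one]
  let Y := Red.bc (b ≫ k) T
  let y : Over.mk (Y.hom ≫ b) ⟶ Red.bc k T :=
    Over.homMk (pullback.lift (pullback.fst T.hom (b ≫ k)) (Y.hom ≫ b)
      (pullback.condition.trans (Category.assoc _ _ _).symm)) (pullback.lift_snd _ _ _)
  let i : (Over.map (b ≫ k)).obj Y ⟶ (Over.map k).obj (Over.mk (Y.hom ≫ b)) := Over.homMk (𝟙 _) (by
    show 𝟙 _ ≫ (Y.hom ≫ b) ≫ k = Y.hom ≫ b ≫ k
    rw [Category.id_comp, Category.assoc])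
  have hy : bcTr (b ≫ k) (𝟙 Y) = i ≫ bcTr k y := Over.OverMorphism.ext (by
    rw [CategoryTheory.Over.comp_left, bcTr_left, bcTr_left]
    show 𝟙 _ ≫ _ = 𝟙 _ ≫ y.left ≫ pullback.fst _ _
    rw [Category.id_comp, Category.id_comp]
    exact (pullback.lift_fst _ _ _).symm)
  rw [hy, Category.assoc, ← bcTr_map, h, MonObj.comp_one, bcTr_one, MonObj.comp_one]

end


set_option backward.isDefEq.respectTransparency.types false in
set_option maxHeartbeats 1000000 in
/-- Let T be an S-torus and α : T → G_{m,S} a character. The following are equivalent: (i) for every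
point s of S the character induced on the geometric fibre at s is not the trivial character; (ii)
for every morphism S' → S with S' non-empty the base change of α is not the trivial character; (iii)
α is faithfully flat (flat and surjective). -/
theorem result (S : Scheme.{u}) (T : Over S) [GrpObj T] (hT : Red.IsTorus T) (α : T ⟶ Red.Gm S) [IsMonHom α] :
    ((∀ s : S, (Over.pullback (Red.geomPt s)).map α ≠ 1) ↔
      (∀ (S' : Scheme.{u}) (g : S' ⟶ S), Nonempty ↥S' → (Over.pullback g).map α ≠ 1)) ∧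
    ((∀ s : S, (Over.pullback (Red.geomPt s)).map α ≠ 1) ↔ (Flat α.left ∧ Surjective α.left)) := by
  have hkey : ∀ (W : Scheme.{u}) (k : W ⟶ S), Nonempty ↥W → Flat α.left ∧ Surjective α.left →
      (Over.pullback k).map α ≠ 1 := by
    rintro W k ⟨x⟩ hα h1
    obtain ⟨L, _, a, P, ha, has, h3, h4⟩ := exists_field_test hT α (W.fromSpecResidueField x ≫ k)
    have hP : P := h4.mp (MorphismProperty.of_isPullback (P := FS)
      (isPullback_bcMap (a ≫ W.fromSpecResidueField x ≫ k) α) hα)
    refine h3.mp ?_ hP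
    have : IsMonHom α := inferInstance
    exact eq_one_bc α (a ≫ W.fromSpecResidueField x) k h1 _ (Category.assoc _ _ _).symm
  have hff : (∀ s : S, (Over.pullback (Red.geomPt s)).map α ≠ 1) → Flat α.left ∧ Surjective α.left := by
    intro h
    obtain ⟨U, -, hU, hUff⟩ := exists_ff_locus T (Red.Gm S) (multTypeFT_of_torus hT)
      (DSQuot.isMultTypeFT_DS S ℤ (AddGroup.fg_iff_addMonoid_fg.mpr inferInstance)) α
    have hall : ∀ s : S, s ∈ U := by
      intro s
      have := descendsAlong_flat.{u}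
      refine (hU s).mpr ?_
      obtain ⟨L, _, a, P, ha, has, h3, h4⟩ := exists_field_test hT α (Red.geomPt s)
      have hP : P := by
        by_contra hP
        exact h s (eq_one_of_comp α a _ (h3.mpr hP))
      let ψ : CommRingCat.of (S.residueField s) ⟶ CommRingCat.of (AlgebraicClosure (S.residueField s)) :=
        CommRingCat.ofHom (algebraMap _ _)
      have hψ : Flat (Spec.map ψ) := by
        rw [HasRingHomProperty.Spec_iff (P := @Flat)]
        exact RingHom.flat_algebraMap_iff.mpr inferInstance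
      have hψs : Surjective (Spec.map ψ) := ⟨fun x => ⟨Classical.arbitrary _,
        (inferInstance : Subsingleton ↥(Spec (CommRingCat.of (S.residueField s)))).elim _ _⟩⟩
      have h5 : BCProp (FS) α (a ≫ Red.geomPt s) := h4.mpr hP
      have : (FS.{u}).DescendsAlong (@Surjective ⊓ @Flat ⊓ @QuasiCompact) := inferInstance
      exact BCProp.descend (P := FS) (a ≫ Spec.map ψ)
        ((bcProp_congr (Category.assoc _ _ _)).mpr h5)
    have : IsIso U.ι := by
      have : Epi U.ι.base := (TopCat.epi_iff_surjective _).mpr fun x => ⟨⟨x, hall x⟩, rfl⟩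
      exact IsOpenImmersion.isIso U.ι
    exact (FS.arrow_mk_iso_iff
      (Arrow.isoMk (asIso (pullback.fst T.hom U.ι)) (asIso (pullback.fst (Red.Gm S).hom U.ι))
        (isPullback_bcMap U.ι α).w : Arrow.mk ((Over.pullback U.ι).map α).left ≅ Arrow.mk α.left)).mp hUff
  have h21 : (∀ (S' : Scheme.{u}) (g : S' ⟶ S), Nonempty ↥S' → (Over.pullback g).map α ≠ 1) →
      ∀ s : S, (Over.pullback (Red.geomPt s)).map α ≠ 1 := fun h s =>
    h _ (Red.geomPt s) (inferInstanceAs (Nonempty (PrimeSpectrum (AlgebraicClosure (S.residueField s)))))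
  exact ⟨⟨fun h S' g hne => hkey S' g hne (hff h), h21⟩, ⟨hff, fun h => h21 fun S' g hne => hkey S' g hne h⟩⟩

end Groth.Agent.S5421
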