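import Groth.Statements.S5426
import Groth.Agent.LieUnip.Points
import Groth.Agent.LieUnip.Conn
import Groth.Agent.Comod.CartierRed
import Groth.Agent.S5422
import Groth.Agent.S5423
import Groth.Agent.S2966

set_option autoImplicit false
universe u
open TensorProduct
open SGA3t2b

namespace Groth.Agent.S5426

/-- Let k be an algebraically closed field and A a finitely generated commutative Hopf algebra over k.
Then G = Spec A is unipotent (fixed-vector form) if and only if for every prime n there is no closed
subgroup of G isomorphic to μ_n (no surjective bialgebra map from A onto the group algebra k[ℤ/n]).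
(The published statement is for an arbitrary algebraic group; this row treats affine groups only,
and a unipotent group is affine.) -/
theorem result (k : Type u) [Field k] [IsAlgClosed k] (A : Type u) [CommRing A] [HopfAlgebra k A] [Algebra.FiniteType k A] :
    HopfRep.IsUnipotent k A ↔
      ∀ n : ℕ, n.Prime → (¬ ∃ φ : A →ₐc[k] MonoidAlgebra k (Multiplicative (ZMod n)), Function.Surjective φ) := by
  have hnil : (∀ n : ℕ, n.Prime → ¬ ∃ φ : A →ₐc[k] MonoidAlgebra k (Multiplicative (ZMod n)), Function.Surjective φ) →
      ∀ (g : A →ₐ[k] k) (V : Type u) [AddCommGroup V] [Module k V] [HopfRep.Comod k A V],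
        Module.Finite k V → IsNilpotent (HopfRep.Comod.act k A V g - LinearMap.id) := by
    intro h g V _ _ _ hfin
    by_contra hg
    obtain ⟨ℓ, hℓ, -, hf⟩ := Groth.Agent.LieUnip.exists_mu_of_not_nilpotent g V hg
    exact h ℓ hℓ hf
  constructor
  · rintro hU n hn ⟨φ, hφ⟩
    haveI : Fact (1 < n) := ⟨hn.one_lt⟩
    haveI : Algebra.FiniteType k (MonoidAlgebra k (Multiplicative (ZMod n))) :=
      Algebra.FiniteType.of_surjective (φ : A →ₐ[k] _) hφ
    have hB := (S5422.result k A).1 _ φ hφ hU
    have hx := MonoidAlgebra.isGroupLikeElem_single_one (R := k) (A := k) (Multiplicative.ofAdd (1 : ZMod n))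
    generalize hy : MonoidAlgebra.single (Multiplicative.ofAdd (1 : ZMod n)) (1 : k) = y at hx
    have h1 := S2966.groupLike_one hB k ((1 : k) ⊗ₜ y)
      ⟨by simp [hx.counit_eq_one], by simp [TensorProduct.comul_tmul, hx.comul_eq_tmul_self, IsGroupLikeElem.comul_eq_tmul_self (IsGroupLikeElem.one (R := k) (A := k))]⟩
    replace h1 := congrArg (TensorProduct.lid k _) h1
    rw [Algebra.TensorProduct.one_def, TensorProduct.lid_tmul, TensorProduct.lid_tmul, one_smul, one_smul, ← hy] at h1
    rw [MonoidAlgebra.one_def] at h1
    have h2 := congrArg (fun z => z.coeff (1 : Multiplicative (ZMod n))) h1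
    simp [MonoidAlgebra.coeff_single, Finsupp.single_apply] at h2
  · intro h
    rcases CharP.char_is_prime_or_zero k (ringChar k) with hp | h0
    · haveI := Fact.mk hp
      rcases Groth.Agent.LieUnip.pnil_or_exists_mu (k := k) (A := A) (ringChar k) with hP | hf
      · exact Groth.Agent.LieUnip.isUnipotent_of_points (ringChar k) hP (hnil h)
      · exact absurd hf (h _ hp)
    · haveI : CharP k 0 := h0 ▸ ringChar.charP k
      haveI := CharP.charP_to_charZero k
      haveI : IsReduced A := Groth.Agent.Comod.isReduced_of_charZero k A
      exact (S5423.result k A).2 (hnil h)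

end Groth.Agent.S5426
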