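import Groth.Statements.S5425
import Groth.Agent.LieUnip.BaseChange
import Groth.Agent.LieUnip.Conn
import Groth.Agent.GrpDimOne.GeomConn
import Groth.Agent.Comod.Image
import Groth.Agent.S5426

set_option autoImplicit false
universe u
open TensorProduct
open SGA3t2b

namespace Groth.Agent.S5425

/-- (i) ⟺ (iv) ⟺ (v): let k be a field of characteristic p > 0 with algebraic closure k̄, and A a
finitely generated commutative Hopf algebra over k with no idempotents other than 0 and 1 (a
connected affine algebraic group G). Then the following are equivalent: (i) G is unipotent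
(fixed-vector form); (iv) G_{k̄} contains no closed subgroup isomorphic to μ_p; (v) the Lie algebra
of G is a unipotent p-Lie algebra: for every ε-derivation D : A → k some p^n-fold convolution power
of D (n > 0) vanishes. -/
theorem result (k : Type u) [Field k] (p : ℕ) [Fact p.Prime] [CharP k p] (A : Type u) [CommRing A] [HopfAlgebra k A]
    [Algebra.FiniteType k A] (hconn : ∀ e : A, IsIdempotentElem e → e = 0 ∨ e = 1) :
    (HopfRep.IsUnipotent k A ↔
      ¬ ∃ φ : (AlgebraicClosure k ⊗[k] A) →ₐc[AlgebraicClosure k]
        MonoidAlgebra (AlgebraicClosure k) (Multiplicative (ZMod p)), Function.Surjective φ) ∧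
    (HopfRep.IsUnipotent k A ↔
      ∀ D : LieHopf.Lie k A, ∃ n : ℕ, 0 < n ∧
        LieHopf.convPow (D.toLinearMap.restrictScalars k ∘ₗ LinearMap.id) (p ^ n) = 0) := by
  haveI : CharP (AlgebraicClosure k) p :=
    charP_of_injective_algebraMap (algebraMap k (AlgebraicClosure k)).injective p
  have hconn' : ∀ e : AlgebraicClosure k ⊗[k] A, IsIdempotentElem e → e = 0 ∨ e = 1 :=
    Groth.Agent.GrpDimOne.connected_tensor (AlgebraicClosure k) hconn (Bialgebra.counitAlgHom k A)
  have hdown : Groth.Agent.LieUnip.PNil p (AlgebraicClosure k) (AlgebraicClosure k ⊗[k] A) →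
      HopfRep.IsUnipotent k A := fun hP =>
    Groth.Agent.Comod.Image.isUnipotent_of_baseChange (AlgebraicClosure k)
      (Groth.Agent.LieUnip.isUnipotent_of_connected p hP hconn')
  constructor
  · constructor
    · exact fun hU => (S5426.result (AlgebraicClosure k) _).1
        (Groth.Agent.Comod.Image.isUnipotent_baseChange _ hU) p Fact.out
    · intro h
      rcases Groth.Agent.LieUnip.pnil_or_exists_mu (k := AlgebraicClosure k)
        (A := AlgebraicClosure k ⊗[k] A) p with hP | hf
      · exact hdown hP
      · exact absurd hf h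
  · constructor
    · intro hU D
      obtain ⟨n, hn, h0⟩ := Groth.Agent.LieUnip.exists_pow_eq_zero p hU D
      refine ⟨n, hn, ?_⟩
      rw [Groth.Agent.LieUnip.convPow_eq_pow]
      exact congrArg WithConv.ofConv h0
    · intro h
      refine hdown (Groth.Agent.LieUnip.pnil_baseChange _ p fun D => ?_)
      obtain ⟨n, hn, h0⟩ := h D
      refine ⟨n, hn, WithConv.ofConv_injective ?_⟩
      rw [Groth.Agent.LieUnip.convPow_eq_pow] at h0
      exact h0

end Groth.Agent.S5425
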