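import Groth.Statements.S5427
import Groth.Agent.DiagRig.DSQuot
import Groth.Agent.DiagRig.MonoClosed
-- import your own Groth.Agent.* helpers here

set_option autoImplicit false
universe u
open CategoryTheory MonoidalCategory CartesianMonoidalCategory MonObj GrpObj AlgebraicGeometry CategoryTheory.Limits
open Red

namespace Groth.Agent.S5427

set_option backward.isDefEq.respectTransparency.types false

/-- Let S be a scheme and G = D_S(M) a diagonalizable S-group of finite type, M a non-trivial finitely
generated commutative group. Then there are a prime number r and a closed subgroup of G isomorphic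
to (μ_r)_S: a homomorphism of S-groups D_S(ℤ/r) → D_S(M) which is a closed immersion. -/
theorem result (S : Scheme.{u}) (M : Type) [AddCommGroup M] [AddGroup.FG M] [Nontrivial M] :
    ∃ (r : ℕ) (_ : r.Prime) (j : Red.DS S (ZMod r) ⟶ Red.DS S M), IsMonHom j ∧ IsClosedImmersion j.left := by
  have : Module.Finite ℤ M := Module.Finite.iff_addGroup_fg.mpr inferInstance
  obtain ⟨K, hK, -⟩ := (eq_top_or_exists_le_coatom (⊥ : Submodule ℤ M)).resolve_left bot_ne_top
  have hs : IsSimpleModule ℤ (M ⧸ K) := isSimpleModule_iff_isCoatom.mpr hK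
  obtain ⟨I, hI, ⟨e⟩⟩ := isSimpleModule_iff_quot_maximal.mp hs
  obtain ⟨p, hp⟩ := (IsPrincipalIdealRing.principal I).principal
  have hp0 : p ≠ 0 := by
    rintro rfl
    rw [Submodule.span_singleton_eq_bot.mpr rfl] at hp
    exact Int.not_isField (Ring.isField_iff_maximal_bot.mpr (hp ▸ hI))
  have hpp : Prime p := (Ideal.span_singleton_prime hp0).mp (by rw [Ideal.span, ← hp]; exact hI.isPrime)
  subst hp
  let r := p.natAbs
  have hr : r.Prime := Int.prime_iff_natAbs_prime.mp hpp
  let φ : M →+ ZMod r := ((Int.quotientSpanEquivZMod p).toAddEquiv.toAddMonoidHom).comp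
    ((e.toLinearMap.comp K.mkQ).toAddMonoidHom)
  have hφ : Function.Surjective φ :=
    (Int.quotientSpanEquivZMod p).surjective.comp (e.surjective.comp K.mkQ_surjective)
  have hfg : AddGroup.FG (ZMod r) := AddGroup.fg_of_surjective hφ
  have : IsMonHom (Red.DSmap S φ) := DiagRig.DSQuot.isMonHom_DSmap _
  have : Mono (Red.DSmap S φ).left := DiagRig.DSHom.mono_DSmap φ hφ
  have : Mono (Red.DSmap S φ) := Over.mono_of_mono_left _
  have := DiagRig.multType_isAffineHom _ (DiagRig.DSQuot.isMultTypeFT_DS S M inferInstance)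
  exact ⟨r, hr, Red.DSmap S φ, inferInstance, DiagRig.isClosedImmersion_of_mono _
    (DiagRig.splitFpqc_of_multTypeFT _ (DiagRig.DSQuot.isMultTypeFT_DS S (ZMod r) hfg))⟩


end Groth.Agent.S5427
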