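import Groth.Statements.S5429
import Groth.Agent.DiagExt19.ConjStep
import Groth.Agent.MultType.Diag
-- import your own Groth.Agent.* helpers here

set_option autoImplicit false
set_option linter.style.haveILetI false
set_option synthInstance.maxHeartbeats 400000
universe u
open TensorProduct
open SGA3 WithConv Groth.Agent.DiagExt19 Groth.Agent.DynLib
open scoped Groth.Agent.DynLib

namespace Groth.Agent.S5429

/-- Hopf form: let k be an algebraically closed field, A a finitely generated commutative Hopf algebra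
(an algebraic group E), ψ : B → A an injective bialgebra map from a diagonalizable finitely
generated Hopf algebra B (the quotient H of multiplicative type), J the Hopf ideal generated by the
image of the augmentation ideal of B (the kernel U), with U = Spec (A/J) unipotent in the
fixed-vector sense. Suppose H is smooth (B reduced) or U is smooth (A/J reduced). If r′, r″ : A → B
are two bialgebra retractions of ψ (two liftings H′, H″ of H in E), then there is a k-point u of E
lying in U (an algebra map u : A → k killing J) such that r″ = u · r′ · u⁻¹ as points of E with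
values in B (triple convolution of u, r′ and u composed with the antipode). -/
theorem result (k : Type u) [Field k] [IsAlgClosed k] (A B : Type u) [CommRing A] [HopfAlgebra k A] [Algebra.FiniteType k A] [CommRing B] [HopfAlgebra k B]
    [Algebra.FiniteType k B] (hB : SGA3b.IsDiag k B) (ψ : B →ₐc[k] A) (hψ : Function.Injective ψ)
    (J : Ideal A) [J.IsHopfIdeal k] (hJ : J = Ideal.map (ψ : B →+* A) (RingHom.ker (Bialgebra.counitAlgHom k B)))
    (hU : HopfRep.IsUnipotent k (A ⧸ J))
    (hsm : IsReduced B ∨ IsReduced (A ⧸ J)) (r' r'' : A →ₐc[k] B)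
    (hr' : r'.comp ψ = BialgHom.id k B) (hr'' : r''.comp ψ = BialgHom.id k B) :
    ∃ u : A →ₐ[k] k, (∀ a ∈ J, u a = 0) ∧
      (r'' : A →ₐ[k] B) = Dyn.conv3 k A ((Algebra.ofId k B).comp u) (r' : A →ₐ[k] B)
        (((Algebra.ofId k B).comp u).comp (HopfAlgebra.antipodeAlgHom k A)) := by
  classical
  subst hJ
  obtain ⟨M, _, ⟨e⟩⟩ := hB
  have hdiag : HopfRep.IsDiagonalizable k B := Groth.Agent.MultType.Diag.span_of_equiv e
  haveI := Groth.Agent.Comod.KerHopf.isHopfIdeal ψ
  let P : Subalgebra k A → Prop := fun D => (ψ : B →ₐ[k] A).range ≤ D ∧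
    ∀ q q' : A →ₐc[k] B, q.comp ψ = BialgHom.id k B → q'.comp ψ = BialgHom.id k B →
      ∃ u : Pt k A k, pull ψ u = 1 ∧ ∀ a ∈ D, q' a = (cj u (toConv (q : A →ₐ[k] B))).ofConv a
  have hmain : P ⊤ := by
    refine chain_induction ψ hψ hU hdiag ⟨le_rfl, fun q q' hq hq' => ⟨1, map_one _, ?_⟩⟩ ?_
    · rintro _ ⟨b, rfl⟩
      rw [cj_one]
      exact (DFunLike.congr_fun hq' b).trans (DFunLike.congr_fun hq b).symm
    · rintro D hD - x h hh hx ⟨hBD, hP⟩
      refine ⟨hBD.trans le_sup_left, fun q q' hq hq' => ?_⟩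
      obtain ⟨u₀, hu₀, hu₀D⟩ := hP q q' hq hq'
      obtain ⟨q₁, hq₁, hq₁u⟩ := exists_conj_retr ψ u₀ hu₀ q hq
      obtain ⟨u₁, hu₁, hu₁D, hu₁x⟩ := conj_step ψ hdiag hsm hD hBD x hh hx q₁ q' hq₁ hq' fun a ha =>
        (hu₀D a ha).trans (DFunLike.congr_fun (congrArg WithConv.ofConv hq₁u) a).symm
      refine ⟨u₁ * u₀, by rw [map_mul, hu₁, hu₀, one_mul], ?_⟩
      rw [hq₁u, ← cj_mul] at hu₁D hu₁x
      intro a ha
      have hle : D ⊔ Algebra.adjoin k {x} ≤
          AlgHom.equalizer (q' : A →ₐ[k] B) (cj (u₁ * u₀) (toConv (q : A →ₐ[k] B))).ofConv :=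
        sup_le (fun a ha => hu₁D a ha) (Algebra.adjoin_le (by rintro _ rfl; exact hu₁x))
      exact hle ha
  obtain ⟨u, hu, huT⟩ := hmain.2 r' r'' hr' hr''
  refine ⟨u.ofConv, fun a ha => ?_, ?_⟩
  · suffices h : Ideal.map (ψ : B →+* A) (RingHom.ker (Bialgebra.counitAlgHom k B)) ≤ RingHom.ker u.ofConv from h ha
    refine Ideal.map_le_iff_le_comap.2 fun b hb => ?_
    rw [RingHom.mem_ker, Bialgebra.counitAlgHom_apply] at hb
    rw [Ideal.mem_comap, RingHom.mem_ker]
    refine (DFunLike.congr_fun (congrArg WithConv.ofConv hu) b).trans ?_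
    rw [one_apply, hb, map_zero]
  · apply WithConv.toConv_injective
    rw [conv3_eq]
    exact WithConv.ext (AlgHom.ext fun a => huT a trivial)

end Groth.Agent.S5429
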