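import Groth.Statements.S5430
import Groth.Agent.DiagRig.Connected
import Groth.Agent.DiagRig.MultBC
import Groth.Agent.DiagRig.DSQuot
-- import your own Groth.Agent.* helpers here

set_option autoImplicit false
universe u
open CategoryTheory MonoidalCategory CartesianMonoidalCategory MonObj GrpObj AlgebraicGeometry CategoryTheory.Limits
open SGA3x

namespace Groth.Agent.S5430

set_option backward.isDefEq.respectTransparency.types false

open Groth.Agent.DiagRig

variable {S : Scheme.{u}} {E H U : Over S} [GrpObj E] [GrpObj H] [GrpObj U] (p : E ⟶ U) [IsMonHom p]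
  (i : H ⟶ E) [IsMonHom i]

/-- Kernels are normal. -/
theorem isNormalHom_kernel (hker : AlgGrp.IsKernel i p) : AlgGrp.IsNormalHom i := fun T g n => by
  have hn : (n ≫ i) ≫ p = 1 := by
    rw [Category.assoc, hker.w, Hom.one_def, ← Category.assoc, toUnit_unique (n ≫ toUnit H) (toUnit T)]
  have h : (g * (n ≫ i) * g⁻¹) ≫ p = toUnit T ≫ η[U] := by
    rw [MonObj.mul_comp, MonObj.mul_comp, hn, GrpObj.inv_comp, _root_.mul_one, mul_inv_cancel, Hom.one_def]
  exact ⟨hker.lift _ _ h, (hker.lift_fst _ _ h).symm⟩

/-- Commuting with the kernel only depends on the image in the quotient. -/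
theorem comm_of_same_image (hker : AlgGrp.IsKernel i p) (hH : SGA3x.IsMultTypeFT H) {z₁ z₂ : E.left}
    (hz : p.left.base z₁ = p.left.base z₂) (h : Comm i (ptAt z₁)) : Comm i (ptAt z₂) := by
  obtain ⟨w, hw₁, hw₂⟩ := Scheme.Pullback.exists_preimage_pullback (f := p.left) (g := p.left) z₁ z₂ hz
  let W := pullback p.left p.left
  let g : Spec (CommRingCat.of (W.residueField w)) ⟶ S := W.fromSpecResidueField w ≫ pullback.fst _ _ ≫ E.hom
  let a : Over.mk g ⟶ E := Over.homMk (W.fromSpecResidueField w ≫ pullback.fst _ _) (Category.assoc _ _ _)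
  let b : Over.mk g ⟶ E := Over.homMk (W.fromSpecResidueField w ≫ pullback.snd _ _) (by
    show (_ ≫ pullback.snd p.left p.left) ≫ E.hom = g
    rw [Category.assoc, ← Over.w p, ← pullback.condition_assoc, Over.w p])
  have ha : a.left.base (IsLocalRing.closedPoint (W.residueField w)) = z₁ := by
    show (pullback.fst p.left p.left).base ((W.fromSpecResidueField w).base _) = z₁
    rw [Scheme.fromSpecResidueField_apply, hw₁]
  have hb : b.left.base (IsLocalRing.closedPoint (W.residueField w)) = z₂ := by
    show (pullback.snd p.left p.left).base ((W.fromSpecResidueField w).base _) = z₂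
    rw [Scheme.fromSpecResidueField_apply, hw₂]
  have ha' : Comm i a := by rw [comm_field_iff i a, ha]; exact h
  have hb' : Comm i b := by
    have e : a ≫ p = b ≫ p := Over.OverMorphism.ext (by
      show (W.fromSpecResidueField w ≫ pullback.fst _ _) ≫ p.left = (W.fromSpecResidueField w ≫ pullback.snd _ _) ≫ p.left
      rw [Category.assoc, Category.assoc, pullback.condition])
    have h0 : (a⁻¹ * b) ≫ p = toUnit _ ≫ η[U] := by
      rw [MonObj.mul_comp, GrpObj.inv_comp, e, inv_mul_cancel, Hom.one_def]
    obtain ⟨η', hη⟩ : ∃ η' : Over.mk g ⟶ H, η' ≫ i = a⁻¹ * b := ⟨hker.lift _ _ h0, hker.lift_fst _ _ h0⟩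
    intro X x y
    have hba : b = a * (η' ≫ i) := by rw [hη, mul_inv_cancel_left]
    rw [hba, MonObj.comp_mul, ← Category.assoc x η', _root_.mul_assoc, ← MonObj.mul_comp,
      mul_comm_of_splitFpqc (splitFpqc_of_multTypeFT H hH) (x ≫ η') y, MonObj.mul_comp, ← _root_.mul_assoc,
      ha' X x y, _root_.mul_assoc]
  rw [← hb, ← comm_field_iff i b]
  exact hb'

/-- Every point commutes with the kernel. -/
theorem comm_all' [Surjective p.left] [Flat p.left] [QuasiCompact p.left] [Mono i] (hker : AlgGrp.IsKernel i p)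
    (hH : SGA3x.IsMultTypeFT H) {S' : Scheme.{u}} (f : S' ⟶ S) [Surjective f]
    (hsplit : ∀ s' : S', ∃ V : S'.Opens, s' ∈ V ∧ ∃ (M : Type) (_ : AddCommGroup M),
      AddGroup.FG M ∧ ∃ P : SplitPts (V.ι ≫ f) H M, P.Inj)
    (hU : ∀ s : S, _root_.IsConnected (U.hom.base ⁻¹' {s})) (z : E.left) : Comm i (ptAt z) := by
  have hn := isNormalHom_kernel p i hker
  obtain ⟨s', hs'⟩ := f.surjective (E.hom.base z)
  obtain ⟨V, hV, M, _, hfg, P, hP⟩ := hsplit s'
  let v : V.toScheme := ⟨s', hV⟩
  let L := V.toScheme.residueField v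
  let j : Spec L ⟶ V.toScheme := V.toScheme.fromSpecResidueField v
  let g : Spec L ⟶ S := j ≫ V.ι ≫ f
  let s := g.base (IsLocalRing.closedPoint L)
  have hs : E.hom.base z = s := by
    show _ = f.base (V.ι.base (j.base _))
    exact hs'.symm.trans (congrArg (fun y => f.base (V.ι.base y)) (Scheme.fromSpecResidueField_apply v _).symm)
  let φ : S.residueField s ⟶ CommRingCat.of L := ((Scheme.SpecToEquivOfField L S) g).2
  have hφ : Spec.map φ ≫ S.fromSpecResidueField s = g :=
    (Scheme.SpecToEquivOfField L S).symm_apply_apply g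
  let Ks := pullback E.hom (S.fromSpecResidueField s)
  let KL := pullback (pullback.snd E.hom (S.fromSpecResidueField s)) (Spec.map φ)
  let π : KL ⟶ Ks := pullback.fst _ _
  have : Flat (Spec.map φ) := flat_specMap_field _ _ φ.hom
  have : Surjective (Spec.map φ) := surjective_specMap_field _ _ φ.hom
  have hπ : Topology.IsQuotientMap π.base := Flat.isQuotientMap_of_surjective π
  let Zs : Set Ks := {w | Comm i (ptAt ((pullback.fst E.hom (S.fromSpecResidueField s)).base w))}
  have hL : IsClopen (π.base ⁻¹' Zs) :=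
    isClopen_comm_open (i := i) (p := g) (P.restrict j) (π ≫ pullback.fst _ _) (pullback.snd _ _) (by
      rw [← hφ, ← Category.assoc, ← pullback.condition, Category.assoc, Category.assoc]
      exact congrArg (π ≫ ·) pullback.condition.symm) hfg hn (hP.restrict j)
  have hZ : IsClopen Zs := ⟨hπ.isClosed_preimage.mp hL.1, hπ.isOpen_preimage.mp hL.2⟩
  -- the image in the quotient
  have sq := isPullback_bcMap (S.fromSpecResidueField s) p
  let q : Ks ⟶ (Red.bc (S.fromSpecResidueField s) U).left := ((Over.pullback (S.fromSpecResidueField s)).map p).left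
  have : Flat q := MorphismProperty.of_isPullback sq (inferInstance : Flat p.left)
  have : Surjective q := MorphismProperty.of_isPullback sq (inferInstance : Surjective p.left)
  have : QuasiCompact q := MorphismProperty.of_isPullback sq (inferInstance : QuasiCompact p.left)
  have hq : Topology.IsQuotientMap q.base := Flat.isQuotientMap_of_surjective q
  have hcond : ∀ w : Ks, p.left.base ((pullback.fst E.hom (S.fromSpecResidueField s)).base w) =
      (pullback.fst U.hom (S.fromSpecResidueField s)).base (q.base w) := fun w => by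
    rw [← Scheme.Hom.comp_apply, ← Scheme.Hom.comp_apply, sq.w]
  let D : Set (Red.bc (S.fromSpecResidueField s) U).left := q.base '' Zs
  have hsat : q.base ⁻¹' D = Zs := by
    refine Set.Subset.antisymm ?_ (Set.subset_preimage_image _ _)
    rintro w ⟨w', hw', he⟩
    exact comm_of_same_image p i hker hH (by rw [hcond, hcond, he]) hw'
  have hD : IsClopen D := ⟨hq.isClosed_preimage.mp (hsat.symm ▸ hZ.1), hq.isOpen_preimage.mp (hsat.symm ▸ hZ.2)⟩
  let e : Over.mk (S.fromSpecResidueField s) ⟶ E := 1
  let es : Spec (S.residueField s) ⟶ Ks := pullback.lift e.left (𝟙 _) (by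
    rw [Category.id_comp]; exact Over.w e)
  have he : es.base (IsLocalRing.closedPoint (S.residueField s)) ∈ Zs := by
    show Comm i (ptAt ((es ≫ pullback.fst _ _).base _))
    rw [pullback.lift_fst]
    exact (comm_field_iff i e).mp (comm_one (i := i))
  have : ConnectedSpace (Red.bc (S.fromSpecResidueField s) U).left :=
    have : ConnectedSpace ↥(U.hom.base ⁻¹' {s}) := isConnected_iff_connectedSpace.mp (hU s)
    (U.hom.fiberHomeo s).symm.surjective.connectedSpace (U.hom.fiberHomeo s).symm.continuous
  have huniv : D = Set.univ := hD.eq_univ ⟨_, ⟨_, he, rfl⟩⟩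
  obtain ⟨w, hw, -⟩ := Scheme.Pullback.exists_preimage_pullback (f := E.hom) (g := S.fromSpecResidueField s)
    z (IsLocalRing.closedPoint (S.residueField s)) (hs.trans (Scheme.fromSpecResidueField_apply s _).symm)
  have hwZ : w ∈ Zs := by
    rw [← hsat, huniv]
    exact Set.mem_univ _
  exact hw ▸ (hwZ : Comm i (ptAt ((pullback.fst E.hom (S.fromSpecResidueField s)).base w)))

/-- Let S be a scheme and E an S-group scheme which is an extension of an S-group scheme U with
connected fibres by an S-group H of multiplicative type and of finite type: p : E → U is a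
homomorphism which is surjective, flat and quasi-compact (U is the fpqc quotient E/H) and i : H → E
is its kernel. Then the extension is central: every point of H commutes with every point of E. -/
theorem result (S : Scheme.{u}) (E H U : Over S) [GrpObj E] [GrpObj H] [GrpObj U]
    (p : E ⟶ U) [IsMonHom p] [Surjective p.left] [Flat p.left] [QuasiCompact p.left]
    (i : H ⟶ E) [IsMonHom i] (hker : AlgGrp.IsKernel i p) (hH : SGA3x.IsMultTypeFT H)
    (hU : ∀ s : S, _root_.IsConnected (U.hom.base ⁻¹' {s})) :
    ∀ (X : Over S) (h : X ⟶ H) (e : X ⟶ E), (h ≫ i) * e = e * (h ≫ i) := by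
  obtain ⟨S', f, hf, hfs, hcov, hloc⟩ := id hH
  have : Mono η[U] := SplitMono.mono ⟨toUnit U, toUnit_unique _ _⟩
  have : Mono i := PullbackCone.mono_fst_of_is_pullback_of_mono hker.isLimit
  have hsplit : ∀ s' : S', ∃ V : S'.Opens, s' ∈ V ∧ ∃ (M : Type) (_ : AddCommGroup M),
      AddGroup.FG M ∧ ∃ P : SplitPts (V.ι ≫ f) H M, P.Inj := fun s' => by
    obtain ⟨V, hV, M, inst, hfg, ⟨e⟩⟩ := hloc s'
    exact ⟨V, hV, M, inst, hfg, SplitPts.ofIso _ e, SplitPts.ofIso_inj e⟩
  have hn := isNormalHom_kernel p i hker
  intro X h k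
  refine (eq_of_split_points f (fun s' => ?_) h _ _ fun R p₀ M _ P hP T _ _ t ρ hρ => ?_).symm
  · obtain ⟨V, hV, M, _, -, P, hP⟩ := hsplit s'
    exact ⟨V, hV, M, inferInstance, P, hP⟩
  · rw [MonObj.comp_mul, MonObj.comp_mul, ← Category.assoc, ← hρ]
    exact commutes_of_all (i := i) P hn hP (comm_all' p i hker hH f hsplit hU) (ρ ≫ k) t

end Groth.Agent.S5430
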