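import Groth.Statements.S5432
import Groth.Agent.MultType.Tori
import Groth.Agent.MultType.GeomConn
import Groth.Agent.HopfTr48.Connected
import Groth.Agent.Omega.RegularSmooth
import Groth.Agent.S2966

set_option autoImplicit false
universe u
open TensorProduct
open SGA3t2b

namespace Groth.Agent.S5432

open TensorProduct Groth.Agent

theorem connectedSpace_of_idem {A : Type u} [CommRing A] [Nontrivial A]
    (h : ∀ e : A, IsIdempotentElem e → e = 0 ∨ e = 1) : ConnectedSpace (PrimeSpectrum A) := by
  rw [connectedSpace_iff_clopen]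
  refine ⟨inferInstance, fun s hs => ?_⟩
  obtain ⟨e, he, rfl⟩ := PrimeSpectrum.isClopen_iff.mp hs
  rcases h e he with rfl | rfl
  · left; simp
  · right; simp

theorem idem_of_connectedSpace {A : Type u} [CommRing A] [ConnectedSpace (PrimeSpectrum A)]
    (e : A) (he : IsIdempotentElem e) : e = 0 ∨ e = 1 := by
  rcases isClopen_iff.mp (PrimeSpectrum.isClopen_iff.mpr ⟨e, he, rfl⟩ :
      IsClopen (PrimeSpectrum.basicOpen e : Set (PrimeSpectrum A))) with h | h
  · left
    refine PrimeSpectrum.basicOpen_injOn_isIdempotentElem he IsIdempotentElem.zero ?_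
    ext1; simpa using h
  · right
    refine PrimeSpectrum.basicOpen_injOn_isIdempotentElem he IsIdempotentElem.one ?_
    ext1; simpa using h

/-- Let k be a field, C a finitely generated commutative Hopf algebra which is formally smooth with no
idempotents other than 0 and 1 and unipotent in the fixed-vector sense (a smooth connected unipotent
algebraic group U), and B a commutative Hopf algebra of multiplicative type (isomorphic to a group
algebra after a faithfully flat extension of k; the group H, not assumed of finite type). Then every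
morphism of k-schemes U → H is constant: every k-algebra map f : B → C satisfies f(b) = ε_C(f(b)) ·
1. -/
theorem result (k : Type u) [Field k] (C B : Type u) [CommRing C] [HopfAlgebra k C] [Algebra.FiniteType k C]
    [Algebra.FormallySmooth k C] (hconn : ∀ e : C, IsIdempotentElem e → e = 0 ∨ e = 1)
    (hU : HopfRep.IsUnipotent k C) [CommRing B] [HopfAlgebra k B]
    (hB : SGA3b.IsMultTypeConst k B) (f : B →ₐ[k] C) :
    ∀ b : B, f b = algebraMap k C (Bialgebra.counitAlgHom k C (f b)) := by
  classical
  obtain ⟨R', _, _, hff, M, _, ⟨g⟩⟩ := hB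
  haveI := hff
  haveI : Nontrivial R' := by
    haveI := Module.FaithfullyFlat.rTensor_nontrivial (R := k) R' k
    exact (TensorProduct.lid k R').symm.toEquiv.nontrivial
  obtain ⟨p, hp⟩ := Ideal.exists_maximal R'
  haveI := hp
  let K := R' ⧸ p
  letI : Field K := Ideal.Quotient.field p
  let L := AlgebraicClosure K
  let e : L ⊗[k] B ≃ₐc[L] MonoidAlgebra L M :=
    MultType.GLLift.extend g ((IsScalarTower.toAlgHom k K L).comp (Ideal.Quotient.mkₐ k p))
  haveI : Algebra.FiniteType L (L ⊗[k] C) := inferInstance
  haveI : IsReduced (L ⊗[k] C) := Omega.RegularSmooth.isReduced_of_formallySmooth L _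
  haveI : Nontrivial C := RingHom.domain_nontrivial (Bialgebra.counitAlgHom k C).toRingHom
  haveI := connectedSpace_of_idem hconn
  haveI := MultType.GeomConn.connectedSpace_of_point (Bialgebra.counitAlgHom k C) L
  let fL : L ⊗[k] B →ₐ[L] L ⊗[k] C := Algebra.TensorProduct.map (AlgHom.id L L) f
  let εL : L ⊗[k] C →ₐ[L] L := Bialgebra.counitAlgHom L _
  have h1 : ∀ x : MonoidAlgebra L M, fL (e.symm x) = algebraMap L _ (εL (fL (e.symm x))) := by
    intro x
    induction x using MonoidAlgebra.induction_on with
    | of m =>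
      let u0 : (L ⊗[k] C)ˣ := Units.map ((fL : L ⊗[k] B →* L ⊗[k] C).comp
        ((e.symm : MonoidAlgebra L M →ₐc[L] L ⊗[k] B) : MonoidAlgebra L M →* L ⊗[k] B))
        (Units.map (MonoidAlgebra.of L M) (toUnits m))
      let c : Lˣ := Units.map (εL : L ⊗[k] C →* L) u0
      let u : (L ⊗[k] C)ˣ := Units.map (algebraMap L (L ⊗[k] C) : L →* L ⊗[k] C) c⁻¹ * u0
      have hu : εL u = 1 := by
        rw [Units.val_mul, map_mul, Units.coe_map, MonoidHom.coe_coe, AlgHom.commutes]
        exact c.inv_mul
      have hu1 : IsGroupLikeElem L (u : L ⊗[k] C) :=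
        ⟨hu, HopfTr48.comul_eq_tmul_self (fun x hx => idem_of_connectedSpace x hx) u hu⟩
      have hu2 := S2966.groupLike_one hU L _ hu1
      have h3 : (u0 : L ⊗[k] C) = algebraMap L _ c := by
        rw [Units.val_mul, Units.coe_map, MonoidHom.coe_coe] at hu2
        calc (u0 : L ⊗[k] C) = algebraMap L _ (c * (c⁻¹ : Lˣ)) * u0 := by rw [Units.mul_inv, map_one, one_mul]
          _ = algebraMap L _ c := by rw [map_mul, mul_assoc, hu2, mul_one]
      exact h3
    | add x y hx hy => rw [map_add, map_add, hx, hy, map_add, map_add, AlgHom.commutes, AlgHom.commutes]; rfl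
    | smul c x hx => rw [map_smul, map_smul, hx, map_smul, AlgHom.commutes, smul_eq_mul, map_mul, Algebra.smul_def]; simp
  intro b
  have h2 := h1 (e (1 ⊗ₜ b))
  rw [BialgEquiv.symm_apply_apply] at h2
  refine Algebra.TensorProduct.includeRight_injective (R := k) (A := L) (B := C) (algebraMap k L).injective ?_
  refine Eq.trans ?_ (h2.trans ?_)
  · simp [fL]
  · simp [fL, εL, TensorProduct.counit_tmul, Algebra.algebraMap_eq_smul_one, smul_tmul',
      Algebra.TensorProduct.one_def, tmul_smul]

end Groth.Agent.S5432
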