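import Groth.Statements.S5433
import Groth.Agent.CocommUnip19.Split
import Groth.Agent.S2966

set_option autoImplicit false
set_option linter.style.haveILetI false
set_option synthInstance.maxHeartbeats 400000
set_option maxHeartbeats 1000000
universe u
open TensorProduct
open SGA3

namespace Groth.Agent.S5433

open Groth.Agent.Comod Groth.Agent.CocommUnip19

/-- The coradical becomes diagonalisable over an algebraic closure. -/
theorem isDiagonalizable_coradical {k : Type u} [Field k] [PerfectField k] {A : Type u} [CommRing A] [HopfAlgebra k A] :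
    letI := HopfSub.hopfAlgebra (TrigGalois.isHopf_desc (k := k) (A := A) (AlgebraicClosure k))
    HopfRep.IsDiagonalizable (AlgebraicClosure k) (AlgebraicClosure k ⊗[k] coradical k A) := by
  classical
  let L := AlgebraicClosure k
  let hD := TrigGalois.isHopf_desc (k := k) (A := A) L
  letI := HopfSub.hopfAlgebra hD
  let i : coradical k A →ₐc[k] A := HopfSub.incl hD
  have hi : Function.Injective i := Subtype.val_injective
  have hV : ∀ (σ : L ≃ₐ[k] L) (z : L ⊗[k] A), z ∈ TrigGalois.S (k := k) L A →
      σ.toLinearMap.rTensor A z ∈ TrigGalois.S (k := k) L A := by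
    intro σ z hz
    rw [show σ.toLinearMap.rTensor A z = MultType.GroupLike.bcMap σ.toAlgHom A z from rfl]
    induction hz using Submodule.span_induction with
    | mem z hz => exact Submodule.subset_span (MultType.GroupLike.map_isGroupLikeElem σ.toAlgHom hz)
    | zero => simp
    | add p q _ _ hp hq => rw [map_add]; exact add_mem hp hq
    | smul r p _ hp => rw [MultType.FieldSplit.bcMap_smul]; exact Submodule.smul_mem _ _ hp
  let f := (TrigGalois.bcHom L i : L ⊗[k] coradical k A →ₐ[L] L ⊗[k] A)
  have hinj := TrigGalois.bcHom_injective L hi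
  have hgl : ∀ g : L ⊗[k] A, IsGroupLikeElem L g → ∃ g₀, IsGroupLikeElem L g₀ ∧ f g₀ = g := by
    intro g hg
    have hr : g ∈ LinearMap.range f.toLinearMap := by
      refine Submodule.span_le.2 ?_ (le_span_of_galois _ hV (Submodule.subset_span hg))
      rintro _ ⟨a, ha, rfl⟩
      exact ⟨(1 : L) ⊗ₜ[k] (⟨a, ha⟩ : coradical k A), rfl⟩
    obtain ⟨g₀, hg₀⟩ := hr
    change TrigGalois.bcHom L i g₀ = g at hg₀
    refine ⟨g₀, ⟨?_, ?_⟩, hg₀⟩
    · rw [← CoalgHomClass.counit_comp_apply (TrigGalois.bcHom L i), hg₀]
      exact hg.counit_eq_one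
    · apply HopfSub.map_injective f f hinj hinj
      refine (CoalgHomClass.map_comp_comul_apply (TrigGalois.bcHom L i) g₀).trans ?_
      rw [hg₀, hg.comul_eq_tmul_self]
      show _ = TrigGalois.bcHom L i g₀ ⊗ₜ[L] TrigGalois.bcHom L i g₀
      rw [hg₀]
  refine eq_top_iff.2 fun z _ => ?_
  have h1 : f z ∈ TrigGalois.S (k := k) L A := by
    induction z using TensorProduct.induction_on with
    | zero => simp
    | tmul c b =>
      rw [show f (c ⊗ₜ[k] b) = c • ((1 : L) ⊗ₜ[k] (b : A)) by
        rw [TensorProduct.smul_tmul', smul_eq_mul, mul_one]; rfl]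
      exact Submodule.smul_mem _ _ b.2
    | add x y hx hy => rw [map_add]; exact add_mem (hx trivial) (hy trivial)
  obtain ⟨w, hw, hwz⟩ : f z ∈ (Submodule.span L {g : L ⊗[k] coradical k A | IsGroupLikeElem L g}).map f.toLinearMap := by
    refine Submodule.span_le.2 ?_ h1
    intro g hg
    obtain ⟨g₀, hg₀, rfl⟩ := hgl g hg
    exact ⟨g₀, Submodule.subset_span hg₀, rfl⟩
  rwa [← hinj hwz]

/-- Let k be a perfect field and A a finitely generated commutative and cocommutative Hopf algebra over
k (a commutative affine algebraic group G). Let J be the Hopf ideal of the largest subgroup of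
multiplicative type M (A/J is of multiplicative type and J lies in every Hopf ideal whose quotient
is of multiplicative type). Then there is exactly one Hopf ideal I of A (a unipotent subgroup U)
such that A/I is unipotent in the fixed-vector sense and the map A → (A/J) ⊗ (A/I), a ↦ Σ ā₁ ⊗ ā₂
(the comorphism of the multiplication M × U → G), is bijective. -/
theorem result (k : Type u) [Field k] [PerfectField k] (A : Type u) [CommRing A] [HopfAlgebra k A] [Algebra.FiniteType k A]
    [Coalgebra.IsCocomm k A] (J : Ideal A) [J.IsHopfIdeal k] (hJ : SGA3b.IsMultTypeConst k (A ⧸ J))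
    (hJmax : ∀ (I : Ideal A) [I.IsHopfIdeal k], SGA3b.IsMultTypeConst k (A ⧸ I) → J ≤ I) :
    ∃! I : Ideal A, ∃ (_ : I.IsHopfIdeal k), HopfRep.IsUnipotent k (A ⧸ I) ∧
      Function.Bijective ((Algebra.TensorProduct.map (Ideal.Quotient.mkₐ k J) (Ideal.Quotient.mkₐ k I)).comp
        (Bialgebra.comulAlgHom k A)) := by
  classical
  have hJeq : J = multIdeal k A :=
    le_antisymm (hJmax _ isMultTypeConst_multIdeal) (multIdeal_le J hJ)
  subst hJeq
  let hB := isHopfSubalgebra_unitComp (k := k) (A := A)
  letI := HopfSub.hopfAlgebra hB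
  let hC := TrigGalois.isHopf_desc (k := k) (A := A) (AlgebraicClosure k)
  letI := HopfSub.hopfAlgebra hC
  let iB : unitComp k A →ₐc[k] A := HopfSub.incl hB
  let iC : coradical k A →ₐc[k] A := HopfSub.incl hC
  let I := KerHopf.kerIdeal iC
  haveI hIH : I.IsHopfIdeal k := KerHopf.isHopfIdeal iC
  let qJ : A →ₐ[k] A ⧸ multIdeal k A := Ideal.Quotient.mkₐ k (multIdeal k A)
  let qI : A →ₐ[k] A ⧸ I := Ideal.Quotient.mkₐ k I
  have hqJB : ∀ b, qJ (iB b) = algebraMap k _ (Coalgebra.counit (R := k) b) := fun b => KerHopf.mk_comp iB b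
  have hqIC : ∀ c, qI (iC c) = algebraMap k _ (Coalgebra.counit (R := k) c) := fun c => KerHopf.mk_comp iC c
  let e := AlgEquiv.ofBijective (mulMap (k := k) (A := A)) ⟨injective_mulMap, surjective_mulMap⟩
  have he : ∀ c b, e (c ⊗ₜ[k] b) = iC c * iB b := fun c b => rfl
  -- projection to the component
  let rB : A →ₐ[k] unitComp k A := (Algebra.TensorProduct.productMap
    ((Algebra.ofId k (unitComp k A)).comp (Bialgebra.counitAlgHom k (coradical k A))) (AlgHom.id k _)).comp e.symm.toAlgHom
  let rC : A →ₐ[k] coradical k A := (Algebra.TensorProduct.productMap (AlgHom.id k _)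
    ((Algebra.ofId k (coradical k A)).comp (Bialgebra.counitAlgHom k (unitComp k A)))).comp e.symm.toAlgHom
  have hrBC : ∀ c, rB (iC c) = algebraMap k _ (Coalgebra.counit (R := k) c) := fun c => by
    have h : e.symm (iC c) = c ⊗ₜ[k] 1 := e.injective (by rw [AlgEquiv.apply_symm_apply, he, map_one, mul_one])
    simp [rB, h]
  have hrBB : ∀ b, rB (iB b) = b := fun b => by
    have h : e.symm (iB b) = 1 ⊗ₜ[k] b := e.injective (by rw [AlgEquiv.apply_symm_apply, he, map_one, one_mul])
    simp [rB, h]
  have hrCB : ∀ b, rC (iB b) = algebraMap k _ (Coalgebra.counit (R := k) b) := fun b => by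
    have h : e.symm (iB b) = 1 ⊗ₜ[k] b := e.injective (by rw [AlgEquiv.apply_symm_apply, he, map_one, one_mul])
    simp [rC, h]
  have hrCC : ∀ c, rC (iC c) = c := fun c => by
    have h : e.symm (iC c) = c ⊗ₜ[k] 1 := e.injective (by rw [AlgEquiv.apply_symm_apply, he, map_one, mul_one])
    simp [rC, h]
  let gI : unitComp k A →ₐ[k] A ⧸ I := qI.comp (iB : unitComp k A →ₐ[k] A)
  let gJ : coradical k A →ₐ[k] A ⧸ multIdeal k A := qJ.comp (iC : coradical k A →ₐ[k] A)
  have hgI : Function.Bijective gI := by
    have hle : ∀ a ∈ I, rB a = 0 := by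
      suffices I ≤ RingHom.ker rB from fun a ha => this ha
      refine Ideal.map_le_iff_le_comap.2 fun c hc => ?_
      rw [RingHom.mem_ker, Bialgebra.counitAlgHom_apply] at hc
      rw [Ideal.mem_comap, RingHom.mem_ker]
      exact (hrBC c).trans (by rw [hc, map_zero])
    refine ⟨fun x y h => ?_, fun y => ?_⟩
    · have h' := congrArg (Ideal.Quotient.liftₐ I rB hle) h
      exact ((hrBB x).symm.trans h').trans (hrBB y)
    · obtain ⟨a, rfl⟩ := Ideal.Quotient.mk_surjective y
      obtain ⟨w, rfl⟩ := e.surjective a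
      induction w using TensorProduct.induction_on with
      | zero => exact ⟨0, by simp⟩
      | add p q hp hq =>
        obtain ⟨p', hp'⟩ := hp
        obtain ⟨q', hq'⟩ := hq
        exact ⟨p' + q', by rw [map_add, map_add, map_add, hp', hq']⟩
      | tmul c b =>
        refine ⟨Coalgebra.counit (R := k) c • b, ?_⟩
        rw [he, map_mul, map_smul]
        show Coalgebra.counit (R := k) c • qI (iB b) = qI (iC c) * qI (iB b)
        rw [hqIC, Algebra.smul_def]
  have hgJ : Function.Bijective gJ := by
    have hle : ∀ a ∈ multIdeal k A, rC a = 0 := by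
      suffices multIdeal k A ≤ RingHom.ker rC from fun a ha => this ha
      refine Ideal.map_le_iff_le_comap.2 fun c hc => ?_
      rw [RingHom.mem_ker, Bialgebra.counitAlgHom_apply] at hc
      rw [Ideal.mem_comap, RingHom.mem_ker]
      exact (hrCB c).trans (by rw [hc, map_zero])
    refine ⟨fun x y h => ?_, fun y => ?_⟩
    · have h' := congrArg (Ideal.Quotient.liftₐ (multIdeal k A) rC hle) h
      exact ((hrCC x).symm.trans h').trans (hrCC y)
    · obtain ⟨a, rfl⟩ := Ideal.Quotient.mk_surjective y
      obtain ⟨w, rfl⟩ := e.surjective a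
      induction w using TensorProduct.induction_on with
      | zero => exact ⟨0, by simp⟩
      | add p q hp hq =>
        obtain ⟨p', hp'⟩ := hp
        obtain ⟨q', hq'⟩ := hq
        exact ⟨p' + q', by rw [map_add, map_add, map_add, hp', hq']⟩
      | tmul c b =>
        refine ⟨Coalgebra.counit (R := k) b • c, ?_⟩
        rw [he, map_mul, map_smul]
        show Coalgebra.counit (R := k) b • qJ (iC c) = qJ (iC c) * qJ (iB b)
        rw [hqJB, mul_comm, Algebra.smul_def]
  -- the quotient by `I` is unipotent
  have hUI : HopfRep.IsUnipotent k (A ⧸ I) := by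
    let π : unitComp k A →ₐc[k] A ⧸ I := (Bialgebra.Quotient.mkBialgHom I).comp iB
    refine Image2.isUnipotent_image (k := k) gI.toLinearMap ?_ ?_ (Image.flags_unip (isUnipotent_unitComp (k := k) (A := A))) ?_
    · intro χ z
      refine (TrigUnip.contract_comul_map π χ z).trans ?_
      rw [contract_apply]
      change π (slice _ (Coalgebra.comul (R := k) z)) = _
      induction Coalgebra.comul (R := k) z using TensorProduct.induction_on with
      | zero => simp
      | tmul x y => simp [π, gI, qI, Bialgebra.Quotient.mkBialgHom] <;> rfl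
      | add x y hx hy => simp only [map_add, hx, hy]
    · exact eq_top_iff.2 fun y _ => Submodule.subset_span (hgI.2 y)
    · rintro a rfl
      exact map_one gI
  -- the multiplication map
  let Θ : A →ₐ[k] (A ⧸ multIdeal k A) ⊗[k] (A ⧸ I) :=
    (Algebra.TensorProduct.map qJ qI).comp (Bialgebra.comulAlgHom k A)
  have hΘC : ∀ c, Θ (iC c) = gJ c ⊗ₜ[k] 1 := fun c => by
    show Algebra.TensorProduct.map qJ qI (Coalgebra.comul (R := k) (iC c)) = _
    rw [← CoalgHomClass.map_comp_comul_apply iC]
    have h2 := congrArg (gJ.toLinearMap.rTensor (A ⧸ I))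
      (congrArg ((Algebra.linearMap k (A ⧸ I)).lTensor (coradical k A))
        (Coalgebra.lTensor_counit_comul (R := k) c))
    simp only [LinearMap.lTensor_tmul, LinearMap.rTensor_tmul, Algebra.linearMap_apply, map_one,
      AlgHom.toLinearMap_apply] at h2
    rw [← h2]
    clear h2
    induction Coalgebra.comul (R := k) c using TensorProduct.induction_on with
    | zero => simp
    | tmul x y =>
      simp only [TensorProduct.map_tmul, Algebra.TensorProduct.map_tmul, LinearMap.lTensor_tmul, LinearMap.rTensor_tmul]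
      exact congrArg (gJ x ⊗ₜ[k] ·) (hqIC y)
    | add x y hx hy => simp only [map_add, hx, hy]
  have hΘB : ∀ b, Θ (iB b) = 1 ⊗ₜ[k] gI b := fun b => by
    show Algebra.TensorProduct.map qJ qI (Coalgebra.comul (R := k) (iB b)) = _
    rw [← CoalgHomClass.map_comp_comul_apply iB]
    have h2 := congrArg (gI.toLinearMap.lTensor (A ⧸ multIdeal k A))
      (congrArg ((Algebra.linearMap k (A ⧸ multIdeal k A)).rTensor (unitComp k A))
        (Coalgebra.rTensor_counit_comul (R := k) b))
    simp only [LinearMap.lTensor_tmul, LinearMap.rTensor_tmul, Algebra.linearMap_apply, map_one,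
      AlgHom.toLinearMap_apply] at h2
    rw [← h2]
    clear h2
    induction Coalgebra.comul (R := k) b using TensorProduct.induction_on with
    | zero => simp
    | tmul x y =>
      simp only [TensorProduct.map_tmul, Algebra.TensorProduct.map_tmul, LinearMap.lTensor_tmul, LinearMap.rTensor_tmul]
      exact congrArg (· ⊗ₜ[k] gI y) (hqJB x)
    | add x y hx hy => simp only [map_add, hx, hy]
  have hΘ : Function.Bijective Θ := by
    let EJ := AlgEquiv.ofBijective gJ hgJ
    let EI := AlgEquiv.ofBijective gI hgI
    have hco : ∀ w, Θ (e w) = Algebra.TensorProduct.congr EJ EI w := fun w => by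
      induction w using TensorProduct.induction_on with
      | zero => simp
      | add p q hp hq => simp only [map_add, hp, hq]
      | tmul c b =>
        rw [he, map_mul, hΘC, hΘB, Algebra.TensorProduct.tmul_mul_tmul, one_mul, mul_one]
        rfl
    have : (Θ : A → _) = Algebra.TensorProduct.congr EJ EI ∘ e.symm := funext fun a => by
      simpa using hco (e.symm a)
    rw [this]
    exact (Algebra.TensorProduct.congr EJ EI).bijective.comp e.symm.bijective
  refine ⟨I, ⟨hIH, hUI, hΘ⟩, ?_⟩
  rintro I' ⟨hI', hU', hΘ'⟩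
  haveI : Algebra.FiniteType k (coradical k A) := Image2.finiteType_of_injective iC Subtype.val_injective
  haveI : Algebra.FiniteType k (A ⧸ I') :=
    Algebra.FiniteType.of_surjective (Ideal.Quotient.mkₐ k I') Ideal.Quotient.mk_surjective
  have hle : I ≤ I' := by
    refine Ideal.map_le_iff_le_comap.2 fun c hc => ?_
    rw [RingHom.mem_ker, Bialgebra.counitAlgHom_apply] at hc
    have h := (S2966.result (isDiagonalizable_coradical (k := k) (A := A)) hU').2
      ((Bialgebra.Quotient.mkBialgHom I').comp iC) c
    have h1 : Ideal.Quotient.mk I' (iC c) = 0 := h.trans (by rw [hc, map_zero])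
    exact (Ideal.Quotient.eq_zero_iff_mem.1 h1 :)
  refine (le_antisymm hle fun x hx => ?_).symm
  let π : A ⧸ I →ₐ[k] A ⧸ I' := Ideal.Quotient.factorₐ k hle
  have hcomp : ∀ a, Algebra.TensorProduct.map qJ (Ideal.Quotient.mkₐ k I') (Coalgebra.comul (R := k) a) =
      Algebra.TensorProduct.map (AlgHom.id k _) π (Θ a) := fun a => by
    show _ = Algebra.TensorProduct.map (AlgHom.id k _) π (Algebra.TensorProduct.map qJ qI (Coalgebra.comul (R := k) a))
    induction Coalgebra.comul (R := k) a using TensorProduct.induction_on with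
    | zero => simp
    | tmul p q => simp [π, qI]
    | add p q hp hq => simp only [map_add, hp, hq]
  obtain ⟨y, hy⟩ := hΘ.2 ((1 : A ⧸ multIdeal k A) ⊗ₜ[k] qI x)
  have hy0 : y = 0 := hΘ'.1 (by
    show Algebra.TensorProduct.map qJ (Ideal.Quotient.mkₐ k I') (Coalgebra.comul (R := k) y) =
      Algebra.TensorProduct.map qJ (Ideal.Quotient.mkₐ k I') (Coalgebra.comul (R := k) 0)
    rw [hcomp, hy, map_zero, map_zero, Algebra.TensorProduct.map_tmul,
      show π (qI x) = 0 from Ideal.Quotient.eq_zero_iff_mem.2 hx, TensorProduct.tmul_zero])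
  rw [hy0, map_zero] at hy
  haveI : Nontrivial (A ⧸ multIdeal k A) :=
    (Bialgebra.counitAlgHom k (A ⧸ multIdeal k A)).toRingHom.domain_nontrivial
  have hx0 : qI x = 0 :=
    (Algebra.TensorProduct.includeRight_injective (R := k) (A := A ⧸ multIdeal k A) (B := A ⧸ I)
      (algebraMap k _).injective) (show (1 : A ⧸ multIdeal k A) ⊗ₜ[k] qI x =
        (1 : A ⧸ multIdeal k A) ⊗ₜ[k] (0 : A ⧸ I) by rw [TensorProduct.tmul_zero]; exact hy.symm)
  exact Ideal.Quotient.eq_zero_iff_mem.1 hx0

end Groth.Agent.S5433
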