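import Groth.Statements.S5436
import Groth.Agent.RelDense.Extend
-- import your own Groth.Agent.* helpers here

set_option autoImplicit false
universe u
open CategoryTheory MonoidalCategory CartesianMonoidalCategory MonObj GrpObj AlgebraicGeometry CategoryTheory.Limits
open SGA3x

namespace Groth.Agent.S5436

/-- Let G be an S-group scheme, flat and locally of finite presentation over S, U an open subscheme of G
schematically dense in G relative to S, H an S-group scheme and f̄ : U → H an S-morphism. Let V be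
an open of G ×_S G contained in (U ×_S U) ∩ m⁻¹(U) and schematically dense in G ×_S G relative to S,
such that for every S-scheme X and all X-points a, b of U with (a, b) in V, the product ab (a point
of U) satisfies f̄(ab) = f̄(a) f̄(b). Then there is a unique homomorphism of S-groups f : G → H
whose restriction to U is f̄. (The published statement also covers certain sheaves of groups H for
the fppf topology that are not schemes; this row takes H a group scheme.) -/
theorem result (S : Scheme.{u}) (G H : Over S) [GrpObj G] [GrpObj H] [Flat G.hom] [LocallyOfFinitePresentation G.hom]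
    (U : G.left.Opens) (hU : (∀ (S' : Scheme.{u}) (g : S' ⟶ S), CInt.IsSchematicallyDense ((pullback.fst G.hom g) ⁻¹ᵁ U)))
    (jU : Over.mk (U.ι ≫ G.hom) ⟶ G) (hjU : jU.left = U.ι) (fbar : Over.mk (U.ι ≫ G.hom) ⟶ H)
    (V : (G ⊗ G).left.Opens) (hV : (∀ (S' : Scheme.{u}) (g : S' ⟶ S), CInt.IsSchematicallyDense ((pullback.fst (G ⊗ G).hom g) ⁻¹ᵁ V)))
    (hV1 : V ≤ (fst G G).left ⁻¹ᵁ U) (hV2 : V ≤ (snd G G).left ⁻¹ᵁ U) (hVm : V ≤ μ[G].left ⁻¹ᵁ U)
    (hmul : ∀ (X : Over S) (a b : X ⟶ Over.mk (U.ι ≫ G.hom)),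
      Set.range (lift (a ≫ jU) (b ≫ jU)).left.base ⊆ (V : Set ↥(G ⊗ G).left) →
      ∃ c : X ⟶ Over.mk (U.ι ≫ G.hom), c ≫ jU = (a ≫ jU) * (b ≫ jU) ∧ c ≫ fbar = (a ≫ fbar) * (b ≫ fbar)) :
    ∃! f : G ⟶ H, IsMonHom f ∧ jU ≫ f = fbar := by
  obtain rfl : jU = Groth.Agent.RelDense.subι U := Over.OverMorphism.ext hjU
  have hUr := Groth.Agent.RelDense.rel_of hU
  have hVr := Groth.Agent.RelDense.rel_of hV
  obtain ⟨F, hF, hres⟩ := Groth.Agent.RelDense.exists_hom fbar hVr hV2
    (fun X a b h => hmul X a b (by rintro _ ⟨x, rfl⟩; exact h (x := x) trivial)) hUr hV1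
  refine ⟨F, ⟨hF, hres⟩, fun f hf => ?_⟩
  exact Groth.Agent.RelDense.hom_ext_sub hUr (hf.2.trans hres.symm)

end Groth.Agent.S5436
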