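import Groth.Statements.S5439
import Groth.Agent.DiagExt19.Descent
import Groth.Agent.DiagExt19.EtaleKernel
import Groth.Agent.MultType.Diag
import Mathlib.RingTheory.Etale.Field
import Mathlib.RingTheory.Unramified.Field
-- import your own Groth.Agent.* helpers here

set_option autoImplicit false
set_option linter.style.haveILetI false
set_option synthInstance.maxHeartbeats 400000
set_option maxHeartbeats 800000
universe u
open TensorProduct
open SGA3

namespace Groth.Agent.S5439

/-- Let k be a field, A a finitely generated commutative Hopf algebra (an algebraic group E), ψ : B → A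
an injective bialgebra map from a finitely generated Hopf algebra B of multiplicative type (the
quotient H), J the Hopf ideal generated by the image of the augmentation ideal of B (the kernel U =
Spec (A/J)), with U unipotent in the fixed-vector sense and étale over k (A/J an étale k-algebra).
If H is connected (B has no idempotents other than 0 and 1), then there is exactly one lifting of H
in E, i.e. exactly one bialgebra map r : A → B with r ∘ ψ = id. (The published statement also
identifies this lifting as the identity component of E; this row omits that.) -/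
theorem result (k : Type u) [Field k] (A B : Type u) [CommRing A] [HopfAlgebra k A] [Algebra.FiniteType k A] [CommRing B] [HopfAlgebra k B]
    [Algebra.FiniteType k B] (hB : SGA3b.IsMultTypeConst k B) (ψ : B →ₐc[k] A) (hψ : Function.Injective ψ)
    (J : Ideal A) [J.IsHopfIdeal k] (hJ : J = Ideal.map (ψ : B →+* A) (RingHom.ker (Bialgebra.counitAlgHom k B)))
    (hU : HopfRep.IsUnipotent k (A ⧸ J)) [Algebra.Etale k (A ⧸ J)]
    (hH : ∀ e : B, IsIdempotentElem e → e = 0 ∨ e = 1) :
    ∃! r : A →ₐc[k] B, r.comp ψ = BialgHom.id k B := by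
  classical
  subst hJ
  let L := SeparableClosure k
  obtain ⟨R', _, _, hff, hdiag⟩ := hB
  obtain ⟨k', _, _, hfin, hsep', M, _, -, ⟨e⟩⟩ :=
    Groth.Agent.MultType.FieldSplit.exists_separable_split (Groth.Agent.MultType.Diag.isMultType_of_diag R' hdiag) inferInstance
  haveI : Algebra.IsSeparable k k' := hsep'
  let lf : k' →ₐ[k] L := IsSepClosed.lift
  have hBL : HopfRep.IsDiagonalizable L (L ⊗[k] B) := by
    have h0 := Groth.Agent.MultType.Diag.span_of_equiv e
    have h1 : ∀ z : k' ⊗[k] B, Groth.Agent.MultType.GroupLike.bcMap lf B z ∈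
        Submodule.span L {g : L ⊗[k] B | IsGroupLikeElem L g} := fun z => by
      have hz : z ∈ Submodule.span k' {g : k' ⊗[k] B | IsGroupLikeElem k' g} := by rw [h0]; trivial
      induction hz using Submodule.span_induction with
      | mem g hg => exact Submodule.subset_span (Groth.Agent.MultType.GroupLike.map_isGroupLikeElem lf hg)
      | zero => simp
      | add p q _ _ hp hq => rw [map_add]; exact add_mem hp hq
      | smul c p _ hp => rw [Groth.Agent.MultType.FieldSplit.bcMap_smul]; exact Submodule.smul_mem _ _ hp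
    refine eq_top_iff.2 fun z _ => ?_
    induction z using TensorProduct.induction_on with
    | zero => exact zero_mem _
    | add p q hp hq => exact add_mem (hp trivial) (hq trivial)
    | tmul c b =>
      have h2 := Submodule.smul_mem _ c (h1 ((1 : k') ⊗ₜ[k] b))
      simpa [Groth.Agent.MultType.GroupLike.bcMap, TensorProduct.smul_tmul'] using h2
  let ψL := Groth.Agent.Comod.TrigGalois.bcHom L ψ
  have hψL : Function.Injective ψL := Groth.Agent.Comod.TrigGalois.bcHom_injective L hψ
  haveI := Groth.Agent.Comod.KerHopf.isHopfIdeal ψ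
  haveI := Groth.Agent.Comod.KerHopf.isHopfIdeal ψL
  have hUL := Groth.Agent.DiagExt19.isUnipotent_kerIdeal_baseChange L ψ hU
  let U := A ⧸ Groth.Agent.Comod.KerHopf.kerIdeal ψ
  haveI : Algebra.Etale k U := ‹_›
  have hsep : ∀ y : (L ⊗[k] A) ⧸ Groth.Agent.Comod.KerHopf.kerIdeal ψL,
      ∃ F : Polynomial L, F.Separable ∧ Polynomial.aeval y F = 0 := by
    intro y
    let f₁ : L ⊗[k] U →ₐ[L] (L ⊗[k] A) ⧸ Groth.Agent.Comod.KerHopf.kerIdeal ψL :=
      Algebra.TensorProduct.lift (Algebra.ofId L _)
        (Ideal.Quotient.liftₐ _ ((Ideal.Quotient.mkₐ k (Groth.Agent.Comod.KerHopf.kerIdeal ψL)).comp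
          Algebra.TensorProduct.includeRight) (fun a ha => (by
            suffices h : Groth.Agent.Comod.KerHopf.kerIdeal ψ ≤ RingHom.ker
                ((Ideal.Quotient.mkₐ k (Groth.Agent.Comod.KerHopf.kerIdeal ψL)).comp
                  Algebra.TensorProduct.includeRight) from h ha
            refine Ideal.map_le_iff_le_comap.2 fun b hb => ?_
            rw [Ideal.mem_comap, RingHom.mem_ker]
            show Ideal.Quotient.mk _ (ψL ((1 : L) ⊗ₜ[k] b)) = 0
            rw [Groth.Agent.Comod.KerHopf.mk_comp]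
            rw [RingHom.mem_ker, Bialgebra.counitAlgHom_apply] at hb
            simp [hb]))) (fun _ _ => Commute.all _ _)
    obtain ⟨w, rfl⟩ : ∃ w, f₁ w = y := by
      obtain ⟨z, rfl⟩ := Ideal.Quotient.mk_surjective y
      induction z using TensorProduct.induction_on with
      | zero => exact ⟨0, by simp⟩
      | add p q hp hq =>
        obtain ⟨p', hp'⟩ := hp
        obtain ⟨q', hq'⟩ := hq
        exact ⟨p' + q', by rw [map_add, map_add, hp', hq']⟩
      | tmul c a =>
        refine ⟨c ⊗ₜ[k] Ideal.Quotient.mk _ a, ?_⟩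
        rw [show (c ⊗ₜ[k] a : L ⊗[k] A) = c • ((1 : L) ⊗ₜ[k] a) by
          rw [TensorProduct.smul_tmul', smul_eq_mul, mul_one]]
        rw [show Ideal.Quotient.mk (Groth.Agent.Comod.KerHopf.kerIdeal ψL) (c • ((1 : L) ⊗ₜ[k] a)) =
            c • Ideal.Quotient.mk (Groth.Agent.Comod.KerHopf.kerIdeal ψL) ((1 : L) ⊗ₜ[k] a) from
          map_smul (Ideal.Quotient.mkₐ L (Groth.Agent.Comod.KerHopf.kerIdeal ψL)) c _, Algebra.smul_def]
        simp [f₁]
        rfl
    haveI : Algebra.Etale L (L ⊗[k] U) := inferInstance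
    haveI : IsSepClosed L := inferInstance
    let E := Algebra.FormallyEtale.equivPiOfIsSepClosed (K := L) (A := L ⊗[k] U)
    haveI : Finite (PrimeSpectrum (L ⊗[k] U)) := by
      haveI := Algebra.FormallyUnramified.finite_of_free L (L ⊗[k] U)
      haveI : IsArtinianRing (L ⊗[k] U) := IsArtinianRing.of_finite L (L ⊗[k] U)
      exact Finite.of_equiv (MaximalSpectrum (L ⊗[k] U)) (IsArtinianRing.primeSpectrumEquivMaximalSpectrum (R := L ⊗[k] U)).symm
    let S := (Set.finite_range (E w)).toFinset
    refine ⟨∏ s ∈ S, (Polynomial.X - Polynomial.C s),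
      Polynomial.separable_prod_X_sub_C_iff'.2 fun a _ b _ hab => hab, ?_⟩
    rw [Polynomial.aeval_algHom_apply]
    suffices h : Polynomial.aeval w (∏ s ∈ S, (Polynomial.X - Polynomial.C s)) = 0 by rw [h, map_zero]
    apply E.injective
    rw [map_zero, ← AlgEquiv.coe_toAlgHom, ← Polynomial.aeval_algHom_apply, map_prod]
    funext p
    rw [Finset.prod_apply, Pi.zero_apply]
    refine Finset.prod_eq_zero (i := E w p) ((Set.finite_range (E w)).mem_toFinset.2 ⟨p, rfl⟩) ?_
    simp
  have hconn : ∀ g : L ⊗[k] B, IsGroupLikeElem L g → ∀ m : ℕ, (m : L) ≠ 0 → g ^ m = 1 → g = 1 :=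
    fun g hg m hm hgm => Groth.Agent.DiagExt19.eq_one_of_connected L hH g hg m hm hgm
  -- existence and uniqueness over the separable closure
  obtain ⟨rL, hrL⟩ := Groth.Agent.DiagExt19.exists_retraction_of_step hBL ψL hψL hUL
    fun D hD hBD r hr x h hh hx =>
      Groth.Agent.DiagExt19.exists_step_etale ψL hBL hD hBD hr hh hx hsep hconn
  have huniq : ∀ r₁ r₂ : L ⊗[k] A →ₐc[L] L ⊗[k] B, r₁.comp ψL = BialgHom.id L _ → r₂.comp ψL = BialgHom.id L _ →
      ∀ a, r₁ a = r₂ a := by
    intro r₁ r₂ h₁ h₂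
    have h := Groth.Agent.DiagExt19.chain_induction ψL hψL hUL hBL (P := fun D =>
      (ψL : L ⊗[k] B →ₐ[L] L ⊗[k] A).range ≤ D ∧ D ≤ AlgHom.equalizer (r₁ : L ⊗[k] A →ₐ[L] L ⊗[k] B) (r₂ : L ⊗[k] A →ₐ[L] L ⊗[k] B))
      ⟨le_rfl, by
        rintro _ ⟨b, rfl⟩
        exact (DFunLike.congr_fun h₁ b).trans (DFunLike.congr_fun h₂ b).symm⟩
      (fun D hD _ x h hh hx hP => ⟨hP.1.trans le_sup_left, sup_le hP.2 (Algebra.adjoin_le (by
        rintro a rfl
        exact Groth.Agent.DiagExt19.unique_step_etale ψL hBL hD hP.1 r₁ r₂ h₁ h₂ (fun a ha => hP.2 ha) hh hx hsep hconn))⟩)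
    exact fun a => h.2 trivial
  have hψ1 : ∀ b, ψL ((1 : L) ⊗ₜ[k] b) = (1 : L) ⊗ₜ[k] ψ b := fun b => rfl
  have hfix : ∀ (σ : L ≃ₐ[k] L) (a : A),
      Groth.Agent.MultType.GroupLike.bcMap σ.toAlgHom B (rL ((1 : L) ⊗ₜ[k] a)) = rL ((1 : L) ⊗ₜ[k] a) := by
    intro σ a
    obtain ⟨r', hr'⟩ := Groth.Agent.DiagExt19.exists_twist L σ.toAlgHom rL
    rw [← hr']
    refine huniq r' rL (BialgHom.ext fun z => ?_) hrL _
    induction z using TensorProduct.induction_on with
    | zero => simp
    | add p q hp hq => simp only [map_add, hp, hq]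
    | tmul c b =>
      rw [show (c ⊗ₜ[k] b : L ⊗[k] B) = c • ((1 : L) ⊗ₜ[k] b) by
        rw [TensorProduct.smul_tmul', smul_eq_mul, mul_one], map_smul, map_smul]
      congr 1
      show r' (ψL ((1 : L) ⊗ₜ[k] b)) = _
      rw [hψ1, hr', ← hψ1, show rL (ψL ((1 : L) ⊗ₜ[k] b)) = (1 : L) ⊗ₜ[k] b from DFunLike.congr_fun hrL _]
      simp [Groth.Agent.MultType.GroupLike.bcMap]
  obtain ⟨r, hr⟩ := Groth.Agent.DiagExt19.exists_descend L rL hfix
  have hinj := Algebra.TensorProduct.includeRight_injective (R := k) (A := L) (B := B) (algebraMap k L).injective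
  refine ⟨r, BialgHom.ext fun b => hinj ?_, fun r' hr' => BialgHom.ext fun a => hinj ?_⟩
  · show (1 : L) ⊗ₜ[k] r (ψ b) = (1 : L) ⊗ₜ[k] b
    rw [hr, ← hψ1]
    exact DFunLike.congr_fun hrL _
  · show (1 : L) ⊗ₜ[k] r' a = (1 : L) ⊗ₜ[k] r a
    rw [hr, ← huniq (Groth.Agent.Comod.TrigGalois.bcHom L r') rL ?_ hrL]
    · rfl
    · refine BialgHom.ext fun z => ?_
      induction z using TensorProduct.induction_on with
      | zero => simp
      | add p q hp hq => simp only [map_add, hp, hq]
      | tmul c b =>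
        show c ⊗ₜ[k] r' (ψ b) = c ⊗ₜ[k] b
        rw [show r' (ψ b) = b from DFunLike.congr_fun hr' b]

end Groth.Agent.S5439
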