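import Groth.Statements.S5441
import Groth.Agent.EtRetr.Basic
-- import your own Groth.Agent.* helpers here

set_option autoImplicit false
set_option linter.style.haveILetI false
universe u
open TensorProduct
open SGA3

namespace Groth.Agent.S5441

/-- Let k be a perfect field, A a finitely generated commutative Hopf algebra (an algebraic group H), ψ
: C → A an injective bialgebra map with C an étale k-algebra (the étale quotient H″), J the Hopf
ideal of A generated by the image of the augmentation ideal of C (the kernel H′ = Spec (A/J)), with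
A/J a local ring (H′ radiciel). Then H″ lifts uniquely into H and the lifting is the reduced
subgroup: there is exactly one bialgebra map r : A → C with r ∘ ψ = id, and every such r has kernel
the nilradical of A. -/
theorem result (k : Type u) [Field k] [PerfectField k] (A C : Type u) [CommRing A] [HopfAlgebra k A] [Algebra.FiniteType k A]
    [CommRing C] [HopfAlgebra k C] [Algebra.Etale k C] (ψ : C →ₐc[k] A) (hψ : Function.Injective ψ)
    (J : Ideal A) [J.IsHopfIdeal k] (hJ : J = Ideal.map (ψ : C →+* A) (RingHom.ker (Bialgebra.counitAlgHom k C)))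
    [IsLocalRing (A ⧸ J)] :
    (∃! r : A →ₐc[k] C, r.comp ψ = BialgHom.id k C) ∧
    ∀ r : A →ₐc[k] C, r.comp ψ = BialgHom.id k C → RingHom.ker (r : A →+* C) = nilradical A := by
  haveI : IsReduced C := Algebra.FormallyUnramified.isReduced_of_field k C
  haveI : IsReduced (C ⊗[k] C) := by
    haveI : Algebra.Etale k (C ⊗[k] C) := Algebra.Etale.comp k C _
    exact Algebra.FormallyUnramified.isReduced_of_field k _
  have hb := Groth.Agent.EtRetr.bijective_red ψ hψ J hJ
  let e := AlgEquiv.ofBijective _ hb
  let r₀ : A →ₐ[k] C := e.symm.toAlgHom.comp (Ideal.Quotient.mkₐ k (nilradical A))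
  have hr₀ : ∀ c, r₀ (ψ c) = c := fun c => e.symm_apply_apply c
  have hkey : ∀ a, IsNilpotent (a - ψ (r₀ a)) := fun a => by
    refine mem_nilradical.mp (Ideal.Quotient.eq.mp ?_)
    exact (e.apply_symm_apply (Ideal.Quotient.mk (nilradical A) a)).symm
  have hnil : ∀ (φ : A →ₐ[k] C) a, IsNilpotent a → φ a = 0 := fun φ a ha => (ha.map φ).eq_zero
  have hker : ∀ r : A →ₐc[k] C, r.comp ψ = BialgHom.id k C → ∀ a, r a = r₀ a := by
    intro r hr a
    have h1 := hnil (r : A →ₐ[k] C) _ (hkey a)
    rw [map_sub, sub_eq_zero] at h1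
    exact h1.trans (DFunLike.congr_fun hr (r₀ a))
  refine ⟨?_, fun r hr => ?_⟩
  · refine ⟨BialgHom.ofAlgHom r₀ ?_ ?_, ?_, ?_⟩
    · refine AlgHom.ext fun a => ?_
      show Coalgebra.counit (R := k) (r₀ a) = Coalgebra.counit a
      have h1 : (Bialgebra.counitAlgHom k A) (a - ψ (r₀ a)) = 0 :=
        ((hkey a).map (Bialgebra.counitAlgHom k A)).eq_zero
      rw [map_sub, sub_eq_zero] at h1
      exact (CoalgHomClass.counit_comp_apply ψ (r₀ a)).symm.trans h1.symm
    · refine AlgHom.ext fun a => ?_
      show Algebra.TensorProduct.map r₀ r₀ (Coalgebra.comul a) = Coalgebra.comul (r₀ a)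
      have h1 : ((Algebra.TensorProduct.map r₀ r₀).comp (Bialgebra.comulAlgHom k A)) (a - ψ (r₀ a)) = 0 :=
        ((hkey a).map _).eq_zero
      rw [map_sub, sub_eq_zero] at h1
      refine h1.trans ?_
      show Algebra.TensorProduct.map r₀ r₀ (Coalgebra.comul (ψ (r₀ a))) = _
      rw [← CoalgHomClass.map_comp_comul_apply ψ (r₀ a)]
      generalize Coalgebra.comul (R := k) (r₀ a) = t
      induction t using TensorProduct.induction_on with
      | zero => simp
      | tmul c d =>
        show r₀ (ψ c) ⊗ₜ[k] r₀ (ψ d) = _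
        rw [hr₀, hr₀]
      | add s t hs ht => rw [map_add, map_add, hs, ht]
    · exact DFunLike.ext _ _ hr₀
    · intro r hr
      exact DFunLike.ext _ _ (hker r hr)
  · ext a
    refine ⟨fun ha => mem_nilradical.mpr ?_, fun ha => hnil (r : A →ₐ[k] C) a (mem_nilradical.mp ha)⟩
    have h1 : r₀ a = 0 := (hker r hr a).symm.trans ha
    have h2 := hkey a
    rw [h1, map_zero, sub_zero] at h2
    exact h2

end Groth.Agent.S5441
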