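import Groth.Statements.S5446
import Groth.Agent.RootDatum.Sat
import Groth.Agent.RootDatum.Forms
-- import your own Groth.Agent.* helpers here

set_option autoImplicit false
open RootD

namespace Groth.Agent.S5446

/-- If the roots indexed by Δ are indivisible and linearly independent and every root is, up to sign, a
non-negative rational combination of them (some positive multiple is a non-negative integer
combination), then Δ is a system of simple roots: every root is, up to sign, a non-negative integer
combination of Δ. -/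
theorem result {ι M N : Type*} [AddCommGroup M] [AddCommGroup N]
    (P : RootPairing ι ℤ M N) [Finite ι] (Δ : Set ι)
    (hind : ∀ i ∈ Δ, RootD.IsIndiv P i) (hli : LinearIndepOn ℤ P.root Δ)
    (hcone : ∀ k : ι, ∃ n : ℕ, 0 < n ∧
      (n • P.root k ∈ RootD.natSpan P Δ ∨ n • (-P.root k) ∈ RootD.natSpan P Δ)) :
    RootD.IsSimpleSys P Δ := by
  classical
  have hlc : ∀ c d : ι →₀ ℤ, ↑c.support ⊆ Δ → ↑d.support ⊆ Δ →
      Finsupp.linearCombination ℤ P.root c = Finsupp.linearCombination ℤ P.root d → c = d :=
    fun c d hc hd e => sub_eq_zero.mp (linearIndepOn_iff.mp hli (c - d)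
      (Submodule.sub_mem _ ((Finsupp.mem_supported ℤ c).mpr hc)
        ((Finsupp.mem_supported ℤ d).mpr hd)) (by rw [map_sub, e, sub_self]))
  set S : Set ι := {k | ∃ n : ℕ, 0 < n ∧ n • P.root k ∈ RootD.natSpan P Δ}
  have hS : RootD.IsPosSys P S := by
    refine RootDatum.isPosSys_of_closed P (fun k ⟨n, hn, hk⟩ ⟨m, hm, hk'⟩ => ?_) (fun k => ?_)
      fun i j k ⟨n, hn, hi⟩ ⟨m, hm, hj⟩ e => ⟨n * m, Nat.mul_pos hn hm, ?_⟩
    · obtain ⟨c, hc, c0, ec⟩ := RootDatum.natSpan_eq_lc hk
      obtain ⟨d, hd, d0, ed⟩ := RootDatum.natSpan_eq_lc hk'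
      have e : (m : ℤ) • c + (n : ℤ) • d = 0 := by
        refine hlc _ _ ((Finset.coe_subset.mpr Finsupp.support_add).trans ?_) (by simp) ?_
        · rw [Finset.coe_union]
          exact Set.union_subset ((Finset.coe_subset.mpr Finsupp.support_smul).trans hc)
            ((Finset.coe_subset.mpr Finsupp.support_smul).trans hd)
        · rw [map_add, map_smul, map_smul, ec, ed, map_zero, RootDatum.root_neg]
          simp only [natCast_zsmul, smul_neg, ← mul_smul, mul_comm m n, add_neg_cancel]
      have hc' : c = 0 := Finsupp.ext fun x => by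
        have h1 : (m : ℤ) * c x + (n : ℤ) * d x = 0 := by simpa using DFunLike.congr_fun e x
        have := c0 x; have := d0 x
        simp only [Finsupp.coe_zero, Pi.zero_apply]
        have hm' : (0 : ℤ) < m := by exact_mod_cast hm
        nlinarith
      rw [hc', map_zero] at ec
      have := RootDatum.isAddTorsionFree_left P
      exact P.ne_zero k ((smul_eq_zero.mp ec.symm).resolve_left hn.ne')
    · obtain ⟨n, hn, h | h⟩ := hcone k
      · exact Or.inl ⟨n, hn, h⟩
      · exact Or.inr ⟨n, hn, by rwa [RootDatum.root_neg]⟩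
    · rw [e, smul_add]
      refine add_mem ?_ ?_
      · rw [mul_comm, mul_smul]; exact AddSubmonoid.nsmul_mem _ hi m
      · rw [mul_smul]; exact AddSubmonoid.nsmul_mem _ hj n
  have hΔS : ∀ i ∈ Δ, i ∈ S := fun i hi =>
    ⟨1, one_pos, by rw [one_smul]; exact RootDatum.root_mem_natSpan P hi⟩
  have h0 := RootDatum.isSimple_indec hS
  have hsub : RootDatum.indec P S ⊆ Δ := by
    intro δ hδ
    obtain ⟨hδS, hδi, hext⟩ := (RootDatum.mem_indec_iff P hS δ).mp hδ
    obtain ⟨n, hn, hmem⟩ := hδS
    by_contra hδΔ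
    refine hext n hn (RootDatum.natSpan_mono P ?_ hmem)
    rintro i hi
    refine ⟨hΔS i hi, fun ⟨a, b, hb, e⟩ => hδΔ ?_⟩
    suffices i = δ by rwa [← this]
    rcases RootDatum.zsmul_root_cases P hb e with ⟨e, -⟩ | ⟨e, -⟩ | ⟨e, -⟩ | ⟨e, -⟩ | ⟨e, -⟩ | ⟨e, -⟩
    · exact P.root.injective e
    · exact absurd (P.root_eq_neg_iff.mp e ▸ hΔS i hi) (hS.disjoint hδ.1)
    · exact absurd e.symm (hind i hi δ)
    · exact absurd (by rw [RootDatum.root_neg, e, smul_neg, neg_smul])
        (hind i hi (P.reflectionPerm δ δ))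
    · exact absurd e.symm (hδi i)
    · exact absurd (by rw [RootDatum.root_neg, e, smul_neg, neg_smul])
        (hδi (P.reflectionPerm i i))
  have heq : RootDatum.indec P S = Δ := by
    refine hsub.antisymm fun i hi => ?_
    have := hlc (h0.coeff i) (Finsupp.single i 1) ((h0.coeff_support i).trans hsub)
      ((Finset.coe_subset.mpr Finsupp.support_single_subset).trans (by simpa using hi))
      (by rw [h0.lc_coeff]; simp)
    exact h0.coeff_support i (by rw [this]; simp [Finsupp.support_single_ne_zero])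
  exact (RootDatum.isSimpleSys_int_iff P).mpr (heq ▸ h0)

end Groth.Agent.S5446
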