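import Groth.Statements.S5447
import Groth.Agent.RootDatum.Sat
import Groth.Agent.RootDatum.Forms
-- import your own Groth.Agent.* helpers here

set_option autoImplicit false
open RootD

namespace Groth.Agent.S5447

/-- If every root can be written in exactly one way as an integer combination of the roots indexed by Δ
with coefficients all of the same sign, then these roots are linearly independent (so Δ is a system
of simple roots) and indivisible. -/
theorem result {ι M N : Type*} [AddCommGroup M] [AddCommGroup N]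
    (P : RootPairing ι ℤ M N) [Finite ι] (Δ : Set ι)
    (h : ∀ k : ι, ∃! c : ι →₀ ℤ, (↑c.support ⊆ Δ ∧ ((∀ j, 0 ≤ c j) ∨ (∀ j, c j ≤ 0)) ∧
      Finsupp.linearCombination ℤ P.root c = P.root k)) :
    RootD.IsSimpleSys P Δ ∧ ∀ i ∈ Δ, RootD.IsIndiv P i := by
  classical
  have huniq : ∀ (k : ι) (c d : ι →₀ ℤ), ↑c.support ⊆ Δ → ((∀ j, 0 ≤ c j) ∨ (∀ j, c j ≤ 0)) →
      ↑d.support ⊆ Δ → ((∀ j, 0 ≤ d j) ∨ (∀ j, d j ≤ 0)) →
      Finsupp.linearCombination ℤ P.root c = P.root k →
      Finsupp.linearCombination ℤ P.root d = P.root k → c = d :=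
    fun k c d hc c0 hd d0 ec ed => (h k).unique ⟨hc, c0, ec⟩ ⟨hd, d0, ed⟩
  set S : Set ι := RootD.posOf P Δ
  have hS : RootD.IsPosSys P S := by
    refine RootDatum.isPosSys_of_closed P (fun k hk hk' => ?_) (fun k => ?_) fun i j k hi hj e => ?_
    · obtain ⟨c, hc, c0, ec⟩ := RootDatum.natSpan_eq_lc hk
      obtain ⟨d, hd, d0, ed⟩ := RootDatum.natSpan_eq_lc hk'
      have hcd := huniq k c (-d) hc (Or.inl c0) (by rwa [Finsupp.support_neg])
        (Or.inr fun j => by simpa using d0 j) ec (by rw [map_neg, ed, RootDatum.root_neg, neg_neg])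
      have hc' : c = 0 := Finsupp.ext fun x => by
        have h1 := DFunLike.congr_fun hcd x
        have := c0 x; have := d0 x
        simp only [Finsupp.neg_apply, Finsupp.coe_zero, Pi.zero_apply] at h1 ⊢
        omega
      rw [hc', map_zero] at ec
      exact P.ne_zero k ec.symm
    · obtain ⟨c, hc, c0 | c0, ec⟩ := (h k).exists
      · exact Or.inl (ec ▸ RootDatum.lc_mem_natSpan hc c0 :)
      · refine Or.inr ?_
        show P.root _ ∈ RootD.natSpan P Δ
        rw [RootDatum.root_neg, ← ec, ← map_neg]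
        exact RootDatum.lc_mem_natSpan (by rwa [Finsupp.support_neg]) (fun j => by simpa using c0 j)
    · show P.root k ∈ RootD.natSpan P Δ
      rw [e]; exact add_mem hi hj
  have hΔS : ∀ i ∈ Δ, i ∈ S := fun i hi => RootDatum.root_mem_natSpan P hi
  have h0 := RootDatum.isSimple_indec hS
  have hsub : RootDatum.indec P S ⊆ Δ := by
    intro δ hδ
    obtain ⟨s, hs, e⟩ := (RootDatum.mem_natSpan_iff P).mp hδ.1
    by_contra hδΔ
    refine hδ.2 ?_
    suffices δ ∈ S ∧ (δ ∈ Δ ∨ ∃ i j, i ∈ S ∧ j ∈ S ∧ P.root δ = P.root i + P.root j) from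
      this.2.resolve_left hδΔ
    exact RootDatum.chain_induction P
      (p := fun k => k ∈ S ∧ (k ∈ Δ ∨ ∃ i j, i ∈ S ∧ j ∈ S ∧ P.root k = P.root i + P.root j)) s e
      (fun a ha => ⟨hΔS a (hs a ha), Or.inl (hs a ha)⟩)
      fun i j k hi hj e => ⟨RootDatum.isClosedSub_of_isPosSys P hS hi.1 (hΔS j (hs j hj)) e,
        Or.inr ⟨i, j, hi.1, hΔS j (hs j hj), e⟩⟩
  have heq : RootDatum.indec P S = Δ := by
    refine hsub.antisymm fun i hi => ?_
    have := huniq i (h0.coeff i) (Finsupp.single i 1) ((h0.coeff_support i).trans hsub)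
      (h0.coeff_nonneg_or_nonpos i)
      ((Finset.coe_subset.mpr Finsupp.support_single_subset).trans (by simpa using hi))
      (Or.inl fun j => by rcases eq_or_ne j i with rfl | hj <;> simp [*]) (h0.lc_coeff i) (by simp)
    exact h0.coeff_support i (by rw [this]; simp [Finsupp.support_single_ne_zero])
  exact ⟨(RootDatum.isSimpleSys_int_iff P).mpr (heq ▸ h0), fun i hi =>
    h0.indiv (heq.symm ▸ hi)⟩

end Groth.Agent.S5447
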