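import Groth.Statements.S5450
import Groth.Agent.RootDatum.Exists
-- import your own Groth.Agent.* helpers here

set_option autoImplicit false
open RootD

namespace Groth.Agent.S5450

/-- A positive root (relative to a system of simple roots Δ) is simple if and only if it is not the sum
of two positive roots. -/
theorem result {ι M N : Type*} [AddCommGroup M] [AddCommGroup N]
    (P : RootPairing ι ℤ M N) [Finite ι] (Δ : Set ι) (hΔ : RootD.IsSimpleSys P Δ)
    (k : ι) (hk : k ∈ RootD.posOf P Δ) :
    k ∈ Δ ↔ ¬ ∃ i j : ι, i ∈ RootD.posOf P Δ ∧ j ∈ RootD.posOf P Δ ∧ P.root k = P.root i + P.root j := by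
  have h := RootDatum.isSimple_of_isSimpleSys P hΔ
  refine ⟨h.not_sum_of_mem, fun hn => ?_⟩
  by_contra hkΔ
  obtain ⟨i, j, hi, hj, e⟩ := h.exists_sum_of_not_mem hk hkΔ
  exact hn ⟨i, j, hi, h.mem_posOf_self hj, e⟩

end Groth.Agent.S5450
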