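import Groth.Statements.S5451
import Groth.Agent.RootDatum.Exists
-- import your own Groth.Agent.* helpers here

set_option autoImplicit false
open RootD

namespace Groth.Agent.S5451

/-- If a root is a positive integer combination of roots α_i, then it can be reached from 0 by
successively adding roots taken among the α_i in such a way that every partial sum is a root. -/
theorem result {ι M N : Type*} [AddCommGroup M] [AddCommGroup N]
    (P : RootPairing ι ℤ M N) [Finite ι] {n : ℕ} (a : Fin n → ι) (m : Fin n → ℕ)
    (hm : ∀ i, 0 < m i) (k : ι) (hk : P.root k = ∑ i, m i • P.root (a i)) :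
    ∃ (l : ℕ) (b : Fin l → Fin n), 0 < l ∧
      (∀ p : Fin l, ∃ j : ι, P.root j = ∑ q ∈ Finset.univ.filter (fun q : Fin l => q.val ≤ p.val), P.root (a (b q))) ∧
      P.root k = ∑ q, P.root (a (b q)) := by
  classical
  let s : Multiset (Fin n) := ∑ i, Multiset.replicate (m i) i
  have hs : ((s.map a).map P.root).sum = P.root k := by
    have : ∀ T : Finset (Fin n),
        (((∑ i ∈ T, Multiset.replicate (m i) i).map a).map P.root).sum
          = ∑ i ∈ T, m i • P.root (a i) := by
      intro T
      induction T using Finset.induction_on with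
      | empty => simp
      | insert x T hx ih =>
        rw [Finset.sum_insert hx, Finset.sum_insert hx, Multiset.map_add, Multiset.map_add,
          Multiset.sum_add, ih, Multiset.map_replicate, Multiset.map_replicate,
          Multiset.sum_replicate]
    rw [hk]
    exact this Finset.univ
  let p : ι → Prop := fun k => ∃ (l : ℕ) (b : Fin l → Fin n), 0 < l ∧
      (∀ p : Fin l, ∃ j : ι, P.root j =
        ∑ q ∈ Finset.univ.filter (fun q : Fin l => q.val ≤ p.val), P.root (a (b q))) ∧
      P.root k = ∑ q, P.root (a (b q))
  refine RootDatum.chain_induction P (p := p) (s.map a) hs ?_ ?_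
  · intro x hx
    obtain ⟨i, -, rfl⟩ := Multiset.mem_map.mp hx
    exact ⟨1, fun _ => i, one_pos, fun q => ⟨a i, by simp [Fin.val_eq_zero]⟩, by simp⟩
  · rintro i j k' ⟨l, b, hl, hp, he⟩ hj e
    obtain ⟨c, -, rfl⟩ := Multiset.mem_map.mp hj
    have hsum : P.root k' = ∑ q, P.root (a (Fin.snoc (α := fun _ => Fin n) b c q)) := by
      rw [e, he, Fin.sum_univ_castSucc]
      simp
    refine ⟨l + 1, Fin.snoc b c, Nat.succ_pos l, ?_, hsum⟩
    intro q
    induction q using Fin.lastCases with
    | last =>
      refine ⟨k', hsum.trans (Finset.sum_congr ?_ fun _ _ => rfl)⟩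
      ext r
      simp [Fin.val_last, Fin.is_le r]
    | cast q =>
      obtain ⟨j', hj'⟩ := hp q
      refine ⟨j', hj'.trans ?_⟩
      rw [Finset.sum_filter, Finset.sum_filter, Fin.sum_univ_castSucc]
      simp [Nat.not_le.mpr q.isLt]

end Groth.Agent.S5451
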