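import Groth.Statements.S5458
import Groth.Agent.RootDatum.Exists
-- import your own Groth.Agent.* helpers here

set_option autoImplicit false
open RootD

namespace Groth.Agent.S5458

/-- Let S be a system of positive roots with simple system Δ ⊆ S and let P' ⊇ S be a closed set of
roots; with Δ' the set of simple roots whose opposite lies in P', the set P' is the union of S and
of the roots that are non-positive integer combinations of Δ'. -/
theorem result {ι M N : Type*} [AddCommGroup M] [AddCommGroup N]
    (P : RootPairing ι ℤ M N) [Finite ι] (S : Set ι) (hS : RootD.IsPosSys P S) (Δ : Set ι)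
    (hΔ : RootD.IsSimpleSys P Δ) (hΔS : Δ ⊆ S) (P' : Set ι) (hcl : RootD.IsClosedSub P P')
    (hSP : S ⊆ P') :
    P' = S ∪ {k : ι | -P.root k ∈ RootD.natSpan P {i : ι | i ∈ Δ ∧ P.reflectionPerm i i ∈ P'}} := by
  have h := RootDatum.isSimple_of_isSimpleSys P hΔ
  have hSeq := RootDatum.posOf_eq_of_subset h hS hΔS
  set Δ'' := {i : ι | i ∈ Δ ∧ P.reflectionPerm i i ∈ P'}
  have key : ∀ m ∈ RootD.posOf P Δ, P.reflectionPerm m m ∈ P' →
      P.root m ∈ RootD.natSpan P Δ'' := by
    intro m hm
    refine h.pos_induction (p := fun m => P.reflectionPerm m m ∈ P' →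
      P.root m ∈ RootD.natSpan P Δ'') (fun i hi hi' => RootDatum.root_mem_natSpan P ⟨hi, hi'⟩) ?_ hm
    intro m a δ ha hδ e ih hm'
    rw [e]
    refine add_mem (ih (hcl hm' (hSP (hΔS hδ)) ?_))
      (RootDatum.root_mem_natSpan P ⟨hδ, hcl hm' (hSP (hSeq ▸ ha)) ?_⟩)
    · rw [RootDatum.root_neg, RootDatum.root_neg, e]; abel
    · rw [RootDatum.root_neg, RootDatum.root_neg, e]; abel
  ext k
  constructor
  · intro hk
    by_cases hkS : k ∈ S
    · exact Or.inl hkS
    · refine Or.inr ?_
      have hn := (hS.cover k).resolve_left hkS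
      show -P.root k ∈ RootD.natSpan P Δ''
      rw [← RootDatum.root_neg]
      exact key _ (hSeq ▸ hn) (by rwa [RootDatum.neg_neg_index])
  · rintro (hk | hk)
    · exact hSP hk
    · refine RootDatum.mem_of_root_mem_natSpan P hcl ?_
      have hle : RootD.natSpan P Δ'' ≤
          (RootD.natSpan P P').comap (-AddMonoidHom.id M) :=
        RootDatum.natSpan_le P fun i hi => by
          show -P.root i ∈ RootD.natSpan P P'
          rw [← RootDatum.root_neg]
          exact RootDatum.root_mem_natSpan P hi.2
      simpa using hle hk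

end Groth.Agent.S5458
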