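import Groth.Statements.S5460
import Groth.Agent.RootDatum.Sat
import Groth.Agent.RootDatum.Forms
-- import your own Groth.Agent.* helpers here

set_option autoImplicit false
open RootD

namespace Groth.Agent.S5460

/-- A set of roots R' is the trace on R of a vector subspace (every root with a positive multiple in the
span of R' lies in R') if and only if R' is the set of roots in the span of a subset Δ' of some
system of simple roots Δ. -/
theorem result {ι M N : Type*} [AddCommGroup M] [AddCommGroup N]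
    (P : RootPairing ι ℤ M N) [Finite ι] (R' : Set ι) :
    (∀ k : ι, (∃ n : ℕ, 0 < n ∧ n • P.root k ∈ Submodule.span ℤ (P.root '' R')) → k ∈ R') ↔
      ∃ Δ Δ' : Set ι, RootD.IsSimpleSys P Δ ∧ Δ' ⊆ Δ ∧ R' = RootD.inSpan P Δ' := by
  constructor
  · intro hsat
    obtain ⟨w, hw⟩ := RootDatum.exists_separating P R'
    obtain ⟨T, hT⟩ := RootDatum.exists_isPosSys P
    have hS := RootDatum.isPosSys_lex' P w hT
    have h0 := RootDatum.isSimple_indec hS
    have hnn : ∀ δ ∈ RootDatum.indec P {k | 0 < RootDatum.wt P w k ∨ (RootDatum.wt P w k = 0 ∧ k ∈ T)}, 0 ≤ RootDatum.wt P w δ := fun δ hδ => by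
      rcases hδ.1 with h | h
      exacts [h.le, h.1.ge]
    refine ⟨_, RootDatum.indec P _ ∩ R', (RootDatum.isSimpleSys_int_iff P).mpr h0,
      Set.inter_subset_left, Set.ext fun k => ?_⟩
    show _ ↔ P.root k ∈ Submodule.span ℤ _
    refine ⟨fun hk => (h0.span_iff Set.inter_subset_left k).mpr fun j hj => ⟨h0.coeff_support k hj,
      hsat j ((hw j).mp ?_)⟩, fun hk => hsat k ⟨1, one_pos, ?_⟩⟩
    · refine h0.wt_eq_zero_of_coeff hnn ((hw k).mpr ⟨1, one_pos, ?_⟩) (Finsupp.mem_support_iff.mp hj)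
      rw [one_smul]; exact Submodule.subset_span ⟨k, hk, rfl⟩
    · rw [one_smul]; exact Submodule.span_mono (Set.image_mono Set.inter_subset_right) hk
  · rintro ⟨Δ, Δ', hΔ, hsub, rfl⟩ k ⟨n, hn, hk⟩
    have h := RootDatum.isSimple_of_isSimpleSys P hΔ
    refine (h.span_iff hsub k).mpr ((h.sat_iff hsub k).mp ⟨n, hn, ?_⟩)
    refine Submodule.span_le.mpr ?_ hk
    rintro _ ⟨i, hi, rfl⟩
    exact hi

end Groth.Agent.S5460
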