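import Groth.Statements.S5461
import Groth.Agent.RootDatum.Sat
import Groth.Agent.RootDatum.Forms
-- import your own Groth.Agent.* helpers here

set_option autoImplicit false
open RootD

namespace Groth.Agent.S5461

/-- If R' is the trace of a vector subspace on the roots, every system of simple roots Δ' of the root
datum with roots R' is contained in a system of simple roots Δ of the whole datum, and R' is the set
of roots in the span of Δ'. -/
theorem result {ι M N : Type*} [AddCommGroup M] [AddCommGroup N]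
    (P : RootPairing ι ℤ M N) [Finite ι] (R' : Set ι)
    (hsat : ∀ k : ι, (∃ n : ℕ, 0 < n ∧ n • P.root k ∈ Submodule.span ℤ (P.root '' R')) → k ∈ R')
    (Δ' : Set ι) (hΔ'R : Δ' ⊆ R') (hli : LinearIndepOn ℤ P.root Δ')
    (hgen : ∀ k ∈ R', P.root k ∈ RootD.natSpan P Δ' ∨ -P.root k ∈ RootD.natSpan P Δ') :
    ∃ Δ : Set ι, RootD.IsSimpleSys P Δ ∧ Δ' ⊆ Δ ∧ R' = RootD.inSpan P Δ' := by
  classical
  obtain ⟨w, hw⟩ := RootDatum.exists_separating P R'
  have hlc : ∀ c d : ι →₀ ℤ, ↑c.support ⊆ Δ' → ↑d.support ⊆ Δ' →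
      Finsupp.linearCombination ℤ P.root c = Finsupp.linearCombination ℤ P.root d → c = d :=
    fun c d hc hd e => sub_eq_zero.mp (linearIndepOn_iff.mp hli (c - d)
      (Submodule.sub_mem _ ((Finsupp.mem_supported ℤ c).mpr hc)
        ((Finsupp.mem_supported ℤ d).mpr hd)) (by rw [map_sub, e, sub_self]))
  have hR : ∀ k, RootDatum.wt P w k = 0 ↔ k ∈ R' := fun k =>
    (hw k).trans ⟨fun h => hsat k h, fun h => ⟨1, one_pos, by
      rw [one_smul]; exact Submodule.subset_span ⟨k, h, rfl⟩⟩⟩
  have hS : RootD.IsPosSys P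
      {k | 0 < RootDatum.wt P w k ∨ (RootDatum.wt P w k = 0 ∧ k ∈ RootD.posOf P Δ')} := by
    refine RootDatum.isPosSys_lex P w (fun k _ hk hk' => ?_) (fun k hk => ?_)
      fun i j k _ _ hi hj e => ?_
    · obtain ⟨c, hc, c0, ec⟩ := RootDatum.natSpan_eq_lc hk
      obtain ⟨d, hd, d0, ed⟩ := RootDatum.natSpan_eq_lc hk'
      have e : c = -d := hlc _ _ hc (by rwa [Finsupp.support_neg])
        (by rw [map_neg, ec, ed, RootDatum.root_neg, neg_neg])
      have hc' : c = 0 := Finsupp.ext fun x => by
        have h1 := DFunLike.congr_fun e x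
        have := c0 x; have := d0 x
        simp only [Finsupp.neg_apply, Finsupp.coe_zero, Pi.zero_apply] at h1 ⊢
        omega
      rw [hc', map_zero] at ec
      exact P.ne_zero k ec.symm
    · refine (hgen k ((hR k).mp hk)).imp id fun h => ?_
      show P.root _ ∈ RootD.natSpan P Δ'
      rwa [RootDatum.root_neg]
    · show P.root k ∈ RootD.natSpan P Δ'
      rw [e]; exact add_mem hi hj
  refine ⟨_, (RootDatum.isSimpleSys_int_iff P).mpr (RootDatum.isSimple_indec hS),
    fun δ hδ => ⟨Or.inr ⟨(hR δ).mpr (hΔ'R hδ), RootDatum.root_mem_natSpan P hδ⟩, ?_⟩, ?_⟩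
  · rintro ⟨i, j, hi, hj, e⟩
    have he := RootDatum.wt_add P e w
    rw [(hR δ).mpr (hΔ'R hδ)] at he
    rcases hi with hi | ⟨hi0, hi⟩
    · rcases hj with hj | ⟨hj0, -⟩ <;> omega
    rcases hj with hj | ⟨hj0, hj⟩
    · omega
    obtain ⟨c, hc, c0, ec⟩ := RootDatum.natSpan_eq_lc hi
    obtain ⟨d, hd, d0, ed⟩ := RootDatum.natSpan_eq_lc hj
    have hcd : c + d = Finsupp.single δ 1 := by
      refine hlc _ _ ((Finset.coe_subset.mpr Finsupp.support_add).trans ?_)
        ((Finset.coe_subset.mpr Finsupp.support_single_subset).trans (by simpa using hδ))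
        (by rw [map_add, ec, ed, ← e]; simp)
      rw [Finset.coe_union]; exact Set.union_subset hc hd
    have hnz : ∀ {x : ι} {f : ι →₀ ℤ}, Finsupp.linearCombination ℤ P.root f = P.root x →
        (∀ y, y ≠ δ → f y = 0) → f δ ≠ 0 := by
      intro x f ef hf h0
      have : f = 0 := Finsupp.ext fun y => by
        rcases eq_or_ne y δ with rfl | hy
        exacts [h0, hf y hy]
      rw [this, map_zero] at ef
      exact P.ne_zero x ef.symm
    have hzero : ∀ y, y ≠ δ → c y = 0 ∧ d y = 0 := fun y hy => by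
      have h1 := DFunLike.congr_fun hcd y
      rw [Finsupp.add_apply, Finsupp.single_eq_of_ne hy] at h1
      have := c0 y; have := d0 y; omega
    have h1 := DFunLike.congr_fun hcd δ
    rw [Finsupp.add_apply, Finsupp.single_eq_same] at h1
    have := hnz ec fun y hy => (hzero y hy).1
    have := hnz ed fun y hy => (hzero y hy).2
    have := c0 δ; have := d0 δ
    omega
  · ext k
    show _ ↔ P.root k ∈ Submodule.span ℤ _
    refine ⟨fun hk => ?_, fun hk => hsat k ⟨1, one_pos, by
      rw [one_smul]; exact Submodule.span_mono (Set.image_mono hΔ'R) hk⟩⟩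
    have hle : ∀ x ∈ RootD.natSpan P Δ', x ∈ Submodule.span ℤ (P.root '' Δ') := fun x hx =>
      (AddSubmonoid.closure_le (S := (Submodule.span ℤ (P.root '' Δ')).toAddSubmonoid)).mpr
        Submodule.subset_span hx
    rcases hgen k hk with h | h
    · exact hle _ h
    · exact (Submodule.neg_mem_iff _).mp (hle _ h)

end Groth.Agent.S5461
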