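import Groth.Statements.S5462
import Groth.Agent.RootDatum.Sat
import Groth.Agent.RootDatum.Forms
-- import your own Groth.Agent.* helpers here

set_option autoImplicit false
open RootPairing
open scoped Pointwise
open RootD

namespace Groth.Agent.S5462

/-- For Δ' contained in a system of simple roots Δ, the subgroup of the Weyl group generated by the
reflections in Δ' preserves the set of positive roots not lying in the span of Δ'. -/
theorem result {ι M N : Type*} [AddCommGroup M] [AddCommGroup N]
    (P : RootPairing ι ℤ M N) [Finite ι] (Δ Δ' : Set ι) (hΔ : RootD.IsSimpleSys P Δ) (hsub : Δ' ⊆ Δ)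
    (g : P.Aut) (hg : g ∈ Subgroup.closure ((fun i : ι => Equiv.reflection P i) '' Δ'))
    (k : ι) (hk : k ∈ RootD.posOf P Δ) (hk' : k ∉ RootD.inSpan P Δ') :
    g • k ∈ RootD.posOf P Δ ∧ g • k ∉ RootD.inSpan P Δ' := by
  have h := RootDatum.isSimple_of_isSimpleSys P hΔ
  obtain ⟨l, hl, rfl⟩ := RootDatum.exists_word P hg
  clear hg
  induction l with
  | nil => rw [RootDatum.wordProd_nil, one_smul]; exact ⟨hk, hk'⟩
  | cons a t ih =>
    obtain ⟨h1, h2⟩ := ih fun b hb => hl b (List.mem_cons_of_mem _ hb)
    have ha : a ∈ Δ' := hl a (List.mem_cons_self ..)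
    have hspan : ∀ {x : ι} (m : ℤ), P.root x = m • P.root a → x ∈ RootD.inSpan P Δ' := fun m e => by
      show _ ∈ Submodule.span ℤ _
      rw [e]; exact Submodule.smul_mem _ _ (Submodule.subset_span ⟨a, ha, rfl⟩)
    rw [RootDatum.wordProd_cons, mul_smul, RootDatum.reflection_smul_index]
    refine ⟨h.reflect_pos h1 (hsub ha) (fun e => h2 (hspan 1 (by rw [e, one_smul])))
      (fun e => h2 (hspan 2 e)), fun hm => h2 ?_⟩
    have hm' : P.root (P.reflectionPerm a (RootDatum.wordProd P t • k)) ∈
        Submodule.span ℤ (P.root '' Δ') := hm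
    rw [RootDatum.root_reflect, Submodule.sub_mem_iff_left _
      (Submodule.smul_mem _ _ (Submodule.subset_span (s := P.root '' Δ') ⟨a, ha, rfl⟩))] at hm'
    exact hm' 

end Groth.Agent.S5462
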