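import Groth.Statements.S5463
import Groth.Agent.RootDatum.Sat
import Groth.Agent.RootDatum.Forms
-- import your own Groth.Agent.* helpers here

set_option autoImplicit false
open RootPairing
open scoped Pointwise
open RootD

namespace Groth.Agent.S5463

/-- An element w of the Weyl group belongs to the subgroup generated by the reflections in Δ' ⊆ Δ (Δ a
system of simple roots) if and only if w(α) - α lies in the rational span of Δ' for every root α. -/
theorem result {ι M N : Type*} [AddCommGroup M] [AddCommGroup N]
    (P : RootPairing ι ℤ M N) [Finite ι] (Δ Δ' : Set ι) (hΔ : RootD.IsSimpleSys P Δ)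
    (hsub : Δ' ⊆ Δ) (g : P.Aut) (hg : g ∈ P.weylGroup) :
    g ∈ Subgroup.closure ((fun i : ι => Equiv.reflection P i) '' Δ') ↔
      ∀ k : ι, ∃ n : ℕ, 0 < n ∧ n • (P.root (g • k) - P.root k) ∈ Submodule.span ℤ (P.root '' Δ') := by
  classical
  have h := RootDatum.isSimple_of_isSimpleSys P hΔ
  have hmem : ∀ {a : ι}, a ∈ Δ' → ∀ m : ℤ, m • P.root a ∈ Submodule.span ℤ (P.root '' Δ') :=
    fun ha m => Submodule.smul_mem _ _ (Submodule.subset_span ⟨_, ha, rfl⟩)
  constructor
  · intro hg' k
    obtain ⟨l, hl, rfl⟩ := RootDatum.exists_word P hg'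
    refine ⟨1, one_pos, ?_⟩
    rw [one_smul]
    clear hg hg'
    induction l with
    | nil => simp
    | cons a t ih =>
      rw [RootDatum.wordProd_cons, mul_smul, RootDatum.reflection_smul_index,
        RootDatum.root_reflect, sub_right_comm]
      exact Submodule.sub_mem _ (ih fun b hb => hl b (List.mem_cons_of_mem _ hb))
        (hmem (hl a (List.mem_cons_self ..)) _)
  · intro hcond
    obtain ⟨l, hl, rfl⟩ := h.exists_minimal_weyl hg
    clear hg
    induction l using List.reverseRecOn with
    | nil => exact one_mem _
    | append_singleton t δ ih =>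
      by_cases hδ : δ ∈ Δ'
      · rw [RootDatum.wordProd_append, RootDatum.wordProd_singleton]
        refine mul_mem (ih hl.init fun k => ?_) (Subgroup.subset_closure ⟨δ, hδ, rfl⟩)
        obtain ⟨n, hn, hk⟩ := hcond (P.reflectionPerm δ k)
        refine ⟨n, hn, ?_⟩
        rw [RootDatum.wordProd_append, mul_smul, RootDatum.wordProd_singleton,
          RootDatum.reflection_smul_index, P.reflectionPerm_self, RootDatum.root_reflect P δ k,
          sub_sub_eq_add_sub, add_sub_right_comm, smul_add] at hk
        refine (Submodule.add_mem_iff_left _ ?_).mp hk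
        rw [← natCast_zsmul, smul_smul]; exact hmem hδ _
      · exfalso
        have hδΔ : δ ∈ Δ := hl.1 δ (by simp)
        obtain ⟨n, hn, hk⟩ := hcond δ
        refine h.minimal_last subset_rfl hl (h.pos_of_coeff_pos (j := δ) ?_)
        obtain ⟨c, hc, e⟩ := (Finsupp.mem_span_image_iff_linearCombination ℤ).mp hk
        rw [Finsupp.mem_supported] at hc
        have hc' : c = (n : ℤ) • (h.coeff (RootDatum.wordProd P (t ++ [δ]) • δ) - h.coeff δ) := by
          refine h.lc_inj (hc.trans hsub) ?_
            (by simp only [e, LinearMap.map_smul, LinearMap.map_sub, h.lc_coeff, natCast_zsmul, map_nsmul, RootDatum.root_smul])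
          exact (Finsupp.mem_supported ℤ _).mp (Submodule.smul_mem _ _ (Submodule.sub_mem _
            ((Finsupp.mem_supported ℤ _).mpr (h.coeff_support _))
            ((Finsupp.mem_supported ℤ _).mpr (h.coeff_support _))))
        have h0 : c δ = 0 := by
          by_contra h0
          exact hδ (hc (Finsupp.mem_support_iff.mpr h0))
        rw [hc', h.coeff_self hδΔ, Finsupp.smul_apply, Finsupp.sub_apply, Finsupp.single_eq_same,
          smul_eq_mul, mul_eq_zero] at h0
        have := h0.resolve_left (by exact_mod_cast hn.ne')
        omega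

end Groth.Agent.S5463
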