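import Groth.Statements.S5464
import Groth.Agent.RootDatum.Sat
import Groth.Agent.RootDatum.Forms
-- import your own Groth.Agent.* helpers here

set_option autoImplicit false
open RootD

namespace Groth.Agent.S5464

/-- Given an indivisible root α and a root γ not proportional to it, there is a system of simple roots
containing α and a simple root β of it with γ = aα + bβ, a, b ∈ ℕ. -/
theorem result {ι M N : Type*} [AddCommGroup M] [AddCommGroup N]
    (P : RootPairing ι ℤ M N) [Finite ι] (i k : ι) (hα : RootD.IsIndiv P i)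
    (hli : LinearIndependent ℤ ![P.root i, P.root k]) :
    ∃ Δ : Set ι, RootD.IsSimpleSys P Δ ∧ i ∈ Δ ∧
      ∃ j ∈ Δ, ∃ a b : ℕ, P.root k = a • P.root i + b • P.root j := by
  classical
  have := RootDatum.isAddTorsionFree_left P
  have hpair := LinearIndependent.pair_iff.mp hli
  obtain ⟨w₀, hw₀⟩ := RootDatum.exists_separating P {i, k}
  obtain ⟨w₁, hw₁⟩ := RootDatum.exists_separating P {i}
  have him : i ∈ ({i} : Set ι) := rfl
  have hwi₀ : RootDatum.wt P w₀ i = 0 := (hw₀ i).mpr ⟨1, one_pos, by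
    rw [one_smul]; exact Submodule.subset_span ⟨i, Or.inl rfl, rfl⟩⟩
  have hwk₀ : RootDatum.wt P w₀ k = 0 := (hw₀ k).mpr ⟨1, one_pos, by
    rw [one_smul]; exact Submodule.subset_span ⟨k, Or.inr rfl, rfl⟩⟩
  have hwi₁ : RootDatum.wt P w₁ i = 0 := (hw₁ i).mpr ⟨1, one_pos, by
    rw [one_smul]; exact Submodule.subset_span ⟨i, him, rfl⟩⟩
  have hwk₁ : RootDatum.wt P w₁ k ≠ 0 := by
    intro h0
    obtain ⟨n, hn, hm⟩ := (hw₁ k).mp h0
    rw [Set.image_singleton, Submodule.mem_span_singleton] at hm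
    obtain ⟨c, hc⟩ := hm
    have := (hpair c (-(n : ℤ)) (by rw [hc, neg_smul, natCast_zsmul, add_neg_cancel])).2
    omega
  obtain ⟨w₁, hwi₁, hwk₁, hw₁⟩ : ∃ w : ι →₀ ℤ, RootDatum.wt P w i = 0 ∧ 0 < RootDatum.wt P w k ∧
      ∀ x, RootDatum.wt P w x = 0 →
        ∃ n : ℕ, 0 < n ∧ n • P.root x ∈ Submodule.span ℤ (P.root '' {i}) := by
    rcases lt_or_gt_of_ne hwk₁ with h | h
    · have hneg : ∀ x, RootDatum.wt P (-w₁) x = -RootDatum.wt P w₁ x := fun x => by
        simp [RootDatum.wt, Finsupp.sum]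
      exact ⟨-w₁, by rw [hneg, hwi₁, neg_zero], by rw [hneg]; omega,
        fun x hx => (hw₁ x).mp (by rwa [hneg, neg_eq_zero] at hx)⟩
    · exact ⟨w₁, hwi₁, h, fun x hx => (hw₁ x).mp hx⟩
  obtain ⟨T, hT, hiT⟩ : ∃ T, RootD.IsPosSys P T ∧ i ∈ T := by
    obtain ⟨T, hT⟩ := RootDatum.exists_isPosSys P
    rcases hT.cover i with h | h
    · exact ⟨T, hT, h⟩
    · exact ⟨_, RootDatum.isPosSys_smul P hT (RootPairing.Equiv.reflection P i),
        _, h, by simp [RootDatum.reflection_smul_index]⟩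
  have hT₁ := RootDatum.isPosSys_lex' P w₁ hT
  have hS := RootDatum.isPosSys_lex' P w₀ hT₁
  set S := {x | 0 < RootDatum.wt P w₀ x ∨ (RootDatum.wt P w₀ x = 0 ∧
    x ∈ {x | 0 < RootDatum.wt P w₁ x ∨ (RootDatum.wt P w₁ x = 0 ∧ x ∈ T)})}
  have h := RootDatum.isSimple_indec hS
  have hiS : i ∈ S := Or.inr ⟨hwi₀, Or.inr ⟨hwi₁, hiT⟩⟩
  have hkS : k ∈ S := Or.inr ⟨hwk₀, Or.inl hwk₁⟩
  have hiΔ : i ∈ RootDatum.indec P S := by
    refine ⟨hiS, ?_⟩
    rintro ⟨x, y, hx, hy, e⟩
    have e₀ := RootDatum.wt_add P e w₀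
    have e₁ := RootDatum.wt_add P e w₁
    rw [hwi₀] at e₀; rw [hwi₁] at e₁
    have hx0 : RootDatum.wt P w₀ x = 0 ∧ RootDatum.wt P w₁ x = 0 ∧ x ∈ T ∧
        RootDatum.wt P w₁ y = 0 ∧ y ∈ T := by
      rcases hx with hx | ⟨hx, hx' | ⟨hx', hxT⟩⟩ <;>
        rcases hy with hy | ⟨hy, hy' | ⟨hy', hyT⟩⟩ <;>
        first
        | exact ⟨hx, hx', hxT, hy', hyT⟩
        | omega
    obtain ⟨-, hx1, hxT, hy1, hyT⟩ := hx0
    have key : ∀ z, RootDatum.wt P w₁ z = 0 → z ∈ T →
        P.root z = P.root i ∨ P.root z = (2 : ℤ) • P.root i := by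
      intro z hz hzT
      obtain ⟨n, hn, hm⟩ := hw₁ z hz
      rw [Set.image_singleton, Submodule.mem_span_singleton] at hm
      obtain ⟨c, hc⟩ := hm
      rcases RootDatum.zsmul_root_cases P (b := (n : ℤ)) (by exact_mod_cast hn.ne')
          (show (n : ℤ) • P.root z = c • P.root i by rw [hc, natCast_zsmul]) with
        ⟨e, -⟩ | ⟨e, -⟩ | ⟨e, -⟩ | ⟨e, -⟩ | ⟨e, -⟩ | ⟨e, -⟩
      · exact Or.inl e
      · exact absurd (P.root_eq_neg_iff.mp e ▸ hzT) (hT.disjoint hiT)
      · exact Or.inr e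
      · refine absurd hzT ?_
        intro hzT
        refine RootDatum.root_add_ne_zero P (RootDatum.isClosedSub_of_isPosSys P hT) hT.disjoint hzT
          (AddSubmonoid.nsmul_mem _ (RootDatum.root_mem_natSpan P hiT) 2) ?_
        rw [e]; module
      · exact absurd e.symm (hα z)
      · exact absurd (by rw [RootDatum.root_neg, e, smul_neg, neg_smul])
          (hα (P.reflectionPerm z z))
    rcases key x hx1 hxT with ex | ex <;> rcases key y hy1 hyT with ey | ey <;> rw [ex, ey] at e
    · have := hpair 1 0; exact P.ne_zero i (by linear_combination (norm := module) -e)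
    · have := (smul_eq_zero.mp (show (2 : ℤ) • P.root i = 0 by linear_combination (norm := module) -e))
      exact (RootDatum.isAddTorsionFree_left P |> fun _ => P.ne_zero i (this.resolve_left (by norm_num)))
    · have := (smul_eq_zero.mp (show (2 : ℤ) • P.root i = 0 by linear_combination (norm := module) -e))
      exact P.ne_zero i (this.resolve_left (by norm_num))
    · have := (smul_eq_zero.mp (show (3 : ℤ) • P.root i = 0 by linear_combination (norm := module) -e))
      exact P.ne_zero i (this.resolve_left (by norm_num))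
  have hnn : ∀ δ ∈ RootDatum.indec P S, 0 ≤ RootDatum.wt P w₀ δ := fun δ hδ =>
    hδ.1.elim (fun h => h.le) (fun h => h.1.ge)
  have hkpos : k ∈ RootD.posOf P (RootDatum.indec P S) := (RootDatum.posOf_indec hS).symm ▸ hkS
  obtain ⟨j, hjne, hj0⟩ : ∃ j, j ≠ i ∧ h.coeff k j ≠ 0 := by
    by_contra! hc
    have e := h.root_eq_of_coeff_single hc
    have := (hpair (h.coeff k i) (-1) (by rw [← e, neg_smul, one_smul, add_neg_cancel])).2
    omega
  have hjΔ : j ∈ RootDatum.indec P S := h.coeff_support k (Finsupp.mem_support_iff.mpr hj0)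
  refine ⟨_, (RootDatum.isSimpleSys_int_iff P).mpr h, hiΔ, j, hjΔ, ?_⟩
  have hplane : ∀ x, RootDatum.wt P w₀ x = 0 →
      ∃ (n : ℕ) (a b : ℤ), 0 < n ∧ (n : ℤ) • P.root x = a • P.root i + b • P.root k := by
    intro x hx
    obtain ⟨n, hn, hm⟩ := (hw₀ x).mp hx
    rw [Set.image_insert_eq, Set.image_singleton, Submodule.mem_span_pair] at hm
    obtain ⟨a, b, e⟩ := hm
    exact ⟨n, a, b, hn, by rw [natCast_zsmul, e]⟩
  have hsupp : ∀ x, x ≠ i → x ≠ j → h.coeff k x = 0 := by
    intro x hxi hxj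
    by_contra hx0
    obtain ⟨n, a, b, hn, e⟩ := hplane j (h.wt_eq_zero_of_coeff hnn hwk₀ hj0)
    obtain ⟨m, a', b', hm, e'⟩ := hplane x (h.wt_eq_zero_of_coeff hnn hwk₀ hx0)
    have hxΔ := h.coeff_support k (Finsupp.mem_support_iff.mpr hx0)
    have key := h.lc_inj (c := (b' * n) • Finsupp.single j 1 - (b * m) • Finsupp.single x 1)
      (d := (b' * a - b * a') • Finsupp.single i 1) ?_ ?_ ?_
    · have h1 := DFunLike.congr_fun key j
      simp [hjne, hxj] at h1
      rcases h1 with h1 | h1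
      · subst h1
        have := h.lc_inj (c := (m : ℤ) • Finsupp.single x 1) (d := a' • Finsupp.single i 1)
          ((Finset.coe_subset.mpr Finsupp.support_smul).trans
            ((Finset.coe_subset.mpr Finsupp.support_single_subset).trans (by simpa using hxΔ)))
          ((Finset.coe_subset.mpr Finsupp.support_smul).trans
            ((Finset.coe_subset.mpr Finsupp.support_single_subset).trans (by simpa using hiΔ)))
          (by simpa using e')
        have h2 := DFunLike.congr_fun this x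
        simp [hxi] at h2
        omega
      · omega
    · refine (Finsupp.mem_supported ℤ _).mp (Submodule.sub_mem _ (Submodule.smul_mem _ _ ?_)
        (Submodule.smul_mem _ _ ?_)) <;>
        exact Finsupp.single_mem_supported ℤ _ (by assumption)
    · exact (Finsupp.mem_supported ℤ _).mp
        (Submodule.smul_mem _ _ (Finsupp.single_mem_supported ℤ _ hiΔ))
    · simp only [map_sub, map_smul, Finsupp.linearCombination_single, one_smul]
      calc (b' * (n : ℤ)) • P.root j - (b * (m : ℤ)) • P.root x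
          = b' • ((n : ℤ) • P.root j) - b • ((m : ℤ) • P.root x) := by module
        _ = _ := by rw [e, e']; module
  have hk0 := h.mem_posOf_iff.mp hkpos
  refine ⟨(h.coeff k i).toNat, (h.coeff k j).toNat, ?_⟩
  have hc : h.coeff k = h.coeff k i • Finsupp.single i 1 + h.coeff k j • Finsupp.single j 1 := by
    ext x
    rcases eq_or_ne x i with rfl | hxi
    · simp [hjne]
    rcases eq_or_ne x j with rfl | hxj
    · simp [hxi]
    · simp [hsupp x hxi hxj, hxi, hxj]
  conv_lhs => rw [← h.lc_coeff k, hc]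
  simp only [map_add, map_smul, Finsupp.linearCombination_single, one_smul]
  rw [← natCast_zsmul, ← natCast_zsmul, Int.toNat_of_nonneg (hk0 i), Int.toNat_of_nonneg (hk0 j)]

end Groth.Agent.S5464
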