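import Groth.Statements.S5465
import Groth.Agent.RootDatum.Sat
import Groth.Agent.RootDatum.Forms
-- import your own Groth.Agent.* helpers here

set_option autoImplicit false
open RootD

namespace Groth.Agent.S5465

/-- A map from the roots to an abelian group that is odd and additive on pairs of roots whose sum is a
root extends uniquely to a homomorphism on the lattice generated by the roots. -/
theorem result {ι M N : Type*} [AddCommGroup M] [AddCommGroup N]
    (P : RootPairing ι ℤ M N) [Finite ι] {G : Type*} [AddCommGroup G] (f : ι → G)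
    (hneg : ∀ i : ι, f (P.reflectionPerm i i) = -f i)
    (hadd : ∀ i j k : ι, P.root k = P.root i + P.root j → f k = f i + f j) :
    ∃! φ : Submodule.span ℤ (Set.range P.root) →+ G,
      ∀ i : ι, φ ⟨P.root i, Submodule.subset_span (Set.mem_range_self i)⟩ = f i := by
  classical
  obtain ⟨Δ, h⟩ := RootDatum.exists_isSimple P
  let Ψ : (ι →₀ ℤ) →ₗ[ℤ] G := Finsupp.linearCombination ℤ f
  have hf : ∀ k, f k = Ψ (h.coeff k) := by
    have hpos : ∀ k ∈ RootD.posOf P Δ, f k = Ψ (h.coeff k) := by
      intro k hk
      refine h.pos_induction (p := fun k => f k = Ψ (h.coeff k))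
        (fun i hi => by simp [Ψ, h.coeff_self hi]) ?_ hk
      intro k i j hi hj e ih
      rw [hadd i j k e, h.coeff_add e, map_add, ih, h.coeff_self hj]
      simp [Ψ]
    intro k
    rcases h.posOf_cover k with hk | hk
    · exact hpos k hk
    · have := hpos _ hk
      rwa [hneg, h.coeff_neg, map_neg, neg_inj] at this
  let L : (ι →₀ ℤ) →ₗ[ℤ] M := Finsupp.linearCombination ℤ P.root
  have hker : L.ker ≤ Ψ.ker := by
    intro c hc
    rw [LinearMap.mem_ker] at hc ⊢
    let D : (ι →₀ ℤ) →ₗ[ℤ] (ι →₀ ℤ) := Finsupp.linearCombination ℤ h.coeff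
    have hLD : L ∘ₗ D = L := Finsupp.lhom_ext fun x m => by simp [L, D, h.lc_coeff]
    have hΨD : Ψ ∘ₗ D = Ψ := Finsupp.lhom_ext fun x m => by
      rw [LinearMap.comp_apply]
      simp only [D, Finsupp.linearCombination_single, map_smul, ← hf]
      simp [Ψ]
    have h1 : D c = 0 := by
      refine h.lc_inj ?_ (by simp) ?_
      · refine (Finsupp.mem_supported ℤ _).mp ?_
        simp only [D, Finsupp.linearCombination_apply, Finsupp.sum]
        exact Submodule.sum_mem _ fun x _ =>
          Submodule.smul_mem _ _ ((Finsupp.mem_supported ℤ _).mpr (h.coeff_support x))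
      · rw [map_zero, ← hc]
        exact LinearMap.congr_fun hLD c
    have h2 : Ψ c = Ψ (D c) := (LinearMap.congr_fun hΨD c).symm
    rw [h2, h1, map_zero]
  let e : Submodule.span ℤ (Set.range P.root) ≃ₗ[ℤ] LinearMap.range L :=
    LinearEquiv.ofEq _ _ (Finsupp.range_linearCombination ℤ).symm
  let φ : Submodule.span ℤ (Set.range P.root) →ₗ[ℤ] G :=
    (L.ker.liftQ Ψ hker) ∘ₗ L.quotKerEquivRange.symm.toLinearMap ∘ₗ e.toLinearMap
  have hφ : ∀ i : ι, φ ⟨P.root i, Submodule.subset_span (Set.mem_range_self i)⟩ = f i := by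
    intro i
    have : L.quotKerEquivRange.symm (e ⟨P.root i, Submodule.subset_span (Set.mem_range_self i)⟩)
        = Submodule.Quotient.mk (Finsupp.single i 1) := by
      rw [LinearEquiv.symm_apply_eq]
      exact Subtype.ext (by simp [e, L, LinearMap.quotKerEquivRange_apply_mk])
    simp only [φ, LinearMap.coe_comp, LinearEquiv.coe_coe, Function.comp_apply, this,
      Submodule.liftQ_apply]
    simp [Ψ]
  refine ⟨φ.toAddMonoidHom, hφ, fun ψ hψ => ?_⟩
  have key : ψ.toIntLinearMap = φ := by
    refine LinearMap.ext_on_range (v := fun i : ι => (⟨P.root i,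
      Submodule.subset_span (Set.mem_range_self i)⟩ : Submodule.span ℤ (Set.range P.root))) ?_
      fun i => (hψ i).trans (hφ i).symm
    exact Submodule.span_range_subtype_eq_top_iff _ (fun _ => _) |>.mpr rfl
  exact AddMonoidHom.ext fun x => LinearMap.congr_fun key x

end Groth.Agent.S5465
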