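import Groth.Statements.S5467
import Groth.Agent.RootDatum.Exists
-- import your own Groth.Agent.* helpers here

set_option autoImplicit false
open RootD

namespace Groth.Agent.S5467

/-- For an indivisible positive non-simple root α there is a simple root β with (β^v, α) > 0 such that
s_β(α) is positive; its order relative to Δ is then smaller than that of α by (β^v, α). -/
theorem result {ι M N : Type*} [AddCommGroup M] [AddCommGroup N]
    (P : RootPairing ι ℤ M N) [Finite ι] (Δ : Set ι) (hΔ : RootD.IsSimpleSys P Δ)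
    (k : ι) (hk : k ∈ RootD.posOf P Δ) (hkΔ : k ∉ Δ) (hind : RootD.IsIndiv P k) :
    ∃ i ∈ Δ, 0 < P.pairing k i ∧ P.reflectionPerm i k ∈ RootD.posOf P Δ := by
  have h := RootDatum.isSimple_of_isSimpleSys P hΔ
  obtain ⟨s, hs, e⟩ := (RootDatum.mem_natSpan_iff P).mp hk
  obtain ⟨i, hi, hpos⟩ := RootDatum.exists_pos_of_sum_pos (s := s)
    (f := fun a => P.pairingIn ℤ a k)
    (by rw [RootDatum.pairingIn_sum_of_sum_eq P e, RootDatum.pairingIn_self]; norm_num)
  refine ⟨i, hs i hi, ?_, h.reflect_pos hk (hs i hi) (fun e => hkΔ (e ▸ hs i hi))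
    (fun e => hind i e.symm)⟩
  rw [← RootDatum.pairingIn_int]
  exact (P.zero_lt_pairingIn_iff' ℤ).mp hpos

end Groth.Agent.S5467
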