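import Groth.Statements.S5468
import Groth.Agent.RootDatum.Exists
-- import your own Groth.Agent.* helpers here

set_option autoImplicit false
open RootD

namespace Groth.Agent.S5468

/-- Two roots whose reflections are distinct and commute are orthogonal. -/
theorem result {ι M N : Type*} [AddCommGroup M] [AddCommGroup N]
    (P : RootPairing ι ℤ M N) [Finite ι] (i j : ι)
    (hne : P.reflection i ≠ P.reflection j) (hc : Commute (P.reflection i) (P.reflection j)) :
    P.IsOrthogonal i j := by
  by_contra hno
  have hM := RootDatum.isAddTorsionFree_left P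
  have h := LinearEquiv.congr_fun hc.eq (P.root i)
  simp only [LinearEquiv.mul_apply, P.reflection_apply, map_sub, map_smul,
    P.root_coroot'_eq_pairing, P.pairing_same, smul_eq_mul] at h
  have hij : P.pairingIn ℤ i j ≠ 0 := by
    rw [RootDatum.pairingIn_int]
    intro h0
    exact hno ⟨h0, (P.pairing_eq_zero_iff').mp h0⟩
  simp only [RootDatum.pairingIn_int] at hij
  have h2 : P.pairing i j • ((2 : ℤ) • P.root j) =
      P.pairing i j • (P.pairing j i • P.root i) := by
    rw [← sub_eq_zero] at h ⊢
    rw [← neg_eq_zero, ← h]
    module
  have h3 := smul_right_injective M hij h2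
  have key : ∀ {x y : ι}, RootPairing.Equiv.reflection P x = RootPairing.Equiv.reflection P y →
      P.reflection x = P.reflection y := fun e => by
    simpa using congrArg (RootPairing.Equiv.weightHom P) e
  have two : ∀ {x y : ι}, P.root x = (-2 : ℤ) • P.root y →
      RootPairing.Equiv.reflection P x = RootPairing.Equiv.reflection P y := fun {x y} e => by
    rw [← RootDatum.reflection_neg P x]
    exact RootDatum.reflection_of_two P (by rw [RootDatum.root_neg, e, neg_smul, neg_neg])
  apply hne
  rcases RootDatum.zsmul_root_cases P (two_ne_zero) h3 with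
    ⟨e, -⟩ | ⟨e, -⟩ | ⟨e, -⟩ | ⟨e, -⟩ | ⟨e, -⟩ | ⟨e, -⟩
  · rw [P.root.injective e]
  · refine key ?_
    rw [P.root_eq_neg_iff.mp e, RootDatum.reflection_neg]
  · exact (key (RootDatum.reflection_of_two P e)).symm
  · exact (key (two e)).symm
  · exact key (RootDatum.reflection_of_two P e)
  · exact key (two e)

end Groth.Agent.S5468
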