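import Groth.Statements.S5469
import Groth.Agent.RootDatum.Sat
import Groth.Agent.RootDatum.Forms
-- import your own Groth.Agent.* helpers here

set_option autoImplicit false
open RootPairing
open scoped Pointwise
open RootD

namespace Groth.Agent.S5469

/-- Two non-orthogonal roots of equal length (for the canonical form ℓ(x) = Σ_{u ∈ R^v} (u, x)²) are
conjugate under the Weyl group. -/
theorem result {ι M N : Type*} [AddCommGroup M] [AddCommGroup N]
    (P : RootPairing ι ℤ M N) [Finite ι] [Fintype ι] (i j : ι) (hno : ¬ P.IsOrthogonal i j)
    (hl : P.RootForm (P.root i) (P.root i) = P.RootForm (P.root j) (P.root j)) :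
    ∃ g : P.Aut, g ∈ P.weylGroup ∧ g • i = j := by
  have hlen : RootDatum.len P i = RootDatum.len P j := by
    rwa [RootDatum.rootForm_self_int, RootDatum.rootForm_self_int] at hl
  have := RootDatum.isAddTorsionFree_left P
  have hsymm : P.pairing j i = P.pairing i j := by
    have h := RootDatum.pairingIn_mul_len P i j
    rw [hlen, RootDatum.pairingIn_int, RootDatum.pairingIn_int] at h
    exact mul_right_cancel₀ (RootDatum.len_pos P j).ne' h
  have hmem := P.pairingIn_pairingIn_mem_set_of_isCrystallographic i j
  simp only [Set.mem_insert_iff, Set.mem_singleton_iff, Prod.mk.injEq,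
    RootDatum.pairingIn_int] at hmem
  have long : ∀ (s : ℤ), (s = 1 ∨ s = -1) → P.pairing i j = s → P.pairing j i = s →
      ∃ g : P.Aut, g ∈ P.weylGroup ∧ g • i = j := by
    rintro s (rfl | rfl) a b
    · refine ⟨RootPairing.Equiv.reflection P j * RootPairing.Equiv.reflection P i *
        RootPairing.Equiv.reflection P j,
        mul_mem (mul_mem (P.reflection_mem_weylGroup j) (P.reflection_mem_weylGroup i))
          (P.reflection_mem_weylGroup j), ?_⟩
      apply P.root.injective
      simp only [mul_smul, RootDatum.reflection_smul_index,
        P.root_reflectionPerm, P.reflection_apply, map_sub, map_smul, map_neg,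
        P.root_coroot'_eq_pairing, P.pairing_same, a, b, smul_eq_mul]
      module
    · refine ⟨RootPairing.Equiv.reflection P i * RootPairing.Equiv.reflection P j,
        mul_mem (P.reflection_mem_weylGroup i) (P.reflection_mem_weylGroup j), ?_⟩
      apply P.root.injective
      simp only [mul_smul, RootDatum.reflection_smul_index,
        P.root_reflectionPerm, P.reflection_apply, map_sub, map_smul, map_neg,
        P.root_coroot'_eq_pairing, P.pairing_same, a, b, smul_eq_mul]
      module
  by_cases h1 : P.pairing i j = 1
  · exact long 1 (Or.inl rfl) h1 (hsymm.trans h1)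
  by_cases h1' : P.pairing i j = -1
  · exact long (-1) (Or.inr rfl) h1' (hsymm.trans h1')
  by_cases h2 : P.pairing i j = 2
  · exact ⟨1, one_mem _, by
      rw [one_smul]
      exact (P.pairingIn_two_two_iff ℤ i j).mp ⟨by simpa using h2, by simpa using hsymm.trans h2⟩⟩
  by_cases h2' : P.pairing i j = -2
  · refine ⟨RootPairing.Equiv.reflection P i, P.reflection_mem_weylGroup i, ?_⟩
    apply P.root.injective
    rw [RootDatum.reflection_smul_index, RootDatum.root_neg,
      (P.pairingIn_neg_two_neg_two_iff ℤ i j).mp
        ⟨by simpa using h2', by simpa using hsymm.trans h2'⟩, neg_neg]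
  exact absurd ⟨by omega, by omega⟩ hno

end Groth.Agent.S5469
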