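import Groth.Statements.S5506
import Groth.Agent.RootDatum.Exists
-- import your own Groth.Agent.* helpers here

set_option autoImplicit false
open RootD

namespace Groth.Agent.S5506

/-- The class of a root under 'joined by a chain of pairwise non-orthogonal roots' is closed and
symmetric, and so is its complement; these classes are the irreducible components. -/
theorem result {ι M N : Type*} [AddCommGroup M] [AddCommGroup N]
    (P : RootPairing ι ℤ M N) [Finite ι] (i : ι) :
    RootD.IsClosedSub P {j : ι | Relation.ReflTransGen (fun a b : ι => ¬ P.IsOrthogonal a b) i j} ∧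
      RootD.IsSymmSub P {j : ι | Relation.ReflTransGen (fun a b : ι => ¬ P.IsOrthogonal a b) i j} ∧
      RootD.IsClosedSub P {j : ι | Relation.ReflTransGen (fun a b : ι => ¬ P.IsOrthogonal a b) i j}ᶜ ∧
      RootD.IsSymmSub P {j : ι | Relation.ReflTransGen (fun a b : ι => ¬ P.IsOrthogonal a b) i j}ᶜ := by
  set C := {j : ι | Relation.ReflTransGen (fun a b : ι => ¬ P.IsOrthogonal a b) i j}
  have hneg : ∀ a : ι, ¬ P.IsOrthogonal a (P.reflectionPerm a a) := fun a h => by
    have := h.1; simp at this
  have hneg' : ∀ a : ι, ¬ P.IsOrthogonal (P.reflectionPerm a a) a := fun a h => hneg a h.symm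
  have hadd : ∀ {a b k : ι}, P.root k = P.root a + P.root b →
      ¬ P.IsOrthogonal a k ∨ ¬ P.IsOrthogonal b k := by
    intro a b k e
    by_contra! h
    have h2 := RootPairing.pairing_eq_add_of_root_eq_add (l := k) e
    rw [P.pairing_same, h.1.1, h.2.1] at h2
    norm_num at h2
  refine ⟨fun a b k ha hb e => ?_, fun a ha => ha.tail (hneg a), fun a b k ha hb e hk => ?_,
    fun a ha hn => ha (hn.tail (hneg' a))⟩
  · rcases hadd e with h | h
    exacts [ha.tail h, hb.tail h]
  · rcases hadd e with h | h
    exacts [ha (hk.tail fun h' => h h'.symm), hb (hk.tail fun h' => h h'.symm)]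

end Groth.Agent.S5506
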