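import Groth.Statements.S5470
import Groth.Agent.RootDatum.Sat
import Groth.Agent.RootDatum.Forms
import Groth.Agent.S5469
import Groth.Agent.S5506
-- import your own Groth.Agent.* helpers here

set_option autoImplicit false
open RootPairing
open scoped Pointwise
open RootD

namespace Groth.Agent.S5470

/-- In an irreducible root datum the Weyl group acts transitively on the roots of any given length. -/
theorem result {ι M N : Type*} [AddCommGroup M] [AddCommGroup N]
    (P : RootPairing ι ℤ M N) [Finite ι] [Fintype ι] [Nonempty ι]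
    (hirr : ∀ R' : Set ι, RootD.IsClosedSub P R' → RootD.IsSymmSub P R' → RootD.IsClosedSub P R'ᶜ →
      RootD.IsSymmSub P R'ᶜ → R' = ∅ ∨ R' = Set.univ)
    (i j : ι) (hl : P.RootForm (P.root i) (P.root i) = P.RootForm (P.root j) (P.root j)) :
    ∃ g : P.Aut, g ∈ P.weylGroup ∧ g • i = j := by
  obtain ⟨h1, h2, h3, h4⟩ := Groth.Agent.S5506.result P i
  have hC := (hirr _ h1 h2 h3 h4).resolve_left fun he =>
    Set.eq_empty_iff_forall_notMem.mp he i Relation.ReflTransGen.refl
  have hij : Relation.ReflTransGen (fun a b : ι => ¬ P.IsOrthogonal a b) i j :=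
    Set.eq_univ_iff_forall.mp hC j
  have key : ∀ b, Relation.ReflTransGen (fun a b : ι => ¬ P.IsOrthogonal a b) i b →
      ∃ g : P.Aut, g ∈ P.weylGroup ∧ P.pairing (g • i) b ≠ 0 := by
    intro b hb
    induction hb with
    | refl => exact ⟨1, one_mem _, by rw [one_smul, P.pairing_same]; norm_num⟩
    | @tail a b _ hab ih =>
      obtain ⟨g, hg, hne⟩ := ih
      by_cases hb0 : P.pairing (g • i) b = 0
      · refine ⟨RootPairing.Equiv.reflection P a * g,
          mul_mem (P.reflection_mem_weylGroup a) hg, ?_⟩
        rw [mul_smul, RootDatum.reflection_smul_index, ← P.root_coroot'_eq_pairing,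
          RootDatum.root_reflect, map_sub, map_zsmul, P.root_coroot'_eq_pairing,
          P.root_coroot'_eq_pairing, hb0, RootDatum.pairingIn_int, zero_sub, neg_ne_zero,
          smul_eq_mul]
        exact mul_ne_zero hne fun h => hab ⟨h, (P.pairing_eq_zero_iff').mp h⟩
      · exact ⟨g, hg, hb0⟩
  obtain ⟨g, hg, hne⟩ := key j hij
  obtain ⟨g', hg', e⟩ := Groth.Agent.S5469.result P (g • i) j (fun h => hne h.1)
    (by rw [RootDatum.rootForm_self_int, RootDatum.rootForm_self_int, RootDatum.len_smul,
      ← RootDatum.rootForm_self_int, ← RootDatum.rootForm_self_int, hl])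
  exact ⟨g' * g, mul_mem hg' hg, by rw [mul_smul, e]⟩

end Groth.Agent.S5470
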