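import Groth.Statements.S5471
import Groth.Agent.RootDatum.Misc
-- import your own Groth.Agent.* helpers here

set_option autoImplicit false
open RootPairing
open scoped Pointwise
open RootD

namespace Groth.Agent.S5471

/-- In a reduced irreducible root datum the ratios of squared root lengths to the minimal one form one
of the sets {1}, {1, 2}, {1, 3}. -/
theorem result {ι M N : Type*} [AddCommGroup M] [AddCommGroup N]
    (P : RootPairing ι ℤ M N) [Finite ι] [Fintype ι] [Nonempty ι] [P.IsReduced]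
    (hirr : ∀ R' : Set ι, RootD.IsClosedSub P R' → RootD.IsSymmSub P R' → RootD.IsClosedSub P R'ᶜ →
      RootD.IsSymmSub P R'ᶜ → R' = ∅ ∨ R' = Set.univ)
    (i₀ : ι) (hmin : ∀ i : ι, P.RootForm (P.root i₀) (P.root i₀) ≤ P.RootForm (P.root i) (P.root i)) :
    (∀ i : ι, P.RootForm (P.root i) (P.root i) = P.RootForm (P.root i₀) (P.root i₀) ∨
        P.RootForm (P.root i) (P.root i) = 2 * P.RootForm (P.root i₀) (P.root i₀) ∨
        P.RootForm (P.root i) (P.root i) = 3 * P.RootForm (P.root i₀) (P.root i₀)) ∧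
      ¬ ((∃ i : ι, P.RootForm (P.root i) (P.root i) = 2 * P.RootForm (P.root i₀) (P.root i₀)) ∧
          ∃ j : ι, P.RootForm (P.root j) (P.root j) = 3 * P.RootForm (P.root i₀) (P.root i₀)) := by
  classical
  have := RootDatum.isAddTorsionFree_left P
  simp only [RootDatum.rootForm_self_int] at *
  have h0 := RootDatum.len_pos P i₀
  have key : ∀ a b : ι, P.pairing a b ≠ 0 →
      RootDatum.len P a = RootDatum.len P b ∨ RootDatum.len P a = 2 * RootDatum.len P b ∨
      RootDatum.len P a = 3 * RootDatum.len P b ∨ RootDatum.len P b = 2 * RootDatum.len P a ∨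
      RootDatum.len P b = 3 * RootDatum.len P a := by
    intro a b hab
    have e := RootDatum.pairingIn_mul_len P a b
    have hm := P.pairingIn_pairingIn_mem_set_of_isCrystal_of_isRed a b
    simp only [RootDatum.pairingIn_int, Set.mem_insert_iff, Set.mem_singleton_iff,
      Prod.mk.injEq] at hm e
    rcases hm with ⟨x, y⟩ | ⟨x, y⟩ | ⟨x, y⟩ | ⟨x, y⟩ | ⟨x, y⟩ | ⟨x, y⟩ | ⟨x, y⟩ | ⟨x, y⟩ |
      ⟨x, y⟩ | ⟨x, y⟩ | ⟨x, y⟩ | ⟨x, y⟩ | ⟨x, y⟩ <;> rw [x, y] at e <;> omega
  have rel : ∀ a b : ι,
      RootDatum.len P a = RootDatum.len P b ∨ RootDatum.len P a = 2 * RootDatum.len P b ∨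
      RootDatum.len P a = 3 * RootDatum.len P b ∨ RootDatum.len P b = 2 * RootDatum.len P a ∨
      RootDatum.len P b = 3 * RootDatum.len P a := by
    intro a b
    obtain ⟨g, -, hg⟩ := RootDatum.exists_conj_pairing_ne_zero P
      (RootDatum.connected_of_irreducible P hirr a b)
    simpa only [RootDatum.len_smul] using key (g • a) b hg
  refine ⟨fun i => ?_, ?_⟩
  · have := rel i i₀
    have := hmin i
    omega
  · rintro ⟨⟨j, hj⟩, k, hk⟩
    have := rel j k
    omega

end Groth.Agent.S5471
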