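import Groth.Statements.S5472
import Groth.Agent.RootDatum.Sat
import Groth.Agent.RootDatum.Forms
-- import your own Groth.Agent.* helpers here

set_option autoImplicit false
open RootPairing
open scoped Pointwise
open RootD

namespace Groth.Agent.S5472

/-- Let Δ be a system of simple roots (root-only sense), γ a positive root and α, β simple roots with
(γ, α^v) > 0 and (γ, β^v) ≥ 0 (equivalently: the order of s_α(γ) along Δ is smaller than that of γ,
and the order of s_β(γ) is at most that of γ). Then for every w in the group generated by s_α and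
s_β the order of w(γ) along Δ is at most that of γ, and strictly smaller unless w ∈ {1, s_β}. The
order is the sum of the coefficients along Δ; the conclusion is stated for the coefficient vector c
of γ - w(γ) along Δ: its coefficient sum is ≥ 0, and > 0 unless w = 1 or w = s_β. -/
theorem result {ι M N : Type*} [AddCommGroup M] [AddCommGroup N]
    (P : RootPairing ι ℤ M N) [Finite ι] (Δ : Set ι) (hΔ : RootD.IsSimpleSys P Δ)
    (k i j : ι) (hk : k ∈ RootD.posOf P Δ) (hi : i ∈ Δ) (hj : j ∈ Δ)
    (hα : 0 < P.pairing k i) (hβ : 0 ≤ P.pairing k j)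
    (g : P.Aut) (hg : g ∈ Subgroup.closure {Equiv.reflection P i, Equiv.reflection P j})
    (c : ι →₀ ℤ) (hc : ↑c.support ⊆ Δ)
    (hck : Finsupp.linearCombination ℤ P.root c = P.root k - P.root (g • k)) :
    0 ≤ c.sum (fun _ a => a) ∧ (g ≠ 1 → g ≠ Equiv.reflection P j → 0 < c.sum (fun _ a => a)) := by
  classical
  have h := RootDatum.isSimple_of_isSimpleSys P hΔ
  let tot : (ι →₀ ℤ) →ₗ[ℤ] ℤ := Finsupp.linearCombination ℤ fun _ => (1 : ℤ)
  have htot : ∀ d : ι →₀ ℤ, tot d = d.sum fun _ a => a := fun d => by
    simp [tot, Finsupp.linearCombination_apply]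
  have hset : (Equiv.reflection P i : P.Aut) ∈ (fun a : ι => RootPairing.Equiv.reflection P a) ''
      ({i, j} : Set ι) := ⟨i, Or.inl rfl, rfl⟩
  rw [← Set.image_pair (fun a : ι => RootPairing.Equiv.reflection P a) i j] at hg
  obtain ⟨l, hl, rfl⟩ := RootDatum.exists_minimal P hg
  have hT : ({i, j} : Set ι) ⊆ Δ := by rintro x (rfl | rfl) <;> assumption
  have hdiff : c = h.coeff k - h.coeff (RootDatum.wordProd P l • k) := by
    refine h.lc_inj hc ((Finsupp.mem_supported ℤ _).mp (Submodule.sub_mem _
      ((Finsupp.mem_supported ℤ _).mpr (h.coeff_support _))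
      ((Finsupp.mem_supported ℤ _).mpr (h.coeff_support _)))) ?_
    rw [hck, map_sub, h.lc_coeff, h.lc_coeff]
  rw [← htot, hdiff]
  have main : ∀ l, RootDatum.IsMinimal P ({i, j} : Set ι) l →
      0 ≤ tot (h.coeff k - h.coeff (RootDatum.wordProd P l • k)) ∧
      (i ∈ l → 0 < tot (h.coeff k - h.coeff (RootDatum.wordProd P l • k))) := by
    intro l hl
    induction l using List.reverseRecOn with
    | nil => simp
    | append_singleton t a ih =>
      obtain ⟨ih1, ih2⟩ := ih hl.init
      have hp := h.minimal_prefix_pos hT hl
      have ha : a = i ∨ a = j := hl.1 a (by simp)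
      have hpa : 0 ≤ P.pairing k a := by rcases ha with rfl | rfl; exacts [hα.le, hβ]
      have e : h.coeff (RootDatum.wordProd P (t ++ [a]) • k) =
          h.coeff (RootDatum.wordProd P t • k) -
            P.pairing k a • h.coeff (RootDatum.wordProd P t • a) := by
        have := h.coeff_of_root_eq (k := RootDatum.wordProd P (t ++ [a]) • k)
          (i := RootDatum.wordProd P t • k) (j := RootDatum.wordProd P t • a) (a := 1)
          (b := -P.pairing k a) ?_
        · simpa [sub_eq_add_neg] using this
        · rw [RootDatum.wordProd_append, RootDatum.wordProd_singleton, mul_smul,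
            RootDatum.reflection_smul_index, RootDatum.root_smul, RootDatum.root_reflect,
            RootDatum.pairingIn_int, smul_sub, RootDatum.smul_zsmul, ← RootDatum.root_smul,
            ← RootDatum.root_smul]
          module
      have hh : 0 < tot (h.coeff (RootDatum.wordProd P t • a)) := by
        rw [htot]; exact h.height_pos hp
      have e2 : tot (h.coeff k - h.coeff (RootDatum.wordProd P (t ++ [a]) • k)) =
          tot (h.coeff k - h.coeff (RootDatum.wordProd P t • k)) +
            P.pairing k a * tot (h.coeff (RootDatum.wordProd P t • a)) := by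
        rw [e, map_sub, map_sub, map_sub, map_smul, smul_eq_mul]; ring
      rw [e2]
      refine ⟨by positivity, fun hi' => ?_⟩
      rcases List.mem_append.mp hi' with hi' | hi'
      · have := ih2 hi'; positivity
      · rw [List.mem_singleton] at hi'
        subst hi'
        positivity
  refine ⟨(main l hl).1, fun h1 hj' => (main l hl).2 ?_⟩
  by_contra hil
  have hall : ∀ x ∈ l, x = j := fun x hx =>
    (hl.1 x hx).resolve_left fun e => hil (e ▸ hx)
  match l, hall with
  | [], _ => exact h1 (RootDatum.wordProd_nil P)
  | [x], hall => exact hj' (by rw [RootDatum.wordProd_singleton, hall x (by simp)])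
  | x :: y :: t, hall =>
    have := hl.2 t (fun z hz => hl.1 z (by simp [hz])) (by
      rw [RootDatum.wordProd_cons, RootDatum.wordProd_cons, hall x (by simp), hall y (by simp),
        ← mul_assoc, RootDatum.reflection_mul_self, one_mul])
    simp at this

end Groth.Agent.S5472
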