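import Groth.Statements.S5473
import Groth.Agent.RootDatum.Misc
-- import your own Groth.Agent.* helpers here

set_option autoImplicit false
open RootD

namespace Groth.Agent.S5473

/-- If a linear map f and its transpose g induce bijections from the roots of R' onto the roots of R and
from the coroots of R onto the coroots of R' respectively (a morphism of root data in the
two-bijection sense), then the two bijections correspond: the coroot of α' is g applied to the
coroot of f(α'). -/
theorem result {ι M N ι' M' N' : Type*} [AddCommGroup M] [AddCommGroup N] [AddCommGroup M'] [AddCommGroup N']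
    (P : RootPairing ι ℤ M N) (P' : RootPairing ι' ℤ M' N') [Finite ι] [Finite ι']
    (f : M' →ₗ[ℤ] M) (g : N →ₗ[ℤ] N') (hfg : ∀ (m' : M') (n : N), P.toLinearMap (f m') n = P'.toLinearMap m' (g n))
    (e : ι' ≃ ι) (he : ∀ i' : ι', f (P'.root i') = P.root (e i'))
    (e' : ι ≃ ι') (he' : ∀ i : ι, g (P.coroot i) = P'.coroot (e' i)) :
    ∀ i' : ι', g (P.coroot (e i')) = P'.coroot i' := by
  classical
  cases nonempty_fintype ι'
  have := RootDatum.isAddTorsionFree_left P'
  let π : ι' ≃ ι' := e.trans e'
  have h2 : ∀ x : ι', P'.pairing x (π x) = 2 := fun x => by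
    have h := hfg (P'.root x) (P.coroot (e x))
    rw [he, he', P.root_coroot_eq_pairing, P.pairing_same, P'.root_coroot_eq_pairing] at h
    exact h.symm
  have hle : ∀ x, RootDatum.len P' (π x) ≤ RootDatum.len P' x ∧
      (RootDatum.len P' (π x) = RootDatum.len P' x → π x = x) := by
    intro x
    have e1 := RootDatum.pairingIn_mul_len P' x (π x)
    have hm := P'.pairingIn_pairingIn_mem_set_of_isCrystallographic x (π x)
    have h22' : P'.pairing (π x) x = 2 → x = π x := fun h =>
      (P'.pairingIn_two_two_iff ℤ x (π x)).mp ⟨by simpa using h2 x, by simpa using h⟩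
    have := RootDatum.len_pos P' x
    simp only [RootDatum.pairingIn_int, h2 x, Set.mem_insert_iff, Set.mem_singleton_iff,
      Prod.mk.injEq] at hm e1
    have hy : P'.pairing (π x) x = 1 ∨ P'.pairing (π x) x = 2 := by omega
    rcases hy with hy | hy <;> rw [hy] at e1
    · exact ⟨by omega, fun h => by omega⟩
    · exact ⟨by omega, fun _ => (h22' hy).symm⟩
  intro x
  have hsum : ∑ y, RootDatum.len P' (π y) = ∑ y, RootDatum.len P' y := Equiv.sum_comp π _
  have := (Finset.sum_eq_sum_iff_of_le fun y _ => (hle y).1).mp hsum x (Finset.mem_univ x)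
  have hx := (hle x).2 this
  rw [he']
  exact congrArg _ hx

end Groth.Agent.S5473
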