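import Groth.Statements.S5474
import Groth.Agent.RootDatum.Misc
import Mathlib.GroupTheory.FiniteAbelian.Basic
-- import your own Groth.Agent.* helpers here

set_option autoImplicit false
open RootD

namespace Groth.Agent.S5474

/-- Every morphism between semisimple root data is an isogeny (injective on weight lattices with finite
cokernel). -/
theorem result {ι M N ι' M' N' : Type*} [AddCommGroup M] [AddCommGroup N] [AddCommGroup M'] [AddCommGroup N']
    (P : RootPairing ι ℤ M N) (P' : RootPairing ι' ℤ M' N') [Finite ι] [Finite ι']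
    [Module.Finite ℤ M] [Module.Finite ℤ N] [Module.Finite ℤ M'] [Module.Finite ℤ N']
    (hss : Module.finrank ℤ (Submodule.span ℤ (Set.range P.root)) = Module.finrank ℤ M)
    (hss' : Module.finrank ℤ (Submodule.span ℤ (Set.range P'.root)) = Module.finrank ℤ M')
    (f : RootPairing.Hom P' P) :
    Function.Injective f.weightMap ∧ Finite (M ⧸ LinearMap.range f.weightMap) := by
  classical
  have hr : ∀ i, f.weightMap (P'.root i) = P.root (f.indexEquiv i) :=
    fun i => RootPairing.Hom.root_weightMap_apply P' P i f
  have := RootDatum.isAddTorsionFree_left P'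
  refine ⟨?_, ?_⟩
  · rw [← LinearMap.ker_eq_bot, LinearMap.ker_eq_bot']
    intro v hv
    obtain ⟨n, hn, hmem⟩ := RootDatum.exists_smul_mem_of_finrank_eq hss' v
    have h0 : n • v = 0 := RootDatum.eq_zero_of_mem_span_of_coroot' P' hmem fun l => by
      have h := RootPairing.Hom.weight_coweight_transpose_apply P' P (P.coroot (f.indexEquiv l)) f
      rw [RootPairing.Hom.coroot_coweightMap_apply, Equiv.symm_apply_apply] at h
      have h1 : P.coroot' (f.indexEquiv l) (f.weightMap v) = P'.coroot' l v :=
        LinearMap.congr_fun h v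
      rw [map_nsmul, ← h1, hv, map_zero, smul_zero]
    exact (smul_eq_zero.mp h0).resolve_left hn.ne'
  · have hle : Submodule.span ℤ (Set.range P.root) ≤ LinearMap.range f.weightMap := by
      rw [Submodule.span_le]
      rintro _ ⟨i, rfl⟩
      exact ⟨P'.root (f.indexEquiv.symm i), by rw [hr, Equiv.apply_symm_apply]⟩
    refine Module.finite_of_fg_torsion _ fun q => ?_
    induction q using Submodule.Quotient.induction_on with
    | _ x =>
      obtain ⟨n, hn, hmem⟩ := RootDatum.exists_smul_mem_of_finrank_eq hss x
      refine ⟨⟨(n : ℤ), mem_nonZeroDivisors_of_ne_zero (by exact_mod_cast hn.ne')⟩, ?_⟩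
      show (n : ℤ) • (Submodule.Quotient.mk x : M ⧸ LinearMap.range f.weightMap) = 0
      rw [← Submodule.Quotient.mk_smul, Submodule.Quotient.mk_eq_zero, natCast_zsmul]
      exact hle hmem

end Groth.Agent.S5474
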