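import Groth.Statements.S5475
import Groth.Agent.RootDatum.Sat
import Groth.Agent.RootDatum.Forms
-- import your own Groth.Agent.* helpers here

set_option autoImplicit false
open RootD

namespace Groth.Agent.S5475

/-- In an adjoint root datum every indivisible root is an indivisible element of the weight lattice. -/
theorem result {ι M N : Type*} [AddCommGroup M] [AddCommGroup N]
    (P : RootPairing ι ℤ M N) [Finite ι] (had : Submodule.span ℤ (Set.range P.root) = ⊤)
    (i : ι) (hind : RootD.IsIndiv P i) (m : M) (n : ℤ) (h : n • m = P.root i) : n = 1 ∨ n = -1 := by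
  classical
  have hnm := h
  clear h
  obtain ⟨Δ, h⟩ := RootDatum.exists_isSimple P
  obtain ⟨g, -, δ, hδ, e⟩ := h.exists_conj_of_indiv (k := i) hind
  have hx : n • (g⁻¹ • m) = P.root δ := by
    rw [← RootDatum.smul_zsmul, hnm, ← e, RootDatum.root_smul, inv_smul_smul]
  have hmem : g⁻¹ • m ∈ Submodule.span ℤ (P.root '' Δ) := by
    have : Submodule.span ℤ (Set.range P.root) ≤ Submodule.span ℤ (P.root '' Δ) := by
      rw [Submodule.span_le]
      rintro _ ⟨k, rfl⟩
      exact (h.span_iff subset_rfl k).mpr (h.coeff_support k)
    exact this (had ▸ Submodule.mem_top)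
  obtain ⟨d, hd, ed⟩ := (Finsupp.mem_span_image_iff_linearCombination ℤ).mp hmem
  rw [Finsupp.mem_supported] at hd
  have := h.lc_inj (c := n • d) (d := Finsupp.single δ 1)
    ((Finset.coe_subset.mpr Finsupp.support_smul).trans hd)
    ((Finset.coe_subset.mpr Finsupp.support_single_subset).trans (by simpa using hδ))
    (by rw [map_smul, ed, hx]; simp)
  exact Int.eq_one_or_neg_one_of_mul_eq_one (by simpa using DFunLike.congr_fun this δ)

end Groth.Agent.S5475
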