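import Groth.Statements.S5478
import Groth.Agent.RootDatum.Misc
-- import your own Groth.Agent.* helpers here

set_option autoImplicit false
open RootPairing
open scoped Pointwise
open RootD

namespace Groth.Agent.S5478

/-- The group of automorphisms of a root datum that act trivially on the radical is finite. -/
theorem result {ι M N : Type*} [AddCommGroup M] [AddCommGroup N]
    (P : RootPairing ι ℤ M N) [Finite ι] :
    Set.Finite {u : P.Aut | ∀ m : M, ∃ n : ℕ, 0 < n ∧ n • (u • m - m) ∈ Submodule.span ℤ (Set.range P.root)} := by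
  classical
  refine Set.Finite.of_finite_image (f := fun u : P.Aut => fun i : ι => u • i)
    (Set.toFinite _) ?_
  intro u hu v hv e
  refine (inv_mul_eq_one.mp (RootDatum.aut_eq_one_of_fix P (u := v⁻¹ * u) (fun m => ?_) fun i => ?_)).symm
  · obtain ⟨n, hn, hm⟩ := hu m
    obtain ⟨k, hk, hm'⟩ := hv m
    refine ⟨n * k, Nat.mul_pos hn hk, ?_⟩
    have hinv : ∀ x ∈ Submodule.span ℤ (Set.range P.root), v⁻¹ • x ∈
        Submodule.span ℤ (Set.range P.root) := by
      intro x hx
      induction hx using Submodule.span_induction with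
      | mem x hx =>
        obtain ⟨i, rfl⟩ := hx
        rw [← RootDatum.root_smul]
        exact Submodule.subset_span ⟨_, rfl⟩
      | zero => rw [smul_zero]; exact zero_mem _
      | add x y _ _ hx hy => rw [smul_add]; exact add_mem hx hy
      | smul a x _ hx => rw [RootDatum.smul_zsmul]; exact Submodule.smul_mem _ a hx
    have e' : (n * k) • ((v⁻¹ * u) • m - m) =
        v⁻¹ • (k • (n • (u • m - m)) - n • (k • (v • m - m))) := by
      rw [mul_smul v⁻¹ u, smul_smul k n, smul_smul n k, mul_comm k n, ← smul_sub (n * k),
        sub_sub_sub_cancel_right, smul_comm v⁻¹ (n * k), smul_sub v⁻¹, inv_smul_smul]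
    rw [e']
    exact hinv _ (sub_mem (nsmul_mem hm k) (nsmul_mem hm' n))
  · have e' : u • i = v • i := congr_fun e i
    rw [mul_smul, e', inv_smul_smul]

end Groth.Agent.S5478
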