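import Groth.Statements.S5479
import Groth.Agent.RootDatum.Exists
-- import your own Groth.Agent.* helpers here

set_option autoImplicit false
open RootPairing
open scoped Pointwise
open RootD

namespace Groth.Agent.S5479

/-- Aut(R) is the semidirect product of the Weyl group by the stabiliser E_Δ of a system of simple
roots: every automorphism is uniquely w · e with w ∈ W and e(Δ) = Δ. -/
theorem result {ι M N : Type*} [AddCommGroup M] [AddCommGroup N]
    (P : RootPairing ι ℤ M N) [Finite ι] (Δ : Set ι) (hΔ : RootD.IsSimpleSys P Δ) (u : P.Aut) :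
    ∃! w : P.weylGroup, (fun i : ι => ((w : P.Aut)⁻¹ * u) • i) '' Δ = Δ := by
  have h := RootDatum.isSimple_of_isSimpleSys P hΔ
  obtain ⟨g, hg, e⟩ := RootDatum.weylGroup_transitive_simple P h (RootDatum.isSimple_smul P h u)
  refine ⟨⟨g, hg⟩, ?_, ?_⟩
  · simp only [mul_smul]
    rw [← Set.image_image (fun i => g⁻¹ • i) (fun i => u • i), ← e, Set.image_image]
    simp
  · rintro ⟨w, hw⟩ he
    simp only [mul_smul] at he
    rw [← Set.image_image (fun i => w⁻¹ • i) (fun i => u • i), ← e, Set.image_image] at he
    have h1 : w⁻¹ * g = 1 := by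
      refine h.eq_one_of_preserves (mul_mem (inv_mem hw) hg) fun i hi => h.mem_posOf_self ?_
      rw [← he, mul_smul]
      exact ⟨i, hi, rfl⟩
    exact Subtype.ext (inv_mul_eq_one.mp h1)

end Groth.Agent.S5479
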