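import Groth.Statements.S5480
import Groth.Agent.RootDatum.Misc
-- import your own Groth.Agent.* helpers here

set_option autoImplicit false
open RootD

namespace Groth.Agent.S5480

/-- For a p-morphism of reduced root data with root bijection u and radicial exponents q: (a) for all
roots α, β one has q(s_α(β)) = q(β) and u(s_α(β)) = s_{u(α)}(u(β)); (b) the exponents are invariant
under the Weyl group, q(w(α)) = q(α); (c) there is an isomorphism ū from the Weyl group of the first
datum to that of the second with ū(s_α) = s_{u(α)} and u(w(α)) = ū(w)(u(α)) for every Weyl group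
element w and every root α. -/
theorem result {ι M N ι' M' N' : Type*} [AddCommGroup M] [AddCommGroup N] [AddCommGroup M'] [AddCommGroup N']
    (P : RootPairing ι ℤ M N) (P' : RootPairing ι' ℤ M' N') [Finite ι] [Finite ι'] [P.IsReduced] [P'.IsReduced]
    (p : ℕ) (hp : 0 < p) (f : M' →ₗ[ℤ] M) (g : N →ₗ[ℤ] N')
    (hfg : ∀ (m' : M') (n : N), P.toLinearMap (f m') n = P'.toLinearMap m' (g n))
    (u : ι ≃ ι') (q : ι → ℕ) (hq : ∀ i, ∃ e : ℕ, q i = p ^ e)
    (hroot : ∀ i : ι, f (P'.root (u i)) = (q i : ℤ) • P.root i)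
    (hcoroot : ∀ i : ι, g (P.coroot i) = (q i : ℤ) • P'.coroot (u i)) :
    (∀ i j : ι, q (P.reflectionPerm i j) = q j ∧ u (P.reflectionPerm i j) = P'.reflectionPerm (u i) (u j)) ∧
      (∀ w ∈ P.weylGroup, ∀ i : ι, q (w • i) = q i) ∧
      ∃ ubar : P.weylGroup ≃* P'.weylGroup,
        (∀ i : ι, ubar (RootPairing.weylGroup.ofIdx P i) = RootPairing.weylGroup.ofIdx P' (u i)) ∧
        ∀ (w : P.weylGroup) (i : ι), u ((w : P.Aut) • i) = ((ubar w : P'.weylGroup) : P'.Aut) • u i := by
  classical
  have := RootDatum.isAddTorsionFree_left P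
  have hq0 : ∀ i, (0 : ℤ) < q i := fun i => by
    obtain ⟨e, he⟩ := hq i
    exact_mod_cast he ▸ pow_pos hp e
  have hpair : ∀ i j, (q i : ℤ) * P.pairing i j = q j * P'.pairing (u i) (u j) := fun i j => by
    have h := hfg (P'.root (u i)) (P.coroot j)
    rw [hroot, hcoroot] at h
    simpa using h
  have comm : ∀ i j : ι, q (P.reflectionPerm i j) = q j ∧
      u (P.reflectionPerm i j) = P'.reflectionPerm (u i) (u j) := by
    intro i j
    obtain ⟨k, hk⟩ := u.surjective (P'.reflectionPerm (u i) (u j))
    have h := congrArg f (congrArg P'.root hk)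
    rw [hroot, RootDatum.root_reflect, map_sub, map_zsmul, hroot, hroot, smul_smul,
      RootDatum.pairingIn_int] at h
    have h' : (q k : ℤ) • P.root k = (q j : ℤ) • P.root (P.reflectionPerm i j) := by
      rw [h, RootDatum.root_reflect, RootDatum.pairingIn_int, smul_sub, smul_smul,
        hpair j i, mul_comm (q i : ℤ)]
    have hk' : P.root k = P.root (P.reflectionPerm i j) ∧ q j = q k := by
      rcases RootDatum.zsmul_root_cases P (hq0 k).ne' h' with
        ⟨e, e'⟩ | ⟨-, e'⟩ | ⟨e, -⟩ | ⟨-, e'⟩ | ⟨e, -⟩ | ⟨-, e'⟩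
      · exact ⟨e, by exact_mod_cast e'⟩
      · have := hq0 k; have := hq0 j; omega
      · exact absurd ⟨k, e.trans (ofNat_zsmul _ 2)⟩ (P.nsmul_notMem_range_root (n := 2))
      · have := hq0 k; have := hq0 j; omega
      · exact absurd ⟨_, e.trans (ofNat_zsmul _ 2)⟩ (P.nsmul_notMem_range_root (n := 2))
      · have := hq0 k; have := hq0 j; omega
    obtain rfl := P.root.injective hk'.1
    exact ⟨hk'.2.symm, hk⟩
  refine ⟨comm, fun w hw => ?_, ?_⟩
  · induction hw using RootPairing.weylGroup.induction with
    | mem i => exact fun j => (comm i j).1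
    | one => simp
    | mul x y _ _ hx hy => intro j; rw [mul_smul, hx, hy]
  have injP : Function.Injective P.weylGroupToPerm := fun g h e =>
    Subtype.ext (RootDatum.weylGroup_ext P g.2 h.2 fun i => Equiv.congr_fun e i)
  have injP' : Function.Injective P'.weylGroupToPerm := fun g h e =>
    Subtype.ext (RootDatum.weylGroup_ext P' g.2 h.2 fun i => Equiv.congr_fun e i)
  have hrange : P.weylGroupToPerm.range.map (u.permCongrHom : (ι ≃ ι) →* (ι' ≃ ι')) =
      P'.weylGroupToPerm.range := by
    rw [P.range_weylGroupToPerm, P'.range_weylGroupToPerm, MonoidHom.map_closure, ← Set.range_comp,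
      ← u.surjective.range_comp P'.reflectionPerm]
    refine congrArg _ (congrArg Set.range ?_)
    funext i
    ext x
    show u (P.reflectionPerm i (u.symm x)) = P'.reflectionPerm (u i) x
    rw [(comm i (u.symm x)).2, Equiv.apply_symm_apply]
  let ubar : P.weylGroup ≃* P'.weylGroup :=
    (MonoidHom.ofInjective injP).trans ((u.permCongrHom.subgroupMap _).trans
      ((MulEquiv.subgroupCongr hrange).trans (MonoidHom.ofInjective injP').symm))
  have key : ∀ w : P.weylGroup, P'.weylGroupToPerm (ubar w) =
      u.permCongrHom (P.weylGroupToPerm w) := by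
    intro w
    simp only [ubar, MulEquiv.trans_apply]
    rw [MonoidHom.apply_ofInjective_symm]
    rfl
  refine ⟨ubar, fun i => injP' ?_, fun w i => ?_⟩
  · rw [key]
    ext x
    show u (P.reflectionPerm i (u.symm x)) = P'.reflectionPerm (u i) x
    rw [(comm i _).2, Equiv.apply_symm_apply]
  · have h := Equiv.congr_fun (key w) (u i)
    show u ((w : P.Aut) • i) = P'.weylGroupToPerm (ubar w) (u i)
    rw [h]
    show _ = u (P.weylGroupToPerm w (u.symm (u i)))
    rw [Equiv.symm_apply_apply]
    rfl

end Groth.Agent.S5480
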