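import Groth.Statements.S5481
import Groth.Agent.RootDatum.Misc
import Groth.Agent.S5480
-- import your own Groth.Agent.* helpers here

set_option autoImplicit false
open RootD

namespace Groth.Agent.S5481

theorem prop_iff {α A B : Type*} [AddCommGroup A] [AddCommGroup B] (Q : RootPairing α ℤ A B)
    [Finite α] [Q.IsReduced] {S : Set α} (hS : RootD.IsPosSys Q S) {k : α} (hk : k ∈ S) :
    {j | j ∈ S ∧ ¬RootDatum.Prop' Q j k} = S \ {k} := by
  have := RootDatum.isAddTorsionFree_left Q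
  ext j
  refine ⟨fun ⟨h1, h2⟩ =>
      ⟨h1, fun e => h2 ⟨1, 1, one_ne_zero, by rw [Set.mem_singleton_iff.mp e]⟩⟩,
    fun ⟨h1, h2⟩ => ⟨h1, fun ⟨a, b, hb, e⟩ => h2 ?_⟩⟩
  rcases RootDatum.zsmul_root_cases Q hb e with
    ⟨e, -⟩ | ⟨e, -⟩ | ⟨e, -⟩ | ⟨e, -⟩ | ⟨e, -⟩ | ⟨e, -⟩
  · exact Q.root.injective e
  · exact absurd (Q.root_eq_neg_iff.mp e ▸ h1) (hS.disjoint hk)
  · exact absurd ⟨j, e.trans (ofNat_zsmul _ 2)⟩ (Q.nsmul_notMem_range_root (n := 2))
  · refine absurd ⟨Q.reflectionPerm j j, ?_⟩ (Q.nsmul_notMem_range_root (n := 2) (i := k))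
    rw [RootDatum.root_neg, e, neg_smul, neg_neg, ofNat_zsmul]
  · exact absurd ⟨k, e.trans (ofNat_zsmul _ 2)⟩ (Q.nsmul_notMem_range_root (n := 2))
  · refine absurd ⟨Q.reflectionPerm k k, ?_⟩ (Q.nsmul_notMem_range_root (n := 2) (i := j))
    rw [RootDatum.root_neg, e, neg_smul, neg_neg, ofNat_zsmul]

theorem indec_iff {α A B : Type*} [AddCommGroup A] [AddCommGroup B] (Q : RootPairing α ℤ A B)
    [Finite α] [Q.IsReduced] {S : Set α} (hS : RootD.IsPosSys Q S) (k : α) :
    k ∈ RootDatum.indec Q S ↔ k ∈ S ∧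
      ¬∃ n : ℕ, 0 < n ∧ n • Q.root k ∈ RootD.natSpan Q (S \ {k}) := by
  have := RootDatum.isAddTorsionFree_left Q
  rw [RootDatum.mem_indec_iff Q hS k]
  exact ⟨fun ⟨h1, _, h3⟩ => ⟨h1, fun ⟨n, hn, hm⟩ => h3 n hn (prop_iff Q hS h1 ▸ hm)⟩,
    fun ⟨h1, h3⟩ => ⟨h1, fun j e => Q.nsmul_notMem_range_root (n := 2)
        ⟨k, e.symm.trans (ofNat_zsmul _ 2)⟩,
      fun n hn hm => h3 ⟨n, hn, (prop_iff Q hS h1).symm ▸ hm⟩⟩⟩

/-- The root bijection u of a p-morphism of reduced root data carries systems of simple roots onto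
systems of simple roots and systems of positive roots onto systems of positive roots, bijectively. -/
theorem result {ι M N ι' M' N' : Type*} [AddCommGroup M] [AddCommGroup N] [AddCommGroup M'] [AddCommGroup N']
    (P : RootPairing ι ℤ M N) (P' : RootPairing ι' ℤ M' N') [Finite ι] [Finite ι'] [P.IsReduced] [P'.IsReduced]
    (p : ℕ) (hp : 0 < p) (f : M' →ₗ[ℤ] M) (g : N →ₗ[ℤ] N')
    (hfg : ∀ (m' : M') (n : N), P.toLinearMap (f m') n = P'.toLinearMap m' (g n))
    (u : ι ≃ ι') (q : ι → ℕ) (hq : ∀ i, ∃ e : ℕ, q i = p ^ e)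
    (hroot : ∀ i : ι, f (P'.root (u i)) = (q i : ℤ) • P.root i)
    (hcoroot : ∀ i : ι, g (P.coroot i) = (q i : ℤ) • P'.coroot (u i)) (Δ : Set ι) :
    (RootD.IsSimpleSys P Δ ↔ RootD.IsSimpleSys P' (u '' Δ)) ∧
      (RootD.IsPosSys P Δ ↔ RootD.IsPosSys P' (u '' Δ)) := by
  classical
  cases nonempty_fintype ι
  have := RootDatum.isAddTorsionFree_left P
  have := RootDatum.isAddTorsionFree_left P'
  obtain ⟨comm, -, -⟩ := Groth.Agent.S5480.result P P' p hp f g hfg u q hq hroot hcoroot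
  have hq0 : ∀ i, 0 < q i := fun i => by
    obtain ⟨e, he⟩ := hq i
    exact he ▸ pow_pos hp e
  set Q := ∏ i, q i
  have hQ : 0 < Q := Finset.prod_pos fun i _ => hq0 i
  have hdvd : ∀ i, q i ∣ Q := fun i => Finset.dvd_prod_of_mem q (Finset.mem_univ i)
  have hinj : ∀ x ∈ Submodule.span ℤ (Set.range P'.root), f x = 0 → x = 0 := by
    intro x hx h0
    refine RootDatum.eq_zero_of_mem_span_of_coroot' P' hx fun l => ?_
    obtain ⟨a, rfl⟩ := u.surjective l
    have h := hfg x (P.coroot a)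
    rw [h0, map_zero, LinearMap.zero_apply, hcoroot, map_smul, smul_eq_mul] at h
    exact (mul_eq_zero.mp h.symm).resolve_left (by exact_mod_cast (hq0 a).ne')
  have fwd : ∀ (T : Set ι) (x : M), x ∈ RootD.natSpan P T →
      ∃ y ∈ RootD.natSpan P' (u '' T), f y = Q • x := by
    intro T x hx
    induction hx using AddSubmonoid.closure_induction with
    | mem x hx =>
      obtain ⟨t, ht, rfl⟩ := hx
      obtain ⟨c, hc⟩ := hdvd t
      refine ⟨c • P'.root (u t),
        AddSubmonoid.nsmul_mem _ (RootDatum.root_mem_natSpan P' (Set.mem_image_of_mem u ht)) c, ?_⟩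
      rw [map_nsmul, hroot, natCast_zsmul, smul_smul, mul_comm c, ← hc]
    | zero => exact ⟨0, zero_mem _, by rw [map_zero, smul_zero]⟩
    | add x y _ _ hx hy =>
      obtain ⟨a, ha, ea⟩ := hx
      obtain ⟨b, hb, eb⟩ := hy
      exact ⟨a + b, add_mem ha hb, by rw [map_add, ea, eb, smul_add]⟩
  have hspan : ∀ (T : Set ι') (y : M'), y ∈ RootD.natSpan P' T →
      y ∈ Submodule.span ℤ (Set.range P'.root) := fun T y hy =>
    (AddSubmonoid.closure_le (S := (Submodule.span ℤ (Set.range P'.root)).toAddSubmonoid)).mpr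
      (fun _ h => Submodule.subset_span (Set.image_subset_range _ _ h)) hy
  have sat_iff : ∀ (T : Set ι) (k : ι),
      (∃ n : ℕ, 0 < n ∧ n • P.root k ∈ RootD.natSpan P T) ↔
      (∃ n : ℕ, 0 < n ∧ n • P'.root (u k) ∈ RootD.natSpan P' (u '' T)) := by
    intro T k
    constructor
    · rintro ⟨n, hn, hm⟩
      obtain ⟨y, hy, e⟩ := fwd T _ hm
      obtain ⟨c, hc⟩ := hdvd k
      have hc0 : 0 < c := Nat.pos_of_ne_zero fun h => by rw [h, mul_zero] at hc; omega
      refine ⟨c * n, Nat.mul_pos hc0 hn, ?_⟩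
      suffices (c * n) • P'.root (u k) = y by rwa [this]
      refine sub_eq_zero.mp (hinj _ (sub_mem (nsmul_mem (Submodule.subset_span (Set.mem_range_self _)) _)
        (hspan _ y hy)) ?_)
      rw [map_sub, map_nsmul, hroot, natCast_zsmul, e, hc, smul_smul, smul_smul, sub_eq_zero]
      congr 1; ring
    · rintro ⟨n, hn, hm⟩
      refine ⟨n * q k, Nat.mul_pos hn (hq0 k), ?_⟩
      have hle : RootD.natSpan P' (u '' T) ≤ (RootD.natSpan P T).comap f.toAddMonoidHom :=
        RootDatum.natSpan_le P' fun i ⟨t, ht, e⟩ => by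
          subst e
          show f _ ∈ RootD.natSpan P T
          rw [hroot, natCast_zsmul]
          exact AddSubmonoid.nsmul_mem _ (RootDatum.root_mem_natSpan P ht) _
      have := hle hm
      rw [AddSubmonoid.mem_comap, LinearMap.toAddMonoidHom_coe, map_nsmul, hroot, natCast_zsmul,
        smul_smul] at this
      exact this
  have neg' : ∀ i, u (P.reflectionPerm i i) = P'.reflectionPerm (u i) (u i) := fun i => (comm i i).2
  have pos_iff : ∀ S : Set ι, RootD.IsPosSys P S ↔ RootD.IsPosSys P' (u '' S) := by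
    intro S
    have hmem : ∀ i, u i ∈ u '' S ↔ i ∈ S := fun i => u.injective.mem_set_image
    constructor
    · intro h
      refine ⟨?_, fun i' => ?_, fun k' n hn hk => ?_⟩
      · rintro _ ⟨i, hi, rfl⟩
        rw [← neg', hmem]
        exact h.disjoint hi
      · obtain ⟨i, rfl⟩ := u.surjective i'
        rw [← neg', hmem, hmem]
        exact h.cover i
      · obtain ⟨k, rfl⟩ := u.surjective k'
        obtain ⟨m, hm, hmk⟩ := (sat_iff S k).mpr ⟨n, hn, hk⟩
        exact (hmem k).mpr (h.sat m hm hmk)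
    · intro h
      refine ⟨fun i hi => ?_, fun i => ?_, fun k n hn hk => ?_⟩
      · rw [← hmem, neg']
        exact h.disjoint ((hmem i).mpr hi)
      · rw [← hmem, ← hmem (P.reflectionPerm i i), neg']
        exact h.cover (u i)
      · obtain ⟨m, hm, hmk⟩ := (sat_iff S k).mp ⟨n, hn, hk⟩
        exact (hmem k).mp (h.sat m hm hmk)
  have indec_image : ∀ S : Set ι, RootD.IsPosSys P S →
      RootDatum.indec P' (u '' S) = u '' RootDatum.indec P S := by
    intro S hS
    ext k'
    obtain ⟨k, rfl⟩ := u.surjective k'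
    rw [u.injective.mem_set_image, indec_iff P' ((pos_iff S).mp hS), indec_iff P hS,
      u.injective.mem_set_image, sat_iff (S \ {k}) k, Set.image_sdiff u.injective,
      Set.image_singleton]
  refine ⟨⟨fun hΔ => ?_, fun hΔ => ?_⟩, pos_iff Δ⟩
  · have h := RootDatum.isSimple_of_isSimpleSys P hΔ
    have hS := h.isPosSys_posOf
    have e := indec_image _ hS
    rw [h.indec_posOf] at e
    exact (RootDatum.isSimpleSys_int_iff P').mpr
      (e ▸ RootDatum.isSimple_indec ((pos_iff _).mp hS))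
  · have h := RootDatum.isSimple_of_isSimpleSys P' hΔ
    have hS' := h.isPosSys_posOf
    rw [← u.image_preimage (RootD.posOf P' (u '' Δ))] at hS'
    have hS := (pos_iff _).mpr hS'
    have e := indec_image _ hS
    rw [u.image_preimage, h.indec_posOf] at e
    exact (RootDatum.isSimpleSys_int_iff P).mpr
      ((Set.image_injective.mpr u.injective e) ▸ RootDatum.isSimple_indec hS)

end Groth.Agent.S5481
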