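import Groth.Statements.S5505
import Groth.Agent.RootDatum.Exists
import Groth.Agent.S5497
-- import your own Groth.Agent.* helpers here

set_option autoImplicit false
open RootD

namespace Groth.Agent.S5505

/-- A subset of roots which, together with its complement, is closed and symmetric contains with any
root every root not orthogonal to it; so it is a union of irreducible components. -/
theorem result {ι M N : Type*} [AddCommGroup M] [AddCommGroup N]
    (P : RootPairing ι ℤ M N) [Finite ι] (R' : Set ι) (hc : RootD.IsClosedSub P R')
    (hs : RootD.IsSymmSub P R') (hc' : RootD.IsClosedSub P R'ᶜ) (hs' : RootD.IsSymmSub P R'ᶜ)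
    (i j : ι) (hi : i ∈ R') (hij : ¬ P.IsOrthogonal i j) : j ∈ R' := by
  by_contra hj
  have h5497 := Groth.Agent.S5497.result P R' hc hs hc' hs'
  rcases lt_trichotomy (P.pairing i j) 0 with hp | hp | hp
  · by_cases hn : P.root i = -P.root j
    · exact hj (by simpa [P.root_eq_neg_iff.mp hn, RootDatum.neg_neg_index] using hs hi)
    · obtain ⟨k, hk⟩ := RootDatum.exists_root_add_of_pairingIn_neg P
        (by rwa [RootDatum.pairingIn_int]) hn
      rcases h5497 i j k hk with h | h
      exacts [hj h.2.1, h.1 hi]
  · exact hij ⟨hp, (P.pairing_eq_zero_iff').mp hp⟩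
  · by_cases hn : i = j
    · exact hj (hn ▸ hi)
    · obtain ⟨k, hk⟩ := RootDatum.exists_root_sub_of_pairingIn_pos P
        (by rwa [RootDatum.pairingIn_int]) hn
      rcases h5497 k j i (by rw [hk]; abel) with h | h
      exacts [hj h.2.1, h.2.2 hi]

end Groth.Agent.S5505
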