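import Groth.Statements.S5482
import Groth.Agent.RootDatum.Sat
import Groth.Agent.RootDatum.Forms
import Groth.Agent.S5505
import Groth.Agent.S5497
-- import your own Groth.Agent.* helpers here

set_option autoImplicit false
open RootD

namespace Groth.Agent.S5482

/-- If the roots are partitioned into two closed symmetric subsets R', R'', then with Δ' = Δ ∩ R', Δ'' =
Δ ∩ R'' for a system of simple roots Δ one has R' = R_{Δ'}, R'' = R_{Δ''}, and Δ' is orthogonal to
Δ''. -/
theorem result {ι M N : Type*} [AddCommGroup M] [AddCommGroup N]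
    (P : RootPairing ι ℤ M N) [Finite ι] (Δ : Set ι) (hΔ : RootD.IsSimpleSys P Δ) (R' : Set ι)
    (hc : RootD.IsClosedSub P R') (hs : RootD.IsSymmSub P R') (hc' : RootD.IsClosedSub P R'ᶜ)
    (hs' : RootD.IsSymmSub P R'ᶜ) :
    R' = RootD.inSpan P (Δ ∩ R') ∧ R'ᶜ = RootD.inSpan P (Δ \ R') ∧
      ∀ i ∈ Δ ∩ R', ∀ j ∈ Δ \ R', P.IsOrthogonal i j := by
  classical
  have h := RootDatum.isSimple_of_isSimpleSys P hΔ
  have h5497 := Groth.Agent.S5497.result P R' hc hs hc' hs'
  have hpos : ∀ k ∈ RootD.posOf P Δ, ∀ j, h.coeff k j ≠ 0 → (j ∈ R' ↔ k ∈ R') := by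
    intro k hk
    refine h.pos_induction (p := fun k => ∀ j, h.coeff k j ≠ 0 → (j ∈ R' ↔ k ∈ R')) ?_ ?_ hk
    · intro i hi j hj
      rw [h.coeff_self hi] at hj
      rw [(Finsupp.single_apply_ne_zero.mp hj).1]
    · intro k a δ _ hδ e ih j hj
      rw [h.coeff_add e, h.coeff_self hδ] at hj
      rcases h5497 a δ k e with h' | h' <;>
      · by_cases hja : h.coeff a j = 0
        · rw [Finsupp.add_apply, hja, zero_add] at hj
          rw [(Finsupp.single_apply_ne_zero.mp hj).1]
          tauto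
        · have := ih j hja
          tauto
  have hall : ∀ k j, h.coeff k j ≠ 0 → (j ∈ R' ↔ k ∈ R') := by
    intro k j hj
    rcases h.posOf_cover k with hk | hk
    · exact hpos k hk j hj
    · rw [hpos _ hk j (by rwa [h.coeff_neg, Finsupp.neg_apply, neg_ne_zero])]
      refine ⟨fun h' => ?_, fun h' => hs h'⟩
      simpa [RootDatum.neg_neg_index] using hs h'
  have hne : ∀ k, ∃ j, h.coeff k j ≠ 0 := fun k => by
    obtain ⟨j, hj⟩ := Finsupp.ne_iff.mp (h.coeff_ne_zero k)
    exact ⟨j, by simpa using hj⟩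
  refine ⟨Set.ext fun k => ?_, Set.ext fun k => ?_, fun i hi j hj => ?_⟩
  · show _ ↔ P.root k ∈ Submodule.span ℤ _
    rw [h.span_iff Set.inter_subset_left]
    refine ⟨fun hk j hj => ⟨h.coeff_support k hj,
      (hall k j (Finsupp.mem_support_iff.mp hj)).mpr hk⟩, fun hk => ?_⟩
    obtain ⟨j, hj⟩ := hne k
    exact (hall k j hj).mp (hk (Finsupp.mem_support_iff.mpr hj)).2
  · show _ ↔ P.root k ∈ Submodule.span ℤ _
    rw [h.span_iff Set.sdiff_subset]
    refine ⟨fun hk j hj => ⟨h.coeff_support k hj,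
      fun hjR => hk ((hall k j (Finsupp.mem_support_iff.mp hj)).mp hjR)⟩, fun hk hkR => ?_⟩
    obtain ⟨j, hj⟩ := hne k
    exact (hk (Finsupp.mem_support_iff.mpr hj)).2 ((hall k j hj).mpr hkR)
  · by_contra hno
    exact hj.2 (Groth.Agent.S5505.result P R' hc hs hc' hs' i j hi.2 hno)

end Groth.Agent.S5482
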