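import Groth.Statements.S5483
import Groth.Agent.RootDatum.Sat
import Groth.Agent.RootDatum.Forms
-- import your own Groth.Agent.* helpers here

set_option autoImplicit false
open RootD

namespace Groth.Agent.S5483

/-- If a system of simple roots Δ is the disjoint union of two mutually orthogonal subsets Δ', Δ'', then
R_{Δ'} and R_{Δ''} partition the set of roots. -/
theorem result {ι M N : Type*} [AddCommGroup M] [AddCommGroup N]
    (P : RootPairing ι ℤ M N) [Finite ι] (Δ Δ' : Set ι) (hΔ : RootD.IsSimpleSys P Δ)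
    (hsub : Δ' ⊆ Δ) (horth : ∀ i ∈ Δ', ∀ j ∈ Δ \ Δ', P.IsOrthogonal i j) (k : ι) :
    (k ∈ RootD.inSpan P Δ' ∨ k ∈ RootD.inSpan P (Δ \ Δ')) ∧
      ¬ (k ∈ RootD.inSpan P Δ' ∧ k ∈ RootD.inSpan P (Δ \ Δ')) := by
  classical
  have h := RootDatum.isSimple_of_isSimpleSys P hΔ
  have hdiff : Δ \ Δ' ⊆ Δ := Set.sdiff_subset
  have hpos : ∀ k ∈ RootD.posOf P Δ, (↑(h.coeff k).support ⊆ Δ' ∨ ↑(h.coeff k).support ⊆ Δ \ Δ') := by
    intro k hk
    refine h.pos_induction
      (p := fun k => ↑(h.coeff k).support ⊆ Δ' ∨ ↑(h.coeff k).support ⊆ Δ \ Δ') ?_ ?_ hk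
    · intro i hi
      rw [h.coeff_self hi, Finsupp.support_single_ne_zero _ one_ne_zero, Finset.coe_singleton,
        Set.singleton_subset_iff, Set.singleton_subset_iff]
      by_cases hi' : i ∈ Δ'
      exacts [Or.inl hi', Or.inr ⟨hi, hi'⟩]
    · intro k a δ ha hδ e ih
      by_cases hsame : (↑(h.coeff a).support ⊆ Δ' ∧ δ ∈ Δ') ∨
          (↑(h.coeff a).support ⊆ Δ \ Δ' ∧ δ ∉ Δ')
      · have hadd : ↑(h.coeff k).support ⊆ (↑(h.coeff a).support ∪ {δ} : Set ι) := by
          rw [h.coeff_add e, h.coeff_self hδ]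
          refine (Finset.coe_subset.mpr Finsupp.support_add).trans ?_
          rw [Finset.coe_union, Finsupp.support_single_ne_zero _ one_ne_zero, Finset.coe_singleton]
        rcases hsame with ⟨h1, h2⟩ | ⟨h1, h2⟩
        · exact Or.inl (hadd.trans (Set.union_subset h1 (by simpa using h2)))
        · exact Or.inr (hadd.trans (Set.union_subset h1 (by simpa using ⟨hδ, h2⟩)))
      exfalso
      have hopp : ∀ x ∈ (h.coeff a).support, P.IsOrthogonal x δ ∧ x ≠ δ := by
        intro x hx
        rcases ih with ih | ih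
        · have hδ' : δ ∉ Δ' := fun h' => hsame (Or.inl ⟨ih, h'⟩)
          exact ⟨horth x (ih hx) δ ⟨hδ, hδ'⟩, fun e => hδ' (e ▸ ih hx)⟩
        · have hδ' : δ ∈ Δ' := by_contra fun h' => hsame (Or.inr ⟨ih, h'⟩)
          exact ⟨(horth δ hδ' x (ih hx)).symm, fun e => (ih hx).2 (e ▸ hδ')⟩
      have hz : P.pairingIn ℤ a δ = 0 := by
        have h1 := RootDatum.coroot'_linearCombination P (h.coeff a) δ
        rw [h.lc_coeff, P.root_coroot'_eq_pairing, RootDatum.pairing_eq_cast,
          Finsupp.sum, Finset.sum_eq_zero fun x hx => by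
            rw [RootDatum.pairingIn_int, (hopp x hx).1.1, mul_zero]] at h1
        simpa using h1
      have hk2 : P.pairingIn ℤ k δ = 2 := by
        rw [RootPairing.pairingIn_eq_add_of_root_eq_add (S := ℤ) e, hz, RootDatum.pairingIn_self,
          zero_add]
      have hco : h.coeff (P.reflectionPerm δ k) = h.coeff a - Finsupp.single δ 1 := by
        rw [h.coeff_reflect, h.coeff_add e, hk2, h.coeff_self hδ]; module
      obtain ⟨j, -, hj⟩ := h.exists_coeff_pos ha
      have hjs := Finsupp.mem_support_iff.mpr hj.ne'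
      have haδ : h.coeff a δ = 0 := by
        by_contra h0
        exact (hopp δ (Finsupp.mem_support_iff.mpr h0)).2 rfl
      rcases h.coeff_nonneg_or_nonpos (P.reflectionPerm δ k) with h' | h'
      · have := h' δ
        rw [hco, Finsupp.sub_apply, haδ, Finsupp.single_eq_same] at this
        omega
      · have := h' j
        rw [hco, Finsupp.sub_apply, Finsupp.single_eq_of_ne (hopp j hjs).2] at this
        omega
  constructor
  · simp only [RootD.inSpan, Set.mem_ofPred_eq, h.span_iff hsub, h.span_iff hdiff]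
    rcases h.posOf_cover k with hk | hk
    · exact hpos k hk
    · simpa only [h.coeff_neg, Finsupp.support_neg] using hpos _ hk
  · simp only [RootD.inSpan, Set.mem_ofPred_eq, h.span_iff hsub, h.span_iff hdiff]
    rintro ⟨h1, h2⟩
    obtain ⟨j, hj⟩ := Finsupp.support_nonempty_iff.mpr (h.coeff_ne_zero k)
    exact (h2 hj).2 (h1 hj)

end Groth.Agent.S5483
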