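import Groth.Statements.S5507
import Groth.Agent.RootDatum.Misc
import Mathlib.Analysis.Matrix.PosDef
import Mathlib.LinearAlgebra.Matrix.PosDef
-- import your own Groth.Agent.* helpers here

set_option autoImplicit false
open RootD

namespace Groth.Agent.S5507

theorem posDef_len {ι M N : Type*} [AddCommGroup M] [AddCommGroup N]
    (P : RootPairing ι ℤ M N) [Fintype ι] (Δ : Finset ι)
    (hli : LinearIndepOn ℤ P.root (↑Δ : Set ι)) :
    (Matrix.of fun (a b : ↥Δ) => RootDatum.len P (a : ι) * P.pairing (b : ι) (a : ι)).IsSymm ∧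
    (Matrix.of fun (a b : ↥Δ) => RootDatum.len P (a : ι) * P.pairing (b : ι) (a : ι)).PosDef := by
  classical
  have hsymm : (Matrix.of fun (a b : ↥Δ) =>
      RootDatum.len P (a : ι) * P.pairing (b : ι) (a : ι)).IsSymm := by
    ext a b
    simp only [Matrix.transpose_apply, Matrix.of_apply]
    have := RootDatum.pairingIn_mul_len P (a : ι) (b : ι)
    simp only [RootDatum.pairingIn_int] at this
    linarith
  refine ⟨hsymm, Matrix.PosDef.of_dotProduct_mulVec_pos (by simpa [Matrix.IsHermitian, Matrix.IsSymm] using hsymm) ?_⟩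
  intro x hx
  have hB : ∀ a b : ↥Δ, RootDatum.len P (a : ι) * P.pairing (b : ι) (a : ι) =
      2 * P.RootForm (P.root b) (P.root a) := by
    intro a b
    have h := P.toInvariantForm.two_mul_apply_root_root (b : ι) (a : ι)
    simp only [RootPairing.toInvariantForm_form, RootDatum.rootForm_self_int] at h
    rw [h, mul_comm]
  set v : M := ∑ a : ↥Δ, x a • P.root (a : ι) with hv
  have hq : star x ⬝ᵥ (Matrix.of fun (a b : ↥Δ) =>
      RootDatum.len P (a : ι) * P.pairing (b : ι) (a : ι)).mulVec x = 2 * P.RootForm v v := by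
    simp only [dotProduct, Matrix.mulVec, Matrix.of_apply, star_trivial, hB, hv, map_sum,
      LinearMap.sum_apply, map_zsmul, LinearMap.smul_apply, smul_eq_mul, Finset.mul_sum]
    refine Finset.sum_congr rfl fun a _ => Finset.sum_congr rfl fun b _ => ?_
    ring
  rw [hq]
  have hvspan : v ∈ P.rootSpan ℤ :=
    Submodule.sum_mem _ fun a _ => Submodule.smul_mem _ _ (Submodule.subset_span ⟨_, rfl⟩)
  refine mul_pos two_pos (P.rootForm_pos_of_ne_zero hvspan fun h0 => hx ?_)
  exact funext (Fintype.linearIndependent_iff.mp hli x h0)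

/-- For a system of simple roots Δ there are positive integers m_α (the lengths) such that the matrix
(m_α a_{α,β}) with a_{α,β} = (α^v, β) is symmetric and positive definite. -/
theorem result {ι M N : Type*} [AddCommGroup M] [AddCommGroup N]
    (P : RootPairing ι ℤ M N) [Finite ι] (Δ : Finset ι) (hΔ : RootD.IsSimpleSys P (↑Δ : Set ι)) :
    ∃ m : ↥Δ → ℤ, (∀ a, 0 < m a) ∧
      (Matrix.of fun (a b : ↥Δ) => m a * P.pairing (b : ι) (a : ι)).IsSymm ∧
      (Matrix.of fun (a b : ↥Δ) => m a * P.pairing (b : ι) (a : ι)).PosDef := by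
  classical
  cases nonempty_fintype ι
  exact ⟨fun a => RootDatum.len P (a : ι), fun a => RootDatum.len_pos P _,
    posDef_len P Δ hΔ.linInd⟩

end Groth.Agent.S5507
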