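import Groth.Statements.S5484
import Groth.Agent.RootDatum.Misc
import Groth.Agent.S5507
import Mathlib.Data.Real.StarOrdered
-- import your own Groth.Agent.* helpers here

set_option autoImplicit false
open RootD

namespace Groth.Agent.S5484

open Classical in
/-- Every principal minor of the Cartan matrix (a_{α,β} = (α^v, β), α, β simple) is strictly positive. -/
theorem result {ι M N : Type*} [AddCommGroup M] [AddCommGroup N]
    (P : RootPairing ι ℤ M N) [Finite ι] (Δ : Finset ι) (hΔ : RootD.IsSimpleSys P (↑Δ : Set ι))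
    (Δ' : Finset ι) (hsub : Δ' ⊆ Δ) :
    0 < Matrix.det (Matrix.of fun (a b : ↥Δ') => P.pairing (b : ι) (a : ι)) := by
  classical
  cases nonempty_fintype ι
  have hli : LinearIndepOn ℤ P.root (↑Δ' : Set ι) := hΔ.linInd.mono (Finset.coe_subset.mpr hsub)
  obtain ⟨-, hpd⟩ := Groth.Agent.S5507.posDef_len P Δ' hli
  set A := Matrix.of fun (a b : ↥Δ') => RootDatum.len P (a : ι) * P.pairing (b : ι) (a : ι) with hA
  have hne : A.det ≠ 0 := by
    intro h0
    obtain ⟨v, hv, hAv⟩ := Matrix.exists_mulVec_eq_zero_iff.mpr h0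
    have := hpd.dotProduct_mulVec_pos hv
    simp [hAv] at this
  let B : Matrix ↥Δ' ι ℝ := Matrix.of fun a l => (P.pairing (a : ι) l : ℝ)
  have hAB : A.map (fun z : ℤ => (z : ℝ)) = (2 : ℝ) • (B * B.conjTranspose) := by
    ext a b
    have h := P.toInvariantForm.two_mul_apply_root_root (b : ι) (a : ι)
    simp only [RootPairing.toInvariantForm_form, RootDatum.rootForm_self_int] at h
    have h' : RootDatum.len P (a : ι) * P.pairing (b : ι) (a : ι) =
        2 * ∑ l, P.pairing (a : ι) l * P.pairing (b : ι) l := by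
      rw [mul_comm, ← h, P.rootForm_apply_apply]
      simp only [P.root_coroot'_eq_pairing]
      exact congrArg _ (Finset.sum_congr rfl fun l _ => mul_comm _ _)
    simp only [hA, Matrix.map_apply, Matrix.of_apply, h', B, Matrix.smul_apply, Matrix.mul_apply,
      Matrix.conjTranspose_apply, star_trivial, smul_eq_mul]
    push_cast
    rfl
  have hnn : 0 ≤ (A.map (fun z : ℤ => (z : ℝ))).det := by
    rw [hAB]
    exact ((Matrix.posSemidef_self_mul_conjTranspose B).smul (by norm_num : (0 : ℝ) ≤ 2)).det_nonneg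
  rw [show (A.map (fun z : ℤ => (z : ℝ))).det = (A.det : ℝ) from
    (RingHom.map_det (Int.castRingHom ℝ) A).symm] at hnn
  have hdet : (0 : ℤ) < A.det := lt_of_le_of_ne (by exact_mod_cast hnn) (Ne.symm hne)
  have hA' : A = Matrix.diagonal (fun a : ↥Δ' => RootDatum.len P (a : ι)) *
      Matrix.of fun (a b : ↥Δ') => P.pairing (b : ι) (a : ι) := by
    ext a b
    simp [hA, Matrix.diagonal_mul]
  rw [hA', Matrix.det_mul, Matrix.det_diagonal] at hdet
  exact pos_of_mul_pos_right hdet (Finset.prod_pos fun (a : ↥Δ') _ => RootDatum.len_pos P (a : ι)).le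

end Groth.Agent.S5484
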