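import Groth.Statements.S5485
import Groth.Agent.RootDatum.Misc
import Groth.Agent.RootDatum.Dominant
-- import your own Groth.Agent.* helpers here

set_option autoImplicit false
open RootD

namespace Groth.Agent.S5485

theorem sat_flip {ι M N : Type*} [AddCommGroup M] [AddCommGroup N] (P : RootPairing ι ℤ M N)
    [Fintype ι] (T : Set ι) (k : ι)
    (h : ∃ n : ℕ, 0 < n ∧ n • P.root k ∈ RootD.natSpan P T) :
    ∃ n : ℕ, 0 < n ∧ n • P.coroot k ∈ RootD.natSpan P.flip T := by
  obtain ⟨n, hn, hk⟩ := h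
  have hlen : ∀ i, ((RootDatum.len P i).toNat : ℤ) = RootDatum.len P i := fun i =>
    Int.toNat_of_nonneg (RootDatum.len_pos P i).le
  have hle : RootD.natSpan P T ≤
      (RootD.natSpan P.flip T).comap ((2 : ℕ) • P.Polarization).toAddMonoidHom :=
    RootDatum.natSpan_le P fun i hi => by
      show (2 : ℕ) • P.Polarization (P.root i) ∈ RootD.natSpan P.flip T
      rw [← RootDatum.len_smul_coroot_eq, ← hlen, natCast_zsmul]
      exact AddSubmonoid.nsmul_mem _ (RootDatum.root_mem_natSpan P.flip hi) _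
  refine ⟨n * (RootDatum.len P k).toNat, Nat.mul_pos hn
    (by have := RootDatum.len_pos P k; omega), ?_⟩
  have := hle hk
  rw [AddSubmonoid.mem_comap, LinearMap.toAddMonoidHom_coe, LinearMap.smul_apply, map_nsmul,
    smul_comm, ← RootDatum.len_smul_coroot_eq, ← hlen, natCast_zsmul, smul_smul] at this
  exact this

theorem prop_flip {ι M N : Type*} [AddCommGroup M] [AddCommGroup N] (P : RootPairing ι ℤ M N)
    [Fintype ι] {j k : ι} (h : RootDatum.Prop' P j k) : RootDatum.Prop' P.flip j k := by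
  obtain ⟨a, b, hb, e⟩ := h
  refine ⟨a * RootDatum.len P k, b * RootDatum.len P j,
    mul_ne_zero hb (RootDatum.len_pos P j).ne', ?_⟩
  show (b * RootDatum.len P j) • P.coroot j = (a * RootDatum.len P k) • P.coroot k
  rw [mul_smul, mul_smul, RootDatum.len_smul_coroot_eq, RootDatum.len_smul_coroot_eq,
    smul_comm b, smul_comm a, ← map_zsmul P.Polarization b, ← map_zsmul P.Polarization a, e]

/-- If Δ is a system of simple roots then ind(Δ^v), the set of coroots of Δ with each divisible coroot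
replaced by its half, is a system of simple coroots (a system of simple roots of the dual datum). -/
theorem result {ι M N : Type*} [AddCommGroup M] [AddCommGroup N]
    (P : RootPairing ι ℤ M N) [Finite ι] (Δ : Set ι) (hΔ : RootD.IsSimpleSys P Δ) :
    RootD.IsSimpleSys P.flip {j : ι | ∃ i ∈ Δ, (j = i ∧ RootD.IsIndiv P.flip i) ∨ (2 : ℤ) • P.coroot j = P.coroot i} := by
  classical
  cases nonempty_fintype ι
  have := RootDatum.isAddTorsionFree_left P
  have := RootDatum.isAddTorsionFree_right P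
  have hs := RootDatum.isSimple_of_isSimpleSys P hΔ
  have hS := hs.isPosSys_posOf
  have sat : ∀ (T : Set ι) (k : ι), (∃ n : ℕ, 0 < n ∧ n • P.root k ∈ RootD.natSpan P T) ↔
      (∃ n : ℕ, 0 < n ∧ n • P.coroot k ∈ RootD.natSpan P.flip T) := fun T k =>
    ⟨sat_flip P T k, sat_flip P.flip T k⟩
  have prop : ∀ j k : ι, RootDatum.Prop' P j k ↔ RootDatum.Prop' P.flip j k := fun j k =>
    ⟨prop_flip P, prop_flip P.flip⟩
  have hF : RootD.IsPosSys P.flip (RootD.posOf P Δ) := by
    refine ⟨hS.disjoint, hS.cover, fun k n hn hk => ?_⟩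
    obtain ⟨m, hm, hmk⟩ := (sat _ k).mpr ⟨n, hn, hk⟩
    exact hS.sat m hm hmk
  refine (RootDatum.isSimpleSys_int_iff P.flip).mpr ?_
  suffices e : {j : ι | ∃ i ∈ Δ, (j = i ∧ RootD.IsIndiv P.flip i) ∨
      (2 : ℤ) • P.coroot j = P.coroot i} = RootDatum.indec P.flip (RootD.posOf P Δ) by
    rw [e]; exact RootDatum.isSimple_indec hF
  have hext : ∀ k, k ∈ RootD.posOf P Δ →
      ((∀ n : ℕ, 0 < n → n • P.root k ∉
        RootD.natSpan P {j | j ∈ RootD.posOf P Δ ∧ ¬RootDatum.Prop' P j k}) ↔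
      (∀ n : ℕ, 0 < n → n • P.flip.root k ∉
        RootD.natSpan P.flip {j | j ∈ RootD.posOf P Δ ∧ ¬RootDatum.Prop' P.flip j k})) := by
    intro k _
    simp only [← prop]
    have := not_congr (sat {j | j ∈ RootD.posOf P Δ ∧ ¬RootDatum.Prop' P j k} k)
    simpa [not_exists] using this
  ext k
  rw [RootDatum.mem_indec_iff P.flip hF]
  constructor
  · rintro ⟨i, hi, ⟨rfl, hfi⟩ | hk⟩
    · have hk := hs.mem_posOf_self hi
      exact ⟨hk, hfi, (hext k hk).mp ((RootDatum.mem_indec_iff P hS k).mp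
        (hs.indec_posOf.symm ▸ hi)).2.2⟩
    · have h2 : P.root k = (2 : ℤ) • P.root i := RootPairing.coroot_eq_smul_coroot_iff.mp hk.symm
      have hkS : k ∈ RootD.posOf P Δ := by
        show P.root k ∈ RootD.natSpan P Δ
        rw [h2, two_smul]
        exact add_mem (RootDatum.root_mem_natSpan P hi) (RootDatum.root_mem_natSpan P hi)
      refine ⟨hkS, RootDatum.indiv_of_two (P := P.flip) (i := i) (j := k) hk.symm, (hext k hkS).mp ?_⟩
      have hset : {j | j ∈ RootD.posOf P Δ ∧ ¬RootDatum.Prop' P j k} =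
          {j | j ∈ RootD.posOf P Δ ∧ ¬RootDatum.Prop' P j i} := by
        ext j
        refine and_congr_right fun _ => not_congr ⟨?_, ?_⟩
        · rintro ⟨a, b, hb, e⟩
          exact ⟨a * 2, b, hb, by rw [e, h2, smul_smul]⟩
        · rintro ⟨a, b, hb, e⟩
          exact ⟨a, 2 * b, mul_ne_zero two_ne_zero hb, by
            rw [mul_smul, e, h2, smul_comm]⟩
      intro n hn
      rw [hset, h2]
      have := ((RootDatum.mem_indec_iff P hS i).mp (hs.indec_posOf.symm ▸ hi)).2.2 (n * 2) (by omega)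
      rwa [mul_smul, ← ofNat_zsmul (P.root i) 2] at this
  · rintro ⟨hk, hfi, hex⟩
    by_cases hind : ∀ j, (2 : ℤ) • P.root j ≠ P.root k
    · have : k ∈ Δ := hs.indec_posOf ▸
        (RootDatum.mem_indec_iff P hS k).mpr ⟨hk, hind, (hext k hk).mpr hex⟩
      exact ⟨k, this, Or.inl ⟨rfl, hfi⟩⟩
    push Not at hind
    obtain ⟨i, hi⟩ := hind
    have hiS : i ∈ RootD.posOf P Δ := hS.sat 2 two_pos (by
      rw [← ofNat_zsmul (P.root i) 2, hi]
      exact RootDatum.root_mem_natSpan P hk)
    have hset : {j | j ∈ RootD.posOf P Δ ∧ ¬RootDatum.Prop' P j k} =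
        {j | j ∈ RootD.posOf P Δ ∧ ¬RootDatum.Prop' P j i} := by
      ext j
      refine and_congr_right fun _ => not_congr ⟨?_, ?_⟩
      · rintro ⟨a, b, hb, e⟩
        exact ⟨a * 2, b, hb, by rw [e, ← hi, smul_smul]⟩
      · rintro ⟨a, b, hb, e⟩
        exact ⟨a, 2 * b, mul_ne_zero two_ne_zero hb, by rw [mul_smul, e, ← hi, smul_comm]⟩
    have : i ∈ Δ := by
      rw [← hs.indec_posOf]
      refine (RootDatum.mem_indec_iff P hS i).mpr
        ⟨hiS, RootDatum.indiv_of_two hi.symm, fun n hn hmem => ?_⟩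
      refine (hext k hk).mpr hex n hn ?_
      rw [hset, ← hi, smul_comm, ofNat_zsmul]
      exact AddSubmonoid.nsmul_mem _ hmem 2
    exact ⟨i, this, Or.inr (RootPairing.coroot_eq_smul_coroot_iff.mpr hi.symm).symm⟩

end Groth.Agent.S5485
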