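import Groth.Statements.S5486
import Groth.Agent.RootDatum.Exists
-- import your own Groth.Agent.* helpers here

set_option autoImplicit false
open RootD

namespace Groth.Agent.S5486

/-- For orthogonal roots α, β, the sum α + β is a root if and only if the difference α - β is. -/
theorem result {ι M N : Type*} [AddCommGroup M] [AddCommGroup N]
    (P : RootPairing ι ℤ M N) [Finite ι] (i j : ι) (h : P.IsOrthogonal i j) :
    P.root i + P.root j ∈ Set.range P.root ↔ P.root i - P.root j ∈ Set.range P.root := by
  have key : ∀ {a b : ι}, P.IsOrthogonal a b →
      (P.root a + P.root b ∈ Set.range P.root ↔ P.root a - P.root b ∈ Set.range P.root) := by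
    intro a b hab
    have e : P.reflection b (P.root a + P.root b) = P.root a - P.root b := by
      rw [map_add, hab.reflection_apply_left, P.reflection_apply_self, sub_eq_add_neg]
    constructor
    · rintro ⟨k, hk⟩
      exact ⟨P.reflectionPerm b k, by rw [P.root_reflectionPerm, hk, e]⟩
    · rintro ⟨k, hk⟩
      exact ⟨P.reflectionPerm b k, by rw [P.root_reflectionPerm, hk, ← e, P.reflection_same]⟩
  exact key h

end Groth.Agent.S5486
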