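import Groth.Statements.S5487
import Groth.Agent.RootDatum.Sat
import Groth.Agent.RootDatum.Forms
-- import your own Groth.Agent.* helpers here

set_option autoImplicit false
open RootD

namespace Groth.Agent.S5487

/-- For non-orthogonal roots α, β one has ℓ(α) ℓ(α^v) = ℓ(β) ℓ(β^v), where ℓ is the canonical quadratic
form of the datum and of its dual. -/
theorem result {ι M N : Type*} [AddCommGroup M] [AddCommGroup N]
    (P : RootPairing ι ℤ M N) [Finite ι] [Fintype ι] (i j : ι) (h : ¬ P.IsOrthogonal i j) :
    P.RootForm (P.root i) (P.root i) * P.CorootForm (P.coroot i) (P.coroot i) =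
      P.RootForm (P.root j) (P.root j) * P.CorootForm (P.coroot j) (P.coroot j) := by
  rw [RootDatum.rootForm_self_int, RootDatum.rootForm_self_int, RootDatum.corootForm_self_int,
    RootDatum.corootForm_self_int]
  have h1 := RootDatum.pairingIn_mul_len P i j
  have h2 := RootDatum.pairingIn_mul_len P.flip i j
  simp only [RootDatum.pairingIn_int, RootPairing.pairing_flip] at h1 h2
  have hij : P.pairing i j ≠ 0 := fun h0 => h ⟨h0, (P.pairing_eq_zero_iff').mp h0⟩
  have hji : P.pairing j i ≠ 0 := fun h0 => h ⟨(P.pairing_eq_zero_iff').mp h0, h0⟩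
  refine mul_left_cancel₀ (mul_ne_zero hij hji) ?_
  linear_combination (P.pairing i j * RootDatum.len P.flip i) * h1 +
    (P.pairing i j * RootDatum.len P j) * h2

end Groth.Agent.S5487
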