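import Groth.Statements.S5489
import Groth.Agent.RootDatum.Exists
-- import your own Groth.Agent.* helpers here

set_option autoImplicit false
open RootD

namespace Groth.Agent.S5489

/-- If a root α, distinct from roots α_1, ..., α_n, is a non-negative rational combination of them, then
some α_l with non-zero coefficient has (α^v, α_l) > 0 and α - α_l a root. -/
theorem result {ι M N : Type*} [AddCommGroup M] [AddCommGroup N]
    (P : RootPairing ι ℤ M N) [Finite ι] {n : ℕ} (a : Fin n → ι) (m : Fin n → ℕ)
    (k : ι) (hne : ∀ l, a l ≠ k) (c : ℕ) (hc : 0 < c) (hk : c • P.root k = ∑ l, m l • P.root (a l)) :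
    ∃ l : Fin n, m l ≠ 0 ∧ 0 < P.pairing (a l) k ∧ P.root k - P.root (a l) ∈ Set.range P.root := by
  have hsum := congrArg (P.coroot' k) hk
  simp only [map_nsmul, map_sum, P.root_coroot'_eq_pairing, P.pairing_same] at hsum
  obtain ⟨l, hl⟩ : ∃ l, 0 < m l • P.pairing (a l) k := by
    by_contra! hcon
    have h1 : ∑ l, m l • P.pairing (a l) k ≤ 0 := Finset.sum_nonpos fun l _ => hcon l
    rw [← hsum, nsmul_eq_mul] at h1
    omega
  have hpos : 0 < P.pairing (a l) k := by
    rw [nsmul_eq_mul] at hl
    exact pos_of_mul_pos_right hl (Int.natCast_nonneg _)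
  refine ⟨l, fun h0 => by simp [h0] at hl, hpos, ?_⟩
  obtain ⟨j, hj⟩ := RootDatum.exists_root_sub_of_pairingIn_pos P
    (by rwa [RootDatum.pairingIn_int]) (hne l)
  exact ⟨P.reflectionPerm j j, by rw [RootDatum.root_neg, hj, neg_sub]⟩

end Groth.Agent.S5489
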