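import Groth.Statements.S5493
import Groth.Agent.RootDatum.Basic
import Mathlib.LinearAlgebra.RootSystem.Base
-- import your own Groth.Agent.* helpers here

set_option autoImplicit false
open RootD

namespace Groth.Agent.S5493

theorem range_sub {ι M N ι' M' N' : Type*} [AddCommGroup M] [AddCommGroup N] [AddCommGroup M']
    [AddCommGroup N'] (P : RootPairing ι ℤ M N) [Finite ι] [P.IsReduced] (b : P.Base)
    (P' : RootPairing ι' ℤ M' N') (b' : P'.Base) (B : Module.Basis ↥b.support ℤ M)
    (hB : ∀ i, B i = P.root i) (u : ↥b.support ≃ ↥b'.support) (f : M ≃ₗ[ℤ] M')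
    (hf : ∀ i : ↥b.support, f (P.root i) = P'.root (u i : ι'))
    (hu : ∀ i j : ↥b.support, P.pairing (i : ι) (j : ι) = P'.pairing (u i : ι') (u j : ι')) (i : ι) :
    ∃ i' : ι', P'.root i' = f (P.root i) := by
  have comm : ∀ k : ↥b.support, ∀ x, f (P.reflection k x) = P'.reflection (u k : ι') (f x) := by
    intro k x
    refine LinearMap.congr_fun (f := f.toLinearMap ∘ₗ (P.reflection k).toLinearMap)
      (g := (P'.reflection (u k : ι')).toLinearMap ∘ₗ f.toLinearMap) (B.ext fun j => ?_) x
    simp only [hB, LinearMap.comp_apply, LinearEquiv.coe_coe, RootPairing.reflection_apply_root,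
      map_sub, map_zsmul, hf, hu]
  refine b.induction_reflect i (p := fun i => ∃ i', P'.root i' = f (P.root i)) ?_ ?_ ?_
  · rintro j ⟨k, hk⟩
    exact ⟨P'.reflectionPerm k k, by
      rw [P'.root_reflectionPerm, P.root_reflectionPerm, P'.reflection_apply_self, P.reflection_apply_self, map_neg, hk]⟩
  · exact fun j hj => ⟨u ⟨j, hj⟩, (hf ⟨j, hj⟩).symm⟩
  · rintro j k ⟨l, hl⟩ hk
    refine ⟨P'.reflectionPerm (u ⟨k, hk⟩ : ι') l, ?_⟩
    rw [P'.root_reflectionPerm, P.root_reflectionPerm, hl]
    exact (comm ⟨k, hk⟩ _).symm


/-- Adjoint case; the simply connected case is dual: two reduced adjoint root data with systems of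
simple roots Δ, Δ' and a bijection u : Δ → Δ' respecting the Cartan matrices are isomorphic through
a unique isomorphism inducing u on Δ. -/
theorem result {ι M N ι' M' N' : Type*} [AddCommGroup M] [AddCommGroup N] [AddCommGroup M'] [AddCommGroup N']
    (P : RootPairing ι ℤ M N) (P' : RootPairing ι' ℤ M' N') [Finite ι] [Finite ι'] [P.IsReduced] [P'.IsReduced]
    (had : Submodule.span ℤ (Set.range P.root) = ⊤) (had' : Submodule.span ℤ (Set.range P'.root) = ⊤)
    (b : P.Base) (b' : P'.Base) (u : ↥b.support ≃ ↥b'.support)
    (hu : ∀ i j : ↥b.support, P.pairing (i : ι) (j : ι) = P'.pairing (u i : ι') (u j : ι')) :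
    ∃! e : RootPairing.Equiv P P', ∀ i : ↥b.support, e.indexEquiv (i : ι) = (u i : ι') := by
  classical
  have := RootDatum.isAddTorsionFree_left P'
  have := RootDatum.isAddTorsionFree_left P
  have : Module.IsTorsionFree ℤ M := inferInstance
  cases nonempty_fintype ι
  cases nonempty_fintype ι'
  let B : Module.Basis ↥b.support ℤ M :=
    b.toWeightBasisInt.map (LinearEquiv.ofTop _ had)
  let B' : Module.Basis ↥b'.support ℤ M' :=
    b'.toWeightBasisInt.map (LinearEquiv.ofTop _ had')
  have hB : ∀ i : ↥b.support, B i = P.root i := fun i => by simp [B]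
  have hB' : ∀ i : ↥b'.support, B' i = P'.root i := fun i => by simp [B']
  let f : M ≃ₗ[ℤ] M' := B.equiv B' u
  have hf : ∀ i : ↥b.support, f (P.root i) = P'.root (u i) := fun i => by
    rw [← hB i]; simp [f, hB']
  have hf' : ∀ i : ↥b'.support, f.symm (P'.root i) = P.root (u.symm i) := fun i => by
    rw [LinearEquiv.symm_apply_eq, hf, Equiv.apply_symm_apply]
  obtain ⟨e', he'⟩ : ∃ e' : ι ≃ ι', ∀ i, f (P.root i) = P'.root (e' i) := by
    have A := range_sub P b P' b' B hB u f hf hu
    have A' := range_sub P' b' P b B' hB' u.symm f.symm hf' fun i j => by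
      rw [hu, Equiv.apply_symm_apply, Equiv.apply_symm_apply]
    choose a ha using fun i => A i
    choose a' ha' using fun i => A' i
    refine ⟨⟨a, a', fun i => P.root.injective ?_, fun i => P'.root.injective ?_⟩, fun i => (ha i).symm⟩
    · rw [ha', ha, LinearEquiv.symm_apply_apply]
    · rw [ha, ha', LinearEquiv.apply_symm_apply]
  have hcor : ∀ i, (P'.coroot' (e' i)).comp f.toLinearMap = P.coroot' i := by
    intro i
    refine Module.Dual.eq_of_preReflection_mapsTo (x := P.root i) (Set.finite_range P.root) had
      ?_ ?_ (P.root_coroot_two i) (P.mapsTo_reflection_root i)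
    · show P'.coroot' (e' i) (f (P.root i)) = 2
      rw [he', RootPairing.root_coroot'_eq_pairing, RootPairing.pairing_same]
    · rintro _ ⟨k, rfl⟩
      refine ⟨e'.symm (P'.reflectionPerm (e' i) (e' k)), f.injective ?_⟩
      rw [he', Equiv.apply_symm_apply, Module.preReflection_apply, map_sub, map_zsmul, he', he',
        P'.root_reflectionPerm, RootPairing.reflection_apply]
      show _ = P'.root (e' k) - P'.coroot' (e' i) (f (P.root k)) • P'.root (e' i)
      rw [he']
  have hres : ∀ i : ↥b.support, e' i = u i := fun i => P'.root.injective (by rw [← he', hf])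
  let g : N' ≃ₗ[ℤ] N := P'.flip.toPerfPair.trans (f.dualMap.trans P.flip.toPerfPair.symm)
  let e : RootPairing.Equiv P P' :=
    { weightMap := f
      coweightMap := g
      indexEquiv := e'
      weight_coweight_transpose := by ext; simp [g]
      root_weightMap := funext he'
      coroot_coweightMap := funext fun j => by
        apply P.flip.toPerfPair.injective
        show P.flip.toPerfPair (g (P'.coroot j)) = P.coroot' (e'.symm j)
        simp only [g, LinearEquiv.trans_apply, LinearEquiv.apply_symm_apply]
        rw [← hcor, Equiv.apply_symm_apply]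
        rfl
      bijective_weightMap := f.bijective
      bijective_coweightMap := g.bijective }
  refine ⟨e, hres, fun e₂ he₂ => ?_⟩
  have hw : e₂.weightMap = e.weightMap := B.ext fun i => by
    rw [hB]
    show (e₂.weightMap ∘ P.root) i = (e.weightMap ∘ P.root) i
    rw [e₂.root_weightMap, e.root_weightMap]
    simp only [Function.comp_apply, he₂ i]
    exact congrArg P'.root (hres i).symm
  have hidx : e₂.indexEquiv = e.indexEquiv := Equiv.ext fun i => P'.root.injective (by
    have h1 := congrFun e₂.root_weightMap i
    have h2 := congrFun e.root_weightMap i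
    simp only [Function.comp_apply, hw] at h1 h2
    exact h1.symm.trans h2)
  have hcw : e₂.coweightMap = e.coweightMap := LinearMap.ext fun n => P.flip.toPerfPair.injective (by
    have h1 := LinearMap.congr_fun e₂.weight_coweight_transpose n
    have h2 := LinearMap.congr_fun e.weight_coweight_transpose n
    simp only [LinearMap.comp_apply, hw] at h1 h2
    exact h1.symm.trans h2)
  rcases e₂ with ⟨⟨w₂, c₂, i₂, _, _, _⟩, _, _⟩
  dsimp only at hw hcw hidx
  subst hw hcw hidx
  rfl

end Groth.Agent.S5493
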