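import Groth.Statements.S5494
import Groth.Agent.RootDatum.Sat
import Groth.Agent.RootDatum.Forms
import Groth.Agent.S5482
import Groth.Agent.S5506
-- import your own Groth.Agent.* helpers here

set_option autoImplicit false
open RootD

namespace Groth.Agent.S5494

/-- If a system of simple roots has no partition into two non-empty orthogonal subsets, then any two
roots are linked by a chain of roots with consecutive members non-orthogonal. -/
theorem result {ι M N : Type*} [AddCommGroup M] [AddCommGroup N]
    (P : RootPairing ι ℤ M N) [Finite ι] (Δ : Set ι) (hΔ : RootD.IsSimpleSys P Δ)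
    (hconn : ∀ Δ' : Set ι, Δ' ⊆ Δ → (∀ i ∈ Δ', ∀ j ∈ Δ \ Δ', P.IsOrthogonal i j) → Δ' = ∅ ∨ Δ' = Δ)
    (i j : ι) : Relation.ReflTransGen (fun a b : ι => ¬ P.IsOrthogonal a b) i j := by
  have h := RootDatum.isSimple_of_isSimpleSys P hΔ
  have hsub : ∀ a : ι, Δ ⊆ {x | Relation.ReflTransGen (fun a b : ι => ¬ P.IsOrthogonal a b) a x} := by
    intro a
    obtain ⟨h1, h2, h3, h4⟩ := Groth.Agent.S5506.result P a
    obtain ⟨e1, -, horth⟩ := Groth.Agent.S5482.result P Δ hΔ _ h1 h2 h3 h4
    rcases hconn _ Set.inter_subset_left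
      (fun x hx y hy => horth x hx y ⟨hy.1, fun hy' => hy.2 ⟨hy.1, hy'⟩⟩) with hE | hE
    · exfalso
      rw [hE] at e1
      have : P.root a ∈ Submodule.span ℤ (P.root '' (∅ : Set ι)) := by
        have ha : a ∈ {x | Relation.ReflTransGen (fun a b : ι => ¬ P.IsOrthogonal a b) a x} :=
          Relation.ReflTransGen.refl
        rw [e1] at ha
        exact ha
      simp at this
      exact P.ne_zero a this
    · exact fun x hx => (Set.ext_iff.mp hE x).mpr hx |>.2
  obtain ⟨δ, hδ⟩ := Finsupp.support_nonempty_iff.mpr (h.coeff_ne_zero i)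
  have hδΔ := h.coeff_support i hδ
  refine (hsub i hδΔ).trans ?_
  have hsymm : ∀ {x y : ι}, Relation.ReflTransGen (fun a b : ι => ¬ P.IsOrthogonal a b) x y →
      Relation.ReflTransGen (fun a b : ι => ¬ P.IsOrthogonal a b) y x := fun hxy => by
    induction hxy with
    | refl => exact .refl
    | tail _ h ih => exact .head (fun h' => h h'.symm) ih
  exact hsymm (hsub j hδΔ)

end Groth.Agent.S5494
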