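import Groth.Statements.S5495
import Groth.Agent.RootDatum.Exists
-- import your own Groth.Agent.* helpers here

set_option autoImplicit false
open RootD

namespace Groth.Agent.S5495

/-- If α is an indivisible root and kα is a root for a rational k, then k is an integer. -/
theorem result {ι M N : Type*} [AddCommGroup M] [AddCommGroup N]
    (P : RootPairing ι ℤ M N) [Finite ι] (i j : ι) (hind : RootD.IsIndiv P i) (a b : ℤ) (hb : b ≠ 0)
    (h : b • P.root j = a • P.root i) : b ∣ a := by
  rcases RootDatum.zsmul_root_cases P hb h with ⟨-, e⟩ | ⟨-, e⟩ | ⟨-, e⟩ | ⟨-, e⟩ | ⟨e', -⟩ | ⟨e', -⟩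
  · rw [e]
  · rw [e]; exact dvd_neg.mpr dvd_rfl
  · rw [e]; exact dvd_mul_left b 2
  · rw [e]; exact dvd_mul_left b (-2)
  · exact absurd e'.symm (hind j)
  · refine absurd ?_ (hind (P.reflectionPerm j j))
    rw [RootDatum.root_neg, e', smul_neg, neg_smul]

end Groth.Agent.S5495
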