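import Groth.Statements.S5496
import Groth.Agent.RootDatum.Misc
import Mathlib.GroupTheory.OrderOfElement
-- import your own Groth.Agent.* helpers here

set_option autoImplicit false
open RootPairing
open scoped Pointwise
open RootD

namespace Groth.Agent.S5496

theorem card_closure_pair {G : Type*} [Group G] (s t : G) (hs : s * s = 1) (ht : t * t = 1)
    (hs1 : s ≠ 1) (ht1 : t ≠ 1) (n : ℕ) (hn : 0 < n) (hord : orderOf (s * t) = n) :
    Nat.card (Subgroup.closure ({s, t} : Set G)) = 2 * n := by
  have hsi : s⁻¹ = s := inv_eq_of_mul_eq_one_right hs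
  have hti : t⁻¹ = t := inv_eq_of_mul_eq_one_right ht
  have hconj : ∀ z : ℤ, s * (s * t) ^ z = (s * t) ^ (-z) * s := by
    intro z
    have h1 : s * (s * t) * s⁻¹ = (s * t)⁻¹ := by
      rw [mul_inv_rev, hsi, hti, ← mul_assoc s s t, hs, one_mul]
    have h2 := (map_zpow (MulAut.conj s) (s * t) z)
    simp only [MulAut.conj_apply, h1, inv_zpow'] at h2
    rw [← h2, inv_mul_cancel_right]
  have hnot : s ∉ Subgroup.zpowers (s * t) := by
    rintro ⟨z, hz⟩
    have hz' : (s * t) ^ z = s := hz
    have h2 : (s * t) * s = s * (s * t) := by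
      have h := ((Commute.refl (s * t)).zpow_right z).eq
      rw [hz'] at h
      exact h
    have h3 : (s * t) * (s * t) = 1 := by
      rw [← mul_assoc, h2, ← mul_assoc s s t, hs, one_mul, ht]
    rcases Int.even_or_odd' z with ⟨k, rfl | rfl⟩
    · rw [zpow_mul, zpow_two, h3, one_zpow] at hz'
      exact hs1 hz'.symm
    · rw [zpow_add, zpow_one, zpow_mul, zpow_two, h3, one_zpow, one_mul] at hz'
      exact ht1 (mul_eq_left.mp hz')
  let F : Subgroup.zpowers (s * t) × Bool → G := fun x => (x.1 : G) * (if x.2 then s else 1)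
  have hF : Function.Injective F := by
    rintro ⟨⟨a, ha⟩, b⟩ ⟨⟨c, hc⟩, d⟩ e
    cases b <;> cases d <;> simp [F] at e ⊢
    · exact e
    · have h : c⁻¹ * a ∈ Subgroup.zpowers (s * t) := mul_mem (inv_mem hc) ha
      rw [e, inv_mul_cancel_left] at h
      exact hnot h
    · have h : a⁻¹ * c ∈ Subgroup.zpowers (s * t) := mul_mem (inv_mem ha) hc
      rw [← e, inv_mul_cancel_left] at h
      exact hnot h
    · exact e
  have hrange : Set.range F = (Subgroup.closure ({s, t} : Set G) : Set G) := by
    refine Set.Subset.antisymm ?_ fun x hx => ?_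
    · rintro _ ⟨⟨⟨a, z, rfl⟩, b⟩, rfl⟩
      have hsm : s ∈ Subgroup.closure ({s, t} : Set G) := Subgroup.subset_closure (Or.inl rfl)
      have htm : t ∈ Subgroup.closure ({s, t} : Set G) := Subgroup.subset_closure (Or.inr rfl)
      refine mul_mem (zpow_mem (mul_mem hsm htm) z) ?_
      cases b
      exacts [one_mem _, hsm]
    · suffices ∀ y ∈ Set.range F, x * y ∈ Set.range F by
        simpa using this 1 ⟨(1, false), by simp [F]⟩
      have hgen : ∀ y ∈ Set.range F, s * y ∈ Set.range F := by
        rintro _ ⟨⟨⟨a, z, rfl⟩, b⟩, rfl⟩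
        refine ⟨(⟨(s * t) ^ (-z), -z, rfl⟩, !b), ?_⟩
        cases b <;> simp only [F, Bool.not_false, Bool.not_true, Bool.false_eq_true, if_false,
          if_true, mul_one, ← mul_assoc, hconj]
        rw [mul_assoc, hs, mul_one]
      have hgen' : ∀ y ∈ Set.range F, t * y ∈ Set.range F := by
        intro y hy
        obtain ⟨⟨⟨a, z, rfl⟩, b⟩, e⟩ := hgen y hy
        refine ⟨(⟨(s * t) ^ (z - 1), z - 1, rfl⟩, b), ?_⟩
        have ht' : t * y = (s * t) ^ (-1 : ℤ) * (s * y) := by
          rw [← mul_assoc, zpow_neg_one, mul_inv_rev, hsi, hti, mul_assoc t s s, hs, mul_one]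
        rw [ht', ← e]
        simp only [F, ← mul_assoc, ← zpow_add, sub_eq_neg_add]
      induction hx using Subgroup.closure_induction'' with
      | one => simp
      | mem x hx => rcases hx with rfl | rfl; exacts [hgen, hgen']
      | inv_mem x hx =>
        rcases hx with rfl | rfl
        · rw [hsi]; exact hgen
        · rw [hti]; exact hgen'
      | mul x y _ _ h1 h2 => intro w hw; rw [mul_assoc]; exact h1 _ (h2 w hw)
  rw [← SetLike.coe_sort_coe, ← hrange, Nat.card_range_of_injective hF, Nat.card_prod,
    Nat.card_zpowers, hord]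
  simp [mul_comm]
/-- For non-proportional roots α, β let n be the least integer n > 0 with (s_α s_β)^n(α) = α and (s_α
s_β)^n(β) = β. Then the subgroup W_{α,β} generated by s_α and s_β is presented by s_α² = s_β² = (s_α
s_β)^n = 1; equivalently it has exactly 2n elements. -/
theorem result {ι M N : Type*} [AddCommGroup M] [AddCommGroup N]
    (P : RootPairing ι ℤ M N) [Finite ι] (i j : ι) (hli : LinearIndependent ℤ ![P.root i, P.root j])
    (n : ℕ) (hn : IsLeast {m : ℕ | 0 < m ∧ ((Equiv.reflection P i * Equiv.reflection P j) ^ m) • i = i ∧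
      ((Equiv.reflection P i * Equiv.reflection P j) ^ m) • j = j} n) :
    Nat.card (Subgroup.closure ({Equiv.reflection P i, Equiv.reflection P j} : Set P.Aut)) = 2 * n := by
  classical
  have := RootDatum.isAddTorsionFree_left P
  set s := RootPairing.Equiv.reflection P i
  set t := RootPairing.Equiv.reflection P j
  obtain ⟨⟨hn0, hni, hnj⟩, hmin⟩ := hn
  have hD : P.pairing i j * P.pairing j i ≠ 4 :=
    (P.linearIndependent_iff_coxeterWeight_ne_four (i := i) (j := j)).mp hli
  have fixes : ∀ m : ℕ, ((s * t) ^ m) • i = i → ((s * t) ^ m) • j = j → (s * t) ^ m = 1 := by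
    intro m hi hj
    refine RootDatum.aut_ext P fun x => ?_
    set p := P.coroot' i x with hp
    set q := P.coroot' j x with hq
    set a := P.pairing i j
    set b := P.pairing j i
    set z := (4 - a * b) • x - ((2 * p - b * q) • P.root i + (2 * q - a * p) • P.root j) with hz
    have hzi : P.coroot' i z = 0 := by
      simp only [hz, map_sub, map_add, map_smul, P.root_coroot'_eq_pairing, P.pairing_same,
        smul_eq_mul, ← hp]
      ring
    have hzj : P.coroot' j z = 0 := by
      simp only [hz, map_sub, map_add, map_smul, P.root_coroot'_eq_pairing, P.pairing_same,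
        smul_eq_mul, ← hq]
      ring
    have hzfix : ∀ k : ℕ, ((s * t) ^ k) • z = z := by
      intro k
      induction k with
      | zero => simp
      | succ k ih =>
        rw [pow_succ, mul_smul, mul_smul, RootPairing.Equiv.reflection_smul,
          RootPairing.Equiv.reflection_smul, P.reflection_apply j, hzj, zero_smul, sub_zero,
          P.reflection_apply i, hzi, zero_smul, sub_zero, ih]
    have hx : (4 - a * b) • x = z + ((2 * p - b * q) • P.root i + (2 * q - a * p) • P.root j) := by
      rw [hz]; abel
    have : (4 - a * b) • (((s * t) ^ m) • x) = (4 - a * b) • x := by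
      rw [← RootDatum.smul_zsmul, hx, smul_add, hzfix, smul_add, RootDatum.smul_zsmul,
        RootDatum.smul_zsmul, ← RootDatum.root_smul, ← RootDatum.root_smul, hi, hj]
    rw [one_smul]
    exact smul_right_injective M (sub_ne_zero.mpr (Ne.symm hD)) this
  have horder : orderOf (s * t) = n := by
    rw [orderOf_eq_iff hn0]
    refine ⟨fixes n hni hnj, fun m hm hm0 e => ?_⟩
    have := hmin ⟨hm0, by rw [e, one_smul], by rw [e, one_smul]⟩
    omega
  have hs1 : s ≠ 1 := fun e => by
    have : P.root (s • i) = P.root i := by rw [e, one_smul]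
    rw [RootDatum.reflection_smul_index, RootDatum.root_neg] at this
    exact RootDatum.root_ne_neg_self P i this.symm
  have ht1 : t ≠ 1 := fun e => by
    have : P.root (t • j) = P.root j := by rw [e, one_smul]
    rw [RootDatum.reflection_smul_index, RootDatum.root_neg] at this
    exact RootDatum.root_ne_neg_self P j this.symm
  exact card_closure_pair s t (RootDatum.reflection_mul_self P i)
    (RootDatum.reflection_mul_self P j) hs1 ht1 n hn0 horder

end Groth.Agent.S5496
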