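import Groth.Statements.S5498
import Groth.Agent.RootDatum.Sat
import Groth.Agent.RootDatum.Forms
import Groth.Agent.S5487
import Groth.Agent.S5505
import Groth.Agent.S5506
-- import your own Groth.Agent.* helpers here

set_option autoImplicit false
open RootD

namespace Groth.Agent.S5498

/-- If R is irreducible then so is the dual datum R^v, and long(α)·long(α^v) (equivalently ℓ(α) ℓ(α^v))
is constant on the roots. -/
theorem result {ι M N : Type*} [AddCommGroup M] [AddCommGroup N]
    (P : RootPairing ι ℤ M N) [Finite ι] [Fintype ι] [Nonempty ι]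
    (hirr : ∀ R' : Set ι, RootD.IsClosedSub P R' → RootD.IsSymmSub P R' → RootD.IsClosedSub P R'ᶜ →
      RootD.IsSymmSub P R'ᶜ → R' = ∅ ∨ R' = Set.univ) :
    (∀ R' : Set ι, RootD.IsClosedSub P.flip R' → RootD.IsSymmSub P.flip R' → RootD.IsClosedSub P.flip R'ᶜ →
      RootD.IsSymmSub P.flip R'ᶜ → R' = ∅ ∨ R' = Set.univ) ∧
    ∀ i j : ι, P.RootForm (P.root i) (P.root i) * P.CorootForm (P.coroot i) (P.coroot i) =
      P.RootForm (P.root j) (P.root j) * P.CorootForm (P.coroot j) (P.coroot j) := by
  have hconn : ∀ i j : ι, Relation.ReflTransGen (fun a b : ι => ¬ P.IsOrthogonal a b) i j := by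
    intro i j
    obtain ⟨h1, h2, h3, h4⟩ := Groth.Agent.S5506.result P i
    have hC := (hirr _ h1 h2 h3 h4).resolve_left fun he =>
      Set.eq_empty_iff_forall_notMem.mp he i Relation.ReflTransGen.refl
    exact Set.eq_univ_iff_forall.mp hC j
  refine ⟨fun R' hc hs hc' hs' => ?_, fun i j => ?_⟩
  · rcases Set.eq_empty_or_nonempty R' with he | ⟨i, hi⟩
    · exact Or.inl he
    refine Or.inr (Set.eq_univ_of_forall fun j => ?_)
    induction hconn i j with
    | refl => exact hi
    | tail _ hab ih =>
      exact Groth.Agent.S5505.result P.flip R' hc hs hc' hs' _ _ ih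
        (fun h => hab ⟨h.2, h.1⟩)
  · induction hconn i j with
    | refl => rfl
    | tail _ hab ih => exact ih.trans (Groth.Agent.S5487.result P _ _ hab)

end Groth.Agent.S5498
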