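import Groth.Statements.S5499
import Groth.Agent.RootDatum.Misc
import Groth.Agent.S5465
-- import your own Groth.Agent.* helpers here

set_option autoImplicit false
open RootD

namespace Groth.Agent.S5499

/-- For an irreducible datum, where long(α) = ℓ(α)/ℓ(α₀) with ℓ(α₀) minimal: there is a unique
homomorphism u : Γ_0(R) → M^v with u(α) = long(α) α^v for every root α. -/
theorem result {ι M N : Type*} [AddCommGroup M] [AddCommGroup N]
    (P : RootPairing ι ℤ M N) [Finite ι] [Fintype ι]
    (hirr : ∀ R' : Set ι, RootD.IsClosedSub P R' → RootD.IsSymmSub P R' → RootD.IsClosedSub P R'ᶜ →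
      RootD.IsSymmSub P R'ᶜ → R' = ∅ ∨ R' = Set.univ)
    (i₀ : ι) (hmin : ∀ i : ι, P.RootForm (P.root i₀) (P.root i₀) ≤ P.RootForm (P.root i) (P.root i)) :
    ∃! u : Submodule.span ℤ (Set.range P.root) →+ N, ∀ i : ι,
      u ⟨P.root i, Submodule.subset_span (Set.mem_range_self i)⟩ =
        (P.RootForm (P.root i) (P.root i) / P.RootForm (P.root i₀) (P.root i₀)) • P.coroot i := by
  classical
  have := RootDatum.isAddTorsionFree_right P
  simp only [RootDatum.rootForm_self_int] at *
  have h0 := RootDatum.len_pos P i₀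
  have hdvd : ∀ i, RootDatum.len P i₀ ∣ RootDatum.len P i := by
    intro i
    obtain ⟨g, -, hg⟩ := RootDatum.exists_conj_pairing_ne_zero P
      (RootDatum.connected_of_irreducible P hirr i i₀)
    rw [← RootDatum.len_smul P g i]
    have hm' := hmin (g • i)
    generalize g • i = a at hg hm' ⊢
    have e := RootDatum.pairingIn_mul_len P a i₀
    have hm := P.pairingIn_pairingIn_mem_set_of_isCrystallographic a i₀
    simp only [RootDatum.pairingIn_int, Set.mem_insert_iff, Set.mem_singleton_iff,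
      Prod.mk.injEq] at hm e
    rcases hm with ⟨x, y⟩ | ⟨x, y⟩ | ⟨x, y⟩ | ⟨x, y⟩ | ⟨x, y⟩ | ⟨x, y⟩ | ⟨x, y⟩ | ⟨x, y⟩ |
      ⟨x, y⟩ | ⟨x, y⟩ | ⟨x, y⟩ | ⟨x, y⟩ | ⟨x, y⟩ | ⟨x, y⟩ | ⟨x, y⟩ | ⟨x, y⟩ | ⟨x, y⟩ <;>
      rw [x, y] at e <;>
      (have : RootDatum.len P a = RootDatum.len P i₀ ∨ RootDatum.len P a = 2 * RootDatum.len P i₀ ∨
        RootDatum.len P a = 3 * RootDatum.len P i₀ ∨ RootDatum.len P a = 4 * RootDatum.len P i₀ := by
        omega
       rcases this with h | h | h | h <;> simp [h])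
  have hf : ∀ i, RootDatum.len P i₀ •
      ((RootDatum.len P i / RootDatum.len P i₀) • P.coroot i) =
      (2 : ℕ) • P.Polarization (P.root i) := fun i => by
    rw [smul_smul, Int.mul_ediv_cancel' (hdvd i), RootDatum.len_smul_coroot_eq]
  exact Groth.Agent.S5465.result P
    (fun i => (RootDatum.len P i / RootDatum.len P i₀) • P.coroot i)
    (fun i => smul_right_injective N h0.ne' (by
      simp only [smul_neg, hf, RootDatum.root_neg, map_neg]))
    fun i j k e => smul_right_injective N h0.ne' (by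
      simp only [smul_add, hf, e, map_add])

end Groth.Agent.S5499
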