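import Groth.Statements.S5500
import Groth.Agent.RootDatum.Misc
-- import your own Groth.Agent.* helpers here

set_option autoImplicit false
open RootD

namespace Groth.Agent.S5500

/-- For a p-morphism between irreducible reduced root data there is a rational constant k with k ·
long(u(α)) = q(α)² · long(α) for every root α; stated as the proportionality q(α)² ℓ(α) ℓ'(u β) =
q(β)² ℓ(β) ℓ'(u α) of the canonical quadratic forms. -/
theorem result {ι M N ι' M' N' : Type*} [AddCommGroup M] [AddCommGroup N] [AddCommGroup M'] [AddCommGroup N']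
    (P : RootPairing ι ℤ M N) (P' : RootPairing ι' ℤ M' N') [Finite ι] [Finite ι'] [Fintype ι] [Fintype ι'] [P.IsReduced] [P'.IsReduced]
    (hirr : ∀ R₁ : Set ι, RootD.IsClosedSub P R₁ → RootD.IsSymmSub P R₁ → RootD.IsClosedSub P R₁ᶜ →
      RootD.IsSymmSub P R₁ᶜ → R₁ = ∅ ∨ R₁ = Set.univ)
    (hirr' : ∀ R₁ : Set ι', RootD.IsClosedSub P' R₁ → RootD.IsSymmSub P' R₁ → RootD.IsClosedSub P' R₁ᶜ →
      RootD.IsSymmSub P' R₁ᶜ → R₁ = ∅ ∨ R₁ = Set.univ)
    (p : ℕ) (hp : 0 < p) (f : M' →ₗ[ℤ] M) (g : N →ₗ[ℤ] N')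
    (hfg : ∀ (m' : M') (n : N), P.toLinearMap (f m') n = P'.toLinearMap m' (g n))
    (u : ι ≃ ι') (q : ι → ℕ) (hq : ∀ i, ∃ e : ℕ, q i = p ^ e)
    (hroot : ∀ i : ι, f (P'.root (u i)) = (q i : ℤ) • P.root i)
    (hcoroot : ∀ i : ι, g (P.coroot i) = (q i : ℤ) • P'.coroot (u i)) (i j : ι) :
    ((q i : ℤ) ^ 2 * P.RootForm (P.root i) (P.root i)) * P'.RootForm (P'.root (u j)) (P'.root (u j)) =
      ((q j : ℤ) ^ 2 * P.RootForm (P.root j) (P.root j)) * P'.RootForm (P'.root (u i)) (P'.root (u i)) := by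
  classical
  simp only [RootDatum.rootForm_self_int]
  have hq0 : ∀ i, (0 : ℤ) < q i := fun i => by
    obtain ⟨e, he⟩ := hq i
    exact_mod_cast he ▸ pow_pos hp e
  have hpair : ∀ i j, (q i : ℤ) * P.pairing i j = q j * P'.pairing (u i) (u j) := fun i j => by
    have h := hfg (P'.root (u i)) (P.coroot j)
    rw [hroot, hcoroot] at h
    simpa using h
  have hP := RootDatum.connected_of_irreducible P hirr i j
  induction hP with
  | refl => rfl
  | @tail a b _ hab ih =>
    have e1 := RootDatum.pairingIn_mul_len P a b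
    have e2 := RootDatum.pairingIn_mul_len P' (u a) (u b)
    simp only [RootDatum.pairingIn_int] at e1 e2
    have hne : P.pairing b a ≠ 0 := fun h => hab ⟨(P.pairing_eq_zero_iff').mp h, h⟩
    have hne' : P.pairing a b ≠ 0 := fun h => hab ⟨h, (P.pairing_eq_zero_iff').mp h⟩
    have hne'' : P'.pairing (u a) (u b) ≠ 0 := fun h => by
      have := hpair a b
      rw [h, mul_zero] at this
      exact hne' ((mul_eq_zero.mp this).resolve_left (hq0 a).ne')
    have edge : (q a : ℤ) ^ 2 * RootDatum.len P a * RootDatum.len P' (u b) =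
        (q b : ℤ) ^ 2 * RootDatum.len P b * RootDatum.len P' (u a) := by
      refine mul_left_cancel₀ (mul_ne_zero hne hne'') ?_
      have p1 := hpair a b
      have p2 := hpair b a
      linear_combination (q a : ℤ) ^ 2 * P'.pairing (u a) (u b) * RootDatum.len P' (u b) * e1 -
        (q a : ℤ) ^ 2 * P.pairing a b * RootDatum.len P b * e2 +
        (q a : ℤ) * P'.pairing (u b) (u a) * RootDatum.len P b * RootDatum.len P' (u a) * p1 -
        (q b : ℤ) * P'.pairing (u a) (u b) * RootDatum.len P b * RootDatum.len P' (u a) * p2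
    have hA := RootDatum.len_pos P a
    have hA' := RootDatum.len_pos P' (u a)
    have hqa := pow_pos (hq0 a) 2
    refine mul_left_cancel₀ (mul_pos (mul_pos hqa hA) hA').ne' ?_
    linear_combination (q a : ℤ) ^ 2 * RootDatum.len P a * RootDatum.len P' (u b) * ih +
      (q a : ℤ) ^ 2 * RootDatum.len P a * RootDatum.len P' (u i) * edge

end Groth.Agent.S5500
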