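import Groth.Statements.S5501
import Groth.Agent.RootDatum.Misc
import Mathlib.GroupTheory.FiniteAbelian.Basic
-- import your own Groth.Agent.* helpers here

set_option autoImplicit false
universe u v w
open RootD

namespace Groth.Agent.S5501

/-- Adjoint case; the simply connected case is dual: a semisimple root datum R is adjoint if and only if
every isogeny R' → R is an isomorphism. -/
theorem result {ι : Type u} {M : Type v} {N : Type w} [AddCommGroup M] [AddCommGroup N]
    (P : RootPairing ι ℤ M N) [Finite ι] [Module.Finite ℤ M] [Module.Finite ℤ N]
    (hss : Module.finrank ℤ (Submodule.span ℤ (Set.range P.root)) = Module.finrank ℤ M) :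
    Submodule.span ℤ (Set.range P.root) = ⊤ ↔
      ∀ (ι' : Type u) (M' N' : Type v) [AddCommGroup M'] [AddCommGroup N'] [Finite ι']
        [Module.Finite ℤ M'] [Module.Finite ℤ N'] (P' : RootPairing ι' ℤ M' N') (f : RootPairing.Hom P' P),
        Function.Injective f.weightMap → Finite (M ⧸ LinearMap.range f.weightMap) →
          Function.Bijective f.weightMap := by
  constructor
  · intro had ι' M' N' _ _ _ _ _ P' f hinj _
    refine ⟨hinj, LinearMap.range_eq_top.mp (top_le_iff.mp ?_)⟩
    rw [← had, Submodule.span_le]
    rintro _ ⟨i, rfl⟩
    exact ⟨P'.root (f.indexEquiv.symm i), by simpa using congrFun f.root_weightMap (f.indexEquiv.symm i)⟩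
  · intro h
    classical
    cases nonempty_fintype ι
    have := RootDatum.isAddTorsionFree_left P
    have : Module.IsTorsionFree ℤ M := inferInstance
    have : Module.Free ℤ M := inferInstance
    set S := Submodule.span ℤ (Set.range P.root) with hS
    have hmem : ∀ i, P.root i ∈ S := fun i => Submodule.subset_span (Set.mem_range_self i)
    let P' : RootPairing ι ℤ ↥S (Module.Dual ℤ ↥S) :=
      { toLinearMap := Module.Dual.eval ℤ ↥S
        isPerfPair_toLinearMap := inferInstance
        root := ⟨fun i => ⟨P.root i, hmem i⟩, fun a c e => P.root.injective (congrArg Subtype.val e)⟩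
        coroot := ⟨fun i => (P.coroot' i).comp S.subtype, fun a c e => by
          have h0 : P.coroot a - P.coroot c = 0 := by
            refine RootDatum.eq_zero_of_mem_span_of_coroot' P.flip
              (sub_mem (Submodule.subset_span ⟨a, rfl⟩) (Submodule.subset_span ⟨c, rfl⟩)) fun l => ?_
            have := DFunLike.congr_fun e ⟨P.root l, hmem l⟩
            show P.root' l (P.coroot a - P.coroot c) = 0
            rw [map_sub, sub_eq_zero]
            exact this
          exact P.coroot.injective (sub_eq_zero.mp h0)⟩
        root_coroot_two := fun i => by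
          show P.toLinearMap (P.root i) (P.coroot i) = 2
          exact P.root_coroot_two i
        reflectionPerm := P.reflectionPerm
        reflectionPerm_root := fun i j => Subtype.ext (P.reflectionPerm_root i j)
        reflectionPerm_coroot := fun i j => LinearMap.ext fun x => by
          show P.coroot' j x - P.root' i (P.coroot j) • P.coroot' i x = P.coroot' (P.reflectionPerm i j) x
          have := congrArg (fun n : N => P.toLinearMap (x : M) n) (P.reflectionPerm_coroot i j)
          simpa using this }
    let f : RootPairing.Hom P' P :=
      { weightMap := S.subtype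
        coweightMap := S.subtype.dualMap ∘ₗ P.flip.toPerfPair.toLinearMap
        indexEquiv := Equiv.refl ι
        weight_coweight_transpose := by
          refine LinearMap.ext fun n => LinearMap.ext fun x => ?_
          rfl
        root_weightMap := rfl
        coroot_coweightMap := rfl }
    have hfin : Finite (M ⧸ LinearMap.range f.weightMap) := by
      have hr : LinearMap.range f.weightMap = S := S.range_subtype
      rw [hr]
      refine Module.finite_of_fg_torsion _ fun q => ?_
      obtain ⟨x, rfl⟩ := Submodule.Quotient.mk_surjective _ q
      obtain ⟨n, hn, hx⟩ := RootDatum.exists_smul_mem_of_finrank_eq hss x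
      refine ⟨⟨(n : ℤ), mem_nonZeroDivisors_of_ne_zero (by omega)⟩, ?_⟩
      show (n : ℤ) • (Submodule.Quotient.mk x : M ⧸ S) = 0
      rw [← Submodule.Quotient.mk_smul, Submodule.Quotient.mk_eq_zero, natCast_zsmul]
      exact hx
    have hb := (h ι ↥S (Module.Dual ℤ ↥S) P' f (Submodule.injective_subtype S) hfin).2
    refine Submodule.eq_top_iff'.mpr fun x => ?_
    obtain ⟨y, hy⟩ := hb x
    exact hy ▸ y.2

end Groth.Agent.S5501
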