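import Groth.Statements.S5502
import Groth.Agent.RootDatum.Misc
import Groth.Agent.RootDatum.Dominant
import Groth.Agent.S5485
-- import your own Groth.Agent.* helpers here

set_option autoImplicit false
open RootD

namespace Groth.Agent.S5502

/-- If β = Σ_{α ∈ Δ} a_α α along a system of simple roots Δ, then ℓ(β) divides 2 a_α ℓ(α), and 2ℓ(β)
divides it when α^v is indivisible (ℓ the canonical quadratic form). -/
theorem result {ι M N : Type*} [AddCommGroup M] [AddCommGroup N]
    (P : RootPairing ι ℤ M N) [Finite ι] [Fintype ι] (Δ : Set ι) (hΔ : RootD.IsSimpleSys P Δ)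
    (k : ι) (c : ι →₀ ℤ) (hc : ↑c.support ⊆ Δ) (hck : Finsupp.linearCombination ℤ P.root c = P.root k)
    (i : ι) (hi : i ∈ Δ) :
    P.RootForm (P.root k) (P.root k) ∣ 2 * c i * P.RootForm (P.root i) (P.root i) ∧
      (RootD.IsIndiv P.flip i → 2 * P.RootForm (P.root k) (P.root k) ∣ 2 * c i * P.RootForm (P.root i) (P.root i)) := by
  classical
  have := RootDatum.isAddTorsionFree_left P
  have := RootDatum.isAddTorsionFree_right P
  simp only [RootDatum.rootForm_self_int]
  set T : Set ι := {j : ι | ∃ i ∈ Δ, (j = i ∧ RootD.IsIndiv P.flip i) ∨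
      (2 : ℤ) • P.coroot j = P.coroot i} with hT
  have hs := RootDatum.isSimple_of_isSimpleSys P hΔ
  have hFT : RootDatum.IsSimple P.flip T :=
    RootDatum.isSimple_of_isSimpleSys P.flip (Groth.Agent.S5485.result P Δ hΔ)
  have hrep : ∀ δ ∈ Δ, ∃ (t : ι) (m : ℤ), t ∈ T ∧ P.coroot δ = m • P.coroot t ∧
      (m = 1 ∨ m = 2) ∧ (RootD.IsIndiv P.flip δ → m = 1) := by
    intro δ hδ
    by_cases h : RootD.IsIndiv P.flip δ
    · exact ⟨δ, 1, ⟨δ, hδ, Or.inl ⟨rfl, h⟩⟩, (one_smul _ _).symm, Or.inl rfl, fun _ => rfl⟩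
    · simp only [RootD.IsIndiv, not_forall, not_not] at h
      obtain ⟨t, ht⟩ := h
      exact ⟨t, 2, ⟨δ, hδ, Or.inr ht⟩, ht.symm, Or.inr rfl,
        fun hf => absurd ht (hf t)⟩
  choose t m ht hm hm12 hm1 using hrep
  have hroot : ∀ δ (hδ : δ ∈ Δ), P.root (t δ hδ) = m δ hδ • P.root δ := fun δ hδ =>
    RootPairing.coroot_eq_smul_coroot_iff.mp (hm δ hδ)
  have hce : c = hs.coeff k := (hs.coeff_eq hc hck).symm
  let F : ι → (ι →₀ ℤ) := fun δ =>
    if hδ : δ ∈ Δ then Finsupp.single (t δ hδ) (m δ hδ) else 0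
  set D : ι →₀ ℤ := c.sum fun δ a => (a * RootDatum.len P δ) • F δ with hD
  have hDT : D ∈ Finsupp.supported ℤ ℤ T := by
    refine Submodule.sum_mem _ fun δ _ => Submodule.smul_mem _ _ ?_
    by_cases hδ : δ ∈ Δ
    · simp only [F, dif_pos hδ]
      exact Finsupp.single_mem_supported ℤ _ (ht δ hδ)
    · simp [F, dif_neg hδ]
  have hlcF : ∀ δ ∈ c.support, Finsupp.linearCombination ℤ P.flip.root (F δ) = P.coroot δ := by
    intro δ hδ
    simp only [F, dif_pos (hc hδ), Finsupp.linearCombination_single]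
    exact (hm δ (hc hδ)).symm
  have heq : RootDatum.len P k • hFT.coeff k = D := by
    refine hFT.lc_inj ((Finset.coe_subset.mpr Finsupp.support_smul).trans (hFT.coeff_support k))
      ((Finsupp.mem_supported ℤ _).mp hDT) ?_
    rw [map_smul, hFT.lc_coeff, hD, Finsupp.sum, map_sum]
    show RootDatum.len P k • P.coroot k = _
    rw [RootDatum.len_smul_coroot P hck, Finsupp.sum]
    refine Finset.sum_congr rfl fun δ hδ => ?_
    rw [map_smul, hlcF δ hδ]
  have hval : D (t i hi) = c i * RootDatum.len P i * m i hi := by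
    rw [hD, Finsupp.sum, Finsupp.finsetSum_apply]
    rw [Finset.sum_eq_single i ?_ ?_]
    · simp [F, dif_pos hi]
    · intro δ hδ hne
      simp only [F, dif_pos (hc hδ), Finsupp.smul_apply, smul_eq_mul]
      rw [Finsupp.single_eq_of_ne, mul_zero]
      intro e
      have he := hroot δ (hc hδ)
      rw [← e, hroot i hi] at he
      have h1 := hs.lc_inj (c := m i hi • Finsupp.single i 1) (d := m δ (hc hδ) • Finsupp.single δ 1)
        ((Finsupp.mem_supported ℤ _).mp (Submodule.smul_mem _ _ (Finsupp.single_mem_supported ℤ _ hi)))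
        ((Finsupp.mem_supported ℤ _).mp (Submodule.smul_mem _ _ (Finsupp.single_mem_supported ℤ _ (hc hδ))))
        (by simpa using he)
      have h2 := DFunLike.congr_fun h1 i
      simp [hne.symm] at h2
      rcases hm12 i hi with h | h <;> omega
    · intro hni
      rw [Finsupp.notMem_support_iff.mp hni]; simp
  rw [← heq, Finsupp.smul_apply, smul_eq_mul] at hval
  refine ⟨?_, fun hfi => ?_⟩
  · rcases hm12 i hi with h | h <;> rw [h] at hval
    · exact ⟨2 * hFT.coeff k (t i hi), by linarith⟩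
    · exact ⟨hFT.coeff k (t i hi), by linarith⟩
  · rw [hm1 i hi hfi] at hval
    exact ⟨hFT.coeff k (t i hi), by linarith⟩

end Groth.Agent.S5502
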