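import Groth.Statements.S5512
import Groth.Agent.S3901
import Groth.Agent.Borel50.BaseChange
import Groth.Agent.Borel50.Conj
import Groth.Agent.AbSch51.TorusToProper
import Groth.Agent.GrpdLib.MonoClosedField

set_option autoImplicit false
open CategoryTheory MonoidalCategory CartesianMonoidalCategory MonObj GrpObj AlgebraicGeometry
universe u
open RedSub

namespace Groth.Agent.S5512

open CategoryTheory MonoidalCategory CartesianMonoidalCategory MonObj GrpObj AlgebraicGeometry Limits

namespace Aux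

open Borel50

variable {L : Type u} [Field L] [IsAlgClosed L]
variable {G H T T₀ : Over (Spec (CommRingCat.of L))} [GrpObj G] [GrpObj H] [GrpObj T] [GrpObj T₀]

omit [IsAlgClosed L] in
lemma maxTorus_of_comp (i : H ⟶ G) [IsMonHom i] [Mono i] (t : T ⟶ H) [IsMonHom t]
    (h : AGF.IsMaxTorus (t ≫ i)) : AGF.IsMaxTorus t := by
  obtain ⟨-, hm, hT, hmax⟩ := h
  refine ⟨‹_›, mono_of_mono t i, hT, fun T' _ j _ _ f hT' hf => ?_⟩
  exact hmax T' (j ≫ i) f hT' (by rw [reassoc_of% hf])

lemma maxTorus_comp [IsAffine H.left] [Smooth H.hom] [ConnectedSpace H.left]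
    (i : H ⟶ G) [IsMonHom i] [Mono i] (t : T ⟶ H) (t₀ : T₀ ⟶ H)
    (ht : AGF.IsMaxTorus t) (ht₀' : IsMonHom t₀) (ht₀ : AGF.IsMaxTorus (t₀ ≫ i)) :
    AGF.IsMaxTorus (t ≫ i) := by
  obtain ⟨g, e, he⟩ := S3901.result L H T T₀ t t₀ ht (maxTorus_of_comp i t₀ ht₀)
  have := ht.1
  have := ht.2.1
  refine ⟨inferInstance, mono_comp t i, ht.2.2.1, fun T' _ j _ _ f hT' hf => ?_⟩
  have := Borel50.Conj.isMonHom_conjBy (g ≫ i) j
  have : Mono (AGF.conjBy (g ≫ i) j) := by
    rw [Borel50.Conj.conjBy_eq]; exact mono_comp _ _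
  have key : (e.inv ≫ f) ≫ AGF.conjBy (g ≫ i) j = t₀ ≫ i := by
    rw [Borel50.Conj.comp_conjBy, Category.assoc, hf]
    have : AGF.conjBy g t ≫ i = AGF.conjBy (g ≫ i) (t ≫ i) := by
      simp [AGF.conjBy, MonObj.mul_comp, GrpObj.inv_comp]
    have h1 : e.hom ≫ t₀ ≫ i = AGF.conjBy (g ≫ i) (t ≫ i) := by rw [reassoc_of% he, this]
    rw [← Borel50.Conj.comp_conjBy, ← h1, Iso.inv_hom_id_assoc]
  have := ht₀.2.2.2 T' (AGF.conjBy (g ≫ i) j) (e.inv ≫ f) hT' key
  exact IsIso.of_isIso_comp_left e.inv f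

end Aux

namespace Fib

variable {S : Scheme.{u}} {T G : Over S} [GrpObj T] [GrpObj G]

lemma atPt (i : T ⟶ G) (h : Red.IsMaximalTorus i) (s : S) :
    AGF.IsMaxTorus ((Over.pullback (Red.geomPt s)).map i) := by
  obtain ⟨_, _, hT, hmax⟩ := h
  exact ⟨inferInstance, inferInstance, AbSch51.TorusToProper.isTorus_bc _ hT, fun T' _ j _ _ f hT' hf => hmax s T' j f hT' hf⟩

lemma ofPt (i : T ⟶ G) [IsMonHom i] [Mono i] (hT : Red.IsTorus T)
    (h : ∀ s : S, AGF.IsMaxTorus ((Over.pullback (Red.geomPt s)).map i)) : Red.IsMaximalTorus i :=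
  ⟨‹_›, ‹_›, hT, fun s T' _ j _ _ f hT' hf => (h s).2.2.2 T' j f hT' hf⟩

lemma connected_bc (X : Over S) [GrpObj X] [LocallyOfFiniteType X.hom] (s : S) [ConnectedSpace (Red.bc (S.fromSpecResidueField s) X).left] :
    ConnectedSpace (Red.geomFibre s X).left := by
  have : LocallyOfFiniteType (Red.bc (S.fromSpecResidueField s) X).hom :=
    inferInstanceAs (LocallyOfFiniteType (pullback.snd _ _))
  let g := Spec.map (CommRingCat.ofHom (algebraMap (S.residueField s) (AlgebraicClosure (S.residueField s))))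
  have hc : ConnectedSpace ↥(pullback (pullback.snd X.hom (S.fromSpecResidueField s)) g) :=
    Borel50.BaseChange.connectedSpace_bc g (Red.bc (S.fromSpecResidueField s) X)
  let e := pullbackLeftPullbackSndIso X.hom (S.fromSpecResidueField s) g
  exact e.hom.surjective.connectedSpace e.hom.continuous

lemma affine_smooth (G H : Over S) [GrpObj G] [GrpObj H] (s : S) (i : H ⟶ G) [IsMonHom i] [Mono i]
    [IsAffine (Red.geomFibre s G).left] [Smooth G.hom] [Smooth H.hom] [QuasiCompact H.hom] :
    IsAffine (Red.geomFibre s H).left ∧ Smooth (Red.geomFibre s H).hom := by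
  have hs : Smooth (Red.geomFibre s H).hom := inferInstanceAs (Smooth (pullback.snd _ _))
  have : Smooth (Red.geomFibre s G).hom := inferInstanceAs (Smooth (pullback.snd _ _))
  have : QuasiCompact (Red.geomFibre s H).hom := inferInstanceAs (QuasiCompact (pullback.snd _ _))
  have : IsClosedImmersion ((Over.pullback (Red.geomPt s)).map i).left :=
    GrpdLib.MonoClosedField.isClosedImmersion (Red.geomFibre s G) (Red.geomFibre s H) _
  exact ⟨isAffine_of_isAffineHom ((Over.pullback (Red.geomPt s)).map i).left, hs⟩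

end Fib

/-- For a reductive S-group G. Let i : H ⟶ G be a subgroup of type (R) and k : K ⟶ H a homomorphism.
Then k is a subgroup of type (R) of H if and only if k ≫ i is a subgroup of type (R) of G. (For H of
type (R) in a reductive G, the Cartan subgroups of the geometric fibres of H are their maximal tori,
which are maximal tori of the geometric fibres of G, so the prelude's notion of type (R) relative to
H is the source's.) -/
theorem result {S : Scheme.{u}} {G H K : Over S} [GrpObj G] [GrpObj H] [GrpObj K]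
    (hG : Red.IsReductive G) (i : H ⟶ G) (hH : RedSub.IsTypeR i) (k : K ⟶ H) [IsMonHom k] :
    RedSub.IsTypeR k ↔ RedSub.IsTypeR (k ≫ i) := by
  obtain ⟨⟨hmi, hii⟩, hHs, hHq, hHc, hHT⟩ := hH
  have := hii
  have : Mono i := Over.mono_of_mono_left i
  constructor
  · rintro ⟨⟨-, hik⟩, hs, hq, hc, hT⟩
    have := hik
    refine ⟨⟨inferInstance, by rw [Over.comp_left]; infer_instance⟩, hs, hq, hc, fun s => ?_⟩
    obtain ⟨T, _, t, hmt, htmax⟩ := hT s
    obtain ⟨T₀, _, t₀, hmt₀, ht₀⟩ := hHT s
    have := hmt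
    have := hmt₀
    obtain ⟨-, hGs, hGf⟩ := hG
    have := (hGf s).1
    obtain ⟨hHa, hHsm⟩ := Fib.affine_smooth G H s i
    have : ConnectedSpace ↥(Red.bc (S.fromSpecResidueField s) H).left := by
      have h1 : ConnectedSpace ↥(H.hom ⁻¹' {s}) := isConnected_iff_connectedSpace.1 (hHc s)
      exact (H.hom.fiberHomeo s).symm.surjective.connectedSpace (H.hom.fiberHomeo s).symm.continuous
    have : LocallyOfFiniteType H.hom := inferInstance
    have hHcon := Fib.connected_bc H s
    have := htmax.2.1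
    refine ⟨T, inferInstance, t, hmt, ?_⟩
    rw [Functor.map_comp, ← Category.assoc]
    have : IsMonHom ((t ≫ (Over.pullback (Red.geomPt s)).map k) ≫ (Over.pullback (Red.geomPt s)).map i) := inferInstance
    have : Mono ((t ≫ (Over.pullback (Red.geomPt s)).map k) ≫ (Over.pullback (Red.geomPt s)).map i) := mono_comp _ _
    refine Fib.ofPt _ htmax.2.2.1 fun q => ?_
    have h₀ := Fib.atPt _ ht₀ q
    rw [Functor.map_comp] at h₀
    rw [Functor.map_comp]
    have : IsAffine (Red.geomFibre q (Red.geomFibre s H)).left := Borel50.BaseChange.isAffine_bc _ _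
    have : Smooth (Red.geomFibre q (Red.geomFibre s H)).hom := inferInstanceAs (Smooth (pullback.snd _ _))
    have : ConnectedSpace (Red.geomFibre q (Red.geomFibre s H)).left := Borel50.BaseChange.connectedSpace_bc _ _
    exact Aux.maxTorus_comp _ _ _ (Fib.atPt _ htmax q) inferInstance h₀
  · rintro ⟨⟨-, hik⟩, hs, hq, hc, hT⟩
    have : IsImmersion (k.left ≫ i.left) := by rwa [← Over.comp_left]
    refine ⟨⟨inferInstance, IsImmersion.of_comp k.left i.left⟩, hs, hq, hc, fun s => ?_⟩
    obtain ⟨T, _, t, hmt, htmax⟩ := hT s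
    have := hmt
    rw [Functor.map_comp, ← Category.assoc] at htmax
    have := htmax.2.1
    have : Mono (t ≫ (Over.pullback (Red.geomPt s)).map k) := mono_of_mono _ ((Over.pullback (Red.geomPt s)).map i)
    refine ⟨T, inferInstance, t, hmt, Fib.ofPt _ htmax.2.2.1 fun q => ?_⟩
    have h := Fib.atPt _ htmax q
    rw [Functor.map_comp] at h
    exact Aux.maxTorus_of_comp _ _ h

end Groth.Agent.S5512
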