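import Groth.Statements.S5550
import Groth.Agent.Borel50.Luna.Apps
import Groth.Agent.Borel50.Luna.Apps2
import Groth.Agent.S5247
-- import your own Groth.Agent.* helpers here

set_option autoImplicit false
open CategoryTheory MonoidalCategory CartesianMonoidalCategory MonObj GrpObj AlgebraicGeometry
universe u
open RedSub

namespace Groth.Agent.S5550

open CategoryTheory.Limits Groth.Agent.Borel50 Groth.Agent.Borel50.Pts Groth.Agent.Borel50.Lin Groth.Agent.Borel50.Density
open Groth.Agent.Borel50.Luna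

attribute [local instance] ptTop

variable {K : Type u} [Field K] [IsAlgClosed K] {G T Q C : Over (Spec (CommRingCat.of K))} [GrpObj G] [GrpObj T] [GrpObj Q]
  [GrpObj C]

/-- A maximal torus of a reductive group over an algebraically closed field is geometrically maximal. -/
theorem isMaximalTorus_of_isMaxTorus (hG : Red.IsReductiveOver K G) (iT : T ⟶ G) (hT : AGF.IsMaxTorus iT) :
    Red.IsMaximalTorus iT := by
  obtain ⟨_, _, _, -⟩ := id hG
  have := hT.1
  have := hT.2.1
  have : IsAffineHom G.hom := isAffineHom_of_isAffine _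
  have := FixedPt.qc_G G
  have := GrpScheme.HomFlat.isReduced_of_smooth G.hom
  obtain ⟨Z, _, j, hj, hjc, hjs⟩ := Groth.Agent.S5247.result T G (DiagRig.multTypeFT_of_torus hT.2.2.1) ‹_› ‹_› iT
  have := hj.1
  have := hj.2.1
  have := hjc
  have := hjs
  have hr := Centralizer.range_eq_centralizer iT hT.2.2.1 j hj
  have hself := centralizer_eq_self hG iT hT
  rw [← hr] at hself
  obtain ⟨_, _, _, _, -, -⟩ := TorusSch.torus_facts hT.2.2.1
  have := GrpScheme.HomFlat.isReduced_of_smooth T.hom
  have := GrpScheme.HomFlat.isReduced_of_smooth Z.hom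
  have := Torus.isClosedImmersion_of_torus iT hT.2.2.1
  obtain ⟨a, ha⟩ := Pts.factor_of_points j iT fun w => by
    obtain ⟨z, hz⟩ := hself.le (show w ≫ j ∈ _ from ⟨w, rfl⟩)
    exact mem_range_of_factor hz
  obtain ⟨b, hb⟩ := Pts.factor_of_points iT j fun w => by
    obtain ⟨z, hz⟩ := hself.ge (show w ≫ iT ∈ _ from ⟨w, rfl⟩)
    exact mem_range_of_factor hz
  refine Apps.isMaximalTorus_of_self iT hT.2.2.1 ⟨inferInstance, inferInstance, fun X g => ?_⟩
  rw [← hj.2.2 X g]
  exact ⟨fun ⟨z, hz⟩ => ⟨z ≫ b, by rw [Category.assoc, hb, hz]⟩,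
    fun ⟨z, hz⟩ => ⟨z ≫ a, by rw [Category.assoc, ha, hz]⟩⟩

/-- The centraliser of a torus over an algebraically closed field. -/
theorem closed_facts (hG : Red.IsReductiveOver K G) (q : Q ⟶ G) [IsMonHom q] [Mono q] (hQ : Red.IsTorus Q)
    (c : C ⟶ G) [IsMonHom c] [IsClosedImmersion c.left] [Smooth C.hom] (hc : Red.IsCentralizerOf q c) :
    Red.IsReductiveOver K C ∧ ∃ (T : Over (Spec (CommRingCat.of K))) (_ : GrpObj T) (t : T ⟶ C),
      IsMonHom t ∧ Red.IsMaximalTorus (t ≫ c) := by
  obtain ⟨_, _, _, -⟩ := id hG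
  have := FixedPt.qc_G G
  have := GrpScheme.HomFlat.isReduced_of_smooth G.hom
  obtain ⟨N, ⟨Φ⟩⟩ := exists_rep (G := G)
  have hr := Centralizer.range_eq_centralizer q hQ c hc
  have hQt := Torus.isToral_range Φ q hQ
  have : ConnectedSpace C.left := GeomTorus.connectedSpace_of_range c (by
    rw [hr, Centralizer.centralizer_eq Φ hQt]
    exact Φ.isPreconnected_centralizerComp _)
  refine ⟨Apps2.isReductiveOver_centralizer hG q hQ c hr, ?_⟩
  obtain ⟨T, hT, hQT, hmax⟩ := hQt.exists_maximal
  obtain ⟨K', _, iK, _, hK, hKr⟩ := Apps2.exists_maxTorus Φ hT hmax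
  obtain ⟨_, _, _, _, -, -⟩ := TorusSch.torus_facts hK.2.2.1
  have := GrpScheme.HomFlat.isReduced_of_smooth K'.hom
  have : Mono c := Over.mono_of_mono_left c
  obtain ⟨t, ht⟩ := Pts.factor_of_points iK c fun w => by
    have hw : w ≫ iK ∈ (ptHom c).range := by
      rw [hr]
      exact Subgroup.mem_centralizer_iff.2 fun x hx => hT.commute (hQT hx) (hKr ▸ ⟨w, rfl⟩)
    obtain ⟨z, hz⟩ := hw
    exact mem_range_of_factor hz
  refine ⟨K', inferInstance, t, ?_, by rw [ht]; exact isMaximalTorus_of_isMaxTorus hG iK hK⟩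
  exact
    { one_hom := by rw [← cancel_mono c, Category.assoc, ht, IsMonHom.one_hom, IsMonHom.one_hom]
      mul_hom := by
        rw [← cancel_mono c, Category.assoc, Category.assoc, ht, IsMonHom.mul_hom, IsMonHom.mul_hom,
          MonoidalCategory.tensorHom_comp_tensorHom_assoc, ht] }

theorem range_geomPt {S : Scheme.{u}} (s : S) : Set.range (Red.geomPt s).base = {s} := by
  refine Set.Subset.antisymm ?_ ?_
  · rintro _ ⟨x, rfl⟩
    have hm : (Red.geomPt s).base x ∈ Set.range (S.fromSpecResidueField s).base := ⟨_, rfl⟩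
    rw [Scheme.range_fromSpecResidueField] at hm
    exact hm
  · intro x₀ hx₀
    rw [Set.mem_singleton_iff.1 hx₀]
    obtain ⟨x⟩ : Nonempty ↥(Spec (CommRingCat.of (AlgebraicClosure (S.residueField s)))) :=
      inferInstanceAs (Nonempty (PrimeSpectrum _))
    refine ⟨x, ?_⟩
    have hm : (Red.geomPt s).base x ∈ Set.range (S.fromSpecResidueField s).base := ⟨_, rfl⟩
    rw [Scheme.range_fromSpecResidueField] at hm
    exact hm


/-- First assertion. Let G be a reductive S-group and q : Q ⟶ G a subtorus. Then the centraliser of Q in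
G is representable by a subgroup of type (R) of G which is itself a reductive S-group. -/
theorem result {S : Scheme.{u}} {G Q : Over S} [GrpObj G] [GrpObj Q]
    (hG : Red.IsReductive G) (q : Q ⟶ G) [IsMonHom q] [Mono q] (hQ : Red.IsTorus Q) :
    ∃ (Z : Over S) (_ : GrpObj Z) (z : Z ⟶ G), Red.IsCentralizerOf q z ∧ RedSub.IsTypeR z ∧ Red.IsReductive Z := by
  obtain ⟨h1, h2, h3⟩ := hG
  obtain ⟨Z, _, z, hz, hzc, hzs⟩ := Groth.Agent.S5247.result Q G (DiagRig.multTypeFT_of_torus hQ) h2 h1 q
  have := hz.1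
  have := hz.2.1
  have := hzc
  have := hzs
  have := h1
  have : IsAffineHom Z.hom := by rw [← Over.w z]; infer_instance
  have key : ∀ s : S, Red.IsReductiveOver (AlgebraicClosure (S.residueField s)) (Red.geomFibre s Z) ∧
      ∃ (T : Over (Spec (CommRingCat.of (AlgebraicClosure (S.residueField s))))) (_ : GrpObj T)
        (t : T ⟶ Red.geomFibre s Z), IsMonHom t ∧ Red.IsMaximalTorus (t ≫ (Over.pullback (Red.geomPt s)).map z) := fun s => by
    have := DiagRig.isMonHom_bcMap (Red.geomPt s) q
    have := DiagRig.isMonHom_bcMap (Red.geomPt s) z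
    have : IsClosedImmersion ((Over.pullback (Red.geomPt s)).map z).left :=
      LimGrp.property_map @IsClosedImmersion (Red.geomPt s) z hzc
    have : Smooth (Red.geomFibre s Z).hom := inferInstanceAs (Smooth (pullback.snd Z.hom (Red.geomPt s)))
    exact closed_facts (h3 s) ((Over.pullback (Red.geomPt s)).map q)
      (AbSch51.TorusToProper.isTorus_bc (Red.geomPt s) hQ) ((Over.pullback (Red.geomPt s)).map z)
      (OverField.isCentralizerOf_bc (Red.geomPt s) q z hz)
  refine ⟨Z, inferInstance, z, hz, ⟨⟨hz.1, inferInstance⟩, hzs, inferInstance, fun s => ?_, fun s => (key s).2⟩,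
    inferInstance, hzs, fun s => (key s).1⟩
  have : ConnectedSpace ↥(Red.geomFibre s Z).left := (key s).1.2.2.1
  have e : Z.hom.base ⁻¹' ({s} : Set S) = Set.range (pullback.fst Z.hom (Red.geomPt s)).base := by
    rw [Scheme.Pullback.range_fst, range_geomPt]
  rw [e]
  have : ConnectedSpace ↥(pullback Z.hom (Red.geomPt s)) := ‹ConnectedSpace ↥(Red.geomFibre s Z).left›
  exact isConnected_range (pullback.fst Z.hom (Red.geomPt s)).continuous

end Groth.Agent.S5550
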