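import Groth.Statements.S5580
import Groth.Agent.TopFin.Coprod

set_option autoImplicit false
open CategoryTheory CategoryTheory.Limits Opposite
universe u
open ToposFin

namespace Groth.Agent.S5580

/-- Quasi-compact and coherent cases: for the topos of sheaves of sets on a small site: let (X_i) be a
finite family of objects with coproduct X (given as a colimit cofan) and f : X -> Y a morphism with
components f_i : X_i -> Y. Then f is quasi-compact (resp. coherent) if and only if every f_i is. -/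
theorem result {C : Type u} [SmallCategory C] {J : GrothendieckTopology C}
    {Y : ToposFin.Sh J} {n : ℕ} (X : Fin n → ToposFin.Sh J) (c : Cofan X) (hc : IsColimit c)
    (f : c.pt ⟶ Y) :
    (ToposFin.IsQCHom f ↔ ∀ i, ToposFin.IsQCHom (c.inj i ≫ f)) ∧
    (ToposFin.IsCohHom f ↔ ∀ i, ToposFin.IsCohHom (c.inj i ≫ f)) := by
  let c' : Cofan (fun k : ULift.{u} (Fin n) => X k.down) := Cofan.mk c.pt fun k => c.inj k.down
  let hc' : IsColimit c' := mkCofanColimit c' (fun s => Cofan.IsColimit.desc hc fun i => s.inj ⟨i⟩)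
    (fun s k => Cofan.IsColimit.fac hc _ k.down)
    (fun s m hm => Cofan.IsColimit.hom_ext hc _ _ fun i =>
      (hm ⟨i⟩).trans (Cofan.IsColimit.fac hc (fun i => s.inj ⟨i⟩) i).symm)
  have hqc : ToposFin.IsQCHom f ↔ ∀ i, ToposFin.IsQCHom (c.inj i ≫ f) :=
    ⟨fun h i => TopFin.QC.IsQCHom.comp (TopFin.Coprod.isQCHom_inj hc' ⟨i⟩) h,
      fun h => TopFin.QC.isQCHom_of_finite_cover f c.inj (fun _ _ _ h => Cofan.IsColimit.hom_ext hc _ _ h) h⟩
  exact ⟨hqc, fun h i => ⟨hqc.1 h.1 i, (TopFin.Coprod.isQSHom_iff_inj hc' f).1 h.2 ⟨i⟩⟩,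
    fun h => ⟨hqc.2 fun i => (h i).1, (TopFin.Coprod.isQSHom_iff_inj hc' f).2 fun k => (h k.down).2⟩⟩

end Groth.Agent.S5580
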