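import Groth.Statements.S5582
import Groth.Agent.TopFin.Presentable

set_option autoImplicit false
open CategoryTheory CategoryTheory.Limits Opposite
universe u
open ToposFin

namespace Groth.Agent.S5582

/-- Equivalence of (i), (ii bis) and (iii), for the topos of sheaves of sets on a small site admitting a
generating family of coherent objects: the coequalizer of every pair of arrows between coherent
objects is coherent if and only if every object X for which Hom(X, -) commutes with small filtered
colimits is coherent; and every object is a small filtered colimit of coherent objects if and only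
if that same condition holds. -/
theorem result {C : Type u} [SmallCategory C]
    {J : GrothendieckTopology C} (hE : ToposFin.HasCoherentGenerators J) :
    ((∀ (X₀ X₁ : ToposFin.Sh J) (a b : X₁ ⟶ X₀), ToposFin.IsCoherent X₀ → ToposFin.IsCoherent X₁ →
        ToposFin.IsCoherent (coequalizer a b)) ↔
      (∀ X : ToposFin.Sh J, ToposFin.IsFP X → ToposFin.IsCoherent X)) ∧
    ((∀ X : ToposFin.Sh J, ∃ (I : Type u) (_ : SmallCategory I) (_ : IsFiltered I) (D : I ⥤ ToposFin.Sh J),
        (∀ i, ToposFin.IsCoherent (D.obj i)) ∧ Nonempty (X ≅ colimit D)) ↔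
      (∀ X : ToposFin.Sh J, ToposFin.IsFP X → ToposFin.IsCoherent X)) := by
  have hq : ToposFin.HasQCGenerators J :=
    TopFin.QC.hasQCGenerators_of_gens (TopFin.QC.gens_coherent hE) fun _ h => h.1
  refine ⟨⟨fun h X hX => ?_, fun h X₀ X₁ a b h₀ h₁ => h _ (TopFin.Colim.isFP_coequalizer a b
      (TopFin.Colim.isFP_of_coherent hq h₀) (TopFin.Colim.isFP_of_coherent hq h₁))⟩,
    ⟨fun h X hX => ?_, fun h X => ?_⟩⟩
  · obtain ⟨n, m, K, L, a, b, i, p, hK, hL, hip⟩ :=
      TopFin.Colim.exists_retract (TopFin.QC.gens_coherent hE) hX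
    exact TopFin.Presentable.isCoherent_of_retract i p hip
      (h _ _ a b (TopFin.Colim.isCoherent_sigma K hK) (TopFin.Colim.isCoherent_sigma L hL))
  · obtain ⟨I, _, _, D, hD, ⟨e⟩⟩ := h X
    obtain ⟨j, x, hx⟩ := (TopFin.Colim.surjective_post_iff X D).1 (hX I D).2 e.hom
    exact TopFin.Presentable.isCoherent_of_retract x (colimit.ι D j ≫ e.inv)
      (by rw [reassoc_of% hx, e.hom_inv_id]) (hD j)
  · obtain ⟨I, hI, hf, D, hD, he⟩ := TopFin.Presentable.exists_filtered_colimit hE X
    exact ⟨I, hI, hf, D, fun i => h _ (hD i), he⟩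

end Groth.Agent.S5582
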