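import Groth.Statements.S5583
import Groth.Agent.TopFin.Site

set_option autoImplicit false
open CategoryTheory CategoryTheory.Limits Opposite
universe u
open ToposFin

namespace Groth.Agent.S5583

/-- Let (C, J) be a small site with fibre products all of whose objects are quasi-compact. In the topos
of sheaves of sets, if G -> F <- H are morphisms between coherent objects and F lies over the sheaf
associated to some object of C, then G x_F H is coherent (so the coherent objects lying over such
sheaves form a generating family stable under fibre products). -/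
theorem result {C : Type u} [SmallCategory C] [HasPullbacks C]
    (J : GrothendieckTopology C) (hC : ∀ X : C, ToposFin.IsQCSite J X)
    {G H F : ToposFin.Sh J} (a : G ⟶ F) (b : H ⟶ F) (hG : ToposFin.IsCoherent G) (hH : ToposFin.IsCoherent H)
    (hF : ToposFin.IsCoherent F) (X : C) (w : F ⟶ ToposFin.eps J X) :
    ToposFin.IsCoherent (pullback a b) := by
  refine ⟨hF.2 _ _ a b hG.1 hH.1, ?_⟩
  let m : pullback a b ⟶ pullback (a ≫ w) (b ≫ w) :=
    pullback.lift (pullback.fst a b) (pullback.snd a b) (by rw [pullback.condition_assoc])
  have : Mono m := ⟨fun x y h => pullback.hom_ext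
    (by simpa [m, pullback.lift_fst] using congrArg (· ≫ pullback.fst (a ≫ w) (b ≫ w)) h)
    (by simpa [m, pullback.lift_snd] using congrArg (· ≫ pullback.snd (a ≫ w) (b ≫ w)) h)⟩
  refine TopFin.QC.isQS_of_mono m ?_
  exact TopFin.QC.isQS_of_isQSHom (pullback.fst (a ≫ w) (b ≫ w))
    (TopFin.QC.IsQSHom.baseChange (IsPullback.of_hasPullback (a ≫ w) (b ≫ w)).flip
      (TopFin.Site.isQSHom_to_eps J hC _ hH.2)) hG.2

end Groth.Agent.S5583
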