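import Groth.Statements.S5586
import Groth.Agent.TopFin.Alg

set_option autoImplicit false
open CategoryTheory CategoryTheory.Limits Opposite
universe u
open ToposFin

namespace Groth.Agent.S5586

/-- Quasi-separated and coherent cases: for an algebraic topos of sheaves of sets on a small site: let f
: X -> Y be a morphism and (Y_i -> Y) a jointly epimorphic family. If the Y_i are quasi-separated
(resp. coherent), then f is quasi-separated (resp. coherent) if and only if every X x_Y Y_i is a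
quasi-separated (resp. coherent) object. -/
theorem result {C : Type u} [SmallCategory C]
    {J : GrothendieckTopology C} (hE : ToposFin.IsAlgebraic J) {X Y : ToposFin.Sh J} (f : X ⟶ Y)
    {ι : Type u} (Yi : ι → ToposFin.Sh J) (g : ∀ i, Yi i ⟶ Y)
    (hg : ∀ (Z : ToposFin.Sh J) (a b : Y ⟶ Z), (∀ i, g i ≫ a = g i ≫ b) → a = b) :
    ((∀ i, ToposFin.IsQS (Yi i)) → (ToposFin.IsQSHom f ↔ ∀ i, ToposFin.IsQS (pullback f (g i)))) ∧
    ((∀ i, ToposFin.IsCoherent (Yi i)) →
      (ToposFin.IsCohHom f ↔ ∀ i, ToposFin.IsCoherent (pullback f (g i)))) := by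
  have hq := TopFin.Alg.hasQCGenerators hE
  have h₁ : (∀ i, ToposFin.IsQS (Yi i)) →
      (ToposFin.IsQSHom f ↔ ∀ i, ToposFin.IsQS (pullback f (g i))) := fun hY =>
    ⟨fun h i => (TopFin.Alg.isQS_iff hE _ (hY i)).2
        (TopFin.QC.IsQSHom.baseChange (IsPullback.of_hasPullback f (g i)) h),
      fun h => TopFin.QC.isQSHom_of_local hq f g hg fun i => (TopFin.Alg.isQS_iff hE _ (hY i)).1 (h i)⟩
  refine ⟨h₁, fun hY => ?_⟩
  exact ⟨fun h i => (TopFin.Alg.isCoherent_iff hE _ (hY i)).2
      ⟨TopFin.QC.IsQCHom.baseChange (IsPullback.of_hasPullback f (g i)) h.1,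
        TopFin.QC.IsQSHom.baseChange (IsPullback.of_hasPullback f (g i)) h.2⟩,
    fun h => ⟨TopFin.QC.isQCHom_of_local hq f g hg fun i => ((TopFin.Alg.isCoherent_iff hE _ (hY i)).1 (h i)).1,
      (h₁ fun i => (hY i).2).2 fun i => (h i).2⟩⟩

end Groth.Agent.S5586
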