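import Groth.Statements.S5587
import Groth.Agent.TopFin.Alg

set_option autoImplicit false
open CategoryTheory CategoryTheory.Limits Opposite
universe u
open ToposFin

namespace Groth.Agent.S5587

/-- For a locally coherent topos of sheaves of sets on a small site (given by a generating set of
quasi-compact objects stable under fibre products): a morphism f : X -> Y is quasi-separated if and
only if for every quasi-separated object Y' over Y the fibre product X x_Y Y' is quasi-separated. -/
theorem result {C : Type u} [SmallCategory C]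
    {J : GrothendieckTopology C} (S : Set (ToposFin.Sh J)) (hqc : ∀ K ∈ S, ToposFin.IsQC K)
    (hgen : ToposFin.IsGenerating S) (hpb : ToposFin.ClosedUnderPullbacks S) {X Y : ToposFin.Sh J} (f : X ⟶ Y) :
    ToposFin.IsQSHom f ↔
      ∀ (Y' : ToposFin.Sh J) (g : Y' ⟶ Y), ToposFin.IsQS Y' → ToposFin.IsQS (pullback f g) := by
  have hc : ∀ K ∈ S, ToposFin.IsCoherent K := fun K h => TopFin.Alg.isCoherent_of_mem hqc hgen hpb h
  refine ⟨fun h Y' g hY' => TopFin.QC.isQS_of_isQSHom _
    (TopFin.QC.IsQSHom.baseChange (IsPullback.of_hasPullback f g) h) hY', fun h => ?_⟩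
  obtain ⟨ι, K, g, hK, hg⟩ := hgen Y
  refine TopFin.QC.isQSHom_of_local
    (TopFin.QC.hasQCGenerators_of_gens (TopFin.QC.gens_set hgen) hqc) f g hg fun i => ?_
  obtain ⟨κ, G, π, hG, hπ⟩ := hgen (pullback f (g i))
  refine TopFin.QC.isQSHom_of_lifts (TopFin.QC.gens_set hgen) hqc _ (h _ (g i) (hc _ (hK i)).2) π hπ
    (fun a => hqc _ (hG a)) fun a b => ?_
  obtain ⟨P, p, q, hP, hpq⟩ := hpb (π a ≫ pullback.snd f (g i)) (π b ≫ pullback.snd f (g i))
    (hG a) (hG b) (hK i)
  exact (TopFin.QC.isCoherent_of_iso hpq.isoPullback (hc P hP)).2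

end Groth.Agent.S5587
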