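import Groth.Statements.S5588
import Groth.Agent.TopFin.Colim
import Groth.Agent.TopFin.Alg

set_option autoImplicit false
open CategoryTheory CategoryTheory.Limits Opposite
universe u
open ToposFin

namespace Groth.Agent.S5588

/-- (ii) implies (i), for the topos of sheaves of sets on a small site: let S be an isomorphism-closed
generating set of quasi-compact objects, stable under finite colimits and under fibre products. Then
S is the set of all coherent objects (so the topos is locally coherent), and every object X for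
which Hom(X, -) commutes with small filtered colimits is coherent. -/
theorem result {C : Type u} [SmallCategory C]
    {J : GrothendieckTopology C} (S : Set (ToposFin.Sh J)) (hqc : ∀ K ∈ S, ToposFin.IsQC K)
    (hiso : ∀ ⦃K L : ToposFin.Sh J⦄, K ∈ S → Nonempty (K ≅ L) → L ∈ S)
    (hgen : ToposFin.IsGenerating S) (hpb : ToposFin.ClosedUnderPullbacks S)
    (hcolim : ∀ (K : Type) [SmallCategory K] [FinCategory K] (D : K ⥤ ToposFin.Sh J),
      (∀ k, D.obj k ∈ S) → colimit D ∈ S) :
    (∀ X : ToposFin.Sh J, X ∈ S ↔ ToposFin.IsCoherent X) ∧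
    (∀ X : ToposFin.Sh J, ToposFin.IsFP X → ToposFin.IsCoherent X) := by
  have hc : ∀ K ∈ S, ToposFin.IsCoherent K := fun K h => TopFin.Alg.isCoherent_of_mem hqc hgen hpb h
  have hsum : ∀ {n : ℕ} (K : Fin n → ToposFin.Sh J), (∀ k, K k ∈ S) → (∐ K) ∈ S := fun K hK =>
    hcolim _ (Discrete.functor K) fun k => hK k.as
  have hcoeq : ∀ {A B : ToposFin.Sh J} (a b : A ⟶ B), A ∈ S → B ∈ S → coequalizer a b ∈ S :=
    fun a b hA hB => hcolim _ (parallelPair a b) fun k => by
      cases k
      · exact hA
      · exact hB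
  constructor
  · refine fun X => ⟨hc X, fun hX => ?_⟩
    obtain ⟨n, K, g, hK, hg⟩ := TopFin.QC.exists_fin_cover (TopFin.QC.gens_set hgen) hX.1
    let r := Sigma.desc g
    have : Epi r := TopFin.QC.epi_desc_iff.2 hg
    have hsK := hsum K hK
    obtain ⟨m, L, π, hL, hπ⟩ := TopFin.QC.exists_fin_cover (TopFin.QC.gens_set hgen)
      (hX.2 _ _ r r (hqc _ hsK) (hqc _ hsK))
    let a := Sigma.desc fun k => π k ≫ pullback.fst r r
    let b := Sigma.desc fun k => π k ≫ pullback.snd r r
    obtain ⟨t, ht⟩ := TopFin.Colim.exists_desc_epi r (coequalizer.π a b) (hπ _ _ fun k => by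
      simpa [a, b] using congrArg (Sigma.ι L k ≫ ·) (coequalizer.condition a b))
    let q : coequalizer a b ⟶ X := coequalizer.desc r (Sigma.hom_ext _ _ fun k => by
      simp [a, b, pullback.condition])
    refine hiso (hcoeq a b (hsum L hL) hsK) ⟨⟨q, t, coequalizer.hom_ext ?_, (cancel_epi r).1 ?_⟩⟩
    · simp [q, ht]
    · rw [reassoc_of% ht]
      simp [q]
  · intro X hX
    obtain ⟨n, m, K, L, a, b, i, p, hK, hL, hip⟩ :=
      TopFin.Colim.exists_retract (TopFin.QC.gens_set hgen) hX
    have hY := hcoeq a b (hsum L hL) (hsum K hK)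
    refine hc X (hiso (hcoeq (𝟙 _) (p ≫ i) hY hY) ⟨?_⟩)
    refine ⟨coequalizer.desc p (by simp [hip]), i ≫ coequalizer.π _ _, coequalizer.hom_ext ?_, ?_⟩
    · rw [coequalizer.π_desc_assoc, ← Category.assoc, ← coequalizer.condition, Category.id_comp,
        Category.comp_id]
    · rw [Category.assoc, coequalizer.π_desc, hip]

end Groth.Agent.S5588
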