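import Groth.Statements.S5593
import Groth.Agent.StrictLift.Basic

set_option autoImplicit false
open CategoryTheory CategoryTheory.Limits AlgebraicGeometry Opposite
universe u
open EtDesc

namespace Groth.Agent.S5593

/-- Let X be a scheme, x, x' points of X with strict localisations Spec R -> X and Spec R' -> X (R, R'
strict henselisations of the local rings at x and x'). There is an X-morphism Spec R' -> Spec R,
i.e. the geometric point over x is a specialization of the one over x', if and only if x lies in the
closure of x'. -/
theorem result (X : Scheme.{u}) (x x' : X)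
    (R : Type u) [CommRing R] [IsLocalRing R] [Algebra (X.presheaf.stalk x) R]
    [IsLocalHom (algebraMap (X.presheaf.stalk x) R)] [Hensel.IsStrictHenselization (X.presheaf.stalk x) R]
    (R' : Type u) [CommRing R'] [IsLocalRing R'] [Algebra (X.presheaf.stalk x') R']
    [IsLocalHom (algebraMap (X.presheaf.stalk x') R')] [Hensel.IsStrictHenselization (X.presheaf.stalk x') R'] :
    (∃ g : Spec (CommRingCat.of R') ⟶ Spec (CommRingCat.of R), g ≫ Hens2.specOf X x R = Hens2.specOf X x' R') ↔
      x' ⤳ x := by
  obtain ⟨P⟩ := Groth.Agent.EtLimit.nonempty_etPres X x R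
  haveI : HenselianLocalRing R' := ‹Hensel.IsStrictHenselization (X.presheaf.stalk x') R'›.henselian
  haveI : IsSepClosed (IsLocalRing.ResidueField R') :=
    ‹Hensel.IsStrictHenselization (X.presheaf.stalk x') R'›.isSepClosure.sep_closed
  constructor
  · rintro ⟨g, hg⟩
    have hcl : Hens2.specOf X x' R' (IsLocalRing.closedPoint R') = x' := by
      show X.fromSpecStalk x' (PrimeSpectrum.comap (algebraMap (X.presheaf.stalk x') R') _) = x'
      rw [IsLocalRing.comap_closedPoint]
      exact Scheme.fromSpecStalk_closedPoint
    have hr : x' ∈ Set.range (X.fromSpecStalk x) := by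
      refine ⟨Spec.map (CommRingCat.ofHom (algebraMap (X.presheaf.stalk x) R)) (g (IsLocalRing.closedPoint R')), ?_⟩
      refine Eq.trans ?_ hcl
      rw [← hg]
      rfl
    rw [Scheme.range_fromSpecStalk] at hr
    exact hr
  · intro hsp
    let ν : X.presheaf.stalk x →+* IsLocalRing.ResidueField R' :=
      ((IsLocalRing.residue R').comp (algebraMap (X.presheaf.stalk x') R')).comp
        (X.presheaf.stalkSpecializes hsp).hom
    obtain ⟨μ, hμ⟩ := Groth.Agent.StrictLift.exists_extend (R := R) ν
    obtain ⟨g, hg, -⟩ := Groth.Agent.StrictLift.exists_lift_pres P (Hens2.specOf X x' R')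
      (Spec.map (CommRingCat.ofHom μ)) (by
        show Spec.map _ ≫ Spec.map _ ≫ X.fromSpecStalk x = Spec.map _ ≫ Spec.map _ ≫ X.fromSpecStalk x'
        rw [← Spec.map_comp_assoc, ← CommRingCat.ofHom_comp, hμ,
          ← Scheme.SpecMap_stalkSpecializes_fromSpecStalk hsp]
        simp only [← Spec.map_comp_assoc]
        rfl)
    exact ⟨g, hg⟩

end Groth.Agent.S5593
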