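import Groth.Statements.S5597
import Groth.Agent.DHA.PCohAPI

set_option autoImplicit false
universe w v u
open CategoryTheory CategoryTheory.Limits
open PCoh

namespace Groth.Agent.S5597

open Groth.Agent.DHA PCohQis PCohFT PCohCore PCohStability PCohLimit PCohAPI

/-- Punctual site: let C be an abelian category and C₀ a strictly full additive subcategory,
quasi-stable under kernels of epimorphisms and quasi-liftable. If F is strictly n-pseudo-coherent
(bounded above, terms in C₀ from degree n on) and u : E ⟶ F is a quasi-isomorphism of cochain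
complexes, then E receives a quasi-isomorphism from some strictly n-pseudo-coherent complex. -/
theorem result {C : Type u} [Category.{v} C] [Abelian C]
    (P : ObjectProperty C) [P.IsClosedUnderIsomorphisms] [P.ContainsZero] (hsum : ∀ X Y : C, P X → P Y → P (X ⨯ Y))
    (hqs : PCoh.IsQuasiStableUnderKernels P) (hql : PCoh.IsQuasiLiftable P)
    (n : ℤ) (E F : CochainComplex C ℤ) (hF : PCoh.IsStrictPC P n F) (u : E ⟶ F) (hu : QuasiIso u) :
    ∃ (F' : CochainComplex C ℤ) (v : F' ⟶ E), PCoh.IsStrictPC P n F' ∧ QuasiIso v := by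
  obtain ⟨b, hb⟩ := hF.1
  have hbE : ∀ i, b < i → IsZero (E.homology i) := fun i hi =>
    (isZero_homology_of_isZero_X F i (hb i hi)).of_iso
      (asIso (HomologicalComplex.homologyMap u i))
  have hgood : Good P n E := @good_of_qis _ _ _ _ _ hsum (topFT_of_quasiStable hqs) n E F hF u hu
  obtain ⟨G, w, hw, hG, hz⟩ := exists_strictPerfect hsum hql hgood b hbE
  obtain ⟨G', -, v, -, hG', hv, -, -⟩ := exists_tau_strictPC (P := P) (X := E) le_rfl
    (⟨⟨max n (b + 1), fun i hi => hz i (Or.inr hi.le)⟩, fun i _ => hG i⟩ :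
      PCoh.IsStrictPC P n G) hw
  exact ⟨G', v, hG', hv⟩

end Groth.Agent.S5597
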