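import Groth.Statements.S5598
import Groth.Agent.DHA.PCohAPI

set_option autoImplicit false
universe w v u
open CategoryTheory CategoryTheory.Limits
open PCoh

namespace Groth.Agent.S5598

open Groth.Agent.DHA PCohQis PCohFT PCohCore PCohStability PCohLimit PCohAPI

/-- (i') ⇔ (ii') (punctual site): let C be an abelian category and C₀ a strictly full additive
subcategory, quasi-stable under kernels of epimorphisms and quasi-liftable. An object F of D(C) is
n-pseudo-coherent (isomorphic in D(C) to a strictly n-pseudo-coherent complex) if and only if there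
are a strictly perfect complex E (bounded, all terms in C₀) and a morphism E ⟶ F of D(C) which is an
n-isomorphism: an isomorphism on H^i for i > n and an epimorphism on H^n. -/
theorem result {C : Type u} [Category.{v} C] [Abelian C] [HasDerivedCategory.{w} C]
    (P : ObjectProperty C) [P.IsClosedUnderIsomorphisms] [P.ContainsZero] (hsum : ∀ X Y : C, P X → P Y → P (X ⨯ Y))
    (hqs : PCoh.IsQuasiStableUnderKernels P) (hql : PCoh.IsQuasiLiftable P)
    (n : ℤ) (F : DerivedCategory C) :
    (∃ E : CochainComplex C ℤ, PCoh.IsStrictPC P n E ∧ Nonempty (DerivedCategory.Q.obj E ≅ F)) ↔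
      ∃ (E : CochainComplex C ℤ) (a b : ℤ) (α : DerivedCategory.Q.obj E ⟶ F),
        (∀ i : ℤ, i < a ∨ b < i → IsZero (E.X i)) ∧ (∀ i : ℤ, P (E.X i)) ∧
        (∀ i : ℤ, n < i → IsIso ((DerivedCategory.homologyFunctor C i).map α)) ∧
        Epi ((DerivedCategory.homologyFunctor C n).map α) := by
  have hFT := topFT_of_quasiStable hqs
  constructor
  · intro h
    obtain ⟨X, ⟨e⟩⟩ := exists_model F
    have hX : PCn P n (DerivedCategory.Q.obj X) := PCn.of_iso h e.symm
    obtain ⟨b, hb⟩ := PCn.boundedAbove (show PCn P n F from h)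
    obtain ⟨E, u, hu, hE, hz⟩ := exists_strictPerfect hsum hql (good_of_pcn hsum hql hFT hX) b
      (fun i hi => isZero_homology_model e (hb i hi))
    rw [isQisN_iff] at hu
    refine ⟨E, n, max n (b + 1), DerivedCategory.Q.map u ≫ e.hom,
      fun i hi => hz i (hi.imp id le_of_lt), hE, fun i hi => ?_, ?_⟩
    · have := hu.1 i hi
      rw [Functor.map_comp]; infer_instance
    · have := hu.2
      rw [Functor.map_comp]; infer_instance
  · rintro ⟨E, a, b, α, hz, hE, hiso, hepi⟩
    exact pcn_of_nQis hsum hql hFT ⟨⟨b, fun i hi => hz i (Or.inr hi)⟩, fun i _ => hE i⟩ α hiso hepi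

end Groth.Agent.S5598
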