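import Groth.Statements.S5606
import Groth.Agent.DHA.PCohDevissage

set_option autoImplicit false
universe w v u
open CategoryTheory CategoryTheory.Limits
open PCoh

namespace Groth.Agent.S5606

open CategoryTheory.Limits Groth.Agent.DHA PCohQis PCohFT PCohCore PCohStability PCohAPI PCohDevissage

/-- Let C be an abelian category, C₀ ⊆ C₁ strictly full additive subcategories with C₀ quasi-stable
under kernels of epimorphisms and quasi-liftable. If every object of C₁ is C₀-pseudo-coherent, then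
C₁ is quasi-liftable in C and quasi-stable under kernels of epimorphisms. -/
theorem result {C : Type u} [Category.{v} C] [Abelian C] [HasDerivedCategory.{w} C]
    (P : ObjectProperty C) [P.IsClosedUnderIsomorphisms] [P.ContainsZero] (hsum : ∀ X Y : C, P X → P Y → P (X ⨯ Y))
    (hqs : PCoh.IsQuasiStableUnderKernels P) (hql : PCoh.IsQuasiLiftable P)
    (P₁ : ObjectProperty C) [P₁.IsClosedUnderIsomorphisms] [P₁.ContainsZero]
    (hsum₁ : ∀ X Y : C, P₁ X → P₁ Y → P₁ (X ⨯ Y)) (hle : ∀ X : C, P X → P₁ X)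
    (hpc : ∀ X : C, P₁ X → PCoh.IsPC P ((DerivedCategory.singleFunctor C 0).obj X)) :
    PCoh.IsQuasiLiftable P₁ ∧ PCoh.IsQuasiStableUnderKernels P₁ := by
  have hFT := topFT_of_quasiStable hqs
  have hft : ∀ X : C, P₁ X → PCoh.IsOfFiniteType P X := fun X hX =>
    (pcn_single_iff_finiteType hsum hql hFT X).1 (hpc X hX 0)
  refine ⟨fun E F u hu hF => ?_, fun K hK ⟨N, hN⟩ hP => ?_⟩
  · obtain ⟨E₀, π, hE₀, hπ⟩ := hft F hF
    obtain ⟨E', q, v, hE', hq, hv⟩ := FiniteType.exists_lift hql u hE₀ π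
    exact ⟨E', v, hle _ hE', by rw [hv]; infer_instance⟩
  · obtain ⟨E, π, hE, hπ⟩ := (pcn_single_iff_finiteType hsum hql hFT (K.X 0)).1
      (pcn_single_of_resolution hsum hql hFT K hK N hN (fun i hi n => hpc _ (hP i hi) n) 0)
    exact ⟨E, π, hle _ hE, hπ⟩

end Groth.Agent.S5606
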