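import Groth.Statements.S5608
import Groth.Agent.DHA.PCohDevissage

set_option autoImplicit false
universe w v u
open CategoryTheory CategoryTheory.Limits
open PCoh

namespace Groth.Agent.S5608

open CategoryTheory.Limits Groth.Agent.DHA PCohQis PCohFT PCohCore PCohStability PCohAPI PCohDevissage

/-- Punctual site: let C be an abelian category and C₀ a strictly full additive subcategory,
quasi-liftable in C, whose objects are C₀-coherent (of C₀-finite type, and every morphism from an
object of C₀ into them has kernel of C₀-finite type). For F ∈ D(C) with bounded above cohomology and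
n an integer: F is n-pseudo-coherent (isomorphic to a strictly n-pseudo-coherent complex) if and
only if H^n(F) is of C₀-finite type and H^i(F) is C₀-coherent for every i > n. -/
theorem result {C : Type u} [Category.{v} C] [Abelian C] [HasDerivedCategory.{w} C]
    (P : ObjectProperty C) [P.IsClosedUnderIsomorphisms] [P.ContainsZero] (hsum : ∀ X Y : C, P X → P Y → P (X ⨯ Y))
    (hql : PCoh.IsQuasiLiftable P)
    (hcoh : ∀ (X E : C) (u : E ⟶ X), P X → P E → PCoh.IsOfFiniteType P (kernel u))
    (n : ℤ) (F : DerivedCategory C) (b : ℤ) (hb : ∀ i : ℤ, b < i → IsZero ((DerivedCategory.homologyFunctor C i).obj F)) :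
    (∃ E : CochainComplex C ℤ, PCoh.IsStrictPC P n E ∧ Nonempty (DerivedCategory.Q.obj E ≅ F)) ↔
      (PCoh.IsOfFiniteType P ((DerivedCategory.homologyFunctor C n).obj F) ∧
        ∀ i : ℤ, n < i → (PCoh.IsOfFiniteType P ((DerivedCategory.homologyFunctor C i).obj F) ∧
          ∀ (E : C) (u : E ⟶ (DerivedCategory.homologyFunctor C i).obj F), P E → PCoh.IsOfFiniteType P (kernel u))) := by
  have hqs := quasiStable_of_coherent hcoh
  have hFT := topFT_of_quasiStable hqs
  constructor
  · intro h
    obtain ⟨G, hG, ⟨e⟩⟩ := h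
    have hiso : ∀ i, G.homology i ≅ (DerivedCategory.homologyFunctor C i).obj F := fun i =>
      (homologyIso G i).symm ≪≫ (DerivedCategory.homologyFunctor C i).mapIso e
    have hZft : ∀ i, n ≤ i → PCoh.IsOfFiniteType P (G.cycles i) := fun i hi =>
      FiniteType.finiteType_of_epi (hcoh _ _ (G.d i (i + 1)) (hG.2 (i + 1) (by omega)) (hG.2 i hi))
        ((G.cyclesIsKernel i (i + 1) (by simp)).conePointUniqueUpToIso
          (kernelIsKernel (G.d i (i + 1)))).inv
    refine ⟨FiniteType.finiteType_of_epi (hZft n le_rfl) (G.homologyπ n ≫ (hiso n).hom),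
      fun i hi => ⟨FiniteType.finiteType_of_epi (hZft i hi.le) (G.homologyπ i ≫ (hiso i).hom), ?_⟩⟩
    have hi' : n ≤ i - 1 := by omega
    have h := FiniteType.precoherent_cokernel hsum hql
      (ShortComplex.mk (G.toCycles (i - 1) i) (G.homologyπ i) (by simp))
      (ShortComplex.exact_of_g_is_cokernel _ (G.homologyIsCokernel (i - 1) i (by simp)))
      ⟨_, 𝟙 _, hG.2 (i - 1) hi', inferInstance⟩
      (fun E u hE => FiniteType.finiteType_of_epi
        (hcoh _ _ (u ≫ G.iCycles i) (hG.2 i hi.le) hE) (kernelCompMono u (G.iCycles i)).hom)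
    intro E u hE
    exact FiniteType.finiteType_of_epi (h E (u ≫ (hiso i).inv) hE)
      (kernelCompMono u (hiso i).inv).hom
  · rintro ⟨hn, hi⟩
    refine pcn_of_homology hsum hql hFT F b hb fun i hin => ?_
    rcases hin.lt_or_eq with h | rfl
    · obtain ⟨k, hk⟩ : ∃ k : ℕ, n - i = -(k : ℤ) := ⟨(i - n).toNat, by omega⟩
      rw [hk]
      exact pcn_single_of_coherent hsum hql hcoh k (hi i h).1 (hi i h).2
    · rw [sub_self]
      exact (pcn_single_iff_finiteType hsum hql hFT _).2 hn

end Groth.Agent.S5608
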