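import Groth.Statements.S5609
import Groth.Agent.DHA.PCohPerfect

set_option autoImplicit false
universe w v u
open CategoryTheory CategoryTheory.Limits
open PCoh

namespace Groth.Agent.S5609

open CategoryTheory.Limits Groth.Agent.DHA PCohQis PCohFT PCohCore PCohStability PCohAPI PCohPerfect

open CategoryTheory.Pretriangulated in
/-- Punctual site: stability of perfect complexes under cones: let C be an abelian category and C₀ a
strictly full additive subcategory which is liftable (every epimorphism onto an object of C₀ splits)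
and stable under kernels of epimorphisms. If E ⟶ F ⟶ G ⟶ E⟦1⟧ is a distinguished triangle of D(C)
with E and F perfect relative to C₀ (isomorphic to bounded complexes with terms in C₀), then G is
perfect relative to C₀. -/
theorem result {C : Type u} [Category.{v} C] [Abelian C] [HasDerivedCategory.{w} C]
    (P : ObjectProperty C) [P.IsClosedUnderIsomorphisms] [P.ContainsZero] (hsum : ∀ X Y : C, P X → P Y → P (X ⨯ Y))
    (hlift : ∀ (E F : C) (u : E ⟶ F), Epi u → P F → IsSplitEpi u)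
    (hst : ∀ (E F : C) (u : E ⟶ F), Epi u → P E → P F → P (kernel u))
    (T : Triangle (DerivedCategory C)) (hT : T ∈ distinguishedTriangles)
    (h₁ : (∃ (E : CochainComplex C ℤ) (a b : ℤ), (∀ i : ℤ, i < a ∨ b < i → IsZero (E.X i)) ∧ (∀ i : ℤ, P (E.X i)) ∧ Nonempty (DerivedCategory.Q.obj E ≅ T.obj₁)))
    (h₂ : (∃ (E : CochainComplex C ℤ) (a b : ℤ), (∀ i : ℤ, i < a ∨ b < i → IsZero (E.X i)) ∧ (∀ i : ℤ, P (E.X i)) ∧ Nonempty (DerivedCategory.Q.obj E ≅ T.obj₂))) :
    (∃ (E : CochainComplex C ℤ) (a b : ℤ), (∀ i : ℤ, i < a ∨ b < i → IsZero (E.X i)) ∧ (∀ i : ℤ, P (E.X i)) ∧ Nonempty (DerivedCategory.Q.obj E ≅ T.obj₃)) := by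
  obtain ⟨E₁, a₁, b₁, hz₁, hP₁, ⟨e₁⟩⟩ := h₁
  obtain ⟨E₂, a₂, b₂, hz₂, hP₂, ⟨e₂⟩⟩ := h₂
  obtain ⟨Z, s, hs, f, hf⟩ := DerivedCategory.right_fac (e₁.hom ≫ T.mor₁ ≫ e₂.inv)
  have : QuasiIso s := (DerivedCategory.isIso_Q_map_iff_quasiIso (C := C) s).1 hs
  obtain ⟨G, g, hG, hGz, hg⟩ := exists_all_resolution hsum (quasiLiftable hlift) (topFT hst)
    (X := Z) (fun m => ⟨E₁, ⟨⟨b₁, fun i hi => hz₁ i (Or.inr hi)⟩, fun i _ => hP₁ i⟩,
      ⟨(asIso (DerivedCategory.Q.map s)).symm⟩⟩) (b₁ + 1)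
    (fun i hi => (isZero_homology_of_isZero_X E₁ i (hz₁ i (Or.inr (by omega)))).of_iso
      (asIso (HomologicalComplex.homologyMap s i)))
  have : IsIso (DerivedCategory.Q.map g) :=
    (DerivedCategory.isIso_Q_map_iff_quasiIso (C := C) g).2 hg
  let a := min a₁ a₂
  have hgs : IsIso (DerivedCategory.Q.map (g ≫ s)) := by rw [Functor.map_comp]; infer_instance
  obtain ⟨hop, hge⟩ := model hsum hlift hst hG (a := a) (b := b₁) ⟨E₁, hP₁,
    fun i hi => hz₁ i (by omega), ⟨(asIso (DerivedCategory.Q.map (g ≫ s))).symm⟩⟩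
  have := isStrictlyGE_of_zero (a := a) (fun i hi => hz₂ i (Or.inl (by omega)))
  let f' : G.truncGE a ⟶ E₂ := CochainComplex.truncGEMap (g ≫ f) a ≫ inv (E₂.πTruncGE a)
  have hπ : IsIso (DerivedCategory.Q.map (G.πTruncGE a)) :=
    (DerivedCategory.isIso_Q_map_iff_quasiIso (C := C) _).2 inferInstance
  have hf' : G.πTruncGE a ≫ f' = g ≫ f := by simp [f']
  have hcone := isStrictPC_cone hsum f' (n := a)
    ⟨⟨max a b₁, fun i hi => truncGE_isZero G a (max a b₁) (le_max_left _ _)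
      (fun j hj => hGz j (by omega)) i (Or.inr hi)⟩,
      fun i hi => truncGE_mem G a (fun j _ => hG.2 j) hop i (by omega)⟩
    ⟨⟨b₂, fun i hi => hz₂ i (Or.inr hi)⟩, fun i _ => hP₂ i⟩
  obtain ⟨⟨c, hc⟩, -⟩ := hcone
  have hall : ∀ i, P (G.truncGE a |>.X i) := fun i => by
    by_cases h : a ≤ i
    · exact truncGE_mem G a (fun j _ => hG.2 j) hop i h
    · exact P.prop_of_isZero ((G.truncGE a).isZero_of_isStrictlyGE a i (by omega))
  let ι₁ : DerivedCategory.Q.obj (G.truncGE a) ≅ T.obj₁ :=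
    (asIso (DerivedCategory.Q.map (G.πTruncGE a))).symm ≪≫ asIso (DerivedCategory.Q.map (g ≫ s)) ≪≫ e₁
  refine ⟨CochainComplex.mappingCone f', a - 1, c, fun i hi => ?_, fun i => ?_,
    ⟨Pretriangulated.Triangle.π₃.mapIso (Pretriangulated.isoTriangleOfIso₁₂ _ _
      (DerivedCategory.mappingCone_triangle_distinguished f') hT ι₁ e₂ ?_)⟩⟩
  · rcases hi with hi | hi
    · exact IsZero.of_iso (by
        rw [IsZero.iff_id_eq_zero]
        exact biprod.hom_ext' _ _
          (((G.truncGE a).isZero_of_isStrictlyGE a (i + 1) (by omega)).eq_of_src _ _)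
          ((hz₂ i (Or.inl (by omega))).eq_of_src _ _))
        (HomologicalComplex.homotopyCofiber.XIsoBiprod f' i (i + 1) rfl)
    · exact hc i hi
  · exact P.prop_of_iso (HomologicalComplex.homotopyCofiber.XIsoBiprod f' i (i + 1) rfl).symm
      (FiniteType.biprod_mem hsum (hall _) (hP₂ i))
  · change DerivedCategory.Q.map f' ≫ e₂.hom = ι₁.hom ≫ T.mor₁
    have h : DerivedCategory.Q.map f ≫ e₂.hom = DerivedCategory.Q.map s ≫ e₁.hom ≫ T.mor₁ := by
      rw [← cancel_mono e₂.inv]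
      simp [hf]
    rw [← cancel_epi (DerivedCategory.Q.map (G.πTruncGE a)), ← Functor.map_comp_assoc, hf']
    simp [ι₁, h]

end Groth.Agent.S5609
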