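import Groth.Statements.S5610
import Groth.Agent.DHA.PCohPerfect

set_option autoImplicit false
universe w v u
open CategoryTheory CategoryTheory.Limits
open PCoh

namespace Groth.Agent.S5610

open CategoryTheory.Limits Groth.Agent.DHA PCohQis PCohFT PCohCore PCohStability PCohAPI PCohPerfect

/-- Let C be an abelian category and C₀ a strictly full additive subcategory, liftable and stable under
kernels of epimorphisms. Let a ≤ b, a ≤ c, and let F be a strictly perfect complex (terms in C₀)
vanishing outside [a, c] with H^i(F) = 0 for i > b. Then F has perfect amplitude in [a, min b c]: it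
is isomorphic in D(C) to a strictly perfect complex vanishing outside that interval. -/
theorem result {C : Type u} [Category.{v} C] [Abelian C] [HasDerivedCategory.{w} C]
    (P : ObjectProperty C) [P.IsClosedUnderIsomorphisms] [P.ContainsZero] (hsum : ∀ X Y : C, P X → P Y → P (X ⨯ Y))
    (hlift : ∀ (E F : C) (u : E ⟶ F), Epi u → P F → IsSplitEpi u)
    (hst : ∀ (E F : C) (u : E ⟶ F), Epi u → P E → P F → P (kernel u))
    (a b c : ℤ) (hab : a ≤ b) (hac : a ≤ c) (F : CochainComplex C ℤ)
    (hP : ∀ i : ℤ, P (F.X i)) (hvan : ∀ i : ℤ, i < a ∨ c < i → IsZero (F.X i))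
    (hcoh : ∀ i : ℤ, b < i → IsZero (F.homology i)) :
    ∃ F' : CochainComplex C ℤ, (∀ i : ℤ, P (F'.X i)) ∧ (∀ i : ℤ, i < a ∨ min b c < i → IsZero (F'.X i)) ∧
      Nonempty (DerivedCategory.Q.obj F' ≅ DerivedCategory.Q.obj F) := by
  by_cases hbc : c ≤ b
  · exact ⟨F, hP, fun i hi => hvan i (by omega), ⟨Iso.refl _⟩⟩
  · have hle : F.IsLE b := by
      rw [CochainComplex.isLE_iff]
      exact fun i hi => (HomologicalComplex.exactAt_iff_isZero_homology _ _).2 (hcoh i hi)
    have : IsIso (DerivedCategory.Q.map (F.ιTruncLE b)) :=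
      (DerivedCategory.isIso_Q_map_iff_quasiIso (C := C) _).2 inferInstance
    refine ⟨F.truncLE b, fun i => ?_, fun i hi => ?_, ⟨asIso (DerivedCategory.Q.map (F.ιTruncLE b))⟩⟩
    · rcases lt_trichotomy i b with h | rfl | h
      · exact P.prop_of_iso (F.truncLEXIso b i h).symm (hP i)
      · refine P.prop_of_iso ?_ (kernel_d_mem hst F c (fun j hj => hvan j (Or.inr hj)) i
          (fun j _ => hP j)
          (fun j hj => (HomologicalComplex.exactAt_iff_isZero_homology _ _).2 (hcoh j hj)))
        exact (kernelIsKernel _).conePointUniqueUpToIso (F.cyclesIsKernel i (i + 1) (by simp)) ≪≫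
          (F.truncLEXIsoCycles i).symm
      · exact P.prop_of_isZero ((F.truncLE b).isZero_of_isStrictlyLE b i h)
    · by_cases h : b < i
      · exact (F.truncLE b).isZero_of_isStrictlyLE b i h
      · exact (hvan i (Or.inl (by omega))).of_iso (F.truncLEXIso b i (by omega))

end Groth.Agent.S5610
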