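import Groth.Prelude.Def_DRing2
import Mathlib.Algebra.Homology.DerivedCategory.HomologySequence
import Groth.Agent.DRing.PerfectAmp
-- import your own Groth.Agent.* helpers here

set_option autoImplicit false
universe u
open CategoryTheory CategoryTheory.Limits
attribute [local instance] HasDerivedCategory.standard
open DRing

namespace Groth.Agent.S5611

/-- For the punctual topos ringed by a commutative ring A: let K ∈ D(A) and m ≤ n. Then K has perfect
amplitude in [m, n], that is K is isomorphic in D(A) to a complex of finite projective modules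
vanishing outside [m, n], if and only if K is (m - 1)-pseudo-coherent and has tor amplitude in [m,
n] (isomorphic to a complex of flat modules vanishing outside [m, n]). -/
theorem result {A : Type u} [CommRing A]
    (K : Dual.D A) (m n : ℤ) (hmn : m ≤ n) :
    (DRing.IsPseudoCoherent A (m - 1) K ∧ DRing.HasTorAmplitudeIn A m n K) ↔
      ∃ E : DRing.Cx A, DRing.VanishesOutside E m n ∧ DRing.TermwiseFiniteProjective E ∧
        Nonempty (DRing.toD E ≅ K) := by
  constructor
  · rintro ⟨h1, h2⟩
    exact Agent.DRing.Perfect.exists_rep (Agent.DRing.Perfect.pc'_of_pc_of_torAmp h1 h2) h2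
  · rintro ⟨E, hE, hf, ⟨e⟩⟩
    exact ⟨(Agent.DRing.PC.pc'_iff _).1 (Agent.DRing.PC.pc'_of_iso e
      (Agent.DRing.Perfect.pc'_of_finiteProjective (fun i hi => hE i (Or.inr hi)) hf)) _,
      E, hE, fun i => have := (hf i).2; inferInstance, ⟨e⟩⟩

end Groth.Agent.S5611
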