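import Groth.Prelude.Def_DRing2
import Mathlib.Algebra.Homology.DerivedCategory.HomologySequence
import Groth.Agent.DRing.TorBalance
import Groth.Agent.DRing.BaseChangeAmp
-- import your own Groth.Agent.* helpers here

set_option autoImplicit false
universe u
open CategoryTheory CategoryTheory.Limits
attribute [local instance] HasDerivedCategory.standard
open DRing

namespace Groth.Agent.S5612

/-- Let A be a commutative ring all of whose modules have finite tor dimension (for instance A of finite
global dimension) and K ∈ D(A). (i) K has finite tor dimension if and only if K has bounded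
cohomology. (ii) K is perfect if and only if K has bounded cohomology and is pseudo-coherent. -/
theorem result {A : Type u} [CommRing A]
    (hA : ∀ (M : Type u) [AddCommGroup M] [Module A M], DRing.HasFiniteTorDim A M) (K : Dual.D A) :
    (DRing.HasFiniteTorDimCx A K ↔ ∃ a b : ℤ, ∀ i : ℤ, i < a ∨ b < i → Subsingleton (Dual.HD A K i)) ∧
      (DRing.IsPerfect A K ↔
        (∃ a b : ℤ, ∀ i : ℤ, i < a ∨ b < i → Subsingleton (Dual.HD A K i)) ∧ DRing.IsPseudoCoherent' A K) := by
  have key : ∀ L : Dual.D A, DRing.HasFiniteTorDimCx A L ↔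
      ∃ a b : ℤ, ∀ i : ℤ, i < a ∨ b < i → Subsingleton (Dual.HD A L i) := fun L => by
    refine ⟨fun ⟨a, b, h⟩ => ⟨a, b, Agent.DRing.TorAmp.torAmp_boundedHD h⟩, fun ⟨a, b, hb⟩ => ?_⟩
    refine Agent.DRing.Devissage.of_cohomology (fun X => DRing.HasFiniteTorDimCx A X)
      (fun e ⟨a, b, h⟩ => ⟨a, b, Agent.DRing.TorAmp.torAmp_of_iso e h⟩)
      (fun X hX => ⟨0, 0, Agent.DRing.Perfect.torAmp_of_isZero hX 0 0⟩)
      (fun T hT => (Agent.DRing.Perfect.finiteTorDim_two_of_three hT).2.1) L hb fun i => ?_
    obtain ⟨d, hd⟩ := hA (Dual.HD A L i)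
    exact ⟨_, _, Agent.DRing.Perfect.torAmp_sgl ((Agent.DRing.TorBalance.hasTorDimLE_iff d _).1 hd)
      (rfl : -(d : ℤ) + i = _) (rfl : 0 + i = _)⟩
  exact ⟨key K, by rw [Agent.DRing.Perfect.perfect_iff, key K, and_comm]⟩

end Groth.Agent.S5612
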