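import Groth.Statements.S5613
-- import your own Groth.Agent.* helpers here

set_option autoImplicit false
universe v u
open CategoryTheory CategoryTheory.Limits CategoryTheory.Pretriangulated
open KZero
open scoped ZeroObject

namespace Groth.Agent.S5613

section

variable {C : Type u} [Category.{v} C] [Preadditive C] [HasZeroObject C]
    [HasShift C ℤ] [∀ n : ℤ, (shiftFunctor C n).Additive] [Pretriangulated C]

lemma cl_add {T : Triangle C} (hT : T ∈ distinguishedTriangles) :
    clTri T.obj₂ = clTri T.obj₁ + clTri T.obj₃ := by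
  simp only [KZero.clTri, ← QuotientAddGroup.mk_add]
  rw [QuotientAddGroup.eq_iff_sub_mem, sub_add_eq_sub_sub]
  exact AddSubgroup.subset_closure ⟨T, trivial, trivial, trivial, hT, rfl⟩

lemma cl_zero : clTri (0 : C) = 0 :=
  left_eq_add.1 (cl_add (contractible_distinguished (0 : C)))

lemma cl_iso {X Y : C} (e : X ≅ Y) : clTri Y = clTri X := by
  have h : clTri Y = clTri X + clTri (0 : C) := cl_add (isomorphic_distinguished _ (contractible_distinguished X)
    (Triangle.mk e.hom (0 : Y ⟶ 0) (0 : (0 : C) ⟶ (shiftFunctor C (1 : ℤ)).obj X))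
    (Triangle.isoMk _ _ (Iso.refl _) e.symm (Iso.refl _) (by change e.hom ≫ e.inv = 𝟙 X ≫ 𝟙 X; simp) ((isZero_zero C).eq_of_tgt _ _) ((isZero_zero C).eq_of_src _ _)))
  rw [h, cl_zero, add_zero]

lemma cl_shift_one (X : C) : clTri ((shiftFunctor C (1 : ℤ)).obj X) = - clTri X := by
  have h1 : clTri (0 : C) = clTri X + clTri ((shiftFunctor C (1 : ℤ)).obj X) :=
    cl_add (rot_of_distTriang _ (contractible_distinguished X))
  rw [cl_zero] at h1
  exact eq_neg_of_add_eq_zero_right h1.symm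

lemma cl_shift (X : C) (n : ℤ) : clTri ((shiftFunctor C n).obj X) = (Int.negOnePow n : ℤ) • clTri X := by
  induction n using Int.induction_on with
  | zero => simp [cl_iso ((shiftFunctorZero C ℤ).app X).symm]
  | succ n ih =>
    have e := (shiftFunctorAdd' C (n : ℤ) 1 ((n : ℤ) + 1) rfl).app X
    rw [← cl_iso e, Int.negOnePow_succ, Units.val_neg, neg_smul, ← ih]
    exact cl_shift_one _
  | pred n ih =>
    have e := (shiftFunctorAdd' C (-(n : ℤ) - 1) 1 (-(n : ℤ)) (sub_add_cancel _ _)).app X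
    have h2 := Int.negOnePow_succ (-(n : ℤ) - 1)
    rw [sub_add_cancel] at h2
    rw [h2, Units.val_neg, neg_smul] at ih
    have h3 : clTri ((shiftFunctor C (-(n : ℤ))).obj X) = - clTri ((shiftFunctor C (-(n : ℤ) - 1)).obj X) :=
      (cl_iso e).symm.trans (cl_shift_one _)
    rw [h3] at ih
    exact neg_injective ih

end

/-- Peeling off the first summand of a shift-periodic countable coproduct. -/
lemma exists_peel {C : Type u} [Category.{v} C] [HasZeroMorphisms C] [HasBinaryBiproducts C]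
    (f : ℕ → C) [HasCoproduct f] (F : C ⥤ C) [PreservesColimit (Discrete.functor f) F]
    (L : C) (e0 : f 0 ≅ L) (e : ∀ i, F.obj (f i) ≅ f (i + 1)) :
    Nonempty (L ⊞ F.obj (∐ f) ≅ ∐ f) := by
  have hF : IsColimit (Cofan.mk (F.obj (∐ f)) fun i => F.map (Sigma.ι f i)) :=
    isColimitCofanMkObjOfIsColimit F f _ (coproductIsCoproduct f)
  let g : F.obj (∐ f) ⟶ ∐ f := Cofan.IsColimit.desc hF fun i => (e i).hom ≫ Sigma.ι f (i + 1)
  have hg : ∀ i, F.map (Sigma.ι f i) ≫ g = (e i).hom ≫ Sigma.ι f (i + 1) :=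
    fun i => Cofan.IsColimit.fac hF _ i
  let h : ∀ i, f i ⟶ L ⊞ F.obj (∐ f) := fun i => match i with
    | 0 => e0.hom ≫ biprod.inl
    | i + 1 => (e i).inv ≫ F.map (Sigma.ι f i) ≫ biprod.inr
  refine ⟨⟨biprod.desc (e0.inv ≫ Sigma.ι f 0) g, Sigma.desc h, ?_, ?_⟩⟩
  · refine biprod.hom_ext' _ _ ?_ (Cofan.IsColimit.hom_ext hF _ _ fun i => ?_)
    · simp [h]
    · simp only [cofan_mk_inj, biprod.inr_desc_assoc, Category.comp_id, reassoc_of% hg i, Sigma.ι_desc]
      simp [h]
  · refine Sigma.hom_ext _ _ fun i => ?_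
    match i with
    | 0 => simp [h]
    | i + 1 => simp [h, hg i]


/-- Let C be a pretriangulated category, L an object of C and n an integer such that the coproduct ∐_{i
≥ 0} L⟦2ni⟧ exists in C. Then cl(L) = 0 in K₀(C). -/
theorem result {C : Type u} [Category.{v} C] [Preadditive C] [HasZeroObject C]
    [HasShift C ℤ] [∀ n : ℤ, (shiftFunctor C n).Additive] [Pretriangulated C]
    (L : C) (n : ℤ) [HasCoproduct (fun i : ℕ => (shiftFunctor C (2 * n * (i : ℤ))).obj L)] :
    KZero.clTri L = 0 := by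
  have key : ∀ (f : ℕ → C) [HasCoproduct f] (e0 : f 0 ≅ L) (_ : ∀ i, (shiftFunctor C (2 * n)).obj (f i) ≅ f (i + 1)),
      KZero.clTri L = 0 := fun f _ e0 e => by
    obtain ⟨φ⟩ := exists_peel f (shiftFunctor C (2 * n)) L e0 e
    have h1 := cl_add (binaryBiproductTriangle_distinguished L ((shiftFunctor C (2 * n)).obj (∐ f)))
    change clTri (L ⊞ (shiftFunctor C (2 * n)).obj (∐ f)) = clTri L + clTri ((shiftFunctor C (2 * n)).obj (∐ f)) at h1
    rw [← cl_iso φ, cl_shift, Int.negOnePow_two_mul, Units.val_one, one_smul] at h1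
    exact right_eq_add.1 h1
  exact key (fun i : ℕ => (shiftFunctor C (2 * n * (i : ℤ))).obj L)
    ((shiftFunctorZero' C (2 * n * ((0 : ℕ) : ℤ)) (by simp)).app L)
    fun i => ((shiftFunctorAdd' C (2 * n * (i : ℤ)) (2 * n) (2 * n * ((i + 1 : ℕ) : ℤ)) (by push_cast; rw [mul_add, mul_one])).app L).symm

end Groth.Agent.S5613
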