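import Groth.Statements.S5614
-- import your own Groth.Agent.* helpers here

set_option autoImplicit false
universe v u
open CategoryTheory CategoryTheory.Limits CategoryTheory.Pretriangulated
open KZero

namespace Groth.Agent.S5614

/-- Let C be a pretriangulated category and S a dense set of objects, meaning that every set of objects
which contains S and which contains the third vertex of a distinguished triangle as soon as it
contains the other two is all of C. Then K₀(C) is generated by the classes of the objects of S. -/
theorem result {C : Type u} [Category.{v} C] [Preadditive C] [HasZeroObject C]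
    [HasShift C ℤ] [∀ n : ℤ, (shiftFunctor C n).Additive] [Pretriangulated C]
    (S : Set C)
    (hdense : ∀ T : Set C, S ⊆ T →
      (∀ tr : Triangle C, tr ∈ distinguishedTriangles →
        (tr.obj₁ ∈ T → tr.obj₂ ∈ T → tr.obj₃ ∈ T) ∧ (tr.obj₁ ∈ T → tr.obj₃ ∈ T → tr.obj₂ ∈ T) ∧
          (tr.obj₂ ∈ T → tr.obj₃ ∈ T → tr.obj₁ ∈ T)) → T = Set.univ) :
    AddSubgroup.closure (KZero.clTri '' S) = (⊤ : AddSubgroup (KZero.K0tri C)) := by
  classical
  let G := AddSubgroup.closure (KZero.clTri '' S)
  have hadd : ∀ X : Triangle C, X ∈ distinguishedTriangles → KZero.clTri X.obj₂ = KZero.clTri X.obj₁ + KZero.clTri X.obj₃ := fun X hX => by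
    simp only [KZero.clTri, ← QuotientAddGroup.mk_add]
    rw [QuotientAddGroup.eq_iff_sub_mem, sub_add_eq_sub_sub]
    exact AddSubgroup.subset_closure ⟨X, trivial, trivial, trivial, hX, rfl⟩
  have hT : {X : C | KZero.clTri X ∈ G} = Set.univ := hdense _
    (fun X hX => AddSubgroup.subset_closure ⟨X, hX, rfl⟩) fun X hX => by
    have h := hadd X hX
    refine ⟨fun a b => ?_, fun a b => ?_, fun a b => ?_⟩
    · rw [Set.mem_setOf_eq] at a b ⊢
      exact (AddSubgroup.add_mem_cancel_left G a).1 (h ▸ b)
    · rw [Set.mem_setOf_eq] at a b ⊢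
      rw [h]; exact add_mem a b
    · rw [Set.mem_setOf_eq] at a b ⊢
      exact (AddSubgroup.add_mem_cancel_right G b).1 (h ▸ a)
  refine (AddSubgroup.eq_top_iff' _).2 fun c => ?_
  induction c using QuotientAddGroup.induction_on with
  | _ z =>
    induction z using FreeAbelianGroup.induction_on with
    | zero => exact zero_mem _
    | of X => exact (Set.eq_univ_iff_forall.1 hT X.1 : _)
    | neg z hz => rw [QuotientAddGroup.mk_neg]; exact neg_mem hz
    | add a b ha hb => rw [QuotientAddGroup.mk_add]; exact add_mem ha hb

end Groth.Agent.S5614
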