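import Groth.Statements.S5615
-- import your own Groth.Agent.* helpers here

set_option autoImplicit false
universe v u
open CategoryTheory CategoryTheory.Limits
open KZero

namespace Groth.Agent.S5615

/-- Let A be an abelian category and S a dense set of objects, meaning that every set of objects which
contains S and which contains the third term of a short exact sequence as soon as it contains the
other two is all of A. Then K₀(A) is generated by the classes of the objects of S. -/
theorem result {A : Type u} [Category.{v} A] [Abelian A] (S : Set A)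
    (hdense : ∀ T : Set A, S ⊆ T →
      (∀ X : ShortComplex A, X.ShortExact →
        (X.X₁ ∈ T → X.X₂ ∈ T → X.X₃ ∈ T) ∧ (X.X₁ ∈ T → X.X₃ ∈ T → X.X₂ ∈ T) ∧
          (X.X₂ ∈ T → X.X₃ ∈ T → X.X₁ ∈ T)) → T = Set.univ) :
    AddSubgroup.closure (KZero.cl '' S) = (⊤ : AddSubgroup (KZero.K0 A)) := by
  classical
  let G := AddSubgroup.closure (KZero.cl '' S)
  have hadd : ∀ X : ShortComplex A, X.ShortExact → KZero.cl X.X₂ = KZero.cl X.X₁ + KZero.cl X.X₃ := fun X hX => by
    simp only [KZero.cl, ← QuotientAddGroup.mk_add]
    rw [QuotientAddGroup.eq_iff_sub_mem, sub_add_eq_sub_sub]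
    exact AddSubgroup.subset_closure ⟨X, hX, rfl⟩
  have hT : {X : A | KZero.cl X ∈ G} = Set.univ := hdense _
    (fun X hX => AddSubgroup.subset_closure ⟨X, hX, rfl⟩) fun X hX => by
    have h := hadd X hX
    refine ⟨fun a b => ?_, fun a b => ?_, fun a b => ?_⟩
    · rw [Set.mem_setOf_eq] at a b ⊢
      exact (AddSubgroup.add_mem_cancel_left G a).1 (h ▸ b)
    · rw [Set.mem_setOf_eq] at a b ⊢
      rw [h]; exact add_mem a b
    · rw [Set.mem_setOf_eq] at a b ⊢
      exact (AddSubgroup.add_mem_cancel_right G b).1 (h ▸ a)
  refine (AddSubgroup.eq_top_iff' _).2 fun c => ?_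
  induction c using QuotientAddGroup.induction_on with
  | _ z =>
    induction z using FreeAbelianGroup.induction_on with
    | zero => exact zero_mem _
    | of X => exact (Set.eq_univ_iff_forall.1 hT X : _)
    | neg z hz => rw [QuotientAddGroup.mk_neg]; exact neg_mem hz
    | add a b ha hb => rw [QuotientAddGroup.mk_add]; exact add_mem ha hb

end Groth.Agent.S5615
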