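import Groth.Statements.S5616
import Groth.Agent.S1033
import Mathlib.Algebra.Homology.DerivedCategory.Ext.Map
import Mathlib.Algebra.Homology.DerivedCategory.Ext.ExactSequences

set_option autoImplicit false
universe w w' v v' u u'
open CategoryTheory CategoryTheory.Limits
open CohDer

namespace Groth.Agent.S5616

/-- Let φ : A ⥤ B be an exact functor of abelian categories and M an object of A. The following are
equivalent: (i) for every L in A and every n, the map Ext^n_A(L, M) → Ext^n_B(φ L, φ M) induced by φ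
is bijective; (ii) for every L the map Hom_A(L, M) → Hom_B(φ L, φ M) is bijective, and for every L,
every n ≥ 1 and every x ∈ Ext^n_B(φ L, φ M) there is an epimorphism L' ⟶ L of A such that x
precomposed with its image under φ vanishes. -/
theorem result
    {A : Type u} [Category.{v} A] [Abelian A] [HasExt.{w} A]
    {B : Type u'} [Category.{v'} B] [Abelian B] [HasExt.{w'} B]
    (φ : A ⥤ B) [φ.Additive] [PreservesFiniteLimits φ] [PreservesFiniteColimits φ] (M : A) :
    (∀ (L : A) (n : ℕ), Function.Bijective (fun f : Abelian.Ext.{w} L M n => Abelian.Ext.mapExactFunctor φ f)) ↔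
      ((∀ L : A, Function.Bijective (fun f : L ⟶ M => φ.map f)) ∧
        ∀ (L : A) (n : ℕ), 1 ≤ n → ∀ x : Abelian.Ext.{w'} (φ.obj L) (φ.obj M) n,
          ∃ (L' : A) (p : L' ⟶ L), Epi p ∧ (Abelian.Ext.mk₀ (φ.map p)).comp x (zero_add n) = 0) := by
  constructor
  · intro h
    refine ⟨fun L => ?_, fun L n hn x => ?_⟩
    · have e : (fun f : L ⟶ M => φ.map f) = Abelian.Ext.homEquiv₀ ∘
          (fun f => Abelian.Ext.mapExactFunctor φ f) ∘
            (Abelian.Ext.homEquiv₀ (X := L) (Y := M)).symm := by
        funext f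
        show φ.map f = Abelian.Ext.homEquiv₀ (Abelian.Ext.mapExactFunctor φ (Abelian.Ext.mk₀ f))
        rw [Abelian.Ext.mapExactFunctor_mk₀]
        exact (Abelian.Ext.homEquiv₀.apply_symm_apply (φ.map f)).symm
      rw [e]
      exact Abelian.Ext.homEquiv₀.bijective.comp ((h L 0).comp (Equiv.bijective _))
    · obtain ⟨e, rfl⟩ := (h L n).2 x
      obtain ⟨L', p, hp, hpe⟩ := Groth.Agent.S1033.exists_epi_comp_eq_zero (by omega) e
      refine ⟨L', p, hp, ?_⟩
      show (Abelian.Ext.mk₀ (φ.map p)).comp (Abelian.Ext.mapExactFunctor φ e) _ = 0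
      rw [← Abelian.Ext.mapExactFunctor_mk₀, ← Abelian.Ext.mapExactFunctor_comp, hpe,
        Abelian.Ext.mapExactFunctor_zero]
  · rintro ⟨h0, heff⟩ L n
    induction n generalizing L with
    | zero =>
      have e : (fun f : Abelian.Ext.{w} L M 0 => Abelian.Ext.mapExactFunctor φ f) =
          Abelian.Ext.homEquiv₀.symm ∘ (fun f : L ⟶ M => φ.map f) ∘
            (Abelian.Ext.homEquiv₀ (X := L) (Y := M)) := by
        funext f
        obtain ⟨g, rfl⟩ := (Abelian.Ext.mk₀_bijective L M).2 f
        show _ = Abelian.Ext.homEquiv₀.symm (φ.map (Abelian.Ext.homEquiv₀ (Abelian.Ext.mk₀ g)))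
        rw [show Abelian.Ext.homEquiv₀ (Abelian.Ext.mk₀ g) = g from
          Abelian.Ext.homEquiv₀.apply_symm_apply g, Abelian.Ext.mapExactFunctor_mk₀]
        rfl
      rw [e]
      exact (Equiv.bijective _).comp ((h0 L).comp (Equiv.bijective _))
    | succ n ih =>
      have key : ∀ {L' : A} (p : L' ⟶ L), Epi p →
          ∃ (N : A) (i : N ⟶ L') (w : i ≫ p = 0), (ShortComplex.mk i p w).ShortExact := fun p hp =>
        ⟨_, kernel.ι p, kernel.condition p, { exact := ShortComplex.exact_kernel p }⟩
      refine ⟨fun e₁ e₂ he => ?_, fun x => ?_⟩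
      · rw [← sub_eq_zero]
        set e := e₁ - e₂ with he'
        have hz : Abelian.Ext.mapExactFunctor φ e = 0 := by
          have := (φ.mapExtAddHom L M (n + 1)).map_sub e₁ e₂
          simp only [Functor.mapExtAddHom_apply] at this
          rw [he', this, sub_eq_zero]
          exact he
        obtain ⟨L', p, hp, hpe⟩ := Groth.Agent.S1033.exists_epi_comp_eq_zero (by omega) e
        obtain ⟨N, i, w, hS⟩ := key p hp
        obtain ⟨y, hy⟩ := Abelian.Ext.contravariant_sequence_exact₃ hS M e hpe (n₀ := n) (by omega)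
        rw [← hy, Abelian.Ext.mapExactFunctor_comp, Abelian.Ext.mapExactFunctor_extClass] at hz
        obtain ⟨z, hz'⟩ := Abelian.Ext.contravariant_sequence_exact₁ (hS.map_of_exact φ) (φ.obj M)
          (Abelian.Ext.mapExactFunctor φ y) (by omega) hz
        obtain ⟨z₀, rfl⟩ := (ih L').2 z
        have hy' : (Abelian.Ext.mk₀ i).comp z₀ (zero_add n) = y := (ih N).1 (by
          show Abelian.Ext.mapExactFunctor φ _ = _
          rw [Abelian.Ext.mapExactFunctor_comp, Abelian.Ext.mapExactFunctor_mk₀]
          exact hz')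
        rw [← hy, ← hy']
        exact hS.extClass_comp_assoc z₀
      · obtain ⟨L', p, hp, hpx⟩ := heff L (n + 1) (by omega) x
        obtain ⟨N, i, w, hS⟩ := key p hp
        obtain ⟨y, hy⟩ := Abelian.Ext.contravariant_sequence_exact₃ (hS.map_of_exact φ) (φ.obj M)
          x hpx (n₀ := n) (by omega)
        obtain ⟨y₀, rfl⟩ := (ih N).2 y
        refine ⟨hS.extClass.comp y₀ (by omega), ?_⟩
        show Abelian.Ext.mapExactFunctor φ _ = x
        rw [Abelian.Ext.mapExactFunctor_comp, Abelian.Ext.mapExactFunctor_extClass]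
        exact hy

end Groth.Agent.S5616
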