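import Groth.Statements.S5617
import Groth.Agent.DHA.PCohAPI

set_option autoImplicit false
universe w v u
open CategoryTheory CategoryTheory.Limits
open PCoh

namespace Groth.Agent.S5617

open Groth.Agent.DHA PCohQis PCohFT PCohCore PCohStability PCohLimit PCohAPI

/-- First assertion (punctual site): let C be an abelian category and C₀ a strictly full additive
subcategory, quasi-stable under kernels of epimorphisms and quasi-liftable, and n < m. If F ∈ D(C)
is n-pseudo-coherent and acyclic in degrees ≥ m, then F is isomorphic in D(C) to a strictly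
n-pseudo-coherent complex E with E^i = 0 for i ≥ m. -/
theorem result {C : Type u} [Category.{v} C] [Abelian C] [HasDerivedCategory.{w} C]
    (P : ObjectProperty C) [P.IsClosedUnderIsomorphisms] [P.ContainsZero] (hsum : ∀ X Y : C, P X → P Y → P (X ⨯ Y))
    (hqs : PCoh.IsQuasiStableUnderKernels P) (hql : PCoh.IsQuasiLiftable P)
    (n m : ℤ) (hnm : n < m) (F : DerivedCategory C) (hF : (∃ E : CochainComplex C ℤ, PCoh.IsStrictPC P n E ∧ Nonempty (DerivedCategory.Q.obj E ≅ F)))
    (hac : ∀ i : ℤ, m ≤ i → IsZero ((DerivedCategory.homologyFunctor C i).obj F)) :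
    ∃ E : CochainComplex C ℤ, PCoh.IsStrictPC P n E ∧ (∀ i : ℤ, m ≤ i → IsZero (E.X i)) ∧
      Nonempty (DerivedCategory.Q.obj E ≅ F) := by
  have hFT := topFT_of_quasiStable hqs
  obtain ⟨X, ⟨e⟩⟩ := exists_model F
  have hX : PCn P n (DerivedCategory.Q.obj X) := PCn.of_iso hF e.symm
  obtain ⟨E, v, u, -, hE, hu, -, hiso⟩ := exists_factor hsum hql (good_of_pcn hsum hql hFT hX) _
    (isStrictPC_of_all isStrictPCAll_zero n)
    (isQisN_zero (fun i hi => isZero_homology_model e (hac i hi)))
  have : IsIso (DerivedCategory.Q.map u) :=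
    (DerivedCategory.isIso_Q_map_iff_quasiIso (C := C) u).2 hu
  refine ⟨E, hE, fun i hi => ?_, ⟨asIso (DerivedCategory.Q.map u) ≪≫ e⟩⟩
  have := hiso i hi
  exact (isZero_zero_X i).of_iso (asIso (v.f i)).symm

end Groth.Agent.S5617
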