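import Groth.Statements.S5620
import Groth.Agent.DHA.PCohDevissage
import Mathlib.CategoryTheory.Triangulated.Functor

set_option autoImplicit false
universe w v u w' v' u'
open CategoryTheory CategoryTheory.Limits
open PCoh

namespace Groth.Agent.S5620

open CategoryTheory.Limits Groth.Agent.DHA PCohQis PCohFT PCohCore PCohStability PCohAPI PCohDevissage

/-- Let (C, C₀) and (C', C₀') be abelian categories with strictly full additive subcategories, each
quasi-stable under kernels of epimorphisms and quasi-liftable, and let u : D(C) ⥤ D(C') be a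
triangulated functor. Suppose there are integers a, b such that (i) for every E in C₀ the object
u(E[0]) is a-pseudo-coherent relative to C₀', and (ii) u sends objects acyclic in degrees > 0 to
objects acyclic in degrees > b. Then if F ∈ D(C) is m-pseudo-coherent and acyclic in degrees > n,
u(F) is max(m + b, n + a)-pseudo-coherent relative to C₀' and acyclic in degrees > n + b. (The
source lets u be defined on D^+, D^- or D^b; here u is defined on all of D(C).) -/
theorem result {C : Type u} [Category.{v} C] [Abelian C] [HasDerivedCategory.{w} C]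
    (P : ObjectProperty C) [P.IsClosedUnderIsomorphisms] [P.ContainsZero] (hsum : ∀ X Y : C, P X → P Y → P (X ⨯ Y))
    (hqs : PCoh.IsQuasiStableUnderKernels P) (hql : PCoh.IsQuasiLiftable P)
    {C' : Type u'} [Category.{v'} C'] [Abelian C'] [HasDerivedCategory.{w'} C']
    (P' : ObjectProperty C') [P'.IsClosedUnderIsomorphisms] [P'.ContainsZero] (hsum' : ∀ X Y : C', P' X → P' Y → P' (X ⨯ Y))
    (hqs' : PCoh.IsQuasiStableUnderKernels P') (hql' : PCoh.IsQuasiLiftable P')
    (u : DerivedCategory C ⥤ DerivedCategory C') [u.CommShift ℤ] [u.IsTriangulated] (a b : ℤ)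
    (hi : ∀ E : C, P E → ∃ E' : CochainComplex C' ℤ, PCoh.IsStrictPC P' a E' ∧
      Nonempty (DerivedCategory.Q.obj E' ≅ u.obj ((DerivedCategory.singleFunctor C 0).obj E)))
    (hii : ∀ F : DerivedCategory C, (∀ i : ℤ, 0 < i → IsZero ((DerivedCategory.homologyFunctor C i).obj F)) →
      ∀ i : ℤ, b < i → IsZero ((DerivedCategory.homologyFunctor C' i).obj (u.obj F)))
    (m n : ℤ) (F : DerivedCategory C) (hF : (∃ E : CochainComplex C ℤ, PCoh.IsStrictPC P m E ∧ Nonempty (DerivedCategory.Q.obj E ≅ F)))
    (hac : ∀ i : ℤ, n < i → IsZero ((DerivedCategory.homologyFunctor C i).obj F)) :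
    (∃ E' : CochainComplex C' ℤ, PCoh.IsStrictPC P' (max (m + b) (n + a)) E' ∧ Nonempty (DerivedCategory.Q.obj E' ≅ u.obj F)) ∧
      ∀ i : ℤ, n + b < i → IsZero ((DerivedCategory.homologyFunctor C' i).obj (u.obj F)) := by
  have hFT := topFT_of_quasiStable hqs
  have hFT' := topFT_of_quasiStable hqs'
  have hshift : ∀ (X : DerivedCategory C) (s i : ℤ),
      Nonempty ((DerivedCategory.homologyFunctor C i).obj (X⟦s⟧) ≅
        (DerivedCategory.homologyFunctor C (s + i)).obj X) :=
    fun X s i => ⟨((DerivedCategory.homologyFunctor _ 0).shiftIso s i (s + i) rfl).app X⟩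
  have hshift' : ∀ (X : DerivedCategory C') (s i : ℤ),
      Nonempty ((DerivedCategory.homologyFunctor C' i).obj (X⟦s⟧) ≅
        (DerivedCategory.homologyFunctor C' (s + i)).obj X) :=
    fun X s i => ⟨((DerivedCategory.homologyFunctor _ 0).shiftIso s i (s + i) rfl).app X⟩
  have hvan : ∀ (G : DerivedCategory C) (k : ℤ),
      (∀ i, k < i → IsZero ((DerivedCategory.homologyFunctor C i).obj G)) →
      ∀ i, k + b < i → IsZero ((DerivedCategory.homologyFunctor C' i).obj (u.obj G)) := by
    intro G k hG i hi
    have h := hii (G⟦k⟧) (fun j hj => (hG (k + j) (by omega)).of_iso (hshift G k j).some) (i - k)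
      (by omega)
    have h' := h.of_iso ((DerivedCategory.homologyFunctor C' (i - k)).mapIso
      ((u.commShiftIso k).app G)).symm
    have h'' := h'.of_iso (hshift' (u.obj G) k (i - k)).some.symm
    rwa [show k + (i - k) = i by omega] at h''
  refine ⟨?_, hvan F n hac⟩
  obtain ⟨X, ⟨e⟩⟩ := exists_model F
  obtain ⟨E, α, hα, hE, hz⟩ := exists_strictPerfect hsum hql
    (good_of_pcn hsum hql hFT (PCn.of_iso hF e.symm)) n
    (fun i hi => isZero_homology_model e (hac i hi))
  have hC : ∀ i, m - 1 < i → IsZero ((DerivedCategory.homologyFunctor C i).obj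
      (DerivedCategory.Q.obj (CochainComplex.mappingCone α))) := fun i hi =>
    (isZero_homology_cone hα i (by omega)).of_iso (homologyIso _ i)
  have huC : PCn P' (max (m + b) (n + a))
      (u.obj (DerivedCategory.Q.obj (CochainComplex.mappingCone α))) :=
    pcn_of_isZero_homology hsum' hql' hFT' _ fun i hi => hvan _ _ hC i (by omega)
  let R : ObjectProperty (DerivedCategory C) := fun G => PCn P' (max (m + b) (n + a)) (u.obj G)
  have : R.IsClosedUnderIsomorphisms := ⟨fun e' h' => PCn.of_iso h' (u.mapIso e')⟩
  have huE : R (DerivedCategory.Q.obj E) := by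
    refine DInduction.mem_of_terms R
      (fun T hT h₁ h₃ => pcn_obj₂ hsum' hql' hFT' _ (u.map_distinguished T hT) h₁ h₃) m
      (fun Y hY => pcn_of_isZero_homology hsum' hql' hFT' _ fun i hi => ?_) E
      (max m (n + 1) - 1) (fun i hi => hz i (Or.inr (by omega))) (fun i hmi hib => ?_)
    · exact hvan _ (m - 1) (fun j hj =>
        (isZero_homology_of_isZero_X Y j (hY j (by omega))).of_iso (homologyIso Y j)) i (by omega)
    · obtain ⟨E', hE', ⟨e'⟩⟩ := hi (E.X i) (hE i)
      have hp := (pcn_shift (show PCn P' a _ from ⟨E', hE', ⟨e'⟩⟩) (-i)).mono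
        (show a - -i ≤ max (m + b) (n + a) by omega)
      exact PCn.of_iso hp (((u.commShiftIso (-i)).app _).symm ≪≫
        u.mapIso (((DerivedCategory.singleFunctors C).shiftIso (-i) i 0 (by omega)).app (E.X i)))
  exact PCn.of_iso (pcn_obj₂ hsum' hql' hFT' _
    (u.map_distinguished _ (DerivedCategory.mappingCone_triangle_distinguished α))
    huE huC) (u.mapIso e)

end Groth.Agent.S5620
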