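import Groth.Statements.S5622
import Groth.Agent.DHA.PCohPerfect

set_option autoImplicit false
universe w v u
open CategoryTheory CategoryTheory.Limits
open PCoh

namespace Groth.Agent.S5622

open CategoryTheory.Limits Groth.Agent.DHA PCohQis PCohFT PCohCore PCohStability PCohAPI PCohPerfect

/-- Let C be an abelian category and C₀ a strictly full additive subcategory, liftable and stable under
kernels of epimorphisms, and a ≤ b. For F', F'' in D(C): (i) ⇒ (ii), where (i) says F' and F'' have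
perfect amplitude in [a, b] (each isomorphic to a strictly perfect complex vanishing outside [a, b])
and (ii) says F' ⊞ F'' does; and (ii) ⇒ (i) when C₀ is stable under direct factors. -/
theorem result {C : Type u} [Category.{v} C] [Abelian C] [HasDerivedCategory.{w} C]
    (P : ObjectProperty C) [P.IsClosedUnderIsomorphisms] [P.ContainsZero] (hsum : ∀ X Y : C, P X → P Y → P (X ⨯ Y))
    (hlift : ∀ (E F : C) (u : E ⟶ F), Epi u → P F → IsSplitEpi u)
    (hst : ∀ (E F : C) (u : E ⟶ F), Epi u → P E → P F → P (kernel u))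
    (a b : ℤ) (hab : a ≤ b) (F' F'' : DerivedCategory C) [HasBinaryBiproduct F' F''] :
    (((∃ E : CochainComplex C ℤ, (∀ i : ℤ, P (E.X i)) ∧ (∀ i : ℤ, i < a ∨ b < i → IsZero (E.X i)) ∧ Nonempty (DerivedCategory.Q.obj E ≅ F')) ∧ (∃ E : CochainComplex C ℤ, (∀ i : ℤ, P (E.X i)) ∧ (∀ i : ℤ, i < a ∨ b < i → IsZero (E.X i)) ∧ Nonempty (DerivedCategory.Q.obj E ≅ F''))) →
        (∃ E : CochainComplex C ℤ, (∀ i : ℤ, P (E.X i)) ∧ (∀ i : ℤ, i < a ∨ b < i → IsZero (E.X i)) ∧ Nonempty (DerivedCategory.Q.obj E ≅ (F' ⊞ F'')))) ∧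
      ((∀ (E' E'' : C) [HasBinaryBiproduct E' E''], P (E' ⊞ E'') → P E' ∧ P E'') →
        (∃ E : CochainComplex C ℤ, (∀ i : ℤ, P (E.X i)) ∧ (∀ i : ℤ, i < a ∨ b < i → IsZero (E.X i)) ∧ Nonempty (DerivedCategory.Q.obj E ≅ (F' ⊞ F''))) →
          (∃ E : CochainComplex C ℤ, (∀ i : ℤ, P (E.X i)) ∧ (∀ i : ℤ, i < a ∨ b < i → IsZero (E.X i)) ∧ Nonempty (DerivedCategory.Q.obj E ≅ F')) ∧ (∃ E : CochainComplex C ℤ, (∀ i : ℤ, P (E.X i)) ∧ (∀ i : ℤ, i < a ∨ b < i → IsZero (E.X i)) ∧ Nonempty (DerivedCategory.Q.obj E ≅ F''))) := by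
  have hql : PCoh.IsQuasiLiftable P := quasiLiftable hlift
  have hFT : TopFT P := topFT hst
  have := preservesBinaryBiproducts_of_preservesBiproducts (DerivedCategory.Q (C := C))
  constructor
  · rintro ⟨⟨E₁, hP₁, hz₁, ⟨e₁⟩⟩, ⟨E₂, hP₂, hz₂, ⟨e₂⟩⟩⟩
    refine ⟨E₁ ⊞ E₂, fun i => P.prop_of_iso (HomologicalComplex.biprodXIso E₁ E₂ i).symm
      (FiniteType.biprod_mem hsum (hP₁ i) (hP₂ i)), fun i hi => ?_,
      ⟨DerivedCategory.Q.mapBiprod E₁ E₂ ≪≫ biprod.mapIso e₁ e₂⟩⟩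
    exact IsZero.of_iso (by
      rw [IsZero.iff_id_eq_zero]
      exact biprod.hom_ext' _ _ ((hz₁ i hi).eq_of_src _ _) ((hz₂ i hi).eq_of_src _ _))
      (HomologicalComplex.biprodXIso E₁ E₂ i)
  · intro hdf ⟨E, hEP, hEz, ⟨e⟩⟩
    have hpc : ∀ m, PCn P m (F' ⊞ F'') := fun m =>
      ⟨E, ⟨⟨b, fun i hi => hEz i (Or.inr hi)⟩, fun i _ => hEP i⟩, ⟨e⟩⟩
    have hzero : ∀ i, i < a ∨ b < i →
        IsZero ((DerivedCategory.homologyFunctor C i).obj (F' ⊞ F'')) := fun i hi =>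
      ((isZero_homology_of_isZero_X E i (hEz i hi)).of_iso (homologyIso E i)).of_iso
        ((DerivedCategory.homologyFunctor C i).mapIso e.symm)
    have key : ∀ (X : DerivedCategory C) (ι : X ⟶ F' ⊞ F''), Mono ι → IsSplitMono ι →
        (∀ m, PCn P m X) → ∃ G : CochainComplex C ℤ, PCoh.IsStrictPCAll P G ∧
          (∀ i, b < i → IsZero (G.X i)) ∧ G.IsGE a ∧
            Nonempty (DerivedCategory.Q.obj G ≅ X) := by
      intro X ι _ _ hX
      have hXz : ∀ i, i < a ∨ b < i → IsZero ((DerivedCategory.homologyFunctor C i).obj X) :=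
        fun i hi => IsZero.of_mono_eq_zero ((DerivedCategory.homologyFunctor C i).map ι)
          ((hzero i hi).eq_of_tgt _ _)
      obtain ⟨X', ⟨x⟩⟩ := exists_model X
      obtain ⟨G, g, hG, hGz, hg⟩ := exists_all_resolution hsum hql hFT (X := X')
        (fun m => (hX m).of_iso x.symm) (b + 1)
        (fun i hi => isZero_homology_model x (hXz i (Or.inr (by omega))))
      have : IsIso (DerivedCategory.Q.map g) :=
        (DerivedCategory.isIso_Q_map_iff_quasiIso (C := C) g).2 hg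
      refine ⟨G, hG, fun i hi => hGz i (by omega), ?_, ⟨asIso (DerivedCategory.Q.map g) ≪≫ x⟩⟩
      rw [CochainComplex.isGE_iff]
      intro i hi
      rw [HomologicalComplex.exactAt_iff_isZero_homology]
      exact isZero_homology_model (asIso (DerivedCategory.Q.map g) ≪≫ x) (hXz i (Or.inl hi))
    obtain ⟨G₁, hG₁, hz₁, hge₁, ⟨e₁⟩⟩ := key F' biprod.inl inferInstance inferInstance
      (fun m => (pcn_of_biprod hsum hql hFT (hpc m)).1)
    obtain ⟨G₂, hG₂, hz₂, hge₂, ⟨e₂⟩⟩ := key F'' biprod.inr inferInstance inferInstance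
      (fun m => (pcn_of_biprod hsum hql hFT (hpc m)).2)
    have hG : PCoh.IsStrictPCAll P (G₁ ⊞ G₂) := by
      refine ⟨⟨b, fun i hi => IsZero.of_iso ?_ (HomologicalComplex.biprodXIso G₁ G₂ i)⟩, fun i =>
        P.prop_of_iso (HomologicalComplex.biprodXIso G₁ G₂ i).symm
          (FiniteType.biprod_mem hsum (hG₁.2 i) (hG₂.2 i))⟩
      rw [IsZero.iff_id_eq_zero]
      exact biprod.hom_ext' _ _ ((hz₁ i hi).eq_of_src _ _) ((hz₂ i hi).eq_of_src _ _)
    obtain ⟨hop, -⟩ := model hsum hlift hst hG (a := a) (b := b) ⟨E, hEP, hEz,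
      ⟨e ≪≫ (DerivedCategory.Q.mapBiprod G₁ G₂ ≪≫ biprod.mapIso e₁ e₂).symm⟩⟩
    have : (HomologicalComplex.opcyclesFunctor C (ComplexShape.up ℤ) a).Additive :=
      ⟨fun {X Y f g} => by
        simp only [HomologicalComplex.opcyclesFunctor, ← cancel_epi (X.pOpcycles a)]; erw [Preadditive.comp_add]; simp⟩
    have := preservesBinaryBiproducts_of_preservesBiproducts (HomologicalComplex.opcyclesFunctor C (ComplexShape.up ℤ) a)
    obtain ⟨h₁, h₂⟩ := hdf (G₁.opcycles a) (G₂.opcycles a)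
      (P.prop_of_iso ((HomologicalComplex.opcyclesFunctor C (ComplexShape.up ℤ) a).mapBiprod G₁ G₂) hop)
    obtain ⟨E₁, hE₁⟩ := amp_of_opcycles (P := P) hab hG₁ hz₁ h₁
    obtain ⟨E₂, hE₂⟩ := amp_of_opcycles (P := P) hab hG₂ hz₂ h₂
    exact ⟨⟨E₁, hE₁.1, hE₁.2.1, ⟨hE₁.2.2.some ≪≫ e₁⟩⟩, ⟨E₂, hE₂.1, hE₂.2.1, ⟨hE₂.2.2.some ≪≫ e₂⟩⟩⟩

end Groth.Agent.S5622
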