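import Groth.Statements.S5625
import Groth.Agent.QCohGen.Closed
import Groth.Agent.QCoh.Qcqs
import Groth.Agent.QCoh.Pullback
import Mathlib.CategoryTheory.Adjunction.FullyFaithful
import Mathlib.CategoryTheory.Adjunction.Unique
import Mathlib.CategoryTheory.Adjunction.Restrict

set_option autoImplicit false
universe u
open CategoryTheory AlgebraicGeometry
open QCohCat

namespace Groth.Agent.S5625

/-- Let f : X ⟶ Y be a morphism of quasi-compact quasi-separated schemes and Q_X, Q_Y coherators (right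
adjoints of the inclusions QCoh ⥤ Mod) on X and Y. Then Q_Y ∘ f_* and f_* ∘ Q_X agree: the two
composite functors Mod(O_X) ⥤ Mod(O_Y) are naturally isomorphic (existence of a natural isomorphism;
the source's isomorphism is the canonical one between two right adjoints of the same functor). -/
theorem result {X Y : Scheme.{u}} [CompactSpace X] [QuasiSeparatedSpace X]
    [CompactSpace Y] [QuasiSeparatedSpace Y] (f : X ⟶ Y)
    (QX : X.Modules ⥤ QCohCat.QCoh X) (adjX : (QCohCat.isQCoh X).ι ⊣ QX)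
    (QY : Y.Modules ⥤ QCohCat.QCoh Y) (adjY : (QCohCat.isQCoh Y).ι ⊣ QY) :
    Nonempty ((QX ⋙ (QCohCat.isQCoh X).ι ⋙ Scheme.Modules.pushforward f) ≅
      (Scheme.Modules.pushforward f ⋙ QY ⋙ (QCohCat.isQCoh Y).ι)) := by
  have : QuasiCompact f := quasiCompact_of_compactSpace f
  have : QuasiSeparated f := QuasiSeparated.of_quasiSeparatedSpace f
  let FQ : QCohCat.QCoh X ⥤ QCohCat.QCoh Y :=
    (QCohCat.isQCoh Y).lift ((QCohCat.isQCoh X).ι ⋙ Scheme.Modules.pushforward f) fun M ↦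
      @Groth.Agent.QCoh.isQuasicoherent_pushforward _ _ f inferInstance inferInstance M.obj M.property
  let GQ : QCohCat.QCoh Y ⥤ QCohCat.QCoh X :=
    (QCohCat.isQCoh X).lift ((QCohCat.isQCoh Y).ι ⋙ Scheme.Modules.pullback f) fun M ↦
      @Groth.Agent.QCoh.isQuasicoherent_pullback _ _ f M.obj M.property
  let adjQ : GQ ⊣ FQ := (Scheme.Modules.pullbackPushforwardAdjunction f).restrictFullyFaithful
    (QCohCat.isQCoh Y).fullyFaithfulι (QCohCat.isQCoh X).fullyFaithfulι (Iso.refl _) (Iso.refl _)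
  let a₁ : GQ ⋙ (QCohCat.isQCoh X).ι ⊣ QX ⋙ FQ := adjQ.comp adjX
  let a₂ : (QCohCat.isQCoh Y).ι ⋙ Scheme.Modules.pullback f ⊣ Scheme.Modules.pushforward f ⋙ QY :=
    adjY.comp (Scheme.Modules.pullbackPushforwardAdjunction f)
  let a₁' : (QCohCat.isQCoh Y).ι ⋙ Scheme.Modules.pullback f ⊣ QX ⋙ FQ := a₁.ofNatIsoLeft (Iso.refl _)
  exact ⟨Functor.isoWhiskerRight (a₁'.rightAdjointUniq a₂) (QCohCat.isQCoh Y).ι⟩

end Groth.Agent.S5625
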