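import Groth.Statements.S5626
import Groth.Agent.PerfTri.Betti
import Groth.Agent.CohDev.Key
-- import your own Groth.Agent.* helpers here

set_option autoImplicit false
universe u
open CategoryTheory CategoryTheory.Limits AlgebraicGeometry
open FlatMod

namespace Groth.Agent.S5626

/-- For the Zariski topos of a scheme (a special case of both hypotheses (i) and (ii) there): on a
scheme X, a direct summand of a finite free O_X-module is finite locally free. Here M is a direct
summand of O_X^n in the sense that M ⊞ N ≅ O_X^n for some module N. -/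
theorem result {X : Scheme.{u}} (M N : X.Modules) [HasBinaryBiproduct M N] (n : ℕ)
    (e : M ⊞ N ≅ FlatMod.freeMod X n) :
    FlatMod.IsFinLocFree M := by
  let F := FlatMod.freeMod X n
  let i : M ⟶ F := biprod.inl ≫ e.hom
  let p : F ⟶ M := e.inv ≫ biprod.fst
  have hip : i ≫ p = 𝟙 M := by simp [i, p]
  haveI : F.IsQuasicoherent := Groth.Agent.PerfTri.Betti.isQuasicoherent_freeMod X n
  haveI : Mono i := SplitMono.mono ⟨p, hip⟩
  haveI : M.IsQuasicoherent := by
    haveI : IsSplitMono i := IsSplitMono.mk' ⟨p, hip⟩
    have hM : IsLimit (KernelFork.ofι (f := 𝟙 F - p ≫ i) i (by simp [Preadditive.comp_sub, reassoc_of% hip])) :=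
      KernelFork.IsLimit.ofι _ _ (fun g hg => g ≫ p)
        (fun g hg => by
          rw [Preadditive.comp_sub, Category.comp_id, sub_eq_zero] at hg
          rw [Category.assoc]; exact hg.symm)
        (fun g hg m hm => by rw [← hm, Category.assoc, hip, Category.comp_id])
    exact @Groth.Agent.QCoh.isQuasicoherent_of_iso X _ _
      ((kernelIsKernel (𝟙 F - p ≫ i)).conePointUniqueUpToIso hM)
      (Groth.Agent.QCoh.isQuasicoherent_kernel (𝟙 F - p ≫ i))
  have hfree : FlatMod.IsFinLocFree F :=
    fun _ => ⟨⊤, n, trivial, ⟨Groth.Agent.PerfTri.LocalLift.freeRestrIso _ n⟩⟩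
  have hstalk : ∀ x, Module.Free (X.presheaf.stalk x) (M.presheaf.stalk x) := fun x => by
    obtain ⟨hf₁, hf₂⟩ := Groth.Agent.Props.QProj.free_stalk F hfree x
    have hc : (Groth.Agent.PullStalk.Exact.stalkLin p x).comp (Groth.Agent.PullStalk.Exact.stalkLin i x) =
        LinearMap.id := LinearMap.ext fun t => by
      rw [LinearMap.comp_apply, ← Groth.Agent.CohDev.stalkLin_comp_apply, hip,
        Groth.Agent.CohDev.stalkLin_id_apply]
      rfl
    haveI : Module.Projective (X.presheaf.stalk x) (M.presheaf.stalk x) :=
      Module.Projective.of_split _ _ hc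
    haveI : Module.Finite (X.presheaf.stalk x) (M.presheaf.stalk x) :=
      Module.Finite.of_surjective (Groth.Agent.PullStalk.Exact.stalkLin p x)
        fun t => ⟨_, LinearMap.congr_fun hc t⟩
    exact Module.free_of_flat_of_isLocalRing
  refine Groth.Agent.Props.QProj.isFinLocFree_of M (fun x => ?_) hstalk
  obtain ⟨U, hU, hxU, -⟩ := exists_isAffineOpen_mem_and_subset (TopologicalSpace.Opens.mem_top x)
  refine ⟨U, hU, hxU, ?_⟩
  have hc : (Groth.Agent.CohDev.appLin p U).comp (Groth.Agent.CohDev.appLin i U) = LinearMap.id :=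
    LinearMap.ext fun t => by
      change p.app U (i.app U t) = t
      rw [← ConcreteCategory.comp_apply, ← Scheme.Modules.Hom.comp_app, hip]
      rfl
  have := Groth.Agent.Props.QProj.finitePresentation_sections F hfree hU
  have := Groth.Agent.Props.QProj.projective_sections F hfree hU
  haveI : Module.Projective Γ(X, U) Γ(M, U) := Module.Projective.of_split _ _ hc
  haveI : Module.Finite Γ(X, U) Γ(M, U) :=
    Module.Finite.of_surjective (Groth.Agent.CohDev.appLin p U) fun t => ⟨_, LinearMap.congr_fun hc t⟩
  exact Module.finitePresentation_of_projective _ _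

end Groth.Agent.S5626
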