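import Groth.Statements.S5630
import Groth.Agent.RpushAmp.Local
import Groth.Agent.PCohD.RelCohNoeth
import Groth.Agent.PCohD.PerfAmp
import Groth.Agent.KFlat.SchemeTor

set_option autoImplicit false
universe u
open CategoryTheory CategoryTheory.Limits AlgebraicGeometry
attribute [local instance] HasDerivedCategory.standard
open KSix

namespace Groth.Agent.S5630

/-- Over the base S = Y and for f flat: let f : X ⟶ Y be flat, quasi-compact and quasi-separated with Y
quasi-compact, and let N be an integer such that R^i f_* F = 0 for all i > N and all quasi-coherent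
O_X-modules F. If E ∈ D^b(O_X) has quasi-coherent cohomology and flat amplitude in [a, b] relative
to Y (represented by a complex of Y-flat modules placed in [a, b]), then Rf_* E has tor amplitude in
[a, b + N] on Y. (The source allows any S-morphism f and tor amplitude relative to S; the relative
notion used here is the flat-representative one, adequate for flat f.) -/
theorem result {X Y : Scheme.{u}} (f : X ⟶ Y) [Flat f] [QuasiCompact f] [QuasiSeparated f]
    [CompactSpace Y] [DCoh.HasRpush f] (N : ℕ)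
    (hN : ∀ (F : X.Modules), QCohCat.isQCoh X F →
      ∀ i : ℤ, (N : ℤ) < i → IsZero (DCoh.HD ((DCoh.Rpush f).obj (DCoh.inD X F)) i))
    (E : DCoh.D X) (hqc : DCoh.IsQCohD E) (c d : ℤ) [E.IsGE c] [E.IsLE d]
    (a b : ℤ) (hE : DCoh.HasRelFlatAmplitudeIn f a b E) :
    DCoh.HasTorAmplitudeIn a (b + N) ((DCoh.Rpush f).obj E) := by
  obtain ⟨E', hv, hfl, ⟨e⟩⟩ := hE
  let R := DerivedCategory.Q.objPreimage ((DCoh.Rpush f).obj E)
  let eR : DCoh.toD Y R ≅ (DCoh.Rpush f).obj E := DerivedCategory.Q.objObjPreimageIso _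
  have hF : DerSch.HasTorAmplitude (f ≫ 𝟙 Y) a b E' := by
    rw [Category.comp_id]
    exact fun z => ⟨(DerSch.stalkCxOver f z).obj E', fun j hj => (DerSch.stalkOver f z).map_isZero (hv j hj),
      fun j => hfl j z, ⟨Iso.refl _⟩⟩
  have hq' : DCoh.IsQCohD (DCoh.toD X E') := Groth.Agent.KFlat.QCohModel.isQCohD_of_iso e.symm hqc
  let eR' : DCoh.toD Y R ≅ (DCoh.Rpush f).obj (DCoh.toD X E') := eR ≪≫ (DCoh.Rpush f).mapIso e.symm
  have hN' : Groth.Agent.RpushAmp.Bound f N := Groth.Agent.RpushAmp.bound_of_sheaf f N fun M hM => hN M hM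
  have h := Groth.Agent.RpushAmp.hasTorAmplitude_Rpush_bound f (𝟙 Y) N hN' E' hq' a b hF R eR'
  have : (DCoh.toD X E').IsGE a := (DerivedCategory.isGE_iff _ a).2 fun i hi =>
    (Groth.Agent.RpushAmp.bounds_of_amp (f ≫ 𝟙 Y) E' a b hF i (Or.inl hi)).of_iso
      ((DerivedCategory.homologyFunctorFactors _ i).app E')
  have : (DCoh.toD X E').IsLE b := (DerivedCategory.isLE_iff _ b).2 fun i hi =>
    (Groth.Agent.RpushAmp.bounds_of_amp (f ≫ 𝟙 Y) E' a b hF i (Or.inr hi)).of_iso
      ((DerivedCategory.homologyFunctorFactors _ i).app E')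
  have hle := hN' (DCoh.toD X E') a b hq' inferInstance inferInstance
  have : (DCoh.toD Y R).IsLE (b + N) := (DerivedCategory.isLE_iff _ _).2 fun i hi =>
    (DerivedCategory.isZero_of_isLE _ (b + (N : ℤ)) i hi).of_iso
      ((DerivedCategory.homologyFunctor _ i).mapIso eR')
  exact Groth.Agent.KFlat.SchemeTor.torAmp_of_flatAmp (Groth.Agent.PCohD.PerfTor.flatAmp_of_iso eR
    ((Groth.Agent.PCohD.PerfAmp.flatAmp_iff_stalk R (b + N) a (b + N)).2
      ((Groth.Agent.PCohD.PerfAmp.hasTorAmplitude_id_iff R a _).1 h)))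

end Groth.Agent.S5630
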