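import Groth.Statements.S5633
import Groth.Agent.NumTriv.Section
-- import your own Groth.Agent.* helpers here

set_option autoImplicit false
universe u
open CategoryTheory CategoryTheory.Limits AlgebraicGeometry
open Pic13

namespace Groth.Agent.S5633

/-- Let k be an algebraically closed field, Y a proper k-scheme with an ample invertible module H, φ a
global section of H and X ⊆ Y its zero scheme. Assume that for every irreducible component Y' of Y,
every irreducible component of Y' ∩ X has dimension ≥ 2. Then an invertible O_Y-module whose
restriction to X is numerically equivalent to zero (degree 0 on every integral closed curve of X) is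
numerically equivalent to zero on Y; that is, restriction of invertible modules modulo numerical
equivalence from Y to X is injective. -/
theorem result (k : Type u) [Field k] [IsAlgClosed k] (Y : Scheme.{u}) [Y.Over (Spec (CommRingCat.of k))]
    [IsProper (Y ↘ Spec (CommRingCat.of k))] (H : Y.Modules) (hH : CohB1.IsAmple H) (φ : Coh.structureModule Y ⟶ H)
    (hdim : ∀ Z ∈ irreducibleComponents (Y : Type u),
      ∀ W ∈ irreducibleComponents ↥(Z ∩ Set.range (PicF2.zeroScheme H φ).subschemeι.base), 2 ≤ topologicalKrullDim ↥W)
    (L : Y.Modules) (hL : PicF.IsInvertible L)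
    (hnum : @Pic13.IsNumEquivZero k _ (PicF2.zeroScheme H φ).subscheme
      ⟨(PicF2.zeroScheme H φ).subschemeι ≫ (Y ↘ Spec (CommRingCat.of k))⟩
      ((Scheme.Modules.pullback (PicF2.zeroScheme H φ).subschemeι).obj L)) :
    Pic13.IsNumEquivZero k Y L := by
  letI : (PicF2.zeroScheme H φ).subscheme.Over (Spec (CommRingCat.of k)) :=
    ⟨(PicF2.zeroScheme H φ).subschemeι ≫ (Y ↘ Spec (CommRingCat.of k))⟩
  haveI : IsProper ((PicF2.zeroScheme H φ).subscheme ↘ Spec (CommRingCat.of k)) :=
    inferInstanceAs (IsProper ((PicF2.zeroScheme H φ).subschemeι ≫ (Y ↘ Spec (CommRingCat.of k))))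
  exact Groth.Agent.NumTriv.Section.isNumEquivZero_of_num1
    (Groth.Agent.NumTriv.Section.num1_of_zeroScheme hH φ hdim hL
      (Groth.Agent.NumTriv.num1_of_isNumEquivZero k
        (Groth.Agent.PicCl.isInvertible_pullback _ hL) hnum))

end Groth.Agent.S5633
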