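import Groth.Statements.S5634
import Groth.Agent.RadBound.Radical

set_option autoImplicit false
universe u
open CAlg

namespace Groth.Agent.S5634

/-- For every N there is a function R_N such that, for every field k₀, every m and every ideal I of
k₀[T_1, …, T_N] generated by polynomials of total degree ≤ m, the radical of I is generated by
polynomials of total degree ≤ R_N(m). (The published statement gives R_N as a polynomial in m; this
row asserts only a bound depending on N and m, uniform in the field and the ideal.) -/
theorem result (N : ℕ) :
    ∃ R : ℕ → ℕ, ∀ (k₀ : Type u) [Field k₀] (m : ℕ) (S : Set (MvPolynomial (Fin N) k₀)),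
      (∀ p ∈ S, p.totalDegree ≤ m) →
        ∃ S' : Set (MvPolynomial (Fin N) k₀), (∀ q ∈ S', q.totalDegree ≤ R m) ∧ Ideal.span S' = (Ideal.span S).radical := by
  choose R hR using fun m => Groth.Agent.RadBound.exists_radical_bound.{u} N m
  exact ⟨R, fun k₀ _ m S hS => hR m k₀ S hS⟩

end Groth.Agent.S5634
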