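import Groth.Statements.S5642
import Groth.Agent.CohDev.Dim

set_option autoImplicit false
universe u
open CategoryTheory CategoryTheory.Limits AlgebraicGeometry
open Classical
open SGA6

namespace Groth.Agent.S5642

open Groth.Agent.CohDev Groth.Agent.PullStalk.Exact

/-- Let X be a Noetherian scheme, K the Grothendieck group of coherent O_X-modules and Filt_m ⊆ K the
subgroup generated by the classes of coherent modules whose support has dimension ≤ m. Let F be
coherent with dim Supp(F) ≤ n. Then for the points x of X whose closure Z(x) has dimension n the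
stalk F_x has finite length, nonzero for only finitely many such x, and [F] ≡ Σ_x length(F_x)
[O_{Z(x)}] modulo Filt_{n-1}, where O_{Z(x)} is the structure sheaf of the reduced closed subscheme
Z(x) viewed as an O_X-module. -/
theorem result (X : Scheme.{u}) [IsNoetherian X] (n : ℕ) (F : X.Modules) (hF : Coh.IsCoh F)
    (hsupp : topologicalKrullDim ↥(CohB1.support F) ≤ n) :
    KZero.clSub (fun M : X.Modules => Coh.IsCoh M) F -
        (finsum fun x : ↥X => if topologicalKrullDim ↥(closure ({x} : Set ↥X)) = n then
          (Module.length (X.presheaf.stalk x) (F.presheaf.stalk x)).toNat • KZero.clSub (fun M : X.Modules => Coh.IsCoh M) (Cyc.closureStructureSheaf x) else 0) ∈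
      AddSubgroup.closure {c : KZero.K0sub (fun M : X.Modules => Coh.IsCoh M) |
        ∃ G : X.Modules, Coh.IsCoh G ∧ topologicalKrullDim ↥(CohB1.support G) < n ∧ c = KZero.clSub (fun M : X.Modules => Coh.IsCoh M) G} := by
  let len : X.Modules → X → ℕ∞ := fun M y => Module.length (X.presheaf.stalk y) (M.presheaf.stalk y)
  let f : X.Modules → X → SGA6.Kcoh X := fun M y =>
    if topologicalKrullDim ↥(closure ({y} : Set ↥X)) = n then
      (len M y).toNat • kcl (Cyc.closureStructureSheaf y) else 0
  let Filt : AddSubgroup (SGA6.Kcoh X) := AddSubgroup.closure {c |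
    ∃ G : X.Modules, Coh.IsCoh G ∧ topologicalKrullDim ↥(CohB1.support G) < n ∧ c = kcl G}
  suffices H : (∀ y : X, topologicalKrullDim ↥(closure ({y} : Set ↥X)) = n → len F y ≠ ⊤) ∧
      (Function.support (f F)).Finite ∧ kcl F - finsum (f F) ∈ Filt from H.2.2
  revert hsupp
  refine devissage (fun M => topologicalKrullDim ↥(CohB1.support M) ≤ n →
      (∀ y : X, topologicalKrullDim ↥(closure ({y} : Set ↥X)) = n → len M y ≠ ⊤) ∧
      (Function.support (f M)).Finite ∧ kcl M - finsum (f M) ∈ Filt) ?_ ?_ ?_ hF
  · intro M hM _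
    have hs : ∀ y : X, len M y = 0 := fun y => by
      have : Subsingleton (M.presheaf.stalk y) := AddCommGrpCat.subsingleton_of_isZero
        ((Scheme.Modules.toPresheaf X ⋙ TopCat.Presheaf.stalkFunctor AddCommGrpCat.{u} y).map_isZero hM)
      exact Module.length_eq_zero
    have hf : f M = 0 := funext fun y => by simp [f, hs y]
    refine ⟨fun y _ => by simp [hs y], ?_, ?_⟩
    · simp [hf]
    · rw [hf, kcl_of_isZero hM, show finsum (0 : X → SGA6.Kcoh X) = 0 from finsum_zero, sub_zero]; exact zero_mem _
  · intro S hS h₁ h₂ h₃ p₁ p₃ hdim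
    haveI := hS.mono_f
    haveI := hS.epi_g
    obtain ⟨a₁, b₁, c₁⟩ := p₁ ((dim_mono (support_subset_of_mono S.f)).trans hdim)
    obtain ⟨a₃, b₃, c₃⟩ := p₃ ((dim_mono (support_subset_of_epi S.g)).trans hdim)
    have hlen : ∀ y, len S.X₂ y = len S.X₁ y + len S.X₃ y := fun y =>
      Module.length_eq_add_of_exact _ _ (stalk_injective S.f y) (stalk_surjective S.g y)
        (stalk_exact hS y).2.1
    have hf : f S.X₂ = f S.X₁ + f S.X₃ := funext fun y => by
      by_cases hy : topologicalKrullDim ↥(closure ({y} : Set ↥X)) = n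
      · simp only [f, Pi.add_apply, if_pos hy, hlen, ENat.toNat_add (a₁ y hy) (a₃ y hy), add_smul]
      · simp [f, hy]
    refine ⟨fun y hy => by rw [hlen]; exact WithTop.add_ne_top.mpr ⟨a₁ y hy, a₃ y hy⟩, ?_, ?_⟩
    · rw [hf]; exact (b₁.union b₃).subset (Function.support_add _ _)
    · rw [hf, kcl_add hS h₁ h₂ h₃]
      rw [show finsum (f S.X₁ + f S.X₃) = finsum (f S.X₁) + finsum (f S.X₃) from finsum_add_distrib b₁ b₃, add_sub_add_comm]
      exact add_mem c₁ c₃
  · intro M hM hz
    obtain ⟨x, J, a, g, ha, hg, hJ, hx⟩ := exists_piece hM hz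
    refine ⟨J, a, ha, hJ, fun h0 => hx (AddCommGrpCat.subsingleton_of_isZero
      ((Scheme.Modules.toPresheaf X ⋙ TopCat.Presheaf.stalkFunctor AddCommGrpCat.{u} x).map_isZero h0)),
      fun hdim => ?_⟩
    have hsub : CohB1.support J ⊆ closure {x} :=
      (support_subset_of_mono g).trans (support_oz_subset x)
    have hxn : topologicalKrullDim ↥(closure ({x} : Set ↥X)) ≤ n :=
      (dim_mono (closure_minimal (Set.singleton_subset_iff.mpr hx) (isClosed_support hJ))).trans hdim
    have hoff : ∀ y, y ≠ x → topologicalKrullDim ↥(closure ({y} : Set ↥X)) = n → len J y = 0 := by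
      intro y hy hyn
      have : Subsingleton (J.presheaf.stalk y) := by
        by_contra h
        exact (dim_closure_lt (hsub h) hy hxn).ne hyn
      exact Module.length_eq_zero
    have hxlen : len J x = 1 :=
      (LinearEquiv.ofBijective _ (stalk_piece g hx)).length_eq.trans (length_stalk_oz x)
    refine ⟨fun y hy => ?_, (Set.finite_singleton x).subset fun y hy => ?_, ?_⟩
    · by_cases hyx : y = x
      · rw [hyx, hxlen]; simp
      · rw [hoff y hyx hy]; simp
    · by_contra hyx
      apply hy
      by_cases hyn : topologicalKrullDim ↥(closure ({y} : Set ↥X)) = n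
      · simp only [f, if_pos hyn, hoff y hyx hyn]; simp
      · simp only [f, if_neg hyn]
    · rw [finsum_eq_single (f J) x fun y hyx => by
        by_cases hyn : topologicalKrullDim ↥(closure ({y} : Set ↥X)) = n
        · simp only [f, if_pos hyn, hoff y hyx hyn]; simp
        · simp only [f, if_neg hyn]]
      by_cases hn : topologicalKrullDim ↥(closure ({x} : Set ↥X)) = n
      · simp only [f, if_pos hn, hxlen, ENat.toNat_one, one_smul]
        rw [kcl_mono g hJ (isCoh_oz x), sub_add_cancel_left]
        have hQ := isCoh_cokernel g hJ.1 (isCoh_oz x)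
        refine neg_mem (AddSubgroup.subset_closure ⟨_, hQ, ?_, rfl⟩)
        refine dim_lt_of_irreducible (isClosed_support hQ) isIrreducible_singleton.closure
          ((support_subset_of_epi (cokernel.π g)).trans (support_oz_subset x)) ?_ hxn
        exact fun hs => not_mem_support_cokernel g (stalk_piece g hx).2 (hs (subset_closure rfl))
      · simp only [f, if_neg hn, sub_zero]
        exact AddSubgroup.subset_closure ⟨J, hJ,
          lt_of_le_of_lt (dim_mono hsub) (lt_of_le_of_ne hxn hn), rfl⟩

end Groth.Agent.S5642
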