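import Groth.Statements.S5645
import Groth.Agent.NumTriv.BddPic
-- import your own Groth.Agent.* helpers here

set_option autoImplicit false
universe u
open CategoryTheory CategoryTheory.Limits AlgebraicGeometry
open Pic13

namespace Groth.Agent.S5645

/-- Over an algebraically closed field k: let X be a proper k-scheme and let the k-scheme P, with the
maps φ_T from isomorphism classes of modules on X ×_k T to k-morphisms T ⟶ P, represent the
étale-sheafified relative Picard functor of X over k. For an invertible O_X-module L let p(L) ∈ P be
the k-point φ_{Spec k}([L]). Then a family of invertible O_X-modules is bounded (all members occur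
among the fibres at k-points of one coherent module on some X ×_k T, T of finite type) if and only
if the points p(L) of its members lie in a common quasi-compact open subset of P. (The published
statement is over a Noetherian base, for subsets of the Picard scheme and families of classes on the
fibres; this row is the case of an algebraically closed base field.) -/
theorem result (k : Type u) [Field k] [IsAlgClosed k] (X : Scheme.{u}) [X.Over (Spec (CommRingCat.of k))]
    [IsProper (X ↘ (Spec (CommRingCat.of k)))] (P : Over (Spec (CommRingCat.of k)))
    (φ : ∀ T : Over (Spec (CommRingCat.of k)), PicF.Cl (PicF.XT (X ↘ (Spec (CommRingCat.of k))) T) → (T ⟶ P))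
    (hP : PicRel.IsRelPic (X ↘ (Spec (CommRingCat.of k))) P φ)
    (Q : X.Modules → Prop) (hQ : ∀ L, Q L → PicF.IsInvertible L) :
    Pic13.IsBounded k X Q ↔ ∃ U : P.left.Opens, IsCompact (U : Set ↥P.left) ∧
      ∀ L, Q L → Set.range (φ (Over.mk (𝟙 (Spec (CommRingCat.of k))))
        (PicF.pullCl (pullback.fst (X ↘ (Spec (CommRingCat.of k))) (𝟙 (Spec (CommRingCat.of k)))) (PicF.cl L))).left.base ⊆ (U : Set ↥P.left) := by
  constructor
  · intro hb
    obtain ⟨C, hC, hCL⟩ := Groth.Agent.NumTriv.BddPic.exists_compact_of_isBounded hP hQ hb
    classical
    choose V hV hxV _ using fun x : ↥P.left => exists_isAffineOpen_mem_and_subset (x := x) (U := ⊤) trivial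
    obtain ⟨F, hF⟩ := hC.elim_finite_subcover (fun x => (V x : Set ↥P.left)) (fun x => (V x).2)
      fun x _ => Set.mem_iUnion.2 ⟨x, hxV x⟩
    refine ⟨⟨⋃ x ∈ F, (V x : Set ↥P.left), isOpen_biUnion fun x _ => (V x).2⟩,
      F.isCompact_biUnion fun x _ => (hV x).isCompact, fun L hL => (hCL L hL).trans hF⟩
  · rintro ⟨U, hU, h⟩
    exact Groth.Agent.NumTriv.BddPic.isBounded_of_subset hP hQ U hU h

end Groth.Agent.S5645
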