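import Groth.Statements.S5647
import Groth.Agent.NumTriv.ChiBdd
import Groth.Agent.S5644
import Groth.Agent.EulerFam.IntBound

set_option autoImplicit false
universe u
open CategoryTheory CategoryTheory.Limits AlgebraicGeometry
open Pic13

namespace Groth.Agent.S5647

/-- First assertion: over the base S = Spec k with k algebraically closed: let X ⊆ P^n_k be an integral
closed subscheme of dimension r, O_X(1) the restriction of O(1), and consider a family of invertible
O_X-modules L with Hilbert polynomials written χ(L(m)) = Σ_{j ≤ r} a_j(L) C(m+j, j) (m ≥ 0, Euler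
characteristics in degrees ≤ r). Then the family is bounded if and only if the coefficients a_j(L)
stay bounded as L runs through it. (The published statement is for X projective over a Noetherian
base with a very ample O_X(1) and geometrically integral fibres of dimension r, and for families of
classes on the fibres; this row is the case of an algebraically closed base field.) -/
theorem result (k : Type u) [Field k] [IsAlgClosed k] (n : ℕ) (X : Scheme.{u}) [X.Over (Spec (CommRingCat.of k))]
    (i : X ⟶ CohB1.ProjSpace n k) [IsClosedImmersion i] (hi : i ≫ CohB1.ProjSpace.toSpec n k = X ↘ Spec (CommRingCat.of k))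
    [IsIntegral X] (r : ℕ) (hdim : topologicalKrullDim X = (r : ℕ))
    (Q : X.Modules → Prop) (hQ : ∀ L, Q L → PicF.IsInvertible L) :
    Pic13.IsBounded k X Q ↔ ∃ B : ℕ, ∀ L, Q L → ∃ a : Fin (r + 1) → ℤ,
      (∀ m : ℕ, FGA.eulerCharLE k X (Pic13.twistOn k i L m) r = ∑ j : Fin (r + 1), a j * ((m + j).choose j : ℤ)) ∧
      ∀ j, |a j| ≤ B := by
  classical
  haveI : IsProper (X ↘ Spec (CommRingCat.of k)) := by
    haveI := Groth.Agent.ProjProper.Basic.isProper_toSpec n k
    rw [← hi]; infer_instance
  haveI := Groth.Agent.EulerChar.isNoetherian k (X := X)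
  have hd : topologicalKrullDim X ≤ (r : WithBot ℕ∞) := hdim.le
  constructor
  · rintro ⟨T, q, hft, hqc, F, hF, hfib⟩
    haveI := hft
    haveI := hqc
    let P := fun z : ℤ => (Scheme.Modules.pullback i).obj (Twist.twistProjSpace n k z)
    have hP : ∀ z, PicF.IsInvertible (P z) := fun z =>
      Groth.Agent.PicCl.isInvertible_pullback i (Groth.Agent.ProjTwist.isInvertible_twistProjSpace n k z)
    obtain ⟨e01⟩ := Groth.Agent.ProjTwist.nonempty_twistProjSpace_tensor n k 1 (-1)
    have eP : CohB1.tensorMod (P 1) (P (-1)) ≅ Coh.structureModule X :=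
      (Groth.Agent.KFlat.PullTensor.pullTensorIso i _ _).symm ≪≫
        (Scheme.Modules.pullback i).mapIso (e01 ≪≫ eqToIso (congrArg (Twist.twistProjSpace n k) (show (1 : ℤ) + -1 = 0 by norm_num)) ≪≫
          (Groth.Agent.ProjTwist.twistZeroIso (CohB1.polyGrading n k)).symm) ≪≫
        Groth.Agent.QCoh.pullbackUnitIso i
    let I : X.Modules → ℕ → ℤ := fun G j => Groth.Agent.Snapper.intE k (fun _ : Fin j => P (-1)) G
    have expand : ∀ G : X.Modules, Coh.IsCoh G → ∀ m : ℕ,
        FGA.eulerCharLE k X (Pic13.twistOn k i G m) r =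
          ∑ j : Fin (r + 1), (if (j : ℕ) = r then I G j else I G j - I G (j + 1)) *
            ((m + j).choose j : ℤ) := by
      intro G hG m
      obtain ⟨e2⟩ := Groth.Agent.EulerFam.pullback_tensorPow i (Twist.twistProjSpace n k 1) m
      obtain ⟨e1⟩ := Groth.Agent.ProjTwist.Pn.tensorPow_one_iso (n := n) (k := k) m
      have e : Pic13.twistOn k i G m ≅ CohB1.tensorMod (CohB1.tensorPow (P 1) m) G :=
        Groth.Agent.ProjTwist.tensCongr (Iso.refl G)
          (((Scheme.Modules.pullback i).mapIso e1).symm ≪≫ e2) ≪≫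
          Groth.Agent.ProjTwist.tensComm _ _
      rw [Groth.Agent.Snapper.eulerCharLE_eq k hd, Groth.Agent.EulerChar.euler_iso k e,
        Groth.Agent.Snapper.euler_tensorPow_eq k (hP 1) (hP (-1)) eP r m hG
          (Groth.Agent.EulerChar.dim_support_le hd)]
      rw [Finset.sum_range_succ, Groth.Agent.Snapper.sum_choose_pred (I G) m r,
        Fin.sum_univ_castSucc (n := r),
        Finset.sum_range (fun j => (I G j - I G (j + 1)) * ((m + j).choose j : ℤ))]
      simp only [Fin.val_castSucc, Fin.val_last, if_true]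
      refine congrArg₂ (· + ·) (Finset.sum_congr rfl fun j _ => ?_) (mul_comm _ _)
      rw [if_neg (by omega)]
    choose b hb using fun j : ℕ =>
      Groth.Agent.EulerFam.exists_bound_intE q hF (C := fun _ : Fin j => P (-1)) (fun _ => hP (-1))
    let B : ℕ := (∑ j ∈ Finset.range (r + 2), |b j|).toNat * 2
    refine ⟨B, fun L hL => ?_⟩
    obtain ⟨t, ht, ⟨e⟩⟩ := hfib L hL
    have hLc : Coh.IsCoh L := Groth.Agent.BigVol.isCoh_of_isInvertible (hQ L hL)
    have hbd : ∀ j : ℕ, j ≤ r + 1 → |I L j| ≤ ∑ j ∈ Finset.range (r + 2), |b j| := fun j hj => by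
      show |Groth.Agent.Snapper.intE k _ L| ≤ _
      rw [← Groth.Agent.EulerFam.intE_congr _ e]
      exact ((hb j t ht).trans (le_abs_self _)).trans
        (Finset.single_le_sum (f := fun j => |b j|) (fun _ _ => abs_nonneg _) (Finset.mem_range.2 (by omega)))
    refine ⟨fun j => if (j : ℕ) = r then I L j else I L j - I L (j + 1), expand L hLc, fun j => ?_⟩
    have hS : (0 : ℤ) ≤ ∑ j ∈ Finset.range (r + 2), |b j| := Finset.sum_nonneg fun _ _ => abs_nonneg _
    have h1 := hbd j (by omega)
    have h2 := hbd (j + 1) (by omega)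
    have hBv : (B : ℤ) = (∑ j ∈ Finset.range (r + 2), |b j|) * 2 := by
      simp only [B, Nat.cast_mul, Int.toNat_of_nonneg hS, Nat.cast_ofNat]
    rw [hBv]
    dsimp only
    rw [abs_le] at h1 h2 ⊢
    split_ifs <;> constructor <;> linarith
  · rintro ⟨B, hB⟩
    let C : ℕ → ℤ := fun j => (B : ℤ) * ∑ l : Fin (r + 1), ((l : ℕ).choose j : ℤ)
    have hb : ∀ j, ∀ L, Q L →
        |Groth.Agent.NefPos.iC k (List.replicate j (Groth.Agent.NumTriv.oX i 1)) L| ≤ C j := fun j L hL => by
      obtain ⟨a, ha, hab⟩ := hB L hL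
      exact Groth.Agent.NumTriv.ChiBdd.abs_iC_le i hd L a ha j B fun l _ => hab l
    rcases Nat.lt_or_ge r 2 with hr2 | hr2
    swap
    · obtain ⟨s, rfl⟩ : ∃ s, r = s + 2 := ⟨r - 2, by omega⟩
      exact Groth.Agent.NumTriv.ChiBdd.isBounded_of_bdd i hdim hQ (max (C s) (C (s + 1)))
        (fun L hL => (hb (s + 1) L hL).trans (le_max_right _ _))
        (fun L hL => (hb s L hL).trans (le_max_left _ _))
    rcases Nat.eq_zero_or_pos r with rfl | hr
    · refine Groth.Agent.NumTriv.Translate.isBounded_of_classes (fun (_ : PUnit.{1}) _ => True) hQ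
        (fun L _ => ⟨PUnit.unit, trivial⟩) fun _ L M hL hM _ _ F hF _ => ?_
      have h0 := Groth.Agent.EulerChar.dim_support_le hd (G := F)
      simp only [Groth.Agent.NumTriv.deg1, Groth.Agent.NumTriv.euler_tens_dim_zero k (hQ L hL) hF h0,
        Groth.Agent.NumTriv.euler_tens_dim_zero k (hQ M hM) hF h0]
    obtain rfl : r = 1 := by omega
    have hO := Groth.Agent.ProperFin.isCoh_structureModule X
    obtain ⟨hξd, m, hm0, hm⟩ := Groth.Agent.NumTriv.IndexThm.exists_generic_mult k
      (Groth.Agent.NumTriv.isAmple_oX_one i) hdim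
    let dg : X.Modules → ℤ := fun L => Groth.Agent.NefPos.iC k [L] (Coh.structureModule X)
    let D : ℤ := C 0 + |Curv2.euler k X (Coh.structureModule X)|
    have hmem : ∀ L, Q L → dg L ∈ Finset.Icc (-D) D := fun L hL => by
      have h := hb 0 L hL
      rw [List.replicate_zero, Groth.Agent.NefPos.iC_nil] at h
      rw [Finset.mem_Icc, ← abs_le]
      show |Groth.Agent.NefPos.iC k [L] _| ≤ _
      rw [Groth.Agent.NefPos.iC_cons, Groth.Agent.NefPos.iC_iso k _ (Groth.Agent.ProjTwist.tensOne L),
        Groth.Agent.NefPos.iC_nil, Groth.Agent.NefPos.iC_nil]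
      exact (abs_sub _ _).trans (add_le_add h le_rfl)
    refine Groth.Agent.NumTriv.Translate.isBounded_of_classes
      (fun (z : ↥(Finset.Icc (-D) D)) L => dg L = z.1) hQ (fun L hL => ⟨⟨_, hmem L hL⟩, rfl⟩)
      fun z L M hL hM ha hb' F hF hdF => ?_
    obtain ⟨M', hM', ⟨eM⟩⟩ := Groth.Agent.PicLaw.exists_inverse (hQ M hM)
    have hl : ∀ C' ∈ ([] : List X.Modules), PicF.IsInvertible C' := fun C' hC => absurd hC List.not_mem_nil
    have hd1 : topologicalKrullDim ↥(CohB1.support (Coh.structureModule X)) ≤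
        ((([] : List X.Modules).length + 1 : ℕ) : WithBot ℕ∞) := Groth.Agent.EulerChar.dim_support_le hd
    have hsum := Groth.Agent.NefPos.iC_mul k (l := []) hl (hQ M hM) hM' hO hd1
    rw [Groth.Agent.NefPos.iC_congr k eM, Groth.Agent.NefPos.iC_cons,
      Groth.Agent.NefPos.iC_iso k _ (Groth.Agent.ProjTwist.oneTens (Coh.structureModule X)), sub_self] at hsum
    have hz : Groth.Agent.NefPos.iC k [CohB1.tensorMod L M'] (Coh.structureModule X) = 0 := by
      rw [Groth.Agent.NefPos.iC_mul k (l := []) hl (hQ L hL) hM' hO hd1]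
      simp only [dg] at ha hb'
      omega
    have hi' := Groth.Agent.AmpleLib.isInvertible_tensorMod (hQ L hL) hM'
    rw [hm _ (by simpa using hi') rfl] at hz
    have hN := Groth.Agent.NumTriv.IndexThm.numOn_curve k hi' _ hξd
      ((mul_eq_zero.1 hz).resolve_left (by exact_mod_cast hm0.ne'))
    rw [show closure ({genericPoint X} : Set X) = Set.univ from genericPoint_spec X] at hN
    exact Groth.Agent.NumTriv.AmpleBdd.deg1_of_quot (hQ L hL) (hQ M hM) hM' eM
      ⟨hi', fun G hG hG1 => hN.2 G hG (Set.subset_univ _) hG1⟩ hF hdF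

end Groth.Agent.S5647
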