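import Groth.Statements.S5650
import Groth.Agent.IsoLocus96.Stalk
import Groth.Agent.FibCodepth.FibExact
import Groth.Agent.FibCodepth.ProperLoci

set_option autoImplicit false
universe u
open CategoryTheory CategoryTheory.Limits AlgebraicGeometry
open FlatMor

set_option linter.style.haveILetI false

namespace Groth.Agent.S5650

open Groth.Agent.PullStalk.Exact Groth.Agent.IsoLocus96

/-- The points of the base over which all stalks are bijective, on an affine open, form a compact set. -/
theorem isCompact_locus {X S : Scheme.{u}} (f : X ⟶ S) [QuasiCompact f] [LocallyOfFinitePresentation f]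
    (F G : X.Modules) [F.IsQuasicoherent] [G.IsQuasicoherent]
    (hF : CohB1.IsFP F) (hG : CohB1.IsFP G) (hGfl : FlatMod.IsFlatOver f G) (u : F ⟶ G)
    (hopen : IsOpen {s : S | ∀ x, f x = s → Function.Bijective (stalkLin u x)})
    {V : S.Opens} (hV : IsAffineOpen V) :
    IsCompact ({s : S | ∀ x, f x = s → Function.Bijective (stalkLin u x)} ∩ V) := by
  obtain ⟨c, hc, hcover⟩ := isCompact_iff_finite_and_eq_biUnion_affineOpens.mp
    (f.isCompact_preimage hV.isCompact)
  have hle : ∀ U ∈ c, U.1 ≤ f ⁻¹ᵁ V := fun U hU x hx => hcover.ge (TopologicalSpace.Opens.mem_iSup.mpr ⟨U, TopologicalSpace.Opens.mem_iSup.mpr ⟨hU, hx⟩⟩)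
  have key : ∀ U ∈ c, Topology.IsConstructible
      {p : PrimeSpectrum Γ(S, V) | ∀ x ∈ U.1, f x = hV.fromSpec p → Function.Bijective (stalkLin u x)} := by
    intro U hU
    letI := (f.appLE V U.1 (hle U hU)).hom.toAlgebra
    letI : Module Γ(S, V) Γ(F, U.1) := Module.compHom _ (f.appLE V U.1 (hle U hU)).hom
    letI : Module Γ(S, V) Γ(G, U.1) := Module.compHom _ (f.appLE V U.1 (hle U hU)).hom
    haveI : IsScalarTower Γ(S, V) Γ(X, U.1) Γ(F, U.1) := IsScalarTower.of_algebraMap_smul fun _ _ => rfl
    haveI : IsScalarTower Γ(S, V) Γ(X, U.1) Γ(G, U.1) := IsScalarTower.of_algebraMap_smul fun _ _ => rfl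
    haveI : Algebra.FinitePresentation Γ(S, V) Γ(X, U.1) := f.finitePresentation_appLE hV U.2 (hle U hU)
    haveI : Module.FinitePresentation Γ(X, U.1) Γ(F, U.1) := (Props.QFP.isFP_iff F).1 hF U.1 U.2
    haveI : Module.FinitePresentation Γ(X, U.1) Γ(G, U.1) := (Props.QFP.isFP_iff G).1 hG U.1 U.2
    have h1 := (Groth.Agent.FibCodepth.isConstructible_exactSet (R := Γ(S, V)) (appLin u U.1)
      (0 : Γ(G, U.1) →ₗ[Γ(X, U.1)] Γ(G, U.1))).inter
      (Groth.Agent.FibCodepth.isConstructible_exactSet (R := Γ(S, V))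
        (0 : Γ(F, U.1) →ₗ[Γ(X, U.1)] Γ(F, U.1)) (appLin u U.1))
    convert h1 using 1
    ext p
    have hp : hV.fromSpec p ∈ V := hV.range_fromSpec.subset ⟨p, rfl⟩
    have hpp : hV.primeIdealOf ⟨_, hp⟩ = p := hV.fromSpec.isOpenEmbedding.injective (hV.fromSpec_primeIdealOf _)
    have h2 := forall_bijective_stalk_iff f u hF hG hGfl hV U.2 (hle U hU) (hV.fromSpec p) hp
    rw [hpp] at h2
    simp only [Set.mem_setOf_eq, Set.mem_inter_iff, Groth.Agent.FibCodepth.exactSet, LinearMap.restrictScalars_zero,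
      LinearMap.baseChange_zero]
    rw [LinearMap.exact_zero_iff_surjective, LinearMap.exact_zero_iff_injective, and_comm]
    exact h2
  let E : Set (PrimeSpectrum Γ(S, V)) :=
    ⋂ U ∈ c, {p | ∀ x ∈ U.1, f x = hV.fromSpec p → Function.Bijective (stalkLin u x)}
  have hEeq : E = hV.fromSpec ⁻¹' {s : S | ∀ x, f x = s → Function.Bijective (stalkLin u x)} := by
    ext p
    simp only [E, Set.mem_iInter, Set.mem_setOf_eq, Set.mem_preimage]
    refine ⟨fun h x hx => ?_, fun h U _ x _ hx => h x hx⟩
    have hxV : x ∈ f ⁻¹ᵁ V := by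
      show f x ∈ V
      rw [hx]
      exact hV.range_fromSpec.subset ⟨p, rfl⟩
    obtain ⟨U, h'⟩ := TopologicalSpace.Opens.mem_iSup.mp (hcover.le hxV)
    obtain ⟨hU, hxU⟩ := TopologicalSpace.Opens.mem_iSup.mp h'
    exact h U hU x hxU hx
  have hE : Topology.IsConstructible E := Topology.IsConstructible.biInter hc key
  have hEc : IsCompact E := by
    obtain ⟨R', _, φ, hφ⟩ := PrimeSpectrum.exists_range_eq_of_isConstructible hE
    exact hφ ▸ isCompact_range (PrimeSpectrum.continuous_comap φ)
  have h3 := hEc.image hV.fromSpec.continuous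
  rw [hEeq] at h3
  erw [Set.image_preimage_eq_inter_range, hV.range_fromSpec] at h3
  exact h3

/-- Let X ⟶ S be proper and of finite presentation, u : F ⟶ G a morphism of finitely presented
O_X-modules with G flat over S. Then the subfunctor of S 'making u an isomorphism' is represented by
an open subscheme of S of finite presentation over S: there is a quasi-compact open U ⊆ S such that,
for every scheme T and t : T ⟶ S, the pullback of u to X ×_S T is an isomorphism if and only if the
image of t lies in U. -/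
theorem result {X S : Scheme.{u}} (f : X ⟶ S) [IsProper f] [LocallyOfFinitePresentation f]
    (F G : X.Modules) (hF : CohB1.IsFP F) (hG : CohB1.IsFP G) (hGfl : FlatMod.IsFlatOver f G) (u : F ⟶ G) :
    ∃ U : S.Opens, QuasiCompact U.ι ∧
      ∀ (T : Scheme.{u}) (t : T ⟶ S),
        IsIso ((Scheme.Modules.pullback (pullback.fst f t)).map u) ↔ Set.range t.base ⊆ (U : Set S) := by
  haveI : F.IsQuasicoherent := Groth.Agent.FibCodepth.isQuasicoherent_of_isFP hF
  haveI : G.IsQuasicoherent := Groth.Agent.FibCodepth.isQuasicoherent_of_isFP hG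
  let W := {x : X | Function.Bijective (stalkLin u x)}
  have hU : IsOpen {s : S | ∀ x, f x = s → Function.Bijective (stalkLin u x)} := by
    have h : {s : S | ∀ x, f x = s → Function.Bijective (stalkLin u x)} = (f '' Wᶜ)ᶜ := by
      ext s
      simp only [Set.mem_setOf_eq, Set.mem_compl_iff, Set.mem_image, W]
      exact ⟨fun h ⟨x, hx, hfx⟩ => hx (h x hfx), fun h x hfx => by_contra fun hx => h ⟨x, hx, hfx⟩⟩
    rw [h]
    exact (f.isClosedMap _ (isOpen_bijective_stalk u hF hG).isClosed_compl).isOpen_compl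
  refine ⟨⟨_, hU⟩, quasiCompact_iff_forall_isAffineOpen.mpr fun V hV => ?_, fun T t => ⟨fun h => ?_, fun h => ?_⟩⟩
  · let W₀ : S.Opens := ⟨_, hU⟩
    rw [W₀.ι.isOpenEmbedding.isInducing.isCompact_iff]
    show IsCompact (_ '' (_ ⁻¹' (V : Set S)))
    rw [Set.image_preimage_eq_inter_range, Scheme.Opens.range_ι, Set.inter_comm]
    exact isCompact_locus f F G hF hG hGfl u hU hV
  · rintro _ ⟨τ, rfl⟩ x hx
    obtain ⟨x', hx1, hx2⟩ := Scheme.Pullback.exists_preimage_pullback x τ hx
    subst hx1
    exact bijective_stalk_of_pullback (IsPullback.of_hasPullback f t) x' hF hG (hGfl _) u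
      (Groth.Agent.IsoLocus96.bijective_stalkLin_of_isIso _ x')
  · refine Groth.Agent.Omega.Stalks.isIso_of_stalk fun x' => ?_
    refine Groth.Agent.ZClosLib.FlatBC.stalkLin_pullback_bijective (f := pullback.fst f t) u x' ?_
    refine h ⟨(pullback.snd f t) x', rfl⟩ _ ?_
    rw [← Scheme.Hom.comp_apply, ← Scheme.Hom.comp_apply, pullback.condition]

end Groth.Agent.S5650
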