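import Groth.Statements.S5651
import Groth.Agent.FlatMor62.PureProperTop

set_option autoImplicit false
set_option linter.style.haveILetI false
set_option backward.isDefEq.respectTransparency false
set_option backward.isDefEq.respectTransparency.types false
universe u
open CategoryTheory CategoryTheory.Limits AlgebraicGeometry
open FlatMor

namespace Groth.Agent.S5651

/-- Let f : X ⟶ S be proper and of finite presentation and F a finitely presented O_X-module. Then the
subfunctor of S 'making F flat over S' is represented by a surjective monomorphism of finite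
presentation: there are a scheme S' and a monomorphism ι : S' ⟶ S, locally of finite presentation,
quasi-compact and surjective, such that for every scheme T and t : T ⟶ S the pullback of F to X ×_S
T is flat over T if and only if t factors through ι. -/
theorem result {X S : Scheme.{u}} (f : X ⟶ S) [IsProper f] [LocallyOfFinitePresentation f]
    (F : X.Modules) (hF : CohB1.IsFP F) :
    ∃ (S' : Scheme.{u}) (ι : S' ⟶ S), Mono ι ∧ LocallyOfFinitePresentation ι ∧ QuasiCompact ι ∧ Surjective ι ∧
      ∀ (T : Scheme.{u}) (t : T ⟶ S),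
        FlatMod.IsFlatOver (pullback.snd f t) ((Scheme.Modules.pullback (pullback.fst f t)).obj F) ↔
          ∃ t' : T ⟶ S', t' ≫ ι = t := by
  classical
  haveI : SheafOfModules.IsFinitePresentation.{u} F := hF
  haveI hFq : F.IsQuasicoherent := inferInstance
  haveI : Coh.IsQCoh F := hFq
  let C : ∀ {T : Scheme.{u}}, (T ⟶ S) → Prop := fun g => Groth.Agent.FlatMor62.PureCond.Cond f F 0 (Over.mk g)
  have hloc : ∀ V : S.affineOpens, ∃ (W : Scheme.{u}) (w : W ⟶ V.1.toScheme), Mono w ∧
      LocallyOfFinitePresentation w ∧ QuasiCompact w ∧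
      ∀ (T : Scheme.{u}) (φ : T ⟶ V.1.toScheme), (∃ h, h ≫ w = φ) ↔ C (φ ≫ V.1.ι) := by
    intro V
    obtain ⟨Z, i, h1, h2, h3, hu⟩ := Groth.Agent.FlatMor62.PureProperTop.exists_rep_affine
      (A := Γ(S, V.1)) (pullback.snd f V.2.fromSpec) ((Scheme.Modules.pullback (pullback.fst f V.2.fromSpec)).obj F)
      (Groth.Agent.ConsPairLib.isFP_pullback _ F hF).2
    haveI := h1
    haveI := h2
    haveI := h3
    refine ⟨Z, i ≫ V.2.isoSpec.inv, inferInstance, inferInstance, inferInstance, fun T φ => ?_⟩
    have hj := hu T (φ ≫ V.2.isoSpec.hom)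
    rw [Groth.Agent.FlatMor62.PureProperTop.cond_pullback] at hj
    have e : (φ ≫ V.2.isoSpec.hom) ≫ V.2.fromSpec = φ ≫ V.1.ι := by
      show (φ ≫ V.2.isoSpec.hom) ≫ V.2.isoSpec.inv ≫ V.1.ι = _
      simp
    rw [e] at hj
    refine Iff.trans (exists_congr fun h => ?_) hj
    rw [← Category.assoc, Iso.comp_inv_eq]
  choose W w hwm hwl hwq hw using hloc
  haveI := hwm
  obtain ⟨Z, i, hi, hiu, hprop⟩ := Groth.Agent.BigVol.HilbGlue.exists_of_local C
    (fun a g hg => Groth.Agent.FlatMor62.PureCond.Cond.of_hom (T₀ := Over.mk g) (T := Over.mk (a ≫ g)) (Over.homMk a rfl) hg)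
    (fun g hg => Groth.Agent.FlatMor62.PureCond.Cond.of_local g hg) W w hw
  have hiff : ∀ (T : Scheme.{u}) (t : T ⟶ S),
      FlatMod.IsFlatOver (pullback.snd f t) ((Scheme.Modules.pullback (pullback.fst f t)).obj F) ↔ ∃ t' : T ⟶ Z, t' ≫ i = t :=
    fun T t => (Groth.Agent.FlatMor62.PureProperTop.cond_zero_iff f F (Over.mk t)).symm.trans (hiu T t).symm
  refine ⟨Z, i, hi, hprop @LocallyOfFinitePresentation hwl, hprop @QuasiCompact hwq, ⟨fun y => ?_⟩, hiff⟩
  obtain ⟨t', ht'⟩ := (hiff (Spec (S.residueField y)) (S.fromSpecResidueField y)).1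
    fun x => Groth.Agent.FibCodepth.isFlatOverAt_field (k := S.residueField y) _ _ x
  obtain ⟨p, hp⟩ : y ∈ Set.range (S.fromSpecResidueField y) := by
    rw [Scheme.range_fromSpecResidueField]; rfl
  refine ⟨t' p, ?_⟩
  rw [← Scheme.Hom.comp_apply, ht', hp]

end Groth.Agent.S5651
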