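import Groth.Statements.S5652
import Groth.Agent.NumTriv.SurfH1Main
-- import your own Groth.Agent.* helpers here

set_option autoImplicit false
universe u
open CategoryTheory CategoryTheory.Limits AlgebraicGeometry
open Pic13

namespace Groth.Agent.S5652

/-- Let k be an algebraically closed field, X ⊆ P^n_k an integral closed subscheme of dimension 2,
O_X(1) and O_X(-1) the restrictions of O(1) and O(-1), and L an invertible O_X-module with inverse
L' whose degree (c₁(L)·c₁(O_X(1))) is ≤ 0. Write χ(L(m)) = a_2 C(m+2,2) + a_1 C(m+1,1) + a_0 for m ≥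
0. Then (i) h^1(X, L(m)) ≤ a_1 (a_1 + 1) a_2 - a_0 for every integer m, and (ii) a_0 ≤ a_1 (a_1 +
1). Intersection numbers are those of FGA.intNum, which takes the inverse modules as arguments; h^1
is the dimension over k. -/
theorem result (k : Type u) [Field k] [IsAlgClosed k] (n : ℕ) (X : Scheme.{u}) [X.Over (Spec (CommRingCat.of k))]
    (i : X ⟶ CohB1.ProjSpace n k) [IsClosedImmersion i] (hi : i ≫ CohB1.ProjSpace.toSpec n k = X ↘ Spec (CommRingCat.of k))
    [IsIntegral X] (hdim : topologicalKrullDim X = (2 : ℕ))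
    (L L' : X.Modules) (hL : PicF.IsInvertible L) (hLL' : Nonempty (CohB1.tensorMod L L' ≅ Coh.structureModule X))
    (hdeg : FGA.intNum k X 2 (Matrix.vecCons L' (fun _ : Fin 1 => ((Scheme.Modules.pullback i).obj (Twist.twistProjSpace n k (-1))))) (Coh.structureModule X) ≤ 0)
    (a : Fin 3 → ℤ)
    (ha : ∀ m : ℕ, FGA.eulerCharLE k X (Pic13.twistOn k i L m) 2 = ∑ j : Fin 3, a j * ((m + j).choose j : ℤ)) :
    (∀ m : ℤ, (Module.finrank k (Coh.HH X (Pic13.twistOn k i L m) 1) : ℤ) ≤ a 1 * (a 1 + 1) * a 2 - a 0) ∧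
      a 0 ≤ a 1 * (a 1 + 1) := by
  have := Groth.Agent.ProjProper.Basic.isProper_toSpec n k
  have : IsProper (X ↘ Spec (CommRingCat.of k)) := by rw [← hi]; infer_instance
  exact Groth.Agent.NumTriv.SurfH1.surface i hi hdim L L' hL hLL' hdeg a ha

end Groth.Agent.S5652
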