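import Groth.Statements.S5653
import Groth.Agent.NumTriv.SurfLower
-- import your own Groth.Agent.* helpers here

set_option autoImplicit false
universe u
open CategoryTheory CategoryTheory.Limits AlgebraicGeometry
open Pic13

namespace Groth.Agent.S5653

/-- Let k be an algebraically closed field, X ⊆ P^n_k an integral closed subscheme of dimension 2,
O_X(1), O_X(-1) the restrictions of O(1), O(-1), with χ(O_X(m)) = e_2 C(m+2,2) + e_1 C(m+1,1) + e_0,
and L an invertible O_X-module with inverse L', of degree δ = (c₁(L)·c₁(O_X(1))) ≤ 0 and with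
χ(L(m)) = a_2 C(m+2,2) + a_1 C(m+1,1) + a_0 (m ≥ 0). Put β = δ (e_2 - 1) + e_1. Then a_0 ≥ (c₁(L)²)
+ 2 e_0 + (2 e_1 - a_1) C(δ, 1) + (2 e_2 - a_2) C(δ+1, 2) - β (β + 1), where C(δ, 1) = δ and C(δ+1,
2) = δ(δ+1)/2. (The published statement has +β(β+1) as its last term, which fails for O(1,-3) on P^1
× P^1 ⊆ P^3; this row has -β(β+1), the sign the published proof yields.) Intersection numbers are
those of FGA.intNum, which takes the inverse modules as arguments. -/
theorem result (k : Type u) [Field k] [IsAlgClosed k] (n : ℕ) (X : Scheme.{u}) [X.Over (Spec (CommRingCat.of k))]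
    (i : X ⟶ CohB1.ProjSpace n k) [IsClosedImmersion i] (hi : i ≫ CohB1.ProjSpace.toSpec n k = X ↘ Spec (CommRingCat.of k))
    [IsIntegral X] (hdim : topologicalKrullDim X = (2 : ℕ))
    (L L' : X.Modules) (hL : PicF.IsInvertible L) (hLL' : Nonempty (CohB1.tensorMod L L' ≅ Coh.structureModule X))
    (hdeg : FGA.intNum k X 2 (Matrix.vecCons L' (fun _ : Fin 1 => ((Scheme.Modules.pullback i).obj (Twist.twistProjSpace n k (-1))))) (Coh.structureModule X) ≤ 0)
    (a : Fin 3 → ℤ)
    (ha : ∀ m : ℕ, FGA.eulerCharLE k X (Pic13.twistOn k i L m) 2 = ∑ j : Fin 3, a j * ((m + j).choose j : ℤ))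
    (e : Fin 3 → ℤ)
    (he : ∀ m : ℕ, FGA.eulerCharLE k X (Pic13.twistOn k i (Coh.structureModule X) m) 2 = ∑ j : Fin 3, e j * ((m + j).choose j : ℤ)) :
    FGA.intNum k X 2 (Matrix.vecCons L' (fun _ : Fin 1 => L')) (Coh.structureModule X) + 2 * e 0 +
        (2 * e 1 - a 1) * FGA.intNum k X 2 (Matrix.vecCons L' (fun _ : Fin 1 => ((Scheme.Modules.pullback i).obj (Twist.twistProjSpace n k (-1))))) (Coh.structureModule X) +
        (2 * e 2 - a 2) * (FGA.intNum k X 2 (Matrix.vecCons L' (fun _ : Fin 1 => ((Scheme.Modules.pullback i).obj (Twist.twistProjSpace n k (-1))))) (Coh.structureModule X) *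
          (FGA.intNum k X 2 (Matrix.vecCons L' (fun _ : Fin 1 => ((Scheme.Modules.pullback i).obj (Twist.twistProjSpace n k (-1))))) (Coh.structureModule X) + 1) / 2) -
        (FGA.intNum k X 2 (Matrix.vecCons L' (fun _ : Fin 1 => ((Scheme.Modules.pullback i).obj (Twist.twistProjSpace n k (-1))))) (Coh.structureModule X) * (e 2 - 1) + e 1) *
          (FGA.intNum k X 2 (Matrix.vecCons L' (fun _ : Fin 1 => ((Scheme.Modules.pullback i).obj (Twist.twistProjSpace n k (-1))))) (Coh.structureModule X) * (e 2 - 1) + e 1 + 1)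
      ≤ a 0 := by
  have := Groth.Agent.ProjProper.Basic.isProper_toSpec n k
  have : IsProper (X ↘ Spec (CommRingCat.of k)) := by rw [← hi]; infer_instance
  exact Groth.Agent.NumTriv.SurfLower.lower i hi hdim L L' hL hLL' _ rfl hdeg a ha e he

end Groth.Agent.S5653
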