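import Groth.Statements.S5655
import Groth.Agent.FlatMor.GeomIntComp.Cover
import Groth.Agent.FlatMor.GeomIntComp.Descend
import Groth.Agent.FlatMor.GeomIntComp.NormalSpread
import Groth.Agent.S1585

set_option autoImplicit false
universe u
open CategoryTheory CategoryTheory.Limits AlgebraicGeometry
open FlatMor

namespace Groth.Agent.S5655

/-- Let S be an integral Noetherian scheme and f : X ⟶ S flat of finite type with geometrically integral
fibres. Then there are a nonempty open U ⊆ S, an integral scheme S' with a finite flat surjective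
morphism h : S' ⟶ U, a scheme X' with a flat morphism q : X' ⟶ S' whose fibres are geometrically
integral and geometrically normal (normal after base change to any algebraically closed field), and
a finite surjective morphism g : X' ⟶ X ×_S S' over S'. (The published statement says only that X is
an S-scheme integral over S, that is, flat over S with geometrically integral fibres; this row also
assumes f of finite type, and the fibres of q over all points of S' are nonempty.) -/
theorem result {X S : Scheme.{u}} [IsNoetherian S] [IsIntegral S]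
    (f : X ⟶ S) [Flat f] [GeometricallyIntegral f] [LocallyOfFiniteType f] [QuasiCompact f] :
    ∃ (U : S.Opens) (S' : Scheme.{u}) (h : S' ⟶ (U : Scheme.{u})) (X' : Scheme.{u}) (q : X' ⟶ S')
      (g : X' ⟶ pullback f (h ≫ U.ι)),
      (U : Set S).Nonempty ∧ IsIntegral S' ∧ IsFinite h ∧ Flat h ∧ Surjective h ∧
      Flat q ∧ GeometricallyIntegral q ∧
      (∀ (Ω : Type u) [Field Ω] [IsAlgClosed Ω] (σ : Spec (CommRingCat.of Ω) ⟶ S'), Pi1.IsNormalScheme (pullback q σ)) ∧
      IsFinite g ∧ Surjective g ∧ g ≫ pullback.snd f (h ≫ U.ι) = q := by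
  obtain ⟨V₀, hV₀, hη₀, -⟩ := exists_isAffineOpen_mem_and_subset (X := S) (x := genericPoint S)
    (U := ⊤) trivial
  haveI : Nonempty V₀ := ⟨⟨_, hη₀⟩⟩
  let k := FractionRing Γ(S, V₀)
  let E := AlgebraicClosure k
  haveI : IsLocallyNoetherian X := LocallyOfFiniteType.isLocallyNoetherian f
  haveI : QuasiSeparated f := QuasiSeparated.of_quasiSeparatedSpace f
  let f₀ := pullback.snd f hV₀.fromSpec
  haveI : LocallyOfFiniteType f₀ := MorphismProperty.pullback_snd _ _ ‹_›
  haveI : QuasiCompact f₀ := MorphismProperty.pullback_snd _ _ ‹_›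
  haveI : QuasiSeparated f₀ := MorphismProperty.pullback_snd _ _ ‹_›
  let bE := Spec.map (CommRingCat.ofHom (algebraMap Γ(S, V₀) E))
  let Xb := pullback f₀ bE
  letI : Xb.Over (Spec (CommRingCat.of E)) := ⟨pullback.snd f₀ bE⟩
  haveI : LocallyOfFiniteType (Xb ↘ Spec (CommRingCat.of E)) := MorphismProperty.pullback_snd _ _ ‹_›
  haveI : IsLocallyNoetherian Xb :=
    LocallyOfFiniteType.isLocallyNoetherian (Xb ↘ Spec (CommRingCat.of E))
  haveI : IsIntegral Xb :=
    pullback_of_geometrically GeometricallyIntegral.geometrically_isIntegral E bE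
  haveI : QuasiCompact (Xb.fromSpecStalk (genericPoint Xb)) := inferInstance
  haveI : QuasiSeparated (Xb.fromSpecStalk (genericPoint Xb)) := inferInstance
  obtain ⟨hνfin, hνdom, -, hNint, hNnor⟩ := Groth.Agent.S1585.result E Xb
  let ν := Curv2.normalizationι Xb
  haveI : IsFinite ν := hνfin
  haveI : LocallyOfFinitePresentation ν :=
    LocallyOfFinitePresentation.iff_locallyOfFiniteType.mpr inferInstance
  obtain ⟨R, hR, M, μ, qN, v, hμ, hqN, hv⟩ :=
    Groth.Agent.FlatMor.GeomIntComp.exists_finite_model E f₀ ν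
  haveI := hμ
  obtain ⟨gens, hgens⟩ := hR
  let L : IntermediateField k E := IntermediateField.adjoin k (gens : Set E)
  haveI : FiniteDimensional k L := IntermediateField.finiteDimensional_adjoin
    fun x _ => Algebra.IsIntegral.isIntegral x
  have hRL : R ≤ L.toSubalgebra.restrictScalars Γ(S, V₀) := by
    rw [← hgens]
    exact Algebra.adjoin_le fun x hx => IntermediateField.subset_adjoin k _ hx
  let r : R →ₐ[Γ(S, V₀)] L :=
    { toRingHom := (Subalgebra.val R).toRingHom.codRestrict L.toSubalgebra fun x => hRL x.2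
      commutes' := fun a => Subtype.ext rfl }
  haveI : Algebra.FiniteType Γ(S, V₀) R := (Subalgebra.fg_iff_finiteType R).1 ⟨gens, hgens⟩
  obtain ⟨V, S', h, t, ρ, _, hηV, hfin, hflat, hsurj, htp, htf, ht, hgen, hth, hρ, htρ⟩ :=
    Groth.Agent.FlatMor.GeomIntComp.exists_cover' hV₀ k L R r
  haveI : IsLocallyNoetherian S' := LocallyOfFiniteType.isLocallyNoetherian (h ≫ V.ι)
  haveI : CompactSpace S' := QuasiCompact.compactSpace_of_compactSpace (h ≫ V.ι)
  haveI : IsNoetherian S' := {}
  let tb := Spec.map (CommRingCat.ofHom L.val.toRingHom) ≫ t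
  have htb : ∀ z, tb z = genericPoint S' := fun z => ht _
  have htbρ : tb ≫ ρ = Spec.map (CommRingCat.ofHom R.val.toRingHom) := by
    rw [Category.assoc, htρ, ← Spec.map_comp, ← CommRingCat.ofHom_comp]
    rfl
  -- the base change to the cover
  let g := pullback.snd f (h ≫ V.ι)
  haveI : LocallyOfFiniteType g := MorphismProperty.pullback_snd _ _ ‹_›
  haveI : QuasiCompact g := MorphismProperty.pullback_snd _ _ ‹_›
  haveI : LocallyOfFinitePresentation g :=
    LocallyOfFinitePresentation.iff_locallyOfFiniteType.mpr inferInstance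
  haveI : UniversallyOpen g := UniversallyOpen.of_flat g
  haveI : IsIntegral (pullback f (h ≫ V.ι)) :=
    GeometricallyIntegral.isIntegral_of_isLocallyNoetherian g
  let bR := Spec.map (CommRingCat.ofHom (algebraMap Γ(S, V₀) R))
  let sR := pullback.snd f₀ bR
  have hw : pullback.fst f (h ≫ V.ι) ≫ f = (g ≫ ρ ≫ bR) ≫ hV₀.fromSpec := by
    rw [pullback.condition]
    simp only [Category.assoc]
    rw [hρ]
  let w : pullback f (h ≫ V.ι) ⟶ pullback f₀ bR :=
    pullback.lift (pullback.lift (pullback.fst f (h ≫ V.ι)) (g ≫ ρ ≫ bR) hw) (g ≫ ρ)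
      (by rw [pullback.lift_snd, Category.assoc])
  have hX' : IsPullback w g sR ρ := by
    refine IsPullback.of_right (h₁₂ := pullback.fst f₀ bR ≫ pullback.fst f hV₀.fromSpec) (v₁₃ := f)
      (h₂₂ := bR ≫ hV₀.fromSpec) ?_ (pullback.lift_snd _ _ _)
      ((IsPullback.of_hasPullback f₀ bR).paste_horiz (IsPullback.of_hasPullback f hV₀.fromSpec))
    rw [← Category.assoc w, show w ≫ pullback.fst f₀ bR = _ from pullback.lift_fst _ _ _,
      pullback.lift_fst, hρ]
    exact IsPullback.of_hasPullback f (h ≫ V.ι)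
  let μ' := pullback.snd μ w
  haveI : IsFinite μ' := MorphismProperty.pullback_snd _ _ hμ
  have hM : IsPullback (pullback.fst μ w) (μ' ≫ g) (μ ≫ sR) ρ :=
    (IsPullback.of_hasPullback μ w).paste_vert hX'
  have hN₁ : IsPullback qN (ν ≫ pullback.snd f₀ bE) (μ ≫ sR) (tb ≫ ρ) := htbρ ▸ hqN.paste_vert hv
  let eN := ((IsPullback.of_hasPullback (μ' ≫ g) tb).paste_horiz hM).isoIsPullback _ _ hN₁
  haveI := hNint
  haveI : Nonempty ↥(pullback (μ' ≫ g) tb) := ⟨eN.inv (genericPoint (Curv2.normalization Xb))⟩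
  have hQint : IsIntegral (pullback (μ' ≫ g) tb) := isIntegral_of_isOpenImmersion eN.hom
  have hQnor : Pi1.IsNormalScheme (pullback (μ' ≫ g) tb) := fun z =>
    Groth.Agent.FlatMor.GeomIntComp.normal_stalk_of_openImmersion eN.hom z (hNnor _)
  obtain ⟨U, hU, hgood⟩ :=
    Groth.Agent.FlatMor.GeomIntComp.exists_open_normal (μ' ≫ g) tb htb hQint hQnor
  -- surjectivity
  haveI hνs : Surjective ν := ⟨fun x => by
    rw [← Set.mem_range, ← ν.isClosedMap.isClosed_range.closure_eq, ν.denseRange.closure_range]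
    trivial⟩
  haveI : Surjective μ' := ⟨by
    let x := genericPoint ↥(pullback f (h ≫ V.ι))
    have hgx : g x = genericPoint S' := by
      refine ((genericPoint_specializes _).antisymm (specializes_iff_forall_open.2 fun W hW hη => ?_)).eq.symm
      obtain ⟨z, hz⟩ := g.surjective (genericPoint S')
      exact (genericPoint_specializes z).mem_open (hW.preimage g.continuous)
        (show g z ∈ W from hz ▸ hη)
    obtain ⟨y, hy⟩ : x ∈ Set.range (pullback.fst g tb) := by
      rw [Scheme.Pullback.range_fst]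
      exact ⟨IsLocalRing.closedPoint E, (htb _).trans hgx.symm⟩
    let e := ((IsPullback.of_hasPullback g tb).paste_horiz hX').isoIsPullback _ _
      (htbρ ▸ hv : IsPullback v (pullback.snd f₀ bE) sR (tb ≫ ρ))
    obtain ⟨n, hn⟩ := ν.surjective (e.hom y)
    have hnx : μ (qN n) = w x := by
      rw [← Scheme.Hom.comp_apply, hqN.w, Scheme.Hom.comp_apply, hn, ← Scheme.Hom.comp_apply,
        IsPullback.isoIsPullback_hom_fst, Scheme.Hom.comp_apply, hy]
    obtain ⟨m, -, hm⟩ := Scheme.Pullback.exists_preimage_pullback (f := μ) (g := w) (qN n) x hnx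
    intro x₁
    exact Set.mem_range.1 (Specializes.mem_closed (genericPoint_specializes x₁ : x ⤳ x₁)
      μ'.isClosedMap.isClosed_range (show x ∈ Set.range μ' from ⟨m, hm⟩))⟩
  -- shrinking
  let V₁ : (V : Scheme.{u}).Opens :=
    ⟨(h '' (U : Set S')ᶜ)ᶜ, (h.isClosedMap _ U.2.isClosed_compl).isOpen_compl⟩
  have hV₁ : (⟨genericPoint S, hηV⟩ : V) ∈ V₁ := by
    rintro ⟨y, hy, hy'⟩
    exact hy (hgen y (by rw [Scheme.Hom.comp_apply, hy']; rfl) ▸ hU)
  let u := (h ⁻¹ᵁ V₁).ι
  have hu : Set.range u ⊆ U := by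
    rw [Scheme.Opens.range_ι]
    intro y hy
    by_contra hy'
    exact hy ⟨y, hy', rfl⟩
  haveI : Surjective (h ∣_ V₁) := MorphismProperty.of_isPullback
    (isPullback_morphismRestrict h V₁).flip hsurj
  haveI : Nonempty (h ⁻¹ᵁ V₁ : S'.Opens) := by
    obtain ⟨y, hy⟩ := h.surjective ⟨genericPoint S, hηV⟩
    exact ⟨⟨y, show h y ∈ V₁ from hy ▸ hV₁⟩⟩
  let h' := (h ∣_ V₁) ≫ (V.ι.isoImage V₁).hom
  have hcomp : h' ≫ (V.ι ''ᵁ V₁).ι = u ≫ h ≫ V.ι := by
    rw [Category.assoc, Scheme.Hom.isoImage_hom_ι, morphismRestrict_ι_assoc]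
  let p := pullback.snd f (h' ≫ (V.ι ''ᵁ V₁).ι)
  have hwv : pullback.fst f (h' ≫ (V.ι ''ᵁ V₁).ι) ≫ f = (p ≫ u) ≫ h ≫ V.ι :=
    (pullback.condition.trans (congrArg (p ≫ ·) hcomp)).trans (Category.assoc _ _ _).symm
  let v₁ := pullback.lift (pullback.fst f (h' ≫ (V.ι ''ᵁ V₁).ι)) (p ≫ u) hwv
  have sq : IsPullback v₁ p g u := by
    refine IsPullback.of_right (h₁₂ := pullback.fst f (h ≫ V.ι)) (v₁₃ := f) (h₂₂ := h ≫ V.ι) ?_
      (pullback.lift_snd _ _ _) (IsPullback.of_hasPullback f (h ≫ V.ι))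
    rw [show v₁ ≫ pullback.fst f (h ≫ V.ι) = _ from pullback.lift_fst _ _ _, ← hcomp]
    exact IsPullback.of_hasPullback f _
  obtain ⟨hq₁, hq₂, hq₃⟩ := hgood _ _ (pullback.fst μ' v₁) (pullback.snd μ' v₁ ≫ p) u
    ((IsPullback.of_hasPullback μ' v₁).paste_vert sq) hu
  exact ⟨V.ι ''ᵁ V₁, (h ⁻¹ᵁ V₁ : S'.Opens), h', pullback μ' v₁, pullback.snd μ' v₁ ≫ p,
    pullback.snd μ' v₁, ⟨genericPoint S, ⟨genericPoint S, hηV⟩, hV₁, rfl⟩, inferInstance,
    inferInstance, inferInstance, inferInstance, hq₁, hq₂, fun Ω _ _ σ => hq₃ Ω σ,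
    MorphismProperty.pullback_snd _ _ ‹IsFinite μ'›, inferInstance, rfl⟩

end Groth.Agent.S5655
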