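import Groth.Statements.S5656
import Mathlib.RingTheory.Polynomial.Pochhammer
import Mathlib.Algebra.Polynomial.Roots
import Mathlib.Algebra.Polynomial.Eval.SMul
import Mathlib.Algebra.Order.Archimedean.Basic
import Mathlib.Data.Rat.Floor
import Mathlib.Tactic.FieldSimp
import Mathlib.Tactic.Linarith
import Mathlib.Tactic.Positivity

set_option autoImplicit false
universe u
open W4sga6xxiii

namespace Groth.Agent.S5656

/-- A polynomial map is polynomial on each line. -/
lemma exists_poly {G : Type u} [AddCommGroup G] {f : G → ℚ} (hf : W4sga6xxiii.IsPolyMap f) (x : G) :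
    ∃ P : Polynomial ℚ, ∀ n : ℤ, f (n • x) = P.eval (n : ℚ) := by
  obtain ⟨m, y, -, h⟩ := hf 1 (fun _ => x)
  refine ⟨∑ k : Fin 1 → Fin (m + 1),
    Polynomial.C (y k / ((k 0 : ℕ).factorial : ℚ)) * descPochhammer ℚ (k 0), fun n => ?_⟩
  have := h (fun _ => n)
  simp only [Fin.sum_univ_one, Fin.prod_univ_one] at this
  rw [this, Polynomial.eval_finsetSum]
  refine Finset.sum_congr rfl fun k _ => ?_
  rw [Polynomial.eval_mul, Polynomial.eval_C, zsmul_eq_mul]
  have e := Ring.descPochhammer_eq_factorial_smul_choose n (k 0 : ℕ)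
  rw [nsmul_eq_mul] at e
  have e' : (descPochhammer ℚ (k 0)).eval (n : ℚ) =
      ((k 0 : ℕ).factorial : ℚ) * ((Ring.choose n (k 0 : ℕ) : ℤ) : ℚ) := by
    have e2 : (descPochhammer ℤ (k 0)).eval n = (k 0 : ℕ).factorial * Ring.choose n (k 0 : ℕ) := by
      rw [← e, ← Polynomial.eval_eq_smeval]
    rw [← descPochhammer_map (Int.castRingHom ℚ), Polynomial.eval_intCast_map]
    rw [Int.cast_id, e2]; simp
  rw [e']
  have : ((k 0 : ℕ).factorial : ℚ) ≠ 0 := Nat.cast_ne_zero.2 (Nat.factorial_ne_zero _)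
  field_simp

/-- A polynomial taking integer values at the `p ^ (-j)` and at zero is constant. -/
lemma const_of_int (P : Polynomial ℚ) {p : ℕ} (hp : 2 ≤ p)
    (h : ∀ j : ℕ, ∃ a : ℤ, P.eval ((1 : ℚ) / (p : ℚ) ^ j) = a) {c : ℤ} (h0 : P.eval 0 = c) :
    P = Polynomial.C (c : ℚ) := by
  let B : ℚ := ∑ i ∈ Finset.range (P.natDegree + 1), |P.coeff i|
  obtain ⟨j₀, hj₀⟩ := pow_unbounded_of_one_lt B (show (1 : ℚ) < p by exact_mod_cast hp)
  have hp0 : (0 : ℚ) < p := by exact_mod_cast (lt_of_lt_of_le zero_lt_two hp)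
  have hp1 : (1 : ℚ) ≤ p := by exact_mod_cast (one_le_two.trans hp)
  have hsmall : ∀ j, j₀ ≤ j → P.eval ((1 : ℚ) / (p : ℚ) ^ j) = c := fun j hj => by
    obtain ⟨a, ha⟩ := h j
    have ht : (0 : ℚ) ≤ 1 / (p : ℚ) ^ j := by positivity
    have ht1 : (1 : ℚ) / (p : ℚ) ^ j ≤ 1 := by
      rw [div_le_one (by positivity)]; exact one_le_pow₀ hp1
    have hB : |P.eval ((1 : ℚ) / (p : ℚ) ^ j) - P.eval 0| ≤ B * (1 / (p : ℚ) ^ j) := by
      rw [Polynomial.eval_eq_sum_range, Polynomial.eval_eq_sum_range, ← Finset.sum_sub_distrib]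
      refine (Finset.abs_sum_le_sum_abs _ _).trans ?_
      rw [Finset.sum_mul]
      refine Finset.sum_le_sum fun i _ => ?_
      rcases i with _ | i
      · simpa using mul_nonneg (abs_nonneg (P.coeff 0)) ht
      · rw [zero_pow (Nat.succ_ne_zero i), mul_zero, sub_zero, abs_mul, abs_pow, abs_of_nonneg ht]
        exact mul_le_mul_of_nonneg_left (pow_le_of_le_one ht ht1 (Nat.succ_ne_zero i))
          (abs_nonneg _)
    have hlt : B * (1 / (p : ℚ) ^ j) < 1 := by
      rw [mul_one_div, div_lt_one (by positivity)]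
      exact hj₀.trans_le (pow_le_pow_right₀ hp1 hj)
    rw [ha, h0] at hB
    have : |a - c| < 1 := by exact_mod_cast hB.trans_lt hlt
    rw [Int.abs_lt_one_iff, sub_eq_zero] at this
    rw [ha, this]
  refine Polynomial.eq_of_infinite_eval_eq _ _ (Set.Infinite.mono ?_
    (Set.infinite_range_of_injective (f := fun j : ℕ => (1 : ℚ) / (p : ℚ) ^ (j + j₀)) ?_))
  · rintro _ ⟨j, rfl⟩
    simp only [Set.mem_ofPred_eq, Polynomial.eval_C]
    exact hsmall _ (Nat.le_add_left _ _)
  · intro a b hab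
    simp only [one_div, inv_inj] at hab
    have := Nat.pow_right_injective hp (show p ^ (a + j₀) = p ^ (b + j₀) by exact_mod_cast hab)
    omega

/-- Let G be an abelian group and G' ⊆ G a subgroup which is divisible by some prime number p (every
element of G' is p times an element of G') and such that G/G' is a torsion group. Then every
polynomial map f : G → ℚ (admitting binomial expansions f(Σ n_i x_i) = Σ_k Π_i C(n_i, k_i) y_k along
every finite sequence x) which takes only integer values is constant. -/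
theorem result {G : Type u} [AddCommGroup G] (G' : AddSubgroup G)
    (p : ℕ) (hp : p.Prime) (hdiv : ∀ x ∈ G', ∃ y ∈ G', p • y = x) (htor : ∀ x : G, ∃ n : ℤ, n ≠ 0 ∧ n • x ∈ G')
    (f : G → ℚ) (hf : W4sga6xxiii.IsPolyMap f) (hint : ∀ x, ∃ z : ℤ, f x = z) (x : G) : f x = f 0 := by
  have key : ∀ z ∈ G', ∀ n : ℤ, f (n • z) = f 0 := fun z hz => by
    choose g hg hgp using hdiv
    let s : ℕ → G' := fun j => Nat.rec ⟨z, hz⟩ (fun _ a => ⟨g a.1 a.2, hg a.1 a.2⟩) j
    have hs : ∀ j, (p ^ j) • Subtype.val (s j) = z := fun j => by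
      induction j with
      | zero => simp [s]
      | succ j ih =>
        have e : p • Subtype.val (s (j + 1)) = Subtype.val (s j) := hgp (s j).1 (s j).2
        rw [pow_succ, mul_smul, e, ih]
    obtain ⟨P, hP⟩ := exists_poly hf z
    have hint' : ∀ j : ℕ, ∃ a : ℤ, P.eval ((1 : ℚ) / (p : ℚ) ^ j) = a := fun j => by
      obtain ⟨Q, hQ⟩ := exists_poly hf (Subtype.val (s j))
      have e : Q.comp (Polynomial.C ((p : ℚ) ^ j) * Polynomial.X) = P := by
        refine Polynomial.eq_of_infinite_eval_eq _ _ (Set.Infinite.mono ?_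
          (Set.infinite_range_of_injective (Int.cast_injective (α := ℚ))))
        rintro _ ⟨n, rfl⟩
        simp only [Set.mem_ofPred_eq, Polynomial.eval_comp, Polynomial.eval_mul, Polynomial.eval_C,
          Polynomial.eval_X]
        rw [← hP, show (p : ℚ) ^ j * (n : ℚ) = ((n * (p ^ j : ℕ) : ℤ) : ℚ) by push_cast; ring,
          ← hQ, mul_smul, natCast_zsmul, hs]
      obtain ⟨a, ha⟩ := hint (Subtype.val (s j))
      refine ⟨a, ?_⟩
      have hp0 : (p : ℚ) ^ j ≠ 0 := pow_ne_zero _ (Nat.cast_ne_zero.2 hp.ne_zero)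
      rw [← e, Polynomial.eval_comp, Polynomial.eval_mul, Polynomial.eval_C, Polynomial.eval_X,
        mul_one_div_cancel hp0, ← ha]
      have := hQ 1
      rw [one_zsmul, Int.cast_one] at this
      exact this.symm
    intro n
    obtain ⟨c, hc⟩ := hint 0
    have h0 : P.eval 0 = c := by
      have := hP 0
      rw [zero_smul, Int.cast_zero] at this
      rw [← this, hc]
    rw [hP, const_of_int P hp.two_le hint' h0, Polynomial.eval_C, hc]
  obtain ⟨n, hn, hnx⟩ := htor x
  obtain ⟨P, hP⟩ := exists_poly hf x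
  have h : P = Polynomial.C (f 0) := by
    refine Polynomial.eq_of_infinite_eval_eq _ _ (Set.Infinite.mono ?_
      (Set.infinite_range_of_injective (f := fun k : ℤ => ((k * n : ℤ) : ℚ))
        (Int.cast_injective.comp (mul_left_injective₀ hn))))
    rintro _ ⟨k, rfl⟩
    simp only [Set.mem_ofPred_eq, Polynomial.eval_C]
    rw [← hP, mul_smul, key _ hnx]
  have := hP 1
  rwa [one_zsmul, h, Polynomial.eval_C] at this

end Groth.Agent.S5656
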