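import Groth.Statements.S5657
import Mathlib.Algebra.BigOperators.Ring.Finset
import Mathlib.RingTheory.Nilpotent.Defs

set_option autoImplicit false
universe u
open TensorProduct
open W4sga6xxiii

namespace Groth.Agent.S5657

/-- The binomial expansion of an integer power of `1 + e`. -/
lemma zpow_eq_sum {A : Type u} [CommRing A] (I : Ideal A) (m : ℕ) (hI : I ^ (m + 1) = ⊥) (u : Aˣ)
    (hu : (u : A) - 1 ∈ I) (n : ℤ) :
    ((u ^ n : Aˣ) : A) = ∑ k : Fin (m + 1), Ring.choose n (k : ℕ) • ((u : A) - 1) ^ (k : ℕ) := by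
  set e := (u : A) - 1
  have htop : e ^ (m + 1) = 0 := by
    have := Ideal.pow_mem_pow hu (m + 1)
    rwa [hI] at this
  let S : ℤ → A := fun n => ∑ k ∈ Finset.range (m + 1), Ring.choose n k • e ^ k
  have step : ∀ n, S (n + 1) = S n * (u : A) := fun n => by
    rw [show (u : A) = 1 + e by simp [e], mul_add, mul_one]
    simp only [S]
    rw [Finset.sum_range_succ' (fun k => Ring.choose (n + 1) k • e ^ k) m,
      Finset.sum_range_succ' (fun k => Ring.choose n k • e ^ k) m]
    simp only [Ring.choose_succ_succ, Ring.choose_zero_right, add_smul, Finset.sum_add_distrib,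
      add_mul, Finset.sum_mul, smul_mul_assoc, ← pow_succ, pow_zero, one_smul, one_mul]
    have h1 : ∑ i ∈ Finset.range m, Ring.choose n i • e ^ (i + 1) =
        ∑ i ∈ Finset.range m, Ring.choose n (i + 1) • e ^ (i + 2) + e := by
      rcases m with _ | m
      · simp only [zero_add, pow_one] at htop
        simp [htop]
      · rw [Finset.sum_range_succ' _ m, Finset.sum_range_succ _ m, htop]
        simp
    rw [h1]
    ring
  have h0 : S 0 = 1 := by
    simp only [S]
    rw [Finset.sum_range_succ']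
    simp [Ring.choose_zero_pos]
  have main : ∀ n : ℤ, ((u ^ n : Aˣ) : A) = S n := by
    intro n
    induction n using Int.induction_on with
    | zero => simp [h0]
    | succ i ih => rw [step, ← ih, zpow_add_one, Units.val_mul]
    | pred i ih =>
      have := step (-(i : ℤ) - 1)
      rw [sub_add_cancel, ← ih] at this
      rw [← Units.mul_left_inj u, ← this, ← Units.val_mul, ← zpow_add_one, sub_add_cancel]
  rw [main n]
  exact Finset.sum_range (fun k => Ring.choose n k • e ^ k)

/-- Let A be a commutative ring, I an ideal of A with I^{m+1} = 0, and P ⊆ Aˣ the subgroup of units of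
the form 1 + y with y ∈ I. Then the map P → A ⊗_ℤ ℚ, x ↦ x ⊗ 1, is a polynomial map of degree ≤ m on
the abelian group P (written additively): along every finite sequence x_1, …, x_r in P one has
x_1^{n_1}⋯x_r^{n_r} ⊗ 1 = Σ_k Π_i C(n_i, k_i) y_k with y_k = 0 whenever k_1 + ⋯ + k_r > m. -/
theorem result (A : Type u) [CommRing A] (I : Ideal A) (m : ℕ) (hI : I ^ (m + 1) = ⊥)
    (P : Subgroup Aˣ) (hP : ∀ u : Aˣ, u ∈ P ↔ (u : A) - 1 ∈ I) :
    W4sga6xxiii.IsPolyMapLE (fun u : Additive P => (((Additive.toMul u : P) : Aˣ) : A) ⊗ₜ[ℤ] (1 : ℚ)) m := by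
  intro r x
  let e : Fin r → A := fun i => ((((x i).toMul : P) : Aˣ) : A) - 1
  have he : ∀ i, e i ∈ I := fun i => (hP _).1 (x i).toMul.2
  refine ⟨fun k => (∏ i, e i ^ (k i : ℕ)) ⊗ₜ[ℤ] (1 : ℚ), fun k hk => ?_, fun n => ?_⟩
  · have h : ∏ i, e i ^ (k i : ℕ) ∈ I ^ ∑ i, (k i : ℕ) := by
      rw [← Finset.prod_pow_eq_pow_sum]
      exact Ideal.prod_mem_prod fun i _ => Ideal.pow_mem_pow (he i) _
    have h' : ∏ i, e i ^ (k i : ℕ) ∈ (⊥ : Ideal A) := hI ▸ Ideal.pow_le_pow_right hk h
    rw [Submodule.mem_bot] at h'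
    simp only [h', TensorProduct.zero_tmul]
  · have hu : ∀ (s : Finset (Fin r)), ((((∑ i ∈ s, n i • x i).toMul : P) : Aˣ) : A) =
        ∏ i ∈ s, (((((x i).toMul : P) : Aˣ) ^ n i : Aˣ) : A) := fun s => by
      simp only [toMul_sum, toMul_zsmul, SubmonoidClass.coe_finsetProd, Units.coe_prod,
        SubgroupClass.coe_zpow]
    show (_ : A) ⊗ₜ[ℤ] (1 : ℚ) = _
    rw [hu, Finset.prod_congr rfl fun i _ => zpow_eq_sum I m hI _ (he i) (n i),
      Fintype.prod_sum, TensorProduct.sum_tmul]
    refine Finset.sum_congr rfl fun k _ => ?_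
    rw [TensorProduct.smul_tmul']
    congr 1
    simp only [e, zsmul_eq_mul, Finset.prod_mul_distrib, Int.cast_prod]

end Groth.Agent.S5657
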