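import Groth.Statements.S5659
import Mathlib
import Groth.Agent.CAlgLib.SLGen
-- import your own Groth.Agent.* helpers here

set_option autoImplicit false
universe u
open CAlg

namespace Groth.Agent.S5659

section
open Groth.Agent.CAlgLib.SLGen Matrix LaurentPolynomial

variable {R : Type u} [CommRing R]

/-- a natural family of characters of `GL N` -/
def IsNat {N : ℕ} (β : ∀ (B : Type u) [CommRing B] [Algebra R B], Matrix.GeneralLinearGroup (Fin N) B →* Bˣ) : Prop :=
  ∀ (B C : Type u) [CommRing B] [Algebra R B] [CommRing C] [Algebra R C] (φ : B →ₐ[R] C)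
    (g : Matrix.GeneralLinearGroup (Fin N) B),
    β C (Matrix.GeneralLinearGroup.map φ.toRingHom g) = Units.map (φ.toRingHom : B →* C) (β B g)

theorem idem_cases [ConnectedSpace (PrimeSpectrum R)] {e : R} (he : IsIdempotentElem e) : e = 0 ∨ e = 1 := by
  have hc : IsClopen (PrimeSpectrum.basicOpen e : Set (PrimeSpectrum R)) := by
    refine ⟨?_, (PrimeSpectrum.basicOpen e).isOpen⟩
    rw [PrimeSpectrum.basicOpen_eq_zeroLocus_of_isIdempotentElem e he]
    exact PrimeSpectrum.isClosed_zeroLocus _
  rcases isClopen_iff.mp hc with h | h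
  · exact Or.inl (PrimeSpectrum.basicOpen_injOn_isIdempotentElem he IsIdempotentElem.zero
      (TopologicalSpace.Opens.ext (by rw [h, PrimeSpectrum.basicOpen_zero]; rfl)))
  · exact Or.inr (PrimeSpectrum.basicOpen_injOn_isIdempotentElem he IsIdempotentElem.one
      (TopologicalSpace.Opens.ext (by rw [h, PrimeSpectrum.basicOpen_one]; rfl)))

theorem nontrivial_of_connected [ConnectedSpace (PrimeSpectrum R)] : Nontrivial R :=
  PrimeSpectrum.nonempty_iff_nontrivial.mp ConnectedSpace.toNonempty

/-- evaluation of a Laurent polynomial at a unit -/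
noncomputable def ev {B : Type u} [CommRing B] [Algebra R B] (b : Bˣ) : LaurentPolynomial R →ₐ[R] B :=
  AddMonoidAlgebra.lift R B ℤ ((Units.coeHom B).comp (zpowersHom Bˣ b))

theorem ev_single {B : Type u} [CommRing B] [Algebra R B] (b : Bˣ) (k : ℤ) (r : R) :
    ev b (AddMonoidAlgebra.single k r) = r • ((b ^ k : Bˣ) : B) := by
  rw [ev, AddMonoidAlgebra.lift_single]
  rfl

theorem map_El {N : ℕ} {B C : Type u} [CommRing B] [CommRing C] (f : B →+* C) (i j : Fin N) (h : i ≠ j) (c : B) :
    Matrix.GeneralLinearGroup.map f (El i j h c) = El i j h (f c) := by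
  ext1
  show (transvection i j c).map f = transvection i j (f c)
  rw [transvection, transvection]
  ext k l
  simp only [Matrix.map_apply, Matrix.add_apply, Matrix.one_apply, Matrix.single_apply, map_add, apply_ite f, map_one, map_zero]

theorem map_Dg {N : ℕ} {B C : Type u} [CommRing B] [CommRing C] (f : B →+* C) (d : Fin N → Bˣ) :
    Matrix.GeneralLinearGroup.map f (Dg d) = Dg (fun i => Units.map (f : B →* C) (d i)) := by
  ext1
  show (diagonal fun i => (d i : B)).map f = _
  rw [diagonal_map (map_zero f)]
  rfl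

variable {N : ℕ} {β : ∀ (B : Type u) [CommRing B] [Algebra R B], Matrix.GeneralLinearGroup (Fin N) B →* Bˣ}

theorem trans_trivial (hβ : IsNat β) (B : Type u) [CommRing B] [Algebra R B] (i j : Fin N) (h : i ≠ j) (c : B) :
    β B (El i j h c) = 1 := by
  classical
  let P := Polynomial R
  let L := LaurentPolynomial P
  let p : P := ((β P (El i j h Polynomial.X) : Pˣ) : P)
  let ι₀ : P →ₐ[R] L := IsScalarTower.toAlgHom R P L
  let a : Lˣ := ⟨T 1, T (-1), by rw [← T_add]; simp, by rw [← T_add]; simp⟩
  let ι₁ : P →ₐ[R] L := Polynomial.aeval ((a : L) * algebraMap P L Polynomial.X)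
  have hι₀ : ι₀ Polynomial.X = algebraMap P L Polynomial.X := rfl
  have key : ι₁ p = ι₀ p := by
    have h0 := congrArg Units.val (hβ P L ι₀ (El i j h Polynomial.X))
    have h1 := congrArg Units.val (hβ P L ι₁ (El i j h Polynomial.X))
    rw [map_El, AlgHom.toRingHom_eq_coe, RingHom.coe_coe, hι₀] at h0
    rw [map_El, AlgHom.toRingHom_eq_coe, RingHom.coe_coe, Polynomial.aeval_X] at h1
    let D : Matrix.GeneralLinearGroup (Fin N) L := Dg (Pi.mulSingle i a)
    have hc : El i j h ((a : L) * algebraMap P L Polynomial.X) = D * El i j h (algebraMap P L Polynomial.X) * D⁻¹ := by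
      rw [eq_mul_inv_iff_mul_eq]
      ext1
      simp only [Units.val_mul, D, Dg_coe]
      show transvection i j _ * _ = _ * transvection i j _
      rw [transvection, transvection, mul_add, add_mul, mul_one, one_mul]
      congr 1
      ext k l
      rw [diagonal_mul, mul_diagonal, single_apply, single_apply]
      by_cases hkl : i = k ∧ j = l
      · obtain ⟨rfl, rfl⟩ := hkl
        simp [h.symm]
      · simp [hkl]
    rw [hc, map_mul, map_mul, map_inv, mul_comm (β L D), mul_inv_cancel_right] at h1
    exact h1.symm.trans h0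
  have hι₁ : ∀ (k : ℤ), 0 ≤ k → (ι₁ p).coeff k = Polynomial.monomial k.toNat (p.coeff k.toNat) := by
    intro k hk
    suffices hh : ∀ q : P, (ι₁ q).coeff k = Polynomial.monomial k.toNat (q.coeff k.toNat) from hh p
    intro q
    induction q using Polynomial.induction_on' with
    | add q₁ q₂ h₁ h₂ => rw [map_add, AddMonoidAlgebra.coeff_add, Finsupp.add_apply, h₁, h₂, Polynomial.coeff_add, map_add]
    | monomial n r =>
      rw [show ι₁ (Polynomial.monomial n r) = AddMonoidAlgebra.single (n : ℤ) (Polynomial.monomial n r) by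
        show Polynomial.aeval ((a : L) * algebraMap P L Polynomial.X) (Polynomial.monomial n r) = _
        rw [Polynomial.aeval_monomial, mul_pow, IsScalarTower.algebraMap_apply R P L, LaurentPolynomial.algebraMap_apply, LaurentPolynomial.algebraMap_apply]
        show _ * (T 1 ^ n * _) = _
        rw [T_pow, mul_one, ← map_pow, T]
        simp only [← single_eq_C, AddMonoidAlgebra.single_mul_single, zero_add, add_zero, mul_one]
        rw [← Polynomial.C_mul_X_pow_eq_monomial]
        simp [Algebra.algebraMap_self, Polynomial.algebraMap_eq]; rfl]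
      rw [AddMonoidAlgebra.coeff_single, Finsupp.single_apply]
      by_cases hnk : (n : ℤ) = k
      · subst hnk; simp
      · rw [if_neg hnk, Polynomial.coeff_monomial, if_neg (fun e => hnk (by omega)), map_zero]
  have hp : p = Polynomial.C (p.coeff 0) := by
    ext k
    rcases k with _ | k
    · simp
    · rw [Polynomial.coeff_C_succ]
      have := congrArg (fun q : L => q.coeff ((k + 1 : ℕ) : ℤ)) key
      simp only [hι₁ _ (Int.natCast_nonneg _), Int.toNat_natCast] at this
      rw [show (ι₀ p).coeff ((k + 1 : ℕ) : ℤ) = 0 by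
        show (algebraMap P L p).coeff _ = 0
        rw [LaurentPolynomial.algebraMap_apply]
        simp only [← single_eq_C, AddMonoidAlgebra.coeff_single]
        exact Finsupp.single_eq_of_ne (by omega)] at this
      exact (Polynomial.monomial_eq_zero_iff _ _).mp this
  have hX : ∀ (b : B), ((β B (El i j h b) : Bˣ) : B) = algebraMap R B (p.coeff 0) := fun b => by
    have hb := congrArg Units.val (hβ P B (Polynomial.aeval b) (El i j h Polynomial.X))
    rw [map_El, AlgHom.toRingHom_eq_coe, RingHom.coe_coe, Polynomial.aeval_X] at hb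
    refine hb.trans ?_
    show Polynomial.aeval b p = _
    rw [hp, Polynomial.aeval_C, Polynomial.coeff_C_zero]
  have h0 : El i j h (0 : B) = 1 := Units.ext (transvection_zero i j)
  refine Units.ext ?_
  rw [hX c, ← hX 0, h0, map_one]

theorem det_one_trivial (hβ : IsNat β) (B : Type u) [CommRing B] [Algebra R B]
    (g : Matrix.GeneralLinearGroup (Fin N) B) (hg : (g : Matrix (Fin N) (Fin N) B).det = 1) : β B g = 1 := by
  refine Units.ext (eq_of_sub_eq_zero ?_)
  rw [Units.val_one]
  set u : B := ((β B g : Bˣ) : B) with hu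
  by_contra hne
  let J : Ideal B := LinearMap.ker (LinearMap.toSpanSingleton B B (u - 1))
  obtain ⟨m, hm, hJm⟩ := Ideal.exists_le_maximal J (fun htop => hne (by
    simpa [J] using (Ideal.eq_top_iff_one J).mp htop))
  let Bm := Localization.AtPrime m
  let φ : B →ₐ[R] Bm := IsScalarTower.toAlgHom R B Bm
  have h1 : β Bm (Matrix.GeneralLinearGroup.map φ.toRingHom g) = 1 := by
    refine MonoidHom.mem_ker.mp (mem_of_det_eq_one (K := (β Bm).ker) (Abelianization.commutator_subset_ker _)
      (fun i j h c => ⟨El i j h c, MonoidHom.mem_ker.mpr (trans_trivial hβ Bm i j h c), rfl⟩) _ ?_)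
    show ((g : Matrix (Fin N) (Fin N) B).map φ.toRingHom).det = 1
    rw [← RingHom.mapMatrix_apply, ← RingHom.map_det, hg, map_one]
  rw [hβ B Bm φ g] at h1
  have h2 : algebraMap B Bm u = algebraMap B Bm 1 := by
    rw [map_one]
    exact congrArg Units.val h1
  obtain ⟨c, hc⟩ := (IsLocalization.eq_iff_exists m.primeCompl Bm).mp h2
  refine c.2 (hJm ?_)
  simp [J, mul_sub, hc]

theorem eq_char_det (hβ : IsNat β) (i0 : Fin N) (B : Type u) [CommRing B] [Algebra R B]
    (g : Matrix.GeneralLinearGroup (Fin N) B) :
    β B g = β B (Dg (Pi.mulSingle i0 (Matrix.GeneralLinearGroup.det g))) := by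
  classical
  let D : Matrix.GeneralLinearGroup (Fin N) B := Dg (Pi.mulSingle i0 (Matrix.GeneralLinearGroup.det g))
  have hD : Matrix.GeneralLinearGroup.det D = Matrix.GeneralLinearGroup.det g := by
    ext1
    rw [Matrix.GeneralLinearGroup.val_det_apply]
    show (diagonal fun i => ((Pi.mulSingle i0 (Matrix.GeneralLinearGroup.det g) : Fin N → Bˣ) i : B)).det = _
    rw [det_diagonal, Finset.prod_eq_single i0 (fun i _ hi => by simp [hi]) (by simp), Pi.mulSingle_eq_same]
  have := det_one_trivial hβ B (g * D⁻¹) (by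
    have h : Matrix.GeneralLinearGroup.det (g * D⁻¹) = 1 := by rw [map_mul, map_inv, hD, mul_inv_cancel]
    rw [← Matrix.GeneralLinearGroup.val_det_apply, h, Units.val_one])
  rwa [map_mul, map_inv, mul_inv_eq_one] at this

theorem exists_exponent [ConnectedSpace (PrimeSpectrum R)] (hβ : IsNat β) (i0 : Fin N) :
    ∃ m : ℤ, ∀ (B : Type u) [CommRing B] [Algebra R B] (g : Matrix.GeneralLinearGroup (Fin N) B),
      β B g = Matrix.GeneralLinearGroup.det g ^ m := by
  classical
  let χ : ∀ (B : Type u) [CommRing B] [Algebra R B], Bˣ →* Bˣ := fun B _ _ =>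
    (β B).comp (Dg.comp (MonoidHom.mulSingle (fun _ : Fin N => Bˣ) i0))
  have hχ : ∀ (B C : Type u) [CommRing B] [Algebra R B] [CommRing C] [Algebra R C] (φ : B →ₐ[R] C) (b : Bˣ),
      χ C (Units.map (φ.toRingHom : B →* C) b) = Units.map (φ.toRingHom : B →* C) (χ B b) := by
    intro B C _ _ _ _ φ b
    show β C _ = Units.map _ (β B _)
    rw [← hβ, MonoidHom.comp_apply, MonoidHom.comp_apply, map_Dg]
    congr 2
    funext i
    exact (Pi.apply_mulSingle (fun _ => Units.map (φ.toRingHom : B →* C)) (fun _ => map_one _) i0 b i).symm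
  let L := LaurentPolynomial R
  let t : Lˣ := ⟨T 1, T (-1), by rw [← T_add]; simp, by rw [← T_add]; simp⟩
  let u : L := ((χ L t : Lˣ) : L)
  have hu : ∀ (B : Type u) [CommRing B] [Algebra R B] (b : Bˣ), ((χ B b : Bˣ) : B) = ev b u := by
    intro B _ _ b
    have h1 : Units.map ((ev (R := R) b).toRingHom : L →* B) t = b := by
      ext1
      show ev b (AddMonoidAlgebra.single (1 : ℤ) (1 : R)) = (b : B)
      rw [ev_single, one_smul, zpow_one]
    have h2 := hχ L B (ev b) t
    rw [h1] at h2
    exact congrArg Units.val h2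
  let L₂ := LaurentPolynomial L
  let t₁ : L₂ˣ := Units.map ((algebraMap L L₂ : L →+* L₂) : L →* L₂) t
  let t₂ : L₂ˣ := ⟨T 1, T (-1), by rw [← T_add]; simp, by rw [← T_add]; simp⟩
  have hsingle : ∀ k l : ℤ, (((t₁ ^ k * t₂ ^ l : L₂ˣ)) : L₂) = AddMonoidAlgebra.single l (T k) := by
    have ht : ∀ k : ℤ, ((t ^ k : Lˣ) : L) = T k := by
      intro k
      induction k using Int.induction_on with
      | zero => simp
      | succ k ih => rw [_root_.zpow_add_one, Units.val_mul, ih, T_add]
      | pred k ih => rw [_root_.zpow_sub_one, Units.val_mul, ih, T_sub]; rfl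
    have ht₂ : ∀ k : ℤ, ((t₂ ^ k : L₂ˣ) : L₂) = T k := by
      intro k
      induction k using Int.induction_on with
      | zero => simp
      | succ k ih => rw [_root_.zpow_add_one, Units.val_mul, ih, T_add]
      | pred k ih => rw [_root_.zpow_sub_one, Units.val_mul, ih, T_sub]; rfl
    intro k l
    rw [Units.val_mul, ht₂, ← map_zpow, Units.coe_map, MonoidHom.coe_coe, ht, LaurentPolynomial.algebraMap_apply]
    rw [Algebra.algebraMap_self, RingHom.id_apply, ← single_eq_C_mul_T]
  have hc : ∀ k l : ℤ, u.coeff k * u.coeff l = if k = l then u.coeff l else 0 := by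
    intro k l
    have hmul : ev (t₁ * t₂) u = ev t₁ u * ev t₂ u := by
      rw [← hu, ← hu, ← hu, ← Units.val_mul, map_mul]
    have e12 : ∀ q : L, (ev (t₁ * t₂) q).coeff l = AddMonoidAlgebra.single l (q.coeff l) := by
      intro q
      induction q using AddMonoidAlgebra.induction_linear with
      | zero => simp
      | add q₁ q₂ h₁ h₂ => rw [map_add, AddMonoidAlgebra.coeff_add, Finsupp.add_apply, h₁, h₂, AddMonoidAlgebra.coeff_add, Finsupp.add_apply, AddMonoidAlgebra.single_add]
      | single n r =>
        rw [ev_single, (Commute.all t₁ t₂).mul_zpow, hsingle, AddMonoidAlgebra.smul_single, AddMonoidAlgebra.coeff_single, AddMonoidAlgebra.coeff_single,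
          Finsupp.single_apply, Finsupp.single_apply]
        by_cases hnl : n = l
        · subst hnl; rw [if_pos rfl, if_pos rfl, T, AddMonoidAlgebra.smul_single, smul_eq_mul, mul_one]
        · rw [if_neg hnl, if_neg hnl, AddMonoidAlgebra.single_zero]
    have e1 : ∀ q : L, ev t₁ q = LaurentPolynomial.C q := by
      intro q
      induction q using AddMonoidAlgebra.induction_linear with
      | zero => simp
      | add q₁ q₂ h₁ h₂ => rw [map_add, h₁, h₂, map_add]
      | single n r =>
        have := hsingle n 0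
        rw [zpow_zero, mul_one] at this
        rw [ev_single, this, AddMonoidAlgebra.smul_single, T, AddMonoidAlgebra.smul_single, smul_eq_mul, mul_one, single_eq_C]
    have e2 : ∀ q : L, (ev t₂ q).coeff l = LaurentPolynomial.C (q.coeff l) := by
      intro q
      induction q using AddMonoidAlgebra.induction_linear with
      | zero => simp
      | add q₁ q₂ h₁ h₂ => rw [map_add, AddMonoidAlgebra.coeff_add, Finsupp.add_apply, h₁, h₂, AddMonoidAlgebra.coeff_add, Finsupp.add_apply, map_add]
      | single n r =>
        have := hsingle 0 n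
        rw [zpow_zero, one_mul] at this
        rw [ev_single, this, AddMonoidAlgebra.smul_single, AddMonoidAlgebra.coeff_single, AddMonoidAlgebra.coeff_single,
          Finsupp.single_apply, Finsupp.single_apply]
        by_cases hnl : n = l
        · subst hnl; rw [if_pos rfl, if_pos rfl, T, AddMonoidAlgebra.smul_single, smul_eq_mul, mul_one, single_eq_C]
        · rw [if_neg hnl, if_neg hnl, map_zero]
    have e3 : ∀ q : L₂, (LaurentPolynomial.C u * q).coeff l = u * q.coeff l := by
      intro q
      rw [← single_eq_C, AddMonoidAlgebra.coeff_single_zero_mul]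
    have := congrArg (fun q : L₂ => (q.coeff l).coeff k) hmul
    simp only [e12, e1, e3, e2, AddMonoidAlgebra.coeff_single, Finsupp.single_apply] at this
    rw [← single_eq_C, AddMonoidAlgebra.coeff_mul_single_zero] at this
    rw [← this]
    simp only [eq_comm]
  have hone : ev (1 : Rˣ) u = 1 := by rw [← hu, map_one, Units.val_one]
  obtain ⟨m, hm⟩ : ∃ m, u.coeff m = 1 := by
    have hidem : ∀ k, IsIdempotentElem (u.coeff k) := fun k => by
      have := hc k k
      rwa [if_pos rfl] at this
    by_contra hcon
    push_neg at hcon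
    have h0 : u = 0 := by
      refine LaurentPolynomial.ext fun k => ?_
      exact (idem_cases (hidem k)).resolve_right (hcon k)
    rw [h0, map_zero] at hone
    have : Nontrivial R := nontrivial_of_connected
    exact zero_ne_one hone
  have huT : u = AddMonoidAlgebra.single m 1 := by
    refine LaurentPolynomial.ext fun k => ?_
    rw [AddMonoidAlgebra.coeff_single, Finsupp.single_apply]
    have := hc k m
    rw [hm, mul_one] at this
    rw [this]
    simp only [eq_comm]
  refine ⟨m, fun B _ _ g => ?_⟩
  rw [eq_char_det hβ i0 B g]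
  refine Units.ext ?_
  show ((χ B (Matrix.GeneralLinearGroup.det g) : Bˣ) : B) = _
  rw [hu, huT, ev_single, one_smul]

end

/-- Every homomorphism of group sheaves Gl(n_1) × ⋯ × Gl(n_r) → G_m is (s_1, …, s_r) ↦ det(s_1)^{m_1} ⋯
det(s_r)^{m_r} with locally constant integers m_i uniquely determined by it. Concretely, over a
commutative ring R whose prime spectrum is connected and for ranks n_i ≥ 1: every family of group
homomorphisms α_B : GL_{n_1}(B) × ⋯ × GL_{n_r}(B) → Bˣ, one for each commutative R-algebra B and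
natural in B, is given by α_B(s) = Π_i det(s_i)^{m_i} for a unique m ∈ ℤ^r. (The published statement
allows ranks n_i ≥ 0; uniqueness of m_i needs n_i ≥ 1, since Gl(0) is trivial.) -/
theorem result (R : Type u) [CommRing R] [ConnectedSpace (PrimeSpectrum R)]
    (r : ℕ) (n : Fin r → ℕ) (hn : ∀ i, 0 < n i)
    (α : ∀ (B : Type u) [CommRing B] [Algebra R B], (∀ i, Matrix.GeneralLinearGroup (Fin (n i)) B) →* Bˣ)
    (hα : ∀ (B C : Type u) [CommRing B] [Algebra R B] [CommRing C] [Algebra R C] (φ : B →ₐ[R] C)
      (s : ∀ i, Matrix.GeneralLinearGroup (Fin (n i)) B),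
      α C (fun i => Matrix.GeneralLinearGroup.map φ.toRingHom (s i)) = Units.map (φ.toRingHom : B →* C) (α B s)) :
    ∃! m : Fin r → ℤ, ∀ (B : Type u) [CommRing B] [Algebra R B] (s : ∀ i, Matrix.GeneralLinearGroup (Fin (n i)) B),
      α B s = ∏ i, Matrix.GeneralLinearGroup.det (s i) ^ (m i) := by
  classical
  let β : ∀ (i : Fin r) (B : Type u) [CommRing B] [Algebra R B], Matrix.GeneralLinearGroup (Fin (n i)) B →* Bˣ :=
    fun i B _ _ => (α B).comp (MonoidHom.mulSingle (fun j => Matrix.GeneralLinearGroup (Fin (n j)) B) i)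
  have hβ : ∀ i, IsNat (β i) := by
    intro i B C _ _ _ _ φ g
    show α C _ = Units.map _ (α B _)
    rw [← hα]
    congr 1
    funext j
    exact (Pi.apply_mulSingle (fun j => (Matrix.GeneralLinearGroup.map φ.toRingHom :
      Matrix.GeneralLinearGroup (Fin (n j)) B →* Matrix.GeneralLinearGroup (Fin (n j)) C)) (fun _ => map_one _) i g j).symm
  choose m hm using fun i => exists_exponent (hβ i) ⟨0, hn i⟩
  have hprod : ∀ (B : Type u) [CommRing B] [Algebra R B] (s : ∀ i, Matrix.GeneralLinearGroup (Fin (n i)) B),
      α B s = ∏ i, Matrix.GeneralLinearGroup.det (s i) ^ (m i) := by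
    intro B _ _
    let γ : (∀ i, Matrix.GeneralLinearGroup (Fin (n i)) B) →* Bˣ :=
      { toFun := fun s => ∏ i, Matrix.GeneralLinearGroup.det (s i) ^ (m i)
        map_one' := by simp
        map_mul' := fun s s' => by simp only [Pi.mul_apply, map_mul, mul_zpow, Finset.prod_mul_distrib] }
    have : α B = γ := MonoidHom.pi_ext fun i g => by
      show β i B g = ∏ j : Fin r, Matrix.GeneralLinearGroup.det ((Pi.mulSingle i g : ∀ j, Matrix.GeneralLinearGroup (Fin (n j)) B) j) ^ m j
      rw [hm i B g, Finset.prod_eq_single i (fun j _ hj => by simp [Pi.mulSingle_eq_of_ne hj]) (by simp), Pi.mulSingle_eq_same]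
    exact fun s => DFunLike.congr_fun this s
  refine ⟨m, hprod, fun m' hm' => ?_⟩
  funext i
  let L := LaurentPolynomial R
  let t : Lˣ := ⟨LaurentPolynomial.T 1, LaurentPolynomial.T (-1), by rw [← LaurentPolynomial.T_add]; simp, by rw [← LaurentPolynomial.T_add]; simp⟩
  let g : Matrix.GeneralLinearGroup (Fin (n i)) L := Groth.Agent.CAlgLib.SLGen.Dg (Pi.mulSingle ⟨0, hn i⟩ t)
  have hdet : Matrix.GeneralLinearGroup.det g = t := by
    ext1
    rw [Matrix.GeneralLinearGroup.val_det_apply]
    show (Matrix.diagonal fun k => ((Pi.mulSingle ⟨0, hn i⟩ t : Fin (n i) → Lˣ) k : L)).det = _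
    rw [Matrix.det_diagonal, Finset.prod_eq_single ⟨0, hn i⟩ (fun k _ hk => by simp [hk]) (by simp), Pi.mulSingle_eq_same]
  have hval : ∀ m₀ : Fin r → ℤ, (∀ (B : Type u) [CommRing B] [Algebra R B] (s : ∀ i, Matrix.GeneralLinearGroup (Fin (n i)) B),
      α B s = ∏ i, Matrix.GeneralLinearGroup.det (s i) ^ (m₀ i)) → α L (Pi.mulSingle i g) = t ^ m₀ i := by
    intro m₀ h
    rw [h, Finset.prod_eq_single i (fun j _ hj => by simp [Pi.mulSingle_eq_of_ne hj]) (by simp), Pi.mulSingle_eq_same, hdet]
  have ht : ∀ k : ℤ, ((t ^ k : Lˣ) : L) = LaurentPolynomial.T k := by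
    intro k
    induction k using Int.induction_on with
    | zero => simp
    | succ k ih => rw [_root_.zpow_add_one, Units.val_mul, ih, LaurentPolynomial.T_add]
    | pred k ih => rw [_root_.zpow_sub_one, Units.val_mul, ih, LaurentPolynomial.T_sub]; rfl
  have heq := congrArg Units.val ((hval m' hm').symm.trans (hval m hprod))
  rw [ht, ht] at heq
  have : Nontrivial R := nontrivial_of_connected
  by_contra hne
  have := congrArg (fun q : L => q.coeff (m i)) heq
  simp only [LaurentPolynomial.T, AddMonoidAlgebra.coeff_single, Finsupp.single_apply, if_true] at this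
  rw [if_neg hne] at this
  exact zero_ne_one this

end Groth.Agent.S5659
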