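import Groth.Statements.S5662
import Groth.Agent.LFFrame.Basic
import Groth.Agent.LimTop.PullSec

set_option autoImplicit false
set_option backward.isDefEq.respectTransparency false
universe u
open CategoryTheory CategoryTheory.Limits AlgebraicGeometry TopologicalSpace Opposite
open FlatMor Groth.Agent.QCoh

namespace Groth.Agent.S5662

variable {X Y Z : Scheme.{u}}

lemma unitSec_eq (f : X ⟶ Y) (M : Y.Modules) {U : Y.Opens} (m : Γ(M, U)) :
    LimTop.unitSec f M (le_refl (f ⁻¹ᵁ U)) m = LFFrame.unitSec f M U m := by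
  change ((Scheme.Modules.pullback f).obj M).presheaf.map (homOfLE (le_refl _)).op _ = _
  rw [show (homOfLE (le_refl (f ⁻¹ᵁ U))).op = 𝟙 _ from rfl, CategoryTheory.Functor.map_id]
  rfl

lemma comp_inv (p : Z ⟶ X) (g : X ⟶ Y) (M : Y.Modules) {U : Y.Opens} {W : X.Opens}
    (h : W ≤ g ⁻¹ᵁ U) {V : Z.Opens} (h' : V ≤ p ⁻¹ᵁ W) (m : Γ(M, U)) :
    ((Scheme.Modules.pullbackComp p g).inv.app M).app V
        (LimTop.unitSec (p ≫ g) M (h'.trans (p.preimage_mono h)) m) =
      LimTop.unitSec p ((Scheme.Modules.pullback g).obj M) h' (LimTop.unitSec g M h m) := by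
  rw [← LimTop.unitSec_comp g M h p h' m, ← ConcreteCategory.comp_apply,
    ← Scheme.Modules.Hom.comp_app, ← NatTrans.comp_app, Iso.hom_inv_id]
  rfl

lemma congr_inv {g g' : X ⟶ Y} (e : g = g') (M : Y.Modules) {U : Y.Opens} {W : X.Opens}
    (h : W ≤ g ⁻¹ᵁ U) (h' : W ≤ g' ⁻¹ᵁ U) (m : Γ(M, U)) :
    ((Scheme.Modules.pullbackCongr e).inv.app M).app W (LimTop.unitSec g' M h' m) =
      LimTop.unitSec g M h m := by
  subst e; rfl

lemma congr_hom {g g' : X ⟶ Y} (e : g = g') (M : Y.Modules) {U : Y.Opens} {W : X.Opens}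
    (h : W ≤ g ⁻¹ᵁ U) (h' : W ≤ g' ⁻¹ᵁ U) (m : Γ(M, U)) :
    ((Scheme.Modules.pullbackCongr e).hom.app M).app W (LimTop.unitSec g M h m) =
      LimTop.unitSec g' M h' m := by
  subst e; rfl

lemma comb_res_eq (g : X ⟶ Y) (M : Y.Modules) {U V : Y.Opens} (hV : V ≤ U) {n : ℕ}
    (e : Fin n → Γ(M, U)) {W : X.Opens} (hW : W ≤ g ⁻¹ᵁ V) (c : Fin n → Γ(X, W)) :
    LFFrame.comb ((Scheme.Modules.pullback g).obj M) (fun i => LFFrame.unitSec g M U (e i))
        (hW.trans (g.preimage_mono hV)) c =
      ∑ i, c i • LimTop.unitSec g M hW (M.presheaf.map (homOfLE hV).op (e i)) := by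
  refine Finset.sum_congr rfl fun i _ => congrArg (c i • ·) ?_
  exact (LimTop.unitSec_res g M hV hW (e i)).symm

lemma unit_comb (f : X ⟶ Y) (M : Y.Modules) {U V : Y.Opens} (hV : V ≤ U) {n : ℕ}
    (e : Fin n → Γ(M, U)) (a : Fin n → Γ(Y, V)) :
    LFFrame.unitSec f M V (LFFrame.comb M e hV a) =
      LFFrame.comb ((Scheme.Modules.pullback f).obj M) (fun i => LFFrame.unitSec f M U (e i))
        (f.preimage_mono hV) (fun i => f.app V (a i)) := by
  simp only [LFFrame.comb, map_sum, LFFrame.unitSec_smul, LFFrame.unitSec_res f M hV]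

/-- Image of a combination along one projection. -/
lemma image_comb (q : Z ⟶ X) (f : X ⟶ Y) {L M : Y.Modules}
    (φ : (Scheme.Modules.pullback f).obj L ⟶ (Scheme.Modules.pullback f).obj M)
    {U V : Y.Opens} (hV : V ≤ U) {n : ℕ} (e : Fin n → Γ(M, U)) (s : Γ(L, V))
    (a : Fin n → Γ(X, f ⁻¹ᵁ V))
    (ha : φ.app (f ⁻¹ᵁ V) (LFFrame.unitSec f L V s) =
      LFFrame.comb _ (fun i => LFFrame.unitSec f M U (e i)) (f.preimage_mono hV) a)
    {W : Z.Opens} (h : W ≤ q ⁻¹ᵁ (f ⁻¹ᵁ V)) :
    ((Scheme.Modules.pullbackComp q f).hom.app M).app W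
      (((Scheme.Modules.pullback q).map φ).app W
        (((Scheme.Modules.pullbackComp q f).inv.app L).app W
          (LimTop.unitSec (q ≫ f) L (h.trans (q.preimage_mono le_rfl)) s))) =
      ∑ i, q.appLE _ W h (a i) •
        LimTop.unitSec (q ≫ f) M (h.trans (q.preimage_mono le_rfl))
          (M.presheaf.map (homOfLE hV).op (e i)) := by
  rw [comp_inv q f L le_rfl h, LimTop.unitSec_map, unitSec_eq, ha]
  simp only [LFFrame.comb, map_sum, LimTop.unitSec_smul, Scheme.Modules.Hom.app_smul]
  refine Finset.sum_congr rfl fun i _ => congrArg (_ • ·) ?_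
  rw [← LimTop.unitSec_comp f M le_rfl q h, unitSec_eq, LFFrame.unitSec_res f M hV]

/-- Let f : X ⟶ Y be a morphism of schemes, p₁, p₂ : X ×_Y X ⟶ X the projections and g = p₁ ≫ f. Assume
that the sequence O_Y → f_*O_X ⇉ g_*O_{X ×_Y X} is exact, i.e. on every open U ⊆ Y the sections of
O_Y are exactly the sections of O_X over f⁻¹U whose two pullbacks to g⁻¹U agree (hypotheses hinj,
hex; hU is the bookkeeping identity of the two preimage opens). Then f is a morphism of descent for
finite locally free modules: for finite locally free O_Y-modules L and M, every morphism φ : f^*L ⟶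
f^*M whose pullbacks along p₁ and p₂ agree (compared through the canonical isomorphisms p_i^* f^* ≅
(p_i ≫ f)^* and p₁ ≫ f = p₂ ≫ f) is f^*ψ for a unique ψ : L ⟶ M. (The published statement is made
under further standing hypotheses (a surjective morphism between schemes proper and of finite
presentation over an integral Noetherian base, with flatness conditions), of which its proof uses
only the exactness above; this row assumes only that exactness.) -/
theorem result {X Y : Scheme.{u}} (f : X ⟶ Y)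
    (hU : ∀ U : Y.Opens, (pullback.fst f f) ⁻¹ᵁ (f ⁻¹ᵁ U) = (pullback.snd f f) ⁻¹ᵁ (f ⁻¹ᵁ U))
    (hinj : ∀ U : Y.Opens, Function.Injective (f.app U))
    (hex : ∀ (U : Y.Opens) (a : Γ(X, f ⁻¹ᵁ U)),
      (pullback.fst f f).app (f ⁻¹ᵁ U) a =
        ((pullback f f).presheaf.map (eqToHom (hU U)).op) ((pullback.snd f f).app (f ⁻¹ᵁ U) a) →
      a ∈ Set.range (f.app U))
    (L M : Y.Modules) (hL : FlatMod.IsFinLocFree L) (hM : FlatMod.IsFinLocFree M)
    (φ : (Scheme.Modules.pullback f).obj L ⟶ (Scheme.Modules.pullback f).obj M)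
    (hφ : ((Scheme.Modules.pullbackComp (pullback.fst f f) f).app L).inv ≫
        (Scheme.Modules.pullback (pullback.fst f f)).map φ ≫ ((Scheme.Modules.pullbackComp (pullback.fst f f) f).app M).hom =
      ((Scheme.Modules.pullbackCongr (pullback.condition (f := f) (g := f))).app L).hom ≫
        ((Scheme.Modules.pullbackComp (pullback.snd f f) f).app L).inv ≫
        (Scheme.Modules.pullback (pullback.snd f f)).map φ ≫ ((Scheme.Modules.pullbackComp (pullback.snd f f) f).app M).hom ≫
        ((Scheme.Modules.pullbackCongr (pullback.condition (f := f) (g := f))).app M).inv) :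
    ∃! ψ : L ⟶ M, (Scheme.Modules.pullback f).map ψ = φ := by
  classical
  let Mf : TopCat.Sheaf Ab.{u} Y := ⟨M.presheaf, M.isSheaf⟩
  let F := (Scheme.Modules.pullback f).obj M
  choose U n e hy he using LFFrame.exists_isFrame_of_isFinLocFree hM
  have hcov : ∀ V : Y.Opens, V ≤ iSup fun y => V ⊓ U y := fun V x hx =>
    Opens.mem_iSup.2 ⟨x, hx, hy x⟩
  -- the unit is injective on sections
  have hη : ∀ V : Y.Opens, Function.Injective (LFFrame.unitSec f M V) := by
    intro V m m' h
    refine TopCat.Sheaf.eq_of_locally_eq' Mf (fun y => V ⊓ U y) V (fun y => homOfLE inf_le_left)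
      (hcov V) m m' fun y => ?_
    have h1 : LFFrame.unitSec f M (V ⊓ U y) (M.presheaf.map (homOfLE inf_le_left).op m) =
        LFFrame.unitSec f M (V ⊓ U y) (M.presheaf.map (homOfLE inf_le_left).op m') := by
      rw [LFFrame.unitSec_res f M inf_le_left, LFFrame.unitSec_res f M inf_le_left, h]
    obtain ⟨a, ha⟩ := (he y _ inf_le_right).2 (M.presheaf.map (homOfLE inf_le_left).op m)
    obtain ⟨b, hb⟩ := (he y _ inf_le_right).2 (M.presheaf.map (homOfLE inf_le_left).op m')
    rw [← ha, ← hb, unit_comb, unit_comb] at h1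
    have h2 := ((he y).pullback f _ _).1 h1
    exact ha.symm.trans ((congrArg _ (funext fun i => hinj _ (congrFun h2 i))).trans hb)
  -- local existence
  have hloc : ∀ (y : Y) (V : Y.Opens), V ≤ U y → ∀ s : Γ(L, V),
      ∃ t, LFFrame.unitSec f M V t = φ.app (f ⁻¹ᵁ V) (LFFrame.unitSec f L V s) := by
    intro y V hV s
    obtain ⟨a, ha⟩ := ((he y).pullback f _ (f.preimage_mono hV)).2
      (φ.app (f ⁻¹ᵁ V) (LFFrame.unitSec f L V s))
    let W := (pullback.fst f f) ⁻¹ᵁ (f ⁻¹ᵁ V)
    have hW₂ : W ≤ (pullback.snd f f) ⁻¹ᵁ (f ⁻¹ᵁ V) := (hU V).le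
    have hfr := ((he y).pullback ((pullback.fst f f) ≫ f)) W ((le_refl W).trans (((pullback.fst f f) ≫ f).preimage_mono hV))
    have h1 := image_comb (pullback.fst f f) f φ hV (e y) s a ha.symm (le_refl W)
    have h2 := image_comb (pullback.snd f f) f φ hV (e y) s a ha.symm hW₂
    have hW₁ : W ≤ ((pullback.fst f f) ≫ f) ⁻¹ᵁ V := le_refl W
    have h3 := congr(Scheme.Modules.Hom.app $hφ W (LimTop.unitSec ((pullback.fst f f) ≫ f) L hW₁ s))
    simp only [Scheme.Modules.Hom.comp_app, ConcreteCategory.comp_apply, Iso.app_hom,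
      Iso.app_inv] at h3
    rw [congr_hom pullback.condition L hW₁ (hW₂.trans le_rfl : W ≤ ((pullback.snd f f) ≫ f) ⁻¹ᵁ V)] at h3
    erw [h1, h2] at h3
    simp only [map_sum, Scheme.Modules.Hom.app_smul] at h3
    have h4 : ∀ i, ((Scheme.Modules.pullbackCongr (pullback.condition (f := f) (g := f))).inv.app M).app W
        (LimTop.unitSec ((pullback.snd f f) ≫ f) M (hW₂.trans le_rfl) (M.presheaf.map (homOfLE hV).op (e y i))) =
        LimTop.unitSec ((pullback.fst f f) ≫ f) M (le_refl W) (M.presheaf.map (homOfLE hV).op (e y i)) := fun i =>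
      congr_inv pullback.condition M _ _ _
    simp only [h4] at h3
    rw [← comb_res_eq ((pullback.fst f f) ≫ f) M hV, ← comb_res_eq ((pullback.fst f f) ≫ f) M hV] at h3
    have h5 := hfr.1 h3
    have h6 : ∀ i, a i ∈ Set.range (f.app V) := fun i => by
      refine hex V (a i) ?_
      have := congrFun h5 i
      rw [Scheme.Hom.appLE_eq_app, Scheme.Hom.appLE] at this
      exact this
    choose b hb using h6
    refine ⟨LFFrame.comb M (e y) hV b, ?_⟩
    rw [unit_comb, ← ha]
    exact congrArg _ (funext hb)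
  -- global existence
  have hglob : ∀ (V : Y.Opens) (s : Γ(L, V)),
      ∃ t, LFFrame.unitSec f M V t = φ.app (f ⁻¹ᵁ V) (LFFrame.unitSec f L V s) := by
    intro V s
    have key : ∀ {V' : Y.Opens} (h : V' ≤ V),
        φ.app (f ⁻¹ᵁ V') (LFFrame.unitSec f L V' (L.presheaf.map (homOfLE h).op s)) =
          F.presheaf.map (homOfLE (f.preimage_mono h)).op
            (φ.app (f ⁻¹ᵁ V) (LFFrame.unitSec f L V s)) := fun h => by
      rw [LFFrame.unitSec_res f L h]
      exact NatTrans.naturality_apply φ.mapPresheaf (homOfLE (f.preimage_mono h)).op _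
    choose t ht using fun y => hloc y (V ⊓ U y) inf_le_right
      (L.presheaf.map (homOfLE inf_le_left).op s)
    have hcomp : TopCat.Presheaf.IsCompatible Mf.1 (fun y => V ⊓ U y) t := by
      intro x y
      refine hη _ ?_
      change LFFrame.unitSec f M _ (M.presheaf.map (homOfLE inf_le_left).op (t x)) =
        LFFrame.unitSec f M _ (M.presheaf.map (homOfLE inf_le_right).op (t y))
      rw [LFFrame.unitSec_res f M inf_le_left, LFFrame.unitSec_res f M inf_le_right, ht, ht, key,
        key, LFFrame.res_res, LFFrame.res_res]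
    obtain ⟨t', ht', -⟩ := TopCat.Sheaf.existsUnique_gluing' Mf (fun y => V ⊓ U y) V
      (fun y => homOfLE inf_le_left) (hcov V) t hcomp
    refine ⟨t', ?_⟩
    refine TopCat.Sheaf.eq_of_locally_eq' (⟨F.presheaf, F.isSheaf⟩ : TopCat.Sheaf Ab.{u} X)
      (fun y => f ⁻¹ᵁ (V ⊓ U y)) (f ⁻¹ᵁ V) (fun y => homOfLE (f.preimage_mono inf_le_left))
      (fun x hx => Opens.mem_iSup.2 ⟨f x, hx, hy (f x)⟩) _ _ fun y => ?_
    refine (LFFrame.unitSec_res f M inf_le_left t').symm.trans ?_
    exact ((congrArg _ (ht' y)).trans (ht y)).trans (key inf_le_left)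
  choose T hT using hglob
  let ψ : L ⟶ M := ⟨PresheafOfModules.homMk
      { app := fun V => AddCommGrpCat.ofHom (show Γ(L, V.unop) →+ Γ(M, V.unop) from
          AddMonoidHom.mk' (T V.unop) fun a b => hη _ (by rw [map_add, hT, hT, hT, map_add, map_add]))
        naturality := fun {V W} i => by
          ext s
          refine hη _ ?_
          change LFFrame.unitSec f M W.unop (T W.unop (L.presheaf.map i s)) =
            LFFrame.unitSec f M W.unop (M.presheaf.map i (T V.unop s))
          rw [show i = (homOfLE i.unop.le).op from rfl, LFFrame.unitSec_res f M, hT, hT,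
            LFFrame.unitSec_res f L]
          exact NatTrans.naturality_apply φ.mapPresheaf (homOfLE (f.preimage_mono i.unop.le)).op _ }
      (fun V (r : Γ(Y, V.unop)) (s : Γ(L, V.unop)) => hη _ (by
        change LFFrame.unitSec f M V.unop (T V.unop (r • s)) =
          LFFrame.unitSec f M V.unop (r • T V.unop s)
        rw [LFFrame.unitSec_smul, hT, hT, LFFrame.unitSec_smul, Scheme.Modules.Hom.app_smul]))⟩
  have hiff : ∀ ψ' : L ⟶ M, (Scheme.Modules.pullback f).map ψ' = φ ↔ ∀ (V : Y.Opens) (s : Γ(L, V)),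
      LFFrame.unitSec f M V (ψ'.app V s) = φ.app (f ⁻¹ᵁ V) (LFFrame.unitSec f L V s) := by
    intro ψ'
    have hn : ∀ (V : Y.Opens) (s : Γ(L, V)), LFFrame.unitSec f M V (ψ'.app V s) =
        ((Scheme.Modules.pullback f).map ψ').app (f ⁻¹ᵁ V) (LFFrame.unitSec f L V s) := fun V s =>
      congr(Scheme.Modules.Hom.app
        $((Scheme.Modules.pullbackPushforwardAdjunction f).unit.naturality ψ') V s)
    refine ⟨fun h V s => by rw [hn, h], fun h => ?_⟩
    apply ((Scheme.Modules.pullbackPushforwardAdjunction f).homEquiv L _).injective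
    ext V s
    exact (hn V s).symm.trans (h V s)
  refine ⟨ψ, (hiff ψ).2 fun V s => hT V s, fun ψ' hψ' => ?_⟩
  ext V s
  exact hη V (((hiff ψ').1 hψ' V s).trans (hT V s).symm)

end Groth.Agent.S5662
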