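import Groth.Statements.S5663
import Mathlib
-- import your own Groth.Agent.* helpers here

set_option autoImplicit false
universe u
open TensorProduct
open CAlg

namespace Groth.Agent.S5663

section
open TensorProduct

variable {A : Type u} [CommRing A]

theorem isArtinian_localization [IsNoetherianRing A] (M : Type u) [AddCommGroup M] [Module A M] [Module.Finite A M]
    (p : Ideal A) [p.IsPrime] (hp : p ∈ (Module.annihilator A M).minimalPrimes) :
    IsArtinian (Localization.AtPrime p) (LocalizedModule p.primeCompl M) := by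
  let Ap := Localization.AtPrime p
  let E := LocalizedModule p.primeCompl M
  let J : Ideal Ap := (Module.annihilator A M).map (algebraMap A Ap)
  have hJkill : ∀ a ∈ J, ∀ z : E, a • z = 0 := by
    intro a ha z
    have hle : J ≤ Module.annihilator Ap E := Ideal.map_le_iff_le_comap.mpr fun r hr => by
      rw [Ideal.mem_comap, Module.mem_annihilator]
      intro z
      induction z using LocalizedModule.induction_on with
      | _ m t => rw [algebraMap_smul, LocalizedModule.smul'_mk, Module.mem_annihilator.mp hr m, LocalizedModule.zero_mk]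
    exact Module.mem_annihilator.mp (hle ha) z
  have : IsArtinianRing (Ap ⧸ J) := by
    rw [isArtinianRing_iff_krullDimLE_zero]
    refine Ring.KrullDimLE.mk₀ fun P hP => ?_
    let P' := P.comap (Ideal.Quotient.mk J)
    have : P'.IsPrime := Ideal.IsPrime.comap _
    have h1 : P' = IsLocalRing.maximalIdeal Ap := by
      refine le_antisymm (IsLocalRing.le_maximalIdeal this.ne_top) ?_
      have hJ : J ≤ P' := fun x hx => by simp [P', Ideal.Quotient.eq_zero_iff_mem.mpr hx]
      have h2 : P'.comap (algebraMap A Ap) ≤ p := by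
        refine (Ideal.comap_mono (f := algebraMap A Ap) (IsLocalRing.le_maximalIdeal this.ne_top)).trans ?_
        exact (IsLocalization.AtPrime.comap_maximalIdeal Ap p).le
      have h3 : p ≤ P'.comap (algebraMap A Ap) := hp.2 ⟨Ideal.IsPrime.comap _, Ideal.map_le_iff_le_comap.mp hJ⟩ h2
      rw [← Localization.AtPrime.map_eq_maximalIdeal]
      exact Ideal.map_le_iff_le_comap.mpr h3
    have : P'.IsMaximal := h1 ▸ IsLocalRing.maximalIdeal.isMaximal Ap
    exact Ideal.map_comap_of_surjective (Ideal.Quotient.mk J) Ideal.Quotient.mk_surjective P ▸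
      (Ideal.map_eq_top_or_isMaximal_of_surjective (Ideal.Quotient.mk J) Ideal.Quotient.mk_surjective this).resolve_left
        (by rw [Ideal.map_comap_of_surjective (Ideal.Quotient.mk J) Ideal.Quotient.mk_surjective P]; exact hP.ne_top)
  have : IsArtinian Ap (Ap ⧸ J) := isArtinian_of_surjective_algebraMap (R := Ap ⧸ J) Ideal.Quotient.mk_surjective
  obtain ⟨n, x, hx⟩ := Module.Finite.exists_fin (R := Ap) (M := E)
  let f : (Fin n → Ap ⧸ J) →ₗ[Ap] E :=
    ∑ i, (Submodule.liftQ J (LinearMap.toSpanSingleton Ap E (x i)) (fun a ha => hJkill a ha (x i))).comp (LinearMap.proj i)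
  refine isArtinian_of_surjective _ f fun z => ?_
  obtain ⟨c, hc⟩ := (Submodule.mem_span_range_iff_exists_fun Ap).mp (hx.ge (Submodule.mem_top : z ∈ ⊤))
  refine ⟨fun i => Ideal.Quotient.mk J (c i), ?_⟩
  simp only [f, LinearMap.sum_apply, LinearMap.comp_apply, LinearMap.proj_apply]
  exact hc

variable {B : Type u} [CommRing B] [Algebra A B]

theorem fibre_eq_span_one (D : Subalgebra A B) (p : Ideal A) [p.IsPrime]
    (h : ∀ b : D, ∃ s : A, s ∉ p ∧ s • (b ⊗ₜ[A] (1 : D)) = s • ((1 : D) ⊗ₜ[A] b)) :
    ∀ z : p.ResidueField ⊗[A] D, z ∈ Submodule.span p.ResidueField {((1 : p.ResidueField) ⊗ₜ[A] (1 : D))} := by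
  classical
  let K := p.ResidueField
  let V := K ⊗[A] D
  let one : V := (1 : K) ⊗ₜ[A] (1 : D)
  let j : D →ₗ[A] V := TensorProduct.mk A K D 1
  suffices key : ∀ b : D, j b ∈ Submodule.span K {one} by
    intro z
    induction z using TensorProduct.induction_on with
    | zero => exact zero_mem _
    | add a b ha hb => exact add_mem ha hb
    | tmul a b =>
      rw [show a ⊗ₜ[A] b = a • j b by rw [show j b = (1 : K) ⊗ₜ[A] b from rfl, TensorProduct.smul_tmul', smul_eq_mul, mul_one]]
      exact Submodule.smul_mem _ _ (key b)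
  intro b
  by_contra hb
  obtain ⟨f, hf1, hfb⟩ := LinearMap.exists_extend_of_notMem (0 : Submodule.span K {one} →ₗ[K] K) hb 1
  have hf1' : f one = 0 := by
    have := LinearMap.congr_fun hf1 ⟨one, Submodule.mem_span_singleton_self _⟩
    simpa using this
  have hone : one ∉ (⊥ : Submodule K V) := by
    intro h0
    rw [Submodule.mem_bot] at h0
    have : ∀ z : V, z = 0 := by
      intro z
      induction z using TensorProduct.induction_on with
      | zero => rfl
      | add a c ha hc => rw [ha, hc, add_zero]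
      | tmul a c =>
        have h1 : (a ⊗ₜ[A] c : K ⊗[A] D) * one = a ⊗ₜ[A] c := by
          rw [show one = (1 : K) ⊗ₜ[A] (1 : D) from rfl, Algebra.TensorProduct.tmul_mul_tmul, mul_one, mul_one]
        rw [← h1, h0, mul_zero]
    exact hb (by rw [this (j b)]; exact zero_mem _)
  obtain ⟨g, -, hg⟩ := LinearMap.exists_extend_of_notMem (0 : (⊥ : Submodule K V) →ₗ[K] K) hone 1
  obtain ⟨s, hs, heq⟩ := h b
  let Φ : D →ₗ[A] D →ₗ[A] K := ((LinearMap.mul A K).compl₂ ((g.restrictScalars A).comp j)).comp ((f.restrictScalars A).comp j)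
  have hΦ : ∀ u v : D, Φ u v = f (j u) * g (j v) := fun u v => rfl
  have := congrArg (TensorProduct.lift Φ) heq
  rw [map_smul, map_smul, TensorProduct.lift.tmul, TensorProduct.lift.tmul, hΦ, hΦ, hfb,
    show j 1 = one from rfl, hg, hf1', zero_mul, mul_one, smul_zero, ← Algebra.algebraMap_eq_smul_one,
    Ideal.algebraMap_residueField_eq_zero] at this
  exact hs this

end

/-- Let A be a Noetherian ring and B a finite A-algebra with A → B injective (a finite schematically
dominant morphism Spec B → Spec A). Define subalgebras B_0 = B and B_{i+1} = the equalizer of the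
two maps B_i ⇉ B_i ⊗_A B_i, b ↦ b ⊗ 1, 1 ⊗ b. Then B_m = A (the image of A) for some m; equivalently
Spec B → Spec A factors as a finite chain of finite morphisms Spec B_i → Spec B_{i+1} each of which
is an effective epimorphism (B_{i+1} is the equalizer of B_i ⇉ B_i ⊗_{B_{i+1}} B_i). The sequence is
given here as any family C of subalgebras satisfying the recursion. (The published statement is for
a finite morphism X → Y of schemes with Y Noetherian and O_Y → f_*O_X injective; this row is the
affine case.) -/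
theorem result (A B : Type u) [CommRing A] [CommRing B] [Algebra A B]
    [IsNoetherianRing A] [Module.Finite A B] (hinj : Function.Injective (algebraMap A B))
    (C : ℕ → Subalgebra A B) (h0 : C 0 = ⊤)
    (hstep : ∀ (i : ℕ) (b : B), b ∈ C (i + 1) ↔ ∃ hb : b ∈ C i,
      ((⟨b, hb⟩ : C i) ⊗ₜ[A] (1 : C i) : C i ⊗[A] C i) = (1 : C i) ⊗ₜ[A] (⟨b, hb⟩ : C i)) :
    ∃ m : ℕ, C m = ⊥ := by
  classical
  let A0 : Submodule A B := LinearMap.range (Algebra.linearMap A B)
  let M0 := B ⧸ A0
  let N : ℕ → Submodule A M0 := fun i => (C i).toSubmodule.map A0.mkQ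
  have hdec : ∀ i, ∀ b ∈ C (i + 1), b ∈ C i := fun i b hb => ((hstep i b).mp hb).1
  have hanti : ∀ i k, N (i + k) ≤ N i := by
    intro i k
    induction k with
    | zero => exact le_rfl
    | succ k ih => exact le_trans (Submodule.map_mono fun b hb => hdec _ b hb) ih
  have hanti' : Antitone N := fun i k hik => by
    obtain ⟨d, rfl⟩ := Nat.exists_eq_add_of_le hik
    exact hanti i d
  let ann : ℕ →o Ideal A := ⟨fun i => Module.annihilator A (N i), fun i k hik =>
    LinearMap.annihilator_le_of_injective (Submodule.inclusion (hanti' hik)) (Submodule.inclusion_injective _)⟩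
  obtain ⟨i₀, hi₀⟩ := monotone_stabilizes_iff_noetherian.mpr (inferInstance : IsNoetherian A A) ann
  by_cases htop : Module.annihilator A (N i₀) = ⊤
  · refine ⟨i₀, eq_bot_iff.mpr fun b hb => ?_⟩
    have h1 := Module.mem_annihilator.mp ((Ideal.eq_top_iff_one _).mp htop) ⟨A0.mkQ b, Submodule.mem_map_of_mem hb⟩
    rw [one_smul, Subtype.ext_iff] at h1
    obtain ⟨a, ha⟩ := (Submodule.Quotient.mk_eq_zero A0).mp h1
    exact Algebra.mem_bot.mpr ⟨a, ha⟩
  exfalso
  obtain ⟨p, hp⟩ := Ideal.nonempty_minimalPrimes htop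
  have := hp.1.1
  let E := LocalizedModule p.primeCompl (N i₀)
  have : IsArtinian (Localization.AtPrime p) E := isArtinian_localization (N i₀) p hp
  let ι := LocalizedModule.mkLinearMap p.primeCompl (N i₀)
  let W : ℕ → Submodule (Localization.AtPrime p) E := fun k =>
    ((N (i₀ + k)).comap (N i₀).subtype).localized' (Localization.AtPrime p) p.primeCompl ι
  obtain ⟨k, hk⟩ := IsArtinian.monotone_stabilizes (R := Localization.AtPrime p) (M := E) ⟨fun k => OrderDual.toDual (W k), fun k l hkl => by
    intro z (hz : z ∈ W l)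
    show z ∈ W k
    rw [Submodule.mem_localized'] at hz ⊢
    obtain ⟨m, hm, s, hs⟩ := hz
    exact ⟨m, hanti' (by omega) hm, s, hs⟩⟩
  let j := i₀ + k
  have hstab : ∀ b : C j, ∃ s : A, s ∉ p ∧ s • (b ⊗ₜ[A] (1 : C j)) = s • ((1 : C j) ⊗ₜ[A] b) := by
    intro b
    let m : N i₀ := ⟨A0.mkQ b, hanti i₀ k (Submodule.mem_map_of_mem b.2)⟩
    have h1 : ι m ∈ W (k + 1) := by
      have he : W k = W (k + 1) := hk (k + 1) (Nat.le_succ k)
      rw [← he, Submodule.mem_localized']
      exact ⟨m, Submodule.mem_map_of_mem b.2, 1, IsLocalizedModule.mk'_one _ _ _⟩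
    rw [Submodule.mem_localized'] at h1
    obtain ⟨m', hm', t, ht⟩ := h1
    rw [IsLocalizedModule.mk'_eq_iff] at ht
    have ht' : ι ((t : A) • m) = ι m' := by rw [map_smul, ht]; rfl
    obtain ⟨c, hc⟩ := (IsLocalizedModule.eq_iff_exists p.primeCompl ι).mp ht'
    have h2 : A0.mkQ (((c : A) * t) • (b : B)) ∈ N (j + 1) := by
      have := congrArg (Subtype.val : N i₀ → M0) hc
      simp only [Submonoid.smul_def, Submodule.coe_smul] at this
      rw [map_smul, mul_smul]
      show (c : A) • (t : A) • (m : M0) ∈ N (j + 1)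
      rw [this]
      exact Submodule.smul_mem _ _ hm'
    obtain ⟨b', hb', hbb'⟩ := h2
    obtain ⟨a, ha⟩ := (Submodule.Quotient.eq A0).mp hbb'
    have h3 : ((c : A) * t) • (b : B) ∈ C (j + 1) := by
      rw [← sub_sub_cancel b' (((c : A) * t) • (b : B)), ← ha]
      exact sub_mem hb' ((C (j + 1)).algebraMap_mem a)
    obtain ⟨hmem, heq⟩ := (hstep j _).mp h3
    refine ⟨c * t, p.primeCompl.mul_mem c.2 t.2, ?_⟩
    rw [TensorProduct.smul_tmul' _ b, ← TensorProduct.tmul_smul]
    exact heq
  have : p ∉ (Module.annihilator A (N j)).minimalPrimes := by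
    intro hpj
    have hsupp : (⟨p, inferInstance⟩ : PrimeSpectrum A) ∈ Module.support A (N j) :=
      Module.mem_support_iff_of_finite.mpr hpj.1.2
    rw [Module.mem_support_iff_nontrivial_residueField_tensorProduct] at hsupp
    let π : (C j) →ₗ[A] N j := (A0.mkQ ∘ₗ (C j).val.toLinearMap).codRestrict (N j) (fun b => Submodule.mem_map_of_mem b.2)
    have hπ : Function.Surjective π := by
      rintro ⟨z, b, hb, rfl⟩
      exact ⟨⟨b, hb⟩, rfl⟩
    have hπ1 : π 1 = 0 := Subtype.ext ((Submodule.Quotient.mk_eq_zero A0).mpr ⟨1, by simp⟩)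
    refine (not_nontrivial_iff_subsingleton.mpr (subsingleton_of_forall_eq 0 fun z => ?_)) hsupp
    obtain ⟨w, rfl⟩ := LinearMap.baseChange_surjective p.ResidueField hπ z
    obtain ⟨a, rfl⟩ := Submodule.mem_span_singleton.mp (fibre_eq_span_one (C j) p hstab w)
    rw [map_smul, LinearMap.baseChange_tmul, hπ1, TensorProduct.tmul_zero, smul_zero]
  exact this ((show Module.annihilator A (N i₀) = Module.annihilator A (N j) from hi₀ j (Nat.le_add_right _ _)) ▸ hp)

end Groth.Agent.S5663
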