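import Groth.Statements.S5665
import Groth.Agent.DualCx.KoszulTower

set_option autoImplicit false
universe u
open CategoryTheory
open Dual

namespace Groth.Agent.S5665

lemma ofList_reverse {A : Type u} [CommRing A] (xs : List A) : Ideal.ofList xs.reverse = Ideal.ofList xs := by
  simp [Ideal.ofList, List.mem_reverse]

lemma nonempty_hom {A : Type u} [CommRing A] (xs : List A) (hreg : RingTheory.Sequence.IsWeaklyRegular A xs)
    (M : Type u) [AddCommGroup M] [Module A M] (i : ℕ) :
    Nonempty (Abelian.Ext.{u} (ModuleCat.of A (A ⧸ Ideal.ofList xs)) (ModuleCat.of A M) i ≃ₗ[A]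
      (DualCx.Tower.T xs (DualCx.KoszulTower.S0 (ModuleCat.of A M))).homology ((i : ℤ) - xs.length)) := by
  have h := DualCx.KoszulTower.nonempty_Ext xs.reverse (by rwa [List.reverse_reverse]) M i
  rw [List.reverse_reverse, List.length_reverse] at h
  have key : ∀ J : Ideal A, J = Ideal.ofList xs →
      Nonempty (Abelian.Ext.{u} (ModuleCat.of A (A ⧸ J)) (ModuleCat.of A M) i ≃ₗ[A]
        (DualCx.Tower.T xs (DualCx.KoszulTower.S0 (ModuleCat.of A M))).homology ((i : ℤ) - xs.length)) →
      Nonempty (Abelian.Ext.{u} (ModuleCat.of A (A ⧸ Ideal.ofList xs)) (ModuleCat.of A M) i ≃ₗ[A]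
        (DualCx.Tower.T xs (DualCx.KoszulTower.S0 (ModuleCat.of A M))).homology ((i : ℤ) - xs.length)) := by
    rintro J rfl h; exact h
  exact key _ (ofList_reverse xs) h


/-- Let `A` be a commutative ring, `xs = (x_1, …, x_p)` a sequence in `A` such that each `x_i` is a
non-zero-divisor on `A/(x_1, …, x_{i-1})`, `J` the ideal generated by the `x_i` and `M` any
`A`-module. Then `Ext^p_A(A/J, M)` is isomorphic, as an `A`-module, to `M/JM`. (Existence of an
`A`-linear isomorphism only; the published isomorphism is the one induced by the Koszul complex of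
`xs`.) -/
theorem result (A : Type u) [CommRing A] (xs : List A) (hreg : RingTheory.Sequence.IsWeaklyRegular A xs) (M : Type u) [AddCommGroup M] [Module A M] : Nonempty (Abelian.Ext (ModuleCat.of A (A ⧸ Ideal.ofList xs)) (ModuleCat.of A M) xs.length ≃ₗ[A] (M ⧸ (Ideal.ofList xs • (⊤ : Submodule A M)))) := by
  obtain ⟨e⟩ := nonempty_hom xs hreg M xs.length
  obtain ⟨π, hπ, hk⟩ := DualCx.KoszulTower.exists_toH0 (ModuleCat.of A M) xs
  rw [sub_self] at e
  exact ⟨e.trans ((Submodule.quotEquivOfEq _ _ hk.symm).trans (π.quotKerEquivOfSurjective hπ)).symm⟩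

end Groth.Agent.S5665
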