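import Groth.Statements.S5666
import Groth.Agent.DualCx.KoszulTower

set_option autoImplicit false
universe u
open CategoryTheory
open Dual

namespace Groth.Agent.S5666

lemma ofList_reverse {A : Type u} [CommRing A] (xs : List A) : Ideal.ofList xs.reverse = Ideal.ofList xs := by
  simp [Ideal.ofList, List.mem_reverse]

lemma nonempty_hom {A : Type u} [CommRing A] (xs : List A) (hreg : RingTheory.Sequence.IsWeaklyRegular A xs)
    (M : Type u) [AddCommGroup M] [Module A M] (i : ℕ) :
    Nonempty (Abelian.Ext.{u} (ModuleCat.of A (A ⧸ Ideal.ofList xs)) (ModuleCat.of A M) i ≃ₗ[A]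
      (DualCx.Tower.T xs (DualCx.KoszulTower.S0 (ModuleCat.of A M))).homology ((i : ℤ) - xs.length)) := by
  have h := DualCx.KoszulTower.nonempty_Ext xs.reverse (by rwa [List.reverse_reverse]) M i
  rw [List.reverse_reverse, List.length_reverse] at h
  have key : ∀ J : Ideal A, J = Ideal.ofList xs →
      Nonempty (Abelian.Ext.{u} (ModuleCat.of A (A ⧸ J)) (ModuleCat.of A M) i ≃ₗ[A]
        (DualCx.Tower.T xs (DualCx.KoszulTower.S0 (ModuleCat.of A M))).homology ((i : ℤ) - xs.length)) →
      Nonempty (Abelian.Ext.{u} (ModuleCat.of A (A ⧸ Ideal.ofList xs)) (ModuleCat.of A M) i ≃ₗ[A]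
        (DualCx.Tower.T xs (DualCx.KoszulTower.S0 (ModuleCat.of A M))).homology ((i : ℤ) - xs.length)) := by
    rintro J rfl h; exact h
  exact key _ (ofList_reverse xs) h


/-- All degrees, for a module killed by `J`: let `A` be a commutative ring, `xs = (x_1, …, x_p)` a
sequence in `A` such that each `x_i` is a non-zero-divisor on `A/(x_1, …, x_{i-1})`, `J` the ideal
generated by the `x_i`, and `M` an `A`-module with `JM = 0`. Then for every `i`, `Ext^i_A(A/J, M)`
is isomorphic as an `A`-module to `M^(p choose i)` (so it vanishes for `i > p`). (Existence of an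
`A`-linear isomorphism only; the published one is `Ext^i_A(A/J, M) ≅ Hom_A(Λ^i(J/J^2), M)` with
`J/J^2` free of rank `p` over `A/J`.) -/
theorem result (A : Type u) [CommRing A] (xs : List A) (hreg : RingTheory.Sequence.IsWeaklyRegular A xs) (M : Type u) [AddCommGroup M] [Module A M] (hJM : Ideal.ofList xs • (⊤ : Submodule A M) = ⊥) (i : ℕ) : Nonempty (Abelian.Ext (ModuleCat.of A (A ⧸ Ideal.ofList xs)) (ModuleCat.of A M) i ≃ₗ[A] (Fin (xs.length.choose i) → M)) := by
  obtain ⟨e⟩ := nonempty_hom xs hreg M i
  by_cases hi : i ≤ xs.length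
  · obtain ⟨e'⟩ := DualCx.KoszulTower.nonempty_killed_homology (ModuleCat.of A M) xs
      (fun a ha m => by
        have : a • m ∈ Ideal.ofList xs • (⊤ : Submodule A M) :=
          Submodule.smul_mem_smul (Ideal.subset_span ha) Submodule.mem_top
        rwa [hJM] at this) (xs.length - i)
    rw [show -((xs.length - i : ℕ) : ℤ) = (i : ℤ) - xs.length by omega,
      Nat.choose_symm hi] at e'
    exact ⟨e.trans e'⟩
  · have := DualCx.KoszulTower.subsingleton_homology (ModuleCat.of A M) xs ((i : ℤ) - xs.length)
      (Or.inl (by omega))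
    have := e.toEquiv.subsingleton
    have : IsEmpty (Fin (xs.length.choose i)) := by
      rw [Nat.choose_eq_zero_of_lt (by omega)]; infer_instance
    exact ⟨LinearEquiv.ofSubsingleton _ _⟩

end Groth.Agent.S5666
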