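import Groth.Statements.S5670
import Groth.Agent.FEtCat.PushOne
import Groth.Agent.FEtCat.Idem

set_option autoImplicit false
universe u
open Pi1

namespace Groth.Agent.S5670

open CategoryTheory CategoryTheory.Limits AlgebraicGeometry in
/-- Let `f : X → Y` be a proper morphism of Noetherian schemes such that `O_Y → f_* O_X` is an
isomorphism (bijective on sections over every open of `Y`). Then for every connected finite étale
`Y'` over `Y`, the base change `X ×_Y Y'` is connected; equivalently, `f` induces a surjection on
étale fundamental groups. -/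
theorem result {X Y Y' : Scheme.{u}} (f : X ⟶ Y) [IsProper f] [IsNoetherian X] [IsNoetherian Y] (hf : ∀ U : Y.Opens, Function.Bijective (f.app U)) (g : Y' ⟶ Y) [IsFinite g] [Etale g] [ConnectedSpace Y'] : ConnectedSpace ↥(pullback f g) := by
  let p := pullback.fst g f
  have hb : Function.Bijective p.appTop := FEtCat.PushOne.bijective_fst_appTop hf
  suffices H : ConnectedSpace ↥(pullback g f) from
    (pullbackSymmetry g f).hom.homeomorph.surjective.connectedSpace (pullbackSymmetry g f).hom.continuous
  have key : ∀ W : Set ↥(pullback g f), IsClopen W → W = ∅ ∨ W = Set.univ := fun W hW => by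
    obtain ⟨e', he', rfl⟩ := FEtCat.Idem.exists_idem hW
    obtain ⟨e, rfl⟩ := hb.2 e'
    have he : IsIdempotentElem e := hb.1 ((map_mul _ _ _).trans he')
    rcases isClopen_iff.mp (FEtCat.Idem.isClopen_basicOpen he) with h | h
    · left
      refine (FEtCat.Idem.preimage_basicOpen_top p e).symm.trans ?_
      rw [h]; rfl
    · right
      refine (FEtCat.Idem.preimage_basicOpen_top p e).symm.trans ?_
      rw [h]; rfl
  have : Nonempty ↥(pullback g f) := by
    by_contra hne
    have h1 : (Y'.basicOpen (1 : Γ(Y', ⊤)) : Set Y') = ∅ := by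
      have : (1 : Γ(Y', ⊤)) = 0 := hb.1 (by
        refine FEtCat.Idem.ext_basicOpen (IsIdempotentElem.one.map _) (IsIdempotentElem.zero.map _) ?_
        exact SetLike.coe_injective (Set.ext fun x => (hne ⟨x⟩).elim))
      rw [this, Scheme.basicOpen_zero]; rfl
    exact Set.notMem_empty (Classical.arbitrary Y') (h1 ▸ (by rw [Scheme.basicOpen_of_isUnit _ isUnit_one]; trivial :
      Classical.arbitrary Y' ∈ (Y'.basicOpen (1 : Γ(Y', ⊤)) : Set Y')))
  exact connectedSpace_iff_clopen.mpr ⟨inferInstance, key⟩

end Groth.Agent.S5670
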