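import Groth.Statements.S5671
import Groth.Agent.DualCx.GorNormal
import Groth.Agent.S0342
import Groth.Agent.OldExt.Compare

set_option autoImplicit false
universe u
open CategoryTheory
open Dual

namespace Groth.Agent.S5671

/-- First assertion, in the local-algebra form to which its proof reduces it: let `A` be a regular local
ring of dimension `n`, `p ≥ 0`, and `M` a finite `A`-module whose support has dimension at most `n -
p`. Then `Ext^i_A(M, A) = 0` for every `i < p`. (The geometric statement: on a nonsingular
`n`-dimensional variety the sheaves `Ext^i(F, L)` vanish for `i < p` when `F` is coherent with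
support of dimension `≤ n - p` and `L` is locally free.) -/
theorem result (A : Type u) [CommRing A] [IsRegularLocalRing A] (M : Type u) [AddCommGroup M] [Module A M] [Module.Finite A M] (p : ℕ) (hdim : Module.supportDim A M + p ≤ ringKrullDim A) (i : ℕ) (hi : i < p) : Subsingleton (Abelian.Ext (ModuleCat.of A M) (ModuleCat.of A A) i) := by
  have : LocCoh.IsGorensteinLocalRing A := S0342.result A
  obtain ⟨d, hd⟩ := Gor.Basic.exists_natCast_ringKrullDim (A := A)
  exact DualCx.GorNormal.subsingleton_ext hd M p hdim i hi

end Groth.Agent.S5671
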