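import Groth.Statements.S5672
import Groth.Agent.DualCx.GorNormal
import Groth.Agent.S0342

set_option autoImplicit false
universe u
open CategoryTheory
open Dual

namespace Groth.Agent.S5672

open Abelian

variable {A : Type u} [CommRing A]

/-- pullback of an extension class along a linear map -/
noncomputable def pb {X Y : Type u} [AddCommGroup X] [Module A X] [AddCommGroup Y] [Module A Y] {p : ℕ}
    (u : X →ₗ[A] Y) (ξ : Ext (ModuleCat.of A Y) (ModuleCat.of A A) p) :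
    Ext (ModuleCat.of A X) (ModuleCat.of A A) p :=
  (Ext.mk₀ (ModuleCat.ofHom u)).comp ξ (zero_add p)

section
variable {X Y Z : Type u} [AddCommGroup X] [Module A X] [AddCommGroup Y] [Module A Y]
  [AddCommGroup Z] [Module A Z] {p : ℕ}

theorem pb_comp (v : X →ₗ[A] Y) (u : Y →ₗ[A] Z) (ξ : Ext (ModuleCat.of A Z) (ModuleCat.of A A) p) :
    pb v (pb u ξ) = pb (u ∘ₗ v) ξ := by
  unfold pb
  rw [Ext.mk₀_comp_mk₀_assoc]
  rfl

theorem pb_add (u v : X →ₗ[A] Y) (ξ : Ext (ModuleCat.of A Y) (ModuleCat.of A A) p) :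
    pb (u + v) ξ = pb u ξ + pb v ξ := by
  unfold pb
  rw [← Ext.add_comp, ← Ext.mk₀_add]
  rfl

theorem pb_smul (a : A) (u : X →ₗ[A] Y) (ξ : Ext (ModuleCat.of A Y) (ModuleCat.of A A) p) :
    pb (a • u) ξ = a • pb u ξ := by
  unfold pb
  rw [← Ext.smul_comp, ← Ext.mk₀_smul]
  rfl

theorem pb_zero (ξ : Ext (ModuleCat.of A Y) (ModuleCat.of A A) p) : pb (0 : X →ₗ[A] Y) ξ = 0 := by
  have := pb_smul (0 : A) (0 : X →ₗ[A] Y) ξ
  simpa using this

theorem pb_id (ξ : Ext (ModuleCat.of A Y) (ModuleCat.of A A) p) : pb LinearMap.id ξ = ξ :=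
  Ext.mk₀_id_comp ξ

theorem pb_sum {ι : Type} [Fintype ι] (u : ι → (X →ₗ[A] Y)) (ξ : Ext (ModuleCat.of A Y) (ModuleCat.of A A) p) :
    pb (∑ i, u i) ξ = ∑ i, pb (u i) ξ := by
  classical
  induction (Finset.univ : Finset ι) using Finset.induction_on with
  | empty => simpa using pb_zero ξ
  | insert a s ha ih => simp [Finset.sum_insert ha, pb_add, ih]

theorem pb_map_sum {ι : Type} [Fintype ι] (u : X →ₗ[A] Y) (ξ : ι → Ext (ModuleCat.of A Y) (ModuleCat.of A A) p) :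
    pb u (∑ i, ξ i) = ∑ i, pb u (ξ i) :=
  Ext.comp_sum _ _ _

theorem pb_map_zero (u : X →ₗ[A] Y) : pb u (0 : Ext (ModuleCat.of A Y) (ModuleCat.of A A) p) = 0 :=
  Ext.comp_zero _ _ _ _ _

end

section
variable [IsRegularLocalRing A] {J : Ideal A} {p : ℕ}

theorem vanish (hJ : ringKrullDim (A ⧸ J) + p ≤ ringKrullDim A) (M : Type u) [AddCommGroup M] [Module A M]
    [Module.Finite A M] (hJM : ∀ a ∈ J, ∀ m : M, a • m = 0) {i : ℕ} (hi : i < p) :
    Subsingleton (Ext (ModuleCat.of A M) (ModuleCat.of A A) i) := by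
  have : LocCoh.IsGorensteinLocalRing A := S0342.result A
  obtain ⟨d, hd⟩ := Gor.Basic.exists_natCast_ringKrullDim (A := A)
  refine DualCx.GorNormal.subsingleton_ext hd M p (le_trans (add_le_add ?_ le_rfl) hJ) i hi
  rw [Module.supportDim_eq_ringKrullDim_quotient_annihilator]
  exact ringKrullDim_le_of_surjective (Ideal.Quotient.factor
    (show J ≤ Module.annihilator A M from fun a ha => Module.mem_annihilator.2 (hJM a ha)))
    (Ideal.Quotient.factor_surjective _)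

theorem exists_cover (M : Type u) [AddCommGroup M] [Module A M] [Module.Finite A M]
    (hJM : ∀ a ∈ J, ∀ m : M, a • m = 0) : ∃ (r : ℕ) (u : Fin r → ((A ⧸ J) →ₗ[A] M)),
      Function.Surjective ((∑ i, (u i) ∘ₗ (LinearMap.proj i : (Fin r → A ⧸ J) →ₗ[A] A ⧸ J) :
        (Fin r → A ⧸ J) →ₗ[A] M)) := by
  classical
  obtain ⟨r, s, hs⟩ := Module.Finite.exists_fin (R := A) (M := M)
  refine ⟨r, fun i => Submodule.liftQ J (LinearMap.toSpanSingleton A M (s i))
    fun a ha => LinearMap.mem_ker.2 (hJM a ha (s i)), fun m => ?_⟩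
  obtain ⟨c, rfl⟩ := (Submodule.mem_span_range_iff_exists_fun A).1 (hs ▸ Submodule.mem_top : m ∈ _)
  refine ⟨fun i => Ideal.Quotient.mk J (c i), ?_⟩
  rw [LinearMap.sum_apply]
  rfl

theorem smul_fn_eq_zero {r : ℕ} {a : A} (ha : a ∈ J) (f : Fin r → A ⧸ J) : a • f = 0 := by
  funext i
  obtain ⟨b, hb⟩ := Ideal.Quotient.mk_surjective (f i)
  rw [Pi.smul_apply, ← hb]
  exact Ideal.Quotient.eq_zero_iff_mem.2 (J.mul_mem_right b ha)

theorem fn_decomp {r : ℕ} (ξ : Ext (ModuleCat.of A (Fin r → A ⧸ J)) (ModuleCat.of A A) p) :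
    ξ = ∑ i, pb (LinearMap.proj i : (Fin r → A ⧸ J) →ₗ[A] A ⧸ J)
      (pb (LinearMap.single A (fun _ => A ⧸ J) i) ξ) := by
  classical
  have hid : (∑ i, (LinearMap.single A (fun _ : Fin r => A ⧸ J) i) ∘ₗ LinearMap.proj i) = LinearMap.id := by
    ext f j
    simp [LinearMap.sum_apply, Pi.single_apply]
  conv_lhs => rw [← pb_id ξ, ← hid, pb_sum]
  simp only [pb_comp]

theorem eq_zero_of_pb (hJ : ringKrullDim (A ⧸ J) + p ≤ ringKrullDim A) (M : Type u) [AddCommGroup M]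
    [Module A M] [Module.Finite A M] (hJM : ∀ a ∈ J, ∀ m : M, a • m = 0)
    (ξ : Ext (ModuleCat.of A M) (ModuleCat.of A A) p)
    (h : ∀ u : (A ⧸ J) →ₗ[A] M, pb u ξ = 0) : ξ = 0 := by
  classical
  obtain ⟨r, u, hu⟩ := exists_cover M hJM
  set π := ∑ i, (u i) ∘ₗ (LinearMap.proj i : (Fin r → A ⧸ J) →ₗ[A] A ⧸ J) with hπ
  have hπξ : pb π ξ = 0 := by
    rw [fn_decomp (pb π ξ)]
    simp [pb_comp, h, pb_map_zero]
  rcases Nat.eq_zero_or_pos p with rfl | hp
  · have : Epi (ModuleCat.ofHom π) := (ModuleCat.epi_iff_surjective _).2 hu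
    apply Ext.precomp_mk₀_injective_of_epi (ModuleCat.of A A) (ModuleCat.ofHom π)
    exact hπξ.trans (pb_map_zero π).symm
  · have hS : (ShortComplex.mk (ModuleCat.ofHom (LinearMap.ker π).subtype) (ModuleCat.ofHom π)
        (by ext x; exact x.2)).ShortExact :=
      { exact := ShortComplex.Exact.moduleCat_of_range_eq_ker _ _ (by simp)
        mono_f := (ModuleCat.mono_iff_injective _).2 Subtype.val_injective
        epi_g := (ModuleCat.epi_iff_surjective _).2 hu }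
    obtain ⟨x, hx⟩ := Ext.contravariant_sequence_exact₃ hS _ ξ hπξ (n₀ := p - 1) (by omega)
    have := vanish hJ (LinearMap.ker π) (fun a ha z => Subtype.ext (smul_fn_eq_zero ha z.1))
      (i := p - 1) (by omega)
    rw [← hx, Subsingleton.elim x 0]
    exact Ext.comp_zero _ _ _ _ _

theorem exists_of_linear (hJ : ringKrullDim (A ⧸ J) + p ≤ ringKrullDim A) (M : Type u) [AddCommGroup M]
    [Module A M] [Module.Finite A M] (hJM : ∀ a ∈ J, ∀ m : M, a • m = 0)
    (g : ((A ⧸ J) →ₗ[A] M) →ₗ[A] Ext (ModuleCat.of A (A ⧸ J)) (ModuleCat.of A A) p) :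
    ∃ ξ : Ext (ModuleCat.of A M) (ModuleCat.of A A) p, ∀ v, g v = pb v ξ := by
  classical
  obtain ⟨r, u, hu⟩ := exists_cover M hJM
  set π := ∑ i, (u i) ∘ₗ (LinearMap.proj i : (Fin r → A ⧸ J) →ₗ[A] A ⧸ J) with hπ
  have hS : (ShortComplex.mk (ModuleCat.ofHom (LinearMap.ker π).subtype) (ModuleCat.ofHom π)
      (by ext x; exact x.2)).ShortExact :=
    { exact := ShortComplex.Exact.moduleCat_of_range_eq_ker _ _ (by simp)
      mono_f := (ModuleCat.mono_iff_injective _).2 Subtype.val_injective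
      epi_g := (ModuleCat.epi_iff_surjective _).2 hu }
  let η : Ext (ModuleCat.of A (Fin r → A ⧸ J)) (ModuleCat.of A A) p :=
    ∑ i, pb (LinearMap.proj i : (Fin r → A ⧸ J) →ₗ[A] A ⧸ J) (g (u i))
  have key : ∀ w : (A ⧸ J) →ₗ[A] (Fin r → A ⧸ J), pb w η = g (π ∘ₗ w) := fun w => by
    have hw : ∀ i, ∃ a : A, (LinearMap.proj i : (Fin r → A ⧸ J) →ₗ[A] A ⧸ J) ∘ₗ w =
        a • LinearMap.id := fun i => by
      obtain ⟨a, ha⟩ := Ideal.Quotient.mk_surjective (w 1 i)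
      refine ⟨a, LinearMap.ext fun x => ?_⟩
      obtain ⟨b, rfl⟩ := Ideal.Quotient.mk_surjective x
      have : (Ideal.Quotient.mk J b : A ⧸ J) = b • (1 : A ⧸ J) := by
        rw [Algebra.smul_def, mul_one]; rfl
      simp only [LinearMap.comp_apply, LinearMap.proj_apply, LinearMap.smul_apply, LinearMap.id_apply]
      rw [this, map_smul, Pi.smul_apply, ← ha, smul_comm a b]
      rw [show a • (1 : A ⧸ J) = Ideal.Quotient.mk J a by rw [Algebra.smul_def, mul_one]; rfl]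
    choose a ha using hw
    have e : π ∘ₗ w = ∑ i, (u i ∘ₗ (LinearMap.proj i : (Fin r → A ⧸ J) →ₗ[A] A ⧸ J)) ∘ₗ w :=
      LinearMap.ext fun x => by simp [hπ, LinearMap.sum_apply]
    rw [e, map_sum]
    refine (pb_map_sum w _).trans ?_
    refine Finset.sum_congr rfl fun i _ => ?_
    rw [pb_comp, LinearMap.comp_assoc, ha i, LinearMap.comp_smul, LinearMap.comp_id, map_smul, pb_smul,
      pb_id]
  have hker : pb (LinearMap.ker π).subtype η = 0 := by
    refine eq_zero_of_pb hJ _ (fun a ha z => Subtype.ext (smul_fn_eq_zero ha z.1)) _ fun v => ?_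
    rw [pb_comp, key, show π ∘ₗ ((LinearMap.ker π).subtype ∘ₗ v) = 0 from
      LinearMap.ext fun x => (v x).2, map_zero]
  obtain ⟨ξ, hξ⟩ := Ext.contravariant_sequence_exact₂ hS _ η hker
  refine ⟨ξ, fun v => ?_⟩
  obtain ⟨f, hf⟩ := hu (v 1)
  have hJf : ∀ a ∈ J, a ∈ LinearMap.ker (LinearMap.toSpanSingleton A (Fin r → A ⧸ J) f) :=
    fun a ha => LinearMap.mem_ker.2 (smul_fn_eq_zero ha f)
  let w : (A ⧸ J) →ₗ[A] (Fin r → A ⧸ J) := Submodule.liftQ J (LinearMap.toSpanSingleton A _ f) hJf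
  have hvw : π ∘ₗ w = v := by
    ext
    change π ((1 : A) • f) = v 1
    rw [one_smul, hf]
  rw [← hvw, ← key, ← pb_comp]
  exact congrArg (pb w) hξ.symm

end

/-- Let `A` be a regular local ring of dimension `n`, `J` an ideal with `dim(A/J) ≤ n - p`, and `M` a
finite `A`-module with `JM = 0`. For `ξ ∈ Ext^p_A(M, A)` and an `A`-linear `u : A/J → M` write `u^*ξ
∈ Ext^p_A(A/J, A)` for the pullback. Then `ξ ↦ (u ↦ u^*ξ)` is injective, and every `A`-linear map
`Hom_A(A/J, M) → Ext^p_A(A/J, A)` is of the form `u ↦ u^*ξ` for some `ξ`. Since `Hom_A(A/J, M) = M`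
here, this says that the canonical map `Ext^p_A(M, A) → Hom_A(M, Ext^p_A(A/J, A))` is bijective. -/
theorem result (A : Type u) [CommRing A] [IsRegularLocalRing A] (p : ℕ) (J : Ideal A) (hJ : ringKrullDim (A ⧸ J) + p ≤ ringKrullDim A) (M : Type u) [AddCommGroup M] [Module A M] [Module.Finite A M] (hJM : J • (⊤ : Submodule A M) = ⊥) : Function.Injective (fun ξ : Abelian.Ext (ModuleCat.of A M) (ModuleCat.of A A) p => fun u : (A ⧸ J) →ₗ[A] M => (Abelian.Ext.mk₀ (ModuleCat.ofHom u)).comp ξ (zero_add p)) ∧ ∀ g : ((A ⧸ J) →ₗ[A] M) →ₗ[A] Abelian.Ext (ModuleCat.of A (A ⧸ J)) (ModuleCat.of A A) p, ∃ ξ : Abelian.Ext (ModuleCat.of A M) (ModuleCat.of A A) p, ∀ u : (A ⧸ J) →ₗ[A] M, g u = (Abelian.Ext.mk₀ (ModuleCat.ofHom u)).comp ξ (zero_add p) := by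
  have hJM' : ∀ a ∈ J, ∀ m : M, a • m = 0 := fun a ha m => by
    have h := Submodule.smul_mem_smul ha (Submodule.mem_top (x := m) (R := A))
    rw [hJM] at h
    exact (Submodule.mem_bot A).1 h
  refine ⟨fun ξ ξ' h => sub_eq_zero.1 (eq_zero_of_pb hJ M hJM' _ fun u => ?_),
    fun g => exists_of_linear hJ M hJM' g⟩
  rw [sub_eq_add_neg]
  exact (Ext.comp_add _ _ _ _).trans (by rw [Ext.comp_neg, ← sub_eq_add_neg]; exact sub_eq_zero.2 (congrFun h u))

end Groth.Agent.S5672
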