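import Groth.Statements.S5673
import Groth.Agent.DualCx.KoszulTower

set_option autoImplicit false
universe u
open CategoryTheory
open Dual

namespace Groth.Agent.S5673

lemma ofList_reverse {A : Type u} [CommRing A] (xs : List A) : Ideal.ofList xs.reverse = Ideal.ofList xs := by
  simp [Ideal.ofList, List.mem_reverse]

lemma nonempty_hom {A : Type u} [CommRing A] (xs : List A) (hreg : RingTheory.Sequence.IsWeaklyRegular A xs)
    (M : Type u) [AddCommGroup M] [Module A M] (i : ℕ) :
    Nonempty (Abelian.Ext.{u} (ModuleCat.of A (A ⧸ Ideal.ofList xs)) (ModuleCat.of A M) i ≃ₗ[A]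
      (DualCx.Tower.T xs (DualCx.KoszulTower.S0 (ModuleCat.of A M))).homology ((i : ℤ) - xs.length)) := by
  have h := DualCx.KoszulTower.nonempty_Ext xs.reverse (by rwa [List.reverse_reverse]) M i
  rw [List.reverse_reverse, List.length_reverse] at h
  have key : ∀ J : Ideal A, J = Ideal.ofList xs →
      Nonempty (Abelian.Ext.{u} (ModuleCat.of A (A ⧸ J)) (ModuleCat.of A M) i ≃ₗ[A]
        (DualCx.Tower.T xs (DualCx.KoszulTower.S0 (ModuleCat.of A M))).homology ((i : ℤ) - xs.length)) →
      Nonempty (Abelian.Ext.{u} (ModuleCat.of A (A ⧸ Ideal.ofList xs)) (ModuleCat.of A M) i ≃ₗ[A]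
        (DualCx.Tower.T xs (DualCx.KoszulTower.S0 (ModuleCat.of A M))).homology ((i : ℤ) - xs.length)) := by
    rintro J rfl h; exact h
  exact key _ (ofList_reverse xs) h

open CategoryTheory CategoryTheory.Limits MonoidalCategory in
lemma nil_case {A : Type u} [CommRing A] (M : Type u) [AddCommGroup M] [Module A M] :
    Nonempty (↑(((Tor' (ModuleCat.{u} A) 0).obj (ModuleCat.of A (A ⧸ Ideal.ofList ([] : List A)))).obj
      (ModuleCat.of A M)) ≃ₗ[A] ((A ⧸ Ideal.ofList ([] : List A)) →ₗ[A] M)) := by
  have : PreservesColimitsOfSize.{0, 0} (tensorRight (ModuleCat.of A M)) :=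
    preservesColimits_of_natIso (BraidedCategory.tensorLeftIsoTensorRight (ModuleCat.of A M))
  have : PreservesFiniteColimits (tensorRight (ModuleCat.of A M)) :=
    PreservesColimitsOfSize.preservesFiniteColimits _
  let e : (A ⧸ Ideal.ofList ([] : List A)) ≃ₗ[A] A := Submodule.quotEquivOfEqBot _ Ideal.ofList_nil
  exact ⟨((tensorRight (ModuleCat.of A M)).leftDerivedZeroIsoSelf.app _).toLinearEquiv.trans
    (((TensorProduct.congr e (LinearEquiv.refl A M)).trans (TensorProduct.lid A M)).trans
      ((LinearMap.ringLmapEquivSelf A A M).symm.trans (LinearEquiv.congrLeft M A e.symm)))⟩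

lemma succ_case {A : Type u} [CommRing A] (xs : List A) (hreg : RingTheory.Sequence.IsWeaklyRegular A xs)
    (M : Type u) [AddCommGroup M] [Module A M] (k : ℕ) (hk : xs.length = k + 1) :
    Nonempty (↑(((CategoryTheory.Tor' (ModuleCat.{u} A) (k + 1)).obj
      (ModuleCat.of A (A ⧸ Ideal.ofList xs))).obj (ModuleCat.of A M)) ≃ₗ[A]
        ((A ⧸ Ideal.ofList xs) →ₗ[A] M)) := by
  have key : ∀ J : Ideal A, J = Ideal.ofList xs.reverse →
      Nonempty (↑(((CategoryTheory.Tor' (ModuleCat.{u} A) (k + 1)).obj
        (ModuleCat.of A (A ⧸ J))).obj (ModuleCat.of A M)) ≃ₗ[A] ((A ⧸ J) →ₗ[A] M)) := by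
    rintro J rfl
    obtain ⟨e⟩ := DualCx.KoszulTower.nonempty_Tor' xs.reverse (by rwa [List.reverse_reverse]) M k
    obtain ⟨ι, hι, hr⟩ := DualCx.KoszulTower.exists_fromHtop (ModuleCat.of A M) xs.reverse
    have hlen : (xs.reverse).length = k + 1 := List.length_reverse.trans hk
    rw [← hlen] at e ⊢
    let v : ((A ⧸ Ideal.ofList xs.reverse) →ₗ[A] M) →ₗ[A] M := LinearMap.applyₗ (Submodule.Quotient.mk 1)
    have hv : Function.Injective v := fun f g h =>
      Submodule.linearMap_qext _ (LinearMap.ext_ring h)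
    have hrange : LinearMap.range ι = LinearMap.range v := by
      ext m
      rw [hr]
      constructor
      · intro hm
        refine ⟨Submodule.liftQ _ (LinearMap.toSpanSingleton A M m) ?_, one_smul A m⟩
        rw [Ideal.ofList, Ideal.span_le]
        intro a ha
        exact LinearMap.mem_ker.mpr (hm a ha)
      · rintro ⟨f, rfl⟩ a ha
        change a • f (Submodule.Quotient.mk 1) = 0
        rw [← map_smul, ← Submodule.Quotient.mk_smul, smul_eq_mul, mul_one,
          (Submodule.Quotient.mk_eq_zero _).mpr (Ideal.subset_span (s := {r | r ∈ xs.reverse}) ha), map_zero]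
    exact ⟨e.trans ((LinearEquiv.ofInjective ι hι).trans
      ((LinearEquiv.ofEq _ _ hrange).trans (LinearEquiv.ofInjective v hv).symm))⟩
  exact key _ (ofList_reverse xs).symm


/-- Let `A` be a commutative ring, `xs = (x_1, …, x_p)` a sequence in `A` such that each `x_i` is a
non-zero-divisor on `A/(x_1, …, x_{i-1})`, `J` the ideal generated by the `x_i` and `M` any
`A`-module. Then `Tor_p^A(A/J, M)` (Mathlib's `Tor'`, the left derived functors of `- ⊗ M` evaluated
at `A/J`, i.e. computed from a resolution of `A/J`) is isomorphic as an `A`-module to `Hom_A(A/J,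
M)`, i.e. to the elements of `M` killed by `J`. (Existence of an `A`-linear isomorphism only; the
published one is induced by the Koszul complex of `xs`.) -/
theorem result (A : Type u) [CommRing A] (xs : List A) (hreg : RingTheory.Sequence.IsWeaklyRegular A xs) (M : Type u) [AddCommGroup M] [Module A M] : Nonempty (↑(((Tor' (ModuleCat.{u} A) xs.length).obj (ModuleCat.of A (A ⧸ Ideal.ofList xs))).obj (ModuleCat.of A M)) ≃ₗ[A] ((A ⧸ Ideal.ofList xs) →ₗ[A] M)) := by
  rcases Nat.eq_zero_or_eq_succ_pred xs.length with h0 | hsucc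
  · rw [h0]
    obtain rfl := List.eq_nil_of_length_eq_zero h0
    exact nil_case M
  · rw [hsucc]
    exact succ_case xs hreg M _ (by omega)

end Groth.Agent.S5673
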