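import Groth.Statements.S5675
import Groth.Agent.CanonExt.Wedge
import Groth.Agent.CanonExt.ExtHom
import Groth.Agent.S5665
import Groth.Agent.S13315
-- import your own Groth.Agent.* helpers here

set_option autoImplicit false
universe u
open CategoryTheory
open Dual

namespace Groth.Agent.S5675

open TensorProduct

/-- The split conormal sequence. -/
theorem split_conormal (k A : Type u) [Field k] [CommRing A] [Algebra k A] [Algebra.Smooth k A] {p : ℕ} (F : Fin p → A)
    (hreg : RingTheory.Sequence.IsWeaklyRegular A (List.ofFn F)) (J : Ideal A) (hJ : J = Ideal.span (Set.range F))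
    [Algebra.Smooth k (A ⧸ J)] :
    Nonempty ((A ⧸ J) ⊗[A] (Ω[A⁄k]) ≃ₗ[A ⧸ J] (Fin p → A ⧸ J) × (Ω[(A ⧸ J)⁄k])) := by
  have hs : Function.Surjective (algebraMap A (A ⧸ J)) := Ideal.Quotient.mk_surjective
  have hk : RingHom.ker (algebraMap A (A ⧸ J)) = J := Ideal.mk_ker
  obtain ⟨l, hl⟩ := (Algebra.FormallySmooth.iff_split_injection (R := k) (P := A) (A := A ⧸ J) hs).1 inferInstance
  obtain ⟨EJ⟩ := S13315.nonempty_cotangent_equiv F hreg (RingHom.ker (algebraMap A (A ⧸ J))) (hk.trans hJ) (A ⧸ J) hs rfl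
  let a : (A ⧸ J) ⊗[A] (Ω[A⁄k]) →ₗ[A] (Fin p → A ⧸ J) := EJ.toLinearMap ∘ₗ l
  let Φ : (A ⧸ J) ⊗[A] (Ω[A⁄k]) →ₗ[A ⧸ J] (Fin p → A ⧸ J) × (Ω[(A ⧸ J)⁄k]) :=
    (a.extendScalarsOfSurjective hs).prod (KaehlerDifferential.mapBaseChange k A (A ⧸ J))
  have hex := KaehlerDifferential.exact_kerCotangentToTensor_mapBaseChange k A (A ⧸ J) hs
  have hlk : ∀ z, l (KaehlerDifferential.kerCotangentToTensor k A (A ⧸ J) z) = z := fun z => LinearMap.congr_fun hl z
  refine ⟨LinearEquiv.ofBijective Φ ⟨?_, ?_⟩⟩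
  · rw [injective_iff_map_eq_zero]
    intro z hz
    obtain ⟨w, rfl⟩ := (hex z).1 (congrArg Prod.snd hz)
    have h1 : EJ (l (KaehlerDifferential.kerCotangentToTensor k A (A ⧸ J) w)) = 0 := congrArg Prod.fst hz
    rw [hlk, LinearEquiv.map_eq_zero_iff] at h1
    rw [h1, map_zero]
  · rintro ⟨v, w⟩
    obtain ⟨z, rfl⟩ := KaehlerDifferential.mapBaseChange_surjective k A (A ⧸ J) hs w
    refine ⟨z + KaehlerDifferential.kerCotangentToTensor k A (A ⧸ J) (EJ.symm v - l z), Prod.ext ?_ ?_⟩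
    · show EJ (l (z + _)) = v
      rw [map_add, hlk, add_sub_cancel, LinearEquiv.apply_symm_apply]
    · show KaehlerDifferential.mapBaseChange k A (A ⧸ J) (z + _) = _
      rw [map_add, hex.apply_apply_eq_zero, add_zero]

/-- Endomorphisms of an invertible module over a quotient. -/
theorem nonempty_end_equiv {A B : Type u} [CommRing A] [CommRing B] [Algebra A B]
    (hs : Function.Surjective (algebraMap A B)) (L : Type u) [AddCommGroup L]
    [Module A L] [Module B L] [IsScalarTower A B L] [Module.Invertible B L] :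
    Nonempty ((L →ₗ[A] L) ≃ₗ[A] B) := by
  let g : B →ₗ[A] (L →ₗ[A] L) :=
    { toFun := fun b => (DistribSMul.toLinearMap B L b).restrictScalars A
      map_add' := fun b c => LinearMap.ext fun x => add_smul b c x
      map_smul' := fun a b => LinearMap.ext fun x => smul_assoc a b x }
  refine ⟨(LinearEquiv.ofBijective g ⟨fun b c h => (Module.Invertible.toModuleEnd_bijective B L).1
    (LinearMap.ext fun x => LinearMap.congr_fun h x), fun f => ?_⟩).symm⟩
  obtain ⟨b, hb⟩ := (Module.Invertible.toModuleEnd_bijective B L).2 (f.extendScalarsOfSurjective hs)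
  exact ⟨b, LinearMap.ext fun x => LinearMap.congr_fun hb x⟩

/-- Let `k` be a perfect field, `A` a regular affine `k`-algebra of dimension `n` — here: `A` finitely
generated and smooth over `k` with `Ω_{A/k}` of rank `n` at every prime — and `xs = (x_1, …, x_p)`,
`p ≤ n`, a sequence with each `x_i` a non-zero-divisor on `A/(x_1, …, x_{i-1})`, generating an ideal
`J` such that `A/J` is again a regular (smooth) affine `k`-algebra. Write `Ω^m` for `m`-th exterior
powers of Kähler differentials. Then `Ext^p_A(Ω^(n-p)(A/J), Ω^n(A))` is isomorphic to `A/J` as an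
`A`-module. (Existence of an `A`-linear isomorphism only; the published one is canonical and
compatible with localisation, its unit being the fundamental class of `J` in `A`.) -/
theorem result (k : Type u) [Field k] [PerfectField k] (A : Type u) [CommRing A] [Algebra k A] [Algebra.FiniteType k A] [Algebra.Smooth k A] (n : ℕ) (hn : ∀ q : PrimeSpectrum A, Module.rankAtStalk (Ω[A⁄k]) q = n) (xs : List A) (hreg : RingTheory.Sequence.IsWeaklyRegular A xs) (J : Ideal A) (hJ : Ideal.ofList xs = J) [Algebra.Smooth k (A ⧸ J)] (p : ℕ) (hp : xs.length = p) (hpn : p ≤ n) : Nonempty (Abelian.Ext (ModuleCat.of A ↥((⋀[A ⧸ J]^(n - p) (Ω[(A ⧸ J)⁄k])).restrictScalars A)) (ModuleCat.of A ↥(⋀[A]^n (Ω[A⁄k]))) p ≃ₗ[A] (A ⧸ J)) := by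
  subst hJ hp
  have hF : Ideal.ofList xs = Ideal.span (Set.range xs.get) := by
    rw [Set.range_list_get]
  obtain ⟨eS⟩ := split_conormal k A xs.get (by rwa [List.ofFn_get]) (Ideal.ofList xs) hF
  let B := A ⧸ Ideal.ofList xs
  have hs : Function.Surjective (algebraMap A B) := Ideal.Quotient.mk_surjective
  have hrk : ∀ z : PrimeSpectrum B, Module.rankAtStalk (R := B) (Ω[B⁄k]) z = n - xs.length := fun z => by
    haveI : Nontrivial B := z.nontrivial
    have h := congrFun (Module.rankAtStalk_eq_of_equiv eS) z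
    rw [Module.rankAtStalk_baseChange, hn, Module.rankAtStalk_prod, Pi.add_apply,
      Module.rankAtStalk_eq_finrank_of_free, Pi.natCast_apply, Module.finrank_fin_fun] at h
    simp only [Nat.cast_id] at h
    show Module.rankAtStalk (R := A ⧸ Ideal.ofList xs) (Ω[(A ⧸ Ideal.ofList xs)⁄k]) z = _
    omega
  haveI : IsNoetherianRing A := Algebra.FiniteType.isNoetherianRing k A
  haveI := CanonExt.invertible_top (R := B) (Q := Ω[B⁄k]) hrk
  obtain ⟨-, ⟨eW⟩⟩ := CanonExt.van_pi_prod (Q := Ω[B⁄k]) xs.length (n - xs.length) (CanonExt.van_of_rank hrk)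
  obtain ⟨eK⟩ := S5665.result A xs hreg ↥(⋀[A]^n (Ω[A⁄k]))
  let L : Type u := ↥((⋀[B]^(n - xs.length) (Ω[B⁄k])).restrictScalars A)
  haveI : Module.Invertible B L :=
    inferInstanceAs (Module.Invertible B ↥(⋀[B]^(n - xs.length) (Ω[B⁄k])))
  let eB : B ⊗[A] ↥(⋀[A]^n (Ω[A⁄k])) ≃ₗ[B] ↥(⋀[B]^(n - xs.length) (Ω[B⁄k])) :=
    (DeRham.ExtBaseChange.equiv A B (Ω[A⁄k]) n).trans
      ((CanonExt.extEquiv eS n).trans ((LinearEquiv.ofEq _ _ (by rw [Nat.add_sub_cancel' hpn])).trans eW))
  let eE : Abelian.Ext (ModuleCat.of A B) (ModuleCat.of A ↥(⋀[A]^n (Ω[A⁄k]))) xs.length ≃ₗ[A] L :=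
    eK.trans ((TensorProduct.quotTensorEquivQuotSMul _ _).symm.trans (eB.restrictScalars A))
  obtain ⟨e1⟩ := CanonExt.nonempty_ext_equiv hs L ↥(⋀[A]^n (Ω[A⁄k])) xs.length
  obtain ⟨e2⟩ := nonempty_end_equiv hs L
  exact ⟨e1.trans ((eE.congrRight).trans e2)⟩

end Groth.Agent.S5675
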