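import Groth.Statements.S5679
import Groth.Agent.NeutralGen28.Generic

set_option autoImplicit false
universe u
open CategoryTheory CategoryTheory.Limits MonoidalCategory CartesianMonoidalCategory MonObj GrpObj AlgebraicGeometry
open FGA

namespace Groth.Agent.S5679

/-- Let S be a nonempty locally Noetherian scheme and G a group scheme locally of finite type over S.
Then there are a nonempty open subset U of S, a group scheme H of finite type over U with connected
fibres, and a homomorphism from H to the base change of G to U which is an open immersion and whose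
image in G is the set of points lying over U in the union of the connected components of the
identity of the fibres of G. -/
theorem result (S : Scheme.{u}) [IsLocallyNoetherian S] [Nonempty ↥S]
    (G : Over S) [GrpObj G] [LocallyOfFiniteType G.hom] :
    ∃ U : S.Opens, (U : Set ↥S).Nonempty ∧
      ∃ (H : Over (U : Scheme.{u})) (_ : GrpObj H) (i : H ⟶ Red.bc U.ι G), IsMonHom i ∧ IsOpenImmersion i.left ∧
        QuasiCompact H.hom ∧ LocallyOfFiniteType H.hom ∧
        (∀ u : ↥(U : Scheme.{u}), _root_.IsConnected (H.hom.base ⁻¹' {u})) ∧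
        Set.range (i.left ≫ pullback.fst G.hom U.ι).base = SGA3x.neutralSet G ∩ G.hom.base ⁻¹' (U : Set ↥S) := by
  obtain ⟨U, hne, hU, N, hN, hNc⟩ := Groth.Agent.NeutralGen28.exists_open G
  haveI : LocallyOfFiniteType (Red.bc U.ι G).hom :=
    MorphismProperty.pullback_snd _ _ ‹LocallyOfFiniteType G.hom›
  let p : (Red.bc U.ι G).left ⟶ G.left := pullback.fst G.hom U.ι
  have hp : IsOpenImmersion p := inferInstanceAs (IsOpenImmersion (pullback.fst G.hom U.ι))
  have hpV : ∀ z, G.hom (p z) = U.ι ((Red.bc U.ι G).hom z) := fun z => by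
    rw [← Scheme.Hom.comp_apply, ← Scheme.Hom.comp_apply]
    exact congrArg (fun k : (Red.bc U.ι G).left ⟶ S => k z) pullback.condition
  have hpre : SGA3x.neutralSet (Red.bc U.ι G) = p ⁻¹' (N : Set G.left) := by
    rw [Groth.Agent.S5322.result S _ U.ι G, hN]
    ext z
    refine ⟨fun h => ⟨h, ?_⟩, fun h => h.1⟩
    show G.hom (p z) ∈ U
    rw [hpV]; exact ((Red.bc U.ι G).hom z).2
  obtain ⟨H, hH, i, hi, hio, hr⟩ := Groth.Agent.NeutralGen28.exists_subgroup (Red.bc U.ι G)
    (by rw [hpre]; exact N.2.preimage p.continuous)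
  haveI := hio
  have hNr : (N : Set G.left) ⊆ Set.range p := by
    rw [Scheme.Pullback.range_fst, hN, Scheme.Opens.range_ι]
    exact Set.inter_subset_right
  refine ⟨U, hne, H, hH, i, hi, hio, ?_, ?_, ?_, ?_⟩
  · haveI : CompactSpace H.left := by
      refine ⟨?_⟩
      rw [i.left.isOpenEmbedding.isEmbedding.isCompact_iff, Set.image_univ, hr, hpre,
        p.isOpenEmbedding.isEmbedding.isCompact_iff, Set.image_preimage_eq_inter_range,
        Set.inter_eq_left.mpr hNr]
      exact hNc
    haveI : IsAffine (U : Scheme.{u}) := hU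
    exact quasiCompact_of_compactSpace _
  · rw [← Over.w i]
    infer_instance
  · intro u
    have him : i.left.base '' (H.hom.base ⁻¹' {u}) =
        SGA3x.neutralSet (Red.bc U.ι G) ∩ (Red.bc U.ι G).hom ⁻¹' {u} := by
      rw [← hr]
      ext z
      have hw : ∀ a, (Red.bc U.ι G).hom (i.left a) = H.hom a := fun a => by
        rw [← Scheme.Hom.comp_apply, Over.w]
      constructor
      · rintro ⟨a, ha, rfl⟩
        exact ⟨⟨a, rfl⟩, (hw a).trans ha⟩
      · rintro ⟨⟨a, rfl⟩, ha⟩
        exact ⟨a, (hw a).symm.trans ha, rfl⟩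
    have hc : _root_.IsConnected (SGA3x.neutralSet (Red.bc U.ι G) ∩ (Red.bc U.ι G).hom ⁻¹' {u}) := by
      have e : SGA3x.neutralSet (Red.bc U.ι G) ∩ (Red.bc U.ι G).hom ⁻¹' {u} =
          connectedComponentIn ((Red.bc U.ι G).hom ⁻¹' {u})
            (Groth.Agent.NeutralOpen27.unitSec (Red.bc U.ι G) u) := by
        ext z
        constructor
        · rintro ⟨h1, h2 : (Red.bc U.ι G).hom z = u⟩
          rw [Groth.Agent.NeutralOpen27.mem_neutralSet, h2] at h1
          exact h1
        · intro h1
          have h2 : (Red.bc U.ι G).hom z = u :=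
            connectedComponentIn_subset ((Red.bc U.ι G).hom ⁻¹' {u}) _ h1
          refine ⟨?_, h2⟩
          rw [Groth.Agent.NeutralOpen27.mem_neutralSet, h2]
          exact h1
      rw [e]
      exact isConnected_connectedComponentIn_iff.mpr (Groth.Agent.NeutralOpen27.hom_unitSec _ u)
    rw [← him] at hc
    exact ⟨hc.nonempty.of_image, i.left.isOpenEmbedding.isEmbedding.isInducing.isPreconnected_image.mp hc.isPreconnected⟩
  · rw [← hN]
    have h3 : Set.range (i.left ≫ p).base = p '' Set.range i.left := by
      rw [← Set.range_comp]; rfl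
    refine h3.trans ?_
    rw [hr, hpre, Set.image_preimage_eq_inter_range, Set.inter_eq_left.mpr hNr]

end Groth.Agent.S5679
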