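import Groth.Statements.S5680
import Groth.Agent.PicThick.Root
import Groth.Agent.IdealSh.Comap

set_option autoImplicit false
set_option linter.style.haveILetI false
universe u
open CategoryTheory CategoryTheory.Limits AlgebraicGeometry
open FGA

namespace Groth.Agent.S5680

/-- Let A be an artinian local ring with maximal ideal m and ν ≥ 1 an integer with m^(ν+1) = 0; let X be
a scheme proper and flat over Spec A, n a natural number whose image in the residue field of A is
nonzero, L an invertible module on X and L' an invertible module on the closed subscheme X ×_A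
Spec(A/m^ν) whose n-th tensor power is isomorphic to the pullback of L. Then there is an invertible
module M on X whose n-th tensor power is isomorphic to L (existence of an isomorphism). -/
theorem result (A : Type u) [CommRing A] [IsArtinianRing A] [IsLocalRing A]
    (ν : ℕ) (hν : 1 ≤ ν) (hm : IsLocalRing.maximalIdeal A ^ (ν + 1) = ⊥)
    (X : Scheme.{u}) (f : X ⟶ Spec (CommRingCat.of A)) [IsProper f] [Flat f]
    (n : ℕ) (hn : (n : IsLocalRing.ResidueField A) ≠ 0)
    (L : X.Modules) (hL : PicF.IsInvertible L)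
    (L' : (pullback f (Spec.map (CommRingCat.ofHom (Ideal.Quotient.mk (IsLocalRing.maximalIdeal A ^ ν))))).Modules)
    (hL' : PicF.IsInvertible L')
    (hroot : Nonempty (CohB1.tensorPow L' n ≅
      (Scheme.Modules.pullback (pullback.fst f (Spec.map (CommRingCat.ofHom (Ideal.Quotient.mk (IsLocalRing.maximalIdeal A ^ ν)))))).obj L)) :
    ∃ M : X.Modules, PicF.IsInvertible M ∧ Nonempty (CohB1.tensorPow M n ≅ L) := by
  obtain ⟨m, rfl⟩ : ∃ m, n = m + 1 := ⟨n - 1, by
    rcases n with _ | k
    · exact absurd Nat.cast_zero hn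
    · rfl⟩
  let q : CommRingCat.of A ⟶ CommRingCat.of (A ⧸ IsLocalRing.maximalIdeal A ^ ν) :=
    CommRingCat.ofHom (Ideal.Quotient.mk (IsLocalRing.maximalIdeal A ^ ν))
  haveI : IsClosedImmersion (Spec.map q) :=
    IsClosedImmersion.spec_of_surjective _ Ideal.Quotient.mk_surjective
  haveI : Surjective (Spec.map q) := by
    refine ⟨fun (p : PrimeSpectrum A) => ?_⟩
    have h : p ∈ Set.range (PrimeSpectrum.comap q.hom) := by
      rw [show q.hom = Ideal.Quotient.mk (IsLocalRing.maximalIdeal A ^ ν) from rfl,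
        range_comap_of_surjective _ _ Ideal.Quotient.mk_surjective, Ideal.mk_ker,
        PrimeSpectrum.mem_zeroLocus, SetLike.coe_subset_coe]
      intro a ha
      refine p.isPrime.mem_of_pow_mem (ν + 1) ?_
      have h0 : a ^ (ν + 1) = 0 := by
        rw [← Submodule.mem_bot (R := A), ← hm]
        exact Ideal.pow_mem_pow (Ideal.pow_le_self (by omega) ha) _
      rw [h0]
      exact zero_mem _
    exact h
  have hsq : PicThick.SqZero (pullback.fst f (Spec.map q)) := by
    intro U hU a b ha hb
    have hker : (pullback.fst f (Spec.map q)).ker.ideal ⟨U, hU⟩ =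
        ((Spec.map q).ker.ideal ⟨⊤, isAffineOpen_top _⟩).map (f.appLE ⊤ U le_top).hom := by
      rw [Scheme.IdealSheafData.ker_fst_of_isClosedImmersion]
      exact IdealSh.Comap.ideal_comap _ f ⟨⊤, isAffineOpen_top _⟩ ⟨U, hU⟩ le_top
    have hJ : (Spec.map q).ker.ideal ⟨⊤, isAffineOpen_top _⟩ *
        (Spec.map q).ker.ideal ⟨⊤, isAffineOpen_top _⟩ = ⊥ := by
      rw [eq_bot_iff, Ideal.mul_le]
      intro x hx y hy
      rw [Scheme.Hom.ker_apply, RingHom.mem_ker] at hx hy
      have hmem : ∀ z, (Spec.map q).appTop z = 0 →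
          (Scheme.ΓSpecIso (CommRingCat.of A)).hom z ∈ IsLocalRing.maximalIdeal A ^ ν := by
        intro z hz
        have h1 := congr($(Scheme.ΓSpecIso_naturality q) z)
        rw [CommRingCat.comp_apply, CommRingCat.comp_apply, hz, map_zero] at h1
        exact Ideal.Quotient.eq_zero_iff_mem.mp h1.symm
      rw [Ideal.mem_bot]
      apply (ConcreteCategory.bijective_of_isIso (Scheme.ΓSpecIso (CommRingCat.of A)).hom).1
      rw [map_mul, map_zero, ← Submodule.mem_bot (R := A), ← hm]
      refine Ideal.pow_le_pow_right (show ν + 1 ≤ ν + ν by omega) ?_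
      rw [pow_add]
      exact Ideal.mul_mem_mul (hmem x hx) (hmem y hy)
    have hab : a * b ∈ (pullback.fst f (Spec.map q)).ker.ideal ⟨U, hU⟩ *
        (pullback.fst f (Spec.map q)).ker.ideal ⟨U, hU⟩ := by
      refine Ideal.mul_mem_mul ?_ ?_ <;> rw [Scheme.Hom.ker_apply, RingHom.mem_ker] <;> assumption
    rwa [hker, ← Ideal.map_mul, hJ, Ideal.map_bot, Ideal.mem_bot] at hab
  have hu : IsUnit ((m + 1 : ℕ) : Γ(X, ⊤)) := by
    have h0 : IsUnit ((m + 1 : ℕ) : A) := by
      rw [← IsLocalRing.notMem_maximalIdeal, ← IsLocalRing.residue_eq_zero_iff, map_natCast]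
      exact hn
    have := (h0.map (Scheme.ΓSpecIso (CommRingCat.of A)).inv.hom).map f.appTop.hom
    simpa using this
  obtain ⟨φ⟩ := hroot
  exact PicThick.exists_root (pullback.fst f (Spec.map q)) hsq hu L L' hL hL' φ

end Groth.Agent.S5680
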