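import Groth.Statements.S5683
import Groth.Agent.LFFrame.Basic
import Mathlib.Algebra.Category.ModuleCat.Sheaf.PullbackFree

set_option autoImplicit false
universe u
open CategoryTheory CategoryTheory.Limits AlgebraicGeometry
open FGA

namespace Groth.Agent.S5683

/-- Let f : X ⟶ S be a morphism of schemes such that for every open U of S the induced map from sections
of the structure sheaf of S over U to sections of the structure sheaf of X over the inverse image of
U is bijective. If L is an invertible module on S whose pullback to X is isomorphic to the structure
sheaf of X, then L is isomorphic to the structure sheaf of S: pullback of invertible modules along f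
is injective on isomorphism classes. This is exactness at Pic(S). -/
theorem result {X S : Scheme.{u}} (f : X ⟶ S)
    (hf : ∀ U : S.Opens, Function.Bijective (f.app U)) (L : S.Modules) (hL : PicF.IsInvertible L)
    (htriv : Nonempty ((Scheme.Modules.pullback f).obj L ≅ Coh.structureModule X)) :
    Nonempty (L ≅ Coh.structureModule S) := by
  obtain ⟨e⟩ := htriv
  have := Groth.Agent.LFFrame.isIso_unit f hf L (Groth.Agent.LFFrame.exists_isFrame_of_isInvertible hL)
  let u : Coh.structureModule S ⟶ (Scheme.Modules.pushforward f).obj (Coh.structureModule X) :=
    SheafOfModules.unitToPushforwardObjUnit f.toRingCatSheafHom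
  have : IsIso u :=
    Groth.Agent.LFFrame.isIso_of_locally_bijective u fun s => ⟨⊤, trivial, fun V _ => hf V⟩
  exact ⟨asIso ((Scheme.Modules.pullbackPushforwardAdjunction f).unit.app L) ≪≫
    (Scheme.Modules.pushforward f).mapIso e ≪≫ (asIso u).symm⟩

end Groth.Agent.S5683
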