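import Groth.Statements.S5691
import Mathlib.CategoryTheory.Limits.Types.Filtered
-- import your own Groth.Agent.* helpers here

set_option autoImplicit false
universe u
open CategoryTheory CategoryTheory.Limits Opposite
open FGA

namespace Groth.Agent.S5691

section

variable {C : Type u} [SmallCategory C] [HasFiniteLimits C] {F : C ⥤ Type u} [PreservesFiniteLimits F]

/-- An element is minimal if it does not come from a proper subobject. -/
private def IsMin (p : F.Elements) : Prop :=
  ∀ ⦃Y : C⦄ (m : Y ⟶ p.1) [Mono m] (y : F.obj Y), F.map m y = p.2 → IsIso m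

private theorem exists_lift_equalizer {X Y : C} (a b : X ⟶ Y) (x : F.obj X) (h : F.map a x = F.map b x) :
    ∃ e : F.obj (equalizer a b), F.map (equalizer.ι a b) e = x := by
  have hl := isLimitForkMapOfIsLimit F (equalizer.condition a b) (equalizerIsEqualizer a b)
  obtain ⟨l, hl'⟩ := Fork.IsLimit.lift' hl (↾fun _ : PUnit.{u + 1} => x) (by ext; exact h)
  exact ⟨l PUnit.unit, ConcreteCategory.congr_hom hl' PUnit.unit⟩

private theorem hom_eq_of_isMin {p : F.Elements} (hp : IsMin p) {Y : C} (a b : p.1 ⟶ Y)
    (h : F.map a p.2 = F.map b p.2) : a = b := by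
  obtain ⟨e, he⟩ := exists_lift_equalizer a b p.2 h
  have := hp (equalizer.ι a b) e he
  exact (cancel_epi (equalizer.ι a b)).1 (equalizer.condition a b)

private theorem epi_of_isMin {p q : F.Elements} (hq : IsMin q) (g : p ⟶ q) : Epi g.val := by
  refine ⟨fun a b h => hom_eq_of_isMin hq a b ?_⟩
  rw [← g.2, ← ConcreteCategory.comp_apply, ← ConcreteCategory.comp_apply, ← F.map_comp,
    ← F.map_comp, h]

private theorem exists_isMin (hart : ∀ X : C, IsArtinianObject X) (q : F.Elements) :
    ∃ p : F.Elements, IsMin p ∧ Nonempty (p ⟶ q) := by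
  have := hart q.1
  obtain ⟨P, hP, hmin⟩ := (wellFounded_lt (α := Subobject q.1)).has_min
    {P | ∃ y, F.map P.arrow y = q.2} ⟨Subobject.mk (𝟙 q.1),
      F.map (Subobject.underlyingIso (𝟙 q.1)).inv q.2, by
      rw [← ConcreteCategory.comp_apply, ← F.map_comp]; simp⟩
  obtain ⟨y, hy⟩ := hP
  refine ⟨⟨(P : C), y⟩, ?_, ⟨⟨P.arrow, hy⟩⟩⟩
  intro Y m _ z hz
  by_contra hne
  have hlt : Subobject.mk (m ≫ P.arrow) < P := by
    refine lt_of_le_of_ne (Subobject.mk_le_of_comm m rfl) fun heq => hne ?_
    have h1 : m = (Subobject.isoOfMkEq (m ≫ P.arrow) P heq).hom := by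
      rw [← cancel_mono P.arrow]; simp
    rw [h1]
    infer_instance
  refine hmin _ ⟨F.map (Subobject.underlyingIso (m ≫ P.arrow)).inv z, ?_⟩ hlt
  rw [← ConcreteCategory.comp_apply, ← F.map_comp, Subobject.underlyingIso_arrow, F.map_comp,
    ConcreteCategory.comp_apply, hz, hy]

end

/-- Let C be a small category with finite limits all of whose objects are artinian (the subobjects of
each object satisfy the descending chain condition), and let F be a set-valued functor on C
preserving finite limits. Then F is strictly pro-representable: there are a small cofiltered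
category J and a diagram D : J ⥤ C all of whose transition morphisms are epimorphisms such that F is
isomorphic to the colimit of the corepresentable functors Hom(D j, -). -/
theorem result {C : Type u} [SmallCategory C]
    [HasFiniteLimits C] (hart : ∀ X : C, IsArtinianObject X) (F : C ⥤ Type u) [PreservesFiniteLimits F] :
    ∃ (J : Type u) (_ : SmallCategory J) (_ : IsCofiltered J) (D : J ⥤ C),
      (∀ ⦃j j' : J⦄ (a : j ⟶ j'), Epi (D.map a)) ∧ Nonempty (F ≅ colimit (D.op ⋙ coyoneda)) := by
  let J := ObjectProperty.FullSubcategory (fun p : F.Elements => IsMin p)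
  let D : J ⥤ C := ObjectProperty.ι _ ⋙ CategoryOfElements.π F
  have hthin : ∀ (j j' : J) (a b : j ⟶ j'), a = b := fun j j' a b => by
    ext
    exact hom_eq_of_isMin j.2 _ _ (a.hom.2.trans b.hom.2.symm)
  have hne : Nonempty J := by
    have ht : IsTerminal (F.obj (⊤_ C)) := IsTerminal.isTerminalObj F _ terminalIsTerminal
    obtain ⟨p, hp, -⟩ := exists_isMin hart
      (F.elementsMk (⊤_ C) (ht.from PUnit.{u + 1} PUnit.unit))
    exact ⟨⟨p, hp⟩⟩
  have hcof : IsCofiltered J :=
    { cone_objs := fun j j' => by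
        have hl := mapIsLimitOfPreservesOfIsLimit F _ _ (prodIsProd j.obj.1 j'.obj.1)
        obtain ⟨l, h1, h2⟩ := BinaryFan.IsLimit.lift' hl (↾fun _ : PUnit.{u + 1} => j.obj.2)
          (↾fun _ : PUnit.{u + 1} => j'.obj.2)
        obtain ⟨p, hp, ⟨g⟩⟩ := exists_isMin hart
          (F.elementsMk (j.obj.1 ⨯ j'.obj.1) (l PUnit.unit))
        refine ⟨⟨p, hp⟩, ObjectProperty.homMk (g ≫ ⟨Limits.prod.fst, ?_⟩),
          ObjectProperty.homMk (g ≫ ⟨Limits.prod.snd, ?_⟩), trivial⟩
        · exact ConcreteCategory.congr_hom h1 PUnit.unit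
        · exact ConcreteCategory.congr_hom h2 PUnit.unit
      cone_maps := fun j j' a b => ⟨j, 𝟙 j, by rw [hthin j j' a b]⟩ }
  let c : Cocone (D.op ⋙ coyoneda) :=
    { pt := F
      ι :=
        { app := fun j => coyonedaEquiv.symm j.unop.obj.2
          naturality := fun j j' a => by
            ext Z g
            change F.map (a.unop.hom.val ≫ g) j'.unop.obj.2 = F.map g j.unop.obj.2
            exact (ConcreteCategory.congr_hom (F.map_comp a.unop.hom.val g) _).trans
              (congrArg (F.map g) a.unop.hom.2) } }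
  have hc : IsColimit c := evaluationJointlyReflectsColimits _ fun Z => by
    refine Types.FilteredColimit.isColimitOf' _ _ (fun z => ?_) (fun j a b h => ?_)
    · obtain ⟨p, hp, ⟨g⟩⟩ := exists_isMin hart (F.elementsMk Z z)
      exact ⟨op ⟨p, hp⟩, g.val, g.2.symm⟩
    · exact ⟨j, 𝟙 j, by rw [hom_eq_of_isMin j.unop.2 a b h]⟩
  exact ⟨J, inferInstance, hcof, D, fun j j' a => epi_of_isMin j'.2 a.hom,
    ⟨hc.coconePointUniqueUpToIso (colimit.isColimit _)⟩⟩

end Groth.Agent.S5691
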