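import Groth.Statements.S5693
import Groth.Agent.S5325
import Groth.Agent.AlgSpB.Charts

set_option autoImplicit false
universe u
open CategoryTheory CategoryTheory.Limits MonoidalCategory CartesianMonoidalCategory MonObj GrpObj AlgebraicGeometry
open FGA

namespace Groth.Agent.S5693

/-- Let S be a locally Noetherian scheme, G a commutative group scheme locally of finite type over S and
n ≥ 1 an integer. The set of points x of G for which n is the least positive integer such that the
n-th power morphism sends x into the union of the connected components of the identity of the fibres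
is locally constructible in G (the order function on the torsion-component set is locally
constructible). -/
theorem result (S : Scheme.{u}) [IsLocallyNoetherian S] (G : Over S) [GrpObj G]
    [IsCommMonObj G] [LocallyOfFiniteType G.hom] (n : ℕ) (hn : 0 < n) :
    Topology.IsLocallyConstructible {x : ↥G.left | ((𝟙 G : G ⟶ G) ^ n).left.base x ∈ SGA3x.neutralSet G ∧
      ∀ d : ℕ, 0 < d → d < n → ((𝟙 G : G ⟶ G) ^ d).left.base x ∉ SGA3x.neutralSet G} := by
  haveI : LocallyOfFinitePresentation G.hom := inferInstance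
  haveI : IsLocallyNoetherian G.left := LocallyOfFiniteType.isLocallyNoetherian G.hom
  have hq : QuasiSeparated G.hom := inferInstance
  have h0 : Topology.IsLocallyConstructible (SGA3x.neutralSet G) :=
    (Groth.Agent.S5325.result S G).2.2 hq
  have h : ∀ d : ℕ, Topology.IsLocallyConstructible
      (((𝟙 G : G ⟶ G) ^ d).left.base ⁻¹' SGA3x.neutralSet G) := fun d =>
    Groth.Agent.AlgSpB.isLocallyConstructible_preimage ((𝟙 G : G ⟶ G) ^ d).left h0
  have he : {x : ↥G.left | ((𝟙 G : G ⟶ G) ^ n).left.base x ∈ SGA3x.neutralSet G ∧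
      ∀ d : ℕ, 0 < d → d < n → ((𝟙 G : G ⟶ G) ^ d).left.base x ∉ SGA3x.neutralSet G} =
      (((𝟙 G : G ⟶ G) ^ n).left.base ⁻¹' SGA3x.neutralSet G) ∩
        ⋂ d : {d : Fin n // 0 < (d : ℕ)}, (((𝟙 G : G ⟶ G) ^ (d.1 : ℕ)).left.base ⁻¹' SGA3x.neutralSet G)ᶜ := by
    ext x
    simp only [Set.mem_inter_iff, Set.mem_iInter, Set.mem_compl_iff, Set.mem_preimage,
      Set.mem_setOf_eq, Subtype.forall, Fin.forall_iff]
    exact ⟨fun ⟨a, b⟩ => ⟨a, fun d hdn hd => b d hd hdn⟩, fun ⟨a, b⟩ => ⟨a, fun d hd hdn => b d hdn hd⟩⟩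
  rw [he]
  exact (h n).inter (Topology.IsLocallyConstructible.iInter fun d x => by
    obtain ⟨U, hU, hUo, hUc⟩ := h d.1 x
    exact ⟨U, hU, hUo, hUc.compl⟩)

end Groth.Agent.S5693
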