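import Groth.Statements.S5694
import Groth.Agent.NeutralGen28.Bound

set_option autoImplicit false
universe u
open CategoryTheory CategoryTheory.Limits MonoidalCategory CartesianMonoidalCategory MonObj GrpObj AlgebraicGeometry
open FGA

namespace Groth.Agent.S5694

/-- Let S be a locally Noetherian scheme and G a commutative group scheme locally of finite type over S
such that the union of the connected components of the identity in the fibres of G is closed. Let
p(s) denote the characteristic exponent of the residue field of S at s. Then the set of points x of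
G such that some p(s)^h-th power morphism (h ≥ 0, s the image of x in S) sends x into that union, is
closed in G. -/
theorem result (S : Scheme.{u}) [IsLocallyNoetherian S] (G : Over S) [GrpObj G]
    [IsCommMonObj G] [LocallyOfFiniteType G.hom] (h0 : IsClosed (SGA3x.neutralSet G))
    (p : ↥S → ℕ) (hp : ∀ s : ↥S, ringExpChar (S.residueField s) = p s) :
    IsClosed {x : ↥G.left | ∃ h m : ℕ, m = p (G.hom.base x) ^ h ∧
      ((𝟙 G : G ⟶ G) ^ m).left.base x ∈ SGA3x.neutralSet G} := by
  classical
  let B : ℕ → Set S := fun m => if m = 1 then Set.univ else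
    {s | ∃ h : ℕ, m = p s ^ h}
  have hq : ∀ (s : S) (m h : ℕ), m ≠ 1 → m = p s ^ h →
      (p s).Prime ∧ (p s : S.residueField s) = 0 := by
    intro s m h hm1 hm
    have hne : p s ≠ 1 := fun e => hm1 (by rw [hm, e, one_pow])
    obtain ⟨q, hq⟩ := CharP.exists (S.residueField s)
    rcases CharP.char_is_prime_or_zero (S.residueField s) q with hpr | rfl
    · haveI := ExpChar.prime (R := S.residueField s) hpr
      have e : p s = q := (hp s).symm.trans (ringExpChar.eq (S.residueField s) q)
      rw [e]
      exact ⟨hpr, CharP.cast_eq_zero _ _⟩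
    · haveI := CharP.charP_to_charZero (S.residueField s)
      haveI : ExpChar (S.residueField s) 1 := ExpChar.zero
      exact absurd ((hp s).symm.trans (ringExpChar.eq (S.residueField s) 1)) hne
  have hB : ∀ m, IsClosed (B m) := by
    intro m
    by_cases hm1 : m = 1
    · simp only [B, if_pos hm1]; exact isClosed_univ
    simp only [B, if_neg hm1]
    rcases Set.eq_empty_or_nonempty {s : S | ∃ h : ℕ, m = p s ^ h} with he | ⟨s₀, h, hs₀⟩
    · rw [he]; exact isClosed_empty
    obtain ⟨hpr, -⟩ := hq s₀ m h hm1 hs₀
    convert Groth.Agent.NeutralGen28.isClosed_setOf_cast_eq_zero (S := S) (p s₀) using 1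
    ext s
    constructor
    · rintro ⟨k, hk⟩
      obtain ⟨hs, h0'⟩ := hq s m k hm1 hk
      have hk0 : k ≠ 0 := fun e => hm1 (by rw [hk, e, pow_zero])
      have hd : p s ∣ p s₀ ^ h := by rw [← hs₀, hk]; exact dvd_pow_self _ hk0
      have he : p s = p s₀ := (Nat.prime_dvd_prime_iff_eq hs hpr).mp (hs.dvd_of_dvd_pow hd)
      show (p s₀ : S.residueField s) = 0
      rw [← he]; exact h0'
    · intro hs0
      refine ⟨h, ?_⟩
      haveI : CharP (S.residueField s) (p s₀) := by
        haveI := Fact.mk hpr
        exact (CharP.charP_iff_prime_eq_zero hpr).mpr hs0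
      haveI : ExpChar (S.residueField s) (p s₀) := ExpChar.prime hpr
      rw [← hp s, ringExpChar.eq (S.residueField s) (p s₀), hs₀]
  convert Groth.Agent.NeutralGen28.isClosed_of_bound G h0 (fun m => G.hom.base ⁻¹' B m)
    (fun m => (hB m).preimage G.hom.continuous)
    (fun m n hn hmn => fun x hx => by
      by_cases hn1 : n = 1
      · subst hn1
        rw [Nat.dvd_one.mp hmn]
        exact hx
      simp only [B, Set.mem_preimage, if_neg hn1] at hx
      obtain ⟨h, hh⟩ := hx
      obtain ⟨hpr, -⟩ := hq _ n h hn1 hh
      obtain ⟨k, -, hk⟩ := (Nat.dvd_prime_pow hpr).mp (hh ▸ hmn)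
      show G.hom.base x ∈ B m
      by_cases hm1 : m = 1
      · simp only [B, if_pos hm1]; trivial
      · simp only [B, if_neg hm1]; exact ⟨k, hk⟩) using 1
  ext x
  simp only [Set.mem_setOf_eq, Groth.Agent.NeutralGen28.powMem, Set.mem_preimage]
  constructor
  · rintro ⟨h, m, hm, hx⟩
    haveI : ExpChar (S.residueField (G.hom.base x)) (p (G.hom.base x)) := by rw [← hp]; infer_instance
    refine ⟨m, ?_, ?_, hx⟩
    · rw [hm]; exact pow_pos (expChar_pos (S.residueField (G.hom.base x)) _) h
    · by_cases hm1 : m = 1
      · simp only [B, if_pos hm1]; trivial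
      · simp only [B, if_neg hm1]; exact ⟨h, hm⟩
  · rintro ⟨m, -, hm, hx⟩
    by_cases hm1 : m = 1
    · exact ⟨0, m, by rw [hm1, pow_zero], hx⟩
    · simp only [B, if_neg hm1] at hm
      obtain ⟨h, hh⟩ := hm
      exact ⟨h, m, hh, hx⟩

end Groth.Agent.S5694
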