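import Groth.Statements.S5695
import Groth.Agent.NeutralGen28.Bound

set_option autoImplicit false
universe u
open CategoryTheory CategoryTheory.Limits MonoidalCategory CartesianMonoidalCategory MonObj GrpObj AlgebraicGeometry
open FGA

namespace Groth.Agent.S5695

/-- Let S be a locally Noetherian scheme all of whose residue fields have the same characteristic p (so
the characteristic exponent is max(p, 1)), and G a commutative group scheme locally of finite type
over S such that the union of the connected components of the identity in the fibres of G is closed.
Then the set of points x of G such that for some integer n ≥ 1 prime to max(p, 1) the n-th power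
morphism sends x into that union, is closed in G. -/
theorem result (S : Scheme.{u}) [IsLocallyNoetherian S]
    (p : ℕ) (hS : ∀ s : ↥S, ringChar (S.residueField s) = p)
    (G : Over S) [GrpObj G] [IsCommMonObj G] [LocallyOfFiniteType G.hom] (h0 : IsClosed (SGA3x.neutralSet G)) :
    IsClosed {x : ↥G.left | ∃ n : ℕ, 0 < n ∧ Nat.Coprime n (max p 1) ∧
      ((𝟙 G : G ⟶ G) ^ n).left.base x ∈ SGA3x.neutralSet G} := by
  classical
  convert Groth.Agent.NeutralGen28.isClosed_of_bound G h0
    (fun n => if Nat.Coprime n (max p 1) then Set.univ else ∅)
    (fun n => by split_ifs; exacts [isClosed_univ, isClosed_empty])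
    (fun m n _ hmn => by
      split_ifs with h1 h2
      · exact subset_rfl
      · exact absurd (h1.coprime_dvd_left hmn) h2
      all_goals exact Set.empty_subset _) using 1
  ext x
  simp only [Set.mem_setOf_eq, Groth.Agent.NeutralGen28.powMem, Set.mem_preimage]
  constructor
  · rintro ⟨n, h1, h2, h3⟩
    exact ⟨n, h1, by rw [if_pos h2]; trivial, h3⟩
  · rintro ⟨n, h1, h2, h3⟩
    refine ⟨n, h1, ?_, h3⟩
    by_contra hc
    rw [if_neg hc] at h2
    exact h2

end Groth.Agent.S5695
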