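import Groth.Statements.S5696
import Groth.Agent.NeutralGen28.RhoOpen

set_option autoImplicit false
universe u
open CategoryTheory CategoryTheory.Limits MonoidalCategory CartesianMonoidalCategory MonObj GrpObj AlgebraicGeometry
open FGA

namespace Groth.Agent.S5696

/-- Let S be a locally Noetherian scheme all of whose residue fields have the same characteristic, with
characteristic exponent p, and G a commutative group scheme locally of finite type over S such that
for every integer n ≥ 1 prime to p the n-th power morphism of G is an open map. Then the set of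
points x of G some p^h-th power of which (h ≥ 0) lies in the union of the connected components of
the identity of the fibres is open in G. -/
theorem result (S : Scheme.{u}) [IsLocallyNoetherian S]
    (p : ℕ) (hS : ∀ s : ↥S, ringExpChar (S.residueField s) = p)
    (G : Over S) [GrpObj G] [IsCommMonObj G] [LocallyOfFiniteType G.hom]
    (hopen : ∀ n : ℕ, 0 < n → Nat.Coprime n p → IsOpenMap ((𝟙 G : G ⟶ G) ^ n).left.base) :
    IsOpen {x : ↥G.left | ∃ h : ℕ, ((𝟙 G : G ⟶ G) ^ (p ^ h)).left.base x ∈ SGA3x.neutralSet G} := by
  rcases isEmpty_or_nonempty S with hE | ⟨⟨s⟩⟩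
  · haveI : IsEmpty ↥G.left := ⟨fun x => hE.false (G.hom.base x)⟩
    rw [Set.eq_empty_of_isEmpty {x : ↥G.left | ∃ h : ℕ, ((𝟙 G : G ⟶ G) ^ (p ^ h)).left.base x ∈ SGA3x.neutralSet G}]
    exact isOpen_empty
  refine Groth.Agent.NeutralGen28.isOpen_rho G p ?_ hopen
  rw [← hS s]
  obtain ⟨q, hq⟩ := CharP.exists (S.residueField s)
  rcases CharP.char_is_prime_or_zero (S.residueField s) q with hpr | rfl
  · haveI := ExpChar.prime (R := S.residueField s) hpr
    exact Or.inr (by rw [ringExpChar.eq (S.residueField s) q]; exact hpr)
  · haveI := CharP.charP_to_charZero (S.residueField s)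
    haveI : ExpChar (S.residueField s) 1 := ExpChar.zero
    exact Or.inl (ringExpChar.eq (S.residueField s) 1)

end Groth.Agent.S5696
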