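import Groth.Statements.S5697
import Groth.Agent.S5322
import Groth.Agent.S5325
import Groth.Agent.S5330
import Groth.Agent.S5334
import Groth.Agent.ProConsX.Basic

set_option autoImplicit false
universe u
open CategoryTheory CategoryTheory.Limits MonoidalCategory CartesianMonoidalCategory MonObj GrpObj AlgebraicGeometry
open FGA

namespace Groth.Agent.S5697

/-- Let S be a locally Noetherian scheme and G a commutative group scheme locally of finite type over S.
Assume that the union of the connected components of the identity of the fibres of G is closed in G,
and that G ⟶ S is universally open at the points of that union: for every base change S' ⟶ S, the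
structure map of G' = G ×_S S' is open at every point of the identity-component set of G' (the image
of every open neighbourhood is a neighbourhood). Then the prime-to-p torsion component set (points x
some n-th power of which, n ≥ 1 prime to the residue characteristic exponent, lies in the
identity-component set) is universally open over S at the points of the identity-component set, in
the same sense: for every base change S' ⟶ S, every point x' of the identity-component set of G' and
every open neighbourhood U of x', the image in S' of the intersection of U with the prime-to-p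
torsion component set of G' is a neighbourhood of the image of x'. (The published statement
concludes this at every point of the prime-to-p torsion component set; it fails for the closed
subgroup scheme of the constant group ℤ/2 over a discrete valuation ring of residue characteristic
different from 2 that keeps the non-identity element only over the closed point: there the
identity-component set is a copy of the base, all hypotheses hold, and the isolated non-identity
point over the closed point is 2-torsion with image the closed point alone. The published proof
treats neighbourhoods of points of the identity-component set, so the conclusion is stated at those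
points here.) -/
theorem result (S : Scheme.{u}) [IsLocallyNoetherian S]
    (G : Over S) [GrpObj G] [IsCommMonObj G] [LocallyOfFiniteType G.hom] (h0 : IsClosed (SGA3x.neutralSet G))
    (hopen : ∀ (S' : Scheme.{u}) (g : S' ⟶ S) (x' : ↥(Red.bc g G).left), x' ∈ SGA3x.neutralSet (Red.bc g G) →
      ∀ U : Set ↥(Red.bc g G).left, IsOpen U → x' ∈ U →
        (Red.bc g G).hom.base '' U ∈ nhds ((Red.bc g G).hom.base x'))
    (S' : Scheme.{u}) (g : S' ⟶ S) (x' : ↥(Red.bc g G).left)
    (hx' : x' ∈ SGA3x.neutralSet (Red.bc g G))
    (U : Set ↥(Red.bc g G).left) (hU : IsOpen U) (hxU : x' ∈ U) :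
    (Red.bc g G).hom.base '' (U ∩ {x : ↥(Red.bc g G).left | ∃ n : ℕ, 0 < n ∧ Nat.Coprime n (ringExpChar (S'.residueField ((Red.bc g G).hom.base x))) ∧
        ((𝟙 (Red.bc g G) : (Red.bc g G) ⟶ (Red.bc g G)) ^ n).left.base x ∈ SGA3x.neutralSet (Red.bc g G)}) ∈
      nhds ((Red.bc g G).hom.base x') := by
  haveI : LocallyOfFinitePresentation G.hom := inferInstance
  have hdim : IsLocallyConstant (fun s : S => topologicalKrullDim ↥(G.hom.base ⁻¹' {s})) := by
    refine (IsLocallyConstant.iff_exists_open _).mpr fun s => ?_
    obtain ⟨W, hW, hd⟩ := (Groth.Agent.S5330.result S G s).2.mp fun x hx Y' h z hz => by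
      intro V hV
      obtain ⟨V₀, hV₀, hV₀o, hzV₀⟩ := mem_nhds_iff.mp hV
      have hzN : z ∈ SGA3x.neutralSet (Red.bc h G) := by
        rw [Groth.Agent.S5322.result S Y' h G]
        show (pullback.fst G.hom h).base z ∈ SGA3x.neutralSet G
        rw [hz]
        exact hx.1
      exact Filter.mem_of_superset (hopen Y' h z hzN V₀ hV₀o hzV₀) (Set.image_mono hV₀)
    obtain ⟨W₀, hW₀, hW₀o, hsW₀⟩ := mem_nhds_iff.mp hW
    exact ⟨W₀, hW₀o, hsW₀, fun t ht => hd t (hW₀ ht)⟩
  let G' := Red.bc g G
  haveI : LocallyOfFinitePresentation G'.hom :=
    MorphismProperty.pullback_snd _ _ ‹LocallyOfFinitePresentation G.hom›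
  have hA : G'.hom.base x' ∈ interior (G'.hom '' (U ∩ SGA3x.neutralSet G')) := by
    refine (Groth.Agent.ProConsX.Basic.mem_interior_iff
      (Groth.Agent.ProConsX.Basic.isIndConstructible_image G'.hom
        (Groth.Agent.S5334.isIndConstructible_inter
          (Groth.Agent.LimTop.isIndConstructible_of_isOpen hU) (Groth.Agent.S5325.result S' G').1)) _).mpr
      fun t ht => ?_
    rw [Groth.Agent.S5322.result S S' g G] at hx'
    obtain ⟨z, hz1, hz2, hzp⟩ :=
      Groth.Agent.S5334.exists_generization G hdim (Over.mk g) ht x' hx' rfl
    refine ⟨z, ⟨hzp.mem_open hU hxU, ?_⟩, hz2⟩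
    rw [Groth.Agent.S5322.result S S' g G]
    exact hz1
  refine Filter.mem_of_superset (mem_interior_iff_mem_nhds.mp hA) (Set.image_mono ?_)
  rintro y ⟨hyU, hyN⟩
  refine ⟨hyU, 1, Nat.one_pos, Nat.coprime_one_left _, ?_⟩
  rw [pow_one]
  exact hyN

end Groth.Agent.S5697
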