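import Groth.Statements.S5699
import Groth.Agent.BigVol.QuotBounded
import Groth.Agent.CMReg.PolyBoundField
-- import your own Groth.Agent.* helpers here

set_option autoImplicit false
set_option linter.style.haveILetI false
universe u
open CategoryTheory CategoryTheory.Limits AlgebraicGeometry
open FGA

namespace Groth.Agent.S5699
open Groth.Agent Groth.Agent.ProjTwist Groth.Agent.ProjTwist.Pn

theorem isCoh_biproduct' {k : Type u} [Field k] {n : ℕ} {J : Type} [Finite J]
    (F : J → (CohB1.ProjSpace n k).Modules) [HasBiproduct F] (hF : ∀ j, Coh.IsCoh (F j)) :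
    Coh.IsCoh (⨁ F) :=
  CohDev.isCoh_of_iso (biproduct.isoCoproduct F).symm (Pn.isCoh_sum F hF)

theorem exists_poly {k : Type u} [Field k] {n : ℕ} {F : (CohB1.ProjSpace n k).Modules}
    (hF : Coh.IsCoh F) : ∃ P : Polynomial ℚ, ∀ t : ℤ, (chi F t : ℚ) = P.eval (t : ℚ) := by
  obtain ⟨P, hP, hneg⟩ := exists_chi_poly hF
  refine ⟨P, fun t => ?_⟩
  rcases Int.eq_nat_or_neg t with ⟨s, rfl | rfl⟩
  · rw [chi_eq_hilb hP]
    norm_cast
  · rw [hneg]
    push_cast
    rfl

theorem main {k : Type u} [Field k] [Infinite k] {n : ℕ} {E : (CohB1.ProjSpace n k).Modules}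
    (hE : Coh.IsCoh E) (Φ : Set (ℤ → ℤ)) (hΦ : Φ.Finite) :
    Pic13.IsBounded k (CohB1.ProjSpace n k) (fun F =>
      Coh.IsCoh F ∧ (∃ p : E ⟶ F, Epi p) ∧
        (fun r : ℤ => FGA.eulerCharLE k (CohB1.ProjSpace n k)
          (CohB1.tensorMod F (Twist.twistProjSpace n k r)) n) ∈ Φ) := by
  classical
  haveI := hΦ.to_subtype
  have := Pn.isLocallyNoetherian_projSpace n k
  let m : ↥Φ → ℤ := fun φ =>
    if h : ∃ P : Polynomial ℚ, ∀ t : ℤ, ((φ : ℤ → ℤ) t : ℚ) = P.eval (t : ℚ) then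
      Classical.choose (BigVol.QuotBounded.exists_uniform_regular hE (Classical.choose h)) else 0
  let p : ↥Φ → ℕ := fun φ => ((φ : ℤ → ℤ) (m φ)).toNat
  let B : ↥Φ → (CohB1.ProjSpace n k).Modules := fun φ =>
    (Scheme.Modules.pullback (𝟙 (CohB1.ProjSpace n k))).obj
      (∐ fun _ : Fin (p φ) => Twist.twistProjSpace n k (-(m φ)))
  let A : ↥Φ → (CohB1.ProjSpace n k).Modules := fun φ =>
    (Scheme.Modules.pullback (𝟙 (CohB1.ProjSpace n k))).obj
      (∐ fun _ : Fin (h0Tw (∐ fun _ : Fin (p φ) => Twist.twistProjSpace n k (-(m φ))) (m φ + 1)) =>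
        Twist.twistProjSpace n k (-(m φ + 1)))
  have hA : ∀ φ, Coh.IsCoh (A φ) := fun φ => ZClosLib.CohDescent.isCoh_pullback _ _
    (Pn.isCoh_sum _ fun _ => Pn.isCoh_twistProjSpace n k _)
  have hB : ∀ φ, Coh.IsCoh (B φ) := fun φ => ZClosLib.CohDescent.isCoh_pullback _ _
    (Pn.isCoh_sum _ fun _ => Pn.isCoh_twistProjSpace n k _)
  haveI : HasFiniteBiproducts (CohB1.ProjSpace n k).Modules := Abelian.hasFiniteBiproducts
  haveI : IsProper (CohB1.ProjSpace n k ↘ Spec (CommRingCat.of k)) := ProjProper.Basic.isProper_toSpec n k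
  haveI := EulerChar.isNoetherian k (X := CohB1.ProjSpace n k)
  have hAB : Coh.IsCoh ((⨁ A) ⊞ (⨁ B)) :=
    CohDev.isCoh_biprod (isCoh_biproduct' A hA) (isCoh_biproduct' B hB)
  obtain ⟨T, q, hft, hqc, U, hU, hfib⟩ := EulerFam.isBounded_cokernel (k := k)
    (X := CohB1.ProjSpace n k) hAB (isCoh_biproduct' B hB)
  refine ⟨T, q, hft, hqc, U, hU, fun F hF => hfib F ?_⟩
  obtain ⟨hFc, ⟨π, hπ⟩, hmem⟩ := hF
  let φ : ↥Φ := ⟨_, hmem⟩
  have hφ : ∀ t : ℤ, (φ : ℤ → ℤ) t = chi F t := fun t => (CMReg.chi_eq_eulerCharLE k F hFc t).symm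
  obtain ⟨P, hP⟩ := exists_poly hFc
  have hex : ∃ P : Polynomial ℚ, ∀ t : ℤ, ((φ : ℤ → ℤ) t : ℚ) = P.eval (t : ℚ) :=
    ⟨P, fun t => by rw [hφ]; exact hP t⟩
  have hreg : Curv2.IsMRegular k n F (m φ) := by
    have h := Classical.choose_spec (BigVol.QuotBounded.exists_uniform_regular hE (Classical.choose hex))
      F π hFc hπ (fun t => by rw [← hφ]; exact Classical.choose_spec hex t)
    simp only [m, dif_pos hex]
    exact h
  haveI : Coh.IsQCoh F := hFc.1
  let e : (Coh.push (𝟙 (CohB1.ProjSpace n k))).obj F ≅ F := (Scheme.Modules.pushforwardId _).app F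
  have hreg' : Pic13.IsMRegular k (𝟙 (CohB1.ProjSpace n k)) F (m φ) := by
    intro i hi
    refine (CMReg.subsingleton_twistOn_iff _ F _ i).2 ?_
    refine @Pn.subsingleton_of_iso _ _ _ _ _ (twCongr e.symm _) i ?_
    rcases Nat.lt_or_ge n i with h | h
    · exact Pn.subsingleton_above _ (Pn.isQCoh_tw F hFc.1 _) i h
    · exact hreg i hi h
  have hchi : chi ((Coh.push (𝟙 (CohB1.ProjSpace n k))).obj F) (m φ) = chi F (m φ) :=
    EulerChar.euler_iso k (twCongr e _)
  have hp : (p φ : ℤ) = chi ((Coh.push (𝟙 (CohB1.ProjSpace n k))).obj F) (m φ) := by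
    rw [hchi]
    show ((((φ : ℤ → ℤ) (m φ)).toNat : ℕ) : ℤ) = _
    rw [hφ, ← EulerFam.h0Tw_eq_chi hFc hreg, Int.toNat_natCast]
  obtain ⟨ψ, ⟨eψ⟩⟩ := EulerFam.exists_iso_cokernel (𝟙 (CohB1.ProjSpace n k)) hFc hreg' hp
  obtain ⟨Ψ, ⟨eΨ⟩⟩ := BigVol.QuotBounded.exists_cokernel_pair A B φ ψ
  exact ⟨Ψ, ⟨eΨ ≪≫ eψ⟩⟩


/-- Let k be an algebraically closed field, P projective n-space over k, E a coherent module on P and Φ
a finite set of functions from ℤ to ℤ. Then the coherent quotient modules F of E whose Hilbert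
function r ↦ χ(P, F(r)) (alternating sum of the dimensions of the cohomology groups in degrees at
most n) lies in Φ form a bounded family: there are a k-scheme T of finite type and a coherent module
on P ×_k T such that every such F is isomorphic to its fibre at some k-point of T. Stated over an
algebraically closed field; the published statement is the relative version over a Noetherian base
for classes of sheaves on the fibres, which this special case does not cover. -/
theorem result (k : Type u) [Field k] [IsAlgClosed k] (n : ℕ)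
    (E : (CohB1.ProjSpace n k).Modules) (hE : Coh.IsCoh E) (Φ : Set (ℤ → ℤ)) (hΦ : Φ.Finite) :
    Pic13.IsBounded k (CohB1.ProjSpace n k) (fun F =>
      Coh.IsCoh F ∧ (∃ p : E ⟶ F, Epi p) ∧
        (fun r : ℤ => FGA.eulerCharLE k (CohB1.ProjSpace n k)
          (CohB1.tensorMod F (Twist.twistProjSpace n k r)) n) ∈ Φ) := by
  haveI : Infinite k := IsAlgClosed.instInfinite
  exact main hE Φ hΦ

end Groth.Agent.S5699
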