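import Groth.Statements.S5704
import Groth.Agent.CSA.AlgStructScheme
import Groth.Agent.CSA.Simple
import Groth.Agent.S3245

set_option autoImplicit false
set_option linter.style.haveILetI false
universe u v
open TensorProduct
open Dix

namespace Groth.Agent.S5704

open Groth.Agent.CSA

section Gen

variable {ι : Type} [Fintype ι] [DecidableEq ι] {B : Type u} [CommRing B] {D : Type v} [Ring D] [Algebra B D]

theorem key (b : ι → D) (c : ι → ι → ι → B) (hb : ∀ i j, ∑ k, c i j k • b k = b i * b j) (v w : ι → B) :
    ∑ k, AlgStruct.mul c v w k • b k = (∑ i, v i • b i) * ∑ j, w j • b j := by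
  simp only [AlgStruct.mul_apply, Finset.sum_smul, Finset.sum_mul, Finset.mul_sum, smul_mul_smul_comm, ← hb,
    Finset.smul_sum, smul_smul]
  rw [Finset.sum_comm]
  conv_rhs => rw [Finset.sum_comm]
  refine Finset.sum_congr rfl fun i _ => ?_
  rw [Finset.sum_comm]

/-- The algebra with given structure constants. -/
def Alg (c : ι → ι → ι → B) (u φ : ι → B) (_h : AlgStruct.IsStruct c u φ) : Type u := ι → B

variable {c : ι → ι → ι → B} {u φ : ι → B} (h : AlgStruct.IsStruct c u φ)

noncomputable instance : AddCommGroup (Alg c u φ h) := inferInstanceAs (AddCommGroup (ι → B))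

noncomputable instance : Ring (Alg c u φ h) :=
  { (inferInstance : AddCommGroup (Alg c u φ h)) with
    mul := fun a b => AlgStruct.mul c a b
    one := u
    mul_assoc := h.assoc
    one_mul := h.one_mul
    mul_one := h.mul_one
    left_distrib := fun a b d => map_add (AlgStruct.mul c a) b d
    right_distrib := fun a b d => LinearMap.map_add₂ (AlgStruct.mul c) a b d
    zero_mul := fun a => LinearMap.map_zero₂ (AlgStruct.mul c) a
    mul_zero := fun a => map_zero (AlgStruct.mul c a) }

noncomputable instance : Module B (Alg c u φ h) := inferInstanceAs (Module B (ι → B))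

noncomputable instance : Algebra B (Alg c u φ h) :=
  Algebra.ofModule (fun r x y => LinearMap.map_smul₂ (AlgStruct.mul c) r x y)
    (fun r x y => map_smul (AlgStruct.mul c x) r y)

instance : Module.Free B (Alg c u φ h) := inferInstanceAs (Module.Free B (ι → B))

instance : Module.Finite B (Alg c u φ h) := inferInstanceAs (Module.Finite B (ι → B))

theorem finrank_alg [StrongRankCondition B] : Module.finrank B (Alg c u φ h) = Fintype.card ι :=
  Module.finrank_fintype_fun_eq_card B

/-- A homomorphism out of the algebra with given structure constants. -/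
noncomputable def desc (b : ι → D) (hb : ∀ i j, ∑ k, c i j k • b k = b i * b j) (hu : ∑ i, u i • b i = 1) :
    Alg c u φ h →ₐ[B] D :=
  AlgHom.ofLinearMap (Fintype.linearCombination B b : (ι → B) →ₗ[B] D)
    (show ∑ i, u i • b i = 1 from hu) (fun v w => key b c hb v w)

theorem desc_apply (b : ι → D) (hb : ∀ i j, ∑ k, c i j k • b k = b i * b j) (hu : ∑ i, u i • b i = 1)
    (v : ι → B) : desc h b hb hu v = ∑ i, v i • b i := rfl

end Gen

section Field

variable {ι : Type} [Fintype ι] [DecidableEq ι] {K : Type u} [Field K] {D : Type v} [Ring D] [Algebra K D]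
  [Algebra.IsCentral K D] [IsSimpleRing D] [FiniteDimensional K D]

theorem exists_struct (b : Module.Basis ι K D) :
    ∃ (c : ι → ι → ι → K) (u φ : ι → K), AlgStruct.IsStruct c u φ ∧
      (∀ i j, ∑ k, c i j k • b k = b i * b j) ∧ ∑ i, u i • b i = 1 := by
  classical
  let c : ι → ι → ι → K := fun i j k => b.repr (b i * b j) k
  let u : ι → K := fun i => b.repr 1 i
  have hb : ∀ i j, ∑ k, c i j k • b k = b i * b j := fun i j => b.sum_repr _
  have hu : ∑ i, u i • b i = 1 := b.sum_repr _
  have hmul := key (⇑b) c hb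
  have hinj : ∀ v w : ι → K, ∑ i, v i • b i = ∑ i, w i • b i → v = w := fun v w hvw => by
    rw [← b.equivFun_symm_apply, ← b.equivFun_symm_apply] at hvw
    exact b.equivFun.symm.injective hvw
  have hsingle : ∀ i, ∑ j, (Pi.single i 1 : ι → K) j • b j = b i := fun i => by
    simp [Pi.single_apply]
  obtain ⟨i₀, hi₀⟩ : ∃ i, u i ≠ 0 := by
    by_contra hc
    simp only [not_exists, not_not] at hc
    exact one_ne_zero (α := D) (by rw [← hu]; simp [hc])
  refine ⟨c, u, Pi.single i₀ (u i₀)⁻¹, ⟨fun a p q => hinj _ _ ?_, fun a => hinj _ _ ?_, fun a => hinj _ _ ?_, ?_, ?_⟩,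
    hb, hu⟩
  · rw [hmul, hmul, hmul, hmul, mul_assoc]
  · rw [hmul, hu, one_mul]
  · rw [hmul, hu, mul_one]
  · simp [Pi.single_apply, hi₀]
  · refine (Matrix.isUnit_iff_isUnit_det _).1 (Matrix.mulVec_injective_iff_isUnit.1 fun s t hst => ?_)
    rw [← sub_eq_zero] at hst ⊢
    rw [← Matrix.mulVec_sub] at hst
    generalize s - t = r at hst ⊢
    let x : D ⊗[K] Dᵐᵒᵖ := ∑ kl : ι × ι, r kl • (b kl.1 ⊗ₜ[K] MulOpposite.op (b kl.2))
    have hx : x = 0 := by
      refine (mulLeftRight_bijective (k := K) (A := D)).1 ?_
      rw [map_zero]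
      refine b.ext fun z => ?_
      simp only [x, map_sum, map_smul, LinearMap.sum_apply, LinearMap.smul_apply, AlgHom.mulLeftRight_apply,
        MulOpposite.unop_op, LinearMap.zero_apply]
      have h0 : ∑ p, (AlgStruct.sandwich c).mulVec r (p, z) • b p = 0 := by simp [hst]
      rw [← h0]
      simp only [Matrix.mulVec, dotProduct, AlgStruct.sandwich, Matrix.of_apply, Finset.sum_smul]
      rw [Finset.sum_comm (γ := ι)]
      refine Finset.sum_congr rfl fun kl _ => ?_
      simp only [mul_comm _ (r kl), mul_smul, ← Finset.smul_sum]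
      rw [hmul, hmul, hsingle, hsingle, hsingle]
    have hrepr : x = (b.tensorProduct (b.map (MulOpposite.opLinearEquiv K))).equivFun.symm r := by
      simp [x, Module.Basis.equivFun_symm_apply, Module.Basis.tensorProduct_apply']
    rw [hrepr, LinearEquiv.map_eq_zero_iff] at hx
    exact hx

end Field

/-- Let R be a henselian local ring with residue field k and let A₀ be a finite-dimensional central
simple k-algebra. Then there exists an Azumaya algebra A over R whose special fibre k ⊗_R A is
isomorphic to A₀ as a k-algebra. -/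
theorem result (R : Type u) [CommRing R] [HenselianLocalRing R] (A₀ : Type u) [Ring A₀] [Algebra (IsLocalRing.ResidueField R) A₀] [Algebra.IsCentral (IsLocalRing.ResidueField R) A₀] [IsSimpleRing A₀] [FiniteDimensional (IsLocalRing.ResidueField R) A₀] : ∃ (A : Type u) (_ : Ring A) (_ : Algebra R A), IsAzumaya R A ∧ Nonempty ((IsLocalRing.ResidueField R ⊗[R] A) ≃ₐ[IsLocalRing.ResidueField R] A₀) := by
  classical
  let k := IsLocalRing.ResidueField R
  let b := Module.finBasis k A₀
  obtain ⟨c₀, u₀, φ₀, h₀, hb, hu⟩ := exists_struct b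
  obtain ⟨c, u, φ, h, hc, hu'⟩ := AlgStruct.exists_lift_henselian c₀ u₀ φ₀ h₀
  letI : Algebra R A₀ := Algebra.compHom A₀ (IsLocalRing.residue R)
  haveI : IsScalarTower R k A₀ := IsScalarTower.of_algebraMap_eq' rfl
  have hsm : ∀ (r : R) (x : A₀), r • x = IsLocalRing.residue R r • x := fun r x =>
    (IsScalarTower.algebraMap_smul k r x).symm
  have hbR : ∀ i j, ∑ m, c i j m • b m = b i * b j := fun i j => by
    rw [← hb]
    exact Finset.sum_congr rfl fun m _ => by rw [hsm, hc]
  have huR : ∑ i, u i • b i = 1 := by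
    rw [← hu]
    exact Finset.sum_congr rfl fun m _ => by rw [hsm, ← hu']; rfl
  let f : Alg c u φ h →ₐ[R] A₀ := desc h (⇑b) hbR huR
  let g : k ⊗[R] Alg c u φ h →ₐ[k] A₀ :=
    Algebra.TensorProduct.lift (Algebra.ofId k A₀) f fun x a => Algebra.commutes x (f a)
  haveI : Nontrivial (Alg c u φ h) := by
    refine nontrivial_of_ne 1 0 fun he => ?_
    have := congrArg f he
    rw [map_one, map_zero] at this
    exact one_ne_zero this
  have hsurj : Function.Surjective g := by
    intro y
    have hmem : y ∈ LinearMap.range g.toLinearMap := by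
      have hle : Submodule.span k (Set.range b) ≤ LinearMap.range g.toLinearMap := by
        refine Submodule.span_le.2 ?_
        rintro _ ⟨i, rfl⟩
        refine ⟨1 ⊗ₜ[R] (Pi.single i 1 : Fin (Module.finrank k A₀) → R), ?_⟩
        show Algebra.ofId k A₀ 1 * f (Pi.single i 1 : Fin (Module.finrank k A₀) → R) = b i
        rw [map_one, one_mul]
        refine (desc_apply h (⇑b) hbR huR _).trans ?_
        simp [Pi.single_apply]
      exact hle (b.span_eq ▸ Submodule.mem_top)
    exact hmem
  have hrank : Module.finrank k (k ⊗[R] Alg c u φ h) = Module.finrank k A₀ := by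
    rw [Module.finrank_baseChange, finrank_alg, Fintype.card_fin]
  have hinj : Function.Injective g :=
    (LinearMap.injective_iff_surjective_of_finrank_eq_finrank (f := g.toLinearMap) hrank).2 hsurj
  let e := AlgEquiv.ofBijective g ⟨hinj, hsurj⟩
  refine ⟨Alg c u φ h, inferInstance, inferInstance,
    (S3245.result R (Alg c u φ h)).2 ⟨Algebra.IsCentral.of_algEquiv k _ _ e.symm,
      IsSimpleRing.of_ringEquiv e.symm.toRingEquiv inferInstance⟩, ⟨e⟩⟩

end Groth.Agent.S5704
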