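import Groth.Statements.S5706
import Groth.Agent.GalCohAux.EtDivH1
import Groth.Agent.GalCohAux.EtGmPushComp
import Groth.Agent.GalCohAux.EtCompo
-- import your own Groth.Agent.* helpers here

set_option autoImplicit false
set_option backward.isDefEq.respectTransparency false
universe u
open CategoryTheory AlgebraicGeometry
open Dix

namespace Groth.Agent.S5706

open CategoryTheory.Limits GalCohAux GalCohAux.EtDivSheaf

attribute [-instance] GalCohAux.EtFin.instUniqueCarrierCarrierCommRingCatSpecOf_groth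

/-- On an open, closed and integral piece, classes dying at the generic point die. -/
theorem comp_GmPush_eq_zero (X : Scheme.{u}) [IsNoetherian X] (C : X.Opens) [IsClosedImmersion C.ι]
    [IsIntegral (C : Scheme.{u})] [IsNoetherian (C : Scheme.{u})]
    (hf : ∀ (U : (C : Scheme.{u}).Etale) (v : U.left),
      IsDomain (U.left.presheaf.stalk v) ∧ UniqueFactorizationMonoid (U.left.presheaf.stalk v))
    [∀ x : X, PreservesFiniteLimits (EtCoh.pull (X.fromSpecStalk x))]
    (c : EtCoh.H X (EtCoh.Gm X) 2)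
    (hc : ∀ x : X, (∀ y : X, y ⤳ x → y = x) → EtLim.HGmPull (X.fromSpecStalk x) 2 c = 0) :
    c.comp (Abelian.Ext.mk₀ (EtLim.GmPush C.ι)) (add_zero 2) = 0 := by
  let η := genericPoint (C : Scheme.{u})
  let x : X := C.ι η
  have hx : ∀ y : X, y ⤳ x → y = x := fun y hy => by
    have hyC : y ∈ C := hy.mem_open C.2 η.2
    have h1 : (⟨y, hyC⟩ : (C : Scheme.{u})) ⤳ η := Topology.IsInducing.subtypeVal.specializes_iff.1 hy
    exact congrArg (fun z : (C : Scheme.{u}) => C.ι z) (h1.antisymm (genericPoint_specializes (α := ↥(C : Scheme.{u})) _)).eq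
  have h0 : c.comp (Abelian.Ext.mk₀ (EtLim.GmPush (X.fromSpecStalk x))) (add_zero 2) = 0 := by
    refine EtGmMax.injective_HofPush_two hx ?_
    rw [map_zero]
    exact (congrArg _ (Sheaf.H.map_apply _ _)).symm.trans (hc x hx)
  -- through the generic point of the piece
  let s := Spec.map (C.ι.stalkMap η)
  have h1 : c.comp (Abelian.Ext.mk₀ (EtLim.GmPush (s ≫ X.fromSpecStalk x))) (add_zero 2) = 0 := by
    rw [← EtGmPushComp.GmPush_comp, ← Abelian.Ext.mk₀_comp_mk₀, ← Abelian.Ext.comp_assoc_of_second_deg_zero, h0,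
      Abelian.Ext.zero_comp]
  have h2 : c.comp (Abelian.Ext.mk₀ (EtLim.GmPush (jη (C : Scheme.{u}) ≫ C.ι))) (add_zero 2) = 0 :=
    EtGmPushComp.comp_GmPush_congr (Scheme.SpecMap_stalkMap_fromSpecStalk C.ι) c h1
  rw [← EtGmPushComp.GmPush_comp, ← Abelian.Ext.mk₀_comp_mk₀, ← Abelian.Ext.comp_assoc_of_second_deg_zero] at h2
  set cC := c.comp (Abelian.Ext.mk₀ (EtLim.GmPush C.ι)) (add_zero 2)
  have h3 : cC.comp (Abelian.Ext.mk₀ ((EtCoh.push C.ι).map (EtLim.GmPush (jη (C : Scheme.{u}))))) (add_zero 2) = 0 := by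
    let e := (EtCoh.pushComp C.ι (jη (C : Scheme.{u}))).app (EtCoh.Gm _)
    have h4 := congrArg (fun z => z.comp (Abelian.Ext.mk₀ e.inv) (add_zero 2)) h2
    simp only [Abelian.Ext.zero_comp, Abelian.Ext.comp_assoc_of_second_deg_zero, Abelian.Ext.mk₀_comp_mk₀,
      Category.assoc] at h4
    simpa [e] using h4
  haveI := EtDivTor.mono_GmPush hf
  let S : ShortComplex (EtCoh.Ab (C : Scheme.{u})) :=
    ShortComplex.mk (EtLim.GmPush (jη (C : Scheme.{u}))) (qD (C : Scheme.{u})) (cokernel.condition _)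
  have hS : S.ShortExact := { exact := ShortComplex.exact_cokernel _ }
  haveI : PreservesFiniteColimits (EtCoh.push C.ι) := EtaleSite.preservesFiniteColimits_push C.ι
  haveI : PreservesLimitsOfSize.{0, 0} (EtCoh.push C.ι) := (EtCoh.pullPushAdj C.ι).rightAdjoint_preservesLimits
  haveI : PreservesFiniteLimits (EtCoh.push C.ι) := PreservesLimitsOfSize.preservesFiniteLimits _
  haveI : (EtCoh.push C.ι).Additive := (EtCoh.pullPushAdj C.ι).right_adjoint_additive
  have hT := hS.map_of_exact (EtCoh.push C.ι)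
  obtain ⟨z, hz⟩ := Abelian.Ext.covariant_sequence_exact₁ _ hT cC h3 (rfl : 1 + 1 = 2)
  have hD : Subsingleton (EtCoh.H X ((EtCoh.push C.ι).obj (D (C : Scheme.{u}))) 1) :=
    (Equiv.ofBijective _ (S14451.result C.ι (D (C : Scheme.{u})) (fun r hr => S3054.result C.ι _ r hr) 1)).subsingleton_congr.2
      (EtDivH1.subsingleton_H_one_D hf)
  rw [← hz, @Subsingleton.elim _ hD z 0, Abelian.Ext.zero_comp]

/-- Let X be a noetherian scheme such that for every scheme U étale over X all local rings of U are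
factorial domains. Then the restriction map from H²(X_et, G_m) to the product of the groups H²(Spec
O_{X,x}, G_m), x running over the maximal points of X (generic points of the irreducible
components), is injective. The restriction maps are the pullbacks EtLim.HGmPull along Spec O_{X,x} →
X, whose exactness hypothesis is carried as an instance binder. -/
theorem result (X : Scheme.{u}) [IsNoetherian X] (hfact : ∀ (U : X.Etale) (v : U.left), IsDomain (U.left.presheaf.stalk v) ∧ UniqueFactorizationMonoid (U.left.presheaf.stalk v)) [∀ x : X, Limits.PreservesFiniteLimits (EtCoh.pull (X.fromSpecStalk x))] (ξ : EtCoh.H X (EtCoh.Gm X) 2) (hξ : ∀ x : X, (∀ y : X, y ⤳ x → y = x) → EtLim.HGmPull (X.fromSpecStalk x) 2 ξ = 0) : ξ = 0 := by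
  classical
  have hN : ∀ x : X, IsDomain (X.presheaf.stalk x) ∧ IsIntegrallyClosed (X.presheaf.stalk x) := fun x => by
    haveI : IsDomain (X.presheaf.stalk x) := (hfact (EtCoh.top X) x).1
    haveI : UniqueFactorizationMonoid (X.presheaf.stalk x) := (hfact (EtCoh.top X) x).2
    exact ⟨inferInstance, inferInstance⟩
  obtain ⟨ι, _, C, hC, hCi, ⟨e, he⟩⟩ := EtCompo.exists_decomposition X hN (EtCoh.Gm X)
  have h0 : ξ.comp (Abelian.Ext.mk₀ e.hom) (add_zero 2) = 0 := by
    refine EtGmMax.comp_eq_zero_of_proj _ _ fun i => ?_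
    haveI := (hCi i).1
    haveI := (hCi i).2
    haveI := hC i
    have hf : ∀ (U : (C i : Scheme.{u}).Etale) (v : U.left),
        IsDomain (U.left.presheaf.stalk v) ∧ UniqueFactorizationMonoid (U.left.presheaf.stalk v) := fun U v => by
      haveI : Etale U.hom := U.prop
      haveI : Etale ((U.hom : U.left ⟶ (C i : Scheme.{u})) ≫ (C i).ι) := inferInstance
      exact hfact (Scheme.Etale.mk ((U.hom : U.left ⟶ (C i : Scheme.{u})) ≫ (C i).ι)) v
    have hz := comp_GmPush_eq_zero X (C i) hf ξ hξ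
    let θ := ((EtCoh.pullPushAdj (C i).ι).homEquiv (EtCoh.Gm X) (EtCoh.Gm (C i : Scheme.{u}))).symm
      (EtLim.GmPush (C i).ι)
    haveI : IsIso ((EtCoh.push (C i).ι).map θ) := EtGmPushComp.isIso_push_transpose (C i)
    have hθ : (EtCoh.pullPushAdj (C i).ι).unit.app (EtCoh.Gm X) =
        EtLim.GmPush (C i).ι ≫ inv ((EtCoh.push (C i).ι).map θ) := by
      rw [IsIso.eq_comp_inv]
      exact ((EtCoh.pullPushAdj (C i).ι).homEquiv_unit _ _ _).symm.trans (Equiv.apply_symm_apply _ _)
    rw [Abelian.Ext.comp_assoc_of_second_deg_zero, Abelian.Ext.mk₀_comp_mk₀, he i, hθ, ← Abelian.Ext.mk₀_comp_mk₀,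
      ← Abelian.Ext.comp_assoc_of_second_deg_zero, hz, Abelian.Ext.zero_comp]
  rw [← Abelian.Ext.comp_mk₀_id ξ, ← e.hom_inv_id, ← Abelian.Ext.mk₀_comp_mk₀,
    ← Abelian.Ext.comp_assoc_of_second_deg_zero, h0, Abelian.Ext.zero_comp]

end Groth.Agent.S5706
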