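import Groth.Statements.S5707
import Groth.Agent.GalCohAux.EtGmMax

set_option autoImplicit false
set_option backward.isDefEq.respectTransparency false
universe u
open CategoryTheory AlgebraicGeometry
open Dix

namespace Groth.Agent.S5707

/-- Let X be a noetherian scheme of dimension at most 1 without embedded associated points, that is,
such that for every point x of X which is not a maximal point the maximal ideal of the local ring
O_{X,x} contains a non-zero-divisor (this holds for instance when X is reduced), and assume that
every closed point of X has separably closed residue field. Then the restriction map from H²(X_et,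
G_m) to the product of the groups H²(Spec O_{X,x}, G_m) over the maximal points x of X is injective:
a class whose restriction to Spec O_{X,x} vanishes for every maximal point x is zero. -/
theorem result (X : Scheme.{u}) [IsNoetherian X] (hdim : topologicalKrullDim X ≤ 1) (hemb : ∀ x : X, (∃ y : X, y ≠ x ∧ y ⤳ x) → ∃ t ∈ IsLocalRing.maximalIdeal (X.presheaf.stalk x), t ∈ nonZeroDivisors (X.presheaf.stalk x)) (hsep : ∀ x : X, IsClosed ({x} : Set X) → IsSepClosed (X.residueField x)) [∀ x : X, Limits.PreservesFiniteLimits (EtCoh.pull (X.fromSpecStalk x))] (ξ : EtCoh.H X (EtCoh.Gm X) 2) (hξ : ∀ x : X, (∀ y : X, y ⤳ x → y = x) → EtLim.HGmPull (X.fromSpecStalk x) 2 ξ = 0) : ξ = 0 := by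
  exact GalCohAux.EtGmMax.eq_zero_of_maxPts hdim hsep ξ fun x hx => hξ x hx

end Groth.Agent.S5707
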