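import Groth.Statements.S5708
import Groth.Agent.GalCohAux.EtGmMax
import Groth.Agent.GalCohAux.EtGmCurve
import Groth.Agent.S0749

set_option autoImplicit false
set_option backward.isDefEq.respectTransparency false
universe u
open CategoryTheory AlgebraicGeometry
open Dix

namespace Groth.Agent.S5708

open CategoryTheory.Limits GalCohAux

attribute [-instance] EtFin.instUniqueCarrierCarrierCommRingCatSpecOf_groth
attribute [local instance] Curv2.resAlgebra

theorem subsingleton_H_two_field (k : Type u) [Field k] [IsAlgClosed k] (K : Type u) [Field K] [Algebra k K]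
    (h : Algebra.trdeg k K ≤ 1) :
    Subsingleton (EtCoh.H (Spec (CommRingCat.of K)) (EtCoh.Gm (Spec (CommRingCat.of K))) 2) := by
  rcases h.lt_or_eq with h0 | h1
  · haveI : Algebra.IsAlgebraic k K := trdeg_eq_zero_iff.1 (Cardinal.lt_one_iff.1 h0)
    haveI : IsAlgClosed K := IsAlgClosed.of_ringEquiv k K
      (RingEquiv.ofBijective (algebraMap k K) IsAlgClosed.algebraMap_bijective_of_isIntegral)
    exact EtSuppClosed.subsingleton_sepClosed K _ 2 two_pos
  · exact S0229.result k K h1 2 one_le_two

/-- The local ring at a maximal point of a reduced curve has trivial `H²(G_m)`. -/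
theorem subsingleton_H_two_stalk (k : Type u) [Field k] [IsAlgClosed k] (X : Scheme.{u})
    (f : X ⟶ Spec (CommRingCat.of k)) [LocallyOfFiniteType f] [QuasiCompact f] [IsReduced X]
    (hdim : topologicalKrullDim X ≤ 1) (x : X) (hx : ∀ y : X, y ⤳ x → y = x) :
    Subsingleton (EtCoh.H (Spec (X.presheaf.stalk x)) (EtCoh.Gm (Spec (X.presheaf.stalk x))) 2) := by
  letI : X.Over (Spec (CommRingCat.of k)) := ⟨f⟩
  haveI : LocallyOfFiniteType (X ↘ Spec (CommRingCat.of k)) := ‹LocallyOfFiniteType f›
  have ht : Algebra.trdeg k (X.residueField x) ≤ 1 := by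
    rw [VarDim.trdeg_residueField k X]
    have h := hdim
    rw [VarDim.topologicalKrullDim_eq_iSup k] at h
    have h2 : (VarDim.dimPt k X x : WithBot ℕ∞) ≤ 1 :=
      (le_iSup (fun y : X => (VarDim.dimPt k X y : WithBot ℕ∞)) x).trans h
    exact_mod_cast (by exact_mod_cast h2 : VarDim.dimPt k X x ≤ 1)
  haveI := EtGmMax.subsingleton_spec_stalk hx
  haveI : Subsingleton (PrimeSpectrum (X.presheaf.stalk x)) := EtGmMax.subsingleton_spec_stalk hx
  have hF : IsField (X.presheaf.stalk x) :=
    PrimeSpectrum.subsingleton_iff_isField_of_isReduced.1 inferInstance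
  haveI : IsIso (X.residue x) := (ConcreteCategory.isIso_iff_bijective _).2
    ⟨(injective_iff_map_eq_zero _).2 fun a ha => by
      by_contra h0
      obtain ⟨b, hb⟩ := hF.mul_inv_cancel h0
      exact one_ne_zero (α := X.residueField x) (by rw [← map_one (X.residue x).hom, ← hb, map_mul, ha, zero_mul]),
      X.residue_surjective x⟩
  let e : Spec (X.residueField x) ⟶ Spec (X.presheaf.stalk x) := Spec.map (X.residue x)
  haveI : IsIso e := inferInstance
  haveI : Etale e := inferInstance
  haveI := EtRpushVan.subsingleton_of_iso (EtGm.pullGmIso e).symm 2 (subsingleton_H_two_field k (X.residueField x) ht)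
  exact (EtaleSite.HpullComp.Hpull_bijective_of_isIso e 2 _).1.subsingleton

/-- Let k be an algebraically closed field and X a reduced scheme of finite type over k of dimension at
most 1 (an algebraic curve). Then H²(X_et, G_m) = 0. (The published statement is the vanishing of
the Brauer group of Azumaya algebras, which embeds in H²(X_et, G_m); this row states the vanishing
of H²(X_et, G_m) and assumes X reduced.) -/
theorem result (k : Type u) [Field k] [IsAlgClosed k] (X : Scheme.{u}) (f : X ⟶ Spec (CommRingCat.of k)) [LocallyOfFiniteType f] [QuasiCompact f] [IsReduced X] (hdim : topologicalKrullDim X ≤ 1) : Subsingleton (Dix.BrCoh X) := by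
  haveI : IsLocallyNoetherian X := LocallyOfFiniteType.isLocallyNoetherian f
  haveI : CompactSpace X := QuasiCompact.compactSpace_of_compactSpace f
  haveI : IsNoetherian X := {}
  haveI : ∀ x : X, Limits.PreservesFiniteLimits (EtCoh.pull (X.fromSpecStalk x)) := fun x => inferInstance
  refine subsingleton_of_forall_eq 0 fun c => GalCohAux.EtGmMax.eq_zero_of_maxPts hdim
    (fun x hx => S0749.isSepClosed_residueField f x hx) c fun x hx => ?_
  exact @Subsingleton.elim _ (subsingleton_H_two_stalk k X f hdim x hx) _ _

end Groth.Agent.S5708
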