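import Groth.Statements.S5718
import Mathlib
import Groth.Agent.GmFppf.Acyc
import Groth.Agent.GmFppf.HFLeray
import Groth.Agent.EtaleSite.SH
-- import your own Groth.Agent.* helpers here

set_option autoImplicit false
universe u
open CategoryTheory AlgebraicGeometry
open Dix

namespace Groth.Agent.S5718

/-- The case of the multiplicative group. Let R be a strictly henselian local ring (henselian, with
separably closed residue field) and X = Spec R. Then H^i(X_fppf, G_m) = 0 for every i ≥ 1, the
cohomology being that of G_m on the big fppf site of X. -/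
theorem result (R : Type u) [CommRing R] (hR : EtCoh.IsStrictlyHenselianLocalRing R) [EtFppf.ACont (Spec (CommRingCat.of R))] (i : ℕ) (hi : 1 ≤ i) : Subsingleton (EtFppf.HF (Spec (CommRingCat.of R)) (EtDl.GmF (Spec (CommRingCat.of R))) i) := by
  obtain ⟨e⟩ := Groth.Agent.GmFppf.nonempty_HF_iso (Spec (CommRingCat.of R)) _
    Groth.Agent.GmFppf.acyc_GmF i
  obtain ⟨h1, h2⟩ := hR
  haveI := h1
  haveI := h2
  haveI := Groth.Agent.EtaleSite.subsingleton_H R
    ((Groth.Agent.EtFppfCmp.resAt (Over.mk (𝟙 (Spec (CommRingCat.of R))))).obj (EtDl.GmF _)) i hi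
  exact e.addCommGroupIsoToAddEquiv.toEquiv.subsingleton

end Groth.Agent.S5718
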