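import Groth.Statements.S5719
import Groth.Agent.Azu.Basic


set_option autoImplicit false
universe u v
open TensorProduct
open Dix

namespace Groth.Agent.S5719

/-- (i) ⇔ (ii), over an affine base. Let R be a commutative ring and A an R-algebra whose underlying
module is finite and projective (locally free of finite type). Then A ⊗_R A° → End_R(A) is bijective
with A faithful, i.e. A is an Azumaya algebra over R, if and only if every fibre κ(p) ⊗_R A, p a
prime ideal of R, is a central simple algebra over the residue field κ(p). -/
theorem result (R : Type u) [CommRing R] (A : Type u) [Ring A] [Algebra R A] [Module.Finite R A] [Module.Projective R A] : IsAzumaya R A ↔ ∀ (p : Ideal R) [p.IsPrime], Algebra.IsCentral p.ResidueField (p.ResidueField ⊗[R] A) ∧ IsSimpleRing (p.ResidueField ⊗[R] A) := by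
  constructor
  · intro h p hp
    haveI := Groth.Agent.Azu.baseChange (R := R) (A := A) p.ResidueField
    obtain ⟨h1, h2, -⟩ := Groth.Agent.Azu.isCSA (k := p.ResidueField) (D := p.ResidueField ⊗[R] A)
    exact ⟨h1, h2⟩
  · intro h
    refine Groth.Agent.Azu.of_fibres fun p hp => ?_
    letI := Ideal.Quotient.field p
    obtain ⟨h1, h2⟩ := h p
    obtain ⟨e⟩ := Groth.Agent.Azu.nonempty_cancelBaseChange (R := R) (A := A) (R ⧸ p) p.ResidueField
    haveI : IsAzumaya p.ResidueField (p.ResidueField ⊗[R ⧸ p] ((R ⧸ p) ⊗[R] A)) :=
      by
        haveI := Groth.Agent.Azu.of_isCSA (k := p.ResidueField) ⟨h1, h2, inferInstance⟩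
        exact IsAzumaya.of_AlgEquiv (R := p.ResidueField) _ _ e.symm
    exact Groth.Agent.Azu.of_baseChange p.ResidueField

end Groth.Agent.S5719
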