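import Groth.Statements.S5734
import Groth.Agent.ProjBundleLib.EmbSym
import Groth.Agent.HilbStrat.Union
import Groth.Agent.QCoh.Exact
import Groth.Agent.RelTildeLib.Basic

set_option autoImplicit false
universe u
open CategoryTheory CategoryTheory.Limits AlgebraicGeometry TopologicalSpace Opposite
open scoped HomogeneousIdeal
open EGA2

namespace Groth.Agent.S5734

open RelProj

/-- A morphism of relative Proj's induced by an algebra homomorphism is over the base. -/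
lemma comp_eq {Y PT PS : Scheme.{u}} {𝒯 𝒮 : QCGrAlg Y} {φ : 𝒯.toQCAlg ⟶ 𝒮.toQCAlg} {hφ : IsGradedHom φ}
    {hirr : ∀ (U : Y.Opens) (hU : IsAffineOpen U), (𝒮.deg U hU)₊ ≤ ((𝒯.deg U hU)₊).map (gradedHomAt φ hφ U hU)}
    {pT : PT ⟶ Y} {pS : PS ⟶ Y}
    {chartT : ∀ (U : Y.Opens) (hU : IsAffineOpen U), ((pT ⁻¹ᵁ U : PT.Opens) : Scheme.{u}) ≅ Proj (𝒯.deg U hU)}
    {chartS : ∀ (U : Y.Opens) (hU : IsAffineOpen U), ((pS ⁻¹ᵁ U : PS.Opens) : Scheme.{u}) ≅ Proj (𝒮.deg U hU)}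
    (hPT : IsRelProj 𝒯 pT chartT) (hPS : IsRelProj 𝒮 pS chartS) {h : PS ⟶ PT}
    (hh : IsRelProjMap φ hφ hirr chartT chartS h) : h ≫ pT = pS := by
  refine RelProjLib.hom_ext_ι chartS fun U hU => ?_
  rw [← Category.assoc, hh U hU]
  simp only [Category.assoc]
  rw [← hPT.chart_over U hU, Iso.inv_hom_id_assoc, ← hPS.chart_over U hU]
  congr 1
  rw [← Category.assoc, RelProjLib.map_toSpecZero, Category.assoc, ← Spec.map_comp_assoc]
  congr 3
  exact CommRingCat.hom_ext (RingHom.ext fun r => Subtype.ext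
    congr($(NatTrans.congr_app φ.comm (op U)).hom r))

/-- Let E and F be quasi-coherent O_Y-modules with graded symmetric algebras 𝒮E, 𝒮F and let 𝒮 be the
graded symmetric algebra of E ⊕ F; let πE : 𝒮 → 𝒮E and πF : 𝒮 → 𝒮F be the graded algebra
homomorphisms induced by the two projections of E ⊕ F (compatible with the structure maps from E ⊕
F, E and F), the irrelevant ideal of the target being generated by the image of that of the source
over every affine open (so that the induced morphisms of homogeneous spectra are everywhere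
defined). Let P(E ⊕ F), P(E), P(F) be the projective bundles with their charts and hE : P(E) → P(E ⊕
F), hF : P(F) → P(E ⊕ F) the morphisms chartwise induced by πE and πF. Then the morphism P(E) ⨿ P(F)
→ P(E ⊕ F) which restricts to hE and hF is a closed immersion: the disjoint union of P(E) and P(F)
is a closed subscheme of P(E ⊕ F). -/
theorem result {Y PE PF P : Scheme.{u}} (E F : Y.Modules)
    (hE : Coh.IsQCoh E) (hF : Coh.IsQCoh F) (𝒮E 𝒮F 𝒮 : RelProj.QCGrAlg Y)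
    (jE : E ⟶ 𝒮E.toModule) (hjE : RelProj.IsGrSymAlg E 𝒮E jE)
    (jF : F ⟶ 𝒮F.toModule) (hjF : RelProj.IsGrSymAlg F 𝒮F jF)
    (j : E ⊞ F ⟶ 𝒮.toModule) (hj : RelProj.IsGrSymAlg (E ⊞ F) 𝒮 j)
    (πE : 𝒮.toQCAlg ⟶ 𝒮E.toQCAlg) (hπE : RelProj.IsGradedHom πE)
    (hjπE : j ≫ RelSpec.QCAlg.Hom.toModuleMap πE = biprod.fst ≫ jE)
    (πF : 𝒮.toQCAlg ⟶ 𝒮F.toQCAlg) (hπF : RelProj.IsGradedHom πF)
    (hjπF : j ≫ RelSpec.QCAlg.Hom.toModuleMap πF = biprod.snd ≫ jF)
    (hirrE : ∀ (U : Y.Opens) (hU : IsAffineOpen U),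
      (𝒮E.deg U hU)₊ ≤ ((𝒮.deg U hU)₊).map (RelProj.gradedHomAt πE hπE U hU))
    (hirrF : ∀ (U : Y.Opens) (hU : IsAffineOpen U),
      (𝒮F.deg U hU)₊ ≤ ((𝒮.deg U hU)₊).map (RelProj.gradedHomAt πF hπF U hU))
    (p : P ⟶ Y) (pE : PE ⟶ Y) (pF : PF ⟶ Y)
    (chart : ∀ (U : Y.Opens) (hU : IsAffineOpen U), ((p ⁻¹ᵁ U : P.Opens) : Scheme.{u}) ≅ Proj (𝒮.deg U hU))
    (chartE : ∀ (U : Y.Opens) (hU : IsAffineOpen U), ((pE ⁻¹ᵁ U : PE.Opens) : Scheme.{u}) ≅ Proj (𝒮E.deg U hU))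
    (chartF : ∀ (U : Y.Opens) (hU : IsAffineOpen U), ((pF ⁻¹ᵁ U : PF.Opens) : Scheme.{u}) ≅ Proj (𝒮F.deg U hU))
    (hP : RelProj.IsRelProj 𝒮 p chart) (hPE : RelProj.IsRelProj 𝒮E pE chartE) (hPF : RelProj.IsRelProj 𝒮F pF chartF)
    (hE' : PE ⟶ P) (hhE : RelProj.IsRelProjMap πE hπE hirrE chart chartE hE')
    (hF' : PF ⟶ P) (hhF : RelProj.IsRelProjMap πF hπF hirrF chart chartF hF') :
    IsClosedImmersion (coprod.desc hE' hF') := by
  haveI : E.IsQuasicoherent := hE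
  haveI : F.IsQuasicoherent := hF
  haveI : (E ⊞ F).IsQuasicoherent := by
    let T : ShortComplex Y.Modules := ShortComplex.mk (biprod.inr : F ⟶ E ⊞ F) biprod.fst biprod.inr_fst
    have hT : T.ShortExact := ShortComplex.Splitting.shortExact
      { r := biprod.snd
        s := biprod.inl
        f_r := biprod.inr_snd
        s_g := biprod.inl_fst
        id := by
          change biprod.snd ≫ biprod.inr + biprod.fst ≫ biprod.inl = 𝟙 _
          rw [add_comm]
          exact biprod.total }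
    haveI : T.X₁.IsQuasicoherent := hF
    haveI : T.X₃.IsQuasicoherent := hE
    exact QCoh.isQuasicoherent_X₂ T hT
  have hsum : ∀ (U : Y.Opens) (x : Γ(E ⊞ F, U)), x = (biprod.inl : E ⟶ E ⊞ F).app U
        ((biprod.fst : E ⊞ F ⟶ E).app U x) + (biprod.inr : F ⟶ E ⊞ F).app U
          ((biprod.snd : E ⊞ F ⟶ F).app U x) := fun U x =>
    congr(($(biprod.total (X := E) (Y := F))).app U x).symm
  have hfst : ∀ (U : Y.Opens) (e : Γ(E, U)),
      (biprod.fst : E ⊞ F ⟶ E).app U ((biprod.inl : E ⟶ E ⊞ F).app U e) = e :=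
    fun U e => congr(($(biprod.inl_fst (X := E) (Y := F))).app U e)
  have hsnd : ∀ (U : Y.Opens) (f : Γ(F, U)),
      (biprod.snd : E ⊞ F ⟶ F).app U ((biprod.inr : F ⟶ E ⊞ F).app U f) = f :=
    fun U f => congr(($(biprod.inr_snd (X := E) (Y := F))).app U f)
  haveI : IsClosedImmersion hE' := ProjBundleLib.isClosedImmersion_of_relProjMap hP hPE hhE fun U hU k hk y hy =>
    ProjBundleLib.exists_ubar (SymLib.isGenDegOne hjE) hj hjπE (fun U hU x => hjE.2 U hU _)
      (fun U hU s hs => by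
        obtain ⟨e, rfl⟩ := (ProjBundleLib.piece_one_iff hjE).1 ((SymLib.mem_deg_iff hjE hU).1 hs)
        exact ⟨(biprod.inl : E ⟶ E ⊞ F).app U e, congrArg (jE.app U) (hfst U e)⟩) U hU k hk y hy
  haveI : IsClosedImmersion hF' := ProjBundleLib.isClosedImmersion_of_relProjMap hP hPF hhF fun U hU k hk y hy =>
    ProjBundleLib.exists_ubar (SymLib.isGenDegOne hjF) hj hjπF (fun U hU x => hjF.2 U hU _)
      (fun U hU s hs => by
        obtain ⟨e, rfl⟩ := (ProjBundleLib.piece_one_iff hjF).1 ((SymLib.mem_deg_iff hjF hU).1 hs)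
        exact ⟨(biprod.inr : F ⟶ E ⊞ F).app U e, congrArg (jF.app U) (hsnd U e)⟩) U hU k hk y hy
  refine HilbStrat.isClosedImmersion_coprod_desc hE' hF' ?_
  rw [Set.disjoint_left]
  rintro _ ⟨a, rfl⟩ ⟨b, hb⟩
  obtain ⟨_, ⟨U, hU, rfl⟩, hxU, -⟩ := Y.isBasis_affineOpens.exists_subset_of_mem_open
    (Set.mem_univ (p (hE' a))) isOpen_univ
  have ha : a ∈ pE ⁻¹ᵁ U := by
    show pE a ∈ U
    rw [← comp_eq hP hPE hhE]
    exact hxU
  have hb' : b ∈ pF ⁻¹ᵁ U := by
    show pF b ∈ U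
    rw [← comp_eq hP hPF hhF, Scheme.Hom.comp_apply, hb]
    exact hxU
  obtain ⟨y, rfl⟩ := RelTildeLib.exists_emb_eq (chart := chartE) U hU ha
  obtain ⟨z, rfl⟩ := RelTildeLib.exists_emb_eq (chart := chartF) U hU hb'
  have hcE : emb pE chartE U hU ≫ hE' = Proj.map (gradedHomAt πE hπE U hU) (hirrE U hU) ≫ emb p chart U hU := by
    rw [emb, emb, Category.assoc, hhE U hU, Iso.inv_hom_id_assoc]
  have hcF : emb pF chartF U hU ≫ hF' = Proj.map (gradedHomAt πF hπF U hU) (hirrF U hU) ≫ emb p chart U hU := by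
    rw [emb, emb, Category.assoc, hhF U hU, Iso.inv_hom_id_assoc]
  rw [← Scheme.Hom.comp_apply, ← Scheme.Hom.comp_apply, hcE, hcF, Scheme.Hom.comp_apply,
    Scheme.Hom.comp_apply] at hb
  have heq := (emb p chart U hU).isOpenEmbedding.injective hb
  have hq : ∀ x : 𝒮.presheaf.obj (op U),
      ((πF.hom.app (op U)).hom x ∈ (show ProjectiveSpectrum (𝒮F.deg U hU) from z).asHomogeneousIdeal ↔
        (πE.hom.app (op U)).hom x ∈ (show ProjectiveSpectrum (𝒮E.deg U hU) from y).asHomogeneousIdeal) := fun x =>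
    Iff.of_eq (congrArg (fun q : ProjectiveSpectrum (𝒮.deg U hU) => x ∈ q.asHomogeneousIdeal) heq)
  obtain ⟨e, he⟩ := ProjBundleLib.exists_el_notMem (hj := hjE) (hU := hU) y
  let x : 𝒮.presheaf.obj (op U) := j.app U ((biprod.inl : E ⟶ E ⊞ F).app U e)
  have hxE : (πE.hom.app (op U)).hom x = ProjBundleLib.el jE U e :=
    (congr(($(hjπE)).app U ((biprod.inl : E ⟶ E ⊞ F).app U e))).trans (congrArg (jE.app U) (hfst U e))
  have hxF : (πF.hom.app (op U)).hom x = 0 := by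
    refine (congr(($(hjπF)).app U ((biprod.inl : E ⟶ E ⊞ F).app U e))).trans ?_
    exact (congrArg (jF.app U) (congr(($(biprod.inl_snd (X := E) (Y := F))).app U e))).trans (map_zero _)
  exact he (hxE ▸ (hq x).1 (hxF.symm ▸ zero_mem _))

end Groth.Agent.S5734
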