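import Groth.Statements.S9702
import Groth.Agent.GenFinite.Basic
-- import your own Groth.Agent.* helpers here

set_option autoImplicit false
universe u
open CategoryTheory CategoryTheory.Limits AlgebraicGeometry
open Mor

namespace Groth.Agent.S9702
set_option backward.isDefEq.respectTransparency.types false

lemma finite_residue_iff {X Y : Scheme.{u}} [IsIntegral X] [IsIntegral Y] (f : X ⟶ Y)
    (h : f.base (genericPoint ↥X) = genericPoint ↥Y) :
    (f.residueFieldMap (genericPoint ↥X)).hom.Finite ↔ f.QuasiFiniteAt (genericPoint ↥X) := by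
  have hX : IsField (X.presheaf.stalk (genericPoint ↥X)) := Field.toIsField X.functionField
  have hY : IsField (Y.presheaf.stalk (f.base (genericPoint ↥X))) :=
    h ▸ Field.toIsField Y.functionField
  have hbX : Function.Bijective (X.residue (genericPoint ↥X)).hom := by
    letI := hX.toField
    exact ⟨RingHom.injective _, X.residue_surjective _⟩
  have hbY : Function.Bijective (Y.residue (f.base (genericPoint ↥X))).hom := by
    letI := hY.toField
    exact ⟨RingHom.injective _, Y.residue_surjective _⟩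
  have hsq : (f.residueFieldMap _).hom.comp (Y.residue (f.base (genericPoint ↥X))).hom =
      (X.residue (genericPoint ↥X)).hom.comp (f.stalkMap _).hom :=
    congrArg CommRingCat.Hom.hom ((Scheme.residue_residueFieldMap f _))
  have hiff : (f.residueFieldMap (genericPoint ↥X)).hom.Finite ↔ (f.stalkMap (genericPoint ↥X)).hom.Finite := by
    constructor
    · intro hf
      have h1 := hf.comp (RingHom.Finite.of_surjective _ hbY.2)
      rw [hsq] at h1
      have h2 := (RingHom.Finite.of_surjective (RingEquiv.ofBijective _ hbX).symm.toRingHom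
        (RingEquiv.surjective _)).comp h1
      convert h2
      ext z
      exact ((RingEquiv.ofBijective _ hbX).symm_apply_apply _).symm
    · intro hf
      have h1 := (RingHom.Finite.of_surjective _ hbX.2).comp hf
      rw [← hsq] at h1
      exact RingHom.Finite.of_comp_finite h1
  rw [hiff]
  refine ⟨RingHom.QuasiFinite.of_finite, fun hq => ?_⟩
  letI := hY.toField
  letI := (f.stalkMap (genericPoint ↥X)).hom.toAlgebra
  haveI : Algebra.QuasiFinite (Y.presheaf.stalk (f.base (genericPoint ↥X)))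
    (X.presheaf.stalk (genericPoint ↥X)) := hq
  exact Module.Finite.of_quasiFinite

lemma sepCase {X Y : Scheme.{u}} [IrreducibleSpace ↥X] (f : X ⟶ Y) [IsSeparated f] (U : X.Opens)
    (V : Y.Opens) (hUV : U ≤ f ⁻¹ᵁ V) (hne : Nonempty ↥U) (hfin : IsFinite (f.resLE V U hUV)) :
    IsFinite (f ∣_ V) := by
  have e : f.resLE V U hUV = X.homOfLE hUV ≫ (f ∣_ V) := by
    rw [← f.resLE_eq_morphismRestrict, Scheme.Hom.map_resLE]
  rw [e] at hfin
  haveI : IsFinite (X.homOfLE hUV) := IsFinite.of_comp _ (f ∣_ V)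
  haveI : Surjective (X.homOfLE hUV) := by
    refine ⟨fun x => ?_⟩
    obtain ⟨u⟩ := hne
    have hξ : genericPoint ↥X ∈ U := (genericPoint_specializes u.1).mem_open U.2 u.2
    let z : (U : Scheme.{u}) := ⟨genericPoint ↥X, hξ⟩
    have h1 : (X.homOfLE hUV).base z ⤳ x := by
      rw [← (f ⁻¹ᵁ V).ι.isOpenEmbedding.isInducing.specializes_iff]
      rw [show (f ⁻¹ᵁ V).ι.base ((X.homOfLE hUV).base z) = genericPoint ↥X from
        congrArg (fun ψ : (U : Scheme.{u}) ⟶ X => ψ z) (X.homOfLE_ι hUV)]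
      exact genericPoint_specializes _
    exact h1.mem_closed (X.homOfLE hUV).isClosedMap.isClosed_range ⟨z, rfl⟩
  haveI : IsIso (X.homOfLE hUV) := (isIso_iff_isOpenImmersion_and_surjective _).mpr ⟨inferInstance, ‹_›⟩
  rwa [MorphismProperty.cancel_left_of_respectsIso @IsFinite.{u}] at hfin

/-- Let X, Y be integral and f : X ⟶ Y dominant and locally of finite type, with ξ the generic point of
X (so f ξ is the generic point of Y). Then the following are equivalent: the residue field of ξ is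
finite over that of f ξ; some nonempty affine opens U ⊆ X and V ⊆ Y with f(U) ⊆ V have U ⟶ V finite;
every point of X that f sends to the generic point of Y equals ξ. Under the extra assumption that f
is quasi-compact or separated, these are also equivalent to: f⁻¹(V) ⟶ V is finite for some nonempty
affine open V ⊆ Y. (The published statement also lists transcendence degree 0 of the function field
extension, which for this finitely generated extension is equivalent to finiteness; this row omits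
it.) -/
theorem result {X Y : Scheme.{u}} [IsIntegral X] [IsIntegral Y] (f : X ⟶ Y)
    [IsDominant f] [LocallyOfFiniteType f] :
    let ξ := genericPoint ↥X
    let A := letI := (f.residueFieldMap ξ).hom.toAlgebra
      Module.Finite (Y.residueField (f.base ξ)) (X.residueField ξ)
    let B := ∃ (U : X.Opens) (V : Y.Opens) (hUV : U ≤ f ⁻¹ᵁ V), IsAffineOpen U ∧ IsAffineOpen V ∧
      Nonempty ↥U ∧ IsFinite (f.resLE V U hUV)
    let C := ∀ x : X, f.base x = genericPoint ↥Y → x = ξ
    let D := ∃ V : Y.Opens, IsAffineOpen V ∧ Nonempty ↥V ∧ IsFinite (f ∣_ V)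
    (A ↔ B) ∧ (A ↔ C) ∧ (IsSeparated f ∨ QuasiCompact f → (A ↔ D)) := by
  intro ξ A B C D
  have hfξ : f.base ξ = genericPoint ↥Y := by
    refine (genericPoint_spec ↥X).image f.continuous |>.eq ?_
    rw [show f.base '' Set.univ = Set.range f.base from Set.image_univ]
    show IsGenericPoint (genericPoint ↥Y) _
    rw [f.denseRange.closure_range]; exact genericPoint_spec ↥Y
  have hgenY : closure {f.base ξ} ∈ irreducibleComponents ↥Y := by
    rw [hfξ, genericPoint_spec, irreducibleComponents_eq_singleton]; rfl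
  have hAq : A ↔ f.QuasiFiniteAt ξ := finite_residue_iff f hfξ
  have hAC : A → C := by
    intro h x hx
    have hcl : IsClosed {f.asFiber ξ} := (hAq.mp h).isClopen_singleton_asFiber.1
    let x' : f.fiber (f.base ξ) := (f.fiberHomeo (f.base ξ)).symm ⟨x, hx.trans hfξ.symm⟩
    have hx' : (f.fiberι (f.base ξ)).base x' = x := f.fiberι_fiberHomeo_symm _ _
    have h1 : f.asFiber ξ ⤳ x' := by
      rw [← (f.fiberι (f.base ξ)).isEmbedding.isInducing.specializes_iff, hx', f.fiberι_asFiber]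
      exact genericPoint_specializes x
    rw [← hx', Set.mem_singleton_iff.mp (h1.mem_closed hcl rfl), f.fiberι_asFiber]
  have hfib : C → f.base ⁻¹' {f.base ξ} ⊆ {ξ} := fun h x hx => h x (hx.trans hfξ)
  have hCA : C → A := fun h => hAq.mpr
    (Groth.Agent.GenFinite.quasiFiniteAt_of_finite_fibre f ((Set.finite_singleton ξ).subset (hfib h)) rfl)
  have hCB : C → B := by
    intro h
    obtain ⟨V₀, hV₀, hyV₀, -⟩ := exists_isAffineOpen_mem_and_subset
      (TopologicalSpace.Opens.mem_top (f.base ξ))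
    obtain ⟨U₀, hU₀, hξU₀, hle⟩ := exists_isAffineOpen_mem_and_subset (show ξ ∈ f ⁻¹ᵁ V₀ from hyV₀)
    haveI : IsAffine (U₀ : Scheme.{u}) := hU₀
    haveI : IsAffine (V₀ : Scheme.{u}) := hV₀
    let g := f.resLE V₀ U₀ hle
    let η' : (V₀ : Scheme.{u}) := ⟨f.base ξ, hyV₀⟩
    have hη' : closure {η'} ∈ irreducibleComponents (V₀ : Scheme.{u}) := by
      rw [Groth.Agent.FlatMor.GenericPts.closure_mem_irreducibleComponents_iff] at hgenY ⊢
      intro z hz
      exact (subtype_specializes_iff ..).mpr (hgenY z.1 ((subtype_specializes_iff ..).mp hz))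
    have hg : ∀ x, (g.base x).1 = f.base x.1 := fun x =>
      congrArg (fun ψ : (U₀ : Scheme.{u}) ⟶ Y => ψ x) (f.resLE_comp_ι hle)
    obtain ⟨V₁, hV₁, hηV₁, hfin⟩ := Groth.Agent.GenFinite.exists_affine_isFinite_of_isSeparated g hη'
      ((Set.finite_singleton (⟨ξ, hξU₀⟩ : (U₀ : Scheme.{u}))).subset fun x hx =>
        Subtype.ext (h x.1 (((hg x).symm.trans (congrArg Subtype.val hx)).trans hfξ)))
    have e1 : U₀.ι ''ᵁ (g ⁻¹ᵁ V₁) ≤ f ⁻¹ᵁ (V₀.ι ''ᵁ V₁) := by
      rintro _ ⟨x, hx, rfl⟩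
      exact ⟨g.base x, hx, hg x⟩
    have hξ1 : (⟨ξ, hξU₀⟩ : (U₀ : Scheme.{u})) ∈ g ⁻¹ᵁ V₁ := by
      show g.base _ ∈ V₁
      rw [show g.base ⟨ξ, hξU₀⟩ = η' from Subtype.ext (hg _)]
      exact hηV₁
    refine ⟨U₀.ι ''ᵁ (g ⁻¹ᵁ V₁), V₀.ι ''ᵁ V₁, e1,
      (hV₁.preimage g).image_of_isOpenImmersion U₀.ι, hV₁.image_of_isOpenImmersion V₀.ι,
      ⟨⟨ξ, ⟨_, hξ1, rfl⟩⟩⟩, ?_⟩
    have e : (U₀.ι.isoImage (g ⁻¹ᵁ V₁)).hom ≫ f.resLE _ _ e1 =
        (g ∣_ V₁) ≫ (V₀.ι.isoImage V₁).hom := by
      rw [← cancel_mono (V₀.ι ''ᵁ V₁).ι]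
      simp [g]
    rw [← MorphismProperty.cancel_left_of_respectsIso @IsFinite.{u} (U₀.ι.isoImage (g ⁻¹ᵁ V₁)).hom, e,
      MorphismProperty.cancel_right_of_respectsIso @IsFinite.{u}]
    exact hfin
  have hBA : B → A := by
    rintro ⟨U, V, e, hU, hV, ⟨⟨u, hu⟩⟩, hfin⟩
    have hξU : ξ ∈ U := (genericPoint_specializes u).mem_open U.2 hu
    refine hAq.mpr ?_
    have h1 := (f.resLE V U e).quasiFiniteAt ⟨ξ, hξU⟩
    rw [← Scheme.Hom.quasiFiniteAt_comp_iff (g := V.ι), Scheme.Hom.resLE_comp_ι,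
      Scheme.Hom.quasiFiniteAt_comp_iff_of_isOpenImmersion] at h1
    exact h1
  refine ⟨⟨fun h => hCB (hAC h), hBA⟩, ⟨hAC, hCA⟩, fun hs => ⟨fun h => ?_, ?_⟩⟩
  · have hC := hAC h
    have hfib' : (f.base ⁻¹' {f.base ξ}).Finite := (Set.finite_singleton ξ).subset (hfib hC)
    obtain ⟨V₀, hV₀, hyV₀, -⟩ := exists_isAffineOpen_mem_and_subset
      (TopologicalSpace.Opens.mem_top (f.base ξ))
    rcases hs with hsep | hqc
    · obtain ⟨U, V, hUV, hU, hV, hne, hf⟩ := hCB hC
      obtain ⟨u, hu⟩ := hne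
      exact ⟨V, hV, ⟨⟨f.base u, hUV hu⟩⟩, sepCase f U V hUV ⟨⟨u, hu⟩⟩ hf⟩
    · obtain ⟨W, hW, hξW, -⟩ := exists_isAffineOpen_mem_and_subset (TopologicalSpace.Opens.mem_top ξ)
      haveI : IsAffine (W : Scheme.{u}) := hW
      obtain ⟨V, hV, hyV, hf⟩ := Groth.Agent.GenFinite.exists_affine_isFinite f hgenY hfib' W
        inferInstance (fun x hx => (Set.mem_singleton_iff.mp (hfib hC hx)).symm ▸ hξW)
      exact ⟨V, hV, ⟨⟨_, hyV⟩⟩, hf⟩
  · rintro ⟨V, hV, ⟨⟨v, hv⟩⟩, hf⟩
    have hξV : ξ ∈ f ⁻¹ᵁ V := by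
      show f.base ξ ∈ V
      rw [hfξ]; exact (genericPoint_specializes v).mem_open V.2 hv
    refine hAq.mpr ?_
    have h1 := (f ∣_ V).quasiFiniteAt ⟨ξ, hξV⟩
    rw [← Scheme.Hom.quasiFiniteAt_comp_iff (g := V.ι), morphismRestrict_ι,
      Scheme.Hom.quasiFiniteAt_comp_iff_of_isOpenImmersion] at h1
    exact h1

end Groth.Agent.S9702
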