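import Groth.Statements.S5735
import Groth.Agent.S1340
import Groth.Agent.S9702
import Groth.Agent.FormalFun.Stein
import Groth.Agent.Hens.SteinConnected
import Mathlib.AlgebraicGeometry.Morphisms.UniversallyInjective

set_option autoImplicit false
universe u
open Coherent

namespace Groth.Agent.S5735

namespace Helper

open AlgebraicGeometry CategoryTheory CategoryTheory.Limits

variable {X Y : Scheme.{u}} [IsIntegral X] [IsIntegral Y] (f : X ⟶ Y)

/-- The hypothesis on the function fields, at the image of the generic point. -/
theorem rad_at (y' : Y) (he : f.base (genericPoint X) = y') (hdom : f.base (genericPoint X) ⤳ y')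
    (hrad : ∀ x : X.functionField,
      (∃ q : Polynomial (Y.presheaf.stalk y'), q ≠ 0 ∧
        Polynomial.eval₂ (CohIII.stalkToFunctionField f y' hdom) x q = 0) →
      ∃ e : ℕ, x ^ (ringExpChar X.functionField ^ e) ∈ Set.range (CohIII.stalkToFunctionField f y' hdom)) :
    ∀ x : X.functionField,
      (∃ q : Polynomial (Y.presheaf.stalk (f.base (genericPoint X))), q ≠ 0 ∧
        Polynomial.eval₂ (f.stalkMap (genericPoint X)).hom x q = 0) →
      ∃ e : ℕ, x ^ (ringExpChar X.functionField ^ e) ∈ Set.range (f.stalkMap (genericPoint X)).hom := by
  subst he
  have h : CohIII.stalkToFunctionField f (f.base (genericPoint X)) hdom = (f.stalkMap (genericPoint X)).hom := by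
    refine RingHom.ext fun r => ?_
    show (f.stalkMap (genericPoint X)).hom ((Y.presheaf.stalkSpecializes _).hom r) = _
    rw [show (Y.presheaf.stalkSpecializes hdom).hom r = r from
      ConcreteCategory.congr_hom (Y.presheaf.stalkSpecializes_refl _) r]
  rw [h] at hrad
  exact hrad

theorem geometricallyConnected [IsLocallyNoetherian X] [IsLocallyNoetherian Y] [IsProper f]
    (hdom : f.base (genericPoint X) ⤳ genericPoint Y)
    (hopen : ∀ (Y' : Scheme.{u}) (g : Y' ⟶ Y), IrreducibleSpace ↥Y' → IsLocallyNoetherian Y' →
      IsDominant g → ∀ Z ∈ irreducibleComponents ↥(pullback f g), Dense ((pullback.snd f g).base '' Z))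
    (hrad : ∀ x : X.functionField,
      (∃ q : Polynomial Y.functionField, q ≠ 0 ∧
        Polynomial.eval₂ (CohIII.stalkToFunctionField f (genericPoint Y) hdom) x q = 0) →
      ∃ e : ℕ, x ^ (ringExpChar X.functionField ^ e) ∈
        Set.range (CohIII.stalkToFunctionField f (genericPoint Y) hdom)) :
    GeometricallyConnected f := by
  have hη : f.base (genericPoint X) = genericPoint Y :=
    (hdom.antisymm ((genericPoint_spec Y).specializes trivial)).eq
  let Z := f.normalization
  let g : Z ⟶ Y := f.fromNormalization
  let h : X ⟶ Z := f.toNormalization
  have hfac : h ≫ g = f := f.toNormalization_fromNormalization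
  have : IsFinite g := FormalFun.isFinite_fromNormalization f
  have : UniversallyClosed h := FormalFun.universallyClosed_toNormalization f
  have : IsSeparated (h ≫ g) := by rw [hfac]; infer_instance
  have : IsSeparated h := IsSeparated.of_comp h g
  have : LocallyOfFiniteType (h ≫ g) := by rw [hfac]; infer_instance
  have : LocallyOfFiniteType h := locallyOfFiniteType_of_comp h g
  have : IsProper h := {}
  have : Surjective h := ⟨FormalFun.surjective_toNormalization f⟩
  have hgc : GeometricallyConnected h :=
    Hens.SteinConnected.geometricallyConnected h fun U =>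
      (ConcreteCategory.isIso_iff_bijective _).1 (S1340.result f U)
  have hgs : Surjective g := by
    constructor
    intro y
    have h1 : IsClosed (Set.range f.base) := f.isClosedMap.isClosed_range
    have h2 : y ∈ Set.range f.base :=
      ((genericPoint_spec Y).specializes trivial).mem_closed h1 ⟨_, hη⟩
    obtain ⟨x, rfl⟩ := h2
    exact ⟨h x, by rw [← Scheme.Hom.comp_apply, hfac]⟩
  have : IsLocallyNoetherian Z := LocallyOfFiniteType.isLocallyNoetherian g
  -- the generic point of the Stein scheme
  let ζ : Z := h (genericPoint X)
  have hζ : IsGenericPoint ζ (Set.univ : Set Z) := by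
    have := (genericPoint_spec X).image h.continuous
    rwa [Set.image_univ, Set.range_eq_univ.2 (FormalFun.surjective_toNormalization f), closure_univ] at this
  have hgζ : g ζ = genericPoint Y := by
    rw [← hη, ← Scheme.Hom.comp_apply, hfac]
  have hfib : ∀ z : Z, g z = g ζ → z = ζ := by
    intro z hz
    by_contra hne
    have hs : (g.fiberHomeo (g ζ)).symm ⟨ζ, rfl⟩ ⤳ (g.fiberHomeo (g ζ)).symm ⟨z, hz⟩ :=
      ((subtype_specializes_iff _ _).2 (show ζ ⤳ z from hζ.specializes trivial)).map (Homeomorph.continuous _)
    have : DiscreteTopology ↥(g.fiber (g ζ)) := inferInstance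
    exact hne (congrArg Subtype.val ((g.fiberHomeo (g ζ)).symm.injective hs.eq)).symm
  -- the function field extension `k(ζ)/k(η)` is purely inseparable
  have hins : (g.residueFieldMap ζ).hom.IsPurelyInseparable := by
    let := (g.residueFieldMap ζ).hom.toAlgebra
    have : Module.Finite (Y.residueField (g ζ)) (Z.residueField ζ) := by
      have key : ∀ z : Z, z = genericPoint Z → (g.residueFieldMap z).hom.Finite := by
        rintro z rfl
        refine (S9702.finite_residue_iff g ?_).2 (g.quasiFiniteAt _)
        rw [(genericPoint_spec Z).eq hζ, hgζ]
      exact key ζ (hζ.eq (genericPoint_spec Z))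
    have : Algebra.IsIntegral (Y.residueField (g ζ)) (Z.residueField ζ) := inferInstance
    have hgx : f.base (genericPoint X) = g ζ := by rw [hη, hgζ]
    show IsPurelyInseparable _ _
    let q := ringExpChar (Y.residueField (g ζ))
    rw [isPurelyInseparable_iff_pow_mem (Y.residueField (g ζ)) q]
    intro a
    let m := (h.residueFieldMap (genericPoint X)).hom
    have hinj : Function.Injective (X.residue (genericPoint X)).hom :=
      RingHom.injective (R := X.functionField) _
    obtain ⟨b, hb⟩ := X.residue_surjective (genericPoint X) (m a)
    obtain ⟨q₀, hq₀, hq₀a⟩ : IsIntegral (Y.residueField (g ζ)) a := Algebra.IsIntegral.isIntegral a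
    let c := Y.residueField.{u}
    -- residue of `f` factors through `ζ`
    have hcomp : ∀ r : Y.presheaf.stalk (f.base (genericPoint X)),
        (X.residue (genericPoint X)).hom ((f.stalkMap (genericPoint X)).hom r) =
          m ((g.residueFieldMap ζ).hom
            ((Y.residueFieldCongr hgx).hom.hom ((Y.residue (f.base (genericPoint X))).hom r))) := by
      intro r
      have e1 : f.stalkMap (genericPoint X) ≫ X.residue (genericPoint X) =
          Y.residue _ ≫ f.residueFieldMap (genericPoint X) := (Scheme.residue_residueFieldMap f _).symm
      have e2 : f.residueFieldMap (genericPoint X) =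
          (Y.residueFieldCongr hgx).hom ≫ g.residueFieldMap ζ ≫ h.residueFieldMap (genericPoint X) := by
        rw [← Scheme.residueFieldMap_comp]
        exact Scheme.Hom.residueFieldMap_congr hfac.symm _
      exact (ConcreteCategory.congr_hom e1 r).trans (ConcreteCategory.congr_hom (congrArg (Y.residue _ ≫ ·) e2) r)
    let ρ : Y.presheaf.stalk (f.base (genericPoint X)) →+* Y.residueField (g ζ) :=
      ((Y.residueFieldCongr hgx).hom.hom).comp (Y.residue (f.base (genericPoint X))).hom
    have hρs : Function.Surjective ρ :=
      (ConcreteCategory.bijective_of_isIso (Y.residueFieldCongr hgx).hom).2.comp (Y.residue_surjective _)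
    obtain ⟨Q, hQ⟩ := Polynomial.map_surjective ρ hρs q₀
    have hQ0 : Q ≠ 0 := fun h0 => hq₀.ne_zero (by rw [← hQ, h0, Polynomial.map_zero])
    have hρ : (X.residue (genericPoint X)).hom.comp (f.stalkMap (genericPoint X)).hom =
        (m.comp (g.residueFieldMap ζ).hom).comp ρ := RingHom.ext hcomp
    have hev : Polynomial.eval₂ (f.stalkMap (genericPoint X)).hom b Q = 0 := by
      refine hinj ?_
      rw [map_zero, Polynomial.hom_eval₂, hρ, hb, ← Polynomial.eval₂_map, hQ,
        ← Polynomial.hom_eval₂ q₀ (g.residueFieldMap ζ).hom m a]
      exact (congrArg m hq₀a).trans (map_zero m)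
    obtain ⟨e, r, hr⟩ := rad_at f (genericPoint Y) hη hdom hrad b ⟨Q, hQ0, hev⟩
    have hq : ringExpChar X.functionField = q := by
      have h0 : ExpChar (X.residueField (genericPoint X)) q :=
        expChar_of_injective_ringHom (m.comp (g.residueFieldMap ζ).hom).injective q
      have : ExpChar X.functionField q := (RingHom.expChar_iff _ hinj q).2 h0
      exact ringExpChar.eq _ q
    refine ⟨e, ρ r, ?_⟩
    refine m.injective ?_
    have := congrArg (X.residue (genericPoint X)).hom hr
    rw [map_pow, hb, hq] at this
    rw [map_pow]
    exact ((hcomp r).symm.trans this)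
  -- the composite `Spec k(ζ) ⟶ Y` is universally injective
  have hj : UniversallyInjective (Z.fromSpecResidueField ζ ≫ g) := by
    rw [← Scheme.Hom.SpecMap_residueFieldMap_fromSpecResidueField g ζ]
    have : UniversallyInjective (Spec.map (g.residueFieldMap ζ)) := by
      refine ((tfae_universallyInjective _).out 0 1).2 ?_
      intro K inst g₁ g₂ hg
      dsimp only at hg
      obtain ⟨φ₁, rfl⟩ := Spec.map_surjective g₁
      obtain ⟨φ₂, rfl⟩ := Spec.map_surjective g₂
      let := (g.residueFieldMap ζ).hom.toAlgebra
      have : IsPurelyInseparable (Y.residueField (g ζ)) (Z.residueField ζ) := hins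
      simp only [← Spec.map_comp, Spec.map_inj] at hg
      exact congrArg Spec.map (CommRingCat.hom_ext
        (IsPurelyInseparable.injective_comp_algebraMap (Y.residueField (g ζ)) (Z.residueField ζ) K
          (congrArg CommRingCat.Hom.hom hg)))
    exact MorphismProperty.comp_mem @UniversallyInjective _ _ this inferInstance
  -- the graph of `h` is surjective
  let Γ : X ⟶ pullback f g := pullback.lift (𝟙 X) h (by rw [Category.id_comp, hfac])
  have hΓ1 : Γ ≫ pullback.fst f g = 𝟙 X := pullback.lift_fst _ _ _
  have hΓ2 : Γ ≫ pullback.snd f g = h := pullback.lift_snd _ _ _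
  have : IsClosedImmersion (Γ ≫ pullback.fst f g) := by rw [hΓ1]; infer_instance
  have : IsClosedImmersion Γ := IsClosedImmersion.of_comp Γ (pullback.fst f g)
  have hΓ : Function.Surjective Γ := by
    have hinj : ∀ w w' : ↥(pullback f g), pullback.snd f g w = ζ → pullback.snd f g w' = ζ →
        pullback.fst f g w = pullback.fst f g w' → w = w' := by
      intro w w' hw hw' hww
      have hui : UniversallyInjective ((pullback.snd f g).fiberι ζ ≫ pullback.fst f g) :=
        MorphismProperty.of_isPullback (P := @UniversallyInjective)
          ((IsPullback.of_hasPullback (pullback.snd f g) (Z.fromSpecResidueField ζ)).flip.paste_vert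
            (IsPullback.of_hasPullback f g).flip) hj
      obtain ⟨v, rfl⟩ := ((pullback.snd f g).range_fiberι ζ).ge hw
      obtain ⟨v', rfl⟩ := ((pullback.snd f g).range_fiberι ζ).ge hw'
      rw [← Scheme.Hom.comp_apply, ← Scheme.Hom.comp_apply] at hww
      rw [Scheme.Hom.injective _ hww]
    intro w
    let C := irreducibleComponent w
    have hC : C ∈ irreducibleComponents ↥(pullback f g) := irreducibleComponent_mem_irreducibleComponents w
    have hCc : IsClosed C := isClosed_of_mem_irreducibleComponents C hC
    have hgen := hC.1.isGenericPoint_genericPoint hCc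
    have hdense := hopen Z g inferInstance inferInstance inferInstance C hC
    have h2 := hgen.image (pullback.snd f g).continuous
    rw [hdense.closure_eq] at h2
    let c := hC.1.genericPoint
    have hc : c ∈ Set.range Γ := by
      refine ⟨pullback.fst f g c, hinj _ _ ?_ (h2.eq hζ) ?_⟩
      · rw [← Scheme.Hom.comp_apply, hΓ2]
        refine hfib _ ?_
        have hcz : pullback.snd f g c = ζ := h2.eq hζ
        rw [← Scheme.Hom.comp_apply, hfac, ← Scheme.Hom.comp_apply, pullback.condition,
          Scheme.Hom.comp_apply, hcz]
      · rw [← Scheme.Hom.comp_apply, hΓ1]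
        rfl
    exact (hgen.specializes mem_irreducibleComponent).mem_closed Γ.isClosedEmbedding.isClosed_range hc
  -- so the Stein scheme is universally injective over `Y`
  have : UniversallyInjective g := by
    rw [UniversallyInjective.iff_diagonal]
    constructor
    intro w
    let q := pullback.snd h (pullback.fst g g)
    obtain ⟨a, rfl⟩ := q.surjective w
    let Γ' : X ⟶ pullback h (pullback.fst g g) := pullback.lift (𝟙 X) (h ≫ pullback.diagonal g)
      (by rw [Category.id_comp, Category.assoc, pullback.diagonal_fst, Category.comp_id])
    let ψ : pullback h (pullback.fst g g) ⟶ pullback f g :=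
      pullback.lift (pullback.fst h (pullback.fst g g))
        (pullback.snd h (pullback.fst g g) ≫ pullback.snd g g)
        (by rw [← hfac, pullback.condition_assoc, Category.assoc, pullback.condition])
    let φ : pullback f g ⟶ pullback h (pullback.fst g g) :=
      pullback.lift (pullback.fst f g) (pullback.lift (pullback.fst f g ≫ h) (pullback.snd f g)
        (by rw [Category.assoc, hfac, pullback.condition])) (by rw [pullback.lift_fst])
    have hψ : Γ' ≫ ψ = Γ := by
      refine pullback.hom_ext ?_ ?_
      · rw [Category.assoc, pullback.lift_fst, pullback.lift_fst, hΓ1]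
      · rw [Category.assoc, pullback.lift_snd, pullback.lift_snd_assoc, Category.assoc,
          pullback.diagonal_snd, Category.comp_id, hΓ2]
    have hφ : ψ ≫ φ = 𝟙 _ := by
      refine pullback.hom_ext ?_ ?_
      · rw [Category.assoc, pullback.lift_fst, pullback.lift_fst, Category.id_comp]
      · rw [Category.assoc, pullback.lift_snd, Category.id_comp]
        refine pullback.hom_ext ?_ ?_
        · rw [Category.assoc, pullback.lift_fst, ← Category.assoc, pullback.lift_fst, pullback.condition]
        · rw [Category.assoc, pullback.lift_snd, pullback.lift_snd]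
    obtain ⟨x, hx⟩ := hΓ (ψ a)
    refine ⟨h x, ?_⟩
    have : Γ' x = a := by
      have e : ψ (Γ' x) = ψ a := by rw [← Scheme.Hom.comp_apply, hψ, hx]
      have := congrArg φ e
      simp only [← Scheme.Hom.comp_apply, hφ, Category.comp_id, Category.assoc] at this
      exact this
    rw [← this, ← Scheme.Hom.comp_apply, ← Scheme.Hom.comp_apply, pullback.lift_snd]
  -- conclusion
  rw [← hfac]
  refine ⟨geometrically_iff_of_isClosedUnderIsomorphisms.mpr fun K _ x => ?_⟩
  rw [← (pullbackRightPullbackFstIso g x h).hom.homeomorph.connectedSpace_iff]
  have : UniversallyInjective (pullback.snd g x) :=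
    MorphismProperty.of_isPullback (P := @UniversallyInjective) (IsPullback.of_hasPullback g x) ‹_›
  have : Subsingleton ↥(pullback g x) := (pullback.snd g x).injective.subsingleton
  have : Nonempty ↥(pullback g x) := (pullback.snd g x).surjective.nonempty
  exact GeometricallyConnected.connectedSpace_of_subsingleton (pullback.snd h (pullback.fst g x))

end Helper

open AlgebraicGeometry CategoryTheory CategoryTheory.Limits in
/-- Let X and Y be locally Noetherian integral schemes and f : X → Y a proper dominant morphism which is
universally open in the following sense: for every irreducible locally Noetherian scheme Y' and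
every dominant morphism g : Y' → Y, each irreducible component of X ×_Y Y' has dense image in Y'
under the second projection. Suppose that the algebraic closure of the function field R(Y) in R(X)
is purely inseparable over R(Y): every element of R(X) satisfying a nonzero polynomial over R(Y) has
some p^e-th power coming from R(Y), p being the characteristic exponent. Then for every point y of Y
the fibre X_y is geometrically connected over the residue field k(y) (its base change to any field
extension is connected and nonempty). -/
theorem result {X Y : Scheme.{u}}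
    [IsIntegral X] [IsIntegral Y] [IsLocallyNoetherian X] [IsLocallyNoetherian Y] (f : X ⟶ Y) [IsProper f]
    (hdom : f.base (genericPoint X) ⤳ genericPoint Y)
    (hopen : ∀ (Y' : Scheme.{u}) (g : Y' ⟶ Y), IrreducibleSpace ↥Y' → IsLocallyNoetherian Y' →
      IsDominant g → ∀ Z ∈ irreducibleComponents ↥(pullback f g), Dense ((pullback.snd f g).base '' Z))
    (hrad : ∀ x : X.functionField,
      (∃ q : Polynomial Y.functionField, q ≠ 0 ∧
        Polynomial.eval₂ (CohIII.stalkToFunctionField f (genericPoint Y) hdom) x q = 0) →
      ∃ e : ℕ, x ^ (ringExpChar X.functionField ^ e) ∈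
        Set.range (CohIII.stalkToFunctionField f (genericPoint Y) hdom))
    (y : Y) : GeometricallyConnected (f.fiberToSpecResidueField y) := by
  exact (GeometricallyConnected.iff_geometricallyConnected_fiber f).1
    (Helper.geometricallyConnected f hdom hopen hrad) y

end Groth.Agent.S5735
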