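import Groth.Statements.S5744
import Groth.Agent.QCoh.Qcqs
import Groth.Agent.QCoh.Exact
-- import your own Groth.Agent.* helpers here

set_option autoImplicit false
universe u
open Coherent

namespace Groth.Agent.S5744

open AlgebraicGeometry CategoryTheory in
/-- For the Čech complex of sheaves indexed by all ordered tuples with products as terms; over a finite
index type these terms are finite direct sums. Let X be a separated scheme, (U_i)_{i ∈ ι} a finite
family of affine opens covering X, and F a quasi-coherent O_X-module. Then for every p the degree-p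
term of the Čech complex of sheaves 𝔠(𝒰, F), the product over ordered (p+1)-tuples of the direct
images (j_{i_0…i_p})_*(F|_{U_{i_0…i_p}}), is a quasi-coherent O_X-module. -/
theorem result {X : Scheme.{u}} [X.IsSeparated] {ι : Type u}
    [Finite ι] (𝒰 : ι → X.Opens) (h𝒰 : ∀ i, IsAffineOpen (𝒰 i)) (hcov : ⨆ i, 𝒰 i = ⊤)
    (F : X.Modules) [Coh.IsQCoh F] (p : ℕ) :
    Coh.IsQCoh (((CechOX.cechSh 𝒰).obj F).X p) := by
  have haff : ∀ (m : ℕ) (x : Fin (m + 1) → ι), IsAffineOpen (⨅ a, 𝒰 (x a)) := by
    intro m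
    induction m with
    | zero =>
      intro x
      rw [show (⨅ a, 𝒰 (x a)) = 𝒰 (x 0) from le_antisymm (iInf_le _ 0)
        (le_iInf fun a => by rw [Fin.fin_one_eq_zero a])]
      exact h𝒰 _
    | succ m ih =>
      intro x
      rw [show (⨅ a, 𝒰 (x a)) = 𝒰 (x 0) ⊓ ⨅ a : Fin (m + 1), 𝒰 (x a.succ) from le_antisymm
        (le_inf (iInf_le _ 0) (le_iInf fun a => iInf_le _ a.succ))
        (le_iInf fun a => Fin.cases inf_le_left (fun b => inf_le_right.trans (iInf_le _ b)) a)]
      exact (h𝒰 _).inf (ih _)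
  have hterm : ∀ W : X.Opens, IsAffineOpen W → ((CechOX.pushRestr W).obj F).IsQuasicoherent := by
    intro W hW
    have : IsAffine W := hW
    have : QuasiCompact W.ι := inferInstance
    have : ((Scheme.Modules.restrictFunctor W.ι).obj F).IsQuasicoherent :=
      Scheme.Modules.isQuasicoherent_restrictFunctor W.ι F
    exact Groth.Agent.QCoh.isQuasicoherent_pushforward W.ι _
  have hprod : ∀ x : Fin (p + 1) → ι, IsAffineOpen (∏ᶜ fun a => 𝒰 (x a)) := by
    intro x
    rw [show (∏ᶜ fun a => 𝒰 (x a)) = ⨅ a, 𝒰 (x a) from le_antisymm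
      (le_iInf fun a => leOfHom (Limits.Pi.π (fun a => 𝒰 (x a)) a))
      (leOfHom (Limits.Pi.lift fun a => homOfLE (iInf_le (fun a => 𝒰 (x a)) a)))]
    exact haff p x
  let f : (Fin (p + 1) → ι) → X.Modules := fun x => (CechOX.pushRestr (∏ᶜ fun a => 𝒰 (x a))).obj F
  have : ∀ x, (f x).IsQuasicoherent := fun x => hterm _ (hprod x)
  have : Limits.HasFiniteBiproducts X.Modules := Limits.HasFiniteBiproducts.of_hasFiniteProducts
  have hf : (∏ᶜ f).IsQuasicoherent :=
    Groth.Agent.QCoh.isQuasicoherent_of_iso ((Limits.biproduct.isoCoproduct f).symm ≪≫ Limits.biproduct.isoProduct f)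
  exact hf

end Groth.Agent.S5744
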