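import Groth.Statements.S5747
import Groth.Agent.GrModLib.ModFT
import Groth.Agent.PerfTri.Bounded
import Groth.Agent.ZClosLib.CohDescent
-- import your own Groth.Agent.* helpers here

set_option autoImplicit false
universe u
open CategoryTheory CategoryTheory.Limits AlgebraicGeometry Opposite TopologicalSpace
open scoped HomogeneousIdeal
noncomputable section
open Coherent

namespace Groth.Agent.S5747

/-- Let Y be a Noetherian scheme, 𝒮 a quasi-coherent positively graded O_Y-algebra of finite type
(generators of any positive degrees), p : X = Proj(𝒮) → Y its relative homogeneous spectrum with its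
charts over the affine opens, and n any integer. Then the homogeneous component O_X(n), given
through its chartwise identifications with the twisting modules O(n) on the Proj 𝒮(U), is a coherent
O_X-module (quasi-coherent of finite type; X is locally Noetherian). -/
theorem result {Y X : Scheme.{u}} [AlgebraicGeometry.IsNoetherian Y]
    (𝒮 : RelProj.QCGrAlg Y)
    (hft : ∀ (U : Y.Opens) (hU : IsAffineOpen U), (𝒮.str.app (op U)).hom.FiniteType)
    (p : X ⟶ Y)
    (chart : ∀ (U : Y.Opens) (hU : IsAffineOpen U), (((p ⁻¹ᵁ U : X.Opens) : Scheme.{u}) ≅ Proj (𝒮.deg U hU)))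
    (hP : RelProj.IsRelProj 𝒮 p chart) (n : ℤ) (L : X.Modules)
    (lam : ∀ (U : Y.Opens) (hU : IsAffineOpen U),
      L ⟶ (Scheme.Modules.pushforward (RelProj.emb p chart U hU)).obj (GrTwist.twist (𝒮.deg U hU) n))
    (hL : RelProj.IsRelTwist 𝒮 p chart n L lam) : Coh.IsCoh L := by
  have hloc : ∀ U : Y.affineOpens,
      Coh.IsCoh (L.restrict (p ⁻¹ᵁ U.1).ι) := fun ⟨U, hU⟩ => by
    haveI : IsNoetherianRing Γ(Y, U) := IsLocallyNoetherian.component_noetherian ⟨U, hU⟩
    haveI : IsNoetherianRing (𝒮.presheaf.obj (op U)) := by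
      letI := (𝒮.str.app (op U)).hom.toAlgebra
      haveI : Algebra.FiniteType Γ(Y, U) (𝒮.presheaf.obj (op U)) := hft U hU
      exact Algebra.FiniteType.isNoetherianRing Γ(Y, U) _
    let j := RelProj.emb p chart U hU
    let φ : L.restrict j ⟶ GrTwist.twist (𝒮.deg U hU) n :=
      (Scheme.Modules.restrictFunctor j).map (lam U hU) ≫
        (Scheme.Modules.restrictFunctorAdjCounitIso j).hom.app _
    have : IsIso ((Scheme.Modules.restrictFunctor j).map (lam U hU)) := by
      refine Scheme.Modules.Hom.isIso_iff_isIso_app.mpr fun W => ?_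
      rw [ConcreteCategory.isIso_iff_bijective]
      exact hL.bijective U hU (j ''ᵁ W) (by
        rintro _ ⟨y, -, rfl⟩
        exact ((chart U hU).inv y).2)
    have hφ : IsIso φ := inferInstance
    have h1 : Coh.IsCoh (GrTwist.twist (𝒮.deg U hU) n) :=
      Groth.Agent.GrModLib.isCoh_grTilde (𝒜 := 𝒮.deg U hU) (ℳ := 𝒮.deg U hU) n
    have h2 : Coh.IsCoh (L.restrict j) :=
      Groth.Agent.CohDev.isCoh_of_iso (asIso φ).symm h1
    have he : (chart U hU).hom ≫ j = (p ⁻¹ᵁ U).ι := Iso.hom_inv_id_assoc _ _
    exact Groth.Agent.CohDev.isCoh_of_iso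
      (((Scheme.Modules.restrictFunctorIsoPullback (chart U hU).hom).app (L.restrict j)).symm ≪≫
        ((Scheme.Modules.restrictFunctorComp (chart U hU).hom j).app L).symm ≪≫
        (Scheme.Modules.restrictFunctorCongr he).app L)
      (Groth.Agent.ZClosLib.CohDescent.isCoh_pullback (chart U hU).hom _ h2)
  exact Groth.Agent.PerfTri.Bounded.isCoh_of_cover (fun U : Y.affineOpens => p ⁻¹ᵁ U.1)
    (TopologicalSpace.IsOpenCover.mk (top_le_iff.mp fun x _ => by
      obtain ⟨U, hU, hx, -⟩ := exists_isAffineOpen_mem_and_subset (X := Y) (U := ⊤) (x := p x) trivial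
      exact TopologicalSpace.Opens.mem_iSup.mpr ⟨⟨U, hU⟩, hx⟩)) L hloc

end Groth.Agent.S5747
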