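import Groth.Statements.S5748
import Groth.Agent.AmpCrit.RelVan
import Groth.Agent.AmpleLib.CompLemma
import Groth.Agent.CohAff.RcComp
import Groth.Agent.GrModLib.AffBC
import Groth.Agent.InjMod.Dual
import Groth.Agent.InjMod.ProjFramed
import Groth.Agent.ModShf.GrothAb
import Groth.Agent.ProjForm.Unit
import Groth.Agent.ProjMor.Local

set_option autoImplicit false
universe u
open CategoryTheory CategoryTheory.Limits AlgebraicGeometry Opposite TopologicalSpace
open Coherent

namespace Groth.Agent.S5748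

/-- Let Y be a Noetherian scheme, f : X → Y a projective morphism, L an invertible O_X-module ample
relative to f, g : Y' → Y an affine morphism locally of finite type (the spectrum of a
quasi-coherent O_Y-algebra 𝒮 of finite type) and X' = X ×_Y Y' with projections g' : X' → X and f' :
X' → Y'. The quasi-coherent modules of finite type over the pulled-back O_X-algebra f^*𝒮 = g'_*
O_{X'} are the direct images g'_* G of the coherent O_{X'}-modules G, and they are presented here in
that form. For such a module ℳ = g'_* G there is N such that for every n ≥ N the higher direct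
images R^p f_*(ℳ ⊗ L^{⊗n}) (of the underlying abelian sheaf) vanish for all p > 0 and the canonical
morphism f^* f_*(ℳ ⊗ L^{⊗n}) → ℳ ⊗ L^{⊗n} is an epimorphism. -/
theorem result {X Y X' Y' : Scheme.{u}}
    [AlgebraicGeometry.IsNoetherian Y] (f : X ⟶ Y) (hf : RelProj.IsProjective f)
    (L : X.Modules) (hL : PicF.IsInvertible L) (hamp : RelAmple.IsRelAmple f L)
    (g : Y' ⟶ Y) [IsAffineHom g] [LocallyOfFiniteType g] (g' : X' ⟶ X) (f' : X' ⟶ Y')
    (hsq : IsPullback g' f' f g) (G : X'.Modules) (hG : Coh.IsCoh G) :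
    ∃ N : ℕ, ∀ n : ℕ, N ≤ n →
      (∀ p : ℕ, 0 < p →
        IsZero ((Coh.RpushAb f p).obj (Coh.toAb (CohB1.tensorMod ((Coh.push g').obj G) (CohB1.tensorPow L n))))) ∧
      Epi ((Scheme.Modules.pullbackPushforwardAdjunction f).counit.app
        (CohB1.tensorMod ((Coh.push g').obj G) (CohB1.tensorPow L n))) := by
  classical
  haveI : IsProper f := Groth.Agent.ProjMor.isProper_of_isProjective hf
  haveI : IsAffineHom g' := MorphismProperty.of_isPullback hsq.flip inferInstance
  haveI : IsProper f' := MorphismProperty.of_isPullback hsq inferInstance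
  haveI : AlgebraicGeometry.IsLocallyNoetherian Y' := LocallyOfFiniteType.isLocallyNoetherian g
  haveI : CompactSpace Y' := QuasiCompact.compactSpace_of_compactSpace g
  haveI : AlgebraicGeometry.IsNoetherian Y' := ⟨⟩
  let L' := (Scheme.Modules.pullback g').obj L
  have hL' : PicF.IsInvertible L' := Groth.Agent.PicCl.isInvertible_pullback g' hL
  obtain ⟨-, -, ha⟩ := Groth.Agent.AmpleLib.isRelAmple_iff.mp hamp
  have ha' : ∀ V : Y.affineOpens, Groth.Agent.AmpleLib.AmpleOn L' (g' ⁻¹ᵁ (f ⁻¹ᵁ V.1)) := fun V =>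
    Groth.Agent.AmpleLib.ampleOn_pullback_of_qa hL g' le_rfl (ha V) fun W hW _ => by
      have h : g' ⁻¹ᵁ W ⊓ g' ⁻¹ᵁ (f ⁻¹ᵁ V.1) = g' ⁻¹ᵁ W := inf_eq_left.mpr (g'.preimage_mono ‹_›)
      rw [h]
      exact Groth.Agent.AmpleLib.isQuasiAffine_of_isAffineOpen (hW.preimage g')
  have hamp' : RelAmple.IsRelAmple f' L' := by
    refine Groth.Agent.AmpleLib.isRelAmple_of_cover f' (fun V : Y.affineOpens => g ⁻¹ᵁ V.1) ?_ hL'
      fun V => ?_
    · rw [← Scheme.Hom.preimage_iSup, AlgebraicGeometry.iSup_affineOpens_eq_top]; rfl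
    · rw [show f' ⁻¹ᵁ (g ⁻¹ᵁ V.1) = g' ⁻¹ᵁ (f ⁻¹ᵁ V.1) by
        rw [← Scheme.Hom.comp_preimage, ← Scheme.Hom.comp_preimage, hsq.w]]
      exact ha' V
  -- vanishing on `X'`
  obtain ⟨n₁, hn₁⟩ := Groth.Agent.AmpCrit.RelVan.exists_bound f' hL'
    (fun W hW => hamp'.2 ⟨W, hW⟩) hG
  -- generation on `X'`
  choose V hV hyV using fun y : Y =>
    (exists_isAffineOpen_mem_and_subset (X := Y) (x := y) (U := ⊤) trivial)
  obtain ⟨T, hT⟩ := isCompact_univ.elim_finite_subcover (fun y : Y => (V y : Set Y))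
    (fun y => (V y).2) fun y _ => Set.mem_iUnion.mpr ⟨y, (hyV y).1⟩
  choose n₂ hn₂ using fun y : T => Groth.Agent.AmpleLib.eventually_spanAt hL' (ha' ⟨V y, hV y⟩)
    (g'.isQuasiSeparated_preimage (f.isQuasiSeparated_preimage (hV y).isQuasiSeparated)) hG.1 hG.2
  obtain ⟨n₃, hn₃⟩ : ∃ N, ∀ y, n₂ y ≤ N := Finite.exists_le n₂
  refine ⟨max n₁ n₃, fun n hn => ?_⟩
  haveI : G.IsQuasicoherent := hG.1
  let M := CohB1.tensorMod G (CohB1.tensorPow L' n)
  haveI : M.IsQuasicoherent := Groth.Agent.AmpCrit.RelVan.isQCoh_twist hL' hG.1 n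
  have hfr := Groth.Agent.InjMod.hasFrames_of_isFinLocFree
    (Groth.Agent.ProjForm.isFinLocFree_of_isInvertible
      (Groth.Agent.AmpleLib.isInvertible_tensorPow hL n))
  obtain ⟨ep⟩ := Groth.Agent.AmpleLib.exists_iso_pullback_tensorPow g' hL n
  let e : CohB1.tensorMod ((Coh.push g').obj G) (CohB1.tensorPow L n) ≅ (Coh.push g').obj M :=
    (Groth.Agent.InjMod.projFramedIso g' hfr).app G ≪≫
      (Coh.push g').mapIso (Groth.Agent.ProjTwist.tensCongr (Iso.refl G) ep)
  refine ⟨fun p hp => ?_, ?_⟩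
  · obtain ⟨q, rfl⟩ := Nat.exists_eq_succ_of_ne_zero hp.ne'
    have h0 : IsZero ((Scheme.Modules.pushforward g).obj ((Coh.Rpush f' (q + 1)).obj M)) :=
      Functor.map_isZero _ (hn₁ n ((le_max_left _ _).trans hn) q)
    have h1 : IsZero ((Coh.Rpush f (q + 1)).obj ((Coh.push g').obj M)) :=
      h0.of_iso (Groth.Agent.CohAff.rpushAffineFirst g' f M (q + 1) ≪≫
        eqToIso (congrArg (fun k => (Coh.Rpush k (q + 1)).obj M) hsq.w) ≪≫
        Groth.Agent.CohAff.rpushAffineSecond f' g M (q + 1))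
    have h2 := (h1.of_iso ((Coh.Rpush f (q + 1)).mapIso e))
    exact ((Groth.Agent.ModShf.toAbFunctor Y).map_isZero h2).of_iso
      ((Groth.Agent.ModShf.rpushCompToAb f (q + 1)).app _).symm
  · have h3 : Epi ((Scheme.Modules.pullbackPushforwardAdjunction f).counit.app
        ((Coh.push g').obj M)) := by
      refine Groth.Agent.AmpleLib.epi_counit_of_spanAt f fun x => ?_
      obtain ⟨y, hy, hxy⟩ := Set.mem_iUnion₂.mp (hT (Set.mem_univ (f x)))
      exact ⟨V y, hxy, fun W hxW m => Groth.Agent.GrModLib.spanAt_push hsq M (hV y)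
        (fun x' hx' => hn₂ ⟨y, hy⟩ n (((hn₃ _).trans (le_max_right _ _)).trans hn) x' hx')
        x hxy W hxW m⟩
    have := (Scheme.Modules.pullbackPushforwardAdjunction f).counit.naturality e.inv
    rw [Functor.id_map] at this
    have : Epi ((Scheme.Modules.pushforward f ⋙ Scheme.Modules.pullback f).map e.inv ≫
        (Scheme.Modules.pullbackPushforwardAdjunction f).counit.app
          (CohB1.tensorMod ((Coh.push g').obj G) (CohB1.tensorPow L n))) := by
      rw [this]
      exact epi_comp _ _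
    exact epi_of_epi ((Scheme.Modules.pushforward f ⋙ Scheme.Modules.pullback f).map e.inv) _

end Groth.Agent.S5748
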