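import Groth.Statements.S5750
import Groth.Agent.GrModLib.ClosedProj
import Mathlib.Analysis.Polynomial.Basic
import Mathlib.Topology.Instances.Rat
-- import your own Groth.Agent.* helpers here

set_option autoImplicit false
universe u
open Coherent

namespace Groth.Agent.S5750

open AlgebraicGeometry CategoryTheory in
/-- Let A be an Artinian local ring, i : X → P^r_A a closed immersion compatible with the structure
morphisms to Spec A, F a coherent O_X-module and F(n) = F ⊗ i^* O(n). If a polynomial P over ℚ
satisfies P(n) = χ_A(F(n)) = Σ_{j ≤ r} (-1)^j length_A H^j(X, F(n)) for every integer n (the Hilbert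
polynomial of F), then the leading coefficient of P is non-negative. -/
theorem result (A : Type u) [CommRing A]
    [IsArtinianRing A] [IsLocalRing A] (r : ℕ) (X : Scheme.{u}) [X.Over (Spec (CommRingCat.of A))]
    (i : X ⟶ CohB1.ProjSpace r A) [IsClosedImmersion i]
    (hi : i ≫ CohB1.ProjSpace.toSpec r A = X ↘ Spec (CommRingCat.of A)) (F : X.Modules) (hF : Coh.IsCoh F)
    (P : Polynomial ℚ)
    (hP : ∀ n : ℤ, ((Finset.range (r + 1)).sum fun j => (-1 : ℚ) ^ j *
        ((Module.length A (Coh.HH X (CohB1.tensorMod F
          ((Scheme.Modules.pullback i).obj (Twist.twistProjSpace r A n))) j)).toNat : ℚ)) = P.eval (n : ℚ)) :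
    0 ≤ P.leadingCoeff := by
  obtain ⟨N, hN⟩ := Groth.Agent.GrModLib.euler_closed_eventually A r i F hF
  have hpos : ∀ n : ℤ, N ≤ n → 0 ≤ P.eval (n : ℚ) := by
    intro n hn
    rw [← hP n]
    have h := congrArg (Int.cast : ℤ → ℚ) (hN n hn)
    push_cast at h
    rw [h]
    positivity
  by_contra hneg
  push Not at hneg
  rcases Nat.eq_zero_or_pos P.natDegree with h0 | h0
  · have h := hpos N le_rfl
    rw [Polynomial.eq_C_of_natDegree_eq_zero h0, Polynomial.eval_C] at h
    rw [Polynomial.leadingCoeff, h0] at hneg
    exact absurd h (not_le.mpr hneg)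
  · have ht := (P.tendsto_atBot_of_leadingCoeff_nonpos (Polynomial.natDegree_pos_iff_degree_pos.mp h0)
      hneg.le).comp (tendsto_intCast_atTop_atTop (R := ℚ))
    obtain ⟨n, hn1, hn2⟩ := ((ht.eventually (Filter.eventually_lt_atBot (0 : ℚ))).and
      (Filter.eventually_ge_atTop N)).exists
    exact absurd (hpos n hn2) (not_le.mpr hn1)

end Groth.Agent.S5750
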