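import Groth.Statements.S5751
import Groth.Agent.GrModLib.Gen
-- import your own Groth.Agent.* helpers here

set_option autoImplicit false
universe u
open CategoryTheory CategoryTheory.Limits AlgebraicGeometry Opposite TopologicalSpace
open scoped HomogeneousIdeal
noncomputable section
open Coherent

namespace Groth.Agent.S5751
open Groth.Agent.GrModLib

set_option maxHeartbeats 2000000 in
/-- Over an affine base, for a graded ring generated in degree one, let S be a Noetherian commutative
ring positively graded by additive subgroups with irrelevant ideal generated by S_1, X = Proj S, and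
M a graded S-module (non-negatively graded here, the direct sum of its pieces) satisfying (TF): for
some k the submodule generated by the homogeneous elements of degree ≥ k is finitely generated.
Consider the graded module of sections n ↦ N_n = Γ(X, M(n)~), on which a homogeneous a ∈ S_e acts by
N_n → N_{n+e}, s ↦ (a/1)·s. Then there is k such that for every e ≥ 0 the group N_{k+e} is generated
by the images a · N_k, a ∈ S_e. (For a ring generated in degree one, condition (TF) for the graded
module ⊕_n N_n is this eventual generation together with the finiteness of each N_n over S_0.) -/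
theorem result {A σ : Type u} [CommRing A]
    [IsNoetherianRing A] [SetLike σ A] [AddSubgroupClass σ A] (𝒜 : ℕ → σ) [GradedRing 𝒜]
    (hgen : (HomogeneousIdeal.irrelevant 𝒜).toIdeal = Ideal.span (𝒜 1 : Set A))
    {M τ : Type u} [AddCommGroup M] [Module A M] [SetLike τ M] [AddSubgroupClass τ M] (ℳ : ℕ → τ)
    [SetLike.GradedSMul 𝒜 ℳ] [DirectSum.Decomposition ℳ]
    (hTF : ∃ k : ℕ, (Submodule.span A (⋃ i ∈ Set.Ici k, (ℳ i : Set M))).FG) :
    ∃ k : ℕ, ∀ e : ℕ,
      (⨆ a : 𝒜 e, (GrMod.smulSect 𝒜 ℳ a (k : ℤ)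
        (op (⊤ : Opens (ProjectiveSpectrum.top 𝒜)))).range) = ⊤ := by
  classical
  obtain ⟨N, hN⟩ := exists_bound_val (𝒜 := 𝒜) (ℳ := ℳ) hTF
  obtain ⟨K, hK⟩ := exists_prods (𝒜 := 𝒜) (ℳ := ℳ)
    (fun i a hi ha => hgen ▸ HomogeneousIdeal.mem_irrelevant_of_mem 𝒜 hi ha) hTF
  refine ⟨max N K, fun e => eq_top_iff.mpr fun s _ => ?_⟩
  have h := hN (max N K + e) (((max N K : ℕ) : ℤ) + (e : ℤ))
    (le_trans (le_max_left _ _) (Nat.le_add_right _ _)) (Nat.cast_add (max N K) e).symm
  have h2 := h s
  obtain ⟨m, hm, hval⟩ := h2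
  have key : ∀ z ∈ prods 𝒜 ℳ e (max N K),
      ∃ t ∈ (⨆ a : 𝒜 e, (GrMod.smulSect 𝒜 ℳ a ((max N K : ℕ) : ℤ)
        (op (⊤ : Opens (ProjectiveSpectrum.top 𝒜)))).range),
        ∀ x : ProjectiveSpectrum 𝒜, valAt t x trivial = mk x z 1 (GrMod.one_nin x) := by
    intro z hz
    induction hz using AddSubgroup.closure_induction with
    | mem z hz =>
      obtain ⟨a, ha, y, hy, rfl⟩ := hz
      refine ⟨_, AddSubgroup.mem_iSup_of_mem ⟨a, ha⟩ ⟨GrMod.globalOf 𝒜 ℳ ⟨y, hy⟩, rfl⟩, fun x => ?_⟩
      refine (GrMod.smulSect_apply_coe _ _ _ _ _).trans ?_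
      refine (LocalizedModule.mk_smul_mk _ _ _ _).trans ?_
      rw [one_mul]
      rfl
    | zero => exact ⟨0, zero_mem _, fun x => (LocalizedModule.zero_mk _).symm⟩
    | add y z _ _ hy hz =>
      obtain ⟨t, ht, hty⟩ := hy
      obtain ⟨t', ht', htz⟩ := hz
      refine ⟨t + t', add_mem ht ht', fun x => ?_⟩
      change valAt t x trivial + valAt t' x trivial = _
      rw [hty x, htz x]
      exact ((LocalizedModule.mkLinearMap _ M).map_add y z).symm
    | neg y _ hy =>
      obtain ⟨t, ht, hty⟩ := hy
      refine ⟨-t, neg_mem ht, fun x => ?_⟩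
      change -valAt t x trivial = _
      rw [hty x]
      exact ((LocalizedModule.mkLinearMap _ M).map_neg y).symm
  obtain ⟨t, ht, htm⟩ := key m (hK _ (le_max_right _ _) e m hm)
  have hst : s = t := Subtype.ext (funext fun x => Subtype.ext ((hval x.1).trans (htm x.1).symm))
  exact hst ▸ ht

end Groth.Agent.S5751
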