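import Groth.Statements.S5753
import Mathlib
import Groth.Agent.Depth.Local

set_option autoImplicit false
universe u
open EGA41

namespace Groth.Agent.S5753

/-- Let A be a Noetherian local ring with maximal ideal m and residue field k, and N a finitely
generated A-module. Then no element of m is N-regular (multiplication by it injective) if and only
if Hom_A(k, N) is nonzero. Applied to N = M/(x_1 M + ... + x_n M) for an M-regular sequence (x_i) in
m, this says that the sequence cannot be extended by an element of m if and only if Hom_A(k, M/(x_1
M + ... + x_n M)) ≠ 0. (The published statement allows an arbitrary module; for the direct sum N of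
the quotients of a two-dimensional regular local ring by all its height-one primes no element of m
is N-regular while Hom_A(k, N) = 0, and the published proof uses finiteness of the set of associated
primes, so N is taken finitely generated here.) -/
theorem result (A : Type u) [CommRing A]
    [IsLocalRing A] [IsNoetherianRing A] (N : Type u) [AddCommGroup N] [Module A N] [Module.Finite A N] :
    (∀ x ∈ IsLocalRing.maximalIdeal A, ¬ IsSMulRegular N x) ↔
      Nontrivial (IsLocalRing.ResidueField A →ₗ[A] N) := by
  constructor
  · intro h
    have hm : IsLocalRing.maximalIdeal A ∈ associatedPrimes A N := by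
      by_contra hm
      obtain ⟨r, hr, hreg⟩ := Groth.Agent.Depth.exists_isSMulRegular_of_forall_not_le
        (I := IsLocalRing.maximalIdeal A) (M := N) (fun p hp hle => hm (by
          rwa [(IsLocalRing.maximalIdeal.isMaximal A).eq_of_le (IsAssociatedPrime.isPrime hp).ne_top hle]))
      exact h r hr hreg
    obtain ⟨_, f, hf⟩ := (isAssociatedPrime_iff_exists_injective_linearMap _ _).mp hm
    refine ⟨f, 0, fun e => ?_⟩
    exact one_ne_zero (α := IsLocalRing.ResidueField A) (hf (by rw [e]; rfl))
  · intro h x hx hreg
    obtain ⟨f, g, hne⟩ := h
    refine hne (LinearMap.ext fun y => hreg ?_)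
    have hxy : x • y = 0 := by
      obtain ⟨y, rfl⟩ := IsLocalRing.residue_surjective y
      rw [Algebra.smul_def, IsLocalRing.ResidueField.algebraMap_eq, ← map_mul, IsLocalRing.residue_eq_zero_iff]
      exact Ideal.mul_mem_right _ _ hx
    show x • f y = x • g y
    rw [← map_smul, ← map_smul, hxy, map_zero, map_zero]

end Groth.Agent.S5753
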