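import Groth.Statements.S5754
import Mathlib
import Groth.Agent.Depth.Local

set_option autoImplicit false
universe u
open EGA41

namespace Groth.Agent.S5754

open scoped Pointwise

/-- Let A be a Noetherian ring, M a finitely generated A-module and t an element of A which is
M-regular. For every associated prime p of M, every prime ideal minimal among those containing p +
tA is an associated prime of M/tM. -/
theorem result (A : Type u) [CommRing A]
    [IsNoetherianRing A] (M : Type u) [AddCommGroup M] [Module A M] [Module.Finite A M] (t : A)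
    (ht : IsSMulRegular M t) (p : Ideal A) (hp : p ∈ associatedPrimes A M) (q : Ideal A)
    (hq : q ∈ (p ⊔ Ideal.span {t}).minimalPrimes) : q ∈ associatedPrimes A (QuotSMulTop t M) := by
  obtain ⟨hprime, z, hz⟩ := isAssociatedPrime_iff.mp hp
  let N : Submodule A M := Submodule.torsionBySet A M (p : Set A)
  have hzN : z ∈ N := (Submodule.mem_torsionBySet_iff _ _).mpr fun ⟨a, ha⟩ => by
    rw [hz] at ha
    simpa using Submodule.mem_colon_singleton.mp ha
  -- `N/tN` embeds in `M/tM`
  let g : QuotSMulTop t N →ₗ[A] QuotSMulTop t M :=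
    Submodule.mapQ _ _ N.subtype (fun x hx => by
      obtain ⟨y, -, rfl⟩ := (Submodule.mem_smul_pointwise_iff_exists _ _ _).mp hx
      exact Submodule.smul_mem_pointwise_smul _ _ _ Submodule.mem_top)
  have hg : Function.Injective g := by
    rw [← LinearMap.ker_eq_bot, Submodule.eq_bot_iff]
    intro x hx
    obtain ⟨x, rfl⟩ := Submodule.Quotient.mk_surjective _ x
    rw [LinearMap.mem_ker] at hx
    have hx' : (x : M) ∈ t • (⊤ : Submodule A M) := by
      simpa [g, Submodule.Quotient.mk_eq_zero] using hx
    obtain ⟨w, -, hw⟩ := (Submodule.mem_smul_pointwise_iff_exists _ _ _).mp hx'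
    have hwN : w ∈ N := (Submodule.mem_torsionBySet_iff _ _).mpr fun a => ht (by
      have := (Submodule.mem_torsionBySet_iff _ _).mp x.2 a
      rw [← hw] at this
      simpa [smul_comm t (a : A) w] using this)
    rw [Submodule.Quotient.mk_eq_zero]
    exact (Submodule.mem_smul_pointwise_iff_exists _ _ _).mpr ⟨⟨w, hwN⟩, Submodule.mem_top, Subtype.ext hw⟩
  refine associatedPrimes.subset_of_injective hg
    (Module.associatedPrimes.minimalPrimes_annihilator_subset_associatedPrimes A (QuotSMulTop t N) ?_)
  have hqp : q.IsPrime := hq.1.1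
  have hsupp : ∀ r : Ideal A, ∀ _ : r.IsPrime,
      (Module.annihilator A (QuotSMulTop t N) ≤ r ↔ p ⊔ Ideal.span {t} ≤ r) := by
    intro r hr
    have h1 : (Module.annihilator A (QuotSMulTop t N) ≤ r) ↔
        (⟨r, hr⟩ : PrimeSpectrum A) ∈ Module.support A (QuotSMulTop t N) := by
      rw [Module.support_eq_zeroLocus]; exact Iff.rfl
    have h2 : (Module.annihilator A N ≤ r) ↔
        (⟨r, hr⟩ : PrimeSpectrum A) ∈ Module.support A N := by
      rw [Module.support_eq_zeroLocus]; exact Iff.rfl
    have h3 : Module.annihilator A N = p := by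
      refine le_antisymm (fun a ha => ?_) (fun a ha => Module.mem_annihilator.mpr fun x =>
        Subtype.ext ((Submodule.mem_torsionBySet_iff _ _).mp x.2 ⟨a, ha⟩))
      rw [hz, Submodule.mem_colon_singleton, Submodule.mem_bot]
      exact congrArg Subtype.val (Module.mem_annihilator.mp ha ⟨z, hzN⟩)
    rw [h1, Module.support_quotSMulTop, Set.mem_inter_iff, ← h2, h3, sup_le_iff,
      Ideal.span_singleton_le_iff_mem]
    exact and_congr_right fun _ => by simp [PrimeSpectrum.mem_zeroLocus, Set.singleton_subset_iff]
  exact ⟨⟨hqp, (hsupp q hqp).mpr hq.1.2⟩,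
    fun r ⟨hr, hle⟩ hrq => hq.2 ⟨hr, (hsupp r hr).mp hle⟩ hrq⟩

end Groth.Agent.S5754
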