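import Groth.Statements.S5755
import Mathlib
import Groth.Agent.Depth.Local

set_option autoImplicit false
universe u
open EGA41

namespace Groth.Agent.S5755

/-- A reduced Noetherian local ring A has depth 0 if and only if A is a field. -/
theorem result (A : Type u) [CommRing A] [IsLocalRing A]
    [IsNoetherianRing A] [IsReduced A] : LocCoh.depth A A = 0 ↔ IsField A := by
  rw [Groth.Agent.Depth.depth_eq_idealDepth, Groth.Agent.Depth.idealDepth_eq_zero_iff]
  constructor
  · rintro ⟨p, hp, hle⟩
    obtain ⟨hprime, z, hz⟩ := isAssociatedPrime_iff.mp hp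
    subst hz
    have hz0 : z ≠ 0 := by
      rintro rfl
      exact hprime.ne_top ((Ideal.eq_top_iff_one _).mpr (by simp [Submodule.mem_colon_singleton]))
    have hunit : IsUnit z := by
      rw [← IsLocalRing.notMem_maximalIdeal]
      intro hzm
      have : z * z = 0 := by simpa [Submodule.mem_colon_singleton] using hle hzm
      exact hz0 (IsReduced.eq_zero z ⟨2, by rw [pow_two]; exact this⟩)
    refine IsLocalRing.isField_iff_maximalIdeal_eq.mpr ((Submodule.eq_bot_iff _).mpr fun a ha => ?_)
    have : a * z = 0 := by simpa [Submodule.mem_colon_singleton] using hle ha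
    exact hunit.mul_left_eq_zero.mp this
  · intro hF
    refine ⟨IsLocalRing.maximalIdeal A, isAssociatedPrime_iff.mpr ⟨inferInstance, 1, ?_⟩, le_rfl⟩
    ext a
    simp [IsLocalRing.isField_iff_maximalIdeal_eq.mp hF, Submodule.mem_colon_singleton]

end Groth.Agent.S5755
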