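import Groth.Statements.S5756
import Mathlib
import Groth.Agent.Depth.CM

set_option autoImplicit false
universe u
open EGA41

namespace Groth.Agent.S5756

open scoped Pointwise in
theorem aux (A B : Type u) [CommRing A] [CommRing B] [IsLocalRing A]
    [IsLocalRing B] [IsNoetherianRing A] [IsNoetherianRing B] [Algebra A B] [IsLocalHom (algebraMap A B)]
    (e : ℕ) : ∀ (M : Type u) [AddCommGroup M] [Module B M] [Module A M] [IsScalarTower A B M]
      [Module.Finite A M], LocCoh.depth A M = e → (e : ℕ∞) = LocCoh.depth B M := by
  have hmap : ∀ a ∈ IsLocalRing.maximalIdeal A, algebraMap A B a ∈ IsLocalRing.maximalIdeal B := fun a ha =>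
    IsLocalRing.map_maximalIdeal_le (algebraMap A B) (Ideal.mem_map_of_mem _ ha)
  induction e with
  | zero =>
    intro M _ _ _ _ _ he
    haveI : Module.Finite B M := Module.Finite.of_restrictScalars_finite A B M
    rw [Groth.Agent.Depth.depth_eq_idealDepth, Nat.cast_zero, Groth.Agent.Depth.idealDepth_eq_zero_iff] at he
    obtain ⟨p, hp, hle⟩ := he
    obtain ⟨hprime, z, hz⟩ := isAssociatedPrime_iff.mp hp
    rw [Groth.Agent.Depth.depth_eq_idealDepth, Nat.cast_zero, eq_comm, Groth.Agent.Depth.idealDepth_eq_zero_iff]
    -- the submodule killed by `𝔪_A`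
    let N : Submodule B M := Submodule.torsionBySet B M
      (((IsLocalRing.maximalIdeal A).map (algebraMap A B) : Ideal B) : Set B)
    have hzN : z ∈ N := by
      refine (Submodule.mem_torsionBySet_iff _ _).mpr fun ⟨b, hb⟩ => ?_
      have : (IsLocalRing.maximalIdeal A).map (algebraMap A B) ≤ (⊥ : Submodule B M).colon {z} := by
        rw [Ideal.map_le_iff_le_comap]
        intro a ha
        rw [Ideal.mem_comap, Submodule.mem_colon_singleton, Submodule.mem_bot, algebraMap_smul]
        have := hle ha
        rw [hz] at this
        simpa using Submodule.mem_colon_singleton.mp this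
      simpa using Submodule.mem_colon_singleton.mp (this hb)
    haveI : Nontrivial N := nontrivial_of_ne ⟨z, hzN⟩ 0 fun h => hprime.ne_top (by
      have h0 : z = 0 := congrArg Subtype.val h
      rw [hz, h0]; exact (Ideal.eq_top_iff_one _).mpr (by simp [Submodule.mem_colon_singleton]))
    obtain ⟨q, hq⟩ := associatedPrimes.nonempty B N
    haveI := IsAssociatedPrime.isPrime hq
    refine ⟨q, associatedPrimes.subset_of_injective (f := N.subtype) N.injective_subtype hq, ?_⟩
    have hmq : (IsLocalRing.maximalIdeal A).map (algebraMap A B) ≤ q := by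
      refine le_trans (fun b hb => ?_) (Groth.Agent.Depth.annihilator_le_associatedPrime hq)
      exact Module.mem_annihilator.mpr fun x => Subtype.ext ((Submodule.mem_torsionBySet_iff _ _).mp x.2 ⟨b, hb⟩)
    -- `B/ann M` is finite over `A`, so a prime over `𝔪_A` in the support is maximal
    let K := Module.annihilator B M
    haveI : Module.Finite A (B ⧸ K) := by
      let f : B →ₗ[A] (M →ₗ[A] M) :=
        { toFun := fun b => DistribSMul.toLinearMap A M b
          map_add' := fun b c => LinearMap.ext fun m => add_smul b c m
          map_smul' := fun a b => LinearMap.ext fun m => smul_assoc a b m }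
      let f' : (B ⧸ K) →ₗ[A] (M →ₗ[A] M) :=
        (Submodule.liftQ (K.restrictScalars A) f (fun b hb =>
          LinearMap.mem_ker.mpr (LinearMap.ext fun m => Module.mem_annihilator.mp hb m))) ∘ₗ
          ((Submodule.Quotient.restrictScalarsEquiv A K).symm.toLinearMap)
      refine Module.Finite.of_injective f' ?_
      rw [injective_iff_map_eq_zero]
      intro x hx
      obtain ⟨b, rfl⟩ := Ideal.Quotient.mk_surjective x
      rw [Ideal.Quotient.eq_zero_iff_mem]
      exact Module.mem_annihilator.mpr fun m => LinearMap.congr_fun hx m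
    have hKq : K ≤ q := le_trans (fun b hb => Module.mem_annihilator.mpr fun m =>
      Subtype.ext (Module.mem_annihilator.mp hb (m : M))) (Groth.Agent.Depth.annihilator_le_associatedPrime hq)
    haveI : (q.map (Ideal.Quotient.mk K)).IsPrime :=
      Ideal.map_isPrime_of_surjective Ideal.Quotient.mk_surjective (by rwa [Ideal.mk_ker])
    have hc : (q.map (Ideal.Quotient.mk K)).comap (algebraMap A (B ⧸ K)) = IsLocalRing.maximalIdeal A := by
      refine ((IsLocalRing.maximalIdeal.isMaximal A).eq_of_le (Ideal.comap_ne_top _ (Ideal.IsPrime.ne_top ‹_›))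
        (fun a ha => ?_)).symm
      exact Ideal.mem_map_of_mem _ (hmq (Ideal.mem_map_of_mem _ ha))
    haveI : Algebra.IsIntegral A (B ⧸ K) := Algebra.IsIntegral.of_finite A _
    have hmax := Ideal.isMaximal_of_isIntegral_of_isMaximal_comap (R := A) (q.map (Ideal.Quotient.mk K))
      (by rw [hc]; infer_instance)
    have hqmax : q.IsMaximal := by
      have := Ideal.comap_isMaximal_of_surjective (Ideal.Quotient.mk K) Ideal.Quotient.mk_surjective
        (K := q.map (Ideal.Quotient.mk K))
      rwa [Ideal.comap_map_of_surjective' _ Ideal.Quotient.mk_surjective, Ideal.mk_ker,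
        sup_eq_left.mpr hKq] at this
    rw [IsLocalRing.eq_maximalIdeal hqmax]
  | succ e ih =>
    intro M _ _ _ _ _ he
    haveI : Module.Finite B M := Module.Finite.of_restrictScalars_finite A B M
    have h1 : 1 ≤ LocCoh.idealDepth (IsLocalRing.maximalIdeal A) M := by
      rw [← Groth.Agent.Depth.depth_eq_idealDepth, he]; exact_mod_cast Nat.succ_pos e
    obtain ⟨x, hx, hreg⟩ := Groth.Agent.Depth.exists_isSMulRegular_of_one_le_idealDepth h1
    have hreg' : IsSMulRegular M (algebraMap A B x) := fun m m' h => hreg (by
      simpa [algebraMap_smul] using h)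
    have hA := Groth.Agent.Depth.idealDepth_quotSMulTop_add_one hx hreg
    rw [← Groth.Agent.Depth.depth_eq_idealDepth, ← Groth.Agent.Depth.depth_eq_idealDepth, he] at hA
    have hB := Groth.Agent.Depth.idealDepth_quotSMulTop_add_one (hmap x hx) hreg'
    rw [← Groth.Agent.Depth.depth_eq_idealDepth, ← Groth.Agent.Depth.depth_eq_idealDepth] at hB
    -- both quotients agree
    let P : Submodule B M := (algebraMap A B x) • (⊤ : Submodule B M)
    have hP : x • (⊤ : Submodule A M) = P.restrictScalars A := by
      ext m
      simp only [P, Submodule.restrictScalars_mem, Submodule.mem_smul_pointwise_iff_exists,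
        Submodule.mem_top, true_and, algebraMap_smul]
    let Q := M ⧸ P
    have eQ : QuotSMulTop x M ≃ₗ[A] Q :=
      (Submodule.quotEquivOfEq (x • (⊤ : Submodule A M)) (P.restrictScalars A) hP).trans
        (Submodule.Quotient.restrictScalarsEquiv A P)
    haveI : Module.Finite A Q := Module.Finite.equiv eQ
    have hQ : LocCoh.depth A Q = (e : ℕ∞) := by
      rw [Groth.Agent.Depth.depth_eq_idealDepth, ← Groth.Agent.Depth.idealDepth_congr eQ,
        ← Groth.Agent.Depth.depth_eq_idealDepth]
      push_cast at hA
      exact WithTop.add_right_cancel ENat.one_ne_top hA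
    rw [← hB, ← ih Q hQ]
    push_cast
    rfl


/-- Suppose A and B are Noetherian local rings and ρ : A → B is a local homomorphism. Given a B-module M
that, viewed as an A-module through ρ, is finitely generated, the depth of M over A coincides with
the depth of M over B. -/
theorem result (A B : Type u) [CommRing A] [CommRing B] [IsLocalRing A]
    [IsLocalRing B] [IsNoetherianRing A] [IsNoetherianRing B] [Algebra A B] [IsLocalHom (algebraMap A B)]
    (M : Type u) [AddCommGroup M] [Module B M] [Module A M] [IsScalarTower A B M] [Module.Finite A M] :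
    LocCoh.depth A M = LocCoh.depth B M := by
  haveI : Module.Finite B M := Module.Finite.of_restrictScalars_finite A B M
  rcases subsingleton_or_nontrivial M with hM | hM
  · rw [Groth.Agent.Depth.depth_eq_idealDepth, Groth.Agent.Depth.depth_eq_idealDepth,
      Groth.Agent.Depth.idealDepth_eq_top_of_subsingleton, Groth.Agent.Depth.idealDepth_eq_top_of_subsingleton]
  obtain ⟨e, he⟩ := ENat.ne_top_iff_exists.mp (Groth.Agent.Depth.depth_lt_top (R := A) (M := M)).ne
  exact he.symm.trans (aux A B e M he.symm)

end Groth.Agent.S5756
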