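import Groth.Statements.S5759
import Mathlib
import Groth.Agent.Depth.CM
import Groth.Agent.EGA41Lib.Params

set_option autoImplicit false
universe u
open EGA41

namespace Groth.Agent.S5759

open scoped Pointwise in
theorem aux (A : Type u) [CommRing A] [IsLocalRing A] [IsNoetherianRing A] (d : ℕ) :
    ∀ (M : Type u) [AddCommGroup M] [Module A M] [Module.Finite A M], Module.supportDim A M = d →
    (∀ xs : List A, (∀ x ∈ xs, x ∈ IsLocalRing.maximalIdeal A) →
      Module.supportDim A (M ⧸ (Ideal.ofList xs • (⊤ : Submodule A M))) + xs.length = Module.supportDim A M →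
        ∀ p ∈ associatedPrimes A (M ⧸ (Ideal.ofList xs • (⊤ : Submodule A M))),
          ringKrullDim (A ⧸ p) = Module.supportDim A (M ⧸ (Ideal.ofList xs • (⊤ : Submodule A M)))) →
    LocCoh.IsCohenMacaulayModule A M := by
  induction d with
  | zero =>
    intro M _ _ _ hd _
    haveI : Nontrivial M := (Module.supportDim_ne_bot_iff_nontrivial A M).mp (by rw [hd]; simp)
    have h1 : ((LocCoh.depth A M : ℕ∞) : WithBot ℕ∞) ≤ Module.supportDim A M :=
      Groth.Agent.Depth.depth_le_supportDim
    refine le_antisymm ?_ h1
    rw [hd]
    exact_mod_cast bot_le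
  | succ d ih =>
    intro M _ _ _ hd h
    haveI : Nontrivial M := (Module.supportDim_ne_bot_iff_nontrivial A M).mp (by rw [hd]; simp)
    have e0 := Submodule.quotEquivOfEqBot (Ideal.ofList ([] : List A) • (⊤ : Submodule A M))
      (by rw [Ideal.ofList_nil, Submodule.bot_smul])
    have hass : ∀ p ∈ associatedPrimes A M, ¬ IsLocalRing.maximalIdeal A ≤ p := by
      intro p hp hle
      have hp' : p ∈ associatedPrimes A (M ⧸ (Ideal.ofList ([] : List A) • (⊤ : Submodule A M))) := by
        rwa [LinearEquiv.AssociatedPrimes.eq e0]
      have := h [] (by simp) (by rw [Module.supportDim_eq_of_equiv e0]; simp) p hp'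
      rw [Module.supportDim_eq_of_equiv e0, hd, (IsLocalRing.maximalIdeal.isMaximal A).eq_of_le
        (Groth.Agent.Depth.isPrime_of_mem_associatedPrimes hp).ne_top hle |>.symm,
        ringKrullDim_eq_zero_of_isField ((Ideal.Quotient.maximal_ideal_iff_isField_quotient _).mp inferInstance)]
        at this
      exact absurd this (by exact_mod_cast (Nat.succ_ne_zero d).symm)
    obtain ⟨x, hx, hreg⟩ := Groth.Agent.Depth.exists_isSMulRegular_of_forall_not_le hass
    have hQ : Module.supportDim A (QuotSMulTop x M) = d := by
      have := Module.supportDim_quotSMulTop_succ_eq_supportDim hreg hx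
      rw [hd, Nat.cast_succ] at this
      exact Groth.Agent.Depth.withBot_add_one_right_cancel this
    refine (Groth.Agent.Depth.isCohenMacaulayModule_quotSMulTop_iff hx hreg).mp (ih _ hQ ?_)
    intro xs hxs heq p hp
    have e := Submodule.quotOfListConsSMulTopEquivQuotSMulTopInner M x xs
    rw [← Module.supportDim_eq_of_equiv e] at heq ⊢
    rw [← LinearEquiv.AssociatedPrimes.eq e] at hp
    refine h (x :: xs) ?_ ?_ p hp
    · intro y hy
      rcases List.mem_cons.mp hy with rfl | hy
      exacts [hx, hxs y hy]
    · rw [List.length_cons, Nat.cast_succ, ← add_assoc, heq, hQ, hd, Nat.cast_succ]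


/-- Let A be a Noetherian local ring and M a nonzero finitely generated A-module. Suppose that for every
sequence x_1, ..., x_r of elements of the maximal ideal which is part of a system of parameters for
M (i.e. dim(M/(x_1 M + ... + x_r M)) = dim(M) - r), every associated prime p of N = M/(x_1 M + ... +
x_r M) satisfies dim(A/p) = dim(N). Then M is a Cohen-Macaulay module. (The published convention
also counts the zero module as Cohen-Macaulay; this row assumes M nonzero.) -/
theorem result (A : Type u) [CommRing A]
    [IsLocalRing A] [IsNoetherianRing A] (M : Type u) [AddCommGroup M] [Module A M] [Module.Finite A M]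
    [Nontrivial M]
    (h : ∀ xs : List A, (∀ x ∈ xs, x ∈ IsLocalRing.maximalIdeal A) →
      Module.supportDim A (M ⧸ (Ideal.ofList xs • (⊤ : Submodule A M))) + xs.length = Module.supportDim A M →
        ∀ p ∈ associatedPrimes A (M ⧸ (Ideal.ofList xs • (⊤ : Submodule A M))),
          ringKrullDim (A ⧸ p) = Module.supportDim A (M ⧸ (Ideal.ofList xs • (⊤ : Submodule A M)))) :
    LocCoh.IsCohenMacaulayModule A M := by
  haveI : Finite (MaximalSpectrum A) := by
    haveI : Subsingleton (MaximalSpectrum A) := ⟨fun a b => MaximalSpectrum.ext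
      ((IsLocalRing.eq_maximalIdeal a.isMaximal).trans (IsLocalRing.eq_maximalIdeal b.isMaximal).symm)⟩
    exact Finite.of_subsingleton
  obtain ⟨d, hd⟩ := Groth.Agent.EGA41Lib.exists_supportDim_eq_natCast (A := A) M
  exact aux A d M hd h

end Groth.Agent.S5759
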