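import Groth.Statements.S5760
import Mathlib
import Groth.Agent.Depth.CM
import Groth.Agent.S5758

set_option autoImplicit false
universe u
open EGA41

namespace Groth.Agent.S5760

/-- Let A be a Noetherian local ring, M a nonzero finitely generated Cohen-Macaulay A-module, p a prime
ideal in the support of M and r the integer dim(M) - dim(M/pM). Then there exists an M-regular
sequence x_1, ..., x_r of elements of p; for every such sequence, dim(M/(x_1 M + ... + x_r M)) =
dim(M/pM) = dim(A/p), and p is a minimal element of the set of associated primes of M/(x_1 M + ... +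
x_r M). -/
theorem result (A : Type u) [CommRing A]
    [IsLocalRing A] [IsNoetherianRing A] (M : Type u) [AddCommGroup M] [Module A M] [Module.Finite A M]
    (hM : LocCoh.IsCohenMacaulayModule A M) (p : PrimeSpectrum A) (hp : p ∈ Module.support A M) (r : ℕ)
    (hr : Module.supportDim A (M ⧸ (p.asIdeal • (⊤ : Submodule A M))) + r = Module.supportDim A M) :
    (∃ xs : List A, xs.length = r ∧ (∀ x ∈ xs, x ∈ p.asIdeal) ∧ RingTheory.Sequence.IsWeaklyRegular M xs) ∧
      ∀ xs : List A, xs.length = r → (∀ x ∈ xs, x ∈ p.asIdeal) → RingTheory.Sequence.IsWeaklyRegular M xs →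
        Module.supportDim A (M ⧸ (Ideal.ofList xs • (⊤ : Submodule A M))) =
            Module.supportDim A (M ⧸ (p.asIdeal • (⊤ : Submodule A M))) ∧
          Module.supportDim A (M ⧸ (p.asIdeal • (⊤ : Submodule A M))) = ringKrullDim (A ⧸ p.asIdeal) ∧
          p.asIdeal ∈ associatedPrimes A (M ⧸ (Ideal.ofList xs • (⊤ : Submodule A M))) ∧
          ∀ q ∈ associatedPrimes A (M ⧸ (Ideal.ofList xs • (⊤ : Submodule A M))), q ≤ p.asIdeal → q = p.asIdeal := by
  haveI := Groth.Agent.Depth.nontrivial_of_isCohenMacaulayModule hM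
  have hpm : p.asIdeal ≤ IsLocalRing.maximalIdeal A := IsLocalRing.le_maximalIdeal p.isPrime.ne_top
  have hform := Groth.Agent.Depth.supportDim_eq_supportDim_quotient_add_idealDepth hpm hM
  have hne : p.asIdeal • (⊤ : Submodule A M) ≠ ⊤ := Groth.Agent.Depth.smul_top_ne_top_of_le_maximalIdeal hpm
  obtain ⟨t, ht⟩ := ENat.ne_top_iff_exists.mp (Groth.Agent.Depth.idealDepth_lt_top hne).ne
  -- `dim M/pM = dim A/p`
  have hVp : Module.support A (M ⧸ (p.asIdeal • (⊤ : Submodule A M))) =
      PrimeSpectrum.zeroLocus (p.asIdeal : Set A) := by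
    rw [Module.support_quotient]
    exact Set.inter_eq_right.mpr fun q hq => Module.mem_support_mono (show p ≤ q from hq) hp
  have hdimp : Module.supportDim A (M ⧸ (p.asIdeal • (⊤ : Submodule A M))) = ringKrullDim (A ⧸ p.asIdeal) := by
    rw [Module.supportDim, hVp, ringKrullDim_quotient]
  haveI : Nontrivial (M ⧸ (p.asIdeal • (⊤ : Submodule A M))) := Submodule.Quotient.nontrivial_iff.mpr hne
  obtain ⟨c, hc⟩ : ∃ c : ℕ, Module.supportDim A (M ⧸ (p.asIdeal • (⊤ : Submodule A M))) = c := by
    have hle : Module.supportDim A (M ⧸ (p.asIdeal • (⊤ : Submodule A M))) ≤ ringKrullDim A :=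
      Module.supportDim_le_ringKrullDim _ _
    have hlt : ringKrullDim A < ⊤ := ringKrullDim_lt_top
    have hnb := (Module.supportDim_ne_bot_iff_nontrivial A (M ⧸ (p.asIdeal • (⊤ : Submodule A M)))).mpr inferInstance
    match h : Module.supportDim A (M ⧸ (p.asIdeal • (⊤ : Submodule A M))), hle, hnb with
    | ⊥, _, hnb => exact absurd rfl hnb
    | ((⊤ : ℕ∞) : WithBot ℕ∞), hle, _ => exact absurd (lt_of_le_of_lt hle hlt) (lt_irrefl _)
    | ((n : ℕ) : ℕ∞), _, _ => exact ⟨n, rfl⟩
  rw [← ht, hc] at hform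
  rw [hc, hform] at hr
  have hrt : r = t := by
    have : c + r = c + t := by exact_mod_cast hr
    omega
  subst hrt
  refine ⟨?_, fun xs hlen hmem hreg => ?_⟩
  · obtain ⟨rs, h1, h2, h3⟩ := Groth.Agent.Depth.exists_isWeaklyRegular_of_le_idealDepth hne (n := r) ht.le
    exact ⟨rs, h3, h2, h1⟩
  have hxm : ∀ x ∈ xs, x ∈ IsLocalRing.maximalIdeal A := fun x hx => hpm (hmem x hx)
  obtain ⟨hdim, hCM⟩ := Groth.Agent.S5758.result A M hM xs hxm
  have hdim := hdim.mp hreg
  have hCM := hCM hreg
  haveI := Groth.Agent.Depth.nontrivial_of_isCohenMacaulayModule hCM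
  have hN : Module.supportDim A (M ⧸ (Ideal.ofList xs • (⊤ : Submodule A M))) = c := by
    rw [hlen, hform] at hdim
    match h : Module.supportDim A (M ⧸ (Ideal.ofList xs • (⊤ : Submodule A M))), hdim with
    | ⊥, hd => rw [WithBot.bot_add] at hd; exact absurd hd.symm (by simp)
    | ((⊤ : ℕ∞) : WithBot ℕ∞), hd =>
      exfalso
      have h' : (((⊤ : ℕ∞) + (r : ℕ) : ℕ∞) : WithBot ℕ∞) = (((c + r : ℕ) : ℕ∞) : WithBot ℕ∞) :=
        hd.trans (by push_cast; rfl)
      have := WithBot.coe_inj.mp h'
      rw [top_add] at this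
      exact ENat.natCast_ne_top _ this.symm
    | ((n : ℕ) : ℕ∞), hd =>
      have : n + r = c + r := by exact_mod_cast hd
      exact_mod_cast (by omega : n = c)
  refine ⟨hN.trans hc.symm, hdimp, ?_, ?_⟩
  · have h0 : LocCoh.idealDepth p.asIdeal (M ⧸ (Ideal.ofList xs • (⊤ : Submodule A M))) = 0 := by
      have := Groth.Agent.Depth.idealDepth_quotient_add_length xs M hreg hmem
      rw [hlen, ← ht] at this
      exact WithTop.add_right_cancel (ENat.natCast_ne_top r) (this.trans (zero_add _).symm)
    obtain ⟨q, hq, hle⟩ := Groth.Agent.Depth.idealDepth_eq_zero_iff.mp h0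
    have hqd := Groth.Agent.Depth.ringKrullDim_quotient_associatedPrime hCM hq
    haveI := Groth.Agent.Depth.isPrime_of_mem_associatedPrimes hq
    rcases eq_or_lt_of_le hle with e | hlt
    · rwa [← e] at hq
    · exfalso
      have := Groth.Agent.Depth.ringKrullDim_quotient_succ_le hlt
      rw [hqd, hN, ← hdimp, hc] at this
      have : c + 1 ≤ c := by exact_mod_cast this
      omega
  · intro q hq hle
    have hqd := Groth.Agent.Depth.ringKrullDim_quotient_associatedPrime hCM hq
    haveI := Groth.Agent.Depth.isPrime_of_mem_associatedPrimes hq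
    rcases eq_or_lt_of_le hle with e | hlt
    · exact e
    · exfalso
      have := Groth.Agent.Depth.ringKrullDim_quotient_succ_le hlt
      rw [hqd, hN, ← hdimp, hc] at this
      have : c + 1 ≤ c := by exact_mod_cast this
      omega

end Groth.Agent.S5760
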