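import Groth.Statements.S5764
import Mathlib
import Groth.Agent.S5763

set_option autoImplicit false
universe u
open EGA41

namespace Groth.Agent.S5764

/-- Let B be an integral domain, A a local subring of B which is integrally closed (in its field of
fractions), and suppose B is integral over A. Then dim(B_n) = dim(A) for every maximal ideal n of B. -/
theorem result (A B : Type u) [CommRing A]
    [CommRing B] [IsDomain B] [Algebra A B] (hinj : Function.Injective (algebraMap A B)) [IsDomain A]
    [IsLocalRing A] [IsIntegrallyClosed A] [Algebra.IsIntegral A B] (n : Ideal B) [n.IsMaximal] :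
    ringKrullDim (Localization.AtPrime n) = ringKrullDim A := by
  haveI : FaithfulSMul A B := (faithfulSMul_iff_algebraMap_injective A B).2 hinj
  rw [IsLocalization.AtPrime.ringKrullDim_eq_height n (Localization.AtPrime n)]
  refine le_antisymm (n.height_le_ringKrullDim_of_ne_top Ideal.IsPrime.ne_top' |>.trans
    ((S5763.result A B).1)) (iSup_le fun l => ?_)
  haveI : (n.comap (algebraMap A B)).IsMaximal :=
    Ideal.isMaximal_comap_of_isIntegral_of_isMaximal n
  have hmax : n.comap (algebraMap A B) = IsLocalRing.maximalIdeal A := IsLocalRing.eq_maximalIdeal ‹_›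
  haveI : n.LiesOver (IsLocalRing.maximalIdeal A) := ⟨hmax.symm⟩
  obtain ⟨P, hPn, hP, hPl⟩ := Ideal.exists_ideal_le_liesOver_of_le (p := l.last.asIdeal) n
    (IsLocalRing.le_maximalIdeal (PrimeSpectrum.isPrime _).ne_top)
  obtain ⟨L, hL, hLast, -⟩ := Ideal.exists_ltSeries_of_hasGoingDown l P
  rw [show n.height = Order.height (⟨n, inferInstance⟩ : PrimeSpectrum B) from
    PrimeSpectrum.height_eq_orderHeight ⟨n, inferInstance⟩]
  have h : (L.length : ℕ∞) ≤ Order.height (⟨n, inferInstance⟩ : PrimeSpectrum B) :=
    Order.length_le_height (by rw [hLast]; exact hPn)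
  rw [← hL]
  exact WithBot.coe_le_coe.2 h

end Groth.Agent.S5764
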