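import Groth.Statements.S5765
import Mathlib
import Groth.Agent.Dim.Localized

set_option autoImplicit false
universe u
open EGA41

namespace Groth.Agent.S5765

/-- Let A be a ring, M a finitely generated A-module and p a prime ideal of A. Then dim_{A_p}(M_p) +
dim_A(M/pM) ≤ dim_A(M). -/
theorem result (A : Type u) [CommRing A] (M : Type u)
    [AddCommGroup M] [Module A M] [Module.Finite A M] (p : Ideal A) [p.IsPrime] :
    Module.supportDim (Localization.AtPrime p) (LocalizedModule p.primeCompl M) +
        Module.supportDim A (M ⧸ (p • (⊤ : Submodule A M))) ≤ Module.supportDim A M := by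
  set X := {P : PrimeSpectrum A // P ∈ Module.support A M}
  by_cases hp : (⟨p, inferInstance⟩ : PrimeSpectrum A) ∈ Module.support A M
  · let x : X := ⟨⟨p, inferInstance⟩, hp⟩
    have h1 : Module.supportDim (Localization.AtPrime p) (LocalizedModule p.primeCompl M) =
        ((Order.height x : ℕ∞) : WithBot ℕ∞) := by
      rw [Groth.Agent.Dim.supportDim_atPrime, Order.height_eq_krullDim_Iic]
      exact Order.krullDim_eq_of_orderIso
        { toFun := fun P => ⟨⟨P.1, P.2.1⟩, P.2.2⟩
          invFun := fun P => ⟨P.1.1, P.1.2, P.2⟩
          left_inv := fun P => rfl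
          right_inv := fun P => rfl
          map_rel_iff' := Iff.rfl }
    have h2 : Module.supportDim A (M ⧸ (p • (⊤ : Submodule A M))) =
        ((Order.coheight x : ℕ∞) : WithBot ℕ∞) := by
      rw [Module.supportDim, Module.support_quotient, Order.coheight_eq_krullDim_Ici]
      exact Order.krullDim_eq_of_orderIso
        { toFun := fun P => ⟨⟨P.1, P.2.1⟩, P.2.2⟩
          invFun := fun P => ⟨P.1.1, P.1.2, P.2⟩
          left_inv := fun P => rfl
          right_inv := fun P => rfl
          map_rel_iff' := Iff.rfl }
    haveI : Nonempty X := ⟨x⟩
    rw [h1, h2, Module.supportDim, ← WithBot.coe_add,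
      show Order.krullDim ↥(Module.support A M) = Order.krullDim X from rfl,
      Order.krullDim_eq_iSup_height_add_coheight_of_nonempty, WithBot.coe_le_coe]
    exact le_iSup (fun a : X => Order.height a + Order.coheight a) x
  · have : Module.supportDim (Localization.AtPrime p) (LocalizedModule p.primeCompl M) = ⊥ := by
      have : Subsingleton (LocalizedModule p.primeCompl M) := Module.notMem_support_iff.mp hp
      exact Module.supportDim_eq_bot_of_subsingleton _ _
    rw [this, WithBot.bot_add]
    exact bot_le

end Groth.Agent.S5765
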