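import Groth.Statements.S5766
import Mathlib
import Groth.Agent.VarDim.Algebra

set_option autoImplicit false
universe u
open EGA41

namespace Groth.Agent.S5766

/-- Let A be a Noetherian ring, ρ : A → B a ring homomorphism and M a B-module which is finitely
generated as an A-module via ρ. Then the dimension of M as an A-module equals its dimension as a
B-module. -/
theorem result (A B : Type u) [CommRing A] [CommRing B] [IsNoetherianRing A]
    [Algebra A B] (M : Type u) [AddCommGroup M] [Module B M] [Module A M] [IsScalarTower A B M]
    [Module.Finite A M] : Module.supportDim A M = Module.supportDim B M := by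
  haveI : Module.Finite B M := Module.Finite.of_restrictScalars_finite A B M
  rw [Module.supportDim_eq_ringKrullDim_quotient_annihilator,
    Module.supportDim_eq_ringKrullDim_quotient_annihilator]
  let g : A ⧸ Module.annihilator A M →+* B ⧸ Module.annihilator B M :=
    Ideal.quotientMap (Module.annihilator B M) (algebraMap A B) (fun a ha => by
      rw [Ideal.mem_comap, Module.mem_annihilator]
      intro m
      rw [algebraMap_smul]
      exact Module.mem_annihilator.mp ha m)
  have hg : Function.Injective g := Ideal.quotientMap_injective' (fun a ha => by
    rw [Module.mem_annihilator]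
    intro m
    rw [← algebraMap_smul B a m]
    exact Module.mem_annihilator.mp (Ideal.mem_comap.mp ha) m)
  letI := g.toAlgebra
  haveI : IsScalarTower A (A ⧸ Module.annihilator A M) (B ⧸ Module.annihilator B M) :=
    IsScalarTower.of_algebraMap_eq fun a => rfl
  haveI : Module.Finite A (B ⧸ Module.annihilator B M) := by
    let f : B →ₗ[A] (M →ₗ[A] M) :=
      { toFun := fun b => DistribSMul.toLinearMap A M b
        map_add' := fun b c => LinearMap.ext fun m => add_smul b c m
        map_smul' := fun a b => LinearMap.ext fun m => smul_assoc a b m }
    let f' : (B ⧸ Module.annihilator B M) →ₗ[A] (M →ₗ[A] M) :=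
      (Submodule.liftQ ((Module.annihilator B M).restrictScalars A) f (fun b hb =>
        LinearMap.mem_ker.mpr (LinearMap.ext fun m => Module.mem_annihilator.mp hb m))) ∘ₗ
        ((Submodule.Quotient.restrictScalarsEquiv A (Module.annihilator B M)).symm.toLinearMap)
    refine Module.Finite.of_injective f' ?_
    rw [injective_iff_map_eq_zero]
    intro x hx
    obtain ⟨b, rfl⟩ := Ideal.Quotient.mk_surjective x
    rw [Ideal.Quotient.eq_zero_iff_mem, Module.mem_annihilator]
    exact fun m => LinearMap.congr_fun hx m
  haveI : Module.Finite (A ⧸ Module.annihilator A M) (B ⧸ Module.annihilator B M) :=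
    Module.Finite.of_restrictScalars_finite A _ _
  haveI : FaithfulSMul (A ⧸ Module.annihilator A M) (B ⧸ Module.annihilator B M) :=
    (faithfulSMul_iff_algebraMap_injective _ _).mpr hg
  exact (Groth.Agent.VarDim.ringKrullDim_eq_of_isIntegral (R := A ⧸ Module.annihilator A M)
    (S := B ⧸ Module.annihilator B M)).symm

end Groth.Agent.S5766
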