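import Groth.Statements.S5768
import Mathlib
import Groth.Agent.EGA41Lib.Params

set_option autoImplicit false
universe u
open EGA41

namespace Groth.Agent.S5768

/-- Let A be a semi-local Noetherian ring with Jacobson radical r, M a nonzero finitely generated
A-module and x_1, ..., x_k elements of r. One always has dim(M/(x_1 M + ... + x_k M)) ≥ dim(M) - k,
and equality holds if and only if there exist further elements of r which together with the x_i form
a system of parameters for M (dim(M) elements of r modulo which M has finite length). -/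
theorem result (A : Type u) [CommRing A]
    [IsNoetherianRing A] [Finite (MaximalSpectrum A)] (M : Type u) [AddCommGroup M] [Module A M]
    [Module.Finite A M] [Nontrivial M] (xs : List A) (hxs : ∀ x ∈ xs, x ∈ Ring.jacobson A) :
    Module.supportDim A (M ⧸ (Ideal.ofList xs • (⊤ : Submodule A M))) + xs.length = Module.supportDim A M ↔
      ∃ ys : List A, (∀ y ∈ ys, y ∈ Ring.jacobson A) ∧
        ((xs ++ ys).length : WithBot ℕ∞) = Module.supportDim A M ∧
        IsFiniteLength A (M ⧸ (Ideal.ofList (xs ++ ys) • (⊤ : Submodule A M))) := by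
  set N := M ⧸ (Ideal.ofList xs • (⊤ : Submodule A M))
  haveI : Nontrivial N := Groth.Agent.EGA41Lib.nontrivial_quotient_of_mem_jacobson
    (Groth.Agent.EGA41Lib.ofList_le_jacobson hxs)
  obtain ⟨d, hd⟩ := Groth.Agent.EGA41Lib.exists_supportDim_eq_natCast (A := A) M
  obtain ⟨e, he⟩ := Groth.Agent.EGA41Lib.exists_supportDim_eq_natCast (A := A) N
  -- `(M/xs)/ys = M/(xs ++ ys)`
  have key : ∀ ys : List A, Nonempty ((N ⧸ (Ideal.ofList ys • (⊤ : Submodule A N))) ≃ₗ[A]
      (M ⧸ (Ideal.ofList (xs ++ ys) • (⊤ : Submodule A M)))) := by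
    intro ys
    refine ⟨(Submodule.quotEquivOfEq _ ((Ideal.ofList (xs ++ ys) • (⊤ : Submodule A M)).map
        (Ideal.ofList xs • (⊤ : Submodule A M)).mkQ) ?_).trans
      (Submodule.quotientQuotientEquivQuotient _ _ ?_)⟩
    · rw [Ideal.ofList_append, Submodule.map_smul'', Submodule.map_top, Submodule.range_mkQ,
        Submodule.sup_smul]
      refine (sup_eq_right.mpr ?_).symm
      refine Submodule.smul_le.mpr fun r hr n _ => ?_
      obtain ⟨m, rfl⟩ := Submodule.Quotient.mk_surjective _ n
      rw [← Submodule.Quotient.mk_smul, (Submodule.Quotient.mk_eq_zero _).mpr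
        (Submodule.smul_mem_smul hr Submodule.mem_top)]
      exact zero_mem _
    · rw [Ideal.ofList_append]
      exact Submodule.smul_mono le_sup_left le_rfl
  constructor
  · intro heq
    obtain ⟨ys, hys, hlen, hfl⟩ := Groth.Agent.EGA41Lib.exists_parameters e N he.le
      (by rw [he]; exact_mod_cast Nat.zero_le e)
    refine ⟨ys, hys, ?_, ?_⟩
    · rw [List.length_append, Nat.cast_add, hlen, add_comm, heq]
    · obtain ⟨eq⟩ := key ys
      rw [Groth.Agent.EGA41Lib.isFiniteLength_iff_supportDim_le_zero] at hfl ⊢
      rwa [← Module.supportDim_eq_of_equiv eq]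
  · rintro ⟨ys, hys, hlen, hfl⟩
    obtain ⟨eq⟩ := key ys
    rw [Groth.Agent.EGA41Lib.isFiniteLength_iff_supportDim_le_zero,
      ← Module.supportDim_eq_of_equiv eq] at hfl
    refine le_antisymm ?_ (Groth.Agent.EGA41Lib.supportDim_le_quotient_add_length xs M hxs)
    refine (add_le_add ((Groth.Agent.EGA41Lib.supportDim_le_quotient_add_length ys N hys).trans
      (add_le_add hfl le_rfl)) le_rfl).trans ?_
    rw [zero_add, ← Nat.cast_add, add_comm, ← List.length_append]
    exact hlen.le

end Groth.Agent.S5768
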