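import Groth.Statements.S5770
import Mathlib
import Groth.Agent.Dim.LocalHom

set_option autoImplicit false
universe u
open EGA41

namespace Groth.Agent.S5770

open TensorProduct

open TensorProduct in
/-- Let φ : A → B be a local homomorphism of Noetherian local rings, m the maximal ideal of A, k = A/m,
M a finitely generated A-module and N a finitely generated B-module. Then dim_B(M ⊗_A N) ≤ dim_A(M)
+ dim(N ⊗_A k), the last dimension being that of N/mN (over B ⊗_A k or, equivalently by finiteness,
over B). -/
theorem result (A B : Type u) [CommRing A] [CommRing B] [IsLocalRing A]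
    [IsLocalRing B] [IsNoetherianRing A] [IsNoetherianRing B] [Algebra A B] [IsLocalHom (algebraMap A B)]
    (M : Type u) [AddCommGroup M] [Module A M] [Module.Finite A M] (N : Type u) [AddCommGroup N] [Module B N]
    [Module A N] [IsScalarTower A B N] [Module.Finite B N] :
    Module.supportDim B (N ⊗[A] M) ≤ Module.supportDim A M +
      Module.supportDim B (N ⧸ ((IsLocalRing.maximalIdeal A).map (algebraMap A B) • (⊤ : Submodule B N))) := by
  rcases subsingleton_or_nontrivial M with hM | hM
  · exact le_of_eq_of_le (Module.supportDim_eq_bot_of_subsingleton _ _) bot_le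
  rcases subsingleton_or_nontrivial N with hN | hN
  · exact le_of_eq_of_le (Module.supportDim_eq_bot_of_subsingleton _ _) bot_le
  let I := Module.annihilator A M
  let K := Module.annihilator B N ⊔ I.map (algebraMap A B)
  have hI : I ≤ IsLocalRing.maximalIdeal A := IsLocalRing.le_maximalIdeal fun h =>
    not_subsingleton M (Module.annihilator_eq_top_iff.1 h)
  have hJ : Module.annihilator B N ≤ IsLocalRing.maximalIdeal B := IsLocalRing.le_maximalIdeal fun h =>
    not_subsingleton N (Module.annihilator_eq_top_iff.1 h)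
  have hK : K ≤ IsLocalRing.maximalIdeal B :=
    sup_le hJ ((Ideal.map_mono hI).trans (IsLocalRing.map_maximalIdeal_le (algebraMap A B)))
  have hsupp : Module.support B (N ⊗[A] M) = PrimeSpectrum.zeroLocus (K : Set B) := by
    rw [Groth.Agent.Dim.support_tensor A B N M, Module.support_eq_zeroLocus, Module.support_eq_zeroLocus,
      PrimeSpectrum.preimage_comap_zeroLocus, PrimeSpectrum.zeroLocus_sup, Ideal.map,
      PrimeSpectrum.zeroLocus_span]
  letI : Algebra (A ⧸ I) (B ⧸ K) := (Ideal.quotientMap K (algebraMap A B)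
    (Ideal.map_le_iff_le_comap.1 le_sup_right)).toAlgebra
  haveI : Nontrivial (A ⧸ I) :=
    Ideal.Quotient.nontrivial_iff.2 (ne_top_of_le_ne_top Ideal.IsPrime.ne_top' hI)
  haveI : Nontrivial (B ⧸ K) :=
    Ideal.Quotient.nontrivial_iff.2 (ne_top_of_le_ne_top Ideal.IsPrime.ne_top' hK)
  haveI : IsLocalRing (A ⧸ I) :=
    IsLocalRing.of_surjective' (Ideal.Quotient.mk I) Ideal.Quotient.mk_surjective
  haveI : IsLocalRing (B ⧸ K) :=
    IsLocalRing.of_surjective' (Ideal.Quotient.mk K) Ideal.Quotient.mk_surjective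
  have hsq : (algebraMap (A ⧸ I) (B ⧸ K)).comp (Ideal.Quotient.mk I) =
      (Ideal.Quotient.mk K).comp (algebraMap A B) := RingHom.ext fun a => rfl
  haveI : IsLocalHom (algebraMap (A ⧸ I) (B ⧸ K)) := by
    refine ⟨fun x hx => ?_⟩
    obtain ⟨a, rfl⟩ := Ideal.Quotient.mk_surjective x
    rw [← RingHom.comp_apply, hsq, RingHom.comp_apply] at hx
    haveI : IsLocalHom (Ideal.Quotient.mk K) := .of_surjective _ Ideal.Quotient.mk_surjective
    exact ((isUnit_of_map_unit (algebraMap A B) a (isUnit_of_map_unit (Ideal.Quotient.mk K) _ hx))).map _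
  rw [Groth.Agent.Dim.supportDim_eq_ringKrullDim_of_support_eq hsupp,
    Module.supportDim_eq_ringKrullDim_quotient_annihilator]
  refine (Groth.Agent.Dim.ringKrullDim_le_add_fibre (A ⧸ I) (B ⧸ K)).trans (add_le_add le_rfl (le_of_eq ?_))
  have hmap : (IsLocalRing.maximalIdeal (A ⧸ I)).map (algebraMap (A ⧸ I) (B ⧸ K)) =
      ((IsLocalRing.maximalIdeal A).map (algebraMap A B)).map (Ideal.Quotient.mk K) := by
    rw [Ideal.map_map, ← hsq, ← Ideal.map_map]
    congr 1
    exact (IsLocalRing.eq_maximalIdeal (Ideal.IsMaximal.map_of_surjective_of_ker_le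
      Ideal.Quotient.mk_surjective (by rwa [Ideal.mk_ker]))).symm
  rw [ringKrullDim_eq_of_ringEquiv ((Ideal.quotEquivOfEq hmap).trans
    (DoubleQuot.quotQuotEquivQuotSup K ((IsLocalRing.maximalIdeal A).map (algebraMap A B))))]
  refine (Groth.Agent.Dim.supportDim_eq_ringKrullDim_of_support_eq ?_).symm
  rw [Module.support_quotient, Module.support_eq_zeroLocus, ← PrimeSpectrum.zeroLocus_sup,
    sup_assoc, sup_eq_right.2 (Ideal.map_mono (f := algebraMap A B) hI)]

end Groth.Agent.S5770
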