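import Groth.Statements.S5771
import Mathlib
import Groth.Agent.Dim.LocalHom

set_option autoImplicit false
universe u
open EGA41

namespace Groth.Agent.S5771

/-- Let φ : A → B be a local homomorphism of Noetherian local rings, m the maximal ideal of A, and
suppose mB is an ideal of definition of B (equivalently dim(B/mB) = 0). Then dim(B) ≤ dim(A); if
moreover A is an integral domain and dim(A) = dim(B), then φ is injective. -/
theorem result (A B : Type u) [CommRing A] [CommRing B]
    [IsLocalRing A] [IsLocalRing B] [IsNoetherianRing A] [IsNoetherianRing B] [Algebra A B]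
    [IsLocalHom (algebraMap A B)]
    (hdef : ringKrullDim (B ⧸ (IsLocalRing.maximalIdeal A).map (algebraMap A B)) = 0) :
    ringKrullDim B ≤ ringKrullDim A ∧
      (IsDomain A → ringKrullDim A = ringKrullDim B → Function.Injective (algebraMap A B)) := by
  have h1 := Groth.Agent.Dim.ringKrullDim_le_add_fibre A B
  rw [hdef, add_zero] at h1
  refine ⟨h1, fun _ heq => ?_⟩
  rw [injective_iff_map_eq_zero]
  intro a ha
  by_contra ha0
  have ham : a ∈ IsLocalRing.maximalIdeal A := by
    by_contra h
    exact (not_isUnit_zero (M₀ := B)) (ha ▸ (IsLocalRing.notMem_maximalIdeal.mp h).map (algebraMap A B))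
  haveI : Nontrivial (A ⧸ Ideal.span {a}) := Ideal.Quotient.nontrivial_iff.mpr
    (ne_top_of_le_ne_top Ideal.IsPrime.ne_top' ((Ideal.span_singleton_le_iff_mem _).mpr ham))
  haveI : IsLocalRing (A ⧸ Ideal.span {a}) :=
    IsLocalRing.of_surjective' (Ideal.Quotient.mk _) Ideal.Quotient.mk_surjective
  letI : Algebra (A ⧸ Ideal.span {a}) B := (Ideal.Quotient.lift (Ideal.span {a}) (algebraMap A B)
    (fun b hb => by obtain ⟨c, rfl⟩ := Ideal.mem_span_singleton.mp hb; rw [map_mul, ha, zero_mul])).toAlgebra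
  have hsq : (algebraMap (A ⧸ Ideal.span {a}) B).comp (Ideal.Quotient.mk _) = algebraMap A B :=
    RingHom.ext fun b => rfl
  haveI : IsLocalHom (algebraMap (A ⧸ Ideal.span {a}) B) := by
    refine ⟨fun x hx => ?_⟩
    obtain ⟨b, rfl⟩ := Ideal.Quotient.mk_surjective x
    exact (isUnit_of_map_unit (algebraMap A B) b hx).map _
  have h2 := Groth.Agent.Dim.ringKrullDim_le_add_fibre (A ⧸ Ideal.span {a}) B
  have hmap : (IsLocalRing.maximalIdeal (A ⧸ Ideal.span {a})).map (algebraMap (A ⧸ Ideal.span {a}) B) =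
      (IsLocalRing.maximalIdeal A).map (algebraMap A B) := by
    rw [← hsq, ← Ideal.map_map]
    congr 1
    exact (IsLocalRing.eq_maximalIdeal (Ideal.IsMaximal.map_of_surjective_of_ker_le
      Ideal.Quotient.mk_surjective (by rw [Ideal.mk_ker, Ideal.span_singleton_le_iff_mem]; exact ham))).symm
  rw [hmap, hdef, add_zero, ← heq] at h2
  have h3 := ringKrullDim_quotient_succ_le_of_nonZeroDivisor (mem_nonZeroDivisors_of_ne_zero ha0)
  have hlt : ringKrullDim A < ⊤ := ringKrullDim_lt_top
  generalize hd : ringKrullDim A = d at h2 h3 hlt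
  have hd0 : (0 : WithBot ℕ∞) ≤ d := hd ▸ ringKrullDim_nonneg_of_nontrivial
  have h4 : d + 1 ≤ d := le_trans (add_le_add h2 le_rfl) h3
  match d, hd0, hlt, h4 with
  | ⊥, h, _, _ => simp at h
  | ((⊤ : ℕ∞) : WithBot ℕ∞), _, h, _ => exact lt_irrefl _ h
  | ((n : ℕ) : ℕ∞), _, _, h =>
    have : n + 1 ≤ n := by exact_mod_cast h
    omega

end Groth.Agent.S5771
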