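import Groth.Statements.S5801
import Mathlib

set_option autoImplicit false
universe u
open scoped Pointwise
open EGA41

namespace Groth.Agent.S5801

/-- Let A be a ring, M an A-module and f ∈ A, and consider the canonical surjection (M/fM)[T] → gr(M)
for the (f)-adic filtration, whose injectivity says: for all k ≥ 0 and x ∈ M, f^k x ∈ f^(k+1) M
implies x ∈ fM. If f is M-regular this map is bijective; conversely, if it is bijective and M is
separated for the (f)-adic topology (the intersection of the f^k M is zero), then f is M-regular. -/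
theorem result (A : Type u) [CommRing A] (M : Type u)
    [AddCommGroup M] [Module A M] (f : A) :
    (IsSMulRegular M f →
        ∀ (k : ℕ) (x : M), f ^ k • x ∈ f ^ (k + 1) • (⊤ : Submodule A M) → x ∈ f • (⊤ : Submodule A M)) ∧
      ((⨅ k : ℕ, f ^ k • (⊤ : Submodule A M)) = ⊥ →
        (∀ (k : ℕ) (x : M), f ^ k • x ∈ f ^ (k + 1) • (⊤ : Submodule A M) → x ∈ f • (⊤ : Submodule A M)) →
          IsSMulRegular M f) := by
  have key : ∀ (k : ℕ) (x : M), x ∈ f ^ k • (⊤ : Submodule A M) ↔ ∃ y, f ^ k • y = x := fun k x =>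
    ⟨fun h => by obtain ⟨y, -, hy⟩ := h; exact ⟨y, hy⟩, fun ⟨y, hy⟩ => ⟨y, trivial, hy⟩⟩
  refine ⟨fun hf k x hx => ?_, fun hsep hinj => ?_⟩
  · obtain ⟨y, hy⟩ := (key _ _).1 hx
    rw [pow_succ, mul_smul] at hy
    exact ⟨y, trivial, hf.pow k hy⟩
  · rw [isSMulRegular_iff_right_eq_zero_of_smul]
    intro x hx
    have h : x ∈ ⨅ k : ℕ, f ^ k • (⊤ : Submodule A M) := Submodule.mem_iInf _ |>.2 fun k => by
      induction k with
      | zero => exact (key _ _).2 ⟨x, by rw [pow_zero, one_smul]⟩
      | succ k ih =>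
        obtain ⟨y, hy⟩ := (key _ _).1 ih
        have h1 : f ^ (k + 1) • y ∈ f ^ (k + 1 + 1) • (⊤ : Submodule A M) :=
          (key _ _).2 ⟨0, by rw [smul_zero, pow_succ', mul_smul, hy, hx]⟩
        obtain ⟨z, -, hz⟩ := hinj (k + 1) y h1
        refine (key _ _).2 ⟨z, ?_⟩
        rw [pow_succ, mul_smul, ← hy]
        exact congrArg _ hz
    rwa [hsep, Submodule.mem_bot] at h

end Groth.Agent.S5801
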