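import Groth.Statements.S5772
import Mathlib
import Groth.Agent.S5801

set_option autoImplicit false
universe u
open scoped Pointwise
open EGA41

namespace Groth.Agent.S5772

/-- Let A be a Noetherian ring, M a finitely generated A-module and f an element of A. Then f is
M-regular (multiplication by f on M is injective) if and only if f is M-quasi-regular, i.e. the
canonical surjection (M/fM)[T] → gr(M) for the (f)-adic filtration is bijective, which amounts to:
for every k ≥ 0 and x ∈ M, f^k x ∈ f^(k+1) M implies x ∈ fM. -/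
theorem result (A : Type u) [CommRing A] [IsNoetherianRing A] (M : Type u)
    [AddCommGroup M] [Module A M] [Module.Finite A M] (f : A) :
    IsSMulRegular M f ↔
      ∀ (k : ℕ) (x : M), f ^ k • x ∈ f ^ (k + 1) • (⊤ : Submodule A M) → x ∈ f • (⊤ : Submodule A M) := by
  refine ⟨(S5801.result A M f).1, fun hinj => ?_⟩
  rw [isSMulRegular_iff_right_eq_zero_of_smul]
  intro x hx
  have hk : ∀ k : ℕ, x ∈ f ^ k • (⊤ : Submodule A M) := by
    intro k
    induction k with
    | zero => exact ⟨x, trivial, by simp⟩
    | succ k ih =>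
      obtain ⟨y, -, hy⟩ := ih
      obtain ⟨z, -, hz⟩ := hinj (k + 1) y ⟨0, trivial, by
        change f ^ (k + 1 + 1) • (0 : M) = f ^ (k + 1) • y
        change f ^ k • y = x at hy
        rw [smul_zero, pow_succ', mul_smul, hy, hx]⟩
      refine ⟨z, trivial, ?_⟩
      change f ^ (k + 1) • z = x
      rw [pow_succ, mul_smul, ← hy]
      exact congrArg _ hz
  have h : x ∈ ⨅ k : ℕ, Ideal.span {f} ^ k • (⊤ : Submodule A M) := by
    rw [Submodule.mem_iInf]
    intro k
    rw [Ideal.span_singleton_pow, Submodule.ideal_span_singleton_smul]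
    exact hk k
  obtain ⟨⟨r, hr⟩, hrx⟩ := (Ideal.mem_iInf_smul_pow_eq_bot_iff _ x).1 h
  obtain ⟨a, rfl⟩ := Ideal.mem_span_singleton.1 hr
  change (f * a) • x = x at hrx
  rw [← hrx, mul_comm, mul_smul, hx, smul_zero]

end Groth.Agent.S5772
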