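import Groth.Statements.S5773
import Mathlib
import Groth.Agent.EGA41Lib.RegFlat

set_option autoImplicit false
universe u
open EGA41

namespace Groth.Agent.S5773

open Groth.Agent.EGA41Lib in
theorem aux (A B : Type u) [CommRing A] [CommRing B] [IsLocalRing A] [IsLocalRing B] [IsNoetherianRing A]
    [IsNoetherianRing B] [Algebra A B] [IsLocalHom (algebraMap A B)] :
    ∀ (fs : List B) (M : Type u) [AddCommGroup M] [Module B M] [Module A M] [IsScalarTower A B M]
      [Module.Finite B M], (∀ f ∈ fs, f ∈ IsLocalRing.maximalIdeal B) →
      RingTheory.Sequence.IsWeaklyRegular M fs →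
      Module.Flat A (M ⧸ (Ideal.ofList fs • (⊤ : Submodule B M))) →
      ∀ i, Module.Flat A (M ⧸ (Ideal.ofList (fs.take i) • (⊤ : Submodule B M))) := by
  intro fs
  induction fs with
  | nil => intro M _ _ _ _ _ _ _ hflat i; rw [List.take_nil]; exact hflat
  | cons f fs ih =>
    intro M _ _ _ _ _ hfs hreg hflat i
    obtain ⟨hreg1, hreg2⟩ := (RingTheory.Sequence.isWeaklyRegular_cons_iff M f fs).mp hreg
    have hfs' : ∀ g ∈ fs, g ∈ IsLocalRing.maximalIdeal B := fun g hg => hfs g (List.mem_cons_of_mem _ hg)
    let e := fun l : List B => (Submodule.quotOfListConsSMulTopEquivQuotSMulTopInner M f l).restrictScalars A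
    haveI := hflat
    have hall := ih (QuotSMulTop f M) hfs' hreg2 (Module.Flat.of_linearEquiv (e fs).symm)
    cases i with
    | zero =>
      rw [List.take_zero]
      haveI := hall 0
      rw [List.take_zero] at this
      haveI : Module.Flat A (QuotSMulTop f M) := Module.Flat.of_linearEquiv
        ((Submodule.quotEquivOfEqBot (Ideal.ofList ([] : List B) • (⊤ : Submodule B (QuotSMulTop f M)))
          (by rw [Ideal.ofList_nil, Submodule.bot_smul])).restrictScalars A).symm
      haveI := flat_of_flat_quotSMulTop (A := A) f (hfs f List.mem_cons_self) hreg1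
      exact Module.Flat.of_linearEquiv ((Submodule.quotEquivOfEqBot (Ideal.ofList ([] : List B) • (⊤ : Submodule B M))
          (by rw [Ideal.ofList_nil, Submodule.bot_smul])).restrictScalars A)
    | succ i =>
      rw [List.take_succ_cons]
      haveI := hall i
      exact Module.Flat.of_linearEquiv (e (fs.take i))


/-- Let A → B be a local homomorphism of Noetherian local rings, M a finitely generated B-module and
f_1, ..., f_n elements of the maximal ideal of B forming an M-regular sequence. If the quotient
M/(f_1 M + ... + f_n M) is flat over A, then all the quotients M/(f_1 M + ... + f_i M) for 0 ≤ i ≤ n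
(in particular M) are flat over A. -/
theorem result (A B : Type u) [CommRing A] [CommRing B]
    [IsLocalRing A] [IsLocalRing B] [IsNoetherianRing A] [IsNoetherianRing B] [Algebra A B]
    [IsLocalHom (algebraMap A B)] (M : Type u) [AddCommGroup M] [Module B M] [Module A M]
    [IsScalarTower A B M] [Module.Finite B M] (fs : List B) (hfs : ∀ f ∈ fs, f ∈ IsLocalRing.maximalIdeal B)
    (hreg : RingTheory.Sequence.IsWeaklyRegular M fs)
    (hflat : Module.Flat A (M ⧸ (Ideal.ofList fs • (⊤ : Submodule B M)))) (i : ℕ) (hi : i ≤ fs.length) :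
    Module.Flat A (M ⧸ (Ideal.ofList (fs.take i) • (⊤ : Submodule B M))) := by
  exact aux A B fs M hfs hreg hflat i

end Groth.Agent.S5773
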