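import Groth.Statements.S5775
import Mathlib
import Groth.Agent.EGA41Lib.RegFlat
import Groth.Agent.S5774

set_option autoImplicit false
universe u
open EGA41

namespace Groth.Agent.S5775

/-- Let A → B be a local homomorphism of Noetherian local rings, m the maximal ideal of A, M a finitely
generated B-module flat over A and R a B-submodule of M such that M/R is flat over A. Let f_1, ...,
f_n be elements of the maximal ideal of B such that (i) f_i M ⊆ R for all i, (ii) the images of the
f_i form an (M/mM)-regular sequence, and (iii) the submodule f_1 (M/mM) + ... + f_n (M/mM) is the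
image of R in M/mM. Then (f_i) is an M-regular sequence and R = f_1 M + ... + f_n M. -/
theorem result (A B : Type u) [CommRing A] [CommRing B] [IsLocalRing A]
    [IsLocalRing B] [IsNoetherianRing A] [IsNoetherianRing B] [Algebra A B] [IsLocalHom (algebraMap A B)]
    (M : Type u) [AddCommGroup M] [Module B M] [Module A M] [IsScalarTower A B M] [Module.Finite B M]
    [Module.Flat A M] (R : Submodule B M) (hR : Module.Flat A (M ⧸ R)) (fs : List B)
    (hfs : ∀ f ∈ fs, f ∈ IsLocalRing.maximalIdeal B) (h1 : Ideal.ofList fs • (⊤ : Submodule B M) ≤ R)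
    (h2 : RingTheory.Sequence.IsWeaklyRegular
      (M ⧸ ((IsLocalRing.maximalIdeal A).map (algebraMap A B) • (⊤ : Submodule B M))) fs)
    (h3 : Ideal.ofList fs • (⊤ : Submodule B
        (M ⧸ ((IsLocalRing.maximalIdeal A).map (algebraMap A B) • (⊤ : Submodule B M)))) =
      R.map ((IsLocalRing.maximalIdeal A).map (algebraMap A B) • (⊤ : Submodule B M)).mkQ) :
    RingTheory.Sequence.IsWeaklyRegular M fs ∧ R = Ideal.ofList fs • (⊤ : Submodule B M) := by
  obtain ⟨hreg, hflat⟩ := Groth.Agent.S5774.result A B M fs h2
  refine ⟨hreg, le_antisymm ?_ h1⟩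
  set J := Ideal.ofList fs • (⊤ : Submodule B M)
  set m := IsLocalRing.maximalIdeal A
  set mB := m.map (algebraMap A B)
  haveI := hR
  haveI : IsNoetherian B M := isNoetherian_of_isNoetherianRing_of_finite B M
  refine Submodule.le_of_le_smul_of_le_jacobson_bot (I := mB) (IsNoetherian.noetherian R)
    ((IsLocalRing.map_maximalIdeal_le (algebraMap A B)).trans (IsLocalRing.maximalIdeal_le_jacobson _)) ?_
  intro r hr
  -- `r = j + (element of R ∩ 𝔪M)`
  have hr' : (mB • (⊤ : Submodule B M)).mkQ r ∈ Ideal.ofList fs • (⊤ : Submodule B (M ⧸ (mB • (⊤ : Submodule B M)))) := by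
    rw [h3]; exact Submodule.mem_map_of_mem hr
  rw [← Submodule.range_mkQ (mB • (⊤ : Submodule B M)), ← Submodule.map_top, ← Submodule.map_smul'',
    Submodule.mem_map] at hr'
  obtain ⟨j, hj, hjr⟩ := hr'
  have hrj : r - j ∈ mB • (⊤ : Submodule B M) := by
    rw [← Submodule.Quotient.mk_eq_zero, Submodule.Quotient.mk_sub]
    exact sub_eq_zero.mpr hjr.symm
  have hmem : r - j ∈ R := R.sub_mem hr (h1 hj)
  -- purity
  have hp : (⟨r - j, hmem⟩ : R) ∈ m • (⊤ : Submodule A R) := by
    refine Groth.Agent.LocFlat.Artinian.mem_smul_top_of_flat_coker (C := M ⧸ R) m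
      (R.subtype.restrictScalars A) (R.mkQ.restrictScalars A) (fun x => ?_) (Submodule.mkQ_surjective R)
      Subtype.val_injective _ ?_
    · simp [Submodule.Quotient.mk_eq_zero]
    · rw [Groth.Agent.EGA41Lib.smul_top_restrictScalars (B := B), Submodule.restrictScalars_mem]
      exact hrj
  rw [Groth.Agent.EGA41Lib.smul_top_restrictScalars (B := B), Submodule.restrictScalars_mem] at hp
  have hp2 := Submodule.mem_map_of_mem (f := R.subtype) hp
  rw [Submodule.map_smul'', Submodule.map_top, Submodule.range_subtype] at hp2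
  refine Submodule.mem_sup.mpr ⟨j, hj, r - j, hp2, by abel⟩

end Groth.Agent.S5775
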