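import Groth.Statements.S5777
import Mathlib
import Groth.Agent.NormFlatReg.Basic
import Groth.Agent.LocFlat.Basic

set_option autoImplicit false
universe u
open EGA41

namespace Groth.Agent.S5777

open TensorProduct

/-- Let φ : A → B be a local homomorphism of Noetherian local rings, M a finitely generated B-module and
(f_i)_{1 ≤ i ≤ n} an A-regular sequence of elements of the maximal ideal of A, generating the ideal
J. Then M is flat over A if and only if M/JM is flat over A/J and (f_i) is an M-regular sequence. -/
theorem result (A B : Type u) [CommRing A] [CommRing B]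
    [IsLocalRing A] [IsLocalRing B] [IsNoetherianRing A] [IsNoetherianRing B] [Algebra A B]
    [IsLocalHom (algebraMap A B)] (M : Type u) [AddCommGroup M] [Module B M] [Module A M]
    [IsScalarTower A B M] [Module.Finite B M] (fs : List A) (hfs : ∀ f ∈ fs, f ∈ IsLocalRing.maximalIdeal A)
    (hA : RingTheory.Sequence.IsWeaklyRegular A fs) :
    Module.Flat A M ↔
      Module.Flat (A ⧸ Ideal.ofList fs) (M ⧸ (Ideal.ofList fs • (⊤ : Submodule A M))) ∧
        RingTheory.Sequence.IsWeaklyRegular M fs := by
  let e : ((A ⧸ Ideal.ofList fs) ⊗[A] M) ≃ₗ[A ⧸ Ideal.ofList fs] (M ⧸ (Ideal.ofList fs • (⊤ : Submodule A M))) :=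
    LinearEquiv.extendScalarsOfSurjective (Ideal.Quotient.mk_surjective (I := Ideal.ofList fs))
      (TensorProduct.quotTensorEquivQuotSMul M (Ideal.ofList fs))
  constructor
  · intro h
    refine ⟨Module.Flat.of_linearEquiv e.symm, ?_⟩
    have := hA.isWeaklyRegular_rTensor (M₂ := M)
    exact ((TensorProduct.lid A M).isWeaklyRegular_congr fs).mp this
  · rintro ⟨h2, hM⟩
    refine Groth.Agent.LocFlat.flat_criterion (S := B) M (Ideal.ofList fs) ?_
      (Groth.Agent.NormFlatReg.rTensor_injective_of_regular fs hA hM) (Module.Flat.of_linearEquiv e)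
    refine (Ideal.map_mono (Ideal.span_le.mpr hfs)).trans ?_
    exact (IsLocalRing.map_maximalIdeal_le (algebraMap A B)).trans (IsLocalRing.maximalIdeal_le_jacobson _)

end Groth.Agent.S5777
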