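import Groth.Statements.S5778
import Mathlib
import Groth.Agent.EGA41Lib.QuasiRegular
import Groth.Agent.RegLoc.Basic
import Groth.Agent.Depth.Local
import Groth.Agent.S5802
import Groth.Agent.S5803

set_option autoImplicit false
universe u
open EGA41

namespace Groth.Agent.S5778

open MvPolynomial in
theorem gr_setup (A : Type u) [CommRing A] [IsLocalRing A] {r : ℕ} (g : Fin r → A)
    (hg : Ideal.span (Set.range g) = IsLocalRing.maximalIdeal A) (n : ℕ) :
    ∃ (F : (↥(Finset.univ.finsuppAntidiag n : Finset (Fin r →₀ ℕ)) → A ⧸ IsLocalRing.maximalIdeal A) →ₗ[A]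
        (A ⧸ IsLocalRing.maximalIdeal A ^ (n + 1))),
      (Module.length A (A ⧸ IsLocalRing.maximalIdeal A ^ (n + 1)) =
        Module.length A (LinearMap.range F) + Module.length A (A ⧸ IsLocalRing.maximalIdeal A ^ n)) ∧
      (∀ (P : MvPolynomial (Fin r) A), P.IsHomogeneous n →
        F (fun d => Submodule.Quotient.mk (P.coeff d.1)) = Submodule.Quotient.mk (eval g P)) ∧
      (∀ c, ∃ P : MvPolynomial (Fin r) A, P.IsHomogeneous n ∧
        (fun d : ↥(Finset.univ.finsuppAntidiag n : Finset (Fin r →₀ ℕ)) =>
          (Submodule.Quotient.mk (P.coeff d.1) : A ⧸ IsLocalRing.maximalIdeal A)) = c) := by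
  classical
  set m := IsLocalRing.maximalIdeal A
  set D := (Finset.univ.finsuppAntidiag n : Finset (Fin r →₀ ℕ))
  have hD : ∀ d : Fin r →₀ ℕ, d ∈ D ↔ d.degree = n := fun d => by
    simp [D, Finset.mem_finsuppAntidiag, Finsupp.degree_eq_sum]
  let mon : (Fin r →₀ ℕ) → A := fun d => eval g (monomial d 1)
  have hmon : ∀ d ∈ D, mon d ∈ m ^ n := fun d hd => by
    have := Groth.Agent.EGA41Lib.QReg.eval_mem (f := g) (s := Set.univ) (n := n) (P := monomial d (1 : A))
      ⟨isHomogeneous_monomial _ ((hD d).mp hd), fun _ _ _ _ => trivial⟩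
    simpa [Groth.Agent.EGA41Lib.QReg.J, Set.image_univ, hg] using this
  let F : (↥D → A ⧸ m) →ₗ[A] (A ⧸ m ^ (n + 1)) :=
    LinearMap.lsum A (fun _ : ↥D => A ⧸ m) A fun d =>
      Submodule.liftQ m ((Submodule.mkQ (m ^ (n + 1))).comp (LinearMap.mulRight A (mon d.1))) (fun x hx => by
        simp only [LinearMap.mem_ker, LinearMap.comp_apply, Submodule.mkQ_apply,
          Submodule.Quotient.mk_eq_zero, LinearMap.mulRight_apply]
        rw [pow_succ']
        exact Ideal.mul_mem_mul hx (hmon d.1 d.2))
  have hFP : ∀ (P : MvPolynomial (Fin r) A), P.IsHomogeneous n →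
      F (fun d => Submodule.Quotient.mk (P.coeff d.1)) = Submodule.Quotient.mk (eval g P) := by
    intro P hP
    have hsupp : P.support ⊆ D := fun d hd => (hD d).mpr (by
      have := hP (mem_support_iff.mp hd)
      simpa [Finsupp.degree_eq_weight_one, Pi.one_def] using this)
    have hPsum : P = ∑ d ∈ D, monomial d (P.coeff d) := by
      conv_lhs => rw [P.as_sum]
      exact Finset.sum_subset hsupp fun d _ hd => by rw [notMem_support_iff.mp hd, map_zero]
    conv_rhs => rw [hPsum, map_sum, ← Submodule.mkQ_apply, map_sum, ← Finset.sum_coe_sort]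
    simp only [F, LinearMap.lsum_apply, LinearMap.sum_apply]
    refine Finset.sum_congr rfl fun d _ => ?_
    rw [LinearMap.comp_apply, LinearMap.proj_apply, Submodule.liftQ_apply]
    simp [mon, eval_monomial]
  refine ⟨F, ?_, hFP, fun c => ?_⟩
  · let G : (A ⧸ m ^ (n + 1)) →ₗ[A] (A ⧸ m ^ n) := Submodule.factor (Ideal.pow_le_pow_right (Nat.le_succ n))
    have hFG : LinearMap.range F = LinearMap.ker G := by
      refine le_antisymm ?_ fun z hz => ?_
      · rintro _ ⟨c, rfl⟩
        simp only [F, LinearMap.lsum_apply, LinearMap.sum_apply]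
        refine Submodule.sum_mem _ fun d _ => ?_
        obtain ⟨x, hx⟩ := Submodule.Quotient.mk_surjective _ (c d)
        rw [LinearMap.comp_apply, LinearMap.proj_apply, ← hx, LinearMap.mem_ker]
        simp only [Submodule.liftQ_apply, LinearMap.comp_apply, Submodule.mkQ_apply, G,
          LinearMap.mulRight_apply]
        show Submodule.Quotient.mk (x * mon d.1) = 0
        rw [Submodule.Quotient.mk_eq_zero]
        exact Ideal.mul_mem_left _ x (hmon d.1 d.2)
      · obtain ⟨z, rfl⟩ := Submodule.Quotient.mk_surjective _ z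
        have hz' : z ∈ m ^ n := by
          rw [LinearMap.mem_ker] at hz
          exact (Submodule.Quotient.mk_eq_zero _).mp hz
        obtain ⟨P, hP, rfl⟩ := Groth.Agent.EGA41Lib.QReg.exists_good_eval_eq (f := g) (s := Set.univ) n z
          (by simpa [Groth.Agent.EGA41Lib.QReg.J, Set.image_univ, hg] using hz')
        exact ⟨_, hFP P hP.1⟩
    rw [hFG]
    exact Module.length_eq_add_of_exact (LinearMap.ker G).subtype G (Submodule.injective_subtype _)
      (Submodule.factor_surjective _) (LinearMap.exact_subtype_ker_map G)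
  · choose e he using fun d => Submodule.Quotient.mk_surjective m (c d)
    refine ⟨∑ d : ↥D, monomial d.1 (e d), IsHomogeneous.sum _ _ _ fun d _ =>
      isHomogeneous_monomial _ ((hD d.1).mp d.2), funext fun d => ?_⟩
    rw [coeff_sum, Finset.sum_eq_single d (fun d' _ hne => by
      rw [coeff_monomial, if_neg (fun h => hne (Subtype.ext h))]) (fun h => absurd (Finset.mem_univ d) h),
      coeff_monomial, if_pos rfl, he]

theorem length_domain (A : Type u) [CommRing A] [IsLocalRing A] {ι : Type} [Fintype ι] :
    Module.length A (ι → A ⧸ IsLocalRing.maximalIdeal A) = (Fintype.card ι : ℕ∞) := by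
  haveI : IsSimpleModule A (A ⧸ IsLocalRing.maximalIdeal A) :=
    isSimpleModule_iff_isCoatom.mpr (IsLocalRing.maximalIdeal.isMaximal A).out
  rw [Module.length_pi, ENat.card_eq_coe_fintype_card, Module.length_eq_one, mul_one]

open MvPolynomial in
theorem gr (A : Type u) [CommRing A] [IsLocalRing A] {r : ℕ} (g : Fin r → A)
    (hg : Ideal.span (Set.range g) = IsLocalRing.maximalIdeal A) (n : ℕ) (hq : CAlgX.IsQuasiRegular g) :
    Module.length A (A ⧸ IsLocalRing.maximalIdeal A ^ (n + 1)) =
      (Finset.univ.finsuppAntidiag n : Finset (Fin r →₀ ℕ)).card +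
        Module.length A (A ⧸ IsLocalRing.maximalIdeal A ^ n) ∧ True := by
  obtain ⟨F, hlen, hFP, hsurj⟩ := gr_setup A g hg n
  have hinj : Function.Injective F := by
    rw [injective_iff_map_eq_zero]
    intro c hc
    obtain ⟨P, hP, rfl⟩ := hsurj c
    rw [hFP P hP, Submodule.Quotient.mk_eq_zero, ← hg] at hc
    funext d
    rw [Pi.zero_apply, Submodule.Quotient.mk_eq_zero, ← hg]
    exact hq n P hP hc d.1
  rw [hlen, ← (LinearEquiv.ofInjective F hinj).length_eq, length_domain, Fintype.card_coe]
  exact ⟨rfl, trivial⟩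

open MvPolynomial in
theorem qr_of_length (A : Type u) [CommRing A] [IsLocalRing A] {r : ℕ} (g : Fin r → A)
    (hg : Ideal.span (Set.range g) = IsLocalRing.maximalIdeal A)
    (h : ∀ n, Module.length A (A ⧸ IsLocalRing.maximalIdeal A ^ (n + 1)) =
      ((Finset.univ.finsuppAntidiag n : Finset (Fin r →₀ ℕ)).card : ℕ∞) +
        Module.length A (A ⧸ IsLocalRing.maximalIdeal A ^ n))
    (hfin : ∀ n, Module.length A (A ⧸ IsLocalRing.maximalIdeal A ^ n) ≠ ⊤) :
    CAlgX.IsQuasiRegular g := by
  intro n P hP he d
  classical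
  by_cases hd : d.degree = n
  swap
  · rw [hP.coeff_eq_zero hd]; exact zero_mem _
  obtain ⟨F, hlen, hFP, -⟩ := gr_setup A g hg n
  have hrange : Module.length A (LinearMap.range F) =
      ((Finset.univ.finsuppAntidiag n : Finset (Fin r →₀ ℕ)).card : ℕ∞) :=
    WithTop.add_right_cancel (hfin n) (hlen.symm.trans (h n))
  have hker : Module.length A (LinearMap.ker F) = 0 := by
    have := Module.length_eq_add_of_exact (LinearMap.ker F).subtype F.rangeRestrict
      (Submodule.injective_subtype _) F.surjective_rangeRestrict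
      (by
        intro x
        rw [← LinearMap.mem_ker, LinearMap.ker_rangeRestrict]
        exact ⟨fun hx => ⟨⟨x, hx⟩, rfl⟩, fun ⟨y, hy⟩ => hy ▸ y.2⟩)
    rw [length_domain, Fintype.card_coe, hrange] at this
    exact (WithTop.add_right_cancel (ENat.natCast_ne_top _) ((zero_add _).trans this)).symm
  have hmemD : d ∈ (Finset.univ.finsuppAntidiag n : Finset (Fin r →₀ ℕ)) := by
    simp [Finset.mem_finsuppAntidiag, ← Finsupp.degree_eq_sum, hd]
  have hz : (fun d => Submodule.Quotient.mk (P.coeff d.1) :
      ↥(Finset.univ.finsuppAntidiag n : Finset (Fin r →₀ ℕ)) → A ⧸ IsLocalRing.maximalIdeal A) ∈ LinearMap.ker F := by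
    rw [LinearMap.mem_ker, hFP P hP, Submodule.Quotient.mk_eq_zero, ← hg]
    exact he
  haveI := Module.length_eq_zero_iff.mp hker
  have := congrArg Subtype.val (Subsingleton.elim (⟨_, hz⟩ : LinearMap.ker F) 0)
  rw [hg]
  exact (Submodule.Quotient.mk_eq_zero _).mp (congrFun this ⟨d, hmemD⟩)


/-- Let A be a Noetherian local ring with maximal ideal m, residue field k, and let r be the dimension
of the k-vector space m/m². Then A is regular if and only if the canonical surjection of graded
k-algebras from the symmetric algebra of m/m² onto the associated graded ring of A for the m-adic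
filtration is bijective. Since that surjection is bijective exactly when source and target have the
same length in every degree, the condition is expressed here as: length_A(A/m^(s+1)) equals the
binomial coefficient C(s+r, r) for every s ≥ 0. -/
theorem result (A : Type u) [CommRing A] [IsLocalRing A]
    [IsNoetherianRing A] :
    IsRegularLocalRing A ↔
      ∀ s : ℕ, Module.length A (A ⧸ IsLocalRing.maximalIdeal A ^ (s + 1)) =
        ((s + Module.finrank (IsLocalRing.ResidueField A) (IsLocalRing.CotangentSpace A)).choose s : ℕ∞) := by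
  classical
  set r := Module.finrank (IsLocalRing.ResidueField A) (IsLocalRing.CotangentSpace A) with hr
  have hspan : (IsLocalRing.maximalIdeal A).spanFinrank = r :=
    IsLocalRing.spanFinrank_maximalIdeal_eq_finrank_cotangentSpace A
  obtain ⟨g, hg⟩ : ∃ g : Fin r → A, Ideal.span (Set.range g) = IsLocalRing.maximalIdeal A := by
    obtain ⟨s, hs, hs'⟩ := Submodule.FG.exists_span_finset_card_eq_spanFinrank
      (IsNoetherian.noetherian (IsLocalRing.maximalIdeal A))
    rw [hspan] at hs
    refine ⟨fun i => ((s.equivFinOfCardEq hs).symm i : A), ?_⟩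
    rw [show (fun i => ((s.equivFinOfCardEq hs).symm i : A)) = Subtype.val ∘ (s.equivFinOfCardEq hs).symm from rfl,
      Set.range_comp, Equiv.range_eq_univ, Set.image_univ, Subtype.range_coe_subtype]
    exact hs'
  have hmem : ∀ i, g i ∈ IsLocalRing.maximalIdeal A := fun i => hg ▸ Ideal.subset_span ⟨i, rfl⟩
  have h0 : Module.length A (A ⧸ IsLocalRing.maximalIdeal A ^ 0) = 0 := by
    rw [Module.length_eq_zero_iff, pow_zero, Ideal.one_eq_top]
    exact Ideal.Quotient.subsingleton_iff.mpr rfl
  constructor
  · intro hreg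
    obtain ⟨d, hd, -⟩ := Groth.Agent.RegLoc.exists_natCast_eq_ringKrullDim A
    have hrd : d = r := by rw [← hspan]; exact (Groth.Agent.RegLoc.spanFinrank_eq_dim hd).symm
    subst hrd
    have hq : CAlgX.IsQuasiRegular g :=
      Groth.Agent.S5802.result A r g (Groth.Agent.RegLoc.isRegular_ofFn hd g hg).1
    intro s
    induction s with
    | zero =>
      rw [(gr A g hg 0 hq).1, h0, add_zero]
      simp
    | succ s ih =>
      rw [(gr A g hg (s + 1) hq).1, ih]
      rw [show (s + 1 + r) = (s + r) + 1 by omega, Nat.choose_succ_succ, Nat.cast_add, add_comm]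
      congr 1
      rw [Finset.card_finsuppAntidiag_nat_eq_choose, Finset.card_univ, Fintype.card_fin,
        show r + (s + 1) - 1 = s + r by omega]
  · intro hlen
    have hq : CAlgX.IsQuasiRegular g := qr_of_length A g hg (fun n => by
      rw [Finset.card_finsuppAntidiag_nat_eq_choose, Finset.card_univ, Fintype.card_fin]
      cases n with
      | zero => rw [hlen 0, h0, add_zero]; simp
      | succ s =>
        rw [hlen (s + 1), hlen s, show (s + 1 + r) = (s + r) + 1 by omega, Nat.choose_succ_succ,
          Nat.cast_add, add_comm, show r + (s + 1) - 1 = s + r by omega])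
      (fun n => by cases n with
        | zero => rw [h0]; exact ENat.zero_ne_top
        | succ s => rw [hlen s]; exact ENat.natCast_ne_top _)
    have hw := Groth.Agent.S5803.result A r g (fun i => by
      rw [← Ideal.jacobson_bot]; exact IsLocalRing.maximalIdeal_le_jacobson _ (hmem i)) hq
    refine IsRegularLocalRing.of_spanFinrank_maximalIdeal_le A ?_
    rw [hspan, ← Module.supportDim_self_eq_ringKrullDim]
    refine le_trans ?_ Groth.Agent.Depth.depth_le_supportDim
    have := Groth.Agent.Depth.le_idealDepth_of_isWeaklyRegular (I := IsLocalRing.maximalIdeal A) hw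
      (fun x hx => by obtain ⟨i, rfl⟩ := List.mem_ofFn.mp hx; exact hmem i)
    rw [List.length_ofFn] at this
    exact WithBot.coe_le_coe.mpr this

end Groth.Agent.S5778
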