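import Groth.Statements.S5779
import Mathlib
import Groth.Agent.RegLoc.Basic

set_option autoImplicit false
universe u
open EGA41

namespace Groth.Agent.S5779

/-- Let A be a Noetherian local ring with maximal ideal m and residue field k, (x_i)_{1 ≤ i ≤ r}
elements of m and J = x_1 A + ... + x_r A. Then A is regular with the classes of the x_i in m/m²
linearly independent over k (equivalently: the x_i are part of a regular system of parameters) if
and only if the x_i are part of a system of parameters of A (dim(A/J) = dim(A) - r) and A/J is
regular. When these conditions hold, J is a prime ideal. -/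
theorem result (A : Type u) [CommRing A] [IsLocalRing A]
    [IsNoetherianRing A] (r : ℕ) (x : Fin r → IsLocalRing.maximalIdeal A) :
    ((IsRegularLocalRing A ∧
        LinearIndependent (IsLocalRing.ResidueField A)
          (fun i => (IsLocalRing.maximalIdeal A).toCotangent (x i))) ↔
      (ringKrullDim (A ⧸ Ideal.span (Set.range fun i => (x i : A))) + r = ringKrullDim A ∧
        IsRegularLocalRing (A ⧸ Ideal.span (Set.range fun i => (x i : A))))) ∧
    (IsRegularLocalRing (A ⧸ Ideal.span (Set.range fun i => (x i : A))) →
      ringKrullDim (A ⧸ Ideal.span (Set.range fun i => (x i : A))) + r = ringKrullDim A →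
        (Ideal.span (Set.range fun i => (x i : A))).IsPrime) := by
  classical
  set J := Ideal.span (Set.range fun i => (x i : A)) with hJ
  have hJm : J ≤ (IsLocalRing.maximalIdeal A) := Ideal.span_le.mpr (by rintro _ ⟨i, rfl⟩; exact (x i).2)
  haveI : IsLocalRing (A ⧸ J) := Groth.Agent.RegLoc.isLocalRing_quotient hJm
  have hJr : J.spanFinrank ≤ r := by
    refine (Submodule.spanFinrank_span_le_ncard_of_finite (Set.finite_range _)).trans ?_
    rw [← Set.image_univ]
    exact (Set.ncard_image_le Set.finite_univ).trans (by simp)
  set k := IsLocalRing.ResidueField A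
  have hμ : (IsLocalRing.maximalIdeal A).spanFinrank = Module.finrank k (IsLocalRing.CotangentSpace A) :=
    IsLocalRing.spanFinrank_maximalIdeal_eq_finrank_cotangentSpace A
  refine ⟨⟨?_, ?_⟩, fun hreg _ => ?_⟩
  · rintro ⟨hA, hli⟩
    obtain ⟨n, hn, -⟩ := Groth.Agent.RegLoc.exists_natCast_eq_ringKrullDim A
    have hnμ := Groth.Agent.RegLoc.spanFinrank_eq_dim hn
    -- complete the independent classes to a basis
    set S := Submodule.span k (Set.range fun i => (IsLocalRing.maximalIdeal A).toCotangent (x i))
    obtain ⟨K, hK⟩ := Submodule.exists_isCompl S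
    let b := Module.finBasis k K
    choose y hy using fun j => (IsLocalRing.maximalIdeal A).toCotangent_surjective (b j : IsLocalRing.CotangentSpace A)
    have hcard : r + Module.finrank k K = n := by
      rw [← hnμ, hμ, ← Submodule.finrank_add_eq_of_isCompl hK, finrank_span_eq_card hli, Fintype.card_fin]
    set J' := Ideal.span (Set.range fun j => (y j : A))
    have htop : Submodule.span k ((IsLocalRing.maximalIdeal A).toCotangent '' (Set.range x ∪ Set.range y)) = ⊤ := by
      rw [Set.image_union, ← Set.range_comp, ← Set.range_comp, Submodule.span_union, ← hK.sup_eq_top]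
      congr 1
      rw [show (IsLocalRing.maximalIdeal A).toCotangent ∘ y = K.subtype ∘ b from funext hy, Set.range_comp, ← Submodule.map_span,
        b.span_eq, Submodule.map_top, Submodule.range_subtype]
    have hgen : J ⊔ J' = (IsLocalRing.maximalIdeal A) := by
      have := congrArg (Submodule.map (IsLocalRing.maximalIdeal A).subtype) (IsLocalRing.CotangentSpace.span_image_eq_top_iff.mp htop)
      rw [Submodule.map_span, Submodule.map_top, Submodule.range_subtype, Set.image_union,
        ← Set.range_comp, ← Set.range_comp] at this
      rw [hJ, ← Ideal.span_union]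
      exact this
    have hJ'r : J'.spanFinrank ≤ Module.finrank k K := by
      refine (Submodule.spanFinrank_span_le_ncard_of_finite (Set.finite_range _)).trans ?_
      rw [← Set.image_univ]
      exact (Set.ncard_image_le Set.finite_univ).trans (by simp)
    obtain ⟨hreg, e, he, hen, -⟩ := Groth.Agent.RegLoc.isRegularLocalRing_quotient_of_sup_eq (a := r)
      (b := Module.finrank k K) hn hgen hJr hJ'r hcard.le
    refine ⟨?_, hreg⟩
    rw [he, hn]
    exact_mod_cast hen
  · rintro ⟨hdim, hreg⟩
    obtain ⟨e, he, -⟩ := Groth.Agent.RegLoc.exists_natCast_eq_ringKrullDim (A ⧸ J)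
    have heμ := Groth.Agent.RegLoc.spanFinrank_eq_dim he
    have hle := Groth.Agent.RegLoc.spanFinrank_maximalIdeal_le_quotient_add J
    have hd : ringKrullDim A = ((e + r : ℕ) : WithBot ℕ∞) := by rw [← hdim, he]; norm_cast
    have hA : IsRegularLocalRing A := IsRegularLocalRing.of_spanFinrank_maximalIdeal_le A (by
      rw [hd]; exact_mod_cast (by rw [heμ] at hle; omega : (IsLocalRing.maximalIdeal A).spanFinrank ≤ e + r))
    refine ⟨hA, ?_⟩
    rw [linearIndependent_iff_card_eq_finrank_span, Fintype.card_fin]
    refine le_antisymm ?_ (by simpa using finrank_range_le_card (R := k) (fun i => (IsLocalRing.maximalIdeal A).toCotangent (x i)))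
    -- lifts of generators of the quotient
    set S := Submodule.span k (Set.range fun i => (IsLocalRing.maximalIdeal A).toCotangent (x i))
    obtain ⟨u, hu, hu'⟩ := Submodule.FG.exists_span_finset_card_eq_spanFinrank
      (IsNoetherian.noetherian (IsLocalRing.maximalIdeal (A ⧸ J)))
    rw [heμ] at hu
    have hlift : ∀ z : u, ∃ g : (IsLocalRing.maximalIdeal A), Ideal.Quotient.mk J (g : A) = (z : A ⧸ J) := fun z => by
      obtain ⟨g, hg⟩ := Ideal.Quotient.mk_surjective (z : A ⧸ J)
      have hz : (z : A ⧸ J) ∈ IsLocalRing.maximalIdeal (A ⧸ J) := hu' ▸ Submodule.subset_span z.2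
      refine ⟨⟨g, ?_⟩, hg⟩
      by_contra hgm
      exact (IsLocalRing.mem_maximalIdeal _).mp hz (hg ▸ (IsLocalRing.notMem_maximalIdeal.mp hgm).map _)
    choose g hg using hlift
    have hspan : Submodule.span A (Set.range x ∪ Set.range g) = ⊤ := by
      apply Submodule.map_injective_of_injective (IsLocalRing.maximalIdeal A).injective_subtype
      rw [Submodule.map_span, Submodule.map_top, Submodule.range_subtype, Set.image_union,
        ← Set.range_comp, ← Set.range_comp, Submodule.span_union]
      have h2 : (Ideal.span (Set.range ((IsLocalRing.maximalIdeal A).subtype ∘ g))).map (Ideal.Quotient.mk J) =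
          (IsLocalRing.maximalIdeal A).map (Ideal.Quotient.mk J) := by
        rw [← Groth.Agent.RegLoc.maximalIdeal_quotient_eq_map, Ideal.map_span, ← hu', ← Set.range_comp]
        congr 1
        ext z
        refine ⟨?_, fun hz => ⟨⟨z, hz⟩, hg _⟩⟩
        rintro ⟨w, rfl⟩
        show Ideal.Quotient.mk J ((g w : A)) ∈ (u : Set (A ⧸ J))
        rw [hg w]
        exact w.2
      have h3 := congrArg (Ideal.comap (Ideal.Quotient.mk J)) h2
      rw [Ideal.comap_map_of_surjective' _ Ideal.Quotient.mk_surjective,
        Ideal.comap_map_of_surjective' _ Ideal.Quotient.mk_surjective, Ideal.mk_ker, sup_eq_left.mpr hJm,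
        sup_comm] at h3
      exact h3
    have htop := IsLocalRing.CotangentSpace.span_image_eq_top_iff.mpr hspan
    rw [Set.image_union, ← Set.range_comp, ← Set.range_comp, Submodule.span_union] at htop
    have h4 := Submodule.finrank_add_le_finrank_add_finrank S (Submodule.span k (Set.range ((IsLocalRing.maximalIdeal A).toCotangent ∘ g)))
    rw [show S ⊔ Submodule.span k (Set.range ((IsLocalRing.maximalIdeal A).toCotangent ∘ g)) = ⊤ from htop, finrank_top, ← hμ,
      Groth.Agent.RegLoc.spanFinrank_eq_dim hd] at h4
    have h5 : Module.finrank k (Submodule.span k (Set.range ((IsLocalRing.maximalIdeal A).toCotangent ∘ g))) ≤ e := by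
      have := finrank_range_le_card (R := k) ((IsLocalRing.maximalIdeal A).toCotangent ∘ g)
      simpa [Set.finrank, hu] using this
    show r ≤ Module.finrank k S
    omega
  · exact (Ideal.Quotient.isDomain_iff_prime J).mp (Groth.Agent.RegLoc.isDomain (A ⧸ J))

end Groth.Agent.S5779
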