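import Groth.Statements.S5780
import Mathlib
import Groth.Agent.Depth.Local

set_option autoImplicit false
universe u
open EGA41

namespace Groth.Agent.S5780

/-- Let A be a Noetherian local ring with maximal ideal m. If every element of m which is not in m² is a
zero divisor in A, then there is a nonzero c in A with c m = 0, i.e. m is an associated prime of A. -/
theorem result (A : Type u) [CommRing A]
    [IsLocalRing A] [IsNoetherianRing A]
    (h : ∀ a ∈ IsLocalRing.maximalIdeal A, a ∉ IsLocalRing.maximalIdeal A ^ 2 → ¬ IsSMulRegular A a) :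
    IsLocalRing.maximalIdeal A ∈ associatedPrimes A A := by
  by_contra hm
  have hsub : (IsLocalRing.maximalIdeal A : Set A) ⊆
      ⋃ p ∈ insert (IsLocalRing.maximalIdeal A ^ 2) (associatedPrimes A A), (p : Set A) := by
    intro a ha
    by_cases h2 : a ∈ IsLocalRing.maximalIdeal A ^ 2
    · exact Set.mem_biUnion (Set.mem_insert _ _) h2
    · have : a ∈ ⋃ p ∈ associatedPrimes A A, (p : Set A) := by
        rw [biUnion_associatedPrimes_eq_compl_regular]
        exact h a ha h2
      exact Set.biUnion_subset_biUnion_left (Set.subset_insert _ _) this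
  obtain ⟨p, hp, hle⟩ := (Ideal.subset_union_prime_finite ((associatedPrimes.finite A A).insert _)
    (IsLocalRing.maximalIdeal A ^ 2) (IsLocalRing.maximalIdeal A ^ 2) (fun p hp hne _ =>
      IsAssociatedPrime.isPrime ((Set.mem_insert_iff.mp hp).resolve_left hne))).mp hsub
  rcases Set.mem_insert_iff.mp hp with rfl | hp
  · have hbot : IsLocalRing.maximalIdeal A = ⊥ := Submodule.eq_bot_of_le_smul_of_le_jacobson_bot
      (IsLocalRing.maximalIdeal A) _ (IsNoetherian.noetherian _) (by rwa [smul_eq_mul, ← pow_two])
      (IsLocalRing.maximalIdeal_le_jacobson _)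
    refine hm (isAssociatedPrime_iff.mpr ⟨inferInstance, 1, ?_⟩)
    ext a
    simp [hbot, Submodule.mem_colon_singleton]
  · exact hm (by rwa [(IsLocalRing.maximalIdeal.isMaximal A).eq_of_le (IsAssociatedPrime.isPrime hp).ne_top hle])

end Groth.Agent.S5780
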