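import Groth.Statements.S5781
import Mathlib

set_option autoImplicit false
universe u
open EGA41

namespace Groth.Agent.S5781

open scoped Pointwise

/-- Suppose A is a Noetherian local ring whose maximal ideal is m, and take a ∈ m with a ∉ m². Then the
quotient m/am contains a direct summand isomorphic to m/Aa: concretely, one can find A-linear maps f
: m/Aa → m/am and g : m/am → m/Aa such that g ∘ f is the identity. -/
theorem result (A : Type u) [CommRing A] [IsLocalRing A]
    [IsNoetherianRing A] (a : A) (ha : a ∈ IsLocalRing.maximalIdeal A) (ha2 : a ∉ IsLocalRing.maximalIdeal A ^ 2) :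
    ∃ (f : (↥(IsLocalRing.maximalIdeal A) ⧸ Submodule.span A {(⟨a, ha⟩ : ↥(IsLocalRing.maximalIdeal A))}) →ₗ[A]
          QuotSMulTop a ↥(IsLocalRing.maximalIdeal A))
      (g : QuotSMulTop a ↥(IsLocalRing.maximalIdeal A) →ₗ[A]
          (↥(IsLocalRing.maximalIdeal A) ⧸ Submodule.span A {(⟨a, ha⟩ : ↥(IsLocalRing.maximalIdeal A))})),
      g.comp f = LinearMap.id := by
  classical
  set m := IsLocalRing.maximalIdeal A with hm
  set a' : m := ⟨a, ha⟩
  set v := m.toCotangent a' with hv
  have hv0 : v ≠ 0 := fun h => ha2 ((m.toCotangent_eq_zero a').mp h)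
  obtain ⟨K, hK⟩ := Submodule.exists_isCompl (IsLocalRing.ResidueField A ∙ v)
  -- `J'`: preimage of the complement
  let J : Submodule A m := (K.restrictScalars A).comap m.toCotangent
  have haJ : a' ∉ J := fun h => hv0 ((Submodule.eq_bot_iff _).mp (disjoint_iff.mp hK.disjoint) v
    ⟨Submodule.mem_span_singleton_self v, h⟩)
  have hsum : ∀ x : m, ∃ c : A, x - c • a' ∈ J := by
    intro x
    obtain ⟨y, hy, z, hz, hyz⟩ := Submodule.mem_sup.mp (hK.sup_eq_top.ge (Submodule.mem_top (x := m.toCotangent x)))
    obtain ⟨c, rfl⟩ := Submodule.mem_span_singleton.mp hy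
    obtain ⟨c, rfl⟩ := IsLocalRing.residue_surjective c
    refine ⟨c, ?_⟩
    have : m.toCotangent (x - c • a') = z := by
      rw [map_sub, map_smul, ← hyz, ← hv, ← IsScalarTower.algebraMap_smul (IsLocalRing.ResidueField A) c v,
        IsLocalRing.ResidueField.algebraMap_eq, add_sub_cancel_left]
    show m.toCotangent (x - c • a') ∈ K
    rw [this]; exact hz
  have hker : ∀ c : A, c • a' ∈ J → c ∈ m := by
    intro c hc
    by_contra hcm
    obtain ⟨u, hu⟩ := IsLocalRing.notMem_maximalIdeal.mp hcm
    have := J.smul_mem (↑u⁻¹ : A) hc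
    rw [smul_smul, ← hu, Units.inv_mul, one_smul] at this
    exact haJ this
  choose c hc using hsum
  let q : m → QuotSMulTop a m := fun x => Submodule.Quotient.mk (x - c x • a')
  have hq : ∀ (x : m) (d : A), x - d • a' ∈ J → q x = Submodule.Quotient.mk (x - d • a') := by
    intro x d hd
    rw [Submodule.Quotient.eq]
    have h1 : (d - c x) • a' ∈ J := by
      have := J.sub_mem (hc x) hd
      rw [sub_sub_sub_cancel_left, ← sub_smul] at this
      exact this
    obtain he := hker _ h1
    have : x - c x • a' - (x - d • a') = a • (⟨d - c x, he⟩ : m) := by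
      refine Subtype.ext ?_
      simp [a']; ring
    rw [this]
    exact Submodule.smul_mem_pointwise_smul _ _ _ Submodule.mem_top
  let f₀ : m →ₗ[A] QuotSMulTop a m :=
    { toFun := q
      map_add' := fun x y => by
        rw [hq (x + y) (c x + c y) (by rw [add_smul, add_sub_add_comm]; exact J.add_mem (hc x) (hc y))]
        rw [← Submodule.Quotient.mk_add, add_smul, add_sub_add_comm]
      map_smul' := fun r x => by
        rw [RingHom.id_apply, hq (r • x) (r * c x) (by rw [mul_smul, ← smul_sub]; exact J.smul_mem r (hc x))]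
        rw [← Submodule.Quotient.mk_smul, mul_smul, ← smul_sub] }
  have hf₀ : Submodule.span A {a'} ≤ LinearMap.ker f₀ := by
    rw [Submodule.span_le, Set.singleton_subset_iff, SetLike.mem_coe, LinearMap.mem_ker]
    show q a' = 0
    rw [hq a' 1 (by simp), one_smul, sub_self, Submodule.Quotient.mk_zero]
  refine ⟨Submodule.liftQ _ f₀ hf₀, Submodule.mapQ _ _ LinearMap.id ?_, ?_⟩
  · intro x hx
    obtain ⟨y, -, rfl⟩ := (Submodule.mem_smul_pointwise_iff_exists _ _ _).mp hx
    rw [Submodule.mem_comap, LinearMap.id_apply, Submodule.mem_span_singleton]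
    exact ⟨(y : A), Subtype.ext (mul_comm _ _)⟩
  · refine Submodule.linearMap_qext _ (LinearMap.ext fun x => ?_)
    show Submodule.Quotient.mk (x - c x • a') = Submodule.Quotient.mk x
    rw [Submodule.Quotient.eq, sub_sub_cancel_left]
    exact Submodule.neg_mem _ (Submodule.smul_mem _ _ (Submodule.mem_span_singleton_self _))

end Groth.Agent.S5781
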