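import Groth.Statements.S5782
import Mathlib
import Groth.Agent.RegLoc.PD

set_option autoImplicit false
universe u
open CategoryTheory
open EGA41

namespace Groth.Agent.S5782

open TensorProduct

/-- Let A be a Noetherian local ring with maximal ideal m, E a finitely generated A-module of finite
projective dimension, and a ∈ m an element which is A-regular and E-regular. Then E/aE, as a module
over A/aA, has finite projective dimension at most the projective dimension of E over A. -/
theorem result (A : Type u) [CommRing A] [IsLocalRing A]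
    [IsNoetherianRing A] (E : Type u) [AddCommGroup E] [Module A E] [Module.Finite A E]
    (hfin : projectiveDimension (ModuleCat.of A E) ≠ ⊤) (a : A) (ha : a ∈ IsLocalRing.maximalIdeal A)
    (hA : IsSMulRegular A a) (hE : IsSMulRegular E a) :
    projectiveDimension (ModuleCat.of (A ⧸ Ideal.span {a}) (E ⧸ (Ideal.span {a} • (⊤ : Submodule A E)))) ≤
      projectiveDimension (ModuleCat.of A E) := by
  let Ab := A ⧸ Ideal.span {a}
  let e : (Ab ⊗[A] E) ≃ₗ[Ab] (E ⧸ (Ideal.span {a} • (⊤ : Submodule A E))) :=
    LinearEquiv.extendScalarsOfSurjective (Ideal.Quotient.mk_surjective (I := Ideal.span {a}))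
      (TensorProduct.quotTensorEquivQuotSMul E (Ideal.span {a}))
  have key : ∀ n : ℕ, projectiveDimension (ModuleCat.of A E) ≤ n →
      projectiveDimension (ModuleCat.of Ab (E ⧸ (Ideal.span {a} • (⊤ : Submodule A E)))) ≤ n := by
    intro n hn
    rw [projectiveDimension_le_iff] at hn ⊢
    exact Groth.Agent.RegLoc.PD.pd_congr e n (Groth.Agent.RegLoc.PD.pd_baseChange_quotient hA n E hE hn)
  match h : projectiveDimension (ModuleCat.of A E), hfin, key with
  | ⊥, _, _ =>
    have h := (projectiveDimension_eq_bot_iff _).mp h
    rw [ModuleCat.isZero_iff_subsingleton] at h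
    have hs : Subsingleton E := h
    rw [le_bot_iff, projectiveDimension_eq_bot_iff, ModuleCat.isZero_iff_subsingleton]
    exact inferInstanceAs (Subsingleton (E ⧸ (Ideal.span {a} • (⊤ : Submodule A E))))
  | ((⊤ : ℕ∞) : WithBot ℕ∞), hfin, _ => exact absurd rfl hfin
  | ((n : ℕ) : ℕ∞), _, key => exact key n le_rfl

end Groth.Agent.S5782
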