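import Groth.Statements.S5783
import Mathlib
import Groth.Agent.Depth.CM
import Groth.Agent.RegLoc.MCM
import Groth.Agent.VarDim.Algebra
import Groth.Agent.S5756

set_option autoImplicit false
universe u
open EGA41

namespace Groth.Agent.S5783

/-- Let A be a regular local ring, B a local ring and ρ : A → B a local homomorphism making B a finitely
generated A-module. Then B is a free A-module if and only if B is a Cohen-Macaulay ring and ρ is
injective (the latter being equivalent to dim(B) = dim(A)). -/
theorem result (A B : Type u) [CommRing A] [CommRing B]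
    [IsRegularLocalRing A] [IsLocalRing B] [Algebra A B] [IsLocalHom (algebraMap A B)] [Module.Finite A B] :
    Module.Free A B ↔ LocCoh.IsCohenMacaulayLocalRing B ∧ Function.Injective (algebraMap A B) := by
  haveI : IsNoetherianRing B := IsNoetherianRing.of_finite A B
  have hdep := Groth.Agent.S5756.result A B B
  haveI : Algebra.IsIntegral A B := Algebra.IsIntegral.of_finite A B
  constructor
  · intro hfree
    have hinj : Function.Injective (algebraMap A B) := by
      haveI : Nontrivial B := inferInstance
      exact FaithfulSMul.algebraMap_injective A B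
    refine ⟨Groth.Agent.Depth.isCohenMacaulayLocalRing_iff.mpr (le_antisymm ?_
      Groth.Agent.Depth.depth_le_supportDim), hinj⟩
    haveI : FaithfulSMul A B := (faithfulSMul_iff_algebraMap_injective A B).mpr hinj
    haveI hA := Groth.Agent.Depth.isCohenMacaulayLocalRing_of_isRegularLocalRing (R := A)
    have hbc : IsBaseChange B (Algebra.linearMap A B) := IsBaseChange.linearMap A B
    have h1 := Groth.Agent.Depth.idealDepth_le_idealDepth_of_isBaseChange
      (I := IsLocalRing.maximalIdeal A) hbc
    have h2 := h1.trans (Groth.Agent.Depth.idealDepth_mono (M := B)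
      (IsLocalRing.map_maximalIdeal_le (algebraMap A B)))
    rw [← Groth.Agent.Depth.depth_eq_idealDepth, ← Groth.Agent.Depth.depth_eq_idealDepth] at h2
    rw [Module.supportDim_self_eq_ringKrullDim, Groth.Agent.VarDim.ringKrullDim_eq_of_isIntegral (R := A),
      ← Module.supportDim_self_eq_ringKrullDim (R := A), hA.supportDim_eq_depth]
    exact WithBot.coe_le_coe.mpr h2
  · rintro ⟨hCM, hinj⟩
    haveI : FaithfulSMul A B := (faithfulSMul_iff_algebraMap_injective A B).mpr hinj
    refine Groth.Agent.RegLoc.MCM.free_of_depth_eq_dim B ?_
    rw [hdep, ← Groth.Agent.VarDim.ringKrullDim_eq_of_isIntegral (R := A) (S := B),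
      ← Module.supportDim_self_eq_ringKrullDim]
    exact hCM.supportDim_eq_depth.symm

end Groth.Agent.S5783
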