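import Groth.Statements.S5787
import Mathlib
import Groth.Agent.Depth.Basic

set_option autoImplicit false
universe u
open CategoryTheory
open EGA41

namespace Groth.Agent.S5787

open CategoryTheory Abelian RingTheory.Sequence
open scoped Pointwise

theorem comp_mk₀_smul_eq_zero {A : Type u} [CommRing A] {X Y : ModuleCat.{u} A} {n : ℕ} (x : A)
    (hx : x • 𝟙 X = 0) (z : Ext X Y n) : z.comp (Ext.mk₀ (x • 𝟙 Y)) (add_zero n) = 0 := by
  calc z.comp (Ext.mk₀ (x • 𝟙 Y)) (add_zero n) = x • z := by simp [Ext.mk₀_smul]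
    _ = (Ext.mk₀ (x • 𝟙 X)).comp z (zero_add n) := by simp [Ext.mk₀_smul]
    _ = 0 := by rw [hx]; simp

/-- Rees: `Hom(N, M/(xs)M) = Ext^n(N, M)` for an `M`-regular sequence killing `N`. -/
theorem aux (A : Type u) [CommRing A] (N : Type u) [AddCommGroup N] [Module A N] :
    ∀ (xs : List A) (M : Type u) [AddCommGroup M] [Module A M], IsWeaklyRegular M xs →
      (∀ x ∈ xs, ∀ y : N, x • y = 0) →
      Nonempty ((N →ₗ[A] (M ⧸ (Ideal.ofList xs • (⊤ : Submodule A M)))) ≃+
        Ext (ModuleCat.of A N) (ModuleCat.of A M) xs.length) := by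
  intro xs
  induction xs with
  | nil =>
    intro M _ _ _ _
    let e := Submodule.quotEquivOfEqBot (Ideal.ofList ([] : List A) • (⊤ : Submodule A M))
      (by rw [Ideal.ofList_nil, Submodule.bot_smul])
    exact ⟨((LinearEquiv.congrRight e).toAddEquiv.trans (ModuleCat.homAddEquiv (M := ModuleCat.of A N) (N := ModuleCat.of A M)).symm).trans Ext.addEquiv₀.symm⟩
  | cons x xs ih =>
    intro M _ _ hreg hN
    obtain ⟨h1, h2⟩ := (isWeaklyRegular_cons_iff M x xs).mp hreg
    obtain ⟨φ⟩ := ih (QuotSMulTop x M) h2 (fun y hy => hN y (List.mem_cons_of_mem _ hy))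
    have h1' : IsSMulRegular (ModuleCat.of A M) x := h1
    have hS := h1'.smulShortComplex_shortExact
    have hf : (ModuleCat.smulShortComplex (ModuleCat.of A M) x).f = x • 𝟙 (ModuleCat.of A M) := rfl
    let δ := hS.extClass.postcomp (ModuleCat.of A N) (rfl : xs.length + 1 = xs.length + 1)
    have hδ : Function.Bijective δ := by
      refine ⟨(injective_iff_map_eq_zero δ).mpr fun z hz => ?_, fun z => ?_⟩
      · obtain ⟨w, rfl⟩ := Ext.covariant_sequence_exact₃ (ModuleCat.of A N) hS z rfl hz
        have := Groth.Agent.Depth.subsingleton_ext_of_isWeaklyRegular (x :: xs) (ModuleCat.of A M) hreg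
          (fun r hr => ⟨1, fun y => by rw [pow_one]; exact hN r hr y⟩) (N := ModuleCat.of A N)
          xs.length (by simp)
        obtain rfl := @Subsingleton.elim _ this w (0 : Ext (ModuleCat.of A N) (ModuleCat.of A M) xs.length)
        exact Ext.zero_comp (ModuleCat.of A N) xs.length _ _ _
      · have hx0 : x • 𝟙 (ModuleCat.of A N) = 0 := by
          ext y; simpa using hN x List.mem_cons_self y
        have hz0 : z.comp (Ext.mk₀ (ModuleCat.smulShortComplex (ModuleCat.of A M) x).f) (add_zero _) = 0 :=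
          comp_mk₀_smul_eq_zero (Y := ModuleCat.of A M) x hx0 z
        exact Ext.covariant_sequence_exact₁ (ModuleCat.of A N) hS z hz0 rfl
    let e := Submodule.quotOfListConsSMulTopEquivQuotSMulTopInner M x xs
    exact ⟨((LinearEquiv.congrRight e).toAddEquiv.trans φ).trans (AddEquiv.ofBijective δ hδ)⟩


/-- Let A be a Noetherian local ring with maximal ideal m and residue field k, M an A-module and
(x_i)_{1 ≤ i ≤ n} an M-regular sequence of elements of m. Then Hom_A(k, M/(x_1 M + ... + x_n M)) and
Ext^n_A(k, M) are isomorphic (existence of an isomorphism; stated for the underlying abelian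
groups). -/
theorem result (A : Type u) [CommRing A] [IsLocalRing A]
    [IsNoetherianRing A] (M : Type u) [AddCommGroup M] [Module A M] (xs : List A)
    (hxs : ∀ x ∈ xs, x ∈ IsLocalRing.maximalIdeal A) (hreg : RingTheory.Sequence.IsWeaklyRegular M xs) :
    Nonempty ((IsLocalRing.ResidueField A →ₗ[A] (M ⧸ (Ideal.ofList xs • (⊤ : Submodule A M)))) ≃+
      Abelian.Ext (ModuleCat.of A (IsLocalRing.ResidueField A)) (ModuleCat.of A M) xs.length) := by
  refine aux A (IsLocalRing.ResidueField A) xs M hreg fun x hx y => ?_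
  obtain ⟨y, rfl⟩ := IsLocalRing.residue_surjective y
  rw [Algebra.smul_def, IsLocalRing.ResidueField.algebraMap_eq, ← map_mul, IsLocalRing.residue_eq_zero_iff]
  exact Ideal.mul_mem_right _ _ (hxs x hx)

end Groth.Agent.S5787
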