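import Groth.Statements.S5793
import Groth.Agent.TopDimLib.Basic

set_option autoImplicit false
universe u
open TopDim

namespace Groth.Agent.S5793

open Set Order TopologicalSpace Topology Groth.Agent.TopDimLib

/-- Let X be a Noetherian Kolmogoroff space. Then dim(X) = sup dim_x(X), the supremum being over the
closed points x of X only. -/
theorem result (X : Type u) [TopologicalSpace X]
    [TopologicalSpace.NoetherianSpace X] [T0Space X] :
    topologicalKrullDim X = ⨆ x ∈ {x : X | IsClosed ({x} : Set X)}, FlatMor.localDim X x := by
  refine le_antisymm (topDim_le_iff.2 fun l => ?_) (iSup₂_le fun x _ => localDim_le_topDim x)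
  obtain ⟨x, hx, hxc⟩ := l.head.isClosed.exists_closed_singleton l.head.isIrreducible.1
  exact le_iSup₂_of_le x hxc (length_le_localDim l hx)

end Groth.Agent.S5793
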