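import Groth.Statements.S5796
import Groth.Agent.TopDimLib.Basic

set_option autoImplicit false
universe u
open TopDim

namespace Groth.Agent.S5796

open Set Order TopologicalSpace Topology Groth.Agent.TopDimLib

/-- For any topological space X, the function x ↦ dim_x(X) is upper semicontinuous on X. -/
theorem result (X : Type u) [TopologicalSpace X] :
    UpperSemicontinuous fun x : X => FlatMor.localDim X x := by
  rw [upperSemicontinuous_iff]
  intro x y hy
  obtain ⟨U, hU, hxU, e⟩ := exists_localDim_eq x
  filter_upwards [hU.mem_nhds hxU] with z hz
  exact lt_of_le_of_lt ((localDim_le hU hz).trans e.le) hy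

end Groth.Agent.S5796
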