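import Groth.Statements.S5800
import Groth.Agent.TopDimLib.Basic

set_option autoImplicit false
universe u
open TopDim

namespace Groth.Agent.S5800

open Set Order TopologicalSpace Topology Groth.Agent.TopDimLib

/-- Let X be a topological space, x a point of X and (Y_i) a finite family of closed subsets each
containing x whose union is X. Then dim_x(X) = sup_i dim_x(Y_i). (The published statement lets the
Y_i be closed subsets of a neighbourhood U of x covering U; this row is the case U = X.) -/
theorem result (X : Type u) [TopologicalSpace X] (x : X)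
    (ι : Type u) [Finite ι] (Y : ι → Set X) (hY : ∀ i, IsClosed (Y i)) (hx : ∀ i, x ∈ Y i)
    (hcov : ⋃ i, Y i = Set.univ) :
    FlatMor.localDim X x = ⨆ i, FlatMor.localDim (Y i) ⟨x, hx i⟩ := by
  apply le_antisymm
  · choose V hV hxV eV using fun i => exists_localDim_eq (X := Y i) ⟨x, hx i⟩
    choose W hW eW using fun i => isOpen_induced_iff.1 (hV i)
    let U : Set X := ⋂ i, W i
    have hU : IsOpen U := isOpen_iInter_of_finite hW
    have hxU : x ∈ U := mem_iInter.2 fun i => by
      have := hxV i
      rw [← eW i] at this
      exact this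
    refine (localDim_le hU hxU).trans ?_
    have hcov' : ⋃ i, ((Subtype.val : U → X) ⁻¹' Y i) = univ := by
      rw [← preimage_iUnion, hcov, preimage_univ]
    rw [topDim_eq_iSup_of_locallyFinite _ (fun i => (hY i).preimage continuous_subtype_val)
      (locallyFinite_of_finite _) hcov']
    refine iSup_mono fun i => ?_
    rw [← eV i]
    let g : ((Subtype.val : U → X) ⁻¹' Y i : Set U) → V i := fun z =>
      ⟨⟨z.1.1, z.2⟩, by
        rw [← eW i]
        exact mem_iInter.1 z.1.2 i⟩
    have hg : IsInducing g := by
      have h1 : IsInducing (fun z : ((Subtype.val : U → X) ⁻¹' Y i : Set U) => z.1.1) :=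
        IsInducing.subtypeVal.comp IsInducing.subtypeVal
      exact (IsInducing.subtypeVal.of_comp_iff.1 ((IsInducing.subtypeVal.of_comp_iff (f := fun z => (g z).1)).1 h1))
    exact hg.topologicalKrullDim_le
  · refine iSup_le fun i => le_iInf fun U => ?_
    refine (localDim_le (U := (Subtype.val : Y i → X) ⁻¹' (U.1 : Set X))
      (U.1.2.preimage continuous_subtype_val) U.2).trans ?_
    let g : ((Subtype.val : Y i → X) ⁻¹' (U.1 : Set X) : Set (Y i)) → (U.1 : Set X) :=
      fun z => ⟨z.1.1, z.2⟩
    have hg : IsInducing g := by
      have h1 : IsInducing (fun z : ((Subtype.val : Y i → X) ⁻¹' (U.1 : Set X) : Set (Y i)) => z.1.1) :=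
        IsInducing.subtypeVal.comp IsInducing.subtypeVal
      exact (IsInducing.subtypeVal.of_comp_iff (f := g)).1 h1
    exact hg.topologicalKrullDim_le

end Groth.Agent.S5800
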