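import Groth.Statements.S5807
import Mathlib
import Groth.Agent.EGA41Lib.Regular

set_option autoImplicit false
universe u
open EGA41

namespace Groth.Agent.S5807

/-- Let A be a Noetherian ring which is a quotient of a regular ring B, and C an A-algebra of finite
type. Then every ring of fractions of C is a quotient of a regular ring. -/
theorem result (B A C : Type u) [CommRing B]
    [IsRegularRing B] [CommRing A] (π : B →+* A) (hπ : Function.Surjective π) [CommRing C] [Algebra A C]
    [Algebra.FiniteType A C] (S : Submonoid C) :
    ∃ (R : Type u) (_ : CommRing R) (_ : IsRegularRing R) (f : R →+* Localization S),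
      Function.Surjective f := by
  letI : Algebra B A := π.toAlgebra
  letI : Algebra B C := ((algebraMap A C).comp π).toAlgebra
  haveI : IsScalarTower B A C := IsScalarTower.of_algebraMap_eq fun _ => rfl
  haveI : Algebra.FiniteType B A :=
    Algebra.FiniteType.of_surjective (Algebra.ofId B A) hπ
  haveI : Algebra.FiniteType B C := Algebra.FiniteType.trans (S := A) inferInstance inferInstance
  obtain ⟨n, g, hg⟩ := Algebra.FiniteType.iff_quotient_mvPolynomial''.mp ‹Algebra.FiniteType B C›
  let T : Submonoid (MvPolynomial (Fin n) B) := S.comap g.toRingHom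
  refine ⟨Localization T, inferInstance, Groth.Agent.EGA41Lib.isRegularRing_localization T,
    IsLocalization.map (M := T) (T := S) (Localization S) g.toRingHom (fun x hx => hx), fun z => ?_⟩
  obtain ⟨c, s, rfl⟩ := IsLocalization.exists_mk'_eq S z
  obtain ⟨c, rfl⟩ := hg c
  obtain ⟨t, ht⟩ := hg (s : C)
  refine ⟨IsLocalization.mk' (Localization T) c (⟨t, show g t ∈ S by rw [ht]; exact s.2⟩ : T), ?_⟩
  rw [IsLocalization.map_mk']
  congr 1
  exact Subtype.ext ht

end Groth.Agent.S5807
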