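import Groth.Statements.S5808
import Mathlib
import Groth.Agent.S5768
import Groth.Agent.EGA41Lib.Params

set_option autoImplicit false
universe u
open EGA41

namespace Groth.Agent.S5808

theorem aux (A : Type u) [CommRing A] [IsNoetherianRing A] [Finite (MaximalSpectrum A)]
    (a : Ideal A) (h : ℕ) (hh : a.height = h) (Q : Ideal A) [Q.IsPrime] (haQ : a ≤ Q) (hQh : Q.height ≤ h) :
    ∀ i ≤ h, ∃ x : Fin i → A, (∀ j, x j ∈ a) ∧ (∀ j, x j ∈ Ring.jacobson A) ∧
      (Q.map (Ideal.Quotient.mk (Ideal.span (Set.range x)))).height + i ≤ h ∧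
      ringKrullDim (A ⧸ Ideal.span (Set.range x)) + i = ringKrullDim A := by
  intro i
  induction i with
  | zero =>
    intro _
    refine ⟨Fin.elim0, fun j => j.elim0, fun j => j.elim0, ?_, ?_⟩
    · have he : Ideal.span (Set.range (Fin.elim0 : Fin 0 → A)) = ⊥ := by simp
      rw [Nat.cast_zero, add_zero, show Ideal.span (Set.range (Fin.elim0 : Fin 0 → A)) = ⊥ from he]
      rw [Groth.Agent.EGA41Lib.height_map_mk (bot_le : (⊥ : Ideal A) ≤ Q)]
      refine le_trans (Order.height_le_height_apply_of_strictMono (Subtype.val) (fun _ _ h => h) _) ?_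
      rw [← PrimeSpectrum.height_eq_orderHeight]
      exact hQh
    · rw [Nat.cast_zero, add_zero, show Ideal.span (Set.range (Fin.elim0 : Fin 0 → A)) = ⊥ from by simp]
      exact ringKrullDim_eq_of_ringEquiv (RingEquiv.quotientBot A)
  | succ i ih =>
    intro hi
    obtain ⟨x, hxa, hxj, hht, hdim⟩ := ih (Nat.le_of_succ_le hi)
    set J := Ideal.span (Set.range x) with hJ
    have hJa : J ≤ a := Ideal.span_le.mpr (by rintro _ ⟨j, rfl⟩; exact hxa j)
    have hJj : J ≤ Ring.jacobson A := Ideal.span_le.mpr (by rintro _ ⟨j, rfl⟩; exact hxj j)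
    -- `a` lies in no minimal prime of `J`
    have hmin : ∀ P ∈ J.minimalPrimes, ¬ a ≤ P := by
      intro P hP hle
      haveI := hP.1.1
      have h1 : P.height ≤ (i : ℕ∞) := by
        refine (Ideal.height_le_card_of_mem_minimalPrimes_span (Set.finite_range x) hP).trans ?_
        have : (Set.range x).ncard ≤ i := by
          rw [← Set.image_univ]
          exact (Set.ncard_image_le Set.finite_univ).trans (by simp)
        exact_mod_cast this
      have := (hh ▸ Ideal.height_mono hle).trans h1
      have : h ≤ i := by exact_mod_cast this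
      omega
    let S : Set (Ideal A) := {P | P ∈ J.minimalPrimes ∧ ¬ P.IsMaximal}
    have hS : S.Finite := (Ideal.finite_minimalPrimes_of_isNoetherianRing _ _).subset fun P hP => hP.1
    obtain ⟨y, hy, hyS⟩ := Groth.Agent.EGA41Lib.exists_mem_forall_notMem (I := a * Ring.jacobson A) hS
      (fun P hP => hP.1.1.1) (fun P hP hle => by
        haveI := hP.1.1.1
        rcases (Ideal.IsPrime.mul_le ‹P.IsPrime›).mp hle with hl | hl
        · exact hmin P hP.1 hl
        · exact Groth.Agent.EGA41Lib.not_jacobson_le hP.2 hl)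
    have hya : y ∈ a := (show a * Ring.jacobson A ≤ a from
      Ideal.mul_le.mpr fun u hu v _ => a.mul_mem_right v hu) hy
    have hyj : y ∈ Ring.jacobson A := (show a * Ring.jacobson A ≤ Ring.jacobson A from
      Ideal.mul_le.mpr fun u _ v hv => Ideal.mul_mem_left _ u hv) hy
    refine ⟨Fin.cons y x, fun j => Fin.cases (motive := fun j => (Fin.cons y x : Fin (i+1) → A) j ∈ a) (by simpa using hya) (fun k => by simpa using hxa k) j,
      fun j => Fin.cases (motive := fun j => (Fin.cons y x : Fin (i+1) → A) j ∈ Ring.jacobson A) (by simpa using hyj) (fun k => by simpa using hxj k) j, ?_⟩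
    have hspan : Ideal.span (Set.range (Fin.cons y x : Fin (i + 1) → A)) = J ⊔ Ideal.span {y} := by
      rw [Fin.range_cons, Ideal.span_insert, sup_comm, hJ]
    rw [hspan]
    have hyQ : J ⊔ Ideal.span {y} ≤ Q :=
      sup_le (hJa.trans haQ) ((Ideal.span_singleton_le_iff_mem _).mpr (haQ hya))
    constructor
    · exact Groth.Agent.EGA41Lib.height_map_mk_succ_le (hJa.trans haQ) hyQ hmin hya haQ hyS hht
    · rw [← hdim, Nat.cast_succ, ← add_assoc, add_right_comm]
      congr 1
      refine Groth.Agent.EGA41Lib.ringKrullDim_quotient_sup_drop (hJa.trans haQ) hyj hyS ?_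
      intro hmax
      exact hmin Q ((hmax Q ‹_› (hJa.trans haQ))) haQ


/-- Let A be a semi-local Noetherian ring with spectrum X and Jacobson radical r, and a an ideal of A
distinct from A with codim(V(a), X) = h > 0 (h is the height of a). Then there exist h elements x_1,
..., x_h of a which are part of a system of parameters of A (so lie in r and can be completed by
elements of r to dim(A) elements generating an ideal modulo which A has finite length) and such that
codim(V(a), V(x_1 A + ... + x_h A)) = 0, i.e. the image of a in A/(x_1 A + ... + x_h A) has height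
0. -/
theorem result (A : Type u) [CommRing A] [IsNoetherianRing A]
    [Finite (MaximalSpectrum A)] (a : Ideal A) (ha : a ≠ ⊤) (h : ℕ) (hh : a.height = h) (hpos : 0 < h) :
    ∃ x : Fin h → A, (∀ i, x i ∈ a) ∧ (∀ i, x i ∈ Ring.jacobson A) ∧
      (∃ ys : List A, (∀ y ∈ ys, y ∈ Ring.jacobson A) ∧
        (((h + ys.length : ℕ) : ℕ∞) : WithBot ℕ∞) = ringKrullDim A ∧
        IsFiniteLength A (A ⧸ (Ideal.span (Set.range x) ⊔ Ideal.ofList ys))) ∧
      (a.map (Ideal.Quotient.mk (Ideal.span (Set.range x)))).height = 0 := by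
  obtain ⟨Q, hQ⟩ := Ideal.exists_isPrime_height_eq hh
  obtain ⟨hQprime, haQ, hQh⟩ := hQ
  obtain ⟨x, hxa, hxj, hht, hdim⟩ := aux A a h hh Q haQ hQh.le h le_rfl
  refine ⟨x, hxa, hxj, ?_, ?_⟩
  · haveI : Nontrivial A := not_subsingleton_iff_nontrivial.mp fun _ => ha (Subsingleton.elim _ _)
    have hxs : ∀ y ∈ List.ofFn x, y ∈ Ring.jacobson A := by
      intro y hy; obtain ⟨i, rfl⟩ := List.mem_ofFn.mp hy; exact hxj i
    have hIdeal : Ideal.ofList (List.ofFn x) = Ideal.span (Set.range x) := by
      simp only [Ideal.ofList]; congr 1; ext; simp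
    have hmul : ∀ I : Ideal A, I • (⊤ : Submodule A A) = I := fun I => by
      rw [smul_eq_mul, Ideal.mul_top]
    obtain ⟨ys, hys, hlen, hfl⟩ := (Groth.Agent.S5768.result A A (List.ofFn x) hxs).mp (by
      rw [Module.supportDim_eq_of_equiv (Submodule.quotEquivOfEq _ (Ideal.span (Set.range x))
        (by rw [hIdeal, hmul])), List.length_ofFn, Module.supportDim_self_eq_ringKrullDim, ← hdim,
        Groth.Agent.EGA41Lib.supportDim_quotient_ideal])
    refine ⟨ys, hys, ?_, ?_⟩
    · rw [← Module.supportDim_self_eq_ringKrullDim, ← hlen, List.length_append, List.length_ofFn]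
      rfl
    · refine LinearEquiv.isFiniteLength (Submodule.quotEquivOfEq _ _ ?_) hfl
      rw [hmul, Ideal.ofList_append, hIdeal]
  · refine le_antisymm ?_ bot_le
    refine le_trans (Ideal.height_mono (Ideal.map_mono haQ)) ?_
    have : (Q.map (Ideal.Quotient.mk (Ideal.span (Set.range x)))).height + h ≤ h := hht
    match hH : (Q.map (Ideal.Quotient.mk (Ideal.span (Set.range x)))).height, this with
    | (⊤ : ℕ∞), hle => rw [top_add] at hle; exact absurd hle (not_le.mpr (ENat.natCast_lt_top h))
    | ((n : ℕ) : ℕ∞), hle =>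
      have : n + h ≤ h := by exact_mod_cast hle
      exact_mod_cast (by omega : n ≤ 0)

end Groth.Agent.S5808
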