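import Groth.Statements.S5811
import Mathlib
import Groth.Agent.RegLoc.Completion
import Groth.Agent.Dim.Support
import Groth.Agent.EGA41Lib.RegFlat
import Groth.Agent.EGA41Lib.Params

set_option autoImplicit false
universe u
open EGA41

namespace Groth.Agent.S5811

open TensorProduct

theorem ringKrullDim_completion_quotient (A : Type u) [CommRing A] [IsNoetherianRing A] (I : Ideal A) :
    ringKrullDim (AdicCompletion (Ring.jacobson A) A ⧸ I.map (algebraMap A (AdicCompletion (Ring.jacobson A) A))) =
      ringKrullDim (A ⧸ I) := by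
  set J := Ring.jacobson A
  let C := AdicCompletion J A
  have hfg : J.FG := IsNoetherian.noetherian J
  haveI : IsNoetherianRing C := Groth.Agent.RegLoc.Completion.isNoetherianRing_adicCompletion' J
  set K := I.map (algebraMap A C)
  let R := A ⧸ I
  let B := C ⧸ K
  haveI : Module.Flat R B := by
    let e : (R ⊗[A] C) ≃ₗ[A] B :=
      (TensorProduct.quotTensorEquivQuotSMul C I).trans
        ((Submodule.quotEquivOfEq _ (K.restrictScalars A) (by
          rw [Groth.Agent.EGA41Lib.smul_top_restrictScalars (B := C), smul_eq_mul, Ideal.mul_top])).trans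
          (Submodule.Quotient.restrictScalarsEquiv A K))
    exact Module.Flat.of_linearEquiv (LinearEquiv.extendScalarsOfSurjective
      (Ideal.Quotient.mk_surjective (I := I)) e).symm
  -- every maximal ideal of `C` is extended from `A`
  have hJM : ∀ M : Ideal C, M.IsMaximal → J.map (algebraMap A C) ≤ M := fun M hM => by
    haveI : IsAdicComplete (J.map (algebraMap A C)) C :=
      (IsAdicComplete.map_algebraMap_iff (I := J) (M := C)).mpr (AdicCompletion.isAdicComplete hfg)
    exact (IsAdicComplete.le_jacobson_bot _).trans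
      (sInf_le (show M ∈ {K : Ideal C | ⊥ ≤ K ∧ K.IsMaximal} from ⟨bot_le, hM⟩))
  have hgen : ∀ M : Ideal C, M.IsMaximal → M ≤ (M.comap (algebraMap A C)).map (algebraMap A C) := by
    intro M hM y hy
    obtain ⟨a, ha⟩ := Ideal.Quotient.mk_surjective (AdicCompletion.evalOneₐ J y)
    have hsub : y - algebraMap A C a ∈ J.map (algebraMap A C) := by
      rw [← AdicCompletion.ker_evalOneₐ_eq_map J hfg]
      show AdicCompletion.evalOneₐ J (y - algebraMap A C a) = 0
      rw [map_sub, AlgHom.commutes, Ideal.Quotient.algebraMap_eq, ha, sub_self]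
    have ham : a ∈ M.comap (algebraMap A C) := by
      rw [Ideal.mem_comap]
      simpa using M.sub_mem hy (hJM M hM hsub)
    simpa using Ideal.add_mem _ (Ideal.map_mono (Ideal.map_le_iff_le_comap.mp (hJM M hM)) hsub)
      (Ideal.mem_map_of_mem (algebraMap A C) ham)
  have hne : ∀ m : Ideal A, m.IsMaximal → m.map (algebraMap A C) ≠ ⊤ := by
    intro m hm htop
    have hle : J ≤ m := by
      show Ring.jacobson A ≤ m
      rw [← Ideal.jacobson_bot]
      exact sInf_le ⟨bot_le, hm⟩
    have hsurj := congrArg (Ideal.map (AdicCompletion.evalOneₐ J).toRingHom) htop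
    rw [Ideal.map_top, Ideal.map_map] at hsurj
    have he : (AdicCompletion.evalOneₐ J).toRingHom.comp (algebraMap A C) = Ideal.Quotient.mk J :=
      RingHom.ext fun a => (AdicCompletion.evalOneₐ J).commutes a
    rw [he] at hsurj
    have := congrArg (Ideal.comap (Ideal.Quotient.mk J)) hsurj
    rw [Ideal.comap_map_of_surjective' _ Ideal.Quotient.mk_surjective, Ideal.mk_ker, Ideal.comap_top,
      sup_eq_left.mpr hle] at this
    exact hm.ne_top this
  refine le_antisymm ?_ ?_
  · rw [ringKrullDim_le_iff_isMaximal_height_le]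
    intro M hM
    haveI := hM
    set m := M.comap (algebraMap R B) with hm
    haveI : m.IsPrime := Ideal.comap_isPrime _ M
    haveI : M.LiesOver m := ⟨rfl⟩
    have hMeq : M = m.map (algebraMap R B) := by
      refine le_antisymm ?_ Ideal.map_comap_le
      have hM' : (M.comap (Ideal.Quotient.mk K)).IsMaximal :=
        Ideal.comap_isMaximal_of_surjective _ Ideal.Quotient.mk_surjective
      intro z hz
      obtain ⟨c, rfl⟩ := Ideal.Quotient.mk_surjective z
      have hc : c ∈ M.comap (Ideal.Quotient.mk K) := hz
      have := Ideal.mem_map_of_mem (Ideal.Quotient.mk K) (hgen _ hM' hc)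
      rw [Ideal.map_map] at this
      refine (show Ideal.map ((Ideal.Quotient.mk K).comp (algebraMap A C)) _ ≤ m.map (algebraMap R B) from ?_) this
      rw [Ideal.map_le_iff_le_comap]
      intro a ha
      exact Ideal.mem_map_of_mem (algebraMap R B) (show Ideal.Quotient.mk I a ∈ m from ha)
    refine le_trans (WithBot.coe_le_coe.mpr ?_) (Ideal.height_le_ringKrullDim_of_ne_top (Ideal.IsPrime.ne_top ‹m.IsPrime›))
    rw [Ideal.height_eq_height_add_of_liesOver_of_hasGoingDown m M, ← hMeq, Ideal.map_quotient_self]
    haveI : Nontrivial (B ⧸ M) := Ideal.Quotient.nontrivial_iff.mpr hM.ne_top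
    rw [Ideal.height_bot, add_zero]
  · rw [ringKrullDim_le_iff_isMaximal_height_le]
    intro m hm
    haveI := hm
    set m₀ := m.comap (Ideal.Quotient.mk I)
    haveI : m₀.IsMaximal := Ideal.comap_isMaximal_of_surjective _ Ideal.Quotient.mk_surjective
    obtain ⟨N, hN, hle⟩ := Ideal.exists_le_maximal _ (hne m₀ inferInstance)
    have hI : I ≤ m₀ := fun a ha => by
      show Ideal.Quotient.mk I a ∈ m
      rw [Ideal.Quotient.eq_zero_iff_mem.mpr ha]
      exact zero_mem _
    haveI : (N.map (Ideal.Quotient.mk K)).IsPrime := Ideal.map_isPrime_of_surjective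
      Ideal.Quotient.mk_surjective (by rw [Ideal.mk_ker]; exact (Ideal.map_mono hI).trans hle)
    haveI : (N.map (Ideal.Quotient.mk K)).LiesOver m := by
      refine ⟨hm.eq_of_le (Ideal.comap_ne_top _ (Ideal.IsPrime.ne_top ‹_›)) fun z hz => ?_⟩
      obtain ⟨a, rfl⟩ := Ideal.Quotient.mk_surjective z
      exact Ideal.mem_map_of_mem (Ideal.Quotient.mk K) (hle (Ideal.mem_map_of_mem _ hz))
    refine le_trans (WithBot.coe_le_coe.mpr ?_)
      (Ideal.height_le_ringKrullDim_of_ne_top (Ideal.IsPrime.ne_top ‹(N.map (Ideal.Quotient.mk K)).IsPrime›))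
    rw [Ideal.height_eq_height_add_of_liesOver_of_hasGoingDown m (N.map (Ideal.Quotient.mk K))]
    exact self_le_add_right _ _


/-- Let A be a semi-local Noetherian ring (finitely many maximal ideals) with Jacobson radical r, M a
finitely generated A-module, and write Â and M̂ for the r-adic completions of A and M. Then
dim_Â(M̂) = dim_A(M), the dimension of a module being the Krull dimension of its support. (For M = 0
both sides are ⊥.) -/
theorem result (A : Type u) [CommRing A] [IsNoetherianRing A]
    [Finite (MaximalSpectrum A)] (M : Type u) [AddCommGroup M] [Module A M] [Module.Finite A M] :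
    Module.supportDim (AdicCompletion (Ring.jacobson A) A) (AdicCompletion (Ring.jacobson A) M) =
      Module.supportDim A M := by
  set J := Ring.jacobson A
  let Â := AdicCompletion J A
  have hfg : J.FG := IsNoetherian.noetherian J
  haveI : IsNoetherianRing Â := Groth.Agent.RegLoc.Completion.isNoetherianRing_adicCompletion' J
  have e := AdicCompletion.ofTensorProductEquivOfFiniteNoetherian J M
  rw [← Module.supportDim_eq_of_equiv e]
  set I := Module.annihilator A M
  set K := I.map (algebraMap A Â) with hK
  have hsupp : Module.support Â (Â ⊗[A] M) = PrimeSpectrum.zeroLocus (K : Set Â) := by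
    rw [Groth.Agent.Dim.support_tensor A Â Â M, Module.support_eq_zeroLocus, Module.support_eq_zeroLocus,
      PrimeSpectrum.preimage_comap_zeroLocus, hK, Ideal.map, PrimeSpectrum.zeroLocus_span,
      Module.annihilator_eq_bot.mpr (inferInstance : FaithfulSMul Â Â)]
    simp [I]
  rw [Groth.Agent.Dim.supportDim_eq_ringKrullDim_of_support_eq hsupp,
    Module.supportDim_eq_ringKrullDim_quotient_annihilator]
  exact ringKrullDim_completion_quotient A I

end Groth.Agent.S5811
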