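import Groth.Statements.S5813
import Groth.Agent.Exal.Basic

set_option autoImplicit false
universe u
open EGA41

namespace Groth.Agent.S5813

/-- Injectivity, commutative form. Let J be an ideal of the commutative ring B, C = B ⧸ J, M a C-module.
Two B-extensions of C by M whose induced linear maps J/J² → M (obtained from the restriction to J of
the structure map B → E) coincide are equivalent. -/
theorem result {B : Type u} [CommRing B] (J : Ideal B)
    {M : Type u} [AddCommGroup M] [Module (B ⧸ J) M] [Module B M] [IsScalarTower B (B ⧸ J) M]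
    (X Y : Exal.Ext B (B ⧸ J) M) (h : X.conormalMap J = Y.conormalMap J) :
    Nonempty (X.Equiv Y) := by
  have hP : ∀ (X : Exal.Ext B (B ⧸ J) M) (j : J), X.incl (X.conormalMap J (J.toCotangent j)) =
      algebraMap B X.E j := fun X j => X.incl_kerLift _ (X.proj_algebraMap_eq_zero J j)
  have hdec : ∀ x : X.E, ∃ p : B × M, algebraMap B X.E p.1 + X.incl p.2 = x := by
    intro x
    obtain ⟨b, hb⟩ := Ideal.Quotient.mk_surjective (X.proj x)
    obtain ⟨z, hz⟩ := (X.isExtension.exact (x - algebraMap B X.E b)).1
      (by rw [map_sub, X.proj.commutes, ← hb, Ideal.Quotient.algebraMap_eq, sub_self])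
    exact ⟨(b, z), by rw [hz]; abel⟩
  have hwd : ∀ b b' z z', algebraMap B X.E b + X.incl z = algebraMap B X.E b' + X.incl z' →
      algebraMap B Y.E b + Y.incl z = algebraMap B Y.E b' + Y.incl z' := by
    intro b b' z z' he
    have hb : b - b' ∈ J := by
      rw [← Ideal.Quotient.eq_zero_iff_mem, map_sub, sub_eq_zero]
      have h2 := congrArg X.proj he
      simpa [Exal.proj_incl] using h2
    have h1 : X.conormalMap J (J.toCotangent ⟨b - b', hb⟩) = z' - z := by
      apply X.isExtension.incl_injective
      rw [hP, map_sub, map_sub]
      linear_combination he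
    have h2 := hP Y ⟨b - b', hb⟩
    rw [← h, h1, map_sub, map_sub] at h2
    linear_combination -h2
  choose p hp using hdec
  let g : X.E → Y.E := fun x => algebraMap B Y.E (p x).1 + Y.incl (p x).2
  have hg : ∀ b z, g (algebraMap B X.E b + X.incl z) = algebraMap B Y.E b + Y.incl z :=
    fun b z => hwd _ _ _ _ (hp _)
  have hadd : ∀ x y, g (x + y) = g x + g y := by
    intro x y
    conv_lhs => rw [← hp x, ← hp y]
    rw [show algebraMap B X.E (p x).1 + X.incl (p x).2 + (algebraMap B X.E (p y).1 + X.incl (p y).2)
      = algebraMap B X.E ((p x).1 + (p y).1) + X.incl ((p x).2 + (p y).2) by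
        simp only [map_add]; ring, hg]
    simp only [g, map_add]; ring
  have hmul : ∀ x y, g (x * y) = g x * g y := by
    intro x y
    have key : ∀ (Z : Exal.Ext B (B ⧸ J) M) b b' z z',
        (algebraMap B Z.E b + Z.incl z) * (algebraMap B Z.E b' + Z.incl z') =
          algebraMap B Z.E (b * b') + Z.incl (b • z' + b' • z) := by
      intro Z b b' z z'
      simp only [map_add, map_mul, add_mul, mul_add, Z.isExtension.mul_incl, Exal.mul_incl',
        Exal.proj_incl, zero_smul, map_zero, add_zero, AlgHom.commutes, algebraMap_smul]
      ring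
    conv_lhs => rw [← hp x, ← hp y, key, hg, ← key]
  have halg : ∀ b, g (algebraMap B X.E b) = algebraMap B Y.E b := by
    intro b; simpa using hg b 0
  exact ⟨Exal.mkEquiv
    { toFun := g
      map_one' := by simpa using halg 1
      map_mul' := hmul
      map_zero' := by simpa using halg 0
      map_add' := hadd
      commutes' := halg }
    (fun x => by
      conv_rhs => rw [← hp x]
      change Y.proj (g x) = _
      simp [g, Exal.proj_incl])
    (fun z => by
      change g (X.incl z) = Y.incl z
      simpa using hg 0 z)⟩

end Groth.Agent.S5813
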