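import Groth.Statements.S5814
import Groth.Agent.Exal.Basic

set_option autoImplicit false
universe u
open EGA41

namespace Groth.Agent.S5814

/-- Surjectivity, commutative form. Let J be an ideal of the commutative ring B, C = B ⧸ J, M a
C-module. Every linear map w : J/J² → M arises from a B-extension of C by M: there is an extension
whose induced map J/J² → M is w. Together with the injectivity statement this is the canonical
bijection between Hom_C(J/J², M) and the classes of B-extensions of C by M. -/
theorem result {B : Type u} [CommRing B] (J : Ideal B)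
    {M : Type u} [AddCommGroup M] [Module (B ⧸ J) M] [Module B M] [IsScalarTower B (B ⧸ J) M]
    (w : J.Cotangent →ₗ[B] M) :
    ∃ X : Exal.Ext B (B ⧸ J) M, X.conormalMap J = w := by
  letI : Module Bᵐᵒᵖ M := _root_.Exal.opModule B M
  haveI : IsCentralScalar B M := _root_.Exal.isCentralScalar_opModule B M
  have hJ : ∀ j ∈ J, ∀ m : M, j • m = 0 := fun j hj m => by
    rw [← algebraMap_smul (B ⧸ J) j m, Ideal.Quotient.algebraMap_eq,
      Ideal.Quotient.eq_zero_iff_mem.2 hj, zero_smul]
  let W : Ideal (TrivSqZeroExt B M) :=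
    { carrier := {x | ∃ j : J, x.fst = (j : B) ∧ x.snd = -w (J.toCotangent j)}
      zero_mem' := ⟨0, by simp, by simp⟩
      add_mem' := by
        rintro x y ⟨j, hj1, hj2⟩ ⟨k, hk1, hk2⟩
        exact ⟨j + k, by simp [hj1, hk1], by simp [hj2, hk2]; abel⟩
      smul_mem' := by
        rintro p x ⟨j, hj1, hj2⟩
        refine ⟨p.fst • j, by simp [hj1], ?_⟩
        simp [hj1, hj2, hJ _ j.2, map_smul] }
  let q : TrivSqZeroExt B M →+* B ⧸ J :=
    { toFun := fun x => Ideal.Quotient.mk J x.fst
      map_one' := by simp
      map_mul' := fun x y => by simp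
      map_zero' := by simp
      map_add' := fun x y => by simp }
  have hq : ∀ x ∈ W, q x = 0 := by
    rintro x ⟨j, hj1, -⟩
    change Ideal.Quotient.mk J x.fst = 0
    rw [hj1, Ideal.Quotient.eq_zero_iff_mem]
    exact j.2
  let π : TrivSqZeroExt B M →+* TrivSqZeroExt B M ⧸ W := Ideal.Quotient.mk W
  letI : Algebra B (TrivSqZeroExt B M ⧸ W) := (π.comp (TrivSqZeroExt.inlHom B M)).toAlgebra
  let p : TrivSqZeroExt B M ⧸ W →ₐ[B] B ⧸ J :=
    { Ideal.Quotient.lift W q hq with commutes' := fun _ => rfl }
  have hp : ∀ x, p (π x) = Ideal.Quotient.mk J x.fst := fun _ => rfl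
  let i : M →+ TrivSqZeroExt B M ⧸ W :=
    π.toAddMonoidHom.comp (TrivSqZeroExt.inrHom B M).toAddMonoidHom
  let X : Exal.Ext B (B ⧸ J) M :=
    { E := TrivSqZeroExt B M ⧸ W
      proj := p
      incl := i
      isExtension :=
        { proj_surjective := fun c => by
            obtain ⟨b, rfl⟩ := Ideal.Quotient.mk_surjective c
            exact ⟨π (TrivSqZeroExt.inl b), by rw [hp, TrivSqZeroExt.fst_inl]⟩
          incl_injective := fun z z' h => by
            obtain ⟨j, hj1, hj2⟩ := Ideal.Quotient.eq.1 h
            simp at hj1 hj2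
            have h3 : j = 0 := Subtype.ext (by simpa using hj1.symm)
            rw [h3] at hj2
            simpa [sub_eq_zero] using hj2
          exact := fun x => by
            obtain ⟨x, rfl⟩ := Ideal.Quotient.mk_surjective x
            constructor
            · intro hx
              have hx' : x.fst ∈ J := Ideal.Quotient.eq_zero_iff_mem.1 hx
              refine ⟨x.snd + w (J.toCotangent ⟨_, hx'⟩), Ideal.Quotient.eq.2 ⟨-⟨_, hx'⟩, ?_, ?_⟩⟩ <;>
                simp
            · rintro ⟨z, hz⟩
              rw [← hz]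
              exact (hp (TrivSqZeroExt.inr z)).trans (by simp)
          mul_incl := fun x z => by
            obtain ⟨x, rfl⟩ := Ideal.Quotient.mk_surjective x
            change π x * π (TrivSqZeroExt.inr z) = π (TrivSqZeroExt.inr (p (π x) • z))
            rw [← map_mul, hp, ← Ideal.Quotient.algebraMap_eq, algebraMap_smul]
            exact congrArg π (TrivSqZeroExt.ext (by simp) (by simp)) } }
  refine ⟨X, LinearMap.ext fun x => ?_⟩
  obtain ⟨j, rfl⟩ := J.toCotangent_surjective x
  apply X.isExtension.incl_injective
  refine (X.incl_kerLift _ (X.proj_algebraMap_eq_zero J j)).trans ?_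
  refine Ideal.Quotient.eq.2 ⟨j, ?_, ?_⟩ <;> simp

end Groth.Agent.S5814
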