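import Groth.Statements.S5815
import Groth.Agent.Exal.Lift

set_option autoImplicit false
universe u
open EGA41

namespace Groth.Agent.S5815

/-- Discrete case. A commutative A-algebra B is formally smooth if and only if every A-extension of B by
a B-module L is trivial (has an A-algebra section). A and B are taken in one universe and L ranges
over that universe. (The published statement is for topological rings, with direct-limit classes of
extensions; this row is its discrete case.) -/
theorem result (A B : Type u) [CommRing A] [CommRing B] [Algebra A B] :
    Algebra.FormallySmooth A B ↔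
      ∀ (L : Type u) [AddCommGroup L] [Module B L] (X : Exal.Ext A B L), X.IsTrivial := by
  refine ⟨fun h L _ _ X => Exal.isTrivial_of_formallySmooth X, fun h => ?_⟩
  rw [Algebra.FormallySmooth.iff_comp_surjective]
  intro C _ _ I hI u
  letI : Algebra B (C ⧸ I) := u.toRingHom.toAlgebra
  haveI : IsScalarTower A B (C ⧸ I) := IsScalarTower.of_algebraMap_eq fun a => (u.commutes a).symm
  letI : Module B I.Cotangent := Module.compHom I.Cotangent (algebraMap B (C ⧸ I))
  haveI : IsScalarTower B (C ⧸ I) I.Cotangent := IsScalarTower.of_algebraMap_smul fun _ _ => rfl
  obtain ⟨s, hs⟩ := h I.Cotangent ((Exal.sqZeroExt A I hI).pullback B)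
  refine ⟨((AlgHom.fst A C B).comp ((Exal.sqZeroExt A I hI).fiberProd B).val).comp s,
    AlgHom.ext fun b => ?_⟩
  exact (AlgHom.mem_equalizer _ _ _).1 (s b).2 |>.trans (congrArg u (hs b))

end Groth.Agent.S5815
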