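import Groth.Statements.S5816
import Groth.Agent.Exal.Lift

set_option autoImplicit false
universe u
open EGA41

namespace Groth.Agent.S5816

/-- Discrete case. For ring maps Λ → A → B, B is formally smooth over A relative to Λ (square-zero test
ideals) if and only if every A-extension of B by a B-module L which is Λ-trivial is A-trivial. Λ, A,
B are taken in one universe and L ranges over it. (The published statement is for topological rings;
this row is its discrete case.) -/
theorem result (Λ A B : Type u) [CommRing Λ]
    [CommRing A] [CommRing B] [Algebra Λ A] [Algebra Λ B] [Algebra A B] [IsScalarTower Λ A B] :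
    EGA41.IsFormallySmoothRel Λ A B ↔
      ∀ (L : Type u) [AddCommGroup L] [Module B L] (X : Exal.Ext A B L),
        X.IsTrivialOver Λ → X.IsTrivial := by
  constructor
  · intro h L _ _ X hX
    letI : Algebra Λ X.E := ((algebraMap A X.E).comp (algebraMap Λ A)).toAlgebra
    haveI : IsScalarTower Λ A X.E := IsScalarTower.of_algebraMap_eq fun _ => rfl
    obtain ⟨s, hs⟩ := hX
    have hsurj : Function.Surjective X.proj := X.isExtension.proj_surjective
    let e := Ideal.quotientKerAlgEquivOfSurjective hsurj
    let u : B →ₐ[Λ] X.E :=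
      { s.toRingHom with commutes' := fun l => s.commutes l }
    have he : ∀ x : X.E, e (Ideal.Quotient.mk _ x) = X.proj x := fun x =>
      Ideal.quotientKerAlgEquivOfSurjective_apply (f := X.proj) hsurj x
    obtain ⟨v, hv⟩ := h X.E (RingHom.ker X.proj) (Exal.ker_proj_sq X) e.symm.toAlgHom
      ⟨u, AlgHom.ext fun b => e.injective (by
        change e (Ideal.Quotient.mk _ (u b)) = e (e.symm b)
        rw [e.apply_symm_apply, he]
        exact hs b)⟩
    refine ⟨v, fun b => ?_⟩
    have h2 := congrArg e (AlgHom.congr_fun hv b)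
    change e (Ideal.Quotient.mk _ (v b)) = e (e.symm b) at h2
    rw [e.apply_symm_apply, he] at h2
    exact h2
  · intro h C _ _ _ _ J hJ u₀ hu
    obtain ⟨u, hu⟩ := hu
    letI : Algebra B (C ⧸ J) := u₀.toRingHom.toAlgebra
    haveI : IsScalarTower A B (C ⧸ J) := IsScalarTower.of_algebraMap_eq fun a => (u₀.commutes a).symm
    letI : Module B J.Cotangent := Module.compHom J.Cotangent (algebraMap B (C ⧸ J))
    haveI : IsScalarTower B (C ⧸ J) J.Cotangent := IsScalarTower.of_algebraMap_smul fun _ _ => rfl
    let X := (Exal.sqZeroExt A J hJ).pullback B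
    have hb : ∀ b, Ideal.Quotient.mk J (u b) = u₀ b := fun b => AlgHom.congr_fun hu b
    let σ : B →+* X.E :=
      { toFun := fun b => ⟨(u b, b), hb b⟩
        map_one' := Subtype.ext (Prod.ext (map_one u) rfl)
        map_mul' := fun x y => Subtype.ext (Prod.ext (map_mul u x y) rfl)
        map_zero' := Subtype.ext (Prod.ext (map_zero u) rfl)
        map_add' := fun x y => Subtype.ext (Prod.ext (map_add u x y) rfl) }
    have hT : X.IsTrivialOver Λ := (Exal.isTrivialOver_iff_sec (A := Λ) X).2
      ⟨⟨σ, fun b => rfl, fun l => Subtype.ext (Prod.ext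
        ((u.commutes l).trans (IsScalarTower.algebraMap_apply Λ A C l))
        (IsScalarTower.algebraMap_apply Λ A B l))⟩⟩
    obtain ⟨s, hs⟩ := h J.Cotangent X hT
    refine ⟨((AlgHom.fst A C B).comp ((Exal.sqZeroExt A J hJ).fiberProd B).val).comp s,
      AlgHom.ext fun b => ?_⟩
    exact (AlgHom.mem_equalizer _ _ _).1 (s b).2 |>.trans (congrArg u₀ (hs b))

end Groth.Agent.S5816
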