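import Groth.Statements.S5819
import Groth.Agent.Exal.Basic

set_option autoImplicit false
universe u v
open EGA41

namespace Groth.Agent.S5819

/-- Commutative rings, exactness at Exalcom_A(C, L) on underlying pointed sets. For ring maps A → B → C
and a C-module L, an A-extension Y of C by L pulls back to a trivial A-extension of B if and only if
Y is equivalent to some B-extension of C by L viewed as an A-extension. -/
theorem result {A : Type u} {B C L : Type v} [CommRing A]
    [CommRing B] [CommRing C] [Algebra A B] [Algebra B C] [Algebra A C] [IsScalarTower A B C]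
    [AddCommGroup L] [Module C L] [Module B L] [IsScalarTower B C L]
    (Y : Exal.Ext A C L) :
    (Y.pullback B).IsTrivial ↔
      ∃ X : Exal.Ext B C L, Nonempty ((X.restrictBase A).Equiv Y) := by
  constructor
  · rintro ⟨s, hs⟩
    let t : B →ₐ[A] Y.E := ((AlgHom.fst A Y.E B).comp (Y.fiberProd B).val).comp s
    have ht : ∀ b, Y.proj (t b) = algebraMap B C b := fun b => by
      have h := (s b).2
      exact ((AlgHom.mem_equalizer _ _ _).1 h).trans (congrArg (algebraMap B C) (hs b))
    letI : Algebra B Y.E := t.toRingHom.toAlgebra
    let X : Exal.Ext B C L :=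
      { E := Y.E
        proj := { Y.proj.toRingHom with commutes' := ht }
        incl := Y.incl
        isExtension := ⟨Y.isExtension.proj_surjective, Y.isExtension.incl_injective,
          Y.isExtension.exact, Y.isExtension.mul_incl⟩ }
    refine ⟨X, ⟨Exal.mkEquiv
      { toFun := fun x => x
        map_one' := rfl
        map_mul' := fun _ _ => rfl
        map_zero' := rfl
        map_add' := fun _ _ => rfl
        commutes' := fun a => t.commutes a } (fun x => rfl) (fun z => rfl)⟩⟩
  · rintro ⟨X, ⟨e⟩⟩
    let j : X.E →+* (X.restrictBase A).E := RingHom.id X.E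
    let t : B →+* Y.E :=
      (RingHomClass.toRingHom e.toAlgEquiv).comp (j.comp (algebraMap B X.E))
    have ht : ∀ b, Y.proj (t b) = algebraMap B C b := fun b =>
      (e.proj_apply _).trans (X.proj.commutes b)
    have htA : ∀ a, t (algebraMap A B a) = algebraMap A Y.E a := fun a => e.toAlgEquiv.commutes a
    let t' : B →ₐ[A] Y.E := { t with commutes' := htA }
    refine ⟨(AlgHom.prod t' (AlgHom.id A B)).codRestrict _ fun b => ?_, fun b => rfl⟩
    exact (AlgHom.mem_equalizer _ _ _).2 (ht b)

end Groth.Agent.S5819
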