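import Groth.Statements.S5821
import Groth.Agent.Exal.Char

set_option autoImplicit false
universe u v
open EGA41

namespace Groth.Agent.S5821

open scoped TensorProduct

/-- For a ring map A → B, an ideal K of B, C = B ⧸ K and the B-extension E = B ⧸ K² of C by K/K², if E
is A-trivial then its characteristic homomorphism Υ_{C/B/A} → K/K² is bijective (stated for every
C-linear χ satisfying the defining square, of which there is exactly one). -/
theorem result {A : Type u} {B : Type v} [CommRing A] [CommRing B] [Algebra A B]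
    (K : Ideal B) (hK : (Exal.Ext.infinitesimal K).IsTrivialOver A)
    (χ : ↥(EGA41.imperfection A B (B ⧸ K)) →ₗ[B ⧸ K] K.Cotangent)
    (hχ : (Exal.Ext.infinitesimal K).IsCharHom A χ) :
    Function.Bijective χ := by
  obtain ⟨σ⟩ := (Exal.isTrivialOver_iff_sec (Exal.Ext.infinitesimal K)).1 hK
  have hχ' := (Exal.isCharHom_iff σ χ).1 hχ
  have hder : ∀ k : K, σ.der (k : B) = K.toCotangent k := fun k => by
    apply σ.der_apply_eq
    have h0 : algebraMap B (B ⧸ K) (k : B) = 0 := Ideal.Quotient.eq_zero_iff_mem.2 k.2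
    rw [h0, map_zero, zero_add]
    exact (Ideal.toCotangent_to_quotient_square K k).symm
  have hgen : ∀ z : ↥(EGA41.imperfection A B (B ⧸ K)), ∃ k : K,
      (z : TensorProduct B (B ⧸ K) Ω[B⁄A]) = 1 ⊗ₜ KaehlerDifferential.D A B (k : B) := fun z => by
    obtain ⟨x, hx⟩ := (KaehlerDifferential.exact_kerCotangentToTensor_mapBaseChange A B (B ⧸ K)
      Ideal.Quotient.mk_surjective (z : TensorProduct B (B ⧸ K) Ω[B⁄A])).1 z.2
    obtain ⟨k, rfl⟩ := Ideal.toCotangent_surjective _ x
    refine ⟨⟨k, ?_⟩, hx.symm.trans rfl⟩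
    exact (Ideal.Quotient.eq_zero_iff_mem).1 k.2
  have hval : ∀ (z : ↥(EGA41.imperfection A B (B ⧸ K))) (k : K),
      (z : TensorProduct B (B ⧸ K) Ω[B⁄A]) = 1 ⊗ₜ KaehlerDifferential.D A B (k : B) →
        χ z = K.toCotangent k := fun z k hk => by
    rw [hχ' z, hk, Exal.liftC_tmul, one_smul, hder]
  refine ⟨fun z z' hzz => ?_, fun x => ?_⟩
  · obtain ⟨k, hk⟩ := hgen z
    obtain ⟨k', hk'⟩ := hgen z'
    rw [hval z k hk, hval z' k' hk', Ideal.toCotangent_eq] at hzz
    apply Subtype.ext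
    rw [hk, hk']
    have : KaehlerDifferential.kerCotangentToTensor A B (B ⧸ K)
        (Ideal.toCotangent _ ⟨(k : B), Ideal.Quotient.eq_zero_iff_mem.2 k.2⟩) =
        KaehlerDifferential.kerCotangentToTensor A B (B ⧸ K)
        (Ideal.toCotangent _ ⟨(k' : B), Ideal.Quotient.eq_zero_iff_mem.2 k'.2⟩) := by
      congr 1
      rw [Ideal.toCotangent_eq]
      change (k : B) - k' ∈ RingHom.ker (algebraMap B (B ⧸ K)) ^ 2
      rw [Ideal.Quotient.algebraMap_eq, Ideal.mk_ker]
      exact hzz
    exact this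
  · obtain ⟨k, rfl⟩ := K.toCotangent_surjective x
    refine ⟨⟨1 ⊗ₜ KaehlerDifferential.D A B (k : B), ?_⟩, hval _ k rfl⟩
    change _ ∈ LinearMap.ker (KaehlerDifferential.mapBaseChange A B (B ⧸ K))
    rw [LinearMap.mem_ker, KaehlerDifferential.mapBaseChange_tmul, KaehlerDifferential.map_D,
      show algebraMap B (B ⧸ K) (k : B) = 0 from Ideal.Quotient.eq_zero_iff_mem.2 k.2, map_zero, smul_zero]

end Groth.Agent.S5821
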