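import Groth.Statements.S5822
import Groth.Agent.Exal.Char

set_option autoImplicit false
universe u v
open scoped TensorProduct
open EGA41

namespace Groth.Agent.S5822

/-- Injectivity. For ring maps A → B → C and a C-module L, assume (i) L is an injective C-module, or
(ii) Υ_{C/B/A} is a direct summand of C ⊗_B Ω_{B/A} and Ω_{C/A} → Ω_{C/B} has a right inverse. Then
two A-trivial B-extensions of C by L with a common characteristic homomorphism are equivalent: the
map from classes of A-trivial extensions to Hom_C(Υ_{C/B/A}, L) is injective. -/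
theorem result {A : Type u} {B C L : Type v} [CommRing A] [CommRing B] [CommRing C]
    [Algebra A B] [Algebra B C] [Algebra A C] [IsScalarTower A B C] [AddCommGroup L] [Module C L]
    (h : Module.Injective C L ∨
      ((∃ r : C ⊗[B] Ω[B⁄A] →ₗ[C] ↥(EGA41.imperfection A B C), ∀ z : ↥(EGA41.imperfection A B C), r z = z) ∧
        ∃ s : Ω[C⁄B] →ₗ[C] Ω[C⁄A], ∀ ω : Ω[C⁄B], KaehlerDifferential.map A B C C (s ω) = ω))
    (X Y : Exal.Ext B C L) (hX : X.IsTrivialOver A) (hY : Y.IsTrivialOver A)
    (χ : ↥(EGA41.imperfection A B C) →ₗ[C] L) (hXχ : X.IsCharHom A χ) (hYχ : Y.IsCharHom A χ) :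
    Nonempty (X.Equiv Y) := by
  letI : Module B L := Module.compHom L (algebraMap B C)
  haveI : IsScalarTower B C L := IsScalarTower.of_algebraMap_smul fun _ _ => rfl
  letI : Module A L := Module.compHom L (algebraMap A C)
  haveI : IsScalarTower A B L := IsScalarTower.of_algebraMap_smul fun a z => by
    change algebraMap B C (algebraMap A B a) • z = algebraMap A C a • z
    rw [← IsScalarTower.algebraMap_apply]
  haveI : IsScalarTower A C L := IsScalarTower.of_algebraMap_smul fun _ _ => rfl
  obtain ⟨σ⟩ := (Exal.isTrivialOver_iff_sec X).1 hX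
  obtain ⟨τ⟩ := (Exal.isTrivialOver_iff_sec Y).1 hY
  let δ := Exal.liftC (C := C) σ.der - Exal.liftC τ.der
  have hδ : LinearMap.ker (KaehlerDifferential.mapBaseChange A B C) ≤ LinearMap.ker δ := by
    intro z hz
    rw [LinearMap.mem_ker, LinearMap.sub_apply,
      ← (Exal.isCharHom_iff σ χ).1 hXχ ⟨z, hz⟩, ← (Exal.isCharHom_iff τ χ).1 hYχ ⟨z, hz⟩, sub_self]
  let e := (KaehlerDifferential.mapBaseChange A B C).quotKerEquivRange
  let δ₀ : ↥(LinearMap.range (KaehlerDifferential.mapBaseChange A B C)) →ₗ[C] L :=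
    (Submodule.liftQ _ δ hδ).comp e.symm.toLinearMap
  have hδ₀ : ∀ z (hz : KaehlerDifferential.mapBaseChange A B C z ∈ LinearMap.range _),
      δ₀ ⟨_, hz⟩ = δ z := fun z hz => by
    have : e.symm ⟨_, hz⟩ = Submodule.Quotient.mk z := by
      rw [LinearEquiv.symm_apply_eq]; rfl
    simp [δ₀, this]
  obtain ⟨φ, hφ⟩ : ∃ φ : Ω[C⁄A] →ₗ[C] L, ∀ z, φ (KaehlerDifferential.mapBaseChange A B C z) = δ z := by
    rcases h with h | ⟨-, s, hs⟩
    · obtain ⟨φ, hφ⟩ := h.out (LinearMap.range (KaehlerDifferential.mapBaseChange A B C)).subtype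
        (Submodule.subtype_injective _) δ₀
      exact ⟨φ, fun z => (hφ ⟨_, z, rfl⟩).trans (hδ₀ z _)⟩
    · let π : Ω[C⁄A] →ₗ[C] ↥(LinearMap.range (KaehlerDifferential.mapBaseChange A B C)) :=
        (LinearMap.id - s.comp (KaehlerDifferential.map A B C C)).codRestrict _ fun ω => by
          rw [KaehlerDifferential.range_mapBaseChange, LinearMap.mem_ker]
          simp [hs]
      refine ⟨δ₀.comp π, fun z => ?_⟩
      have : π (KaehlerDifferential.mapBaseChange A B C z) = ⟨_, z, rfl⟩ := by
        apply Subtype.ext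
        have h0 : KaehlerDifferential.map A B C C (KaehlerDifferential.mapBaseChange A B C z) = 0 :=
          (KaehlerDifferential.exact_mapBaseChange_map A B C).apply_apply_eq_zero z
        simp [π, h0]
      rw [LinearMap.comp_apply, this]
      exact hδ₀ z _
  let D' : Derivation A C L := φ.compDer (KaehlerDifferential.D A C)
  have hD' : ∀ b, D' (algebraMap B C b) = σ.der b - τ.der b := fun b => by
    have h2 := hφ (1 ⊗ₜ KaehlerDifferential.D A B b)
    simpa [δ, D'] using h2
  refine ⟨(σ.twist D').equiv τ fun b => ?_⟩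
  rw [Exal.Sec.twist_der, hD', sub_sub_cancel]

end Groth.Agent.S5822
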