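import Groth.Statements.S5823
import Groth.Agent.Exal.Char

set_option autoImplicit false
universe u v
open scoped TensorProduct
open EGA41

namespace Groth.Agent.S5823

/-- Surjectivity. For ring maps A → B → C and a C-module L, assume (i) L is an injective C-module, or
(ii) Υ_{C/B/A} is a direct summand of C ⊗_B Ω_{B/A} and Ω_{C/A} → Ω_{C/B} has a right inverse. Then
every C-linear map Υ_{C/B/A} → L is the characteristic homomorphism of an A-trivial B-extension of C
by L. -/
theorem result {A : Type u} {B C L : Type v} [CommRing A] [CommRing B] [CommRing C]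
    [Algebra A B] [Algebra B C] [Algebra A C] [IsScalarTower A B C] [AddCommGroup L] [Module C L]
    (h : Module.Injective C L ∨
      ((∃ r : C ⊗[B] Ω[B⁄A] →ₗ[C] ↥(EGA41.imperfection A B C), ∀ z : ↥(EGA41.imperfection A B C), r z = z) ∧
        ∃ s : Ω[C⁄B] →ₗ[C] Ω[C⁄A], ∀ ω : Ω[C⁄B], KaehlerDifferential.map A B C C (s ω) = ω))
    (χ : ↥(EGA41.imperfection A B C) →ₗ[C] L) :
    ∃ X : Exal.Ext B C L, X.IsTrivialOver A ∧ X.IsCharHom A χ := by
  letI : Module B L := Module.compHom L (algebraMap B C)
  haveI : IsScalarTower B C L := IsScalarTower.of_algebraMap_smul fun _ _ => rfl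
  letI : Module A L := Module.compHom L (algebraMap A C)
  haveI : IsScalarTower A B L := IsScalarTower.of_algebraMap_smul fun a z => by
    change algebraMap B C (algebraMap A B a) • z = algebraMap A C a • z
    rw [← IsScalarTower.algebraMap_apply]
  haveI : IsScalarTower A C L := IsScalarTower.of_algebraMap_smul fun _ _ => rfl
  obtain ⟨ψ, hψ⟩ : ∃ ψ : C ⊗[B] Ω[B⁄A] →ₗ[C] L,
      ∀ z : ↥(EGA41.imperfection A B C), ψ z = χ z := by
    rcases h with h | ⟨⟨r, hr⟩, -⟩
    · letI : AddCommGroup ↥(EGA41.imperfection A B C) :=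
        @Submodule.addCommGroup C (C ⊗[B] Ω[B⁄A]) _ _ _ (EGA41.imperfection A B C)
      exact h.out (EGA41.imperfection A B C).subtype (Submodule.subtype_injective _) χ
    · exact ⟨χ.comp r, fun z => by simp [hr]⟩
  let D : Derivation A B L := ((ψ.restrictScalars B).comp
    ((TensorProduct.mk B C Ω[B⁄A]) 1)).compDer (KaehlerDifferential.D A B)
  have hlift : Exal.liftC (C := C) D = ψ := Exal.linearMap_ext fun b => by simp [D]
  refine ⟨Exal.derExt D, Exal.derExt_isTrivialOver D,
    (Exal.isCharHom_iff (Exal.derExtSec D) χ).2 fun z => ?_⟩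
  have : (Exal.derExtSec (C := C) D).der = D := Derivation.ext (Exal.derExtSec_der D)
  rw [this, hlift, hψ]

end Groth.Agent.S5823
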