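import Groth.Statements.S5824
import Groth.Agent.Exal.Char
import Groth.Agent.S5822
import Groth.Agent.S5823

set_option autoImplicit false
universe u v
open EGA41

namespace Groth.Agent.S5824

open scoped TensorProduct

/-- For ring maps A → B → C with C formally smooth over A (discrete topologies) and Ω_{C/B} a projective
C-module, and a C-module L, the characteristic homomorphism is a bijection from the classes of all
B-extensions of C by L (each of which is A-trivial) onto Hom_C(Υ_{C/B/A}, L): injectivity on classes
and surjectivity. -/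
theorem result {A : Type u} {B C L : Type v} [CommRing A] [CommRing B] [CommRing C]
    [Algebra A B] [Algebra B C] [Algebra A C] [IsScalarTower A B C] [AddCommGroup L] [Module C L]
    [Algebra.FormallySmooth A C] [Module.Projective C Ω[C⁄B]] :
    (∀ (X Y : Exal.Ext B C L) (χ : ↥(EGA41.imperfection A B C) →ₗ[C] L),
        X.IsCharHom A χ → Y.IsCharHom A χ → Nonempty (X.Equiv Y)) ∧
      ∀ χ : ↥(EGA41.imperfection A B C) →ₗ[C] L, ∃ X : Exal.Ext B C L, X.IsCharHom A χ := by
  haveI : Module.Projective C Ω[C⁄A] := Algebra.FormallySmooth.projective_kaehlerDifferential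
  obtain ⟨s, hs⟩ := Module.projective_lifting_property (KaehlerDifferential.map A B C C)
    LinearMap.id (KaehlerDifferential.map_surjective A B C)
  have hs' : ∀ ω, KaehlerDifferential.map A B C C (s ω) = ω := fun ω => LinearMap.congr_fun hs ω
  let π : Ω[C⁄A] →ₗ[C] ↥(LinearMap.range (KaehlerDifferential.mapBaseChange A B C)) :=
    (LinearMap.id - s.comp (KaehlerDifferential.map A B C C)).codRestrict _ fun ω => by
      rw [KaehlerDifferential.range_mapBaseChange, LinearMap.mem_ker]
      simp [hs']
  haveI : Module.Projective C ↥(LinearMap.range (KaehlerDifferential.mapBaseChange A B C)) := by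
    refine Module.Projective.of_split (LinearMap.range (KaehlerDifferential.mapBaseChange A B C)).subtype π
      (LinearMap.ext fun x => Subtype.ext ?_)
    obtain ⟨z, hz⟩ := x.2
    have h0 : KaehlerDifferential.map A B C C (x : Ω[C⁄A]) = 0 := by
      rw [← hz]; exact (KaehlerDifferential.exact_mapBaseChange_map A B C).apply_apply_eq_zero z
    simp [π, h0]
  obtain ⟨t, ht⟩ := Module.projective_lifting_property
    (KaehlerDifferential.mapBaseChange A B C).rangeRestrict LinearMap.id
    (LinearMap.surjective_rangeRestrict _)
  let r : C ⊗[B] Ω[B⁄A] →ₗ[C] ↥(EGA41.imperfection A B C) :=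
    (LinearMap.id - t.comp (KaehlerDifferential.mapBaseChange A B C).rangeRestrict).codRestrict _
      fun z => by
        change _ ∈ LinearMap.ker (KaehlerDifferential.mapBaseChange A B C)
        have := congrArg Subtype.val
          (LinearMap.congr_fun ht ((KaehlerDifferential.mapBaseChange A B C).rangeRestrict z))
        rw [LinearMap.mem_ker, LinearMap.sub_apply, map_sub, sub_eq_zero]
        exact this.symm
  have hr : ∀ z : ↥(EGA41.imperfection A B C), r z = z := fun z => by
    apply Subtype.ext
    have h0 : (KaehlerDifferential.mapBaseChange A B C).rangeRestrict (z : C ⊗[B] Ω[B⁄A]) = 0 :=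
      Subtype.ext (LinearMap.mem_ker.1 z.2)
    simp [r, h0]
  have htriv : ∀ X : Exal.Ext B C L, X.IsTrivialOver A := fun X =>
    Exal.isTrivial_of_formallySmooth (X.restrictBase A)
  refine ⟨fun X Y χ hX hY => S5822.result (Or.inr ⟨⟨r, hr⟩, s, hs'⟩) X Y (htriv X) (htriv Y) χ hX hY,
    fun χ => ?_⟩
  obtain ⟨X, -, hX⟩ := S5823.result (Or.inr ⟨⟨r, hr⟩, s, hs'⟩) χ
  exact ⟨X, hX⟩

end Groth.Agent.S5824
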