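import Groth.Statements.S5825
import Mathlib

set_option autoImplicit false
universe u v w
open EGA41

namespace Groth.Agent.S5825

/-- Let A be a topological ring, M, N topological A-modules with the topologies deduced from that of A,
and u : M → N a continuous linear map with dense image (a formal epimorphism). Then u is a formal
bimorphism (dense image and inducing) if and only if, for every open ideal J of A, the induced map
M/JM → N/JN is bijective (injectivity and surjectivity are written out elementwise). -/
theorem result {A : Type u} {M : Type v} {N : Type w} [CommRing A]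
    [TopologicalSpace A] [AddCommGroup M] [Module A M] [TopologicalSpace M] [AddCommGroup N] [Module A N]
    [TopologicalSpace N] (hM : TopMod.IsDeduced A M) (hN : TopMod.IsDeduced A N) (u : M →L[A] N)
    (hu : DenseRange u) :
    IsDenseInducing u ↔
      ∀ J : Ideal A, IsOpen (J : Set A) →
        (∀ x : M, u x ∈ (J • ⊤ : Submodule A N) → x ∈ (J • ⊤ : Submodule A M)) ∧
          ∀ y : N, ∃ x : M, y - u x ∈ (J • ⊤ : Submodule A N) := by
  haveI := hM.1
  haveI := hN.1
  have hsurj : ∀ J : Ideal A, IsOpen (J : Set A) → ∀ y : N, ∃ x : M, y - u x ∈ (J • ⊤ : Submodule A N) := by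
    intro J hJ y
    have h1 : (fun z : N => y - z) ⁻¹' ((J • ⊤ : Submodule A N) : Set N) ∈ nhds y := by
      refine (continuous_const.sub continuous_id).continuousAt.preimage_mem_nhds ?_
      simpa using hN.2.mem_of_mem hJ
    obtain ⟨z, hz, x, rfl⟩ := mem_closure_iff_nhds.1 (hu y) _ h1
    exact ⟨x, hz⟩
  have hle : ∀ J : Ideal A, ∀ x ∈ (J • ⊤ : Submodule A M), u x ∈ (J • ⊤ : Submodule A N) := by
    intro J x hx
    have h := Submodule.mem_map_of_mem (f := u.toLinearMap) hx
    rw [Submodule.map_smul''] at h
    exact Submodule.smul_mono le_rfl le_top h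
  constructor
  · intro hd J hJ
    refine ⟨fun x hx => ?_, hsurj J hJ⟩
    have h1 : ((J • ⊤ : Submodule A M) : Set M) ∈ Filter.comap u (nhds (u (0 : M))) := by
      rw [← hd.isInducing.nhds_eq_comap]; exact hM.2.mem_of_mem hJ
    rw [map_zero] at h1
    obtain ⟨J', hJ', hJ'M⟩ := (hN.2.comap u).mem_iff.1 h1
    have key : (J • ⊤ : Submodule A N) ≤
        Submodule.map u.toLinearMap (J • ⊤ : Submodule A M) ⊔ (J' • ⊤ : Submodule A N) := by
      rw [Submodule.smul_le]
      intro a ha y _
      obtain ⟨x, hx⟩ := hsurj J' hJ' y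
      refine Submodule.mem_sup.2 ⟨u (a • x), Submodule.mem_map_of_mem (f := u.toLinearMap)
        (Submodule.smul_mem_smul ha Submodule.mem_top), a • (y - u x), Submodule.smul_mem _ a hx, ?_⟩
      rw [smul_sub, map_smul]; abel
    obtain ⟨_, ⟨x', hx', rfl⟩, z, hz, hxz⟩ := Submodule.mem_sup.1 (key hx)
    have h2 : x - x' ∈ (J • ⊤ : Submodule A M) := hJ'M (by
      change u (x - x') ∈ (J' • ⊤ : Submodule A N)
      rw [map_sub, ← hxz]
      change u x' + z - u x' ∈ _
      rwa [add_sub_cancel_left])
    simpa using Submodule.add_mem _ h2 hx'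
  · intro h
    refine ⟨?_, hu⟩
    rw [Topology.isInducing_iff_nhds]
    have h0 : nhds (0 : M) = Filter.comap u (nhds (0 : N)) := by
      refine le_antisymm ?_ ?_
      · rw [← Filter.tendsto_iff_comap]; simpa using u.continuous.tendsto 0
      · rw [hM.2.ge_iff]
        intro J hJ
        exact (hN.2.comap u).mem_iff.2 ⟨J, hJ, fun x hx => (h J hJ).1 x hx⟩
    intro x
    have hx : nhds x = Filter.comap (fun z => z - x) (nhds (0 : M)) := by
      simpa [sub_eq_add_neg] using (nhds_translation_sub x).symm
    have hy : nhds (u x) = Filter.comap (fun z => z - u x) (nhds (0 : N)) :=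
      (nhds_translation_sub (u x)).symm
    rw [hx, h0, hy, Filter.comap_comap, Filter.comap_comap]
    congr 1
    funext z
    simp

end Groth.Agent.S5825
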