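import Groth.Statements.S5826
import Mathlib

set_option autoImplicit false
universe u v w
open EGA41

namespace Groth.Agent.S5826

/-- Let A be a topological ring, M, N topological A-modules with the topologies deduced from that of A,
u : M → N a continuous linear map. Then u is formally left invertible if and only if, for every open
ideal J of A, the induced map M/JM → N/JN is left invertible, i.e. some linear map N → M/JM composes
with u to the projection M → M/JM. -/
theorem result {A : Type u} {M : Type v} {N : Type w}
    [CommRing A] [TopologicalSpace A] [AddCommGroup M] [Module A M] [TopologicalSpace M] [AddCommGroup N]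
    [Module A N] [TopologicalSpace N] (hM : TopMod.IsDeduced A M) (hN : TopMod.IsDeduced A N)
    (u : M →L[A] N) :
    TopMod.IsFormallyLeftInvertible u ↔
      ∀ J : Ideal A, IsOpen (J : Set A) →
        ∃ w : N →ₗ[A] M ⧸ (J • ⊤ : Submodule A M), ∀ x : M, w (u x) = Submodule.Quotient.mk x := by
  haveI := hM.1
  haveI := hN.1
  constructor
  · intro h J hJ
    letI : TopologicalSpace (M ⧸ (J • ⊤ : Submodule A M)) := ⊥
    haveI : DiscreteTopology (M ⧸ (J • ⊤ : Submodule A M)) := ⟨rfl⟩
    have hc : Continuous (Submodule.mkQ (J • ⊤ : Submodule A M)) := by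
      refine continuous_of_continuousAt_zero _ ?_
      rw [ContinuousAt, map_zero, nhds_discrete (M ⧸ (J • ⊤ : Submodule A M)), Filter.tendsto_pure]
      filter_upwards [hM.2.mem_of_mem hJ] with x hx
      exact (Submodule.Quotient.mk_eq_zero _).2 hx
    obtain ⟨w, hw⟩ := h _ ⟨Submodule.mkQ (J • ⊤ : Submodule A M), hc⟩
    exact ⟨w.toLinearMap, hw⟩
  · intro h E _ _ _ _ v
    have hker : v ⁻¹' {0} ∈ nhds (0 : M) := by
      refine v.continuous.continuousAt.preimage_mem_nhds ?_
      rw [map_zero, nhds_discrete]; exact Set.mem_singleton _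
    obtain ⟨J, hJ, hJv⟩ := hM.2.mem_iff.1 hker
    obtain ⟨w, hw⟩ := h J hJ
    let v' : M ⧸ (J • ⊤ : Submodule A M) →ₗ[A] E :=
      Submodule.liftQ _ v.toLinearMap fun x hx => hJv hx
    let w' : N →ₗ[A] E := v'.comp w
    have hc : Continuous w' := by
      refine continuous_of_continuousAt_zero w' ?_
      rw [ContinuousAt, map_zero, nhds_discrete E, Filter.tendsto_pure]
      filter_upwards [hN.2.mem_of_mem hJ] with y hy
      have h1 := Submodule.mem_map_of_mem (f := w') hy
      rw [Submodule.map_smul''] at h1
      have h2 : (J • Submodule.map w' ⊤ : Submodule A E) ≤ ⊥ := by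
        rw [Submodule.smul_le]
        rintro a ha _ ⟨z, -, rfl⟩
        rw [Submodule.mem_bot, ← map_smul]
        obtain ⟨x, hx⟩ := Submodule.Quotient.mk_surjective _ (w z)
        change v' (w (a • z)) = 0
        rw [map_smul w, ← hx, ← Submodule.Quotient.mk_smul]
        exact hJv (Submodule.smul_mem_smul ha Submodule.mem_top)
      exact (Submodule.mem_bot A).1 (h2 h1)
    refine ⟨⟨w', hc⟩, fun x => ?_⟩
    change v' (w (u x)) = v x
    rw [hw]; rfl

end Groth.Agent.S5826
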