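import Groth.Statements.S5827
import Mathlib
import Groth.Agent.S5826

set_option autoImplicit false
universe u v w
open EGA41

namespace Groth.Agent.S5827

/-- Let A be a preadmissible topological ring with an ideal of definition 𝔏, M, N topological A-modules
with the topologies deduced from that of A such that N/JN is a projective (A/J)-module for every
open ideal J, and u : M → N a continuous linear map. Then u is formally left invertible if and only
if the induced map M/𝔏M → N/𝔏N is left invertible. -/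
theorem result {A : Type u} {M : Type v}
    {N : Type w} [CommRing A] [TopologicalSpace A] [AddCommGroup M] [Module A M] [TopologicalSpace M]
    [AddCommGroup N] [Module A N] [TopologicalSpace N] (hA : LinTop.IsPreadmissible A) (𝔏 : Ideal A)
    (h𝔏 : LinTop.IsIdealOfDefinition A 𝔏) (hM : TopMod.IsDeduced A M) (hN : TopMod.IsDeduced A N)
    (hproj : ∀ J : Ideal A, IsOpen (J : Set A) → Module.Projective (A ⧸ J) (N ⧸ (J • (⊤ : Submodule A N))))
    (u : M →L[A] N) :
    TopMod.IsFormallyLeftInvertible u ↔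
      ∃ w : N →ₗ[A] M ⧸ (𝔏 • ⊤ : Submodule A M), ∀ x : M, w (u x) = Submodule.Quotient.mk x := by
  rw [S5826.result hM hN u]
  refine ⟨fun h => h 𝔏 h𝔏.1, fun ⟨w, hw⟩ J hJ => ?_⟩
  obtain ⟨n, -, hn⟩ := h𝔏.2 (J : Set A) (hJ.mem_nhds J.zero_mem)
  let I : Submodule A M := J • ⊤
  let L' : Submodule A M := J • ⊤ ⊔ 𝔏 • ⊤
  let π : M ⧸ I →ₗ[A] M ⧸ L' := Submodule.mapQ I L' LinearMap.id (fun x hx => le_sup_left (a := I) hx)
  have hπ : Function.Surjective π := fun y => by
    obtain ⟨x, rfl⟩ := Submodule.Quotient.mk_surjective _ y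
    exact ⟨Submodule.Quotient.mk x, rfl⟩
  let w₁ : N →ₗ[A] M ⧸ L' :=
    (Submodule.mapQ (𝔏 • ⊤ : Submodule A M) L' LinearMap.id (fun x hx => le_sup_right (a := I) hx)).comp w
  have hw₁ : (J • ⊤ : Submodule A N) ≤ LinearMap.ker w₁ := by
    rw [Submodule.smul_le]
    intro a ha y _
    obtain ⟨x, hx⟩ := Submodule.Quotient.mk_surjective _ (w₁ y)
    rw [LinearMap.mem_ker, map_smul, ← hx, ← Submodule.Quotient.mk_smul, Submodule.Quotient.mk_eq_zero]
    exact le_sup_left (a := I) (Submodule.smul_mem_smul ha Submodule.mem_top)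
  have hsurjA : Function.Surjective (algebraMap A (A ⧸ J)) := Ideal.Quotient.mk_surjective
  haveI := hproj J hJ
  have hker : ∀ a ∈ J, ∀ q : M ⧸ L', a • q = 0 := fun a ha q => by
    obtain ⟨x, rfl⟩ := Submodule.Quotient.mk_surjective _ q
    rw [← Submodule.Quotient.mk_smul, Submodule.Quotient.mk_eq_zero]
    exact le_sup_left (a := I) (Submodule.smul_mem_smul ha Submodule.mem_top)
  letI : Module (A ⧸ J) (M ⧸ L') := Module.IsTorsionBySet.module (show Module.IsTorsionBySet A (M ⧸ L') J from fun a b => hker b.1 b.2 a)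
  haveI : IsScalarTower A (A ⧸ J) (M ⧸ L') := IsScalarTower.of_algebraMap_smul fun a q => rfl
  obtain ⟨g', hg'⟩ := Module.projective_lifting_property
    (π.extendScalarsOfSurjective hsurjA)
    ((Submodule.liftQ _ w₁ hw₁).extendScalarsOfSurjective hsurjA) hπ
  let g : N →ₗ[A] M ⧸ I := (g'.restrictScalars A).comp (Submodule.mkQ _)
  have hg : ∀ y, π (g y) = w₁ y := fun y => LinearMap.congr_fun hg' (Submodule.Quotient.mk y)
  let s : M ⧸ I →ₗ[A] M ⧸ I := Submodule.liftQ I (g.comp u.toLinearMap) (by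
    change J • ⊤ ≤ _
    rw [Submodule.smul_le]
    intro a ha x _
    obtain ⟨z, hz⟩ := Submodule.Quotient.mk_surjective _ (g (u x))
    rw [LinearMap.mem_ker, LinearMap.comp_apply, map_smul, map_smul]
    change a • g (u x) = 0
    rw [← hz, ← Submodule.Quotient.mk_smul, Submodule.Quotient.mk_eq_zero]
    exact Submodule.smul_mem_smul ha Submodule.mem_top)
  let T : Module.End A (M ⧸ I) := LinearMap.id - s
  have hT : ∀ q, T q ∈ (𝔏 • ⊤ : Submodule A (M ⧸ I)) := fun q => by
    obtain ⟨x, rfl⟩ := Submodule.Quotient.mk_surjective _ q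
    have h1 : π (T (Submodule.Quotient.mk x)) = 0 := by
      change π (Submodule.Quotient.mk x - g (u x)) = 0
      rw [map_sub, hg]
      change Submodule.Quotient.mk x - w₁ (u x) = _
      simp only [w₁, LinearMap.comp_apply, hw]
      exact sub_self _
    obtain ⟨z, hz⟩ := Submodule.Quotient.mk_surjective _ (T (Submodule.Quotient.mk x))
    rw [← hz] at h1 ⊢
    have h2 : z ∈ L' := (Submodule.Quotient.mk_eq_zero _).1 h1
    obtain ⟨a, ha, b, hb, rfl⟩ := Submodule.mem_sup.1 h2
    rw [Submodule.Quotient.mk_add, (Submodule.Quotient.mk_eq_zero _).2 ha, zero_add]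
    have h3 := Submodule.mem_map_of_mem (f := I.mkQ) hb
    rw [Submodule.map_smul''] at h3
    exact Submodule.smul_mono le_rfl le_top h3
  have hTk : ∀ k : ℕ, ∀ q, (T ^ k) q ∈ (𝔏 ^ k • ⊤ : Submodule A (M ⧸ I)) := by
    intro k
    induction k with
    | zero => intro q; simp
    | succ k ih =>
      intro q
      rw [pow_succ' T k, Module.End.mul_apply]
      have h1 := Submodule.mem_map_of_mem (f := T) (ih q)
      rw [Submodule.map_smul''] at h1
      have h2 : Submodule.map T (⊤ : Submodule A (M ⧸ I)) ≤ 𝔏 • ⊤ := by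
        rintro _ ⟨y, -, rfl⟩; exact hT y
      have h3 := Submodule.smul_mono le_rfl h2 h1
      rwa [← Submodule.smul_assoc, smul_eq_mul, ← pow_succ] at h3
  have hnil : T ^ n = 0 := LinearMap.ext fun q => by
    have h1 : (𝔏 ^ n • ⊤ : Submodule A (M ⧸ I)) ≤ ⊥ := by
      rw [Submodule.smul_le]
      intro a ha y _
      obtain ⟨x, rfl⟩ := Submodule.Quotient.mk_surjective _ y
      rw [Submodule.mem_bot, ← Submodule.Quotient.mk_smul, Submodule.Quotient.mk_eq_zero]
      exact Submodule.smul_mem_smul (hn ha) Submodule.mem_top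
    exact (Submodule.mem_bot A).1 (h1 (hTk n q))
  obtain ⟨r, hr⟩ : IsUnit s := by
    have := (IsNilpotent.isUnit_one_sub (r := T) ⟨n, hnil⟩)
    rwa [show (1 : Module.End A (M ⧸ I)) - T = s from sub_sub_cancel _ _] at this
  refine ⟨(r⁻¹ : (Module.End A (M ⧸ I))ˣ).val.comp g, fun x => ?_⟩
  change r⁻¹.val (s (Submodule.Quotient.mk x)) = _
  rw [← hr, ← Module.End.mul_apply, Units.inv_mul]
  rfl

end Groth.Agent.S5827
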