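import Groth.Statements.S5828
import Groth.Agent.Exal.Basic

set_option autoImplicit false
universe u v
open EGA41

namespace Groth.Agent.S5828

/-- Commutative case. For an A-extension X of C by a C-module L, with middle ring E, projection p and
inclusion i, the A-derivations D : C → L and the self-equivalences of X correspond under D ↦ (x ↦ x
+ i (D (p x))): every derivation defines a self-equivalence with this formula, and every
self-equivalence is of this form for exactly one derivation. (Bijection of sets; the published
statement also records compatibility with the group laws.) -/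
theorem result {A : Type u} {C L : Type v} [CommRing A] [CommRing C] [Algebra A C]
    [AddCommGroup L] [Module C L] [Module A L] [IsScalarTower A C L] (X : Exal.Ext A C L) :
    (∀ D : Derivation A C L, ∃ e : X.Equiv X, ∀ x : X.E, e.toAlgEquiv x = x + X.incl (D (X.proj x))) ∧
      ∀ e : X.Equiv X, ∃! D : Derivation A C L, ∀ x : X.E, e.toAlgEquiv x = x + X.incl (D (X.proj x)) := by
  refine ⟨fun D => ?_, fun e => ?_⟩
  · let f : X.E →ₐ[A] X.E :=
      { toFun := fun x => x + X.incl (D (X.proj x))
        map_one' := by simp
        map_mul' := fun x y => by
          simp only [map_mul, Derivation.leibniz, map_add, add_mul, mul_add,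
            X.isExtension.mul_incl, Exal.mul_incl', Exal.proj_incl, zero_smul, map_zero, add_zero]
          abel
        map_zero' := by simp
        map_add' := fun x y => by simp only [map_add]; abel
        commutes' := fun a => by simp }
    exact ⟨Exal.mkEquiv f (fun x => by simp [f]) (fun z => by simp [f]), fun x => rfl⟩
  · have hp : ∀ x, X.proj (e.toAlgEquiv x - x) = 0 := fun x => by rw [map_sub, e.proj_apply, sub_self]
    let δ : X.E → L := fun x => X.kerLift _ (hp x)
    have hδ : ∀ x, X.incl (δ x) = e.toAlgEquiv x - x := fun x => X.incl_kerLift _ _
    have hδ' : ∀ x y, X.proj x = X.proj y → δ x = δ y := by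
      intro x y h
      obtain ⟨z, hz⟩ := (X.isExtension.exact (x - y)).1 (by rw [map_sub, h, sub_self])
      apply X.isExtension.incl_injective
      have h2 : x = y + X.incl z := by rw [hz]; abel
      rw [hδ, hδ, h2, map_add, e.apply_incl]
      abel
    let s := Function.surjInv X.isExtension.proj_surjective
    have hs : ∀ c, X.proj (s c) = c := Function.surjInv_eq _
    have key : ∀ x, δ (s (X.proj x)) = δ x := fun x => hδ' _ _ (hs _)
    let D : Derivation A C L := Derivation.mk'
      { toFun := fun c => δ (s c)
        map_add' := fun c c' => by
          apply X.isExtension.incl_injective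
          rw [hδ' (s (c + c')) (s c + s c') (by simp [hs]), map_add, hδ, hδ, hδ, map_add]
          abel
        map_smul' := fun a c => by
          apply X.isExtension.incl_injective
          have h1 : (a • δ (s c) : L) = algebraMap A C a • δ (s c) := (algebraMap_smul C a _).symm
          rw [hδ' (s (a • c)) (a • s c) (by simp [hs]), RingHom.id_apply, h1, ← X.proj.commutes a,
            ← X.isExtension.mul_incl, hδ, hδ, Algebra.smul_def, map_mul, AlgEquiv.commutes]
          ring }
      (fun c c' => by
        apply X.isExtension.incl_injective
        change X.incl (δ (s (c * c'))) = X.incl (c • δ (s c') + c' • δ (s c))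
        conv_rhs => rw [← e.toAlgEquiv.symm_apply_apply (s c)]
        simp only [AlgEquiv.symm_apply_apply]
        rw [hδ' (s (c * c')) (s c * s c') (by simp [hs]), map_add]
        have h1 : X.incl (c • δ (s c')) = e.toAlgEquiv (s c) * X.incl (δ (s c')) := by
          rw [X.isExtension.mul_incl, e.proj_apply, hs]
        have h2 : X.incl (c' • δ (s c)) = s c' * X.incl (δ (s c)) := by
          rw [X.isExtension.mul_incl, hs]
        rw [h1, h2, hδ, hδ, hδ, map_mul]
        ring)
    have hD : ∀ c, D c = δ (s c) := fun c => rfl
    refine ⟨D, fun x => ?_, fun D' hD' => ?_⟩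
    · rw [hD, key, hδ]; abel
    · ext c
      apply X.isExtension.incl_injective
      rw [hD, hδ, hD' (s c), hs]; abel

end Groth.Agent.S5828
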