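import Groth.Statements.S5829


set_option autoImplicit false
universe u v w
open EGA41

namespace Groth.Agent.S5829

/-- Commutative case. Let B be a topological A-algebra in which the square of every open ideal is open,
and L a discrete B-module killed by an open ideal of B. Then every A-derivation B → L is continuous:
the submodule of continuous derivations is everything. (The topology of A is irrelevant and is not
assumed.) -/
theorem result {A : Type u} {B : Type v} {L : Type w} [CommRing A] [CommRing B]
    [Algebra A B] [AddCommGroup L] [Module A L] [Module B L] [IsScalarTower A B L] [TopologicalSpace B]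
    [IsTopologicalRing B] [TopologicalSpace L] [DiscreteTopology L] [ContinuousAdd L] [ContinuousConstSMul B L]
    (hsq : ∀ I : Ideal B, IsOpen (I : Set B) → IsOpen ((I ^ 2 : Ideal B) : Set B))
    (K : Ideal B) (hK : IsOpen (K : Set B)) (hKL : ∀ x ∈ K, ∀ z : L, x • z = 0) :
    TopMod.DerCont A B L = ⊤ := by
  rw [eq_top_iff]
  intro D _
  change Continuous D
  refine continuous_of_continuousAt_zero D.toLinearMap.toAddMonoidHom ?_
  rw [continuousAt_def]
  intro U hU
  refine Filter.mem_of_superset ((hsq K hK).mem_nhds (zero_mem _)) fun x hx => ?_
  have : D x = 0 := by
    rw [pow_two] at hx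
    refine Submodule.mul_induction_on hx (fun a ha b hb => ?_) (fun a b ha hb => ?_)
    · rw [Derivation.leibniz, hKL a ha, hKL b hb, add_zero]
    · rw [map_add, ha, hb, add_zero]
  change D x ∈ U
  have h0 := mem_of_mem_nhds hU
  rw [this]
  simpa using h0

end Groth.Agent.S5829
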