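import Groth.Statements.S5830
import Groth.Agent.Exal.Basic

set_option autoImplicit false
universe u v
open EGA41

namespace Groth.Agent.S5830

section Tw

variable {A : Type u} {B : Type v} [CommRing A] [CommRing B] [Algebra A B] {L : Type v} [AddCommGroup L]
  [Module B L] [Module A L] [IsScalarTower A B L]

/-- The carrier of the extension given by a cocycle. -/
@[nolint unusedArguments]
def Tw (_f : B →ₗ[A] B →ₗ[A] L) : Type v := B × L

instance (f : B →ₗ[A] B →ₗ[A] L) : AddCommGroup (Tw f) := inferInstanceAs (AddCommGroup (B × L))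

variable (f : B →ₗ[A] B →ₗ[A] L) (hsymm : ∀ x y : B, f x y = f y x)
    (hcoc : ∀ x y z : B, f (x * y) z + z • f x y = x • f y z + f x (y * z))
    (h1 : ∀ z, f 1 z = z • f 1 1)

/-- The twisted ring structure on `B × L`. -/
@[reducible] def twRing : CommRing (Tw f) where
  __ := (inferInstance : AddCommGroup (Tw f))
  mul p q := (p.1 * q.1, p.1 • q.2 + q.1 • p.2 + f p.1 q.1)
  one := (1, -f 1 1)
  mul_assoc p q r := by
    refine Prod.ext (mul_assoc _ _ _) ?_
    change (p.1 * q.1) • r.2 + r.1 • (p.1 • q.2 + q.1 • p.2 + f p.1 q.1) + f (p.1 * q.1) r.1 =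
      p.1 • (q.1 • r.2 + r.1 • q.2 + f q.1 r.1) + (q.1 * r.1) • p.2 + f p.1 (q.1 * r.1)
    have := hcoc p.1 q.1 r.1
    simp only [smul_add, smul_smul]
    rw [mul_comm r.1 p.1, mul_comm r.1 q.1]
    linear_combination (norm := abel) this
  one_mul p := by
    refine Prod.ext (one_mul _) ?_
    change (1 : B) • p.2 + p.1 • (-f 1 1) + f 1 p.1 = p.2
    rw [h1 p.1, one_smul, smul_neg]; abel
  mul_one p := by
    refine Prod.ext (mul_one _) ?_
    change p.1 • (-f 1 1) + (1 : B) • p.2 + f p.1 1 = p.2
    rw [hsymm p.1 1, h1 p.1, one_smul, smul_neg]; abel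
  mul_comm p q := by
    refine Prod.ext (mul_comm _ _) ?_
    change p.1 • q.2 + q.1 • p.2 + f p.1 q.1 = q.1 • p.2 + p.1 • q.2 + f q.1 p.1
    rw [hsymm]; abel
  left_distrib p q r := by
    refine Prod.ext (mul_add _ _ _) ?_
    change p.1 • (q.2 + r.2) + (q.1 + r.1) • p.2 + f p.1 (q.1 + r.1) =
      (p.1 • q.2 + q.1 • p.2 + f p.1 q.1) + (p.1 • r.2 + r.1 • p.2 + f p.1 r.1)
    rw [smul_add, add_smul, map_add]; abel
  right_distrib p q r := by
    refine Prod.ext (add_mul _ _ _) ?_
    change (p.1 + q.1) • r.2 + r.1 • (p.2 + q.2) + f (p.1 + q.1) r.1 =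
      (p.1 • r.2 + r.1 • p.2 + f p.1 r.1) + (q.1 • r.2 + r.1 • q.2 + f q.1 r.1)
    rw [smul_add, add_smul, map_add, LinearMap.add_apply]; abel
  zero_mul p := by
    refine Prod.ext (zero_mul _) ?_
    change (0 : B) • p.2 + p.1 • (0 : L) + f 0 p.1 = 0
    simp
  mul_zero p := by
    refine Prod.ext (mul_zero _) ?_
    change p.1 • (0 : L) + (0 : B) • p.2 + f p.1 0 = 0
    simp

/-- The algebra structure on the twisted ring. -/
@[reducible] def twAlg : @Algebra A (Tw f) _ (twRing f hsymm hcoc h1).toCommSemiring.toSemiring :=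
  letI := twRing f hsymm hcoc h1
  ({ toFun := fun a => (algebraMap A B a, -(a • f 1 1))
     map_one' := Prod.ext (map_one _) (by change -((1 : A) • f 1 1) = -f 1 1; rw [one_smul])
     map_mul' := fun a b => by
       refine Prod.ext (map_mul _ _ _) ?_
       change -((a * b) • f 1 1) = algebraMap A B a • -(b • f 1 1) + algebraMap A B b • -(a • f 1 1) +
         f (algebraMap A B a) (algebraMap A B b)
       rw [algebraMap_smul, algebraMap_smul, Algebra.algebraMap_eq_smul_one a,
         Algebra.algebraMap_eq_smul_one b]
       simp only [map_smul, LinearMap.smul_apply, smul_neg, smul_smul, mul_comm b a]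
       abel
     map_zero' := Prod.ext (map_zero _) (by change -((0 : A) • f 1 1) = 0; rw [zero_smul, neg_zero])
     map_add' := fun a b => by
       refine Prod.ext (map_add _ _ _) ?_
       change -((a + b) • f 1 1) = -(a • f 1 1) + -(b • f 1 1)
       rw [add_smul, neg_add] } : A →+* Tw f).toAlgebra

end Tw

/-- Discrete case. If B is a formally smooth A-algebra then, for every B-module L, every A-bilinear
symmetric Hochschild 2-cocycle f : B × B → L (f(xy, z) + z f(x, y) = x f(y, z) + f(x, yz)) is a
Hochschild 2-coboundary: f(x, y) = x g(y) − g(xy) + y g(x) for some A-linear g : B → L. (The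
published statement is for topological algebras and open ideals; this row is its discrete case.) -/
theorem result {A : Type u} {B : Type v} [CommRing A] [CommRing B]
    [Algebra A B] [Algebra.FormallySmooth A B] {L : Type v} [AddCommGroup L] [Module B L] [Module A L]
    [IsScalarTower A B L] (f : B →ₗ[A] B →ₗ[A] L) (hsymm : ∀ x y : B, f x y = f y x)
    (hcoc : ∀ x y z : B, f (x * y) z + z • f x y = x • f y z + f x (y * z)) :
    ∃ g : B →ₗ[A] L, ∀ x y : B, f x y = x • g y - g (x * y) + y • g x := by
  have h1 : ∀ z, f 1 z = z • f 1 1 := fun z => by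
    have := hcoc 1 1 z
    simp only [one_mul, one_smul] at this
    exact (add_left_cancel this).symm
  obtain ⟨X, g0, hg0⟩ : ∃ (X : _root_.Exal.Ext A B L) (_ : B → X.E),
      ∀ (s : B →ₐ[A] X.E), (∀ b, X.proj (s b) = b) →
        ∃ g : B →ₗ[A] L, ∀ x y : B, f x y = x • g y - g (x * y) + y • g x := by
    let E := Tw f
    letI : CommRing E := twRing f hsymm hcoc h1
    letI : Algebra A E := twAlg f hsymm hcoc h1
    refine ⟨
      { E := E
        proj :=
          { toFun := fun x : E => x.1
            map_one' := rfl
            map_mul' := fun _ _ => rfl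
            map_zero' := rfl
            map_add' := fun _ _ => rfl
            commutes' := fun a => rfl }
        incl := AddMonoidHom.inr B L
        isExtension :=
          { proj_surjective := fun b => ⟨(b, 0), rfl⟩
            incl_injective := fun z z' h => congrArg Prod.snd h
            exact := fun x => ⟨fun h => ⟨x.2, Prod.ext h.symm rfl⟩, by rintro ⟨z, rfl⟩; rfl⟩
            mul_incl := fun x z => by
              refine Prod.ext (mul_zero _) ?_
              change x.1 • z + (0 : B) • x.2 + f x.1 0 = x.1 • z
              simp } }, fun b => (b, 0), fun s hs => ?_⟩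
    have hs' : ∀ b, (s b).1 = b := hs
    let h : B →ₗ[A] L :=
      { toFun := fun b => (s b).2
        map_add' := fun b b' => congrArg Prod.snd (map_add s b b')
        map_smul' := fun a b => by
          have h2 : ((algebraMap A E a) * s b).2 = a • (s b).2 := by
            change (algebraMap A B a) • (s b).2 + (s b).1 • (-(a • f 1 1)) + f (algebraMap A B a) (s b).1 = _
            rw [algebraMap_smul, Algebra.algebraMap_eq_smul_one, LinearMap.map_smul, LinearMap.smul_apply,
              h1 (s b).1, smul_neg, smul_comm (s b).1 a (f 1 1)]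
            abel
          have h3 : s (a • b) = algebraMap A E a * s b := by
            rw [Algebra.smul_def, map_mul, AlgHom.commutes]
          change (s (a • b)).2 = a • (s b).2
          rw [h3, h2] }
    refine ⟨-h, fun x y => ?_⟩
    have h2 : (s (x * y)).2 = x • (s y).2 + y • (s x).2 + f x y := by
      have := congrArg Prod.snd (map_mul s x y)
      change _ = (s x).1 • (s y).2 + (s y).1 • (s x).2 + f (s x).1 (s y).1 at this
      rwa [hs', hs'] at this
    change f x y = x • -(s y).2 - -(s (x * y)).2 + y • -(s x).2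
    rw [h2, smul_neg, smul_neg]
    abel
  obtain ⟨s, hs⟩ := Exal.isTrivial_of_formallySmooth X
  exact hg0 s hs

end Groth.Agent.S5830
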