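import Groth.Statements.S5831
import Groth.Agent.S5815
import Groth.Agent.Exal.Basic

set_option autoImplicit false
universe u
open EGA41

namespace Groth.Agent.S5831

/-- Discrete case. Let B be an A-algebra which is a projective A-module (A and B in one universe). If
for every B-module L in that universe every A-bilinear symmetric Hochschild 2-cocycle B × B → L is a
coboundary, then B is formally smooth over A. (The published statement assumes B formally projective
as a topological A-module; for discrete rings this is projectivity.) -/
theorem result {A B : Type u} [CommRing A]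
    [CommRing B] [Algebra A B] [Module.Projective A B]
    (h : ∀ (L : Type u) [AddCommGroup L] [Module B L] [Module A L] [IsScalarTower A B L]
      (f : B →ₗ[A] B →ₗ[A] L), (∀ x y : B, f x y = f y x) →
        (∀ x y z : B, f (x * y) z + z • f x y = x • f y z + f x (y * z)) →
          ∃ g : B →ₗ[A] L, ∀ x y : B, f x y = x • g y - g (x * y) + y • g x) :
    Algebra.FormallySmooth A B := by
  refine (S5815.result A B).2 fun L _ _ X => ?_
  letI : Module A L := Module.compHom L (algebraMap A B)
  haveI : IsScalarTower A B L := IsScalarTower.of_algebraMap_smul fun _ _ => rfl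
  obtain ⟨s₀, hs₀⟩ := Module.projective_lifting_property X.proj.toLinearMap LinearMap.id
    X.isExtension.proj_surjective
  have hp : ∀ b, X.proj (s₀ b) = b := fun b => LinearMap.congr_fun hs₀ b
  have hi : ∀ (a : A) (z : L), X.incl (a • z) = a • X.incl z := fun a z => by
    rw [← algebraMap_smul B a z, ← X.proj.commutes a, ← X.isExtension.mul_incl, Algebra.smul_def]
  have hp2 : ∀ x y, X.proj (s₀ x * s₀ y) = X.proj (s₀ (x * y)) := fun x y => by simp [hp]
  let F : B → B → L := fun x y => Exal.diff X (s₀ x * s₀ y) (s₀ (x * y)) (hp2 x y)
  have hF : ∀ x y, X.incl (F x y) = s₀ x * s₀ y - s₀ (x * y) := fun x y => Exal.incl_diff _ _ _ _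
  let f : B →ₗ[A] B →ₗ[A] L := LinearMap.mk₂ A F
    (fun x x' y => X.isExtension.incl_injective (by simp only [map_add, hF, add_mul]; ring))
    (fun a x y => X.isExtension.incl_injective (by
      simp only [hi, hF, map_smul, smul_mul_assoc, smul_sub]))
    (fun x y y' => X.isExtension.incl_injective (by simp only [map_add, hF, mul_add]; ring))
    (fun a x y => X.isExtension.incl_injective (by
      simp only [hi, hF, map_smul, mul_smul_comm, smul_sub]))
  have hmul : ∀ (x : B) (z : L), X.incl (x • z) = s₀ x * X.incl z := fun x z => by
    rw [X.isExtension.mul_incl, hp]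
  obtain ⟨g, hg⟩ := h L f
    (fun x y => X.isExtension.incl_injective (by
      change X.incl (F x y) = X.incl (F y x)
      rw [hF, hF, mul_comm x y, mul_comm (s₀ x)]))
    (fun x y z => X.isExtension.incl_injective (by
      change X.incl (F (x * y) z + z • F x y) = X.incl (x • F y z + F x (y * z))
      simp only [map_add, hmul, hF, mul_assoc]
      ring))
  have hg' : ∀ x y, s₀ x * s₀ y - s₀ (x * y) =
      s₀ x * X.incl (g y) - X.incl (g (x * y)) + s₀ y * X.incl (g x) := fun x y => by
    rw [← hF, ← hmul, ← hmul, ← map_sub, ← map_add]
    exact congrArg X.incl (hg x y)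
  let s : B → X.E := fun b => s₀ b - X.incl (g b)
  have hs : ∀ b, X.proj (s b) = b := fun b => by simp [s, hp]
  have hsmul : ∀ x y, s (x * y) = s x * s y := fun x y => by
    have h0 : X.incl (g x) * X.incl (g y) = 0 := Exal.incl_mul_incl _ _ _
    simp only [s]
    linear_combination -(hg' x y) - h0
  have hs1 : s 1 = 1 := by
    obtain ⟨w, hw⟩ := (X.isExtension.exact (s 1 - 1)).1 (by simp [hs])
    have h2 : s 1 * s 1 = s 1 := by rw [← hsmul, mul_one]
    have h3 : X.incl w * X.incl w = 0 := Exal.incl_mul_incl _ _ _
    rw [hw] at h3
    linear_combination h2 - h3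
  let sl : B →ₗ[A] X.E :=
    { toFun := s
      map_add' := fun x y => by simp only [s, map_add]; ring
      map_smul' := fun a x => by simp only [s, map_smul, hi, smul_sub, RingHom.id_apply] }
  exact ⟨AlgHom.ofLinearMap sl hs1 hsmul, hs⟩

end Groth.Agent.S5831
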