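import Groth.Statements.S5832
import Groth.Agent.Exal.Basic

set_option autoImplicit false
universe u u' v
open EGA41

namespace Groth.Agent.S5832

/-- Surjectivity at the end of the sequence. For ring maps Λ → A → B → C and a C-module L, every
Λ-trivial A-extension of B by L is equivalent to the inverse image along B → C of a Λ-trivial
A-extension of C by L. (Exactness at the other places is that of the six-term derivation-extension
sequence restricted to Λ-trivial classes.) -/
theorem result {Λ : Type u} {A : Type u'} {B C L : Type v}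
    [CommRing Λ] [CommRing A] [CommRing B] [CommRing C] [Algebra Λ A] [Algebra Λ B] [Algebra Λ C]
    [Algebra A B] [Algebra B C] [Algebra A C] [IsScalarTower Λ A B] [IsScalarTower Λ A C] [IsScalarTower A B C]
    [AddCommGroup L] [Module C L] [Module B L] [IsScalarTower B C L]
    (Y : Exal.Ext A B L) (hY : Y.IsTrivialOver Λ) :
    ∃ X : Exal.Ext A C L, X.IsTrivialOver Λ ∧ Nonempty ((X.pullback B).Equiv Y) := by
  letI : Module Λ L := Module.compHom L (algebraMap Λ B)
  haveI : IsScalarTower Λ B L := IsScalarTower.of_algebraMap_smul fun _ _ => rfl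
  letI : Module A L := Module.compHom L (algebraMap A B)
  haveI : IsScalarTower A B L := IsScalarTower.of_algebraMap_smul fun _ _ => rfl
  haveI : IsScalarTower Λ A L := IsScalarTower.of_algebraMap_smul fun l z => by
    change algebraMap A B (algebraMap Λ A l) • z = algebraMap Λ B l • z
    rw [← IsScalarTower.algebraMap_apply]
  haveI : IsScalarTower A C L := IsScalarTower.of_algebraMap_smul fun a z => by
    change algebraMap A C a • z = algebraMap A B a • z
    rw [← algebraMap_smul C (algebraMap A B a) z, ← IsScalarTower.algebraMap_apply A B C]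
  haveI : IsScalarTower Λ B C := IsScalarTower.of_algebraMap_eq fun l => by
    rw [IsScalarTower.algebraMap_apply Λ A B, ← IsScalarTower.algebraMap_apply A B C,
      ← IsScalarTower.algebraMap_apply]
  obtain ⟨σ⟩ := (Exal.isTrivialOver_iff_sec Y).1 hY
  let X : Exal.Ext A C L := Exal.derExt (C := C) σ.der
  let τ : Exal.Sec Λ X := Exal.derExtSec (C := C) σ.der
  have hτ : ∀ a, τ.der a = σ.der a := Exal.derExtSec_der σ.der
  let g : B →+* (X.pullback B).E :=
    { toFun := fun b => ⟨(τ.s (algebraMap B C b), b), τ.proj_s _⟩
      map_one' := Subtype.ext (Prod.ext (by simp; rfl) rfl)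
      map_mul' := fun x y => Subtype.ext (Prod.ext (by simp; rfl) rfl)
      map_zero' := Subtype.ext (Prod.ext (by simp; rfl) rfl)
      map_add' := fun x y => Subtype.ext (Prod.ext (by simp; rfl) rfl) }
  let ρ : Exal.Sec Λ (X.pullback B) := ⟨g, fun b => rfl, fun l => by
    refine Subtype.ext (Prod.ext ?_ (IsScalarTower.algebraMap_apply Λ A B l))
    exact (congrArg τ.s (IsScalarTower.algebraMap_apply Λ B C l).symm).trans (τ.s_algebraMap l)⟩
  refine ⟨X, (Exal.isTrivialOver_iff_sec X).2 ⟨τ⟩, ⟨ρ.equiv σ fun a => ρ.der_apply_eq ?_⟩⟩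
  refine Subtype.ext (Prod.ext ?_ ?_)
  · change algebraMap A X.E a = τ.s (algebraMap B C (algebraMap A B a)) + X.incl (σ.der a)
    rw [← IsScalarTower.algebraMap_apply A B C, ← hτ, ← τ.algebraMap_eq]
  · exact (add_zero _).symm

end Groth.Agent.S5832
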