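import Groth.Statements.S5833
import Groth.Agent.Exal.Char
import Groth.Agent.S5821

set_option autoImplicit false
universe u v
open scoped TensorProduct
open EGA41

namespace Groth.Agent.S5833

/-- Let Λ → A → B be ring maps, K an ideal of B, C = B ⧸ K, and suppose E = B ⧸ K², as an extension of C
by K/K², is Λ-trivial. Let χ : Υ_{C/A/Λ} → K/K² be the characteristic homomorphism of E as an
A-extension, relative to Λ → A. Then: (a) the kernel of χ consists of the elements of Υ_{C/A/Λ} ⊆ C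
⊗_A Ω_{A/Λ} whose image in C ⊗_B Ω_{B/Λ} is zero (that image map is written as the base change to C
of B ⊗_A Ω_{A/Λ} → Ω_{B/Λ}, through the canonical identification C ⊗_B (B ⊗_A Ω_{A/Λ}) = C ⊗_A
Ω_{A/Λ}); (b) the image of χ is the kernel of the conormal map K/K² → C ⊗_B Ω_{B/A}, x ↦ 1 ⊗ dx.
This is the exact sequence 0 → Υ^C_{B/A/Λ} → Υ_{C/A/Λ} → K/K² → C ⊗_B Ω_{B/A} → Ω_{C/A} → 0 up to
its last two (conormal-sequence) terms. -/
theorem result {Λ : Type u} {A B : Type v} [CommRing Λ]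
    [CommRing A] [CommRing B] [Algebra Λ A] [Algebra Λ B] [Algebra A B] [IsScalarTower Λ A B] (K : Ideal B)
    (htriv : ((Exal.Ext.infinitesimal K).restrictBase A).IsTrivialOver Λ)
    (χ : ↥(EGA41.imperfection Λ A (B ⧸ K)) →ₗ[B ⧸ K] K.Cotangent)
    (hχ : ((Exal.Ext.infinitesimal K).restrictBase A).IsCharHom Λ χ) :
    (∀ z : ↥(EGA41.imperfection Λ A (B ⧸ K)),
        χ z = 0 ↔
          ((KaehlerDifferential.mapBaseChange Λ A B).baseChange (B ⧸ K))
              ((TensorProduct.AlgebraTensorModule.cancelBaseChange A B (B ⧸ K) (B ⧸ K) Ω[A⁄Λ]).symm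
                (z : (B ⧸ K) ⊗[A] Ω[A⁄Λ])) = 0) ∧
      ∀ (x : B) (hx : x ∈ K),
        K.toCotangent ⟨x, hx⟩ ∈ LinearMap.range χ ↔
          (1 : B ⧸ K) ⊗ₜ[B] KaehlerDifferential.D A B x = (0 : (B ⧸ K) ⊗[B] Ω[B⁄A]) := by
  haveI : IsScalarTower Λ B (B ⧸ K) := inferInstance
  haveI : IsScalarTower Λ A (B ⧸ K) := inferInstance
  haveI : IsScalarTower Λ B K.Cotangent := inferInstance
  haveI : IsScalarTower A B K.Cotangent := inferInstance
  haveI : IsScalarTower Λ A K.Cotangent := inferInstance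
  haveI : IsScalarTower A (B ⧸ K) K.Cotangent := IsScalarTower.of_algebraMap_smul fun a z => by
    rw [IsScalarTower.algebraMap_apply A B (B ⧸ K), algebraMap_smul, algebraMap_smul]
  obtain ⟨σ⟩ := (Exal.isTrivialOver_iff_sec ((Exal.Ext.infinitesimal K).restrictBase A)).1 htriv
  let σB : Exal.Sec Λ (Exal.Ext.infinitesimal K) := ⟨σ.s, σ.proj_s, fun l => (σ.s_algebraMap l).trans
    (congrArg (algebraMap B (B ⧸ K ^ 2)) (IsScalarTower.algebraMap_apply Λ A B l).symm)⟩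
  have hχ' := (Exal.isCharHom_iff σ χ).1 hχ
  have hder : ∀ a, σ.der a = σB.der (algebraMap A B a) := fun a => σ.der_apply_eq (by
    refine (σB.algebraMap_eq (algebraMap A B a)).trans ?_
    rw [← IsScalarTower.algebraMap_apply A B (B ⧸ K) a]
    rfl)
  let g : (B ⧸ K) ⊗[A] Ω[A⁄Λ] →ₗ[B ⧸ K] (B ⧸ K) ⊗[B] Ω[B⁄Λ] :=
    ((KaehlerDifferential.mapBaseChange Λ A B).baseChange (B ⧸ K)).comp
      (TensorProduct.AlgebraTensorModule.cancelBaseChange A B (B ⧸ K) (B ⧸ K) Ω[A⁄Λ]).symm.toLinearMap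
  have hg : ∀ a, g (1 ⊗ₜ KaehlerDifferential.D Λ A a) =
      1 ⊗ₜ KaehlerDifferential.D Λ B (algebraMap A B a) := fun a => by
    simp [g]
  have hL : Exal.liftC (C := B ⧸ K) σ.der = (Exal.liftC (C := B ⧸ K) σB.der).comp g :=
    Exal.linearMap_ext fun a => by rw [LinearMap.comp_apply, hg]; simp [hder]
  have hδ : ∀ (x : B) (hx : x ∈ K),
      (1 : B ⧸ K) ⊗ₜ[B] KaehlerDifferential.D Λ B x ∈ EGA41.imperfection Λ B (B ⧸ K) := fun x hx => by
    rw [EGA41.imperfection, LinearMap.mem_ker, KaehlerDifferential.mapBaseChange_tmul,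
      KaehlerDifferential.map_D, Ideal.Quotient.algebraMap_eq, Ideal.Quotient.eq_zero_iff_mem.2 hx,
      map_zero, smul_zero]
  have hbij := S5821.result K ((Exal.isTrivialOver_iff_sec _).2 ⟨σB⟩) σB.charHom σB.isCharHom
  have hder' : ∀ (x : B) (hx : x ∈ K), σB.der x = K.toCotangent ⟨x, hx⟩ := fun x hx =>
    σB.der_apply_eq (by
      have h0 : algebraMap B (B ⧸ K) x = 0 := Ideal.Quotient.eq_zero_iff_mem.2 hx
      rw [h0, map_zero, zero_add]
      exact (Ideal.toCotangent_to_quotient_square K ⟨x, hx⟩).symm)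
  have hcomp : (KaehlerDifferential.mapBaseChange Λ B (B ⧸ K)).comp g =
      KaehlerDifferential.mapBaseChange Λ A (B ⧸ K) := Exal.linearMap_ext fun a => by
    rw [LinearMap.comp_apply, hg]
    simp [← IsScalarTower.algebraMap_apply A B (B ⧸ K)]
  have hmem : ∀ z : ↥(EGA41.imperfection Λ A (B ⧸ K)),
      g (z : (B ⧸ K) ⊗[A] Ω[A⁄Λ]) ∈ EGA41.imperfection Λ B (B ⧸ K) := fun z => by
    rw [EGA41.imperfection, LinearMap.mem_ker, ← LinearMap.comp_apply, hcomp]
    exact z.2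
  have hval : ∀ z : ↥(EGA41.imperfection Λ A (B ⧸ K)), χ z = σB.charHom ⟨_, hmem z⟩ := fun z => by
    rw [hχ' z, hL]; rfl
  have hex : Function.Exact g (LinearMap.baseChange (B ⧸ K) (KaehlerDifferential.map Λ A B B)) := by
    refine (LinearMap.exact_iff).2 ?_
    have h1 := lTensor_exact (B ⧸ K) (KaehlerDifferential.exact_mapBaseChange_map Λ A B)
      (KaehlerDifferential.map_surjective Λ A B)
    ext w
    constructor
    · intro hw
      obtain ⟨v, hv⟩ := (h1 w).1 hw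
      exact ⟨(TensorProduct.AlgebraTensorModule.cancelBaseChange A B (B ⧸ K) (B ⧸ K) Ω[A⁄Λ]) v, by
        simp only [g, LinearMap.comp_apply, LinearEquiv.coe_coe, LinearEquiv.symm_apply_apply]
        exact hv⟩
    · rintro ⟨v, rfl⟩
      exact (h1 _).2 ⟨_, rfl⟩
  refine ⟨fun z => ⟨fun hz => ?_, fun hz => ?_⟩, fun x hx => ⟨?_, fun h => ?_⟩⟩
  · have h1 := hbij.1 ((hval z).symm.trans hz |>.trans (map_zero σB.charHom).symm)
    exact congrArg Subtype.val h1
  · rw [hχ' z, hL, LinearMap.comp_apply]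
    rw [show g (z : (B ⧸ K) ⊗[A] Ω[A⁄Λ]) = 0 from hz, map_zero]
  · rintro ⟨z, hz⟩
    have h1 : σB.charHom ⟨_, hmem z⟩ = σB.charHom ⟨_, hδ x hx⟩ := by
      rw [← hval, hz]
      exact ((Exal.liftC_tmul σB.der 1 x).trans (by rw [one_smul, hder' x hx])).symm
    have h2 := hex.apply_apply_eq_zero (z : (B ⧸ K) ⊗[A] Ω[A⁄Λ])
    have h3 : g (z : (B ⧸ K) ⊗[A] Ω[A⁄Λ]) = 1 ⊗ₜ KaehlerDifferential.D Λ B x :=
      congrArg Subtype.val (hbij.1 h1)
    rw [h3, LinearMap.baseChange_tmul, KaehlerDifferential.map_D] at h2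
    simpa using h2
  · obtain ⟨v, hv⟩ := (hex ((1 : B ⧸ K) ⊗ₜ KaehlerDifferential.D Λ B x)).1 (by
      rw [LinearMap.baseChange_tmul, KaehlerDifferential.map_D]; simpa using h)
    have hv' : v ∈ EGA41.imperfection Λ A (B ⧸ K) := by
      rw [EGA41.imperfection, LinearMap.mem_ker, ← hcomp, LinearMap.comp_apply, hv]
      exact hδ x hx
    refine ⟨⟨v, hv'⟩, ?_⟩
    rw [hχ', hL, LinearMap.comp_apply, hv, Exal.liftC_tmul, one_smul, hder' x hx]

end Groth.Agent.S5833
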