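import Groth.Statements.S5834
import Groth.Agent.S5833

set_option autoImplicit false
universe u v
open EGA41

namespace Groth.Agent.S5834

/-- Let Λ → A → B be ring maps with B formally smooth over A, K an ideal of B, C = B ⧸ K, and suppose E
= B ⧸ K², as an extension of C by K/K², is Λ-trivial. Then the characteristic homomorphism χ :
Υ_{C/A/Λ} → K/K² of E as an A-extension relative to Λ → A is injective (so that, with the
description of its image as the kernel of K/K² → C ⊗_B Ω_{B/A}, the sequence 0 → Υ_{C/A/Λ} → K/K² →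
C ⊗_B Ω_{B/A} → Ω_{C/A} → 0 is exact). -/
theorem result {Λ : Type u} {A B : Type v} [CommRing Λ]
    [CommRing A] [CommRing B] [Algebra Λ A] [Algebra Λ B] [Algebra A B] [IsScalarTower Λ A B]
    [Algebra.FormallySmooth A B] (K : Ideal B)
    (htriv : ((Exal.Ext.infinitesimal K).restrictBase A).IsTrivialOver Λ)
    (χ : ↥(EGA41.imperfection Λ A (B ⧸ K)) →ₗ[B ⧸ K] K.Cotangent)
    (hχ : ((Exal.Ext.infinitesimal K).restrictBase A).IsCharHom Λ χ) :
    Function.Injective χ := by
  have h5 := (S5833.result K htriv χ hχ).1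
  have hH : Subsingleton (Algebra.H1Cotangent A B) := Algebra.FormallySmooth.subsingleton_h1Cotangent
  have hinj : Function.Injective (KaehlerDifferential.mapBaseChange Λ A B) := by
    rw [← LinearMap.ker_eq_bot, eq_bot_iff]
    intro w hw
    obtain ⟨y, rfl⟩ := (Algebra.H1Cotangent.exact_δ_mapBaseChange Λ A B w).1 hw
    rw [Subsingleton.elim y 0, map_zero]; exact zero_mem _
  haveI : Module.Projective B Ω[B⁄A] := Algebra.FormallySmooth.projective_kaehlerDifferential
  obtain ⟨s, hs⟩ := Module.projective_lifting_property (KaehlerDifferential.map Λ A B B)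
    LinearMap.id (KaehlerDifferential.map_surjective Λ A B)
  obtain ⟨r, hr⟩ : ∃ r : Ω[B⁄Λ] →ₗ[B] TensorProduct A B Ω[A⁄Λ],
      r.comp (KaehlerDifferential.mapBaseChange Λ A B) = LinearMap.id := by
    let π : Ω[B⁄Λ] →ₗ[B] ↥(LinearMap.range (KaehlerDifferential.mapBaseChange Λ A B)) :=
      (LinearMap.id - s.comp (KaehlerDifferential.map Λ A B B)).codRestrict _ fun ω => by
        rw [KaehlerDifferential.range_mapBaseChange, LinearMap.mem_ker, LinearMap.sub_apply, map_sub,
          sub_eq_zero]
        exact (LinearMap.congr_fun hs (KaehlerDifferential.map Λ A B B ω)).symm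
    refine ⟨(LinearEquiv.ofInjective _ hinj).symm.toLinearMap.comp π, LinearMap.ext fun z => ?_⟩
    have h0 : KaehlerDifferential.map Λ A B B (KaehlerDifferential.mapBaseChange Λ A B z) = 0 :=
      (KaehlerDifferential.exact_mapBaseChange_map Λ A B).apply_apply_eq_zero z
    change (LinearEquiv.ofInjective _ hinj).symm (π _) = z
    rw [LinearEquiv.symm_apply_eq]
    exact Subtype.ext (by simp [π, h0])
  have hinj' : Function.Injective ((KaehlerDifferential.mapBaseChange Λ A B).baseChange (B ⧸ K)) := by
    refine Function.LeftInverse.injective (g := r.baseChange (B ⧸ K)) fun w => ?_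
    rw [← LinearMap.comp_apply, ← LinearMap.baseChange_comp, hr, LinearMap.baseChange_id]
    rfl
  intro z z' h
  apply Subtype.ext
  apply (TensorProduct.AlgebraTensorModule.cancelBaseChange A B (B ⧸ K) (B ⧸ K) Ω[A⁄Λ]).symm.injective
  apply hinj'
  rw [← sub_eq_zero, ← map_sub, ← map_sub]
  exact (h5 ⟨_, sub_mem z.2 z'.2⟩).1 (by
    change χ (⟨_, sub_mem z.2 z'.2⟩) = 0
    have : (⟨_, sub_mem z.2 z'.2⟩ : ↥(EGA41.imperfection Λ A (B ⧸ K))) + z' = z := Subtype.ext (sub_add_cancel _ _)
    have h2 := congrArg χ this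
    rw [map_add, h] at h2
    exact add_right_cancel (h2.trans (zero_add _).symm))

end Groth.Agent.S5834
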