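import Groth.Statements.S5835
import Mathlib
import Groth.Agent.FieldSep.MacLane
import Groth.Agent.Exal.KaehlerExt

set_option autoImplicit false
universe v w
open scoped TensorProduct
open EGA41

namespace Groth.Agent.S5835

/-- A formally smooth algebra has injective base change of differentials. -/
lemma injective_mapBaseChange (R S T : Type*) [CommRing R] [CommRing S] [CommRing T] [Algebra R S]
    [Algebra R T] [Algebra S T] [IsScalarTower R S T] [Algebra.FormallySmooth S T] :
    Function.Injective (KaehlerDifferential.mapBaseChange R S T) := by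
  rw [injective_iff_map_eq_zero]
  intro x hx
  obtain ⟨x, rfl⟩ := (Algebra.H1Cotangent.exact_δ_mapBaseChange R S T x).mp hx
  rw [Subsingleton.elim x 0, map_zero]

/-- MacLane's criterion for fields in two universes. -/
lemma formallySmooth_of_geomReduced (k : Type v) (L : Type w) [Field k] [Field L] [Algebra k L]
    [Algebra.IsGeometricallyReduced k L] : Algebra.FormallySmooth k L := by
  let F := (algebraMap k L).fieldRange
  let r : k →+* F := (algebraMap k L).rangeRestrictField
  have hr : Function.Surjective r := fun ⟨x, y, hy⟩ => ⟨y, Subtype.ext hy⟩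
  let _ : Algebra k F := r.toAlgebra
  have : IsScalarTower k F L := IsScalarTower.of_algebraMap_eq fun x => rfl
  let K' := AlgebraicClosure F
  let e : k ≃ₐ[k] F := AlgEquiv.ofBijective (Algebra.ofId k F) ⟨r.injective, hr⟩
  have : Algebra.FormallySmooth k F := Algebra.FormallySmooth.of_equiv e
  have : Algebra.IsAlgebraic k F := e.isAlgebraic
  have : Algebra.IsAlgebraic k K' := Algebra.IsAlgebraic.trans k F K'
  have : IsReduced (TensorProduct k K' L) := inferInstance
  have : TensorProduct.CompatibleSMul k F K' L := ⟨fun c a b => by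
    obtain ⟨x, rfl⟩ := hr c
    change (algebraMap k F x • a) ⊗ₜ[k] b = a ⊗ₜ[k] (algebraMap k F x • b)
    rw [algebraMap_smul, algebraMap_smul, TensorProduct.smul_tmul]⟩
  have : Algebra.IsGeometricallyReduced F L := by
    rw [Algebra.isGeometricallyReduced_field_iff]
    exact isReduced_of_injective _
      (Algebra.TensorProduct.equivOfCompatibleSMul k F k K' L).injective
  have : Algebra.FormallySmooth F L :=
    FieldSep.MacLane.formallySmooth_of_isGeometricallyReduced (k := F) (K := L)
  exact Algebra.FormallySmooth.comp k F L


/-- For fields k₀ ⊆ k ⊆ K ⊆ L, the map of imperfection modules Υ_{L/K/k₀} → Υ_{L/K/k} induced by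
Ω_{K/k₀} → Ω_{K/k} is injective (k is k₀-admissible for the extension L of K) in each of the
following cases: L is separable over k; L is separable over K; k lies in k₀(K^p), p the
characteristic exponent. Separable means geometrically reduced (not necessarily algebraic). -/
theorem result {k : Type v} {k₀ K L : Type w}
    [Field k₀] [Field k] [Field K] [Field L] [Algebra k₀ k] [Algebra k₀ K] [Algebra k₀ L] [Algebra k K]
    [Algebra k L] [Algebra K L] [IsScalarTower k₀ k K] [IsScalarTower k₀ k L] [IsScalarTower k₀ K L]
    [IsScalarTower k K L] (p : ℕ) [ExpChar K p]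
    (h : Algebra.IsGeometricallyReduced k L ∨ Algebra.IsGeometricallyReduced K L ∨
      ∀ x : k, algebraMap k K x ∈ EGA41.pPowerSubalgebra p k₀ K) :
    ∀ z : L ⊗[K] Ω[K⁄k₀], z ∈ EGA41.imperfection k₀ K L →
      (KaehlerDifferential.map k₀ k K K).baseChange L z = 0 → z = 0 := by
  haveI : IsScalarTower k₀ k L := inferInstance
  let jK : L ⊗[k] Ω[k⁄k₀] →ₗ[L] L ⊗[K] Ω[K⁄k₀] :=
    ((KaehlerDifferential.mapBaseChange k₀ k K).baseChange L).comp
      (TensorProduct.AlgebraTensorModule.cancelBaseChange k K L L Ω[k⁄k₀]).symm.toLinearMap
  have hj : ∀ v, KaehlerDifferential.mapBaseChange k₀ K L (jK v) =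
      KaehlerDifferential.mapBaseChange k₀ k L v := by
    have h : KaehlerDifferential.mapBaseChange k₀ K L ∘ₗ jK = KaehlerDifferential.mapBaseChange k₀ k L :=
      Exal.KaehlerExt.linearMap_ext fun b => by simp [jK, ← IsScalarTower.algebraMap_apply]
    exact fun v => LinearMap.congr_fun h v
  intro z hz1 hz2
  obtain ⟨y, hy⟩ := (lTensor_exact L (KaehlerDifferential.exact_mapBaseChange_map k₀ k K)
    (KaehlerDifferential.map_surjective k₀ k K) z).1 hz2
  have hv : jK (TensorProduct.AlgebraTensorModule.cancelBaseChange k K L L Ω[k⁄k₀] y) = z := by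
    simp only [jK, LinearMap.comp_apply, LinearEquiv.coe_coe, LinearEquiv.symm_apply_apply]
    exact hy
  have hKL : Algebra.IsGeometricallyReduced K L → z = 0 := fun hgr => by
    haveI := FieldSep.MacLane.formallySmooth_of_isGeometricallyReduced (k := K) (K := L)
    exact injective_mapBaseChange k₀ K L (by rw [map_zero]; exact hz1)
  rcases h with h | h | h
  · haveI := formallySmooth_of_geomReduced k L
    have h0 : TensorProduct.AlgebraTensorModule.cancelBaseChange k K L L Ω[k⁄k₀] y = 0 := by
      apply injective_mapBaseChange k₀ k L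
      rw [map_zero, ← hj, hv]; exact hz1
    rw [← hv, h0, map_zero]
  · exact hKL h
  · rcases ‹ExpChar K p› with _ | ⟨hp⟩
    · exact hKL (FieldSep.MacLane.isGeometricallyReduced_of_charZero L)
    · have hd : ∀ x ∈ EGA41.pPowerSubalgebra p k₀ K, KaehlerDifferential.D k₀ K x = 0 := by
        intro x hx
        induction hx using Algebra.adjoin_induction with
        | mem x hx =>
          obtain ⟨b, rfl⟩ := hx
          simp only [Derivation.leibniz_pow]
          rw [← Nat.cast_smul_eq_nsmul K, CharP.cast_eq_zero K p, zero_smul]
        | algebraMap r => exact Derivation.map_algebraMap _ r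
        | add x y _ _ hx hy => rw [map_add, hx, hy, add_zero]
        | mul x y _ _ hx hy => rw [Derivation.leibniz, hx, hy, smul_zero, smul_zero, add_zero]
      have hjK : jK = 0 := Exal.KaehlerExt.linearMap_ext fun b => by simp [jK, hd _ (h b)]
      rw [← hv, hjK, LinearMap.zero_apply]

end Groth.Agent.S5835
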