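import Groth.Statements.S5836
import Mathlib
import Groth.Agent.Exal.KaehlerExt

set_option autoImplicit false
universe u u' u'' w
open scoped TensorProduct
open EGA41

namespace Groth.Agent.S5836

/-- For fields k ⊆ k' ⊆ k'' ⊆ K ⊆ L put Δ(L/K, a/b) = ker(Υ_{L/K/b} → Υ_{L/K/a}) ⊆ L ⊗_K Ω_{K/b}. Then 0
→ Δ(L/K, k'/k) → Δ(L/K, k''/k) → Δ(L/K, k''/k') → 0 is exact: stated as the surjectivity of the map
induced by L ⊗_K Ω_{K/k} → L ⊗_K Ω_{K/k'} (exactness on the left and in the middle hold by
construction), together with the resulting identity of ranks d(L/K, k''/k) = d(L/K, k''/k') + d(L/K,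
k'/k). -/
theorem result {k : Type u} {k' : Type u'} {k'' : Type u''} {K L : Type w}
    [Field k] [Field k'] [Field k''] [Field K] [Field L]
    [Algebra k k'] [Algebra k k''] [Algebra k' k''] [IsScalarTower k k' k'']
    [Algebra k K] [Algebra k' K] [Algebra k'' K] [IsScalarTower k k' K] [IsScalarTower k' k'' K]
    [IsScalarTower k k'' K] [Algebra K L] [Algebra k L] [Algebra k' L] [Algebra k'' L]
    [IsScalarTower k K L] [IsScalarTower k' K L] [IsScalarTower k'' K L] :
    (∀ w : L ⊗[K] Ω[K⁄k'], w ∈ EGA41.imperfection k' K L →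
        (KaehlerDifferential.map k' k'' K K).baseChange L w = 0 →
          ∃ z : L ⊗[K] Ω[K⁄k], z ∈ EGA41.imperfection k K L ∧
            (KaehlerDifferential.map k k'' K K).baseChange L z = 0 ∧
              (KaehlerDifferential.map k k' K K).baseChange L z = w) ∧
      Module.rank L ↥(EGA41.imperfection k K L ⊓
            LinearMap.ker ((KaehlerDifferential.map k k'' K K).baseChange L)) =
        Module.rank L ↥(EGA41.imperfection k' K L ⊓
              LinearMap.ker ((KaehlerDifferential.map k' k'' K K).baseChange L)) +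
          Module.rank L ↥(EGA41.imperfection k K L ⊓
              LinearMap.ker ((KaehlerDifferential.map k k' K K).baseChange L)) := by
  haveI : IsScalarTower k k' L := IsScalarTower.of_algebraMap_eq fun x => by
    rw [IsScalarTower.algebraMap_apply k' K L, ← IsScalarTower.algebraMap_apply k k' K,
      ← IsScalarTower.algebraMap_apply k K L]
  have hc : ∀ x : L ⊗[K] Ω[K⁄k], (KaehlerDifferential.map k' k'' K K).baseChange L
      ((KaehlerDifferential.map k k' K K).baseChange L x) =
        (KaehlerDifferential.map k k'' K K).baseChange L x := by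
    have h : (KaehlerDifferential.map k' k'' K K).baseChange L ∘ₗ
        (KaehlerDifferential.map k k' K K).baseChange L =
          (KaehlerDifferential.map k k'' K K).baseChange L :=
      Exal.KaehlerExt.linearMap_ext fun b => by simp
    exact fun x => LinearMap.congr_fun h x
  have hn : ∀ x : L ⊗[K] Ω[K⁄k], KaehlerDifferential.mapBaseChange k' K L
      ((KaehlerDifferential.map k k' K K).baseChange L x) =
        KaehlerDifferential.map k k' L L (KaehlerDifferential.mapBaseChange k K L x) := by
    have h : KaehlerDifferential.mapBaseChange k' K L ∘ₗ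
        (KaehlerDifferential.map k k' K K).baseChange L =
          KaehlerDifferential.map k k' L L ∘ₗ KaehlerDifferential.mapBaseChange k K L :=
      Exal.KaehlerExt.linearMap_ext fun b => by simp
    exact fun x => LinearMap.congr_fun h x
  let h : L ⊗[k'] Ω[k'⁄k] →ₗ[L] L ⊗[K] Ω[K⁄k] :=
    (TensorProduct.AlgebraTensorModule.cancelBaseChange k' K L L Ω[k'⁄k]).symm.toLinearMap |>
      fun e => ((KaehlerDifferential.mapBaseChange k k' K).baseChange L).comp e
  have hh : ∀ v, KaehlerDifferential.mapBaseChange k K L (h v) =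
      KaehlerDifferential.mapBaseChange k k' L v := by
    have h' : KaehlerDifferential.mapBaseChange k K L ∘ₗ h = KaehlerDifferential.mapBaseChange k k' L :=
      Exal.KaehlerExt.linearMap_ext fun b => by simp [h, ← IsScalarTower.algebraMap_apply]
    exact fun v => LinearMap.congr_fun h' v
  have hh' : ∀ v, (KaehlerDifferential.map k k' K K).baseChange L (h v) = 0 := by
    have h' : (KaehlerDifferential.map k k' K K).baseChange L ∘ₗ h = 0 :=
      Exal.KaehlerExt.linearMap_ext fun b => by simp [h]
    exact fun v => LinearMap.congr_fun h' v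
  have main : ∀ w : L ⊗[K] Ω[K⁄k'], w ∈ EGA41.imperfection k' K L →
      (KaehlerDifferential.map k' k'' K K).baseChange L w = 0 →
        ∃ z : L ⊗[K] Ω[K⁄k], z ∈ EGA41.imperfection k K L ∧
          (KaehlerDifferential.map k k'' K K).baseChange L z = 0 ∧
            (KaehlerDifferential.map k k' K K).baseChange L z = w := by
    intro w hw hw2
    obtain ⟨z, hz⟩ := LinearMap.lTensor_surjective L (KaehlerDifferential.map_surjective k k' K)
      (w : L ⊗[K] Ω[K⁄k'])
    replace hz : (KaehlerDifferential.map k k' K K).baseChange L z = w := hz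
    obtain ⟨v, hv⟩ := (KaehlerDifferential.exact_mapBaseChange_map k k' L
      (KaehlerDifferential.mapBaseChange k K L z)).1 (by rw [← hn, hz]; exact hw)
    refine ⟨z - h v, ?_, ?_, ?_⟩
    · change KaehlerDifferential.mapBaseChange k K L (z - h v) = 0
      rw [map_sub, hh, hv, sub_self]
    · rw [← hc, map_sub, hz, hh', sub_zero, hw2]
    · rw [map_sub, hz, hh', sub_zero]
  refine ⟨main, ?_⟩
  let P := EGA41.imperfection k K L ⊓ LinearMap.ker ((KaehlerDifferential.map k k'' K K).baseChange L)
  let f : ↥P →ₗ[L] L ⊗[K] Ω[K⁄k'] := ((KaehlerDifferential.map k k' K K).baseChange L).comp P.subtype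
  have hrange : LinearMap.range f = EGA41.imperfection k' K L ⊓
      LinearMap.ker ((KaehlerDifferential.map k' k'' K K).baseChange L) := by
    ext w
    constructor
    · rintro ⟨⟨z, hz1, hz2⟩, rfl⟩
      refine ⟨?_, ?_⟩
      · change KaehlerDifferential.mapBaseChange k' K L _ = 0
        exact (hn z).trans (by rw [show KaehlerDifferential.mapBaseChange k K L z = 0 from hz1, map_zero])
      · exact (hc z).trans hz2
    · rintro ⟨hw, hw2⟩
      obtain ⟨z, hz1, hz2, hz3⟩ := main w hw hw2
      exact ⟨⟨z, hz1, hz2⟩, hz3⟩
  let e : ↥(LinearMap.ker f) ≃ₗ[L] ↥(EGA41.imperfection k K L ⊓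
      LinearMap.ker ((KaehlerDifferential.map k k' K K).baseChange L)) :=
    { toFun := fun z => ⟨z.1.1, z.1.2.1, z.2⟩
      invFun := fun z => ⟨⟨z.1, z.2.1, by
        change (KaehlerDifferential.map k k'' K K).baseChange L z.1 = 0
        rw [← hc, show (KaehlerDifferential.map k k' K K).baseChange L z.1 = 0 from z.2.2, map_zero]⟩,
        z.2.2⟩
      map_add' := fun _ _ => rfl
      map_smul' := fun _ _ => rfl
      left_inv := fun _ => rfl
      right_inv := fun _ => rfl }
  letI : AddCommGroup ↥P := Submodule.addCommGroup P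
  have hr : Module.rank L ↥(LinearMap.range f) + Module.rank L ↥(LinearMap.ker f) = Module.rank L ↥P :=
    LinearMap.rank_range_add_rank_ker f
  rw [hrange, e.rank_eq] at hr
  exact hr.symm

end Groth.Agent.S5836
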