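import Groth.Statements.S5837
import Mathlib
import Groth.Agent.Exal.KaehlerExt

set_option autoImplicit false
universe u u' w
open scoped TensorProduct
open EGA41

namespace Groth.Agent.S5837

/-- Kernels commute with flat base change. -/
lemma rank_ker_inf_baseChange {L M : Type w} [Field L] [Field M] [Algebra L M] {X Y Z : Type w}
    [AddCommGroup X] [Module L X] [AddCommGroup Y] [Module L Y] [AddCommGroup Z] [Module L Z]
    (a : X →ₗ[L] Y) (b : X →ₗ[L] Z) :
    Module.rank M ↥(LinearMap.ker (a.baseChange M) ⊓ LinearMap.ker (b.baseChange M)) =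
      Module.rank L ↥(LinearMap.ker a ⊓ LinearMap.ker b) := by
  rw [← LinearMap.ker_prod a b]
  let g := a.prod b
  let j : M ⊗[L] ↥(LinearMap.ker g) →ₗ[M] M ⊗[L] X := (LinearMap.ker g).subtype.baseChange M
  have hjinj : Function.Injective j :=
    Module.Flat.lTensor_preserves_injective_linearMap _ (Submodule.subtype_injective _)
  have hex : Function.Exact ((LinearMap.ker g).subtype.lTensor M) (g.lTensor M) :=
    Module.Flat.lTensor_exact M (LinearMap.exact_subtype_ker_map g)
  have h : LinearMap.range j = LinearMap.ker (a.baseChange M) ⊓ LinearMap.ker (b.baseChange M) := by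
    ext z
    have hz : TensorProduct.prodRight L L M Y Z (g.lTensor M z) = (a.lTensor M z, b.lTensor M z) := by
      induction z with
      | zero => simp [Prod.mk_eq_zero, Prod.zero_eq_mk]
      | add x y hx hy => simp [hx, hy]
      | tmul m x => simp [g]
    constructor
    · rintro ⟨y, rfl⟩
      have h0 : g.lTensor M (j y) = 0 := hex.apply_apply_eq_zero y
      rw [h0, map_zero] at hz
      exact ⟨(congrArg Prod.fst hz).symm, (congrArg Prod.snd hz).symm⟩
    · intro h12
      exact (hex z).1 ((TensorProduct.prodRight L L M Y Z).injective (by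
        rw [hz, map_zero]; exact Prod.ext h12.1 h12.2))
  rw [← h, ← (LinearEquiv.ofInjective j hjinj).rank_eq, Module.rank_baseChange, Cardinal.lift_id]


set_option maxHeartbeats 1000000 in
/-- Rank form. For fields k₀ ⊆ k ⊆ K ⊆ L ⊆ M, with Δ(F/E, k/k₀) = ker(Υ_{F/E/k₀} → Υ_{F/E/k}) and d its
rank, one has d(M/K, k/k₀) = d(M/L, k/k₀) + d(L/K, k/k₀) (cardinal ranks; the published statement
gives the short exact sequence 0 → Δ(L/K, k/k₀) ⊗_L M → Δ(M/K, k/k₀) → Δ(M/L, k/k₀) → 0, of which
this row states the rank identity). -/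
theorem result {k₀ : Type u} {k : Type u'} {K L M : Type w}
    [Field k₀] [Field k] [Field K] [Field L] [Field M] [Algebra k₀ k]
    [Algebra k₀ K] [Algebra k K] [IsScalarTower k₀ k K] [Algebra k₀ L] [Algebra k L] [IsScalarTower k₀ k L]
    [Algebra K L] [Algebra K M] [Algebra L M] [IsScalarTower K L M]
    [Algebra k₀ M] [Algebra k M] [IsScalarTower k₀ K L] [IsScalarTower k K L]
    [IsScalarTower k₀ K M] [IsScalarTower k K M] [IsScalarTower k₀ L M] [IsScalarTower k L M] :
    Module.rank M ↥(EGA41.imperfection k₀ K M ⊓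
          LinearMap.ker ((KaehlerDifferential.map k₀ k K K).baseChange M)) =
      Module.rank M ↥(EGA41.imperfection k₀ L M ⊓
            LinearMap.ker ((KaehlerDifferential.map k₀ k L L).baseChange M)) +
        Module.rank L ↥(EGA41.imperfection k₀ K L ⊓
            LinearMap.ker ((KaehlerDifferential.map k₀ k K K).baseChange L)) := by
  haveI : IsScalarTower K L M := inferInstance
  let cL := TensorProduct.AlgebraTensorModule.cancelBaseChange K L M M Ω[K⁄k₀]
  let ψ : M ⊗[K] Ω[K⁄k₀] →ₗ[M] M ⊗[L] Ω[L⁄k₀] :=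
    ((KaehlerDifferential.mapBaseChange k₀ K L).baseChange M).comp cL.symm.toLinearMap
  have hψ : ∀ z, KaehlerDifferential.mapBaseChange k₀ L M (ψ z) =
      KaehlerDifferential.mapBaseChange k₀ K M z := by
    have h : KaehlerDifferential.mapBaseChange k₀ L M ∘ₗ ψ = KaehlerDifferential.mapBaseChange k₀ K M :=
      Exal.KaehlerExt.linearMap_ext fun b => by simp [ψ, cL, ← IsScalarTower.algebraMap_apply]
    exact fun z => LinearMap.congr_fun h z
  let jK : M ⊗[k] Ω[k⁄k₀] →ₗ[M] M ⊗[K] Ω[K⁄k₀] :=
    ((KaehlerDifferential.mapBaseChange k₀ k K).baseChange M).comp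
      (TensorProduct.AlgebraTensorModule.cancelBaseChange k K M M Ω[k⁄k₀]).symm.toLinearMap
  let jL : M ⊗[k] Ω[k⁄k₀] →ₗ[M] M ⊗[L] Ω[L⁄k₀] :=
    ((KaehlerDifferential.mapBaseChange k₀ k L).baseChange M).comp
      (TensorProduct.AlgebraTensorModule.cancelBaseChange k L M M Ω[k⁄k₀]).symm.toLinearMap
  have hj : ∀ v, ψ (jK v) = jL v := by
    have h : ψ ∘ₗ jK = jL :=
      Exal.KaehlerExt.linearMap_ext fun b => by simp [ψ, cL, jK, jL, ← IsScalarTower.algebraMap_apply]
    exact fun v => LinearMap.congr_fun h v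
  have hφK : ∀ v, (KaehlerDifferential.map k₀ k K K).baseChange M (jK v) = 0 := by
    have h : (KaehlerDifferential.map k₀ k K K).baseChange M ∘ₗ jK = 0 :=
      Exal.KaehlerExt.linearMap_ext fun b => by simp [jK]
    exact fun v => LinearMap.congr_fun h v
  let φ : L ⊗[K] Ω[K⁄k₀] →ₗ[L] L ⊗[K] Ω[K⁄k] := (KaehlerDifferential.map k₀ k K K).baseChange L
  let cL' := TensorProduct.AlgebraTensorModule.cancelBaseChange K L M M Ω[K⁄k]
  have hφ : ∀ y, (KaehlerDifferential.map k₀ k K K).baseChange M (cL y) = cL' (φ.baseChange M y) := by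
    have h : (KaehlerDifferential.map k₀ k K K).baseChange M ∘ₗ cL.toLinearMap =
        cL'.toLinearMap ∘ₗ φ.baseChange M := TensorProduct.AlgebraTensorModule.ext fun m x => by
      induction x with
      | zero => simp [Prod.mk_eq_zero, Prod.zero_eq_mk]
      | add x y hx hy => simp only [TensorProduct.tmul_add, map_add, hx, hy]
      | tmul l ω => simp [cL, cL', φ]
    exact fun y => LinearMap.congr_fun h y
  let P := EGA41.imperfection k₀ K M ⊓ LinearMap.ker ((KaehlerDifferential.map k₀ k K K).baseChange M)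
  let f : ↥P →ₗ[M] M ⊗[L] Ω[L⁄k₀] := ψ.comp P.subtype
  have hsquare : ∀ z, (KaehlerDifferential.map k₀ k L L).baseChange M (ψ z) =
      (((KaehlerDifferential.mapBaseChange k K L).baseChange M).comp
        (TensorProduct.AlgebraTensorModule.cancelBaseChange K L M M Ω[K⁄k]).symm.toLinearMap)
        ((KaehlerDifferential.map k₀ k K K).baseChange M z) := by
    have h : (KaehlerDifferential.map k₀ k L L).baseChange M ∘ₗ ψ =
        (((KaehlerDifferential.mapBaseChange k K L).baseChange M).comp
          (TensorProduct.AlgebraTensorModule.cancelBaseChange K L M M Ω[K⁄k]).symm.toLinearMap) ∘ₗ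
          (KaehlerDifferential.map k₀ k K K).baseChange M :=
      Exal.KaehlerExt.linearMap_ext fun b => by simp [ψ, cL]
    exact fun z => LinearMap.congr_fun h z
  have hrange : LinearMap.range f = EGA41.imperfection k₀ L M ⊓
      LinearMap.ker ((KaehlerDifferential.map k₀ k L L).baseChange M) := by
    ext w
    constructor
    · rintro ⟨⟨z, hz1, hz2⟩, rfl⟩
      refine ⟨(hψ z).trans hz1, ?_⟩
      exact (hsquare z).trans (by
        rw [show (KaehlerDifferential.map k₀ k K K).baseChange M z = 0 from hz2, map_zero])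
    · rintro ⟨hw1, hw2⟩
      obtain ⟨y, hy⟩ := (lTensor_exact M (KaehlerDifferential.exact_mapBaseChange_map k₀ k L)
        (KaehlerDifferential.map_surjective k₀ k L) w).1 hw2
      let v := TensorProduct.AlgebraTensorModule.cancelBaseChange k L M M Ω[k⁄k₀] y
      have hv : jL v = w := by
        simp only [jL, v, LinearMap.comp_apply, LinearEquiv.coe_coe, LinearEquiv.symm_apply_apply]
        exact hy
      refine ⟨⟨jK v, ?_, hφK v⟩, (hj v).trans hv⟩
      change KaehlerDifferential.mapBaseChange k₀ K M (jK v) = 0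
      rw [← hψ, hj, hv]; exact hw1
  have hkey : P ⊓ LinearMap.ker ψ =
      Submodule.map cL.toLinearMap (LinearMap.ker ((KaehlerDifferential.mapBaseChange k₀ K L).baseChange M) ⊓
        LinearMap.ker (φ.baseChange M)) := by
    ext z
    constructor
    · intro hz
      refine ⟨cL.symm z, ⟨hz.2, ?_⟩, cL.apply_symm_apply z⟩
      change φ.baseChange M (cL.symm z) = 0
      apply cL'.injective
      rw [← hφ, cL.apply_symm_apply, map_zero]
      exact hz.1.2
    · rintro ⟨y, ⟨hy1, hy2⟩, rfl⟩
      have h3 : ψ (cL y) = 0 := by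
        simp only [ψ, LinearMap.comp_apply, LinearEquiv.coe_coe, LinearEquiv.symm_apply_apply]
        exact hy1
      refine ⟨⟨?_, ?_⟩, h3⟩
      · change KaehlerDifferential.mapBaseChange k₀ K M (cL y) = 0
        rw [← hψ, h3, map_zero]
      · change (KaehlerDifferential.map k₀ k K K).baseChange M (cL y) = 0
        rw [hφ, show φ.baseChange M y = 0 from hy2, map_zero]
  let e : ↥(LinearMap.ker f) ≃ₗ[M] ↥(P ⊓ LinearMap.ker ψ) :=
    { toFun := fun z => ⟨z.1.1, z.1.2, z.2⟩
      invFun := fun z => ⟨⟨z.1, z.2.1⟩, z.2.2⟩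
      map_add' := fun _ _ => rfl
      map_smul' := fun _ _ => rfl
      left_inv := fun _ => rfl
      right_inv := fun _ => rfl }
  letI : AddCommGroup ↥P := Submodule.addCommGroup P
  have hr : Module.rank M ↥(LinearMap.range f) + Module.rank M ↥(LinearMap.ker f) = Module.rank M ↥P :=
    LinearMap.rank_range_add_rank_ker f
  rw [hrange, e.rank_eq, hkey, LinearEquiv.rank_map_eq cL,
    rank_ker_inf_baseChange (M := M) (KaehlerDifferential.mapBaseChange k₀ K L) φ] at hr
  exact hr.symm

end Groth.Agent.S5837
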