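import Groth.Statements.S5838
import Mathlib
import Groth.Agent.S5826

set_option autoImplicit false
universe u v w
open EGA41

namespace Groth.Agent.S5838

/-- Let A be a topological ring with a countable decreasing fundamental system (𝔍_n) of open ideals, M
and N topological A-modules with the topologies deduced from that of A, M Hausdorff and complete,
and u : M → N a continuous linear map such that for every n the cokernel of M/𝔍_n M → N/𝔍_n N is a
projective (A/𝔍_n)-module. Then u is formally left invertible if and only if it has a linear left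
inverse. (The published statement adds that u is then a topological isomorphism onto a topological
direct factor.) -/
theorem result {A : Type u} {M : Type v} {N : Type w}
    [CommRing A] [TopologicalSpace A] [AddCommGroup M] [Module A M] [UniformSpace M] [IsUniformAddGroup M]
    [CompleteSpace M] [T2Space M] [AddCommGroup N] [Module A N] [TopologicalSpace N]
    (𝔍 : ℕ → Ideal A) (h𝔍open : ∀ n, IsOpen (𝔍 n : Set A)) (h𝔍anti : Antitone 𝔍)
    (h𝔍basis : (nhds (0 : A)).HasBasis (fun _ : ℕ => True) (fun n => (𝔍 n : Set A)))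
    (hM : TopMod.IsDeduced A M) (hN : TopMod.IsDeduced A N) (u : M →L[A] N)
    (hcoker : ∀ n, Module.Projective (A ⧸ 𝔍 n)
      ((N ⧸ LinearMap.range u.toLinearMap) ⧸ (𝔍 n • (⊤ : Submodule A (N ⧸ LinearMap.range u.toLinearMap))))) :
    TopMod.IsFormallyLeftInvertible u ↔ ∃ w : N →ₗ[A] M, ∀ x : M, w (u x) = x := by
  rw [S5826.result hM hN u]
  haveI := hN.1
  constructor
  swap
  · rintro ⟨w, hw⟩ J -
    exact ⟨(Submodule.mkQ _).comp w, fun x => by simp [hw]⟩
  intro h
  let P : ℕ → Submodule A M := fun n => 𝔍 n • ⊤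
  have hanti : ∀ m n, n ≤ m → P m ≤ P n := fun m n hmn => Submodule.smul_mono_left (h𝔍anti hmn)
  let Q := N ⧸ LinearMap.range u.toLinearMap
  have hstep : ∀ (n : ℕ) (f : {f : N →ₗ[A] M ⧸ P n // ∀ x, f (u x) = Submodule.Quotient.mk x}),
      ∃ g : {g : N →ₗ[A] M ⧸ P (n + 1) // ∀ x, g (u x) = Submodule.Quotient.mk x},
        ∀ y, Submodule.mapQ (P (n + 1)) (P n) LinearMap.id (hanti _ _ n.le_succ) (g.1 y) = f.1 y := by
    intro n f
    obtain ⟨g₀, hg₀⟩ := h (𝔍 (n + 1)) (h𝔍open _)
    let pr : M ⧸ P (n + 1) →ₗ[A] M ⧸ P n :=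
      Submodule.mapQ (P (n + 1)) (P n) LinearMap.id (hanti _ _ n.le_succ)
    let d : N →ₗ[A] M ⧸ P n := pr.comp g₀ - f.1
    have hd : LinearMap.range u.toLinearMap ≤ LinearMap.ker d := by
      rintro _ ⟨x, rfl⟩
      change pr (g₀ (u x)) - f.1 (u x) = 0
      rw [hg₀, f.2]
      exact sub_self _
    have hk : ∀ (a : A), a ∈ 𝔍 (n + 1) → ∀ q : M ⧸ P n, a • q = 0 := fun a ha q => by
      obtain ⟨x, rfl⟩ := Submodule.Quotient.mk_surjective _ q
      rw [← Submodule.Quotient.mk_smul, Submodule.Quotient.mk_eq_zero]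
      exact Submodule.smul_mem_smul (h𝔍anti n.le_succ ha) Submodule.mem_top
    let d' : Q →ₗ[A] M ⧸ P n := Submodule.liftQ _ d hd
    have hd' : (𝔍 (n + 1) • ⊤ : Submodule A Q) ≤ LinearMap.ker d' := by
      rw [Submodule.smul_le]
      intro a ha y _
      rw [LinearMap.mem_ker, map_smul, hk a ha]
    have hsurjA : Function.Surjective (algebraMap A (A ⧸ 𝔍 (n + 1))) := Ideal.Quotient.mk_surjective
    letI : Module (A ⧸ 𝔍 (n + 1)) (M ⧸ P n) :=
      Module.IsTorsionBySet.module
        (show Module.IsTorsionBySet A (M ⧸ P n) (𝔍 (n + 1)) from fun a b => hk b.1 b.2 a)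
    haveI : IsScalarTower A (A ⧸ 𝔍 (n + 1)) (M ⧸ P n) := IsScalarTower.of_algebraMap_smul fun a q => rfl
    haveI := hcoker (n + 1)
    obtain ⟨c, hc⟩ := Module.projective_lifting_property (pr.extendScalarsOfSurjective hsurjA)
      ((Submodule.liftQ _ d' hd').extendScalarsOfSurjective hsurjA) (fun y => by
        obtain ⟨x, rfl⟩ := Submodule.Quotient.mk_surjective _ y
        exact ⟨Submodule.Quotient.mk x, rfl⟩)
    let c' : N →ₗ[A] M ⧸ P (n + 1) :=
      ((c.restrictScalars A).comp (Submodule.mkQ _)).comp (LinearMap.range u.toLinearMap).mkQ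
    refine ⟨⟨g₀ - c', fun x => ?_⟩, fun y => ?_⟩
    · have h1 : (LinearMap.range u.toLinearMap).mkQ (u x) = 0 :=
        (Submodule.Quotient.mk_eq_zero _).2 ⟨x, rfl⟩
      simp only [c', LinearMap.sub_apply, LinearMap.comp_apply, h1, map_zero, sub_zero, hg₀]
    · have h1 : pr (c' y) = pr (g₀ y) - f.1 y :=
        LinearMap.congr_fun hc (Submodule.Quotient.mk (Submodule.Quotient.mk y))
      change pr ((g₀ - c') y) = f.1 y
      rw [LinearMap.sub_apply, map_sub, h1, sub_sub_cancel]
  choose next hnext using hstep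
  let F : (n : ℕ) → {f : N →ₗ[A] M ⧸ P n // ∀ x, f (u x) = Submodule.Quotient.mk x} := fun n =>
    Nat.rec ⟨(h (𝔍 0) (h𝔍open 0)).choose, (h (𝔍 0) (h𝔍open 0)).choose_spec⟩ (fun n f => next n f) n
  have hF : ∀ n y, Submodule.mapQ (P (n + 1)) (P n) LinearMap.id (hanti _ _ n.le_succ) ((F (n + 1)).1 y) =
      (F n).1 y := fun n y => hnext n (F n) y
  have hbasis : (nhds (0 : M)).HasBasis (fun _ : ℕ => True) fun n => (P n : Set M) := by
    refine hM.2.to_hasBasis (fun J hJ => ?_) (fun n _ => ⟨𝔍 n, h𝔍open n, le_rfl⟩)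
    obtain ⟨n, -, hn⟩ := h𝔍basis.mem_iff.1 (hJ.mem_nhds J.zero_mem)
    exact ⟨n, trivial, Submodule.smul_mono_left hn⟩
  have hsep : ∀ x : M, (∀ n, x ∈ P n) → x = 0 := by
    intro x hx
    by_contra hne
    obtain ⟨n, -, hn⟩ := hbasis.mem_iff.1 (isOpen_ne.mem_nhds (Ne.symm hne) : {z : M | z ≠ x} ∈ nhds 0)
    exact hn (hx n) rfl
  have hex : ∀ y, ∃ x : M, ∀ n, Submodule.Quotient.mk x = (F n).1 y := by
    intro y
    choose xs hxs using fun n => Submodule.Quotient.mk_surjective (P n) ((F n).1 y)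
    have hstep : ∀ n, xs (n + 1) - xs n ∈ P n := fun n => by
      rw [← Submodule.Quotient.eq, hxs n, ← hF n y, ← hxs (n + 1)]
      rfl
    have hle : ∀ n m, n ≤ m → xs m - xs n ∈ P n := by
      intro n m hnm
      induction hnm with
      | refl => simp
      | @step m hnm ih => simpa using add_mem (hanti _ _ hnm (hstep m)) ih
    have hcauchy : CauchySeq xs := by
      have hU : (uniformity M).HasBasis (fun _ : ℕ => True)
          fun n => (fun p : M × M => p.2 - p.1) ⁻¹' (P n : Set M) := by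
        rw [uniformity_eq_comap_nhds_zero]; exact hbasis.comap _
      rw [hU.cauchySeq_iff']
      intro n _
      exact ⟨n, fun m hm => by simpa using neg_mem (hle n m hm)⟩
    obtain ⟨x, hx⟩ := cauchySeq_tendsto_of_complete hcauchy
    refine ⟨x, fun n => ?_⟩
    have hclosed : IsClosed (P n : Set M) :=
      AddSubgroup.isClosed_of_isOpen (P n).toAddSubgroup
        (AddSubgroup.isOpen_of_mem_nhds _ (hbasis.mem_of_mem (i := n) trivial))
    have : x - xs n ∈ P n := hclosed.mem_of_tendsto (hx.sub_const (xs n))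
      (Filter.eventually_atTop.2 ⟨n, fun m hm => hle n m hm⟩)
    rw [← hxs n, Submodule.Quotient.eq]
    exact this
  choose w hw using hex
  have huniq : ∀ y x, (∀ n, Submodule.Quotient.mk x = (F n).1 y) → w y = x := fun y x hx =>
    sub_eq_zero.1 (hsep _ fun n => (Submodule.Quotient.eq _).1 ((hw y n).trans (hx n).symm))
  refine ⟨{ toFun := w
            map_add' := fun y z => huniq _ _ fun n => by rw [Submodule.Quotient.mk_add, hw, hw, map_add]
            map_smul' := fun a y => huniq _ _ fun n => by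
              rw [RingHom.id_apply, Submodule.Quotient.mk_smul, hw, map_smul] },
    fun x => huniq _ _ fun n => ((F n).2 x).symm⟩

end Groth.Agent.S5838
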