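import Groth.Statements.S5839
import Mathlib
import Groth.Agent.S5826
import Groth.Agent.S5827
import Groth.Agent.S5838

set_option autoImplicit false
universe u v w
open EGA41

namespace Groth.Agent.S5839

/-- Let A be preadmissible with ideal of definition 𝔏, the topologies of M and N deduced from that of A,
N/JN projective over A/J for every open ideal J; assuming moreover a countable decreasing
fundamental system of open ideals and M Hausdorff and complete, u : M → N has a linear left inverse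
if and only if the induced map M/𝔏M → N/𝔏N has one (both being equivalent to formal left
invertibility). -/
theorem result {A : Type u} {M : Type v} {N : Type w}
    [CommRing A] [TopologicalSpace A] [AddCommGroup M] [Module A M] [UniformSpace M] [IsUniformAddGroup M]
    [CompleteSpace M] [T2Space M] [AddCommGroup N] [Module A N] [TopologicalSpace N]
    (𝔍 : ℕ → Ideal A) (h𝔍open : ∀ n, IsOpen (𝔍 n : Set A)) (h𝔍anti : Antitone 𝔍)
    (h𝔍basis : (nhds (0 : A)).HasBasis (fun _ : ℕ => True) (fun n => (𝔍 n : Set A)))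
    (hM : TopMod.IsDeduced A M) (hN : TopMod.IsDeduced A N) (u : M →L[A] N)
    (hA : LinTop.IsPreadmissible A) (𝔏 : Ideal A) (h𝔏 : LinTop.IsIdealOfDefinition A 𝔏)
    (hproj : ∀ J : Ideal A, IsOpen (J : Set A) → Module.Projective (A ⧸ J) (N ⧸ (J • (⊤ : Submodule A N)))) :
    (∃ w : N →ₗ[A] M, ∀ x : M, w (u x) = x) ↔
      ∃ w₀ : N →ₗ[A] M ⧸ (𝔏 • ⊤ : Submodule A M), ∀ x : M, w₀ (u x) = Submodule.Quotient.mk x := by
  refine ⟨fun ⟨w, hw⟩ => ⟨(Submodule.mkQ _).comp w, fun x => by simp [hw]⟩, fun h₀ => ?_⟩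
  have hfl := (S5827.result hA 𝔏 h𝔏 hM hN hproj u).2 h₀
  refine (S5838.result 𝔍 h𝔍open h𝔍anti h𝔍basis hM hN u fun n => ?_).1 hfl
  obtain ⟨w, hw⟩ := (S5826.result hM hN u).1 hfl (𝔍 n) (h𝔍open n)
  haveI := hproj (𝔍 n) (h𝔍open n)
  let R := LinearMap.range u.toLinearMap
  let PQ : Submodule A (N ⧸ R) := 𝔍 n • ⊤
  let PN : Submodule A N := 𝔍 n • ⊤
  let PM : Submodule A M := 𝔍 n • ⊤
  have hu' : PM ≤ Submodule.comap u.toLinearMap PN := by
    rw [← Submodule.map_le_iff_le_comap, Submodule.map_smul'']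
    exact Submodule.smul_mono le_rfl le_top
  have hq : PN ≤ Submodule.comap R.mkQ PQ := by
    rw [← Submodule.map_le_iff_le_comap, Submodule.map_smul'']
    exact Submodule.smul_mono le_rfl le_top
  let π : N ⧸ PN →ₗ[A] (N ⧸ R) ⧸ PQ := Submodule.mapQ PN PQ R.mkQ hq
  let e : N →ₗ[A] N ⧸ PN := PN.mkQ - (Submodule.mapQ PM PN u.toLinearMap hu').comp w
  have he : R ≤ LinearMap.ker e := by
    rintro _ ⟨x, rfl⟩
    change PN.mkQ (u x) - Submodule.mapQ PM PN u.toLinearMap hu' (w (u x)) = 0
    rw [hw]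
    exact sub_self _
  have he' : PQ ≤ LinearMap.ker (Submodule.liftQ R e he) := by
    refine Submodule.smul_le.2 fun a ha q _ => ?_
    obtain ⟨y, hy⟩ := Submodule.Quotient.mk_surjective _ (Submodule.liftQ R e he q)
    rw [LinearMap.mem_ker, map_smul, ← hy, ← Submodule.Quotient.mk_smul, Submodule.Quotient.mk_eq_zero]
    exact Submodule.smul_mem_smul ha Submodule.mem_top
  let s : (N ⧸ R) ⧸ PQ →ₗ[A] N ⧸ PN := Submodule.liftQ PQ (Submodule.liftQ R e he) he'
  have hs : ∀ q, π (s q) = q := fun q => by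
    obtain ⟨q, rfl⟩ := Submodule.Quotient.mk_surjective _ q
    obtain ⟨y, rfl⟩ := Submodule.Quotient.mk_surjective _ q
    obtain ⟨x, hx⟩ := Submodule.Quotient.mk_surjective _ (w y)
    change π (PN.mkQ y - Submodule.mapQ PM PN u.toLinearMap hu' (w y)) = _
    rw [map_sub, ← hx]
    change Submodule.Quotient.mk (Submodule.Quotient.mk y) -
      Submodule.Quotient.mk (Submodule.Quotient.mk (u x)) = _
    have h1 : (Submodule.Quotient.mk (u x) : N ⧸ R) = 0 := (Submodule.Quotient.mk_eq_zero R).2 ⟨x, rfl⟩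
    rw [h1, Submodule.Quotient.mk_zero, sub_zero]
  have hsurjA : Function.Surjective (algebraMap A (A ⧸ 𝔍 n)) := Ideal.Quotient.mk_surjective
  exact Module.Projective.of_split (s.extendScalarsOfSurjective hsurjA)
    (π.extendScalarsOfSurjective hsurjA) (LinearMap.ext hs)

end Groth.Agent.S5839
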