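import Groth.Statements.S5862
import Groth.Agent.RadPtLib.Basic

set_option autoImplicit false
universe u
open RadPt

namespace Groth.Agent.S5862

open CategoryTheory AlgebraicGeometry in
/-- Let f : X → Y and g : Y → Z be morphisms of schemes and y a point of Y. If f is radicial at y (fibre
with at most one point, purely inseparable residue field extension) and g is radicial at g(y), then
g ∘ f is radicial at g(y). Conversely, if f is surjective and g ∘ f is radicial at g(y), then f is
radicial at y and g is radicial at g(y). -/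
theorem result {X Y Z : Scheme.{u}} (f : X ⟶ Y) (g : Y ⟶ Z) (y : Y) :
    (RadPt.IsRadicialAt f y → RadPt.IsRadicialAt g (g y) → RadPt.IsRadicialAt (f ≫ g) (g y)) ∧
      (Surjective f → RadPt.IsRadicialAt (f ≫ g) (g y) →
        RadPt.IsRadicialAt f y ∧ RadPt.IsRadicialAt g (g y)) := by
  refine ⟨fun ⟨hf1, hf2⟩ ⟨hg1, hg2⟩ => ⟨fun x x' hx hx' => ?_, fun x hx => ?_⟩,
    fun hsur ⟨h1, h2⟩ => ?_⟩
  · rw [Scheme.Hom.comp_apply] at hx hx'
    exact hf1 x x' (hg1 _ _ hx rfl) (hg1 _ _ hx' rfl)
  · rw [Scheme.Hom.comp_apply] at hx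
    have h := hg1 _ _ hx rfl
    rw [Scheme.residueFieldMap_comp]
    exact (hg2 _ hx).comp (hf2 x h)
  · have hcomp : ∀ x, g (f x) = g y → (f ≫ g) x = g y := fun x hx => by
      rw [Scheme.Hom.comp_apply]; exact hx
    have hpi : ∀ x, g (f x) = g y → (g.residueFieldMap (f x)).hom.IsPurelyInseparable ∧
        (f.residueFieldMap x).hom.IsPurelyInseparable := fun x hx => by
      have h := h2 x (hcomp x hx)
      rw [Scheme.residueFieldMap_comp] at h
      exact Groth.Agent.RadPtLib.pi_of_comp h
    refine ⟨⟨fun x x' hx hx' => h1 x x' (hcomp _ (congrArg g hx)) (hcomp _ (congrArg g hx')),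
        fun x hx => (hpi x (congrArg g hx)).2⟩, fun a b ha hb => ?_, fun a ha => ?_⟩
    · obtain ⟨x, rfl⟩ := hsur.surj a
      obtain ⟨x', rfl⟩ := hsur.surj b
      exact congrArg f (h1 x x' (hcomp _ ha) (hcomp _ hb))
    · obtain ⟨x, rfl⟩ := hsur.surj a
      exact (hpi x ha).1

end Groth.Agent.S5862
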