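import Groth.Statements.S5864
import Mathlib.AlgebraicGeometry.PullbackCarrier
import Mathlib.AlgebraicGeometry.Morphisms.UniversallyOpen
import Mathlib.AlgebraicGeometry.Morphisms.Preimmersion
import Mathlib.Topology.Sober

set_option autoImplicit false
universe u
open RadPt

namespace Groth.Agent.S5864
open CategoryTheory AlgebraicGeometry in
lemma mem_genericPoints_iff {α : Type*} [TopologicalSpace α] [QuasiSober α] [T0Space α] {x : α} :
    x ∈ genericPoints α ↔ ∀ z, z ⤳ x → z = x := by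
  constructor
  · intro hx z hz
    have h1 : closure {x} ⊆ closure {z} := specializes_iff_closure_subset.1 hz
    have h2 : closure {z} ⊆ closure {x} :=
      (show closure {x} ∈ irreducibleComponents α from hx).2 isIrreducible_singleton.closure h1
    exact (hz.antisymm (specializes_iff_closure_subset.2 h2)).eq
  · intro h
    refine ⟨isIrreducible_singleton.closure, fun Z hZ hsub => ?_⟩
    have hgen := hZ.isGenericPoint_genericPoint_closure
    have hxz : hZ.genericPoint ⤳ x := hgen.specializes (subset_closure (hsub (subset_closure rfl)))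
    intro z hz
    rw [← h _ hxz, hgen.def]
    exact subset_closure hz

set_option backward.isDefEq.respectTransparency false in
open CategoryTheory CategoryTheory.Limits AlgebraicGeometry in
lemma exists_section_over {X Y X' Y' : Scheme.{u}} {f : X ⟶ Y} {g : Y' ⟶ Y} {f' : X' ⟶ Y'}
    {g' : X' ⟶ X} (sq : IsPullback g' f' f g) (x : X)
    (hu : ∀ x₂, f x₂ = f x → x₂ = x) (hb : Function.Bijective (f.residueFieldMap x).hom) :
    ∃ (F : Scheme.{u}) (ι : F ⟶ Y') (σ : F ⟶ X'), IsPreimmersion ι ∧ σ ≫ f' = ι ∧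
      Set.range ι = g ⁻¹' {f x} ∧ (∀ x', g (f' x') = f x → x' ∈ Set.range σ) ∧
      ∀ z, g' (σ z) = x := by
  haveI : IsIso (f.residueFieldMap x) := (ConcreteCategory.isIso_iff_bijective _).2 hb
  let r : Spec (Y.residueField (f x)) ⟶ X := Spec.map (inv (f.residueFieldMap x)) ≫ X.fromSpecResidueField x
  have hr : r ≫ f = Y.fromSpecResidueField (f x) := by
    rw [Category.assoc, ← f.SpecMap_residueFieldMap_fromSpecResidueField, ← Spec.map_comp_assoc,
      IsIso.hom_inv_id, Spec.map_id, Category.id_comp]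
  let F := pullback g (Y.fromSpecResidueField (f x))
  let σ : F ⟶ X' := sq.lift (pullback.snd _ _ ≫ r) (pullback.fst _ _)
    (by rw [Category.assoc, hr]; exact pullback.condition.symm)
  have hσ : σ ≫ f' = pullback.fst _ _ := sq.lift_snd _ _ _
  have hσ' : σ ≫ g' = pullback.snd _ _ ≫ r := sq.lift_fst _ _ _
  refine ⟨F, pullback.fst _ _, σ, inferInstance, hσ, ?_, fun x' hx' => ?_, fun z => ?_⟩
  · rw [Scheme.Pullback.range_fst, Scheme.range_fromSpecResidueField]
  · have hx : g' x' = x := hu _ (by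
      rw [← Scheme.Hom.comp_apply, sq.w, Scheme.Hom.comp_apply, hx'])
    subst hx
    let p := X'.fromSpecResidueField x'
    let c : Spec (X'.residueField x') ⟶ Spec (Y.residueField (f (g' x'))) :=
      Spec.map (g'.residueFieldMap x') ≫ Spec.map (f.residueFieldMap (g' x'))
    have hc : c ≫ Y.fromSpecResidueField (f (g' x')) = p ≫ f' ≫ g := by
      rw [← sq.w, ← Scheme.Hom.SpecMap_residueFieldMap_fromSpecResidueField_assoc g' x']
      simp [c]
    let b : Spec (X'.residueField x') ⟶ F := pullback.lift (p ≫ f') c (by rw [Category.assoc, hc])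
    have hb : b ≫ σ = p := by
      apply sq.hom_ext
      · rw [Category.assoc, hσ', ← Category.assoc, pullback.lift_snd,
          ← Scheme.Hom.SpecMap_residueFieldMap_fromSpecResidueField g' x']
        simp [c, r, ← Spec.map_comp_assoc]
      · rw [Category.assoc, hσ, pullback.lift_fst]
    refine ⟨b (IsLocalRing.closedPoint _), ?_⟩
    rw [← Scheme.Hom.comp_apply, hb]
    exact Scheme.fromSpecResidueField_apply _ _
  · rw [← Scheme.Hom.comp_apply, hσ', Scheme.Hom.comp_apply, Scheme.Hom.comp_apply,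
      Scheme.fromSpecResidueField_apply]

open CategoryTheory AlgebraicGeometry in
/-- Let f : X → Y be a morphism of schemes whose induced morphism of reduced schemes is birational (f
maps the maximal points of X bijectively onto those of Y, with one-point fibres and trivial residue
field extensions over the maximal points of Y), g : Y' → Y a flat morphism and f' : X ×_Y Y' → Y'
the base change (any cartesian square). Then the morphism of reduced schemes induced by f' is
birational in the same sense. -/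
theorem result {X Y X' Y' : Scheme.{u}} {f : X ⟶ Y} {g : Y' ⟶ Y} [Flat g] {f' : X' ⟶ Y'} {g' : X' ⟶ X}
    (sq : IsPullback g' f' f g) (hf : RadPt.IsBirational f) : RadPt.IsBirational f' := by
  have key : ∀ y' : Y', g y' ∈ genericPoints Y → ∃ x : X, f x = g y' ∧
      ∃ (F : Scheme.{u}) (ι : F ⟶ Y') (σ : F ⟶ X'), IsPreimmersion ι ∧ σ ≫ f' = ι ∧
        Set.range ι = g ⁻¹' {g y'} ∧ (∀ x', g (f' x') = g y' → x' ∈ Set.range σ) ∧
        ∀ z, g' (σ z) = x := by
    intro y' hy
    obtain ⟨x, -, hx⟩ := hf.1.surjOn hy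
    obtain ⟨F, ι, σ, h1, h2, h3, h4, h5⟩ := exists_section_over sq x
      (fun x₂ h => (hf.2 _ (hx ▸ hy)).1 x₂ x h rfl) ((hf.2 _ (hx ▸ hy)).2 x rfl)
    exact ⟨x, hx, F, ι, σ, h1, h2, hx ▸ h3, fun x' h => h4 x' (h.trans hx.symm), h5⟩
  have hgY : ∀ y' ∈ genericPoints Y', g y' ∈ genericPoints Y := fun y' hy => by
    rw [mem_genericPoints_iff] at hy ⊢
    intro z hz
    obtain ⟨w, hw, rfl⟩ := Flat.generalizingMap g hz
    rw [hy w hw]
  haveI : Flat g' := MorphismProperty.of_isPullback sq.flip ‹Flat g›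
  have hgX : ∀ x' ∈ genericPoints X', g' x' ∈ genericPoints X := fun y' hy => by
    rw [mem_genericPoints_iff] at hy ⊢
    intro z hz
    obtain ⟨w, hw, rfl⟩ := Flat.generalizingMap g' hz
    rw [hy w hw]
  have hgfX : ∀ x' ∈ genericPoints X', g (f' x') ∈ genericPoints Y := fun x' hx => by
    rw [← Scheme.Hom.comp_apply, ← sq.w, Scheme.Hom.comp_apply]
    exact hf.1.mapsTo (hgX x' hx)
  have single : ∀ y' : Y', g y' ∈ genericPoints Y →
      (∀ x₁ x₂ : X', f' x₁ = y' → f' x₂ = y' → x₁ = x₂) ∧ (∃ x', f' x' = y') ∧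
      ∀ x' : X', f' x' = y' → Function.Bijective (f'.residueFieldMap x').hom := by
    intro y' hy
    obtain ⟨x, -, F, ι, σ, hι, hσ, hr, hcov, -⟩ := key y' hy
    haveI := hι
    have hpt : ∀ x', f' x' = y' → ∃ z, σ z = x' ∧ ι z = y' := fun x' h => by
      obtain ⟨z, rfl⟩ := hcov x' (by rw [h])
      exact ⟨z, rfl, by rw [← hσ, Scheme.Hom.comp_apply, h]⟩
    refine ⟨fun x₁ x₂ h₁ h₂ => ?_, ?_, fun x' h => ?_⟩
    · obtain ⟨z₁, e₁, a₁⟩ := hpt x₁ h₁
      obtain ⟨z₂, e₂, a₂⟩ := hpt x₂ h₂
      rw [← e₁, ← e₂, ι.isEmbedding.injective (a₁.trans a₂.symm)]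
    · obtain ⟨z, hz⟩ : y' ∈ Set.range ι := by rw [hr]; rfl
      exact ⟨σ z, by rw [← Scheme.Hom.comp_apply, hσ, hz]⟩
    · obtain ⟨z, rfl, -⟩ := hpt x' h
      have e := Scheme.residueFieldMap_comp σ f' z
      have hbij : Function.Bijective ((σ ≫ f').residueFieldMap z).hom := by
        subst hσ
        refine ⟨RingHom.injective _, fun a => ?_⟩
        obtain ⟨b, rfl⟩ := Scheme.residue_surjective F z a
        obtain ⟨c, rfl⟩ := (σ ≫ f').stalkMap_surjective z b
        exact ⟨Y'.residue _ c, congr($(Scheme.residue_residueFieldMap (σ ≫ f') z) c)⟩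
      rw [e] at hbij
      refine ⟨RingHom.injective _, fun a => ?_⟩
      obtain ⟨b, hb⟩ := hbij.2 (σ.residueFieldMap z a)
      exact ⟨b, (σ.residueFieldMap z).hom.injective hb⟩
  refine ⟨⟨fun x' hx' => ?_, fun x₁ h₁ x₂ h₂ e => ?_, fun y' hy' => ?_⟩,
    fun y' hy' => ⟨(single y' (hgY y' hy')).1, (single y' (hgY y' hy')).2.2⟩⟩
  · obtain ⟨x, -, F, ι, σ, hι, hσ, hr, hcov, -⟩ := key (f' x') (hgfX x' hx')
    haveI := hι
    rw [mem_genericPoints_iff]
    intro w hw
    have hgw : g w = g (f' x') :=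
      mem_genericPoints_iff.1 (hgfX x' hx') _ (hw.map g.continuous)
    obtain ⟨z₁, hz₁⟩ : w ∈ Set.range ι := by rw [hr]; exact hgw
    obtain ⟨z₂, hz₂⟩ := hcov x' rfl
    have h2 : ι z₂ = f' x' := by rw [← hσ, Scheme.Hom.comp_apply, hz₂]
    have hz : z₁ ⤳ z₂ := ι.isEmbedding.isInducing.specializes_iff.1 (by rw [hz₁, h2]; exact hw)
    have := mem_genericPoints_iff.1 hx' _ (hz₂ ▸ hz.map σ.continuous)
    rw [← hz₁, ← hσ, Scheme.Hom.comp_apply, this]
  · exact (single (f' x₁) (hgfX x₁ h₁)).1 x₁ x₂ rfl e.symm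
  · obtain ⟨x', hx'⟩ := (single y' (hgY y' hy')).2.1
    refine ⟨x', ?_, hx'⟩
    rw [mem_genericPoints_iff]
    intro w hw
    have : f' w = y' := mem_genericPoints_iff.1 hy' _ (hx' ▸ hw.map f'.continuous)
    exact (single y' (hgY y' hy')).1 w x' this hx'

end Groth.Agent.S5864
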