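import Groth.Statements.S5876
import Groth.Agent.RelSpecLib.SpecMapGamma
import Groth.Agent.LimLib.Existence

set_option autoImplicit false
universe u
open CategoryTheory CategoryTheory.Limits AlgebraicGeometry
open Lim8

namespace Groth.Agent.S5876

open Limits RelSpec

variable {S : Scheme.{u}} {J : Type u} [SmallCategory J] [IsFiltered J] (A : J ⥤ QCAlg S)

/-- The inverse system of relative spectra. -/
noncomputable def specDiagram : Jᵒᵖ ⥤ Scheme.{u} where
  obj j := (A.obj j.unop).spec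
  map φ := QCAlg.specMap (A.map φ.unop)
  map_id j := by rw [unop_id, A.map_id, RelSpecLib.specMap_id]
  map_comp f g := by rw [unop_comp, A.map_comp, RelSpecLib.specMap_comp]

instance : ∀ (i j : Jᵒᵖ) (f : i ⟶ j), IsAffineHom ((specDiagram A).map f) :=
  fun _ _ f => RelSpecLib.isAffineHom_specMap (A.map f.unop)

theorem exists_mono_section (c : Cocone A) (hc : IsColimit c) (Lc : Cone (specDiagram A))
    (hL : IsLimit Lc) :
    ∃ (k : c.pt.spec ⟶ Lc.pt) (m : Lc.pt ⟶ c.pt.spec), Mono k ∧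
      (∀ j, k ≫ Lc.π.app (Opposite.op j) = QCAlg.specMap (c.ι.app j)) ∧
      ∀ j, m ≫ QCAlg.specMap (c.ι.app j) = Lc.π.app (Opposite.op j) := by
  obtain ⟨j₀⟩ := IsFiltered.nonempty (C := J)
  let p : ∀ j, Lc.pt ⟶ (A.obj j).spec := fun j => Lc.π.app (Opposite.op j)
  let πL : Lc.pt ⟶ S := p j₀ ≫ (A.obj j₀).π
  have hw : ∀ {j j' : J} (φ : j ⟶ j'), p j' ≫ QCAlg.specMap (A.map φ) = p j :=
    fun φ => Lc.w φ.op
  have hπ : ∀ j, p j ≫ (A.obj j).π = πL := by
    have h1 : ∀ {j j' : J} (φ : j ⟶ j'), p j ≫ (A.obj j).π = p j' ≫ (A.obj j').π :=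
      fun φ => by rw [← hw φ, Category.assoc, QCAlg.specMap_π]
    intro j
    exact (h1 (IsFiltered.leftToMax j j₀)).trans (h1 (IsFiltered.rightToMax j j₀)).symm
  have : IsAffineHom (p j₀) := isAffineHom_π_app _ _ hL _
  have : IsAffineHom πL := MorphismProperty.comp_mem @IsAffineHom _ _ this (QCAlg.isAffineHom_π _)
  have hγ : ∀ B : QCAlg S, IsIso B.gammaMap := fun B => Groth.Agent.S8255.result B
  let a : ∀ j, A.obj j ⟶ QCAlg.directImage πL := fun j =>
    ⟨inv (A.obj j).gammaMap ≫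
      AffAlg.algHom (A.obj j).π πL (p j) (hπ j), by
      show (A.obj j).str ≫ inv (A.obj j).gammaMap ≫ AffAlg.algHom (A.obj j).π πL _ (hπ j) = πL.c
      rw [← (A.obj j).π_c_gammaMap, Category.assoc, IsIso.hom_inv_id_assoc, AffAlg.algHom_comm]⟩
  let cc : Cocone A := { pt := QCAlg.directImage πL, ι := {
    app := a
    naturality := fun j j' φ => by
      refine QCAlg.hom_ext ?_
      show (A.map φ).hom ≫ inv (A.obj j').gammaMap ≫ AffAlg.algHom (A.obj j').π πL _ (hπ j') =
        (inv (A.obj j).gammaMap ≫ AffAlg.algHom (A.obj j).π πL _ (hπ j)) ≫ 𝟙 _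
      rw [Category.comp_id, ← cancel_epi (A.obj j).gammaMap, IsIso.hom_inv_id_assoc,
        ← Category.assoc, RelSpecLib.gammaMap_comp, Category.assoc, IsIso.hom_inv_id_assoc,
        Groth.Agent.S8256.algHom_comp]
      exact Groth.Agent.S8256.algHom_congr _ _ (hw φ) _ } }
  let ιc : ∀ j, A.obj j ⟶ c.pt := fun j => c.ι.app j
  obtain ⟨m, hm, hm'⟩ := AffAlgLib.exists_eq_algHom c.pt.π πL
    (c.pt.gammaMap ≫ (hc.desc cc).hom) (by
      rw [← Category.assoc, c.pt.π_c_gammaMap]
      exact (hc.desc cc).comm)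
  have hmu : ∀ j, m ≫ QCAlg.specMap (ιc j) = p j := by
    intro j
    have w : (m ≫ QCAlg.specMap (ιc j)) ≫ (A.obj j).π = πL := by
      rw [Category.assoc, QCAlg.specMap_π, hm]
    refine congrArg Subtype.val (AffAlgLib.algOf_injective (A.obj j).π πL
      (a₁ := ⟨_, w⟩) (a₂ := ⟨_, hπ j⟩) (Subtype.ext ?_))
    show AffAlg.algHom (A.obj j).π πL (m ≫ QCAlg.specMap (ιc j)) w =
      AffAlg.algHom (A.obj j).π πL _ (hπ j)
    rw [← Groth.Agent.S8256.algHom_comp (A.obj j).π c.pt.π πL _ (QCAlg.specMap_π (ιc j)) m hm,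
      hm', ← Category.assoc, ← RelSpecLib.gammaMap_comp, Category.assoc]
    refine (congrArg ((A.obj j).gammaMap ≫ ·) (congrArg QCAlg.Hom.hom (hc.fac cc j))).trans ?_
    exact IsIso.hom_inv_id_assoc _ _
  let uc : Cone (specDiagram A) := { pt := c.pt.spec, π := {
    app := fun j => QCAlg.specMap (ιc j.unop)
    naturality := fun j j' φ => by
      show 𝟙 _ ≫ QCAlg.specMap (ιc j'.unop) =
        QCAlg.specMap (ιc j.unop) ≫ QCAlg.specMap (A.map φ.unop)
      rw [Category.id_comp, ← RelSpecLib.specMap_comp]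
      exact congrArg QCAlg.specMap (c.w φ.unop).symm } }
  let k : c.pt.spec ⟶ Lc.pt := hL.lift uc
  have hk : ∀ j, k ≫ p j = QCAlg.specMap (ιc j) :=
    fun j => hL.fac uc (Opposite.op j)
  have he : (k ≫ m) ≫ c.pt.π = c.pt.π := by
    rw [Category.assoc, hm]
    show k ≫ p j₀ ≫ (A.obj j₀).π = _
    rw [← Category.assoc, hk]
    exact QCAlg.specMap_π _
  let ω : c.pt ⟶ c.pt :=
    ⟨inv c.pt.gammaMap ≫ AffAlg.algHom c.pt.π c.pt.π (k ≫ m) he ≫ c.pt.gammaMap, by
      rw [← Category.assoc c.pt.str]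
      nth_rw 1 [← c.pt.π_c_gammaMap]
      rw [Category.assoc c.pt.π.c, IsIso.hom_inv_id, Category.comp_id, ← Category.assoc,
        AffAlg.algHom_comm, c.pt.π_c_gammaMap]⟩
  have hω : ω = 𝟙 c.pt := by
    refine hc.hom_ext fun j => QCAlg.hom_ext ?_
    show (ιc j).hom ≫ inv c.pt.gammaMap ≫ AffAlg.algHom c.pt.π c.pt.π (k ≫ m) he ≫
      c.pt.gammaMap = (ιc j).hom ≫ 𝟙 _
    rw [Category.comp_id, ← cancel_epi (A.obj j).gammaMap, ← Category.assoc (A.obj j).gammaMap,
      RelSpecLib.gammaMap_comp, Category.assoc, IsIso.hom_inv_id_assoc, ← Category.assoc,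
      Groth.Agent.S8256.algHom_comp]
    congr 1
    exact Groth.Agent.S8256.algHom_congr _ _ (by rw [Category.assoc, hmu, hk]) _
  have hkm : k ≫ m = 𝟙 c.pt.spec := by
    refine Groth.Agent.S8256.hom_unique c.pt.π c.pt he (Category.id_comp _) ?_
    have e1 : AffAlg.algHom c.pt.π c.pt.π (k ≫ m) he ≫ c.pt.gammaMap = c.pt.gammaMap := by
      have h := congrArg QCAlg.Hom.hom hω
      exact (IsIso.inv_comp_eq _).mp h |>.trans (Category.comp_id _)
    rw [e1]
    have h := RelSpecLib.gammaMap_comp (𝟙 c.pt)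
    rw [QCAlg.id_hom, Category.comp_id] at h
    exact h.trans (congrArg (· ≫ c.pt.gammaMap)
      (Groth.Agent.S8256.algHom_congr _ _ (RelSpecLib.specMap_id c.pt) _))
  exact ⟨k, m, SplitMono.mono ⟨m, hkm⟩, hk, hmu⟩

end Groth.Agent.S5876

namespace Groth.Agent.S5876

/-- Let S be a scheme and (A_j) a filtered direct system of quasi-coherent O_S-algebras, indexed by a
small filtered category, with a colimit cocone with vertex A. Write S_j = Spec(A_j) and S' = Spec(A)
for the relative spectra, and u_j : S' ⟶ S_j for the morphisms induced by the coprojections A_j ⟶ A.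
Then (S', (u_j)) is a limit of the inverse system (S_j) in the category of all schemes (not only of
S-schemes): for every scheme T and every family of morphisms v_j : T ⟶ S_j compatible with the
transition morphisms, there is exactly one morphism w : T ⟶ S' whose composite with each u_j is v_j. -/
theorem result {S : Scheme.{u}} {J : Type u} [SmallCategory J] [IsFiltered J]
    (A : J ⥤ RelSpec.QCAlg S) (c : Cocone A) (hc : IsColimit c)
    (T : Scheme.{u}) (v : ∀ j : J, T ⟶ (A.obj j).spec)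
    (hv : ∀ (j j' : J) (φ : j ⟶ j'), v j' ≫ RelSpec.QCAlg.specMap (A.map φ) = v j) :
    ∃! w : T ⟶ c.pt.spec, ∀ j : J, w ≫ RelSpec.QCAlg.specMap (c.ι.app j) = v j := by
  have : Limits.HasLimit (specDiagram A) := LimLib.Existence.hasLimit _
  obtain ⟨k, m, hk', hk, hm⟩ :=
    exists_mono_section A c hc _ (Limits.limit.isLimit (specDiagram A))
  let vc : Limits.Cone (specDiagram A) := { pt := T, π := {
    app := fun j => v j.unop
    naturality := fun j j' φ => by
      show 𝟙 _ ≫ v j'.unop = v j.unop ≫ RelSpec.QCAlg.specMap (A.map φ.unop)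
      rw [Category.id_comp, hv] } }
  refine ⟨Limits.limit.lift _ vc ≫ m, fun j => ?_, fun w hw => ?_⟩
  · rw [Category.assoc, hm]
    exact Limits.limit.lift_π vc (Opposite.op j)
  · rw [← cancel_mono k]
    refine Limits.limit.hom_ext fun j => ?_
    obtain ⟨j⟩ := j
    have e : k ≫ Limits.limit.π (specDiagram A) (Opposite.op j) =
        RelSpec.QCAlg.specMap (c.ι.app j) := hk j
    rw [Category.assoc, Category.assoc, Category.assoc, e]
    refine (hw j).trans ((Limits.limit.lift_π vc (Opposite.op j)).symm.trans (congrArg _ (hm j).symm))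

end Groth.Agent.S5876
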