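import Groth.Statements.S5890
import Groth.Agent.S5887
import Groth.Agent.S5884

set_option autoImplicit false
universe u
open CategoryTheory AlgebraicGeometry
open ConsProp

namespace Groth.Agent.S5890

/-- Being radicial (universally injective) is a constructible property of morphisms of algebraic
schemes. -/
theorem result :
    ConsProp.IsConsMor (fun X Y T f g => AlgebraicGeometry.UniversallyInjective f) := by
  refine Groth.Agent.ConsPropLib.isConsMor_congr (Groth.Agent.S5884.result Groth.Agent.S5887.result)
    (fun {X Y T} f g _ _ _ _ _ => ?_)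
  show (∀ y : ↥Y, UniversallyInjective (f.fiberToSpecResidueField y)) ↔ _
  simp only [← Groth.Agent.RadPtLib.isRadicialAt_iff_fiber]
  have hiff := (tfae_universallyInjective f).out 0 2
  rw [hiff]
  exact ⟨fun h => ⟨fun a b hab => (h (f b)).1 a b hab rfl, fun x => (h (f x)).2 x rfl⟩,
    fun h y => ⟨fun a b ha hb => h.1 (ha.trans hb.symm), fun x _ => h.2 x⟩⟩

end Groth.Agent.S5890
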