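import Groth.Statements.S5911
import Groth.Agent.CAlgA.IdealSepFlat
import Mathlib

-- import your own Groth.Agent.* helpers here

set_option autoImplicit false
universe u
open TensorProduct
open EGA43

namespace Groth.Agent.S5911

open TensorProduct Function

/-- Let A be a Noetherian ring, J an ideal of A and M an A-module which is ideally separated for the
J-adic topology (for every ideal a of A the module a ⊗_A M is J-adically separated). Let (p_i) be a
finite family of prime ideals of A containing J, let J_n be the intersection of the symbolic powers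
p_i^{(n)} (preimages in A of the n-th powers of the maximal ideals of the local rings A_{p_i}), and
assume every power J^n contains some J_m. Then M is flat if and only if (A/J) ⊗_A M is flat over A/J
and M_{p_i} is flat over A_{p_i} for every i. -/
theorem result {A : Type u} [CommRing A] [IsNoetherianRing A]
    (J : Ideal A) (M : Type u) [AddCommGroup M] [Module A M]
    (hsep : ∀ a : Ideal A, IsHausdorff J (↥a ⊗[A] M))
    {r : ℕ} (p : Fin r → Ideal A) [∀ i, (p i).IsPrime] (hp : ∀ i, J ≤ p i)
    (htop : ∀ n : ℕ, ∃ m : ℕ,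
      ⨅ i, Ideal.comap (algebraMap A (Localization.AtPrime (p i))) (IsLocalRing.maximalIdeal (Localization.AtPrime (p i)) ^ m) ≤ J ^ n) :
    Module.Flat A M ↔
      Module.Flat (A ⧸ J) ((A ⧸ J) ⊗[A] M) ∧
        ∀ i, Module.Flat (Localization.AtPrime (p i)) (LocalizedModule (p i).primeCompl M) := by
  refine ⟨fun h => ⟨inferInstance, fun i => inferInstance⟩, fun ⟨h1, h2⟩ =>
    Groth.Agent.CAlgA.IdealSepFlat.flat_of_forall_flat_quot M J hsep fun n => ?_⟩
  obtain ⟨m, hm⟩ := htop n
  let P : Fin r → Ideal A := fun i => Ideal.comap (algebraMap A (Localization.AtPrime (p i)))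
    (IsLocalRing.maximalIdeal (Localization.AtPrime (p i)) ^ m)
  have hJK : J ^ m ≤ ⨅ i, P i := le_iInf fun i => by
    refine Ideal.map_le_iff_le_comap.1 ?_
    rw [Ideal.map_pow]
    refine Ideal.pow_right_mono ((Ideal.map_mono (hp i)).trans ?_) m
    rw [Localization.AtPrime.map_eq_maximalIdeal]
  have hflat := Groth.Agent.CAlgA.IdealSepFlat.flat_quot_of_ass M J (⨅ i, P i) m hJK h1 fun q hq => by
    obtain ⟨hqp, x, hx⟩ := isAssociatedPrime_iff.1 hq
    obtain ⟨x, rfl⟩ := Ideal.Quotient.mk_surjective x
    have hxK : x ∉ ⨅ i, P i := fun hxK => hqp.ne_top (by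
      rw [hx, Ideal.Quotient.eq_zero_iff_mem.2 hxK, Ideal.eq_top_iff_one, Submodule.mem_colon_singleton,
        smul_zero]
      exact zero_mem _)
    rw [Submodule.mem_iInf, not_forall] at hxK
    obtain ⟨i, hi⟩ := hxK
    refine ⟨p i, inferInstance, fun s hs => ?_, h2 i⟩
    by_contra hsp
    rw [hx, Submodule.mem_colon_singleton, Submodule.mem_bot] at hs
    have hsx : s * x ∈ ⨅ j, P j := Ideal.Quotient.eq_zero_iff_mem.1 hs
    have h3 : algebraMap A (Localization.AtPrime (p i)) (s * x) ∈
        IsLocalRing.maximalIdeal (Localization.AtPrime (p i)) ^ m := Submodule.mem_iInf _ |>.1 hsx i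
    rw [map_mul] at h3
    exact hi ((Ideal.unit_mul_mem_iff_mem _ (IsLocalization.map_units (Localization.AtPrime (p i)) (⟨s, hsp⟩ : (p i).primeCompl))).1 h3)
  exact Groth.Agent.CAlgA.IdealSepFlat.flat_bc M (Ideal.Quotient.factorₐ A hm)

end Groth.Agent.S5911
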