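import Groth.Statements.S5912
import Groth.Agent.CAlgA.IdealSepFlat
import Mathlib

-- import your own Groth.Agent.* helpers here

set_option autoImplicit false
universe u
open TensorProduct
open EGA43

namespace Groth.Agent.S5912

open TensorProduct Function

lemma ass_fin_subset {A : Type u} [CommRing A] (N : Type u) [AddCommGroup N] [Module A N] :
    ∀ k : ℕ, associatedPrimes A (Fin k → N) ⊆ associatedPrimes A N
  | 0 => by rw [associatedPrimes.eq_empty_of_subsingleton]; exact Set.empty_subset _
  | k + 1 => by
    rw [← LinearEquiv.AssociatedPrimes.eq (Fin.consLinearEquiv A (fun _ : Fin (k + 1) => N)), associatedPrimes.prod]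
    exact Set.union_subset le_rfl (ass_fin_subset N k)

lemma ass_pow_subset {A : Type u} [CommRing A] [IsNoetherianRing A] (J : Ideal A)
    (hgr : ∀ k : ℕ, Module.Flat (A ⧸ J) ((A ⧸ J) ⊗[A] ↥(J ^ k))) :
    ∀ n : ℕ, associatedPrimes A (A ⧸ J ^ n) ⊆ associatedPrimes A (A ⧸ J)
  | 0 => by
    haveI : Subsingleton (A ⧸ J ^ 0) := Ideal.Quotient.subsingleton_iff.2 (by rw [pow_zero, Ideal.one_eq_top])
    rw [associatedPrimes.eq_empty_of_subsingleton]
    exact Set.empty_subset _
  | n + 1 => by
    let S : Submodule A ↥(J ^ n) := J • ⊤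
    have hS : S = Submodule.comap (J ^ n).subtype (J ^ (n + 1)) := by
      apply Submodule.map_injective_of_injective (J ^ n).injective_subtype
      rw [Submodule.map_smul'', Submodule.map_top, Submodule.range_subtype, Submodule.map_comap_subtype,
        inf_eq_right.2 (Ideal.pow_le_pow_right (Nat.le_succ n)), pow_succ']
      rfl
    let ψ : (↥(J ^ n) ⧸ S) →ₗ[A] A ⧸ J ^ (n + 1) := Submodule.mapQ S (J ^ (n + 1)) (J ^ n).subtype hS.le
    have hψ : Injective ψ := by
      rw [← LinearMap.ker_eq_bot, Submodule.ker_mapQ, ← hS, Submodule.mkQ_map_self]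
    let g : (A ⧸ J ^ (n + 1)) →ₗ[A] A ⧸ J ^ n :=
      Submodule.mapQ (J ^ (n + 1)) (J ^ n) LinearMap.id (Ideal.pow_le_pow_right (Nat.le_succ n))
    have hexact : Exact ψ g := by
      intro z
      obtain ⟨z, rfl⟩ := Submodule.Quotient.mk_surjective _ z
      constructor
      · intro hz
        exact ⟨Submodule.Quotient.mk ⟨z, (Submodule.Quotient.mk_eq_zero _).1 hz⟩, rfl⟩
      · rintro ⟨w, hw⟩
        obtain ⟨w, rfl⟩ := Submodule.Quotient.mk_surjective _ w
        rw [← hw]
        exact (Submodule.Quotient.mk_eq_zero _).2 w.2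
    refine (associatedPrimes.subset_union_of_exact hψ hexact).trans (Set.union_subset ?_ (ass_pow_subset J hgr n))
    let G := (A ⧸ J) ⊗[A] ↥(J ^ n)
    have := hgr n
    haveI : Module.Finite (A ⧸ J) G := inferInstance
    haveI : Module.Projective (A ⧸ J) G := by
      haveI : IsNoetherianRing (A ⧸ J) := isNoetherianRing_of_surjective A (A ⧸ J) _ Ideal.Quotient.mk_surjective
      haveI := Module.finitePresentation_of_finite (A ⧸ J) G
      exact Module.Flat.projective_of_finitePresentation
    obtain ⟨k, f, hf⟩ := Module.Finite.exists_fin' (A ⧸ J) G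
    obtain ⟨s, hs⟩ := Module.projective_lifting_property f LinearMap.id hf
    have hs' : Injective (s.restrictScalars A) := fun x y hxy => by
      have h := congrArg f hxy
      simpa only [LinearMap.restrictScalars_apply, ← LinearMap.comp_apply, hs, LinearMap.id_apply] using h
    rw [← LinearEquiv.AssociatedPrimes.eq (TensorProduct.quotTensorEquivQuotSMul ↥(J ^ n) J)]
    exact (associatedPrimes.subset_of_injective hs').trans (ass_fin_subset _ _)

/-- Let A be a Noetherian ring, J an ideal of A and M an A-module which is ideally separated for the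
J-adic topology (for every ideal a of A the module a ⊗_A M is J-adically separated), and suppose
every quotient J^k/J^{k+1} is a flat (A/J)-module (the associated graded ring of A along J is flat
over A/J). Then M is flat if and only if (A/J) ⊗_A M is flat over A/J and M_p is flat over A_p for
every associated prime p of the A-module A/J. -/
theorem result {A : Type u} [CommRing A] [IsNoetherianRing A]
    (J : Ideal A) (M : Type u) [AddCommGroup M] [Module A M]
    (hsep : ∀ a : Ideal A, IsHausdorff J (↥a ⊗[A] M))
    (hgr : ∀ k : ℕ, Module.Flat (A ⧸ J) ((A ⧸ J) ⊗[A] ↥(J ^ k))) :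
    Module.Flat A M ↔
      Module.Flat (A ⧸ J) ((A ⧸ J) ⊗[A] M) ∧
        ∀ q : associatedPrimes A (A ⧸ J),
          haveI : q.1.IsPrime := IsAssociatedPrime.isPrime q.2
          Module.Flat (Localization.AtPrime q.1) (LocalizedModule q.1.primeCompl M) := by
  refine ⟨fun h => ⟨inferInstance, fun q => inferInstance⟩, fun ⟨h1, h2⟩ =>
    Groth.Agent.CAlgA.IdealSepFlat.flat_of_forall_flat_quot M J hsep fun n =>
    Groth.Agent.CAlgA.IdealSepFlat.flat_quot_of_ass M J (J ^ n) n le_rfl h1 fun q hq => ?_⟩
  have hq' := ass_pow_subset J hgr n hq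
  exact ⟨q, IsAssociatedPrime.isPrime hq', le_rfl, h2 ⟨q, hq'⟩⟩

end Groth.Agent.S5912
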