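import Groth.Statements.S5913
import Groth.Agent.S3431
import Mathlib.AlgebraicGeometry.Morphisms.Immersion
import Mathlib.AlgebraicGeometry.Morphisms.FiniteType
-- import your own Groth.Agent.* helpers here

set_option autoImplicit false
universe u
open CategoryTheory AlgebraicGeometry
open EGA43

namespace Groth.Agent.S5913

open CategoryTheory AlgebraicGeometry


/-- In the locally Noetherian form: a locally Noetherian scheme X is Jacobson if and only if it has no
subscheme isomorphic to the spectrum of a semi-local integral domain of dimension 1, i.e. there is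
no immersion Spec R ⟶ X with R an integral domain having finitely many maximal ideals and Krull
dimension 1. -/
theorem result (X : Scheme.{u}) [IsLocallyNoetherian X] :
    JacobsonSpace X ↔
      ∀ (R : CommRingCat.{u}) [IsDomain R] (i : Spec R ⟶ X) [IsImmersion i],
        ¬ (Finite (MaximalSpectrum R) ∧ ringKrullDim R = 1) := by
  constructor
  · rintro hX R _ i _ ⟨hfin, hdim⟩
    haveI : JacobsonSpace (Spec R) := LocallyOfFiniteType.jacobsonSpace i
    haveI : IsJacobsonRing R := PrimeSpectrum.isJacobsonRing_iff_jacobsonSpace.mpr ‹_›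
    have hnf : ¬ IsField R := fun hf => by
      rw [ringKrullDim_eq_zero_of_isField hf] at hdim
      norm_num at hdim
    have hjac : (⊥ : Ideal R).jacobson = ⊥ :=
      IsJacobsonRing.out ‹IsJacobsonRing R› Ideal.isPrime_bot.isRadical
    haveI := hfin
    haveI := Fintype.ofFinite (MaximalSpectrum R)
    have hne : ∀ m : MaximalSpectrum R, m.asIdeal ≠ ⊥ := fun m h => by
      refine hnf (Ring.isField_iff_maximal_bot.mpr ?_)
      exact h ▸ m.isMaximal
    have hprod : ∏ m : MaximalSpectrum R, m.asIdeal = 0 := by
      rw [Ideal.zero_eq_bot, eq_bot_iff, ← hjac]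
      exact le_sInf fun J hJ =>
        Ideal.prod_le_inf.trans (Finset.inf_le (Finset.mem_univ (⟨J, hJ.2⟩ : MaximalSpectrum R)))
    exact Finset.prod_ne_zero_iff.mpr (fun m _ => hne m) hprod
  · intro h
    rw [X.affineCover.isOpenCover_opensRange.jacobsonSpace_iff]
    intro i
    haveI : IsLocallyNoetherian (X.affineCover.X i) :=
      isLocallyNoetherian_of_isOpenImmersion (X.affineCover.f i)
    haveI : IsAffine (X.affineCover.X i) := inferInstance
    suffices JacobsonSpace (X.affineCover.X i) from
      JacobsonSpace.of_isClosedEmbedding ((X.affineCover.f i).isoOpensRange.inv.homeomorph.isClosedEmbedding)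
    haveI : IsNoetherianRing Γ(X.affineCover.X i, ⊤) :=
      IsLocallyNoetherian.component_noetherian ⟨⊤, isAffineOpen_top _⟩
    haveI : IsJacobsonRing Γ(X.affineCover.X i, ⊤) := by
      rw [Groth.Agent.S3431.result Γ(X.affineCover.X i, ⊤)]
      intro p _
      exact h (CommRingCat.of (Γ(X.affineCover.X i, ⊤) ⧸ p))
        (Spec.map (CommRingCat.ofHom (Ideal.Quotient.mk p)) ≫ (X.affineCover.X i).isoSpec.inv ≫
          X.affineCover.f i)
    haveI : JacobsonSpace (Spec Γ(X.affineCover.X i, ⊤)) := inferInstanceAs (JacobsonSpace (PrimeSpectrum _))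
    exact JacobsonSpace.of_isClosedEmbedding (X.affineCover.X i).isoSpec.hom.homeomorph.isClosedEmbedding

end Groth.Agent.S5913
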