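import Groth.Statements.S5915
import Groth.Agent.Fibres16.FlatFamily.Stalk
import Groth.Agent.FDesc.BaseChangeStalk

set_option autoImplicit false
universe u
open CategoryTheory AlgebraicGeometry
open EGA43 TensorProduct Groth.Agent Groth.Agent.Fibres16.FlatFamily

namespace Groth.Agent.S5915

attribute [local instance] Algebra.TensorProduct.rightAlgebra

open CategoryTheory.Limits in
/-- Let Y be locally Noetherian, f : X ⟶ Y locally of finite type, F a coherent O_X-module, x a point of
X and y = f x. Let φ : O_{Y,y} ⟶ A' be an injective ring homomorphism which is finite (A' finitely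
generated as an O_{Y,y}-module), Y' = Spec A' ⟶ Y the induced Y-scheme, X' = X ×_Y Y' and F' the
pullback of F to X'. Then F is f-flat at x if and only if F' is flat over Y' at every point of X'
lying over x and over a closed point of Y'. (The published statement treats more generally a Zariski
ring A' whose radical pulls back to the maximal ideal and whose map on completions is injective;
this row is the case of a finite algebra with injective structure map, in which those conditions
hold.) -/
theorem result {X Y : Scheme.{u}} [IsLocallyNoetherian Y]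
    (f : X ⟶ Y) [LocallyOfFiniteType f] (F : X.Modules) (hF : Coh.IsCoh F) (x : X)
    (A' : CommRingCat.{u}) (φ : Y.presheaf.stalk (f.base x) ⟶ A') (hfin : φ.hom.Finite)
    (hinj : Function.Injective φ.hom) :
    FlatMod.IsFlatOverAt f F x ↔
      ∀ x' : ↥(pullback f (Spec.map φ ≫ Y.fromSpecStalk (f.base x))), pullback.fst f (Spec.map φ ≫ Y.fromSpecStalk (f.base x)) x' = x →
        IsClosed ({pullback.snd f (Spec.map φ ≫ Y.fromSpecStalk (f.base x)) x'} : Set ↥(Spec A')) →
          FlatMod.IsFlatOverAt (pullback.snd f (Spec.map φ ≫ Y.fromSpecStalk (f.base x))) ((Scheme.Modules.pullback (pullback.fst f (Spec.map φ ≫ Y.fromSpecStalk (f.base x)))).obj F) x' := by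
  let g := Spec.map φ ≫ Y.fromSpecStalk (f.base x)
  constructor
  · intro h x' hx' _
    exact FDesc.BaseChangeStalk.flatOverAt_baseChange (IsPullback.of_hasPullback f g) x' F (hx' ▸ h)
  intro hflat
  haveI : IsLocallyNoetherian X := LocallyOfFiniteType.isLocallyNoetherian f
  haveI : F.IsQuasicoherent := hF.1
  haveI : SheafOfModules.IsFiniteType.{u} F := hF.2
  obtain ⟨US, hS, hyUS, -⟩ := exists_isAffineOpen_mem_and_subset (U := (⊤ : Y.Opens)) (x := f x) trivial
  obtain ⟨U, hU, hxU, eU⟩ := exists_isAffineOpen_mem_and_subset (U := f ⁻¹ᵁ US) (x := x) hyUS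
  let A₀ := Γ(Y, US)
  let O := Y.presheaf.stalk (f x)
  let L := X.presheaf.stalk x
  letI := (f.appLE US U eU).hom.toAlgebra
  letI : Module A₀ Γ(F, U) := Module.compHom _ (f.appLE US U eU).hom
  haveI : IsScalarTower A₀ Γ(X, U) Γ(F, U) := IsScalarTower.of_algebraMap_smul fun _ _ => rfl
  haveI : IsNoetherianRing Γ(X, U) := IsLocallyNoetherian.component_noetherian ⟨U, hU⟩
  haveI : IsNoetherianRing A₀ := IsLocallyNoetherian.component_noetherian ⟨US, hS⟩
  haveI : Module.Finite Γ(X, U) Γ(F, U) := Groth.Agent.QCoh.finite_sections_of_isFiniteType F hU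
  letI : Algebra A₀ O := (Y.presheaf.germ US (f x) (eU hxU)).hom.toAlgebra
  let p := AssSch.Stalk.primeOf hS (f x) (eU hxU)
  haveI : IsLocalization.AtPrime O p := hS.isLocalization_stalk ⟨f x, eU hxU⟩
  letI : Algebra Γ(X, U) L := (X.presheaf.germ U x hxU).hom.toAlgebra
  let q := AssSch.Stalk.primeOf hU x hxU
  haveI : IsLocalization.AtPrime L q := hU.isLocalization_stalk ⟨x, hxU⟩
  letI : Algebra O L := (f.stalkMap x).hom.toAlgebra
  letI : Algebra A₀ L := ((algebraMap Γ(X, U) L).comp (algebraMap A₀ Γ(X, U))).toAlgebra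
  haveI : IsScalarTower A₀ Γ(X, U) L := IsScalarTower.of_algebraMap_eq fun _ => rfl
  haveI : IsScalarTower A₀ O L := IsScalarTower.of_algebraMap_eq fun a =>
    (FlatOpen.Scheme.stalkMap_germ f eU x hxU a).symm
  haveI : IsNoetherianRing O := IsLocalization.isNoetherianRing p.primeCompl O inferInstance
  haveI : IsNoetherianRing L := IsLocalization.isNoetherianRing q.primeCompl L inferInstance
  haveI : IsLocalHom (algebraMap O L) := inferInstanceAs (IsLocalHom (f.stalkMap x).hom)
  let hW' := isAffineOpen_top (Spec A')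
  let eW' := top_le_preimage (f x) hyUS φ
  letI := (g.appLE US ⊤ eW').hom.toAlgebra
  let εi := (Scheme.ΓSpecIso A').commRingCatIsoToRingEquiv
  letI : Algebra O Γ(Spec A', ⊤) := (εi.symm.toRingHom.comp φ.hom).toAlgebra
  haveI : IsScalarTower A₀ O Γ(Spec A', ⊤) := IsScalarTower.of_algebraMap_eq fun a =>
    appLE_specMap_fromSpecStalk (f x) hyUS A' φ eW' a
  haveI : Module.Finite O Γ(Spec A', ⊤) :=
    RingHom.Finite.comp (RingHom.Finite.of_surjective εi.symm.toRingHom εi.symm.surjective) hfin
  have hinj' : Function.Injective (algebraMap O Γ(Spec A', ⊤)) := εi.symm.injective.comp hinj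
  obtain ⟨c, hc⟩ := (IsLocalRing.maximalIdeal O).exists_pow_inf_eq_pow_smul
    (M := Γ(Spec A', ⊤)) (LinearMap.range (Algebra.linearMap O Γ(Spec A', ⊤)))
  haveI : Module.Flat O (L ⊗[Γ(X, U)] Γ(F, U)) := by
    refine flat_of_quotients (S := L) _ fun N => ?_
    let 𝔟 : Ideal Γ(Spec A', ⊤) := (IsLocalRing.maximalIdeal O ^ (c + (N + 1))).map (algebraMap O Γ(Spec A', ⊤))
    have hI : 𝔟.comap (algebraMap O Γ(Spec A', ⊤)) ≤ IsLocalRing.maximalIdeal O ^ (N + 1) := by
      intro b hb
      have h1 : Algebra.linearMap O Γ(Spec A', ⊤) b ∈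
          IsLocalRing.maximalIdeal O ^ (c + (N + 1)) • ⊤ ⊓ LinearMap.range (Algebra.linearMap O Γ(Spec A', ⊤)) :=
        ⟨by rw [Ideal.smul_top_eq_map]; exact hb, LinearMap.mem_range_self _ b⟩
      rw [hc _ (Nat.le_add_right _ _), Nat.add_sub_cancel_left] at h1
      have h2 := Submodule.smul_mono (le_refl _) inf_le_right h1
      rw [LinearMap.range_eq_map, ← Submodule.map_smul''] at h2
      obtain ⟨b', hb', hbb⟩ := h2
      rw [← hinj' hbb]
      simpa using hb'
    refine ⟨𝔟.comap (algebraMap O Γ(Spec A', ⊤)), hI.trans (Ideal.pow_le_pow_right (Nat.le_succ N)), ?_⟩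
    refine flat_quot_forall (A := A₀) (B := L) p.primeCompl (L ⊗[Γ(X, U)] Γ(F, U)) _ (n := c + (N + 1))
      Ideal.le_comap_map
      (hI.trans (Ideal.pow_le_self (Nat.succ_ne_zero N))) fun a ha => ?_
    refine ⟨Γ(Spec A', ⊤), inferInstance, inferInstance, inferInstance, inferInstance, 𝔟, le_rfl, ha,
      fun Q _ hQ => ?_⟩
    have H := localizeAt (A := A₀) (A' := Γ(Spec A', ⊤)) q L Γ(F, U)
    refine Exists.elim H fun ψ hψ => ?_
    refine hψ.2.2.1 Q ?_
    obtain ⟨x', hx, hy', hB, hA, hflat'⟩ := (exists_piece f F g hS hU hW' eU eW').1 (Q.comap ψ)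
    have hxx : pullback.fst f g x' = x := by
      rw [Ideal.comap_comap, hψ.1, ← Ideal.comap_comap, hQ] at hB
      replace hB := (IsLocalization.AtPrime.under_maximalIdeal L q).symm.trans hB
      have := congrArg hU.fromSpec
        (PrimeSpectrum.ext (x := hU.primeIdealOf ⟨x, hxU⟩) (y := hU.primeIdealOf ⟨_, hx⟩) hB)
      rw [hU.fromSpec_primeIdealOf, hU.fromSpec_primeIdealOf] at this
      exact this.symm
    refine hflat' (hflat x' hxx ?_)
    let z : ↥(Spec A') := pullback.snd f g x'
    let P := AssSch.Stalk.primeOf hW' z hy'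
    have hPA : P.comap (algebraMap A₀ Γ(Spec A', ⊤)) = p := by
      refine (congrArg PrimeSpectrum.asIdeal
        (IsAffineOpen.comap_primeIdealOf_appLE US hS ⊤ hW' eW' hy')).trans ?_
      refine congrArg (fun v : US => (hS.primeIdealOf v).asIdeal) (Subtype.ext ?_)
      show (pullback.snd f g ≫ g) x' = f x
      rw [← pullback.condition, Scheme.Hom.comp_apply, hxx]
    have hPO : P.comap (algebraMap O Γ(Spec A', ⊤)) = IsLocalRing.maximalIdeal O := by
      rw [← IsLocalization.map_under p.primeCompl O (P.comap (algebraMap O Γ(Spec A', ⊤))), Ideal.under_def,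
        Ideal.comap_comap, ← IsScalarTower.algebraMap_eq, hPA]
      exact IsLocalization.AtPrime.map_eq_maximalIdeal p O
    haveI : (P.comap (algebraMap O Γ(Spec A', ⊤))).IsMaximal := hPO ▸ inferInstance
    have hPmax : P.IsMaximal := Ideal.isMaximal_of_isIntegral_of_isMaximal_comap (R := O) P inferInstance
    have hcl := (PrimeSpectrum.isClosed_singleton_iff_isMaximal (hW'.primeIdealOf ⟨z, hy'⟩)).mpr hPmax
    have hcont : Continuous fun v : ↥(Spec A') => hW'.primeIdealOf ⟨v, trivial⟩ :=
      hW'.isoSpec.hom.continuous.comp (continuous_id.subtype_mk _)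
    convert hcl.preimage hcont using 1
    ext v
    refine ⟨fun hv => by rw [hv]; rfl, fun hv => ?_⟩
    have := congrArg hW'.fromSpec hv
    rwa [hW'.fromSpec_primeIdealOf, hW'.fromSpec_primeIdealOf] at this
  haveI : Module.Flat A₀ O := IsLocalization.flat O p.primeCompl
  haveI : Module.Flat A₀ (L ⊗[Γ(X, U)] Γ(F, U)) := Module.Flat.trans A₀ O _
  exact (FlatOpen.Scheme.isFlatOverAt_iff f hS hU eU x hxU F).2 (flatAt_of_flat_localization (L := L) q Γ(F, U))

end Groth.Agent.S5915
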