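import Groth.Statements.S5916
import Groth.Agent.SepFld.Base

set_option autoImplicit false
universe u
open CategoryTheory AlgebraicGeometry
open EGA43

namespace Groth.Agent.S5916

open CategoryTheory.Limits in
/-- Case Z_λ = X: let A be a commutative ring, p : X ⟶ Spec A an A-scheme, F a quasi-coherent
O_X-module, (G_i) quasi-coherent O_X-modules flat over Spec A and u_i : F ⟶ G_i a separating family
of homomorphisms (a section of F over an open subset killed by every u_i is zero). Let φ : A ⟶ A' be
a ring homomorphism. If for every factorisation A ⟶ B ⟶ A' of φ with A ⟶ B of finite type and B ⟶ A'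
injective (every finitely generated sub-A-algebra B of A') the family pulled back to X ×_{Spec A}
Spec B is separating, then the family pulled back to X ×_{Spec A} Spec A' is separating. (The
published statement allows homomorphisms into direct images (f_λ)_*G_λ of modules G_λ flat over the
base; this row is the case Z_λ = X.) -/
theorem result {X : Scheme.{u}} (A A' : CommRingCat.{u}) (φ : A ⟶ A')
    (p : X ⟶ Spec A) (F : X.Modules) [Coh.IsQCoh F] {ι : Type u} (G : ι → X.Modules) [∀ i, Coh.IsQCoh (G i)]
    (hG : ∀ i, FlatMod.IsFlatOver p (G i)) (u : ∀ i, F ⟶ G i)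
    (h : ∀ (V : (X).Opens) (t : ↑((F).presheaf.obj (Opposite.op V))), (∀ i, (Scheme.Modules.Hom.mapPresheaf (u i)).app (Opposite.op V) t = 0) → t = 0)
    (hfg : ∀ (B : CommRingCat.{u}) (a : A ⟶ B) (b : B ⟶ A'), a ≫ b = φ → Function.Injective b.hom → a.hom.FiniteType →
      ∀ (V : (pullback p (Spec.map a)).Opens) (t : ↑(((Scheme.Modules.pullback (pullback.fst p (Spec.map a))).obj F).presheaf.obj (Opposite.op V))), (∀ i, (Scheme.Modules.Hom.mapPresheaf ((Scheme.Modules.pullback (pullback.fst p (Spec.map a))).map (u i))).app (Opposite.op V) t = 0) → t = 0) :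
    ∀ (V : (pullback p (Spec.map φ)).Opens) (t : ↑(((Scheme.Modules.pullback (pullback.fst p (Spec.map φ))).obj F).presheaf.obj (Opposite.op V))), (∀ i, (Scheme.Modules.Hom.mapPresheaf ((Scheme.Modules.pullback (pullback.fst p (Spec.map φ))).map (u i))).app (Opposite.op V) t = 0) → t = 0 := by
  refine SepFld.isSep_pullback u (pullback.fst p (Spec.map φ)) fun x' => ?_
  obtain ⟨W, hW, hxW, -⟩ := exists_isAffineOpen_mem_and_subset
    (U := ⊤) (x := pullback.fst p (Spec.map φ) x') trivial
  obtain ⟨hP, ⟨e⟩⟩ := SepFld.piece p φ hW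
  refine ⟨W, _, hW, hP, le_rfl, hxW, ?_⟩
  letI := (SepFld.baseHom p W).hom.toAlgebra
  letI := φ.hom.toAlgebra
  letI := ((pullback.fst p (Spec.map φ)).appLE W (pullback.fst p (Spec.map φ) ⁻¹ᵁ W) le_rfl).hom.toAlgebra
  letI : Module A Γ(F, W) := Module.compHom _ (SepFld.baseHom p W).hom
  haveI : IsScalarTower A Γ(X, W) Γ(F, W) := IsScalarTower.of_algebraMap_smul fun _ _ => rfl
  letI : ∀ i, Module A Γ(G i, W) := fun i => Module.compHom _ (SepFld.baseHom p W).hom
  haveI : ∀ i, IsScalarTower A Γ(X, W) Γ(G i, W) := fun i =>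
    IsScalarTower.of_algebraMap_smul fun _ _ => rfl
  refine SepFld.MJI.of_algEquiv _ e.symm
    (SepFld.MJI.baseChange_of_fg (SepFld.secLin u W) (fun i => SepFld.flat_sections_base p (hG i) hW)
      fun S hS => ?_)
  let a : A ⟶ CommRingCat.of S := CommRingCat.ofHom (algebraMap A S)
  let b : CommRingCat.of S ⟶ A' := CommRingCat.ofHom S.val.toRingHom
  have hft : a.hom.FiniteType :=
    RingHom.finiteType_algebraMap.mpr ((Subalgebra.fg_iff_finiteType _).mp hS)
  have hsep := hfg (CommRingCat.of S) a b rfl Subtype.val_injective hft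
  exact SepFld.MJI_of_baseChange_algebra p S hsep hW

end Groth.Agent.S5916
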