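import Groth.Statements.S5917
import Mathlib.Topology.Sheaves.Sheafify
import Mathlib.Topology.Sheaves.SheafOfFunctions
import Mathlib.Topology.Sheaves.Forget
import Mathlib.CategoryTheory.Sites.Equivalence
import Mathlib.CategoryTheory.Sites.DenseSubsite.SheafEquiv
-- import your own Groth.Agent.* helpers here

set_option autoImplicit false
universe u
open CategoryTheory
open EGA43

namespace Groth.Agent.S5917

open TopologicalSpace Opposite Limits

noncomputable section

section Fwd

variable {X₀ X : TopCat.{u}} (f : X₀ ⟶ X)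

theorem opens_map_isEquivalence
    (hb : Function.Bijective (fun U : Opens X => (Opens.map f).obj U)) :
    (Opens.map f).IsEquivalence := by
  have hord : ∀ U V : Opens X, (Opens.map f).obj U ≤ (Opens.map f).obj V → U ≤ V := by
    intro U V h
    have h1 : (Opens.map f).obj (U ⊓ V) = (Opens.map f).obj U :=
      le_antisymm ((Opens.map f).map (homOfLE inf_le_left)).le
        (fun x hx => ⟨hx, h hx⟩)
    exact inf_eq_left.1 (hb.1 h1)
  have : (Opens.map f).Full := ⟨fun {U V} g => ⟨homOfLE (hord U V g.le), Subsingleton.elim _ _⟩⟩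
  have : (Opens.map f).Faithful := ⟨fun _ => Subsingleton.elim _ _⟩
  have : (Opens.map f).EssSurj := ⟨fun W => by
    obtain ⟨U, hU⟩ := hb.2 W
    exact ⟨U, ⟨eqToIso hU⟩⟩⟩
  exact { }

theorem isDenseSubsite
    (hb : Function.Bijective (fun U : Opens X => (Opens.map f).obj U)) :
    (Opens.map f).IsDenseSubsite (Opens.grothendieckTopology X)
      (Opens.grothendieckTopology X₀) := by
  haveI := opens_map_isEquivalence f hb
  let e := (Opens.map f).asEquivalence
  haveI : e.functor.IsCocontinuous (Opens.grothendieckTopology X)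
      (Opens.grothendieckTopology X₀) := by
    refine ⟨fun {U S} hS => ?_⟩
    intro y hy
    let U' : Opens X := sSup {V | ∃ h : V ≤ U, S ((Opens.map f).map (homOfLE h))}
    have hU' : (Opens.map f).obj U' = (Opens.map f).obj U := by
      refine le_antisymm ?_ ?_
      · intro x hx
        obtain ⟨V, ⟨h, -⟩, hxV⟩ := Opens.mem_sSup.1 hx
        exact h hxV
      · intro x hx
        obtain ⟨W, g, hW, hxW⟩ := hS x hx
        obtain ⟨V, hV⟩ := hb.2 W
        simp only at hV
        subst hV
        refine Opens.mem_sSup.2 ⟨V ⊓ U, ⟨inf_le_right, ?_⟩, hxW, hx⟩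
        have := S.downward_closed hW ((Opens.map f).map (homOfLE (inf_le_left : V ⊓ U ≤ V)))
        exact (Subsingleton.elim _ _ : _ = (Opens.map f).map (homOfLE (inf_le_right : V ⊓ U ≤ U)))
          ▸ this
    obtain ⟨V, ⟨h, hV⟩, hyV⟩ := Opens.mem_sSup.1 ((hb.1 hU' : U' = U).ge hy)
    exact ⟨V, homOfLE h, hV, hyV⟩
  haveI : e.inverse.IsCocontinuous (Opens.grothendieckTopology X₀)
      (Opens.grothendieckTopology X) := by
    refine ⟨fun {W S} hS => ?_⟩
    intro y hy
    have hyU : f y ∈ e.inverse.obj W := (e.counitInv.app W).le hy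
    obtain ⟨V, g, hV, hyV⟩ := hS (f y) hyU
    refine ⟨(Opens.map f).obj V, (Opens.map f).map g ≫ e.counit.app W, ?_, hyV⟩
    have h := S.downward_closed hV (e.unitInv.app V)
    show S (e.inverse.map ((Opens.map f).map g ≫ e.counit.app W))
    rw [Subsingleton.elim (e.inverse.map ((Opens.map f).map g ≫ e.counit.app W))
      (e.unitInv.app V ≫ g)]
    exact h
  exact Equivalence.isDenseSubsite_functor_of_isCocontinuous _ _ e

variable (A : Type*) [Category.{u} A] {FA : A → A → Type*} {CA : A → Type u}
variable [∀ X Y, FunLike (FA X Y) (CA X) (CA Y)] [ConcreteCategory.{u} A FA] [HasColimits A]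
variable [HasLimits A] [PreservesLimits (CategoryTheory.forget A)]
variable [PreservesFilteredColimits (CategoryTheory.forget A)]
variable [(CategoryTheory.forget A).ReflectsIsomorphisms]

theorem pullback_isEquivalence
    (hb : Function.Bijective (fun U : Opens X => (Opens.map f).obj U)) :
    (TopCat.Sheaf.pullback A f).IsEquivalence := by
  haveI := isDenseSubsite f hb
  haveI : (TopCat.Sheaf.pushforward A f).IsEquivalence := by
    haveI : ∀ Z, HasLimitsOfShape (StructuredArrow Z (Opens.map f).op) A := fun Z => inferInstance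
    haveI := isDenseSubsite f hb
    exact inferInstanceAs (((Opens.map f).sheafPushforwardContinuous A
      (Opens.grothendieckTopology X) (Opens.grothendieckTopology X₀)).IsEquivalence)
  exact (TopCat.Sheaf.pullbackPushforwardAdjunction A f).isEquivalence_left_of_isEquivalence_right

/-- A test sheaf for an open set `W`: two global sections whose restrictions to `U` agree only if
`U ≤ W`, while there is only one section on an open inside `W`. -/
structure TestSheaf (Y : TopCat.{u}) (W : Opens Y) where
  /-- the sheaf -/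
  G : TopCat.Sheaf A Y
  /-- first section -/
  s : ToType (G.obj.obj (op ⊤))
  /-- second section -/
  t : ToType (G.obj.obj (op ⊤))
  le_of_eq : ∀ (U : Opens Y),
    G.obj.map (homOfLE (le_top : U ≤ ⊤)).op s = G.obj.map (homOfLE (le_top : U ≤ ⊤)).op t → U ≤ W
  subsingleton : ∀ U : Opens Y, U ≤ W → Subsingleton (ToType (G.obj.obj (op U)))

variable {A}

theorem stalk_eq {Y : TopCat.{u}} {W : Opens Y} (T : TestSheaf A Y W) (y : Y) (hy : y ∈ W) :
    Subsingleton (ToType (TopCat.Presheaf.stalk T.G.obj y)) := by
  refine ⟨fun a b => ?_⟩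
  obtain ⟨U, hU, a, rfl⟩ := TopCat.Presheaf.exists_germ_eq T.G.obj a
  obtain ⟨V, hV, b, rfl⟩ := TopCat.Presheaf.exists_germ_eq T.G.obj b
  haveI := T.subsingleton (U ⊓ V ⊓ W) inf_le_right
  exact TopCat.Presheaf.germ_ext T.G.obj (U ⊓ V ⊓ W) ⟨⟨hU, hV⟩, hy⟩
    (homOfLE (inf_le_left.trans inf_le_left)) (homOfLE (inf_le_left.trans inf_le_right))
    (Subsingleton.elim _ _)

theorem bijective_of_isEquivalence (hT : ∀ (Y : TopCat.{u}) (W : Opens Y), Nonempty (TestSheaf A Y W))
    (he : (TopCat.Sheaf.pullback A f).IsEquivalence) :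
    Function.Bijective (fun U : Opens X => (Opens.map f).obj U) := by
  let adj := TopCat.Sheaf.pullbackPushforwardAdjunction A f
  haveI := he
  haveI := adj.isEquivalence_right_of_isEquivalence_left
  constructor
  · suffices ∀ U V : Opens X, U ≤ V → (Opens.map f).obj V ≤ (Opens.map f).obj U → V ≤ U by
      intro U V h
      simp only at h
      have h1 := this (U ⊓ V) U inf_le_left (fun x hx => ⟨hx, h.le hx⟩)
      have h2 := this (U ⊓ V) V inf_le_right (fun x hx => ⟨h.ge hx, hx⟩)
      exact le_antisymm (h1.trans inf_le_right) (h2.trans inf_le_left)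
    intro U V hUV hle
    obtain ⟨T⟩ := hT X U
    haveI := T.subsingleton U le_rfl
    let F' := (TopCat.Sheaf.pullback A f).obj T.G
    let η : T.G.obj ⟶ (Opens.map f).op ⋙ F'.obj := (adj.unit.app T.G).hom
    haveI : IsIso η := (inferInstance :
      IsIso ((TopCat.Sheaf.forget A X).map (adj.unit.app T.G)))
    have hl : (Opens.map f).obj U = (Opens.map f).obj V :=
      le_antisymm ((Opens.map f).map (homOfLE hUV)).le hle
    haveI : IsIso (((Opens.map f).op ⋙ F'.obj).map (homOfLE hUV).op) := by
      have h : (Opens.map f).map (homOfLE hUV) = eqToHom hl := Subsingleton.elim _ _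
      simp only [Functor.comp_map, Functor.op_map, Quiver.Hom.unop_op, h]
      infer_instance
    haveI : IsIso (T.G.obj.map (homOfLE hUV).op) := by
      have := η.naturality (homOfLE hUV).op
      rw [← IsIso.eq_comp_inv] at this
      rw [this]
      infer_instance
    apply T.le_of_eq
    apply (ConcreteCategory.bijective_of_isIso (T.G.obj.map (homOfLE hUV).op)).1
    exact Subsingleton.elim _ _
  · intro W
    obtain ⟨T⟩ := hT X₀ W
    refine ⟨sSup {U | (Opens.map f).obj U ≤ W}, le_antisymm ?_ ?_⟩
    · intro x hx
      obtain ⟨V, hV, hxV⟩ := Opens.mem_sSup.1 hx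
      exact hV hxV
    · intro x hx
      let F' := (TopCat.Sheaf.pushforward A f).obj T.G
      let P := (TopCat.Presheaf.pullback A f).obj F'.obj
      have hi : IsIso ((TopCat.Presheaf.stalkFunctor A x).map
          (CategoryTheory.toSheafify (Opens.grothendieckTopology X₀) P)) :=
        TopCat.Presheaf.stalkFunctor_map_unit_toSheafify_isIso x A P
      let ε : T.G.obj ≅ ((TopCat.Presheaf.pullback A f ⋙ presheafToSheaf _ _).obj F'.obj).obj :=
        (TopCat.Sheaf.forget A X₀).mapIso
          ((asIso (adj.counit.app T.G)).symm ≪≫ (TopCat.Sheaf.pullbackIso A f).app F')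
      let i : TopCat.Presheaf.stalk F'.obj (f x) ≅ TopCat.Presheaf.stalk T.G.obj x :=
        TopCat.Presheaf.stalkPullbackIso A f F'.obj x ≪≫
          (@asIso _ _ _ _ _ hi) ≪≫
            ((TopCat.Presheaf.stalkFunctor A x).mapIso ε).symm
      haveI := stalk_eq T x hx
      have he : TopCat.Presheaf.germ F'.obj ⊤ (f x) trivial T.s = TopCat.Presheaf.germ F'.obj ⊤ (f x) trivial T.t :=
        (ConcreteCategory.bijective_of_isIso i.hom).1 (Subsingleton.elim _ _)
      obtain ⟨U, hxU, a, b, hab⟩ := TopCat.Presheaf.germ_eq F'.obj (f x) (U := ⊤) (V := ⊤) trivial trivial T.s T.t he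
      refine Opens.mem_sSup.2 ⟨U, ?_, hxU⟩
      exact T.le_of_eq ((Opens.map f).obj U) hab

end Fwd

section Test

variable {Y : TopCat.{u}} (W : Opens Y)

open Classical in
/-- the test abelian groups -/
def testType (y : Y) : AddCommGrpCat.{u} :=
  AddCommGrpCat.of (ULift.{u} ({_p : PUnit.{1} // y ∉ W} → ℤ))

/-- the test presheaf of abelian groups -/
def testPsh : TopCat.Presheaf AddCommGrpCat.{u} Y where
  obj U := AddCommGrpCat.of (∀ y : U.unop, testType W y)
  map {_ _} i := AddCommGrpCat.ofHom
    { toFun := fun g y => g (i.unop y)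
      map_zero' := rfl
      map_add' := fun _ _ => rfl }

theorem testPsh_isSheaf : (testPsh W).IsSheaf :=
  (TopCat.Presheaf.isSheaf_iff_isSheaf_comp (CategoryTheory.forget AddCommGrpCat.{u}) _).2
    (TopCat.Presheaf.toTypes_isSheaf Y (fun y => (testType W y : Type u)))

theorem testType_subsingleton {U : Opens Y} (hU : U ≤ W) : Subsingleton (∀ y : U, testType W y) :=
  ⟨fun _ _ => funext fun y => ULift.ext _ _ (funext fun p => absurd (hU y.2) p.2)⟩

theorem testType_le {U : Opens Y}
    (h : (fun y : U => (ULift.up fun _ => 0 : testType W y)) =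
      fun y : U => (ULift.up fun _ => 1 : testType W y)) : U ≤ W := by
  intro y hy
  by_contra hn
  exact zero_ne_one (congr_fun (congr_arg ULift.down (congr_fun h ⟨y, hy⟩)) ⟨PUnit.unit, hn⟩)

def testAb : TestSheaf AddCommGrpCat.{u} Y W where
  G := ⟨testPsh W, testPsh_isSheaf W⟩
  s := fun _ => ULift.up fun _ => 0
  t := fun _ => ULift.up fun _ => 1
  le_of_eq _ h := testType_le W h
  subsingleton _ h := testType_subsingleton W h

def testSet : TestSheaf (Type u) Y W where
  G := ⟨TopCat.presheafToTypes Y (fun y => (testType W y : Type u)),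
    TopCat.Presheaf.toTypes_isSheaf Y _⟩
  s := fun _ => ULift.up fun _ => 0
  t := fun _ => ULift.up fun _ => 1
  le_of_eq _ h := testType_le W h
  subsingleton _ h := testType_subsingleton W h

end Test

end


/-- (a) ⇔ (c): for a continuous map f : X₀ ⟶ X of topological spaces the following are equivalent: U ↦
f⁻¹(U) is a bijection from the open subsets of X onto those of X₀ (that is, f is a
quasi-homeomorphism); the inverse image functor f^* from sheaves of sets on X to sheaves of sets on
X₀ is an equivalence of categories; the inverse image functor f^* from sheaves of abelian groups on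
X to sheaves of abelian groups on X₀ is an equivalence of categories. (Sheaves are taken with values
in sets, resp. abelian groups, of the universe of the two spaces.) -/
theorem result (X₀ X : TopCat.{u}) (f : X₀ ⟶ X) :
    [Function.Bijective (fun U : TopologicalSpace.Opens X => (TopologicalSpace.Opens.map f).obj U),
      (TopCat.Sheaf.pullback (Type u) f).IsEquivalence,
      (TopCat.Sheaf.pullback AddCommGrpCat.{u} f).IsEquivalence].TFAE := by
  tfae_have 1 → 2 := pullback_isEquivalence f (Type u)
  tfae_have 1 → 3 := pullback_isEquivalence f AddCommGrpCat.{u}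
  tfae_have 2 → 1 := bijective_of_isEquivalence f (fun Y W => ⟨testSet W⟩)
  tfae_have 3 → 1 := bijective_of_isEquivalence f (fun Y W => ⟨testAb W⟩)
  tfae_finish

end Groth.Agent.S5917
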