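import Groth.Statements.S5918
import Groth.Agent.Fibres16.FlatFamily.Scheme

set_option autoImplicit false
universe u
open CategoryTheory AlgebraicGeometry
open EGA43 TensorProduct Groth.Agent Groth.Agent.Fibres16.FlatFamily

namespace Groth.Agent.S5918

attribute [local instance] Algebra.TensorProduct.rightAlgebra

open CategoryTheory.Limits in
/-- Let A be an Artinian local ring, f : X ⟶ Spec A locally of finite type, F a coherent O_X-module and
x a point of X. Let (g_i : Y_i ⟶ Spec A) be a family of A-schemes such that an element of A whose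
image in every Γ(Y_i, O_{Y_i}) is zero is itself zero. If, for every i, the pullback of F to X
×_{Spec A} Y_i is flat over Y_i at every point lying over x, then F is f-flat at x. -/
theorem result {A : Type u} [CommRing A]
    [IsArtinianRing A] [IsLocalRing A] {X : Scheme.{u}} (f : X ⟶ Spec (CommRingCat.of A))
    [LocallyOfFiniteType f] (F : X.Modules) (hF : Coh.IsCoh F) (x : X)
    {ι : Type u} (Y : ι → Scheme.{u}) (g : ∀ i, Y i ⟶ Spec (CommRingCat.of A))
    (hg : ∀ a : A, (∀ i, (g i).appTop ((Scheme.ΓSpecIso (CommRingCat.of A)).inv a) = 0) → a = 0)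
    (hflat : ∀ (i : ι) (x' : ↥(pullback f (g i))), pullback.fst f (g i) x' = x →
      FlatMod.IsFlatOverAt (pullback.snd f (g i)) ((Scheme.Modules.pullback (pullback.fst f (g i))).obj F) x') :
    FlatMod.IsFlatOverAt f F x := by
  letI : TopologicalSpace.NoetherianSpace (Spec (CommRingCat.of A)) := inferInstance
  haveI : IsLocallyNoetherian X := LocallyOfFiniteType.isLocallyNoetherian f
  haveI : F.IsQuasicoherent := hF.1
  haveI : SheafOfModules.IsFiniteType.{u} F := hF.2
  let A₀ := Γ(Spec (CommRingCat.of A), ⊤)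
  let εA := (Scheme.ΓSpecIso (CommRingCat.of A)).commRingCatIsoToRingEquiv
  haveI : IsArtinianRing A₀ := Function.Surjective.isArtinianRing (f := εA.symm.toRingHom) εA.symm.surjective
  haveI : Nontrivial A₀ := εA.toEquiv.nontrivial
  haveI : IsLocalRing A₀ := IsLocalRing.of_surjective' εA.symm.toRingHom εA.symm.surjective
  obtain ⟨U, hU, hxU, eU⟩ := exists_isAffineOpen_mem_and_subset (U := f ⁻¹ᵁ ⊤) (x := x) trivial
  let hT := isAffineOpen_top (Spec (CommRingCat.of A))
  letI := (f.appLE ⊤ U eU).hom.toAlgebra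
  letI : Module A₀ Γ(F, U) := Module.compHom _ (f.appLE ⊤ U eU).hom
  haveI : IsScalarTower A₀ Γ(X, U) Γ(F, U) := IsScalarTower.of_algebraMap_smul fun _ _ => rfl
  haveI : IsNoetherianRing Γ(X, U) := IsLocallyNoetherian.component_noetherian ⟨U, hU⟩
  haveI : Module.Finite Γ(X, U) Γ(F, U) := Groth.Agent.QCoh.finite_sections_of_isFiniteType F hU
  refine (FlatOpen.Scheme.isFlatOverAt_iff f hT hU eU x hxU F).2 ?_
  let q := AssSch.Stalk.primeOf hU x hxU
  rw [← flat_localization_iff]
  haveI : IsNoetherianRing (Localization.AtPrime q) :=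
    IsLocalization.isNoetherianRing q.primeCompl (Localization.AtPrime q) inferInstance
  refine flat_of_forall (B := Localization.AtPrime q) _ fun a ha => ?_
  obtain ⟨i, hi⟩ : ∃ i, (g i).appTop a ≠ 0 := by
    by_contra! h
    refine ha (εA.injective ((hg (εA a) fun i => ?_).trans (map_zero εA).symm))
    rw [show (Scheme.ΓSpecIso (CommRingCat.of A)).inv (εA a) = a from εA.symm_apply_apply a]
    exact h i
  obtain ⟨y, hy⟩ : ∃ y : Y i, (Y i).presheaf.germ ⊤ y trivial ((g i).appTop a) ≠ 0 := by
    by_contra! h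
    exact hi (TopCat.Presheaf.section_ext (Y i).sheaf ⊤ _ 0 fun y hy => (h y).trans (map_zero _).symm)
  obtain ⟨W', hW', hyW', eW'⟩ := exists_isAffineOpen_mem_and_subset (U := g i ⁻¹ᵁ ⊤) (x := y) trivial
  letI := ((g i).appLE ⊤ W' eW').hom.toAlgebra
  refine ⟨Γ(Y i, W'), inferInstance, inferInstance, fun h => hy ?_, fun Q _ hQ => ?_⟩
  · rw [← (Y i).presheaf.germ_res_apply (homOfLE le_top) y hyW' ((g i).appTop a)]
    have h' : (Y i).presheaf.map (homOfLE (le_top : W' ≤ ⊤)).op ((g i).appTop a) = 0 := h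
    rw [h', map_zero]
  obtain ⟨φ, hφB, -, hφ, -⟩ := localizeAt (A := A₀) (A' := Γ(Y i, W')) q (Localization.AtPrime q) Γ(F, U)
  obtain ⟨x', hx, hy', hB, -, hflat'⟩ := (exists_piece f F (g i) hT hU hW' eU eW').1 (Q.comap φ)
  refine hφ Q (hflat' (hflat i x' ?_))
  rw [Ideal.comap_comap, hφB, ← Ideal.comap_comap, hQ] at hB
  replace hB := (IsLocalization.AtPrime.under_maximalIdeal (Localization.AtPrime q) q).symm.trans hB
  have := congrArg hU.fromSpec (PrimeSpectrum.ext (x := hU.primeIdealOf ⟨x, hxU⟩) (y := hU.primeIdealOf ⟨_, hx⟩) hB)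
  rw [hU.fromSpec_primeIdealOf, hU.fromSpec_primeIdealOf] at this
  exact this.symm

end Groth.Agent.S5918
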