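import Groth.Statements.S5919
import Groth.Agent.Fibres16.EquidimStalk
import Groth.Agent.FittLib.Sheaf

set_option autoImplicit false
open CategoryTheory AlgebraicGeometry
universe u
open EGA43

namespace Groth.Agent.S5919

/-- For k ≥ 1: let f : X ⟶ Y be a proper morphism of finite presentation and F a finitely presented
O_X-module which is f-flat; for y in Y write F_y for the restriction of F to the fibre X_y. Let k ≥
1 be a natural number. Then the set of points y of Y such that, at every point x of X_y, the stalk
of F_y at x is an equidimensional module over the local ring of X_y at x (every minimal prime of its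
support has quotient of dimension equal to the dimension of the module) and satisfies Serre's
condition (S_k) over it, is open in Y. (The published statement allows every integer k. For k ≤ 0
condition (S_k) is empty and the set is the locus of fibres whose module is equidimensional at every
point, which need not be open: over a discrete valuation ring take the flat projective family whose
general fibre is a plane together with a line meeting it in one point and whose special fibre is
supported on that plane, with an embedded component through the point; every stalk of the special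
fibre then has irreducible support, so the closed point of the base is in the set, while the generic
point is not. So k ≥ 1 is assumed here.) -/
theorem result {X Y : Scheme.{u}} (f : X ⟶ Y) [IsProper f]
    [LocallyOfFinitePresentation f] (F : X.Modules) (hF : CohB1.IsFP F) (hflat : FlatMod.IsFlatOver f F)
    (k : ℕ) (hk : 1 ≤ k) :
    IsOpen {y : Y | ∀ x : ↥(f.fiber y),
      EGA4.IsEquidimModule ((f.fiber y).presheaf.stalk x) (((Scheme.Modules.pullback (f.fiberι y)).obj F).presheaf.stalk x) ∧
        LocCoh.HasSk k ((f.fiber y).presheaf.stalk x) (((Scheme.Modules.pullback (f.fiberι y)).obj F).presheaf.stalk x)} := by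
  haveI := Fibres16.SuppDims.isQuasicoherent F hF
  haveI : SheafOfModules.IsFinitePresentation.{u} (R := X.ringCatSheaf) F := hF
  have hft : CohB1.IsFT F := (inferInstance : SheafOfModules.IsFiniteType (R := X.ringCatSheaf) F)
  haveI : F.IsFiniteType := hft
  let P : ∀ y : Y, f.fiber y → Prop := fun y x =>
    LocCoh.HasSk k ((f.fiber y).presheaf.stalk x) (((Scheme.Modules.pullback (f.fiberι y)).obj F).presheaf.stalk x) ∧
      (∀ z ∈ AssSch.Ass ((Scheme.Modules.pullback (f.fiberι y)).obj F), x ∈ closure {z} →
        ∀ z' ∈ AssSch.Ass ((Scheme.Modules.pullback (f.fiberι y)).obj F), z ∈ closure {z'} → z' = z) ∧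
      ∃ n, Fibres16.SuppDims.AssDimsAt f F {n} y x
  have hP : IsOpen {x : X | P (f x) (f.asFiber x)} := by
    refine (FibCodepth.isOpen_hasSk f F hF hflat k).inter ((FibCodepth.isOpen_noEmb f F hF hflat).inter ?_)
    show IsOpen {x : X | ∃ n, Fibres16.SuppDims.AssDimsAt f F {n} (f x) (f.asFiber x)}
    rw [Set.setOf_exists]
    exact isOpen_iUnion fun n => FibCodepth.isOpen_assDims f F hF hflat {n}
  convert Fibres16.Loci.isOpen_forall_fiber f P hP using 1
  ext y
  letI : (f.fiber y).Over (Spec (CommRingCat.of (Y.residueField y))) := ⟨f.fiberToSpecResidueField y⟩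
  haveI : LocallyOfFiniteType (f.fiber y ↘ Spec (CommRingCat.of (Y.residueField y))) :=
    inferInstanceAs (LocallyOfFiniteType (Limits.pullback.snd f (Y.fromSpecResidueField y)))
  haveI := Fibres16.SuppDims.isLocallyNoetherian_fiber f y
  let M := Fibres16.SuppDims.fibMod f F y
  haveI : M.IsQuasicoherent := QCoh.isQuasicoherent_pullback _ F
  haveI : M.IsFiniteType := FittLib.isFiniteType_pullback F (f.fiberι y)
  constructor
  · intro H x
    have hmem : ∀ a ∈ AssSch.Ass M, a ∈ Fibres16.SuppDims.maxPts {z : f.fiber y | Nontrivial (M.presheaf.stalk z)} := fun a ha =>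
      ⟨AssSch.Basic.nontrivial_of_mem_ass _ ha, fun w hw hwa => Fibres16.EquidimStalk.eq_of_hasSk M hk ha (H a).2 hw hwa⟩
    refine ⟨(H x).2, fun z hz _ z' hz' hzz' => (hmem z hz).2 z' (hmem z' hz').1 (specializes_iff_mem_closure.2 hzz'), ?_⟩
    by_cases hex : ∃ w ∈ AssSch.Ass M, w ⤳ x
    · obtain ⟨w, hw, hwx⟩ := hex
      refine ⟨VarDim.dimPt (Y.residueField y) (f.fiber y) w, fun z hz hzx => ⟨_, Finset.mem_singleton_self _, ?_⟩⟩
      rw [Fibres16.EquidimStalk.topDim_closure (Y.residueField y) z, Fibres16.EquidimStalk.dimPt_eq_of_isEquidimModule M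
        (Y.residueField y) x (H x).1 (hmem z hz) (specializes_iff_mem_closure.2 hzx) (hmem w hw) hwx]
    · exact ⟨0, fun z hz hzx => absurd ⟨z, hz, specializes_iff_mem_closure.2 hzx⟩ hex⟩
  · intro H x
    obtain ⟨hsk, -, n, hn⟩ := H x
    refine ⟨Fibres16.EquidimStalk.isEquidimModule_of_forall M (Y.residueField y) x n fun w hw hwx => ?_, hsk⟩
    obtain ⟨m, hm, hdim⟩ := hn w (Fibres16.SuppDims.mem_ass_of_mem_maxPts f hF y hw) hwx.mem_closure
    rw [Fibres16.EquidimStalk.topDim_closure (Y.residueField y) w, Nat.cast_inj] at hdim
    rw [hdim, Finset.mem_singleton.1 hm]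

end Groth.Agent.S5919
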