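import Groth.Statements.S5923
import Groth.Agent.Fibres16.SmoothOpen
import Groth.Agent.Fibres16.GeomNormal


set_option autoImplicit false
open CategoryTheory AlgebraicGeometry
universe u
open EGA43

namespace Groth.Agent.S5923

/-- Let f : X ⟶ Y be a morphism locally of finite presentation. The set of points x of X such that f is
flat at x and the fibre of f through x is geometrically normal at x over the residue field of f x —
for every finite field extension K of that residue field and every point x' over x of the base
change of the fibre to K, the local ring at x' is an integrally closed domain — is open in X. In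
particular, when f is moreover flat, the set of x at which the fibre through x is geometrically
normal is open. -/
theorem result {X Y : Scheme.{u}} (f : X ⟶ Y) [LocallyOfFinitePresentation f] :
    IsOpen {x : X | (f.stalkMap x).hom.Flat ∧
      ∀ (K : Type u) [Field K] [Algebra (IsLocalRing.ResidueField (Y.presheaf.stalk (f.base x))) K],
        Module.Finite (IsLocalRing.ResidueField (Y.presheaf.stalk (f.base x))) K →
        ∀ x' : ↥(FBase.bc (f.fiberToSpecResidueField (f.base x)) K),
          (FBase.bcπ (f.fiberToSpecResidueField (f.base x)) K).base x' = f.asFiber x →
          IsDomain ((FBase.bc (f.fiberToSpecResidueField (f.base x)) K).presheaf.stalk x') ∧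
            IsIntegrallyClosed ((FBase.bc (f.fiberToSpecResidueField (f.base x)) K).presheaf.stalk x')} := by
  have hft : ∀ y, LocallyOfFiniteType (f.fiberToSpecResidueField y) := fun y =>
    inferInstanceAs (LocallyOfFiniteType (Limits.pullback.snd f (Y.fromSpecResidueField y)))
  have hfp : ∀ y, LocallyOfFinitePresentation (f.fiberToSpecResidueField y) := fun y =>
    inferInstanceAs (LocallyOfFinitePresentation (Limits.pullback.snd f (Y.fromSpecResidueField y)))
  convert Fibres16.SmoothOpen.isOpen_flat_equidim_sk_geomRk f 2 one_le_two 1 using 1
  ext x
  exact and_congr_right fun _ => @Fibres16.GeomNormal.geomNormal_iff _ _ _ _ (hft _) (hfp _) (f.asFiber x)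

end Groth.Agent.S5923
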