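import Groth.Statements.S5924
import Groth.Agent.GUOpen.Fibre
import Groth.Agent.VarDim.Scheme
-- import your own Groth.Agent.* helpers here

set_option autoImplicit false
open CategoryTheory AlgebraicGeometry
universe u
open EGA43

namespace Groth.Agent.S5924

open AlgebraicGeometry CategoryTheory in
theorem mem_basicOpen_iff {X : Scheme.{u}} {U : X.Opens} (hU : IsAffineOpen U) {x : X} (hx : x ∈ U) {g : Γ(X, U)} :
    x ∈ X.basicOpen g ↔ g ∉ (hU.primeIdealOf ⟨x, hx⟩).asIdeal := by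
  have h := hU.fromSpec_primeIdealOf ⟨x, hx⟩
  have h2 : (hU.primeIdealOf ⟨x, hx⟩) ∈ hU.fromSpec ⁻¹ᵁ X.basicOpen g ↔ x ∈ X.basicOpen g := by
    show hU.fromSpec _ ∈ X.basicOpen g ↔ _
    rw [h]
  rw [← h2, hU.fromSpec_preimage_basicOpen]
  rfl

/-- Let Y be an irreducible locally Noetherian scheme, f : X ⟶ Y a morphism locally of finite type which
is equidimensional at the point x, and suppose that x is not a maximal point of its fibre f⁻¹(f x),
i.e. some point of the fibre other than x specializes to x. Then there exist an affine open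
neighbourhood U of x and a section g of O_X over U such that g vanishes at x (x is not in the basic
open set of g) while every maximal point of f⁻¹(f x) lying in U is in the basic open set of g. -/
theorem result {X Y : Scheme.{u}} [IrreducibleSpace Y]
    [IsLocallyNoetherian Y] (f : X ⟶ Y) [LocallyOfFiniteType f] (x : X) (hf : EGA43.IsEquidimAt f x)
    (hx : ∃ x' : X, f.base x' = f.base x ∧ x' ≠ x ∧ x ∈ closure ({x'} : Set X)) :
    ∃ U : X.Opens, IsAffineOpen U ∧ x ∈ U ∧ ∃ g : Γ(X, U), x ∉ X.basicOpen g ∧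
      ∀ z : X, f.base z = f.base x → (∀ z' : X, f.base z' = f.base x → z ∈ closure ({z'} : Set X) → z' = z) →
        z ∈ U → z ∈ X.basicOpen g := by
  obtain ⟨x₁, hfx₁, hne, hx₁⟩ := hx
  obtain ⟨U, hU, hxU, -⟩ := exists_isAffineOpen_mem_and_subset (x := x) (U := (⊤ : X.Opens)) trivial
  obtain ⟨t, ht, htfin⟩ : ∃ t : Set X, (∀ z, f.base z = f.base x →
      (∀ z' : X, f.base z' = f.base x → z ∈ closure ({z'} : Set X) → z' = z) → z ∈ U → z ∈ t) ∧ t.Finite := by
    obtain ⟨M, hM, hMmax, hMgen⟩ := Groth.Agent.GUOpen.exists_finite_max f U hU.isCompact (f.base x)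
    refine ⟨M, fun z h1 h2 h3 => ?_, hM⟩
    obtain ⟨c, hc, hcz⟩ := hMgen z h3 h1
    exact h2 c (hMmax c hc).2.1 (specializes_iff_mem_closure.1 hcz) ▸ hc
  let P := (hU.primeIdealOf ⟨x, hxU⟩).asIdeal
  let bad : Set X := {z ∈ t | z ∈ U ∧ ¬ x ⤳ z}
  have hbad : bad.Finite := htfin.subset fun z hz => hz.1
  classical
  let pr : X → Ideal Γ(X, U) := fun z => if hz : z ∈ U then (hU.primeIdealOf ⟨z, hz⟩).asIdeal else ⊥
  have hnot : ¬ (P : Set Γ(X, U)) ⊆ ⋃ z ∈ (hbad.toFinset : Set X), (pr z : Set Γ(X, U)) := by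
    rw [Ideal.subset_union_prime (R := Γ(X, U)) x x (fun z hz _ _ => ?_)]
    · rintro ⟨z, hz, hle⟩
      obtain ⟨-, hzU, hxz⟩ := hbad.mem_toFinset.1 hz
      rw [show pr z = (hU.primeIdealOf ⟨z, hzU⟩).asIdeal from dif_pos hzU] at hle
      exact hxz ((Groth.Agent.VarDim.primeIdealOf_le_iff hU x z hxU hzU).mp hle)
    · obtain ⟨-, hzU, -⟩ := hbad.mem_toFinset.1 hz
      rw [show pr z = (hU.primeIdealOf ⟨z, hzU⟩).asIdeal from dif_pos hzU]
      infer_instance
  obtain ⟨g, hgP, hg⟩ := Set.not_subset.1 hnot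
  refine ⟨U, hU, hxU, g, ?_, fun z hfz hzmax hzU => ?_⟩
  · rw [Groth.Agent.S5924.mem_basicOpen_iff hU hxU]
    exact not_not.2 hgP
  · have hxz : ¬ x ⤳ z := fun hxz => by
      have h1 : x = z := hzmax x rfl (specializes_iff_mem_closure.1 hxz)
      subst h1
      exact hne (hzmax x₁ hfx₁ hx₁)
    rw [Groth.Agent.S5924.mem_basicOpen_iff hU hzU]
    intro hgz
    refine hg (Set.mem_iUnion₂.2 ⟨z, hbad.mem_toFinset.2 ⟨ht z hfz hzmax hzU, hzU, hxz⟩, ?_⟩)
    rw [show pr z = (hU.primeIdealOf ⟨z, hzU⟩).asIdeal from dif_pos hzU]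
    exact hgz

end Groth.Agent.S5924
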