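import Groth.Statements.S5925
import Groth.Agent.FibSemi.Equidim

set_option autoImplicit false
open CategoryTheory AlgebraicGeometry
universe u
open EGA43

namespace Groth.Agent.S5925

/-- Let Y be an irreducible locally Noetherian scheme, f : X ⟶ Y a morphism locally of finite type which
is equidimensional at the point x, y = f x and e = dim_x(f⁻¹(y)). Let g be a global section of O_X
vanishing at x whose zero set X' contains no maximal point of f⁻¹(y). Then X', with its reduced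
closed subscheme structure, is equidimensional over Y at x; dim_x(X' ∩ f⁻¹(y)) = e − 1; and every
irreducible component of X' containing x has codimension 1 in X, i.e. the local ring of X at its
generic point has Krull dimension 1. (Stated for a global section; the published statement takes g
on an affine open neighbourhood of x, to which this applies after restriction, and its codimension
assertion codim(X', X) = 1 is read for the components of X' through x: a component of the zero set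
not passing through x can be a whole irreducible component of X disjoint from the fibre, of
codimension 0.) -/
theorem result {X Y : Scheme.{u}} [IrreducibleSpace Y]
    [IsLocallyNoetherian Y] (f : X ⟶ Y) [LocallyOfFiniteType f] (x : X) (hf : EGA43.IsEquidimAt f x)
    (g : Γ(X, ⊤)) (hgx : x ∈ X.zeroLocus ({g} : Set Γ(X, ⊤)))
    (hmax : ∀ z : X, f.base z = f.base x → (∀ z' : X, f.base z' = f.base x → z ∈ closure ({z'} : Set X) → z' = z) →
      z ∉ X.zeroLocus ({g} : Set Γ(X, ⊤))) :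
    (∀ w : ↥(Scheme.IdealSheafData.vanishingIdeal ⟨X.zeroLocus ({g} : Set Γ(X, ⊤)), X.zeroLocus_isClosed _⟩).subscheme,
        (Scheme.IdealSheafData.vanishingIdeal ⟨X.zeroLocus ({g} : Set Γ(X, ⊤)), X.zeroLocus_isClosed _⟩).subschemeι.base w = x →
        EGA43.IsEquidimAt ((Scheme.IdealSheafData.vanishingIdeal ⟨X.zeroLocus ({g} : Set Γ(X, ⊤)), X.zeroLocus_isClosed _⟩).subschemeι ≫ f) w) ∧
      FlatMor.localDim ↥(X.zeroLocus ({g} : Set Γ(X, ⊤)) ∩ f.base ⁻¹' {f.base x}) ⟨x, ⟨hgx, rfl⟩⟩ + 1 = FlatMor.fibreDimAt f x ∧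
      ∀ Z ∈ irreducibleComponents ↥(X.zeroLocus ({g} : Set Γ(X, ⊤))), (⟨x, hgx⟩ : ↥(X.zeroLocus ({g} : Set Γ(X, ⊤)))) ∈ Z →
        ∀ ξ : ↥(X.zeroLocus ({g} : Set Γ(X, ⊤))), closure ({ξ} : Set ↥(X.zeroLocus ({g} : Set Γ(X, ⊤)))) = Z →
          ringKrullDim (X.presheaf.stalk (ξ : X)) = 1 := by
  obtain ⟨e, U, hxU, hgen, hM⟩ := Groth.Agent.FibSemi.facts_of_isEquidimAt f hf
  have hfde : FlatMor.fibreDimAt f x = e := Groth.Agent.FibSemi.fibreDimAt_of_facts f hM hxU
  set Zc : TopologicalSpace.Closeds X := ⟨X.zeroLocus ({g} : Set Γ(X, ⊤)), X.zeroLocus_isClosed _⟩ with hZc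
  let ι := (Scheme.IdealSheafData.vanishingIdeal Zc).subschemeι
  let G := ι ≫ f
  haveI : LocallyOfFiniteType G := inferInstanceAs (LocallyOfFiniteType (ι ≫ f))
  have hrange : Set.range ι = X.zeroLocus ({g} : Set Γ(X, ⊤)) := by
    show Set.range (Scheme.IdealSheafData.vanishingIdeal Zc).subschemeι = _
    rw [Scheme.IdealSheafData.range_subschemeι, Scheme.IdealSheafData.coe_support_vanishingIdeal]
    rfl
  have hιle : ∀ a b, ι a ≤ ι b ↔ a ≤ b := fun a b => ι.isEmbedding.specializes_iff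
  obtain ⟨w₀, hw₀⟩ : x ∈ Set.range ι := by rw [hrange]; exact hgx
  have hclosed : ∀ a b : X, a ∈ X.zeroLocus ({g} : Set Γ(X, ⊤)) → a ⤳ b → b ∈ X.zeroLocus ({g} : Set Γ(X, ⊤)) :=
    fun a b ha hab => hab.mem_closed (X.zeroLocus_isClosed _) ha
  have hGw : G w₀ = f x := congrArg f hw₀
  -- specializations of a point of the subscheme are the same in `X`
  have hspecs : ∀ a, Order.krullDim {z | G z = G a ∧ a ⤳ z} = Order.krullDim {z : X | f z = f (ι a) ∧ ι a ⤳ z} := by
    intro a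
    refine Groth.Agent.FibSemi.krullDim_eq_of_embedding ι hιle ι.isEmbedding.injective _ _ fun z => ?_
    constructor
    · rintro ⟨h1, h2⟩
      obtain ⟨z', rfl⟩ : z ∈ Set.range ι := by
        rw [hrange]; exact hclosed _ _ (hrange ▸ ⟨a, rfl⟩) h2
      exact ⟨z', ⟨h1, ι.isEmbedding.specializes_iff.mp h2⟩, rfl⟩
    · rintro ⟨z', ⟨hz1, hz2⟩, rfl⟩
      exact ⟨hz1, Specializes.map hz2 ι.continuous⟩
  obtain ⟨c, hcw, hGc, -, -, -, D, -, -, hGD, hcD, -⟩ := Groth.Agent.FibSemi.exists_max_fibre G w₀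
  rw [hspecs] at hcD
  have hιcy : f (ι c) = f x := hGc.trans hGw
  -- `D + 1 ≤ e`
  have hDe : D + 1 ≤ e := by
    obtain ⟨c', hc'c, hfc', hc'max, -, -, -, -, -, -, -, -⟩ := Groth.Agent.FibSemi.exists_max_fibre f (ι c)
    have hc'U : c' ∈ U := (hc'c.trans (hw₀ ▸ hcw.map ι.continuous : ι c ⤳ x)).mem_open U.isOpen hxU
    have hfc'y : f c' = f x := hfc'.trans hιcy
    have hmax' : ∀ z, f z = f x → c' ∈ closure {z} → z = c' := fun z hz hzc =>
      hc'max z (hz.trans hιcy.symm) (specializes_iff_mem_closure.mpr hzc)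
    have hne : c' ≠ ι c := fun h => hmax c' hfc'y (fun z hz hzc => hmax' z hz hzc) (by rw [h, ← hrange]; exact ⟨c, rfl⟩)
    have he := hM c' hc'U fun z hz hzc => hmax' z (hz.trans hfc'y) hzc.mem_closure
    obtain ⟨l, hl⟩ := Order.le_krullDim_iff.mp (le_of_eq hcD.symm : ((D : ℕ∞) : WithBot ℕ∞) ≤ _)
    have hmap : StrictMono (fun z : {z : X | f z = f (ι c) ∧ ι c ⤳ z} =>
        (⟨z.1, z.2.1.trans hfc'.symm, hc'c.trans z.2.2⟩ : {z : X | f z = f c' ∧ c' ⤳ z})) := fun _ _ h => h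
    let l₁ := (l.map _ hmap).snoc ⟨c', rfl, specializes_rfl⟩
      ⟨hc'c.trans (l.last).2.2, fun h => hne (hc'c.antisymm (Specializes.trans (l.last).2.2 h)).eq⟩
    have h3 := (Order.le_krullDim_iff.mpr ⟨l₁, rfl⟩).trans (le_of_eq he)
    have h4 : l₁.length = D + 1 := by rw [← hl]; rfl
    rw [h4] at h3
    exact_mod_cast h3
  -- maximal points of the zero locus
  have key : ∀ ξ, (∀ z, z ⤳ ξ → z = ξ) → ι ξ ∈ U → FlatMor.fibreDimAt G ξ ≤ D →
      Order.krullDim {z : X | z ⤳ ι ξ} = (1 : ℕ) ∧ f (ι ξ) = genericPoint Y ∧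
        ∃ d : ℕ, Order.krullDim {z | G z = G ξ ∧ ξ ⤳ z} = d ∧ d + 1 = e ∧ d ≤ D := by
    intro ξ hξmax hξU hξfd
    obtain ⟨k, d, hk, hd, hfd⟩ := Groth.Agent.FibSemi.fibreDimAt_eq_add G ξ
    have hdD : d ≤ D := by
      rw [hfd] at hξfd
      have : k + d ≤ D := by exact_mod_cast hξfd
      omega
    have hd' := (hspecs ξ).symm.trans hd
    have hcod : Order.krullDim {z : X | z ⤳ ι ξ} ≤ (1 : ℕ) := by
      obtain ⟨W, hW, hξW, -⟩ := exists_isAffineOpen_mem_and_subset (U := ⊤) (x := ι ξ) trivial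
      obtain ⟨P, hP⟩ := Groth.Agent.DimSpec.exists_fromSpec hW hξW
      obtain ⟨V, hV, hyV, -⟩ := exists_isAffineOpen_mem_and_subset (U := ⊤) (x := f (ι ξ)) trivial
      haveI : IsLocallyNoetherian X := LocallyOfFiniteType.isLocallyNoetherian f
      haveI : IsNoetherianRing Γ(X, W) := IsLocallyNoetherian.component_noetherian ⟨W, hW⟩
      haveI := P.isPrime
      let gW : Γ(X, W) := X.presheaf.map (homOfLE le_top).op g
      have hiff : ∀ p : PrimeSpectrum Γ(X, W),
          hW.fromSpec p ∈ X.zeroLocus ({g} : Set Γ(X, ⊤)) ↔ gW ∈ p.asIdeal := fun p => by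
        have hpW : hW.fromSpec p ∈ W := by
          have : hW.fromSpec p ∈ Set.range hW.fromSpec := ⟨p, rfl⟩
          rwa [hW.range_fromSpec] at this
        rw [Scheme.mem_zeroLocus_iff]
        simp only [Set.mem_singleton_iff, forall_eq]
        rw [← not_iff_not, not_not, ← Groth.Agent.DimSpec.fromSpec_mem_basicOpen hW p gW]
        show _ ↔ hW.fromSpec p ∈ X.basicOpen (X.presheaf.map (homOfLE le_top).op g)
        rw [Scheme.basicOpen_res]
        exact ⟨fun h => ⟨hpW, h⟩, fun h => h.2⟩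
      have hmem : gW ∈ P.asIdeal := (hiff P).mp (by rw [hP, ← hrange]; exact ⟨ξ, rfl⟩)
      have hmin : P.asIdeal ∈ (Ideal.span {gW}).minimalPrimes := by
        refine ⟨⟨inferInstance, by simpa [Ideal.span_le] using hmem⟩, fun Q hQ hQP => ?_⟩
        have hspec : hW.fromSpec ⟨Q, hQ.1⟩ ⤳ ι ξ := hP ▸
          ((PrimeSpectrum.le_iff_specializes _ P).mp hQP).map hW.fromSpec.continuous
        obtain ⟨z', hz'⟩ : hW.fromSpec ⟨Q, hQ.1⟩ ∈ Set.range ι := by
          rw [hrange]; exact (hiff _).mpr (hQ.2 (Ideal.subset_span rfl))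
        have := hξmax z' (ι.isEmbedding.specializes_iff.mp (hz'.symm ▸ hspec))
        rw [this, ← hP] at hz'
        exact (congrArg PrimeSpectrum.asIdeal (hW.fromSpec.isOpenEmbedding.injective hz')).le
      have hht := Ideal.height_le_one_of_isPrincipal_of_mem_minimalPrimes _ _ hmin
      rw [← hP]
      refine iSup_le fun l => ?_
      have hlW : ∀ i, (l i).1 ∈ W := fun i => ((l i).2).mem_open W.isOpen (by rw [hP]; exact hξW)
      choose p hp using fun i => Groth.Agent.DimSpec.exists_fromSpec hW (hlW i)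
      have hle_iff : ∀ a b : PrimeSpectrum Γ(X, W), a ≤ b ↔ hW.fromSpec a ⤳ hW.fromSpec b := fun a b =>
        (PrimeSpectrum.le_iff_specializes a b).trans hW.fromSpec.isOpenEmbedding.isEmbedding.specializes_iff.symm
      have hstr : StrictMono (fun i : Fin (l.length + 1) => p i.rev) := fun i j hij => by
        have h0 := l.strictMono (Fin.rev_lt_rev.mpr hij)
        refine lt_of_le_not_ge ((hle_iff _ _).mpr (by rw [hp, hp]; exact h0.le)) fun h => ?_
        exact h0.not_ge (show Specializes _ _ by rw [← hp, ← hp]; exact (hle_iff _ _).mp h)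
      have := Order.length_le_height (p := LTSeries.mk l.length _ hstr) (x := P)
        ((hle_iff _ P).mpr (by rw [show (LTSeries.mk l.length _ hstr).last = p (Fin.rev (Fin.last _)) from rfl, hp]; exact (l _).2))
      rw [← PrimeSpectrum.height_eq_orderHeight] at this
      exact WithBot.coe_le_coe.mpr (this.trans hht)
    obtain ⟨h1, h2, h3⟩ := Groth.Agent.FibSemi.codim_core f hgen hM hξU 1 d hd' hcod (by omega)
    exact ⟨h1, h2, d, hd, h3, hdD⟩
  -- `e = D + 1`
  obtain ⟨ξ₀, hξ₀w, hξ₀max⟩ := Groth.Agent.FibSemi.exists_max_specializes w₀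
  have hnhd : IsOpen {z | FlatMor.fibreDimAt G z ≤ D} := Groth.Agent.FlatMisc.FibreDimScheme.isOpen_fibreDimAt_le G D
  have hwD : FlatMor.fibreDimAt G w₀ ≤ D := le_of_eq hGD
  have hιU : ∀ z, z ⤳ w₀ → ι z ∈ U := fun z hz => (hw₀ ▸ hz.map ι.continuous : ι z ⤳ x).mem_open U.isOpen hxU
  obtain ⟨-, -, d₀, -, hd₀, hd₀D⟩ := key ξ₀ hξ₀max (hιU _ hξ₀w) (hξ₀w.mem_open hnhd hwD)
  have heD : D + 1 = e := by omega
  refine ⟨fun w hw => ?_, ?_, fun Z hZ hxZ ξ hξ => ?_⟩
  · obtain rfl : w = w₀ := ι.isEmbedding.injective (hw.trans hw₀.symm)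
    refine Groth.Agent.FibSemi.isEquidimAt_of G w (⟨_, hnhd⟩ ⊓ ι ⁻¹ᵁ U) ⟨hwD, hιU w specializes_rfl⟩ D
      (fun z hz hzmax => ?_) fun z hz => hz.1
    obtain ⟨-, h2, d, hd, hde, -⟩ := key z hzmax hz.2 hz.1
    exact ⟨h2, hd.trans (by rw [show d = D by omega])⟩
  · have hD : FlatMor.localDim ↥(X.zeroLocus ({g} : Set Γ(X, ⊤)) ∩ f.base ⁻¹' {f.base x}) ⟨x, ⟨hgx, rfl⟩⟩ =
        FlatMor.fibreDimAt G w₀ := by
      rw [Groth.Agent.FibSemi.fibreDimAt_eq]
      let φ : G ⁻¹' {G w₀} → ↥(X.zeroLocus ({g} : Set Γ(X, ⊤)) ∩ f.base ⁻¹' {f.base x}) := fun z =>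
        ⟨ι z.1, hrange ▸ ⟨z.1, rfl⟩, (show f (ι z.1) = G w₀ from z.2).trans hGw⟩
      have hφi : Topology.IsInducing φ :=
        Topology.IsInducing.of_comp (by fun_prop) continuous_subtype_val
          (ι.isEmbedding.isInducing.comp Topology.IsInducing.subtypeVal)
      have hφb : Function.Bijective φ := by
        refine ⟨fun a b h => Subtype.ext (ι.isEmbedding.injective (congrArg Subtype.val h :)), ?_⟩
        rintro ⟨z, hz, hfz⟩
        obtain ⟨z', rfl⟩ : z ∈ Set.range ι := by rw [hrange]; exact hz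
        exact ⟨⟨z', (show f (ι z') = f x from hfz).trans hGw.symm⟩, rfl⟩
      let e₁ := (Equiv.ofBijective φ hφb).toHomeomorphOfIsInducing hφi
      have he₁ : e₁ ⟨w₀, rfl⟩ = ⟨x, ⟨hgx, rfl⟩⟩ := Subtype.ext hw₀
      refine le_antisymm ?_ ?_
      · rw [← he₁]
        exact Groth.Agent.FibSemi.localDim_homeo e₁ _
      · have h := Groth.Agent.FibSemi.localDim_homeo e₁.symm (e₁ ⟨w₀, rfl⟩)
        rw [e₁.symm_apply_apply, he₁] at h
        exact h
    rw [hD, hGD, hfde]
    exact_mod_cast heD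
  · have hgen' : IsGenericPoint ξ Z := hξ
    obtain ⟨ξ', hξ'⟩ : (ξ : X) ∈ Set.range ι := by rw [hrange]; exact ξ.2
    have hξmax : ∀ z, z ⤳ ξ' → z = ξ' := fun z hz => by
      let z' : ↥(X.zeroLocus ({g} : Set Γ(X, ⊤))) := ⟨ι z, hrange ▸ ⟨z, rfl⟩⟩
      have h1 : z' ⤳ ξ := (subtype_specializes_iff _ _).mpr (hξ' ▸ hz.map ι.continuous)
      have h2 := congrArg Subtype.val (Groth.Agent.QSect.max_of_component hZ hgen' z' h1)
      exact ι.isEmbedding.injective ((show ι z = (ξ : X) from h2).trans hξ'.symm)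
    have hξw : ξ' ⤳ w₀ := ι.isEmbedding.specializes_iff.mp (by
      rw [hξ', hw₀]
      exact (subtype_specializes_iff _ _).mp (hgen'.specializes hxZ))
    obtain ⟨h1, -, -⟩ := key ξ' hξmax (hιU _ hξw) (hξw.mem_open hnhd hwD)
    rw [Groth.Agent.FibSemi.ringKrullDim_stalk_eq, ← hξ', h1]
    rfl

end Groth.Agent.S5925
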