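import Groth.Statements.S5927
import Groth.Agent.SecDim.Alpha
import Groth.Agent.SecDim.Near
-- import your own Groth.Agent.* helpers here

set_option autoImplicit false
open CategoryTheory AlgebraicGeometry
universe u
open EGA43

namespace Groth.Agent.S5927

/-- Let Y be a locally Noetherian scheme, f : X ⟶ Y a morphism locally of finite type with a section g :
Y ⟶ X, X_y^0 the connected component of f⁻¹(y) containing g y, every X_y^0 geometrically irreducible
over κ(y), and y₀ a point of Y such that f is universally open at the generic point of X_{y₀}^0.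
Suppose moreover that either (α) the fibre f⁻¹(y₀) is geometrically reduced at g y₀, or (β) dim
f⁻¹(y') = dim X_{y'}^0 for the generic point y' of every irreducible component of Y containing y₀.
Then y ↦ dim X_y^0 is constant on a neighbourhood of y₀. -/
theorem result {X Y : Scheme.{u}} [IsLocallyNoetherian Y] (f : X ⟶ Y)
    [LocallyOfFiniteType f] (g : Y ⟶ X) (hg : g ≫ f = 𝟙 Y)
    (hirr : ∀ y : Y, (∀ (K : Type u) [Field K] [Algebra (IsLocalRing.ResidueField (Y.presheaf.stalk y)) K],
        IsIrreducible ((FBase.bcπ (f.fiberToSpecResidueField y) K ≫ f.fiberι y).base ⁻¹' connectedComponentIn (f.base ⁻¹' {y}) (g.base y))))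
    (y₀ : Y) (hopen : ∀ ξ ∈ connectedComponentIn (f.base ⁻¹' {y₀}) (g.base y₀), connectedComponentIn (f.base ⁻¹' {y₀}) (g.base y₀) ⊆ closure {ξ} → EGA43.IsUnivOpenAt f ξ)
    (hαβ : FBase.IsGeomReducedAt (f.fiberToSpecResidueField (f.base (g.base y₀))) (f.asFiber (g.base y₀)) ∨
      (∀ y' : Y, y₀ ∈ closure {y'} → closure {y'} ∈ irreducibleComponents (Y : Type u) →
        topologicalKrullDim ↥(f.fiber y') = topologicalKrullDim ↥(connectedComponentIn (f.base ⁻¹' {y'}) (g.base y')))) :
    (∃ V ∈ nhds y₀, ∀ z ∈ V, topologicalKrullDim ↥(connectedComponentIn (f.base ⁻¹' {z}) (g.base z)) = topologicalKrullDim ↥(connectedComponentIn (f.base ⁻¹' {y₀}) (g.base y₀))) := by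
  have hgy : ∀ y, f (g y) = y := fun y => by rw [← Scheme.Hom.comp_apply, hg]; rfl
  have hC := fun y => SecDim.isIrreducible_of_geometrically f g y (hgy y) (hirr y)
  refine SecDim.eventually_const f g hg hC y₀ fun η hη hηm => ?_
  rcases hαβ with hα | hβ
  · exact SecDim.topDim_le_of_geomReduced f g hg hirr hη hopen hα
  obtain ⟨ξ, hfξ, hξg, hξm, hCξ, hfd⟩ := SecDim.exists_generic f (hgy y₀) (hC y₀)
  have hξC : ξ ∈ connectedComponentIn (f.base ⁻¹' {y₀}) (g.base y₀) := hCξ.ge ⟨subset_closure rfl, hfξ⟩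
  have hξo := hopen ξ hξC fun w hw => (hCξ.subset hw).1
  have hξm' : ∀ z, f z = f ξ → z ⤳ ξ → z = ξ := fun z hz => hξm z (hz.trans hfξ)
  obtain ⟨c, -, hfc, -, hd⟩ := GUOpen.exists_gen_dim_of_isOpenAt f (GUOpen.isOpenAt_of_univ f hξo) hξm'
    (show η ⤳ f ξ from hfξ.symm ▸ hη)
  rw [← hβ η hη.mem_closure hηm, SecDim.topDim_component_eq f (hgy y₀) (hC y₀), hfd,
    ← GUOpen.fibreDimAt_of_max f hξm']
  refine hd.trans ?_
  rw [← FibSemi.topDim_closure_inter_fibre_eq, hfc]
  exact (Topology.IsInducing.topologicalKrullDim_le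
    (Topology.IsEmbedding.inclusion Set.inter_subset_right).isInducing).trans
    (f.fiberHomeo η).symm.isInducing.topologicalKrullDim_le

end Groth.Agent.S5927
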