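import Groth.Statements.S5928
import Groth.Agent.SecDim.Open
-- import your own Groth.Agent.* helpers here

set_option autoImplicit false
open CategoryTheory AlgebraicGeometry
universe u
open EGA43

namespace Groth.Agent.S5928

/-- Let f : X ⟶ Y be a morphism with a section g : Y ⟶ X, and suppose that either Y is locally
Noetherian and f is locally of finite type, or f is of finite presentation. Let X_y^0 be the
connected component of f⁻¹(y) containing g y and X^0 ⊆ X the union of the X_y^0, and suppose every
X_y^0 is geometrically irreducible over κ(y). Then the set W of points x of X^0 such that y ↦ dim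
X_y^0 is constant on a neighbourhood of f x and the fibre f⁻¹(f x) is geometrically reduced at x
over κ(f x) is open in X. (The published statement asks that the whole component X_{f x}^0 be
geometrically reduced rather than geometrically reduced at x; with that reading the set need not be
open: over the affine line Spec k[t] take X = Spec k[t, s, e]/(e², e(ts − 1)) with the section s = e
= 0, whose fibres are lines carrying an embedded point at s = 1/t for t ≠ 0 and a reduced line at t
= 0, so that the set would be the closed fibre over t = 0; the published proof, through the openness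
of the locus where the fibre is geometrically reduced at the point, gives the pointwise form stated
here.) -/
theorem result {X Y : Scheme.{u}} (f : X ⟶ Y) (g : Y ⟶ X)
    (hg : g ≫ f = 𝟙 Y)
    (hfin : (IsLocallyNoetherian Y ∧ LocallyOfFiniteType f) ∨
      (LocallyOfFinitePresentation f ∧ QuasiCompact f ∧ QuasiSeparated f))
    (hirr : ∀ y : Y, (∀ (K : Type u) [Field K] [Algebra (IsLocalRing.ResidueField (Y.presheaf.stalk y)) K],
        IsIrreducible ((FBase.bcπ (f.fiberToSpecResidueField y) K ≫ f.fiberι y).base ⁻¹' connectedComponentIn (f.base ⁻¹' {y}) (g.base y)))) :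
    IsOpen {x : X | x ∈ MoreMor.sectionComponents f g ∧ (∃ V ∈ nhds (f.base x), ∀ z ∈ V, topologicalKrullDim ↥(connectedComponentIn (f.base ⁻¹' {z}) (g.base z)) = topologicalKrullDim ↥(connectedComponentIn (f.base ⁻¹' {(f.base x)}) (g.base (f.base x)))) ∧
      FBase.IsGeomReducedAt (f.fiberToSpecResidueField (f.base x)) (f.asFiber x)} := by
  haveI : LocallyOfFiniteType f := by
    rcases hfin with ⟨_, h⟩ | ⟨h, _, _⟩
    · exact h
    · infer_instance
  have hgy : ∀ y, f (g y) = y := fun y => by rw [← Scheme.Hom.comp_apply, hg]; rfl
  have hC : ∀ y, IsIrreducible (connectedComponentIn (f ⁻¹' {y}) (g y)) :=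
    fun y => SecDim.isIrreducible_of_geometrically f g y (hgy y) (hirr y)
  rw [isOpen_iff_mem_nhds]
  intro x hx
  obtain ⟨hxC, hxd, hxr⟩ := hx
  have hgen : ∀ x', x' ⤳ x → x' ∈ MoreMor.sectionComponents f g ∧ x' ∈ GRLocus.locus f := fun x' hx' =>
    SecDim.mem_of_specializes f g hg (hirr (f x)) (SecDim.fibreDimAt_le_of_const f g hg hC hxd) hxC hxr hx'
  have hE : MoreMor.sectionComponents f g ∈ nhds x := by
    rcases hfin with ⟨_, _⟩ | ⟨_, _, _⟩
    · exact SecDim.sectionComponents_mem_nhds f g hg hC fun x' hx' => (hgen x' hx').1
    · exact SecDim.mem_nhds_of_generizations (SecComp.isLocallyConstructible_sectionComponents f g hg)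
        fun x' hx' => (hgen x' hx').1
  have hR : GRLocus.locus f ∈ nhds x := by
    haveI : LocallyOfFinitePresentation f := by
      rcases hfin with ⟨_, _⟩ | ⟨h, _, _⟩
      · exact GRLocus.locallyOfFinitePresentation_of_lft f
      · exact h
    exact SecDim.mem_nhds_of_generizations (GRLocus.isLocallyConstructible_locus f) fun x' hx' => (hgen x' hx').2
  obtain ⟨V, hV, hVd⟩ := hxd
  have hD : f ⁻¹' interior V ∈ nhds x := f.continuous.continuousAt.preimage_mem_nhds
    (isOpen_interior.mem_nhds (mem_interior_iff_mem_nhds.mpr hV))
  filter_upwards [hE, hR, hD] with w hwE hwR hwD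
  exact ⟨hwE, ⟨interior V, isOpen_interior.mem_nhds hwD, fun z hz =>
    (hVd z (interior_subset hz)).trans (hVd _ (interior_subset hwD)).symm⟩, hwR⟩

end Groth.Agent.S5928
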