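import Groth.Statements.S5929
import Groth.Agent.CAlgA.RelSyzygy
import Mathlib


set_option autoImplicit false
universe u
open TensorProduct CategoryTheory
open EGA43

namespace Groth.Agent.S5929

variable (A B : Type u) [CommRing A] [CommRing B] [Algebra A B] [Algebra.FinitePresentation A B] [Module.Flat A B]

omit [Algebra.FinitePresentation A B] in
theorem flat_pi (t : ℕ) : Module.Flat A (Fin t → B) :=
  Module.Flat.trans A B (Fin t → B)

/-- One step: a finite free cover with good kernel. -/
theorem step (K : Type u) [AddCommGroup K] [Module B K] [Module A K] [IsScalarTower A B K]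
    (h1 : Module.Flat A K) (h2 : Module.FinitePresentation B K) :
    ∃ (t : ℕ) (q : (Fin t → B) →ₗ[B] K), Function.Surjective q ∧
      Module.FinitePresentation B (LinearMap.ker q) ∧ Module.Flat A (LinearMap.ker q) := by
  obtain ⟨t, q, hq, hk⟩ := CAlgA.RelSyzygy.exists_fp_syzygy A B K
  haveI := flat_pi A B t
  exact ⟨t, q, hq, hk, CAlgA.RelSyzygy.flat_ker (q.restrictScalars A) hq⟩

/-- One differential of the resolution. -/
structure Lvl : Type u where
  r : ℕ
  s : ℕ
  f : (Fin s → B) →ₗ[B] (Fin r → B)
  good : Module.FinitePresentation B (LinearMap.ker f) ∧ Module.Flat A (LinearMap.ker f)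

/-- The next differential. -/
noncomputable def next (l : Lvl A B) : Lvl A B :=
  have h := step A B (LinearMap.ker l.f) l.good.2 l.good.1
  ⟨l.s, h.choose, (LinearMap.ker l.f).subtype ∘ₗ h.choose_spec.choose, by
    rw [LinearMap.ker_comp_of_ker_eq_bot _ (Submodule.ker_subtype _)]
    exact h.choose_spec.choose_spec.2⟩

theorem next_range (l : Lvl A B) : LinearMap.range (next A B l).f = LinearMap.ker l.f := by
  have h := step A B (LinearMap.ker l.f) l.good.2 l.good.1
  refine le_antisymm ?_ fun x hx => ?_
  · rintro _ ⟨v, rfl⟩
    exact (h.choose_spec.choose v).2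
  · obtain ⟨v, hv⟩ := h.choose_spec.choose_spec.1 ⟨x, hx⟩
    exact ⟨v, congrArg Subtype.val hv⟩

/-- Let A be a commutative ring, B a finitely presented A-algebra which is flat as an A-module, and M a
finitely presented B-module which is flat as an A-module. Then M admits a left resolution by free
B-modules of finite type: there is a projective resolution of M in the category of B-modules (a
chain complex of projective modules with a quasi-isomorphism to M in degree 0) every term of which
is a finitely generated free B-module. -/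
theorem result (A B M : Type u) [CommRing A] [CommRing B] [Algebra A B]
    [Algebra.FinitePresentation A B] [Module.Flat A B] [AddCommGroup M] [Module B M] [Module A M]
    [IsScalarTower A B M] [Module.FinitePresentation B M] [Module.Flat A M] :
    ∃ P : ProjectiveResolution (ModuleCat.of B M),
      ∀ n : ℕ, Module.Finite B (P.complex.X n) ∧ Module.Free B (P.complex.X n) := by
  classical
  obtain ⟨r, p, hp, hpk⟩ := CAlgA.RelSyzygy.exists_fp_syzygy A B M
  haveI := flat_pi A B r
  have hflK : Module.Flat A (LinearMap.ker p) :=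
    CAlgA.RelSyzygy.flat_ker (p.restrictScalars A) hp
  obtain ⟨t, q, hq, hqk, hqf⟩ := step A B (LinearMap.ker p) hflK hpk
  let l₀ : Lvl A B := ⟨r, t, (LinearMap.ker p).subtype ∘ₗ q, by
    rw [LinearMap.ker_comp_of_ker_eq_bot _ (Submodule.ker_subtype _)]; exact ⟨hqk, hqf⟩⟩
  let L : ℕ → Lvl A B := fun n => Nat.rec l₀ (fun _ l => next A B l) n
  let d : ∀ n, (Fin (L (n + 1)).r → B) →ₗ[B] (Fin (L n).r → B) := fun n => (L n).f
  have hd : ∀ n, LinearMap.range (d (n + 1)) = LinearMap.ker (d n) := fun n => next_range A B (L n)
  have hd0 : LinearMap.range (d 0) = LinearMap.ker p := by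
    show LinearMap.range ((LinearMap.ker p).subtype ∘ₗ q) = _
    rw [LinearMap.range_comp_of_range_eq_top _ (LinearMap.range_eq_top.2 hq), Submodule.range_subtype]
  let C : ChainComplex (ModuleCat.{u} B) ℕ :=
    ChainComplex.of (fun n => ModuleCat.of B (Fin (L n).r → B)) (fun n => ModuleCat.ofHom (d n))
      (fun n => ModuleCat.hom_ext (LinearMap.ext fun x => LinearMap.mem_ker.1 ((hd n).le ⟨x, rfl⟩)))
  have hCd : ∀ n, C.d (n + 1) n = ModuleCat.ofHom (d n) := fun n =>
    ChainComplex.of_d (fun n => ModuleCat.of B (Fin (L n).r → B)) (fun n => ModuleCat.ofHom (d n)) n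
  have hf0 : C.d 1 0 ≫ ModuleCat.ofHom p = 0 := by
    rw [hCd 0]
    exact ModuleCat.hom_ext (LinearMap.ext fun x => LinearMap.mem_ker.1 (hd0.le ⟨x, rfl⟩))
  let π := (ChainComplex.toSingle₀Equiv C (ModuleCat.of B M)).symm ⟨ModuleCat.ofHom p, hf0⟩
  have hπ : QuasiIso π := ⟨fun n => by
    cases n with
    | zero =>
      rw [ChainComplex.quasiIsoAt₀_iff, ShortComplex.quasiIso_iff_of_zeros']
      · have hτ : ((HomologicalComplex.shortComplexFunctor' _ (ComplexShape.down ℕ) 1 0 0).map π).τ₂ =
            ModuleCat.ofHom p := ChainComplex.toSingle₀Equiv_symm_apply_f_zero _ _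
        refine ⟨?_, ?_⟩
        · refine (ShortComplex.exact_iff_of_iso (S₂ := ShortComplex.mk (C.d 1 0) (ModuleCat.ofHom p) hf0)
            (ShortComplex.isoMk (Iso.refl (C.X 1)) (Iso.refl (C.X 0)) (Iso.refl (ModuleCat.of B M))
              ?_ ?_)).2 ?_
          · exact (Category.id_comp _).trans (Category.comp_id _).symm
          · exact (Category.id_comp _).trans (hτ.symm.trans (Category.comp_id _).symm)
          rw [ShortComplex.moduleCat_exact_iff]
          intro x hx
          obtain ⟨w, hw⟩ := hd0.ge (LinearMap.mem_ker.2 hx)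
          refine ⟨w, ?_⟩
          change (C.d 1 0).hom w = x
          rw [hCd 0]
          exact hw
        · rw [hτ]
          exact (ModuleCat.epi_iff_surjective (ModuleCat.ofHom p)).2 hp
      all_goals rfl
    | succ n =>
      rw [quasiIsoAt_iff_exactAt']
      · rw [C.exactAt_iff' (n + 2) (n + 1) n (by simp) (by simp), ShortComplex.moduleCat_exact_iff]
        intro x hx
        change (C.d (n + 1) n).hom x = 0 at hx
        rw [hCd n] at hx
        obtain ⟨w, hw⟩ := (hd n).ge (LinearMap.mem_ker.2 hx)
        refine ⟨w, ?_⟩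
        change (C.d (n + 2) (n + 1)).hom w = x
        rw [hCd (n + 1)]
        exact hw
      · exact ChainComplex.exactAt_succ_single_obj _ _⟩
  exact ⟨{ complex := C
           projective := fun n => (IsProjective.iff_projective _).1
             (inferInstanceAs (Module.Projective B (Fin (L n).r → B)))
           π := π
           quasiIso := hπ }, fun n => ⟨inferInstanceAs (Module.Finite B (Fin (L n).r → B)),
             inferInstanceAs (Module.Free B (Fin (L n).r → B))⟩⟩

end Groth.Agent.S5929
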