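import Groth.Statements.S5934
import Groth.Agent.S16049

set_option autoImplicit false
open CategoryTheory AlgebraicGeometry
universe u
open EGA43

namespace Groth.Agent.S5934

/-- Let f : X ⟶ Y be a proper, flat morphism of finite presentation. The set of points y of Y whose
fibre X_y is geometrically regular, i.e. smooth over the residue field κ(y), is open in Y. -/
theorem result {X Y : Scheme.{u}} (f : X ⟶ Y) [IsProper f] [Flat f]
    [LocallyOfFinitePresentation f] :
    IsOpen {y : Y | Smooth (f.fiberToSpecResidueField y)} := by
  rw [isOpen_iff_forall_mem_open]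
  intro y hy
  let ι := (𝟙 Y : Y ⟶ Y).fiberι y
  let e := (𝟙 Y : Y ⟶ Y).fiberToSpecResidueField y
  have he : ι = e ≫ Y.fromSpecResidueField y := by
    exact (Category.comp_id _).symm.trans
      (CategoryTheory.Limits.pullback.condition (f := (𝟙 Y : Y ⟶ Y)) (g := Y.fromSpecResidueField y))
  let a : CategoryTheory.Limits.pullback f ι ⟶ f.fiber y :=
    CategoryTheory.Limits.pullback.lift (CategoryTheory.Limits.pullback.fst f ι) (CategoryTheory.Limits.pullback.snd f ι ≫ e)
      (by rw [Category.assoc, ← he]; exact CategoryTheory.Limits.pullback.condition)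
  have sq : IsPullback a (CategoryTheory.Limits.pullback.snd f ι) (f.fiberToSpecResidueField y) e := by
    refine IsPullback.of_right ?_ (CategoryTheory.Limits.pullback.lift_snd _ _ _)
      (IsPullback.of_hasPullback f (Y.fromSpecResidueField y))
    rw [← he]
    have ha : a ≫ CategoryTheory.Limits.pullback.fst f (Y.fromSpecResidueField y) = CategoryTheory.Limits.pullback.fst f ι :=
      CategoryTheory.Limits.pullback.lift_fst _ _ _
    convert IsPullback.of_hasPullback f ι using 1
  obtain ⟨U, hU, hsm⟩ := S16049.result (𝟙 Y) f f (Category.comp_id f) y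
    (MorphismProperty.of_isPullback (P := @Smooth) sq hy)
  refine ⟨(f.base '' (U : Set X)ᶜ)ᶜ, fun y' hy' => ?_, (f.isClosedMap _ U.2.isClosed_compl).isOpen_compl, ?_⟩
  · have hsub : Set.range (f.fiberι y') ⊆ Set.range U.ι := by
      rw [Scheme.Opens.range_ι, Scheme.Hom.range_fiberι]
      intro x hx
      by_contra hxU
      exact hy' ⟨x, hxU, hx⟩
    let l := IsOpenImmersion.lift U.ι (f.fiberι y') hsub
    have hl : l ≫ U.ι = f.fiberι y' := IsOpenImmersion.lift_fac _ _ _
    have sq' : IsPullback l (f.fiberToSpecResidueField y') (U.ι ≫ f) (Y.fromSpecResidueField y') := by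
      have h1 : IsPullback l (f.fiberToSpecResidueField y') (U.ι ≫ f) (Y.fromSpecResidueField y') := by
        have h2 : IsPullback (f.fiberι y') (f.fiberToSpecResidueField y') f (Y.fromSpecResidueField y') :=
          IsPullback.of_hasPullback f (Y.fromSpecResidueField y')
        have h3 : IsPullback l (𝟙 (f.fiber y')) U.ι (f.fiberι y') :=
          ⟨⟨by rw [Category.id_comp, hl]⟩, ⟨CategoryTheory.Limits.PullbackCone.IsLimit.mk _
            (fun s => s.snd) (fun s => by rw [← cancel_mono U.ι, Category.assoc, hl, s.condition])
            (fun s => Category.comp_id _) (fun s m _ hm => by simpa using hm)⟩⟩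
        simpa only [Category.id_comp] using h3.paste_vert h2
      exact h1
    exact MorphismProperty.of_isPullback (P := @Smooth) sq' hsm
  · rintro ⟨x, hxU, hx⟩
    exact hxU (hU x hx)

end Groth.Agent.S5934
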