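import Groth.Statements.S5936
import Groth.Agent.CAlgA.RelSyzygy
import Groth.Agent.EGA41Lib.TorShift
import Groth.Agent.HTor95.BaseChange
import Groth.Agent.S14414
import Mathlib
-- import your own Groth.Agent.* helpers here

set_option autoImplicit false
universe u
open TensorProduct CategoryTheory
open EGA43

namespace Groth.Agent.S5936

open MonoidalCategory

/-- `Tor` is symmetric, at the level of vanishing. -/
lemma isZero_tor_comm {B : Type u} [CommRing B] (M N : ModuleCat.{u} B) (i : ℕ) :
    Limits.IsZero (((Tor (ModuleCat.{u} B) i).obj M).obj N) ↔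
      Limits.IsZero (((Tor (ModuleCat.{u} B) i).obj N).obj M) :=
  (Groth.Agent.HTor95.BaseChange.commTor M N i).isZero_iff

/-- A module killed by all `Tor₁` is flat. -/
lemma flat_of_isZero_tor {B : Type u} [CommRing B] (M : Type u) [AddCommGroup M] [Module B M]
    (h : ∀ N : ModuleCat.{u} B, Limits.IsZero (((Tor (ModuleCat.{u} B) 1).obj (ModuleCat.of B M)).obj N)) :
    Module.Flat B M := by
  rw [Module.Flat.iff_lTensor_injective']
  intro I
  have := (Groth.Agent.TorOne.isZero_tor_one_iff M (Submodule.mkQ I) I.mkQ_surjective).1 (h _)
  rwa [Submodule.ker_mkQ] at this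

variable {A B : Type u} [CommRing A] [CommRing B] [Algebra A B]
  [Algebra.FinitePresentation A B] [Module.Flat A B]

/-- Vanishing of `Tor_{n+1}` bounds the projective dimension. -/
lemma pd_le_of_isZero_tor (n : ℕ) : ∀ (M : Type u) [AddCommGroup M] [Module B M] [Module A M]
    [IsScalarTower A B M] [Module.FinitePresentation B M] [Module.Flat A M],
    (∀ N : ModuleCat.{u} B, Limits.IsZero (((Tor (ModuleCat.{u} B) (n + 1)).obj (ModuleCat.of B M)).obj N)) →
      HasProjectiveDimensionLE (ModuleCat.of B M) n := by
  induction n with
  | zero =>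
    intro M _ _ _ _ _ _ h
    haveI := flat_of_isZero_tor M h
    haveI : Module.Projective B M := Module.Flat.projective_of_finitePresentation
    exact Groth.Agent.RegLoc.PD.pd_of_projective M 0
  | succ n ih =>
    intro M _ _ _ _ _ _ h
    obtain ⟨r, p, hp, hfp⟩ := Groth.Agent.CAlgA.RelSyzygy.exists_fp_syzygy A B M
    haveI : Module.Flat A (Fin r → B) :=
      Module.Flat.trans A B (Fin r → B)
    haveI : Module.Flat A (LinearMap.ker p) :=
      Groth.Agent.CAlgA.RelSyzygy.flat_ker (p.restrictScalars A) hp
    haveI : Projective p.shortComplexKer.X₂ := (IsProjective.iff_projective (Fin r → B)).mp inferInstance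
    exact (Groth.Agent.RegLoc.PD.pd_shift p hp n).mpr (ih (LinearMap.ker p) fun N => (isZero_tor_comm _ N _).2
      ((Groth.Agent.EGA41Lib.TorShift.isZero_tor_succ_iff N (LinearMap.shortExact_shortComplexKer hp) n).mp
        ((isZero_tor_comm _ N _).1 (h N))))

/-- Let A be a commutative ring, B a finitely presented A-algebra which is flat as an A-module, and M a
finitely presented B-module which is flat as an A-module. Then the projective dimension of M as a
B-module equals its Tor-dimension, the least n such that Tor_i^B(M, N) = 0 for every i > n and every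
B-module N. (Both sides are valued in WithBot ℕ∞, with the zero module of dimension ⊥; Tor_i^B(M, −)
is the i-th left derived functor of M ⊗_B −. In general only Tor-dimension ≤ projective dimension
holds.) -/
theorem result (A B M : Type u) [CommRing A] [CommRing B] [Algebra A B]
    [Algebra.FinitePresentation A B] [Module.Flat A B] [AddCommGroup M] [Module B M] [Module A M]
    [IsScalarTower A B M] [Module.FinitePresentation B M] [Module.Flat A M] :
    projectiveDimension (ModuleCat.of B M) =
      sInf {n : WithBot ℕ∞ | ∀ i : ℕ, n < i → ∀ N : ModuleCat.{u} B,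
        Limits.IsZero (((Tor (ModuleCat.{u} B) i).obj (ModuleCat.of B M)).obj N)} := by
  have hzero : Limits.IsZero (ModuleCat.of B M) → ∀ (i : ℕ) (N : ModuleCat.{u} B),
      Limits.IsZero (((Tor (ModuleCat.{u} B) i).obj (ModuleCat.of B M)).obj N) := fun h i N =>
    match i with
    | 0 => by
      have : Subsingleton M := ModuleCat.subsingleton_of_isZero h
      have e := (((MonoidalCategory.tensoringLeft (ModuleCat.{u} B)).obj (ModuleCat.of B M)).leftDerivedZeroIsoSelf.app N)
      have : Subsingleton ((ModuleCat.of B M : ModuleCat.{u} B) : Type u) := ‹Subsingleton M›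
      have : Subsingleton (M ⊗[B] (N : Type u)) := inferInstance
      refine Limits.IsZero.of_iso ?_ e
      exact @ModuleCat.isZero_of_subsingleton B _ (MonoidalCategory.tensorObj (ModuleCat.of B M) N) this
    | j + 1 => by
      haveI : Module.Projective B M :=
        have : Subsingleton M := ModuleCat.subsingleton_of_isZero h
        inferInstance
      have := Groth.Agent.RegLoc.PD.pd_of_projective (R := B) M 0
      exact (isZero_tor_comm _ N _).2 (Groth.Agent.S14414.result B N (ModuleCat.of B M) 0 (j + 1) j.succ_pos)
  refine le_antisymm (le_sInf fun n hn => ?_) (sInf_le fun i hi N => ?_)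
  · induction n with
    | bot =>
      have h0 := hn 0 (WithBot.bot_lt_coe _) (ModuleCat.of B B)
      have e := (((MonoidalCategory.tensoringLeft (ModuleCat.{u} B)).obj (ModuleCat.of B M)).leftDerivedZeroIsoSelf.app
        (ModuleCat.of B B))
      have h1 : Limits.IsZero (MonoidalCategory.tensorObj (ModuleCat.of B M) (ModuleCat.of B B)) := h0.of_iso e.symm
      have : Subsingleton (M ⊗[B] B) := @ModuleCat.subsingleton_of_isZero B _ (MonoidalCategory.tensorObj (ModuleCat.of B M) (ModuleCat.of B B)) h1
      have : Subsingleton M := (TensorProduct.rid B M).symm.injective.subsingleton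
      exact le_of_eq ((projectiveDimension_eq_bot_iff _).2 (ModuleCat.isZero_of_subsingleton _))
    | coe n =>
      induction n with
      | top => exact le_top
      | coe n =>
        refine (projectiveDimension_le_iff _ n).2 (pd_le_of_isZero_tor (A := A) n M fun N => hn (n + 1) ?_ N)
        exact WithBot.coe_lt_coe.2 (ENat.coe_lt_coe.2 n.lt_succ_self)
  · cases i with
    | zero =>
      refine hzero ?_ 0 N
      rw [← hasProjectiveDimensionLT_zero_iff_isZero, ← projectiveDimension_lt_iff]
      exact hi
    | succ j =>
      have : HasProjectiveDimensionLE (ModuleCat.of B M) j := projectiveDimension_lt_iff.1 hi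
      exact (isZero_tor_comm _ N _).2 (Groth.Agent.S14414.result B N (ModuleCat.of B M) j (j + 1) j.lt_succ_self)

end Groth.Agent.S5936
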