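import Groth.Statements.S5946
import Groth.Agent.S4994
import Groth.Agent.DiffSmoothLim47.Basic
-- import your own Groth.Agent.* helpers here

set_option autoImplicit false
universe u
open CategoryTheory CategoryTheory.Limits AlgebraicGeometry
open Unram17

namespace Groth.Agent.S5946

/-- Let S = lim S_i be a cofiltered limit of schemes with affine transition maps, f₀ : X₀ ⟶ S_{i₀} a
morphism locally of finite presentation with X₀ quasi-compact, and f : X ⟶ S its base change along S
⟶ S_{i₀} (a pullback square). Then f is differentially smooth, i.e. the diagonal X ⟶ X ×_S X is a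
quasi-regular immersion, if and only if, for some index j over i₀, the base change f_j : X_j ⟶ S_j
of f₀ along S_j ⟶ S_{i₀} is differentially smooth. (The published statement also asserts that f_k is
differentially smooth for every index k over j; that part is a base change and this row does not
restate it.) -/
theorem result {I : Type u} [SmallCategory I] [IsCofiltered I]
    (D : I ⥤ Scheme.{u}) (c : Limits.Cone D) (hc : Limits.IsLimit c)
    [∀ (i j : I) (f : i ⟶ j), IsAffineHom (D.map f)] (i₀ : I)
    {X₀ : Scheme.{u}} (f₀ : X₀ ⟶ D.obj i₀) [LocallyOfFinitePresentation f₀] [CompactSpace ↥X₀]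
    {X : Scheme.{u}} (f : X ⟶ c.pt) (qX : X ⟶ X₀) (hX : IsPullback qX f f₀ (c.π.app i₀)) :
    RegImm.IsRegularImmersion RegImm.Kind.quasi (pullback.diagonal f) ↔
      ∃ (j : I) (φ : j ⟶ i₀) (Xj : Scheme.{u}) (fj : Xj ⟶ D.obj j) (pX : Xj ⟶ X₀),
        IsPullback pX fj f₀ (D.map φ) ∧ RegImm.IsRegularImmersion RegImm.Kind.quasi (pullback.diagonal fj) := by
  have : LocallyOfFinitePresentation f :=
    MorphismProperty.of_isPullback hX ‹_›
  rw [Groth.Agent.S4994.result f, ← Groth.Agent.DiffSmoothLim47.good_eq_top_iff f]
  constructor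
  · intro h
    obtain ⟨k, hk⟩ := Groth.Agent.DiffSmoothLim47.exists_stage_eq_top hc hX h
    exact ⟨k.left, k.hom, _, _, _, IsPullback.of_hasPullback f₀ (D.map k.hom),
      (Groth.Agent.S4994.result _).2
        ((Groth.Agent.DiffSmoothLim47.good_eq_top_iff (Groth.Agent.DiffSmoothLim47.stage f₀ k)).1 hk)⟩
  · rintro ⟨j, φ, Xj, fj, pX, hj, hd⟩
    have : LocallyOfFinitePresentation fj := MorphismProperty.of_isPullback hj ‹_›
    exact Groth.Agent.DiffSmoothLim47.good_limit_eq_top hX φ fj pX hj
      ((Groth.Agent.DiffSmoothLim47.good_eq_top_iff fj).2 ((Groth.Agent.S4994.result fj).1 hd))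

end Groth.Agent.S5946
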