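import Groth.Statements.S5947
import Groth.Agent.Omega.SpecDer

set_option autoImplicit false
universe u
open CategoryTheory AlgebraicGeometry TopologicalSpace
open Nrm16

namespace Groth.Agent.S5947

/-- Let A be a commutative ring, B an A-algebra and L a B-module; put S = Spec A, X = Spec B and let F
be the O_X-module associated with L. For an S-derivation D of O_X into F write Γ(D) : B → L for its
effect on global sections (global sections of O_X and of F being identified with B and L by the
canonical isomorphisms). Then D ↦ Γ(D) is a bijection from the set of S-derivations of O_X into F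
onto the set of A-derivations of B into L: every Γ(D) is an A-derivation, and every A-derivation of
B into L is Γ(D) for exactly one D. (The published statement asserts an isomorphism of B-modules; no
module structure is placed on sheaf derivations here, so this row states the bijection.) -/
theorem result (A B : Type u) [CommRing A] [CommRing B] [Algebra A B]
    (L : Type u) [AddCommGroup L] [Module B L] [Module A L] [IsScalarTower A B L] :
    (∀ D : OmegaSh.Der (Spec.map (CommRingCat.ofHom (algebraMap A B))) (tilde (ModuleCat.of (CommRingCat.of B) L)),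
      ∃ δ : Derivation A B L, ∀ t : B, D.app ⊤ ((Scheme.ΓSpecIso (CommRingCat.of B)).inv t) =
        (tilde.isoTop (ModuleCat.of (CommRingCat.of B) L)).hom (δ t)) ∧
    ∀ δ : Derivation A B L,
      ∃! D : OmegaSh.Der (Spec.map (CommRingCat.ofHom (algebraMap A B))) (tilde (ModuleCat.of (CommRingCat.of B) L)),
        ∀ t : B, D.app ⊤ ((Scheme.ΓSpecIso (CommRingCat.of B)).inv t) =
          (tilde.isoTop (ModuleCat.of (CommRingCat.of B) L)).hom (δ t) := by
  let F := tilde (ModuleCat.of (CommRingCat.of B) L)
  let I : L → Γ(F, ⊤) := fun x => (tilde.isoTop (ModuleCat.of (CommRingCat.of B) L)).hom x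
  have hI : Function.Bijective I :=
    ConcreteCategory.bijective_of_isIso (tilde.isoTop (ModuleCat.of (CommRingCat.of B) L)).hom
  have hadd : ∀ x y, I (x + y) = I x + I y := fun x y =>
    map_add (tilde.isoTop (ModuleCat.of (CommRingCat.of B) L)).hom.hom x y
  have hsmul : ∀ (b : B) x, I (b • x) = b • I x := fun b x =>
    map_smul (tilde.isoTop (ModuleCat.of (CommRingCat.of B) L)).hom.hom b x
  refine ⟨fun D => ?_, fun δ => ?_⟩
  · let := Omega.SpecDer.moduleA A B F
    obtain ⟨δ', hδ'⟩ := Omega.SpecDer.exists_derivation D
    choose δ hδ using fun t : B => hI.2 (δ' t)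
    refine ⟨⟨{ toFun := δ, map_add' := fun a b => hI.1 ?_, map_smul' := fun a b => hI.1 ?_ },
      hI.1 ?_, fun a b => hI.1 ?_⟩, fun t => ((hδ' t).symm.trans (hδ t).symm : _)⟩
    · rw [hadd, hδ, hδ, hδ, map_add]
    · rw [hδ, RingHom.id_apply, ← algebraMap_smul B a (δ b), hsmul, hδ]
      exact δ'.toLinearMap.map_smul a b
    · change I (δ 1) = I 0
      rw [hδ, Derivation.map_one_eq_zero]
      exact (map_zero (tilde.isoTop (ModuleCat.of (CommRingCat.of B) L)).hom.hom).symm
    · change I (δ (a * b)) = I (a • δ b + b • δ a)
      rw [hadd, hsmul, hsmul, hδ, hδ, hδ, Derivation.leibniz]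
  · obtain ⟨D, hD⟩ := Omega.SpecDer.exists_der (A := A) (F := F)
      (AddMonoidHom.mk' (fun t => I (δ t)) fun a b => by rw [map_add, hadd])
      (fun a b => by
        change I (δ (a * b)) = a • I (δ b) + b • I (δ a)
        rw [Derivation.leibniz, hadd, hsmul, hsmul])
      (fun a => by
        change I (δ (algebraMap A B a)) = 0
        rw [Derivation.map_algebraMap]
        exact map_zero (tilde.isoTop (ModuleCat.of (CommRingCat.of B) L)).hom.hom)
    exact ⟨D, hD, fun D' hD' => Omega.SpecDer.der_ext_γ fun t => (hD' t).trans (hD t).symm⟩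

end Groth.Agent.S5947
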