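import Groth.Statements.S5948
import Groth.Agent.FibCodepth.FibFlatForms

set_option autoImplicit false
universe u
open CategoryTheory CategoryTheory.Limits AlgebraicGeometry TopologicalSpace Topology
open Unram17

namespace Groth.Agent.S5948

/-- Let g : X ⟶ S and h : Y ⟶ S be locally of finite presentation, f : X ⟶ Y a morphism with f ≫ h = g,
and F a quasi-coherent O_X-module of finite presentation. For x in X with s = g(x), the fibres X_s ⟶
Y_s ⟶ Spec κ(s) of f over s are given by pullback squares, F_s is the pullback of F to X_s, and x is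
identified with the unique point of X_s over it. Then the set E of points x such that F_s is flat
over Y_s at x (the stalk of F_s at x is a flat module over the local ring of Y_s at f_s(x)) is
locally constructible in X. -/
theorem result {X Y S : Scheme.{u}} (g : X ⟶ S) (h : Y ⟶ S)
    [LocallyOfFinitePresentation g] [LocallyOfFinitePresentation h] (f : X ⟶ Y) (w : f ≫ h = g)
    (F : X.Modules) [Coh.IsQCoh F] (hF : CohB1.IsFP F) :
    IsLocallyConstructible {x : ↥X | ∀ (Xs Ys : Scheme.{u}) (ιX : Xs ⟶ X) (ιY : Ys ⟶ Y) (fs : Xs ⟶ Ys)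
      (pY : Ys ⟶ Spec (S.residueField (g.base x))),
      IsPullback ιY pY h (S.fromSpecResidueField (g.base x)) → IsPullback ιX fs f ιY →
        ∀ x' : ↥Xs, ιX.base x' = x → FlatMod.IsFlatOverAt fs ((Scheme.Modules.pullback ιX).obj F) x'} := by
  open CategoryTheory Limits AlgebraicGeometry in
  subst w
  haveI : LocallyOfFinitePresentation f := GrpScheme.FlatFib.locallyOfFinitePresentation_of_comp f h
  refine (congrArg IsLocallyConstructible (Set.ext fun x => ?_)).mp (FibCodepth.isLocallyConstructible_fibFlat f h F hF)
  constructor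
  · intro hx Xs Ys ιX ιY fs pY hY hX x' hx'
    exact (FibCodepth.fibFlatAt_iff hF hY (hX.paste_vert hY) hX.w x' hx').1 hx
  · intro hx
    exact hx _ _ _ _ _ _ (IsPullback.of_hasPullback h (S.fromSpecResidueField ((f ≫ h) x)))
      (FibCodepth.isPullback_fibMap f h ((f ≫ h) x)) _ ((f ≫ h).fiberι_asFiber x)

end Groth.Agent.S5948
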