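import Groth.Statements.S5950
import Groth.Agent.NormChar.Basic

set_option autoImplicit false
universe u
open CategoryTheory AlgebraicGeometry
open Unram17

namespace Groth.Agent.S5950

/-- Let X be an integral scheme which has a nonempty (hence dense) open subset at whose points the local
rings are integrally closed, let X' ⟶ X be its normalization, and let f : Y ⟶ X be a morphism of
schemes. Then there is an isomorphism Y ≅ X' over X if and only if: every local ring of Y is an
integrally closed domain, f is an integral morphism, and there is a dense open subset U of X whose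
preimage is dense in Y and such that the restriction f⁻¹(U) ⟶ U of f is an isomorphism. (The
published statement allows X reduced with locally finitely many irreducible components and a dense
normal open subset; this row states the case of an integral X. The quasi-compactness and
quasi-separatedness binders on the generic point always hold and only serve to form the
normalization.) -/
theorem result (X : Scheme.{u}) [IsIntegral X]
    [QuasiCompact (X.fromSpecStalk (genericPoint X))] [QuasiSeparated (X.fromSpecStalk (genericPoint X))]
    (hV : ∃ V : X.Opens, (V : Set ↥X).Nonempty ∧ ∀ x ∈ V, IsIntegrallyClosed (X.presheaf.stalk x))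
    {Y : Scheme.{u}} (f : Y ⟶ X) :
    (∃ e : Y ≅ Curv2.normalization X, e.hom ≫ Curv2.normalizationι X = f) ↔
      Pi1.IsNormalScheme Y ∧ IsIntegralHom f ∧
        ∃ U : X.Opens, Dense (U : Set ↥X) ∧ Dense ((f ⁻¹ᵁ U : Y.Opens) : Set ↥Y) ∧ IsIso (f ∣_ U) := by
  constructor
  · rintro ⟨e, rfl⟩
    obtain ⟨V, hne, hV⟩ := hV
    obtain ⟨hN, hint, hirr, hfib, hst⟩ := Groth.Agent.NormChar.normalization_spec X
    obtain ⟨h1, hirrY, hfibY, -⟩ := Groth.Agent.NormChar.spec_of_iso e.hom _ _ hN hfib hst
    haveI := Groth.Agent.NormChar.isIso_over_normal V hne hV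
    refine ⟨h1, inferInstance, V, V.2.dense hne, ((e.hom ≫ Curv2.normalizationι X) ⁻¹ᵁ V).2.dense ?_, ?_⟩
    · refine ⟨genericPoint Y, ?_⟩
      change (e.hom ≫ Curv2.normalizationι X) (genericPoint Y) ∈ V
      rw [(Set.ext_iff.mp hfibY (genericPoint Y)).mpr rfl]
      exact ((genericPoint_spec X).mem_open_set_iff V.isOpen).mpr (by simpa using hne)
    · have i1 : IsIso (e.hom ∣_ Curv2.normalizationι X ⁻¹ᵁ V) := inferInstance
      rw [morphismRestrict_comp]
      exact @IsIso.comp_isIso _ _ _ _ _ _ _ i1 ‹IsIso (Curv2.normalizationι X ∣_ V)›
  · rintro ⟨hY, _, U, hU, hd, _⟩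
    obtain ⟨_, hfib, hst⟩ := Groth.Agent.NormChar.birational_of_isIso_restrict f U hU hd
    exact Groth.Agent.NormChar.exists_iso f hY hfib hst

end Groth.Agent.S5950
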