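import Groth.Statements.S5955
import Groth.Agent.Omega.PPNec

set_option autoImplicit false
universe u
open CategoryTheory CategoryTheory.Limits AlgebraicGeometry TopologicalSpace Opposite
open Nrm16

namespace Groth.Agent.S5955

open scoped Groth.Agent.Omega.PPOp

/-- Let f : X ⟶ S be a morphism of schemes, F, G, H three O_X-modules, D : F ⟶ G a differential operator
of order at most n relative to S and D' : G ⟶ H one of order at most n'. Then D followed by D' is a
differential operator of order at most n + n'. -/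
theorem result {X S : Scheme.{u}} (f : X ⟶ S) (F G H : X.Modules) (n n' : ℕ)
    (D : F.presheaf ⟶ G.presheaf) (D' : G.presheaf ⟶ H.presheaf)
    (hD : PrinPart.IsDiffOpLE f F G n D) (hD' : PrinPart.IsDiffOpLE f G H n' D') :
    PrinPart.IsDiffOpLE f F H (n + n') (D ≫ D') := by
  refine Groth.Agent.Omega.PPOp.exists_factor f (n + n') _ ?_ ?_
  · intro x c t
    have e : ∀ t, Groth.Agent.Omega.PPOp.stalkD (D ≫ D') x t = Groth.Agent.Omega.PPOp.stalkD D' x (Groth.Agent.Omega.PPOp.stalkD D x t) := fun t =>
      congr($((TopCat.Presheaf.stalkFunctor Ab x).map_comp D D') t)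
    rw [e, e, Groth.Agent.Omega.PPNec.isBaseLinear_of_isDiffOpLE f hD, Groth.Agent.Omega.PPNec.isBaseLinear_of_isDiffOpLE f hD']
  · intro x
    have e : Groth.Agent.Omega.PPOp.stalkD (D ≫ D') x = Groth.Agent.Omega.PPOp.stalkD D' x ∘ₗ Groth.Agent.Omega.PPOp.stalkD D x := LinearMap.ext fun t =>
      congr($((TopCat.Presheaf.stalkFunctor Ab x).map_comp D D') t)
    rw [e]
    exact Groth.Agent.Diff16.IsDiffOpLE.comp (Groth.Agent.Omega.PPNec.stalkOrdLE_of_isDiffOpLE f hD x)
      (Groth.Agent.Omega.PPNec.stalkOrdLE_of_isDiffOpLE f hD' x)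

end Groth.Agent.S5955
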