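import Groth.Statements.S5957
import Groth.Agent.Omega.PPNec

set_option autoImplicit false
universe u
open CategoryTheory CategoryTheory.Limits AlgebraicGeometry TopologicalSpace Opposite
open Nrm16

namespace Groth.Agent.S5957

open scoped Groth.Agent.Omega.PPOp

/-- Let f : X ⟶ S be a morphism of schemes, F and G two O_X-modules and D : F ⟶ G a homomorphism of
sheaves of abelian groups. Then D is a differential operator of order at most 0 relative to S if and
only if D is O_X-linear: D(a·t) = a·D(t) for every open U, every function a on U and every section t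
of F over U. -/
theorem result {X S : Scheme.{u}} (f : X ⟶ S) (F G : X.Modules)
    (D : F.presheaf ⟶ G.presheaf) :
    PrinPart.IsDiffOpLE f F G 0 D ↔
      ∀ (U : X.Opens) (a : Γ(X, U)) (t : Γ(F, U)), D.app (op U) (a • t) = a • D.app (op U) t := by
  refine ⟨fun hD U a t => Groth.Agent.Omega.PPNec.sectOrdLE_of_isDiffOpLE f hD U a t, fun h => ?_⟩
  exact Groth.Agent.Omega.PPOp.exists_factor f 0 D
    (Groth.Agent.Omega.PPNec.isBaseLinear_of_sections f fun _ _ U _ t => h U _ t)
    (Groth.Agent.Omega.PPNec.stalkOrdLE_of_sectOrdLE fun U a t => h U a t)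

end Groth.Agent.S5957
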