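import Groth.Statements.S5961
import Groth.Agent.Omega.PPNec

set_option autoImplicit false
universe u
open CategoryTheory CategoryTheory.Limits AlgebraicGeometry TopologicalSpace Opposite
open Nrm16

namespace Groth.Agent.S5961

open scoped Groth.Agent.Omega.PPOp

/-- Let f : X ⟶ S be a morphism of schemes, G an O_X-module and D : O_X ⟶ G a differential operator of
order at most 1 relative to S. Then D can be written in exactly one way as v + d with v : O_X ⟶ G an
O_X-linear map and d an S-derivation of O_X into G. -/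
theorem result {X S : Scheme.{u}} (f : X ⟶ S) (G : X.Modules)
    (D : (Coh.structureModule X).presheaf ⟶ G.presheaf)
    (hD : PrinPart.IsDiffOpLE f (Coh.structureModule X) G 1 D) :
    ∃! p : (Coh.structureModule X ⟶ G) × OmegaSh.Der f G,
      ∀ (U : X.Opens) (a : Γ(X, U)),
        D.app (op U) (OmegaSh.strSect X U a) = p.1.app U (OmegaSh.strSect X U a) + p.2.app U a := by
  let one : ∀ U : X.Opens, Γ(Coh.structureModule X, U) := fun U => OmegaSh.strSect X U 1
  have hstr : ∀ (U : X.Opens) (a b : Γ(X, U)),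
      a • OmegaSh.strSect X U b = OmegaSh.strSect X U (a * b) := fun U a b => rfl
  have hmap : ∀ {U V : X.Opens} (i : V ⟶ U) (a : Γ(X, U)),
      D.app (op V) (OmegaSh.strSect X V (X.presheaf.map i.op a)) =
        G.presheaf.map i.op (D.app (op U) (OmegaSh.strSect X U a)) := fun i a =>
    NatTrans.naturality_apply D i.op (OmegaSh.strSect X _ a)
  have h2 : ∀ (U : X.Opens) (a b : Γ(X, U)),
      D.app (op U) (OmegaSh.strSect X U (a * b)) + (a * b) • D.app (op U) (one U) =
        a • D.app (op U) (OmegaSh.strSect X U b) + b • D.app (op U) (OmegaSh.strSect X U a) := by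
    intro U a b
    have h := Groth.Agent.Omega.PPNec.sectOrdLE_of_isDiffOpLE f hD U a b (one U)
    rw [Groth.Agent.Diff16.comm_apply, Groth.Agent.Diff16.comm_apply] at h
    change D.app (op U) (a • b • one U) - a • D.app (op U) (b • one U) =
      b • (D.app (op U) (a • one U) - a • D.app (op U) (one U)) at h
    simp only [one, hstr, mul_one] at h
    rw [smul_sub, sub_eq_iff_eq_add] at h
    rw [h, smul_smul, mul_comm b a]
    abel
  have hbase : ∀ (V : S.Opens) (c : Γ(S, V)),
      D.app (op (f ⁻¹ᵁ V)) (OmegaSh.strSect X _ (f.app V c)) = f.app V c • D.app (op (f ⁻¹ᵁ V)) (one _) := by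
    intro V c
    refine TopCat.Presheaf.section_ext (⟨G.presheaf, G.isSheaf⟩ : TopCat.Sheaf Ab X) _ _ _ fun x hx => ?_
    change Groth.Agent.PullStalk.Sky.germM G (f ⁻¹ᵁ V) x hx _ = Groth.Agent.PullStalk.Sky.germM G (f ⁻¹ᵁ V) x hx _
    rw [← Groth.Agent.Omega.PPOp.stalkD_germ D _ x hx, Groth.Agent.PullStalk.Sky.germM_smul, ← Groth.Agent.Omega.PPOp.stalkD_germ D _ x hx,
      ← Scheme.Hom.germ_stalkMap_apply f V x hx,
      ← Groth.Agent.Omega.PPNec.isBaseLinear_of_isDiffOpLE f hD, Scheme.Hom.germ_stalkMap_apply,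
      ← Groth.Agent.PullStalk.Sky.germM_smul, hstr, mul_one]
  let e1 : ∀ U : X.Opens, Γ(G, U) := fun U => D.app (op U) (one U)
  let Dv : ∀ U : X.Opens, Γ(X, U) → Γ(G, U) := fun U a => D.app (op U) (OmegaSh.strSect X U a)
  have he1 : ∀ {U V : X.Opens} (i : V ⟶ U), G.presheaf.map i.op (e1 U) = e1 V := fun {U V} i => by
    refine (hmap i 1).symm.trans ?_
    rw [map_one]
  let L : Coh.structureModule X ⟶ G :=
    ⟨PresheafOfModules.homMk
      { app := fun U => AddCommGrpCat.ofHom (AddMonoidHom.mk'
          (fun s : Γ(Coh.structureModule X, U.unop) => OmegaSh.fnSect X U.unop s • e1 U.unop)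
          fun a b => (congrArg (· • e1 U.unop) (map_add (OmegaSh.fnSect X U.unop) a b)).trans
            (add_smul (M := Γ(G, U.unop)) _ _ _))
        naturality := fun U V i => by
          ext s
          change X.presheaf.map i.unop.op (OmegaSh.fnSect X U.unop s) • e1 V.unop =
            G.presheaf.map i.unop.op (OmegaSh.fnSect X U.unop s • e1 U.unop)
          rw [Scheme.Modules.map_smul, he1] }
      (fun U r s => by
        change ((show Γ(X, U.unop) from r) * OmegaSh.fnSect X U.unop s) • e1 U.unop = _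
        exact mul_smul (show Γ(X, U.unop) from r) (OmegaSh.fnSect X U.unop s) (e1 U.unop))⟩
  have hL : ∀ (U : X.Opens) (a : Γ(X, U)),
      L.app U (OmegaSh.strSect X U a) = a • D.app (op U) (one U) := fun _ _ => rfl
  let dd : ∀ U : X.Opens, Γ(X, U) → Γ(G, U) := fun U a => Dv U a - a • e1 U
  have hdd_add : ∀ U a b, dd U (a + b) = dd U a + dd U b := fun U a b => by
    simp only [dd, Dv, map_add, add_smul]
    abel
  have hdd_mul : ∀ U (a b : Γ(X, U)), dd U (a * b) = a • dd U b + b • dd U a := fun U a b => by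
    simp only [dd, Dv, e1, eq_sub_iff_add_eq.mpr (h2 U a b), smul_sub, smul_smul, mul_comm b a]
    abel
  have hdd_map : ∀ {U V : X.Opens} (i : V ⟶ U) (a : Γ(X, U)),
      dd V (X.presheaf.map i.op a) = G.presheaf.map i.op (dd U a) := fun {U V} i a => by
    change Dv V _ - _ • e1 V = G.presheaf.map i.op (Dv U a - a • e1 U)
    rw [map_sub, Scheme.Modules.map_smul, he1]
    exact congrArg (· - _) (hmap i a)
  let d : OmegaSh.Der f G :=
    { d := fun {U} => AddMonoidHom.mk' (dd U.unop) (hdd_add U.unop)
      d_mul := fun {U} a b => hdd_mul U.unop a b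
      d_map := fun {U V} i a => hdd_map i.unop a
      d_app := fun {V} c => sub_eq_zero.mpr (hbase V.unop c) }
  have hd : ∀ (U : X.Opens) (a : Γ(X, U)),
      d.app U a = D.app (op U) (OmegaSh.strSect X U a) - a • D.app (op U) (one U) := fun _ _ => rfl
  refine ⟨(L, d), fun U a => by rw [hL, hd, add_sub_cancel], fun p hp => ?_⟩
  have h1 : ∀ U : X.Opens, p.1.app U (one U) = D.app (op U) (one U) := fun U => by
    rw [hp U 1, show p.2.app U 1 = 0 from p.2.d_one (op U), add_zero]
  have hp1 : ∀ (U : X.Opens) (a : Γ(X, U)),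
      p.1.app U (OmegaSh.strSect X U a) = L.app U (OmegaSh.strSect X U a) := fun U a => by
    rw [hL, ← h1, ← Scheme.Modules.Hom.app_smul, hstr, mul_one]
  refine Prod.ext ?_ (Groth.Agent.Omega.Basic.der_ext fun U a => ?_)
  · ext U s
    exact hp1 U (OmegaSh.fnSect X U s)
  · rw [hd, hp U a, hp1, hL, add_sub_cancel_left]

end Groth.Agent.S5961
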