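import Groth.Statements.S5965
import Mathlib.AlgebraicGeometry.Morphisms.Finite

set_option autoImplicit false
universe u
open CategoryTheory CategoryTheory.Limits AlgebraicGeometry TopologicalSpace Opposite
open Nrm16

namespace Groth.Agent.S5965

/-- Let g : X ⟶ Y be a morphism locally of finite type with a section f : Y ⟶ X which is a closed
immersion. Then for every n the n-th infinitesimal neighbourhood of Y in X, mapped to Y through its
inclusion into X followed by g, is finite over Y. (The published statement allows any section f and
says that the structure sheaf of the neighbourhood is a quasi-coherent O_Y-algebra which is an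
O_Y-module of finite type; this row assumes f a closed immersion and states the conclusion as
finiteness of the morphism to Y.) -/
theorem result {X Y : Scheme.{u}} (g : X ⟶ Y) [LocallyOfFiniteType g] (f : Y ⟶ X)
    [IsClosedImmersion f] (hf : f ≫ g = 𝟙 Y) (n : ℕ) :
    IsFinite (PrinPart.infNbhdι f n ≫ g) := by
  let t := PrinPart.toInfNbhd f n
  let p := PrinPart.infNbhdι f n ≫ g
  have htp : t ≫ p = 𝟙 Y := by rw [← Category.assoc, PrinPart.toInfNbhd_ι, hf]
  have hts : Function.Surjective t := PrinPart.toInfNbhd_surjective f n
  let h : (PrinPart.infNbhd f n : Scheme.{u}) ≃ₜ Y :=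
    { toFun := p
      invFun := t
      left_inv := fun z => by
        obtain ⟨y, rfl⟩ := hts z
        exact congrArg _ (congr($htp y))
      right_inv := fun y => congr($htp y)
      continuous_toFun := p.continuous
      continuous_invFun := t.continuous }
  have : IsAffineHom p := isAffineHom_of_isInducing p h.isInducing h.isClosedEmbedding.isClosed_range
  have : IsClosedImmersion (PrinPart.infNbhdι f n) :=
    inferInstanceAs (IsClosedImmersion (f.ker ^ (n + 1)).subschemeι)
  have : LocallyOfFiniteType p := inferInstanceAs (LocallyOfFiniteType (PrinPart.infNbhdι f n ≫ g))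
  have : Surjective t := ⟨hts⟩
  have : UniversallyClosed (t ≫ p) := by rw [htp]; infer_instance
  have : UniversallyClosed p := UniversallyClosed.of_comp_surjective t p
  refine (IsFinite.iff_isIntegralHom_and_locallyOfFiniteType (f := p)).mpr ⟨?_, inferInstance⟩
  exact IsIntegralHom.iff_universallyClosed_and_isAffineHom.mpr ⟨inferInstance, inferInstance⟩

end Groth.Agent.S5965
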