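import Groth.Statements.S5969
import Mathlib.AlgebraicGeometry.IdealSheaf.Functorial

set_option autoImplicit false
universe u
open CategoryTheory CategoryTheory.Limits AlgebraicGeometry TopologicalSpace Opposite
open Nrm16

namespace Groth.Agent.S5969

/-- Let f : X ⟶ S be a morphism of schemes and n a natural number. On the order-n infinitesimal
thickening of the diagonal of f there is an endomorphism σ which is compatible, under the immersion
into X ×_S X, with the symmetry exchanging the two factors; σ is an involution, it exchanges the two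
projections to X (so it exchanges the two O_X-algebra structures of P^n_{X/S}) and it fixes the
diagonal section. -/
theorem result {X S : Scheme.{u}} (f : X ⟶ S) (n : ℕ) :
    ∃ σ : PrinPart.nbhd f n ⟶ PrinPart.nbhd f n,
      σ ≫ PrinPart.nbhdι f n = PrinPart.nbhdι f n ≫ (pullbackSymmetry f f).hom ∧
      σ ≫ σ = 𝟙 (PrinPart.nbhd f n) ∧
      σ ≫ PrinPart.pr1 f n = PrinPart.pr2 f n ∧ σ ≫ PrinPart.pr2 f n = PrinPart.pr1 f n ∧
      PrinPart.toNbhd f n ≫ σ = PrinPart.toNbhd f n := by
  let s : pullback f f ⟶ pullback f f := (pullbackSymmetry f f).hom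
  let Δ := pullback.diagonal f
  have hΔs : Δ ≫ s = Δ := pullback.hom_ext (by simp [s, Δ]) (by simp [s, Δ])
  have hs1 : s ≫ pullback.fst f f = pullback.snd f f := pullbackSymmetry_hom_comp_fst f f
  have hs2 : s ≫ pullback.snd f f = pullback.fst f f := pullbackSymmetry_hom_comp_snd f f
  have hss : s ≫ s = 𝟙 _ := pullback.hom_ext (by rw [Category.assoc, hs1, hs2, Category.id_comp])
    (by rw [Category.assoc, hs2, hs1, Category.id_comp])
  have hrange : s ⁻¹' Set.range Δ = Set.range Δ := by
    ext z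
    constructor
    · rintro ⟨x, hx⟩
      exact ⟨x, by rw [← congr($hΔs x), Scheme.Hom.comp_apply, hx, ← Scheme.Hom.comp_apply, hss]; rfl⟩
    · rintro ⟨x, rfl⟩
      exact ⟨x, (congr($hΔs x)).symm⟩
  have hU : s ⁻¹ᵁ Δ.coborderRange = Δ.coborderRange := by
    apply TopologicalSpace.Opens.ext
    change s ⁻¹' coborder (Set.range Δ) = coborder (Set.range Δ)
    refine Set.Subset.antisymm ?_ ?_
    · exact (s.continuous.preimage_coborder_subset _).trans_eq (congrArg coborder hrange)
    · conv_lhs => rw [← hrange]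
      exact (Scheme.homeoOfIso (pullbackSymmetry f f)).isOpenMap.coborder_preimage_subset _
  let sU : (Δ.coborderRange : Scheme.{u}) ⟶ Δ.coborderRange := s.resLE _ _ hU.ge
  have hsU : sU ≫ Δ.coborderRange.ι = Δ.coborderRange.ι ≫ s := Scheme.Hom.resLE_comp_ι _ _
  have hdsU : PrinPart.diagCl f ≫ sU = PrinPart.diagCl f := by
    rw [← cancel_mono Δ.coborderRange.ι, Category.assoc, hsU, ← Category.assoc,
      show PrinPart.diagCl f ≫ Δ.coborderRange.ι = Δ from Δ.liftCoborder_ι, hΔs]
  have : IsIso sU := ⟨sU, by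
    constructor <;> rw [← cancel_mono Δ.coborderRange.ι, Category.assoc, hsU, ← Category.assoc, hsU,
      Category.assoc, hss, Category.comp_id, Category.id_comp]⟩
  let I := (PrinPart.diagCl f).ker
  let ι := PrinPart.infNbhdι (PrinPart.diagCl f) n
  have : IsClosedImmersion ι := inferInstanceAs (IsClosedImmersion (I ^ (n + 1)).subschemeι)
  have hker : ι.ker ≤ (ι ≫ sU).ker := fun W => by
    rw [show ι.ker = I ^ (n + 1) from Scheme.IdealSheafData.ker_subschemeι (I := I ^ (n + 1)), Scheme.Hom.ker_apply]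
    have h1 : I.ideal W = RingHom.ker ((PrinPart.diagCl f ≫ sU).app W).hom := by
      rw [← Scheme.Hom.ker_apply, hdsU]
    intro a ha
    have h2 : I.ideal W ≤ (I.ideal ⟨sU ⁻¹ᵁ W, W.2.preimage sU⟩).comap (sU.app W).hom := by
      intro b hb
      rw [Ideal.mem_comap, show I.ideal ⟨sU ⁻¹ᵁ W, W.2.preimage sU⟩ =
        RingHom.ker ((PrinPart.diagCl f).app (sU ⁻¹ᵁ W)).hom from Scheme.Hom.ker_apply _ _]
      rw [h1] at hb
      exact hb
    have h3 : sU.app W a ∈ (I ^ (n + 1)).ideal ⟨sU ⁻¹ᵁ W, W.2.preimage sU⟩ :=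
      Ideal.le_comap_pow _ _ (Ideal.pow_right_mono h2 _ ha)
    rw [← show ι.ker = I ^ (n + 1) from Scheme.IdealSheafData.ker_subschemeι (I := I ^ (n + 1)),
      Scheme.Hom.ker_apply] at h3
    exact h3
  let σ := IsClosedImmersion.lift ι (ι ≫ sU) hker
  have hσι : σ ≫ ι = ι ≫ sU := IsClosedImmersion.lift_fac _ _ _
  have hσ : σ ≫ PrinPart.nbhdι f n = PrinPart.nbhdι f n ≫ s := by
    change σ ≫ ι ≫ Δ.coborderRange.ι = (ι ≫ Δ.coborderRange.ι) ≫ s
    rw [← Category.assoc σ, hσι, Category.assoc, hsU, Category.assoc]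
  have : Mono (PrinPart.nbhdι f n) := inferInstanceAs (Mono (ι ≫ Δ.coborderRange.ι))
  refine ⟨σ, hσ, ?_, ?_, ?_, ?_⟩
  · rw [← cancel_mono (PrinPart.nbhdι f n), Category.assoc, hσ, ← Category.assoc, hσ, Category.assoc, hss,
      Category.comp_id, Category.id_comp]
  · rw [PrinPart.pr1, PrinPart.pr2, ← Category.assoc, hσ, Category.assoc, hs1]
  · rw [PrinPart.pr1, PrinPart.pr2, ← Category.assoc, hσ, Category.assoc, hs2]
  · rw [← cancel_mono (PrinPart.nbhdι f n), Category.assoc, hσ, ← Category.assoc, PrinPart.toNbhd_ι]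
    exact hΔs

end Groth.Agent.S5969
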