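import Groth.Statements.S5967
import Groth.Agent.S5969
import Groth.Agent.Omega.PPTop
import Groth.Agent.KFlat.FlatPull
import Groth.Agent.QCoh.Pullback
import Groth.Agent.HomShEval.Reflexive

set_option autoImplicit false
universe u
open CategoryTheory CategoryTheory.Limits AlgebraicGeometry TopologicalSpace Opposite
open Nrm16

namespace Groth.Agent.S5967

/-- Let f : X ⟶ S be a morphism of schemes and n a natural number, and assume that P^n_{X/S} is a flat
O_X-module for its left structure. Then the functor F ↦ P^n_{X/S}(F) on O_X-modules preserves finite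
limits (so it is exact). -/
theorem result {X S : Scheme.{u}} (f : X ⟶ S) (n : ℕ)
    (hP : FlatMod.IsFlat (PrinPart.P f n)) :
    PreservesFiniteLimits
      ((Scheme.Modules.pullback (PrinPart.pr2 f n)) ⋙ (Scheme.Modules.pushforward (PrinPart.pr1 f n))) := by
  let N := PrinPart.nbhd f n
  let p := PrinPart.pr1 f n
  let M := (Scheme.Modules.pullback (PrinPart.pr2 f n)).obj (Coh.structureModule X)
  let η : M ≅ Coh.structureModule N := Groth.Agent.QCoh.pullbackUnitIso (PrinPart.pr2 f n)
  have hp : Flat p := Flat.of_stalkMap p fun z => by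
    algebraize [(p.stalkMap z).hom]
    let G := (Scheme.Modules.pushforward p).obj M
    let : Module (X.presheaf.stalk (p z)) (M.presheaf.stalk z) := FlatMod.moduleStalkOver p M z
    let e := TopCat.Presheaf.stalkPushforward AddCommGrpCat p.base M.presheaf z
    have he : Function.Bijective e := Groth.Agent.ClUnit.stalkPushforward_bijective p M
      (Groth.Agent.Omega.PPTop.prHomeo f n _ (PrinPart.toNbhd_pr1 f n)).isInducing z
    let l : G.presheaf.stalk (p z) →ₗ[X.presheaf.stalk (p z)] M.presheaf.stalk z :=
      { toFun := e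
        map_add' := map_add _
        map_smul' := fun r m => by
          obtain ⟨V, hV, r, rfl⟩ := X.presheaf.exists_germ_eq (x := p z) r
          obtain ⟨U, hU, m, rfl⟩ := Groth.Agent.PullStalk.Sky.exists_germM_eq G (p z) m
          have hW : p z ∈ U ⊓ V := ⟨hU, hV⟩
          change e _ = p.stalkMap z _ • e _
          rw [← X.presheaf.germ_res_apply (homOfLE (inf_le_right : U ⊓ V ≤ V)) (p z) hW,
            show Groth.Agent.PullStalk.Sky.germM G U (p z) hU m =
              Groth.Agent.PullStalk.Sky.germM G (U ⊓ V) (p z) hW (G.presheaf.map (homOfLE inf_le_left).op m) from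
              (G.presheaf.germ_res_apply (homOfLE inf_le_left) (p z) hW m).symm,
            ← Groth.Agent.PullStalk.Sky.germM_smul, RingHom.id_apply, Scheme.Hom.germ_stalkMap_apply]
          refine (TopCat.Presheaf.stalkPushforward_germ_apply AddCommGrpCat p.base M.presheaf (U ⊓ V) z hW _).trans ?_
          refine Eq.trans ?_ (congrArg _ (TopCat.Presheaf.stalkPushforward_germ_apply AddCommGrpCat p.base M.presheaf (U ⊓ V) z hW _)).symm
          exact Groth.Agent.PullStalk.Sky.germM_smul M (p ⁻¹ᵁ (U ⊓ V)) z hW _ _ }
    let e₁ := LinearEquiv.ofBijective l he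
    let l₂ := Groth.Agent.PullStalk.Exact.stalkLin η.hom z
    let e₂ : M.presheaf.stalk z →ₗ[X.presheaf.stalk (p z)] N.presheaf.stalk z :=
      { toFun := fun m => (Groth.Agent.HomShEval.Reflexive.structureStalkEquiv z).symm (l₂ m)
        map_add' := fun a b => by rw [map_add, map_add]
        map_smul' := fun r m => by
          change (Groth.Agent.HomShEval.Reflexive.structureStalkEquiv z).symm (l₂ (p.stalkMap z r • m)) = p.stalkMap z r * _
          rw [map_smul, map_smul]
          rfl }
    have hl₂ : Function.Bijective l₂ := by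
      refine Function.bijective_iff_has_inverse.mpr ⟨Groth.Agent.PullStalk.Exact.stalkLin η.inv z,
        fun m => ?_, fun m => ?_⟩
      · obtain ⟨U, hU, m, rfl⟩ := Groth.Agent.PullStalk.Sky.exists_germM_eq M z m
        rw [Groth.Agent.PullStalk.Exact.stalkLin_germ, Groth.Agent.PullStalk.Exact.stalkLin_germ]
        exact congrArg _ congr(Scheme.Modules.Hom.app $(η.hom_inv_id) U m)
      · obtain ⟨U, hU, m, rfl⟩ := Groth.Agent.PullStalk.Sky.exists_germM_eq (Coh.structureModule N) z m
        rw [Groth.Agent.PullStalk.Exact.stalkLin_germ, Groth.Agent.PullStalk.Exact.stalkLin_germ]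
        exact congrArg _ congr(Scheme.Modules.Hom.app $(η.inv_hom_id) U m)
    have he₂ : Function.Bijective e₂ :=
      (Groth.Agent.HomShEval.Reflexive.structureStalkEquiv z).symm.bijective.comp hl₂
    have : Module.Flat (X.presheaf.stalk (p z)) (G.presheaf.stalk (p z)) := hP (p z)
    exact Module.Flat.of_linearEquiv (e₁.trans (LinearEquiv.ofBijective e₂ he₂)).symm
  obtain ⟨σ, -, hσσ, hσ1, -, -⟩ := Groth.Agent.S5969.result f n
  have : IsIso σ := ⟨σ, hσσ, hσσ⟩
  have : Flat (PrinPart.pr2 f n) := by rw [← hσ1]; infer_instance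
  have : PreservesFiniteLimits (Scheme.Modules.pullback (PrinPart.pr2 f n)) := inferInstance
  have : PreservesLimitsOfSize.{0, 0} (Scheme.Modules.pushforward (PrinPart.pr1 f n)) :=
    (Scheme.Modules.pullbackPushforwardAdjunction _).rightAdjoint_preservesLimits
  infer_instance

end Groth.Agent.S5967
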