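import Groth.Statements.S5972
import Groth.Agent.Omega.PPIso

set_option autoImplicit false
universe u
open CategoryTheory CategoryTheory.Limits AlgebraicGeometry TopologicalSpace Opposite
open Nrm16

namespace Groth.Agent.S5972

/-- Let A → B be a ring homomorphism, X = Spec B, S = Spec A with f : X ⟶ S the induced morphism, and n
a natural number; identify B with the ring of global functions on X through the canonical
isomorphism. If ψ : B ⊗_A B → Γ(X, P^n_{X/S}) is the additive map with ψ(b ⊗ b') = b · d^n(b') for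
all b, b' in B, then ψ is surjective with kernel the (n+1)-st power of the kernel I of the
multiplication map B ⊗_A B → B. -/
theorem result (A B : Type u) [CommRing A] [CommRing B] [Algebra A B] (n : ℕ)
    (ψ : TensorProduct A B B →+
      Γ(PrinPart.P (Spec.map (CommRingCat.ofHom (algebraMap A B))) n, (⊤ : (Spec (CommRingCat.of B)).Opens)))
    (hψ : ∀ b b' : B, ψ (b ⊗ₜ[A] b') =
      (Scheme.ΓSpecIso (CommRingCat.of B)).inv b •
        PrinPart.dn (Spec.map (CommRingCat.ofHom (algebraMap A B))) n ⊤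
          ((Scheme.ΓSpecIso (CommRingCat.of B)).inv b')) :
    Function.Surjective ψ ∧ ψ.ker = (KaehlerDifferential.ideal A B ^ (n + 1)).toAddSubgroup := by
  let f := Spec.map (CommRingCat.ofHom (algebraMap A B))
  let Δ := Limits.pullback.diagonal f
  have : IsClosedImmersion Δ := inferInstance
  have hU : Δ.coborderRange = ⊤ :=
    TopologicalSpace.Opens.ext (coborder_eq_univ_iff.mpr Δ.isClosedEmbedding.isClosed_range)
  have hUι : IsIso Δ.coborderRange.ι := by rw [hU]; exact Scheme.topIso _ |>.isIso_hom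
  let e := pullbackSpecIso A B B
  let G := (Scheme.ΓSpecIso (CommRingCat.of (TensorProduct A B B))).inv ≫ e.hom.appTop
  have hie : IsIso e.hom.appTop := inferInstanceAs (IsIso (e.hom.app ⊤))
  have hG : Function.Bijective G :=
    ConcreteCategory.bijective_of_isIso ((Scheme.ΓSpecIso (CommRingCat.of (TensorProduct A B B))).inv ≫ e.hom.appTop)
  have nat : ∀ {R R' : CommRingCat.{u}} (q : R ⟶ R') (r : R),
      (Spec.map q).appTop ((Scheme.ΓSpecIso R).inv r) = (Scheme.ΓSpecIso R').inv (q r) := fun q r =>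
    congr($(Scheme.ΓSpecIso_inv_naturality q) r).symm
  have hfst : ∀ b : B, (Limits.pullback.fst f f).appTop ((Scheme.ΓSpecIso (CommRingCat.of B)).inv b) =
      G (b ⊗ₜ[A] 1) := fun b => by
    rw [← pullbackSpecIso_hom_fst A B B, Scheme.Hom.comp_appTop]
    exact congrArg e.hom.appTop (nat (CommRingCat.ofHom (Algebra.TensorProduct.includeLeftRingHom (R := A) (A := B) (B := B))) b)
  have hsnd : ∀ b : B, (Limits.pullback.snd f f).appTop ((Scheme.ΓSpecIso (CommRingCat.of B)).inv b) =
      G (1 ⊗ₜ[A] b) := fun b => by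
    rw [← pullbackSpecIso_hom_snd A B B, Scheme.Hom.comp_appTop]
    exact congrArg e.hom.appTop (nat (CommRingCat.ofHom (Algebra.TensorProduct.includeRight : B →ₐ[A] TensorProduct A B B).toRingHom) b)
  have hdiag : ∀ y, Δ.appTop (G y) =
      (Scheme.ΓSpecIso (CommRingCat.of B)).inv (Algebra.TensorProduct.lmul' A y) := fun y => by
    induction y using TensorProduct.induction_on with
    | zero => simp
    | tmul b c =>
      rw [show b ⊗ₜ[A] c = b ⊗ₜ[A] (1 : B) * ((1 : B) ⊗ₜ[A] c) by simp, map_mul, map_mul, map_mul, ← hfst,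
        ← hsnd, Algebra.TensorProduct.lmul'_apply_tmul, Algebra.TensorProduct.lmul'_apply_tmul, mul_one, one_mul,
        map_mul]
      refine congr_arg₂ (· * ·) ?_ ?_
      · exact (congr($(Scheme.Hom.comp_appTop Δ (Limits.pullback.fst f f)) _)).symm.trans
          (by rw [Limits.pullback.diagonal_fst]; simp)
      · exact (congr($(Scheme.Hom.comp_appTop Δ (Limits.pullback.snd f f)) _)).symm.trans
          (by rw [Limits.pullback.diagonal_snd]; simp)
    | add x y hx hy => simp only [map_add, hx, hy]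
  let cl := PrinPart.diagCl f
  let ι := PrinPart.infNbhdι cl n
  have hι : IsClosedImmersion ι := inferInstanceAs (IsClosedImmersion (cl.ker ^ (n + 1)).subschemeι)
  let U := (Δ.coborderRange : Scheme.{u})
  have hiι : IsIso Δ.coborderRange.ι.appTop := inferInstanceAs (IsIso (Δ.coborderRange.ι.app ⊤))
  have hUb : Function.Bijective Δ.coborderRange.ι.appTop := ConcreteCategory.bijective_of_isIso _
  have hUaff : IsAffine U := IsAffine.of_isIso Δ.coborderRange.ι
  let K := (KaehlerDifferential.ideal A B)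
  let Φ : TensorProduct A B B →+* Γ(U, ⊤) := Δ.coborderRange.ι.appTop.hom.comp G.hom
  have hΦ : Function.Bijective Φ := hUb.comp hG
  have hclK : (cl.ker.ideal ⟨⊤, isAffineOpen_top U⟩).comap Φ = K := by
    ext y
    rw [Ideal.mem_comap, Scheme.Hom.ker_apply, RingHom.mem_ker]
    change cl.appTop (Δ.coborderRange.ι.appTop (G y)) = 0 ↔ y ∈ RingHom.ker _
    rw [← CommRingCat.comp_apply, ← Scheme.Hom.comp_appTop, show cl ≫ Δ.coborderRange.ι = Δ from Δ.liftCoborder_ι,
      hdiag, RingHom.mem_ker]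
    exact map_eq_zero_iff _ (ConcreteCategory.bijective_of_isIso _).1
  let Ψ : TensorProduct A B B →+* Γ(PrinPart.nbhd f n, ⊤) := ι.appTop.hom.comp Φ
  have hΨs : Function.Surjective Ψ :=
    ((IsClosedImmersion.isAffine_surjective_of_isAffine (f := ι)).2).comp hΦ.2
  have hΨk : RingHom.ker Ψ = K ^ (n + 1) := by
    rw [← RingHom.comap_ker, show RingHom.ker ι.appTop.hom = cl.ker.ideal ⟨⊤, isAffineOpen_top U⟩ ^ (n + 1) from
      (Scheme.Hom.ker_apply ι ⟨⊤, isAffineOpen_top U⟩).symm.trans
        (congrArg (fun J => Scheme.IdealSheafData.ideal J ⟨⊤, isAffineOpen_top U⟩)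
          (Scheme.IdealSheafData.ker_subschemeι (I := cl.ker ^ (n + 1))))]
    let eΦ := RingEquiv.ofBijective Φ hΦ
    refine ((Ideal.map_symm (f := eΦ)).symm).trans ?_
    rw [Ideal.map_pow, Ideal.map_symm, ← hclK]
    rfl
  let M := (Scheme.Modules.pullback (PrinPart.pr2 f n)).obj (Coh.structureModule (Spec (CommRingCat.of B)))
  let η := Groth.Agent.QCoh.pullbackUnitIso (PrinPart.pr2 f n)
  let E : Γ(PrinPart.P f n, ⊤) →+ Γ(PrinPart.nbhd f n, ⊤) :=
    (OmegaSh.fnSect _ _).comp (η.hom.app ⊤).hom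
  have hEinj : Function.Injective E := fun a b h => by
    have h' : η.hom.app ⊤ a = η.hom.app ⊤ b := h
    have := congrArg (η.inv.app ⊤) h'
    have e1 := fun c => congr(Scheme.Modules.Hom.app $(η.hom_inv_id) ⊤ c)
    exact (e1 a).symm.trans (this.trans (e1 b))
  have hEψ : ∀ y, E (ψ y) = Ψ y := fun y => by
    induction y using TensorProduct.induction_on with
    | zero => rw [map_zero, map_zero, map_zero]
    | tmul b c =>
      rw [hψ]
      have h1 : E (PrinPart.dn f n ⊤ ((Scheme.ΓSpecIso (CommRingCat.of B)).inv c)) = Ψ (1 ⊗ₜ[A] c) := by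
        have h2 := Groth.Agent.Omega.PPIso.pullbackUnitIso_hom_app (PrinPart.pr2 f n) ⊤
          ((Scheme.ΓSpecIso (CommRingCat.of B)).inv c)
        have h3 : PrinPart.dn f n ⊤ ((Scheme.ΓSpecIso (CommRingCat.of B)).inv c) =
            OmegaSh.pullSect (PrinPart.pr2 f n) (Coh.structureModule _) ⊤
              (OmegaSh.strSect _ ⊤ ((Scheme.ΓSpecIso (CommRingCat.of B)).inv c)) :=
          ConcreteCategory.congr_hom (M.presheaf.map_id _) _
        rw [h3]
        refine h2.trans ?_
        change (PrinPart.pr2 f n).appTop _ = _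
        rw [PrinPart.pr2, Scheme.Hom.comp_appTop, CommRingCat.comp_apply, hsnd, PrinPart.nbhdι, Scheme.Hom.comp_appTop]
        rfl
      have h4 : (PrinPart.pr1 f n).appTop ((Scheme.ΓSpecIso (CommRingCat.of B)).inv b) = Ψ (b ⊗ₜ[A] 1) := by
        rw [PrinPart.pr1, Scheme.Hom.comp_appTop, CommRingCat.comp_apply, hfst, PrinPart.nbhdι, Scheme.Hom.comp_appTop]
        rfl
      rw [show b ⊗ₜ[A] c = b ⊗ₜ[A] (1 : B) * ((1 : B) ⊗ₜ[A] c) by simp, map_mul, ← h1, ← h4]
      exact Scheme.Modules.Hom.app_smul η.hom ((PrinPart.pr1 f n).appTop _) _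
    | add x y hx hy => rw [map_add, map_add, map_add, hx, hy]
  refine ⟨fun s => ?_, ?_⟩
  · obtain ⟨y, hy⟩ := hΨs (E s)
    exact ⟨y, hEinj ((hEψ y).trans hy)⟩
  · ext y
    rw [AddMonoidHom.mem_ker, Submodule.mem_toAddSubgroup, ← hΨk, RingHom.mem_ker, ← hEψ]
    exact (map_eq_zero_iff E hEinj).symm

end Groth.Agent.S5972
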