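import Groth.Statements.S5977
import Groth.Agent.Omega.PPGen

set_option autoImplicit false
universe u
open CategoryTheory CategoryTheory.Limits AlgebraicGeometry TopologicalSpace Opposite
open Nrm16

namespace Groth.Agent.S5977

/-- Let f : Y ⟶ Z be a morphism and j : X ⟶ Y a closed immersion, and let φ : j^* P^n_{Y/Z} ⟶ P^n_{X/Z}
be the canonical O_X-linear map of sheaves of principal parts of order n, the one sending the
pullback of d^n b to d^n (j♯ b). Then φ is an epimorphism. (The published statement also identifies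
the kernel of φ as the ideal generated by the pullback of d^n of the ideal of j; this row states the
surjectivity.) -/
theorem result {X Y Z : Scheme.{u}} (f : Y ⟶ Z) (j : X ⟶ Y) [IsClosedImmersion j] (n : ℕ)
    (φ : (Scheme.Modules.pullback j).obj (PrinPart.P f n) ⟶ PrinPart.P (j ≫ f) n)
    (hφ : PrinPart.IsPMap f (j ≫ f) j n φ) :
    Epi φ := by
  refine Preadditive.epi_of_cancel_zero φ fun {G} q hq => Groth.Agent.Omega.PPGen.hom_ext_dP (j ≫ f) n _ fun U t => ?_
  obtain ⟨s, rfl⟩ : ∃ s, OmegaSh.strSect X U s = t := ⟨t, rfl⟩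
  have key : ∀ (W : Y.Opens) (b : Γ(Y, W)), q.app (j ⁻¹ᵁ W) (PrinPart.dn (j ≫ f) n (j ⁻¹ᵁ W) (j.app W b)) = 0 := by
    intro W b
    have h := congr($(hq).app (j ⁻¹ᵁ W) (OmegaSh.pullSect j (PrinPart.P f n) W (PrinPart.dn f n W b)))
    change q.app (j ⁻¹ᵁ W) (φ.app (j ⁻¹ᵁ W) _) = _ at h
    rw [hφ W b] at h
    exact h
  refine TopCat.Presheaf.section_ext (⟨G.presheaf, G.isSheaf⟩ : TopCat.Sheaf Ab X) U _ _ fun x hx => ?_
  obtain ⟨a, ha⟩ := j.stalkMap_surjective x (X.presheaf.germ U x hx s)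
  obtain ⟨W, hW, b, rfl⟩ := Y.presheaf.exists_germ_eq (x := j x) a
  rw [Scheme.Hom.germ_stalkMap_apply] at ha
  obtain ⟨V, hxV, i₁, i₂, he⟩ := X.presheaf.germ_eq x (show x ∈ j ⁻¹ᵁ W from hW) hx _ _ ha
  let D : ∀ A : X.Opens, Γ(X, A) → Γ(G, A) := fun A c => q.app A (PrinPart.dn (j ≫ f) n A c)
  have hD : ∀ (A B : X.Opens) (i : B ⟶ A) (c : Γ(X, A)),
      G.presheaf.map i.op (D A c) = D B (X.presheaf.map i.op c) := fun A B i c => by
    refine (NatTrans.naturality_apply q.mapPresheaf i.op _).symm.trans (congrArg (q.app B) ?_)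
    exact (PrinPart.dP_map (j ≫ f) n _ i.le _).symm
  change (G.presheaf.germ U x hx) (D U s) = (G.presheaf.germ U x hx) 0
  rw [← G.presheaf.germ_res_apply i₂ x hxV (D U s), hD, ← he, ← hD,
    show D (j ⁻¹ᵁ W) (j.app W b) = 0 from key W b, map_zero, map_zero, map_zero]

end Groth.Agent.S5977
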