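import Groth.Statements.S5978
import Groth.Agent.Omega.PPNec
import Groth.Agent.Omega.DiagUniv

set_option autoImplicit false
universe u
open CategoryTheory CategoryTheory.Limits AlgebraicGeometry TopologicalSpace Opposite
open Nrm16

namespace Groth.Agent.S5978

open scoped Groth.Agent.Omega.PPOp

/-- Let f : X ⟶ S be a quasi-separated morphism, Ω_{X/S} its sheaf of differentials (the conormal sheaf
of the diagonal) with its derivation d, e : O_X ⟶ P^1_{X/S} the O_X-linear map s ↦ s·1 and ι :
Ω_{X/S} ⟶ P^1_{X/S} the O_X-linear map with ι(d s) = d^1 s − s·1 for every local function s. Then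
the map O_X ⊕ Ω_{X/S} ⟶ P^1_{X/S} induced by e and ι is an isomorphism of O_X-modules for the left
structure of P^1_{X/S}; in other words Ω_{X/S} is identified with the augmentation ideal of
P^1_{X/S} and d s = d^1 s − s. (The published text takes this as the definition of Ω_{X/S} for every
f; here Ω_{X/S} is the conormal sheaf of the diagonal, formed for quasi-separated f, and the
identification is stated.) -/
theorem result {X S : Scheme.{u}} (f : X ⟶ S) [QuasiSeparated f]
    (e : Coh.structureModule X ⟶ PrinPart.P f 1)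
    (he : ∀ (U : X.Opens) (s : Γ(X, U)), e.app U (OmegaSh.strSect X U s) = s • PrinPart.dn f 1 U 1)
    (ι : Omega.sheaf f ⟶ PrinPart.P f 1)
    (hι : ∀ (U : X.Opens) (s : Γ(X, U)),
      ι.app U ((OmegaSh.dOmega f).app U s) = PrinPart.dn f 1 U s - s • PrinPart.dn f 1 U 1) :
    IsIso (coprod.desc e ι) := by
  let Q := Coh.structureModule X ⨿ Omega.sheaf f
  let i₁ : Coh.structureModule X ⟶ Q := coprod.inl
  let i₂ : Omega.sheaf f ⟶ Q := coprod.inr
  let d := OmegaSh.dOmega f
  let h : ∀ U : X.Opens, Γ(Coh.structureModule X, U) →+ Γ(Q, U) := fun U =>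
    (i₁.app U).hom + ((i₂.app U).hom.comp ((d.app U).comp (OmegaSh.fnSect X U)))
  let D : (Coh.structureModule X).presheaf ⟶ Q.presheaf :=
    { app := fun U => AddCommGrpCat.ofHom (h U.unop)
      naturality := fun U V i => by
        ext t
        change i₁.app V.unop ((Coh.structureModule X).presheaf.map i.unop.op t) +
            i₂.app V.unop (d.app V.unop (X.presheaf.map i.unop.op (OmegaSh.fnSect X U.unop t))) =
          Q.presheaf.map i.unop.op (i₁.app U.unop t + i₂.app U.unop (d.app U.unop (OmegaSh.fnSect X U.unop t)))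
        rw [map_add, Groth.Agent.Omega.Basic.der_map]
        exact congr_arg₂ (· + ·) (NatTrans.naturality_apply i₁.mapPresheaf i.unop.op t)
          (NatTrans.naturality_apply i₂.mapPresheaf i.unop.op _) }
  have hfn : ∀ (U : X.Opens) (a : Γ(X, U)) (t : Γ(Coh.structureModule X, U)),
      OmegaSh.fnSect X U (a • t) = a * OmegaSh.fnSect X U t := fun U a t => rfl
  have happ : ∀ (U : X.Opens) (t : Γ(Coh.structureModule X, U)),
      D.app (op U) t = i₁.app U t + i₂.app U (d.app U (OmegaSh.fnSect X U t)) := fun U t => rfl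
  have hsmul : ∀ (U : X.Opens) (a : Γ(X, U)) (t : Γ(Coh.structureModule X, U)),
      D.app (op U) (a • t) = a • D.app (op U) t + OmegaSh.fnSect X U t • i₂.app U (d.app U a) := by
    intro U a t
    rw [happ, happ, hfn, Groth.Agent.Omega.Basic.der_mul, map_add, Scheme.Modules.Hom.app_smul,
      Scheme.Modules.Hom.app_smul, Scheme.Modules.Hom.app_smul, smul_add, add_assoc]
  obtain ⟨u, hu⟩ : PrinPart.IsDiffOpLE f (Coh.structureModule X) Q 1 D := by
    refine Groth.Agent.Omega.PPOp.exists_factor f 1 D
      (Groth.Agent.Omega.PPNec.isBaseLinear_of_sections f fun V s U hU t => ?_)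
      (Groth.Agent.Omega.PPNec.stalkOrdLE_of_sectOrdLE fun U a b t => ?_)
    · have hz : d.app U (X.presheaf.map (homOfLE hU).op (f.app V s)) = 0 :=
        Groth.Agent.Omega.Basic.der_appLE d V U hU s
      rw [hsmul, hz, map_zero, smul_zero, add_zero]
    · have hc : ∀ t, Diff16.commutator Groth.Agent.Omega.PPOp.Zu.{u} Γ(X, U) _ _
          (Groth.Agent.Omega.PPNec.secD D U) a t = OmegaSh.fnSect X U t • i₂.app U (d.app U a) := by
        intro t
        rw [Groth.Agent.Diff16.comm_apply]
        change D.app (op U) (a • t) - a • D.app (op U) t = _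
        rw [hsmul, add_sub_cancel_left]
      rw [hc, hc, hfn, mul_smul]
  have hu' : ∀ (U : X.Opens) (s : Γ(X, U)),
      u.app U (PrinPart.dn f 1 U s) = i₁.app U (OmegaSh.strSect X U s) + i₂.app U (d.app U s) :=
    fun U s => (hu U (OmegaSh.strSect X U s)).symm
  have hone : ∀ U : X.Opens, u.app U (PrinPart.dn f 1 U 1) = i₁.app U (OmegaSh.strSect X U 1) := fun U => by
    rw [hu', Groth.Agent.Omega.Basic.der_one, map_zero, add_zero]
  have hstr : ∀ (U : X.Opens) (s : Γ(X, U)),
      s • i₁.app U (OmegaSh.strSect X U 1) = i₁.app U (OmegaSh.strSect X U s) := fun U s => by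
    rw [← Scheme.Modules.Hom.app_smul]
    exact congrArg (i₁.app U) (congrArg (OmegaSh.strSect X U) (mul_one s))
  refine ⟨⟨u, coprod.hom_ext ?_ ?_, Groth.Agent.Omega.PPGen.hom_ext_dP f 1 _ fun U t => ?_⟩⟩
  · rw [coprod.inl_desc_assoc, Category.comp_id]
    ext U s
    obtain ⟨s, rfl⟩ : ∃ s', OmegaSh.strSect X U s' = s := ⟨s, rfl⟩
    change u.app U (e.app U (OmegaSh.strSect X U s)) = i₁.app U (OmegaSh.strSect X U s)
    rw [he, Scheme.Modules.Hom.app_smul, hone, hstr]
  · rw [coprod.inr_desc_assoc, Category.comp_id]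
    refine Groth.Agent.Omega.Basic.hom_ext_of_universal (Groth.Agent.Omega.DiagUniv.isUniversal_dOmega f)
      fun U s => ?_
    change u.app U (ι.app U (d.app U s)) = i₂.app U (d.app U s)
    rw [hι, map_sub, Scheme.Modules.Hom.app_smul, hone, hstr, hu', add_sub_cancel_left]
  · obtain ⟨s, rfl⟩ : ∃ s', OmegaSh.strSect X U s' = t := ⟨t, rfl⟩
    change (coprod.desc e ι).app U (u.app U (PrinPart.dn f 1 U s)) = PrinPart.dn f 1 U s
    rw [hu', map_add]
    change (i₁ ≫ coprod.desc e ι).app U _ + (i₂ ≫ coprod.desc e ι).app U _ = _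
    rw [coprod.inl_desc, coprod.inr_desc, he, hι, add_sub_cancel]

end Groth.Agent.S5978
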