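import Groth.Statements.S5979
import Groth.Agent.Omega.PPNec

set_option autoImplicit false
universe u
open CategoryTheory CategoryTheory.Limits AlgebraicGeometry TopologicalSpace Opposite
open Nrm16

namespace Groth.Agent.S5979

open scoped Groth.Agent.Omega.PPOp

/-- Let f : X ⟶ S be a morphism of schemes and F an O_X-module. For every open U of X the canonical
operator d^0 : Γ(U, F) ⟶ Γ(U, P^0_{X/S}(F)) is bijective; so P^0_{X/S}(F) is identified with F, and
P^0_{X/S} with O_X, through d^0. -/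
theorem result {X S : Scheme.{u}} (f : X ⟶ S) (F : X.Modules) (U : X.Opens) :
    Function.Bijective (PrinPart.dP f 0 F U) := by
  have hlin : ∀ (V : X.Opens) (a : Γ(X, V)) (t : Γ(F, V)),
      PrinPart.dP f 0 F V (a • t) = a • PrinPart.dP f 0 F V t := fun V a t => by
    have h0 := Groth.Agent.Omega.PPNec.prod_delta_eq_zero f 0 V fun _ => a
    rw [Fin.prod_univ_one, sub_eq_zero] at h0
    exact ((Groth.Agent.Omega.PPNec.dP_smul f 0 V a t).trans
      (congrArg (· • Groth.Agent.Omega.PPNec.dPN f 0 F V t) h0))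
  obtain ⟨v, hv⟩ : PrinPart.IsDiffOpLE f F F 0 (𝟙 F.presheaf) :=
    Groth.Agent.Omega.PPOp.exists_factor f 0 _ (Groth.Agent.Omega.PPNec.isBaseLinear_of_sections f fun _ _ _ _ _ => rfl)
      (Groth.Agent.Omega.PPNec.stalkOrdLE_of_sectOrdLE fun _ _ _ => rfl)
  let d : F ⟶ PrinPart.PMod f 0 F :=
    ⟨PresheafOfModules.homMk (PrinPart.dPHom f 0 F) fun V a t => hlin V.unop a t⟩
  have hvd : v ≫ d = 𝟙 _ := Groth.Agent.Omega.PPGen.hom_ext_dP f 0 F fun V t => by
    change d.app V (v.app V (PrinPart.dP f 0 F V t)) = PrinPart.dP f 0 F V t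
    rw [← hv V t]
    rfl
  refine ⟨Function.LeftInverse.injective (g := v.app U) fun t => (hv U t).symm,
    Function.RightInverse.surjective (g := v.app U) fun w => ?_⟩
  exact congr(Scheme.Modules.Hom.app $hvd U w)

end Groth.Agent.S5979
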