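import Groth.Statements.S5981
import Groth.Agent.Omega.PPGen

set_option autoImplicit false
universe u
open CategoryTheory CategoryTheory.Limits AlgebraicGeometry TopologicalSpace Opposite
open Nrm16

namespace Groth.Agent.S5981

/-- Let f : X ⟶ Y and g : Y ⟶ Z be morphisms of schemes and n a natural number, and let φ : (𝟙_X)^*
P^n_{X/Z} ⟶ P^n_{X/Y} be the canonical O_X-linear map of sheaves of principal parts of order n, the
one sending the pullback of d^n b (relative to Z) to d^n b (relative to Y) for every local function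
b. Then φ is an epimorphism. (The published statement also describes the kernel as the ideal
generated by the image of the augmentation ideal of f^* P^n_{Y/Z}; this row states the
surjectivity.) -/
theorem result {X Y Z : Scheme.{u}} (f : X ⟶ Y) (g : Y ⟶ Z) (n : ℕ)
    (φ : (Scheme.Modules.pullback (𝟙 X)).obj (PrinPart.P (f ≫ g) n) ⟶ PrinPart.P f n)
    (hφ : PrinPart.IsPMap (f ≫ g) f (𝟙 X) n φ) :
    Epi φ := by
  refine Preadditive.epi_of_cancel_zero φ fun {G} q hq => Groth.Agent.Omega.PPGen.hom_ext_dP f n _ fun U t => ?_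
  obtain ⟨b, rfl⟩ : ∃ b, OmegaSh.strSect X U b = t := ⟨t, rfl⟩
  have h := congr($(hq).app U (OmegaSh.pullSect (𝟙 X) (PrinPart.P (f ≫ g) n) U (PrinPart.dn (f ≫ g) n U b)))
  change q.app U (φ.app U _) = _ at h
  have e : φ.app U (OmegaSh.pullSect (𝟙 X) (PrinPart.P (f ≫ g) n) U (PrinPart.dn (f ≫ g) n U b)) =
      PrinPart.dn f n U b := hφ U b
  rw [e] at h
  exact h

end Groth.Agent.S5981
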