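import Groth.Statements.S5982
import Groth.Agent.LimTR12.WeakReg
import Groth.Agent.S4758
import Groth.Agent.S4764
-- import your own Groth.Agent.* helpers here

set_option autoImplicit false
universe u
open CategoryTheory AlgebraicGeometry
open CInt

namespace Groth.Agent.S5982

/-- Let S = lim S_i be a cofiltered limit of schemes with affine, flat transition maps, such that either
every S_i is locally Noetherian or every transition map is surjective; let S_{i₀} be a quasi-compact
stage and f_1, …, f_n global sections of the structure sheaf of S_{i₀}. Then the images of the f_k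
form a regular sequence for the structure sheaf of S (that is, a weakly regular sequence in Γ(U,
O_S) for every affine open U of S; no condition on the last quotient) if and only if, for some index
j over i₀, their images form a regular sequence for the structure sheaf of S_j in the same sense.
This is the case of the structure sheaf. -/
theorem result {I : Type u} [SmallCategory I] [IsCofiltered I]
    (D : I ⥤ Scheme.{u}) (c : Limits.Cone D) (hc : Limits.IsLimit c)
    [∀ (i j : I) (f : i ⟶ j), IsAffineHom (D.map f)]
    (hflat : ∀ (i j : I) (f : i ⟶ j), Flat (D.map f))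
    (hcase : (∀ i : I, IsLocallyNoetherian (D.obj i)) ∨
      ∀ (i j : I) (f : i ⟶ j), Surjective (D.map f))
    (i₀ : I) [CompactSpace (D.obj i₀)] (fs : List Γ(D.obj i₀, ⊤)) :
    (∀ U : c.pt.affineOpens, RingTheory.Sequence.IsWeaklyRegular Γ(c.pt, U.1)
        (fs.map (fun f => (c.pt.presheaf.map (homOfLE (le_top : U.1 ≤ ⊤)).op).hom ((c.π.app i₀).appTop.hom f)))) ↔
      ∃ (j : I) (φ : j ⟶ i₀), ∀ U : (D.obj j).affineOpens,
        RingTheory.Sequence.IsWeaklyRegular Γ(D.obj j, U.1)
          (fs.map (fun f => ((D.obj j).presheaf.map (homOfLE (le_top : U.1 ≤ ⊤)).op).hom ((D.map φ).appTop.hom f))) := by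
  have hflat' : ∀ i, Flat (c.π.app i) := fun i => S4764.result D c hc i fun j φ => hflat j i φ
  haveI := hflat' i₀
  have key : ∀ {T : Scheme.{u}} (g : T ⟶ D.obj i₀),
      (∀ U : T.affineOpens, RingTheory.Sequence.IsWeaklyRegular Γ(T, U.1)
        (fs.map (fun f => (T.presheaf.map (homOfLE (le_top : U.1 ≤ ⊤)).op).hom (g.appTop.hom f)))) ↔
      ∀ x, LimTR12.WeakReg.WRAt (fs.map fun f => g.appTop.hom f) x := by
    intro T g
    constructor
    · intro h x
      obtain ⟨U, hU, hxU, -⟩ := exists_isAffineOpen_mem_and_subset (U := (⊤ : T.Opens)) (x := x) trivial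
      refine (LimTR12.WeakReg.wr_iff hU _).1 ?_ x hxU
      simp only [LimTR12.WeakReg.resL, List.map_map]
      exact h ⟨U, hU⟩
    · intro h U
      have h1 := (LimTR12.WeakReg.wr_iff U.2 _).2 fun x _ => h x
      simp only [LimTR12.WeakReg.resL, List.map_map] at h1
      exact h1
  refine (key (c.π.app i₀)).trans ?_
  rw [LimTR12.WeakReg.iff_exists_stage hc hflat (hcase.imp (fun h => h i₀)
    (fun h => (S4758.result D c hc i₀).2 fun j φ => h j i₀ φ)) hflat' fs]
  exact ⟨fun ⟨j, hj⟩ => ⟨j.left, j.hom, (key _).2 hj⟩, fun ⟨j, φ, hj⟩ => ⟨Over.mk φ, (key _).1 hj⟩⟩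

end Groth.Agent.S5982
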