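import Groth.Statements.S5983
import Groth.Agent.LimTR12.Reg
import Groth.Agent.S4758
import Groth.Agent.S4764
-- import your own Groth.Agent.* helpers here

set_option autoImplicit false
universe u
open CategoryTheory AlgebraicGeometry
open CInt

namespace Groth.Agent.S5983

/-- Let S = lim S_i be a cofiltered limit of schemes with affine, flat transition maps, S_{i₀} a stage
and j₀ : X₀ ⟶ S_{i₀} an immersion with X₀ quasi-compact; assume either that every S_i is locally
Noetherian, or that every transition map is surjective and j₀ is locally of finite presentation.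
Then the base change X₀ ×_{S_{i₀}} S ⟶ S of j₀ is a regular immersion if and only if, for some index
j over i₀, the base change X₀ ×_{S_{i₀}} S_j ⟶ S_j is a regular immersion. -/
theorem result {I : Type u} [SmallCategory I] [IsCofiltered I]
    (D : I ⥤ Scheme.{u}) (c : Limits.Cone D) (hc : Limits.IsLimit c)
    [∀ (i j : I) (f : i ⟶ j), IsAffineHom (D.map f)]
    (hflat : ∀ (i j : I) (f : i ⟶ j), Flat (D.map f))
    (i₀ : I) {X₀ : Scheme.{u}} (j₀ : X₀ ⟶ D.obj i₀) [CompactSpace X₀] [IsImmersion j₀]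
    (hcase : (∀ i : I, IsLocallyNoetherian (D.obj i)) ∨
      ((∀ (i j : I) (f : i ⟶ j), Surjective (D.map f)) ∧ LocallyOfFinitePresentation j₀)) :
    RegImm.IsRegularImmersion RegImm.Kind.regular (Limits.pullback.snd j₀ (c.π.app i₀)) ↔
      ∃ (j : I) (φ : j ⟶ i₀),
        RegImm.IsRegularImmersion RegImm.Kind.regular (Limits.pullback.snd j₀ (D.map φ)) := by
  have hflat' : ∀ i, Flat (c.π.app i) := fun i => S4764.result D c hc i fun j φ => hflat j i φ
  have hfg : ∀ V₀ : (D.obj i₀).Opens, IsAffineOpen V₀ → IsClosedImmersion (j₀ ∣_ V₀) →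
      (RingHom.ker (j₀.app V₀).hom).FG := fun V₀ hV₀ hcl => by
    haveI := hcl
    rcases hcase with hN | ⟨-, hlfp⟩
    · haveI := hN i₀
      haveI : IsNoetherianRing Γ(D.obj i₀, V₀) := IsLocallyNoetherian.component_noetherian ⟨V₀, hV₀⟩
      exact IsNoetherian.noetherian _
    · haveI := hlfp
      have h1 : (j₀.appLE V₀ (j₀ ⁻¹ᵁ V₀) le_rfl).hom.FinitePresentation :=
        HasRingHomProperty.appLE @LocallyOfFinitePresentation j₀ ‹_› ⟨V₀, hV₀⟩
          ⟨_, RegImm44.isAffineOpen_preimage j₀ hV₀⟩ le_rfl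
      rw [← Scheme.Hom.app_eq_appLE] at h1
      letI := (j₀.app V₀).hom.toAlgebra
      haveI : Algebra.FinitePresentation Γ(D.obj i₀, V₀) Γ(X₀, j₀ ⁻¹ᵁ V₀) := h1
      exact Algebra.FinitePresentation.ker_fG_of_surjective (Algebra.ofId Γ(D.obj i₀, V₀) Γ(X₀, j₀ ⁻¹ᵁ V₀))
        (RegImm44.app_surjective j₀ hV₀)
  rw [LimTR12.Reg.regularImmersion_iff_exists_stage hc hflat hflat' j₀ hfg
    (hcase.imp id fun h i => (S4758.result D c hc i).2 fun j φ => h.1 j i φ)]
  exact ⟨fun ⟨j, hj⟩ => ⟨j.left, j.hom, hj⟩, fun ⟨j, φ, hj⟩ => ⟨Over.mk φ, hj⟩⟩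

end Groth.Agent.S5983
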