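import Groth.Statements.S5985
import Groth.Agent.EtStruct.QFinPts
import Groth.Agent.EtStruct.LocalImm
import Mathlib
-- import your own Groth.Agent.* helpers here

set_option autoImplicit false
universe u
open CategoryTheory AlgebraicGeometry
open Unram

namespace Groth.Agent.S5985

open AlgebraicGeometry CategoryTheory CategoryTheory.Limits Groth.Agent.Wt

set_option backward.isDefEq.respectTransparency false

theorem isFinite_sup {P U : Scheme.{u}} (q : P ⟶ U) [IsSeparated q] [LocallyOfFiniteType q]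
    (W₁ W₂ : P.Opens) (h₁ : IsFinite (W₁.ι ≫ q)) (h₂ : IsFinite (W₂.ι ≫ q)) :
    IsFinite ((W₁ ⊔ W₂).ι ≫ q) := by
  let l := P.homOfLE (le_sup_left : W₁ ≤ W₁ ⊔ W₂)
  let r := P.homOfLE (le_sup_right : W₂ ≤ W₁ ⊔ W₂)
  have hsurj : Surjective (coprod.desc l r) := ⟨fun ⟨x, hx⟩ ↦ by
    rcases hx with hx | hx
    · refine ⟨(coprod.inl : W₁.toScheme ⟶ _) ⟨x, hx⟩, ?_⟩
      rw [← Scheme.Hom.comp_apply, coprod.inl_desc]
      exact (W₁ ⊔ W₂).ι.isOpenEmbedding.injective (by simp [l, ← Scheme.Hom.comp_apply])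
    · refine ⟨(coprod.inr : W₂.toScheme ⟶ _) ⟨x, hx⟩, ?_⟩
      rw [← Scheme.Hom.comp_apply, coprod.inr_desc]
      exact (W₁ ⊔ W₂).ι.isOpenEmbedding.injective (by simp [r, ← Scheme.Hom.comp_apply])⟩
  have h : IsFinite (coprod.desc l r ≫ (W₁ ⊔ W₂).ι ≫ q) := by
    rw [show coprod.desc l r ≫ (W₁ ⊔ W₂).ι ≫ q = coprod.desc (W₁.ι ≫ q) (W₂.ι ≫ q) by
      ext <;> simp [l, r]]
    infer_instance
  have : UniversallyClosed ((W₁ ⊔ W₂).ι ≫ q) := .of_comp_surjective (coprod.desc l r) _
  have : IsProper ((W₁ ⊔ W₂).ι ≫ q) := {}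
  have : LocallyQuasiFinite ((W₁ ⊔ W₂).ι ≫ q) := by
    rw [locallyQuasiFinite_iff_finite_preimage_singleton]
    intro u
    have := h
    refine (((coprod.desc l r ≫ (W₁ ⊔ W₂).ι ≫ q).finite_preimage_singleton u).image
      (coprod.desc l r)).subset fun x hx ↦ ?_
    obtain ⟨y, rfl⟩ := hsurj.1 x
    exact ⟨y, hx, rfl⟩
  exact .of_isProper_of_locallyQuasiFinite _

/-- Let f : X ⟶ Y be separated and locally of finite type, and y a point of Y whose fibre f⁻¹(y) is
finite (hence discrete). Then there are an étale morphism g : Y' ⟶ Y, a point y' of Y' with g(y') =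
y inducing an isomorphism of residue fields κ(y) ≅ κ(y'), and two complementary open subschemes V, W
of X' = X ×_Y Y' such that V ⟶ Y' is finite and W contains no point of X' lying over y'. -/
theorem result {X Y : Scheme.{u}} (f : X ⟶ Y)
    [LocallyOfFiniteType f] [IsSeparated f] (y : Y) (hfin : (f ⁻¹' {y}).Finite) :
    ∃ (Y' : Scheme.{u}) (g : Y' ⟶ Y) (y' : Y'), Etale g ∧ g y' = y ∧
      IsIso (g.residueFieldMap y') ∧
      ∃ (V W : (Limits.pullback f g).Opens), IsCompl V W ∧
        IsFinite (V.ι ≫ Limits.pullback.snd f g) ∧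
        ∀ x : ↥(Limits.pullback f g), Limits.pullback.snd f g x = y' → x ∈ V := by
  have hqf : ∀ x ∈ f ⁻¹' {y}, f.QuasiFiniteAt x := by
    intro x hx
    rw [Scheme.Hom.quasiFiniteAt_iff_isOpen_singleton_asFiber]
    have : Finite (f.fiber (f x)) := by
      have : Finite (f ⁻¹' {f x}) := by
        rw [Set.mem_preimage, Set.mem_singleton_iff] at hx
        rw [hx]
        exact hfin.to_subtype
      exact Finite.of_equiv _ (f.fiberHomeo (f x)).symm.toEquiv
    have : DiscreteTopology (f.fiber (f x)) := inferInstance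
    exact isOpen_discrete _
  have := hfin.to_subtype
  obtain ⟨Y', g, y', hn, W, z, h⟩ := Parts.exists_finParts f y (f ⁻¹' {y} : Set X) (fun i ↦ i.1)
    (fun i ↦ i.2) (fun i ↦ hqf _ i.2)
  have := hn.etale
  let q := pullback.snd f g
  obtain ⟨V, hV, hVW⟩ : ∃ V : (pullback f g).Opens, IsFinite (V.ι ≫ q) ∧ ∀ i, W i ≤ V := by
    classical
    suffices hall : ∀ s : Finset ↥(f ⁻¹' {y}), ∃ V : (pullback f g).Opens,
        IsFinite (V.ι ≫ q) ∧ ∀ i ∈ s, W i ≤ V by
      have := Fintype.ofFinite ↥(f ⁻¹' {y})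
      obtain ⟨V, h₁, h₂⟩ := hall Finset.univ
      exact ⟨V, h₁, fun i ↦ h₂ i (Finset.mem_univ i)⟩
    intro s
    induction s using Finset.induction_on with
    | empty =>
      have : IsEmpty ((⊥ : (pullback f g).Opens).toScheme) := ⟨fun x ↦ x.2⟩
      have : IsClosedImmersion ((⊥ : (pullback f g).Opens).ι ≫ q) :=
        .of_isPreimmersion _ (by simp [Set.range_eq_empty])
      exact ⟨⊥, inferInstance, by simp⟩
    | insert a s _ ih =>
      obtain ⟨V, h₁, h₂⟩ := ih
      refine ⟨W a ⊔ V, isFinite_sup q _ _ (h a).1.finite h₁, fun i hi ↦ ?_⟩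
      rcases Finset.mem_insert.mp hi with rfl | hi
      · exact le_sup_left
      · exact (h₂ i hi).trans le_sup_right
  have hclosed : IsClosed (V : Set ↥(pullback f g)) := by
    have : IsFinite V.ι := .of_comp _ q
    have h1 := V.ι.isClosedMap.isClosed_range
    rwa [Scheme.Opens.range_ι] at h1
  refine ⟨Y', g, y', inferInstance, hn.base_eq,
    (ConcreteCategory.isIso_iff_bijective _).mpr hn.residue_bijective, V, ⟨_, hclosed.isOpen_compl⟩,
    ?_, hV, fun w hw ↦ ?_⟩
  · simp [isCompl_iff, disjoint_iff, codisjoint_iff, SetLike.ext'_iff]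
  · have hfw : f (pullback.fst f g w) = y := by
      rw [← Scheme.Hom.comp_apply, pullback.condition, Scheme.Hom.comp_apply, hw, hn.base_eq]
    let i : ↥(f ⁻¹' {y}) := ⟨_, hfw⟩
    obtain ⟨z₀, -, huniq⟩ := EtNbhd.existsUnique_lift f g (pullback.fst f g w) y'
      (hfw.trans hn.base_eq.symm) hn.residue_bijective
    have : z i = w :=
      (huniq (z i) (h i).2 (h i).1.map_eq).trans (huniq w rfl hw).symm
    exact hVW i (this ▸ (h i).1.mem)

end Groth.Agent.S5985
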