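import Groth.Statements.S5987
import Groth.Agent.RelDim.CMFibre

set_option autoImplicit false
universe u
open EGA418

namespace Groth.Agent.S5987

section

open RingTheory.Sequence

/-- Cutting by an element avoiding the minimal primes drops the dimension. -/
lemma dim_succ_le {A : Type u} [CommRing A] (I : Ideal A) (r : A) (h : ∀ q ∈ I.minimalPrimes, r ∉ q) :
    ringKrullDim (A ⧸ (I ⊔ Ideal.span {r})) + 1 ≤ ringKrullDim (A ⧸ I) := by
  by_cases htop : I ⊔ Ideal.span {r} = ⊤
  · haveI : Subsingleton (A ⧸ (I ⊔ Ideal.span {r})) := Ideal.Quotient.subsingleton_iff.2 htop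
    rw [ringKrullDim_eq_bot_of_subsingleton]
    simp
  have hIne : I ≠ ⊤ := fun e => htop (by rw [e, top_sup_eq])
  have : Nonempty (PrimeSpectrum.zeroLocus (R := A) ((I ⊔ Ideal.span {r} : Ideal A) : Set A)) := by
    rwa [Set.nonempty_coe_sort, Set.nonempty_iff_ne_empty, ne_eq, PrimeSpectrum.zeroLocus_empty_iff_eq_top]
  have : Nonempty (PrimeSpectrum.zeroLocus (R := A) (I : Set A)) := by
    rwa [Set.nonempty_coe_sort, Set.nonempty_iff_ne_empty, ne_eq, PrimeSpectrum.zeroLocus_empty_iff_eq_top]
  rw [ringKrullDim_quotient, ringKrullDim_quotient, Order.krullDim_eq_iSup_length, Order.krullDim_eq_iSup_length,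
    ← WithBot.coe_one, ← WithBot.coe_add, ENat.iSup_add, WithBot.coe_le_coe, iSup_le_iff]
  intro l
  have hI : I ≤ l.head.1.asIdeal := le_sup_left.trans (show I ⊔ Ideal.span {r} ≤ _ from l.head.2)
  have hr : r ∈ l.head.1.asIdeal :=
    (show I ⊔ Ideal.span {r} ≤ l.head.1.asIdeal from l.head.2) (Ideal.mem_sup_right (Ideal.mem_span_singleton_self r))
  obtain ⟨q, hq, hle⟩ := Ideal.exists_minimalPrimes_le hI
  let q' : PrimeSpectrum.zeroLocus (R := A) (I : Set A) := ⟨⟨q, hq.1.1⟩, hq.1.2⟩
  let f : PrimeSpectrum.zeroLocus (R := A) ((I ⊔ Ideal.span {r} : Ideal A) : Set A) →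
      PrimeSpectrum.zeroLocus (R := A) (I : Set A) := fun z => ⟨z.1, le_sup_left.trans (show I ⊔ Ideal.span {r} ≤ _ from z.2)⟩
  have hlt : q' < f l.head := by
    refine lt_of_le_of_ne hle fun e => h q hq ?_
    have e' : q = l.head.1.asIdeal := congrArg (fun z => z.1.asIdeal) e
    rw [e']
    exact hr
  have hf : StrictMono f := fun a b hab => (hab : a.1 < b.1)
  refine le_trans ?_ (le_iSup _ ((l.map f hf).cons q' hlt))
  show (l.length : ℕ∞) + 1 ≤ ((0 + l.length + 1 : ℕ) : ℕ∞)
  simp

/-- Davis' lemma for the minimal primes of an ideal. -/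
lemma exists_add_notMem {A : Type u} [CommRing A] [IsNoetherianRing A] (I 𝔞 : Ideal A) (b : A)
    (h : ∀ q ∈ I.minimalPrimes, b ∈ q → ¬ 𝔞 ≤ q) :
    ∃ y ∈ 𝔞, ∀ q ∈ I.minimalPrimes, b + y ∉ q := by
  classical
  let S := (Ideal.finite_minimalPrimes_of_isNoetherianRing A I).toFinset
  let J := 𝔞 ⊓ (S.filter fun q => b ∉ q).inf id
  have hnot : ∀ q ∈ (S.filter fun q => b ∈ q : Finset (Ideal A)), ¬ J ≤ q := by
    intro q hq hle
    obtain ⟨hqS, hbq⟩ := Finset.mem_filter.1 hq
    have hq' : q ∈ I.minimalPrimes := (Set.Finite.mem_toFinset _).1 hqS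
    rcases (hq'.1.1.inf_le).1 hle with h1 | h1
    · exact h q hq' hbq h1
    · obtain ⟨q₂, hq₂, h2⟩ := (hq'.1.1.inf_le').1 h1
      obtain ⟨hq₂S, hbq₂⟩ := Finset.mem_filter.1 hq₂
      have hq₂' : q₂ ∈ I.minimalPrimes := (Set.Finite.mem_toFinset _).1 hq₂S
      exact hbq₂ (hq'.2 hq₂'.1 h2 hbq)
  have : ¬ ((J : Set A) ⊆ ⋃ q ∈ (↑(S.filter fun q => b ∈ q) : Set (Ideal A)), (q : Set A)) := fun hsub => by
    obtain ⟨q, hq, hle⟩ := (Ideal.subset_union_prime ⊥ ⊥ (f := fun q : Ideal A => q) (fun q hq _ _ =>
      ((Set.Finite.mem_toFinset _).1 (Finset.mem_filter.1 hq).1 : q ∈ I.minimalPrimes).1.1)).1 hsub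
    exact hnot q hq hle
  obtain ⟨y, hyJ, hy⟩ := Set.not_subset.1 this
  refine ⟨y, hyJ.1, fun q hq hmem => ?_⟩
  have hqS : q ∈ S := (Set.Finite.mem_toFinset _).2 hq
  by_cases hb : b ∈ q
  · exact hy (Set.mem_iUnion₂.2 ⟨q, Finset.mem_filter.2 ⟨hqS, hb⟩, by simpa using q.sub_mem hmem hb⟩)
  · have hyq : y ∈ q := (Finset.inf_le (f := id) (Finset.mem_filter.2 ⟨hqS, hb⟩) : _ ≤ q) hyJ.2
    exact hb (by simpa using q.sub_mem hmem hyq)

end

/-- Let A be a Noetherian local ring and p a prime ideal of A such that the local ring A_p is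
Cohen–Macaulay, of dimension s; let t_1, …, t_s be a system of parameters of A_p (elements of its
maximal ideal such that A_p/(t_1, …, t_s) has dimension 0). Then there are elements x_1, …, x_s of p
which form part of a system of parameters of A, in the sense that dim A/(x_1, …, x_s) + s = dim A,
and elements a_1, …, a_s of A outside p, such that for every i the image of x_i in A_p is congruent
to a_i t_i modulo the ideal (t_1, …, t_{i-1}) A_p. (The published statement asks for the image of
x_i to be congruent to t_i itself; this row allows the factor a_i outside p, which is what the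
published proof gives, since it first multiplies each t_i by a unit of A_p to bring it into the
image of A. The published form fails already for s = 1: for A the localization of k[X, Y] at (X, Y),
p = (X) and t_1 = X/Y, the congruence modulo the zero ideal asks for an element of A with image X/Y
in A_p, and there is none.) -/
theorem result (A : Type u) [CommRing A]
    [IsNoetherianRing A] [IsLocalRing A] (p : Ideal A) [p.IsPrime]
    [LocCoh.IsCohenMacaulayLocalRing (Localization.AtPrime p)] (s : ℕ)
    (hs : ringKrullDim (Localization.AtPrime p) = s) (t : Fin s → Localization.AtPrime p)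
    (ht : ∀ i, t i ∈ IsLocalRing.maximalIdeal (Localization.AtPrime p))
    (hsop : ringKrullDim (Localization.AtPrime p ⧸ Ideal.span (Set.range t)) = 0) :
    ∃ x a : Fin s → A, (∀ i, x i ∈ p) ∧ (∀ i, a i ∉ p) ∧
      ringKrullDim (A ⧸ Ideal.span (Set.range x)) + (s : WithBot ℕ∞) = ringKrullDim A ∧
      ∀ i : Fin s, algebraMap A (Localization.AtPrime p) (x i) -
          algebraMap A (Localization.AtPrime p) (a i) * t i ∈
        Ideal.span (t '' {j : Fin s | j < i}) := by
  classical
  open RingTheory.Sequence in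
  let L := Localization.AtPrime p
  let φ := algebraMap A L
  -- the sequence is regular
  have hreg : IsRegular L (List.ofFn t) := by
    have hof : Ideal.ofList (List.ofFn t) = Ideal.span (Set.range t) := by
      simp only [Ideal.ofList, List.mem_ofFn']
      rfl
    refine (Groth.Agent.RelDim.isRegular_iff_ringKrullDim_le (List.ofFn t) ?_).2 ?_
    · rw [hof, Ideal.span_le]
      rintro _ ⟨i, rfl⟩
      exact ht i
    · rw [hof, hsop, List.length_ofFn, zero_add, hs]
  have hnzd : ∀ i : Fin s, ∀ z : L, t i * z ∈ Ideal.span (t '' {j : Fin s | j < i}) →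
      z ∈ Ideal.span (t '' {j : Fin s | j < i}) := by
    intro i z hz
    have hi : (i : ℕ) < (List.ofFn t).length := by simp
    have hl : Ideal.ofList ((List.ofFn t).take i) = Ideal.span (t '' {j : Fin s | j < i}) := by
      unfold Ideal.ofList
      congr 1
      ext w
      simp only [Set.mem_setOf_eq, Set.mem_image, List.mem_take_iff_getElem, List.getElem_ofFn, List.length_ofFn]
      constructor
      · rintro ⟨j, hj, rfl⟩
        exact ⟨⟨j, by omega⟩, Fin.lt_def.2 (by simp only; omega), rfl⟩
      · rintro ⟨j, hj, rfl⟩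
        exact ⟨j, by have := Fin.lt_def.1 hj; omega, rfl⟩
    have h := hreg.regular_mod_prev i hi
    rw [List.getElem_ofFn, Ideal.smul_eq_mul, Ideal.mul_top] at h
    simp only [Fin.eta] at h
    rw [← hl] at hz ⊢
    rw [← Ideal.Quotient.eq_zero_iff_mem] at hz ⊢
    refine h (show (t i) • Submodule.Quotient.mk z = (t i) • (0 : L ⧸ _) from ?_)
    rw [smul_zero, ← Submodule.Quotient.mk_smul]
    exact hz
  -- representatives
  have hrep : ∀ i, ∃ b u : A, b ∈ p ∧ u ∉ p ∧ φ b = φ u * t i := by
    intro i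
    obtain ⟨⟨b, u⟩, hbu⟩ := IsLocalization.surj p.primeCompl (t i)
    refine ⟨b, u, ?_, u.2, by rw [← hbu, mul_comm]⟩
    rw [← IsLocalization.AtPrime.to_map_mem_maximal_iff L p b, ← hbu]
    exact Ideal.mul_mem_right _ _ (ht i)
  choose b u hb hu hbu using hrep
  -- inductive choice
  have hind : ∀ m, m ≤ s → ∃ x : Fin s → A, (∀ i : Fin s, (i : ℕ) < m → x i ∈ p ∧
      φ (x i) - φ (u i) * t i ∈ Ideal.span (t '' {j : Fin s | j < i})) ∧
      ringKrullDim (A ⧸ Ideal.span (x '' {j : Fin s | (j : ℕ) < m})) + (m : WithBot ℕ∞) ≤ ringKrullDim A ∧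
      (Ideal.span (x '' {j : Fin s | (j : ℕ) < m})).map φ = Ideal.span (t '' {j : Fin s | (j : ℕ) < m}) := by
    intro m
    induction m with
    | zero =>
      intro _
      refine ⟨fun _ => 0, fun i hi => absurd hi (Nat.not_lt_zero _), ?_, ?_⟩
      · simpa using ringKrullDim_quotient_le _
      · simp [Ideal.map_bot]
    | succ m ih =>
      intro hm
      obtain ⟨x, hx, hdim, hmap⟩ := ih (by omega)
      let i : Fin s := ⟨m, hm⟩
      have hset : {j : Fin s | (j : ℕ) < m} = {j : Fin s | j < i} := rfl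
      let I := Ideal.span (x '' {j : Fin s | (j : ℕ) < m})
      let T := Ideal.span (t '' {j : Fin s | (j : ℕ) < m})
      have hIp : I ≤ p := Ideal.span_le.2 (by rintro _ ⟨j, hj, rfl⟩; exact (hx j hj).1)
      obtain ⟨y, hy, hav⟩ := exists_add_notMem I (T.comap φ) (b i) (fun q hq hbq hle => by
        haveI := hq.1.1
        obtain ⟨q', hq', hq'le⟩ := Ideal.exists_minimalPrimes_le hle
        haveI := hq'.1.1
        have hIq' : I ≤ q' := le_trans (Ideal.map_le_iff_le_comap.1 hmap.le) hq'.1.2
        have hqq : q = q' := le_antisymm (hq.2 ⟨hq'.1.1, hIq'⟩ hq'le) hq'le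
        have hqp : q ≤ p := by
          by_contra hqp
          obtain ⟨w, hwq, hwp⟩ := SetLike.not_le_iff_exists.1 hqp
          obtain ⟨z, hz, hwz⟩ := Ideal.exists_mul_mem_of_mem_minimalPrimes (hqq ▸ hq' : q ∈ (T.comap φ).minimalPrimes) hwq
          refine hz ?_
          have hmem : φ w * φ z ∈ T := by rw [← map_mul]; exact hwz
          exact (Ideal.unit_mul_mem_iff_mem T (IsLocalization.map_units L (⟨w, hwp⟩ : p.primeCompl))).1 hmem
        -- a minimal prime of T containing t i
        have hdisj : Disjoint (p.primeCompl : Set A) q := Set.disjoint_left.2 fun w h1 h2 => h1 (hqp h2)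
        have hqL : (q.map φ).IsPrime := IsLocalization.isPrime_of_isPrime_disjoint p.primeCompl L q inferInstance hdisj
        have hTq : T ≤ q.map φ := hmap.ge.trans (Ideal.map_mono hq.1.2)
        have hminT : q.map φ ∈ T.minimalPrimes := by
          refine ⟨⟨hqL, hTq⟩, fun Q hQ hQle => ?_⟩
          have h1 : q ≤ Q.comap φ := hq.2 ⟨hQ.1.comap φ,
            (Ideal.map_le_iff_le_comap.1 (hmap.le.trans hQ.2))⟩ (by
              refine (Ideal.comap_mono hQle).trans ?_
              exact (IsLocalization.under_map_of_isPrime_disjoint p.primeCompl L inferInstance hdisj).le)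
          exact Ideal.map_le_iff_le_comap.2 h1
        obtain ⟨z, hz, htz⟩ := Ideal.exists_mul_mem_of_mem_minimalPrimes hminT (x := t i) (by
          have : φ (u i) * t i ∈ q.map φ := hbu i ▸ Ideal.mem_map_of_mem φ hbq
          exact (Ideal.unit_mul_mem_iff_mem _ (IsLocalization.map_units L (⟨u i, hu i⟩ : p.primeCompl))).1 this)
        exact hz (hnzd i z htz))
      let x' := Function.update x i (b i + y)
      have hx' : ∀ j : Fin s, (j : ℕ) < m → x' j = x j := fun j hj =>
        Function.update_of_ne (fun e => (lt_irrefl m) (by rw [e] at hj; exact hj)) _ _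
      have hS : {j : Fin s | (j : ℕ) < m + 1} = insert i {j : Fin s | (j : ℕ) < m} := by
        ext j; simp only [Set.mem_setOf_eq, Set.mem_insert_iff, Fin.ext_iff, i]; omega
      have hI' : Ideal.span (x' '' {j : Fin s | (j : ℕ) < m + 1}) = I ⊔ Ideal.span {b i + y} := by
        rw [hS, Set.image_insert_eq, show x' '' {j : Fin s | (j : ℕ) < m} = x '' {j : Fin s | (j : ℕ) < m} from
          Set.image_congr hx', show x' i = b i + y from Function.update_self .., Ideal.span_insert, sup_comm]
      refine ⟨x', fun j hj => ?_, ?_, ?_⟩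
      · rcases Nat.lt_succ_iff_lt_or_eq.1 hj with hj | hj
        · rw [hx' j hj]; exact hx j hj
        · obtain rfl : j = i := Fin.ext hj
          rw [show x' i = b i + y from Function.update_self ..]
          refine ⟨p.add_mem (hb i) ?_, ?_⟩
          · rw [← IsLocalization.AtPrime.to_map_mem_maximal_iff L p y]
            exact (Ideal.span_le.2 (by rintro _ ⟨j, -, rfl⟩; exact ht j) : T ≤ _) hy
          · rw [map_add, hbu, add_sub_cancel_left]
            exact hy
      · rw [hI', Nat.cast_add, Nat.cast_one, add_comm (m : WithBot ℕ∞) 1, ← add_assoc]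
        exact le_trans (add_le_add (dim_succ_le I _ hav) le_rfl) hdim
      · rw [hI', Ideal.map_sup, hmap, Ideal.map_span, Set.image_singleton, map_add, hbu, hS,
          Set.image_insert_eq, Ideal.span_insert, sup_comm (Ideal.span {t i})]
        have hy' : φ y ∈ T := hy
        have hu' := IsLocalization.map_units L (⟨u i, hu i⟩ : p.primeCompl)
        refine le_antisymm (sup_le le_sup_left ((Ideal.span_singleton_le_iff_mem _).2
          (Ideal.add_mem _ (Ideal.mem_sup_right (Ideal.mul_mem_left _ _ (Ideal.mem_span_singleton_self _)))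
            (Ideal.mem_sup_left hy')))) (sup_le le_sup_left ((Ideal.span_singleton_le_iff_mem _).2 ?_))
        refine (Ideal.unit_mul_mem_iff_mem _ hu').1 ?_
        have h3 := Ideal.sub_mem (T ⊔ Ideal.span {φ (u i) * t i + φ y})
          (Ideal.mem_sup_right (Ideal.mem_span_singleton_self _)) (Ideal.mem_sup_left hy')
        rwa [add_sub_cancel_right] at h3
  obtain ⟨x, hx, hdim, -⟩ := hind s le_rfl
  have hall : {j : Fin s | (j : ℕ) < s} = Set.univ := Set.eq_univ_of_forall fun j => j.2
  rw [hall, Set.image_univ] at hdim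
  refine ⟨x, u, fun i => (hx i i.2).1, hu, le_antisymm hdim ?_, fun i => (hx i i.2).2⟩
  refine (ringKrullDim_le_ringKrullDim_quotient_add_encard (Set.range x) ?_).trans ?_
  · rw [IsLocalRing.ringJacobson_eq_maximalIdeal]
    rintro _ ⟨i, rfl⟩
    exact IsLocalRing.le_maximalIdeal (Ideal.IsPrime.ne_top') (hx i i.2).1
  · gcongr
    calc ((Set.range x).encard : WithBot ℕ∞) ≤ ((Set.univ : Set (Fin s)).encard : WithBot ℕ∞) := by
          rw [← Set.image_univ]; exact_mod_cast Set.encard_image_le _ _
      _ = (s : WithBot ℕ∞) := by rw [Set.encard_univ, ENat.card_eq_coe_fintype_card, Fintype.card_fin]; rfl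

end Groth.Agent.S5987
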