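import Groth.Statements.S5989
import Groth.Agent.DerExt61.Imperfection
-- import your own Groth.Agent.* helpers here

set_option autoImplicit false
universe u
open scoped TensorProduct
open EGA418

namespace Groth.Agent.S5989

/-- Let k be a field of characteristic p > 0 such that k is finite over its subfield k^p of p-th powers
(the Frobenius endomorphism of k is a finite ring map), C a complete Noetherian local k-algebra
which is an integral domain whose residue field is a finite extension of k, n the dimension of C, L
a fraction field of C and Υ the module of imperfection of L over k (the kernel of L ⊗_k Ω_k ⟶ Ω_L on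
absolute differentials). Then dim_L Ω_{L/k} = n + dim_L Υ, and the module of differentials Ω_{C/k}
is a finitely generated C-module. -/
theorem result (p : ℕ) [Fact p.Prime]
    (k C L : Type u) [Field k] [CharP k p] (hk : (frobenius k p).Finite) [CommRing C] [IsDomain C]
    [IsNoetherianRing C] [IsLocalRing C] [Algebra k C] [IsAdicComplete (IsLocalRing.maximalIdeal C) C]
    [Module.Finite k (IsLocalRing.ResidueField C)] (n : ℕ) (hn : ringKrullDim C = n)
    [Field L] [Algebra C L] [IsFractionRing C L] [Algebra k L] [IsScalarTower k C L] :
    Module.finrank L (Ω[L⁄k]) =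
        n + Module.finrank L (LinearMap.ker (KaehlerDifferential.mapBaseChange ℤ k L)) ∧
      Module.Finite C (Ω[C⁄k]) := by

  obtain ⟨-, hcore⟩ := DerExt61.Imperfection.core (k := k) (C := C) (L := L) n hn
  have hC : Module.Finite C (Ω[C⁄k]) := DerExt61.Imperfection.finite_kaehler p hk
  have hL : Module.Finite L (Ω[L⁄k]) := by
    obtain ⟨N, s, hs⟩ := Module.Finite.exists_fin (R := C) (M := Ω[C⁄k])
    refine ⟨Submodule.fg_def.mpr ⟨_, Set.finite_range fun i => KaehlerDifferential.map k k C L (s i), ?_⟩⟩
    have h := span_eq_top_of_isLocalizedModule L (nonZeroDivisors C) (KaehlerDifferential.map k k C L)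
      (v := Set.range s) hs
    rwa [← Set.range_comp] at h
  obtain ⟨c, hc, hrk, hle⟩ := hcore hL
  obtain rfl : c = n := le_antisymm (hle p hk) hc
  exact ⟨hrk, hC⟩

end Groth.Agent.S5989
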