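import Groth.Statements.S5991
import Groth.Agent.S4558
import Groth.Agent.Adic.Basic
import Mathlib.RingTheory.AdicCompletion.Exactness
import Mathlib.RingTheory.AdicCompletion.Completeness
-- import your own Groth.Agent.* helpers here

set_option autoImplicit false
set_option linter.style.haveILetI false
universe u
open scoped TensorProduct
open EGA418

namespace Groth.Agent.S5991

/-- Let k be a field, R and S complete Noetherian local k-algebras such that the module of differentials
of the residue field of S over k is finite-dimensional, and let S be a finite R-algebra through a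
k-algebra homomorphism R → S. Write m for the maximal ideal of S and complete m-adically. Then the
S-module Ω_{S/R} is m-adically complete (it is its own completion), and the sequence of completed
modules (S ⊗_R Ω_{R/k})^ ⟶ (Ω_{S/k})^ ⟶ (Ω_{S/R})^ ⟶ 0, induced by the canonical maps S ⊗_R Ω_{R/k}
⟶ Ω_{S/k} ⟶ Ω_{S/R}, is exact: the second map is surjective and its kernel is the image of the
first. -/
theorem result (k R S : Type u) [Field k] [CommRing R] [IsNoetherianRing R]
    [IsLocalRing R] [Algebra k R] [IsAdicComplete (IsLocalRing.maximalIdeal R) R]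
    [CommRing S] [IsNoetherianRing S] [IsLocalRing S] [Algebra k S]
    [IsAdicComplete (IsLocalRing.maximalIdeal S) S] [Algebra R S] [IsScalarTower k R S]
    [Module.Finite R S] [Module.Finite (IsLocalRing.ResidueField S) (Ω[IsLocalRing.ResidueField S⁄k])] :
    IsAdicComplete (IsLocalRing.maximalIdeal S) (Ω[S⁄R]) ∧
      Function.Surjective (AdicCompletion.map (IsLocalRing.maximalIdeal S) (KaehlerDifferential.map k R S S)) ∧
      LinearMap.range (AdicCompletion.map (IsLocalRing.maximalIdeal S) (KaehlerDifferential.mapBaseChange k R S)) =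
        LinearMap.ker (AdicCompletion.map (IsLocalRing.maximalIdeal S) (KaehlerDifferential.map k R S S)) := by

  open IsLocalRing in
  classical
  set m := IsLocalRing.maximalIdeal S with hm
  haveI : Module.Finite (S ⧸ m) (Ω[S ⧸ m⁄k]) :=
    (inferInstance : Module.Finite (ResidueField S) (Ω[ResidueField S⁄k]))
  haveI : Module.Finite (S ⧸ m) m.Cotangent :=
    haveI : Module.Finite S m.Cotangent :=
      Module.Finite.of_surjective m.toCotangent (Ideal.toCotangent_surjective _)
    Module.Finite.of_restrictScalars_finite S _ _
  haveI hN := S4558.result (A := k) m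
  have hg := KaehlerDifferential.map_surjective k R S
  have hex := KaehlerDifferential.exact_mapBaseChange_map k R S
  refine ⟨Adic.isAdicComplete_of_finite _, AdicCompletion.map_surjective m hg, le_antisymm ?_ fun x hx => ?_⟩
  · rintro _ ⟨x, rfl⟩
    rw [LinearMap.mem_ker, AdicCompletion.map_comp_apply, hex.linearMap_comp_eq_zero, AdicCompletion.map_zero]
    rfl
  set f := KaehlerDifferential.mapBaseChange k R S
  set g := KaehlerDifferential.map k R S S
  rw [← Submodule.Quotient.mk_eq_zero, ← Submodule.mem_bot S,
    ← Ideal.iInf_pow_smul_eq_bot_of_le_jacobson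
      (M := AdicCompletion m (Ω[S⁄k]) ⧸ LinearMap.range (AdicCompletion.map m f)) m
      (IsAdicComplete.le_jacobson_bot m), Submodule.mem_iInf]
  intro n
  obtain ⟨y, hy⟩ := Submodule.Quotient.mk_surjective _ (x.val n)
  have hgy : g y ∈ (m ^ n • ⊤ : Submodule S (Ω[S⁄R])) := by
    have h := AdicCompletion.map_val_apply m g x (n := n)
    rw [LinearMap.mem_ker.mp hx, ← hy] at h
    exact (Submodule.Quotient.mk_eq_zero _).mp h.symm
  rw [← LinearMap.range_eq_top.mpr hg, ← Submodule.map_top, ← Submodule.map_smul''] at hgy
  obtain ⟨w, hw, hwy⟩ := hgy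
  obtain ⟨z, hz⟩ := (hex (y - w)).mp (by rw [map_sub, hwy, sub_self])
  have h1 : x - AdicCompletion.map m f (AdicCompletion.of m _ z) ∈
      (m ^ n • ⊤ : Submodule S (AdicCompletion m (Ω[S⁄k]))) := by
    rw [AdicCompletion.pow_smul_top_eq_ker_eval (IsNoetherian.noetherian m), LinearMap.mem_ker, map_sub,
      AdicCompletion.map_of, AdicCompletion.eval_apply, AdicCompletion.eval_of, hz, ← hy,
      Submodule.mkQ_apply, ← Submodule.Quotient.mk_sub, sub_sub_cancel, Submodule.Quotient.mk_eq_zero]
    exact hw
  let q := (LinearMap.range (AdicCompletion.map m f)).mkQ.restrictScalars S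
  have h2 : q (x - AdicCompletion.map m f (AdicCompletion.of m _ z)) ∈
      Submodule.map q (m ^ n • ⊤ : Submodule S (AdicCompletion m (Ω[S⁄k]))) := ⟨_, h1, rfl⟩
  rw [Submodule.map_smul'', map_sub, show q (AdicCompletion.map m f (AdicCompletion.of m _ z)) = 0 from
    (Submodule.Quotient.mk_eq_zero _).mpr (LinearMap.mem_range_self _ _), sub_zero] at h2
  exact Submodule.smul_mono le_rfl le_top h2

end Groth.Agent.S5991
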