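import Groth.Statements.S5992
import Groth.Agent.DerExt61.CompTensor
import Groth.Agent.DerExt61.Etale
import Groth.Agent.FBase.PerfectReduced
import Groth.Agent.S2672
import Groth.Agent.S5061
import Groth.Agent.S5074
import Groth.Agent.S5054
import Mathlib
-- import your own Groth.Agent.* helpers here

set_option autoImplicit false
set_option linter.style.haveILetI false
universe u
open scoped TensorProduct
open EGA418

namespace Groth.Agent.S5992


open IsLocalRing

attribute [local instance] Algebra.TensorProduct.rightAlgebra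

theorem mem_of_mem_span {k A P : Type u} [Field k] [CommRing A] [IsLocalRing A] [IsNoetherianRing A] [Algebra k A]
    [Field P] [Algebra k P] (F : Type u) [Field F] [Algebra k F] [Algebra F P] [IsScalarTower k F P] [Module.Finite k F] (x : F ⊗[k] A) (s : Set (F ⊗[k] A))
    (hx : ∀ n, Algebra.TensorProduct.map (IsScalarTower.toAlgHom k F P) (AlgHom.id k A) x ∈
      Ideal.span ((Algebra.TensorProduct.map (IsScalarTower.toAlgHom k F P) (AlgHom.id k A)) '' s) ⊔
        (maximalIdeal A ^ n).map (Algebra.TensorProduct.includeRight : A →ₐ[k] P ⊗[k] A).toRingHom) :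
    x ∈ Ideal.span s := by
  classical
  haveI : Module.Finite A (A ⊗[k] F) := inferInstance
  haveI : Module.Finite A (F ⊗[k] A) :=
    Module.Finite.of_surjective (AlgEquiv.ofRingEquiv (f := (Algebra.TensorProduct.comm k A F).toRingEquiv)
      (fun a => rfl) : A ⊗[k] F ≃ₐ[A] (F ⊗[k] A)).toLinearMap (AlgEquiv.surjective _)
  haveI : IsNoetherianRing (F ⊗[k] A) := IsNoetherianRing.of_finite A (F ⊗[k] A)
  let ιF : (F ⊗[k] A) →ₐ[k] P ⊗[k] A := Algebra.TensorProduct.map (IsScalarTower.toAlgHom k F P) (AlgHom.id k A)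
  obtain ⟨g, hg⟩ := (IsScalarTower.toAlgHom F F P).toLinearMap.exists_leftInverse_of_injective
    (LinearMap.ker_eq_bot.mpr (IsScalarTower.toAlgHom F F P).toRingHom.injective)
  let ρ : P ⊗[k] A →ₗ[F] (F ⊗[k] A) := TensorProduct.AlgebraTensorModule.map g (LinearMap.id : A →ₗ[k] A)
  have hρι : ∀ (t : (F ⊗[k] A)) (z : P ⊗[k] A), ρ (ιF t * z) = t * ρ z := by
    intro t z
    induction t using TensorProduct.induction_on with
    | zero => simp
    | add u v hu hv => rw [map_add, add_mul, map_add, hu, hv, add_mul]
    | tmul c a =>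
      induction z using TensorProduct.induction_on with
      | zero => simp
      | add u v hu hv => rw [mul_add, map_add, hu, hv, map_add, mul_add]
      | tmul y b =>
        show ρ (((algebraMap F P c) ⊗ₜ[k] a) * y ⊗ₜ[k] b) = c ⊗ₜ[k] a * ρ (y ⊗ₜ[k] b)
        rw [Algebra.TensorProduct.tmul_mul_tmul, ← Algebra.smul_def]
        show g (c • y) ⊗ₜ[k] (a * b) = c ⊗ₜ[k] a * (g y ⊗ₜ[k] b)
        rw [map_smul, Algebra.TensorProduct.tmul_mul_tmul, smul_eq_mul]
  have hρ1 : ρ (1 : P ⊗[k] A) = 1 := by
    show g (1 : P) ⊗ₜ[k] (1 : A) = (1 : F) ⊗ₜ[k] (1 : A)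
    rw [show g (1 : P) = (1 : F) from by simpa using LinearMap.congr_fun hg (1 : F)]
  have hρ : ∀ t : (F ⊗[k] A), ρ (ιF t) = t := fun t => by rw [← mul_one (ιF t), hρι, hρ1, mul_one]
  have key : ∀ n, x ∈ Ideal.span s ⊔ (maximalIdeal A).map (algebraMap A (F ⊗[k] A)) ^ n := by
    intro n
    have h := hx n
    rw [Ideal.map, ← Ideal.span_union] at h
    have h2 : ∀ z ∈ Ideal.span ((ιF '' s) ∪
        (Algebra.TensorProduct.includeRight : A →ₐ[k] P ⊗[k] A).toRingHom '' (maximalIdeal A ^ n : Ideal A)),
        ∀ w, ρ (z * w) ∈ Ideal.span s ⊔ (maximalIdeal A).map (algebraMap A (F ⊗[k] A)) ^ n := by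
      intro z hz
      induction hz using Submodule.span_induction with
      | mem z hz =>
        intro w
        rcases hz with ⟨t, ht, rfl⟩ | ⟨a, ha, rfl⟩
        · rw [hρι]
          exact Ideal.mem_sup_left (Ideal.mul_mem_right _ _ (Ideal.subset_span ht))
        · rw [show (Algebra.TensorProduct.includeRight : A →ₐ[k] P ⊗[k] A).toRingHom a = ιF (algebraMap A (F ⊗[k] A) a) from
            by show (1 : P) ⊗ₜ[k] a = ιF ((1 : F) ⊗ₜ[k] a); simp [ιF], hρι, ← Ideal.map_pow]
          exact Ideal.mem_sup_right (Ideal.mul_mem_right _ _ (Ideal.mem_map_of_mem _ ha))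
      | zero => intro w; rw [zero_mul, map_zero]; exact zero_mem _
      | add u v _ _ hu hv => intro w; rw [add_mul, map_add]; exact add_mem (hu w) (hv w)
      | smul r u _ hu => intro w; rw [smul_eq_mul, mul_comm r u, mul_assoc]; exact hu (r * w)
    have h3 := h2 _ h 1
    rwa [mul_one, hρ] at h3
  rw [← Submodule.Quotient.mk_eq_zero, ← Submodule.mem_bot (F ⊗[k] A)]
  rw [← Ideal.iInf_pow_smul_eq_bot_of_le_jacobson (M := (F ⊗[k] A) ⧸ Ideal.span s) ((maximalIdeal A).map (algebraMap A (F ⊗[k] A)))
    (Hensel.map_le_jacobson_bot_of_isIntegral (maximalIdeal_le_jacobson ⊥)), Submodule.mem_iInf]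
  intro n
  obtain ⟨u, hu, v, hv, rfl⟩ := Submodule.mem_sup.mp (key n)
  rw [Submodule.Quotient.mk_add, (Submodule.Quotient.mk_eq_zero (Ideal.span s)).mpr hu, zero_add,
    show (Submodule.Quotient.mk v : (F ⊗[k] A) ⧸ Ideal.span s) = v • Submodule.Quotient.mk (1 : (F ⊗[k] A)) by
      rw [← Submodule.Quotient.mk_smul, smul_eq_mul, mul_one]]
  exact Submodule.smul_mem_smul hv Submodule.mem_top

open Groth.Agent.CAlgA.GeomTensor in
theorem isNoetherianRing_tensor (k A P : Type u) [Field k] [CommRing A] [IsLocalRing A] [IsNoetherianRing A] [Algebra k A]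
    [IsAdicComplete (maximalIdeal A) A] [Module.Finite k (ResidueField A)]
    [Field P] [Algebra k P] [Algebra.IsAlgebraic k P] : IsNoetherianRing (P ⊗[k] A) := by
  classical
  let C := DerExt61.CompTensor.C k A P
  let I := (maximalIdeal A).map (algebraMap A (A ⊗[k] P))
  let Φ : P ⊗[k] A →+* C :=
    (algebraMap (A ⊗[k] P) C).comp (Algebra.TensorProduct.comm k P A).toRingEquiv.toRingHom
  have key : ∀ N : Ideal (P ⊗[k] A), (N.map Φ).comap Φ ≤ N := by
    intro N x hx
    obtain ⟨u, hu, hxu⟩ := Submodule.mem_span_finite_of_mem_span (show Φ x ∈ Ideal.span (Φ '' (N : Set _)) from hx)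
    obtain ⟨w, hwN, rfl⟩ := Finset.subset_set_image_iff.mp hu
    obtain ⟨F, hF, hsub⟩ := exists_finite_sub (k := k) (S := A) (E := P) (insert x (w : Set (P ⊗[k] A))) (w.finite_toSet.insert x)
    obtain ⟨x', hx'⟩ := hsub (Set.mem_insert x _)
    let ιF : F ⊗[k] A →ₐ[k] P ⊗[k] A := Algebra.TensorProduct.map F.val (AlgHom.id k A)
    suffices x' ∈ Ideal.span (ιF ⁻¹' (w : Set (P ⊗[k] A))) by
      rw [← hx']
      have h := Ideal.mem_map_of_mem ιF.toRingHom this
      rw [Ideal.map_span] at h
      exact Ideal.span_le.mpr (by rintro _ ⟨t, ht, rfl⟩; exact hwN ht) h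
    refine mem_of_mem_span (P := P) F x' _ fun n => ?_
    rw [show IsScalarTower.toAlgHom k F P = F.val from rfl, Set.image_preimage_eq_of_subset (fun t ht => hsub (Set.mem_insert_of_mem x ht)), hx']
    have h1 : AdicCompletion.evalₐ I n (Φ x) ∈ (Ideal.span ((w.image Φ : Finset C) : Set C)).map (AdicCompletion.evalₐ I n).toRingHom :=
      Ideal.mem_map_of_mem _ hxu
    rw [Finset.coe_image, ← Ideal.map_span, Ideal.map_map] at h1
    let ev : P ⊗[k] A →+* (A ⊗[k] P) ⧸ I ^ n :=
      (Ideal.Quotient.mk (I ^ n)).comp (Algebra.TensorProduct.comm k P A).toRingEquiv.toRingHom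
    have hev : (AdicCompletion.evalₐ I n).toRingHom.comp Φ = ev :=
      RingHom.ext fun z => AdicCompletion.evalₐ_of I n _
    rw [hev, show AdicCompletion.evalₐ I n (Φ x) = ev x from RingHom.congr_fun hev x, ← Ideal.mem_comap,
      Ideal.comap_map_of_surjective ev (Ideal.Quotient.mk_surjective.comp (AlgEquiv.surjective _))] at h1
    obtain ⟨v, hv, z, hz, hvz⟩ := Submodule.mem_sup.mp h1
    rw [← hvz]
    refine Submodule.add_mem_sup hv ?_
    rw [← RingHom.ker_eq_comap_bot, RingHom.mem_ker] at hz
    have hz' : (Algebra.TensorProduct.comm k P A) z ∈ I ^ n := Ideal.Quotient.eq_zero_iff_mem.mp hz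
    have h2 := Ideal.mem_map_of_mem (Algebra.TensorProduct.comm k P A).symm.toRingEquiv.toRingHom hz'
    rw [← Ideal.map_pow, Ideal.map_map] at h2
    have he : (Algebra.TensorProduct.comm k P A).symm.toRingEquiv.toRingHom.comp (algebraMap A (A ⊗[k] P)) =
        (Algebra.TensorProduct.includeRight : A →ₐ[k] P ⊗[k] A).toRingHom := RingHom.ext fun a => rfl
    rw [he] at h2
    simpa using h2
  have h : WellFoundedGT (Ideal (P ⊗[k] A)) := by
    refine StrictMono.wellFoundedGT (f := fun N : Ideal (P ⊗[k] A) => N.map Φ) ?_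
    refine Monotone.strictMono_of_injective (fun _ _ h => Ideal.map_mono h) fun N N' h => ?_
    exact le_antisymm (Ideal.le_comap_map.trans ((Ideal.comap_mono (le_of_eq h)).trans (key N')))
      (Ideal.le_comap_map.trans ((Ideal.comap_mono (le_of_eq h.symm)).trans (key N)))
  exact isNoetherianRing_iff.2 (isNoetherian_iff'.2 h)

theorem isGeometricallyRegular_generic {F B : Type u} [Field F] [CommRing B] [IsDomain B] [Algebra F B]
    [Algebra.IsGeometricallyReduced F B] : CAlg.IsGeometricallyRegular F (Localization.AtPrime (⊥ : Ideal B)) := by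
  let L := Localization.AtPrime (⊥ : Ideal B)
  have hL : IsField L := by
    haveI : IsFractionRing B L := by
      show IsLocalization (nonZeroDivisors B) L
      have : (⊥ : Ideal B).primeCompl = nonZeroDivisors B := by ext b; simp [Ideal.primeCompl]
      rw [← this]
      infer_instance
    exact (IsFractionRing.toField B : Field L).toIsField
  haveI : IsArtinianRing L := by
    letI := hL.toField
    infer_instance
  refine (S2672.result F L).1.mpr fun K _ _ hfin _ => ?_
  haveI := hfin
  haveI : IsReduced (K ⊗[F] B) := Groth.Agent.FBase.TensorAlgClosed.isReduced_tensor_of_isGeometricallyReduced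
  haveI : IsArtinianRing (K ⊗[F] L) := by
    haveI : IsArtinianRing (L ⊗[F] K) := IsArtinianRing.of_finite L _
    exact (Algebra.TensorProduct.comm F L K).toRingEquiv.isArtinianRing
  haveI : IsReduced (K ⊗[F] L) := by
    let M := (⊥ : Ideal B).primeCompl.map (Algebra.TensorProduct.includeRight (R := F) (A := K) (B := B))
    letI : Algebra (K ⊗[F] B) (K ⊗[F] L) :=
      (Algebra.TensorProduct.map (AlgHom.id F K) (IsScalarTower.toAlgHom F B L)).toRingHom.toAlgebra
    haveI : IsScalarTower K (K ⊗[F] B) (K ⊗[F] L) :=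
      IsScalarTower.of_algebraMap_eq fun x => by simp [RingHom.algebraMap_toAlgebra]
    haveI := IsLocalization.tensorProduct_tensorProduct_right F K (⊥ : Ideal B).primeCompl L
      (by ext; simp [RingHom.algebraMap_toAlgebra])
    exact isReduced_localizationPreserves M (K ⊗[F] L) inferInstance
  refine isRegularRing_iff.mpr fun q _ => ?_
  haveI : IsArtinianRing (Localization.AtPrime q) := inferInstance
  letI : Field (Localization.AtPrime q) :=
    (IsArtinianRing.isField_of_isReduced_of_isLocalRing (Localization.AtPrime q)).toField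
  infer_instance

/-- Let k be a field of characteristic exponent p such that k is finite over its subfield k^p (the
Frobenius endomorphism of k is a finite ring map), and A a complete Noetherian local k-algebra which
is an integral domain, not a field, whose residue field is a finite extension of k; let n = dim A.
Then there is a finite purely inseparable extension k' of k such that, A' denoting the reduction of
k' ⊗_k A modulo its nilradical, A' is a local domain and there is a local k'-algebra homomorphism
from the power series ring k'[[T_1, …, T_n]] to A' which is injective, makes A' a finite algebra,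
and is unramified at the zero ideal of A' (so the fraction field of A' is a finite separable
extension of that of k'[[T_1, …, T_n]]). -/
theorem result (p : ℕ) (k A : Type u) [Field k]
    [ExpChar k p] (hk : (frobenius k p).Finite) [CommRing A] [IsDomain A] [IsNoetherianRing A] [IsLocalRing A]
    [Algebra k A] [IsAdicComplete (IsLocalRing.maximalIdeal A) A]
    [Module.Finite k (IsLocalRing.ResidueField A)] (hA : ¬ IsField A) (n : ℕ) (hn : ringKrullDim A = n) :
    ∃ (k' : Type u) (_ : Field k') (_ : Algebra k k'), Module.Finite k k' ∧ IsPurelyInseparable k k' ∧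
      ∃ (_ : IsDomain ((k' ⊗[k] A) ⧸ nilradical (k' ⊗[k] A)))
        (_ : IsLocalRing ((k' ⊗[k] A) ⧸ nilradical (k' ⊗[k] A)))
        (_ : Algebra (MvPowerSeries (Fin n) k') ((k' ⊗[k] A) ⧸ nilradical (k' ⊗[k] A)))
        (_ : IsScalarTower k' (MvPowerSeries (Fin n) k') ((k' ⊗[k] A) ⧸ nilradical (k' ⊗[k] A))),
        IsLocalHom (algebraMap (MvPowerSeries (Fin n) k') ((k' ⊗[k] A) ⧸ nilradical (k' ⊗[k] A))) ∧
        Function.Injective (algebraMap (MvPowerSeries (Fin n) k') ((k' ⊗[k] A) ⧸ nilradical (k' ⊗[k] A))) ∧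
        Module.Finite (MvPowerSeries (Fin n) k') ((k' ⊗[k] A) ⧸ nilradical (k' ⊗[k] A)) ∧
        Algebra.IsUnramifiedAt (MvPowerSeries (Fin n) k') (⊥ : Ideal ((k' ⊗[k] A) ⧸ nilradical (k' ⊗[k] A))) := by

  classical
  open IsLocalRing in
  haveI : Algebra.IsAlgebraic k (perfectClosure k (AlgebraicClosure k)) := inferInstance
  obtain ⟨k', _, _, hfin, hpi, hgr⟩ := FBase.PerfectReduced.exists_purelyInseparable_geomReduced (k := k) A
    (isNoetherianRing_tensor k A _)
  haveI := hfin
  haveI := hpi
  haveI := hgr
  let T := k' ⊗[k] A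
  letI : Algebra A T := Algebra.TensorProduct.rightAlgebra
  haveI : Module.Finite A T :=
    Module.Finite.of_surjective (AlgEquiv.ofRingEquiv (f := (Algebra.TensorProduct.comm k A k').toRingEquiv)
      (fun a => rfl) : A ⊗[k] k' ≃ₐ[A] T).toLinearMap (AlgEquiv.surjective _)
  haveI : IsNoetherianRing T := IsNoetherianRing.of_finite A T
  have hinjA : Function.Injective (algebraMap A T) :=
    Algebra.TensorProduct.includeRight_injective (algebraMap k k').injective
  -- the nilradical is prime
  let L := FractionRing A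
  let g : T →ₐ[k] L ⊗[k] k' :=
    ((Algebra.TensorProduct.comm k k' L).toAlgHom).comp
      (Algebra.TensorProduct.map (AlgHom.id k k') (IsScalarTower.toAlgHom k A L))
  have hginj : Function.Injective g := fun a b h =>
    Module.Flat.lTensor_preserves_injective_linearMap
      (M := k') (IsScalarTower.toAlgHom k A L).toLinearMap (IsFractionRing.injective A L)
      ((Algebra.TensorProduct.comm k k' L).injective h)
  have hprime : (nilradical T).IsPrime := by
    refine ⟨fun h => ?_, fun {x y} hxy => ?_⟩
    · have : IsNilpotent (1 : T) := mem_nilradical.mp (h ▸ trivial)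
      exact not_isNilpotent_one this
    · rcases S5061.isUnit_or_isNilpotent (g x) with hx | hx
      · refine Or.inr (mem_nilradical.mpr ((IsNilpotent.map_iff hginj).mp ?_))
        have h : IsNilpotent (g x * g y) := by rw [← map_mul]; exact (mem_nilradical.mp hxy).map g
        obtain ⟨n, hn⟩ := h
        exact ⟨n, by rw [mul_pow] at hn; exact (hx.pow n).mul_right_eq_zero.mp hn⟩
      · exact Or.inl (mem_nilradical.mpr ((IsNilpotent.map_iff hginj).mp hx))
  haveI := hprime
  let A' := T ⧸ nilradical T
  haveI : IsDomain A' := Ideal.Quotient.isDomain _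
  haveI : Module.Finite A A' := Module.Finite.trans T A'
  haveI : Algebra.IsIntegral A A' := Algebra.IsIntegral.of_finite A A'
  haveI : IsNoetherianRing A' := IsNoetherianRing.of_finite A A'
  have hinj : Function.Injective (algebraMap A A') := (injective_iff_map_eq_zero _).mpr fun a ha => by
    rw [IsScalarTower.algebraMap_apply A T A', Ideal.Quotient.algebraMap_eq, Ideal.Quotient.eq_zero_iff_mem,
      mem_nilradical, IsNilpotent.map_iff hinjA] at ha
    exact ha.eq_zero
  -- local and complete
  have huniq : ∀ M M' : Ideal T, M.IsMaximal → M'.IsMaximal → M = M' := by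
    intro M M' hM hM'
    have key : ∀ N : Ideal T, N.IsMaximal → ∀ z : T, ∀ m : ℕ, ∀ c : A, 0 < m → z ^ m = algebraMap A T c →
        (z ∈ N ↔ c ∈ IsLocalRing.maximalIdeal A) := by
      intro N hN z m c hm hz
      haveI := Ideal.isMaximal_comap_of_isIntegral_of_isMaximal (R := A) N
      rw [← IsLocalRing.eq_maximalIdeal this, Ideal.mem_comap, ← hz, hN.isPrime.pow_mem_iff_mem m hm]
    ext z
    obtain ⟨m, hm, c, hc⟩ := IsPurelyInseparable.exists_pow_mem_range_tensorProduct (k := k) (K := k') (R := A)
      (Algebra.TensorProduct.comm k k' A z)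
    have hz : z ^ m = algebraMap A T c := (Algebra.TensorProduct.comm k k' A).injective (by rw [map_pow]; exact hc.symm)
    rw [key M hM z m c hm hz, key M' hM' z m c hm hz]
  haveI : IsLocalRing T := by
    obtain ⟨M, hM⟩ := Ideal.exists_maximal T
    exact IsLocalRing.of_unique_max_ideal ⟨M, hM, fun M' hM' => huniq M' M hM' hM⟩
  haveI : IsLocalRing A' := IsLocalRing.of_surjective' _ Ideal.Quotient.mk_surjective
  haveI : IsAdicComplete (IsLocalRing.maximalIdeal A') A' := by
    haveI : IsAdicComplete ((IsLocalRing.maximalIdeal A).map (algebraMap A A')) A' :=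
      (IsAdicComplete.map_algebraMap_iff _ _).mpr (Adic.isAdicComplete_of_finite _)
    have hle : (IsLocalRing.maximalIdeal A).map (algebraMap A A') ≤ IsLocalRing.maximalIdeal A' := by
      rw [Ideal.map_le_iff_le_comap]
      haveI := Ideal.isMaximal_comap_of_isIntegral_of_isMaximal (R := A) (IsLocalRing.maximalIdeal A')
      rw [IsLocalRing.eq_maximalIdeal this]
    obtain ⟨d, hd⟩ : ∃ d, IsLocalRing.maximalIdeal A' ^ d ≤ (IsLocalRing.maximalIdeal A).map (algebraMap A A') := by
      refine Ideal.exists_pow_le_of_le_radical_of_fg ?_ (IsNoetherian.noetherian _)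
      rw [Ideal.radical_eq_sInf]
      refine le_sInf fun Q hQ => ?_
      haveI := hQ.2
      haveI h1 : (Q.comap (algebraMap A A')).IsMaximal :=
        (IsLocalRing.maximalIdeal.isMaximal A).eq_of_le (J := Q.comap (algebraMap A A'))
          Ideal.IsPrime.ne_top' (Ideal.map_le_iff_le_comap.mp hQ.1) ▸ inferInstance
      exact (IsLocalRing.eq_maximalIdeal (Ideal.isMaximal_of_isIntegral_of_isMaximal_comap Q h1)).ge
    exact CAlg48.AdicPow.isAdicComplete_of_pow_le (I := (IsLocalRing.maximalIdeal A).map (algebraMap A A'))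
      (c := 1) (d := d + 1) Nat.one_pos d.succ_pos (by simpa using hle) ((Ideal.pow_le_pow_right d.le_succ).trans hd)
  haveI : Module.Finite k' (IsLocalRing.ResidueField A') := by
    haveI : IsLocalHom (algebraMap A A') := ⟨fun a ha => by
      by_contra h
      obtain ⟨M, hM⟩ := Ideal.exists_maximal A'
      haveI := Ideal.isMaximal_comap_of_isIntegral_of_isMaximal (R := A) (IsLocalRing.maximalIdeal A')
      have h1 : a ∈ (IsLocalRing.maximalIdeal A').comap (algebraMap A A') := by
        rw [IsLocalRing.eq_maximalIdeal this]; exact h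
      exact h1 ha⟩
    let r : A' →ₐ[A] IsLocalRing.ResidueField A' := { IsLocalRing.residue A' with commutes' := fun _ => rfl }
    haveI : Module.Finite A (IsLocalRing.ResidueField A') :=
      Module.Finite.of_surjective r.toLinearMap IsLocalRing.residue_surjective
    haveI : Module.Finite (IsLocalRing.ResidueField A) (IsLocalRing.ResidueField A') :=
      Module.Finite.of_restrictScalars_finite A _ _
    haveI : Module.Finite k (IsLocalRing.ResidueField A') := Module.Finite.trans (IsLocalRing.ResidueField A) _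
    exact Module.Finite.of_restrictScalars_finite k k' _
  have hdimA' : ringKrullDim A' = n := (InvQLib.FiniteFree.ringKrullDim_eq_of_integral A A' hinj).trans hn
  have hbot : (⊥ : Ideal A') ≠ IsLocalRing.maximalIdeal A' := fun h =>
    hA (isField_of_isIntegral_of_isField hinj (IsLocalRing.isField_iff_maximalIdeal_eq.mpr h.symm))
  have hbmin : (⊥ : Ideal A') ∈ minimalPrimes A' := ⟨⟨Ideal.isPrime_bot, le_rfl⟩, fun R hR _ => bot_le⟩
  have hq' : ringKrullDim (A' ⧸ (⊥ : Ideal A')) = n :=
    (ringKrullDim_eq_of_ringEquiv (RingEquiv.quotientBot A')).trans hdimA'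
  haveI : ExpChar k' p := expChar_of_injective_ringHom (algebraMap k k').injective p
  have hk' : (frobenius k' p).Finite := by
    refine RingHom.Finite.of_comp_finite (f := algebraMap k k') ?_
    rw [show (frobenius k' p).comp (algebraMap k k') = (algebraMap k k').comp (frobenius k p) from
      RingHom.ext fun c => (map_pow (algebraMap k k') c p).symm]
    exact (RingHom.finite_algebraMap.mpr hfin).comp hk
  obtain ⟨hfree, hrank⟩ := S5074.result p k' A' hk' ⊥ isGeometricallyRegular_generic ⊥ hbmin le_rfl n hq'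
  haveI := DerExt61.Rank.finite_completedKaehler (k := k') (A := A')
  let b := Module.finBasisOfFinrankEq (Localization.AtPrime (⊥ : Ideal A')) _ hrank
  obtain ⟨alg, tw, hl, hf, hu⟩ := (S5054.result k' A' ⊥ hbot
    ⟨⊥, hbmin, le_rfl, hq'.trans hdimA'.symm⟩ n).mp ⟨b, b.span_eq⟩
  letI := alg
  haveI := hf
  refine ⟨k', inferInstance, inferInstance, hfin, hpi, inferInstance, inferInstance, alg, tw, hl, ?_, hf, hu⟩
  intro x y hxy
  exact DerExt61.Etale.injective_quotient (k := k') (n := n) (⊥ : Ideal A') hq' (by
    show Ideal.Quotient.mk ⊥ _ = Ideal.Quotient.mk ⊥ _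
    rw [hxy])

end Groth.Agent.S5992
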