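import Groth.Statements.S5993
import Groth.Agent.S11958
import Groth.Agent.DerExt61.SemiLocal
import Groth.Agent.RegLoc.AdicNoeth
import Groth.Agent.Adic.Rig.BaseChange
import Groth.Agent.Dim.LocalHom
-- import your own Groth.Agent.* helpers here

set_option autoImplicit false
set_option linter.style.haveILetI false
universe u
open scoped TensorProduct
open EGA418

namespace Groth.Agent.S5993


theorem equot (k A k' : Type u) [Field k] [CommRing A] [Algebra k A] [Field k'] [Algebra k k'] (m : Ideal A)
    (I : Ideal (A ⊗[k] k')) (hI : I = m.map (algebraMap A (A ⊗[k] k'))) (n : ℕ) :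
    ∃ e : ((A ⧸ m ^ n) ⊗[k] k') ≃ₐ[k] (A ⊗[k] k') ⧸ I ^ n,
      ∀ (a : A) (b : k'), e (Ideal.Quotient.mk _ a ⊗ₜ[k] b) = Ideal.Quotient.mk (I ^ n) (a ⊗ₜ[k] b) :=
  ⟨(Algebra.TensorProduct.quotientTensorEquiv (R := k) k k' A (m ^ n)).trans
      (Ideal.quotientEquivAlgOfEq k (by subst hI; rw [Ideal.map_pow])), fun _ _ => rfl⟩

/-- Let k be a field, A a complete Noetherian local k-algebra with maximal ideal m whose residue field
is a finite extension of k, k' an extension field of k, I the ideal of A ⊗_k k' generated by m, and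
A' the completed tensor product of A and k' over k, namely the I-adic completion of A ⊗_k k'. Then
A' is a Noetherian ring with finitely many maximal ideals, complete and separated for the ideal
generated by m, and for every maximal ideal M of A' the local ring A'_M is complete, faithfully flat
over A, of the same dimension as A, and has residue field finite over k'. -/
theorem result (k A k' : Type u) [Field k]
    [CommRing A] [IsNoetherianRing A] [IsLocalRing A] [Algebra k A]
    [IsAdicComplete (IsLocalRing.maximalIdeal A) A] [Module.Finite k (IsLocalRing.ResidueField A)]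
    [Field k'] [Algebra k k'] (I : Ideal (A ⊗[k] k'))
    (hI : I = (IsLocalRing.maximalIdeal A).map (algebraMap A (A ⊗[k] k'))) :
    IsNoetherianRing (AdicCompletion I (A ⊗[k] k')) ∧
      Finite (MaximalSpectrum (AdicCompletion I (A ⊗[k] k'))) ∧
      IsAdicComplete ((IsLocalRing.maximalIdeal A).map (algebraMap A (AdicCompletion I (A ⊗[k] k'))))
        (AdicCompletion I (A ⊗[k] k')) ∧
      ∀ M : MaximalSpectrum (AdicCompletion I (A ⊗[k] k')),
        IsAdicComplete (IsLocalRing.maximalIdeal (Localization.AtPrime M.asIdeal))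
            (Localization.AtPrime M.asIdeal) ∧
          Module.FaithfullyFlat A (Localization.AtPrime M.asIdeal) ∧
          ringKrullDim (Localization.AtPrime M.asIdeal) = ringKrullDim A ∧
          (((Ideal.Quotient.mk M.asIdeal).comp (algebraMap (A ⊗[k] k') (AdicCompletion I (A ⊗[k] k')))).comp
              Algebra.TensorProduct.includeRight.toRingHom).Finite := by

  classical
  subst hI
  set m := IsLocalRing.maximalIdeal A with hm
  set I := m.map (algebraMap A (A ⊗[k] k')) with hI
  set C := AdicCompletion I (A ⊗[k] k') with hC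
  have hfg : I.FG := Ideal.FG.map (IsNoetherian.noetherian m) _
  -- the quotient by `I` is finite over `k'`
  have hfinT : ((Ideal.Quotient.mk I).comp (Algebra.TensorProduct.includeRight : k' →ₐ[k] A ⊗[k] k').toRingHom).Finite := by
    obtain ⟨e, he⟩ := equot k A k' m I hI 1
    haveI : Module.Finite k (A ⧸ m) := ‹Module.Finite k (IsLocalRing.ResidueField A)›
    haveI : Module.Finite k (A ⧸ m ^ 1) :=
      Module.Finite.of_surjective (Ideal.quotientEquivAlgOfEq k (pow_one m).symm).toLinearMap
        (Ideal.quotientEquivAlgOfEq k (pow_one m).symm).surjective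
    let e' : k' ⊗[k] (A ⧸ m ^ 1) ≃+* (A ⊗[k] k') ⧸ I :=
      ((Algebra.TensorProduct.comm k k' (A ⧸ m ^ 1)).trans e).toRingEquiv.trans
        (Ideal.quotEquivOfEq (pow_one I))
    have h1 : (algebraMap k' (k' ⊗[k] (A ⧸ m ^ 1))).Finite := RingHom.finite_algebraMap.mpr inferInstance
    have h2 : (Ideal.Quotient.mk I).comp (Algebra.TensorProduct.includeRight : k' →ₐ[k] A ⊗[k] k').toRingHom =
        e'.toRingHom.comp (algebraMap k' (k' ⊗[k] (A ⧸ m ^ 1))) := by
      refine RingHom.ext fun b => ?_
      have h := he 1 b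
      rw [map_one] at h
      show Ideal.Quotient.mk I ((1 : A) ⊗ₜ[k] b) =
        Ideal.quotEquivOfEq (pow_one I) (e (Algebra.TensorProduct.comm k k' (A ⧸ m ^ 1) (b ⊗ₜ[k] 1)))
      rw [Algebra.TensorProduct.comm_tmul, h]
      rfl
    rw [h2]
    exact (RingHom.Finite.of_surjective _ e'.surjective).comp h1
  haveI hArtT : IsArtinianRing ((A ⊗[k] k') ⧸ I) := by
    letI := ((Ideal.Quotient.mk I).comp (Algebra.TensorProduct.includeRight : k' →ₐ[k] A ⊗[k] k').toRingHom).toAlgebra
    haveI : Module.Finite k' ((A ⊗[k] k') ⧸ I) := hfinT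
    exact IsArtinianRing.of_finite k' _
  haveI hN : IsNoetherianRing C := RegLoc.AdicNoeth.isNoetherianRing_adicCompletion I hfg
  haveI hcI := AdicCompletion.isAdicComplete_self I hfg
  set J := I.map (algebraMap (A ⊗[k] k') C) with hJ
  have hmJ : m.map (algebraMap A C) = J := by
    show m.map (algebraMap A C) = (m.map (algebraMap A (A ⊗[k] k'))).map (algebraMap (A ⊗[k] k') C)
    rw [Ideal.map_map, ← IsScalarTower.algebraMap_eq]
  let eC : ∀ n, (C ⧸ J ^ n) ≃+* (A ⊗[k] k') ⧸ I ^ n := fun n =>
    (Ideal.quotEquivOfEq (S11958.ker_evalₐ I hfg n).symm).trans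
      (RingHom.quotientKerEquivOfSurjective (AdicCompletion.surjective_evalₐ I n))
  have heC : ∀ n t, eC n (Ideal.Quotient.mk _ (algebraMap (A ⊗[k] k') C t)) = Ideal.Quotient.mk (I ^ n) t :=
    fun n t => AdicCompletion.evalₐ_of I n t
  haveI hArt : IsArtinianRing (C ⧸ J) :=
    (((Ideal.quotEquivOfEq (pow_one J).symm).trans (eC 1)).trans
      (Ideal.quotEquivOfEq (pow_one I))).symm.isArtinianRing
  haveI hflat : Module.Flat A C := by
    refine Adic.Rig.flat_of_forall_quot m (hmJ ▸ IsAdicComplete.le_jacobson_bot J) fun n => ?_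
    obtain ⟨e, he⟩ := equot k A k' m I hI n
    let e' : ((A ⧸ m ^ n) ⊗[k] k') ≃+* C ⧸ (m ^ n).map (algebraMap A C) :=
      e.toRingEquiv.trans ((eC n).symm.trans (Ideal.quotEquivOfEq (by rw [Ideal.map_pow, hmJ])))
    have h2 : Ideal.quotientMap ((m ^ n).map (algebraMap A C)) (algebraMap A C) Ideal.le_comap_map =
        e'.toRingHom.comp (algebraMap (A ⧸ m ^ n) ((A ⧸ m ^ n) ⊗[k] k')) := by
      refine Ideal.Quotient.ringHom_ext (RingHom.ext fun a => ?_)
      have h3 : (eC n).symm (Ideal.Quotient.mk (I ^ n) (a ⊗ₜ[k] (1 : k'))) =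
          Ideal.Quotient.mk (J ^ n) (algebraMap A C a) := by
        rw [RingEquiv.symm_apply_eq, IsScalarTower.algebraMap_apply A (A ⊗[k] k') C, heC]
        rfl
      show Ideal.Quotient.mk _ (algebraMap A C a) =
        Ideal.quotEquivOfEq (show J ^ n = (m ^ n).map (algebraMap A C) by rw [Ideal.map_pow, hmJ]) ((eC n).symm (e (Ideal.Quotient.mk (m ^ n) a ⊗ₜ[k] 1)))
      rw [he, h3]
      rfl
    rw [h2]
    exact (RingHom.flat_algebraMap_iff.mpr inferInstance).comp (RingHom.Flat.of_bijective e'.bijective)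
  refine ⟨hN, DerExt61.SemiLocal.finite_maximalSpectrum J, ?_, fun M => ?_⟩
  · rw [hmJ]; exact hcI
  haveI := M.isMaximal
  have hJM : J ≤ M.asIdeal := DerExt61.SemiLocal.le_of_isMaximal J _
  refine ⟨DerExt61.SemiLocal.isAdicComplete_localization J M.asIdeal, ?_⟩
  let L := Localization.AtPrime M.asIdeal
  haveI : Module.Flat A L := Module.Flat.trans A C L
  have hloc : m.map (algebraMap A L) ≤ IsLocalRing.maximalIdeal L := by
    rw [IsScalarTower.algebraMap_eq A C L, ← Ideal.map_map, hmJ,
      ← IsLocalization.AtPrime.map_eq_maximalIdeal M.asIdeal L]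
    exact Ideal.map_mono hJM
  haveI : IsLocalHom (algebraMap A L) :=
    ((IsLocalRing.local_hom_TFAE (algebraMap A L)).out 0 2).mpr hloc
  refine ⟨Module.FaithfullyFlat.of_flat_of_isLocalHom, ?_, ?_⟩
  · rw [Dim.ringKrullDim_eq_add_fibre A L]
    have hsL := DerExt61.SemiLocal.surjective_localization J M.asIdeal
    haveI : Nontrivial (L ⧸ m.map (algebraMap A L)) :=
      Ideal.Quotient.nontrivial_iff.2 (ne_top_of_le_ne_top (IsLocalRing.maximalIdeal.isMaximal L).ne_top hloc)
    haveI : IsArtinianRing (L ⧸ m.map (algebraMap A L)) := by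
      refine Function.Surjective.isArtinianRing (f := Ideal.Quotient.lift J ((Ideal.Quotient.mk _).comp (algebraMap C L)) fun x hx => ?_) ?_
      · refine Ideal.Quotient.eq_zero_iff_mem.mpr ?_
        rw [IsScalarTower.algebraMap_eq A C L, ← Ideal.map_map, hmJ]
        exact Ideal.mem_map_of_mem _ hx
      · exact Ideal.Quotient.lift_surjective_of_surjective _ _ (Ideal.Quotient.mk_surjective.comp hsL)
    rw [(ringKrullDimZero_iff_ringKrullDim_eq_zero (R := L ⧸ m.map (algebraMap A L))).mp inferInstance, add_zero]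
  · let g : ((A ⊗[k] k') ⧸ I) →+* C ⧸ M.asIdeal :=
      (Ideal.Quotient.factor (show J ^ 1 ≤ M.asIdeal by rw [pow_one]; exact hJM)).comp
        ((eC 1).symm.toRingHom.comp (Ideal.quotEquivOfEq (pow_one I).symm).toRingHom)
    have hg : Function.Surjective g :=
      (Ideal.Quotient.factor_surjective (show J ^ 1 ≤ M.asIdeal by rw [pow_one]; exact hJM)).comp ((eC 1).symm.surjective.comp (Ideal.quotEquivOfEq (pow_one I).symm).surjective)
    have h3 : g.comp (Ideal.Quotient.mk I) = (Ideal.Quotient.mk M.asIdeal).comp (algebraMap (A ⊗[k] k') C) := by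
      refine RingHom.ext fun t => ?_
      have h4 : (eC 1).symm (Ideal.Quotient.mk (I ^ 1) t) =
          Ideal.Quotient.mk (J ^ 1) (algebraMap (A ⊗[k] k') C t) := by
        rw [RingEquiv.symm_apply_eq, heC]
      show Ideal.Quotient.factor (show J ^ 1 ≤ M.asIdeal by rw [pow_one]; exact hJM) ((eC 1).symm (Ideal.Quotient.mk (I ^ 1) t)) = _
      rw [h4]
      rfl
    rw [← h3, RingHom.comp_assoc]
    exact (RingHom.Finite.of_surjective _ hg).comp hfinT

end Groth.Agent.S5993
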