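import Groth.Statements.S5995
import Groth.Agent.EtStruct.UnibranchSection
-- import your own Groth.Agent.* helpers here

set_option autoImplicit false
universe u
open CategoryTheory AlgebraicGeometry
open Unram

namespace Groth.Agent.S5995

set_option backward.isDefEq.respectTransparency false in

/-- Let Y be a reduced scheme whose irreducible components form a locally finite family and all of whose
local rings are geometrically unibranch, f : X ⟶ Y a separated, locally of finite type, formally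
unramified morphism, and u : U ⟶ X a section of f over a dense open U of Y which cannot be extended:
whenever v is a section of f over an open V agreeing with u on U ∩ V, V is contained in U (so U is
the domain of definition of the rational section defined by u). Then the image u(U) is an open and
closed subset of X. -/
theorem result {X Y : Scheme.{u}} [IsReduced Y]
    (hcomp : LocallyFinite (fun Z : ↥(irreducibleComponents ↥Y) => (Z : Set ↥Y)))
    (f : X ⟶ Y) [IsSeparated f] [LocallyOfFiniteType f] [FormallyUnramified f]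
    (U : Y.Opens) (hU : Dense (U : Set ↥Y)) (u : (U : Scheme.{u}) ⟶ X) (hu : u ≫ f = U.ι)
    (hY : ∀ y : Y, CAlg2.IsGeomUnibranch (Y.presheaf.stalk y))
    (hmax : ∀ (V : Y.Opens) (v : (V : Scheme.{u}) ⟶ X), v ≫ f = V.ι →
      Y.homOfLE (inf_le_left : U ⊓ V ≤ U) ≫ u = Y.homOfLE (inf_le_right : U ⊓ V ≤ V) ≫ v → V ≤ U) :
    IsOpen (Set.range u) ∧ IsClosed (Set.range u) := by
  have hfu : ∀ w : U.toScheme, f (u w) = w.1 := fun w ↦ congr($hu w)
  constructor
  · refine isOpen_iff_forall_mem_open.mpr ?_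
    rintro _ ⟨w, rfl⟩
    have hcl : u w ∈ closure (Set.range u) := subset_closure ⟨w, rfl⟩
    obtain ⟨Y₀, hyY₀, hirr⟩ := EtStruct.exists_irreducible_opens hcomp (f (u w)) (hY _)
    have : IsReduced Y₀.toScheme := isReduced_of_isOpenImmersion Y₀.ι
    have : IsIntegral Y₀.toScheme := isIntegral_of_irreducibleSpace_of_isReduced _
    let z : Y₀.toScheme := ⟨f (u w), hyY₀⟩
    have hz : (f ∣_ Y₀) ⟨u w, hyY₀⟩ = z := Subtype.ext (morphismRestrict_base_coe f Y₀ _)
    have hy₀ : CAlg2.IsGeomUnibranch (Y₀.toScheme.presheaf.stalk ((f ∣_ Y₀) ⟨u w, hyY₀⟩)) := by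
      rw [hz]
      have hd : IsDomain (Y₀.toScheme.presheaf.stalk z) := inferInstance
      let e : Y.presheaf.stalk (f (u w)) ≃+* Y₀.toScheme.presheaf.stalk z :=
        (asIso (Y₀.ι.stalkMap z)).commRingCatIsoToRingEquiv
      have := e.toMulEquiv.isDomain_iff.mpr hd
      exact EtStruct.isGeomUnibranch_of_ringEquiv e (hY _)
    have : FormallyUnramified (f ∣_ Y₀) :=
      MorphismProperty.of_isPullback (isPullback_morphismRestrict f Y₀).flip ‹_›
    obtain ⟨N₁, hxN₁, hN₁ | hN₁⟩ := EtStruct.exists_nhd_etale_or_disjoint (f ∣_ Y₀) ⟨u w, hyY₀⟩ hy₀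
      (FormallyUnramified.stalkMap _ _)
    swap
    · exfalso
      let η := genericPoint Y₀.toScheme
      have hη : η ⤳ (⟨w.1, hfu w ▸ hyY₀⟩ : Y₀.toScheme) :=
        genericPoint_specializes (α := Y₀.toScheme) _
      have hη' : η.1 ⤳ w.1 := hη.map Y₀.ι.continuous
      have hηU : η.1 ∈ U := hη'.mem_open U.2 w.2
      have h : (⟨η.1, hηU⟩ : U.toScheme) ⤳ w := by
        rw [← U.ι.isEmbedding.isInducing.specializes_iff]; exact hη'
      have hξ₀ : u ⟨η.1, hηU⟩ ∈ f ⁻¹ᵁ Y₀ := (congrArg (· ∈ Y₀) (hfu ⟨η.1, hηU⟩)).mpr η.2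
      have h' : (⟨u ⟨η.1, hηU⟩, hξ₀⟩ : (f ⁻¹ᵁ Y₀).toScheme) ⤳ ⟨u w, hyY₀⟩ := by
        rw [← (f ⁻¹ᵁ Y₀).ι.isEmbedding.isInducing.specializes_iff]; exact h.map u.continuous
      exact hN₁ _ (h'.mem_open N₁.2 hxN₁)
        (Subtype.ext ((morphismRestrict_base_coe f Y₀ _).trans (hfu _)))
    let N : X.Opens := (f ⁻¹ᵁ Y₀).ι ''ᵁ N₁
    have : Etale (N.ι ≫ f) := by
      rw [show N.ι ≫ f = ((f ⁻¹ᵁ Y₀).ι.isoImage N₁).inv ≫ N₁.ι ≫ f ∣_ Y₀ ≫ Y₀.ι by
        rw [morphismRestrict_ι, Scheme.Hom.isoImage_inv_ι_assoc]]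
      rw [← Category.assoc N₁.ι]
      infer_instance
    let s : (u ⁻¹ᵁ N).toScheme ⟶ N.toScheme := u ∣_ N
    have hs : s ≫ N.ι ≫ f = (u ⁻¹ᵁ N).ι ≫ U.ι := by
      rw [morphismRestrict_ι_assoc, hu]
    have : Etale (s ≫ N.ι ≫ f) := by rw [hs]; infer_instance
    have : Etale s := Etale.of_comp s (N.ι ≫ f)
    have : Mono (s ≫ N.ι ≫ f) := by rw [hs]; infer_instance
    have : Mono s := mono_of_mono s (N.ι ≫ f)
    have : IsOpenImmersion s := IsOpenImmersion.of_flat_of_mono s
    have hxN : u w ∈ N := ⟨⟨u w, hyY₀⟩, hxN₁, rfl⟩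
    refine ⟨Set.range (s ≫ N.ι), ?_, (s ≫ N.ι).isOpenEmbedding.isOpen_range, ⟨⟨w, hxN⟩, ?_⟩⟩
    · rintro _ ⟨w', rfl⟩
      exact ⟨w'.1, (congr($(morphismRestrict_ι u N) w')).symm⟩
    · exact congr($(morphismRestrict_ι u N) ⟨w, hxN⟩)
  · rw [← closure_subset_iff_isClosed]
    intro x hx
    obtain ⟨V, v, hxV, hv, hagree⟩ := EtStruct.exists_section_nhd hcomp f U hU u hu x (hY _) hx
    have hxU : f x ∈ U := hmax V v hv hagree hxV
    -- a section of a separated morphism is closed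
    let X' := f ⁻¹ᵁ U
    let t : U.toScheme ⟶ X'.toScheme := IsOpenImmersion.lift X'.ι u (by
      rw [Scheme.Opens.range_ι]; rintro _ ⟨w, rfl⟩; show f (u w) ∈ U; rw [hfu]; exact w.2)
    have ht : t ≫ X'.ι = u := IsOpenImmersion.lift_fac _ _ _
    have htf : t ≫ f ∣_ U = 𝟙 _ := by
      rw [← cancel_mono U.ι, Category.assoc, morphismRestrict_ι, reassoc_of% ht, hu, Category.id_comp]
    have : IsSeparated (f ∣_ U) := MorphismProperty.of_isPullback (isPullback_morphismRestrict f U).flip ‹_›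
    have : IsClosedImmersion (t ≫ f ∣_ U) := by rw [htf]; infer_instance
    have : IsClosedImmersion t := IsClosedImmersion.of_comp t (f ∣_ U)
    have hxt : (⟨x, hxU⟩ : X'.toScheme) ∈ Set.range t := by
      rw [← (t.isClosedEmbedding.isClosed_range).closure_eq,
        X'.ι.isEmbedding.isInducing.closure_eq_preimage_closure_image, ← Set.range_comp]
      show x ∈ closure (Set.range (fun w ↦ X'.ι (t w)))
      rwa [show (fun w ↦ X'.ι (t w)) = ⇑u from funext fun w ↦ congr($ht w)]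
    obtain ⟨w, hw⟩ := hxt
    exact ⟨w, (congr($ht w)).symm.trans (congrArg X'.ι hw)⟩

end Groth.Agent.S5995
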