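import Groth.Statements.S5996
import Groth.Agent.EtStruct.UnibranchSection
-- import your own Groth.Agent.* helpers here

set_option autoImplicit false
universe u
open CategoryTheory AlgebraicGeometry
open Unram

namespace Groth.Agent.S5996

set_option backward.isDefEq.respectTransparency false in

/-- Let Y be a reduced scheme whose irreducible components form a locally finite family, f : X ⟶ Y a
separated, locally of finite type, formally unramified morphism such that f(T) is closed in Y for
every closed irreducible subset T of X, and u : U ⟶ X a section of f over a dense open U of Y. Then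
for every point y of Y whose local ring is geometrically unibranch there are an open V ∋ y and a
section v : V ⟶ X of f agreeing with u on U ∩ V: the rational section defined by u is defined at
every geometrically unibranch point. -/
theorem result {X Y : Scheme.{u}} [IsReduced Y]
    (hcomp : LocallyFinite (fun Z : ↥(irreducibleComponents ↥Y) => (Z : Set ↥Y)))
    (f : X ⟶ Y) [IsSeparated f] [LocallyOfFiniteType f] [FormallyUnramified f]
    (U : Y.Opens) (hU : Dense (U : Set ↥Y)) (u : (U : Scheme.{u}) ⟶ X) (hu : u ≫ f = U.ι)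
    (hcl : ∀ T : Set ↥X, IsClosed T → IsIrreducible T → IsClosed (f '' T))
    (y : Y) (hy : CAlg2.IsGeomUnibranch (Y.presheaf.stalk y)) :
    ∃ (V : Y.Opens) (v : (V : Scheme.{u}) ⟶ X), y ∈ V ∧ v ≫ f = V.ι ∧
      Y.homOfLE (inf_le_left : U ⊓ V ≤ U) ≫ u = Y.homOfLE (inf_le_right : U ⊓ V ≤ V) ≫ v := by
  obtain ⟨Y₀, hyY₀, hirr⟩ := EtStruct.exists_irreducible_opens hcomp y hy
  let η := genericPoint Y₀.toScheme
  have hη : η.1 ⤳ y := (genericPoint_specializes (α := Y₀.toScheme) ⟨y, hyY₀⟩).map Y₀.ι.continuous
  have hηU : η.1 ∈ U := by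
    obtain ⟨w, hwY₀, hwU⟩ := hU.inter_open_nonempty _ Y₀.2 ⟨_, hyY₀⟩
    exact ((genericPoint_specializes (α := Y₀.toScheme) ⟨w, hwY₀⟩).map Y₀.ι.continuous).mem_open
      U.2 hwU
  let ξ := u ⟨η.1, hηU⟩
  have hcl' := hcl (closure {ξ}) isClosed_closure isIrreducible_singleton.closure
  have h1 : η.1 ∈ f '' closure {ξ} :=
    ⟨ξ, subset_closure rfl, congr($hu ⟨η.1, hηU⟩)⟩
  obtain ⟨x, hx, hxy⟩ := hη.mem_closed hcl' h1
  subst hxy
  refine EtStruct.exists_section_nhd hcomp f U hU u hu x hy (closure_mono ?_ hx)
  rintro _ rfl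
  exact ⟨_, rfl⟩

end Groth.Agent.S5996
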