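import Groth.Statements.S5999
import Groth.Agent.S5998
-- import your own Groth.Agent.* helpers here

set_option autoImplicit false
universe u
open SGA1

namespace Groth.Agent.S5999

open IsLocalRing KaehlerDifferential TensorProduct in
open TensorProduct in
/-- Let R be a Noetherian ring, A an R-algebra of finite type, F an element of A, P a prime ideal of
A/(F) and q its preimage in A, and suppose A is smooth over R at q. Then the hypersurface A/(F) is
smooth over R at P if and only if either F is zero in the local ring A_q (F vanishes on a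
neighbourhood of q) or the image dF(q) of the differential of F in κ(q) ⊗_A Ω_{A/R} is nonzero. -/
theorem result
    (R A : Type u) [CommRing R] [CommRing A] [IsNoetherianRing R] [Algebra R A] [Algebra.FiniteType R A]
    (F : A) (P : Ideal (A ⧸ Ideal.span ({F} : Set A))) [P.IsPrime]
    (hX : Algebra.IsSmoothAt R (P.comap (Ideal.Quotient.mk (Ideal.span ({F} : Set A))))) :
    letI q : Ideal A := P.comap (Ideal.Quotient.mk (Ideal.span ({F} : Set A)))
    Algebra.IsSmoothAt R P ↔ algebraMap A (Localization.AtPrime q) F = 0 ∨
      (1 : q.ResidueField) ⊗ₜ[A] KaehlerDifferential.D R A F ≠ 0 := by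
  let I : Ideal A := Ideal.span {F}
  let q : Ideal A := P.comap (Ideal.Quotient.mk I)
  haveI : IsNoetherianRing A := Algebra.FiniteType.isNoetherianRing R A
  haveI : Algebra.FormallySmooth R (Localization.AtPrime q) := hX
  haveI : Module.Finite (Localization.AtPrime q) Ω[Localization.AtPrime q⁄R] :=
    Module.Finite.equiv (tensorKaehlerEquivOfFormallyEtale R A (Localization.AtPrime q))
  haveI : Module.Free (Localization.AtPrime q) Ω[Localization.AtPrime q⁄R] :=
    Module.free_of_flat_of_isLocalRing
  have hJ : I.map (algebraMap A (Localization.AtPrime q)) =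
      Ideal.span (algebraMap A (Localization.AtPrime q) '' {F}) := Ideal.map_span _ _
  have hne : I.map (algebraMap A (Localization.AtPrime q)) ≠ ⊤ := fun h => by
    have : I.map (algebraMap A (Localization.AtPrime q)) ≤ maximalIdeal (Localization.AtPrime q) := by
      rw [← Localization.AtPrime.map_eq_maximalIdeal]
      exact Ideal.map_mono fun x hx => by
        show Ideal.Quotient.mk I x ∈ P
        rw [Ideal.Quotient.eq_zero_iff_mem.2 hx]
        exact zero_mem _
    rw [h, top_le_iff] at this
    exact (maximalIdeal.isMaximal _).ne_top this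
  have hcore := Groth.Agent.S5998.core R (Localization.AtPrime q) _ hne
    (algebraMap A (Localization.AtPrime q)) {F} hJ
  let e : q.ResidueField ⊗[A] Ω[A⁄R] ≃ₗ[q.ResidueField]
      q.ResidueField ⊗[Localization.AtPrime q] Ω[Localization.AtPrime q⁄R] :=
    (AlgebraTensorModule.cancelBaseChange A (Localization.AtPrime q) q.ResidueField q.ResidueField Ω[A⁄R]).symm.trans
      (AlgebraTensorModule.congr (LinearEquiv.refl q.ResidueField q.ResidueField)
        (tensorKaehlerEquivOfFormallyEtale R A (Localization.AtPrime q)))
  have he : e (1 ⊗ₜ KaehlerDifferential.D R A F) =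
      1 ⊗ₜ KaehlerDifferential.D R (Localization.AtPrime q) (algebraMap A (Localization.AtPrime q) F) := by
    simp [e]
  refine (Groth.Agent.S5998.formallySmooth_quot_iff R A I P).trans (hcore.trans ?_)
  show _ ↔ algebraMap A (Localization.AtPrime q) F = 0 ∨ (1 : q.ResidueField) ⊗ₜ[A] KaehlerDifferential.D R A F ≠ 0
  constructor
  · rintro ⟨s, hs, hJs, hli⟩
    by_cases hF : F ∈ s
    · refine Or.inr fun h0 => hli.ne_zero ⟨F, hF⟩ ?_
      show 1 ⊗ₜ KaehlerDifferential.D R (Localization.AtPrime q) (algebraMap A (Localization.AtPrime q) F) = _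
      rw [← he, h0, map_zero]
    · left
      have hse : (s : Set A) = ∅ := Set.eq_empty_of_forall_notMem fun x hx => hF ((hs hx : x = F) ▸ hx)
      rw [hse, Set.image_empty, Ideal.span_empty, hJ, Set.image_singleton, Ideal.span_singleton_eq_bot] at hJs
      exact hJs
  · rintro (h0 | h0)
    · refine ⟨∅, by simp, ?_, linearIndependent_empty_type⟩
      rw [hJ, Set.image_singleton, h0, Finset.coe_empty, Set.image_empty, Ideal.span_empty,
        Ideal.span_singleton_eq_bot]
    · refine ⟨{F}, by simp, by rw [hJ, Finset.coe_singleton], ?_⟩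
      haveI : Subsingleton ↥({F} : Finset A) := ⟨fun a b => Subtype.ext (by
        rw [Finset.mem_singleton.1 a.2, Finset.mem_singleton.1 b.2])⟩
      refine linearIndependent_subsingleton_index_iff _ |>.2 fun g => ?_
      rw [Finset.mem_singleton.1 g.2]
      intro h
      exact h0 (e.injective ((he.trans h).trans (map_zero e).symm))

end Groth.Agent.S5999
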