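import Groth.Statements.S9562
import Mathlib
import Groth.Agent.EtStruct.Completion
-- import your own Groth.Agent.* helpers here

set_option autoImplicit false
universe u
open EtLocal

namespace Groth.Agent.S9562

/-- Let A → B be a local homomorphism of Noetherian local rings with B essentially of finite type over
A, and let ψ be the induced map between the completions of A and B at their maximal ideals (a ring
map of the completions whose composite with A → A^ is A → B → B^; such a map is unique). Then A → B
is an étale homomorphism of local rings, i.e. B is flat over A, m_A B = m_B and the residue field of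
B is a finite separable extension of that of A, if and only if ψ is an étale ring map; moreover in
that case the completion of B is, through ψ, a free module of finite positive rank over the
completion of A. (The published statement lists a third equivalent condition, that ψ is itself an
étale homomorphism of local rings; this row keeps the two outer ones.) -/
theorem result (A B : Type u) [CommRing A] [CommRing B]
    [IsLocalRing A] [IsLocalRing B] [IsNoetherianRing A] [IsNoetherianRing B] [Algebra A B]
    [IsLocalHom (algebraMap A B)] [Algebra.EssFiniteType A B]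
    (ψ : AdicCompletion (IsLocalRing.maximalIdeal A) A →+* AdicCompletion (IsLocalRing.maximalIdeal B) B)
    (hψ : ψ.comp (algebraMap A (AdicCompletion (IsLocalRing.maximalIdeal A) A)) =
      (algebraMap B (AdicCompletion (IsLocalRing.maximalIdeal B) B)).comp (algebraMap A B)) :
    ((Module.Flat A B ∧ (IsLocalRing.maximalIdeal A).map (algebraMap A B) = IsLocalRing.maximalIdeal B ∧
        Module.Finite (IsLocalRing.ResidueField A) (IsLocalRing.ResidueField B) ∧
        Algebra.IsSeparable (IsLocalRing.ResidueField A) (IsLocalRing.ResidueField B)) ↔ ψ.Etale) ∧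
      (ψ.Etale →
        letI := ψ.toAlgebra
        ∃ n : ℕ, 0 < n ∧
          Nonempty ((Fin n → AdicCompletion (IsLocalRing.maximalIdeal A) A) ≃ₗ[AdicCompletion (IsLocalRing.maximalIdeal A) A]
            AdicCompletion (IsLocalRing.maximalIdeal B) B)) := by
  let := ψ.toAlgebra
  have : IsScalarTower A (AdicCompletion (IsLocalRing.maximalIdeal A) A)
      (AdicCompletion (IsLocalRing.maximalIdeal B) B) := by
    refine .of_algebraMap_eq' ?_
    rw [IsScalarTower.algebraMap_eq A B (AdicCompletion (IsLocalRing.maximalIdeal B) B), ← hψ]
    rfl
  have := Groth.Agent.EtStruct.Completion.isLocalHom A B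
  have key : ((IsLocalRing.maximalIdeal A).map (algebraMap A B) = IsLocalRing.maximalIdeal B ∧
        Module.Finite (IsLocalRing.ResidueField A) (IsLocalRing.ResidueField B) ∧
        Algebra.IsSeparable (IsLocalRing.ResidueField A) (IsLocalRing.ResidueField B)) ↔
      (Algebra.FiniteType (AdicCompletion (IsLocalRing.maximalIdeal A) A) (AdicCompletion (IsLocalRing.maximalIdeal B) B) ∧
        Algebra.FormallyUnramified (AdicCompletion (IsLocalRing.maximalIdeal A) A) (AdicCompletion (IsLocalRing.maximalIdeal B) B)) := by
    constructor
    · rintro ⟨hm, hfin, hsep⟩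
      have := Groth.Agent.EtStruct.Completion.finite_of_map_eq A B hm
      have := (Groth.Agent.EtStruct.Completion.residueField_iff A B).2.mp hsep
      exact ⟨inferInstance, Algebra.FormallyUnramified.of_map_maximalIdeal
        ((Groth.Agent.EtStruct.Completion.map_eq_iff A B).mpr hm)⟩
    · rintro ⟨hft, hu⟩
      exact ⟨(Groth.Agent.EtStruct.Completion.map_eq_iff A B).mp
          Algebra.FormallyUnramified.map_maximalIdeal,
        (Groth.Agent.EtStruct.Completion.residueField_iff A B).1.mpr inferInstance,
        (Groth.Agent.EtStruct.Completion.residueField_iff A B).2.mpr inferInstance⟩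
  have hN := Groth.Agent.EtStruct.Completion.isNoetherian A
  have hfree : ψ.Etale → Module.Finite (AdicCompletion (IsLocalRing.maximalIdeal A) A) (AdicCompletion (IsLocalRing.maximalIdeal B) B) ∧
      Module.Flat (AdicCompletion (IsLocalRing.maximalIdeal A) A) (AdicCompletion (IsLocalRing.maximalIdeal B) B) := by
    intro h
    have : Algebra.Etale (AdicCompletion (IsLocalRing.maximalIdeal A) A) (AdicCompletion (IsLocalRing.maximalIdeal B) B) := h
    obtain ⟨hm, hfin, -⟩ := key.mpr ⟨inferInstance, inferInstance⟩
    exact ⟨Groth.Agent.EtStruct.Completion.finite_of_map_eq A B hm, inferInstance⟩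
  refine ⟨⟨fun ⟨hfl, h⟩ ↦ ?_, fun h ↦ ?_⟩, fun h ↦ ?_⟩
  · obtain ⟨hft, hu⟩ := key.mp h
    have := h.2.1
    have := (Groth.Agent.EtStruct.Completion.flat_iff A B h.1).mpr hfl
    have : Algebra.FinitePresentation (AdicCompletion (IsLocalRing.maximalIdeal A) A) (AdicCompletion (IsLocalRing.maximalIdeal B) B) :=
      Algebra.FinitePresentation.of_finiteType.mp inferInstance
    exact (Algebra.Etale.of_formallyUnramified_of_flat :
      Algebra.Etale (AdicCompletion (IsLocalRing.maximalIdeal A) A) (AdicCompletion (IsLocalRing.maximalIdeal B) B))
  · obtain ⟨-, hflat⟩ := hfree h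
    have : Algebra.Etale (AdicCompletion (IsLocalRing.maximalIdeal A) A) (AdicCompletion (IsLocalRing.maximalIdeal B) B) := h
    obtain ⟨hm, hfin, hsep⟩ := key.mpr ⟨inferInstance, inferInstance⟩
    exact ⟨(Groth.Agent.EtStruct.Completion.flat_iff A B hm).mp hflat, hm, hfin, hsep⟩
  · obtain ⟨hfin, hflat⟩ := hfree h
    have : Module.Free (AdicCompletion (IsLocalRing.maximalIdeal A) A) (AdicCompletion (IsLocalRing.maximalIdeal B) B) :=
      Module.free_of_flat_of_isLocalRing
    let b := Module.Free.chooseBasis (AdicCompletion (IsLocalRing.maximalIdeal A) A) (AdicCompletion (IsLocalRing.maximalIdeal B) B)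
    have : Nonempty (Module.Free.ChooseBasisIndex (AdicCompletion (IsLocalRing.maximalIdeal A) A) (AdicCompletion (IsLocalRing.maximalIdeal B) B)) := b.index_nonempty
    exact ⟨_, Fintype.card_pos, ⟨(b.reindex (Fintype.equivFin _)).equivFun.symm⟩⟩

end Groth.Agent.S9562
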