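import Groth.Statements.S6001
import Groth.Agent.S9562
import Groth.Agent.EGA4Lib.CplFlat
import Groth.Agent.AlgSpD.ReducedEtale
-- import your own Groth.Agent.* helpers here

set_option autoImplicit false
set_option linter.style.haveILetI false
universe u
open SGA1

namespace Groth.Agent.S6001

/-- Let A be a Noetherian local ring which is analytically reduced (its completion has no nonzero
nilpotents), and let B be the local ring at a prime q, lying over the maximal ideal of A, of an
A-algebra C of finite type that is etale over A at q (an etale local homomorphism A ⟶ B). Then B is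
analytically reduced, and in particular reduced. -/
theorem result (A C : Type u) [CommRing A] [IsLocalRing A]
    [IsNoetherianRing A] [CommRing C] [Algebra A C] [Algebra.FiniteType A C] (q : Ideal C) [q.IsPrime]
    (hq : Ideal.comap (algebraMap A C) q = IsLocalRing.maximalIdeal A) (hC : Algebra.IsEtaleAt A q)
    (hA : IsReduced (AdicCompletion (IsLocalRing.maximalIdeal A) A)) :
    IsReduced (AdicCompletion (IsLocalRing.maximalIdeal (Localization.AtPrime q)) (Localization.AtPrime q)) ∧
      IsReduced (Localization.AtPrime q) := by
  let B := Localization.AtPrime q
  haveI : IsNoetherianRing C := Algebra.FiniteType.isNoetherianRing A C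
  haveI : IsNoetherianRing B := IsLocalization.isNoetherianRing q.primeCompl B inferInstance
  haveI : Algebra.EssFiniteType C B := Algebra.EssFiniteType.of_isLocalization B q.primeCompl
  haveI : Algebra.EssFiniteType A B := Algebra.EssFiniteType.comp A C B
  haveI : q.LiesOver (IsLocalRing.maximalIdeal A) := ⟨hq.symm⟩
  haveI : IsLocalHom (algebraMap A B) := ⟨fun a ha => by
    by_contra hna
    have hm : algebraMap A C a ∈ q := by
      rw [← Ideal.mem_comap, hq]; exact hna
    rw [IsScalarTower.algebraMap_apply A C B] at ha
    exact (IsLocalization.AtPrime.isUnit_to_map_iff B q _).1 ha hm⟩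
  haveI : Algebra.FinitePresentation A C := Algebra.FinitePresentation.of_finiteType.1 inferInstance
  haveI := hC
  obtain ⟨f, hf, hef⟩ := Algebra.exists_etale_of_isEtaleAt (R := A) q
  haveI := hef
  haveI : Module.Flat A B := by
    let g : Localization.Away f →+* B := IsLocalization.Away.lift f (g := algebraMap C B)
      (IsLocalization.map_units B (⟨f, hf⟩ : q.primeCompl))
    letI := g.toAlgebra
    haveI : IsScalarTower C (Localization.Away f) B := IsScalarTower.of_algebraMap_eq fun c =>
      (IsLocalization.Away.lift_eq f _ c).symm
    haveI : IsScalarTower A (Localization.Away f) B := IsScalarTower.of_algebraMap_eq fun a => by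
      rw [IsScalarTower.algebraMap_apply A C B, IsScalarTower.algebraMap_apply A C (Localization.Away f),
        ← IsScalarTower.algebraMap_apply C (Localization.Away f) B]
    haveI : Submonoid.powers f ≤ q.primeCompl → IsLocalization (Algebra.algebraMapSubmonoid (Localization.Away f) q.primeCompl) B :=
      fun h => IsLocalization.isLocalization_of_submonoid_le (Localization.Away f) B _ q.primeCompl h
    haveI := this (Submonoid.powers_le.2 hf)
    haveI : Module.Flat (Localization.Away f) B :=
      IsLocalization.flat B (Algebra.algebraMapSubmonoid (Localization.Away f) q.primeCompl)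
    exact Module.Flat.trans A (Localization.Away f) B
  haveI : Algebra.FormallyUnramified A B := inferInstance
  obtain ⟨_, _, _⟩ := Groth.Agent.EGA4Lib.exists_algebra_cpl A B
  haveI hfin : Module.Finite (IsLocalRing.ResidueField A) (IsLocalRing.ResidueField B) :=
    inferInstance
  have het := (Groth.Agent.S9562.result A B (algebraMap _ _)
    (IsScalarTower.algebraMap_eq A (AdicCompletion (IsLocalRing.maximalIdeal A) A) _ |>.symm.trans
      (IsScalarTower.algebraMap_eq A B _))).1.1
    ⟨inferInstance, Algebra.FormallyUnramified.map_maximalIdeal, hfin, inferInstance⟩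
  haveI := RingHom.etale_algebraMap.1 het
  haveI := hA
  haveI hred : _root_.IsReduced (AdicCompletion (IsLocalRing.maximalIdeal B) B) :=
    Groth.Agent.AlgSpD.isReduced_of_etale (AdicCompletion (IsLocalRing.maximalIdeal A) A) _
  haveI := Groth.Agent.EtStruct.Completion.faithfullyFlat B
  exact ⟨hred, isReduced_of_injective (algebraMap B (AdicCompletion (IsLocalRing.maximalIdeal B) B))
    (FaithfulSMul.algebraMap_injective B _)⟩

end Groth.Agent.S6001
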