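import Groth.Statements.S6008
import Groth.Agent.EtRamLib.Kummer.ASKer

set_option autoImplicit false
universe u
open CategoryTheory AlgebraicGeometry MonoidalCategory CartesianMonoidalCategory MonObj GrpObj
open SGA1t

namespace Groth.Agent.S6008

open Groth.Agent.EtRamLib.Kummer Groth.Agent.RedPts Limits

/-- The coordinate of the additive group over `ℤ`. -/
noncomputable abbrev tt : symA.{u} := SymmetricAlgebra.ι Zu.{u} Zu.{u} (ULift.up 1)

/-- The ring endomorphism `t ↦ t - t ^ p` of the coordinate ring. -/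
noncomputable def phi (p : ℕ) : symA.{u} →ₐ[Zu.{u}] symA.{u} :=
  SymmetricAlgebra.lift (R := Zu.{u}) (M := Zu.{u}) (LinearMap.toSpanSingleton Zu.{u} _ (tt - tt ^ p))

lemma phi_tt (p : ℕ) : phi.{u} p tt = tt - tt ^ p := by
  rw [phi, tt, SymmetricAlgebra.lift_ι_apply, LinearMap.toSpanSingleton_apply]
  exact _root_.one_smul Zu.{u} _

lemma hom_ext_symA {B : Type u} [CommRing B] (a b : symA.{u} →+* B) (h : a tt = b tt) : a = b := by
  have hints : ∀ r, a (algebraMap Zu.{u} symA.{u} r) = b (algebraMap Zu.{u} symA.{u} r) := fun r =>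
    congr($(RingHom.ext_int ((a.comp (algebraMap Zu.{u} symA.{u})).comp ULift.ringEquiv.symm.toRingHom)
      ((b.comp (algebraMap Zu.{u} symA.{u})).comp ULift.ringEquiv.symm.toRingHom)) r.down)
  apply RingHom.ext
  intro x
  induction x using SymmetricAlgebra.induction with
  | algebraMap r => exact hints r
  | «ι» m =>
    have hm : m = m • (ULift.up 1 : Zu.{u}) := by ext; simp
    rw [hm, map_smul]
    erw [Algebra.smul_def]
    rw [map_mul, map_mul, hints, h]
  | mul x y hx hy => rw [map_mul, map_mul, hx, hy]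
  | add x y hx hy => rw [map_add, map_add, hx, hy]

open Polynomial in
lemma freeCover (p : ℕ) [hp : Fact p.Prime] : IsFreeCover (phi.{u} p).toRingHom := by
  let g : symA.{u}[X] := X ^ p + (C tt - X)
  haveI : Nontrivial symA.{u} :=
    (SymmetricAlgebra.algebraMapInv (R := Zu.{u}) (M := Zu.{u})).toRingHom.domain_nontrivial
  have hdeg' : degree (C tt - X : symA.{u}[X]) < (p : WithBot ℕ) := by
    refine lt_of_le_of_lt (degree_sub_le _ _) (max_lt (lt_of_le_of_lt degree_C_le ?_) ?_)
    · exact_mod_cast hp.out.pos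
    · rw [degree_X]; exact_mod_cast hp.out.one_lt
  have hg : g.Monic := monic_X_pow_add hdeg'
  have hdeg : g.natDegree = p := by
    apply natDegree_eq_of_degree_eq_some
    simp only [g]
    rw [degree_add_eq_left_of_degree_lt (by rwa [degree_X_pow]), degree_X_pow]
  have hx : g.eval₂ (phi.{u} p).toRingHom tt = 0 := by simp [g, phi_tt]
  refine isFreeCover_of_bijective _ tt g hg (by rw [hdeg]; exact hp.out.pos) hx ?_
  let fwd := AdjoinRoot.lift (phi.{u} p).toRingHom tt hx
  let bwd : symA.{u} →+* AdjoinRoot g :=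
    (SymmetricAlgebra.lift (R := Zu.{u}) (M := Zu.{u}) (LinearMap.toSpanSingleton Zu.{u} _ (AdjoinRoot.root g))).toRingHom
  have hbT : bwd tt = AdjoinRoot.root g := by
    simp only [bwd, tt, AlgHom.toRingHom_eq_coe, RingHom.coe_coe, SymmetricAlgebra.lift_ι_apply,
      LinearMap.toSpanSingleton_apply]
    exact _root_.one_smul Zu.{u} _
  have hfR : fwd (AdjoinRoot.root g) = tt := AdjoinRoot.lift_root hx
  have hfO : ∀ x, fwd (AdjoinRoot.of g x) = phi.{u} p x := fun x => AdjoinRoot.lift_of hx
  have h1 : fwd.comp bwd = RingHom.id _ := hom_ext_symA _ _ (by simp [hbT, hfR])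
  have h2 : bwd.comp fwd = RingHom.id _ := by
    refine AdjoinRoot.ringHom_ext ?_ ?_
    · refine hom_ext_symA _ _ ?_
      simp only [RingHom.comp_apply, RingHom.id_apply, hfO, phi_tt, map_sub, map_pow, hbT]
      have := AdjoinRoot.eval₂_root g
      simp only [g, eval₂_add, eval₂_sub, eval₂_pow, eval₂_X, eval₂_C] at this
      linear_combination -this
    · simp [hfR, hbT]
  exact ⟨Function.LeftInverse.injective (g := bwd) (fun x => congr($h2 x)),
    Function.RightInverse.surjective (g := bwd) (fun x => congr($h1 x))⟩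

/-- The scheme map over `ℤ`. -/
noncomputable def gZ (p : ℕ) : Red.GaZ.{u} ⟶ Red.GaZ.{u} :=
  Over.homMk (Spec.map (CommRingCat.ofHom (phi.{u} p).toRingHom)) (specULiftZIsTerminal.hom_ext _ _)

lemma gaFn_map_gZ {S : Scheme.{u}} (p : ℕ) {T : Over S} (x : T ⟶ Red.Ga S) :
    Red.gaFn (x ≫ (Over.pullback (IsTerminal.from specULiftZIsTerminal S)).map (gZ p)) =
      Red.gaFn x - Red.gaFn x ^ p := by
  have e : (x ≫ (Over.pullback (IsTerminal.from specULiftZIsTerminal S)).map (gZ.{u} p)).left ≫
      pullback.fst (specA symA.{u}).hom (toZ S) =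
      (x.left ≫ pullback.fst _ _) ≫ Spec.map (CommRingCat.ofHom (phi.{u} p).toRingHom) := by
    simp only [Over.comp_left, Over.pullback_map_left, Category.assoc]
    erw [pullback.lift_fst]
    rfl
  rw [gaFn_eq_pt, pt_apply, e]
  refine (congr($(Scheme.Hom.comp_appTop _ _) _)).trans ?_
  refine (congrArg (fun a => (x.left ≫ pullback.fst _ _).appTop a)
    (congr($(Scheme.ΓSpecIso_inv_naturality (CommRingCat.ofHom (phi.{u} p).toRingHom)) tt)).symm).trans ?_
  refine (congrArg (pt symA.{u} x) (phi_tt p)).trans ?_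
  rw [map_sub, map_pow, gaFn_eq_pt]

/-- Let p be a prime and S a scheme of characteristic p (p = 0 in the ring of global functions). Let F
be the Frobenius endomorphism of the additive group over S, the S-endomorphism which raises the
coordinate function of every point to the p-th power, and let P be the difference of the identity
and F in the group of endomorphisms (on points x ↦ x − x^p). Let G' be the constant S-group (Z/p)_S:
an S-group together with an isomorphism of S-schemes e from G' to the disjoint union of copies of S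
indexed by Z/p, under which the S-points of indices m and n multiply to the S-point of index m + n;
and let i : G' → G_a be the homomorphism of S-groups which sends the S-point of index 1 to the point
whose coordinate is the unit global function. Then the Artin-Schreier sequence 1 → (Z/p)_S → G_a →
G_a → 1 is exact for the fpqc topology: i and P are homomorphisms with trivial composite, (x, g) ↦
(x, x + i(g)) identifies G_a ×_S G' with the fibre product of P with itself (so that i is a kernel
of P), and P acquires sections on the members of some fpqc covering family of its target. -/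
theorem result (p : ℕ) [Fact p.Prime] {S : Scheme.{u}}
    (hp : (p : Γ(S, ⊤)) = 0) (F : Red.Ga S ⟶ Red.Ga S)
    (hF : ∀ (T : Over S) (x : T ⟶ Red.Ga S), Red.gaFn (x ≫ F) = Red.gaFn x ^ p)
    {G' : Over S} [GrpObj G'] (e : G' ≅ TwC.const S (Multiplicative (ZMod p)))
    (he : TwC.IsConstGrp (Multiplicative (ZMod p)) G' e)
    (i : G' ⟶ Red.Ga S) [IsMonHom i]
    (hi : Red.gaFn (TwC.pt S (Multiplicative (ZMod p)) (Multiplicative.ofAdd 1) ≫ e.inv ≫ i) = 1) :
    NonAbH1.IsExactSeq Scheme.fpqcPrecoverage i (𝟙 (Red.Ga S) * F⁻¹) := by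
  have hP : ∀ {T : Over S} (x : T ⟶ Red.Ga S),
      Red.gaFn (x ≫ (𝟙 (Red.Ga S) * F⁻¹)) = Red.gaFn x - Red.gaFn x ^ p := by
    intro T x
    rw [MonObj.comp_mul, GrpObj.comp_inv, Category.comp_id, ga_mul, ga_inv, hF, sub_eq_add_neg]
  have : IsMonHom (𝟙 (Red.Ga S) * F⁻¹) := isMonHom_of_pts _ fun Y x y => ga_injective (by
    rw [hP, ga_mul, ga_mul, hP, hP]
    obtain ⟨r, hr⟩ := exists_add_pow_prime_eq (Fact.out : p.Prime) (Red.gaFn x) (Red.gaFn y)
    rw [hr, castp p hp Y]
    ring)
  have hcoord : ∀ m : ZMod p, ((m.val : Γ((𝟙_ (Over S)).left, ⊤)) ^ p) = (m.val : Γ((𝟙_ (Over S)).left, ⊤)) := by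
    intro m
    cases subsingleton_or_nontrivial Γ((𝟙_ (Over S)).left, ⊤)
    · exact Subsingleton.elim _ _
    haveI : CharP Γ((𝟙_ (Over S)).left, ⊤) p :=
      (CharP.charP_iff_prime_eq_zero Fact.out).mpr (castp p hp _)
    rw [← Nat.cast_pow, CharP.natCast_eq_natCast Γ((𝟙_ (Over S)).left, ⊤) p, Nat.ModEq,
      ← ZMod.natCast_eq_natCast_iff', Nat.cast_pow, ZMod.pow_card]
  have huv : i ≫ (𝟙 (Red.Ga S) * F⁻¹) = 1 := by
    rw [← cancel_epi e.inv, MonObj.comp_one]
    apply Over.OverMorphism.ext
    refine Sigma.hom_ext _ _ fun m => ?_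
    change (TwC.pt S _ m ≫ e.inv ≫ i ≫ (𝟙 (Red.Ga S) * F⁻¹)).left = (TwC.pt S _ m ≫ 1).left
    congr 1
    rw [MonObj.comp_one, ← Category.assoc, ← Category.assoc]
    apply ga_injective
    rw [hP, ga_one', Category.assoc, ← ofAdd_toAdd m]
    have h := fn_pt p e i hp he hi (T := 𝟙_ (Over S)) m.toAdd
    rw [toUnit_unique (toUnit (𝟙_ (Over S))) (𝟙 _), Category.id_comp] at h
    rw [h, hcoord, sub_self]
  refine ⟨inferInstance, inferInstance, huv, isPullback_of_kernel _ _ huv ?_ ?_, ?_⟩
  · intro T c hc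
    refine kernel_surj p e i hp he hi c ?_
    have h := congrArg Red.gaFn hc
    rw [hP, ga_one'] at h
    exact (sub_eq_zero.mp h).symm
  · exact fun h h' hh => kernel_inj p e i hp he hi h h' hh
  · have hmap : (𝟙 (Red.Ga S) * F⁻¹) = (Over.pullback (IsTerminal.from specULiftZIsTerminal S)).map (gZ p) := by
      apply ga_injective
      rw [← Category.id_comp (𝟙 (Red.Ga S) * F⁻¹), hP, ← gaFn_map_gZ, Category.id_comp]
    rw [hmap]
    exact isLocallyTrivialFor_of_isFreeCover (IsTerminal.from specULiftZIsTerminal S) (gZ p) _ rfl (freeCover p)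

end Groth.Agent.S6008
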