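import Groth.Statements.S6012
import Groth.Agent.FibC.Cleavage

set_option autoImplicit false
set_option backward.isDefEq.respectTransparency false
set_option backward.isDefEq.respectTransparency.types false
open CategoryTheory
universe v₁ v₂ u₁ u₂
open FibCat FibCat.Cleavage

namespace Groth.Agent.S6012

/-- Let `K` be a cleavage of an arbitrary functor `p : 𝒳 ⥤ 𝒮` (one chosen cartesian lift of every base
morphism at every object over its target; `p` is not assumed fibred). Then `p` is a fibred category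
(composites of cartesian morphisms are cartesian) if and only if, for all composable base morphisms
`g : R ⟶ T` and `f : T ⟶ S`, the comparison natural transformation `c_{f,g}` from `g^* f^*` to
`(fg)^*` determined by `K` is an isomorphism. -/
theorem result (𝒮 : Type u₁) (𝒳 : Type u₂) [Category.{v₁} 𝒮] [Category.{v₂} 𝒳] (p : 𝒳 ⥤ 𝒮) (K : FibCat.Cleavage p) :
    p.IsFibered ↔ ∀ (R S T : 𝒮) (f : T ⟶ S) (g : R ⟶ T), IsIso (K.comp f g) := by
  constructor
  · intro _ R S T f g
    have : ∀ a, IsIso ((K.comp f g).app a) := by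
      intro a
      obtain ⟨a, ha⟩ := a
      have h1 : p.IsCartesian g (K.lift (K.obj_proj ha f) g) := K.isCartesian _ g
      have h2 : p.IsCartesian f (K.lift ha f) := K.isCartesian _ f
      have h3 : p.IsCartesian (g ≫ f) (K.lift (K.obj_proj ha f) g ≫ K.lift ha f) :=
        Functor.IsFibered.comp g f _ _
      let e : (K.inverseImage f ⋙ K.inverseImage g).obj ⟨a, ha⟩ ≅ (K.inverseImage (g ≫ f)).obj ⟨a, ha⟩ :=
        Groth.Agent.FibC.fiberIso _ _
          (Functor.IsCartesian.domainUniqueUpToIso p (g ≫ f) (K.lift ha (g ≫ f))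
            (K.lift (K.obj_proj ha f) g ≫ K.lift ha f))
          (Functor.IsCartesian.domainUniqueUpToIso_inv_isHomLift p (g ≫ f) _ _)
      exact (inferInstance : IsIso e.hom)
    exact NatIso.isIso_of_isIso_app _
  · intro h
    refine { exists_isCartesian' := K.isPreFibered.exists_isCartesian', comp := ?_ }
    intro R S T f g a b c φ ψ _ _
    have hb := IsHomLift.domain_eq p g ψ
    have hc := IsHomLift.codomain_eq p g ψ
    let θ₂ := Functor.IsCartesian.domainUniqueUpToIso p g (K.lift hc g) ψ
    have : p.IsHomLift (𝟙 S) θ₂.hom :=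
      Functor.IsCartesian.domainUniqueUpToIso_inv_isHomLift p g (K.lift hc g) ψ
    have : p.IsCartesian f (φ ≫ θ₂.hom) := Functor.IsCartesian.of_comp_iso p f φ θ₂
    let θ₁ := Functor.IsCartesian.domainUniqueUpToIso p f (K.lift (K.obj_proj hc g) f) (φ ≫ θ₂.hom)
    have : p.IsHomLift (𝟙 R) θ₁.hom :=
      Functor.IsCartesian.domainUniqueUpToIso_inv_isHomLift p f _ _
    let A : p.Fiber T := Functor.Fiber.mk hc
    have := h R T S g f
    let e : K.obj (K.obj_proj hc g) f ≅ K.obj hc (f ≫ g) :=
      Functor.Fiber.fiberInclusion.mapIso (asIso ((K.comp g f).app A))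
    have : p.IsHomLift (𝟙 R) e.hom := ((K.comp g f).app A).2
    have he : e.hom ≫ K.lift hc (f ≫ g) = K.lift (K.obj_proj hc g) f ≫ K.lift hc g :=
      Groth.Agent.FibC.comp_app_lift K g f A
    have h₂ : θ₂.hom ≫ K.lift hc g = ψ := Functor.IsCartesian.fac p g (K.lift hc g) ψ
    have h₁ : θ₁.hom ≫ K.lift (K.obj_proj hc g) f = φ ≫ θ₂.hom :=
      Functor.IsCartesian.fac p f _ _
    have hfin : φ ≫ ψ = θ₁.hom ≫ e.hom ≫ K.lift hc (f ≫ g) := by
      rw [he, reassoc_of% h₁, h₂]
    rw [hfin]
    have : p.IsCartesian (f ≫ g) (e.hom ≫ K.lift hc (f ≫ g)) := Functor.IsCartesian.of_iso_comp p _ _ e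
    exact Functor.IsCartesian.of_iso_comp p _ _ θ₁

end Groth.Agent.S6012
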