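import Groth.Statements.S6013
import Groth.Agent.FibC.Cleavage

set_option autoImplicit false
set_option backward.isDefEq.respectTransparency false
set_option backward.isDefEq.respectTransparency.types false
open CategoryTheory
universe v₁ v₂ u₁ u₂
open FibCat FibCat.Cleavage

namespace Groth.Agent.S6013

/-- Let `p : 𝒳 ⥤ 𝒮` be a fibred category with a cleavage `K`, and let `f : T ⟶ S` be an isomorphism of
the base. Then the inverse-image functor `f^*` of `K`, from the fibre over `S` to the fibre over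
`T`, is an equivalence of categories. -/
theorem result (𝒮 : Type u₁) (𝒳 : Type u₂) [Category.{v₁} 𝒮] [Category.{v₂} 𝒳] (p : 𝒳 ⥤ 𝒮) [p.IsFibered] (K : FibCat.Cleavage p)
    (S T : 𝒮) (f : T ⟶ S) [IsIso f] : (K.inverseImage f).IsEquivalence := by
  have hiso : ∀ a : p.Fiber S, IsIso (K.lift a.2 f) := fun a =>
    Functor.IsStronglyCartesian.isIso_of_base_isIso p f (K.lift a.2 f)
  refine { faithful := ⟨fun {a b} φ ψ h => ?_⟩, full := ⟨fun {a b} θ => ?_⟩, essSurj := ⟨fun c => ?_⟩ }
  · apply Functor.Fiber.hom_ext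
    have h1 := Groth.Agent.FibC.inverseImage_map_lift K f φ
    rw [h, Groth.Agent.FibC.inverseImage_map_lift K f ψ] at h1
    have := hiso a
    exact (cancel_epi (K.lift a.2 f)).1 h1.symm
  · have := hiso a
    have := hiso b
    have := θ.2
    let θ' : K.obj a.2 f ⟶ K.obj b.2 f := θ.1
    have : p.IsHomLift (𝟙 T) θ' := θ.2
    have hl : p.IsHomLift (inv f ≫ f) (inv (K.lift a.2 f) ≫ θ' ≫ K.lift b.2 f) := inferInstance
    rw [IsIso.inv_hom_id] at hl
    refine ⟨⟨inv (K.lift a.2 f) ≫ θ' ≫ K.lift b.2 f, hl⟩, Groth.Agent.FibC.fiber_hom_ext_lift K f ?_⟩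
    rw [Groth.Agent.FibC.inverseImage_map_lift]
    exact IsIso.hom_inv_id_assoc (K.lift a.2 f) _
  · obtain ⟨c, hc⟩ := c
    obtain ⟨x, χ, hχ⟩ := Groth.Agent.FibC.exists_sc_lift (p := p) hc (inv f)
    have : IsIso χ := Functor.IsStronglyCartesian.isIso_of_base_isIso p (inv f) χ
    have hl : p.IsHomLift (inv (inv f)) (inv χ) := inferInstance
    rw [IsIso.inv_inv] at hl
    have hx : p.obj x = S := IsHomLift.codomain_eq p f (inv χ)
    have : p.IsCartesian f (inv χ) := inferInstance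
    exact ⟨⟨x, hx⟩, ⟨(Groth.Agent.FibC.fiberIso ⟨c, hc⟩ ((K.inverseImage f).obj ⟨x, hx⟩)
      (Functor.IsCartesian.domainUniqueUpToIso p f (K.lift hx f) (inv χ))
      (Functor.IsCartesian.domainUniqueUpToIso_inv_isHomLift p f _ _)).symm⟩⟩

end Groth.Agent.S6013
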