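import Groth.Statements.S6024
import Groth.Agent.LocCohZW.Seq

set_option autoImplicit false
universe u
open CategoryTheory CategoryTheory.Limits TopologicalSpace
open LocCohZ

namespace Groth.Agent.S6024

/-- Consider a topological space X carrying a sheaf of abelian groups F, and assume that H^1_Z(X, F)
vanishes for each closed subset Z of X (writing Z = X − U with U open). Under this assumption, F is
flasque. -/
theorem result {X : TopCat.{u}} (F : CohTop.Ab X)
    (h : ∀ U : Opens X, Subsingleton (LocCohZ.HZc F 1 U)) : TopCat.Sheaf.IsFlasque F := by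
  have key : ∀ U : Opens X, Function.Surjective (F.obj.map (homOfLE (le_top : U ≤ ⊤)).op).hom := by
    intro U s
    obtain ⟨z, hz⟩ := LocCohZW.exists_res F (le_top : U ≤ ⊤) 0 ((CohTop.Basic.HU0Equiv F U).symm s)
      (@Subsingleton.elim _ (h U) _ _)
    refine ⟨CohTop.Basic.HU0Equiv F ⊤ z, ?_⟩
    rw [← CohTop.Basic.HU0Equiv_res, hz, AddEquiv.apply_symm_apply]
  refine ⟨fun {V W} i => (AddCommGrpCat.epi_iff_surjective _).2 fun s => ?_⟩
  obtain ⟨t, rfl⟩ := key W.unop s
  refine ⟨(F.obj.map (homOfLE (le_top : V.unop ≤ ⊤)).op).hom t, ?_⟩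
  rw [← AddMonoidHom.comp_apply, ← AddCommGrpCat.hom_comp, ← F.obj.map_comp]
  rfl

end Groth.Agent.S6024
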