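import Groth.Statements.S6026
import Mathlib
import Groth.Agent.EtaleSite.AdjExt
import Groth.Agent.EtaleSite.Flasque
import Groth.Agent.CohTop.Restrict

set_option autoImplicit false
universe u
open CategoryTheory CategoryTheory.Limits TopologicalSpace
open LocCohZ

namespace Groth.Agent.S6026

open CategoryTheory CategoryTheory.Limits TopologicalSpace Opposite
open Groth.Agent.CohTop.Restrict

set_option synthInstance.maxHeartbeats 200000

variable {X : TopCat.{u}}

instance extZero_additive (V : Opens X) : (extZero V).Additive :=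
  (extZeroAdj V).left_adjoint_additive

instance extZero_finCol (V : Opens X) : PreservesFiniteColimits (extZero V) :=
  haveI := (extZeroAdj V).leftAdjoint_preservesColimits
  inferInstance

instance extZero_finLim (V : Opens X) : PreservesFiniteLimits (extZero V) := by
  haveI := (extZero V).preservesHomology_of_preservesMonos_and_cokernels
  exact (extZero V).preservesFiniteLimits_of_preservesHomology

/-- Extension by zero of a free sheaf. -/
noncomputable def extZeroFreeEquiv (V : Opens X) (A : Opens (TopCat.of V)) (F : CohTop.Ab X) :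
    ((extZero V).obj (CohCx.freeSheaf (Opens.grothendieckTopology (TopCat.of V)) A) ⟶ F) ≃
      (CohCx.freeSheaf (Opens.grothendieckTopology X) ((img V).obj A) ⟶ F) :=
  ((extZeroAdj V).homEquiv _ F).trans
    ((CohTop.Basic.freeHomEquiv _ A ((CohTop.restrFunctor V).obj F)).toEquiv.trans
      (CohTop.Basic.freeHomEquiv _ ((img V).obj A) F).symm.toEquiv)

theorem extZeroFreeEquiv_comp (V : Opens X) (A : Opens (TopCat.of V)) {F G : CohTop.Ab X}
    (f : (extZero V).obj (CohCx.freeSheaf (Opens.grothendieckTopology (TopCat.of V)) A) ⟶ F)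
    (φ : F ⟶ G) : extZeroFreeEquiv V A G (f ≫ φ) = extZeroFreeEquiv V A F f ≫ φ := by
  apply (CohTop.Basic.freeHomEquiv _ ((img V).obj A) G).injective
  refine ((CohTop.Basic.freeHomEquiv _ ((img V).obj A) G).apply_symm_apply _).trans ?_
  refine Eq.trans ?_ (CohTop.Basic.freeHomEquiv_comp _ (extZeroFreeEquiv V A F f) φ).symm
  refine Eq.trans (congrArg _ ((extZeroAdj V).homEquiv_naturality_right f φ)) ?_
  refine (CohTop.Basic.freeHomEquiv_comp _ _ _).trans ?_
  exact congrArg _ ((CohTop.Basic.freeHomEquiv _ ((img V).obj A) F).apply_symm_apply _).symm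

/-- `j_! ℤ_A = ℤ_A`. -/
noncomputable def extZeroFreeIso (V : Opens X) (A : Opens (TopCat.of V)) :
    (extZero V).obj (CohCx.freeSheaf (Opens.grothendieckTopology (TopCat.of V)) A) ≅
      CohCx.freeSheaf (Opens.grothendieckTopology X) ((img V).obj A) :=
  Coyoneda.fullyFaithful.preimageIso
    (NatIso.ofComponents (fun F => (extZeroFreeEquiv V A F).toIso)
      (fun {F G} φ => by ext f; exact extZeroFreeEquiv_comp V A f φ) :
      coyoneda.obj (op ((extZero V).obj (CohCx.freeSheaf (Opens.grothendieckTopology (TopCat.of V)) A))) ≅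
        coyoneda.obj (op (CohCx.freeSheaf (Opens.grothendieckTopology X) ((img V).obj A)))) |>.unop.symm

theorem extZeroFreeIso_hom_comp (V : Opens X) (A : Opens (TopCat.of V)) {F : CohTop.Ab X}
    (g : CohCx.freeSheaf (Opens.grothendieckTopology X) ((img V).obj A) ⟶ F) :
    (extZeroFreeIso V A).hom ≫ g = (extZeroFreeEquiv V A F).symm g := by
  have h : (extZeroFreeIso V A).hom = (extZeroFreeEquiv V A _).symm (𝟙 _) := rfl
  rw [h]
  apply (extZeroFreeEquiv V A F).injective
  rw [extZeroFreeEquiv_comp, Equiv.apply_symm_apply, Equiv.apply_symm_apply, Category.id_comp]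

/-- Naturality of `extZeroFreeIso`. -/
theorem extZeroFreeIso_natural (V : Opens X) {A B : Opens (TopCat.of V)} (i : B ⟶ A) :
    (extZero V).map (CohCx.freeSheafMap _ i) ≫ (extZeroFreeIso V A).hom =
      (extZeroFreeIso V B).hom ≫ CohCx.freeSheafMap _ ((img V).map i) := by
  conv_lhs => rw [← Category.comp_id (extZeroFreeIso V A).hom, extZeroFreeIso_hom_comp]
  rw [extZeroFreeIso_hom_comp]
  apply (extZeroFreeEquiv V B _).injective
  rw [Equiv.apply_symm_apply]
  apply (CohTop.Basic.freeHomEquiv _ ((img V).obj B) _).injective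
  refine ((CohTop.Basic.freeHomEquiv _ ((img V).obj B) _).apply_symm_apply _).trans ?_
  refine Eq.trans (congrArg _ ((extZeroAdj V).homEquiv_naturality_left _ _)) ?_
  refine (CohTop.Basic.freeHomEquiv_map_comp _ i _).trans ?_
  refine Eq.trans ?_ (congrArg (CohTop.Basic.freeHomEquiv _ ((img V).obj B) _)
    (Category.comp_id (CohCx.freeSheafMap _ ((img V).map i))))
  refine Eq.trans ?_ (CohTop.Basic.freeHomEquiv_map_comp _ ((img V).map i) (𝟙 _)).symm
  refine congrArg _ ?_
  exact (congrArg (CohTop.Basic.freeHomEquiv _ A _)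
    (((extZeroAdj V).homEquiv _ _).apply_symm_apply _)).trans (AddEquiv.apply_symm_apply _ _)

/-- `j_!(ℤ_V/ℤ_W) = ℤ_V/ℤ_W`. -/
noncomputable def extZeroZq (V : Opens X) {A B : Opens (TopCat.of V)} (h : B ≤ A) :
    (extZero V).obj (LocCohZ.zq h) ≅ LocCohZ.zq ((img V).map (homOfLE h)).le :=
  PreservesCokernel.iso (extZero V) _ ≪≫
    cokernel.mapIso _ _ (extZeroFreeIso V B) (extZeroFreeIso V A)
      (extZeroFreeIso_natural V (homOfLE h))

theorem img_inv {V : Opens X} {W : Opens X} (h : W ≤ V) :
    (img V).obj ((Opens.map (CohCx.incl V)).obj W) = W := by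
  ext x
  exact ⟨fun ⟨y, hy, he⟩ => he ▸ hy, fun hx => ⟨⟨x, h hx⟩, hx, rfl⟩⟩

theorem freeSheafMap_eqToIso {a b W V : Opens X} (f : a ⟶ b) (e1 : a = W) (e2 : b = V) (h : W ≤ V) :
    CohCx.freeSheafMap (Opens.grothendieckTopology X) f ≫
        (eqToIso (congrArg (CohCx.freeSheaf (Opens.grothendieckTopology X)) e2)).hom =
      (eqToIso (congrArg (CohCx.freeSheaf (Opens.grothendieckTopology X)) e1)).hom ≫
        CohCx.freeSheafMap (Opens.grothendieckTopology X) (homOfLE h) := by
  subst e1 e2
  simp only [eqToIso_refl, Iso.refl_hom, Category.comp_id, Category.id_comp]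
  exact congrArg _ (Subsingleton.elim _ _)

/-- The comparison with the restriction. -/
noncomputable def zqIso {W V : Opens X} (h : W ≤ V) :
    (extZero V).obj (LocCohZ.zq (le_top : (Opens.map (CohCx.incl V)).obj W ≤ ⊤)) ≅ LocCohZ.zq h :=
  extZeroZq V (le_top : (Opens.map (CohCx.incl V)).obj W ≤ ⊤) ≪≫
    cokernel.mapIso _ _ (eqToIso (congrArg _ (img_inv h))) (eqToIso (congrArg _ (img_top V)))
      (freeSheafMap_eqToIso _ (img_inv h) (img_top V) h)

/-- Let X be a topological space, W ⊆ V opens of X and Z = V − W. For every i there is an isomorphism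
H^i_Z(X, F) ≅ H^i_Z(V, F|_V), natural in the abelian sheaf F on X, between cohomology with supports
in Z computed on X and computed on the open subspace V. (Existence of a natural family of
isomorphisms; the published statement has the canonical maps of cohomological functors.) -/
theorem result {X : TopCat.{u}} {W V : Opens X} (h : W ≤ V) (i : ℕ) :
    ∃ e : ∀ F : CohTop.Ab X,
        LocCohZ.HZ F i h ≃+ LocCohZ.HZc (CohTop.restr F V) i ((Opens.map (CohCx.incl V)).obj W),
      ∀ (F G : CohTop.Ab X) (φ : F ⟶ G) (x : LocCohZ.HZ F i h),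
        e G (LocCohZ.map φ i h x) =
          LocCohZ.map ((CohTop.restrFunctor V).map φ) i
            (le_top : (Opens.map (CohCx.incl V)).obj W ≤ ⊤) (e F x) := by
  have hz : ∀ (F : CohTop.Ab X) (q : ℕ), 0 < q → IsZero (((CohTop.restrFunctor V).rightDerived q).obj F) :=
    fun F q hq => by
      obtain ⟨k, rfl⟩ : ∃ k, q = k + 1 := ⟨q - 1, by omega⟩
      exact EtaleSite.Flasque.isZero_rightDerived_of_exact (R := CohTop.restrFunctor V) k F
  let A := LocCohZ.zq (le_top : (Opens.map (CohCx.incl V)).obj W ≤ ⊤)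
  let t : ∀ F : CohTop.Ab X, Abelian.Ext A (CohTop.restr F V) i ≃+ LocCohZ.HZ F i h := fun F =>
    AddEquiv.ofBijective
      (AddMonoidHom.mk' (fun e => (Abelian.Ext.mk₀ (zqIso h).inv).comp
          (EtaleSite.AdjExt.toExt (extZeroAdj V) A F i e) (zero_add i))
        (fun a b => by simp [EtaleSite.AdjExt.toExt, Abelian.Ext.mapExactFunctor_add]))
      (show Function.Bijective ((fun z : Abelian.Ext ((extZero V).obj A) F i =>
          (Abelian.Ext.mk₀ (zqIso h).inv).comp z (zero_add i)) ∘
            EtaleSite.AdjExt.toExt (extZeroAdj V) A F i) from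
        (show Function.Bijective (fun z : Abelian.Ext ((extZero V).obj A) F i =>
            (Abelian.Ext.mk₀ (zqIso h).inv).comp z (zero_add i)) from
          ⟨fun a b hab => by
            have := congrArg (fun z => (Abelian.Ext.mk₀ (zqIso h).hom).comp z (zero_add i)) hab
            simpa [← Abelian.Ext.comp_assoc_of_second_deg_zero] using this,
           fun b => ⟨(Abelian.Ext.mk₀ (zqIso h).hom).comp b (zero_add i), by
            simp [← Abelian.Ext.comp_assoc_of_second_deg_zero]⟩⟩).comp
          (EtaleSite.AdjExt.toExt_bijective (extZeroAdj V) i A F (hz F)))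
  refine ⟨fun F => (t F).symm, fun F G φ x => ?_⟩
  obtain ⟨e, rfl⟩ := (t F).surjective x
  apply (t G).injective
  rw [AddEquiv.apply_symm_apply, AddEquiv.symm_apply_apply]
  change ((Abelian.Ext.mk₀ (zqIso h).inv).comp (EtaleSite.AdjExt.toExt (extZeroAdj V) A F i e) (zero_add i)).comp
      (Abelian.Ext.mk₀ φ) (add_zero i) = (Abelian.Ext.mk₀ (zqIso h).inv).comp
        (EtaleSite.AdjExt.toExt (extZeroAdj V) A G i
          (e.comp (Abelian.Ext.mk₀ ((CohTop.restrFunctor V).map φ)) (add_zero i))) (zero_add i)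
  rw [EtaleSite.AdjExt.toExt_comp_mk₀, Abelian.Ext.comp_assoc_of_third_deg_zero]

end Groth.Agent.S6026
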