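import Groth.Statements.S6028
import Mathlib.CategoryTheory.Abelian.Refinements

set_option autoImplicit false
universe u
open CategoryTheory CategoryTheory.Limits TopologicalSpace
open LocCohZ

namespace Groth.Agent.S6028

theorem aux {A : Type*} [Category A] [Abelian A] {P Q R : A} (a : P ⟶ Q) (b : Q ⟶ R) [Mono b]
    (c : P ⟶ R) (hc : a ≫ b = c) (f : cokernel a ⟶ cokernel c) (g : cokernel c ⟶ cokernel b)
    (hf : cokernel.π a ≫ f = b ≫ cokernel.π c) (hg : cokernel.π c ≫ g = cokernel.π b) :
    ∃ w : f ≫ g = 0, (ShortComplex.mk f g w).ShortExact := by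
  have w : f ≫ g = 0 := by
    rw [← cancel_epi (cokernel.π a), ← Category.assoc, hf, Category.assoc, hg, cokernel.condition,
      comp_zero]
  have hepi : Epi g := epi_of_epi_fac hg
  have hmono : Mono f := Preadditive.mono_of_cancel_zero _ fun {T} x hx => by
    obtain ⟨T₁, p₁, hp₁, y, hy⟩ := surjective_up_to_refinements_of_epi (cokernel.π a) x
    have h0 : (y ≫ b) ≫ cokernel.π c = 0 := by
      rw [Category.assoc, ← hf, ← Category.assoc, ← hy, Category.assoc, hx, comp_zero]
    have hex : (ShortComplex.mk c (cokernel.π c) (cokernel.condition c)).Exact :=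
      ShortComplex.exact_of_g_is_cokernel _ (cokernelIsCokernel c)
    obtain ⟨T₂, p₂, hp₂, z, hz⟩ := hex.exact_up_to_refinements (y ≫ b) h0
    have hy2 : p₂ ≫ y = z ≫ a := by
      rw [← cancel_mono b, Category.assoc, Category.assoc, hc]
      exact hz
    rw [← cancel_epi p₁, ← cancel_epi p₂, hy, ← Category.assoc, hy2, Category.assoc,
      cokernel.condition, comp_zero, comp_zero, comp_zero]
  refine ⟨w, ShortComplex.ShortExact.mk' (ShortComplex.exact_of_g_is_cokernel _ ?_) hmono hepi⟩
  refine CokernelCofork.IsColimit.ofπ' _ _ fun {K} k hk => ?_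
  refine ⟨cokernel.desc b (cokernel.π c ≫ k) ?_, ?_⟩
  · change f ≫ k = 0 at hk
    rw [← Category.assoc, ← hf, Category.assoc, hk, comp_zero]
  · rw [← cancel_epi (cokernel.π c), ← Category.assoc, hg, cokernel.π_desc]


/-- Let X be a topological space and W ⊆ V ⊆ T opens of X; put Z = T − W, Z' = T − V and Z'' = V − W, so
that Z' is closed in Z with complement Z''. Then 0 → ℤ_{Z'',X} → ℤ_{Z,X} → ℤ_{Z',X} → 0 is a short
exact sequence of abelian sheaves on X, where ℤ_{Z,X} = ℤ_T/ℤ_W and the maps are the induced ones. -/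
theorem result {X : TopCat.{u}} {W V T : Opens X} (hWV : W ≤ V) (hVT : V ≤ T) :
    ∃ w : LocCohZ.zqMap (hWV.trans hVT) hWV le_rfl hVT ≫ LocCohZ.zqMap hVT (hWV.trans hVT) hWV le_rfl = 0,
      (ShortComplex.mk _ _ w).ShortExact := by
  have hmono := (zqSeq_shortExact hVT).mono_f
  exact @aux _ _ _ _ _ _ (CohCx.freeSheafMap _ (homOfLE hWV)) (CohCx.freeSheafMap _ (homOfLE hVT))
    hmono (CohCx.freeSheafMap _ (homOfLE (hWV.trans hVT)))
    (by rw [← CohFree.freeSheafMap_comp]; rfl) _ _ (cokernel.π_desc _ _ _)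
    ((cokernel.π_desc _ _ _).trans (by
      rw [show (homOfLE (le_refl T) : T ⟶ T) = 𝟙 T from rfl, CohFree.freeSheafMap_id]
      exact Category.id_comp _))

end Groth.Agent.S6028
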