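import Groth.Statements.S6031
import Groth.Agent.LocCohZW.AffCech
import Groth.Agent.LocCohZW.Seq

set_option autoImplicit false
universe u
open CategoryTheory CategoryTheory.Limits TopologicalSpace AlgebraicGeometry
open LocCohZ

namespace Groth.Agent.S6031

/-- Let Y be an affine scheme, U an open subset with closed complement Z and M a quasi-coherent
O_Y-module with underlying abelian sheaf F. Then 0 → H^0_Z(Y, F) → H^0(Y, F) → H^0(U, F) → H^1_Z(Y,
F) → 0 is exact, i.e. the connecting map H^0(U, F) → H^1_Z(Y, F) is surjective, and the connecting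
maps H^i(U, F) → H^{i+1}_Z(Y, F) are bijective for all i ≥ 1. (The published statement assumes U
quasi-compact; the printed proof of these two assertions only uses the vanishing of the higher
cohomology of F on the affine scheme Y, so U is an arbitrary open here.) -/
theorem result (Y : Scheme.{u}) [IsAffine Y] (M : Y.Modules)
    (hM : Coh.IsQCoh M) (U : Y.Opens) :
    Function.Surjective (LocCohZ.delta (X := Y.carrier) (Coh.toAb M) 0 (le_top : U ≤ ⊤)) ∧
      ∀ i : ℕ, 1 ≤ i →
        Function.Bijective (LocCohZ.delta (X := Y.carrier) (Coh.toAb M) i (le_top : U ≤ ⊤)) := by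
  have : M.IsQuasicoherent := hM
  have hv : ∀ k, Subsingleton (CohTop.HU (X := Y.carrier) (Coh.toAb M) (k + 1) (⊤ : Y.Opens)) := fun k =>
    LocCoh.Punctured.subsingleton_HU_of_isAffineOpen M (isAffineOpen_top Y) k
  refine ⟨fun x => LocCohZW.exists_delta _ _ 0 x ((hv 0).elim _ _), fun i hi => ?_⟩
  obtain ⟨k, rfl⟩ := Nat.exists_eq_add_of_le' hi
  refine ⟨(injective_iff_map_eq_zero _).mpr fun y hy => ?_,
    fun x => LocCohZW.exists_delta _ _ (k + 1) x ((hv (k + 1)).elim _ _)⟩
  obtain ⟨z, rfl⟩ := LocCohZW.exists_res _ _ (k + 1) y hy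
  rw [(hv k).elim z 0, map_zero]

end Groth.Agent.S6031
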