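import Groth.Statements.S6032
import Groth.Agent.LocCohZW.TildeKoszul

set_option autoImplicit false
universe u
open CategoryTheory CategoryTheory.Limits TopologicalSpace AlgebraicGeometry
open LocCohZ

namespace Groth.Agent.S6032

attribute [local instance] HasDerivedCategory.standard


/-- Let A be a commutative ring, f = (f_1, …, f_r) a finite family of elements of A with zero locus Y in
X = Spec A, and M an A-module with associated sheaf M~. For every i the group colim_n H^i(f^n, M)
(direct limit of Koszul cohomology of the powers) is isomorphic to H^i_Y(X, M~). (Existence of an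
additive isomorphism in each degree; the published statement has an isomorphism of ∂-functors in M.) -/
theorem result (A : Type u) [CommRing A] (fs : List A) (M : Type u)
    [AddCommGroup M] [Module A M] (i : ℕ) :
    Nonempty (CohIII.koszulHLim fs (ModuleCat.of A M) i ≃+
      LocCohZ.HZM (Spec (CommRingCat.of A)) (AlgebraicGeometry.tilde (R := CommRingCat.of A) (ModuleCat.of A M)) i
        (LocCoh.puncturedOpen A (Ideal.span {a | a ∈ fs}))) := by
  classical
  let f : ULift.{u} (Fin fs.length) → A := fun i => fs.get i.down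
  have hf : ∀ a, a ∈ fs ↔ ∃ i, f i = a := fun a => by
    rw [List.mem_iff_get]
    exact ⟨fun ⟨n, h⟩ => ⟨⟨n⟩, h⟩, fun ⟨i, h⟩ => ⟨i.down, h⟩⟩
  let R : CommRingCat.{u} := CommRingCat.of A
  let U : (Spec R).Opens := LocCoh.puncturedOpen A (Ideal.span {a | a ∈ fs})
  have hU : U = ⨆ i, LocCoh.Punctured.dcov (R := R) f i :=
    LocCoh.Punctured.puncturedOpen_eq_iSup f _ (by congr 1; ext a; exact hf a)
  let N : ModuleCat.{u} R := ModuleCat.of A M
  let F : CohTop.Ab (Spec R).carrier := Coh.toAb (tilde N)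
  have hv : ∀ k, Subsingleton (CohTop.HU F (k + 1) (⊤ : (Spec R).Opens)) := fun k =>
    LocCoh.Punctured.subsingleton_HU_of_isAffineOpen (tilde N) (isAffineOpen_top _) k
  rcases i with _ | _ | q
  · obtain ⟨e⟩ := LocCohZW.TildeKoszul.nonempty_ker_equiv (R := R) N f fs hf U hU
    exact ⟨e.symm.trans (LocCohZ.sect0Equiv F (le_top : U ≤ ⊤)).symm⟩
  · obtain ⟨e⟩ := LocCohZW.TildeKoszul.nonempty_coker_equiv (R := R) N f fs hf U hU
    let a : CohTop.HU F 0 U ≃+ F.obj.obj (Opposite.op U) := CohTop.Basic.HU0Equiv F U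
    let χ : F.obj.obj (Opposite.op U) →+ LocCohZ.HZ F 1 (le_top : U ≤ ⊤) :=
      (LocCohZ.delta F 0 (le_top : U ≤ ⊤)).comp a.symm.toAddMonoidHom
    have hχ : Function.Surjective χ := fun x => by
      obtain ⟨y, hy⟩ := LocCohZW.exists_delta F (le_top : U ≤ ⊤) 0 x ((hv 0).elim _ _)
      refine ⟨a y, ?_⟩
      change LocCohZ.delta F 0 (le_top : U ≤ ⊤) (a.symm (a y)) = x
      rw [AddEquiv.symm_apply_apply, hy]
    have hk : (F.obj.map (homOfLE (le_top : U ≤ ⊤)).op).hom.range = χ.ker := by
      ext t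
      constructor
      · rintro ⟨m, rfl⟩
        obtain ⟨z, rfl⟩ := (CohTop.Basic.HU0Equiv F (⊤ : (Spec R).Opens)).surjective m
        change LocCohZ.delta F 0 (le_top : U ≤ ⊤)
          (a.symm ((F.obj.map (homOfLE (le_top : U ≤ ⊤)).op).hom _)) = 0
        rw [← CohTop.Basic.HU0Equiv_res F (le_top : U ≤ ⊤), AddEquiv.symm_apply_apply]
        exact LocCohZW.delta_res F (le_top : U ≤ ⊤) 0 z
      · intro ht
        obtain ⟨z, hz⟩ := LocCohZW.exists_res F (le_top : U ≤ ⊤) 0 (a.symm t) ht
        refine ⟨CohTop.Basic.HU0Equiv F ⊤ z, ?_⟩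
        rw [← CohTop.Basic.HU0Equiv_res F (le_top : U ≤ ⊤), hz]
        exact a.apply_symm_apply t
    exact ⟨e.symm.trans ((QuotientAddGroup.quotientAddEquivOfEq hk).trans
      (QuotientAddGroup.quotientKerEquivOfSurjective χ hχ))⟩
  · obtain ⟨e⟩ := LocCoh.Punctured.nonempty_HH_equiv_limH (R := R) N f fs hf U hU q
    have hb : Function.Bijective (LocCohZ.delta F (q + 1) (le_top : U ≤ ⊤)) := by
      refine ⟨(injective_iff_map_eq_zero _).mpr fun y hy => ?_,
        fun x => LocCohZW.exists_delta F (le_top : U ≤ ⊤) (q + 1) x ((hv (q + 1)).elim _ _)⟩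
      obtain ⟨z, rfl⟩ := LocCohZW.exists_res F (le_top : U ≤ ⊤) (q + 1) y hy
      rw [(hv q).elim z 0, map_zero]
    have hd : ((q + 1 + 1 : ℕ) : ℤ) - fs.length = (q : ℤ) + 2 - fs.length := by push_cast; ring
    let e'' := KoszulCech.hLimEquiv fs (ModuleCat.of A M) (q + 1 + 1)
    rw [hd] at e''
    exact ⟨e''.toAddEquiv.trans (e.symm.trans ((CohTop.Restrict.HUEquivRestr F U (q + 1)).symm.trans
      (AddEquiv.ofBijective _ hb)))⟩

end Groth.Agent.S6032
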