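import Groth.Statements.S6033
import Groth.Agent.S6023
import Groth.Agent.S6024
import Groth.Agent.S6032
-- import your own Groth.Agent.* helpers here

set_option autoImplicit false
universe u
open CategoryTheory CategoryTheory.Limits TopologicalSpace AlgebraicGeometry
open LocCohZ

namespace Groth.Agent.S6033

/-- Let A be a commutative ring such that the underlying space of X = Spec A is Noetherian. Then M~ is
flasque for every injective A-module M if and only if colim_n H^1(f^n, M) = 0 (direct limit of
Koszul cohomology of the powers) for every finite family f of elements of A and every injective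
A-module M; and in that case colim_n H^i(f^n, M) = 0 for all i > 0 as well. -/
theorem result (A : Type u) [CommRing A]
    [NoetherianSpace (PrimeSpectrum A)] :
    ((∀ (M : Type u) [AddCommGroup M] [Module A M], Module.Injective A M →
        TopCat.Sheaf.IsFlasque (Coh.toAb (AlgebraicGeometry.tilde (R := CommRingCat.of A) (ModuleCat.of A M)))) ↔
      ∀ (fs : List A) (M : Type u) [AddCommGroup M] [Module A M], Module.Injective A M →
        Subsingleton (CohIII.koszulHLim fs (ModuleCat.of A M) 1)) ∧
    ((∀ (M : Type u) [AddCommGroup M] [Module A M], Module.Injective A M →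
        TopCat.Sheaf.IsFlasque (Coh.toAb (AlgebraicGeometry.tilde (R := CommRingCat.of A) (ModuleCat.of A M)))) →
      ∀ (fs : List A) (M : Type u) [AddCommGroup M] [Module A M], Module.Injective A M →
        ∀ i : ℕ, 0 < i → Subsingleton (CohIII.koszulHLim fs (ModuleCat.of A M) i)) := by
  classical
  have key : ∀ (fs : List A) (M : Type u) [AddCommGroup M] [Module A M] (i : ℕ),
      (Subsingleton (CohIII.koszulHLim fs (ModuleCat.of A M) i) ↔
      Subsingleton (LocCohZ.HZM (Spec (CommRingCat.of A))
        (AlgebraicGeometry.tilde (R := CommRingCat.of A) (ModuleCat.of A M)) i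
        (LocCoh.puncturedOpen A (Ideal.span {a | a ∈ fs})))) := fun fs M _ _ i => by
    obtain ⟨e⟩ := Groth.Agent.S6032.result A fs M i
    exact ⟨fun h => e.symm.toEquiv.subsingleton, fun h => e.toEquiv.subsingleton⟩
  have van : (∀ (M : Type u) [AddCommGroup M] [Module A M], Module.Injective A M →
        TopCat.Sheaf.IsFlasque (Coh.toAb (AlgebraicGeometry.tilde (R := CommRingCat.of A) (ModuleCat.of A M)))) →
      ∀ (fs : List A) (M : Type u) [AddCommGroup M] [Module A M], Module.Injective A M →
        ∀ i : ℕ, 0 < i → Subsingleton (CohIII.koszulHLim fs (ModuleCat.of A M) i) := by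
    intro H fs M _ _ hM i hi
    haveI := H M hM
    exact (key fs M i).mpr ((Groth.Agent.S6023.result _).1 _ _ _ i hi)
  refine ⟨⟨fun H fs M _ _ hM => van H fs M hM 1 Nat.one_pos, fun H M _ _ hM => ?_⟩, van⟩
  refine Groth.Agent.S6024.result _ fun U => ?_
  let U' : TopologicalSpace.Opens (PrimeSpectrum A) := U
  obtain ⟨t, ht⟩ := PrimeSpectrum.isCompact_isOpen_iff.mp
    ⟨TopologicalSpace.NoetherianSpace.isCompact (U' : Set (PrimeSpectrum A)), U'.2⟩
  have hU : U = LocCoh.puncturedOpen A (Ideal.span {a | a ∈ t.toList}) := by
    apply TopologicalSpace.Opens.ext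
    refine ht.symm.trans ?_
    change _ = (PrimeSpectrum.zeroLocus (R := A) (Ideal.span {a | a ∈ t.toList} : Set A))ᶜ
    rw [PrimeSpectrum.zeroLocus_span]
    congr 2
    ext a
    simp
  rw [hU]
  exact (key t.toList M 1).mp (H t.toList M hM)

end Groth.Agent.S6033
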