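import Groth.Statements.S6034
import Groth.Agent.LocCohZW.DepthZ

set_option autoImplicit false
universe u
open CategoryTheory CategoryTheory.Limits TopologicalSpace AlgebraicGeometry
open LocCohZ

namespace Groth.Agent.S6034

/-- Let X be a locally Noetherian scheme, Y a closed subset with open complement U, M a coherent
O_X-module with underlying abelian sheaf F and n a natural number. Then ℋ^i_Y(F) = 0 for all i < n
if and only if depth M_x ≥ n for every x ∈ Y. -/
theorem result (X : Scheme.{u}) [IsLocallyNoetherian X] (U : X.Opens)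
    (M : X.Modules) (hM : Coh.IsCoh M) (n : ℕ) :
    (∀ i : ℕ, i < n → IsZero ((LocCohZ.HZsh (X := X.carrier) U i).obj (Coh.toAb M))) ↔
      ∀ x : X, x ∉ (U : Set X) →
        (n : ℕ∞) ≤ LocCoh.depth (X.presheaf.stalk x) (M.presheaf.stalk x) := by
  let T : Closeds X := ⟨(U : Set X)ᶜ, U.isOpen.isClosed_compl⟩
  have hT : T.compl = U := Opens.ext (compl_compl _)
  rw [← hT, LocCohZW.DepthZ.isZero_HZsh_iff_basis (Y := X.carrier) T.compl (Coh.toAb M)
    (fun W : X.Opens => IsAffineOpen W) (fun V y hy => ?_) n]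
  · constructor
    · intro h x hx
      obtain ⟨_, ⟨W, hW, rfl⟩, hxW, -⟩ :=
        X.isBasis_affineOpens.exists_subset_of_mem_open (Set.mem_univ x) isOpen_univ
      refine (LocCohZW.DepthZ.forall_subsingleton_HZ_iff M hM hW T n).mp (h W hW) x hxW ?_
      exact fun hxU => hx (by rw [hT]; exact hxU)
    · intro h W hW
      refine (LocCohZW.DepthZ.forall_subsingleton_HZ_iff M hM hW T n).mpr fun y _ hy => h y ?_
      rw [hT]
      exact hy
  · obtain ⟨_, ⟨W, hW, rfl⟩, hyW, hWV⟩ :=
      X.isBasis_affineOpens.exists_subset_of_mem_open (show y ∈ (V : Set X) from hy) V.isOpen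
    exact ⟨W, hW, hyW, hWV⟩

end Groth.Agent.S6034
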