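import Groth.Statements.S6036
import Mathlib
import Groth.Agent.H85.ClosedPush
import Groth.Agent.LocCohZW.Basic

set_option autoImplicit false
universe u
open CategoryTheory CategoryTheory.Limits TopologicalSpace
open LocCohZ

namespace Groth.Agent.S6036

open CategoryTheory CategoryTheory.Limits TopologicalSpace Opposite

set_option synthInstance.maxHeartbeats 200000

variable {X : TopCat.{u}} (U : Opens X)

theorem le_of_avoid (W : Opens X) (hW : ∀ z, CohCx.inclCompl U z ∉ W) : W ≤ U :=
  fun x hx => by_contra fun hxU => hW ⟨x, hxU⟩ hx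

theorem isInducing_incl : Topology.IsInducing (CohCx.inclCompl U) := Topology.IsInducing.subtypeVal

theorem subsingleton_sectSupp (I : CohTop.Ab X) (W : Opens X) (hW : ∀ z, CohCx.inclCompl U z ∉ W) :
    Subsingleton ((CohCx.sectSupp U I).obj.obj (op W)) := by
  refine subsingleton_of_forall_eq 0 fun t => ?_
  apply ((AddCommGrpCat.mono_iff_injective _).1 (LocCohZW.kerSeq_map_exact U I W).2)
  have h := (LocCohZW.secEquiv U I W t).2
  change _ = 0 at h
  rw [map_zero]
  have e : W ⊓ U = W := inf_eq_left.2 (le_of_avoid U W hW)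
  refine ((LocCohZW.res_eq_zero_iff_of_le (F := I) inf_le_left le_rfl e _).1 h ▸ ?_)
  change _ = (I.obj.map (𝟙 (op W))).hom _
  rw [I.obj.map_id]
  rfl

theorem comp_unit_eq_zero (B : CohTop.Ab (TopCat.of ((U : Set X)ᶜ : Set X))) (I : CohTop.Ab X)
    (g : (CohTop.push (CohCx.inclCompl U)).obj B ⟶ I) : g ≫ LocCohZW.unitU U I = 0 := by
  apply Sheaf.hom_ext
  refine NatTrans.ext (funext fun V => ConcreteCategory.hom_ext _ _ fun s => ?_)
  change ((LocCohZW.ev V.unop).map (LocCohZW.unitU U I)).hom ((g.hom.app V).hom s) = 0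
  rw [LocCohZW.unit_app_eq_zero_iff]
  refine (ConcreteCategory.congr_hom (g.hom.naturality (homOfLE (inf_le_left : V.unop ⊓ U ≤ V.unop)).op) s).symm.trans ?_
  have := H85.subsingleton_push_sections (i := CohCx.inclCompl U) B (V.unop ⊓ U) fun (z : ((U : Set X)ᶜ : Set X)) (hz : (z : X) ∈ V.unop ⊓ U) => z.2 hz.2
  exact (congrArg (g.hom.app (op (V.unop ⊓ U))).hom (@Subsingleton.elim _ this _ 0)).trans (map_zero _)

noncomputable abbrev adjZ := TopCat.Sheaf.pullbackPushforwardAdjunction AddCommGrpCat.{u} (CohCx.inclCompl U)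

theorem isIso_unit_sectSupp (I : CohTop.Ab X) :
    IsIso ((adjZ U).unit.app ((LocCohZ.sectSuppF U).obj I)) := by
  have hc : IsClosed (Set.range (CohCx.inclCompl U)) := by
    change IsClosed (Set.range (Subtype.val : ((U : Set X)ᶜ : Set X) → X))
    rw [Subtype.range_coe]; exact U.isOpen.isClosed_compl
  obtain ⟨H, ⟨e⟩⟩ := H85.mem_essImage_push (isInducing_incl U) hc (CohCx.sectSupp U I)
    (subsingleton_sectSupp U I)
  let ff := H85.pushFullyFaithful (isInducing_incl U)
  haveI hF1 : (TopCat.Sheaf.pushforward AddCommGrpCat.{u} (CohCx.inclCompl U)).Full := ff.full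
  haveI hF2 : (TopCat.Sheaf.pushforward AddCommGrpCat.{u} (CohCx.inclCompl U)).Faithful := ff.faithful
  exact @Adjunction.isIso_unit_app_of_iso _ _ _ _ _ _ (adjZ U) hF2 hF1 H _ e.symm

/-- Maps out of a sheaf supported on `Z` are maps into `Γ_Z`. -/
noncomputable def liftEquiv (G : CohTop.Ab (TopCat.of ((U : Set X)ᶜ : Set X))) (F : CohTop.Ab X) :
    ((CohTop.push (CohCx.inclCompl U)).obj G ⟶ F) ≃
      ((CohTop.push (CohCx.inclCompl U)).obj G ⟶ (LocCohZ.sectSuppF U).obj F) where
  toFun g := kernel.lift _ g (comp_unit_eq_zero U G F g)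
  invFun h := h ≫ kernel.ι (LocCohZW.unitU U F)
  left_inv g := kernel.lift_ι _ _ _
  right_inv h := (cancel_mono (kernel.ι (LocCohZW.unitU U F))).1 (kernel.lift_ι _ _ _)

theorem liftEquiv_comp {G : CohTop.Ab (TopCat.of ((U : Set X)ᶜ : Set X))} {F F' : CohTop.Ab X}
    (g : (CohTop.push (CohCx.inclCompl U)).obj G ⟶ F) (φ : F ⟶ F') :
    liftEquiv U G F' (g ≫ φ) = liftEquiv U G F g ≫ (LocCohZ.sectSuppF U).map φ := by
  apply (liftEquiv U G F').symm.injective
  rw [Equiv.symm_apply_apply]
  change g ≫ φ = (liftEquiv U G F g ≫ (LocCohZ.sectSuppF U).map φ) ≫ kernel.ι (LocCohZW.unitU U F')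
  refine Eq.trans ?_ (Category.assoc _ _ _).symm
  have h1 : (LocCohZ.sectSuppF U).map φ ≫ kernel.ι (LocCohZW.unitU U F') =
      kernel.ι (LocCohZW.unitU U F) ≫ φ := kernel.lift_ι _ _ _
  refine Eq.trans ?_ (congrArg (liftEquiv U G F g ≫ ·) h1).symm
  refine Eq.trans ?_ (Category.assoc _ _ _)
  exact congrArg (· ≫ φ) ((liftEquiv U G F).left_inv g).symm

/-- The adjunction. -/
noncomputable def sectAdj :
    CohTop.push (CohCx.inclCompl U) ⊣ LocCohZ.sectSuppF U ⋙ CohTop.pull (CohCx.inclCompl U) :=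
  let ff := H85.pushFullyFaithful (isInducing_incl U)
  haveI := isIso_unit_sectSupp U
  let w := fun F : CohTop.Ab X => asIso ((adjZ U).unit.app ((LocCohZ.sectSuppF U).obj F))
  Adjunction.mkOfHomEquiv
    { homEquiv := fun G F =>
        (liftEquiv U G F).trans ((Iso.homCongr (Iso.refl _) (w F)).trans ff.homEquiv.symm)
      homEquiv_naturality_left_symm := fun {G' G F} a b => by
        change ((CohTop.push (CohCx.inclCompl U)).map (a ≫ b) ≫ (w F).inv) ≫ kernel.ι (LocCohZW.unitU U F) =
          (CohTop.push (CohCx.inclCompl U)).map a ≫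
            (((CohTop.push (CohCx.inclCompl U)).map b ≫ (w F).inv) ≫ kernel.ι (LocCohZW.unitU U F))
        refine Eq.trans ?_ (Category.assoc _ _ _)
        refine congrArg (· ≫ kernel.ι (LocCohZW.unitU U F)) ?_
        refine Eq.trans ?_ (Category.assoc _ _ _)
        exact congrArg (· ≫ (w F).inv) ((CohTop.push (CohCx.inclCompl U)).map_comp a b)
      homEquiv_naturality_right := fun {G F F'} g φ => by
        change ff.preimage (𝟙 _ ≫ liftEquiv U G F' (g ≫ φ) ≫ (w F').hom) =
          ff.preimage (𝟙 _ ≫ liftEquiv U G F g ≫ (w F).hom) ≫ _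
        apply ff.map_injective
        refine (ff.map_preimage _).trans ((Category.id_comp _).trans ?_)
        refine Eq.trans ?_ ((CohTop.push (CohCx.inclCompl U)).map_comp _ _).symm
        refine Eq.trans ?_ (congrArg (· ≫ _) ((ff.map_preimage _).trans (Category.id_comp _)).symm)
        refine (congrArg (· ≫ (w F').hom) (liftEquiv_comp U g φ)).trans ?_
        refine (Category.assoc _ _ _).trans (Eq.trans ?_ (Category.assoc _ _ _).symm)
        exact congrArg (liftEquiv U G F g ≫ ·)
          ((adjZ U).unit.naturality ((LocCohZ.sectSuppF U).map φ)) }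

/-- For a closed subset. Let X be a topological space and Z a closed subset with open complement U and
inclusion i : Z → X. Then i_* : (abelian sheaves on Z) → (abelian sheaves on X) is left adjoint to F
↦ i⁻¹ Γ_Z(F), the sheaf on Z of sections of F supported in Z: Hom(i_* G, F) ≅ Hom(G, i⁻¹ Γ_Z(F))
naturally in G and F. (Existence of an adjunction; for Z closed the extension by zero i_! is i_*.) -/
theorem result {X : TopCat.{u}} (U : Opens X) :
    Nonempty (CohTop.push (CohCx.inclCompl U) ⊣ LocCohZ.sectSuppF U ⋙ CohTop.pull (CohCx.inclCompl U)) := by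
  exact ⟨sectAdj U⟩

end Groth.Agent.S6036
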