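import Groth.Statements.S6041
import Groth.Agent.GrpdLib.RepEpi

set_option autoImplicit false
open CategoryTheory CategoryTheory.Limits AlgebraicGeometry MonoidalCategory
universe u
open GrpQ

namespace Groth.Agent.S6041

open CartesianMonoidalCategory in
/-- For schemes and the fppf topology, easy direction: let `s, t : R ⇉ U` be a pair of morphisms of
schemes over `S` (in the source an equivalence relation), `T` a scheme over `S` and `i : Z ⟶ U ×_S
T` such that `Z ⟶ T` is flat, surjective and locally of finite presentation and any two points of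
`Z` over the same point of `T` have `R`-related images in `U`. Then the composite `h_Z ⟶ h_U ⟶ U/R`
descends to exactly one section of the fppf quotient sheaf `U/R` over `T`. -/
theorem result {S : Scheme.{u}} {R U : Over S} (s t : R ⟶ U)
    (T Z : Over S) (i : Z ⟶ U ⊗ T)
    [Flat (i ≫ snd U T).left] [Surjective (i ≫ snd U T).left] [LocallyOfFinitePresentation (i ≫ snd U T).left]
    (hZZ : ∀ (T' : Over S) (z₁ z₂ : T' ⟶ Z), z₁ ≫ i ≫ snd U T = z₂ ≫ i ≫ snd U T →
      ∃ r : T' ⟶ R, r ≫ s = z₁ ≫ i ≫ fst U T ∧ r ≫ t = z₂ ≫ i ≫ fst U T) :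
    ∃! σ : QuotSh.rep Scheme.fppfPrecoverage T ⟶ QuotSh.quot Scheme.fppfPrecoverage s t,
      QuotSh.repMap Scheme.fppfPrecoverage (i ≫ fst U T) ≫ QuotSh.quotπ Scheme.fppfPrecoverage s t =
        QuotSh.repMap Scheme.fppfPrecoverage (i ≫ snd U T) ≫ σ := by
  have hk : Epi (QuotSh.repMap Scheme.fppfPrecoverage (i ≫ snd U T)) :=
    GrpdLib.epi_repMap_of_fppf _
  refine GrpdLib.existsUnique_desc_repMap _ hk _ fun T' a b hab => ?_
  obtain ⟨r, hr₁, hr₂⟩ := hZZ T' a b hab
  rw [← Category.assoc, ← Category.assoc, ← GrpdLib.repMap_comp, ← GrpdLib.repMap_comp,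
    ← hr₁, ← hr₂, GrpdLib.repMap_comp, GrpdLib.repMap_comp, Category.assoc, Category.assoc,
    QuotSh.quot_condition]

end Groth.Agent.S6041
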