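import Groth.Statements.S6043
import Groth.Agent.GrpdLib.QuotSectionProps
open Groth.Agent.GrpdLib Groth.Agent.GrpdLib.QuotSection CategoryTheory.CartesianMonoidalCategory Opposite
set_option backward.isDefEq.respectTransparency.types false

set_option autoImplicit false
open CategoryTheory CategoryTheory.Limits AlgebraicGeometry MonoidalCategory
universe u
open GrpQ

namespace Groth.Agent.S6043

open CartesianMonoidalCategory in
/-- The comparison of topologies, for an equivalence relation of schemes over a base scheme `S` with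
closed graph: let `s, t : R ⇉ U` be an equivalence relation of schemes over `S` with `s` flat,
surjective and locally of finite presentation and `(t, s) : R ⟶ U ×_S U` a closed immersion. Then
the fppf quotient sheaf `U/R` on schemes over `S` satisfies the sheaf condition for the fpqc
topology. (The published statement takes `R ⟶ U` faithfully flat and quasi-compact and says that its
fpqc quotient sheaf is also the quotient for the canonical topology; this row takes `R ⟶ U` flat,
surjective and locally of finite presentation and says that the fppf quotient sheaf is already an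
fpqc sheaf.) -/
theorem result {S : Scheme.{u}} {R U : Over S} (s t : R ⟶ U)
    [IsEquivalenceRelation s t]
    [Flat s.left] [Surjective s.left] [LocallyOfFinitePresentation s.left]
    (hc : IsClosedImmersion (lift t s).left) :
    Presheaf.IsSheaf (QuotSh.J Scheme.fpqcPrecoverage S)
      (QuotSh.quot Scheme.fppfPrecoverage s t).obj := by
  let Jq := QuotSh.J Scheme.fpqcPrecoverage S
  have hle : AlgSp.J S ≤ Jq := fun T W hW =>
    Scheme.fppfTopology_le_fpqcTopology T.left hW
  let F' := QuotSh.quot Scheme.fpqcPrecoverage s t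
  have hG : Presheaf.IsSheaf (AlgSp.J S) F'.obj := (isSheaf_iff_isSheaf_of_type _ _).2 (Presieve.isSheaf_of_le _ hle ((isSheaf_iff_isSheaf_of_type _ _).1 F'.property))
  let G : AlgSp.Sp S := ⟨F'.obj, hG⟩
  let el : ∀ {T : Over S}, (QuotSh.rep Scheme.fpqcPrecoverage T ⟶ F') → F'.obj.obj (op T) :=
    fun {T} σ => GrothendieckTopology.uliftYonedaEquiv.{u + 1} Jq
      ((QuotSh.repIsoUliftYoneda Scheme.fpqcPrecoverage T).inv ≫ σ)
  have hel : ∀ {T : Over S}, Function.Bijective (el (T := T)) := fun {T} =>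
    (GrothendieckTopology.uliftYonedaEquiv.{u + 1} Jq).bijective.comp
      ((Iso.homFromEquiv (QuotSh.repIsoUliftYoneda Scheme.fpqcPrecoverage T)).bijective)
  have helm : ∀ {T V : Over S} (k : V ⟶ T) (σ : QuotSh.rep Scheme.fpqcPrecoverage T ⟶ F'),
      el (QuotSh.repMap Scheme.fpqcPrecoverage k ≫ σ) = F'.obj.map k.op (el σ) := fun k σ => by
    simp only [el]
    rw [← Category.assoc, repMap_repIso, Category.assoc]
    exact (GrothendieckTopology.uliftYonedaEquiv_naturality.{u + 1} Jq _ k).symm
  let π' := QuotSh.quotπ Scheme.fpqcPrecoverage s t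
  let p : (AlgSp.yon S).obj U ⟶ G := (Groth.Agent.AlgSp.yEquiv (F := G)).symm (el π')
  have hp : ∀ {T : Over S} (a : T ⟶ U), Groth.Agent.AlgSp.yEquiv ((AlgSp.yon S).map a ≫ p) =
      el (QuotSh.repMap Scheme.fpqcPrecoverage a ≫ π') := fun a => by
    rw [Groth.Agent.AlgSp.yEquiv_map, Equiv.apply_symm_apply, helm]
  have hrel := isEqvRel_of_isEquivalenceRelation s t
  have hiff : ∀ {T : Over S} (a b : T ⟶ U), (AlgSp.yon S).map a ≫ p = (AlgSp.yon S).map b ≫ p ↔
      ∃ r : T ⟶ R, r ≫ t = a ∧ r ≫ s = b := fun a b => by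
    rw [← Groth.Agent.AlgSp.yEquiv.injective.eq_iff, hp, hp, hel.injective.eq_iff,
      quotπ_eq_iff Scheme.fpqcPrecoverage s t hrel]
  have : Sheaf.IsLocallySurjective p := Groth.Agent.AlgSp.isLocallySurjective_of_fppf_lift p fun T g => by
    obtain ⟨σ, hσ⟩ := hel.surjective (Groth.Agent.AlgSp.yEquiv g)
    obtain ⟨Z, i, hi, hrep⟩ := exists_rep s t @IsClosedImmersion
      (fun E hg hcomp hloc hk hk' => SubschemeRep.exists_closed E hg hcomp hloc hk hk') hc σ
    have hrep : Represents σ i := @hrep
    refine ⟨Z, i ≫ snd U T, (AlgSp.yon S).map (i ≫ fst U T), base_of_source hrep @Flat ‹_›,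
      base_of_source hrep @Surjective ‹_›, base_of_source hrep @LocallyOfFinitePresentation ‹_›, ?_⟩
    apply Groth.Agent.AlgSp.yEquiv.injective
    rw [hp, eq_section hrep, helm, hσ]
    exact (Groth.Agent.AlgSp.yEquiv_map (F := G) (i ≫ snd U T) g).symm
  have hw : (AlgSp.yon S).map t ≫ p = (AlgSp.yon S).map s ≫ p := (hiff t s).2 ⟨𝟙 R, by simp, by simp⟩
  have sq : IsPullback ((AlgSp.yon S).map t) ((AlgSp.yon S).map s) p p := by
    refine IsPullback.of_map (sheafToPresheaf (AlgSp.J S) (Type (u + 1))) hw ?_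
    refine IsPullback.of_forall_isPullback_app fun T => (Types.isPullback_iff _ _ _ _).2 ⟨?_, ?_, ?_⟩
    · exact congrArg (fun φ => φ.hom.app T) hw
    · rintro ⟨r⟩ ⟨r'⟩ ⟨h1, h2⟩
      exact congrArg ULift.up (hrel.injective T.unop r r' (congrArg ULift.down h1) (congrArg ULift.down h2))
    · rintro ⟨a⟩ ⟨b⟩ hab
      have e : ∀ c : T.unop ⟶ U, p.hom.app T ⟨c⟩ = Groth.Agent.AlgSp.yEquiv ((AlgSp.yon S).map c ≫ p) := fun c => by
        rw [Groth.Agent.AlgSp.yEquiv_comp]
        congr 1
      obtain ⟨r, h1, h2⟩ := (hiff a b).1 (Groth.Agent.AlgSp.yEquiv.injective ((e a).symm.trans (hab.trans (e b))))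
      exact ⟨⟨r⟩, congrArg ULift.up h1, congrArg ULift.up h2⟩
  have sqF := Groth.Agent.AlgSp.isPullback_yπ s t hrel
  have := Groth.Agent.AlgSp.isLocallySurjective_yπ s t
  obtain ⟨c₁⟩ := Groth.Agent.AlgSp.isColimit_of_isPullback _ sqF
  obtain ⟨c₂⟩ := Groth.Agent.AlgSp.isColimit_of_isPullback _ sq
  let e := (sheafToPresheaf (AlgSp.J S) (Type (u + 1))).mapIso (c₁.coconePointUniqueUpToIso c₂)
  exact (Presheaf.isSheaf_of_iso_iff e).2 F'.property

end Groth.Agent.S6043
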