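import Groth.Statements.S6048
import Mathlib
import Groth.Agent.Topos.Quot

set_option autoImplicit false
open CategoryTheory CategoryTheory.Limits MonoidalCategory
universe w v₁ u₁
open ShfCat
open Groth.Agent.DescCatLib (uee_effectiveEpi)

namespace Groth.Agent.S6048

open CartesianMonoidalCategory SemiCartesianMonoidalCategory in
/-- For sheaves of sets on a site with sheafification: let `p₁, p₂ : R ⇉ X` be an equivalence relation
of sheaves with universally effective quotient `π : X ⟶ X/R` and `Y` a sheaf. (a) A subsheaf `Z ⊆ X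
× Y` stable under `R × Y`, covering `Y`, and any two of whose points over the same point of `Y` are
`R`-related, is the pullback of `π` along exactly one `f : Y ⟶ X/R`; (b) every `f : Y ⟶ X/R` arises
in this way. -/
theorem result {C : Type u₁} [Category.{v₁} C]
    (J : GrothendieckTopology C) [HasSheafify J (Type w)]
    {R X : Sheaf J (Type w)} {p₁ p₂ : R ⟶ X}
    (e : UniversallyEffectiveEquivalenceRelation p₁ p₂) (Y : Sheaf J (Type w)) :
    (∀ (Z : Sheaf J (Type w)) (ι : Z ⟶ X ⊗ Y), Mono ι →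
      (∀ (W : Sheaf J (Type w)) (r : W ⟶ R) (y : W ⟶ Y),
        (∃ z : W ⟶ Z, z ≫ ι = lift (r ≫ p₁) y) ↔ (∃ z : W ⟶ Z, z ≫ ι = lift (r ≫ p₂) y)) →
      Epi (ι ≫ snd X Y) →
      (∀ (W : Sheaf J (Type w)) (z₁ z₂ : W ⟶ Z), z₁ ≫ ι ≫ snd X Y = z₂ ≫ ι ≫ snd X Y →
        ∃ r : W ⟶ R, r ≫ p₁ = z₁ ≫ ι ≫ fst X Y ∧ r ≫ p₂ = z₂ ≫ ι ≫ fst X Y) →
      ∃! f : Y ⟶ e.B, IsPullback (ι ≫ fst X Y) (ι ≫ snd X Y) e.π f) ∧
    (∀ f : Y ⟶ e.B, ∃ (Z : Sheaf J (Type w)) (ι : Z ⟶ X ⊗ Y), Mono ι ∧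
      (∀ (W : Sheaf J (Type w)) (r : W ⟶ R) (y : W ⟶ Y),
        (∃ z : W ⟶ Z, z ≫ ι = lift (r ≫ p₁) y) ↔ (∃ z : W ⟶ Z, z ≫ ι = lift (r ≫ p₂) y)) ∧
      Epi (ι ≫ snd X Y) ∧
      (∀ (W : Sheaf J (Type w)) (z₁ z₂ : W ⟶ Z), z₁ ≫ ι ≫ snd X Y = z₂ ≫ ι ≫ snd X Y →
        ∃ r : W ⟶ R, r ≫ p₁ = z₁ ≫ ι ≫ fst X Y ∧ r ≫ p₂ = z₂ ≫ ι ≫ fst X Y) ∧
      IsPullback (ι ≫ fst X Y) (ι ≫ snd X Y) e.π f) := by
  have := uee_effectiveEpi (f := e.π) e.universally_effectiveEpi_π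
  have hK := e.isKernelPair
  refine ⟨fun Z ι _ hstab _ hrel => ?_, fun f => ?_⟩
  · obtain ⟨f, hf⟩ := Groth.Agent.Topos.Quot.exists_desc (ι ≫ snd X Y) (ι ≫ fst X Y ≫ e.π)
      (fun {T} g₁ g₂ hg => by
        obtain ⟨r, hr₁, hr₂⟩ := hrel T g₁ g₂ hg
        rw [← reassoc_of% hr₁, ← reassoc_of% hr₂]
        exact congrArg (r ≫ ·) hK.w)
    have hw : (ι ≫ fst X Y) ≫ e.π = (ι ≫ snd X Y) ≫ f := by rw [hf, Category.assoc]
    have key : ∀ s : PullbackCone e.π f, ∃ z : s.pt ⟶ Z, z ≫ ι = lift s.fst s.snd := by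
      intro s
      obtain ⟨T', d, z, hd, hz⟩ := Groth.Agent.Topos.Quot.exists_lift (ι ≫ snd X Y) s.snd
      have h2 : (z ≫ ι ≫ fst X Y) ≫ e.π = (d ≫ s.fst) ≫ e.π := by
        rw [Category.assoc, Category.assoc, ← hf, Category.assoc, reassoc_of% hz, ← s.condition, Category.assoc]
      let r := IsPullback.lift hK _ _ h2
      obtain ⟨z', hz'⟩ := (hstab T' r (d ≫ s.snd)).1 ⟨z, by
        rw [IsPullback.lift_fst]
        apply CartesianMonoidalCategory.hom_ext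
        · rw [lift_fst, Category.assoc]
        · rw [lift_snd, Category.assoc]; exact hz⟩
      rw [IsPullback.lift_snd, ← comp_lift] at hz'
      exact Groth.Agent.Topos.Quot.exists_factor d ι _ z' hz'
    choose z hz using key
    refine ⟨f, ⟨⟨hw⟩, ⟨PullbackCone.IsLimit.mk _ z (fun s => ?_) (fun s => ?_)
      (fun s m h1 h2 => ?_)⟩⟩, fun f' hf' => ?_⟩
    · rw [← Category.assoc, hz, lift_fst]
    · rw [← Category.assoc, hz, lift_snd]
    · rw [← cancel_mono ι, hz]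
      apply CartesianMonoidalCategory.hom_ext
      · rw [lift_fst, Category.assoc]; exact h1
      · rw [lift_snd, Category.assoc]; exact h2
    · rw [← cancel_epi (ι ≫ snd X Y), ← hf'.w, hw]
  · have hP := IsPullback.of_hasPullback e.π f
    refine ⟨pullback e.π f, lift (pullback.fst e.π f) (pullback.snd e.π f), ?_, ?_, ?_, ?_, ?_⟩
    · refine ⟨fun a b h => hP.hom_ext ?_ ?_⟩
      · simpa using congrArg (· ≫ fst X Y) h
      · simpa using congrArg (· ≫ snd X Y) h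
    · intro W r y
      have hrπ : (r ≫ p₁) ≫ e.π = (r ≫ p₂) ≫ e.π := by rw [Category.assoc, Category.assoc, hK.w]
      have key : ∀ x : W ⟶ X, (∃ z : W ⟶ pullback e.π f,
          z ≫ lift (pullback.fst e.π f) (pullback.snd e.π f) = lift x y) ↔ x ≫ e.π = y ≫ f := by
        intro x
        refine ⟨fun ⟨z, hz⟩ => ?_, fun hx => ⟨hP.lift x y hx, by ext <;> simp⟩⟩
        rw [comp_lift] at hz
        have h1 := congrArg (· ≫ fst X Y) hz
        have h2 := congrArg (· ≫ snd X Y) hz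
        simp only [lift_fst, lift_snd] at h1 h2
        rw [← h1, ← h2, Category.assoc, Category.assoc, hP.w]
      rw [key, key, hrπ]
    · rw [lift_snd]
      exact Groth.Agent.Topos.Quot.epi_of_isPullback' hP
    · intro W z₁ z₂ h
      simp only [lift_snd] at h
      refine ⟨IsPullback.lift hK (z₁ ≫ pullback.fst e.π f) (z₂ ≫ pullback.fst e.π f) ?_, ?_, ?_⟩
      · rw [Category.assoc, Category.assoc, hP.w, reassoc_of% h]
      · rw [IsPullback.lift_fst, lift_fst]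
      · rw [IsPullback.lift_snd, lift_fst]
    · simpa using hP

end Groth.Agent.S6048
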