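import Groth.Statements.S6053
import Mathlib

set_option autoImplicit false
open CategoryTheory CategoryTheory.Limits
universe w v₁ u₁
open ShfCat

namespace Groth.Agent.S6053

/-- Let `C'` be a class of objects of `C`, `P` a precoverage on `C` stable under base change and
composition, `P'` a precoverage whose families live in `C'` and which contains the identity
singletons of `C'`, such that (a) `P'`-families pull back along morphisms of `C'` to `P'`-families,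
(b) every object has a `P`-cover by objects of `C'`, (c) over an object of `C'` every composite `P'
∘ P ∘ P'` family (middle sources in `C'`) is refined by a `P'`-family. Then a sieve on `X` is
covering for the topology generated by `P` and `P'` if and only if it contains a composite family
`X_ij ⟶ X_i ⟶ X` with `(X_i ⟶ X)_i` in `P`, all `X_i` in `C'` and each `(X_ij ⟶ X_i)_j` in `P'`. -/
theorem result {C : Type u₁} [Category.{v₁} C]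
    (C' : C → Prop) (P P' : Precoverage C)
    [P.HasPullbacks] [P.IsStableUnderBaseChange] [P.IsStableUnderComposition]
    (hP'C : ∀ ⦃X : C⦄ ⦃R : Presieve X⦄, R ∈ P' X → C' X ∧ ∀ ⦃Y : C⦄ ⦃f : Y ⟶ X⦄, R f → C' Y)
    (hP'id : ∀ ⦃X : C⦄, C' X → Presieve.singleton (𝟙 X) ∈ P' X)
    (ha : ∀ ⦃X : C⦄ ⦃R : Presieve X⦄, R ∈ P' X → ∀ ⦃T : C⦄ (g : T ⟶ X), C' T →
      ∃ _ : R.HasPullbacks g, Presieve.pullbackArrows g R ∈ P' T)
    (hb : ∀ X : C, ∃ R ∈ P X, ∀ ⦃Y : C⦄ ⦃f : Y ⟶ X⦄, R f → C' Y)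
    (hc : ∀ ⦃S : C⦄ ⦃R₁ : Presieve S⦄, R₁ ∈ P' S →
      ∀ (R₂ : ∀ ⦃Y : C⦄ ⦃f : Y ⟶ S⦄, R₁ f → Presieve Y),
        (∀ ⦃Y : C⦄ ⦃f : Y ⟶ S⦄ (hf : R₁ f), R₂ hf ∈ P Y ∧ ∀ ⦃Z : C⦄ ⦃g : Z ⟶ Y⦄, R₂ hf g → C' Z) →
      ∀ (R₃ : ∀ ⦃Y : C⦄ ⦃f : Y ⟶ S⦄ (hf : R₁ f) ⦃Z : C⦄ ⦃g : Z ⟶ Y⦄, R₂ hf g → Presieve Z),
        (∀ ⦃Y : C⦄ ⦃f : Y ⟶ S⦄ (hf : R₁ f) ⦃Z : C⦄ ⦃g : Z ⟶ Y⦄ (hg : R₂ hf g), R₃ hf hg ∈ P' Z) →
      ∃ T ∈ P' S, ∀ ⦃W : C⦄ ⦃q : W ⟶ S⦄, T q →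
        ∃ (Y Z V : C) (f : Y ⟶ S) (hf : R₁ f) (g : Z ⟶ Y) (hg : R₂ hf g) (h : V ⟶ Z) (_ : R₃ hf hg h)
          (r : W ⟶ V), r ≫ h ≫ g ≫ f = q)
    (X : C) (S' : Sieve X) :
    S' ∈ (P ⊔ P').toGrothendieck X ↔
      ∃ (R : Presieve X) (_ : R ∈ P X) (_ : ∀ ⦃Y : C⦄ ⦃f : Y ⟶ X⦄, R f → C' Y)
        (R' : ∀ ⦃Y : C⦄ ⦃f : Y ⟶ X⦄, R f → Presieve Y),
        (∀ ⦃Y : C⦄ ⦃f : Y ⟶ X⦄ (hf : R f), R' hf ∈ P' Y) ∧
        ∀ ⦃Y : C⦄ ⦃f : Y ⟶ X⦄ (hf : R f) ⦃Z : C⦄ ⦃g : Z ⟶ Y⦄, R' hf g → S' (g ≫ f) := by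
  let Good : ∀ (X : C), Sieve X → Prop := fun X S =>
    ∃ R ∈ P X, ∀ ⦃Y : C⦄ ⦃f : Y ⟶ X⦄, R f → C' Y ∧ ∃ R' ∈ P' Y, ∀ ⦃Z : C⦄ ⦃g : Z ⟶ Y⦄, R' g → S (g ≫ f)
  -- every cover refines to a cover by objects of `C'`
  have hrefine : ∀ {X : C} (R : Presieve X), R ∈ P X → ∃ R₂ ∈ P X, ∀ ⦃V : C⦄ ⦃k : V ⟶ X⦄, R₂ k →
      C' V ∧ ∃ (W : C) (h : W ⟶ X) (a : V ⟶ W), R h ∧ a ≫ h = k := by
    intro X R hR
    obtain ⟨ι, Y₀, f₀, rfl⟩ := R.exists_eq_ofArrows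
    choose Q hQ hQC using fun i => hb (Y₀ i)
    choose σ W g hWg using fun i => (Q i).exists_eq_ofArrows
    refine ⟨Presieve.ofArrows (fun p : Σ i, σ i => W p.1 p.2) (fun p => g p.1 p.2 ≫ f₀ p.1),
      Precoverage.comp_mem_coverings f₀ hR g (fun i => hWg i ▸ hQ i), ?_⟩
    rintro V k ⟨⟨i, j⟩⟩
    exact ⟨hQC i (by rw [hWg i]; exact Presieve.ofArrows.mk j), Y₀ i, f₀ i, g i j, Presieve.ofArrows.mk i, rfl⟩
  have hpull : ∀ {X : C} {S : Sieve X}, Good X S → ∀ {T : C} (g : T ⟶ X), Good T (S.pullback g) := by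
    intro X S hS T g
    obtain ⟨R, hR, hR'⟩ := hS
    have : R.HasPullbacks g := Precoverage.hasPullbacks_of_mem g hR
    obtain ⟨R₂, hR₂, h₂⟩ := hrefine _ (Precoverage.pullbackArrows_mem g hR)
    refine ⟨R₂, hR₂, fun V k hk => ?_⟩
    obtain ⟨hV, W, h, a, hh, rfl⟩ := h₂ hk
    refine ⟨hV, ?_⟩
    obtain ⟨Y, f, hf⟩ := hh
    have := R.hasPullback g hf
    obtain ⟨hY, R', hR'mem, hR'S⟩ := hR' hf
    obtain ⟨_, hmem⟩ := ha hR'mem (a ≫ pullback.fst f g) hV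
    refine ⟨_, hmem, ?_⟩
    rintro Z z ⟨Z', q, hq⟩
    have := R'.hasPullback (a ≫ pullback.fst f g) hq
    have := S.downward_closed (hR'S hq) (pullback.fst q (a ≫ pullback.fst f g))
    rw [reassoc_of% (pullback.condition (f := q) (g := a ≫ pullback.fst f g))] at this
    rw [pullback.condition] at this
    change S _
    simpa only [Category.assoc] using this
  have main : ∀ {X : C} {S : Sieve X}, S ∈ (P ⊔ P').toGrothendieck X → Good X S := by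
    intro X S hS
    induction hS with
    | of X R hR =>
      rcases hR with hR | hR
      · obtain ⟨R₂, hR₂, h₂⟩ := hrefine R hR
        refine ⟨R₂, hR₂, fun V k hk => ?_⟩
        obtain ⟨hV, W, h, a, hh, rfl⟩ := h₂ hk
        refine ⟨hV, _, hP'id hV, ?_⟩
        rintro Z z ⟨⟩
        exact ⟨W, a, h, hh, (Category.id_comp _).symm⟩
      · obtain ⟨R₀, hR₀, h₀⟩ := hb X
        refine ⟨R₀, hR₀, fun Y f hf => ?_⟩
        obtain ⟨_, hmem⟩ := ha hR f (h₀ hf)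
        refine ⟨h₀ hf, _, hmem, ?_⟩
        rintro Z z ⟨Z', q, hq⟩
        have := R.hasPullback f hq
        exact ⟨Z', pullback.fst q f, q, hq, pullback.condition⟩
    | top X =>
      obtain ⟨R, hR, h⟩ := hb X
      exact ⟨R, hR, fun Y f hf => ⟨h hf, _, hP'id (h hf), fun _ _ _ => trivial⟩⟩
    | pullback X S _ T g ih => exact hpull ih g
    | transitive X S T _ _ ihS ihT =>
      obtain ⟨R, hR, hR'⟩ := ihS
      refine ⟨R, hR, fun Y f hf => ?_⟩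
      obtain ⟨hY, R₁, hR₁, hR₁S⟩ := hR' hf
      refine ⟨hY, ?_⟩
      choose R₂ hR₂ h₂ using fun (Z : C) (g : Z ⟶ Y) (hg : R₁ g) => ihT (hR₁S hg)
      choose h₂C R₃ hR₃ h₃ using fun (Z : C) (g : Z ⟶ Y) (hg : R₁ g) (V : C) (k : V ⟶ Z)
        (hk : R₂ Z g hg k) => h₂ Z g hg hk
      obtain ⟨T', hT', hT'S⟩ := hc hR₁ (fun Z g hg => R₂ Z g hg)
        (fun Z g hg => ⟨hR₂ Z g hg, fun V k hk => h₂C Z g hg V k hk⟩)
        (fun Z g hg V k hk => R₃ Z g hg V k hk) (fun Z g hg V k hk => hR₃ Z g hg V k hk)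
      refine ⟨T', hT', fun W q hq => ?_⟩
      obtain ⟨Z, V, U, g, hg, k, hk, l, hl, r, rfl⟩ := hT'S hq
      have h : T ((l ≫ k) ≫ (g ≫ f)) := by
        have := h₃ Z g hg V k hk hl
        exact this
      simpa only [Category.assoc] using T.downward_closed h r
  constructor
  · intro h
    obtain ⟨R, hR, hR'⟩ := main h
    choose hC R' hR'mem hR'S using fun (Y : C) (f : Y ⟶ X) (hf : R f) => hR' hf
    exact ⟨R, hR, fun Y f hf => hC Y f hf, fun Y f hf => R' Y f hf, fun Y f hf => hR'mem Y f hf,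
      fun Y f hf Z g hg => hR'S Y f hf hg⟩
  · rintro ⟨R, hR, -, R', hR', hsub⟩
    refine (P ⊔ P').toGrothendieck.transitive
      (Precoverage.generate_mem_toGrothendieck (Or.inl hR)) S' ?_
    rintro Z z ⟨Y, a, f, hf, rfl⟩
    rw [Sieve.pullback_comp]
    refine (P ⊔ P').toGrothendieck.pullback_stable a ?_
    refine (P ⊔ P').toGrothendieck.superset_covering ?_
      (Precoverage.generate_mem_toGrothendieck (Or.inr (hR' hf)))
    rw [Sieve.generate_le_iff]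
    exact fun W g hg => hsub hf hg

end Groth.Agent.S6053
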