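import Groth.Statements.S6052
import Mathlib
import Groth.Agent.S6053

set_option autoImplicit false
open CategoryTheory
universe w v₁ u₁
open ShfCat

namespace Groth.Agent.S6052

/-- The sheaf case. Let `C'` be a class of objects of `C`, `P` a precoverage on `C` stable under base
change and composition, `P'` a precoverage whose families live in `C'` and which contains the
identity singletons of `C'`, such that (a) `P'`-families pull back along morphisms of `C'` to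
`P'`-families, (b) every object has a `P`-cover by objects of `C'`, (c) over an object of `C'` every
composite `P' ∘ P ∘ P'` family (middle sources in `C'`) is refined by a `P'`-family. Then a presheaf
of sets is a sheaf for the topology generated by `P` and `P'` if and only if it satisfies the sheaf
condition for every family of `P` and every family of `P'`. (The published statement also treats
separated presheaves; only the sheaf case is stated.) -/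
theorem result {C : Type u₁} [Category.{v₁} C]
    (C' : C → Prop) (P P' : Precoverage C)
    [P.HasPullbacks] [P.IsStableUnderBaseChange] [P.IsStableUnderComposition]
    (hP'C : ∀ ⦃X : C⦄ ⦃R : Presieve X⦄, R ∈ P' X → C' X ∧ ∀ ⦃Y : C⦄ ⦃f : Y ⟶ X⦄, R f → C' Y)
    (hP'id : ∀ ⦃X : C⦄, C' X → Presieve.singleton (𝟙 X) ∈ P' X)
    (ha : ∀ ⦃X : C⦄ ⦃R : Presieve X⦄, R ∈ P' X → ∀ ⦃T : C⦄ (g : T ⟶ X), C' T →
      ∃ _ : R.HasPullbacks g, Presieve.pullbackArrows g R ∈ P' T)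
    (hb : ∀ X : C, ∃ R ∈ P X, ∀ ⦃Y : C⦄ ⦃f : Y ⟶ X⦄, R f → C' Y)
    (hc : ∀ ⦃S : C⦄ ⦃R₁ : Presieve S⦄, R₁ ∈ P' S →
      ∀ (R₂ : ∀ ⦃Y : C⦄ ⦃f : Y ⟶ S⦄, R₁ f → Presieve Y),
        (∀ ⦃Y : C⦄ ⦃f : Y ⟶ S⦄ (hf : R₁ f), R₂ hf ∈ P Y ∧ ∀ ⦃Z : C⦄ ⦃g : Z ⟶ Y⦄, R₂ hf g → C' Z) →
      ∀ (R₃ : ∀ ⦃Y : C⦄ ⦃f : Y ⟶ S⦄ (hf : R₁ f) ⦃Z : C⦄ ⦃g : Z ⟶ Y⦄, R₂ hf g → Presieve Z),
        (∀ ⦃Y : C⦄ ⦃f : Y ⟶ S⦄ (hf : R₁ f) ⦃Z : C⦄ ⦃g : Z ⟶ Y⦄ (hg : R₂ hf g), R₃ hf hg ∈ P' Z) →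
      ∃ T ∈ P' S, ∀ ⦃W : C⦄ ⦃q : W ⟶ S⦄, T q →
        ∃ (Y Z V : C) (f : Y ⟶ S) (hf : R₁ f) (g : Z ⟶ Y) (hg : R₂ hf g) (h : V ⟶ Z) (_ : R₃ hf hg h)
          (r : W ⟶ V), r ≫ h ≫ g ≫ f = q)
    (F : Cᵒᵖ ⥤ Type w) :
    Presieve.IsSheaf (P ⊔ P').toGrothendieck F ↔
      (∀ ⦃X : C⦄ ⦃R : Presieve X⦄, R ∈ P X → Presieve.IsSheafFor F R) ∧
      (∀ ⦃X : C⦄ ⦃R : Presieve X⦄, R ∈ P' X → Presieve.IsSheafFor F R) := by
  constructor
  · intro h
    exact ⟨fun X R hR => h.isSheafFor_of_mem_precoverage (Or.inl hR),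
      fun X R hR => h.isSheafFor_of_mem_precoverage (Or.inr hR)⟩
  rintro ⟨hF, hF'⟩
  let K := (P ⊔ P').toGrothendieck
  have key := fun (X : C) (S : Sieve X) => Groth.Agent.S6053.result C' P P' hP'C hP'id ha hb hc X S
  have hsep : ∀ {X : C} (S : Sieve X), S ∈ K X → ∀ (x y : F.obj (Opposite.op X)),
      (∀ ⦃Y : C⦄ ⦃f : Y ⟶ X⦄, S f → F.map f.op x = F.map f.op y) → x = y := by
    intro X S hS x y hxy
    obtain ⟨R, hR, -, R', hR', hsub⟩ := (key X S).1 hS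
    refine (hF hR).isSeparatedFor.ext fun Y f hf => ?_
    refine (hF' (hR' hf)).isSeparatedFor.ext fun Z g hg => ?_
    rw [← Functor.map_comp_apply, ← Functor.map_comp_apply, ← op_comp]
    exact hxy (hsub hf hg)
  intro X S hS x hx
  obtain ⟨R, hR, -, R', hR', hsub⟩ := (key X S).1 hS
  have hz : ∀ ⦃Y : C⦄ ⦃f : Y ⟶ X⦄, R f → ∃ z : F.obj (Opposite.op Y),
      ∀ ⦃V : C⦄ (a : V ⟶ Y) (h : S (a ≫ f)), F.map a.op z = x (a ≫ f) h := by
    intro Y f hf
    obtain ⟨z, hz, -⟩ := hF' (hR' hf) (fun Z g hg => x (g ≫ f) (hsub hf hg))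
      (fun Z₁ Z₂ W g₁ g₂ f₁ f₂ h₁ h₂ e =>
        hx g₁ g₂ (hsub hf h₁) (hsub hf h₂) (by rw [reassoc_of% e]))
    refine ⟨z, fun V a h => hsep _ (K.pullback_stable a
      (Precoverage.generate_mem_toGrothendieck (Or.inr (hR' hf)))) _ _ ?_⟩
    rintro W b ⟨Z, c, g, hg, e⟩
    rw [← Functor.map_comp_apply, ← op_comp, ← e, op_comp, Functor.map_comp_apply, hz g hg]
    exact (hx c b (hsub hf hg) h (by rw [reassoc_of% e]))
  choose z hz using hz
  obtain ⟨t, ht, -⟩ := hF hR (fun Y f hf => z hf) (fun Y₁ Y₂ W g₁ g₂ f₁ f₂ h₁ h₂ e => by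
    refine hsep _ (K.pullback_stable (g₁ ≫ f₁) hS) _ _ fun V b hb => ?_
    have hb' : S ((b ≫ g₁) ≫ f₁) := by rw [Category.assoc]; exact hb
    have hb'' : S ((b ≫ g₂) ≫ f₂) := by rw [Category.assoc, ← e]; exact hb
    rw [← Functor.map_comp_apply, ← Functor.map_comp_apply, ← op_comp, ← op_comp, hz h₁ _ hb', hz h₂ _ hb'']
    congr 1
    rw [Category.assoc, Category.assoc, e])
  refine ⟨t, fun V h hh => hsep _ (K.pullback_stable h
      (Precoverage.generate_mem_toGrothendieck (Or.inl hR))) _ _ ?_,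
    fun t' ht' => hsep S hS _ _ fun Y f hf => (ht' f hf).trans ?_⟩
  · rintro W b ⟨Y, c, f, hf, e⟩
    have hc' : S (c ≫ f) := e ▸ S.downward_closed hh b
    rw [← Functor.map_comp_apply, ← op_comp, ← e, op_comp, Functor.map_comp_apply, ht f hf, hz hf c hc']
    have := hx (𝟙 W) b hc' hh (by rw [Category.id_comp, e])
    simpa using this
  · refine (hsep _ (K.pullback_stable f
      (Precoverage.generate_mem_toGrothendieck (Or.inl hR))) _ _ ?_).symm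
    rintro W b ⟨Y', c, g, hg, e⟩
    have hc' : S (c ≫ g) := e ▸ S.downward_closed hf b
    rw [← Functor.map_comp_apply, ← op_comp, ← e, op_comp, Functor.map_comp_apply, ht g hg, hz hg c hc']
    have := hx (𝟙 W) b hc' hf (by rw [Category.id_comp, e])
    simpa using this

end Groth.Agent.S6052
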