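import Groth.Statements.S6056
import Groth.Agent.AGFQuot.Basic
import Groth.Agent.Thick.FlatCancel
import Groth.Agent.GrpdLib.FppfSourceDescentScheme

set_option autoImplicit false
open CategoryTheory CategoryTheory.Limits AlgebraicGeometry MonoidalCategory
universe u
open RedSub

namespace Groth.Agent.S6056

open MonObj CartesianMonoidalCategory SemiCartesianMonoidalCategory CategoryTheory MonoidalCategory
  AlgebraicGeometry Limits Groth.Agent Groth.Agent.AGFQuot.Basic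

section
variable {S : Scheme.{u}} {H K G QH Kb : Over S} [GrpObj H] [GrpObj K] [GrpObj G]
  (h : H ⟶ K) (k : K ⟶ G) [IsMonHom h] [IsMonHom k]
  (qH : G ⟶ QH) (qKb : K ⟶ Kb) (act : QH ⊗ Kb ⟶ QH)

theorem act_eval (hact : (qH ⊗ₘ qKb) ≫ act = (G ◁ k) ≫ μ[G] ≫ qH) {T : Over S} (g : T ⟶ G) (x : T ⟶ K) :
    lift (g ≫ qH) (x ≫ qKb) ≫ act = (g * (x ≫ k)) ≫ qH := by
  rw [← lift_map, Category.assoc, hact, lift_whiskerLeft_assoc, Hom.mul_def, Category.assoc]

/-- the action by `K/H` is free -/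
theorem act_free [Mono h] [Mono k] (hqH : RedSub.IsQuotient (h ≫ k) qH)
    (hqKb : RedSub.IsQuotient h qKb) (hact : (qH ⊗ₘ qKb) ≫ act = (G ◁ k) ≫ μ[G] ≫ qH)
    {T : Over S} (a : T ⟶ QH) (κ₁ κ₂ : T ⟶ Kb) (e : lift a κ₁ ≫ act = lift a κ₂ ≫ act) : κ₁ = κ₂ := by
  have hcH := IsCover.of_isQuotient hqH
  have hcK := IsCover.of_isQuotient hqKb
  obtain ⟨T₁, c₁, g, hc₁, hg⟩ := hcH.exists_lift a
  obtain ⟨T₂, c₂, x₁, hc₂, hx₁⟩ := hcK.exists_lift (c₁ ≫ κ₁)
  obtain ⟨T₃, c₃, x₂, hc₃, hx₂⟩ := hcK.exists_lift (c₂ ≫ c₁ ≫ κ₂)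
  let c := c₃ ≫ c₂ ≫ c₁
  have hc : IsCover c := hc₃.comp (hc₂.comp hc₁)
  apply hc.cancel
  have ea : ((c₃ ≫ c₂) ≫ g) ≫ qH = c ≫ a := by simp only [c, Category.assoc, hg]
  have e1 : (c₃ ≫ x₁) ≫ qKb = c ≫ κ₁ := by simp only [c, Category.assoc, hx₁]
  have e2 : x₂ ≫ qKb = c ≫ κ₂ := by simp only [c, Category.assoc, hx₂]
  rw [← e1, ← e2]
  have h1 := congrArg (c ≫ ·) e
  simp only [comp_lift_assoc] at h1
  rw [← ea, ← e1, ← e2, act_eval k qH qKb act hact, act_eval k qH qKb act hact] at h1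
  obtain ⟨y, hy⟩ := (comp_eq_iff hqH.2.2.2 _ _).mp h1
  rw [_root_.mul_assoc, mul_left_cancel_iff, ← Category.assoc, ← MonObj.mul_comp, cancel_mono] at hy
  rw [← hy]
  exact ((comp_eq_iff hqKb.2.2.2 _ _).mpr ⟨y, rfl⟩)
end

open MonObj CartesianMonoidalCategory SemiCartesianMonoidalCategory in
/-- For group schemes and fppf quotients: let `K ⊆ G` be a subgroup scheme and `H ⊆ K` a subgroup scheme
normal in `K`; suppose `G/H` is represented by `q_H : G ⟶ Q_H` and `K/H` by a homomorphism `K ⟶ K'`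
of group schemes, and let `act : Q_H ×_S K' ⟶ Q_H` be the right action induced by the multiplication
of `G`. Then: (i) if `G/K` is represented by `q_K : G ⟶ Q_K`, the map `Q_H ⟶ Q_K` under `G` is an
fppf covering whose kernel pair is `Q_H ×_S K' ⇉ Q_H` (projection, action), i.e. `Q_K =
(G/H)/(K/H)`; (ii) conversely, if `p : Q_H ⟶ Y` is an fppf covering with that kernel pair, then `q_H
≫ p` represents `G/K`. -/
theorem result {S : Scheme.{u}} {H K G QH Kb : Over S}
    [hH : GrpObj H] [hK : GrpObj K] [hG : GrpObj G] [hKb : GrpObj Kb]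
    (h : H ⟶ K) (k : K ⟶ G) [Mono h] [Mono k] [IsMonHom h] [IsMonHom k]
    (hn : AlgGrp.IsNormalHom h)
    (qH : G ⟶ QH) (hqH : RedSub.IsQuotient (h ≫ k) qH)
    (qKb : K ⟶ Kb) [IsMonHom qKb] (hqKb : RedSub.IsQuotient h qKb)
    (act : QH ⊗ Kb ⟶ QH) (hact : (qH ⊗ₘ qKb) ≫ act = (G ◁ k) ≫ μ[G] ≫ qH) :
    (∀ (QK : Over S) (qK : G ⟶ QK), RedSub.IsQuotient k qK →
      ∀ qbar : QH ⟶ QK, qH ≫ qbar = qK →
        Surjective qbar.left ∧ Flat qbar.left ∧ LocallyOfFinitePresentation qbar.left ∧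
          IsPullback (fst QH Kb) act qbar qbar) ∧
    (∀ (Y : Over S) (p : QH ⟶ Y),
      Surjective p.left → Flat p.left → LocallyOfFinitePresentation p.left →
      IsPullback (fst QH Kb) act p p → RedSub.IsQuotient k (qH ≫ p)) := by
  have hcH := IsCover.of_isQuotient hqH
  have hcK := IsCover.of_isQuotient hqKb
  refine ⟨fun QK qK hqK qbar hbar => ?_, fun Y p h1 h2 h3 hpb => ?_⟩
  · have hqKc := IsCover.of_isQuotient hqK
    have := hqKc.surj; have := hqKc.flat; have := hqKc.lfp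
    have := hcH.surj; have := hcH.flat; have := hcH.lfp
    have hbl : qH.left ≫ qbar.left = qK.left := by rw [← hbar]; rfl
    haveI : Surjective (qH.left ≫ qbar.left) := hbl ▸ hqKc.surj
    haveI : Flat (qH.left ≫ qbar.left) := hbl ▸ hqKc.flat
    haveI : LocallyOfFinitePresentation (qH.left ≫ qbar.left) := hbl ▸ hqKc.lfp
    refine ⟨Surjective.of_comp qH.left qbar.left, Thick.FlatCancel.flat_of_comp qH.left qbar.left,
      GrpdLib.FppfSourceDescent.locallyOfFinitePresentation_of_comp_fppf qH.left qbar.left, ?_⟩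
    have hw : fst QH Kb ≫ qbar = act ≫ qbar := by
      apply (hcH.tensor hcK).cancel
      rw [tensorHom_fst_assoc, reassoc_of% hact, hbar, hqK.2.2.2.w, Category.assoc]
    have hex : ∀ (T : Over S) (a b : T ⟶ QH), a ≫ qbar = b ≫ qbar →
        ∃ κ : T ⟶ Kb, lift a κ ≫ act = b := by
      intro T a b hab
      obtain ⟨T₁, c₁, g, hc₁, hg⟩ := hcH.exists_lift a
      obtain ⟨T₂, c₂, g', hc₂, hg'⟩ := hcH.exists_lift (c₁ ≫ b)
      have hc : IsCover (c₂ ≫ c₁) := hc₂.comp hc₁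
      have h2 : (c₂ ≫ g) ≫ qK = g' ≫ qK := by
        rw [← hbar, Category.assoc, reassoc_of% hg, reassoc_of% hg', hab]
      obtain ⟨x, hx⟩ := (comp_eq_iff hqK.2.2.2 _ _).mp h2
      have hκ' : lift ((c₂ ≫ c₁) ≫ a) (x ≫ qKb) ≫ act = (c₂ ≫ c₁) ≫ b := by
        rw [show (c₂ ≫ c₁) ≫ a = (c₂ ≫ g) ≫ qH by simp only [Category.assoc, hg],
          act_eval k qH qKb act hact, hx, hg', Category.assoc]
      haveI := hc.effectiveEpi
      obtain ⟨κ, hκ, -⟩ := GrpdLib.GrpOver.existsUnique_desc (c₂ ≫ c₁) (x ≫ qKb) fun U u v huv => by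
        have hu := congrArg (u ≫ ·) hκ'
        have hv := congrArg (v ≫ ·) hκ'
        simp only [comp_lift_assoc] at hu hv
        rw [← Category.assoc u _ a, ← Category.assoc u _ b, huv] at hu
        rw [← Category.assoc v _ a, ← Category.assoc v _ b] at hv
        exact act_free h k qH qKb act hqH hqKb hact _ _ _ (hu.trans hv.symm)
      refine ⟨κ, hc.cancel ?_⟩
      rw [comp_lift_assoc, hκ, hκ']
    choose κ hκ using hex
    refine ⟨⟨hw⟩, ⟨PullbackCone.IsLimit.mk hw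
      (fun s => lift s.fst (κ _ s.fst s.snd s.condition)) (fun s => lift_fst _ _) (fun s => hκ _ _ _ _) ?_⟩⟩
    intro s m hm1 hm2
    refine CartesianMonoidalCategory.hom_ext _ _ (by rw [lift_fst]; exact hm1) ?_
    rw [lift_snd]
    refine act_free h k qH qKb act hqH hqKb hact s.fst _ _ ?_
    rw [hκ _ _ _ _]
    change m ≫ fst QH Kb = s.fst at hm1
    rw [← hm1, lift_comp_fst_snd]
    exact hm2
  · have hpc : IsCover p := ⟨h1, h2, h3⟩
    have hc := hcH.comp hpc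
    have := hc.surj
    refine ⟨hc.surj, hc.flat, hc.lfp, ?_⟩
    have hw : fst G K ≫ qH ≫ p = ((G ◁ k) ≫ μ[G]) ≫ qH ≫ p := by
      have := (qH ⊗ₘ qKb) ≫= hpb.w
      rw [tensorHom_fst_assoc, reassoc_of% hact] at this
      rw [Category.assoc]
      exact this
    have hex : ∀ (T : Over S) (a b : T ⟶ G), a ≫ qH ≫ p = b ≫ qH ≫ p →
        ∃ x : T ⟶ K, a * (x ≫ k) = b := by
      intro T a b hab
      let κ := hpb.lift (a ≫ qH) (b ≫ qH) (by simpa using hab)
      obtain ⟨T₁, c, x, hc1, hx⟩ := hcK.exists_lift (κ ≫ snd QH Kb)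
      have h4 : lift (a ≫ qH) (κ ≫ snd QH Kb) ≫ act = b ≫ qH := by
        rw [show a ≫ qH = κ ≫ fst QH Kb from (hpb.lift_fst _ _ _).symm, lift_comp_fst_snd]
        exact hpb.lift_snd _ _ _
      have h5 := congrArg (c ≫ ·) h4
      simp only [comp_lift_assoc] at h5
      rw [← hx, ← Category.assoc c a qH, act_eval k qH qKb act hact, ← Category.assoc] at h5
      obtain ⟨y, hy⟩ := (comp_eq_iff hqH.2.2.2 _ _).mp h5
      rw [_root_.mul_assoc, ← Category.assoc, ← MonObj.mul_comp] at hy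
      have h6 : (x * (y ≫ h)) ≫ k = c ≫ (a⁻¹ * b) := by
        rw [MonObj.comp_mul, GrpObj.comp_inv, ← hy, inv_mul_cancel_left]
      haveI := hc1.effectiveEpi
      obtain ⟨x', hx', -⟩ := GrpdLib.GrpOver.existsUnique_desc c (x * (y ≫ h)) fun U u v huv => by
        rw [← cancel_mono k, Category.assoc, Category.assoc, h6, reassoc_of% huv]
      refine ⟨x', ?_⟩
      have h7 : x' ≫ k = a⁻¹ * b := hc1.cancel (by rw [reassoc_of% hx', h6])
      rw [h7, mul_inv_cancel_left]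
    choose x hx using hex
    refine ⟨⟨hw⟩, ⟨PullbackCone.IsLimit.mk hw
      (fun s => lift s.fst (x _ s.fst s.snd s.condition)) (fun s => lift_fst _ _)
      (fun s => ?_) ?_⟩⟩
    · rw [lift_whiskerLeft_assoc]
      exact hx _ _ _ _
    · intro s m hm1 hm2
      refine CartesianMonoidalCategory.hom_ext _ _ (by rw [lift_fst]; exact hm1) ?_
      rw [lift_snd, ← cancel_mono k]
      apply mul_left_cancel (a := s.fst)
      rw [hx _ _ _ _]
      change m ≫ fst G K = s.fst at hm1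
      refine Eq.trans ?_ hm2
      rw [← hm1, Hom.mul_def]
      conv_rhs => rw [← lift_comp_fst_snd m, lift_whiskerLeft_assoc]

end Groth.Agent.S6056
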