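import Groth.Statements.S6057
import Mathlib

set_option autoImplicit false
open CategoryTheory
universe v₁ u₁
open ShfCat

namespace Groth.Agent.S6057

/-- Let `S` be an object whose representable presheaf is a sheaf for `J` and `φ : F ⟶ h_S` a morphism of
presheaves of sets. The relative presheaf on `C/S` (sections of `F` over `T` lying over the given `T
⟶ S`) is separated (resp. a sheaf) for the induced topology on `C/S` if and only if `F` is separated
(resp. a sheaf). -/
theorem result {C : Type u₁} [Category.{v₁} C] (J : GrothendieckTopology C)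
    {S : C} (hS : Presieve.IsSheaf J (yoneda.obj S)) {F : Cᵒᵖ ⥤ Type v₁} (φ : F ⟶ yoneda.obj S) :
    (Presieve.IsSeparated (J.over S) (ShfCat.relPsh φ) ↔ Presieve.IsSeparated J F) ∧
    (Presieve.IsSheaf (J.over S) (ShfCat.relPsh φ) ↔ Presieve.IsSheaf J F) := by
  have hsep : ∀ {X : C} (R : Sieve X), R ∈ J X → ∀ (a b : X ⟶ S),
      (∀ ⦃Y : C⦄ ⦃f : Y ⟶ X⦄, R f → f ≫ a = f ≫ b) → a = b :=
    fun R hR a b h => (hS R hR).isSeparatedFor.ext fun Y f hf => h hf
  have nat : ∀ {X Y : C} (f : Y ⟶ X) (x : F.obj (Opposite.op X)),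
      φ.app (Opposite.op Y) (F.map f.op x) = f ≫ φ.app (Opposite.op X) x := fun f x =>
    NatTrans.naturality_apply φ f.op x
  have sepF : Presieve.IsSeparated (J.over S) (ShfCat.relPsh φ) → Presieve.IsSeparated J F := by
    intro h X R hR x t₁ t₂ h₁ h₂
    have e : φ.app (Opposite.op X) t₁ = φ.app (Opposite.op X) t₂ := hsep R hR _ _ fun Y f hf => by
      rw [← nat, ← nat, h₁ f hf, h₂ f hf]
    let T : Over S := Over.mk (φ.app (Opposite.op X) t₁)
    have := (h ((Sieve.overEquiv T).symm R) (J.overEquiv_symm_mem_over T R hR)).ext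
      (t₁ := (⟨t₁, rfl⟩ : RelSections φ T)) (t₂ := (⟨t₂, e.symm⟩ : RelSections φ T))
      fun Z g hg => Subtype.ext ((h₁ g.left hg).trans (h₂ g.left hg).symm)
    exact congrArg Subtype.val this
  have sepR : Presieve.IsSeparated J F → Presieve.IsSeparated (J.over S) (ShfCat.relPsh φ) := by
    intro h T R hR x t₁ t₂ h₁ h₂
    refine Subtype.ext ((h _ hR).ext fun Y f hf => ?_)
    have hf' := (Sieve.overEquiv_iff R f).1 hf
    exact congrArg Subtype.val ((h₁ _ hf').trans (h₂ _ hf').symm)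
  refine ⟨⟨sepF, sepR⟩, fun h X R hR x hx => ?_, fun h T R hR x hx => ?_⟩
  · obtain ⟨t, ht, -⟩ := hS R hR (fun Y f hf => φ.app (Opposite.op Y) (x f hf))
      (fun Y₁ Y₂ W g₁ g₂ f₁ f₂ h₁ h₂ e => by
        change g₁ ≫ φ.app _ (x f₁ h₁) = g₂ ≫ φ.app _ (x f₂ h₂)
        rw [← nat, ← nat, hx g₁ g₂ h₁ h₂ e])
    have ht' : ∀ ⦃Y : C⦄ (f : Y ⟶ X) (hf : R f), f ≫ t = φ.app (Opposite.op Y) (x f hf) := ht
    let T : Over S := Over.mk t
    obtain ⟨z, hz, -⟩ := h ((Sieve.overEquiv T).symm R) (J.overEquiv_symm_mem_over T R hR)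
      (fun Z g hg => (⟨x g.left hg, (ht' g.left hg).symm.trans (Over.w g)⟩ : RelSections φ Z))
      (fun Y₁ Y₂ W g₁ g₂ f₁ f₂ h₁ h₂ e => Subtype.ext
        (hx g₁.left g₂.left h₁ h₂ (congrArg CommaMorphism.left e)))
    refine ⟨z.1, fun Y f hf => ?_, fun z' hz' => ?_⟩
    · exact congrArg Subtype.val (hz (Over.homMk f rfl : Over.mk (f ≫ t) ⟶ T) hf)
    · refine (sepF (fun Y R hR => (h R hR).isSeparatedFor) R hR).ext fun Y f hf => ?_
      exact (hz' f hf).trans (congrArg Subtype.val (hz (Over.homMk f rfl : Over.mk (f ≫ t) ⟶ T) hf)).symm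
  · let m : ∀ {Y : C} (f : Y ⟶ T.left), (Over.mk (f ≫ T.hom) : Over S) ⟶ T := fun f => Over.homMk f rfl
    obtain ⟨y, hy, -⟩ := h (Sieve.overEquiv T R) hR
      (fun Y f hf => (x (m f) ((Sieve.overEquiv_iff R f).1 hf)).1)
      (fun Y₁ Y₂ W g₁ g₂ f₁ f₂ h₁ h₂ e => by
        exact congrArg Subtype.val (hx (Z := Over.mk ((g₁ ≫ f₁) ≫ T.hom))
          (Over.homMk g₁ (by simp) : _ ⟶ Over.mk (f₁ ≫ T.hom))
          (Over.homMk g₂ (by simp [e]) : _ ⟶ Over.mk (f₂ ≫ T.hom))
          ((Sieve.overEquiv_iff R f₁).1 h₁) ((Sieve.overEquiv_iff R f₂).1 h₂)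
          (by apply Over.OverMorphism.ext; simpa [m] using e)))
    have hy' : φ.app (Opposite.op T.left) y = T.hom := hsep _ hR _ _ fun Y f hf => by
      rw [← nat, hy f hf]
      exact (x (m f) _).2
    refine ⟨(⟨y, hy'⟩ : RelSections φ T), fun Z g hg => Subtype.ext ?_, fun z' hz' => ?_⟩
    · have hg' : Sieve.overEquiv T R g.left := (Sieve.overEquiv_iff R _).2
        (by
          have := R.downward_closed hg (Over.homMk (𝟙 Z.left) (by simp) :
            Over.mk (g.left ≫ T.hom) ⟶ Z)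
          convert this
          ext; simp)
      have := hx (Over.homMk (𝟙 Z.left) (by simp) : Z ⟶ Over.mk (g.left ≫ T.hom)) (𝟙 Z)
        ((Sieve.overEquiv_iff R g.left).1 hg') hg (by ext; simp)
      refine (hy g.left hg').trans ?_
      have e := congrArg Subtype.val this
      simp only [relPsh_map_val] at e
      simpa [m] using e
    · refine (sepR (fun Y R hR => (h R hR).isSeparatedFor) R hR).ext fun Z g hg => ?_
      refine (hz' g hg).trans (Subtype.ext ?_)
      have hg' : Sieve.overEquiv T R g.left := (Sieve.overEquiv_iff R _).2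
        (by
          have := R.downward_closed hg (Over.homMk (𝟙 Z.left) (by simp) :
            Over.mk (g.left ≫ T.hom) ⟶ Z)
          convert this
          ext; simp)
      have := hx (Over.homMk (𝟙 Z.left) (by simp) : Z ⟶ Over.mk (g.left ≫ T.hom)) (𝟙 Z)
        ((Sieve.overEquiv_iff R g.left).1 hg') hg (by ext; simp)
      refine ((hy g.left hg').trans ?_).symm
      have e := congrArg Subtype.val this
      simp only [relPsh_map_val] at e
      simpa [m] using e

end Groth.Agent.S6057
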