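import Groth.Statements.S6059
import Groth.Agent.DiagRig.KernelNhd

set_option autoImplicit false
open CategoryTheory MonoidalCategory CartesianMonoidalCategory MonObj GrpObj AlgebraicGeometry
universe u
open SGA3x

namespace Groth.Agent.S6059

/-- Let u : H ⟶ G be a homomorphism of S-groups, with H of multiplicative type and of finite type and G
separated over S, and suppose S locally Noetherian or G locally of finite presentation over S. If s
∈ S is a point such that u_s : H_s ⟶ G_s is a monomorphism, then there is an open neighbourhood U of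
s such that the homomorphism H|_U ⟶ G|_U induced above U is a monomorphism. -/
theorem result {S : Scheme.{u}} (H G : Over S) [GrpObj H] [GrpObj G]
    (hH : SGA3x.IsMultTypeFT H) [IsSeparated G.hom] (hG : IsLocallyNoetherian S ∨ LocallyOfFinitePresentation G.hom)
    (u : H ⟶ G) [IsMonHom u] (s : S)
    (hs : Mono ((Over.pullback (S.fromSpecResidueField s)).map u).left) :
    ∃ U : S.Opens, s ∈ U ∧ Mono ((Over.pullback U.ι).map u).left := by
  obtain ⟨U, hsU, hU⟩ := Groth.Agent.DiagRig.exists_nhd_kernel_trivial u hH s hs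
  refine ⟨U, hsU, ?_⟩
  suffices Mono ((Over.pullback U.ι).map u) from inferInstance
  refine ⟨fun {Z} a b hab => ?_⟩
  have key : ∀ c : Z ⟶ (Over.pullback U.ι).obj H, Groth.Agent.DiagRig.bcTr U.ι (c ≫ (Over.pullback U.ι).map u) =
      Groth.Agent.DiagRig.bcTr U.ι c ≫ u := fun c =>
    (Over.mapPullbackAdj U.ι).homEquiv_naturality_right_symm c u
  have h1 := congrArg (Groth.Agent.DiagRig.bcTr U.ι) hab
  rw [key, key] at h1
  let d := Groth.Agent.DiagRig.bcTr U.ι a * (Groth.Agent.DiagRig.bcTr U.ι b)⁻¹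
  obtain ⟨k, hk⟩ := Groth.Agent.DiagRig.exists_kerLift u d (by
    rw [MonObj.mul_comp, GrpObj.inv_comp, h1, mul_inv_cancel])
  have hrange : Set.range k.left.base ⊆ Set.range ((Groth.Agent.DiagRig.kerOb u).hom ⁻¹ᵁ U).ι.base := by
    rintro _ ⟨z, rfl⟩
    rw [Scheme.Opens.range_ι]
    show (Groth.Agent.DiagRig.kerOb u).hom.base (k.left.base z) ∈ U
    rw [← Scheme.Hom.comp_apply, Over.w k]
    exact (Z.hom.base z).2
  have hk1 : k.left ≫ (Groth.Agent.DiagRig.kerOb u).hom ≫ (Groth.Agent.DiagRig.kerUnit u).left = k.left := by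
    rw [← IsOpenImmersion.lift_fac ((Groth.Agent.DiagRig.kerOb u).hom ⁻¹ᵁ U).ι k.left hrange, Category.assoc, hU]
  have hd : d = 1 := by rw [← hk, Groth.Agent.DiagRig.eq_one_of_unit u k hk1]
  have h2 := congrArg (Groth.Agent.DiagRig.bcUn U.ι) (mul_inv_eq_one.mp hd)
  rwa [Groth.Agent.DiagRig.bcUn_bcTr, Groth.Agent.DiagRig.bcUn_bcTr] at h2

end Groth.Agent.S6059
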