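import Groth.Statements.S6063
-- import your own Groth.Agent.* helpers here

set_option autoImplicit false
universe u
open CategoryTheory AlgebraicGeometry
open TensorProduct
open SGA3x

namespace Groth.Agent.S6063

section alg
variable {A : Type u} [CommRing A] (J : Ideal A)

/-- The induction step: if each `J^k ⊗ A/J` is free and `B → ∏ C j` is injective mod `J`, with all algebras flat,
then an element of `J^k B` killed in every `C j` lies in `J^(k+1) B`. -/
lemma step {B : Type u} [CommRing B] [Algebra A B] [Module.Flat A B] {κ : Type u} (C : κ → Type u)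
    [∀ j, CommRing (C j)] [∀ j, Algebra A (C j)] [∀ j, Module.Flat A (C j)] (φ : ∀ j, B →ₐ[A] C j)
    (h : ∀ b : B, (∀ j, φ j b ∈ J • (⊤ : Submodule A (C j))) → b ∈ J • (⊤ : Submodule A B))
    (k : ℕ) [Module.Free (A ⧸ J) ((A ⧸ J) ⊗[A] ↥(J ^ k))]
    {b : B} (hb : b ∈ (J ^ k) • (⊤ : Submodule A B)) (h0 : ∀ j, φ j b = 0) :
    b ∈ (J ^ (k + 1)) • (⊤ : Submodule A B) := by
  let m : ∀ (M : Type u) [AddCommGroup M] [Module A M], ↥(J ^ k) ⊗[A] M →ₗ[A] M := fun M _ _ =>
    (TensorProduct.lid A M).toLinearMap ∘ₗ LinearMap.rTensor M (J ^ k).subtype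
  have hm : ∀ (M : Type u) [AddCommGroup M] [Module A M] (a : ↥(J ^ k)) (x : M),
      m M (a ⊗ₜ x) = (a : A) • x := fun M _ _ a x => by simp [m]
  obtain ⟨x, hx⟩ : ∃ x, m B x = b := by
    refine Submodule.smul_induction_on hb (fun a ha y _ => ⟨⟨a, ha⟩ ⊗ₜ y, hm _ _ _⟩) ?_
    rintro _ _ ⟨x, rfl⟩ ⟨y, rfl⟩
    exact ⟨x + y, map_add _ _ _⟩
  let mk : ↥(J ^ k) →ₗ[A] (A ⧸ J) ⊗[A] ↥(J ^ k) := TensorProduct.mk A (A ⧸ J) ↥(J ^ k) 1
  -- the image of `x` in each `C j` vanishes
  have hxC : ∀ j, LinearMap.lTensor ↥(J ^ k) (φ j).toLinearMap x = 0 := by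
    intro j
    have hinj : Function.Injective (m (C j)) := by
      refine (TensorProduct.lid A (C j)).injective.comp ?_
      exact Module.Flat.rTensor_preserves_injective_linearMap _ Subtype.val_injective
    apply hinj
    rw [map_zero]
    have hnat : (m (C j)) ∘ₗ LinearMap.lTensor ↥(J ^ k) (φ j).toLinearMap
        = (φ j).toLinearMap ∘ₗ m B := by
      ext a y
      simp [hm]
    have := LinearMap.congr_fun hnat x
    simp only [LinearMap.comp_apply] at this
    rw [this, hx]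
    exact h0 j
  -- hence the image of `x` in `(A/J ⊗ J^k) ⊗ B` vanishes
  have hy : LinearMap.rTensor B mk x = 0 := by
    let bas := Module.Free.chooseBasis (A ⧸ J) ((A ⧸ J) ⊗[A] ↥(J ^ k))
    let e := (bas.repr.restrictScalars A).rTensor B ≪≫ₗ TensorProduct.finsuppLeft A A (A ⧸ J) B _
    apply e.injective
    rw [map_zero]
    ext α
    let f : ↥(J ^ k) →ₗ[A] A ⧸ J :=
      Finsupp.lapply α ∘ₗ (bas.repr.restrictScalars A).toLinearMap ∘ₗ mk
    have he : (e (LinearMap.rTensor B mk x)) α = LinearMap.rTensor B f x := by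
      change TensorProduct.finsuppLeft A A (A ⧸ J) B _ _ α = _
      rw [TensorProduct.finsuppLeft_apply, LinearEquiv.coe_rTensor,
        ← LinearMap.rTensor_comp_apply, ← LinearMap.rTensor_comp_apply, LinearMap.comp_assoc]
    rw [he, Finsupp.zero_apply]
    set z := LinearMap.rTensor B f x with hz
    apply (TensorProduct.quotTensorEquivQuotSMul B J).injective
    rw [map_zero]
    obtain ⟨w, hw⟩ := Submodule.Quotient.mk_surjective _ (TensorProduct.quotTensorEquivQuotSMul B J z)
    rw [← hw, Submodule.Quotient.mk_eq_zero]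
    apply h
    intro j
    have hz' : z = (1 : A ⧸ J) ⊗ₜ[A] w := by
      apply (TensorProduct.quotTensorEquivQuotSMul B J).injective
      rw [TensorProduct.quotTensorEquivQuotSMul_mk_one_tmul, hw]
    have : (1 : A ⧸ J) ⊗ₜ[A] φ j w = 0 := by
      have h1 : LinearMap.lTensor (A ⧸ J) (φ j).toLinearMap z = 0 := by
        rw [hz, ← LinearMap.comp_apply, LinearMap.lTensor_comp_rTensor,
          ← LinearMap.rTensor_comp_lTensor, LinearMap.comp_apply, hxC j, map_zero]
      rw [hz'] at h1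
      simpa using h1
    have h2 := congrArg (TensorProduct.quotTensorEquivQuotSMul (C j) J) this
    rw [TensorProduct.quotTensorEquivQuotSMul_mk_one_tmul, map_zero,
      Submodule.Quotient.mk_eq_zero] at h2
    exact h2
  -- exactness
  let K : Submodule A ↥(J ^ k) := J • ⊤
  have hex : Function.Exact K.subtype mk := by
    intro a
    constructor
    · intro ha
      have := congrArg (TensorProduct.quotTensorEquivQuotSMul ↥(J ^ k) J) ha
      rw [TensorProduct.mk_apply, TensorProduct.quotTensorEquivQuotSMul_mk_one_tmul, map_zero,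
        Submodule.Quotient.mk_eq_zero] at this
      exact ⟨⟨a, this⟩, rfl⟩
    · rintro ⟨c, rfl⟩
      apply (TensorProduct.quotTensorEquivQuotSMul ↥(J ^ k) J).injective
      rw [TensorProduct.mk_apply, TensorProduct.quotTensorEquivQuotSMul_mk_one_tmul, map_zero,
        Submodule.Quotient.mk_eq_zero]
      exact c.2
  have hsurj : Function.Surjective mk := by
    intro y
    obtain ⟨a, ha⟩ := Submodule.Quotient.mk_surjective _ (TensorProduct.quotTensorEquivQuotSMul ↥(J ^ k) J y)
    refine ⟨a, (TensorProduct.quotTensorEquivQuotSMul ↥(J ^ k) J).injective ?_⟩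
    rw [TensorProduct.mk_apply, TensorProduct.quotTensorEquivQuotSMul_mk_one_tmul, ha]
  obtain ⟨u, rfl⟩ := ((rTensor_exact B hex hsurj) x).1 hy
  have hK : ∀ c : ↥(J ^ k), c ∈ K → (c : A) ∈ J ^ (k + 1) := by
    intro c hc
    refine Submodule.smul_induction_on hc (fun a ha y _ => ?_) (fun y z hy hz => ?_)
    · rw [pow_succ', Submodule.coe_smul, smul_eq_mul]
      exact Ideal.mul_mem_mul ha y.2
    · rw [Submodule.coe_add]
      exact Ideal.add_mem _ hy hz
  rw [← hx]
  clear hx h0 hxC hy hb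
  induction u using TensorProduct.induction_on with
  | zero => simp
  | tmul c y =>
    rw [LinearMap.rTensor_tmul, hm]
    exact Submodule.smul_mem_smul (hK _ c.2) Submodule.mem_top
  | add c y hc hy => simp only [map_add]; exact add_mem hc hy

lemma injective_of_mod (hJ : IsNilpotent J)
    (hfree : ∀ k : ℕ, Module.Free (A ⧸ J) ((A ⧸ J) ⊗[A] ↥(J ^ k)))
    {B : Type u} [CommRing B] [Algebra A B] [Module.Flat A B] {κ : Type u} (C : κ → Type u)
    [∀ j, CommRing (C j)] [∀ j, Algebra A (C j)] [∀ j, Module.Flat A (C j)] (φ : ∀ j, B →ₐ[A] C j)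
    (h : ∀ b : B, (∀ j, φ j b ∈ J • (⊤ : Submodule A (C j))) → b ∈ J • (⊤ : Submodule A B))
    {b : B} (h0 : ∀ j, φ j b = 0) : b = 0 := by
  have key : ∀ k, b ∈ (J ^ k) • (⊤ : Submodule A B) := by
    intro k
    induction k with
    | zero => rw [pow_zero, Ideal.one_eq_top, Submodule.top_smul]; trivial
    | succ k ih =>
      haveI := hfree k
      exact step J C φ h k ih h0
  obtain ⟨n, hn⟩ := hJ
  have := key n
  rw [hn] at this
  simpa using this

end alg

/-- A section over `W` whose restrictions to a covering family are zero is zero. -/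
lemma eq_zero_of_cover {Y : Scheme.{u}} {W : Y.Opens} (t : Γ(Y, W))
    (h : ∀ x ∈ W, ∃ (U : Y.Opens) (hU : U ≤ W), x ∈ U ∧ Y.presheaf.map (homOfLE hU).op t = 0) :
    t = 0 := by
  choose U hU hxU h0 using fun x : W => h x.1 x.2
  refine Y.sheaf.eq_of_locally_eq' U W (fun x => homOfLE (hU x)) ?_ t 0 (fun x => ?_)
  · intro x hx
    exact TopologicalSpace.Opens.mem_iSup.mpr ⟨⟨x, hx⟩, hxU _⟩
  · exact (h0 x).trans (map_zero _).symm

lemma le_pre_top {X Y : Scheme.{u}} (f : X ⟶ Y) (W : X.Opens) : W ≤ f ⁻¹ᵁ ⊤ := fun _ _ => trivial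

lemma eq_zero_of_SpecMap_app {R S : CommRingCat.{u}} (f : R ⟶ S) (V : (Spec R).Opens) (hV : V = ⊤) (b : R)
    (h : (Spec.map f).app V ((Spec R).presheaf.map (eqToHom hV).op ((Scheme.ΓSpecIso R).inv b)) = 0) :
    f b = 0 := by
  subst hV
  apply (ConcreteCategory.bijective_of_isIso (Scheme.ΓSpecIso S).inv).1
  refine Eq.trans ?_ (h.trans (map_zero _).symm)
  rw [eqToHom_refl, op_id, CategoryTheory.Functor.map_id, CommRingCat.id_apply,
    ← CommRingCat.comp_apply, Scheme.ΓSpecIso_inv_naturality]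
  rfl

open CategoryTheory.Limits in
lemma affine_case {X : Scheme.{u}} (A : CommRingCat.{u}) (p : X ⟶ Spec A) [Flat p]
    (J : Ideal ↑A) (hJ : IsNilpotent J) (hfree : ∀ k : ℕ, Module.Free (↑A ⧸ J) ((↑A ⧸ J) ⊗[↑A] ↥(J ^ k)))
    {ι : Type u} (Z : ι → Scheme.{u}) (v : ∀ i, Z i ⟶ X) [∀ i, Flat (v i ≫ p)]
    (h0 : ∀ (V : (pullback p (Spec.map (CommRingCat.ofHom (Ideal.Quotient.mk J)))).Opens) (t : Γ(pullback p (Spec.map (CommRingCat.ofHom (Ideal.Quotient.mk J))), V)),
      (∀ i, (pullback.map (v i ≫ p) (Spec.map (CommRingCat.ofHom (Ideal.Quotient.mk J))) p (Spec.map (CommRingCat.ofHom (Ideal.Quotient.mk J))) (v i) (𝟙 _) (𝟙 _)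
        (Category.comp_id _) ((Category.comp_id _).trans (Category.id_comp _).symm)).app V t = 0) → t = 0)
    (W : X.Opens) (hW : IsAffineOpen W) (t : Γ(X, W)) (ht : ∀ i, (v i).app W t = 0) : t = 0 := by
  set g := Spec.map (CommRingCat.ofHom (Ideal.Quotient.mk J)) with hg
  let aB : A ⟶ Γ(X, W) := (Scheme.ΓSpecIso A).inv ≫ p.appLE ⊤ W (le_pre_top _ _)
  letI : Algebra A Γ(X, W) := aB.hom.toAlgebra
  let κ : Type u := Σ i, {U : (Z i).Opens // IsAffineOpen U ∧ U ≤ v i ⁻¹ᵁ W}
  let aC : ∀ j : κ, A ⟶ Γ(Z j.1, j.2.1) := fun j =>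
    (Scheme.ΓSpecIso A).inv ≫ (v j.1 ≫ p).appLE ⊤ j.2.1 (le_pre_top _ _)
  letI : ∀ j : κ, Algebra A Γ(Z j.1, j.2.1) := fun j => (aC j).hom.toAlgebra
  haveI : Module.Flat A Γ(X, W) := by
    refine RingHom.Flat.comp ?_ (p.flat_appLE (isAffineOpen_top _) hW _)
    exact RingHom.Flat.of_bijective (ConcreteCategory.bijective_of_isIso (Scheme.ΓSpecIso A).inv)
  haveI : ∀ j : κ, Module.Flat A Γ(Z j.1, j.2.1) := fun j => by
    refine RingHom.Flat.comp ?_ ((v j.1 ≫ p).flat_appLE (isAffineOpen_top _) j.2.2.1 _)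
    exact RingHom.Flat.of_bijective (ConcreteCategory.bijective_of_isIso (Scheme.ΓSpecIso A).inv)
  let φ : ∀ j : κ, Γ(X, W) →ₐ[A] Γ(Z j.1, j.2.1) := fun j =>
    { ((v j.1).appLE W j.2.1 j.2.2.2).hom with
      commutes' := fun a => by
        change (aB ≫ (v j.1).appLE W j.2.1 j.2.2.2).hom a = (aC j).hom a
        simp only [aB, aC, Category.assoc]
        rw [Scheme.Hom.appLE_comp_appLE] }
  refine injective_of_mod J hJ hfree _ φ ?_ (b := t) (fun j => ?_)
  swap
  · change ((v j.1).appLE W j.2.1 j.2.2.2).hom t = 0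
    simp [Scheme.Hom.appLE, ht]
  intro b hb
  let P := pullback p g
  -- the reduction of `b` is killed by the reductions of all members
  have hb0 : (pullback.fst p g).app W b = 0 := by
    refine h0 _ _ (fun i => eq_zero_of_cover _ (fun q hq => ?_))
    let mi := pullback.map (v i ≫ p) g p g (v i) (𝟙 _) (𝟙 _)
        (Category.comp_id _) ((Category.comp_id _).trans (Category.id_comp _).symm)
    have hmi : mi ≫ pullback.fst p g = pullback.fst (v i ≫ p) g ≫ v i := pullback.lift_fst _ _ _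
    let fi := pullback.fst (v i ≫ p) g
    have hpre : mi ⁻¹ᵁ (pullback.fst p g ⁻¹ᵁ W) = fi ⁻¹ᵁ (v i ⁻¹ᵁ W) := by
      rw [← Scheme.Hom.comp_preimage, hmi, Scheme.Hom.comp_preimage]
    have hq' : fi q ∈ v i ⁻¹ᵁ W := by
      have := hq
      rw [show mi ⁻¹ᵁ (pullback.fst p g ⁻¹ᵁ W) = fi ⁻¹ᵁ (v i ⁻¹ᵁ W) from hpre] at this
      exact this
    obtain ⟨U, hU, hxU, hle⟩ := exists_isAffineOpen_mem_and_subset hq'
    let j : κ := ⟨i, U, hU, hle⟩
    have hle' : fi ⁻¹ᵁ U ≤ mi ⁻¹ᵁ (pullback.fst p g ⁻¹ᵁ W) := hpre ▸ fun y hy => hle hy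
    refine ⟨fi ⁻¹ᵁ U, hle', hxU, ?_⟩
    change ((pullback.fst p g).app W ≫ mi.appLE _ (fi ⁻¹ᵁ U) hle') b = 0
    rw [Scheme.Hom.app_eq_appLE, Scheme.Hom.appLE_comp_appLE]
    simp only [hmi]
    rw [← Scheme.Hom.appLE_comp_appLE _ _ W U (fi ⁻¹ᵁ U) hle le_rfl]
    change (fi.appLE U (fi ⁻¹ᵁ U) le_rfl).hom (φ j b) = 0
    have hkill : ∀ a ∈ J, (fi.appLE U (fi ⁻¹ᵁ U) le_rfl).hom ((aC j).hom a) = 0 := by
      intro a ha
      change ((Scheme.ΓSpecIso A).inv ≫ (v i ≫ p).appLE ⊤ U _ ≫ fi.appLE U (fi ⁻¹ᵁ U) le_rfl) a = 0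
      rw [Scheme.Hom.appLE_comp_appLE]
      simp only [fi, pullback.condition]
      rw [← Scheme.Hom.appLE_comp_appLE _ _ ⊤ ⊤ _ (le_pre_top _ _) (le_pre_top _ _),
        show g.appLE ⊤ ⊤ (le_pre_top _ _) = g.appTop from Scheme.Hom.appLE_eq_app g,
        ← Category.assoc, ← Scheme.ΓSpecIso_inv_naturality]
      rw [CommRingCat.comp_apply, CommRingCat.comp_apply,
        show CommRingCat.ofHom (Ideal.Quotient.mk J) a = 0 from Ideal.Quotient.eq_zero_iff_mem.mpr ha,
        map_zero, map_zero]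
    refine Submodule.smul_induction_on (hb j) (fun a ha y _ => ?_) (fun y z hy hz => ?_)
    · rw [Algebra.smul_def, map_mul]
      exact mul_eq_zero_of_left (hkill a ha) _
    · rw [map_add, hy, hz, add_zero]
  -- a point of the pullback over `W`
  let q : Γ(X, W) →+* Γ(X, W) ⧸ J.map aB.hom := Ideal.Quotient.mk _
  let abar : (A ⧸ J) →+* Γ(X, W) ⧸ J.map aB.hom :=
    Ideal.quotientMap _ aB.hom Ideal.le_comap_map
  let hh : Spec (.of (Γ(X, W) ⧸ J.map aB.hom)) ⟶ X := Spec.map (CommRingCat.ofHom q) ≫ hW.fromSpec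
  have hcomm : hh ≫ p = Spec.map (CommRingCat.ofHom abar) ≫ g := by
    have h1 : hW.fromSpec ≫ p = Spec.map aB := by
      rw [← IsAffineOpen.SpecMap_appLE_fromSpec p (isAffineOpen_top _) hW (le_pre_top _ _),
        IsAffineOpen.fromSpec_top, Scheme.isoSpec_Spec_inv, ← Spec.map_comp]
    simp only [hh, Category.assoc, h1, g, ← Spec.map_comp]
    congr 1
  let l := pullback.lift hh (Spec.map (CommRingCat.ofHom abar)) hcomm
  have hl : l ≫ pullback.fst p g = hh := pullback.lift_fst _ _ _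
  have hhb : hh.app W b = 0 := by
    have : ∀ (f : Spec (.of (Γ(X, W) ⧸ J.map aB.hom)) ⟶ X), l ≫ pullback.fst p g = f →
        f.app W b = 0 := by
      rintro _ rfl
      rw [Scheme.Hom.comp_app]
      change (l.app _).hom ((pullback.fst p g).app W b) = 0
      rw [hb0, map_zero]
    exact this _ hl
  have hqb : q b = 0 := by
    simp only [hh, Scheme.Hom.comp_app, IsAffineOpen.fromSpec_app_self] at hhb
    exact eq_zero_of_SpecMap_app (CommRingCat.ofHom q) _ hW.fromSpec_preimage_self b hhb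
  rw [Ideal.smul_top_eq_map]
  exact Ideal.Quotient.eq_zero_iff_mem.mp hqb


open CategoryTheory.Limits in
/-- Over an affine base with free successive quotients. Let A be a ring, J a nilpotent ideal of A such
that every quotient J^k/J^(k+1) is a free (A/J)-module, p : X ⟶ Spec A a flat morphism and (v_i :
Z_i ⟶ X) a family of subschemes of X (immersions) with every Z_i flat over Spec A. If the family of
reductions Z_i ×_A (A/J) ⟶ X ×_A (A/J) is schematically dense, i.e. a section of the structure sheaf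
of X ×_A (A/J) over an open subset whose pullback to every member vanishes is zero, then the family
(v_i) is schematically dense in X in the same sense. (The published statement has an arbitrary base
S and a nilpotent quasi-coherent ideal of the structure sheaf whose successive quotients are locally
free modulo the ideal; the assertion is local on S and on X, and this row is the case of an affine
base with free successive quotients.) -/
theorem result {X : Scheme.{u}} (A : CommRingCat.{u}) (p : X ⟶ Spec A) [Flat p]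
    (J : Ideal ↑A) (hJ : IsNilpotent J) (hfree : ∀ k : ℕ, Module.Free (↑A ⧸ J) ((↑A ⧸ J) ⊗[↑A] ↥(J ^ k)))
    {ι : Type u} (Z : ι → Scheme.{u}) (v : ∀ i, Z i ⟶ X) [∀ i, IsImmersion (v i)] [∀ i, Flat (v i ≫ p)]
    (h0 : ∀ (V : (pullback p (Spec.map (CommRingCat.ofHom (Ideal.Quotient.mk J)))).Opens) (t : Γ(pullback p (Spec.map (CommRingCat.ofHom (Ideal.Quotient.mk J))), V)),
      (∀ i, (pullback.map (v i ≫ p) (Spec.map (CommRingCat.ofHom (Ideal.Quotient.mk J))) p (Spec.map (CommRingCat.ofHom (Ideal.Quotient.mk J))) (v i) (𝟙 _) (𝟙 _)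
        (Category.comp_id _) ((Category.comp_id _).trans (Category.id_comp _).symm)).app V t = 0) → t = 0) :
    ∀ (V : X.Opens) (t : Γ(X, V)), (∀ i, (v i).app V t = 0) → t = 0 := by
  intro V t ht
  refine eq_zero_of_cover t (fun x hx => ?_)
  obtain ⟨W, hW, hxW, hle⟩ := exists_isAffineOpen_mem_and_subset hx
  refine ⟨W, hle, hxW, affine_case A p J hJ hfree Z v h0 W hW _ (fun i => ?_)⟩
  rw [← CommRingCat.comp_apply, Scheme.Hom.naturality, CommRingCat.comp_apply, ht i, map_zero]

end Groth.Agent.S6063
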