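import Groth.Statements.S6065
import Groth.Agent.DiagRig.DenseFam.Torsion

set_option autoImplicit false
open CategoryTheory MonoidalCategory CartesianMonoidalCategory MonObj GrpObj AlgebraicGeometry
universe u
open SGA3x

namespace Groth.Agent.S6065

set_option backward.isDefEq.respectTransparency.types false

open CategoryTheory.Limits in
open Groth.Agent.DiagRig.DenseFam in
/-- Landing of the whole family, in the form of the statement. -/
theorem cond_iff {S X Y X₀ : Scheme.{u}} (p : X ⟶ S) (y : Y ⟶ X) (z : X₀ ⟶ X) {S' : Scheme.{u}} (g : S' ⟶ S) :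
    Cond p (𝟙 S) (pullback.fst p (𝟙 S)) y z g ↔
      ∃ l : pullback (z ≫ p) g ⟶ Y, l ≫ y = pullback.fst (z ≫ p) g ≫ z := by
  refine ⟨fun h => ?_, fun ⟨l, hl⟩ Q h x w => ⟨pullback.lift h x (by simpa using w) ≫ l, ?_⟩⟩
  · obtain ⟨l, hl⟩ := h _ (pullback.fst (z ≫ p) g) (pullback.snd (z ≫ p) g) (by simp [pullback.condition])
    exact ⟨l, hl.trans (pullback.lift_fst _ _ _)⟩
  · rw [Category.assoc, hl, pullback.lift_fst, pullback.lift_fst_assoc]

open CategoryTheory.Limits in
open Groth.Agent.DiagRig.DenseFam in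
theorem cond_id_iff {S X Y : Scheme.{u}} (p : X ⟶ S) (y : Y ⟶ X) {S' : Scheme.{u}} (g : S' ⟶ S) :
    Cond p (𝟙 S) (pullback.fst p (𝟙 S)) y (𝟙 X) g ↔ ∃ l : pullback p g ⟶ Y, l ≫ y = pullback.fst p g := by
  refine ⟨fun h => ?_, fun ⟨l, hl⟩ Q h x w => ⟨pullback.lift h x (by simpa using w) ≫ l, ?_⟩⟩
  · obtain ⟨l, hl⟩ := h _ (pullback.fst p g) (pullback.snd p g) (by simp [pullback.condition])
    exact ⟨l, hl.trans ((pullback.lift_fst _ _ _).trans (Category.comp_id _))⟩
  · rw [Category.assoc, hl, pullback.lift_fst, pullback.lift_fst, Category.comp_id]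

open CategoryTheory.Limits in
/-- Let S be a locally Noetherian scheme, H a commutative S-group which is of finite type over S, and E
a nonempty set of integers n > 0 stable under multiplication, such that: a) for every n ∈ E the
kernel ₙH of the n-th power map of H (the pullback of the unit section along that map) is finite and
flat over S; b) for every s ∈ S the family of fibres (ₙH)_s ⟶ H_s, n ∈ E, is schematically dense in
H_s (a section of the structure sheaf of H_s over an open subset whose pullback to every (ₙH)_s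
vanishes is zero). Let Y be a closed subscheme of H. Then the functor on S-schemes whose value at S'
⟶ S is a point when H ×_S S' ⟶ H factors through Y and empty otherwise is representable by a closed
subscheme T of S; and if S is Noetherian there is n ∈ E such that, for every S' ⟶ S, H ×_S S' ⟶ H
factors through Y if and only if ₙH ×_S S' ⟶ H does. -/
theorem result {S : Scheme.{u}} [IsLocallyNoetherian S]
    (H : Over S) [GrpObj H] [IsCommMonObj H] [LocallyOfFiniteType H.hom] [QuasiCompact H.hom]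
    (E : Set ℕ) (hE : E.Nonempty) (hE0 : ∀ n ∈ E, 0 < n) (hEmul : ∀ m ∈ E, ∀ n ∈ E, m * n ∈ E)
    (ha : ∀ n ∈ E, IsFinite ((pullback.snd η[H].left (𝟙 H ^ n : H ⟶ H).left) ≫ H.hom) ∧ Flat ((pullback.snd η[H].left (𝟙 H ^ n : H ⟶ H).left) ≫ H.hom))
    (hb : ∀ (s : S) (V : (H.hom.fiber s).Opens) (t : Γ(H.hom.fiber s, V)),
      (∀ n ∈ E, (MoreMor.fiberMap (pullback.snd η[H].left (𝟙 H ^ n : H ⟶ H).left) H.hom s).app V t = 0) → t = 0)
    (Y : Scheme.{u}) (y : Y ⟶ H.left) [IsClosedImmersion y] :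
    (∃ (T : Scheme.{u}) (t : T ⟶ S), IsClosedImmersion t ∧
      ∀ (S' : Scheme.{u}) (g : S' ⟶ S), (∃ g' : S' ⟶ T, g' ≫ t = g) ↔
        ∃ l : pullback H.hom g ⟶ Y, l ≫ y = pullback.fst H.hom g) ∧
    (AlgebraicGeometry.IsNoetherian S → ∃ n ∈ E, ∀ (S' : Scheme.{u}) (g : S' ⟶ S),
      (∃ l : pullback H.hom g ⟶ Y, l ≫ y = pullback.fst H.hom g) ↔
        ∃ l : pullback ((pullback.snd η[H].left (𝟙 H ^ n : H ⟶ H).left) ≫ H.hom) g ⟶ Y,
          l ≫ y = pullback.fst ((pullback.snd η[H].left (𝟙 H ^ n : H ⟶ H).left) ≫ H.hom) g ≫ (pullback.snd η[H].left (𝟙 H ^ n : H ⟶ H).left)) := by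
  have : Nonempty (ULift.{u} {n : ℕ // n ∈ E}) := ⟨⟨⟨_, hE.choose_spec⟩⟩⟩
  let z := fun i : ULift.{u} {n : ℕ // n ∈ E} => DiagRig.DenseFam.ker H i.down.1
  have : ∀ i, IsFinite (z i ≫ H.hom) := fun i => (ha _ i.down.2).1
  have : ∀ i, Flat (z i ≫ H.hom) := fun i => (ha _ i.down.2).2
  obtain ⟨T, t, ht, hT⟩ := DiagRig.DenseFam.exists_closed_forall H.hom (𝟙 S) (pullback.fst H.hom (𝟙 S)) y z
    fun s V x hx => hb s V x fun n hn => hx ⟨⟨n, hn⟩⟩
  refine ⟨⟨T, t, ht, fun S' g => (hT S' g).1.symm.trans (cond_id_iff H.hom y g)⟩, fun hN => ?_⟩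
  obtain ⟨n, hn⟩ := DiagRig.DenseFam.exists_uniform H.hom (𝟙 S) (pullback.fst H.hom (𝟙 S)) y z
    (DiagRig.DenseFam.hdir H E hEmul)
  exact ⟨n.down.1, n.down.2, fun S' g => (cond_id_iff H.hom y g).symm.trans
    (Iff.trans ⟨fun h => (hT S' g).2.mp h n, fun h => (hT S' g).2.mpr (hn S' g h)⟩ (cond_iff H.hom y (z n) g))⟩

end Groth.Agent.S6065
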