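import Groth.Statements.S6066
import Groth.Agent.DiagRig.DenseFam.Torsion

set_option autoImplicit false
open CategoryTheory MonoidalCategory CartesianMonoidalCategory MonObj GrpObj AlgebraicGeometry
universe u
open SGA3x

namespace Groth.Agent.S6066

set_option backward.isDefEq.respectTransparency.types false

open CategoryTheory.Limits in
open Groth.Agent.DiagRig.DenseFam in
/-- Conjugation of `u h` by `g`, on the product. -/
noncomputable def conj {S : Scheme.{u}} {H G : Over S} [GrpObj G] (u : H ⟶ G) : H ⊗ G ⟶ G :=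
  snd H G * (fst H G ≫ u) * (snd H G)⁻¹

open CategoryTheory.Limits in
open Groth.Agent.DiagRig.DenseFam in
theorem lift_conj {S : Scheme.{u}} {H G X : Over S} [GrpObj G] (u : H ⟶ G) (h : X ⟶ H) (g : X ⟶ G) :
    lift h g ≫ conj u = g * (h ≫ u) * g⁻¹ := by
  rw [conj, comp_mul, comp_mul, comp_inv, lift_snd, lift_fst_assoc]

open CategoryTheory.Limits in
open Groth.Agent.DiagRig.DenseFam in
theorem cond_iff {S : Scheme.{u}} {H G K : Over S} [GrpObj G] (u : H ⟶ G) (k : K ⟶ G) {X₀ : Scheme.{u}}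
    (z : X₀ ⟶ H.left) {X : Over S} (g : X ⟶ G) :
    Cond H.hom G.hom (conj u).left k.left z g.left ↔
      ∀ (X' : Over S) (x : X' ⟶ X) (h : X' ⟶ H), (∃ q : X'.left ⟶ X₀, q ≫ z = h.left) →
        ∃ κ : X' ⟶ K, (x ≫ g) * (h ≫ u) * (x ≫ g)⁻¹ = κ ≫ k := by
  refine ⟨fun hc X' x h ⟨q, hq⟩ => ?_, fun hc Q h x w => ?_⟩
  · obtain ⟨l, hl⟩ := hc X'.left q x.left (by rw [hq, Category.assoc, Over.w g, Over.w x, Over.w h])
    have e : l ≫ k.left = (lift h (x ≫ g) ≫ conj u).left := by
      rw [hl, Over.comp_left]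
      congr 1
      refine pullback.hom_ext ?_ ?_
      · rw [pullback.lift_fst, hq]
        exact congrArg CommaMorphism.left (lift_fst h (x ≫ g)).symm
      · rw [pullback.lift_snd]
        exact congrArg CommaMorphism.left (lift_snd h (x ≫ g)).symm
    refine ⟨Over.homMk l (by rw [← Over.w k, reassoc_of% e, Over.w]), ?_⟩
    rw [← lift_conj]
    exact Over.OverMorphism.ext e.symm
  · let X' : Over S := Over.mk (x ≫ X.hom)
    let h' : X' ⟶ H := Over.homMk (h ≫ z) (by
      show (h ≫ z) ≫ H.hom = x ≫ X.hom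
      rw [w, Category.assoc, Over.w g])
    let x' : X' ⟶ X := Over.homMk x rfl
    obtain ⟨κ, hκ⟩ := hc X' x' h' ⟨h, rfl⟩
    refine ⟨κ.left, ?_⟩
    rw [← Over.comp_left, ← hκ, ← lift_conj, Over.comp_left]
    rfl

open CategoryTheory.Limits in
open Groth.Agent.DiagRig.DenseFam in
theorem cond_id_iff {S : Scheme.{u}} {H G K : Over S} [GrpObj G] (u : H ⟶ G) (k : K ⟶ G) {X : Over S} (g : X ⟶ G) :
    Cond H.hom G.hom (conj u).left k.left (𝟙 H.left) g.left ↔
      ∀ (X' : Over S) (x : X' ⟶ X) (h : X' ⟶ H), ∃ κ : X' ⟶ K, (x ≫ g) * (h ≫ u) * (x ≫ g)⁻¹ = κ ≫ k :=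
  (cond_iff u k (𝟙 _) g).trans ⟨fun hc X' x h => hc X' x h ⟨h.left, Category.comp_id _⟩,
    fun hc X' x h _ => hc X' x h⟩

open CategoryTheory.Limits in
/-- Let S be a locally Noetherian scheme, H a commutative S-group which is of finite type over S, and E
a nonempty set of integers n > 0 stable under multiplication such that a) every kernel ₙH of the
n-th power map (n ∈ E; the pullback of the unit section along that map) is finite and flat over S
and b) for every s ∈ S the family of fibres (ₙH)_s ⟶ H_s, n ∈ E, is schematically dense in H_s. Let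
u : H ⟶ G be a homomorphism into an S-group G locally of finite type over S and k : K ⟶ G a closed
sub-group-scheme. Then the transporter of u into K — the subfunctor of G of those points g, with
values in an S-scheme X, such that for every X' ⟶ X and every X'-valued point h of H the point g
u(h) g⁻¹ lies in K — is representable by a closed subscheme of G; and if the scheme G is Noetherian
there is n ∈ E such that a point g of G lies in the transporter if and only if g u(h) g⁻¹ lies in K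
for all points h of H with h^n = 1. (The published statement is over an arbitrary base S and also
asserts that the transporter is smooth over S when G is smooth, K is smooth or of multiplicative
type and the ₙH, n ∈ E, are of multiplicative type; this row assumes S locally Noetherian, the
setting in which the printed argument through the base G applies, and does not state the smoothness
assertion.) -/
theorem result {S : Scheme.{u}} [IsLocallyNoetherian S]
    (H : Over S) [GrpObj H] [IsCommMonObj H] [LocallyOfFiniteType H.hom] [QuasiCompact H.hom]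
    (E : Set ℕ) (hE : E.Nonempty) (hE0 : ∀ n ∈ E, 0 < n) (hEmul : ∀ m ∈ E, ∀ n ∈ E, m * n ∈ E)
    (ha : ∀ n ∈ E, IsFinite ((pullback.snd η[H].left (𝟙 H ^ n : H ⟶ H).left) ≫ H.hom) ∧ Flat ((pullback.snd η[H].left (𝟙 H ^ n : H ⟶ H).left) ≫ H.hom))
    (hb : ∀ (s : S) (V : (H.hom.fiber s).Opens) (t : Γ(H.hom.fiber s, V)),
      (∀ n ∈ E, (MoreMor.fiberMap (pullback.snd η[H].left (𝟙 H ^ n : H ⟶ H).left) H.hom s).app V t = 0) → t = 0)
    (G K : Over S) [GrpObj G] [GrpObj K] [LocallyOfFiniteType G.hom] (u : H ⟶ G) [IsMonHom u]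
    (k : K ⟶ G) [IsMonHom k] [IsClosedImmersion k.left] :
    (∃ (T : Over S) (j : T ⟶ G), IsClosedImmersion j.left ∧
      ∀ (X : Over S) (g : X ⟶ G), (∃ t : X ⟶ T, t ≫ j = g) ↔
        ∀ (X' : Over S) (x : X' ⟶ X) (h : X' ⟶ H), ∃ κ : X' ⟶ K, (x ≫ g) * (h ≫ u) * (x ≫ g)⁻¹ = κ ≫ k) ∧
    (AlgebraicGeometry.IsNoetherian G.left → ∃ n ∈ E, ∀ (X : Over S) (g : X ⟶ G),
      (∀ (X' : Over S) (x : X' ⟶ X) (h : X' ⟶ H), ∃ κ : X' ⟶ K, (x ≫ g) * (h ≫ u) * (x ≫ g)⁻¹ = κ ≫ k) ↔
        ∀ (X' : Over S) (x : X' ⟶ X) (h : X' ⟶ H), h ^ n = 1 → ∃ κ : X' ⟶ K, (x ≫ g) * (h ≫ u) * (x ≫ g)⁻¹ = κ ≫ k) := by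
  have : Nonempty (ULift.{u} {n : ℕ // n ∈ E}) := ⟨⟨⟨_, hE.choose_spec⟩⟩⟩
  let z := fun i : ULift.{u} {n : ℕ // n ∈ E} => DiagRig.DenseFam.ker H i.down.1
  have : ∀ i, IsFinite (z i ≫ H.hom) := fun i => (ha _ i.down.2).1
  have : ∀ i, Flat (z i ≫ H.hom) := fun i => (ha _ i.down.2).2
  obtain ⟨T, t, ht, hT⟩ := DiagRig.DenseFam.exists_closed_forall H.hom G.hom (conj u).left k.left z
    fun s V x hx => hb s V x fun n hn => hx ⟨⟨n, hn⟩⟩
  refine ⟨⟨Over.mk (t ≫ G.hom), Over.homMk t rfl, ht, fun X g => ?_⟩, fun hN => ?_⟩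
  · rw [← cond_id_iff u k g, (hT X.left g.left).1]
    refine ⟨fun ⟨f, hf⟩ => ⟨f.left, congrArg CommaMorphism.left hf⟩, fun ⟨l, hl⟩ =>
      ⟨Over.homMk l ?_, Over.OverMorphism.ext hl⟩⟩
    show l ≫ t ≫ G.hom = X.hom
    rw [reassoc_of% hl, Over.w]
  · obtain ⟨n, hn⟩ := DiagRig.DenseFam.exists_uniform H.hom G.hom (conj u).left k.left z
      (DiagRig.DenseFam.hdir H E hEmul)
    refine ⟨n.down.1, n.down.2, fun X g => ⟨fun hc X' x h _ => hc X' x h, fun hc => ?_⟩⟩
    refine (cond_id_iff u k g).mp ((hT _ _).2.mpr (hn _ _ ((cond_iff u k _ g).mpr fun X' x h hq => ?_)))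
    exact hc X' x h ((DiagRig.DenseFam.pow_eq_one_iff H h _).mpr hq)

end Groth.Agent.S6066
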