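import Groth.Statements.S6072
import Groth.Agent.MultType.LiftApps

set_option autoImplicit false
universe u
open TensorProduct SGA3b
open SGA3b

namespace Groth.Agent.S6072

/-- Let R be a henselian local ring with residue field k and H₀ = Spec C₀ a k-group of multiplicative
type which is finite over k. Then H₀ lifts to R: there is an R-group H = Spec C of multiplicative
type, finite over R and isotrivial, together with an isomorphism of k-groups H ×_R k ≅ H₀, i.e. a
bialgebra isomorphism k ⊗_R C ≅ C₀ (existence of an isomorphism; the lift is determined up to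
isomorphism only). (Affine group schemes over an affine base are taken in Hopf-algebra form; base
change is the tensor product.) -/
theorem result (R : Type u) [CommRing R] [HenselianLocalRing R]
    (C₀ : Type u) [CommRing C₀] [HopfAlgebra (IsLocalRing.ResidueField R) C₀] [Module.Finite (IsLocalRing.ResidueField R) C₀]
    (h₀ : IsMultType (IsLocalRing.ResidueField R) C₀) :
    ∃ (C : Type u) (_ : CommRing C) (_ : HopfAlgebra R C), Module.Finite R C ∧ IsIsotrivial R C ∧
      Nonempty ((IsLocalRing.ResidueField R ⊗[R] C) ≃ₐc[IsLocalRing.ResidueField R] C₀) := by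
  haveI : HenselianRing R (IsLocalRing.maximalIdeal R) := inferInstance
  have key : ∃ (C : Type u) (_ : CommRing C) (_ : HopfAlgebra R C), IsIsotrivial R C ∧
      Nonempty ((IsLocalRing.ResidueField R ⊗[R] C) ≃ₐc[IsLocalRing.ResidueField R] C₀) := by
    have hiso := Groth.Agent.MultType.LiftApps.isIsotrivial_field h₀ inferInstance
    letI : HopfAlgebra (R ⧸ IsLocalRing.maximalIdeal R) C₀ :=
      (inferInstance : HopfAlgebra (IsLocalRing.ResidueField R) C₀)
    exact Groth.Agent.MultType.LiftApps.exists_isotrivial_lift (IsLocalRing.maximalIdeal R) (A₀ := C₀) hiso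
  obtain ⟨C, _, _, hC, ⟨e⟩⟩ := key
  refine ⟨C, inferInstance, inferInstance, ?_, hC, ⟨e⟩⟩
  obtain ⟨T, _, _, _, hTfin, hTff, M, _, ⟨f⟩⟩ := hC
  haveI : Module.Finite (IsLocalRing.ResidueField R) (IsLocalRing.ResidueField R ⊗[R] C) :=
    Module.Finite.equiv e.symm.toAlgEquiv.toLinearEquiv
  haveI : Finite M := by
    let k := IsLocalRing.ResidueField R
    let W := k ⊗[R] T
    haveI : Nontrivial W := Module.FaithfullyFlat.lTensor_nontrivial (R := R) T k |> fun _ =>
      (TensorProduct.comm R T k).symm.toEquiv.nontrivial
    let fW := Groth.Agent.MultType.GLLift.extend f (Algebra.TensorProduct.includeRight : T →ₐ[R] W)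
    haveI : Module.Finite W (W ⊗[R] C) := Module.Finite.equiv
      (Groth.Agent.MultType.Split.cancel (R := R) (S := k) (T := W) (A := C)).toAlgEquiv.toLinearEquiv
    haveI : Module.Finite W (MonoidAlgebra W M) := Module.Finite.equiv fW.toAlgEquiv.toLinearEquiv
    exact Module.Finite.finite_basis (MonoidAlgebra.basis M W)
  haveI : Module.Finite T (MonoidAlgebra T M) := Module.Finite.of_basis (MonoidAlgebra.basis M T)
  haveI : Module.Finite T (T ⊗[R] C) := Module.Finite.equiv f.toAlgEquiv.toLinearEquiv.symm
  exact Module.Finite.of_finite_tensorProduct_of_faithfullyFlat T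

end Groth.Agent.S6072
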