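import Groth.Statements.S6077
import Groth.Agent.GrpGen19.Basic
import Groth.Agent.Borel50.Pts
import Groth.Agent.GrpScheme.Points
import Groth.Agent.GrpScheme.IdComponent

set_option autoImplicit false
set_option linter.style.haveILetI false
universe u
open CategoryTheory CategoryTheory.Limits MonoidalCategory CartesianMonoidalCategory MonObj GrpObj AlgebraicGeometry
open SGA3

namespace Groth.Agent.S6077

open Groth.Agent.GrpScheme Groth.Agent.Borel50.Pts

section Words

variable {k : Type u} [Field k] {G X : Over (Spec (CommRingCat.of k))} [GrpObj G] (f : X ⟶ G)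

/-- Being a product of `n` signed values of `f`. -/
def IsW (n : ℕ) {T : Over (Spec (CommRingCat.of k))} (g : T ⟶ G) : Prop :=
  ∃ (x : Fin n → (T ⟶ X)) (ε : Fin n → Bool),
    (List.ofFn fun j : Fin n => if ε j then x j ≫ f else (x j ≫ f)⁻¹).prod = g

theorem isW_zero {T : Over (Spec (CommRingCat.of k))} : IsW f 0 (1 : T ⟶ G) :=
  ⟨Fin.elim0, Fin.elim0, by rw [List.ofFn_zero, List.prod_nil]⟩

theorem isW_one {T : Over (Spec (CommRingCat.of k))} (x : T ⟶ X) : IsW f 1 (x ≫ f) :=
  ⟨fun _ => x, fun _ => true, by simp⟩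

theorem isW_mul {T : Over (Spec (CommRingCat.of k))} {n m : ℕ} {g g' : T ⟶ G} (h : IsW f n g) (h' : IsW f m g') :
    IsW f (n + m) (g * g') := by
  obtain ⟨x, ε, rfl⟩ := h
  obtain ⟨x', ε', rfl⟩ := h'
  refine ⟨Fin.append x x', Fin.append ε ε', ?_⟩
  rw [← List.prod_append, ← List.ofFn_fin_append]
  congr 2
  funext j
  induction j using Fin.addCases with
  | left i => simp only [Fin.append_left]
  | right i => simp only [Fin.append_right]

theorem isW_cast {T : Over (Spec (CommRingCat.of k))} {n m : ℕ} (e : n = m) {g : T ⟶ G} (h : IsW f n g) :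
    IsW f m g := e ▸ h

theorem isW_comp {T T' : Over (Spec (CommRingCat.of k))} (s : T' ⟶ T) {n : ℕ} {g : T ⟶ G} (h : IsW f n g) :
    IsW f n (s ≫ g) := by
  induction n generalizing g with
  | zero =>
    obtain ⟨x, ε, rfl⟩ := h
    rw [List.ofFn_zero, List.prod_nil, MonObj.comp_one]
    exact isW_zero f
  | succ n ih =>
    obtain ⟨x, ε, rfl⟩ := h
    rw [List.ofFn_succ, List.prod_cons, MonObj.comp_mul]
    refine isW_cast f (Nat.add_comm 1 n)
      (isW_mul f ⟨fun _ => s ≫ x 0, fun _ => ε 0, ?_⟩ (ih ⟨fun i => x i.succ, fun i => ε i.succ, rfl⟩))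
    cases ε 0 <;> simp [GrpObj.comp_inv]

theorem isW_pad {T : Over (Spec (CommRingCat.of k))} {n : ℕ} {g : T ⟶ G} (h : IsW f n g)
    (x₀ : 𝟙_ (Over (Spec (CommRingCat.of k))) ⟶ X) (hx₀ : x₀ ≫ f = 1) (m : ℕ) (hm : n ≤ m) : IsW f m g := by
  induction m, hm using Nat.le_induction with
  | base => exact h
  | succ m _ ih =>
    have := isW_mul f ih (isW_one f (toUnit T ≫ x₀))
    rwa [Category.assoc, hx₀, MonObj.comp_one, _root_.mul_one] at this

theorem exists_word_of_isW {T : Over (Spec (CommRingCat.of k))} {n : ℕ} {g : T ⟶ G} (h : IsW f n g) :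
    ∃ (l : List Bool) (v : T ⟶ GrpGen19.word X l), v ≫ GrpGen19.wordMap f l = g := by
  induction n generalizing g with
  | zero =>
    obtain ⟨x, ε, rfl⟩ := h
    refine ⟨[], toUnit T, ?_⟩
    show toUnit T ≫ (1 : 𝟙_ _ ⟶ G) = _
    rw [MonObj.comp_one, List.ofFn_zero, List.prod_nil]
  | succ n ih =>
    obtain ⟨x, ε, rfl⟩ := h
    obtain ⟨l, v, hv⟩ := ih ⟨fun i => x i.succ, fun i => ε i.succ, rfl⟩
    refine ⟨ε 0 :: l, lift (x 0) v, ?_⟩
    show lift (x 0) v ≫ ((fst X (GrpGen19.word X l) ≫ GrpGen19.letter f (ε 0)) *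
      (snd X (GrpGen19.word X l) ≫ GrpGen19.wordMap f l)) = _
    rw [MonObj.comp_mul, lift_fst_assoc, lift_snd_assoc, hv, List.ofFn_succ, List.prod_cons]
    congr 1
    cases ε 0 <;> simp [GrpGen19.letter, GrpObj.comp_inv]

theorem isW_word : ∀ l : List Bool, IsW f l.length (GrpGen19.wordMap f l)
  | [] => isW_zero f
  | b :: l => by
    rw [List.length_cons, Nat.add_comm]
    show IsW f (1 + l.length) ((fst X (GrpGen19.word X l) ≫ GrpGen19.letter f b) *
      (snd X (GrpGen19.word X l) ≫ GrpGen19.wordMap f l))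
    refine isW_mul f ⟨fun _ => fst X (GrpGen19.word X l), fun _ => b, ?_⟩ (isW_comp f _ (isW_word l))
    cases b <;> simp [GrpGen19.letter, GrpObj.comp_inv]

theorem locallyOfFiniteType_word [LocallyOfFiniteType X.hom] :
    ∀ l, LocallyOfFiniteType (GrpGen19.word X l).hom
  | [] => inferInstanceAs (LocallyOfFiniteType (𝟙 (Spec (CommRingCat.of k))))
  | _ :: l =>
    haveI := locallyOfFiniteType_word l
    inferInstanceAs (LocallyOfFiniteType (pullback.fst X.hom (GrpGen19.word X l).hom ≫ X.hom))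

theorem pt_inj [IsSeparated G.hom] {g g' : Pt G} (h : pt g = pt g') : g = g' := by
  haveI := isClosedImmersion_pt g'
  obtain ⟨z, hz⟩ := exists_lift_of_mem g' (x := g) (h ▸ ⟨_, rfl⟩)
  rw [← hz, toUnit_unique z (𝟙 _), Category.id_comp]

theorem translate_eq (a : Pt G) : (λ_ G).inv ≫ (a ▷ G) ≫ μ[G] = (toUnit G ≫ a) * 𝟙 G := by
  rw [Hom.mul_def, ← Category.assoc]
  congr 1
  refine CartesianMonoidalCategory.hom_ext _ _ ?_ ?_ <;> simp

theorem translate_comp (a : Pt G) {T : Over (Spec (CommRingCat.of k))} (y : T ⟶ G) :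
    y ≫ ((λ_ G).inv ≫ (a ▷ G) ≫ μ[G]) = (toUnit T ≫ a) * y := by
  rw [translate_eq, MonObj.comp_mul, Category.comp_id, ← Category.assoc, comp_toUnit]

theorem isIso_translate (a : Pt G) : IsIso ((λ_ G).inv ≫ (a ▷ G) ≫ μ[G]).left := by
  have key : ∀ c : Pt G, ((λ_ G).inv ≫ (c ▷ G) ≫ μ[G]) ≫ ((λ_ G).inv ≫ (c⁻¹ ▷ G) ≫ μ[G]) = 𝟙 G := fun c => by
    rw [translate_comp, translate_eq c, GrpObj.comp_inv, inv_mul_cancel_left]
  haveI : IsIso ((λ_ G).inv ≫ (a ▷ G) ≫ μ[G]) :=
    ⟨(λ_ G).inv ≫ (a⁻¹ ▷ G) ≫ μ[G], key a, by simpa using key a⁻¹⟩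
  exact inferInstanceAs (IsIso ((Over.forget _).map ((λ_ G).inv ≫ (a ▷ G) ≫ μ[G])))

end Words


/-- Let k be an algebraically closed field, G a group scheme locally of finite type over k, X a
geometrically reduced k-scheme locally of finite type, f : X → G a k-morphism, and h : H → G a
closed subgroup scheme whose underlying set is contained in the image of f. Let i : Γ → G be the
smallest closed subgroup scheme of G through which f factors. Say that a point of G lies under a
word of length n in f when there are a k-scheme T, a point p of T, T-valued points x_1, …, x_n of X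
and signs such that f(x_1)^{±1} ⋯ f(x_n)^{±1} maps p to it; let Γ'₀ be the set of k-points of G
whose point lies under some word (of any length n ≥ 0). Suppose that Γ'₀ is covered by finitely many
left translates a · H(k) of the image of H(k) in G(k), with the a in Γ'₀ (H(k) has finite index in
Γ'₀). Then there is m such that the underlying set of Γ is the set of points of G lying under a word
of length m, and there are finitely many k-points a_1, …, a_r of G such that the underlying set of Γ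
is the union of the left translates a_j · H of the underlying set of H. -/
theorem result (k : Type u) [Field k] [IsAlgClosed k]
    (G X H : Over (Spec (CommRingCat.of k))) [GrpObj G] [GrpObj H] [LocallyOfFiniteType G.hom]
    [LocallyOfFiniteType X.hom] [GeometricallyReduced X.hom] (f : X ⟶ G)
    (h : H ⟶ G) [IsMonHom h] [IsClosedImmersion h.left] (hH : Set.range h.left.base ⊆ Set.range f.left.base)
    (Γ : Over (Spec (CommRingCat.of k))) [GrpObj Γ] (i : Γ ⟶ G) [IsMonHom i] [IsClosedImmersion i.left]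
    (hf : ∃ f' : X ⟶ Γ, f' ≫ i = f)
    (hmin : ∀ (Γ' : Over (Spec (CommRingCat.of k))) (_ : GrpObj Γ') (i' : Γ' ⟶ G), IsMonHom i' → IsClosedImmersion i'.left →
        (∃ f'' : X ⟶ Γ', f'' ≫ i' = f) → ∃ j : Γ ⟶ Γ', j ≫ i' = i)
    (hfin : ∃ F : Finset (𝟙_ (Over (Spec (CommRingCat.of k))) ⟶ G),
      (∀ a ∈ F, ∃ (n : ℕ) (T : Over (Spec (CommRingCat.of k))) (p : T.left) (p₀ : (𝟙_ (Over (Spec (CommRingCat.of k)))).left) (x : Fin n → (T ⟶ X)) (ε : Fin n → Bool),
        ((List.ofFn fun j : Fin n => if ε j then x j ≫ f else (x j ≫ f)⁻¹).prod : T ⟶ G).left.base p = a.left.base p₀) ∧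
      ∀ g : 𝟙_ (Over (Spec (CommRingCat.of k))) ⟶ G, (∃ (n : ℕ) (T : Over (Spec (CommRingCat.of k))) (p : T.left) (p₀ : (𝟙_ (Over (Spec (CommRingCat.of k)))).left) (x : Fin n → (T ⟶ X)) (ε : Fin n → Bool),
        ((List.ofFn fun j : Fin n => if ε j then x j ≫ f else (x j ≫ f)⁻¹).prod : T ⟶ G).left.base p = g.left.base p₀) →
        ∃ a ∈ F, ∃ y : 𝟙_ (Over (Spec (CommRingCat.of k))) ⟶ H, g = a * (y ≫ h)) :
    (∃ m : ℕ, Set.range i.left.base =
      {g : G.left | ∃ (T : Over (Spec (CommRingCat.of k))) (p : T.left) (x : Fin m → (T ⟶ X)) (ε : Fin m → Bool),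
        ((List.ofFn fun j : Fin m => if ε j then x j ≫ f else (x j ≫ f)⁻¹).prod : T ⟶ G).left.base p = g}) ∧
    ∃ F : Finset (𝟙_ (Over (Spec (CommRingCat.of k))) ⟶ G), Set.range i.left.base =
      ⋃ a ∈ F, (fun z => ((λ_ G).inv ≫ (a ▷ G) ≫ μ[G]).left.base z) '' Set.range h.left.base := by
  classical
  haveI : IsSeparated G.hom := IdComponent.isSeparated G
  obtain ⟨f', hf'⟩ := hf
  have hbelow : ∀ (T : Over (Spec (CommRingCat.of k))) (p : T.left) (n : ℕ) (g : T ⟶ G), IsW f n g →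
      g.left p ∈ Set.range i.left := fun T p n g hg => by
    obtain ⟨l, v, hv⟩ := exists_word_of_isW f hg
    obtain ⟨w, hw⟩ := GrpGen19.exists_factor_word f i f' hf' l
    exact ⟨(v ≫ w).left p, by rw [← Points.comp_apply, Category.assoc, hw, hv]⟩
  obtain ⟨Γ₁, hΓ₁, i₁, hM₁, hci₁, hf₁, -, hr₁, -⟩ := GrpGen19.exists_generated f
  obtain ⟨j, hj⟩ := hmin Γ₁ hΓ₁ i₁ hM₁ hci₁ hf₁
  have hgen : Set.range i.left ⊆ closure (⋃ l : ULift.{u} (List Bool), Set.range (GrpGen19.wordMap f l.down).left) := by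
    rintro _ ⟨z, rfl⟩
    have : i.left z ∈ Set.range i₁.left := ⟨j.left z, by rw [← Points.comp_apply, hj]⟩
    rw [hr₁] at this
    exact this
  -- a rational point of `X` over the unit
  obtain ⟨x₀, hx₀⟩ : ∃ x₀ : Pt X, x₀ ≫ f = 1 := by
    obtain ⟨x, hx⟩ : pt (1 : Pt G) ∈ Set.range f.left := hH ⟨pt (1 : Pt H), by
      rw [← pt_comp, MonObj.one_comp]⟩
    have : JacobsonSpace X.left := LocallyOfFiniteType.jacobsonSpace X.hom
    haveI := isClosedImmersion_pt (1 : Pt G)
    have hc : IsClosed (f.left ⁻¹' Set.range (1 : Pt G).left) :=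
      (1 : Pt G).left.isClosedEmbedding.isClosed_range.preimage f.left.continuous
    obtain ⟨y, hy, hyc⟩ := nonempty_inter_closedPoints
      (Z := f.left ⁻¹' Set.range (1 : Pt G).left) ⟨x, IsLocalRing.closedPoint k, hx.symm⟩ hc.isLocallyClosed
    obtain ⟨x₀, rfl⟩ := exists_pt hyc
    obtain ⟨t, ht⟩ := hy
    exact ⟨x₀, pt_inj (by
      rw [pt_comp, ← ht, Subsingleton.elim (α := PrimeSpectrum k) t (IsLocalRing.closedPoint k)])⟩
  obtain ⟨F, hF, hcov⟩ := hfin
  -- the rational translations are words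
  have hFW : ∀ a : Pt G, a ∈ F → ∃ n, IsW f n a := fun a ha => by
    obtain ⟨n, T, p, p₀, x, ε, he⟩ := hF a ha
    obtain ⟨l, v, hv⟩ := exists_word_of_isW f (g := (List.ofFn fun j : Fin n => if ε j then x j ≫ f else (x j ≫ f)⁻¹).prod) ⟨x, ε, rfl⟩
    haveI := locallyOfFiniteType_word (X := X) l
    have : JacobsonSpace (GrpGen19.word X l).left := LocallyOfFiniteType.jacobsonSpace (GrpGen19.word X l).hom
    haveI := isClosedImmersion_pt a
    have hc : IsClosed ((GrpGen19.wordMap f l).left ⁻¹' Set.range a.left) :=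
      a.left.isClosedEmbedding.isClosed_range.preimage (GrpGen19.wordMap f l).left.continuous
    have hne : ((GrpGen19.wordMap f l).left ⁻¹' Set.range a.left).Nonempty :=
      ⟨v.left p, p₀, (he.symm.trans (by rw [← hv]; rfl) : _)⟩
    obtain ⟨y, hy, hyc⟩ := nonempty_inter_closedPoints hne hc.isLocallyClosed
    obtain ⟨z, rfl⟩ := exists_pt hyc
    obtain ⟨t, ht⟩ := hy
    have hza : z ≫ GrpGen19.wordMap f l = a := pt_inj (by
      rw [pt_comp, ← ht, Subsingleton.elim (α := PrimeSpectrum k) t (IsLocalRing.closedPoint k)])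
    exact ⟨l.length, hza ▸ isW_comp f z (isW_word f l)⟩
  choose! nA hnA using hFW
  let m := F.sup nA + 1
  let U : Set G.left := ⋃ a ∈ F, (fun z => ((λ_ G).inv ≫ (a ▷ G) ≫ μ[G]).left.base z) '' Set.range h.left.base
  have hUcl : IsClosed U := F.finite_toSet.isClosed_biUnion fun a _ => by
    haveI := isIso_translate a
    exact ((λ_ G).inv ≫ (a ▷ G) ≫ μ[G]).left.homeomorph.isClosedMap _ h.left.isClosedEmbedding.isClosed_range
  have hsub : Set.range i.left ⊆ U := hgen.trans (closure_minimal (Set.iUnion_subset fun l => by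
    haveI := locallyOfFiniteType_word (X := X) l.down
    have : JacobsonSpace (GrpGen19.word X l.down).left :=
      LocallyOfFiniteType.jacobsonSpace (GrpGen19.word X l.down).hom
    rintro _ ⟨y, rfl⟩
    have hall : (Set.univ : Set (GrpGen19.word X l.down).left) ⊆ (GrpGen19.wordMap f l.down).left ⁻¹' U := by
      rw [← closure_closedPoints]
      refine closure_minimal (fun z hz => ?_) (hUcl.preimage (GrpGen19.wordMap f l.down).left.continuous)
      obtain ⟨zp, rfl⟩ := exists_pt hz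
      obtain ⟨x, ε, he⟩ := isW_comp f zp (isW_word f l.down)
      obtain ⟨a, ha, w, hw⟩ := hcov (zp ≫ GrpGen19.wordMap f l.down)
        ⟨_, _, IsLocalRing.closedPoint k, IsLocalRing.closedPoint k, x, ε, by rw [he]⟩
      refine Set.mem_iUnion₂.2 ⟨a, ha, h.left (pt w), ⟨_, rfl⟩, ?_⟩
      show pt ((w ≫ h) ≫ ((λ_ G).inv ≫ (a ▷ G) ≫ μ[G])) = pt (zp ≫ GrpGen19.wordMap f l.down)
      rw [translate_comp, toUnit_unique (toUnit (𝟙_ _)) (𝟙 _), Category.id_comp, hw]
    exact hall (Set.mem_univ y)) hUcl)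
  have hUW : U ⊆ {g : G.left | ∃ (T : Over (Spec (CommRingCat.of k))) (p : T.left) (x : Fin m → (T ⟶ X)) (ε : Fin m → Bool),
      ((List.ofFn fun j : Fin m => if ε j then x j ≫ f else (x j ≫ f)⁻¹).prod : T ⟶ G).left.base p = g} := by
    intro g hg
    obtain ⟨a, ha, _, ⟨w, rfl⟩, rfl⟩ := Set.mem_iUnion₂.1 hg
    obtain ⟨x, hx⟩ := hH ⟨w, rfl⟩
    let T := Points.pointObj X x
    let px := Points.pointHom X x
    have h1 : IsW f (nA a + 1) ((toUnit T ≫ a) * (px ≫ f)) :=
      isW_mul f (isW_comp f _ (hnA a ha)) (isW_one f px)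
    obtain ⟨xs, εs, he⟩ := isW_pad f h1 x₀ hx₀ m (Nat.succ_le_succ (Finset.le_sup ha))
    obtain ⟨t⟩ : Nonempty T.left := inferInstanceAs (Nonempty ↥(Spec (X.left.residueField x)))
    refine ⟨T, t, xs, εs, ?_⟩
    rw [he, ← translate_comp]
    show ((λ_ G).inv ≫ (a ▷ G) ≫ μ[G]).left (f.left (px.left t)) = _
    rw [Points.pointHom_apply, hx]
  have hWr : ∀ n, {g : G.left | ∃ (T : Over (Spec (CommRingCat.of k))) (p : T.left) (x : Fin n → (T ⟶ X)) (ε : Fin n → Bool),
      ((List.ofFn fun j : Fin n => if ε j then x j ≫ f else (x j ≫ f)⁻¹).prod : T ⟶ G).left.base p = g} ⊆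
        Set.range i.left.base := by
    rintro n _ ⟨T, p, x, ε, rfl⟩
    exact hbelow T p n _ ⟨x, ε, rfl⟩
  exact ⟨⟨m, ((hsub.trans hUW).antisymm (hWr m))⟩, F, hsub.antisymm (hUW.trans (hWr m))⟩

end Groth.Agent.S6077
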