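import Groth.Statements.S6084
import Groth.Agent.GrpdLib.FppfSourceDescentScheme
import Mathlib.RingTheory.Jacobson.Artinian

set_option autoImplicit false
set_option linter.style.haveILetI false
universe u
open CategoryTheory CategoryTheory.Limits MonoidalCategory CartesianMonoidalCategory MonObj GrpObj AlgebraicGeometry
open SGA3

namespace Groth.Agent.S6084

/-- Let k be a perfect field, G a group scheme locally of finite type over k and u : F → G a
homomorphism of k-group schemes which is a closed immersion and surjective on underlying spaces,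
with F reduced (so F is G_red with its group structure). Let p : G → X be a k-morphism which is
flat, surjective and locally of finite presentation and makes the square formed by (f, g) ↦ u(f) ·
g, the second projection F ×_k G → G and p (twice) cartesian (X is the quotient of G by F acting by
left translations). Then X is the spectrum of a finite local k-algebra with residue field k: X is
affine, its underlying space is a single point at which the structure morphism induces an
isomorphism of residue fields, and the ring of global sections of X is finite over k. -/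
theorem result (k : Type u) [Field k] [PerfectField k]
    (F G : Over (Spec (CommRingCat.of k))) [GrpObj F] [GrpObj G] [LocallyOfFiniteType G.hom] [IsReduced F.left]
    (u : F ⟶ G) [IsMonHom u] [IsClosedImmersion u.left] [Surjective u.left]
    (X : Over (Spec (CommRingCat.of k))) (p : G ⟶ X) [Flat p.left] [Surjective p.left] [LocallyOfFinitePresentation p.left]
    (hp : IsPullback ((u ▷ G) ≫ μ[G]) (snd F G) p p) :
    IsAffine X.left ∧ (∃ x : X.left, (Set.univ : Set X.left) = {x} ∧ IsIso (X.hom.residueFieldMap x)) ∧
      ((Scheme.ΓSpecIso (CommRingCat.of k)).inv ≫ X.hom.appTop).hom.Finite := by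
  have e₀ : u ≫ p = toUnit F ≫ η[G] ≫ p := by
    have h := congrArg (lift (𝟙 F) (toUnit F ≫ η[G]) ≫ ·) hp.w
    simp only [← Category.assoc, lift_snd] at h
    have h2 : (lift (𝟙 F) (toUnit F ≫ η[G]) ≫ (u ▷ G)) ≫ μ[G] = u := by
      rw [lift_whiskerRight, Category.id_comp, ← Hom.mul_def, ← Hom.one_def, _root_.mul_one]
    rw [h2] at h
    simpa only [Category.assoc] using h
  let s : Spec (CommRingCat.of k) ⟶ X.left := (η[G] ≫ p).left
  let pt : ↥(Spec (CommRingCat.of k)) := (default : PrimeSpectrum k)
  have hall : ∀ y : X.left, y = s pt := fun y => by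
    obtain ⟨g, rfl⟩ := p.left.surjective y
    obtain ⟨f, rfl⟩ := u.left.surjective g
    rw [← Scheme.Hom.comp_apply]
    exact (congrArg (fun m : F ⟶ X => m.left f) e₀).trans
      (congrArg s (Subsingleton.elim (α := PrimeSpectrum k) _ _))
  haveI : Subsingleton X.left := ⟨fun a b => (hall a).trans (hall b).symm⟩
  haveI : IsAffine X.left := inferInstance
  refine ⟨inferInstance, ⟨s pt, Set.eq_singleton_iff_unique_mem.2 ⟨trivial, fun y _ => hall y⟩, ?_⟩, ?_⟩
  · have hs : s ≫ X.hom = 𝟙 _ := Over.w (η[G] ≫ p)
    have key := Scheme.residueFieldMap_comp s X.hom pt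
    have hbij : Function.Surjective ((s ≫ X.hom).residueFieldMap pt) := by
      have : ∀ (m : Spec (CommRingCat.of k) ⟶ Spec (CommRingCat.of k)), m = 𝟙 _ →
          Function.Surjective (m.residueFieldMap pt) := fun m hm => by
        subst hm
        rw [Scheme.residueFieldMap_id]
        exact fun y => ⟨y, rfl⟩
      exact this _ hs
    rw [key] at hbij
    refine (ConcreteCategory.isIso_iff_bijective _).2 ⟨RingHom.injective _, fun a => ?_⟩
    obtain ⟨b, hb⟩ := hbij (s.residueFieldMap pt a)
    exact ⟨b, RingHom.injective (s.residueFieldMap pt).hom hb⟩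
  · haveI : LocallyOfFiniteType (p.left ≫ X.hom) := by rw [Over.w p]; infer_instance
    haveI : LocallyOfFiniteType X.hom :=
      Groth.Agent.GrpdLib.FppfSourceDescent.locallyOfFiniteType_of_comp_fppf p.left X.hom
    have hft : X.hom.appTop.hom.FiniteType :=
      (HasRingHomProperty.iff_of_isAffine (P := @LocallyOfFiniteType)).1 inferInstance
    let φ := ((Scheme.ΓSpecIso (CommRingCat.of k)).inv ≫ X.hom.appTop).hom
    have hφ : φ.FiniteType := hft.comp
      (RingHom.FiniteType.of_surjective _ (ConcreteCategory.bijective_of_isIso (Scheme.ΓSpecIso (CommRingCat.of k)).inv).2)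
    letI : Algebra k Γ(X.left, ⊤) := φ.toAlgebra
    haveI : Algebra.FiniteType k Γ(X.left, ⊤) := hφ
    haveI : IsNoetherianRing Γ(X.left, ⊤) := Algebra.FiniteType.isNoetherianRing k _
    haveI : Subsingleton (PrimeSpectrum Γ(X.left, ⊤)) :=
      (Scheme.homeoOfIso X.left.isoSpec).toEquiv.symm.subsingleton
    haveI : Ring.KrullDimLE 0 Γ(X.left, ⊤) :=
      Ring.KrullDimLE.mk₀ fun I hI => by
        obtain ⟨m, hm, hle⟩ := Ideal.exists_le_maximal I hI.ne_top
        have : (⟨I, hI⟩ : PrimeSpectrum Γ(X.left, ⊤)) = ⟨m, hm.isPrime⟩ := Subsingleton.elim _ _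
        obtain rfl : I = m := congrArg PrimeSpectrum.asIdeal this
        exact hm
    haveI : IsArtinianRing Γ(X.left, ⊤) := isArtinianRing_iff_isNoetherianRing_krullDimLE_zero.2 ⟨inferInstance, inferInstance⟩
    exact (Module.finite_iff_isArtinianRing k Γ(X.left, ⊤)).2 inferInstance

end Groth.Agent.S6084
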