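import Groth.Statements.S6089
import Groth.Agent.S6084
import Groth.Agent.S5328
import Groth.Agent.GrpSGA.FibreCrit
import Groth.Agent.GrpSGA.FieldComp
import Groth.Agent.GrpScheme.HomFlat
import Groth.Agent.AlgSpCov.FppfSource

set_option autoImplicit false
set_option linter.style.haveILetI false
universe u
open CategoryTheory CategoryTheory.Limits MonoidalCategory CartesianMonoidalCategory MonObj GrpObj AlgebraicGeometry
open SGA3

namespace Groth.Agent.S6089

open Groth.Agent.GrpScheme Groth.Agent.GrpSGA Groth.Agent.GrpSGA.LocalProp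

/-- A maximal point in the closure of the image of a compact open set is in the image. -/
theorem mem_image_of_mem_closure {A B : Scheme.{u}} [IsLocallyNoetherian A] (f : A ⟶ B) {C : Set A}
    (hCo : IsOpen C) (hCc : IsCompact C) {ξ : B} (hξ : Component.IsMaxGen ξ) (h : ξ ∈ closure (f '' C)) :
    ξ ∈ f '' C := by
  classical
  obtain ⟨U, hU, hξU, -⟩ := exists_isAffineOpen_mem_and_subset (show ξ ∈ (⊤ : B.Opens) from trivial)
  let W : A.Opens := ⟨C, hCo⟩
  haveI : CompactSpace (W : Scheme.{u}) := isCompact_iff_compactSpace.1 hCc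
  haveI : IsLocallyNoetherian (W : Scheme.{u}) := isLocallyNoetherian_of_isOpenImmersion W.ι
  haveI : IsNoetherian (W : Scheme.{u}) := {}
  have hDc : IsCompact (C ∩ f ⁻¹' (U : Set B)) := by
    have h1 : IsCompact (W.ι ⁻¹' (f ⁻¹' (U : Set B))) := TopologicalSpace.NoetherianSpace.isCompact _
    have h2 := h1.image W.ι.continuous
    rwa [Set.image_preimage_eq_range_inter, Scheme.Opens.range_ι] at h2
  have hDo : IsOpen (C ∩ f ⁻¹' (U : Set B)) := hCo.inter (U.2.preimage f.continuous)
  have hc : ∀ x : ↥(C ∩ f ⁻¹' (U : Set B)), ∃ V : A.Opens, IsAffineOpen V ∧ (x : A) ∈ V ∧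
      (V : Set A) ⊆ C ∩ f ⁻¹' (U : Set B) := fun x => by
    obtain ⟨V, hV, hxV, hVD⟩ := exists_isAffineOpen_mem_and_subset (U := ⟨_, hDo⟩) x.2
    exact ⟨V, hV, hxV, hVD⟩
  choose V hV hxV hVD using hc
  obtain ⟨t, ht⟩ := hDc.elim_finite_subcover (fun x => (V x : Set A)) (fun x => (V x).2)
    (fun x hx => Set.mem_iUnion.2 ⟨⟨x, hx⟩, hxV ⟨x, hx⟩⟩)
  have h' : ξ ∈ closure (f '' (C ∩ f ⁻¹' (U : Set B))) := by
    rw [Set.image_inter_preimage, Set.inter_comm]
    exact U.2.inter_closure ⟨hξU, h⟩
  have h'' : ξ ∈ ⋃ x ∈ t, closure (f '' (V x : Set A)) := by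
    rw [← Finset.closure_biUnion]
    exact closure_mono ((Set.image_mono ht).trans (Set.image_iUnion₂ _ _).subset) h'
  obtain ⟨x, -, hx⟩ := Set.mem_iUnion₂.1 h''
  have e : V x ≤ f ⁻¹ᵁ U := fun a ha => (hVD x ha).2
  let φ := f.appLE U (V x) e
  obtain ⟨P, hP⟩ : ξ ∈ Set.range hU.fromSpec := by rw [hU.range_fromSpec]; exact hξU
  have himg : f '' (V x : Set A) = hU.fromSpec '' Set.range (Spec.map φ) := by
    rw [← (hV x).range_fromSpec, ← Set.range_comp, ← Set.range_comp]
    exact congrArg Set.range (funext fun z => by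
      show f ((hV x).fromSpec z) = hU.fromSpec (Spec.map φ z)
      rw [← Scheme.Hom.comp_apply, ← Scheme.Hom.comp_apply, IsAffineOpen.SpecMap_appLE_fromSpec f hU (hV x) e])
  haveI := IsAffineOpen.isOpenImmersion_fromSpec hU
  have hemb := Scheme.Hom.isOpenEmbedding hU.fromSpec
  have hx' : hU.fromSpec P ∈ closure (f '' (V x : Set A)) := by rw [hP]; exact hx
  rw [himg, ← Set.mem_preimage, hemb.isOpenMap.preimage_closure_eq_closure_preimage hU.fromSpec.continuous,
    hemb.injective.preimage_image] at hx'
  let P₁ : PrimeSpectrum Γ(B, U) := P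
  have hPcl : P₁ ∈ closure (Set.range (PrimeSpectrum.comap φ.hom)) := hx'
  rw [PrimeSpectrum.closure_range_comap, PrimeSpectrum.mem_zeroLocus] at hPcl
  have hmin : P₁.asIdeal ∈ (Ideal.comap φ.hom ⊥).minimalPrimes := by
    refine ⟨⟨P₁.isPrime, hPcl⟩, fun Q hQ hle => ?_⟩
    let Q' : PrimeSpectrum Γ(B, U) := ⟨Q, hQ.1⟩
    have hs : Q' ⤳ P := (PrimeSpectrum.le_iff_specializes Q' P).1 hle
    have h2 : hU.fromSpec Q' = ξ := hξ _ (hP ▸ hs.map hU.fromSpec.continuous)
    have h3 : Q' = P := (Scheme.Hom.isOpenEmbedding hU.fromSpec).injective (h2.trans hP.symm)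
    exact (congrArg PrimeSpectrum.asIdeal h3).ge
  obtain ⟨P', hP', -, hcomap⟩ := Ideal.exists_comap_eq_of_mem_minimalPrimes φ.hom P₁.asIdeal hmin
  have hmem : hU.fromSpec P ∈ f '' (V x : Set A) := by
    rw [himg]
    exact ⟨P, ⟨⟨P', hP'⟩, PrimeSpectrum.ext hcomap⟩, rfl⟩
  rw [hP] at hmem
  exact Set.image_mono (fun a ha => (hVD x ha).1) hmem

/-- The fibre of the quotient map at the neutral point is the subgroup. -/
theorem isPullback_unit {k : Type u} [Field k] {G' G Y : Over (Spec (CommRingCat.of k))} [GrpObj G'] [GrpObj G]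
    (b : G' ⟶ G) (q : G ⟶ Y) (hq : IsPullback ((b ▷ G) ≫ μ[G]) (snd G' G) q q) :
    IsPullback b (toUnit G') q (η[G] ≫ q) := by
  have h1 : IsPullback (lift (𝟙 G') (toUnit G' ≫ η[G])) (toUnit G') (snd G' G) η[G] :=
    IsPullback.mk' (lift_snd _ _) (fun T φ φ' h _ => by
      simpa only [Category.assoc, lift_fst, Category.comp_id] using congrArg (· ≫ fst G' G) h)
      (fun {T} x y h => ⟨x ≫ fst G' G, by
        refine ⟨?_, Subsingleton.elim _ _⟩
        refine CartesianMonoidalCategory.hom_ext _ _ ?_ ?_
        · rw [Category.assoc, lift_fst, Category.comp_id]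
        · rw [Category.assoc, lift_snd, ← Category.assoc, show (x ≫ fst G' G) ≫ toUnit G' = y from
            Subsingleton.elim _ _, h]⟩)
  have h2 := h1.paste_horiz hq
  have h3 : lift (𝟙 G') (toUnit G' ≫ η[G]) ≫ (b ▷ G) ≫ μ[G] = b := by
    rw [← Category.assoc, lift_whiskerRight, Category.id_comp, ← Hom.mul_def, ← Hom.one_def, _root_.mul_one]
  rwa [h3] at h2


/-- Let k be a perfect field and u : F → G a homomorphism of k-group schemes locally of finite type over
k. Let a : F' → F and b : G' → G be homomorphisms which are closed immersions, surjective on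
underlying spaces, with F' and G' reduced (the subgroups F_red and G_red), let p : F → X and q : G →
Y be k-morphisms which are flat, surjective and locally of finite presentation and make the squares
formed by (f', f) ↦ a(f') · f, the second projection, p, p (and likewise for b, q) cartesian (the
quotients of F and G by the left actions of F_red and G_red), and let v : X → Y satisfy p v = u q.
Then u is flat if and only if (ii) holds: the neutral component of G (the connected component of the
unit point) is contained in the closure of the image under u of the neutral component of F, and v is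
flat. -/
theorem result (k : Type u) [Field k] [PerfectField k]
    (F G F' G' : Over (Spec (CommRingCat.of k))) [GrpObj F] [GrpObj G] [GrpObj F'] [GrpObj G']
    [LocallyOfFiniteType F.hom] [LocallyOfFiniteType G.hom] (u : F ⟶ G) [IsMonHom u]
    [IsReduced F'.left] (a : F' ⟶ F) [IsMonHom a] [IsClosedImmersion a.left] [Surjective a.left]
    [IsReduced G'.left] (b : G' ⟶ G) [IsMonHom b] [IsClosedImmersion b.left] [Surjective b.left]
    (X Y : Over (Spec (CommRingCat.of k))) (p : F ⟶ X) [Flat p.left] [Surjective p.left] [LocallyOfFinitePresentation p.left]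
    (hp : IsPullback ((a ▷ F) ≫ μ[F]) (snd F' F) p p)
    (q : G ⟶ Y) [Flat q.left] [Surjective q.left] [LocallyOfFinitePresentation q.left]
    (hq : IsPullback ((b ▷ G) ≫ μ[G]) (snd G' G) q q)
    (v : X ⟶ Y) (hv : p ≫ v = u ≫ q) :
    Flat u.left ↔
      ((∀ p₀ : (𝟙_ (Over (Spec (CommRingCat.of k)))).left, connectedComponent ((η[G] : (𝟙_ (Over (Spec (CommRingCat.of k)))) ⟶ G).left.base p₀) ⊆
          closure (u.left.base '' connectedComponent ((η[F] : (𝟙_ (Over (Spec (CommRingCat.of k)))) ⟶ F).left.base p₀))) ∧
        Flat v.left) := by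
  obtain ⟨-, ⟨xX, hxX, -⟩, -⟩ := Groth.Agent.S6084.result k F' F a X p hp
  obtain ⟨-, ⟨xY, hxY, hresY⟩, -⟩ := Groth.Agent.S6084.result k G' G b Y q hq
  haveI : Subsingleton Y.left := ⟨fun c d => (hxY ▸ Set.mem_univ c : c ∈ ({xY} : Set Y.left)).trans
    (hxY ▸ Set.mem_univ d : d ∈ ({xY} : Set Y.left)).symm⟩
  haveI : IsLocallyNoetherian F.left := LocallyOfFiniteType.isLocallyNoetherian F.hom
  haveI : IsLocallyNoetherian G.left := LocallyOfFiniteType.isLocallyNoetherian G.hom
  constructor
  · intro hu
    refine ⟨fun p₀ => ?_, ?_⟩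
    · obtain rfl : p₀ = IsLocalRing.closedPoint k := Subsingleton.elim (α := PrimeSpectrum k) _ _
      exact ((Groth.Agent.S5328.image_component u).ge.trans subset_closure)
    · have h1 : Flat (p.left ≫ v.left) := by
        rw [← Over.comp_left, hv, Over.comp_left]
        exact MorphismProperty.comp_mem @Flat _ _ hu inferInstance
      exact Groth.Agent.Thick.FlatCancel.flat_of_comp p.left v.left
  · rintro ⟨hdom, hvflat⟩
    haveI : LocallyOfFiniteType (p.left ≫ X.hom) := by rw [Over.w p]; infer_instance
    haveI : LocallyOfFiniteType X.hom :=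
      Groth.Agent.GrpdLib.FppfSourceDescent.locallyOfFiniteType_of_comp_fppf p.left X.hom
    haveI : LocallyOfFiniteType (q.left ≫ Y.hom) := by rw [Over.w q]; infer_instance
    haveI : LocallyOfFiniteType Y.hom :=
      Groth.Agent.GrpdLib.FppfSourceDescent.locallyOfFiniteType_of_comp_fppf q.left Y.hom
    haveI : IsLocallyNoetherian Y.left := LocallyOfFiniteType.isLocallyNoetherian Y.hom
    haveI : LocallyOfFiniteType (v.left ≫ Y.hom) := by rw [Over.w v]; infer_instance
    haveI : LocallyOfFiniteType v.left := locallyOfFiniteType_of_comp v.left Y.hom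
    haveI : LocallyOfFinitePresentation v.left := inferInstance
    have hcomp : u.left ≫ q.left = p.left ≫ v.left := by rw [← Over.comp_left, ← hv, Over.comp_left]
    haveI : LocallyOfFinitePresentation (u.left ≫ q.left) := by rw [hcomp]; infer_instance
    haveI : Flat (u.left ≫ q.left) := by
      rw [hcomp]
      exact MorphismProperty.comp_mem @Flat _ _ inferInstance hvflat
    obtain ⟨ξ, hξ⟩ := QuasiSober.sober (isIrreducible_irreducibleComponent (x := IdComponent.e₀ G))
      isClosed_irreducibleComponent
    have hmax : Component.IsMaxGen ξ := Component.isMaxGen_iff.mpr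
      (hξ.def.symm ▸ irreducibleComponent_mem_irreducibleComponents _)
    have hcl : ξ ∈ closure (u.left '' connectedComponent (IdComponent.e₀ F)) :=
      hdom (IsLocalRing.closedPoint k) ((FieldComp.connectedComponent_eq G (IdComponent.e₀ G)).1.symm ▸ hξ.mem)
    obtain ⟨z, -, hz⟩ := mem_image_of_mem_closure u.left
      ((FieldComp.connectedComponent_eq F _).1.symm ▸ (FieldComp.connectedComponent_eq F (IdComponent.e₀ F)).2)
      (FieldComp.isCompact_connectedComponent F _) hmax hcl
    subst hz
    let y := q.left (u.left z)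
    haveI hred : IsReduced (q.left.fiber y) := by
      obtain rfl : xY = y := Subsingleton.elim _ _
      haveI := hresY
      have hsq : IsPullback b.left G'.hom q.left (η[G] ≫ q).left := by
        have h := (isPullback_unit b q hq).map (Over.forget _)
        exact h
      let s : Spec (CommRingCat.of k) ⟶ Y.left := (η[G] ≫ q).left
      obtain ⟨f, hf⟩ : ∃ f : Spec (CommRingCat.of k) ⟶ Spec (Y.left.residueField y),
          IsIso f ∧ f ≫ Y.left.fromSpecResidueField y = s := by
        have hpt : s (IsLocalRing.closedPoint k) = y := Subsingleton.elim _ _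
        have hs : s ≫ Y.hom = 𝟙 _ := Over.w (η[G] ≫ q)
        let r : Spec (Y.left.residueField y) ⟶ Spec (CommRingCat.of k) := Y.left.fromSpecResidueField y ≫ Y.hom
        haveI : IsIso r := by
          show IsIso (Y.left.fromSpecResidueField y ≫ Y.hom)
          rw [← Scheme.Hom.SpecMap_residueFieldMap_fromSpecResidueField]
          haveI : Subsingleton ↥(Spec (CommRingCat.of k)) := inferInstanceAs (Subsingleton (PrimeSpectrum k))
          haveI : IsClosedImmersion ((Spec (CommRingCat.of k)).fromSpecResidueField (Y.hom y)) :=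
            isClosed_singleton_iff_isClosedImmersion.mp (isClosed_discrete _)
          haveI : Surjective ((Spec (CommRingCat.of k)).fromSpecResidueField (Y.hom y)) :=
            ⟨fun w => ⟨IsLocalRing.closedPoint _, Subsingleton.elim _ _⟩⟩
          haveI : IsIso ((Spec (CommRingCat.of k)).fromSpecResidueField (Y.hom y)) :=
            isIso_of_isClosedImmersion_of_surjective _
          infer_instance
        refine ⟨inv r, inferInstance, ?_⟩
        obtain ⟨f, hf⟩ : ∃ f : Spec (CommRingCat.of k) ⟶ Spec (Y.left.residueField y),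
            f ≫ Y.left.fromSpecResidueField y = s := by
          obtain ⟨⟨y', g⟩, hg⟩ := (Scheme.SpecToEquivOfField k Y.left).symm.surjective s
          obtain rfl : y' = y := Subsingleton.elim _ _
          exact ⟨Spec.map g, hg⟩
        rw [show inv r = f from IsIso.inv_eq_of_inv_hom_id (by
          show f ≫ Y.left.fromSpecResidueField y ≫ Y.hom = 𝟙 _
          rw [← Category.assoc, hf, hs])]
        exact hf
      haveI := hf.1
      let e : G'.left ⟶ q.left.fiber y := pullback.lift b.left (G'.hom ≫ f) (by
        rw [Category.assoc, hf.2, hsq.w])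
      haveI : IsIso e := by
        have h2 : IsPullback b.left (G'.hom ≫ f) q.left (Y.left.fromSpecResidueField y) :=
          IsPullback.of_iso hsq (Iso.refl _) (Iso.refl _) (asIso f) (Iso.refl _) (by simp) (by simp) (by simp)
            (by simp [hf.2, s])
        have : e = h2.isoPullback.hom := pullback.hom_ext (by erw [pullback.lift_fst]) (by erw [pullback.lift_snd])
        rw [this]; exact h2.isoPullback.isIso_hom
      exact isReduced_of_isOpenImmersion (inv e)
    let x' := (u.left ≫ q.left).asFiber z
    have hx' : (u.left ≫ q.left).fiberι y x' = z := (u.left ≫ q.left).fiberι_asFiber z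
    have himg : q.left.fiberι y (MoreMor.fiberMap u.left q.left y x') = u.left z := by
      show (MoreMor.fiberMap u.left q.left y ≫ q.left.fiberι y) x' = _
      have e1 : MoreMor.fiberMap u.left q.left y ≫ q.left.fiberι y = (u.left ≫ q.left).fiberι y ≫ u.left :=
        pullback.lift_fst _ _ _
      rw [e1]
      exact congrArg u.left hx'
    have hmax' : Component.IsMaxGen (MoreMor.fiberMap u.left q.left y x') := fun w hw => by
      refine (q.left.fiberι y).isEmbedding.injective ((hmax _ ?_).trans himg.symm)
      rw [← himg]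
      exact hw.map (q.left.fiberι y).continuous
    have hfl : flatAt (MoreMor.fiberMap u.left q.left y) x' := by
      letI := (HomFlat.isField_stalk hmax').toField
      letI := ((MoreMor.fiberMap u.left q.left y).stalkMap x').hom.toAlgebra
      show Module.Flat ((q.left.fiber y).presheaf.stalk _) _
      infer_instance
    exact HomFlat.flat_of_flat_stalkMap u
      (FibreCrit.flatAt_of_fibre u.left q.left z (Flat.stalkMap _ _) x' hx' hfl)

end Groth.Agent.S6089
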