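import Groth.Statements.S6074
import Groth.Agent.S6077
import Groth.Agent.S6089
import Groth.Agent.Solv19.Locus
import Groth.Agent.VarDim.Scheme

set_option autoImplicit false
set_option linter.style.haveILetI false
set_option maxHeartbeats 800000
universe u
open CategoryTheory CategoryTheory.Limits MonoidalCategory CartesianMonoidalCategory MonObj GrpObj AlgebraicGeometry
open SGA3

namespace Groth.Agent.S6074

noncomputable section

open Groth.Agent.GrpScheme Groth.Agent.Borel50.Pts Groth.Agent.GrpGen19 Groth.Agent.S6077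

section AlgClosed

variable {k : Type u} [Field k] {G X : Over (Spec (CommRingCat.of k))} [GrpObj G] (f : X ⟶ G)

theorem connectedSpace_word [ConnectedSpace X.left] (x₀ : Pt X) : ∀ l, ConnectedSpace (word X l).left
  | [] => inferInstanceAs (ConnectedSpace ↥(Spec (CommRingCat.of k)))
  | b :: l => by
    haveI := connectedSpace_word x₀ l
    haveI := geometricallyConnected_of_point x₀
    haveI : GeometricallyConnected (snd X (word X l)).left :=
      inferInstanceAs (GeometricallyConnected (pullback.snd X.hom (word X l).hom))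
    haveI : UniversallyOpen (snd X (word X l)).left :=
      inferInstanceAs (UniversallyOpen (pullback.snd X.hom (word X l).hom))
    have := (snd X (word X l)).left.isConnected_preimage (snd X (word X l)).left.isOpenMap
      isConnected_univ isClosed_univ
    rw [Set.preimage_univ] at this
    exact connectedSpace_iff_univ.2 this

theorem quasiCompact_word [QuasiCompact X.hom] : ∀ l, QuasiCompact (word X l).hom
  | [] => inferInstanceAs (QuasiCompact (𝟙 (Spec (CommRingCat.of k))))
  | _ :: l =>
    haveI := quasiCompact_word l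
    inferInstanceAs (QuasiCompact (pullback.fst X.hom (word X l).hom ≫ X.hom))

theorem unit_point (x₀ : Pt X) (hx₀ : x₀ ≫ f = 1) : ∀ l, ∃ q : Pt (word X l), q ≫ wordMap f l = 1
  | [] => ⟨𝟙 _, Category.id_comp _⟩
  | b :: l => by
    obtain ⟨q, hq⟩ := unit_point x₀ hx₀ l
    refine ⟨lift x₀ q, ?_⟩
    show lift x₀ q ≫ ((fst X (word X l) ≫ letter f b) * (snd X (word X l) ≫ wordMap f l)) = 1
    rw [MonObj.comp_mul, lift_fst_assoc, lift_snd_assoc, hq, _root_.mul_one]
    cases b <;> simp [letter, GrpObj.comp_inv, hx₀]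

theorem word_mul {g g' : Pt G} (h : ∃ (l : List Bool) (q : Pt (word X l)), q ≫ wordMap f l = g)
    (h' : ∃ (l : List Bool) (q : Pt (word X l)), q ≫ wordMap f l = g') :
    ∃ (l : List Bool) (q : Pt (word X l)), q ≫ wordMap f l = g * g' := by
  obtain ⟨l, q, rfl⟩ := h
  obtain ⟨l', q', rfl⟩ := h'
  obtain ⟨σ, hσ⟩ := exists_append f l l'
  exact ⟨_, lift q q' ≫ σ, by rw [Category.assoc, hσ, MonObj.comp_mul, lift_fst_assoc, lift_snd_assoc]⟩

theorem word_inv {g : Pt G} (h : ∃ (l : List Bool) (q : Pt (word X l)), q ≫ wordMap f l = g) :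
    ∃ (l : List Bool) (q : Pt (word X l)), q ≫ wordMap f l = g⁻¹ := by
  obtain ⟨l, q, rfl⟩ := h
  obtain ⟨l', σ, hσ⟩ := exists_inv f l
  exact ⟨l', q ≫ σ, by rw [Category.assoc, hσ, GrpObj.comp_inv]⟩

/-- Right translation by a rational point. -/
def rho (g : Pt G) : G ⟶ G := 𝟙 G * (toUnit G ≫ g)

/-- Left translation by a rational point. -/
def lam' (g : Pt G) : G ⟶ G := (toUnit G ≫ g) * 𝟙 G

theorem comp_rho (g : Pt G) {T : Over (Spec (CommRingCat.of k))} (y : T ⟶ G) :
    y ≫ rho g = y * (toUnit T ≫ g) := by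
  rw [rho, MonObj.comp_mul, Category.comp_id, ← Category.assoc, comp_toUnit]

theorem comp_lam (g : Pt G) {T : Over (Spec (CommRingCat.of k))} (y : T ⟶ G) :
    y ≫ lam' g = (toUnit T ≫ g) * y := by
  rw [lam', MonObj.comp_mul, Category.comp_id, ← Category.assoc, comp_toUnit]

theorem pt_comp_rho (g y : Pt G) : (rho g).left (pt y) = pt (y * g) := by
  rw [← pt_comp, comp_rho, toUnit_unique (toUnit (𝟙_ _)) (𝟙 _), Category.id_comp]

theorem pt_comp_lam (g y : Pt G) : (lam' g).left (pt y) = pt (g * y) := by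
  rw [← pt_comp, comp_lam, toUnit_unique (toUnit (𝟙_ _)) (𝟙 _), Category.id_comp]

/-- Some product map is dominant on the generated set, over an algebraically closed field. -/
theorem exists_dense_word [IsAlgClosed k] [LocallyOfFiniteType G.hom] [LocallyOfFiniteType X.hom]
    [QuasiCompact X.hom] [ConnectedSpace X.left] (x₀ : Pt X) (hx₀ : x₀ ≫ f = 1) :
    ∃ l : List Bool, (genSet f : Set G.left) ⊆ closure (Set.range (wordMap f l).left) := by
  classical
  let _ : G.left.Over (Spec (CommRingCat.of k)) := ⟨G.hom⟩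
  haveI : LocallyOfFiniteType (G.left ↘ Spec (CommRingCat.of k)) := ‹LocallyOfFiniteType G.hom›
  haveI : IsSeparated G.hom := IdComponent.isSeparated G
  haveI : JacobsonSpace G.left := LocallyOfFiniteType.jacobsonSpace G.hom
  haveI := locallyOfFiniteType_word (X := X)
  have hS : ∀ l z, (wordMap f l).left z ∈ (genSet f : Set G.left) := fun l z =>
    subset_closure (Set.mem_iUnion.2 ⟨⟨l⟩, z, rfl⟩)
  have hx₀' : x₀ ≫ f = η[G] := by
    rw [hx₀, Hom.one_def, toUnit_unique (toUnit (𝟙_ _)) (𝟙 _), Category.id_comp]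
  have hbound : ∀ x ∈ (genSet f : Set G.left), ∃ ξ : G.left, ξ ⤳ x ∧
      closure {ξ} = irreducibleComponent (IdComponent.e₀ G) := by
    intro x hx
    obtain ⟨ξ, hξ⟩ := QuasiSober.sober (isIrreducible_irreducibleComponent (x := IdComponent.e₀ G))
      isClosed_irreducibleComponent
    refine ⟨ξ, hξ.specializes ?_, hξ.def⟩
    rw [← IdComponent.connectedComponent_eq G]
    refine (connected_genSet f x₀ hx₀').isPreconnected.subset_connectedComponent (x := IdComponent.e₀ G) ?_ hx
    exact subset_closure (Set.mem_iUnion.2 ⟨⟨[]⟩, IsLocalRing.closedPoint k, by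
      show ((1 : 𝟙_ _ ⟶ G)).left _ = _
      rw [Hom.one_def, toUnit_unique (toUnit (𝟙_ _)) (𝟙 _), Category.id_comp]⟩)
  obtain ⟨N, hN⟩ : ∃ N, ∀ x ∈ (genSet f : Set G.left), VarDim.dimPt k G.left x ≤ N := by
    obtain ⟨ξ, hξ⟩ := QuasiSober.sober (isIrreducible_irreducibleComponent (x := IdComponent.e₀ G))
      isClosed_irreducibleComponent
    refine ⟨VarDim.dimPt k G.left ξ, fun x hx => ?_⟩
    obtain ⟨ξ', hs, hcl⟩ := hbound x hx
    obtain rfl : ξ' = ξ := (isGenericPoint_def.2 hcl).eq hξ
    exact (VarDim.exists_ltSeries_of_le k (hs : x ≤ ξ')).1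
  let Sset : Set G.left := ⋃ l : List Bool, Set.range (wordMap f l).left
  have hSne : ((fun x => VarDim.dimPt k G.left x) '' Sset).Nonempty :=
    ⟨_, (wordMap f []).left (IsLocalRing.closedPoint k), Set.mem_iUnion.2 ⟨[], _, rfl⟩, rfl⟩
  obtain ⟨_, ⟨η₀, hη₀, rfl⟩, hmaxd⟩ : ∃ m ∈ (fun x => VarDim.dimPt k G.left x) '' Sset,
      ∀ m' ∈ (fun x => VarDim.dimPt k G.left x) '' Sset, m' ≤ m := by
    refine Set.exists_max_image _ id ((Set.finite_Iic N).subset ?_) hSne
    rintro _ ⟨x, hx, rfl⟩
    obtain ⟨l, z, rfl⟩ := Set.mem_iUnion.1 hx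
    exact hN _ (hS l z)
  have hmax : ∀ z ∈ Sset, z ⤳ η₀ → z = η₀ := fun z hz hs => by
    by_contra hne
    have h1 := VarDim.dimPt_lt_of_lt k
      (lt_iff_le_not_ge.mpr ⟨(hs : η₀ ≤ z), fun h => hne (Specializes.antisymm hs h).eq⟩)
    have h2 := hmaxd _ ⟨z, hz, rfl⟩
    beta_reduce at h2
    omega
  obtain ⟨l₀, p₀, hp₀⟩ := Set.mem_iUnion.1 hη₀
  let Wd : Pt G → Prop := fun g => ∃ (l : List Bool) (q : Pt (word X l)), q ≫ wordMap f l = g
  -- translations by words preserve the union of the images
  have hrho : ∀ g, Wd g → ∀ z ∈ Sset, (rho g).left z ∈ Sset := by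
    rintro g ⟨l', q, rfl⟩ z hz
    obtain ⟨l, p, rfl⟩ := Set.mem_iUnion.1 hz
    obtain ⟨σ, hσ⟩ := exists_append f l l'
    refine Set.mem_iUnion.2 ⟨l ++ l', (lift (𝟙 _) (toUnit _ ≫ q) ≫ σ).left p, ?_⟩
    rw [← Points.comp_apply, ← Points.comp_apply, Category.assoc, hσ, comp_rho, MonObj.comp_mul,
      lift_fst_assoc, lift_snd_assoc, Category.id_comp, Category.assoc]
  have hinvrho : ∀ g : Pt G, rho g ≫ rho g⁻¹ = 𝟙 G := fun g => by
    rw [comp_rho, rho, GrpObj.comp_inv, mul_inv_cancel_right]
  have hmaxrho : ∀ g, Wd g → ∀ z ∈ Sset, z ⤳ (rho g).left η₀ → z = (rho g).left η₀ := by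
    intro g hg z hz hs
    have h1 : (rho g⁻¹).left z = η₀ := hmax _ (hrho _ (word_inv f hg) z hz) (by
      have := hs.map (rho g⁻¹).left.continuous
      rwa [← Points.comp_apply (rho g), hinvrho] at this)
    rw [← h1, ← Points.comp_apply]
    have h2 := hinvrho g⁻¹
    rw [_root_.inv_inv] at h2
    rw [h2]
    rfl
  -- the translates of `η₀` by words all equal `η₀`
  have hfix : ∀ g, Wd g → (rho g).left η₀ = η₀ := by
    rintro g ⟨l, q, rfl⟩
    obtain ⟨σ, hσ⟩ := exists_append f l₀ l
    haveI := quasiCompact_word (X := X)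
    haveI : IsLocallyNoetherian (word X (l₀ ++ l)).left :=
      LocallyOfFiniteType.isLocallyNoetherian (word X (l₀ ++ l)).hom
    haveI : CompactSpace (word X (l₀ ++ l)).left :=
      QuasiCompact.compactSpace_of_compactSpace (word X (l₀ ++ l)).hom
    haveI : IsNoetherian (word X (l₀ ++ l)).left := {}
    haveI : Finite (irreducibleComponents (word X (l₀ ++ l)).left) :=
      TopologicalSpace.NoetherianSpace.finite_irreducibleComponents.to_subtype
    choose gp hgp using fun Z : irreducibleComponents (word X (l₀ ++ l)).left =>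
      QuasiSober.sober Z.2.1 (isClosed_of_mem_irreducibleComponents _ Z.2)
    let cand : Set G.left := Set.range fun Z => (wordMap f (l₀ ++ l)).left (gp Z)
    have hcand : ∀ q' : Pt (word X l), (rho (q' ≫ wordMap f l)).left η₀ ∈ cand := fun q' => by
      let z := (lift (𝟙 _) (toUnit _ ≫ q') ≫ σ).left p₀
      have hz : (wordMap f (l₀ ++ l)).left z = (rho (q' ≫ wordMap f l)).left η₀ := by
        rw [← hp₀, ← Points.comp_apply, ← Points.comp_apply, Category.assoc, hσ, comp_rho, MonObj.comp_mul,
          lift_fst_assoc, lift_snd_assoc, Category.id_comp, Category.assoc]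
      refine ⟨⟨_, irreducibleComponent_mem_irreducibleComponents z⟩, ?_⟩
      refine hmaxrho _ ⟨l, q', rfl⟩ _ (Set.mem_iUnion.2 ⟨_, _, rfl⟩) ?_
      rw [← hz]
      exact ((hgp ⟨_, irreducibleComponent_mem_irreducibleComponents z⟩).specializes
        mem_irreducibleComponent).map (wordMap f (l₀ ++ l)).left.continuous
    let B : G.left → Set (word X l).left := fun c =>
      ⋂ y ∈ {y : Pt G | pt y ∈ closure {η₀}}, (wordMap f l ≫ lam' y).left ⁻¹' closure {c}
    have hBcl : ∀ c, IsClosed (B c) := fun c =>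
      isClosed_biInter fun y _ => isClosed_closure.preimage (wordMap f l ≫ lam' y).left.continuous
    have hBiff : ∀ c ∈ cand, ∀ q' : Pt (word X l), pt q' ∈ B c ↔ c = (rho (q' ≫ wordMap f l)).left η₀ := by
      intro c hc q'
      have hpt : ∀ y : Pt G, (wordMap f l ≫ lam' y).left (pt q') =
          (rho (q' ≫ wordMap f l)).left (pt y) := fun y => by
        rw [Points.comp_apply, ← pt_comp q' (wordMap f l), pt_comp_lam, pt_comp_rho]
      constructor
      · intro hq
        have hsub : closure {η₀} ⊆ (rho (q' ≫ wordMap f l)).left ⁻¹' closure {c} := by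
          rw [← closure_inter_closedPoints isClosed_closure]
          refine closure_minimal ?_ (isClosed_closure.preimage (rho (q' ≫ wordMap f l)).left.continuous)
          rintro z ⟨hz1, hz2⟩
          obtain ⟨y, rfl⟩ := exists_pt hz2
          show (rho (q' ≫ wordMap f l)).left (pt y) ∈ closure {c}
          rw [← hpt]
          exact Set.mem_iInter₂.1 hq y hz1
        obtain ⟨Z, rfl⟩ := hc
        exact hmaxrho _ ⟨l, q', rfl⟩ _ (Set.mem_iUnion.2 ⟨_, _, rfl⟩)
          (specializes_iff_mem_closure.2 (hsub (subset_closure rfl)))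
      · rintro rfl
        refine Set.mem_iInter₂.2 fun y hy => ?_
        rw [Set.mem_preimage, hpt]
        exact map_mem_closure (rho (q' ≫ wordMap f l)).left.continuous hy (by simp [Set.MapsTo])
    haveI : JacobsonSpace (word X l).left := LocallyOfFiniteType.jacobsonSpace (word X l).hom
    haveI := connectedSpace_word x₀ l
    obtain ⟨q₁, hq₁⟩ := unit_point f x₀ hx₀ l
    have hη : (rho (q₁ ≫ wordMap f l)).left η₀ = η₀ := by
      rw [hq₁, rho, MonObj.comp_one, _root_.mul_one]
      rfl
    have hη₀c : η₀ ∈ cand := hη ▸ hcand q₁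
    have hcover : ∀ z : (word X l).left, z ∈ ⋃ c ∈ cand, B c := by
      have : (Set.univ : Set (word X l).left) ⊆ ⋃ c ∈ cand, B c := by
        rw [← closure_closedPoints]
        refine closure_minimal (fun z hz => ?_) ((Set.finite_range _).isClosed_biUnion fun c _ => hBcl c)
        obtain ⟨q', rfl⟩ := exists_pt hz
        exact Set.mem_iUnion₂.2 ⟨_, hcand q', (hBiff _ (hcand q') q').2 rfl⟩
      exact fun z => this trivial
    have hclopen : IsClopen (B η₀) := by
      refine ⟨hBcl _, ?_⟩
      have : B η₀ = (⋃ c ∈ cand \ {η₀}, B c)ᶜ := by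
        ext z
        constructor
        · intro hz hz'
          obtain ⟨c, ⟨hc, hne⟩, hzc⟩ := Set.mem_iUnion₂.1 hz'
          obtain ⟨w, ⟨hw1, hw2⟩, hw⟩ := nonempty_inter_closedPoints (Z := B η₀ ∩ B c) ⟨z, hz, hzc⟩
            ((hBcl _).inter (hBcl _)).isLocallyClosed
          obtain ⟨q', rfl⟩ := exists_pt hw
          exact hne (((hBiff c hc q').1 hw2).trans ((hBiff η₀ hη₀c q').1 hw1).symm)
        · intro hz
          obtain ⟨c, hc, hzc⟩ := Set.mem_iUnion₂.1 (hcover z)
          by_contra hne
          exact hz (Set.mem_iUnion₂.2 ⟨c, ⟨hc, fun h => hne (by rw [← (h : c = η₀)]; exact hzc)⟩, hzc⟩)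
      rw [this]
      exact (((Set.finite_range _).subset Set.sdiff_subset).isClosed_biUnion fun c _ => hBcl c).isOpen_compl
    have huniv := hclopen.eq_univ ⟨pt q₁, (hBiff η₀ hη₀c q₁).2 hη.symm⟩
    exact ((hBiff η₀ hη₀c q).1 (huniv ▸ Set.mem_univ _)).symm
  refine ⟨l₀, ?_⟩
  haveI : JacobsonSpace (word X l₀).left := LocallyOfFiniteType.jacobsonSpace (word X l₀).hom
  obtain ⟨z₀, hz₀, hz₀c⟩ := nonempty_inter_closedPoints (Z := closure {p₀}) ⟨p₀, subset_closure rfl⟩
    isClosed_closure.isLocallyClosed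
  obtain ⟨q₀, rfl⟩ := exists_pt hz₀c
  have hy₀ : pt (q₀ ≫ wordMap f l₀) ∈ closure {η₀} := by
    rw [pt_comp, ← hp₀]
    exact map_mem_closure (wordMap f l₀).left.continuous hz₀ (by simp [Set.MapsTo])
  have hsub : (genSet f : Set G.left) ⊆ closure {η₀} := by
    refine closure_minimal (Set.iUnion_subset fun l => ?_) isClosed_closure
    haveI : JacobsonSpace (word X l.down).left := LocallyOfFiniteType.jacobsonSpace (word X l.down).hom
    rw [← Set.image_univ, ← closure_closedPoints]
    refine (image_closure_subset_closure_image (wordMap f l.down).left.continuous).trans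
      (closure_minimal ?_ isClosed_closure)
    rintro _ ⟨z, hz, rfl⟩
    obtain ⟨q, rfl⟩ := exists_pt hz
    rw [← pt_comp]
    let g := (q₀ ≫ wordMap f l₀)⁻¹ * (q ≫ wordMap f l.down)
    have hg : Wd g := word_mul f (word_inv f ⟨_, q₀, rfl⟩) ⟨_, q, rfl⟩
    have h1 := map_mem_closure (rho g).left.continuous hy₀ (t := {η₀}) (by simp [Set.MapsTo, hfix g hg])
    rw [pt_comp_rho, mul_inv_cancel_left] at h1
    exact h1
  exact hsub.trans (closure_mono (Set.singleton_subset_iff.2 ⟨p₀, hp₀⟩))

end AlgClosed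

section Cons

variable {k : Type u} [Field k] {G X : Over (Spec (CommRingCat.of k))} [GrpObj G] (f : X ⟶ G)

theorem cons_lift (b : Bool) (l : List Bool) {T : Over (Spec (CommRingCat.of k))} (a : T ⟶ X) (w : T ⟶ word X l) :
    lift a w ≫ wordMap f (b :: l) = (a ≫ letter f b) * (w ≫ wordMap f l) := by
  show lift a w ≫ ((fst X (word X l) ≫ letter f b) * (snd X (word X l) ≫ wordMap f l)) = _
  rw [MonObj.comp_mul, lift_fst_assoc, lift_snd_assoc]

theorem comp_cons (b : Bool) (l : List Bool) {T : Over (Spec (CommRingCat.of k))} (v : T ⟶ X ⊗ word X l) :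
    v ≫ wordMap f (b :: l) = ((v ≫ fst X (word X l)) ≫ letter f b) * ((v ≫ snd X (word X l)) ≫ wordMap f l) := by
  show v ≫ ((fst X (word X l) ≫ letter f b) * (snd X (word X l) ≫ wordMap f l)) = _
  rw [MonObj.comp_mul, Category.assoc, Category.assoc]

end Cons

section BaseChange

variable {k : Type u} [Field k] {K : Type u} [Field K] (s : Spec (CommRingCat.of K) ⟶ Spec (CommRingCat.of k))
variable {G X : Over (Spec (CommRingCat.of k))} [GrpObj G] (f : X ⟶ G)

/-- Transposition, multiplicative. -/
def tEquiv (T : Over (Spec (CommRingCat.of K))) : ((Over.map s).obj T ⟶ G) ≃* (T ⟶ Red.bc s G) :=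
  { (Over.mapPullbackAdj s).homEquiv _ _ with
    map_mul' := fun a b => by
      show (Over.mapPullbackAdj s).homEquiv _ _ (a * b) = _ * _
      simp only [Adjunction.homEquiv_unit, Functor.map_mul, MonObj.comp_mul, Equiv.toFun_as_coe] }

theorem tEquiv_fst (T : Over (Spec (CommRingCat.of K))) (a : (Over.map s).obj T ⟶ G) (t : T.left) :
    pullback.fst G.hom s ((tEquiv s T a).left t) = a.left t := by
  have h : (tEquiv s T a).left ≫ pullback.fst G.hom s = a.left := by
    conv_rhs => rw [← (((Over.mapPullbackAdj s).homEquiv T G).symm_apply_apply a)]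
    rw [Adjunction.homEquiv_counit]
    simp [tEquiv]
  rw [← h, Scheme.Hom.comp_apply]

theorem tEquiv_comp (T : Over (Spec (CommRingCat.of K))) (a : (Over.map s).obj T ⟶ X) :
    tEquiv s T (a ≫ f) = (Over.mapPullbackAdj s).homEquiv _ _ a ≫ (Over.pullback s).map f :=
  Adjunction.homEquiv_naturality_right _ _ _

theorem exists_up : ∀ (l : List Bool) (T : Over (Spec (CommRingCat.of K)))
    (v : (Over.map s).obj T ⟶ word X l),
    ∃ w : T ⟶ word (Red.bc s X) l, w ≫ wordMap ((Over.pullback s).map f) l = tEquiv s T (v ≫ wordMap f l)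
  | [], T, v => ⟨toUnit T,
      (MonObj.comp_one (toUnit T)).trans ((congrArg (tEquiv s T) (MonObj.comp_one v)).trans (map_one _)).symm⟩
  | b :: l, T, v => by
    obtain ⟨w, hw⟩ := exists_up l T (v ≫ snd X (word X l))
    refine ⟨lift ((Over.mapPullbackAdj s).homEquiv _ _ (v ≫ fst X (word X l))) w, ?_⟩
    refine (cons_lift ((Over.pullback s).map f) b l _ w).trans ((congrArg₂ (· * ·) ?_ hw).trans
      ((congrArg (tEquiv s T) (comp_cons f b l v)).trans (map_mul _ _ _)).symm)
    cases b
    · simp only [letter, Bool.false_eq_true, if_false, GrpObj.comp_inv, map_inv]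
      rw [tEquiv_comp]
      rfl
    · simp only [letter, if_true]
      rw [tEquiv_comp]
      rfl

theorem exists_down : ∀ (l : List Bool) (T : Over (Spec (CommRingCat.of K))) (w : T ⟶ word (Red.bc s X) l),
    ∃ v : (Over.map s).obj T ⟶ word X l, tEquiv s T (v ≫ wordMap f l) = w ≫ wordMap ((Over.pullback s).map f) l
  | [], T, w => ⟨toUnit _,
      ((congrArg (tEquiv s T) (MonObj.comp_one _)).trans (map_one _)).trans (MonObj.comp_one w).symm⟩
  | b :: l, T, w => by
    obtain ⟨v, hv⟩ := exists_down l T (w ≫ snd _ (word _ l))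
    refine ⟨lift (((Over.mapPullbackAdj s).homEquiv _ _).symm (w ≫ fst (Red.bc s X) (word _ l))) v, ?_⟩
    refine ((congrArg (tEquiv s T) (cons_lift f b l _ v)).trans ((map_mul _ _ _).trans
      (congrArg₂ (· * ·) ?_ hv))).trans (comp_cons ((Over.pullback s).map f) b l w).symm
    cases b
    · simp only [letter, Bool.false_eq_true, if_false, GrpObj.comp_inv, map_inv]
      rw [tEquiv_comp, Equiv.apply_symm_apply]
      rfl
    · simp only [letter, if_true]
      rw [tEquiv_comp, Equiv.apply_symm_apply]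
      rfl

theorem fst_range (l : List Bool) :
    pullback.fst G.hom s '' Set.range (wordMap ((Over.pullback s).map f) l).left ⊆ Set.range (wordMap f l).left := by
  rintro _ ⟨_, ⟨z, rfl⟩, rfl⟩
  obtain ⟨v, hv⟩ := exists_down s f l _ (𝟙 (word (Red.bc s X) l))
  rw [Category.id_comp] at hv
  refine ⟨v.left z, ?_⟩
  conv_rhs => rw [← hv, tEquiv_fst]
  exact (Points.comp_apply v _ z).symm

theorem range_subset_fst [Surjective s] (l : List Bool) :
    Set.range (wordMap f l).left ⊆ pullback.fst G.hom s '' Set.range (wordMap ((Over.pullback s).map f) l).left := by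
  rintro _ ⟨z, rfl⟩
  let T := Red.bc s (word X l)
  let v : (Over.map s).obj T ⟶ word X l := (Over.mapPullbackAdj s).counit.app (word X l)
  obtain ⟨w, hw⟩ := exists_up s f l T v
  obtain ⟨t, ht⟩ : ∃ t : T.left, v.left t = z := by
    haveI : Surjective (pullback.fst (word X l).hom s) := inferInstance
    obtain ⟨t, rfl⟩ := (pullback.fst (word X l).hom s).surjective z
    exact ⟨t, by simp [v]⟩
  refine ⟨_, ⟨w.left t, rfl⟩, ?_⟩
  rw [← Points.comp_apply, hw, tEquiv_fst, ← ht]
  exact Points.comp_apply v _ t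

end BaseChange


/-- Let k be a field, G a group scheme locally of finite type over k, X a k-scheme of finite type,
geometrically reduced and geometrically connected, and f : X → G a k-morphism whose image contains
the unit point of G. Let i : Γ → G be the smallest closed subgroup scheme of G through which f
factors. Then there is a natural number N such that the underlying set of Γ is the set of points of
G lying under a word of length N in f: a point g of G is in the image of i if and only if there are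
a k-scheme T, a point p of T, T-valued points x_1, …, x_N of X and signs such that the T-valued
point f(x_1)^{±1} ⋯ f(x_N)^{±1} of G maps p to g. (The set of points of G lying under words of
length exactly N is the image of the N-th iterated word morphism X^N → G built from f and its
inverse.) -/
theorem result (k : Type u) [Field k]
    (G X : Over (Spec (CommRingCat.of k))) [GrpObj G] [LocallyOfFiniteType G.hom]
    [LocallyOfFiniteType X.hom] [QuasiCompact X.hom] [GeometricallyReduced X.hom] [GeometricallyConnected X.hom]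
    (f : X ⟶ G) (he : ∃ x : X.left, f.left.base x ∈ Set.range (η[G] : 𝟙_ (Over (Spec (CommRingCat.of k))) ⟶ G).left.base)
    (Γ : Over (Spec (CommRingCat.of k))) [GrpObj Γ] (i : Γ ⟶ G) [IsMonHom i] [IsClosedImmersion i.left]
    (hf : ∃ f' : X ⟶ Γ, f' ≫ i = f)
    (hmin : ∀ (Γ' : Over (Spec (CommRingCat.of k))) (_ : GrpObj Γ') (i' : Γ' ⟶ G), IsMonHom i' → IsClosedImmersion i'.left →
        (∃ f'' : X ⟶ Γ', f'' ≫ i' = f) → ∃ j : Γ ⟶ Γ', j ≫ i' = i) :
    ∃ N : ℕ, Set.range i.left.base =
      {g : G.left | ∃ (T : Over (Spec (CommRingCat.of k))) (p : T.left) (x : Fin N → (T ⟶ X)) (ε : Fin N → Bool),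
        ((List.ofFn fun j : Fin N => if ε j then x j ≫ f else (x j ≫ f)⁻¹).prod : T ⟶ G).left.base p = g} := by
  classical
  haveI : IsSeparated G.hom := IdComponent.isSeparated G
  obtain ⟨f', hf'⟩ := hf
  -- a geometric point over the unit
  let bs : Spec (CommRingCat.of (AlgebraicClosure k)) ⟶ Spec (CommRingCat.of k) :=
    Spec.map (CommRingCat.ofHom (algebraMap k (AlgebraicClosure k)))
  haveI : Surjective bs := ⟨fun p => ⟨IsLocalRing.closedPoint _, Subsingleton.elim (α := PrimeSpectrum k) _ _⟩⟩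
  let GK := Red.bc bs G
  let XK := Red.bc bs X
  let fK : XK ⟶ GK := (Over.pullback bs).map f
  haveI : LocallyOfFiniteType GK.hom := inferInstanceAs (LocallyOfFiniteType (pullback.snd G.hom bs))
  haveI : LocallyOfFiniteType XK.hom := inferInstanceAs (LocallyOfFiniteType (pullback.snd X.hom bs))
  haveI : QuasiCompact XK.hom := inferInstanceAs (QuasiCompact (pullback.snd X.hom bs))
  haveI : ConnectedSpace XK.left :=
    GeometricallyConnected.geometrically_connectedSpace (f := X.hom) bs _ _
      (IsPullback.of_hasPullback X.hom bs)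
  obtain ⟨x₀, hx₀⟩ : ∃ x₀ : Pt XK, x₀ ≫ fK = 1 := by
    haveI : JacobsonSpace X.left := LocallyOfFiniteType.jacobsonSpace X.hom
    haveI := isClosedImmersion_pt (η[G] : Pt G)
    obtain ⟨x, hx⟩ := he
    obtain ⟨y, hy, hyc⟩ := nonempty_inter_closedPoints (Z := f.left ⁻¹' Set.range (η[G] : Pt G).left) ⟨x, hx⟩
      ((η[G] : Pt G).left.isClosedEmbedding.isClosed_range.preimage f.left.continuous).isLocallyClosed
    obtain ⟨p, rfl⟩ := Groth.Agent.Solv19.exists_geomPoint_mem' (X := X) hyc.isLocallyClosed (Set.mem_singleton _) bs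
      (Subsingleton.elim (α := PrimeSpectrum k) _ _)
    haveI : AlgebraicGeometry.IsReduced ((Over.map bs).obj (𝟙_ (Over (Spec (CommRingCat.of (AlgebraicClosure k)))))).left :=
      inferInstanceAs (AlgebraicGeometry.IsReduced (Spec (CommRingCat.of (AlgebraicClosure k))))
    haveI : Subsingleton ↥((Over.map bs).obj (𝟙_ (Over (Spec (CommRingCat.of (AlgebraicClosure k)))))).left :=
      inferInstanceAs (Subsingleton (PrimeSpectrum (AlgebraicClosure k)))
    obtain ⟨z, hz⟩ := RedSub.exists_lift_closed (η[G] : Pt G).left (p ≫ f).left (by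
      rintro _ ⟨t, rfl⟩
      rw [Points.comp_apply]
      have : t = IsLocalRing.closedPoint (AlgebraicClosure k) := Subsingleton.elim _ _
      rw [this]
      exact hy)
    have h1 : p ≫ f = 1 := by
      rw [Hom.one_def]
      refine Over.OverMorphism.ext (hz.symm.trans ?_)
      rw [Over.comp_left]
      congr 1
      have e : z ≫ (𝟙_ (Over (Spec (CommRingCat.of k)))).hom = _ :=
        (congrArg (z ≫ ·) (Over.w (η[G] : Pt G)).symm).trans ((reassoc_of% hz) G.hom)
      exact ((Category.comp_id z).symm.trans e).trans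
        ((Over.w _).trans ((Over.w (toUnit _)).symm.trans (Category.comp_id _)))
    exact ⟨(Over.mapPullbackAdj bs).homEquiv _ _ p, by rw [← tEquiv_comp bs f, h1, map_one]⟩
  obtain ⟨l₀, hl₀⟩ := exists_dense_word fK x₀ hx₀
  -- the generated subgroup
  obtain ⟨Γ₁, hΓ₁, i₁, hM₁, hci₁, hf₁, -, hr₁, -⟩ := exists_generated f
  obtain ⟨j, hj⟩ := hmin Γ₁ hΓ₁ i₁ hM₁ hci₁ hf₁
  have hgen : Set.range i.left ⊆ (genSet f : Set G.left) := by
    rintro _ ⟨z, rfl⟩
    rw [← hr₁, ← hj]
    exact ⟨j.left z, rfl⟩
  have hle : ∀ l, Set.range (wordMap f l).left ⊆ Set.range i.left := fun l => by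
    obtain ⟨w, hw⟩ := exists_factor_word f i f' hf' l
    rintro _ ⟨z, rfl⟩
    exact ⟨w.left z, by rw [← Points.comp_apply, hw]⟩
  have hgeq : Set.range i.left = (genSet f : Set G.left) :=
    hgen.antisymm (closure_minimal (Set.iUnion_subset fun l => hle l.down) i.left.isClosedEmbedding.isClosed_range)
  have hCK : (genSet f : Set G.left) = closure (pullback.fst G.hom bs '' (genSet fK : Set GK.left)) := by
    refine Set.Subset.antisymm ?_ ?_
    · refine closure_mono (Set.iUnion_subset fun l => (range_subset_fst bs f l.down).trans ?_)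
      exact Set.image_mono ((Set.subset_iUnion (fun l : ULift.{u} (List Bool) => Set.range (wordMap fK l.down).left) l).trans
        subset_closure)
    · refine closure_minimal ?_ (genSet f).2
      refine (image_closure_subset_closure_image (pullback.fst G.hom bs).continuous).trans (closure_mono ?_)
      rw [Set.image_iUnion]
      exact Set.iUnion_mono fun l => fst_range bs f l.down
  have hdense : Set.range i.left ⊆ closure (Set.range (wordMap f l₀).left) := by
    rw [hgeq, hCK]
    refine closure_minimal ((Set.image_mono hl₀).trans ?_) isClosed_closure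
    exact (image_closure_subset_closure_image (pullback.fst G.hom bs).continuous).trans
      (closure_mono (fst_range bs f l₀))
  have hconn : _root_.IsConnected (Set.range i.left) := by
    rw [hgeq, hCK]
    refine ((connected_genSet fK x₀ ?_).image _ (pullback.fst G.hom bs).continuous.continuousOn).closure
    rw [hx₀, Hom.one_def, toUnit_unique (toUnit (𝟙_ _)) (𝟙 _), Category.id_comp]
  haveI : ConnectedSpace Γ.left := by
    rw [connectedSpace_iff_univ]
    refine ⟨⟨IdComponent.e₀ Γ, trivial⟩, ?_⟩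
    rw [← i.left.isClosedEmbedding.isInducing.isPreconnected_image, Set.image_univ]
    exact hconn.isPreconnected
  haveI : LocallyOfFiniteType Γ.hom := by rw [← Over.w i]; infer_instance
  haveI : IrreducibleSpace Γ.left := by
    have h : irreducibleComponent (IdComponent.e₀ Γ) = Set.univ :=
      (IdComponent.connectedComponent_eq Γ).symm.trans (PreconnectedSpace.connectedComponent_eq_univ _)
    exact { toPreirreducibleSpace := ⟨(h ▸ isIrreducible_irreducibleComponent (x := IdComponent.e₀ Γ)).2⟩
            toNonempty := ⟨IdComponent.e₀ Γ⟩ }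
  haveI := Component.geometricallyIrreducible_of_irreducibleSpace Γ
  obtain ⟨ξ, hξ⟩ := QuasiSober.sober (IrreducibleSpace.isIrreducible_univ Γ.left) isClosed_univ
  have hξmax : Component.IsMaxGen ξ := fun w hw =>
    (Specializes.antisymm hw (hξ.specializes (Set.mem_univ w))).eq
  obtain ⟨v₀, hv₀⟩ := exists_factor_word f i f' hf' l₀
  have hvξ : ξ ∈ Set.range v₀.left := by
    haveI := locallyOfFiniteType_word (X := X) l₀
    haveI := quasiCompact_word (X := X) l₀
    haveI : IsLocallyNoetherian (word X l₀).left := LocallyOfFiniteType.isLocallyNoetherian (word X l₀).hom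
    haveI : CompactSpace (word X l₀).left := QuasiCompact.compactSpace_of_compactSpace (word X l₀).hom
    have h1 : ξ ∈ closure (v₀.left '' Set.univ) := by
      rw [Set.image_univ, i.left.isClosedEmbedding.isEmbedding.closure_eq_preimage_closure_image, Set.mem_preimage,
        ← Set.range_comp]
      have e : (i.left ∘ v₀.left) = (wordMap f l₀).left := by rw [← hv₀]; rfl
      rw [show Set.range (i.left ∘ v₀.left) = Set.range (wordMap f l₀).left from congrArg Set.range e]
      exact hdense ⟨ξ, rfl⟩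
    obtain ⟨z, -, hz⟩ := Groth.Agent.S6089.mem_image_of_mem_closure v₀.left isOpen_univ isCompact_univ hξmax h1
    exact ⟨z, hz⟩
  obtain ⟨σ, hσ⟩ := exists_append f l₀ l₀
  refine ⟨(l₀ ++ l₀).length, Set.Subset.antisymm ?_ ?_⟩
  · rintro _ ⟨gm, rfl⟩
    let T := Points.pointObj Γ gm
    let g : T ⟶ Γ := Points.pointHom Γ gm
    haveI : GeometricallyIrreducible (fst T Γ).left :=
      inferInstanceAs (GeometricallyIrreducible (pullback.fst T.hom Γ.hom))
    haveI : Subsingleton T.left := inferInstanceAs (Subsingleton (PrimeSpectrum (Γ.left.residueField gm)))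
    haveI : Nonempty T.left := inferInstanceAs (Nonempty ↥(Spec (Γ.left.residueField gm)))
    haveI : IrreducibleSpace T.left :=
      { toPreirreducibleSpace := ⟨fun u v _ _ ⟨a, _, ha⟩ ⟨b, _, hb⟩ =>
          ⟨a, trivial, ha, Subsingleton.elim b a ▸ hb⟩⟩, toNonempty := inferInstance }
    haveI : UniversallyOpen (fst T Γ).left := inferInstanceAs (UniversallyOpen (pullback.fst T.hom Γ.hom))
    haveI : IrreducibleSpace (T ⊗ Γ).left :=
      GeometricallyIrreducible.irreducibleSpace (fst T Γ).left (fst T Γ).left.isOpenMap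
    haveI : Surjective (snd T Γ).left := Points.snd_surjective_of_field T Γ
    obtain ⟨θ, hθ⟩ := QuasiSober.sober (IrreducibleSpace.isIrreducible_univ (T ⊗ Γ).left) isClosed_univ
    have hgen' : ∀ m : T ⊗ Γ ⟶ Γ, Surjective m.left → m.left θ = ξ := fun m hm => by
      obtain ⟨q, hq⟩ := m.left.surjective ξ
      refine hξmax _ ?_
      rw [← hq]
      exact (hθ.specializes (Set.mem_univ q)).map m.left.continuous
    let m₁ : T ⊗ Γ ⟶ Γ := (fst T Γ ≫ g) * (snd T Γ)⁻¹
    let d : T ⊗ Γ ⟶ T ⊗ Γ := lift (fst T Γ) m₁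
    let d' : T ⊗ Γ ⟶ T ⊗ Γ := lift (fst T Γ) ((snd T Γ)⁻¹ * (fst T Γ ≫ g))
    have hd : d' ≫ d = 𝟙 _ := by
      refine CartesianMonoidalCategory.hom_ext _ _ (by simp [d, d']) ?_
      simp only [d, d', m₁, Category.assoc, lift_snd, MonObj.comp_mul, GrpObj.comp_inv, lift_fst_assoc,
        Category.id_comp]
      simp
    have hm₁ : Surjective m₁.left := ⟨fun y => by
      obtain ⟨q, hq⟩ := (snd T Γ).left.surjective y
      refine ⟨d'.left q, ?_⟩
      rw [show m₁ = d ≫ snd T Γ from (lift_snd _ _).symm, ← Points.comp_apply, ← Category.assoc, hd,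
        Category.id_comp]
      exact hq⟩
    let pr : T ⊗ Γ ⟶ Γ ⊗ Γ := lift m₁ (snd T Γ)
    obtain ⟨z₁, hz₁⟩ := hvξ
    obtain ⟨q', hq'⟩ : ∃ q' : (word X l₀ ⊗ Γ).left, (v₀ ▷ Γ).left q' = pr.left θ := by
      obtain ⟨q', hq', -⟩ := Scheme.exists_preimage_of_isPullback
        ((Basic.isPullback_whiskerRight (R := Γ) v₀).map (Over.forget _)) (pr.left θ) z₁ (by
          show (fst Γ Γ).left (pr.left θ) = _
          rw [← Points.comp_apply, lift_fst, hgen' m₁ hm₁]
          exact hz₁.symm)
      exact ⟨q', hq'⟩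
    obtain ⟨r', hr'⟩ : ∃ r' : (word X l₀ ⊗ word X l₀).left, (word X l₀ ◁ v₀).left r' = q' := by
      obtain ⟨r', hr', -⟩ := Scheme.exists_preimage_of_isPullback
        ((Basic.isPullback_whiskerLeft (R := word X l₀) v₀).map (Over.forget _)) q' z₁ (by
          show (snd _ Γ).left q' = _
          have : (snd Γ Γ).left ((v₀ ▷ Γ).left q') = (snd (word X l₀) Γ).left q' := by
            rw [← Points.comp_apply, whiskerRight_snd]
          rw [← this, hq', ← Points.comp_apply, lift_snd, hgen' _ inferInstance]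
          exact hz₁.symm)
      exact ⟨r', hr'⟩
    obtain ⟨x, ε, he'⟩ := isW_word f (l₀ ++ l₀)
    refine ⟨_, σ.left r', x, ε, ?_⟩
    rw [he', ← Points.comp_apply, hσ]
    have e : (fst (word X l₀) (word X l₀) ≫ wordMap f l₀) * (snd _ _ ≫ wordMap f l₀) =
        ((word X l₀ ◁ v₀) ≫ (v₀ ▷ Γ)) ≫ (fst Γ Γ * snd Γ Γ) ≫ i := by
      rw [MonObj.mul_comp, MonObj.comp_mul, ← hv₀]
      simp
    rw [e, Points.comp_apply, Points.comp_apply, Points.comp_apply, hr', hq', ← Points.comp_apply pr,
      MonObj.comp_mul, lift_fst, lift_snd, inv_mul_cancel_right, Points.comp_apply, Points.pointHom_apply]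
  · rintro _ ⟨T, p, x, ε, rfl⟩
    obtain ⟨l, v, hv⟩ := exists_word_of_isW f (n := (l₀ ++ l₀).length)
      (g := (List.ofFn fun j : Fin (l₀ ++ l₀).length => if ε j then x j ≫ f else (x j ≫ f)⁻¹).prod) ⟨x, ε, rfl⟩
    refine hle l ⟨v.left p, ?_⟩
    rw [← hv]
    rfl

end

end Groth.Agent.S6074
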