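import Groth.Statements.S6073
import Groth.Agent.S6074
import Groth.Agent.GrpFin87.Baer
import Groth.Agent.GrpScheme.ClosedImage
import Groth.Agent.FBase.BC

set_option autoImplicit false
set_option linter.style.haveILetI false
set_option maxHeartbeats 800000
universe u
open CategoryTheory CategoryTheory.Limits MonoidalCategory CartesianMonoidalCategory MonObj GrpObj AlgebraicGeometry
open SGA3

namespace Groth.Agent.S6073

noncomputable section

open Groth.Agent.GrpScheme Groth.Agent.Borel50.Pts Groth.Agent.GrpGen19 Groth.Agent.S6077 Groth.Agent.S6074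
open scoped commutatorElement

section Core

variable {k : Type u} [Field k] {G X : Over (Spec (CommRingCat.of k))} [GrpObj G] (f : X ⟶ G)

theorem comp_word (hcomp : ∀ p : Pt X, ∃ p₁ : Pt X, p₁ ≫ f = 1 ∧ pt p₁ ∈ connectedComponent (pt p)) :
    ∀ (l : List Bool) (q : Pt (word X l)),
      ∃ q₁ : Pt (word X l), q₁ ≫ wordMap f l = 1 ∧ pt q₁ ∈ connectedComponent (pt q)
  | [], q => ⟨q, MonObj.comp_one q, mem_connectedComponent⟩
  | b :: l, q => by
    obtain ⟨p₁, hp₁, hp₁c⟩ := hcomp (q ≫ fst X (word X l))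
    obtain ⟨w₁, hw₁, hw₁c⟩ := comp_word hcomp l (q ≫ snd X (word X l))
    refine ⟨lift p₁ w₁, ?_, ?_⟩
    · refine (cons_lift f b l p₁ w₁).trans ?_
      rw [hw₁, _root_.mul_one]
      cases b <;> simp [letter, GrpObj.comp_inv, hp₁]
    · let m₁ : X ⟶ X ⊗ word X l := lift (𝟙 X) (toUnit X ≫ (q ≫ snd X (word X l)))
      let m₂ : word X l ⟶ X ⊗ word X l := lift (toUnit (word X l) ≫ p₁) (𝟙 (word X l))
      have em₁ : ∀ p : Pt X, p ≫ m₁ = lift p (q ≫ snd X (word X l)) := fun p => by
        rw [comp_lift, Category.comp_id, ← Category.assoc p, comp_toUnit,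
          toUnit_unique (toUnit (𝟙_ _)) (𝟙 _), Category.id_comp]
      have em₂ : ∀ w : Pt (word X l), w ≫ m₂ = lift p₁ w := fun w => by
        rw [comp_lift, Category.comp_id, ← Category.assoc w, comp_toUnit,
          toUnit_unique (toUnit (𝟙_ _)) (𝟙 _), Category.id_comp]
      have e₁ : pt (lift p₁ (q ≫ snd X (word X l))) ∈ connectedComponent (α := (X ⊗ word X l).left) (pt q) := by
        have := m₁.left.continuous.image_connectedComponent_subset (pt (q ≫ fst X (word X l))) ⟨_, hp₁c, rfl⟩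
        rw [← pt_comp, ← pt_comp, em₁, em₁, show lift (q ≫ fst X (word X l)) (q ≫ snd X (word X l)) = q from
          CartesianMonoidalCategory.hom_ext _ _ (lift_fst _ _) (lift_snd _ _)] at this
        exact this
      have e₂ := m₂.left.continuous.image_connectedComponent_subset (pt (q ≫ snd X (word X l))) ⟨_, hw₁c, rfl⟩
      rw [← pt_comp, ← pt_comp, em₂, em₂, ← connectedComponent_eq e₁] at e₂
      exact e₂

theorem genSet_subset_component [IsAlgClosed k] [LocallyOfFiniteType X.hom]
    (hcomp : ∀ p : Pt X, ∃ p₁ : Pt X, p₁ ≫ f = 1 ∧ pt p₁ ∈ connectedComponent (pt p)) :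
    (genSet f : Set G.left) ⊆ connectedComponent (IdComponent.e₀ G) := by
  refine closure_minimal (Set.iUnion_subset fun l => ?_) isClosed_connectedComponent
  rintro _ ⟨z, rfl⟩
  haveI := locallyOfFiniteType_word (X := X) l.down
  haveI : JacobsonSpace (word X l.down).left := LocallyOfFiniteType.jacobsonSpace (word X l.down).hom
  obtain ⟨y, hy, hyc⟩ := nonempty_inter_closedPoints (Z := connectedComponent z) ⟨z, mem_connectedComponent⟩
    isClosed_connectedComponent.isLocallyClosed
  obtain ⟨q, rfl⟩ := exists_pt hyc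
  obtain ⟨q₁, hq₁, hq₁c⟩ := comp_word f hcomp l.down q
  rw [← connectedComponent_eq hy] at hq₁c
  have h := (wordMap f l.down).left.continuous.image_connectedComponent_subset z ⟨_, hq₁c, rfl⟩
  have he : pt (1 : Pt G) = IdComponent.e₀ G := by
    rw [Hom.one_def, toUnit_unique (toUnit (𝟙_ _)) (𝟙 _), Category.id_comp]
  rw [← pt_comp, hq₁, he] at h
  rw [← connectedComponent_eq h]
  exact mem_connectedComponent

/-- Some product map is dominant on the generated set, over an algebraically closed field. -/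
theorem exists_dense_word' [IsAlgClosed k] [LocallyOfFiniteType G.hom] [LocallyOfFiniteType X.hom]
    [QuasiCompact X.hom] (hcomp : ∀ p : Pt X, ∃ p₁ : Pt X, p₁ ≫ f = 1 ∧ pt p₁ ∈ connectedComponent (pt p)) :
    ∃ (l : List Bool) (η₁ : G.left), η₁ ∈ Set.range (wordMap f l).left ∧ (genSet f : Set G.left) = closure {η₁} := by
  classical
  let _ : G.left.Over (Spec (CommRingCat.of k)) := ⟨G.hom⟩
  haveI : LocallyOfFiniteType (G.left ↘ Spec (CommRingCat.of k)) := ‹LocallyOfFiniteType G.hom›
  haveI : IsSeparated G.hom := IdComponent.isSeparated G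
  haveI : JacobsonSpace G.left := LocallyOfFiniteType.jacobsonSpace G.hom
  haveI := locallyOfFiniteType_word (X := X)
  have hS : ∀ l z, (wordMap f l).left z ∈ (genSet f : Set G.left) := fun l z =>
    subset_closure (Set.mem_iUnion.2 ⟨⟨l⟩, z, rfl⟩)
  have hbound : ∀ x ∈ (genSet f : Set G.left), ∃ ξ : G.left, ξ ⤳ x ∧
      closure {ξ} = irreducibleComponent (IdComponent.e₀ G) := by
    intro x hx
    obtain ⟨ξ, hξ⟩ := QuasiSober.sober (isIrreducible_irreducibleComponent (x := IdComponent.e₀ G))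
      isClosed_irreducibleComponent
    refine ⟨ξ, hξ.specializes ?_, hξ.def⟩
    rw [← IdComponent.connectedComponent_eq G]
    exact genSet_subset_component f hcomp hx
  obtain ⟨N, hN⟩ : ∃ N, ∀ x ∈ (genSet f : Set G.left), VarDim.dimPt k G.left x ≤ N := by
    obtain ⟨ξ, hξ⟩ := QuasiSober.sober (isIrreducible_irreducibleComponent (x := IdComponent.e₀ G))
      isClosed_irreducibleComponent
    refine ⟨VarDim.dimPt k G.left ξ, fun x hx => ?_⟩
    obtain ⟨ξ', hs, hcl⟩ := hbound x hx
    obtain rfl : ξ' = ξ := (isGenericPoint_def.2 hcl).eq hξ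
    exact (VarDim.exists_ltSeries_of_le k (hs : x ≤ ξ')).1
  let Sset : Set G.left := ⋃ l : List Bool, Set.range (wordMap f l).left
  have hSne : ((fun x => VarDim.dimPt k G.left x) '' Sset).Nonempty :=
    ⟨_, (wordMap f []).left (IsLocalRing.closedPoint k), Set.mem_iUnion.2 ⟨[], _, rfl⟩, rfl⟩
  obtain ⟨_, ⟨η₀, hη₀, rfl⟩, hmaxd⟩ : ∃ m ∈ (fun x => VarDim.dimPt k G.left x) '' Sset,
      ∀ m' ∈ (fun x => VarDim.dimPt k G.left x) '' Sset, m' ≤ m := by
    refine Set.exists_max_image _ id ((Set.finite_Iic N).subset ?_) hSne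
    rintro _ ⟨x, hx, rfl⟩
    obtain ⟨l, z, rfl⟩ := Set.mem_iUnion.1 hx
    exact hN _ (hS l z)
  have hmax : ∀ z ∈ Sset, z ⤳ η₀ → z = η₀ := fun z hz hs => by
    by_contra hne
    have h1 := VarDim.dimPt_lt_of_lt k
      (lt_iff_le_not_ge.mpr ⟨(hs : η₀ ≤ z), fun h => hne (Specializes.antisymm hs h).eq⟩)
    have h2 := hmaxd _ ⟨z, hz, rfl⟩
    beta_reduce at h2
    omega
  obtain ⟨l₀, p₀, hp₀⟩ := Set.mem_iUnion.1 hη₀
  let Wd : Pt G → Prop := fun g => ∃ (l : List Bool) (q : Pt (word X l)), q ≫ wordMap f l = g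
  -- translations by words preserve the union of the images
  have hrho : ∀ g, Wd g → ∀ z ∈ Sset, (rho g).left z ∈ Sset := by
    rintro g ⟨l', q, rfl⟩ z hz
    obtain ⟨l, p, rfl⟩ := Set.mem_iUnion.1 hz
    obtain ⟨σ, hσ⟩ := exists_append f l l'
    refine Set.mem_iUnion.2 ⟨l ++ l', (lift (𝟙 _) (toUnit _ ≫ q) ≫ σ).left p, ?_⟩
    rw [← Points.comp_apply, ← Points.comp_apply, Category.assoc, hσ, comp_rho, MonObj.comp_mul,
      lift_fst_assoc, lift_snd_assoc, Category.id_comp, Category.assoc]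
  have hinvrho : ∀ g : Pt G, rho g ≫ rho g⁻¹ = 𝟙 G := fun g => by
    rw [comp_rho, rho, GrpObj.comp_inv, mul_inv_cancel_right]
  have hmaxrho : ∀ g, Wd g → ∀ z ∈ Sset, z ⤳ (rho g).left η₀ → z = (rho g).left η₀ := by
    intro g hg z hz hs
    have h1 : (rho g⁻¹).left z = η₀ := hmax _ (hrho _ (word_inv f hg) z hz) (by
      have := hs.map (rho g⁻¹).left.continuous
      rwa [← Points.comp_apply (rho g), hinvrho] at this)
    rw [← h1, ← Points.comp_apply]
    have h2 := hinvrho g⁻¹
    rw [_root_.inv_inv] at h2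
    rw [h2]
    rfl
  -- the translates of `η₀` by words all equal `η₀`
  have hfix : ∀ g, Wd g → (rho g).left η₀ = η₀ := by
    rintro g ⟨l, q, rfl⟩
    obtain ⟨σ, hσ⟩ := exists_append f l₀ l
    haveI := quasiCompact_word (X := X)
    haveI : IsLocallyNoetherian (word X (l₀ ++ l)).left :=
      LocallyOfFiniteType.isLocallyNoetherian (word X (l₀ ++ l)).hom
    haveI : CompactSpace (word X (l₀ ++ l)).left :=
      QuasiCompact.compactSpace_of_compactSpace (word X (l₀ ++ l)).hom
    haveI : IsNoetherian (word X (l₀ ++ l)).left := {}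
    haveI : Finite (irreducibleComponents (word X (l₀ ++ l)).left) :=
      TopologicalSpace.NoetherianSpace.finite_irreducibleComponents.to_subtype
    choose gp hgp using fun Z : irreducibleComponents (word X (l₀ ++ l)).left =>
      QuasiSober.sober Z.2.1 (isClosed_of_mem_irreducibleComponents _ Z.2)
    let cand : Set G.left := Set.range fun Z => (wordMap f (l₀ ++ l)).left (gp Z)
    have hcand : ∀ q' : Pt (word X l), (rho (q' ≫ wordMap f l)).left η₀ ∈ cand := fun q' => by
      let z := (lift (𝟙 _) (toUnit _ ≫ q') ≫ σ).left p₀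
      have hz : (wordMap f (l₀ ++ l)).left z = (rho (q' ≫ wordMap f l)).left η₀ := by
        rw [← hp₀, ← Points.comp_apply, ← Points.comp_apply, Category.assoc, hσ, comp_rho, MonObj.comp_mul,
          lift_fst_assoc, lift_snd_assoc, Category.id_comp, Category.assoc]
      refine ⟨⟨_, irreducibleComponent_mem_irreducibleComponents z⟩, ?_⟩
      refine hmaxrho _ ⟨l, q', rfl⟩ _ (Set.mem_iUnion.2 ⟨_, _, rfl⟩) ?_
      rw [← hz]
      exact ((hgp ⟨_, irreducibleComponent_mem_irreducibleComponents z⟩).specializes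
        mem_irreducibleComponent).map (wordMap f (l₀ ++ l)).left.continuous
    let B : G.left → Set (word X l).left := fun c =>
      ⋂ y ∈ {y : Pt G | pt y ∈ closure {η₀}}, (wordMap f l ≫ lam' y).left ⁻¹' closure {c}
    have hBcl : ∀ c, IsClosed (B c) := fun c =>
      isClosed_biInter fun y _ => isClosed_closure.preimage (wordMap f l ≫ lam' y).left.continuous
    have hBiff : ∀ c ∈ cand, ∀ q' : Pt (word X l), pt q' ∈ B c ↔ c = (rho (q' ≫ wordMap f l)).left η₀ := by
      intro c hc q'
      have hpt : ∀ y : Pt G, (wordMap f l ≫ lam' y).left (pt q') =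
          (rho (q' ≫ wordMap f l)).left (pt y) := fun y => by
        rw [Points.comp_apply, ← pt_comp q' (wordMap f l), pt_comp_lam, pt_comp_rho]
      constructor
      · intro hq
        have hsub : closure {η₀} ⊆ (rho (q' ≫ wordMap f l)).left ⁻¹' closure {c} := by
          rw [← closure_inter_closedPoints isClosed_closure]
          refine closure_minimal ?_ (isClosed_closure.preimage (rho (q' ≫ wordMap f l)).left.continuous)
          rintro z ⟨hz1, hz2⟩
          obtain ⟨y, rfl⟩ := exists_pt hz2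
          show (rho (q' ≫ wordMap f l)).left (pt y) ∈ closure {c}
          rw [← hpt]
          exact Set.mem_iInter₂.1 hq y hz1
        obtain ⟨Z, rfl⟩ := hc
        exact hmaxrho _ ⟨l, q', rfl⟩ _ (Set.mem_iUnion.2 ⟨_, _, rfl⟩)
          (specializes_iff_mem_closure.2 (hsub (subset_closure rfl)))
      · rintro rfl
        refine Set.mem_iInter₂.2 fun y hy => ?_
        rw [Set.mem_preimage, hpt]
        exact map_mem_closure (rho (q' ≫ wordMap f l)).left.continuous hy (by simp [Set.MapsTo])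
    haveI : JacobsonSpace (word X l).left := LocallyOfFiniteType.jacobsonSpace (word X l).hom
    obtain ⟨q₁, hq₁, hq₁c⟩ := comp_word f hcomp l q
    have hη : (rho (q₁ ≫ wordMap f l)).left η₀ = η₀ := by
      rw [hq₁, rho, MonObj.comp_one, _root_.mul_one]
      rfl
    have hη₀c : η₀ ∈ cand := hη ▸ hcand q₁
    have hcover : ∀ z : (word X l).left, z ∈ ⋃ c ∈ cand, B c := by
      have : (Set.univ : Set (word X l).left) ⊆ ⋃ c ∈ cand, B c := by
        rw [← closure_closedPoints]
        refine closure_minimal (fun z hz => ?_) ((Set.finite_range _).isClosed_biUnion fun c _ => hBcl c)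
        obtain ⟨q', rfl⟩ := exists_pt hz
        exact Set.mem_iUnion₂.2 ⟨_, hcand q', (hBiff _ (hcand q') q').2 rfl⟩
      exact fun z => this trivial
    have hclopen : IsClopen (B η₀) := by
      refine ⟨hBcl _, ?_⟩
      have : B η₀ = (⋃ c ∈ cand \ {η₀}, B c)ᶜ := by
        ext z
        constructor
        · intro hz hz'
          obtain ⟨c, ⟨hc, hne⟩, hzc⟩ := Set.mem_iUnion₂.1 hz'
          obtain ⟨w, ⟨hw1, hw2⟩, hw⟩ := nonempty_inter_closedPoints (Z := B η₀ ∩ B c) ⟨z, hz, hzc⟩
            ((hBcl _).inter (hBcl _)).isLocallyClosed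
          obtain ⟨q', rfl⟩ := exists_pt hw
          exact hne (((hBiff c hc q').1 hw2).trans ((hBiff η₀ hη₀c q').1 hw1).symm)
        · intro hz
          obtain ⟨c, hc, hzc⟩ := Set.mem_iUnion₂.1 (hcover z)
          by_contra hne
          exact hz (Set.mem_iUnion₂.2 ⟨c, ⟨hc, fun h => hne (by rw [← (h : c = η₀)]; exact hzc)⟩, hzc⟩)
      rw [this]
      exact (((Set.finite_range _).subset Set.sdiff_subset).isClosed_biUnion fun c _ => hBcl c).isOpen_compl
    refine ((hBiff η₀ hη₀c q).1 (hclopen.connectedComponent_subset ((hBiff η₀ hη₀c q₁).2 hη.symm) ?_)).symm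
    rw [← connectedComponent_eq hq₁c]
    exact mem_connectedComponent
  refine ⟨l₀, η₀, ⟨p₀, hp₀⟩, ?_⟩
  haveI : JacobsonSpace (word X l₀).left := LocallyOfFiniteType.jacobsonSpace (word X l₀).hom
  obtain ⟨z₀, hz₀, hz₀c⟩ := nonempty_inter_closedPoints (Z := closure {p₀}) ⟨p₀, subset_closure rfl⟩
    isClosed_closure.isLocallyClosed
  obtain ⟨q₀, rfl⟩ := exists_pt hz₀c
  have hy₀ : pt (q₀ ≫ wordMap f l₀) ∈ closure {η₀} := by
    rw [pt_comp, ← hp₀]
    exact map_mem_closure (wordMap f l₀).left.continuous hz₀ (by simp [Set.MapsTo])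
  have hsub : (genSet f : Set G.left) ⊆ closure {η₀} := by
    refine closure_minimal (Set.iUnion_subset fun l => ?_) isClosed_closure
    haveI : JacobsonSpace (word X l.down).left := LocallyOfFiniteType.jacobsonSpace (word X l.down).hom
    rw [← Set.image_univ, ← closure_closedPoints]
    refine (image_closure_subset_closure_image (wordMap f l.down).left.continuous).trans
      (closure_minimal ?_ isClosed_closure)
    rintro _ ⟨z, hz, rfl⟩
    obtain ⟨q, rfl⟩ := exists_pt hz
    rw [← pt_comp]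
    let g := (q₀ ≫ wordMap f l₀)⁻¹ * (q ≫ wordMap f l.down)
    have hg : Wd g := word_mul f (word_inv f ⟨_, q₀, rfl⟩) ⟨_, q, rfl⟩
    have h1 := map_mem_closure (rho g).left.continuous hy₀ (t := {η₀}) (by simp [Set.MapsTo, hfix g hg])
    rw [pt_comp_rho, mul_inv_cancel_left] at h1
    exact h1
  exact hsub.antisymm ((genSet f).2.closure_subset_iff.2 (Set.singleton_subset_iff.2 (hp₀ ▸ hS l₀ p₀)))

theorem exists_rat_lift' [IsAlgClosed k] [LocallyOfFiniteType G.hom] [LocallyOfFiniteType X.hom] {g : Pt G}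
    (h : pt g ∈ Set.range f.left) : ∃ p : Pt X, p ≫ f = g := by
  haveI : IsSeparated G.hom := IdComponent.isSeparated G
  haveI : JacobsonSpace X.left := LocallyOfFiniteType.jacobsonSpace X.hom
  haveI := isClosedImmersion_pt g
  have hc : IsClosed ({pt g} : Set G.left) := by
    have : Set.range g.left = {pt g} := Set.eq_singleton_iff_unique_mem.2 ⟨⟨_, rfl⟩, by
      rintro _ ⟨t, rfl⟩
      exact congrArg g.left (Subsingleton.elim (α := PrimeSpectrum k) t _)⟩
    exact this ▸ g.left.isClosedEmbedding.isClosed_range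
  obtain ⟨z, hz⟩ := h
  obtain ⟨y, hy, hyc⟩ := nonempty_inter_closedPoints (Z := f.left ⁻¹' {pt g}) ⟨z, hz⟩
    (hc.preimage f.left.continuous).isLocallyClosed
  obtain ⟨p, rfl⟩ := exists_pt hyc
  exact ⟨p, pt_inj ((pt_comp p f).trans hy)⟩

theorem exists_word_of_pt [IsAlgClosed k] [LocallyOfFiniteType G.hom] [LocallyOfFiniteType X.hom]
    [QuasiCompact X.hom] (hcomp : ∀ p : Pt X, ∃ p₁ : Pt X, p₁ ≫ f = 1 ∧ pt p₁ ∈ connectedComponent (pt p))
    {Γ : Over (Spec (CommRingCat.of k))} [GrpObj Γ] (i : Γ ⟶ G) [IsMonHom i] [IsClosedImmersion i.left]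
    (hr : Set.range i.left = (genSet f : Set G.left)) (d : Pt Γ) :
    ∃ (l : List Bool) (q : Pt (word X l)), q ≫ wordMap f l = d ≫ i := by
  obtain ⟨l, η₁, hη, hgen⟩ := exists_dense_word' f hcomp
  rw [hgen] at hr
  haveI := locallyOfFiniteType_word (X := X) l
  haveI := quasiCompact_word (X := X) l
  haveI : IsSeparated G.hom := IdComponent.isSeparated G
  haveI : IsLocallyNoetherian G.left := LocallyOfFiniteType.isLocallyNoetherian G.hom
  haveI : LocallyOfFiniteType ((wordMap f l).left ≫ G.hom) := by rw [Over.w]; infer_instance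
  haveI : LocallyOfFiniteType (wordMap f l).left := locallyOfFiniteType_of_comp _ G.hom
  haveI : QuasiCompact ((wordMap f l).left ≫ G.hom) := by rw [Over.w]; infer_instance
  haveI : QuasiCompact (wordMap f l).left := QuasiCompact.of_comp _ G.hom
  have hc : Topology.IsLocallyConstructible (Set.range (wordMap f l).left) := by
    have h0 : LocallyOfFinitePresentation (wordMap f l).left := inferInstance
    simpa using (wordMap f l).left.isLocallyConstructible_image
      (Topology.IsConstructible.univ.isLocallyConstructible)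
  obtain ⟨W, hW, hWne, hWsub⟩ := GrpScheme.ClosedImage.exists_open_inter_closure_subset' hc ⟨_, hη⟩
  have hcl : closure (Set.range (wordMap f l).left) = closure {η₁} := by
    refine Set.Subset.antisymm ?_ (closure_mono (Set.singleton_subset_iff.2 hη))
    rw [← hgen]
    exact closure_minimal (fun x hx => subset_closure (Set.mem_iUnion.2 ⟨(⟨l⟩ : ULift.{u} (List Bool)), hx⟩)) (genSet f).2
  rw [hcl] at hWsub
  have hηW : η₁ ∈ W := by
    obtain ⟨x, hx, hx'⟩ := hWne
    exact (specializes_iff_mem_closure.2 (hcl.le (subset_closure hx'))).mem_open hW hx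
  obtain ⟨ξ, hξ⟩ : η₁ ∈ Set.range i.left := hr.symm ▸ subset_closure rfl
  have hgenξ : ∀ y : Γ.left, ξ ⤳ y := fun y => by
    rw [← i.left.isClosedEmbedding.isInducing.specializes_iff, hξ]
    exact specializes_iff_mem_closure.2 (hr ▸ ⟨y, rfl⟩)
  haveI : LocallyOfFiniteType Γ.hom := by rw [← Over.w i]; infer_instance
  haveI : JacobsonSpace Γ.left := LocallyOfFiniteType.jacobsonSpace Γ.hom
  let τ : Γ ⟶ Γ := (𝟙 Γ)⁻¹ * (toUnit Γ ≫ d)
  have hτ : ∀ x : Pt Γ, x ≫ τ = x⁻¹ * d := fun x => by
    simp only [τ, MonObj.comp_mul, GrpObj.comp_inv, Category.comp_id]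
    rw [← Category.assoc, comp_toUnit, toUnit_unique (toUnit (𝟙_ _)) (𝟙 _), Category.id_comp]
  have hξW : ξ ∈ i.left ⁻¹' W := by rw [Set.mem_preimage, hξ]; exact hηW
  have hξτ : ξ ∈ τ.left ⁻¹' (i.left ⁻¹' W) := by
    obtain ⟨x, hx, hxc⟩ := nonempty_inter_closedPoints (Z := i.left ⁻¹' W) ⟨ξ, hξW⟩
      (hW.preimage i.left.continuous).isLocallyClosed
    obtain ⟨y, rfl⟩ := exists_pt hxc
    refine (hgenξ (pt (d * y⁻¹))).mem_open ((hW.preimage i.left.continuous).preimage τ.left.continuous) ?_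
    show τ.left (pt (d * y⁻¹)) ∈ i.left ⁻¹' W
    rw [← pt_comp, hτ, _root_.mul_inv_rev, _root_.inv_inv, inv_mul_cancel_right]
    exact hx
  obtain ⟨w, ⟨hw1, hw2⟩, hwc⟩ := nonempty_inter_closedPoints (Z := i.left ⁻¹' W ∩ τ.left ⁻¹' (i.left ⁻¹' W))
    ⟨ξ, hξW, hξτ⟩ ((hW.preimage i.left.continuous).inter
      ((hW.preimage i.left.continuous).preimage τ.left.continuous)).isLocallyClosed
  obtain ⟨y, rfl⟩ := exists_pt hwc
  obtain ⟨q₁, hq₁⟩ := exists_rat_lift' (wordMap f l) (g := y ≫ i) (hWsub ⟨hw1, hr ▸ ⟨_, rfl⟩⟩)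
  obtain ⟨q₂, hq₂⟩ := exists_rat_lift' (wordMap f l) (g := (y⁻¹ * d) ≫ i)
    (hWsub ⟨by rw [← hτ, Category.assoc]; exact hw2, hr ▸ ⟨_, rfl⟩⟩)
  obtain ⟨l', q', hq'⟩ := word_mul f ⟨l, q₁, hq₁⟩ ⟨l, q₂, hq₂⟩
  exact ⟨l', q', by rw [hq', ← MonObj.mul_comp, mul_inv_cancel_left]⟩

theorem word_mem_closure : ∀ (l : List Bool) (q : Pt (word X l)),
    q ≫ wordMap f l ∈ Subgroup.closure (Set.range fun p : Pt X => p ≫ f)
  | [], q => by
    rw [show q ≫ wordMap f [] = 1 from MonObj.comp_one q]
    exact one_mem _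
  | b :: l, q => by
    refine (comp_cons f b l q).symm ▸ mul_mem ?_ (word_mem_closure l _)
    cases b
    · simp only [letter, Bool.false_eq_true, if_false, GrpObj.comp_inv]
      exact inv_mem (Subgroup.subset_closure ⟨_, rfl⟩)
    · simp only [letter, if_true]
      exact Subgroup.subset_closure ⟨_, rfl⟩

/-- The subgroup generated by the values is the group of rational points of the generated subgroup. -/
theorem closure_eq_pts [IsAlgClosed k] [LocallyOfFiniteType G.hom] [LocallyOfFiniteType X.hom]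
    [QuasiCompact X.hom] [GeometricallyReduced X.hom]
    (hcomp : ∀ p : Pt X, ∃ p₁ : Pt X, p₁ ≫ f = 1 ∧ pt p₁ ∈ connectedComponent (pt p)) :
    ∃ (Γ : Over (Spec (CommRingCat.of k))) (i : Γ ⟶ G), IsClosedImmersion i.left ∧
      ∀ g : Pt G, g ∈ Subgroup.closure (Set.range fun p : Pt X => p ≫ f) ↔ pt g ∈ Set.range i.left := by
  obtain ⟨Γ, hΓ, i, hM, hci, ⟨f', hf'⟩, -, hr, -⟩ := exists_generated f
  refine ⟨Γ, i, hci, fun g => ⟨fun hg => ?_, fun hg => ?_⟩⟩
  · have : ∃ d : Pt Γ, d ≫ i = g := by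
      induction hg using Subgroup.closure_induction with
      | mem x hx => obtain ⟨p, rfl⟩ := hx; exact ⟨p ≫ f', by rw [Category.assoc, hf']⟩
      | one => exact ⟨1, MonObj.one_comp i⟩
      | mul x y _ _ hx hy =>
        obtain ⟨a, rfl⟩ := hx; obtain ⟨b, rfl⟩ := hy
        exact ⟨a * b, MonObj.mul_comp a b i⟩
      | inv x _ hx => obtain ⟨a, rfl⟩ := hx; exact ⟨a⁻¹, GrpObj.inv_comp a i⟩
    obtain ⟨d, rfl⟩ := this
    exact ⟨_, (pt_comp d i).symm⟩
  · obtain ⟨d, rfl⟩ := exists_lift_of_mem i hg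
    obtain ⟨l, q, hq⟩ := exists_word_of_pt f hcomp i hr d
    exact hq ▸ word_mem_closure f l q

theorem exists_rat_lift'_aux {X : Over (Spec (CommRingCat.of k))}
    {Y : Over (Spec (CommRingCat.of k))} [LocallyOfFiniteType Y.hom] (j : X ⟶ Y) [IsOpenImmersion j.left]
    (q : Pt Y) (h : pt q ∈ Set.range j.left) : ∃ p : Pt X, p ≫ j = q := by
  have hr : Set.range q.left ⊆ Set.range j.left := by
    rintro _ ⟨t, rfl⟩
    have : t = IsLocalRing.closedPoint k := Subsingleton.elim (α := PrimeSpectrum k) _ _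
    rw [this]
    exact h
  refine ⟨Over.homMk (IsOpenImmersion.lift j.left q.left hr) ?_,
    Over.OverMorphism.ext (IsOpenImmersion.lift_fac _ _ _)⟩
  rw [← Over.w j, ← Category.assoc, IsOpenImmersion.lift_fac, Over.w q]

theorem comm_mul_left {Q : Type*} [Group Q] {u y : Q} (h : Commute u y) (x : Q) : ⁅x * u, y⁆ = ⁅x, y⁆ := by
  simp only [commutatorElement_def, _root_.mul_inv_rev]
  rw [show x * u * y * (u⁻¹ * x⁻¹) * y⁻¹ = x * (u * y * u⁻¹) * x⁻¹ * y⁻¹ by group, h.eq, mul_inv_cancel_right]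

theorem comm_mul_right {Q : Type*} [Group Q] {x v : Q} (h : Commute x v) (y : Q) : ⁅x, y * v⁆ = ⁅x, y⁆ := by
  simp only [commutatorElement_def, _root_.mul_inv_rev]
  rw [show x * (y * v) * x⁻¹ * (v⁻¹ * y⁻¹) = x * y * (v * x⁻¹ * v⁻¹) * y⁻¹ by group, ← h.inv_left.eq,
    mul_inv_cancel_right]

end Core

section Main

variable {k : Type u} [Field k] {G A B : Over (Spec (CommRingCat.of k))} [GrpObj G] [GrpObj A] [GrpObj B]

/-- Composition with a homomorphism on rational points. -/
def ptHom (a : A ⟶ G) [IsMonHom a] : Pt A →* Pt G where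
  toFun x := x ≫ a
  map_one' := MonObj.one_comp a
  map_mul' x y := MonObj.mul_comp x y a

variable (A B) in
/-- The union of the components meeting one of the axes. -/
def axes : Set (A ⊗ B).left :=
  {z | ∃ q : Pt (A ⊗ B), (q ≫ fst A B = 1 ∨ q ≫ snd A B = 1) ∧ pt q ∈ connectedComponent z}

theorem mem_axes_iff {z z' : (A ⊗ B).left} (h : z' ∈ connectedComponent z) : z' ∈ axes A B ↔ z ∈ axes A B := by
  simp only [axes, Set.mem_ofPred_eq, connectedComponent_eq h]

theorem isOpen_axes [LocallyOfFiniteType A.hom] [LocallyOfFiniteType B.hom] [QuasiCompact A.hom]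
    [QuasiCompact B.hom] : IsOpen (axes A B) := by
  haveI : LocallyOfFiniteType (A ⊗ B).hom :=
    inferInstanceAs (LocallyOfFiniteType (pullback.fst A.hom B.hom ≫ A.hom))
  haveI : QuasiCompact (A ⊗ B).hom := inferInstanceAs (QuasiCompact (pullback.fst A.hom B.hom ≫ A.hom))
  haveI : IsLocallyNoetherian (A ⊗ B).left := LocallyOfFiniteType.isLocallyNoetherian (A ⊗ B).hom
  haveI : CompactSpace (A ⊗ B).left := QuasiCompact.compactSpace_of_compactSpace (A ⊗ B).hom
  haveI : IsNoetherian (A ⊗ B).left := {}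
  rw [← isClosed_compl_iff]
  have : (axes A B)ᶜ = ⋃ Z ∈ {Z ∈ irreducibleComponents (A ⊗ B).left | (Z ∩ (axes A B)ᶜ).Nonempty}, Z := by
    refine Set.Subset.antisymm (fun z hz => Set.mem_iUnion₂.2
      ⟨_, ⟨irreducibleComponent_mem_irreducibleComponents z, z, mem_irreducibleComponent, hz⟩,
        mem_irreducibleComponent⟩) ?_
    refine Set.iUnion₂_subset fun Z hZ z hz hz' => ?_
    obtain ⟨hZi, w, hwZ, hw⟩ := hZ
    exact hw ((mem_axes_iff (hZi.1.isConnected.isPreconnected.subset_connectedComponent hz hwZ)).2 hz')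
  rw [this]
  exact (TopologicalSpace.NoetherianSpace.finite_irreducibleComponents.subset fun _ h => h.1).isClosed_biUnion
    fun Z hZ => isClosed_of_mem_irreducibleComponents Z hZ.1

theorem lift_mem_axes [IsAlgClosed k] {x : Pt A} (hx : pt x ∈ connectedComponent (pt (1 : Pt A))) (y : Pt B) :
    pt (lift x y) ∈ axes A B := by
  refine ⟨lift 1 y, Or.inl (lift_fst _ _), ?_⟩
  let m : A ⟶ A ⊗ B := lift (𝟙 A) (toUnit A ≫ y)
  have em : ∀ t : Pt A, t ≫ m = lift t y := fun t => by
    rw [comp_lift, Category.comp_id, ← Category.assoc t, comp_toUnit, toUnit_unique (toUnit (𝟙_ _)) (𝟙 _),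
      Category.id_comp]
  have h := m.left.continuous.image_connectedComponent_subset (pt (1 : Pt A)) ⟨_, hx, rfl⟩
  rw [← pt_comp, ← pt_comp, em, em] at h
  rw [← connectedComponent_eq h]
  exact mem_connectedComponent

theorem lift_mem_axes' [IsAlgClosed k] {y : Pt B} (hy : pt y ∈ connectedComponent (pt (1 : Pt B))) (x : Pt A) :
    pt (lift x y) ∈ axes A B := by
  refine ⟨lift x 1, Or.inr (lift_snd _ _), ?_⟩
  let m : B ⟶ A ⊗ B := lift (toUnit B ≫ x) (𝟙 B)
  have em : ∀ t : Pt B, t ≫ m = lift x t := fun t => by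
    rw [comp_lift, Category.comp_id, ← Category.assoc t, comp_toUnit, toUnit_unique (toUnit (𝟙_ _)) (𝟙 _),
      Category.id_comp]
  have h := m.left.continuous.image_connectedComponent_subset (pt (1 : Pt B)) ⟨_, hy, rfl⟩
  rw [← pt_comp, ← pt_comp, em, em] at h
  rw [← connectedComponent_eq h]
  exact mem_connectedComponent

/-- `x⁻¹ x'` is in the component of the unit if `x'` is in that of `x`. -/
theorem inv_mul_mem_component {x x' : Pt A} (h : pt x' ∈ connectedComponent (pt x)) :
    pt (x⁻¹ * x') ∈ connectedComponent (pt (1 : Pt A)) := by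
  have := (lam' x⁻¹).left.continuous.image_connectedComponent_subset (pt x) ⟨_, h, rfl⟩
  rwa [pt_comp_lam, pt_comp_lam, inv_mul_cancel] at this

end Main

/-- Let k be an algebraically closed field, G a group scheme locally of finite type over k, and a : A →
G, b : B → G two closed subgroup schemes which are geometrically reduced over k, such that either
(a) A and B are normal in G and of finite type over k, or (b) A is connected and B is of finite type
over k. Let i : Γ → G be the commutator subgroup scheme (A, B): the smallest closed subgroup scheme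
of G through which A ×_k B → G, (x, y) ↦ a(x) b(y) a(x)⁻¹ b(y)⁻¹, factors. Then the image of Γ(k) in
G(k) is the commutator subgroup of the images of A(k) and B(k): the subgroup of G(k) generated by
the commutators of a k-point of A with a k-point of B. -/
theorem result (k : Type u) [Field k] [IsAlgClosed k]
    (G A B : Over (Spec (CommRingCat.of k))) [GrpObj G] [GrpObj A] [GrpObj B] [LocallyOfFiniteType G.hom]
    (a : A ⟶ G) [IsMonHom a] [IsClosedImmersion a.left] (b : B ⟶ G) [IsMonHom b] [IsClosedImmersion b.left]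
    [GeometricallyReduced A.hom] [GeometricallyReduced B.hom] [QuasiCompact B.hom]
    (hcase : (AlgGrp.IsNormalHom a ∧ AlgGrp.IsNormalHom b ∧ QuasiCompact A.hom) ∨ ConnectedSpace A.left)
    (Γ : Over (Spec (CommRingCat.of k))) [GrpObj Γ] (i : Γ ⟶ G) [IsMonHom i] [IsClosedImmersion i.left]
    (hf : ∃ f' : A ⊗ B ⟶ Γ, f' ≫ i = (((fst A B) ≫ a) * ((snd A B) ≫ b) * ((fst A B) ≫ a)⁻¹ * ((snd A B) ≫ b)⁻¹))
    (hmin : ∀ (Γ' : Over (Spec (CommRingCat.of k))) (_ : GrpObj Γ') (i' : Γ' ⟶ G), IsMonHom i' → IsClosedImmersion i'.left →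
        (∃ f'' : A ⊗ B ⟶ Γ', f'' ≫ i' = (((fst A B) ≫ a) * ((snd A B) ≫ b) * ((fst A B) ≫ a)⁻¹ * ((snd A B) ≫ b)⁻¹)) → ∃ j : Γ ⟶ Γ', j ≫ i' = i) :
    Set.range (fun z : 𝟙_ (Over (Spec (CommRingCat.of k))) ⟶ Γ => z ≫ i) =
      ((⁅Subgroup.closure (Set.range (fun x : 𝟙_ (Over (Spec (CommRingCat.of k))) ⟶ A => x ≫ a)),
         Subgroup.closure (Set.range (fun y : 𝟙_ (Over (Spec (CommRingCat.of k))) ⟶ B => y ≫ b))⁆ : Subgroup (𝟙_ (Over (Spec (CommRingCat.of k))) ⟶ G)) :
        Set (𝟙_ (Over (Spec (CommRingCat.of k))) ⟶ G)) := by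
  classical
  haveI : IsSeparated G.hom := IdComponent.isSeparated G
  haveI : Mono i := Over.mono_of_mono_left i
  haveI : Mono a := Over.mono_of_mono_left a
  haveI : Mono b := Over.mono_of_mono_left b
  haveI : LocallyOfFiniteType A.hom := by rw [← Over.w a]; infer_instance
  haveI : LocallyOfFiniteType B.hom := by rw [← Over.w b]; infer_instance
  haveI : QuasiCompact A.hom := by
    rcases hcase with ⟨-, -, h⟩ | h
    · exact h
    · haveI := h
      haveI : CompactSpace A.left := by
        constructor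
        rw [← PreconnectedSpace.connectedComponent_eq_univ (IdComponent.e₀ A),
          IdComponent.connectedComponent_eq A]
        exact IdComponent.isCompact_component A
      exact quasiCompact_of_compactSpace A.hom
  haveI : LocallyOfFiniteType (A ⊗ B).hom :=
    inferInstanceAs (LocallyOfFiniteType (pullback.fst A.hom B.hom ≫ A.hom))
  haveI : QuasiCompact (A ⊗ B).hom := inferInstanceAs (QuasiCompact (pullback.fst A.hom B.hom ≫ A.hom))
  haveI : IsLocallyNoetherian (A ⊗ B).left := LocallyOfFiniteType.isLocallyNoetherian (A ⊗ B).hom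
  haveI : CompactSpace (A ⊗ B).left := QuasiCompact.compactSpace_of_compactSpace (A ⊗ B).hom
  haveI : IsNoetherian (A ⊗ B).left := {}
  haveI : GeometricallyReduced (A ⊗ B).hom := GrpGen19.geometricallyReduced_tensor A B
  haveI : AlgebraicGeometry.IsReduced (A ⊗ B).left :=
    GeometricallyReduced.isReduced_of_flat_of_isLocallyNoetherian (A ⊗ B).hom
  let c : A ⊗ B ⟶ G := ((fst A B) ≫ a) * ((snd A B) ≫ b) * ((fst A B) ≫ a)⁻¹ * ((snd A B) ≫ b)⁻¹
  have hc : ∀ q : Pt (A ⊗ B), q ≫ c = ⁅(q ≫ fst A B) ≫ a, (q ≫ snd A B) ≫ b⁆ := fun q => by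
    simp only [c, MonObj.comp_mul, GrpObj.comp_inv, Category.assoc, commutatorElement_def]
  have hc' : ∀ (x : Pt A) (y : Pt B), lift x y ≫ c = ⁅x ≫ a, y ≫ b⁆ := fun x y => by
    rw [hc, lift_fst, lift_snd]
  have hrA : Subgroup.closure (Set.range fun x : Pt A => x ≫ a) = (ptHom a).range := by
    rw [show (Set.range fun x : Pt A => x ≫ a) = ((ptHom a).range : Set (Pt G)) from rfl, Subgroup.closure_eq]
  have hrB : Subgroup.closure (Set.range fun y : Pt B => y ≫ b) = (ptHom b).range := by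
    rw [show (Set.range fun y : Pt B => y ≫ b) = ((ptHom b).range : Set (Pt G)) from rfl, Subgroup.closure_eq]
  rw [hrA, hrB]
  let C : Subgroup (Pt G) := ⁅(ptHom a).range, (ptHom b).range⁆
  have hmemC : ∀ q : Pt (A ⊗ B), q ≫ c ∈ C := fun q => by
    rw [hc]
    exact Subgroup.commutator_mem_commutator ⟨_, rfl⟩ ⟨_, rfl⟩
  -- the open part on which the map takes the value one on every component
  let V : (A ⊗ B).left.Opens := ⟨axes A B, isOpen_axes⟩
  let X : Over (Spec (CommRingCat.of k)) := Over.mk (V.ι ≫ (A ⊗ B).hom)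
  let j : X ⟶ A ⊗ B := Over.homMk V.ι rfl
  let f : X ⟶ G := j ≫ c
  haveI : IsLocallyNoetherian (X.left) := inferInstanceAs (IsLocallyNoetherian V.toScheme)
  haveI : LocallyOfFiniteType X.hom := inferInstanceAs (LocallyOfFiniteType (V.ι ≫ (A ⊗ B).hom))
  haveI : QuasiCompact X.hom := inferInstanceAs (QuasiCompact (V.ι ≫ (A ⊗ B).hom))
  haveI : AlgebraicGeometry.IsReduced X.left := inferInstanceAs (AlgebraicGeometry.IsReduced V.toScheme)
  haveI : GeometricallyReduced X.hom := FBase.BC.geometricallyReduced_of_isReduced_of_perfectField X.hom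
  haveI : IsOpenImmersion j.left := inferInstanceAs (IsOpenImmersion V.ι)
  have hlift : ∀ q : Pt (A ⊗ B), pt q ∈ axes A B → ∃ p : Pt X, p ≫ j = q := fun q hq =>
    exists_rat_lift'_aux j q (by rw [show Set.range j.left = axes A B from V.range_ι]; exact hq)
  have hcomp : ∀ p : Pt X, ∃ p₁ : Pt X, p₁ ≫ f = 1 ∧ pt p₁ ∈ connectedComponent (pt p) := by
    intro p
    have hp : pt (p ≫ j) ∈ axes A B := by
      rw [← show Set.range j.left = axes A B from V.range_ι, pt_comp]; exact ⟨_, rfl⟩
    obtain ⟨q, hq1, hqc⟩ := hp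
    have hqV : pt q ∈ axes A B := (mem_axes_iff hqc).2 ⟨q, hq1, hqc⟩
    obtain ⟨p₁, rfl⟩ := hlift q hqV
    refine ⟨p₁, ?_, ?_⟩
    · show p₁ ≫ j ≫ c = 1
      rw [← Category.assoc, hc]
      rcases hq1 with h | h <;>
        simp [h, MonObj.one_comp]
    · have hsub : connectedComponent (pt (p ≫ j)) ⊆ Set.range j.left := fun z hz => by
        rw [show Set.range j.left = axes A B from V.range_ι]
        exact (mem_axes_iff hz).2 ((mem_axes_iff hqc).1 hqV)
      have hpre : _root_.IsPreconnected (j.left ⁻¹' connectedComponent (pt (p ≫ j))) := by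
        rw [← j.left.isOpenEmbedding.isInducing.isPreconnected_image, Set.image_preimage_eq_of_subset hsub]
        exact isPreconnected_connectedComponent
      exact hpre.subset_connectedComponent (x := pt p) mem_connectedComponent hqc
  obtain ⟨Γ₁, i₁, hci₁, hH⟩ := closure_eq_pts f hcomp
  let H : Subgroup (Pt G) := Subgroup.closure (Set.range fun p : Pt X => p ≫ f)
  have hHC : H ≤ C := (Subgroup.closure_le _).2 (by
    rintro _ ⟨p, rfl⟩
    show p ≫ j ≫ c ∈ C
    rw [← Category.assoc]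
    exact hmemC _)
  have hgenH : ∀ (x : Pt A) (y : Pt B), pt (lift x y) ∈ axes A B → ⁅x ≫ a, y ≫ b⁆ ∈ H := fun x y h => by
    obtain ⟨p, hp⟩ := hlift _ h
    refine Subgroup.subset_closure ⟨p, ?_⟩
    show p ≫ j ≫ c = _
    rw [← Category.assoc, hp, hc']
  obtain ⟨F, hFfin, hFC, hF⟩ : ∃ F : Set (Pt G), F.Finite ∧ F ⊆ C ∧ ∀ g ∈ C, ∃ u ∈ F, u⁻¹ * g ∈ H := by
    rcases hcase with ⟨hna, hnb, -⟩ | hA
    · -- conjugation
      haveI hHn : H.Normal := ⟨fun n hn g => by
        obtain ⟨ta, hta⟩ := hna A (toUnit A ≫ g) (𝟙 A)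
        obtain ⟨tb, htb⟩ := hnb B (toUnit B ≫ g) (𝟙 B)
        have eA : ∀ x : Pt A, (x ≫ ta) ≫ a = g * (x ≫ a) * g⁻¹ := fun x => by
          rw [Category.assoc, ← hta, MonObj.comp_mul, MonObj.comp_mul, GrpObj.comp_inv, Category.id_comp,
            ← Category.assoc, comp_toUnit, toUnit_unique (toUnit (𝟙_ _)) (𝟙 _), Category.id_comp]
        have eB : ∀ y : Pt B, (y ≫ tb) ≫ b = g * (y ≫ b) * g⁻¹ := fun y => by
          rw [Category.assoc, ← htb, MonObj.comp_mul, MonObj.comp_mul, GrpObj.comp_inv, Category.id_comp,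
            ← Category.assoc, comp_toUnit, toUnit_unique (toUnit (𝟙_ _)) (𝟙 _), Category.id_comp]
        let M : A ⊗ B ⟶ A ⊗ B := lift (fst A B ≫ ta) (snd A B ≫ tb)
        induction hn using Subgroup.closure_induction with
        | mem x hx =>
          obtain ⟨p, rfl⟩ := hx
          have hp : pt (p ≫ j) ∈ axes A B := by
            rw [← show Set.range j.left = axes A B from V.range_ι, pt_comp]; exact ⟨_, rfl⟩
          have hM : pt ((p ≫ j) ≫ M) ∈ axes A B := by
            obtain ⟨q, hq, hqc⟩ := hp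
            refine ⟨q ≫ M, ?_, M.left.continuous.image_connectedComponent_subset _ ⟨_, hqc, rfl⟩⟩
            rcases hq with h | h
            · left
              rw [Category.assoc, lift_fst, ← Category.assoc, h, ← cancel_mono a, eA, MonObj.one_comp,
                _root_.mul_one, mul_inv_cancel]
            · right
              rw [Category.assoc, lift_snd, ← Category.assoc, h, ← cancel_mono b, eB, MonObj.one_comp,
                _root_.mul_one, mul_inv_cancel]
          obtain ⟨p', hp'⟩ := hlift _ hM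
          refine Subgroup.subset_closure ⟨p', ?_⟩
          show p' ≫ j ≫ c = g * (p ≫ j ≫ c) * g⁻¹
          rw [← Category.assoc, hp', ← Category.assoc p, hc, hc, Category.assoc (p ≫ j) M, lift_fst,
            Category.assoc (p ≫ j) M, lift_snd, ← Category.assoc (p ≫ j) (fst A B),
            ← Category.assoc (p ≫ j) (snd A B), eA, eB]
          simp only [commutatorElement_def]
          group
        | one => rw [_root_.mul_one, mul_inv_cancel]; exact one_mem _
        | mul x y _ _ hx hy =>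
          rw [show g * (x * y) * g⁻¹ = (g * x * g⁻¹) * (g * y * g⁻¹) by group]; exact mul_mem hx hy
        | inv x _ hx => rw [show g * x⁻¹ * g⁻¹ = (g * x * g⁻¹)⁻¹ by group]; exact inv_mem hx⟩
      haveI : (ptHom a).range.Normal := ⟨fun n hn g => by
        obtain ⟨x, rfl⟩ := hn
        obtain ⟨x', hx'⟩ := hna _ g x
        exact ⟨x', hx'.symm⟩⟩
      haveI : (ptHom b).range.Normal := ⟨fun n hn g => by
        obtain ⟨x, rfl⟩ := hn
        obtain ⟨x', hx'⟩ := hnb _ g x
        exact ⟨x', hx'.symm⟩⟩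
      let π : Pt G →* Pt G ⧸ H := QuotientGroup.mk' H
      haveI : ((ptHom a).range.map π).Normal :=
        Subgroup.Normal.map inferInstance π (QuotientGroup.mk'_surjective H)
      haveI : ((ptHom b).range.map π).Normal :=
        Subgroup.Normal.map inferInstance π (QuotientGroup.mk'_surjective H)
      -- congruence on components
      have hcong : ∀ (q q' : Pt (A ⊗ B)), pt q' ∈ connectedComponent (pt q) → π (q' ≫ c) = π (q ≫ c) := by
        intro q q' h
        have hx := (fst A B).left.continuous.image_connectedComponent_subset _ ⟨_, h, rfl⟩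
        have hy := (snd A B).left.continuous.image_connectedComponent_subset _ ⟨_, h, rfl⟩
        rw [← pt_comp, ← pt_comp] at hx hy
        have hu := hgenH _ (q' ≫ snd A B) (lift_mem_axes (inv_mul_mem_component hx) _)
        have hv := hgenH (q ≫ fst A B) _ (lift_mem_axes' (inv_mul_mem_component hy) _)
        rw [← QuotientGroup.eq_one_iff, show ((⁅((q ≫ fst A B)⁻¹ * (q' ≫ fst A B)) ≫ a, (q' ≫ snd A B) ≫ b⁆ : Pt G) :
          Pt G ⧸ H) = π _ from rfl, map_commutatorElement, MonObj.mul_comp, GrpObj.inv_comp, map_mul, map_inv,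
          commutatorElement_eq_one_iff_commute] at hu
        rw [← QuotientGroup.eq_one_iff, show ((⁅(q ≫ fst A B) ≫ a, ((q ≫ snd A B)⁻¹ * (q' ≫ snd A B)) ≫ b⁆ : Pt G) :
          Pt G ⧸ H) = π _ from rfl, map_commutatorElement, MonObj.mul_comp, GrpObj.inv_comp, map_mul, map_inv,
          commutatorElement_eq_one_iff_commute] at hv
        rw [hc, hc, map_commutatorElement, map_commutatorElement]
        calc ⁅π ((q' ≫ fst A B) ≫ a), π ((q' ≫ snd A B) ≫ b)⁆
            = ⁅π ((q ≫ fst A B) ≫ a) * ((π ((q ≫ fst A B) ≫ a))⁻¹ * π ((q' ≫ fst A B) ≫ a)),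
                π ((q' ≫ snd A B) ≫ b)⁆ := by rw [mul_inv_cancel_left]
          _ = ⁅π ((q ≫ fst A B) ≫ a), π ((q' ≫ snd A B) ≫ b)⁆ := comm_mul_left hu _
          _ = ⁅π ((q ≫ fst A B) ≫ a),
                π ((q ≫ snd A B) ≫ b) * ((π ((q ≫ snd A B) ≫ b))⁻¹ * π ((q' ≫ snd A B) ≫ b))⁆ := by
              rw [mul_inv_cancel_left]
          _ = _ := comm_mul_right hv _
      haveI : JacobsonSpace (A ⊗ B).left := LocallyOfFiniteType.jacobsonSpace (A ⊗ B).hom
      haveI : Finite (irreducibleComponents (A ⊗ B).left) :=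
        TopologicalSpace.NoetherianSpace.finite_irreducibleComponents.to_subtype
      have hrep : ∀ Z : irreducibleComponents (A ⊗ B).left, ∃ q : Pt (A ⊗ B), pt q ∈ Z.1 := fun Z => by
        obtain ⟨z, hz, hzc⟩ := nonempty_inter_closedPoints Z.2.1.nonempty
          (isClosed_of_mem_irreducibleComponents _ Z.2).isLocallyClosed
        obtain ⟨q, rfl⟩ := exists_pt hzc
        exact ⟨q, hz⟩
      choose rep hrep using hrep
      have hfinC : ((⁅(ptHom a).range.map π, (ptHom b).range.map π⁆ : Subgroup (Pt G ⧸ H)) :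
          Set (Pt G ⧸ H)).Finite := by
        refine GrpFin87.baer _ _ ((Set.finite_range fun Z => π (rep Z ≫ c)).subset ?_)
        rw [GrpFin87.cset_map]
        rintro _ ⟨_, ⟨_, ⟨x, rfl⟩, _, ⟨y, rfl⟩, rfl⟩, rfl⟩
        refine ⟨⟨_, irreducibleComponent_mem_irreducibleComponents (pt (lift x y))⟩, ?_⟩
        show π (rep _ ≫ c) = π ⁅x ≫ a, y ≫ b⁆
        rw [← hc' x y]
        exact hcong _ _ (isIrreducible_irreducibleComponent.isConnected.isPreconnected.subset_connectedComponent
          mem_irreducibleComponent (hrep ⟨_, irreducibleComponent_mem_irreducibleComponents (pt (lift x y))⟩))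
      rw [← Subgroup.map_commutator, Subgroup.coe_map] at hfinC
      choose u hu using fun w : {w // w ∈ π '' (C : Set (Pt G))} => w.2
      haveI := hfinC.to_subtype
      refine ⟨Set.range u, Set.finite_range u, by rintro _ ⟨w, rfl⟩; exact (hu w).1,
        fun g hg => ⟨u ⟨π g, g, hg, rfl⟩, ⟨_, rfl⟩, ?_⟩⟩
      exact QuotientGroup.eq.1 (hu ⟨π g, g, hg, rfl⟩).2
    · refine ⟨{1}, Set.finite_singleton _, by simp, fun g hg => ⟨1, rfl, ?_⟩⟩
      rw [_root_.inv_one, _root_.one_mul]
      refine (Subgroup.commutator_le.2 ?_) hg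
      rintro _ ⟨x, rfl⟩ _ ⟨y, rfl⟩
      haveI := hA
      exact hgenH x y (lift_mem_axes (by rw [PreconnectedSpace.connectedComponent_eq_univ]; trivial) y)
  obtain ⟨f', hf'⟩ := hf
  refine Set.Subset.antisymm ?_ ?_
  · rintro _ ⟨d, rfl⟩
    let Z : Set G.left := ⋃ u ∈ F, (lam' u⁻¹).left ⁻¹' Set.range i₁.left
    have hZ : IsClosed Z := hFfin.isClosed_biUnion fun u _ =>
      i₁.left.isClosedEmbedding.isClosed_range.preimage (lam' u⁻¹).left.continuous
    have hZC : ∀ g : Pt G, pt g ∈ Z → g ∈ C := fun g hg => by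
      obtain ⟨u, hu, hg⟩ := Set.mem_iUnion₂.1 hg
      rw [Set.mem_preimage, pt_comp_lam, ← hH] at hg
      simpa using mul_mem (hFC hu) (hHC hg)
    refine hZC _ ?_
    obtain ⟨Γ₂, hΓ₂, i₂, hM₂, hci₂, hf₂, -, hr₂, -⟩ := exists_generated c
    obtain ⟨j₂, hj₂⟩ := hmin Γ₂ hΓ₂ i₂ hM₂ hci₂ hf₂
    have hsub : (genSet c : Set G.left) ⊆ Z := by
      refine closure_minimal (Set.iUnion_subset fun l => ?_) hZ
      haveI := locallyOfFiniteType_word (X := A ⊗ B) l.down
      haveI : JacobsonSpace (word (A ⊗ B) l.down).left :=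
        LocallyOfFiniteType.jacobsonSpace (word (A ⊗ B) l.down).hom
      rw [← Set.image_univ, ← closure_closedPoints]
      refine (image_closure_subset_closure_image (wordMap c l.down).left.continuous).trans (closure_minimal ?_ hZ)
      rintro _ ⟨z, hz, rfl⟩
      obtain ⟨q, rfl⟩ := exists_pt hz
      rw [← pt_comp]
      have hq : q ≫ wordMap c l.down ∈ C :=
        (Subgroup.closure_le C).2 (by rintro _ ⟨p, rfl⟩; exact hmemC p) (word_mem_closure c l.down q)
      obtain ⟨u, hu, hg⟩ := hF _ hq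
      refine Set.mem_iUnion₂.2 ⟨u, hu, ?_⟩
      rw [Set.mem_preimage, pt_comp_lam, ← hH]
      exact hg
    refine hsub ?_
    rw [← hr₂]
    exact ⟨(j₂.left) (pt d), by rw [← Points.comp_apply, hj₂, pt_comp]⟩
  · intro g hg
    let S : Subgroup (Pt G) := (ptHom i).range
    have : C ≤ S := Subgroup.commutator_le.2 (by
      rintro _ ⟨x, rfl⟩ _ ⟨y, rfl⟩
      refine ⟨lift x y ≫ f', ?_⟩
      show (lift x y ≫ f') ≫ i = _
      rw [Category.assoc, hf']
      exact hc' x y)
    exact this hg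

end

end Groth.Agent.S6073
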