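import Groth.Statements.S6075
import Groth.Agent.GrpWords.Points

set_option autoImplicit false
universe u
open CategoryTheory CategoryTheory.Limits MonoidalCategory CartesianMonoidalCategory MonObj GrpObj AlgebraicGeometry
open SGA3

namespace Groth.Agent.S6075

/-- Let k be an algebraically closed field, G a group scheme locally of finite type over k, X a
geometrically reduced k-scheme locally of finite type, and f : X → G a k-morphism. Consider the
k-points g of G whose underlying point lies under a word in f: there are a k-scheme T, a point p of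
T, n ≥ 0, T-valued points x_1, …, x_n of X and signs such that the T-valued point f(x_1)^{±1} ⋯
f(x_n)^{±1} of G maps p to the point of g. These k-points form exactly the subgroup of G(k)
generated by the k-points of G whose underlying point lies in the image of f. (Words of length zero
are allowed here, so that the unit is on both sides when X is empty; for nonempty X this changes
nothing, while the published statement, with words of positive length only, fails for empty X.) -/
theorem result (k : Type u) [Field k] [IsAlgClosed k]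
    (G X : Over (Spec (CommRingCat.of k))) [GrpObj G] [LocallyOfFiniteType G.hom]
    [LocallyOfFiniteType X.hom] [GeometricallyReduced X.hom] (f : X ⟶ G) :
    {g : 𝟙_ (Over (Spec (CommRingCat.of k))) ⟶ G | ∃ (n : ℕ) (T : Over (Spec (CommRingCat.of k))) (p : T.left) (p₀ : (𝟙_ (Over (Spec (CommRingCat.of k)))).left)
        (x : Fin n → (T ⟶ X)) (ε : Fin n → Bool), ((List.ofFn fun j : Fin n => if ε j then x j ≫ f else (x j ≫ f)⁻¹).prod : T ⟶ G).left.base p = g.left.base p₀} =
      ((Subgroup.closure {g : 𝟙_ (Over (Spec (CommRingCat.of k))) ⟶ G | ∃ p₀ : (𝟙_ (Over (Spec (CommRingCat.of k)))).left, g.left.base p₀ ∈ Set.range f.left.base} :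
        Subgroup (𝟙_ (Over (Spec (CommRingCat.of k))) ⟶ G)) : Set (𝟙_ (Over (Spec (CommRingCat.of k))) ⟶ G)) := by
  let K := 𝟙_ (Over (Spec (CommRingCat.of k)))
  let gen : Set (K ⟶ G) := {g | ∃ p₀ : K.left, g.left.base p₀ ∈ Set.range f.left.base}
  refine Set.Subset.antisymm ?_ ?_
  · rintro g ⟨n, T, p, p₀, x, ε, hg⟩
    obtain ⟨ε', hε'⟩ := (GrpWords.mem_words_iff f n _).1 ⟨T, p, x, ε, hg⟩
    have : LocallyOfFiniteType (GrpWords.pow X n).hom := by
      clear hg hε' x ε ε'
      induction n with
      | zero => exact inferInstanceAs (LocallyOfFiniteType (𝟙 _))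
      | succ n ih => exact inferInstanceAs (LocallyOfFiniteType (X ⊗ GrpWords.pow X n).hom)
    obtain ⟨z, rfl⟩ := GrpWords.exists_point (GrpWords.wordPow f n ε') g p₀ hε'
    rw [GrpWords.wordPow, GrpWords.comp_word]
    refine Subgroup.list_prod_mem _ fun e he => ?_
    obtain ⟨j, rfl⟩ := List.mem_ofFn.mp he
    have hj : ((z ≫ GrpWords.proj X n j) ≫ f) ∈ Subgroup.closure gen :=
      Subgroup.subset_closure ⟨p₀, (z ≫ GrpWords.proj X n j).left.base p₀, rfl⟩
    by_cases hb : ε' j = true
    · dsimp only
      rw [if_pos hb]
      exact hj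
    · dsimp only
      rw [if_neg hb]
      exact inv_mem hj
  · intro g hg
    suffices h : ∃ l : List ((K ⟶ X) × Bool),
        (l.map fun a => if a.2 then a.1 ≫ f else (a.1 ≫ f)⁻¹).prod = g by
      obtain ⟨l, rfl⟩ := h
      have p₀ : K.left := IsLocalRing.closedPoint k
      refine ⟨l.length, K, p₀, p₀, fun j => (l.get j).1, fun j => (l.get j).2, ?_⟩
      simp only [List.get_eq_getElem]
      rw [← List.ofFn_getElem_eq_map]
    induction hg using Subgroup.closure_induction with
    | mem a ha =>
      obtain ⟨p₀, hp⟩ := ha
      obtain ⟨x, rfl⟩ := GrpWords.exists_point f a p₀ hp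
      exact ⟨[(x, true)], by simp⟩
    | one => exact ⟨[], rfl⟩
    | mul a b _ _ h1 h2 =>
      obtain ⟨l1, rfl⟩ := h1
      obtain ⟨l2, rfl⟩ := h2
      exact ⟨l1 ++ l2, by simp⟩
    | inv a _ h1 =>
      obtain ⟨l1, rfl⟩ := h1
      refine ⟨(l1.map fun a => (a.1, !a.2)).reverse, ?_⟩
      rw [List.prod_inv_reverse, List.map_reverse, List.map_map, List.map_map]
      congr 2
      refine List.map_congr_left fun a _ => ?_
      rcases a.2.eq_false_or_eq_true with hb | hb <;> simp [hb]

end Groth.Agent.S6075
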