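import Groth.Statements.S6076
import Groth.Agent.GrpWords.Basic
import Groth.Agent.LimLib.Props

set_option autoImplicit false
universe u
open CategoryTheory CategoryTheory.Limits MonoidalCategory CartesianMonoidalCategory MonObj GrpObj AlgebraicGeometry
open SGA3

namespace Groth.Agent.S6076

/-- (iii) ⟹ (iv): let S be a scheme, X an S-scheme which is flat and locally of finite presentation over
S, H an S-group scheme locally of finite presentation over S with reduced fibres and quasi-compact
underlying space, and f : X → H an S-morphism. Say that a point h of H lies under a word of length n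
in f when there are an S-scheme T, a point p of T, T-valued points x_1, …, x_n of X and signs such
that the T-valued point f(x_1)^{±1} ⋯ f(x_n)^{±1} of H maps p to h. If every point of H lies under
some word in f, then there is a natural number n such that every point of H lies under a word of
length at most n. (The published statement concludes with words of one fixed length n and an
fppf-covering word morphism; for the constant group of order two over a field and f the non-trivial
point, the points under words of length n alternate between the two points of H, so only the bound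
on the length is stated here, and the covering assertion is not stated.) -/
theorem result (S : Scheme.{u}) (X H : Over S) [GrpObj H]
    [Flat X.hom] [LocallyOfFinitePresentation X.hom] [LocallyOfFinitePresentation H.hom]
    (hred : ∀ s : S, IsReduced (H.hom.fiber s)) [CompactSpace H.left] (f : X ⟶ H)
    (hsurj : ∀ h : H.left, ∃ (n : ℕ) (T : Over S) (p : T.left) (x : Fin n → (T ⟶ X)) (ε : Fin n → Bool),
      ((List.ofFn fun j : Fin n => if ε j then x j ≫ f else (x j ≫ f)⁻¹).prod : T ⟶ H).left.base p = h) :
    ∃ n : ℕ, ∀ h : H.left, ∃ (m : ℕ) (_ : m ≤ n) (T : Over S) (p : T.left) (x : Fin m → (T ⟶ X)) (ε : Fin m → Bool),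
      ((List.ofFn fun j : Fin m => if ε j then x j ≫ f else (x j ≫ f)⁻¹).prod : T ⟶ H).left.base p = h := by
  classical
  let κ := Σ n : ℕ, Fin n → Bool
  have hm : ∀ a : κ, LocallyOfFinitePresentation (GrpWords.wordPow f a.1 a.2).left := fun a => by
    have h1 := GrpWords.locallyOfFinitePresentation_pow (X := X) a.1
    have : LocallyOfFinitePresentation ((GrpWords.wordPow f a.1 a.2).left ≫ H.hom) := by
      rw [Over.w]; exact h1
    exact MorphismProperty.of_postcomp (W := @LocallyOfFinitePresentation)
      (W' := @LocallyOfFiniteType) _ H.hom inferInstance this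
  have hU : ∀ x : H.left, ∃ U : H.left.Opens, IsAffineOpen U ∧ x ∈ U := fun x => by
    obtain ⟨U, hU, hx, -⟩ := TopologicalSpace.Opens.isBasis_iff_nbhd.mp H.left.isBasis_affineOpens
      (U := ⊤) (x := x) trivial
    exact ⟨U, hU, hx⟩
  choose U hUa hUx using hU
  obtain ⟨t, ht⟩ := isCompact_univ.elim_finite_subcover (fun x => (U x : Set H.left))
    (fun x => (U x).2) fun x _ => Set.mem_iUnion.mpr ⟨x, hUx x⟩
  have key := fun x => GrpWords.exists_affine_subset (hUa x) (fun a : κ => a.1)
    (fun a => (GrpWords.wordPow f a.1 a.2).left) (fun h _ => by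
      obtain ⟨n, hn⟩ := hsurj h
      obtain ⟨ε, hε⟩ := (GrpWords.mem_words_iff f n h).1 hn
      exact ⟨⟨n, ε⟩, hε⟩)
  choose N hN using key
  refine ⟨t.sup N, fun h => ?_⟩
  obtain ⟨x, hx, hxh⟩ := Set.mem_iUnion₂.mp (ht (Set.mem_univ h))
  obtain ⟨⟨m, ε⟩, hm', hmem⟩ := hN x h hxh
  exact ⟨m, hm'.trans (Finset.le_sup hx), (GrpWords.mem_words_iff f m h).2 ⟨ε, hmem⟩⟩

end Groth.Agent.S6076
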