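import Groth.Statements.S6082
import Groth.Agent.ComodRes.Basic

set_option autoImplicit false
universe u
open TensorProduct
open SGA3

namespace Groth.Agent.S6082

open Groth.Agent.ComodRes

theorem step (R : Type u) [CommRing R] [IsRegularRing R] (hdim : ringKrullDim R ≤ 2)
    (C : Type u) [AddCommGroup C] [Module R C] [Coalgebra R C] [Module.Projective R C]
    (F : Type u) [AddCommGroup F] [Module R F] [HopfRep.Comod R C F] [Module.Finite R F]
    (P1 : Type u) [AddCommGroup P1] [Module R P1] [Module.Projective R P1] (j : F →ₗ[R] P1)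
    (hj : Function.Injective j) :
    ∃ (V : Type u) (_ : AddCommGroup V) (_ : Module R V) (_ : HopfRep.Comod R C V) (φ : V →ₗ[R] F),
      Module.Finite R V ∧ Module.Projective R V ∧ Function.Surjective φ ∧
      HopfRep.Comod.coact (k := R) (A := C) ∘ₗ φ =
        φ.rTensor C ∘ₗ HopfRep.Comod.coact (k := R) (A := C) (V := V) := by
  classical
  obtain ⟨n, π, hπ⟩ := Module.Finite.exists_fin' R F
  obtain ⟨s, hs⟩ := Module.Finite.fg_top (R := R) (M := F)
  choose z hz using exists_lift (C := C) π hπ
  haveI : Module.Projective R (Hoch.Ind R C (Fin n → R)) :=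
    inferInstanceAs (Module.Projective R ((Fin n → R) ⊗[R] C))
  let e := (Hoch.Ind.equiv R C (Fin n → R)).toLinearMap
  let g : Hoch.Ind R C (Fin n → R) →ₗ[R] P1 ⊗[R] C :=
    j.rTensor C ∘ₗ liftMap π ∘ₗ (Hoch.Ind.equiv R C (Fin n → R)).symm.toLinearMap
  have hjC := Module.Flat.rTensor_preserves_injective_linearMap (M := C) j hj
  have hg : ∀ x, g x = 0 ↔ liftMap π ((Hoch.Ind.equiv R C (Fin n → R)).symm x) = 0 :=
    fun x => ⟨fun h => hjC (h.trans (map_zero _).symm), fun h => (congrArg _ h).trans (map_zero _)⟩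
  have hsub : HopfRep.IsSubcomod (k := R) (A := C) (LinearMap.ker g) := by
    refine isSubcomod_ker_of_comp (C := C) (W := P1 ⊗[R] C) g fun x hx => ?_
    have h := liftMap_coact π ((Hoch.Ind.equiv R C (Fin n → R)).symm x) ((hg x).1 hx)
    rw [show g = j.rTensor C ∘ₗ (liftMap π ∘ₗ (Hoch.Ind.equiv R C (Fin n → R)).symm.toLinearMap) from rfl,
      LinearMap.rTensor_comp, LinearMap.comp_apply]
    exact (congrArg _ h).trans (map_zero _)
  obtain ⟨V, hV, hMV, hVg, hfin, hproj⟩ := exists_projective_subcomod hdim g hsub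
    (Submodule.span R ((s.image fun v => e (z v) : Finset _) : Set _))
    (Submodule.fg_span (Finset.finite_toSet _)) (by
      rw [Submodule.span_le]
      intro x hx
      obtain ⟨v, -, rfl⟩ := Finset.mem_image.mp hx
      exact (hg _).2 (hz v).1)
  let p : Hoch.Ind R C (Fin n → R) →ₗ[R] F :=
    liftProj π ∘ₗ (Hoch.Ind.equiv R C (Fin n → R)).symm.toLinearMap
  let φ : V →ₗ[R] F := p ∘ₗ V.subtype
  let cI : HopfRep.Comod R C (Hoch.Ind R C (Fin n → R)) := inferInstance
  refine ⟨V, inferInstance, inferInstance, ComodSub.Comod.restr cI V hV, φ, hfin, hproj, ?_, ?_⟩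
  · rw [← LinearMap.range_eq_top, eq_top_iff, ← hs, Submodule.span_le]
    intro v hv
    exact ⟨⟨e (z v), hMV (Submodule.subset_span (Finset.mem_image_of_mem _ hv))⟩, (hz v).2⟩
  · refine LinearMap.ext fun x => ?_
    simp only [φ, LinearMap.comp_apply]
    rw [LinearMap.rTensor_comp, LinearMap.comp_apply]
    change _ = p.rTensor C (V.subtype.rTensor C (ComodSub.restrCoact cI V hV x))
    rw [ComodSub.rTensor_subtype_restrCoact cI V hV x]
    exact (liftProj_coact π ((Hoch.Ind.equiv R C (Fin n → R)).symm x.1) ((hg _).1 (hVg x.2))).symm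


/-- Let R be a Noetherian regular ring of Krull dimension at most 2, C a (coassociative, counital)
R-coalgebra which is projective as an R-module, and F a right C-comodule which is finitely generated
as an R-module. Then F is a quotient of a C-comodule which is finitely generated and projective as
an R-module: there are such a comodule V and a surjective R-linear map V → F compatible with the
coactions. -/
theorem result (R : Type u) [CommRing R] [IsRegularRing R]
    (hdim : ringKrullDim R ≤ 2) (C : Type u) [AddCommGroup C] [Module R C] [Coalgebra R C] [Module.Projective R C]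
    (F : Type u) [AddCommGroup F] [Module R F] [HopfRep.Comod R C F] [Module.Finite R F] :
    ∃ (V : Type u) (_ : AddCommGroup V) (_ : Module R V) (_ : HopfRep.Comod R C V) (φ : V →ₗ[R] F),
      Module.Finite R V ∧ Module.Projective R V ∧ Function.Surjective φ ∧ HopfRep.Comod.coact (k := R) (A := C) ∘ₗ φ = φ.rTensor C ∘ₗ HopfRep.Comod.coact (k := R) (A := C) (V := V) := by
  classical
  obtain ⟨n, π, hπ⟩ := Module.Finite.exists_fin' R F
  obtain ⟨s, hs⟩ := Module.Finite.fg_top (R := R) (M := F)
  choose z hz using exists_lift (C := C) π hπ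
  haveI : Module.Projective R (Hoch.Ind R C (Fin n → R)) :=
    inferInstanceAs (Module.Projective R ((Fin n → R) ⊗[R] C))
  let e := (Hoch.Ind.equiv R C (Fin n → R))
  let g : Hoch.Ind R C (Fin n → R) →ₗ[R] F ⊗[R] C := liftMap π ∘ₗ e.symm.toLinearMap
  have hsub : HopfRep.IsSubcomod (k := R) (A := C) (LinearMap.ker g) :=
    isSubcomod_ker_of_comp (C := C) (W := F ⊗[R] C) g fun x hx => liftMap_coact π (e.symm x) hx
  let cI : HopfRep.Comod R C (Hoch.Ind R C (Fin n → R)) := inferInstance
  letI cK := ComodSub.Comod.restr cI (LinearMap.ker g) hsub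
  obtain ⟨W, hW, hMW, hWfg⟩ := Groth.Agent.SubHopf.exists_fg_subcomod (R := R) (C := C)
    (V := LinearMap.ker g)
    (Submodule.span R ((s.image fun v => (⟨e (z v), (hz v).1⟩ : LinearMap.ker g) : Finset _) : Set _))
    (Submodule.fg_span (Finset.finite_toSet _))
  haveI : Module.Finite R W := Module.Finite.iff_fg.mpr hWfg
  letI cW := ComodSub.Comod.restr cK W hW
  obtain ⟨V, i1, i2, i3, ψ, hVf, hVp, hψ, hψc⟩ := step R hdim C W (Hoch.Ind R C (Fin n → R))
    ((LinearMap.ker g).subtype ∘ₗ W.subtype)
    ((LinearMap.ker g).injective_subtype.comp W.injective_subtype)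
  let φ : W →ₗ[R] F := (liftProj π ∘ₗ e.symm.toLinearMap) ∘ₗ (LinearMap.ker g).subtype ∘ₗ W.subtype
  have hφs : Function.Surjective φ := by
    rw [← LinearMap.range_eq_top, eq_top_iff, ← hs, Submodule.span_le]
    intro v hv
    exact ⟨⟨⟨e (z v), (hz v).1⟩, hMW (Submodule.subset_span (Finset.mem_image_of_mem _ hv))⟩, (hz v).2⟩
  have hφc : ∀ x, HopfRep.Comod.coact (k := R) (A := C) (φ x) =
      φ.rTensor C (HopfRep.Comod.coact (k := R) (A := C) x) := fun x => by
    simp only [φ, LinearMap.rTensor_comp, LinearMap.comp_apply]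
    rw [show W.subtype.rTensor C (HopfRep.Comod.coact (k := R) (A := C) x) =
        ComodSub.restrCoact cI (LinearMap.ker g) hsub x.1 from
        ComodSub.rTensor_subtype_restrCoact cK W hW x,
      ComodSub.rTensor_subtype_restrCoact cI _ hsub]
    refine (liftProj_coact π (e.symm x.1.1) x.1.2).symm.trans (congrArg ((liftProj π).rTensor C) ?_)
    exact (LinearMap.rTensor_id_apply C ((Fin n → R) ⊗[R] C) _).symm
  refine ⟨V, i1, i2, i3, φ ∘ₗ ψ, hVf, hVp, hφs.comp hψ, LinearMap.ext fun x => ?_⟩
  have h := LinearMap.congr_fun hψc x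
  simp only [LinearMap.comp_apply] at h ⊢
  rw [hφc, h, ← LinearMap.comp_apply, ← LinearMap.rTensor_comp]

end Groth.Agent.S6082
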