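import Groth.Statements.S6083
import Groth.Agent.EquidimPt.UnivOpenAffine
-- import your own Groth.Agent.* helpers here

set_option autoImplicit false
universe u
open CategoryTheory CategoryTheory.Limits MonoidalCategory CartesianMonoidalCategory MonObj GrpObj AlgebraicGeometry
open SGA3

namespace Groth.Agent.S6083

open AlgebraicGeometry CategoryTheory Groth.Agent

/-- Let f : X → S be a morphism locally of finite presentation, s a point of S, x a point of the fibre
X_s = f⁻¹(s), n the local dimension of X_s at x, q : 𝔸^n_S → S the affine n-space over S and u : X →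
𝔸^n_S a locally quasi-finite morphism with u q = f. Suppose that f is universally open at the
generic point z of an irreducible component Z of X_s which contains x and has dimension n. Then u is
universally open at x. -/
theorem result (X S : Scheme.{u}) (f : X ⟶ S) [LocallyOfFinitePresentation f]
    (s : S) (x : X) (hxs : f.base x = s) (n : ℕ)
    (u : X ⟶ 𝔸(ULift.{u} (Fin n); S)) [LocallyQuasiFinite u] (hu : u ≫ (𝔸(ULift.{u} (Fin n); S) ↘ S) = f)
    (Z : Set ↥(f.base ⁻¹' {s})) (hZ : Z ∈ irreducibleComponents ↥(f.base ⁻¹' {s})) (hxZ : x ∈ (Subtype.val '' Z))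
    (z : X) (hz : z ∈ Subtype.val '' Z ∧ Subtype.val '' Z ⊆ closure {z}) (hopen : EGA43.IsUnivOpenAt f z)
    (hdimZ : topologicalKrullDim ↥Z = n) (hdimx : FlatMor.localDim ↥(f.base ⁻¹' {s}) ⟨x, hxs⟩ = n) :
    EGA43.IsUnivOpenAt u x := by
  obtain ⟨⟨z₀, hz₀, rfl⟩, hZz⟩ := hz
  obtain ⟨x₀, hx₀, rfl⟩ := hxZ
  have hfz : f z₀.1 = s := z₀.2
  have hzx : z₀.1 ⤳ x₀.1 := specializes_iff_mem_closure.2 (hZz ⟨x₀, hx₀, rfl⟩)
  have hclosed : IsClosed Z := isClosed_of_mem_irreducibleComponents Z hZ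
  have hval : Subtype.val '' Z = closure {z₀.1} ∩ f ⁻¹' {f z₀.1} := by
    refine Set.Subset.antisymm (fun v hv => ⟨hZz hv, ?_⟩) ?_
    · obtain ⟨v₀, -, rfl⟩ := hv
      exact v₀.2.trans hfz.symm
    · rintro v ⟨hv, hfv⟩
      refine ⟨⟨v, hfv.trans hfz⟩, ?_, rfl⟩
      have hsp : z₀ ⤳ (⟨v, hfv.trans hfz⟩ : ↥(f.base ⁻¹' {s})) :=
        (subtype_specializes_iff _ _).2 (specializes_iff_mem_closure.2 hv)
      exact hsp.mem_closed hclosed hz₀
  have hzmax : ∀ w, f w = f z₀.1 → w ⤳ z₀.1 → w = z₀.1 := by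
    intro w hw hwz
    let w₀ : ↥(f.base ⁻¹' {s}) := ⟨w, hw.trans hfz⟩
    have hsub : Z ⊆ closure {w₀} := fun v hv => specializes_iff_mem_closure.1
      ((subtype_specializes_iff _ _).2 (hwz.trans (specializes_iff_mem_closure.2 (hZz ⟨v, hv, rfl⟩))))
    have hmem : w₀ ∈ Z := (hZ.2 isIrreducible_singleton.closure hsub) (subset_closure rfl)
    exact ((hwz.antisymm (specializes_iff_mem_closure.2 (hZz ⟨w₀, hmem, rfl⟩))).eq)
  have hzdim : FlatMor.fibreDimAt f z₀.1 = n := by
    obtain ⟨a, t, -, ha, ht, -, hfd⟩ := EquidimPt.fibre_facts f z₀.1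
    rw [EquidimPt.dim_zero_of_fMax f (fun w hw hfw => hzmax w hfw hw)] at ha
    rw [hfd, show a = 0 from Nat.cast_eq_zero.mp ha.symm, zero_add, ← ht,
      ← FibSemi.topDim_closure_inter_fibre_eq, ← hval, ← hdimZ]
    exact IsHomeomorph.topologicalKrullDim_eq _
      (Topology.IsEmbedding.subtypeVal.homeomorphImage Z).symm.isHomeomorph
  exact EquidimPt.isUnivOpenAt_affineSpace f u hu hzx (hfz.trans x₀.2.symm) hzmax hzdim hopen

end Groth.Agent.S6083
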