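import Groth.Statements.S6085
import Groth.Agent.LimGrp.PreGrp

set_option autoImplicit false
universe u
open CategoryTheory CategoryTheory.Limits MonoidalCategory CartesianMonoidalCategory MonObj GrpObj AlgebraicGeometry
open SGA3

namespace Groth.Agent.S6085

open Groth.Agent.LimGrp

theorem isMonHom_inv' {C : Type*} [Category C] [MonoidalCategory C] {M N : C} [MonObj M] [MonObj N]
    (f : M ≅ N) (h : IsMonHom f.hom) : IsMonHom f.inv := inferInstance

theorem refine_stage {I : Type u} [SmallCategory I] {D : I ⥤ Scheme.{u}} {c : Cone D} {i j k : I}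
    (a : j ⟶ i) (b : k ⟶ j) {X Y : Over (D.obj i)}
    {u : Red.bc (c.π.app i) X ⟶ Red.bc (c.π.app i) Y} {v : Red.bc (D.map a) X ⟶ Red.bc (D.map a) Y}
    (hv : (Over.pullback (c.π.app j)).map v ≫ (cmp (c.w a) Y).hom = (cmp (c.w a) X).hom ≫ u) :
    ∃ v' : Red.bc (D.map (b ≫ a)) X ⟶ Red.bc (D.map (b ≫ a)) Y,
      (Over.pullback (c.π.app k)).map v' ≫ (cmp (c.w (b ≫ a)) Y).hom =
        (cmp (c.w (b ≫ a)) X).hom ≫ u := by
  refine ⟨(cmp (D.map_comp b a).symm X).inv ≫ (Over.pullback (D.map b)).map v ≫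
    (cmp (D.map_comp b a).symm Y).hom, ?_⟩
  simp only [(Over.pullback (c.π.app k)).map_comp, Category.assoc]
  rw [cmp_assoc (D.map_comp b a).symm (c.w b) (c.w (b ≫ a)) (c.w a) Y,
    reassoc_of% cmp_natural (c.w b) v, hv,
    ← reassoc_of% cmp_assoc (D.map_comp b a).symm (c.w b) (c.w (b ≫ a)) (c.w a) X,
    ← reassoc_of% ((Over.pullback (c.π.app k)).map_comp (cmp (D.map_comp b a).symm X).inv
      (cmp (D.map_comp b a).symm X).hom), Iso.inv_hom_id, CategoryTheory.Functor.map_id,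
    Category.id_comp]


/-- Let S be the limit of a cofiltered system (S_i) of quasi-compact quasi-separated schemes with affine
transition morphisms, and let G be an S-group scheme of finite presentation over S. Then there are
an index j, an S_j-group scheme G_j of finite presentation over S_j and an isomorphism of S-group
schemes (an isomorphism over S which is a homomorphism) from G to G_j ×_{S_j} S. (The published
setting takes all S_i affine over a fixed quasi-compact quasi-separated S_0; this row allows any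
cofiltered system of quasi-compact quasi-separated schemes with affine transition morphisms.) -/
theorem result {I : Type u} [SmallCategory I] [IsCofiltered I]
    (D : I ⥤ Scheme.{u}) (c : Limits.Cone D) (hc : Limits.IsLimit c)
    [∀ (i i' : I) (f : i ⟶ i'), IsAffineHom (D.map f)] [∀ i, CompactSpace (D.obj i)] [∀ i, QuasiSeparatedSpace (D.obj i)]
    (G : Over c.pt) [GrpObj G] [LocallyOfFinitePresentation G.hom] [QuasiCompact G.hom] [QuasiSeparated G.hom] :
    ∃ (j : I) (Gj : Over (D.obj j)) (_ : GrpObj Gj) (e : G ≅ Red.bc (c.π.app j) Gj),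
      IsMonHom e.hom ∧ LocallyOfFinitePresentation Gj.hom ∧ QuasiCompact Gj.hom ∧ QuasiSeparated Gj.hom := by
  have hπ : ∀ i, IsAffineHom (c.π.app i) := fun i => isAffineHom_π_app _ _ hc i
  have : CompactSpace c.pt := Scheme.compactSpace_of_isLimit _ _ hc
  have : QuasiSeparatedSpace c.pt :=
    quasiSeparatedSpace_of_quasiSeparated (c.π.app (IsCofiltered.nonempty (C := I)).some)
  have : CompactSpace G.left := QuasiCompact.compactSpace_of_compactSpace G.hom
  have : QuasiSeparatedSpace G.left := quasiSeparatedSpace_of_quasiSeparated G.hom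
  obtain ⟨i, Xi, fi, q, g1, g2, g3, hq⟩ := LimLib.hasModel hc G.hom
  let G0 : Over (D.obj i) := Over.mk fi
  have : LocallyOfFinitePresentation G0.hom := g1
  have : CompactSpace G0.left := g2
  have : QuasiSeparatedSpace G0.left := g3
  have : QuasiCompact G0.hom := quasiCompact_of_compactSpace _
  have : QuasiSeparated G0.hom := QuasiSeparated.of_quasiSeparatedSpace _
  let e : G ≅ Red.bc (c.π.app i) G0 := Over.isoMk hq.isoPullback hq.isoPullback_hom_snd
  letI : GrpObj (Red.bc (c.π.app i) G0) := GrpObj.ofIso e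
  have he : IsMonHom e.hom := inferInstance
  let F := Over.pullback (c.π.app i)
  -- the three operations at a common stage
  obtain ⟨j1, a1, v1, hv1⟩ := exists_stage_hom hc (G0 ⊗ G0) G0
    (Functor.OplaxMonoidal.δ F G0 G0 ≫ μ[Red.bc (c.π.app i) G0])
  have : QuasiCompact (𝟙_ (Over (D.obj i))).hom := inferInstanceAs (QuasiCompact (𝟙 _))
  have : QuasiSeparated (𝟙_ (Over (D.obj i))).hom := inferInstanceAs (QuasiSeparated (𝟙 _))
  obtain ⟨j2, a2, v2, hv2⟩ := exists_stage_hom hc (𝟙_ _) G0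
    (Functor.OplaxMonoidal.η F ≫ η[Red.bc (c.π.app i) G0])
  obtain ⟨j3, a3, v3, hv3⟩ := exists_stage_hom hc G0 G0 (GrpObj.inv (X := Red.bc (c.π.app i) G0))
  obtain ⟨j4, p1, p2, hp⟩ := IsCofiltered.cospan a1 a2
  obtain ⟨k, r4, r3, hr⟩ := IsCofiltered.cospan (p1 ≫ a1) a3
  obtain ⟨a, ha1, ha2, ha3⟩ : ∃ a : k ⟶ i, a = (r4 ≫ p1) ≫ a1 ∧ a = (r4 ≫ p2) ≫ a2 ∧ a = r3 ≫ a3 :=
    ⟨_, rfl, by rw [Category.assoc, Category.assoc, hp], by rw [Category.assoc, hr]⟩
  obtain ⟨m, hm⟩ : ∃ v' : Red.bc (D.map a) (G0 ⊗ G0) ⟶ Red.bc (D.map a) G0, _ :=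
    ha1 ▸ refine_stage a1 (r4 ≫ p1) hv1
  obtain ⟨o, ho⟩ : ∃ v' : Red.bc (D.map a) (𝟙_ _) ⟶ Red.bc (D.map a) G0, _ :=
    ha2 ▸ refine_stage a2 (r4 ≫ p2) hv2
  obtain ⟨n, hn⟩ : ∃ v' : Red.bc (D.map a) G0 ⟶ Red.bc (D.map a) G0, _ :=
    ha3 ▸ refine_stage a3 r3 hv3
  let Fa := Over.pullback (D.map a)
  let Gk := Red.bc (D.map a) G0
  let one : 𝟙_ _ ⟶ Gk := Functor.LaxMonoidal.ε Fa ≫ o
  let mul : Gk ⊗ Gk ⟶ Gk := Functor.LaxMonoidal.μ Fa G0 G0 ≫ m
  letI iG : GrpObj (Red.bc (c.π.app k) Gk) := GrpObj.ofIso (cmp (c.w a) G0).symm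
  have hone : η[Red.bc (c.π.app k) Gk] =
      Functor.LaxMonoidal.ε (Over.pullback (c.π.app k)) ≫ (Over.pullback (c.π.app k)).map one := by
    change η[Red.bc (c.π.app i) G0] ≫ (cmp (c.w a) G0).inv = _
    rw [Iso.comp_inv_eq, Category.assoc, Functor.map_comp, Category.assoc, ho,
      reassoc_of% unit_cmp (c.w a), Functor.Monoidal.ε_η_assoc]
  have hmul : μ[Red.bc (c.π.app k) Gk] =
      Functor.LaxMonoidal.μ (Over.pullback (c.π.app k)) Gk Gk ≫
        (Over.pullback (c.π.app k)).map mul := by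
    change ((cmp (c.w a) G0).hom ⊗ₘ (cmp (c.w a) G0).hom) ≫ μ[Red.bc (c.π.app i) G0] ≫
      (cmp (c.w a) G0).inv = _
    rw [← Category.assoc, Iso.comp_inv_eq, Category.assoc, Functor.map_comp, Category.assoc, hm,
      reassoc_of% tensor_cmp (c.w a), Functor.Monoidal.μ_δ_assoc]
  have hinv : GrpObj.inv (X := Red.bc (c.π.app k) Gk) = (Over.pullback (c.π.app k)).map n := by
    change (cmp (c.w a) G0).hom ≫ GrpObj.inv (X := Red.bc (c.π.app i) G0) ≫
      (cmp (c.w a) G0).inv = _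
    rw [← Category.assoc, Iso.comp_inv_eq, hn]
  have hL : LawsAt (Over.pullback (c.π.app k)) one mul n := lawsAt_of_grpObj hone hmul hinv
  have : QuasiCompact (𝟙_ (Over (D.obj k))).hom := inferInstanceAs (QuasiCompact (𝟙 _))
  have : QuasiSeparated (𝟙_ (Over (D.obj k))).hom := inferInstanceAs (QuasiSeparated (𝟙 _))
  obtain ⟨l, b, h1, h2, h3, h4, h5⟩ := ((desc_eqAt hc _ _).and ((desc_eqAt hc _ _).and
    ((desc_eqAt hc _ _).and ((desc_eqAt hc _ _).and (desc_eqAt hc _ _))))).descends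
      ⟨hL.one_mul, hL.mul_one, hL.mul_assoc, hL.left_inv, hL.right_inv⟩
  letI iL : GrpObj (Red.bc (D.map b) Gk) := LawsAt.grpObj ⟨h1, h2, h3, h4, h5⟩
  have hcl : IsMonHom (cmp (c.w b) Gk).hom := by
    refine isMonHom_of_mul ?_
    rw [hmul, Functor.obj.μ_def]
    change (_ ≫ (Over.pullback (c.π.app l)).map (Functor.LaxMonoidal.μ (Over.pullback (D.map b)) Gk Gk ≫
      (Over.pullback (D.map b)).map mul)) ≫ _ = _
    rw [Category.assoc, Functor.map_comp, Category.assoc, cmp_natural (c.w b) mul,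
      reassoc_of% tensor_cmp (c.w b)]
  have hci : IsMonHom (cmp (c.w a) G0).symm.hom := inferInstance
  exact ⟨l, Red.bc (D.map b) Gk, iL, e ≪≫ (cmp (c.w a) G0).symm ≪≫ (cmp (c.w b) Gk).symm,
    (by
      have q1 : IsMonHom (cmp (c.w a) G0).inv := hci
      have q2 : IsMonHom (cmp (c.w b) Gk).inv := isMonHom_inv' _ hcl
      exact @instIsMonHomComp _ _ _ _ _ _ _ _ _ _ _ he
        (@instIsMonHomComp _ _ _ _ _ _ _ _ _ _ _ q1 q2)),
    inferInstance, inferInstance, inferInstance⟩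

end Groth.Agent.S6085
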