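import Groth.Statements.S6086
import Groth.Agent.LimGrp.Stage

set_option autoImplicit false
universe u
open CategoryTheory CategoryTheory.Limits MonoidalCategory CartesianMonoidalCategory MonObj GrpObj AlgebraicGeometry
open SGA3

namespace Groth.Agent.S6086

/-- Let S be the limit of a cofiltered system (S_i) of quasi-compact quasi-separated schemes with affine
transition morphisms, j an index and G_j, H_j two S_j-group schemes of finite presentation over S_j;
for i over j write G_i, H_i for the base changes to S_i and G, H for the base changes to S. Then the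
canonical map colim_i Hom_{S_i-gr}(G_i, H_i) → Hom_{S-gr}(G, H) is bijective: (surjectivity) every
homomorphism u : G → H of S-group schemes is, up to the canonical identifications (G_i) ×_{S_i} S ≅
G and (H_i) ×_{S_i} S ≅ H, the base change of a homomorphism u_i : G_i → H_i for some index i over
j; (injectivity) two homomorphisms G_i → H_i whose base changes to S coincide already coincide after
base change to S_{i'} for some index i' over i. (The published setting takes all S_i affine over a
fixed quasi-compact quasi-separated S_0; this row allows any cofiltered system of quasi-compact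
quasi-separated schemes with affine transition morphisms.) -/
theorem result {I : Type u} [SmallCategory I] [IsCofiltered I]
    (D : I ⥤ Scheme.{u}) (c : Limits.Cone D) (hc : Limits.IsLimit c)
    [∀ (i i' : I) (f : i ⟶ i'), IsAffineHom (D.map f)] [∀ i, CompactSpace (D.obj i)] [∀ i, QuasiSeparatedSpace (D.obj i)]
    (j : I) (Gj Hj : Over (D.obj j)) [GrpObj Gj] [GrpObj Hj]
    [LocallyOfFinitePresentation Gj.hom] [QuasiCompact Gj.hom] [QuasiSeparated Gj.hom]
    [LocallyOfFinitePresentation Hj.hom] [QuasiCompact Hj.hom] [QuasiSeparated Hj.hom] :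
    (∀ (u : Red.bc (c.π.app j) Gj ⟶ Red.bc (c.π.app j) Hj), IsMonHom u →
      ∃ (i : I) (f : i ⟶ j) (ui : Red.bc (D.map f) Gj ⟶ Red.bc (D.map f) Hj), IsMonHom ui ∧
        (Over.pullback (c.π.app i)).map ui = (((Over.pullbackComp (c.π.app i) (D.map f)).app Gj).symm ≪≫ eqToIso (congrArg (fun g => Red.bc g Gj) (c.w f))).hom ≫ u ≫ (((Over.pullbackComp (c.π.app i) (D.map f)).app Hj).symm ≪≫ eqToIso (congrArg (fun g => Red.bc g Hj) (c.w f))).inv) ∧
    (∀ (i : I) (f : i ⟶ j) (u₁ u₂ : Red.bc (D.map f) Gj ⟶ Red.bc (D.map f) Hj), IsMonHom u₁ → IsMonHom u₂ →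
      (Over.pullback (c.π.app i)).map u₁ = (Over.pullback (c.π.app i)).map u₂ →
      ∃ (i' : I) (g : i' ⟶ i), (Over.pullback (D.map g)).map u₁ = (Over.pullback (D.map g)).map u₂) := by
  refine ⟨fun u hu => ?_, fun i f u₁ u₂ _ _ h => LimGrp.exists_stage_eq hc _ _ u₁ u₂ h⟩
  obtain ⟨i, f, v, hv⟩ := LimGrp.exists_stage_hom hc Gj Hj u
  have hG : IsMonHom (LimGrp.cmp (c.w f) Gj).hom := LimGrp.isMonHom_cmp _ _
  have hH : IsMonHom (LimGrp.cmp (c.w f) Hj).hom := LimGrp.isMonHom_cmp _ _
  have e : (Over.pullback (c.π.app i)).map v =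
      (LimGrp.cmp (c.w f) Gj).hom ≫ u ≫ (LimGrp.cmp (c.w f) Hj).inv := by
    rw [← reassoc_of% hv, Iso.hom_inv_id, Category.comp_id]
  have hm : IsMonHom ((Over.pullback (c.π.app i)).map v) := by rw [e]; infer_instance
  obtain ⟨k, b, hb⟩ := LimGrp.exists_stage_eq hc _ _ _ _ (LimGrp.eqAt_mul_of_isMonHom _ hm)
  have h1 : IsMonHom ((Over.pullback (D.map b)).map v) := LimGrp.isMonHom_of_bc_mul _ hb
  have h2 : IsMonHom (LimGrp.cmp (D.map_comp b f).symm Gj).hom := LimGrp.isMonHom_cmp _ _
  have h3 : IsMonHom (LimGrp.cmp (D.map_comp b f).symm Hj).hom := LimGrp.isMonHom_cmp _ _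
  refine ⟨k, b ≫ f, (LimGrp.cmp (D.map_comp b f).symm Gj).inv ≫ (Over.pullback (D.map b)).map v ≫
    (LimGrp.cmp (D.map_comp b f).symm Hj).hom, inferInstance, ?_⟩
  change _ = (LimGrp.cmp (c.w (b ≫ f)) Gj).hom ≫ u ≫ (LimGrp.cmp (c.w (b ≫ f)) Hj).inv
  rw [← cancel_mono (LimGrp.cmp (c.w (b ≫ f)) Hj).hom]
  simp only [(Over.pullback (c.π.app k)).map_comp, Category.assoc, Iso.inv_hom_id, Category.comp_id]
  rw [LimGrp.cmp_assoc (D.map_comp b f).symm (c.w b) (c.w (b ≫ f)) (c.w f) Hj,
    reassoc_of% LimGrp.cmp_natural (c.w b) v, hv,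
    ← reassoc_of% LimGrp.cmp_assoc (D.map_comp b f).symm (c.w b) (c.w (b ≫ f)) (c.w f) Gj,
    ← reassoc_of% ((Over.pullback (c.π.app k)).map_comp (LimGrp.cmp (D.map_comp b f).symm Gj).inv
      (LimGrp.cmp (D.map_comp b f).symm Gj).hom), Iso.inv_hom_id, CategoryTheory.Functor.map_id,
    Category.id_comp]

end Groth.Agent.S6086
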