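import Groth.Statements.S6120
import Mathlib

set_option autoImplicit false
open CategoryTheory CategoryTheory.Limits Opposite
universe w v₁ v₂ u₁ u₂
open SGA4

namespace Groth.Agent.S6120

/-- Let `I` be a category with a family of objects `i α` (`α : A`) such that every binary product `i α ⨯
i β` exists in `I` and every object of `I` admits a morphism to some `i α`. Let `F : Iᵒᵖ ⥤ C` be a
functor, and assume that `C` has equalizers and that the products `∏ F (i α)` and `∏ F (i α ⨯ i β)`
exist in `C`. Then the limit of `F` exists, the canonical map `lim F ⟶ ∏ F (i α)` is a monomorphism,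
and a map `t : T ⟶ ∏ F (i α)` factors through `lim F` exactly when its composites with the two maps
`∏ F (i α) ⇉ ∏ F (i α ⨯ i β)` induced by the two projections agree: `lim F` is the equalizer of that
pair. (The published statement assumes that `C` has all limits of the size of `A`; only equalizers
and the two products named are assumed here, which is what the equalizer construction uses.) -/
theorem result
    {I : Type u₁} [Category.{v₁} I] {C : Type u₂} [Category.{v₂} C] {A : Type w} (i : A → I)
    [∀ α β, HasBinaryProduct (i α) (i β)]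
    (hcov : ∀ j : I, ∃ α, Nonempty (j ⟶ i α))
    (F : Iᵒᵖ ⥤ C) [HasEqualizers C]
    [HasProduct (fun α => F.obj (op (i α)))]
    [HasProduct (fun p : A × A => F.obj (op (i p.1 ⨯ i p.2)))] :
    HasLimit F ∧ ∀ [HasLimit F],
      Mono (Pi.lift (fun α => limit.π F (op (i α)))) ∧
      ∀ (T : C) (t : T ⟶ ∏ᶜ (fun α => F.obj (op (i α)))),
        (∃ s : T ⟶ limit F, s ≫ Pi.lift (fun α => limit.π F (op (i α))) = t) ↔
        t ≫ Pi.lift (fun p : A × A =>
            Pi.π (fun α => F.obj (op (i α))) p.1 ≫ F.map (prod.fst : i p.1 ⨯ i p.2 ⟶ i p.1).op) =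
        t ≫ Pi.lift (fun p : A × A =>
            Pi.π (fun α => F.obj (op (i α))) p.2 ≫ F.map (prod.snd : i p.1 ⨯ i p.2 ⟶ i p.2).op) := by
  let P := fun α => F.obj (op (i α))
  let a : ∏ᶜ P ⟶ ∏ᶜ (fun p : A × A => F.obj (op (i p.1 ⨯ i p.2))) :=
    Pi.lift (fun p : A × A => Pi.π P p.1 ≫ F.map (prod.fst : i p.1 ⨯ i p.2 ⟶ i p.1).op)
  let b : ∏ᶜ P ⟶ ∏ᶜ (fun p : A × A => F.obj (op (i p.1 ⨯ i p.2))) :=
    Pi.lift (fun p : A × A => Pi.π P p.2 ≫ F.map (prod.snd : i p.1 ⨯ i p.2 ⟶ i p.2).op)
  choose α g using hcov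
  have hg : ∀ j, Nonempty (j ⟶ i (α j)) := g
  let gg : ∀ j, j ⟶ i (α j) := fun j => (hg j).some
  have indep : ∀ {T : C} (t : T ⟶ ∏ᶜ P), t ≫ a = t ≫ b → ∀ (j : I) (β γ : A) (p : j ⟶ i β)
      (q : j ⟶ i γ), t ≫ Pi.π P β ≫ F.map p.op = t ≫ Pi.π P γ ≫ F.map q.op := by
    intro T t ht j β γ p q
    have h1 := congrArg (fun s => s ≫ Pi.π _ (β, γ) ≫ F.map (prod.lift p q).op) ht
    simp only [a, b, P, Category.assoc, Pi.lift_π_assoc, ← F.map_comp, ← op_comp] at h1
    simpa only [P, prod.lift_fst, prod.lift_snd] using h1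
  let c : Cone F :=
    { pt := equalizer a b
      π :=
        { app := fun j => equalizer.ι a b ≫ Pi.π P (α j.unop) ≫ F.map (gg j.unop).op
          naturality := fun j k f => by
            dsimp
            rw [Category.id_comp, Category.assoc, Category.assoc, ← F.map_comp]
            exact indep _ (equalizer.condition a b) _ _ _ _ (f.unop ≫ gg j.unop) } }
  have hlift : ∀ s : Cone F, Pi.lift (fun β => s.π.app (op (i β))) ≫ a =
      Pi.lift (fun β => s.π.app (op (i β))) ≫ b := by
    intro s
    apply Limits.Pi.hom_ext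
    intro p
    simp only [a, b, P, Category.assoc, Pi.lift_π, Pi.lift_π_assoc]
    rw [s.w, s.w]
  have hc : IsLimit c :=
    { lift := fun s => equalizer.lift _ (hlift s)
      fac := fun s j => by
        simp only [c, P, equalizer.lift_ι_assoc, Pi.lift_π_assoc]
        exact s.w _
      uniq := fun s m hm => by
        apply equalizer.hom_ext
        rw [equalizer.lift_ι]
        apply Limits.Pi.hom_ext
        intro β
        rw [Pi.lift_π, ← hm (op (i β))]
        simp only [c, Category.assoc]
        congr 1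
        rw [indep _ (equalizer.condition a b) (i β) _ β _ (𝟙 _)]
        rw [op_id, F.map_id, Category.comp_id] }
  refine ⟨⟨⟨c, hc⟩⟩, ?_⟩
  intro _
  let L := Pi.lift (fun β => limit.π F (op (i β)))
  have hmono : Mono L := ⟨fun {T} u v e => by
    apply limit.hom_ext
    intro j
    rw [← limit.w F (gg j.unop).op]
    have := congrArg (fun s => s ≫ Pi.π _ (α j.unop) ≫ F.map (gg j.unop).op) e
    simpa [L] using this⟩
  refine ⟨hmono, fun T t => ⟨?_, fun ht => ?_⟩⟩
  · rintro ⟨s, rfl⟩
    apply Limits.Pi.hom_ext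
    intro p
    simp
  · refine ⟨equalizer.lift t ht ≫ (hc.conePointUniqueUpToIso (limit.isLimit F)).hom, ?_⟩
    apply Limits.Pi.hom_ext
    intro β
    rw [Category.assoc, Pi.lift_π, Category.assoc]
    have := hc.conePointUniqueUpToIso_hom_comp (limit.isLimit F) (op (i β))
    simp only [limit.cone_π] at this
    rw [this]
    simp only [c]
    rw [equalizer.lift_ι_assoc]
    erw [indep t ht (i β) _ β _ (𝟙 _)]
    simp [P]

end Groth.Agent.S6120
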