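import Groth.Statements.S6121
import Mathlib

set_option autoImplicit false
open CategoryTheory
universe v₁ v₂ u₁ u₂
open SGA4

namespace Groth.Agent.S6121

/-- For a fibered functor `p : E ⥤ B` (every morphism of `B` has a cartesian lift with prescribed
codomain, and cartesian morphisms compose), `p` reflects isomorphisms if and only if every fibre
category of `p` (objects over `b`, morphisms lying over the identity of `b`) is a groupoid. -/
theorem result
    {B : Type u₁} [Category.{v₁} B] {E : Type u₂} [Category.{v₂} E] (p : E ⥤ B) [p.IsFibered] :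
    p.ReflectsIsomorphisms ↔ ∀ b : B, IsGroupoid (p.Fiber b) := by
  constructor
  · intro _ b
    refine ⟨fun {X Y} χ => ?_⟩
    have h1 : IsIso (p.map (Functor.Fiber.fiberInclusion.map χ)) := by
      rw [IsHomLift.fac' p (𝟙 b) (Functor.Fiber.fiberInclusion.map χ)]
      infer_instance
    have : IsIso χ.1 := isIso_of_reflects_iso (Functor.Fiber.fiberInclusion.map χ) p
    have := χ.2
    exact ⟨⟨inv χ.1, inferInstance⟩, Subtype.ext (IsIso.hom_inv_id χ.1),
      Subtype.ext (IsIso.inv_hom_id χ.1)⟩
  · intro h
    refine ⟨fun {X Y} f hf => ?_⟩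
    let ψ := Functor.IsPreFibered.pullbackMap (p := p) (a := Y) rfl (p.map f)
    have hW : p.obj (Functor.IsPreFibered.pullbackObj (p := p) (a := Y) rfl (p.map f)) = p.obj X :=
      Functor.IsPreFibered.pullbackObj_proj rfl _
    let χ := Functor.IsCartesian.map p (p.map f) ψ f
    have := h (p.obj X)
    let χ' : (Functor.Fiber.mk (rfl : p.obj X = p.obj X)) ⟶ Functor.Fiber.mk hW := ⟨χ, inferInstanceAs (p.IsHomLift _ χ)⟩
    have : IsIso χ' := inferInstance
    have : IsIso χ := inferInstanceAs (IsIso (Functor.Fiber.fiberInclusion.map χ'))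
    have : IsIso ψ := Functor.IsStronglyCartesian.isIso_of_base_isIso p (p.map f) ψ
    rw [← Functor.IsCartesian.fac p (p.map f) ψ f]
    infer_instance

end Groth.Agent.S6121
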