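import Groth.Statements.S6122
import Mathlib

set_option autoImplicit false
open CategoryTheory
universe v₁ v₂ u₁ u₂
open SGA4

namespace Groth.Agent.S6122

/-- For a fibered functor `p : E ⥤ B` (every morphism of `B` has a cartesian lift with prescribed
codomain, and cartesian morphisms compose), `p` is faithful if and only if every fibre category of
`p` (objects over `b`, morphisms lying over the identity of `b`) has at most one morphism between
any two objects. -/
theorem result
    {B : Type u₁} [Category.{v₁} B] {E : Type u₂} [Category.{v₂} E] (p : E ⥤ B) [p.IsFibered] :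
    p.Faithful ↔ ∀ (b : B) (x y : p.Fiber b), Subsingleton (x ⟶ y) := by
  constructor
  · intro _ b x y
    refine ⟨fun f g => Functor.Fiber.hom_ext (p.map_injective ?_)⟩
    rw [IsHomLift.fac' p (𝟙 b) (Functor.Fiber.fiberInclusion.map f),
      IsHomLift.fac' p (𝟙 b) (Functor.Fiber.fiberInclusion.map g)]
  · intro h
    refine ⟨fun {X Y} f g hfg => ?_⟩
    let ψ := Functor.IsPreFibered.pullbackMap (p := p) (a := Y) rfl (p.map f)
    have hW : p.obj (Functor.IsPreFibered.pullbackObj (p := p) (a := Y) rfl (p.map f)) = p.obj X :=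
      Functor.IsPreFibered.pullbackObj_proj rfl _
    have : p.IsHomLift (p.map f) g := hfg ▸ inferInstance
    let χ := Functor.IsCartesian.map p (p.map f) ψ f
    let χ' := Functor.IsCartesian.map p (p.map f) ψ g
    have heq := (h (p.obj X) ⟨X, rfl⟩ ⟨_, hW⟩).elim
      ⟨χ, inferInstanceAs (p.IsHomLift _ χ)⟩ ⟨χ', inferInstanceAs (p.IsHomLift _ χ')⟩
    have : χ = χ' := congrArg Subtype.val heq
    rw [← Functor.IsCartesian.fac p (p.map f) ψ f, ← Functor.IsCartesian.fac p (p.map f) ψ g]
    exact congrArg (· ≫ ψ) this

end Groth.Agent.S6122
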