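import Groth.Statements.S6123
import Mathlib

set_option autoImplicit false
open CategoryTheory CategoryTheory.Limits Opposite
universe w v₁ v₂ u₁ u₂
open SGA4

namespace Groth.Agent.S6123

/-- For a single functor. Let `E` have pullbacks and let `φ : E ⥤ F` preserve them. If every
monomorphism `u` of `E` with `φ u` invertible is invertible, then `φ` reflects all isomorphisms. -/
theorem result
    {E : Type u₁} [Category.{v₁} E] {F : Type u₂} [Category.{v₂} F] (φ : E ⥤ F)
    [HasPullbacks E] [PreservesLimitsOfShape WalkingCospan φ]
    (h : ∀ ⦃X Y : E⦄ (u : X ⟶ Y), Mono u → IsIso (φ.map u) → IsIso u) :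
    φ.ReflectsIsomorphisms := by
  refine ⟨fun {X Y} u hu => ?_⟩
  have : IsIso (φ.map (pullback.fst u u)) := by
    have hP := (IsPullback.of_hasPullback u u).map φ
    exact hP.isIso_fst_of_isIso
  have hd : IsIso (φ.map (pullback.diagonal u)) := by
    have h1 : φ.map (pullback.diagonal u) ≫ φ.map (pullback.fst u u) = 𝟙 _ := by
      rw [← φ.map_comp, pullback.diagonal_fst, φ.map_id]
    exact IsIso.of_isIso_fac_right h1
  have : IsIso (pullback.diagonal u) := h _ inferInstance hd
  have : Mono u := (pullback.isIso_diagonal_iff u).1 inferInstance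
  exact h u inferInstance hu

end Groth.Agent.S6123
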