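import Groth.Statements.S6124
import Mathlib

set_option autoImplicit false
open CategoryTheory CategoryTheory.Limits Opposite
universe w v₁ v₂ u₁ u₂
open SGA4

namespace Groth.Agent.S6124

/-- Let `E` have pullbacks, let `P` be a detecting family of objects of `E` (a morphism `f` is
invertible as soon as every map out of an object of `P` factors uniquely through `f`), and let `φ i
: E ⥤ E' i` be functors preserving pullbacks. Then the `φ i` jointly reflect isomorphisms if and
only if, for every `X` with `P X` and every subobject `X'` of `X` other than `⊤`, some `φ i` takes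
the inclusion `X' ⟶ X` to a morphism that is not invertible. -/
theorem result
    {E : Type u₁} [Category.{v₁} E] [HasPullbacks E] (P : ObjectProperty E) (hP : P.IsDetecting)
    {κ : Type w} {E' : κ → Type u₂} [∀ k, Category.{v₂} (E' k)] (φ : ∀ k, E ⥤ E' k)
    [∀ k, PreservesLimitsOfShape WalkingCospan (φ k)] :
    (∀ ⦃X Y : E⦄ (f : X ⟶ Y), (∀ k, IsIso ((φ k).map f)) → IsIso f) ↔
      ∀ (X : E), P X → ∀ (X' : Subobject X), X' ≠ ⊤ → ∃ k, ¬ IsIso ((φ k).map X'.arrow) := by
  constructor
  · intro h X _ X' hX'
    by_contra hcon
    push Not at hcon
    have := h X'.arrow hcon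
    exact hX' (Subobject.eq_top_of_isIso_arrow X')
  · intro h
    have mono_case : ∀ ⦃X Y : E⦄ (f : X ⟶ Y), Mono f → (∀ k, IsIso ((φ k).map f)) → IsIso f := by
      intro X Y f _ hf
      refine hP f fun G hG g => ?_
      have hiso : IsIso (pullback.snd f g) := by
        have htop : Subobject.mk (pullback.snd f g) = ⊤ := by
          by_contra hne
          obtain ⟨k, hk⟩ := h G hG _ hne
          refine hk ?_
          have := hf k
          have : IsIso ((φ k).map (pullback.snd f g)) :=
            ((IsPullback.of_hasPullback f g).map (φ k)).isIso_snd_of_isIso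
          rw [← Subobject.underlyingIso_hom_comp_eq_mk (pullback.snd f g), Functor.map_comp]
          infer_instance
        exact (Subobject.isIso_iff_mk_eq_top _).2 htop
      refine ⟨inv (pullback.snd f g) ≫ pullback.fst f g, ?_, fun y hy => ?_⟩
      · simp [pullback.condition]
      · rw [← cancel_mono f, hy]
        simp [pullback.condition]
    intro X Y f hf
    have hd : ∀ k, IsIso ((φ k).map (pullback.diagonal f)) := fun k => by
      have := hf k
      have : IsIso ((φ k).map (pullback.fst f f)) :=
        ((IsPullback.of_hasPullback f f).map (φ k)).isIso_fst_of_isIso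
      have h1 : (φ k).map (pullback.diagonal f) ≫ (φ k).map (pullback.fst f f) = 𝟙 _ := by
        rw [← (φ k).map_comp, pullback.diagonal_fst, (φ k).map_id]
      exact IsIso.of_isIso_fac_right h1
    have : IsIso (pullback.diagonal f) := mono_case _ inferInstance hd
    have : Mono f := (pullback.isIso_diagonal_iff f).1 inferInstance
    exact mono_case f inferInstance hf

end Groth.Agent.S6124
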