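import Groth.Statements.S6126
import Mathlib

set_option autoImplicit false
open CategoryTheory CategoryTheory.Limits
universe v₁ u₁
open SGA4

namespace Groth.Agent.S6126

/-- Let `E` be a category with `v₁`-small hom-sets admitting a separating family of objects `G t`
indexed by a `v₁`-small type, in which every object admits a monomorphism into an injective object.
Assume that each coproduct `G t ⨿ G t` exists and that every morphism out of `G t ⨿ G t` factors as
an effective epimorphism followed by a monomorphism. Then `E` admits a coseparating family of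
injective objects indexed by a `v₁`-small type. (The published statement moreover bounds the size of
this family in terms of the hom-sets `Hom (G t', G t ⨿ G t)`; only existence is stated here. The
published statement speaks of generating and cogenerating families; its proof uses and produces
joint faithfulness of maps out of, resp. into, the family, which is the sense taken here.) -/
theorem result
    {E : Type u₁} [Category.{v₁} E] {ι : Type v₁} (G : ι → E)
    (hG : (ObjectProperty.ofObj G).IsSeparating)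
    [EnoughInjectives E] [∀ t, HasBinaryCoproduct (G t) (G t)]
    (hfac : ∀ (t : ι) (X : E) (f : G t ⨿ G t ⟶ X),
      ∃ (Y : E) (e : G t ⨿ G t ⟶ Y) (m : Y ⟶ X), EffectiveEpi e ∧ Mono m ∧ e ≫ m = f) :
    ∃ (κ : Type v₁) (H : κ → E),
      (∀ k, Injective (H k)) ∧ (ObjectProperty.ofObj H).IsCoseparating := by
  let R : ∀ {t : ι} {Y : E}, (G t ⨿ G t ⟶ Y) → Set (Σ s, (G s ⟶ G t ⨿ G t) × (G s ⟶ G t ⨿ G t)) :=
    fun e => {p | p.2.1 ≫ e = p.2.2 ≫ e}
  have hR : ∀ {t : ι} {Y Y' : E} (e : G t ⨿ G t ⟶ Y) (e' : G t ⨿ G t ⟶ Y'), R e = R e' →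
      ∀ {Z : E} (g₁ g₂ : Z ⟶ G t ⨿ G t), g₁ ≫ e = g₂ ≫ e → g₁ ≫ e' = g₂ ≫ e' := by
    intro t Y Y' e e' he Z g₁ g₂ hg
    refine hG _ _ ?_
    rintro _ ⟨s⟩ h
    have : (⟨s, h ≫ g₁, h ≫ g₂⟩ : Σ s, (G s ⟶ G t ⨿ G t) × (G s ⟶ G t ⨿ G t)) ∈ R e :=
      show (h ≫ g₁) ≫ e = (h ≫ g₂) ≫ e by rw [Category.assoc, Category.assoc, hg]
    rw [he] at this
    simpa [R] using this
  let K := { p : Σ t, Set (Σ s, (G s ⟶ G t ⨿ G t) × (G s ⟶ G t ⨿ G t)) //
    ∃ (Y : E) (e : G p.1 ⨿ G p.1 ⟶ Y), EffectiveEpi e ∧ R e = p.2 }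
  choose Y₀ e₀ he₀ hR₀ using fun k : K => k.2
  refine ⟨K, fun k => Injective.under (Y₀ k), fun k => inferInstance, ?_⟩
  intro A X u v huv
  refine hG _ _ ?_
  rintro _ ⟨t⟩ h
  obtain ⟨Y, e, m, he, hm, hfac⟩ := hfac t X (coprod.desc (h ≫ u) (h ≫ v))
  let k : K := ⟨⟨t, R e⟩, Y, e, he, rfl⟩
  let a : Y ⟶ Y₀ k := EffectiveEpi.desc e (e₀ k) (hR e (e₀ k) (hR₀ k).symm)
  have := he₀ k
  let b : Y₀ k ⟶ Y := EffectiveEpi.desc (e₀ k) e (hR (e₀ k) e (hR₀ k))
  let w : X ⟶ Injective.under (Y₀ k) := Injective.factorThru (a ≫ Injective.ι (Y₀ k)) m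
  have hw : coprod.desc (h ≫ u) (h ≫ v) ≫ w = e₀ k ≫ Injective.ι (Y₀ k) := by
    rw [← hfac, Category.assoc, Injective.comp_factorThru, EffectiveEpi.fac_assoc]
  have h1 : coprod.inl ≫ e₀ k = (coprod.inr : G t ⟶ G t ⨿ G t) ≫ e₀ k := by
    rw [← cancel_mono (Injective.ι (Y₀ k)), Category.assoc, Category.assoc, ← hw,
      coprod.inl_desc_assoc, coprod.inr_desc_assoc, Category.assoc, Category.assoc,
      huv _ (ObjectProperty.ofObj_apply (fun k => Injective.under (Y₀ k)) k) w]
  have h2 : coprod.inl ≫ e = (coprod.inr : G t ⟶ G t ⨿ G t) ≫ e := by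
    rw [← EffectiveEpi.fac (e₀ k) e (hR (e₀ k) e (hR₀ k))]
    simpa only [Category.assoc] using congrArg (· ≫ b) h1
  have h3 := congrArg (· ≫ m) h2
  simpa only [Category.assoc, hfac, coprod.inl_desc, coprod.inr_desc] using h3

end Groth.Agent.S6126
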