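import Groth.Statements.S6127
import Mathlib

set_option autoImplicit false
open CategoryTheory CategoryTheory.Limits Opposite
universe u
open SGA4

namespace Groth.Agent.S6127

/-- Let `C` be a small category and `P` a strictly full subcategory of the category of presheaves of
sets on `C` whose inclusion admits a left adjoint (a reflector) preserving finite limits. Call a
sieve `S` on `X` covering when the reflector inverts the inclusion of `S`, viewed as a subpresheaf,
into the presheaf represented by `X`. Then these covering sieves form a Grothendieck topology `J` on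
`C`, and a presheaf lies in `P` if and only if it is a sheaf for `J`. (This is the half of the
correspondence between topologies on `C` and such reflective subcategories that produces the
topology; the topology is pinned down by its covering sieves.) -/
theorem result
    {C : Type u} [SmallCategory C] (P : ObjectProperty (Cᵒᵖ ⥤ Type u))
    [P.IsClosedUnderIsomorphisms] [Reflective P.ι] [PreservesFiniteLimits (reflector P.ι)] :
    ∃ J : GrothendieckTopology C,
      (∀ (X : C) (S : Sieve X), S ∈ J X ↔ IsIso ((reflector P.ι).map S.functorInclusion)) ∧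
      ∀ F : Cᵒᵖ ⥤ Type u, P F ↔ Presieve.IsSheaf J F := by
  let L := reflector P.ι
  let adj := reflectorAdjunction P.ι
  have hiff : ∀ {A B : Cᵒᵖ ⥤ Type u} (f : A ⟶ B), IsIso (L.map f) ↔
      ∀ Z, P Z → Function.Bijective (fun g : B ⟶ Z => f ≫ g) := by
    intro A B f
    rw [isIso_iff_coyoneda_map_bijective]
    have key : ∀ (Z : P.FullSubcategory),
        (fun g : B ⟶ P.ι.obj Z => f ≫ g) =
          adj.homEquiv A Z ∘ (fun g : L.obj B ⟶ Z => L.map f ≫ g) ∘ (adj.homEquiv B Z).symm := by
      intro Z
      funext g
      simp only [Function.comp_apply]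
      rw [adj.homEquiv_naturality_left, Equiv.apply_symm_apply]
    constructor
    · intro h Z hZ
      exact (key ⟨Z, hZ⟩).symm ▸ ((adj.homEquiv A ⟨Z, hZ⟩).bijective.comp
        ((h ⟨Z, hZ⟩).comp (adj.homEquiv B ⟨Z, hZ⟩).symm.bijective))
    · intro h Z
      have := h Z.obj Z.property
      rw [show (fun g : B ⟶ Z.obj => f ≫ g) = _ from key Z] at this
      rwa [Equiv.comp_bijective, Equiv.bijective_comp] at this
  have hfor : ∀ {X : C} (S : Sieve X), IsIso (L.map S.functorInclusion) ↔
      ∀ Z, P Z → Presieve.IsSheafFor Z S.arrows := by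
    intro X S
    rw [hiff]
    refine forall_congr' fun Z => forall_congr' fun _ => ?_
    rw [Presieve.isSheafFor_iff_yonedaSheafCondition, Function.bijective_iff_existsUnique]
    rfl
  -- base change of an inverted monomorphism along a section
  have hbc : ∀ {A B : Cᵒᵖ ⥤ Type u} (m : A ⟶ B), Mono m → IsIso (L.map m) →
      ∀ {U : C} (b : B.obj (op U)) (S : Sieve U),
      (∀ (V : C) (f : V ⟶ U), S f ↔ ∃ a, m.app (op V) a = B.map f.op b) →
      IsIso (L.map S.functorInclusion) := by
    intro A B m _ hm U b S hS
    have hinj : ∀ V, Function.Injective (m.app V) := fun V =>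
      (mono_iff_injective _).1 inferInstance
    have ha : ∀ (V : Cᵒᵖ) (f : S.functor.obj V), ∃ a, m.app V a = B.map f.1.op b :=
      fun V f => (hS _ _).1 f.2
    choose a ha using ha
    let q : S.functor ⟶ A :=
      { app := fun V => TypeCat.ofHom (a V)
        naturality := fun V W g => by
          ext f
          apply hinj W
          refine (ha W _).trans ?_
          refine Eq.trans ?_ (NatTrans.naturality_apply m g (a V f)).symm
          erw [ha V f]
          change B.map (g.unop ≫ f.1).op b = _
          rw [op_comp, Functor.map_comp]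
          rfl }
    have hP : IsPullback q S.functorInclusion m (yonedaEquiv.symm b) := by
      refine ⟨⟨by ext V f; exact ha V f⟩, ⟨evaluationJointlyReflectsLimits _ fun V =>
        (isLimitMapConePullbackConeEquiv _ _).symm ?_⟩⟩
      refine PullbackCone.IsLimit.mk _ (fun s => TypeCat.ofHom fun x =>
        (⟨(s.snd x : V.unop ⟶ U), (hS _ _).2 ⟨s.fst x, ConcreteCategory.congr_hom s.condition x⟩⟩ :
          S.functor.obj V)) (fun s => ?_) (fun s => rfl) (fun s l h₁ h₂ => ?_)
      · ext x
        apply hinj V
        exact (ha V _).trans (ConcreteCategory.congr_hom s.condition x).symm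
      · ext x
        exact Subtype.ext (by exact ConcreteCategory.congr_hom h₂ x)
    have : IsIso (L.map m) := hm
    exact (hP.map L).isIso_snd_of_isIso
  let J := Sheaf.finestTopology {Z : Cᵒᵖ ⥤ Type u | P Z}
  have hJ : ∀ (X : C) (S : Sieve X), S ∈ J X ↔ IsIso (L.map S.functorInclusion) := by
    intro X S
    constructor
    · intro h
      exact (hfor S).2 fun Z hZ => Sheaf.sheaf_for_finestTopology _ hZ S h
    · intro h
      refine Sheaf.mem_finestTopology_of_forall_isSheafFor fun Z hZ Y f => ?_
      refine (hfor _).1 (hbc S.functorInclusion inferInstance h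
        (show (yoneda.obj X).obj (op Y) from f) _ fun V g => ?_) Z hZ
      exact ⟨fun hg => ⟨⟨_, hg⟩, rfl⟩, fun ⟨a, ha⟩ => by
        change S (g ≫ f)
        rw [← (show a.1 = g ≫ f from ha)]
        exact a.2⟩
  refine ⟨J, hJ, fun F => ⟨fun hF => Sheaf.sheaf_for_finestTopology _ hF, fun hF => ?_⟩⟩
  let η := adj.unit.app F
  let G := P.ι.obj (L.obj F)
  have hG : Presieve.IsSheaf J G := Sheaf.sheaf_for_finestTopology _ (L.obj F).property
  have hLη : IsIso (L.map η) := by
    have := adj.left_triangle_components F
    have : IsIso (L.map η ≫ adj.counit.app (L.obj F)) := this ▸ (IsIso.id _)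
    exact IsIso.of_isIso_comp_right (L.map η) (adj.counit.app (L.obj F))
  have hinj : ∀ U, Function.Injective (η.app (op U)) := by
    intro U x y hxy
    let d := pullback.diagonal η
    have hd : IsIso (L.map d) := by
      have : IsIso (L.map (pullback.fst η η)) :=
        ((IsPullback.of_hasPullback η η).map L).isIso_fst_of_isIso
      have h1 : L.map d ≫ L.map (pullback.fst η η) = 𝟙 _ := by
        rw [← L.map_comp, pullback.diagonal_fst, L.map_id]
      exact IsIso.of_isIso_fac_right h1
    have hw : yonedaEquiv.symm x ≫ η = yonedaEquiv.symm y ≫ η := by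
      apply yonedaEquiv.injective
      simpa [yonedaEquiv_comp] using hxy
    let b : (pullback η η).obj (op U) := yonedaEquiv (pullback.lift _ _ hw)
    have hb₁ : (pullback.fst η η).app (op U) b = x := by
      rw [← yonedaEquiv_comp, pullback.lift_fst, Equiv.apply_symm_apply]
    have hb₂ : (pullback.snd η η).app (op U) b = y := by
      rw [← yonedaEquiv_comp, pullback.lift_snd, Equiv.apply_symm_apply]
    let S : Sieve U :=
      { arrows := fun V f => ∃ a, d.app (op V) a = (pullback η η).map f.op b
        downward_closed := by
          rintro V W f ⟨a, ha⟩ g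
          refine ⟨F.map g.op a, ?_⟩
          erw [NatTrans.naturality_apply, ha]
          rw [op_comp, Functor.map_comp_apply] }

    have hSJ : S ∈ J U := (hJ U S).2 (hbc d inferInstance hd b S fun _ _ => Iff.rfl)
    refine (hF S hSJ).isSeparatedFor.ext fun V f ⟨a, ha⟩ => ?_
    have e₁ := congrArg ((pullback.fst η η).app (op V)) ha
    have e₂ := congrArg ((pullback.snd η η).app (op V)) ha
    rw [NatTrans.naturality_apply, hb₁] at e₁
    rw [NatTrans.naturality_apply, hb₂] at e₂
    have d₁ := ConcreteCategory.congr_hom (congr_app (pullback.diagonal_fst η) (op V)) a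
    have d₂ := ConcreteCategory.congr_hom (congr_app (pullback.diagonal_snd η) (op V)) a
    exact e₁.symm.trans (d₁.trans (d₂.symm.trans e₂))
  have hsurj : ∀ U, Function.Surjective (η.app (op U)) := by
    intro U z
    have : ∀ V, Mono (η.app V) := fun V => (mono_iff_injective _).2 (hinj V.unop)
    have : Mono η := NatTrans.mono_of_mono_app η
    let S : Sieve U :=
      { arrows := fun V f => ∃ a, η.app (op V) a = G.map f.op z
        downward_closed := by
          rintro V W f ⟨a, ha⟩ g
          refine ⟨F.map g.op a, ?_⟩
          erw [NatTrans.naturality_apply, ha]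
          rw [op_comp, Functor.map_comp_apply]
          rfl }
    have hSJ : S ∈ J U := (hJ U S).2 (hbc η inferInstance hLη z S fun _ _ => Iff.rfl)
    choose a ha using fun (V : C) (f : V ⟶ U) (hf : S f) => (hf : ∃ a, η.app (op V) a = G.map f.op z)
    have hcompat : Presieve.FamilyOfElements.Compatible (P := F) (R := S.arrows) a := by
      intro V₁ V₂ W g₁ g₂ f₁ f₂ h₁ h₂ e
      apply hinj W
      erw [NatTrans.naturality_apply, NatTrans.naturality_apply, ha, ha]
      exact ((Functor.map_comp_apply _ _ _ _).symm.trans (by rw [← op_comp, e, op_comp])).trans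
        (Functor.map_comp_apply _ _ _ _)
    obtain ⟨x, hx, -⟩ := hF S hSJ a hcompat
    refine ⟨x, (hG S hSJ).isSeparatedFor.ext fun V f hf => ?_⟩
    refine ((NatTrans.naturality_apply η f.op x).symm.trans ?_)
    exact (congrArg _ (hx f hf)).trans (ha V f hf)
  have : ∀ U, IsIso (η.app U) := fun U => (isIso_iff_bijective _).2 ⟨hinj U.unop, hsurj U.unop⟩
  have : IsIso η := NatIso.isIso_of_isIso_app η
  exact P.prop_of_iso (asIso η).symm (L.obj F).property

end Groth.Agent.S6127
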