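import Groth.Statements.S6128
import Mathlib

set_option autoImplicit false
open CategoryTheory
universe u
open SGA4

namespace Groth.Agent.S6128

/-- Let `u : C ⥤ C'` be a functor between small sites. If the right Kan extension along `u` of the
underlying presheaf of every sheaf of sets on `C` is a sheaf on `C'`, then `u` is cocontinuous: for
every object `Y` of `C` and every covering sieve `R` of `u Y`, the sieve of morphisms `g : Z ⟶ Y`
with `u g ∈ R` covers `Y`. -/
theorem result
    {C : Type u} [SmallCategory C] {C' : Type u} [SmallCategory C']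
    (J : GrothendieckTopology C) (J' : GrothendieckTopology C') (u : C ⥤ C')
    (h : ∀ G : Sheaf J (Type u), Presheaf.IsSheaf J' ((u.op.ran).obj G.obj)) :
    u.IsCocontinuous J J' := by
  refine ⟨fun {Y} R hR => ?_⟩
  let W := (Functor.whiskeringLeft Cᵒᵖ C'ᵒᵖ (Type u)).obj u.op
  let adj := u.op.ranAdjunction (Type u)
  have hW : J.W (W.map R.functorInclusion) := by
    intro G hG
    have hs := (isSheaf_iff_isSheaf_of_type J' _).1 (h ⟨G, hG⟩) R hR
    rw [Presieve.isSheafFor_iff_yonedaSheafCondition] at hs
    have hb : Function.Bijective (fun g : yoneda.obj (u.obj Y) ⟶ (u.op.ran).obj G =>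
        R.functorInclusion ≫ g) := by
      rw [Function.bijective_iff_existsUnique]
      exact hs
    have h2 : (fun g : W.obj (yoneda.obj (u.obj Y)) ⟶ G => W.map R.functorInclusion ≫ g) =
        (adj.homEquiv _ _).symm ∘
          (fun g : yoneda.obj (u.obj Y) ⟶ (u.op.ran).obj G => R.functorInclusion ≫ g) ∘
          adj.homEquiv _ _ := by
      funext g
      simp only [Function.comp_apply]
      apply (adj.homEquiv _ _).injective
      rw [Equiv.apply_symm_apply]
      exact (adj.homEquiv_naturality_left _ _)
    rw [h2]
    exact (Equiv.bijective _).comp (hb.comp (Equiv.bijective _))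
  have hls := ((J.W_iff_isLocallyBijective _).1 hW).2
  have hm := Presheaf.imageSieve_mem J (W.map R.functorInclusion)
    (show (W.obj (yoneda.obj (u.obj Y))).obj (Opposite.op Y) from 𝟙 (u.obj Y))
  refine J.superset_covering ?_ hm
  rintro Z g ⟨⟨t, ht⟩, e⟩
  have e' : t = u.map g ≫ 𝟙 _ := e
  change R (u.map g)
  rw [Category.comp_id] at e'
  exact e' ▸ ht

end Groth.Agent.S6128
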