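import Groth.Statements.S6129
import Mathlib

set_option autoImplicit false
open CategoryTheory CategoryTheory.Limits
universe u
open SGA4

namespace Groth.Agent.S6129

/-- Let `u : C ⥤ C'` be a faithful functor between small categories such that for every object `X` of
`C` the induced functor on over-categories `C/X ⥤ C'/u X` is full and faithful. Then the left Kan
extension functor `u_!` on presheaves of sets is faithful, the unit `H ⟶ u^* u_! H` of the
adjunction `u_! ⊣ u^*` is a monomorphism for every presheaf `H`, and for every morphism of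
presheaves `α : H ⟶ K` the naturality square of the unit at `α` (with sides `α` and `u^* u_! α`) is
cartesian. (The published statement assumes only the condition on the slice functors, and its proof
uses that `u` is faithful; the slice condition alone does not suffice: for a nontrivial group viewed
as a one-object category mapping to the point every slice functor is an equivalence, while `u_!` is
the orbit-set functor on `G`-sets, which is not faithful, and the unit `G ⟶ G/G` is not a
monomorphism. So `u` is taken faithful here.) -/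
theorem result
    {C : Type u} [SmallCategory C] {C' : Type u} [SmallCategory C'] (u : C ⥤ C') [u.Faithful]
    (hu : ∀ X : C, (Over.post (X := X) u).Full ∧ (Over.post (X := X) u).Faithful) :
    (u.op.lan : (Cᵒᵖ ⥤ Type u) ⥤ (C'ᵒᵖ ⥤ Type u)).Faithful ∧
    (∀ H : Cᵒᵖ ⥤ Type u, Mono ((u.op.lanAdjunction (Type u)).unit.app H)) ∧
    ∀ (H K : Cᵒᵖ ⥤ Type u) (α : H ⟶ K),
      IsPullback ((u.op.lanAdjunction (Type u)).unit.app H) α
        (((Functor.whiskeringLeft Cᵒᵖ C'ᵒᵖ (Type u)).obj u.op).map (u.op.lan.map α))
        ((u.op.lanAdjunction (Type u)).unit.app K) := by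
  classical
  let adj := u.op.lanAdjunction (Type u)
  have cartesianMap : ∀ {X A A' : C} (h : A' ⟶ A) (a : X ⟶ A) (g : u.obj X ⟶ u.obj A'),
      g ≫ u.map h = u.map a → ∃ a' : X ⟶ A', u.map a' = g ∧ a' ≫ h = a := by
    intro X A A' h a g hg
    have := (hu A).1
    obtain ⟨q, hq⟩ := (Over.post (X := A) u).map_surjective
      (Over.homMk g hg : (Over.post (X := A) u).obj (Over.mk a) ⟶ (Over.post (X := A) u).obj (Over.mk h))
    exact ⟨q.left, congrArg CommaMorphism.left hq, Over.w q⟩
  have hφ : ∀ (H : Cᵒᵖ ⥤ Type u) (X : C), ∃ φ : (u.op.lan.obj H).obj (Opposite.op (u.obj X)) → Option (H.obj (Opposite.op X)),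
      (∀ z, ∀ h, φ z = some h → (adj.unit.app H).app (Opposite.op X) h = z) ∧
      (∀ h, φ ((adj.unit.app H).app (Opposite.op X) h) = some h) ∧
      (∀ (K : Cᵒᵖ ⥤ Type u) (α : H ⟶ K) (z : (u.op.lan.obj H).obj (Opposite.op (u.obj X)))
        (ψ : (u.op.lan.obj K).obj (Opposite.op (u.obj X)) → Option (K.obj (Opposite.op X))),
        (∀ (A : C) (g : u.obj X ⟶ u.obj A) (k : K.obj (Opposite.op A)),
          ψ ((u.op.lan.obj K).map g.op ((adj.unit.app K).app (Opposite.op A) k)) =
            if hg : ∃ a : X ⟶ A, u.map a = g then some (K.map hg.choose.op k) else none) →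
        ψ ((u.op.lan.map α).app _ z) = (φ z).map (α.app _)) ∧
      (∀ (A : C) (g : u.obj X ⟶ u.obj A) (h : H.obj (Opposite.op A)),
          φ ((u.op.lan.obj H).map g.op ((adj.unit.app H).app (Opposite.op A) h)) =
            if hg : ∃ a : X ⟶ A, u.map a = g then some (H.map hg.choose.op h) else none) := by
    intro H X
    let Y := Opposite.op (u.obj X)
    let E := Functor.LeftExtension.mk (u.op.lan.obj H) (u.op.lanUnit.app H)
    have hE : IsColimit (E.coconeAt Y) :=
      Functor.isPointwiseLeftKanExtensionLeftKanExtensionUnit u.op H Y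
    let val : ∀ (S : CostructuredArrow u.op Y), H.obj S.left → Option (H.obj (Opposite.op X)) :=
      fun S h => if hg : ∃ a : X ⟶ S.left.unop, u.map a = S.hom.unop then
        some (H.map hg.choose.op h) else none
    let c : Cocone (CostructuredArrow.proj u.op Y ⋙ H) :=
      { pt := Option (H.obj (Opposite.op X))
        ι :=
          { app := fun S => TypeCat.ofHom (val S)
            naturality := fun S S' m => by
              ext h
              change val S' (H.map m.left h) = val S h
              have w : S'.hom.unop ≫ u.map m.left.unop = S.hom.unop :=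
                congrArg Quiver.Hom.unop (CostructuredArrow.w m)
              by_cases h1 : ∃ a : X ⟶ S'.left.unop, u.map a = S'.hom.unop
              · have h2 : ∃ a : X ⟶ S.left.unop, u.map a = S.hom.unop :=
                  ⟨h1.choose ≫ m.left.unop, by rw [u.map_comp, h1.choose_spec, w]⟩
                simp only [val, dif_pos h1, dif_pos h2]
                have : h2.choose = h1.choose ≫ m.left.unop :=
                  u.map_injective (by rw [h2.choose_spec, u.map_comp, h1.choose_spec, w])
                rw [this, op_comp]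
                exact congrArg some (Functor.map_comp_apply H m.left.unop.op h1.choose.op h).symm
              · have h2 : ¬ ∃ a : X ⟶ S.left.unop, u.map a = S.hom.unop := by
                  rintro ⟨a, ha⟩
                  obtain ⟨a', ha', -⟩ := cartesianMap m.left.unop a S'.hom.unop (w.trans ha.symm)
                  exact h1 ⟨a', ha'⟩
                simp only [val, dif_neg h1, dif_neg h2] } }
    let φ : (u.op.lan.obj H).obj Y → Option (H.obj (Opposite.op X)) := hE.desc c
    have hfac : ∀ (A : C) (g : u.obj X ⟶ u.obj A) (h : H.obj (Opposite.op A)),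
        φ ((u.op.lan.obj H).map g.op ((adj.unit.app H).app (Opposite.op A) h)) =
          if hg : ∃ a : X ⟶ A, u.map a = g then some (H.map hg.choose.op h) else none := by
      intro A g h
      refine Eq.trans ?_ (ConcreteCategory.congr_hom
        (hE.fac c (CostructuredArrow.mk (S := u.op) (Y := Opposite.op A) g.op)) h)
      simp only [φ, adj, Functor.lanAdjunction_unit]
      rfl
    have hrep : ∀ z, ∃ (A : C) (g : u.obj X ⟶ u.obj A) (h : H.obj (Opposite.op A)),
        (u.op.lan.obj H).map g.op ((adj.unit.app H).app (Opposite.op A) h) = z := by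
      intro z
      obtain ⟨S, h, rfl⟩ := Types.jointly_surjective _ hE z
      refine ⟨S.left.unop, S.hom.unop, h, ?_⟩
      simp only [adj, Functor.lanAdjunction_unit]
      rfl
    refine ⟨φ, fun z h hz => ?_, fun h => ?_, fun K α z ψ hψ => ?_, hfac⟩
    · obtain ⟨A, g, h', rfl⟩ := hrep z
      rw [hfac] at hz
      by_cases hg : ∃ a : X ⟶ A, u.map a = g
      · rw [dif_pos hg] at hz
        obtain rfl := Option.some.inj hz
        refine (NatTrans.naturality_apply (adj.unit.app H) hg.choose.op h').trans ?_
        conv_rhs => rw [← hg.choose_spec]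
        rfl
      · simp [dif_neg hg] at hz
    · have := hfac X (𝟙 _) h
      have hg : ∃ a : X ⟶ X, u.map a = 𝟙 _ := ⟨𝟙 X, u.map_id X⟩
      rw [dif_pos hg, op_id] at this
      have h1 : hg.choose = 𝟙 X := u.map_injective (by rw [hg.choose_spec, u.map_id])
      rw [h1, op_id, FunctorToTypes.map_id_apply, FunctorToTypes.map_id_apply] at this
      exact this
    · obtain ⟨A, g, h, rfl⟩ := hrep z
      rw [hfac, NatTrans.naturality_apply]
      have hn := ConcreteCategory.congr_hom (congr_app (adj.unit.naturality α) (Opposite.op A)) h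
      refine Eq.trans (congrArg (fun t => ψ ((u.op.lan.obj K).map g.op t)) hn.symm) ?_
      refine (hψ A g _).trans ?_
      by_cases hg : ∃ a : X ⟶ A, u.map a = g
      · rw [dif_pos hg, dif_pos hg, Option.map_some]
        exact congrArg some (NatTrans.naturality_apply α _ h).symm
      · rw [dif_neg hg, dif_neg hg, Option.map_none]
  choose φ hsec hret hnat hval using hφ
  have hinj : ∀ (H : Cᵒᵖ ⥤ Type u) (Z : Cᵒᵖ),
      Function.Injective ((adj.unit.app H).app Z) := fun H Z x y e => by
    have := congrArg (φ H Z.unop) e
    exact Option.some.inj ((hret H Z.unop x).symm.trans (this.trans (hret H Z.unop y)))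
  have hmono : ∀ H, Mono (adj.unit.app H) := fun H => by
    have : ∀ Z, Mono ((adj.unit.app H).app Z) := fun Z => (mono_iff_injective _).2 (hinj H Z)
    exact NatTrans.mono_of_mono_app _
  refine ⟨adj.faithful_L_of_mono_unit_app, hmono, fun H K α => ?_⟩
  refine ⟨⟨(adj.unit.naturality α).symm⟩, ⟨evaluationJointlyReflectsLimits _ fun Z =>
    (isLimitMapConePullbackConeEquiv _ _).symm ?_⟩⟩
  have hex : ∀ (s : PullbackCone
      ((((evaluation Cᵒᵖ (Type u)).obj Z).map (((Functor.whiskeringLeft Cᵒᵖ C'ᵒᵖ (Type u)).obj u.op).map (u.op.lan.map α))))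
      ((((evaluation Cᵒᵖ (Type u)).obj Z).map (adj.unit.app K)))) (x : s.pt),
      ∃ h : H.obj Z, (adj.unit.app H).app Z h = s.fst x ∧ α.app Z h = s.snd x := by
    intro s x
    have h1 : φ K Z.unop ((u.op.lan.map α).app _ (s.fst x)) = some (s.snd x) :=
      (congrArg (φ K Z.unop) (ConcreteCategory.congr_hom s.condition x)).trans (hret K Z.unop _)
    rw [hnat H Z.unop K α (s.fst x) (φ K Z.unop) (hval K Z.unop), Option.map_eq_some_iff] at h1
    obtain ⟨h, hh, hh'⟩ := h1
    exact ⟨h, hsec H Z.unop _ _ hh, hh'⟩
  choose l hl₁ hl₂ using hex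
  refine PullbackCone.IsLimit.mk _ (fun s => TypeCat.ofHom (l s)) (fun s => ?_) (fun s => ?_)
    (fun s m h₁ _ => ?_)
  · ext x; exact hl₁ s x
  · ext x; exact hl₂ s x
  · ext x
    exact hinj H Z ((ConcreteCategory.congr_hom h₁ x).trans (hl₁ s x).symm)

end Groth.Agent.S6129
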