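import Groth.Statements.S6131
import Mathlib

set_option autoImplicit false
open CategoryTheory CategoryTheory.Limits
universe u
open SGA4

namespace Groth.Agent.S6131

/-- For a small site `(C, J)` and an object `X` of `C`, the sheaf associated to the presheaf represented
by `X` is an initial object of the category of sheaves of sets if and only if the empty sieve covers
`X`. -/
theorem result
    {C : Type u} [SmallCategory C] (J : GrothendieckTopology C) (X : C) :
    Nonempty (IsInitial ((presheafToSheaf J (Type u)).obj (yoneda.obj X))) ↔ (⊥ : Sieve X) ∈ J X := by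
  constructor
  · rintro ⟨hI⟩
    let Z : Cᵒᵖ ⥤ Type u := (Functor.const _).obj PEmpty.{u+1}
    have hZ : IsInitial Z := IsInitial.ofUniqueHom
      (fun G => { app := fun _ => TypeCat.ofHom fun x => x.elim, naturality := fun _ _ _ => by ext x; exact x.elim })
      (fun G m => by ext _ x; exact x.elim)
    let e := hI.to ((presheafToSheaf J (Type u)).obj Z)
    let x : (sheafify J Z).obj (Opposite.op X) :=
      yonedaEquiv (toSheafify J (yoneda.obj X) ≫ e.hom)
    have := Presheaf.imageSieve_mem J (toSheafify J Z) x
    convert this
    ext Y f
    constructor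
    · intro hf; exact hf.elim
    · rintro ⟨t, -⟩; exact t.elim
  · intro h
    have hu : ∀ (F : Sheaf J (Type u)), Unique (F.obj.obj (Opposite.op X)) := fun F => by
      have hs := (isSheaf_iff_isSheaf_of_type J F.obj).1 F.property ⊥ h
      have he := hs (fun Y f hf => hf.elim) (fun _ _ _ _ _ _ _ hf => hf.elim)
      exact ⟨⟨he.exists.choose⟩, fun y => he.unique (fun _ _ hf => hf.elim) he.exists.choose_spec⟩
    refine ⟨IsInitial.ofUniqueHom (fun F => ((sheafificationAdjunction J (Type u)).homEquiv _ F).symm
      (yonedaEquiv.symm (hu F).default)) fun F m => ?_⟩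
    apply ((sheafificationAdjunction J (Type u)).homEquiv _ F).injective
    apply yonedaEquiv.injective
    simp only [Equiv.apply_symm_apply]
    exact (hu F).eq_default _

end Groth.Agent.S6131
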