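import Groth.Statements.S6133
-- import your own Groth.Agent.* helpers here

set_option autoImplicit false
open CategoryTheory CategoryTheory.Limits
universe v₁ u₁
open SGA4

namespace Groth.Agent.S6133

/-- Let `C` be a separating family of objects of `E` and let `i' : X' ⟶ X`, `i'' : X'' ⟶ X` be regular
monomorphisms (equalizers of pairs). If for every `T` with `C T` a morphism `T ⟶ X` factors through
`i'` exactly when it factors through `i''`, then `i'` and `i''` define the same subobject of `X`: a
regular subobject is determined by the morphisms from objects of `C` that it contains. (The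
published statement is for strict subobjects, of which regular ones are a special case, and for a
generating family in the sense of jointly reflecting isomorphisms, while the published proof uses
joint faithfulness; the row takes `C` separating.) -/
theorem result
    {E : Type u₁} [Category.{v₁} E] {C : ObjectProperty E} (hC : C.IsSeparating)
    {X X' X'' : E} (i' : X' ⟶ X) (i'' : X'' ⟶ X) [IsRegularMono i'] [IsRegularMono i'']
    (h : ∀ (T : E), C T → ∀ (g : T ⟶ X),
      (∃ g' : T ⟶ X', g' ≫ i' = g) ↔ (∃ g'' : T ⟶ X'', g'' ≫ i'' = g)) :
    Subobject.mk i' = Subobject.mk i'' := by
  refine Subobject.mk_eq_mk_of_comm i' i'' ?_ ?_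
  · exact
      { hom := IsRegularMono.lift i'' i' (by
          refine hC _ _ fun T hT k => ?_
          obtain ⟨k', hk'⟩ := (h T hT (k ≫ i')).1 ⟨k, rfl⟩
          simp only [← Category.assoc, ← hk']
          simp [IsRegularMono.w])
        inv := IsRegularMono.lift i' i'' (by
          refine hC _ _ fun T hT k => ?_
          obtain ⟨k', hk'⟩ := (h T hT (k ≫ i'')).2 ⟨k, rfl⟩
          simp only [← Category.assoc, ← hk']
          simp [IsRegularMono.w])
        hom_inv_id := by simp [← cancel_mono i']
        inv_hom_id := by simp [← cancel_mono i''] }
  · simp

end Groth.Agent.S6133
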