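import Groth.Statements.S6134
import Mathlib

set_option autoImplicit false
open CategoryTheory CategoryTheory.Limits
universe u
open SGA4

namespace Groth.Agent.S6134

/-- Let `C` be a small category with topologies `J ≤ J'` (every `J`-covering sieve is `J'`-covering),
`X` an object and `s i : Y i ⟶ X` a family of morphisms. If the associated `J`-sheaf of the presheaf
represented by `X`, with the maps induced by the `s i`, is a coproduct of the associated `J`-sheaves
of the `Y i` (in sheaves of sets), then the same holds for `J'`. -/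
theorem result
    {C : Type u} [SmallCategory C] {J J' : GrothendieckTopology C} (hJ : J ≤ J')
    {X : C} {ι : Type u} (Y : ι → C) (s : ∀ i, Y i ⟶ X)
    (h : Nonempty (IsColimit (Cofan.mk ((presheafToSheaf J (Type u)).obj (yoneda.obj X))
      (fun i => (presheafToSheaf J (Type u)).map (yoneda.map (s i)))))) :
    Nonempty (IsColimit (Cofan.mk ((presheafToSheaf J' (Type u)).obj (yoneda.obj X))
      (fun i => (presheafToSheaf J' (Type u)).map (yoneda.map (s i))))) := by
  obtain ⟨hc⟩ := h
  let ι' : Sheaf J' (Type u) → Sheaf J (Type u) := fun G =>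
    ⟨G.obj, (isSheaf_iff_isSheaf_of_type J _).2
      (Presieve.isSheaf_of_le _ hJ ((isSheaf_iff_isSheaf_of_type J' _).1 G.property))⟩
  let e : ∀ (P : Cᵒᵖ ⥤ Type u) (G : Sheaf J' (Type u)),
      ((presheafToSheaf J' (Type u)).obj P ⟶ G) ≃ ((presheafToSheaf J (Type u)).obj P ⟶ ι' G) :=
    fun P G => ((sheafificationAdjunction J' (Type u)).homEquiv P G).trans
      ((sheafificationAdjunction J (Type u)).homEquiv P (ι' G)).symm
  have he : ∀ {P Q : Cᵒᵖ ⥤ Type u} (f : P ⟶ Q) (G : Sheaf J' (Type u))
      (d : (presheafToSheaf J' (Type u)).obj Q ⟶ G),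
      e P G ((presheafToSheaf J' (Type u)).map f ≫ d) =
        (presheafToSheaf J (Type u)).map f ≫ e Q G d := by
    intro P Q f G d
    simp only [e, Equiv.trans_apply]
    erw [Adjunction.homEquiv_naturality_left, Adjunction.homEquiv_naturality_left_symm]
  refine ⟨mkCofanColimit _
    (fun s => (e _ _).symm (Cofan.IsColimit.desc hc (fun i => e _ _ (s.inj i))))
    (fun s i => ?_) (fun s m hm => ?_)⟩
  · apply (e _ _).injective
    simp only [Cofan.mk_pt, Cofan.mk_ι_app, cofan_mk_inj]
    rw [he, Equiv.apply_symm_apply]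
    exact Cofan.IsColimit.fac hc _ i
  · apply (e _ _).injective
    rw [Equiv.apply_symm_apply]
    refine Cofan.IsColimit.hom_ext hc _ _ fun i => ?_
    rw [Cofan.IsColimit.fac]
    simp only [cofan_mk_inj] at hm ⊢
    rw [← he, hm]

end Groth.Agent.S6134
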