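import Groth.Statements.S6135
import Mathlib
import Groth.Agent.Topos.LanYoneda

set_option autoImplicit false
open CategoryTheory CategoryTheory.Limits
universe u
open SGA4

namespace Groth.Agent.S6135

/-- Faithful case. Let `u : C ⥤ C'` be a functor between small categories and `u_!` the left Kan
extension functor on presheaves of sets, whose restriction to ind-objects (presheaves that are small
filtered colimits of representables) is the induced functor `Ind C ⥤ Ind C'`. Then `u` is faithful
if and only if `u_!` is injective on morphisms between ind-representable presheaves. -/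
theorem result
    {C : Type u} [SmallCategory C] {C' : Type u} [SmallCategory C'] (u : C ⥤ C') :
    u.Faithful ↔ ∀ (F G : Cᵒᵖ ⥤ Type u), IsIndObject F → IsIndObject G →
      Function.Injective (fun φ : F ⟶ G => (u.op.lan : (Cᵒᵖ ⥤ Type u) ⥤ (C'ᵒᵖ ⥤ Type u)).map φ) := by
  let adj := u.op.lanAdjunction (Type u)
  constructor
  · intro hu F G _ hG φ ψ e
    have e' := congrArg (adj.homEquiv F _) e
    simp only [Adjunction.homEquiv_unit] at e'
    erw [← adj.unit.naturality φ, ← adj.unit.naturality ψ] at e'
    ext Z x
    exact Groth.Agent.Topos.LanYoneda.unit_injective_of_isIndObject u hG Z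
      (ConcreteCategory.congr_hom (congr_app e' Z) x)
  · intro h
    refine ⟨fun {X Y} g g' hg => ?_⟩
    have := h (yoneda.obj X) (yoneda.obj Y) (isIndObject_yoneda X) (isIndObject_yoneda Y)
      (a₁ := yoneda.map g) (a₂ := yoneda.map g') ?_
    · exact yoneda.map_injective this
    · apply (adj.homEquiv _ _).injective
      apply yonedaEquiv.injective
      rw [Adjunction.homEquiv_unit, Adjunction.homEquiv_unit]
      erw [← adj.unit.naturality, ← adj.unit.naturality]
      refine ((isIso_iff_bijective ((Groth.Agent.Topos.LanYoneda.betaHat u Y).app (u.op.obj (Opposite.op X)))).1 inferInstance).1 ?_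
      refine (Groth.Agent.Topos.LanYoneda.betaHat_unit_apply u (Z := Opposite.op X) (𝟙 X ≫ g)).trans
        (Eq.trans ?_ (Groth.Agent.Topos.LanYoneda.betaHat_unit_apply u (Z := Opposite.op X) (𝟙 X ≫ g')).symm)
      simp [hg]

end Groth.Agent.S6135
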