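import Groth.Statements.S6137
import Mathlib

set_option autoImplicit false
open CategoryTheory CategoryTheory.Limits
universe v u
open SGA4

namespace Groth.Agent.S6137

/-- Let `C` be a category with `v`-small hom-sets admitting all `v`-small limits, and `F : C ⥤ Type v` a
functor. Then `F` is corepresentable if and only if it is pro-representable (viewed as a presheaf on
`Cᵒᵖ` it is an ind-object, i.e. a small filtered colimit of corepresentable functors) and preserves
all `v`-small limits. -/
theorem result
    {C : Type u} [Category.{v} C] [HasLimitsOfSize.{v, v} C] (F : C ⥤ Type v) :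
    F.IsCorepresentable ↔
      IsIndObject (unopUnop C ⋙ F) ∧ PreservesLimitsOfSize.{v, v} F := by
  constructor
  · intro hF
    refine ⟨?_, inferInstance⟩
    obtain ⟨X, ⟨hX⟩⟩ := hF.has_corepresentation
    let e : yoneda.obj (Opposite.op X) ≅ unopUnop C ⋙ F :=
      NatIso.ofComponents (fun Z => ((opEquiv Z.unop (Opposite.op X)).trans hX.homEquiv).toIso)
        (fun {Z W} f => by
          ext g
          exact hX.homEquiv_comp f.unop.unop g.unop)
    exact IsIndObject.map e.hom (isIndObject_yoneda (Opposite.op X))
  · rintro ⟨hI, hF⟩
    obtain ⟨P⟩ := hI.nonempty_presentation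
    have : PreservesLimitsOfSize.{v, v} F := hF
    let B : P.I → F.Elements := fun a =>
      ⟨(P.F.obj a).unop, (yonedaEquiv (P.ι.app a) :)⟩
    have hB : ∀ E : F.Elements, ∃ a, Nonempty (B a ⟶ E) := by
      rintro ⟨X, x⟩
      obtain ⟨a, m, hm⟩ := Types.jointly_surjective _
        (isColimitOfPreserves ((evaluation _ (Type v)).obj (Opposite.op (Opposite.op X)))
          P.isColimit) x
      refine ⟨a, ⟨⟨m.unop, ?_⟩⟩⟩
      rw [← hm]
      have := ConcreteCategory.congr_hom ((P.ι.app a).naturality m.op) (𝟙 (P.F.obj a))
      refine this.symm.trans ?_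
      exact congrArg _ (Category.comp_id m)
    obtain ⟨T, hT⟩ := has_weakly_initial_of_weakly_initial_set_and_hasProducts hB
    have : HasInitial F.Elements := hasInitial_of_weakly_initial_and_hasWideEqualizers hT
    exact Functor.Elements.isCorepresentable_of_hasInitial F

end Groth.Agent.S6137
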