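import Groth.Statements.S6138
import Mathlib

set_option autoImplicit false
open CategoryTheory CategoryTheory.Limits Opposite
universe v u
open SGA4

namespace Groth.Agent.S6138

/-- Let `C` have coequalizers and pullbacks, let `F` be a presheaf of sets on `C` taking coequalizers of
`C` to equalizers, and let `u ∈ F(X)`, viewed as a morphism `h_X ⟶ F`. Then this morphism is a
monomorphism (the map `v ↦ F(v)(u)` is injective on `Hom(Y, X)` for every `Y`) if and only if `u` is
minimal: whenever `u = F(p)(u')` for an effective epimorphism `p : X ⟶ X'` and some `u' ∈ F(X')`,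
`p` is an isomorphism. (Coequalizers are used for one implication and pullbacks for the other; both
are assumed here.) -/
theorem result
    {C : Type u} [Category.{v} C] [HasCoequalizers C] [HasPullbacks C]
    (F : Cᵒᵖ ⥤ Type v) [PreservesLimitsOfShape WalkingParallelPair F]
    {X : C} (u : F.obj (op X)) :
    (∀ (Y : C) (v v' : Y ⟶ X), F.map v.op u = F.map v'.op u → v = v') ↔
      ∀ (X' : C) (p : X ⟶ X') (u' : F.obj (op X')),
        EffectiveEpi p → F.map p.op u' = u → IsIso p := by
  constructor
  · intro hinj X' p u' _ hu
    have : Mono p := by
      refine (pullback.isIso_diagonal_iff p).1 ?_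
      have hfs : pullback.fst p p = pullback.snd p p := by
        refine hinj _ _ _ ?_
        subst hu
        simp only [← ConcreteCategory.comp_apply, ← F.map_comp, ← op_comp]
        rw [pullback.condition]
      refine ⟨pullback.fst p p, pullback.diagonal_fst p, ?_⟩
      ext <;> simp [hfs]
    exact isIso_of_mono_of_strongEpi p
  · intro hmin Y v v' hv
    let π := coequalizer.π v v'
    have w : π.op ≫ v.op = π.op ≫ v'.op := by
      rw [← op_comp, ← op_comp, coequalizer.condition]
    have hl : IsLimit (Fork.ofι π.op w) :=
      (Cofork.isColimitOfπEquivIsLimitOp π π (coequalizer.condition v v') w rfl)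
        (coequalizerIsCoequalizer v v')
    have hl' := isLimitForkMapOfIsLimit F w hl
    obtain ⟨u', hu', -⟩ := Types.unique_of_type_equalizer _ _ hl' u hv
    have : IsIso π := hmin _ π u' inferInstance hu'
    rw [← cancel_mono π]
    exact coequalizer.condition v v'

end Groth.Agent.S6138
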