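import Groth.Statements.S6139
-- import your own Groth.Agent.* helpers here

set_option autoImplicit false
open CategoryTheory CategoryTheory.Limits
universe v u
open SGA4

namespace Groth.Agent.S6139

/-- For an object `X` of a category `C`, the empty sieve on `X` is covering for the canonical topology
of `C` (the finest topology for which every representable presheaf is a sheaf) if and only if `X` is
a strict initial object: `X` is initial and every morphism with target `X` is an isomorphism. (The
source phrases the first condition as: for some topology coarser than the canonical one the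
associated sheaf of `h_X` is initial; that sheaf is initial exactly when the empty sieve covers `X`,
and coverage by the empty sieve passes to the finer canonical topology.) -/
theorem result
    {C : Type u} [Category.{v} C] (X : C) :
    (⊥ : Sieve X) ∈ Sheaf.canonicalTopology C X ↔
      (Nonempty (IsInitial X) ∧ ∀ (Y : C) (f : Y ⟶ X), IsIso f) := by
  constructor
  · intro h
    have hu : ∀ (Y : C), (⊥ : Sieve Y) ∈ Sheaf.canonicalTopology C Y → ∀ Z, Nonempty (Unique (Y ⟶ Z)) := by
      intro Y hY Z
      obtain ⟨x, -, hx⟩ := Sheaf.isSheaf_yoneda_obj Z ⊥ hY (fun _ _ hf => hf.elim)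
        (fun _ _ _ _ _ _ _ hf => hf.elim)
      exact ⟨⟨⟨x⟩, fun y => hx y (fun _ _ hf => hf.elim)⟩⟩
    have hI : ∀ (Y : C), (⊥ : Sieve Y) ∈ Sheaf.canonicalTopology C Y → Nonempty (IsInitial Y) :=
      fun Y hY => ⟨IsInitial.ofUniqueHom (fun Z => (hu Y hY Z).some.default)
        fun Z m => (hu Y hY Z).some.eq_default m⟩
    refine ⟨hI X h, fun Y f => ?_⟩
    have hY : (⊥ : Sieve Y) ∈ Sheaf.canonicalTopology C Y := by
      convert (Sheaf.canonicalTopology C).pullback_stable f h
      ext; exact Iff.rfl
    obtain ⟨iY⟩ := hI Y hY
    obtain ⟨iX⟩ := hI X h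
    exact ⟨iX.to Y, iY.hom_ext _ _, iX.hom_ext _ _⟩
  · rintro ⟨⟨hI⟩, hiso⟩
    refine Sheaf.mem_finestTopology_of_forall_isSheafFor ?_
    rintro _ ⟨Z, rfl⟩ Y f x _
    have := hiso Y f
    have hY : IsInitial Y := hI.ofIso (asIso f).symm
    refine ⟨hY.to Z, fun W g hg => hg.elim, fun t _ => hY.hom_ext _ _⟩

end Groth.Agent.S6139
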