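import Groth.Statements.S6140
import Mathlib
import Groth.Agent.Topos.Coprod
import Groth.Agent.Topos.CommaTopos

set_option autoImplicit false
open CategoryTheory CategoryTheory.Limits
universe u
open SGA4

namespace Groth.Agent.S6140

/-- Let `C` be a small category with pullbacks, `p₁ p₂ : R ⇉ X` an equivalence relation in `C` admitting
a coequalizer cofork `c`, and `ε` the canonical functor to sheaves of sets for the canonical
topology of `C`. Then the equivalence relation is effective and universal (`R` is the kernel pair of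
the quotient map, which is a coequalizer all of whose base changes are effective epimorphisms) if
and only if `ε` takes `c` to a coequalizer of `ε p₁, ε p₂`. (For a small category every topology has
a small topologically generating family, so both implications of the published statement apply. The
published statement asks only that the quotient map have all base changes; this row assumes that `C`
has all pullbacks.) -/
theorem result
    {C : Type u} [SmallCategory C] [HasPullbacks C] {R X : C} (p₁ p₂ : R ⟶ X)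
    (hR : SGA4.IsEquivRel p₁ p₂) (c : Cofork p₁ p₂) (hc : IsColimit c) :
    SGA4.IsEffectiveUniversalEquivRel p₁ p₂ ↔
      Nonempty (IsColimit ((yoneda ⋙ presheafToSheaf (Sheaf.canonicalTopology C) (Type u)).mapCocone c)) := by
  let J := Sheaf.canonicalTopology C
  let L := presheafToSheaf J (Type u)
  let ε := yoneda ⋙ L
  let e : ε ≅ J.yoneda :=
    NatIso.ofComponents (fun Z => (asIso ((sheafificationAdjunction J (Type u)).counit.app (J.yoneda.obj Z)) :))
      (fun f => (sheafificationAdjunction J (Type u)).counit.naturality (J.yoneda.map f))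
  have : ε.Full := Functor.Full.of_iso e.symm
  have : ε.Faithful := Functor.Faithful.of_iso e.symm
  have hE := Groth.Agent.Topos.Gen.axioms J
  have hεR : SGA4.IsEquivRel (ε.map p₁) (ε.map p₂) := by
    refine Groth.Agent.Topos.CommaTopos.isEquivRel_map_of_lex L ?_
    intro T
    have hinj : ∀ a b : T ⟶ yoneda.obj R, a ≫ yoneda.map p₁ = b ≫ yoneda.map p₁ →
        a ≫ yoneda.map p₂ = b ≫ yoneda.map p₂ → a = b := fun a b h₁ h₂ => by
      ext Z x
      exact (hR Z.unop).1 (Prod.ext (ConcreteCategory.congr_hom (congr_app h₁ Z) x)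
        (ConcreteCategory.congr_hom (congr_app h₂ Z) x))
    refine ⟨fun a b h => hinj a b (congrArg Prod.fst h) (congrArg Prod.snd h), ⟨?_, ?_, ?_⟩⟩
    · intro a
      obtain ⟨r, hr₁, hr₂⟩ := (hR X).2.refl (𝟙 X)
      exact ⟨a ≫ yoneda.map r, by rw [Category.assoc, ← yoneda.map_comp, hr₁, yoneda.map_id, Category.comp_id],
        by rw [Category.assoc, ← yoneda.map_comp, hr₂, yoneda.map_id, Category.comp_id]⟩
    · rintro a b ⟨f, hf₁, hf₂⟩
      obtain ⟨σ, hσ₁, hσ₂⟩ := (hR R).2.symm ⟨𝟙 R, Category.id_comp p₁, Category.id_comp p₂⟩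
      exact ⟨f ≫ yoneda.map σ, by rw [Category.assoc, ← yoneda.map_comp, hσ₁, hf₂],
        by rw [Category.assoc, ← yoneda.map_comp, hσ₂, hf₁]⟩
    · rintro a b d ⟨f, hf₁, hf₂⟩ ⟨g, hg₁, hg₂⟩
      obtain ⟨τ, hτ₁, hτ₂⟩ := (hR (pullback p₂ p₁)).2.trans
        ⟨pullback.fst p₂ p₁, rfl, rfl⟩ ⟨pullback.snd p₂ p₁, pullback.condition.symm, rfl⟩
      have hP := (IsPullback.of_hasPullback p₂ p₁).map yoneda
      refine ⟨hP.lift f g (hf₂.trans hg₁.symm) ≫ yoneda.map τ, ?_, ?_⟩
      · rw [Category.assoc, ← yoneda.map_comp, hτ₁, yoneda.map_comp, hP.lift_fst_assoc, hf₁]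
      · rw [Category.assoc, ← yoneda.map_comp, hτ₂, yoneda.map_comp, hP.lift_snd_assoc, hg₂]
  have hcov_iff : ∀ {A B : C} (π : A ⟶ B),
      Groth.Agent.Topos.Cover.Covering (fun _ : PUnit.{u+1} => ε.map π) ↔
        Sieve.ofArrows (fun _ : PUnit.{u+1} => A) (fun _ => π) ∈ J B :=
    fun {A B} π => Groth.Agent.Topos.Coprod.covering_map_iff J
      (fun _ : PUnit.{u+1} => A) (fun _ => π)
  have hpb : ∀ {A B : C} (π : A ⟶ B) {B' : C} (g : B' ⟶ B),
      (Sieve.ofArrows (fun _ : PUnit.{u+1} => A) (fun _ => π)).pullback g =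
        Sieve.generate (Presieve.singleton (pullback.snd π g)) := by
    intro A B π B' g
    rw [Sieve.generateSingleton_eq]
    ext V f
    constructor
    · intro hf
      obtain ⟨_, a, ha⟩ := (Sieve.mem_ofArrows_iff _ _ _).1 hf
      exact ⟨pullback.lift a f ha.symm, pullback.lift_snd _ _ _⟩
    · rintro ⟨a, rfl⟩
      refine (Sieve.mem_ofArrows_iff _ _ _).2 ⟨PUnit.unit, a ≫ pullback.fst π g, ?_⟩
      rw [Category.assoc, Category.assoc, pullback.condition]
  have hcov_eff : ∀ {A B : C} (π : A ⟶ B),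
      Sieve.ofArrows (fun _ : PUnit.{u+1} => A) (fun _ => π) ∈ J B ↔
        ∀ (B' : C) (g : B' ⟶ B), EffectiveEpi (pullback.snd π g) := by
    intro A B π
    constructor
    · intro h B' g
      rw [← Sieve.effectiveEpimorphic_singleton, Presieve.EffectiveEpimorphic.iff_forall_isSheafFor_yoneda]
      intro Y
      rw [Presieve.isSheafFor_iff_generate, ← hpb π g]
      exact Sheaf.isSheaf_yoneda_obj Y _ (J.pullback_stable g h)
    · intro h
      refine Sheaf.mem_finestTopology_of_forall_isSheafFor ?_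
      rintro _ ⟨Y, rfl⟩ B' g
      rw [hpb π g, ← Presieve.isSheafFor_iff_generate]
      exact Presieve.EffectiveEpimorphic.iff_forall_isSheafFor_yoneda _ |>.1
        ((Sieve.effectiveEpimorphic_singleton _).2 (h B' g)) Y
  have key : Nonempty (IsColimit (ε.mapCocone c)) ↔
      Nonempty (IsColimit (Cofork.ofπ (f := ε.map p₁) (g := ε.map p₂) (ε.map c.π)
        (by rw [← ε.map_comp, ← ε.map_comp, c.condition]))) :=
    ((IsColimit.equivIsoColimit ((Cocone.functoriality _ ε).mapIso (Cofork.isoCoforkOfπ c))).trans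
      (isColimitMapCoconeCoforkEquiv ε c.condition)).nonempty_congr
  rw [key]
  constructor
  · rintro ⟨B, π, h₁, h₂, h₃⟩
    obtain ⟨i, hi⟩ : ∃ i : B ≅ c.pt, π ≫ i.hom = c.π := by
      let a : B ⟶ c.pt := h₂.desc c.π c.π c.condition
      let b : c.pt ⟶ B := Cofork.IsColimit.desc hc π h₁.w
      have ha : π ≫ a = c.π := h₂.inl_desc _ _ _
      have hb : c.π ≫ b = π := Cofork.IsColimit.π_desc' hc π h₁.w
      refine ⟨⟨a, b, ?_, ?_⟩, ha⟩
      · apply h₂.hom_ext <;> rw [reassoc_of% ha, hb, Category.comp_id]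
      · apply Cofork.IsColimit.hom_ext hc
        rw [reassoc_of% hb, ha, Category.comp_id]
    have hpull : IsPullback (ε.map p₁) (ε.map p₂) (ε.map c.π) (ε.map c.π) := by
      refine IsPullback.map ε ?_
      exact h₁.of_iso (Iso.refl _) (Iso.refl _) (Iso.refl _) i (by simp) (by simp) (by simpa using hi)
        (by simpa using hi)
    have hcov : Groth.Agent.Topos.Cover.Covering (fun _ : PUnit.{u+1} => ε.map c.π) := by
      have h := (hcov_iff π).2 ((hcov_eff π).2 h₃)
      intro M m hm hfac
      obtain ⟨g, hg⟩ := hfac PUnit.unit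
      have hcomp : Mono (m ≫ ε.map i.inv) := inferInstance
      have := h (m ≫ ε.map i.inv) hcomp fun _ => ⟨g, by
        rw [reassoc_of% hg, ← ε.map_comp, ← hi, Category.assoc, i.hom_inv_id, Category.comp_id]⟩
      exact IsIso.of_isIso_comp_right m (ε.map i.inv)
    refine ⟨Cofork.IsColimit.mk' _ fun s => ?_⟩
    have hw : ∀ (_ _ : PUnit.{u+1}) (T : Sheaf J (Type u)) (g g' : T ⟶ ε.obj X),
        g ≫ ε.map c.π = g' ≫ ε.map c.π → g ≫ s.π = g' ≫ s.π := fun _ _ T g g' h => by
      calc g ≫ s.π = (hpull.lift g g' h ≫ ε.map p₁) ≫ s.π := by rw [hpull.lift_fst]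
        _ = (hpull.lift g g' h ≫ ε.map p₂) ≫ s.π := by rw [Category.assoc, s.condition, Category.assoc]
        _ = g' ≫ s.π := by rw [hpull.lift_snd]
    choose b hb using hE.exists_desc hcov (fun _ => s.π) hw
    exact ⟨b, hb PUnit.unit, fun {m} hm => Groth.Agent.Topos.Cover.covering_hom_ext hcov
      fun _ => hm.trans (hb PUnit.unit).symm⟩
  · rintro ⟨hl⟩
    obtain ⟨B', π', h₁, h₂, h₃⟩ := hE.quot _ _ _ _ hεR
    let a : B' ⟶ ε.obj c.pt := h₂.desc (ε.map c.π) (ε.map c.π)
      (by rw [← ε.map_comp, ← ε.map_comp, c.condition])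
    let b : ε.obj c.pt ⟶ B' := Cofork.IsColimit.desc hl π' h₁.w
    have ha : π' ≫ a = ε.map c.π := h₂.inl_desc _ _ _
    have hb : ε.map c.π ≫ b = π' := Cofork.IsColimit.π_desc' hl π' h₁.w
    let i : B' ≅ ε.obj c.pt := ⟨a, b,
      by apply h₂.hom_ext <;> rw [reassoc_of% ha, hb, Category.comp_id],
      by apply Cofork.IsColimit.hom_ext hl; erw [reassoc_of% hb, ha, Category.comp_id]; rfl⟩
    have hpull : IsPullback (ε.map p₁) (ε.map p₂) (ε.map c.π) (ε.map c.π) :=
      h₁.of_iso (Iso.refl _) (Iso.refl _) (Iso.refl _) i (by simp) (by simp) (by simpa [i] using ha)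
        (by simpa [i] using ha)
    have hp : IsPullback p₁ p₂ c.π c.π := hpull.of_map ε c.condition
    refine ⟨c.pt, c.π, hp, ?_, ?_⟩
    · refine ⟨⟨c.condition⟩, ⟨PushoutCocone.IsColimit.mk _
        (fun s => Cofork.IsColimit.desc hc s.inl ?_) (fun s => Cofork.IsColimit.π_desc' _ _ _)
        (fun s => ?_) (fun s m h₁ h₂ => ?_)⟩⟩
      · obtain ⟨r, hr₁, hr₂⟩ := (hR X).2.refl (𝟙 X)
        have e : s.inl = s.inr := by
          have := congrArg (r ≫ ·) s.condition
          simpa [reassoc_of% hr₁, reassoc_of% hr₂] using this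
        exact s.condition.trans (congrArg (p₂ ≫ ·) e.symm)
      · obtain ⟨r, hr₁, hr₂⟩ := (hR X).2.refl (𝟙 X)
        have e : s.inl = s.inr := by
          have := congrArg (r ≫ ·) s.condition
          simpa [reassoc_of% hr₁, reassoc_of% hr₂] using this
        exact (Cofork.IsColimit.π_desc' _ _ _).trans e
      · exact Cofork.IsColimit.hom_ext hc (h₁.trans (Cofork.IsColimit.π_desc' hc _ _).symm)
    · refine (hcov_eff c.π).1 ((hcov_iff c.π).1 ?_)
      intro M m hm hfac
      obtain ⟨g, hg⟩ := hfac PUnit.unit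
      have hg1 : ε.map p₁ ≫ g = ε.map p₂ ≫ g := by
        rw [← cancel_mono m, Category.assoc, Category.assoc, hg, ← ε.map_comp, ← ε.map_comp,
          c.condition]
      have e₁ : Cofork.IsColimit.desc hl g hg1 ≫ m = 𝟙 _ := by
        apply Cofork.IsColimit.hom_ext hl
        rw [Cofork.IsColimit.π_desc'_assoc, hg]
        exact (Category.comp_id _).symm
      exact ⟨⟨Cofork.IsColimit.desc hl g hg1, by
        rw [← cancel_mono m, Category.assoc, e₁]; simp, e₁⟩⟩

end Groth.Agent.S6140
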