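import Groth.Statements.S6142
import Mathlib

set_option autoImplicit false
open CategoryTheory
universe u
open SGA4

namespace Groth.Agent.S6142

/-- Let `u : C ⥤ C'` be a continuous and cocontinuous functor between small sites whose topologies are
subcanonical. If the left adjoint `u_!` of the restriction functor `u^*` on sheaves of sets is full
and faithful, then `u` is full and faithful. -/
theorem result
    {C : Type u} [SmallCategory C] {C' : Type u} [SmallCategory C']
    (J : GrothendieckTopology C) (K : GrothendieckTopology C') [J.Subcanonical] [K.Subcanonical]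
    (u : C ⥤ C') [u.IsContinuous J K] [u.IsCocontinuous J K]
    (h : (u.sheafPullback (Type u) J K).Full ∧ (u.sheafPullback (Type u) J K).Faithful) :
    u.Full ∧ u.Faithful := by
  obtain ⟨h1, h2⟩ := h
  let P := u.sheafPullback (Type u) J K
  let adj := u.sheafAdjunctionContinuous (Type u) J K
  let β : ∀ X : C, J.yoneda.obj X ⟶ (u.sheafPushforwardContinuous (Type u) J K).obj
      (K.yoneda.obj (u.obj X)) := fun X => ⟨yonedaEquiv.symm (𝟙 (u.obj X))⟩
  let α : ∀ X : C, P.obj (J.yoneda.obj X) ⟶ K.yoneda.obj (u.obj X) := fun X =>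
    (adj.homEquiv _ _).symm (β X)
  have key : ∀ (X : C) (G : Sheaf K (Type u)) (g : K.yoneda.obj (u.obj X) ⟶ G),
      yonedaEquiv (adj.homEquiv _ _ (α X ≫ g)).hom = yonedaEquiv g.hom := by
    intro X G g
    rw [Adjunction.homEquiv_naturality_right, Equiv.apply_symm_apply]
    change g.hom.app _ (u.map (𝟙 X) ≫ 𝟙 _) = g.hom.app _ (𝟙 _)
    simp
  have hα : ∀ X, IsIso (α X) := by
    intro X
    rw [isIso_iff_coyoneda_map_bijective]
    intro G
    constructor
    · intro g g' e
      refine ObjectProperty.hom_ext _ (yonedaEquiv.injective ?_)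
      rw [← key, ← key]
      exact congrArg (fun t => yonedaEquiv (adj.homEquiv _ _ t).hom) e
    · intro t
      refine ⟨⟨yonedaEquiv.symm (yonedaEquiv (adj.homEquiv _ _ t).hom :)⟩, ?_⟩
      apply (adj.homEquiv _ _).injective
      refine ObjectProperty.hom_ext _ (yonedaEquiv.injective ?_)
      refine (key X G _).trans ?_
      exact Equiv.apply_symm_apply _ _
  let e : J.yoneda ⋙ P ≅ u ⋙ K.yoneda := NatIso.ofComponents
    (fun X => have := hα X; asIso (α X)) (fun {X Y} f => by
      simp only [asIso_hom]
      change P.map (J.yoneda.map f) ≫ α Y = α X ≫ K.yoneda.map (u.map f)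
      apply (adj.homEquiv _ _).injective
      refine ObjectProperty.hom_ext _ (yonedaEquiv.injective ?_)
      rw [key, Adjunction.homEquiv_naturality_left, Equiv.apply_symm_apply]
      change u.map (𝟙 X ≫ f) ≫ 𝟙 _ = 𝟙 _ ≫ u.map f
      simp)
  have : (u ⋙ K.yoneda).Full := Functor.Full.of_iso e
  have : (u ⋙ K.yoneda).Faithful := Functor.Faithful.of_iso e
  exact ⟨Functor.Full.of_comp_faithful u K.yoneda, Functor.Faithful.of_comp u K.yoneda⟩

end Groth.Agent.S6142
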