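import Groth.Statements.S6143
import Mathlib
import Groth.Agent.S12108
import Groth.Agent.S6131
import Groth.Agent.S6139
import Groth.Agent.S6132

set_option autoImplicit false
open CategoryTheory CategoryTheory.Limits
universe u
open SGA4

namespace Groth.Agent.S6143

/-- Let `C` be a small category, `X` an object and `s i : Y i ⟶ X` a family of morphisms all of whose
base changes exist. Then the associated sheaf of `h_X` for the canonical topology, with the maps
induced by the `s i`, is a coproduct of the associated sheaves of the `h_{Y i}` (in sheaves of sets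
for the canonical topology) if and only if `X` is a disjoint universal coproduct of the `Y i` in
`C`: the cofan `(X, s)` is a colimit, the injections of a coproduct of the family are monomorphisms
with pairwise pullbacks initial, and the colimit is stable under base change. (The source asks for
the coproduct decomposition after sheafification for some topology coarser than the canonical one;
this is equivalent to asking it for the canonical topology itself.) -/
theorem result
    {C : Type u} [SmallCategory C] {X : C} {ι : Type u} (Y : ι → C) (s : ∀ i, Y i ⟶ X)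
    [∀ (i : ι) (Z : C) (g : Z ⟶ X), HasPullback (s i) g] :
    Nonempty (IsColimit (Cofan.mk
        ((presheafToSheaf (Sheaf.canonicalTopology C) (Type u)).obj (yoneda.obj X))
        (fun i => (presheafToSheaf (Sheaf.canonicalTopology C) (Type u)).map (yoneda.map (s i))))) ↔
      (Nonempty (IsColimit (Cofan.mk X s)) ∧ CoproductDisjoint Y ∧
        IsUniversalColimit (Cofan.mk X s)) := by
  have hsub : ∀ Z : C, Presieve.IsSheaf (Sheaf.canonicalTopology C) (yoneda.obj Z) :=
    Sheaf.isSheaf_yoneda_obj
  let J := Sheaf.canonicalTopology C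
  constructor
  · intro h
    obtain ⟨hcov, hdiag, hdis⟩ := (Groth.Agent.S12108.result J Y s).2 h
    let e : yoneda ⋙ presheafToSheaf J (Type u) ≅ J.yoneda :=
      NatIso.ofComponents (fun Z => (asIso ((sheafificationAdjunction J (Type u)).counit.app (J.yoneda.obj Z)) :))
        (fun f => (sheafificationAdjunction J (Type u)).counit.naturality (J.yoneda.map f))
    have : (yoneda ⋙ presheafToSheaf J (Type u)).Faithful := Functor.Faithful.of_iso e.symm
    have hm : ∀ i, Mono (s i) := fun i => by
      refine ⟨fun {T} g g' eq => (yoneda ⋙ presheafToSheaf J (Type u)).map_injective ?_⟩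
      have : Mono ((presheafToSheaf J (Type u)).map (yoneda.map (s i))) := by
        refine (Groth.Agent.Topos.Coprod.mono_iff_isIso_diagonal_of_isPullback
          ((IsPullback.of_hasPullback (yoneda.map (s i)) (yoneda.map (s i))).map
            (presheafToSheaf J (Type u))) _ ?_ ?_).2 (hdiag i)
        · rw [← Functor.map_comp, pullback.diagonal_fst, CategoryTheory.Functor.map_id]
        · rw [← Functor.map_comp, pullback.diagonal_snd, CategoryTheory.Functor.map_id]
      rw [← cancel_mono ((presheafToSheaf J (Type u)).map (yoneda.map (s i)))]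
      dsimp
      rw [← Functor.map_comp, ← Functor.map_comp, ← Functor.map_comp, ← Functor.map_comp, eq]
    have hbot : ∀ i j, i ≠ j → (⊥ : Sieve (pullback (s i) (s j))) ∈ J (pullback (s i) (s j)) := by
      intro i j hij
      obtain ⟨hI⟩ := hdis i j hij
      exact (Groth.Agent.S6131.result J _).1 ⟨hI.ofIso ((presheafToSheaf J (Type u)).mapIso
        (PreservesPullback.iso yoneda (s i) (s j))).symm⟩
    have main : ∀ {W : C} (Y' : ι → C) (t : ∀ i, Y' i ⟶ W),
        Sieve.ofArrows Y' t ∈ J W → (∀ i, Mono (t i)) →
        (∀ i j, i ≠ j → ∀ (T : C) (g : T ⟶ Y' i) (g' : T ⟶ Y' j), g ≫ t i = g' ≫ t j →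
          (⊥ : Sieve T) ∈ J T) → Nonempty (IsColimit (Cofan.mk W t)) := by
      intro W Y' t hc hmo hd
      have hext : ∀ {Z : C} (a b : W ⟶ Z), (∀ i, t i ≫ a = t i ≫ b) → a = b := by
        intro Z a b hab
        refine (hsub Z _ hc).isSeparatedFor.ext fun V f hf => ?_
        obtain ⟨i, g, rfl⟩ := (Sieve.mem_ofArrows_iff Y' t f).1 hf
        change (g ≫ t i) ≫ a = (g ≫ t i) ≫ b
        rw [Category.assoc, Category.assoc, hab i]
      have hex : ∀ c : Cofan Y', ∃ b : W ⟶ c.pt, ∀ i, t i ≫ b = c.inj i := by
        intro c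
        have wd : ∀ {V : C} i j (g : V ⟶ Y' i) (g' : V ⟶ Y' j), g ≫ t i = g' ≫ t j →
            g ≫ c.inj i = g' ≫ c.inj j := by
          intro V i j g g' eq
          by_cases hij : i = j
          · subst hij
            rw [(cancel_mono (t i)).1 eq]
          · exact (hsub c.pt ⊥ (hd i j hij V g g' eq)).isSeparatedFor.ext fun _ _ hf => hf.elim
        choose ii gg hg using fun V (f : V ⟶ W) (hf : Sieve.ofArrows Y' t f) =>
          (Sieve.mem_ofArrows_iff Y' t f).1 hf
        let x : Presieve.FamilyOfElements (yoneda.obj c.pt) (Sieve.ofArrows Y' t).arrows :=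
          fun V f hf => gg V f hf ≫ c.inj (ii V f hf)
        have hx : x.Compatible := by
          intro V₁ V₂ U g₁ g₂ f₁ f₂ h₁ h₂ eq
          change g₁ ≫ gg V₁ f₁ h₁ ≫ c.inj (ii V₁ f₁ h₁) = g₂ ≫ gg V₂ f₂ h₂ ≫ c.inj (ii V₂ f₂ h₂)
          rw [← Category.assoc, ← Category.assoc]
          refine wd _ _ _ _ ?_
          rw [Category.assoc, Category.assoc, ← hg V₁ f₁ h₁, ← hg V₂ f₂ h₂, eq]
        obtain ⟨b, hb, -⟩ := hsub c.pt _ hc x hx
        refine ⟨b, fun i => (hb (t i) (Sieve.ofArrows_mk Y' t i)).trans ?_⟩
        refine (wd _ i _ (𝟙 (Y' i)) ?_).trans (Category.id_comp _)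
        rw [Category.id_comp, ← hg]
      choose b hb using hex
      exact ⟨Cofan.IsColimit.mk _ b hb fun c m hm =>
        hext _ _ fun i => (hm i).trans (hb c i).symm⟩
    obtain ⟨hc⟩ := main Y s hcov hm fun i j hij T g g' eq => by
      convert J.pullback_stable (pullback.lift g g' eq) (hbot i j hij)
      ext
      exact Iff.rfl
    refine ⟨⟨hc⟩, ?_, ?_⟩
    · have : ∀ i, Mono ((Cofan.mk X s).inj i) := hm
      exact CoproductDisjoint.of_cofan hc
        (fun {i j} _ => PullbackCone.mk (pullback.fst (s i) (s j)) (pullback.snd (s i) (s j)) pullback.condition)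
        (fun {i j} _ => pullbackIsPullback (s i) (s j))
        (fun {i j} hij => ((Groth.Agent.S6139.result _).1 (hbot i j hij)).1.some)
    · intro F' c' α f hα _ hpb
      let Y' : ι → C := fun i => F'.obj ⟨i⟩
      let t : ∀ i, Y' i ⟶ c'.pt := fun i => c'.ι.app ⟨i⟩
      have hsieve : Sieve.ofArrows Y' t ∈ J c'.pt := by
        refine J.superset_covering ?_ (J.pullback_stable f hcov)
        intro V g hg
        obtain ⟨i, a, ha⟩ := (Sieve.mem_ofArrows_iff Y s _).1 hg
        refine (Sieve.mem_ofArrows_iff Y' t g).2 ⟨i, (hpb ⟨i⟩).lift g a ha, ?_⟩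
        exact ((hpb ⟨i⟩).lift_fst _ _ _).symm
      have hmo : ∀ i, Mono (t i) := fun i => by
        have : Mono ((Cofan.mk X s).ι.app ⟨i⟩) := hm i
        exact PullbackCone.mono_fst_of_is_pullback_of_mono (hpb ⟨i⟩).isLimit
      have hd : ∀ i j, i ≠ j → ∀ (T : C) (g : T ⟶ Y' i) (g' : T ⟶ Y' j), g ≫ t i = g' ≫ t j →
          (⊥ : Sieve T) ∈ J T := by
        intro i j hij T g g' eq
        have w : ∀ k : ι, t k ≫ f = α.app ⟨k⟩ ≫ s k := fun k => (hpb ⟨k⟩).w
        have eq' : (g ≫ α.app ⟨i⟩) ≫ s i = (g' ≫ α.app ⟨j⟩) ≫ s j := by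
          have := congrArg (· ≫ f) eq
          simp only [Category.assoc] at this
          refine (Category.assoc _ _ _).trans (Eq.trans ?_ (Category.assoc _ _ _).symm)
          exact (congrArg (g ≫ ·) (w i)).symm.trans (this.trans (congrArg (g' ≫ ·) (w j)))
        convert J.pullback_stable (pullback.lift _ _ eq') (hbot i j hij)
        ext
        exact Iff.rfl
      obtain ⟨hc'⟩ := main Y' t hsieve hmo hd
      exact ⟨(IsColimit.precomposeHomEquiv (Discrete.natIsoFunctor (F := F')).symm c')
        (IsColimit.ofIsoColimit hc' (Cocone.ext (Iso.refl _) (by rintro ⟨i⟩; simp [t]; exact (Category.id_comp _).symm)))⟩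
  · rintro ⟨⟨hc⟩, hd, hu⟩
    have hm : ∀ i, Mono (s i) := fun i => hd.mono_inj hc i
    have hI : ∀ i j, i ≠ j → Nonempty (IsInitial (pullback (s i) (s j))) := fun i j hij =>
      hd.nonempty_isInitial_of_ne hc hij
        (PullbackCone.mk (pullback.fst (s i) (s j)) (pullback.snd (s i) (s j)) pullback.condition)
        (pullbackIsPullback (s i) (s j))
    have base : ∀ {W : C} (f : W ⟶ X),
        Nonempty (IsColimit (Cofan.mk W (fun i => pullback.snd (s i) f))) := by
      intro W f
      exact hu (Cofan.mk W (fun i => pullback.snd (s i) f))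
        (Discrete.natTrans fun k => pullback.fst (s k.as) f) f
        (by ext ⟨k⟩; exact pullback.condition)
        (NatTrans.Equifibered.of_discrete _)
        (fun ⟨k⟩ => (IsPullback.of_hasPullback (s k) f).flip)
    refine Groth.Agent.S6132.result J Y s ?_ hm fun i j hij => ?_
    · refine Sheaf.mem_finestTopology_of_forall_isSheafFor ?_
      rintro _ ⟨Z, rfl⟩ W f x hx
      obtain ⟨hW⟩ := base f
      have hmem : ∀ i, ((Sieve.ofArrows Y s).pullback f) (pullback.snd (s i) f) := fun i =>
        (Sieve.mem_ofArrows_iff Y s _).2 ⟨i, pullback.fst (s i) f, pullback.condition.symm⟩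
      refine ⟨Cofan.IsColimit.desc hW (fun i => x _ (hmem i)), ?_, ?_⟩
      · intro V g hg
        obtain ⟨i, a, ha⟩ := (Sieve.mem_ofArrows_iff Y s _).1 hg
        have hl : pullback.lift a g ha.symm ≫ pullback.snd (s i) f = g := pullback.lift_snd _ _ _
        calc g ≫ Cofan.IsColimit.desc hW (fun i => x _ (hmem i))
            = (pullback.lift a g ha.symm ≫ pullback.snd (s i) f) ≫ _ := by rw [hl]
          _ = pullback.lift a g ha.symm ≫ x _ (hmem i) := by
              rw [Category.assoc]; exact congrArg _ (Cofan.IsColimit.fac hW _ i)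
          _ = x g hg := (hx (pullback.lift a g ha.symm) (𝟙 V) (hmem i) hg (by rw [hl, Category.id_comp])).trans
              (Category.id_comp _)
      · intro y hy
        refine Cofan.IsColimit.hom_ext hW _ _ fun i => ?_
        rw [Cofan.IsColimit.fac]
        exact hy _ (hmem i)
    · obtain ⟨hP⟩ := hI i j hij
      refine (Groth.Agent.S6139.result _).2 ⟨⟨hP⟩, fun W w => ?_⟩
      let f : W ⟶ X := w ≫ pullback.fst (s i) (s j) ≫ s i
      obtain ⟨hW⟩ := base f
      let li : W ⟶ pullback (s i) f := pullback.lift (w ≫ pullback.fst (s i) (s j)) (𝟙 W) (by simp [f])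
      let lj : W ⟶ pullback (s j) f := pullback.lift (w ≫ pullback.snd (s i) (s j)) (𝟙 W)
        (by simp [f, pullback.condition])
      have hsub' : ∀ {Z : C} (a b : W ⟶ Z), a = b := by
        intro Z a b
        classical
        let d := Cofan.IsColimit.desc hW
          (fun k => pullback.snd (s k) f ≫ if k = j then b else a)
        have hi : li ≫ pullback.snd (s i) f = 𝟙 W := pullback.lift_snd _ _ _
        have hj : lj ≫ pullback.snd (s j) f = 𝟙 W := pullback.lift_snd _ _ _
        have di : pullback.snd (s i) f ≫ d = pullback.snd (s i) f ≫ a :=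
          (Cofan.IsColimit.fac hW _ i).trans (by rw [if_neg hij])
        have dj : pullback.snd (s j) f ≫ d = pullback.snd (s j) f ≫ b :=
          (Cofan.IsColimit.fac hW _ j).trans (by rw [if_pos rfl])
        have e₁ := congrArg (li ≫ ·) di
        have e₂ := congrArg (lj ≫ ·) dj
        simp only [← Category.assoc, hi, hj, Category.id_comp] at e₁ e₂
        exact e₁.symm.trans e₂
      exact ⟨hP.to W, hsub' _ _, hP.hom_ext _ _⟩

end Groth.Agent.S6143
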