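import Groth.Statements.S6144
import Mathlib

set_option autoImplicit false
open CategoryTheory CategoryTheory.Limits
universe w v u
open SGA4

namespace Groth.Agent.S6144

/-- Let `E` be a category with `v`-small hom-sets and pullbacks, admitting a detecting family of objects
indexed by a `v`-small type (maps out of the family jointly reflect isomorphisms). Then every
detecting family `Y : I → E`, indexed by an arbitrary type, contains a detecting subfamily indexed
by a `v`-small subset of `I`. -/
theorem result
    {E : Type u} [Category.{v} E] [HasPullbacks E] {κ : Type v} (G : κ → E)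
    (hG : (ObjectProperty.ofObj G).IsDetecting) {I : Type w} (Y : I → E)
    (hY : (ObjectProperty.ofObj Y).IsDetecting) :
    ∃ J : Set I, Small.{v} J ∧ (ObjectProperty.ofObj (fun j : J => Y j)).IsDetecting := by
  have : WellPowered.{v} E := by
    have : ObjectProperty.Small.{v} (ObjectProperty.ofObj G) := inferInstance
    exact wellPowered_of_isDetecting hG
  let T := Σ k : κ, { X' : Subobject (G k) // X' ≠ ⊤ }
  have : Small.{v} T := inferInstance
  have hex : ∀ t : T, ∃ i, ∃ g : Y i ⟶ G t.1, ¬ t.2.1.Factors g := by
    rintro ⟨k, X', hX'⟩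
    by_contra hc
    push Not at hc
    refine hX' ?_
    have : IsIso X'.arrow := by
      refine hY _ ?_
      rintro _ ⟨i⟩ g
      exact ⟨X'.factorThru g (hc i g), by simp, fun y hy => by
        rw [← cancel_mono X'.arrow, hy]; simp⟩
    exact Subobject.eq_top_of_isIso_arrow X'
  choose i g hg using hex
  refine ⟨Set.range i, small_range i, ?_⟩
  let P := ObjectProperty.ofObj (fun j : Set.range i => Y j)
  have mono_case : ∀ ⦃A B : E⦄ (f : A ⟶ B), Mono f →
      (∀ H, P H → ∀ h : H ⟶ B, ∃ h', h' ≫ f = h) → IsIso f := by
    intro A B f _ hf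
    refine hG f ?_
    rintro _ ⟨k⟩ h
    have hiso : IsIso (pullback.snd f h) := by
      rw [Subobject.isIso_iff_mk_eq_top]
      by_contra hne
      refine hg ⟨k, _, hne⟩ ?_
      obtain ⟨q, hq⟩ := hf (Y (i ⟨k, _, hne⟩)) (ObjectProperty.ofObj_apply (fun j : Set.range i => Y j) ⟨_, Set.mem_range_self ⟨k, _, hne⟩⟩) (g ⟨k, _, hne⟩ ≫ h)
      exact Subobject.mk_factors_iff _ _ |>.2 ⟨pullback.lift q (g ⟨k, _, hne⟩) hq, pullback.lift_snd _ _ _⟩
    refine ⟨inv (pullback.snd f h) ≫ pullback.fst f h, ?_, fun y hy => ?_⟩
    · simp [pullback.condition]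
    · rw [← cancel_mono f, hy]
      simp [pullback.condition]
  intro A B f hf
  have : IsIso (pullback.diagonal f) := by
    refine mono_case _ inferInstance fun H hH h => ?_
    obtain ⟨q, hq, huq⟩ := hf H hH ((h ≫ pullback.fst f f) ≫ f)
    have e : h ≫ pullback.snd f f = h ≫ pullback.fst f f := by
      rw [huq (h ≫ pullback.fst f f) rfl, huq (h ≫ pullback.snd f f) (by simp [pullback.condition])]
    exact ⟨h ≫ pullback.fst f f, by ext <;> simp [e]⟩
  have : Mono f := (pullback.isIso_diagonal_iff f).1 inferInstance
  exact mono_case f inferInstance fun H hH h => (hf H hH h).exists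

end Groth.Agent.S6144
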