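import Groth.Statements.S6152
import Groth.Agent.ModFlat.Free

set_option autoImplicit false
universe u
open CategoryTheory
open ModSite

namespace Groth.Agent.S6152

/-- Second assertion (ringed topos of sheaves on a small site (C, J) with commutative structure sheaf
O): if G is a topologically generating family of objects (every object of C admits a covering family
by members of G), then the free O-modules A_X = j_{X!}(O|X), X in G, form a generating family of the
category of O-modules; stated as: this family detects isomorphisms and is separating. -/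
theorem result {C : Type u} [SmallCategory C] {J : GrothendieckTopology C}
    (O : Sheaf J CommRingCat.{u}) (G : Set C)
    (hG : ∀ X : C, ∃ (ι : Type u) (Y : ι → C) (f : ∀ i, Y i ⟶ X), Sieve.ofArrows Y f ∈ J X ∧ ∀ i, Y i ∈ G) :
    (ObjectProperty.ofObj fun X : G => ModSite.freeOn O (X : C)).IsDetecting ∧
    (ObjectProperty.ofObj fun X : G => ModSite.freeOn O (X : C)).IsSeparating := by
  have hsep : (ObjectProperty.ofObj fun X : G => ModSite.freeOn O (X : C)).IsSeparating := by
    intro M N f g h
    refine Groth.Agent.ModFlat.isSeparating_freeOn O f g ?_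
    rintro _ ⟨X⟩ φ
    apply (Groth.Agent.ModFlat.freeOnEquiv O X N).injective
    simp only [Groth.Agent.ModFlat.freeOnEquiv_comp]
    obtain ⟨ι, Yf, p, hp, hY⟩ := hG X
    have hN : Presieve.IsSheaf J (N.val.presheaf ⋙ forget AddCommGrpCat.{u}) :=
      (isSheaf_iff_isSheaf_of_type _ _).1
        (Presheaf.isSheaf_comp_of_isSheaf J N.val.presheaf (forget AddCommGrpCat.{u}) N.isSheaf)
    refine ((hN _ hp).isSeparatedFor).ext fun V q hq => ?_
    obtain ⟨W, r, s, hs, rfl⟩ := hq
    obtain ⟨i⟩ := hs
    let m := Groth.Agent.ModFlat.freeOnEquiv O X M φ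
    obtain ⟨ψ, hψ⟩ := (Groth.Agent.ModFlat.freeOnEquiv O (Yf i) M).surjective (M.val.map (p i).op m)
    have e := congrArg (Groth.Agent.ModFlat.freeOnEquiv O (Yf i) N) (h _ ⟨⟨Yf i, hY i⟩⟩ ψ)
    simp only [Groth.Agent.ModFlat.freeOnEquiv_comp, hψ] at e
    have e' : N.val.map (p i).op (f.val.app _ m) = N.val.map (p i).op (g.val.app _ m) :=
      (PresheafOfModules.naturality_apply f.val (p i).op m).symm.trans
        (e.trans (PresheafOfModules.naturality_apply g.val (p i).op m))
    change N.val.map (r ≫ p i).op (f.val.app _ m) = N.val.map (r ≫ p i).op (g.val.app _ m)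
    rw [op_comp, PresheafOfModules.map_comp_apply, PresheafOfModules.map_comp_apply, e']
  exact ⟨hsep.isDetecting, hsep⟩

end Groth.Agent.S6152
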