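import Groth.Statements.S6153
import Groth.Agent.ModFlat.Free

set_option autoImplicit false
universe u
open CategoryTheory
open ModSite

namespace Groth.Agent.S6153

/-- Morphisms of ringed sites between small sites with commutative structure sheaves: for a morphism of
ringed sites f : (C, O_C) -> (D, O_D) given by a functor u : D -> C and every object X of D, the
inverse image f^*(A'_X) of the free O_D-module on X is isomorphic to the free O_C-module A_{u(X)} on
u(X). Existence of an isomorphism of modules only (the source's isomorphism is the canonical one). -/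
theorem result {C D : Type u} [SmallCategory C] [SmallCategory D] {J : GrothendieckTopology C}
    {K : GrothendieckTopology D} {O_C : Sheaf J CommRingCat.{u}} {O_D : Sheaf K CommRingCat.{u}}
    (f : ModSite.RMor O_C O_D) (X : D) :
    Nonempty (f.pull.obj (ModSite.freeOn O_D X) ≅ ModSite.freeOn O_C (f.fn.obj X)) := by
  let e₁ : ∀ M : ModSite.Mod O_C, (f.pull.obj (ModSite.freeOn O_D X) ⟶ M) ≃ M.val.obj (Opposite.op (f.fn.obj X)) :=
    fun M => (f.adj.homEquiv (ModSite.freeOn O_D X) M).trans
      (Groth.Agent.ModFlat.freeOnEquiv O_D X (f.push.obj M))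
  have e₁c : ∀ {M N : ModSite.Mod O_C} (a : f.pull.obj (ModSite.freeOn O_D X) ⟶ M) (b : M ⟶ N),
      e₁ N (a ≫ b) = b.val.app _ (e₁ M a) := fun {M N} a b =>
    (congrArg (Groth.Agent.ModFlat.freeOnEquiv O_D X _) (f.adj.homEquiv_naturality_right a b)).trans
      ((Groth.Agent.ModFlat.freeOnEquiv_comp O_D X _ _).trans rfl)
  let e₂ := Groth.Agent.ModFlat.freeOnEquiv O_C (f.fn.obj X)
  have e₂c := fun {M N : ModSite.Mod O_C} (a : ModSite.freeOn O_C (f.fn.obj X) ⟶ M) (b : M ⟶ N) =>
    Groth.Agent.ModFlat.freeOnEquiv_comp O_C (f.fn.obj X) a b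
  refine ⟨{ hom := (e₁ _).symm (e₂ _ (𝟙 _)), inv := (e₂ _).symm (e₁ _ (𝟙 _)), hom_inv_id := ?_, inv_hom_id := ?_ }⟩
  · apply (e₁ _).injective
    exact (e₁c _ _).trans (by rw [Equiv.apply_symm_apply, ← e₂c, Category.id_comp, Equiv.apply_symm_apply])
  · apply (e₂ _).injective
    exact (e₂c _ _).trans (by rw [Equiv.apply_symm_apply, ← e₁c, Category.id_comp, Equiv.apply_symm_apply])

end Groth.Agent.S6153
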