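import Groth.Statements.S6162
import Groth.Agent.GrothSS.Main
import Groth.Agent.SiteCoh.PushDerived
import Groth.Agent.SiteCoh.AbutTransport
import Groth.Agent.SiteCoh.Acyclic

set_option autoImplicit false
universe u
open CategoryTheory
open CohSite

namespace Groth.Agent.S6162

open CategoryTheory.Limits in
/-- Existence form of the Leray spectral sequence; abelian sheaves on small sites: let u : D -> C be a
continuous functor between small sites whose pullback on sheaves of sets is exact (a morphism of
topoi), u_* M = M o u the direct image and R^q u_* its right derived functors. For an abelian sheaf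
M on C and an object V of D there is an E_2 spectral sequence of abelian groups, bounded, with
E_2^{p,q} isomorphic to H^p(V, R^q u_* M) for p, q >= 0 and zero otherwise, together with abutment
data whose filtrations are finite on H^n(u(V), M) (n >= 0; zero for n < 0). The E_2 identifications
and the abutment isomorphisms are asserted to exist only; they are not pinned to the canonical maps
of the construction, so edge maps and low-degree exact sequences are not part of this statement. -/
theorem result {C D : Type u} [SmallCategory C] [SmallCategory D]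
    (J : GrothendieckTopology C) (K : GrothendieckTopology D) (u : D ⥤ C) [u.IsContinuous K J]
    [PreservesFiniteLimits (u.sheafPullback (Type u) K J)] (M : Sheaf J AddCommGrpCat.{u}) (V : D) :
    ∃ (E : E₂CohomologicalSpectralSequence AddCommGrpCat.{u})
      (a : SpSeq.Abutment E (fun n : ℤ =>
        if 0 ≤ n then AddCommGrpCat.of (CohSite.HU M n.toNat (u.obj V)) else AddCommGrpCat.of PUnit.{u + 1})),
      (∀ n, a.IsFinite n) ∧ SpSeq.IsBounded E ∧
      ∀ p q : ℤ, Nonempty ((E.page 2 le_rfl).X (p, q) ≅
        (if 0 ≤ p ∧ 0 ≤ q then AddCommGrpCat.of (CohSite.HU ((CohSite.Rpush J K u q.toNat).obj M) p.toNat V)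
         else AddCommGrpCat.of PUnit.{u + 1})) := by
  let S := preadditiveCoyoneda.obj (Opposite.op (CohCx.freeSheaf K V))
  have hT : ∀ Q : Sheaf J AddCommGrpCat.{u}, Injective Q → ∀ q : ℕ, 0 < q →
      IsZero ((S.rightDerived q).obj ((CohSite.push J K u).obj Q)) := by
    intro Q _ q hq
    obtain ⟨q, rfl⟩ : ∃ k, q = k + 1 := ⟨q - 1, by lia⟩
    obtain ⟨e⟩ := SiteCoh.ExtDerived.nonempty_rightDerived_iso (CohCx.freeSheaf K V)
      ((CohSite.push J K u).obj Q) (q + 1)
    exact (@AddCommGrpCat.isZero_of_subsingleton _ (SiteCoh.Acyclic.subsingleton_HU_of_totally _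
      (SiteCoh.Totally.isTotallyAcyclic_push K u Q
        (SiteCoh.Totally.isTotallyAcyclic_of_injective Q)) V q)).of_iso e
  obtain ⟨E, a, ha, hb, he⟩ := GrothSS.Main.exists_spectralSequence (CohSite.push J K u) S hT M
  have hcomp : CohSite.push J K u ⋙ S ≅
      preadditiveCoyoneda.obj (Opposite.op (CohCx.freeSheaf J (u.obj V))) :=
    NatIso.ofComponents (fun N => ((SiteCoh.Free.sectionEquiv K V ((CohSite.push J K u).obj N)).trans
        (SiteCoh.Free.sectionEquiv J (u.obj V) N).symm).toAddCommGrpIso)
      (fun {N N'} φ => by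
        ext (x : CohCx.freeSheaf K V ⟶ (CohSite.push J K u).obj N)
        refine (SiteCoh.Free.sectionEquiv J (u.obj V) N').injective ?_
        refine ((SiteCoh.Free.sectionEquiv J (u.obj V) N').apply_symm_apply _).trans ?_
        refine (SiteCoh.Free.sectionEquiv_comp K x ((CohSite.push J K u).map φ)).trans ?_
        refine Eq.trans ?_ (SiteCoh.Free.sectionEquiv_comp J ((SiteCoh.Free.sectionEquiv J (u.obj V) N).symm
          (SiteCoh.Free.sectionEquiv K V _ x)) φ).symm
        rw [AddEquiv.apply_symm_apply]
        rfl)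
  obtain ⟨a', ha'⟩ := SiteCoh.AbutTransport.exists_abutment a ha
    (H' := fun n : ℤ => if 0 ≤ n then AddCommGrpCat.of (CohSite.HU M n.toNat (u.obj V))
      else AddCommGrpCat.of PUnit.{u + 1}) (fun n => by
      by_cases hn : 0 ≤ n
      · simp only [if_pos hn]
        obtain ⟨e⟩ := SiteCoh.ExtDerived.nonempty_rightDerived_iso (CohCx.freeSheaf J (u.obj V)) M n.toNat
        exact ⟨SiteCoh.PushDerived.rightDerivedObjIso hcomp _ M ≪≫ e⟩
      · simp only [if_neg hn]
        exact ⟨(isZero_zero _).iso (AddCommGrpCat.isZero_of_subsingleton _)⟩)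
  refine ⟨E, a', ha', hb, fun p q => ?_⟩
  obtain ⟨e⟩ := he p q
  by_cases hpq : 0 ≤ p ∧ 0 ≤ q
  · rw [if_pos hpq] at e ⊢
    obtain ⟨e'⟩ := SiteCoh.ExtDerived.nonempty_rightDerived_iso (CohCx.freeSheaf K V)
      (((CohSite.push J K u).rightDerived q.toNat).obj M) p.toNat
    exact ⟨e ≪≫ e'⟩
  · rw [if_neg hpq] at e ⊢
    exact ⟨e ≪≫ (isZero_zero _).iso (AddCommGrpCat.isZero_of_subsingleton _)⟩

end Groth.Agent.S6162
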