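import Groth.Statements.S6163
import Groth.Agent.GrothSS.Main
import Groth.Agent.SiteCoh.PushDerived
import Groth.Agent.SiteCoh.AbutTransport
import Groth.Agent.SiteCoh.Acyclic

set_option autoImplicit false
universe u
open CategoryTheory
open scoped ZeroObject
open CohSite

namespace Groth.Agent.S6163

open CategoryTheory.Limits in
/-- Existence form (abelian sheaves; the two morphisms of topoi are given by continuous functors u : D
-> C and w : B -> D between small sites with exact pullback on sheaves of sets; the composite
morphism is given by w followed by u, whose continuity is recorded by a binder that always holds):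
for an abelian sheaf M on C there is a bounded E_2 spectral sequence of abelian sheaves on B with
E_2^{p,q} isomorphic to R^p w_*(R^q u_* M) for p, q >= 0 and zero otherwise, with abutment data
whose filtrations are finite on R^n (u w)_* M (n >= 0; zero for n < 0). The E_2 identifications and
abutment isomorphisms are asserted to exist only, not pinned to the canonical maps. -/
theorem result {C D B : Type u} [SmallCategory C] [SmallCategory D]
    [SmallCategory B] (J : GrothendieckTopology C) (K : GrothendieckTopology D) (L : GrothendieckTopology B)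
    (u : D ⥤ C) [u.IsContinuous K J] [PreservesFiniteLimits (u.sheafPullback (Type u) K J)]
    (w : B ⥤ D) [w.IsContinuous L K] [PreservesFiniteLimits (w.sheafPullback (Type u) L K)]
    [(w ⋙ u).IsContinuous L J] (M : Sheaf J AddCommGrpCat.{u}) :
    ∃ (E : E₂CohomologicalSpectralSequence (Sheaf L AddCommGrpCat.{u}))
      (a : SpSeq.Abutment E (fun n : ℤ =>
        if 0 ≤ n then (CohSite.Rpush J L (w ⋙ u) n.toNat).obj M else 0)),
      (∀ n, a.IsFinite n) ∧ SpSeq.IsBounded E ∧
      ∀ p q : ℤ, Nonempty ((E.page 2 le_rfl).X (p, q) ≅
        (if 0 ≤ p ∧ 0 ≤ q then (CohSite.Rpush K L w p.toNat).obj ((CohSite.Rpush J K u q.toNat).obj M) else 0)) := by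
  have hT : ∀ Q : Sheaf J AddCommGrpCat.{u}, Injective Q → ∀ q : ℕ, 0 < q →
      IsZero (((CohSite.push K L w).rightDerived q).obj ((CohSite.push J K u).obj Q)) := by
    intro Q _ q hq
    obtain ⟨q, rfl⟩ : ∃ k, q = k + 1 := ⟨q - 1, by lia⟩
    exact SiteCoh.PushDerived.isZero_Rpush K L w _ (fun U k =>
      SiteCoh.Acyclic.subsingleton_HU_of_totally _ (SiteCoh.Totally.isTotallyAcyclic_push K u Q
        (SiteCoh.Totally.isTotallyAcyclic_of_injective Q)) U k) q
  have : PreservesFiniteLimits (CohSite.push K L w) :=
    have : (CohSite.push K L w).IsRightAdjoint :=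
      (w.sheafAdjunctionContinuous AddCommGrpCat.{u} L K).isRightAdjoint
    inferInstance
  obtain ⟨E, a, ha, hb, he⟩ := GrothSS.Main.exists_spectralSequence (CohSite.push J K u)
    (CohSite.push K L w) hT M
  obtain ⟨a', ha'⟩ := SiteCoh.AbutTransport.exists_abutment a ha
    (H' := fun n : ℤ => if 0 ≤ n then (CohSite.Rpush J L (w ⋙ u) n.toNat).obj M else 0) (fun n => by
      by_cases hn : 0 ≤ n
      · simp only [if_pos hn]
        exact ⟨SiteCoh.PushDerived.rightDerivedObjIso
          (Functor.sheafPushforwardContinuousComp w u AddCommGrpCat.{u} L K J) _ M⟩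
      · simp only [if_neg hn]
        exact ⟨Iso.refl _⟩)
  exact ⟨E, a', ha', hb, he⟩

end Groth.Agent.S6163
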