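import Groth.Statements.S6174
import Groth.Agent.SiteCoh.Cech

set_option autoImplicit false
universe u
open CategoryTheory
open CohSite

namespace Groth.Agent.S6174

open CategoryTheory.Limits in
/-- C a small category with fibre products; presheaves are the sheaves for the trivial topology: for a
presheaf of abelian groups M, a family of arrows (U_i -> X) and the sieve R it generates, viewed as
a sub-presheaf of h_X, the Cech cohomology group H^q((U_i -> X), M) is isomorphic to H^q(R, M), the
q-th Ext group out of the free abelian presheaf on R. Existence of an isomorphism only (the source's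
is canonical). -/
theorem result {C : Type u} [SmallCategory C] [HasPullbacks C]
    (M : Cᵒᵖ ⥤ AddCommGrpCat.{u}) {X : C} {ι : Type u} (Y : ι → Over X) (q : ℕ) :
    Nonempty (CohCx.cechH M Y q ≅ AddCommGrpCat.of (CohCx.HK (J := (⊥ : GrothendieckTopology C))
      ⟨(Sieve.ofArrows (fun i => (Y i).left) (fun i => (Y i).hom)).functor, Presheaf.isSheaf_bot _⟩
      ⟨M, Presheaf.isSheaf_bot _⟩ q)) := by
  have hsurj : ∀ {A B : Sheaf (⊥ : GrothendieckTopology C) AddCommGrpCat.{u}} (g : A ⟶ B) [Epi g]
      (Z : C), Function.Surjective (g.hom.app (Opposite.op Z)) := by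
    intro A B g _ Z b
    have h1 : Sheaf.IsLocallySurjective g := (Sheaf.isLocallySurjective_iff_epi' _ g).2 inferInstance
    have h2 : Presheaf.IsLocallySurjective (⊥ : GrothendieckTopology C) g.hom := h1
    have h3 := h2.imageSieve_mem b
    rw [GrothendieckTopology.bot_covering] at h3
    have h4 : (Presheaf.imageSieve g.hom b).arrows (𝟙 Z) := by
      rw [h3]
      trivial
    obtain ⟨a, ha⟩ := h4
    exact ⟨a, ha.trans (by simp)⟩
  have vanish : ∀ (q : ℕ) (F : Sheaf (⊥ : GrothendieckTopology C) AddCommGrpCat.{u}) (Z : C),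
      Subsingleton (CohSite.HU F (q + 1) Z) := by
    intro q
    induction q with
    | zero =>
      intro F Z
      refine subsingleton_of_forall_eq 0 fun x => ?_
      let P := (EnoughInjectives.presentation F).some
      let S : ShortComplex (Sheaf (⊥ : GrothendieckTopology C) AddCommGrpCat.{u}) :=
        ShortComplex.mk P.f (cokernel.π P.f) (cokernel.condition _)
      have hS : S.ShortExact :=
        { exact := ShortComplex.exact_of_g_is_cokernel S (cokernelIsCokernel P.f)
          mono_f := P.mono
          epi_g := coequalizer.π_epi }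
      have : Injective S.X₂ := P.injective
      have := hS.epi_g
      obtain ⟨y, rfl⟩ := Abelian.Ext.covariant_sequence_exact₁ _ hS x
        (Abelian.Ext.eq_zero_of_injective _) (rfl : 0 + 1 = 1)
      obtain ⟨a, rfl⟩ := (Abelian.Ext.mk₀_bijective _ _).2 y
      obtain ⟨b, hb⟩ := hsurj S.g Z (SiteCoh.Free.sectionEquiv _ Z S.X₃ a)
      obtain ⟨c, rfl⟩ := (SiteCoh.Free.sectionEquiv _ Z S.X₂).surjective b
      rw [← SiteCoh.Free.sectionEquiv_comp] at hb
      rw [← (SiteCoh.Free.sectionEquiv _ Z S.X₃).injective hb, ← Abelian.Ext.mk₀_comp_mk₀,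
        Abelian.Ext.comp_assoc_of_second_deg_zero, ShortComplex.ShortExact.comp_extClass,
        Abelian.Ext.comp_zero]
      rfl
    | succ q ih =>
      intro F Z
      refine subsingleton_of_forall_eq 0 fun x => ?_
      let P := (EnoughInjectives.presentation F).some
      let S : ShortComplex (Sheaf (⊥ : GrothendieckTopology C) AddCommGrpCat.{u}) :=
        ShortComplex.mk P.f (cokernel.π P.f) (cokernel.condition _)
      have hS : S.ShortExact :=
        { exact := ShortComplex.exact_of_g_is_cokernel S (cokernelIsCokernel P.f)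
          mono_f := P.mono
          epi_g := coequalizer.π_epi }
      have : Injective S.X₂ := P.injective
      obtain ⟨y, rfl⟩ := Abelian.Ext.covariant_sequence_exact₁ _ hS x
        (Abelian.Ext.eq_zero_of_injective _) (rfl : q + 1 + 1 = q + 1 + 1)
      erw [(ih S.X₃ Z).elim y 0]
      exact Abelian.Ext.zero_comp ..
  obtain ⟨e⟩ := SiteCoh.Cech.nonempty_cechH_addEquiv Y (⊥ : GrothendieckTopology C)
    ⟨M, Presheaf.isSheaf_bot _⟩ (fun m a k => vanish k _ _) q
  exact ⟨e.toAddCommGrpIso⟩

end Groth.Agent.S6174
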