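import Groth.Statements.S6164
import Groth.Agent.GrothSS.Main
import Groth.Agent.SiteCoh.PushDerived
import Groth.Agent.SiteCoh.AbutTransport
import Groth.Agent.SiteCoh.SieveCoh
import Groth.Agent.S6174

set_option autoImplicit false
universe u
open CategoryTheory
open CohSite

namespace Groth.Agent.S6164

open CategoryTheory.Limits in
/-- Existence form of the spectral sequence of a covering; abelian sheaves on a small site with fibre
products: for a covering family (U_i -> X) and an abelian sheaf M there is a bounded E_2 spectral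
sequence of abelian groups with E_2^{p,q} isomorphic to the Cech cohomology group H^p((U_i -> X),
H^q(M)) of the family with coefficients in the presheaf V |-> H^q(V, M), for p, q >= 0 and zero
otherwise, with abutment data whose filtrations are finite on H^n(X, M) (n >= 0; zero for n < 0).
The E_2 identifications and abutment isomorphisms are asserted to exist only, not pinned to the
canonical maps, so edge maps are not part of this statement. -/
theorem result {C : Type u} [SmallCategory C] [HasPullbacks C]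
    (J : GrothendieckTopology C) (M : Sheaf J AddCommGrpCat.{u}) {X : C} {ι : Type u} (Y : ι → Over X)
    (hY : Sieve.ofArrows (fun i => (Y i).left) (fun i => (Y i).hom) ∈ J X) :
    ∃ (E : E₂CohomologicalSpectralSequence AddCommGrpCat.{u})
      (a : SpSeq.Abutment E (fun n : ℤ =>
        if 0 ≤ n then AddCommGrpCat.of (CohSite.HU M n.toNat X) else AddCommGrpCat.of PUnit.{u + 1})),
      (∀ n, a.IsFinite n) ∧ SpSeq.IsBounded E ∧
      ∀ p q : ℤ, Nonempty ((E.page 2 le_rfl).X (p, q) ≅
        (if 0 ≤ p ∧ 0 ≤ q then CohCx.cechH (M.cohomologyPresheaf q.toNat) Y p.toNat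
         else AddCommGrpCat.of PUnit.{u + 1})) := by
  let B := Sheaf (⊥ : GrothendieckTopology C) AddCommGrpCat.{u}
  let T := SiteCoh.SieveCoh.toBot J
  let R := Sieve.ofArrows (fun i => (Y i).left) (fun i => (Y i).hom)
  let P := (SiteCoh.Free.freePre (⊥ : GrothendieckTopology C)).obj R.functor
  let S := preadditiveCoyoneda.obj (Opposite.op P)
  have hT : ∀ Q : Sheaf J AddCommGrpCat.{u}, Injective Q → ∀ q : ℕ, 0 < q →
      IsZero ((S.rightDerived q).obj (T.obj Q)) := by
    intro Q _ q hq
    obtain ⟨q, rfl⟩ : ∃ k, q = k + 1 := ⟨q - 1, by lia⟩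
    have := SiteCoh.SieveCoh.injective_toBot J Q
    exact S.isZero_rightDerived_obj_injective_succ q (T.obj Q)
  obtain ⟨E, a, ha, hb, he⟩ := GrothSS.Main.exists_spectralSequence T S hT M
  let PJ := (SiteCoh.Free.freePre J).obj R.functor
  let θ : P ⟶ T.obj PJ := (SiteCoh.SieveCoh.eR J R.functor PJ).symm (𝟙 PJ)
  have hθ : ∀ (N : Sheaf J AddCommGrpCat.{u}) (b : PJ ⟶ N),
      θ ≫ T.map b = (SiteCoh.SieveCoh.eR J R.functor N).symm b := fun N b => by
    refine (SiteCoh.SieveCoh.eR J R.functor N).injective ?_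
    rw [Equiv.apply_symm_apply]
    refine (SiteCoh.SieveCoh.eR_naturality J θ b).trans ?_
    rw [Equiv.apply_symm_apply, Category.id_comp]
  have hcomp : T ⋙ S ≅ preadditiveCoyoneda.obj (Opposite.op PJ) :=
    (NatIso.ofComponents (fun N => (AddEquiv.ofBijective
        ((Preadditive.leftComp _ θ).comp T.mapAddHom)
        (by
          have h : (fun b : PJ ⟶ N => θ ≫ T.map b) = (SiteCoh.SieveCoh.eR J R.functor N).symm :=
            funext (hθ N)
          change Function.Bijective (fun b : PJ ⟶ N => θ ≫ T.map b)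
          rw [h]
          exact Equiv.bijective _)).toAddCommGrpIso)
      (fun {N N'} φ => by
        ext (b : PJ ⟶ N)
        change θ ≫ T.map (b ≫ φ) = (θ ≫ T.map b) ≫ T.map φ
        rw [Functor.map_comp, Category.assoc])).symm
  have := SiteCoh.SieveCoh.isIso_free_functorInclusion hY
  let iHU : ∀ n : ℕ, AddCommGrpCat.of (Abelian.Ext PJ M n) ≅ AddCommGrpCat.of (CohSite.HU M n X) :=
    fun n => ((Abelian.extFunctor (C := Sheaf J AddCommGrpCat.{u}) n).flip.obj M).mapIso
      (asIso ((SiteCoh.Free.freePre J).map R.functorInclusion)).op.symm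
  obtain ⟨a', ha'⟩ := SiteCoh.AbutTransport.exists_abutment a ha
    (H' := fun n : ℤ => if 0 ≤ n then AddCommGrpCat.of (CohSite.HU M n.toNat X)
      else AddCommGrpCat.of PUnit.{u + 1}) (fun n => by
      by_cases hn : 0 ≤ n
      · simp only [if_pos hn]
        obtain ⟨e⟩ := SiteCoh.ExtDerived.nonempty_rightDerived_iso PJ M n.toNat
        exact ⟨SiteCoh.PushDerived.rightDerivedObjIso hcomp _ M ≪≫ e ≪≫ iHU _⟩
      · simp only [if_neg hn]
        exact ⟨(isZero_zero _).iso (AddCommGrpCat.isZero_of_subsingleton _)⟩)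
  refine ⟨E, a', ha', hb, fun p q => ?_⟩
  obtain ⟨e⟩ := he p q
  by_cases hpq : 0 ≤ p ∧ 0 ≤ q
  · rw [if_pos hpq] at e ⊢
    let G := presheafToSheaf (⊥ : GrothendieckTopology C) AddCommGrpCat.{u}
    let H : B := ⟨M.cohomologyPresheaf q.toNat, Presheaf.isSheaf_bot _⟩
    let eT : T ≅ sheafToPresheaf J AddCommGrpCat.{u} ⋙ G :=
      (Functor.rightUnitor _).symm ≪≫ Functor.isoWhiskerLeft T
        (asIso (sheafificationAdjunction (⊥ : GrothendieckTopology C) AddCommGrpCat.{u}).counit).symm
    obtain ⟨e₁⟩ := SiteCoh.CohPresheaf.nonempty_rightDerived_iso M q.toNat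
    let e₂ : (T.rightDerived q.toNat).obj M ≅ H :=
      SiteCoh.PushDerived.rightDerivedObjIso eT q.toNat M ≪≫
        DerFun.rightDerivedPostIso G (sheafToPresheaf J AddCommGrpCat.{u}) q.toNat M ≪≫
        G.mapIso e₁ ≪≫
        (asIso (sheafificationAdjunction (⊥ : GrothendieckTopology C) AddCommGrpCat.{u}).counit).app H
    obtain ⟨e₃⟩ := SiteCoh.ExtDerived.nonempty_rightDerived_iso P H p.toNat
    obtain ⟨e₄⟩ := S6174.result (M.cohomologyPresheaf q.toNat) Y p.toNat
    exact ⟨e ≪≫ (S.rightDerived p.toNat).mapIso e₂ ≪≫ e₃ ≪≫ e₄.symm⟩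
  · rw [if_neg hpq] at e ⊢
    exact ⟨e ≪≫ (isZero_zero _).iso (AddCommGrpCat.isZero_of_subsingleton _)⟩

end Groth.Agent.S6164
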