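import Groth.Statements.S6166
import Groth.Agent.SiteCoh.Acyclic

set_option autoImplicit false
universe u
open CategoryTheory
open CohSite

namespace Groth.Agent.S6166

open CategoryTheory.Limits in
/-- Let u : D -> C be a continuous functor between small sites with exact pullback on sheaves of sets (a
morphism of topoi), and take the topologically generating families to be all objects of C, resp. of
D, so that the inverse image of the second lies in the first. For an abelian sheaf F on C: if H^q(U,
F) = 0 for all objects U of C and all q > 0, then H^q(V, u_* F) = 0 for all objects V of D and all q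
> 0, where u_* F = F o u. -/
theorem result {C D : Type u} [SmallCategory C] [SmallCategory D]
    (J : GrothendieckTopology C) (K : GrothendieckTopology D) (u : D ⥤ C) [u.IsContinuous K J]
    [PreservesFiniteLimits (u.sheafPullback (Type u) K J)] (F : Sheaf J AddCommGrpCat.{u})
    (hF : ∀ (U : C) (q : ℕ), Subsingleton (CohSite.HU F (q + 1) U)) (V : D) (q : ℕ) :
    Subsingleton (CohSite.HU ((CohSite.push J K u).obj F) (q + 1) V) := by
  induction q generalizing F with
  | zero =>
    have hS := SiteCoh.DimShift.inj_shortExact F
    have hS' := SiteCoh.Acyclic.shortExact_map_push hS (fun U => hF U 0) K u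
    have : ∀ (I : Sheaf J AddCommGrpCat.{u}) [Injective I] (n : ℕ),
        Subsingleton (CohSite.HU ((CohSite.push J K u).obj I) (n + 1) V) := fun I _ n =>
      SiteCoh.Acyclic.subsingleton_HU_of_totally _ (SiteCoh.Totally.isTotallyAcyclic_push K u I
        (SiteCoh.Totally.isTotallyAcyclic_of_injective I)) V n
    refine subsingleton_of_forall_eq 0 fun x => ?_
    obtain ⟨y, rfl⟩ := Abelian.Ext.covariant_sequence_exact₁ (CohCx.freeSheaf K V) hS' x
      ((this _ 0).elim _ _) (rfl : 0 + 1 = 1)
    obtain ⟨g, rfl⟩ := (Abelian.Ext.mk₀_bijective _ _).2 y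
    have := hF (u.obj V) 0
    obtain ⟨b, hb⟩ := SiteCoh.Acyclic.surjective_sections hS (u.obj V)
      (SiteCoh.Free.sectionEquiv K V _ g)
    obtain ⟨a, ha⟩ := (SiteCoh.Free.sectionEquiv K V ((CohSite.push J K u).obj
      (SiteCoh.DimShift.inj F).X₂)).surjective b
    have hg : a ≫ (CohSite.push J K u).map (SiteCoh.DimShift.inj F).g = g := by
      apply (SiteCoh.Free.sectionEquiv K V _).injective
      rw [SiteCoh.Free.sectionEquiv_comp, ha]
      exact hb
    rw [← hg]
    exact SiteCoh.DimShift.delta_comp_eq_zero hS' a _
  | succ q ih =>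
    have hS := SiteCoh.DimShift.inj_shortExact F
    have hS' := SiteCoh.Acyclic.shortExact_map_push hS (fun U => hF U 0) K u
    have hI := SiteCoh.Acyclic.subsingleton_HU_of_totally _ (SiteCoh.Totally.isTotallyAcyclic_push K u
      (SiteCoh.DimShift.inj F).X₂ (SiteCoh.Totally.isTotallyAcyclic_of_injective _)) V (q + 1)
    have hQ := ih (SiteCoh.DimShift.inj F).X₃
      (fun U k => SiteCoh.DimShift.subsingleton_cokernel hS (hF U) k)
    refine subsingleton_of_forall_eq 0 fun x => ?_
    obtain ⟨y, rfl⟩ := Abelian.Ext.covariant_sequence_exact₁ (CohCx.freeSheaf K V) hS' x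
      (hI.elim _ _) (rfl : q + 1 + 1 = q + 1 + 1)
    erw [hQ.elim y 0]
    exact Abelian.Ext.zero_comp ..

end Groth.Agent.S6166
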