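import Groth.Statements.S6170
import Groth.Agent.ModExt.Restr

set_option autoImplicit false
universe u
open CategoryTheory
open ModSite

namespace Groth.Agent.S6170

/-- Ringed topos of sheaves on a small site with commutative structure sheaf O: the sections of the
internal hom Hom_O(M, N) over an object X form a group isomorphic to Hom_{O|X}(j_X^* M, j_X^* N).
Existence of an additive isomorphism only (the source's is canonical); the internal-hom binder
always holds. -/
theorem result {C : Type u} [SmallCategory C] {J : GrothendieckTopology C} (O : Sheaf J CommRingCat.{u})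
    (M N : ModSite.Mod O) [ModSite.HasSheafHom M] (X : C) :
    Nonempty (ModSite.sect ((ModSite.sheafHom M).obj N) X ≃+ ((ModSite.restr O X).obj M ⟶ (ModSite.restr O X).obj N)) := by
  let H := (ModSite.sheafHom M).obj N
  let e₀ : ModSite.sect H X ≃+ (ModSite.freeOn O X ⟶ H) :=
    (AddEquiv.mk' (Groth.Agent.ModFlat.freeOnEquiv O X H) (fun f g => by
      have key : ∀ (f : ModSite.freeOn O X ⟶ H), Groth.Agent.ModFlat.freeOnEquiv O X H f =
          f.val.app _ (Groth.Agent.ModFlat.freeOnEquiv O X _ (𝟙 _)) := fun f => by
        rw [← Groth.Agent.ModFlat.freeOnEquiv_comp, Category.id_comp]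
      rw [key, key f, key g]
      rfl)).symm
  let e₁ := ((ModSite.sheafHomAdj M).homAddEquiv (ModSite.freeOn O X) N).symm
  let i := (Groth.Agent.ModExt.freeOnTensorIso O X M)
  let e₂ : (((ModSite.tensorBi O).flip.obj M).obj (ModSite.freeOn O X) ⟶ N) ≃+
      ((ModSite.extZero O X).obj ((ModSite.restr O X).obj M) ⟶ N) :=
    { toFun := fun f => i.inv ≫ f
      invFun := fun f => i.hom ≫ f
      left_inv := fun f => i.hom_inv_id_assoc f
      right_inv := fun f => i.inv_hom_id_assoc f
      map_add' := fun f g => Preadditive.comp_add _ _ _ _ _ _ }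
  let e₃ := (ModSite.extZeroAdj O X).homAddEquiv ((ModSite.restr O X).obj M) N
  exact ⟨e₀.trans (e₁.trans (e₂.trans e₃))⟩

end Groth.Agent.S6170
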