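import Groth.Statements.S6171
import Mathlib

set_option autoImplicit false
universe u
open CategoryTheory
open SGA4

namespace Groth.Agent.S6171

open CategoryTheory.Limits MonoidalCategory in
/-- Sheaves of sets on small sites; internal homs of the cartesian closed topoi: for a morphism of topoi
v : E -> E' given by a continuous functor u : D -> C between small sites with exact pullback (v_* =
composition with u, v^* = the pullback), a sheaf of sets X on C and a sheaf of sets Y on D, v_*
Hom_E(v^* Y, X) is isomorphic to Hom_{E'}(Y, v_* X). Existence of an isomorphism only (the source's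
is canonical and bifunctorial). -/
theorem result {C D : Type u} [SmallCategory C] [SmallCategory D] (J : GrothendieckTopology C)
    (K : GrothendieckTopology D) (u : D ⥤ C) [u.IsContinuous K J] [PreservesFiniteLimits (u.sheafPullback (Type u) K J)]
    (X : Sheaf J (Type u)) (Y : Sheaf K (Type u)) :
    Nonempty ((u.sheafPushforwardContinuous (Type u) K J).obj ((ihom ((u.sheafPullback (Type u) K J).obj Y)).obj X) ≅
      (ihom Y).obj ((u.sheafPushforwardContinuous (Type u) K J).obj X)) := by
  let v := u.sheafPullback (Type u) K J
  let adj := u.sheafAdjunctionContinuous (Type u) K J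
  have : ∀ B, PreservesLimit (pair Y B) v := fun B => inferInstance
  let a1 : tensorLeft Y ⋙ v ⊣ u.sheafPushforwardContinuous (Type u) K J ⋙ ihom Y :=
    (ihom.adjunction Y).comp adj
  let a2 : v ⋙ tensorLeft (v.obj Y) ⊣ ihom (v.obj Y) ⋙ u.sheafPushforwardContinuous (Type u) K J :=
    adj.comp (ihom.adjunction (v.obj Y))
  exact ⟨((a1.ofNatIsoLeft (CartesianMonoidalCategory.prodComparisonNatIso v Y)).rightAdjointUniq a2).symm.app X⟩

end Groth.Agent.S6171
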