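import Groth.Statements.S6172
import Mathlib

set_option autoImplicit false
universe u
open CategoryTheory
open SGA4

namespace Groth.Agent.S6172

open CategoryTheory.Limits MonoidalCategory in
/-- `Z × -` computed in the slice agrees with the tensor product. -/
noncomputable def starIso {E : Type*} [Category E] [CartesianMonoidalCategory E] [HasBinaryProducts E]
    (Z : E) : Over.star Z ⋙ Over.forget Z ≅ tensorLeft Z :=
  NatIso.ofComponents (fun A =>
    show (Z ⨯ A) ≅ Z ⊗ A from
    { hom := CartesianMonoidalCategory.lift prod.fst prod.snd
      inv := prod.lift (SemiCartesianMonoidalCategory.fst Z A) (SemiCartesianMonoidalCategory.snd Z A)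
      hom_inv_id := by apply prod.hom_ext <;> simp
      inv_hom_id := by apply CartesianMonoidalCategory.hom_ext <;> simp [prod.lift_fst, prod.lift_snd] }) (fun {A B} f => by
    change prod.map (𝟙 Z) f ≫ CartesianMonoidalCategory.lift prod.fst prod.snd =
      CartesianMonoidalCategory.lift prod.fst prod.snd ≫ Z ◁ f
    apply CartesianMonoidalCategory.hom_ext <;> simp)

open CategoryTheory.Limits MonoidalCategory in
/-- Topos E of sheaves of sets on a small site, localised at an object Z: with j_Z : E/Z -> E the
localisation morphism, j_Z^* X = Z x X over Z, and j_{Z*} its right adjoint (taken as an instance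
hypothesis, which holds in any topos), j_{Z*} j_Z^* Y is isomorphic to the internal hom Hom(Z, Y)
for every object Y. Existence of an isomorphism only (the source's is canonical). -/
theorem result {C : Type u} [SmallCategory C] (J : GrothendieckTopology C)
    (Z Y : Sheaf J (Type u)) [(Over.star Z).IsLeftAdjoint] :
    Nonempty (((Over.star Z).rightAdjoint).obj ((Over.star Z).obj Y) ≅ (ihom Z).obj Y) := by
  let e := starIso Z
  let a1 : Over.star Z ⋙ Over.forget Z ⊣ Over.star Z ⋙ (Over.star Z).rightAdjoint :=
    (Adjunction.ofIsLeftAdjoint (Over.star Z)).comp (Over.forgetAdjStar Z)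
  exact ⟨((a1.ofNatIsoLeft e).rightAdjointUniq (ihom.adjunction Z)).app Y⟩

end Groth.Agent.S6172
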