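import Groth.Statements.S6173
import Mathlib

set_option autoImplicit false
universe u
open CategoryTheory
open SGA4

namespace Groth.Agent.S6173

/-- Second assertion (topos of sheaves on a small site (C, J); E/X_i the induced topoi, modelled by the
sites (C/X_i, J/X_i); 'enough points' = a small conservative family of points, equivalently all
fibre functors together are conservative): if (X_i) is a family of objects covering the final object
and every E/X_i has enough points, then E has enough points. (The first assertion, that E/X inherits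
enough points from E, is Mathlib's instance.) -/
theorem result {C : Type u} [SmallCategory C] (J : GrothendieckTopology C) {ι : Type u}
    (X : ι → C) (hX : J.CoversTop X) (h : ∀ i, GrothendieckTopology.HasEnoughPoints.{u} (J.over (X i))) :
    GrothendieckTopology.HasEnoughPoints.{u} J := by
  choose P hPs hP using fun i => (h i).exists_objectProperty
  let Φ : (Σ i, (P i).FullSubcategory) → GrothendieckTopology.Point.{u} J :=
    fun p => p.2.obj.map (Over.forget (X p.1)) J
  refine ⟨⟨ObjectProperty.ofObj Φ, ?_, ⟨⟨fun {F G} f hf => ?_⟩⟩⟩⟩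
  · have : ∀ i, Small.{u} (P i).FullSubcategory := fun i => inferInstance
    infer_instance
  have hloc : ∀ (i : ι) (U : Over (X i)), IsIso (f.hom.app (Opposite.op U.left)) := by
    intro i
    have : IsIso (((Over.forget (X i)).sheafPushforwardContinuous (Type u) (J.over (X i)) J).map f) := by
      have hall : ∀ Ψ : (P i).FullSubcategory,
          IsIso (Ψ.obj.sheafFiber.map
            (((Over.forget (X i)).sheafPushforwardContinuous (Type u) (J.over (X i)) J).map f)) := by
        intro Ψ
        let e := GrothendieckTopology.Point.sheafFiberMapIso Ψ.obj (Over.forget (X i)) J (Type u)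
        have : IsIso ((Φ ⟨i, Ψ⟩).sheafFiber.map f) :=
          hf ⟨Φ ⟨i, Ψ⟩, ObjectProperty.ofObj_apply Φ ⟨i, Ψ⟩⟩
        exact (NatIso.isIso_map_iff e f).1 this
      exact (hP i).jointlyReflectIsomorphisms_type.isIso _
    intro U
    exact inferInstanceAs (IsIso (((sheafToPresheaf _ _).map
      (((Over.forget (X i)).sheafPushforwardContinuous (Type u) (J.over (X i)) J).map f)).app
        (Opposite.op U)))
  have hbij : ∀ (i : ι) (W : C) (a : W ⟶ X i), Function.Bijective (f.hom.app (Opposite.op W)) :=
    fun i W a => (isIso_iff_bijective _).1 (hloc i (Over.mk a))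
  have : ∀ U, IsIso (f.hom.app U) := by
    rintro ⟨Z⟩
    have hF := (isSheaf_iff_isSheaf_of_type J _).1 F.property _ (hX Z)
    have hG := (isSheaf_iff_isSheaf_of_type J _).1 G.property _ (hX Z)
    rw [isIso_iff_bijective]
    refine ⟨fun x y e => hF.isSeparatedFor.ext fun W g ⟨i, ⟨a⟩⟩ => (hbij i W a).1 ?_, fun z => ?_⟩
    · rw [NatTrans.naturality_apply, NatTrans.naturality_apply]
      exact congrArg _ e
    · have hex : ∀ (W : C) (g : W ⟶ Z), (Sieve.ofObjects X Z) g →
          ∃ x, f.hom.app (Opposite.op W) x = G.obj.map g.op z := fun W g ⟨i, ⟨a⟩⟩ => (hbij i W a).2 _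
      choose x hx using hex
      have hc : Presieve.FamilyOfElements.Compatible (P := F.obj)
          (R := (Sieve.ofObjects X Z).arrows) x := by
        intro W₁ W₂ V g₁ g₂ f₁ f₂ h₁ h₂ e
        obtain ⟨i, ⟨a⟩⟩ := id h₁
        apply (hbij i V (g₁ ≫ a)).1
        rw [NatTrans.naturality_apply, NatTrans.naturality_apply, hx, hx, ← Functor.map_comp_apply,
          ← Functor.map_comp_apply, ← op_comp, ← op_comp, e]
      obtain ⟨y, hy, -⟩ := hF x hc
      refine ⟨y, hG.isSeparatedFor.ext fun W g hg => ?_⟩
      rw [← NatTrans.naturality_apply, hy g hg, hx]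
  have : IsIso ((sheafToPresheaf J (Type u)).map f) := NatIso.isIso_of_isIso_app f.hom
  exact isIso_of_reflects_iso f (sheafToPresheaf J (Type u))

end Groth.Agent.S6173
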