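import Groth.Statements.S6176
import Groth.Agent.Topos.Gluing

set_option autoImplicit false
universe u
open CategoryTheory
open SGA4

namespace Groth.Agent.S6176

open CategoryTheory.Limits in
/-- The clause on products (topos of sheaves of sets on a small site; j : E/U -> E the open embedding
defined by an open U, i.e. a subobject of the final object, so that j_! is the forgetful functor
from objects over U): j_! commutes with products indexed by a nonempty u-small set. (Commutation
with fibre products and cofiltered limits, the other clauses, holds for the forgetful functor of any
slice.) -/
theorem result {C : Type u} [SmallCategory C] (J : GrothendieckTopology C)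
    (U : Sheaf J (Type u)) (hU : SGA4.IsOpen U) (I : Type u) [Nonempty I] :
    PreservesLimitsOfShape (Discrete I) (Over.forget U) := 
  Groth.Agent.Topos.Gluing.preservesLimitsOfShape_forget I hU

end Groth.Agent.S6176
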