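import Groth.Statements.S6178
import Groth.Agent.SiteCoh.SieveCoh
import Groth.Agent.SiteCoh.Acyclic

set_option autoImplicit false
universe u
open CategoryTheory
open CohSite

namespace Groth.Agent.S6178

/-- An abelian sheaf F on a small site (C, J) is C-acyclic, i.e. H^q(X, F) = 0 for all objects X and q >
0, if and only if H^q(R, H^0(F)) = 0 for every object X, every covering sieve R of X and every q >
0, where H^0(F) is the underlying presheaf of F and H^q(R, -), for a presheaf of sets R, is the q-th
Ext out of the free abelian presheaf on R computed in abelian presheaves (the sheaves for the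
trivial topology). -/
theorem result {C : Type u} [SmallCategory C] (J : GrothendieckTopology C)
    (F : Sheaf J AddCommGrpCat.{u}) :
    (∀ (X : C) (q : ℕ), Subsingleton (CohSite.HU F (q + 1) X)) ↔
      ∀ (X : C) (R : Sieve X), R ∈ J X → ∀ q : ℕ,
        Subsingleton (CohCx.HK (J := (⊥ : GrothendieckTopology C)) ⟨R.functor, Presheaf.isSheaf_bot _⟩
          ⟨F.obj, Presheaf.isSheaf_bot _⟩ (q + 1)) := by
  let T := SiteCoh.SieveCoh.toBot J
  let P : ∀ {X : C}, Sieve X → Sheaf (⊥ : GrothendieckTopology C) AddCommGrpCat.{u} := fun R =>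
    (SiteCoh.Free.freePre (⊥ : GrothendieckTopology C)).obj R.functor
  have key : ∀ (G : Sheaf J AddCommGrpCat.{u}) [Injective G] {X : C} (R : Sieve X) (q : ℕ),
      Subsingleton (Abelian.Ext (P R) (T.obj G) (q + 1)) := fun G _ X R q =>
    subsingleton_of_forall_eq 0 fun x => Abelian.Ext.eq_zero_of_injective x
  constructor
  · intro hF X R hR q
    change Subsingleton (Abelian.Ext (P R) (T.obj F) (q + 1))
    induction q generalizing F with
    | zero =>
      have hS := SiteCoh.DimShift.inj_shortExact F
      have hsurj : ∀ U : C, Function.Surjective ((SiteCoh.DimShift.inj F).g.hom.app (Opposite.op U)) :=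
        fun U => have := hF U 0; SiteCoh.Acyclic.surjective_sections hS U
      have hS' := SiteCoh.SieveCoh.shortExact_map_toBot hS hsurj
      have : Injective ((SiteCoh.DimShift.inj F).map T).X₂ :=
        SiteCoh.SieveCoh.injective_toBot J (SiteCoh.DimShift.inj F).X₂
      refine SiteCoh.DimShift.subsingleton_one hS' fun g => ?_
      have := SiteCoh.SieveCoh.isIso_free_functorInclusion hR
      let a := inv ((SiteCoh.Free.freePre J).map R.functorInclusion) ≫
        SiteCoh.SieveCoh.eR J R.functor (SiteCoh.DimShift.inj F).X₃ g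
      obtain ⟨x, hx⟩ := hsurj X (SiteCoh.Free.sectionEquiv J X _ a)
      obtain ⟨b, rfl⟩ := (SiteCoh.Free.sectionEquiv J X _).surjective x
      rw [← SiteCoh.Free.sectionEquiv_comp] at hx
      refine ⟨(SiteCoh.SieveCoh.eR J R.functor _).symm
        ((SiteCoh.Free.freePre J).map R.functorInclusion ≫ b), ?_⟩
      refine (SiteCoh.SieveCoh.eR J R.functor _).injective ?_
      change SiteCoh.SieveCoh.eR J R.functor (SiteCoh.DimShift.inj F).X₃
        (_ ≫ (SiteCoh.SieveCoh.toBot J).map (SiteCoh.DimShift.inj F).g) = _
      rw [SiteCoh.SieveCoh.eR_naturality, Equiv.apply_symm_apply, Category.assoc,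
        (SiteCoh.Free.sectionEquiv J X _).injective hx]
      exact IsIso.hom_inv_id_assoc _ _
    | succ q ih =>
      have hS := SiteCoh.DimShift.inj_shortExact F
      have hS' := SiteCoh.SieveCoh.shortExact_map_toBot hS
        (fun U => have := hF U 0; SiteCoh.Acyclic.surjective_sections hS U)
      have : Injective ((SiteCoh.DimShift.inj F).map T).X₂ :=
        SiteCoh.SieveCoh.injective_toBot J (SiteCoh.DimShift.inj F).X₂
      exact SiteCoh.DimShift.subsingleton_succ hS' q
        (ih (SiteCoh.DimShift.inj F).X₃ (fun U k => SiteCoh.DimShift.subsingleton_cokernel hS (hF U) k))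
  · intro h X q
    replace h : ∀ (X : C) (R : Sieve X), R ∈ J X → ∀ q : ℕ,
      Subsingleton (Abelian.Ext (P R) (T.obj F) (q + 1)) := h
    induction q generalizing F X with
    | zero =>
      have hS := SiteCoh.DimShift.inj_shortExact F
      refine SiteCoh.DimShift.subsingleton_one hS fun g => ?_
      obtain ⟨x, hx⟩ := SiteCoh.SieveCoh.surjective_sections_of_sieve hS X (fun R hR => h X R hR 0)
        (SiteCoh.Free.sectionEquiv J X _ g)
      obtain ⟨b, rfl⟩ := (SiteCoh.Free.sectionEquiv J X _).surjective x
      exact ⟨b, (SiteCoh.Free.sectionEquiv J X _).injective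
        ((SiteCoh.Free.sectionEquiv_comp J b _).trans hx)⟩
    | succ q ih =>
      have hS := SiteCoh.DimShift.inj_shortExact F
      have hS' := SiteCoh.SieveCoh.shortExact_map_toBot hS
        (fun U => SiteCoh.SieveCoh.surjective_sections_of_sieve hS U (fun R hR => h U R hR 0))
      have : Injective ((SiteCoh.DimShift.inj F).map T).X₂ :=
        SiteCoh.SieveCoh.injective_toBot J (SiteCoh.DimShift.inj F).X₂
      exact SiteCoh.DimShift.subsingleton_succ hS q (ih (SiteCoh.DimShift.inj F).X₃ X
        (fun U R hR k => SiteCoh.DimShift.subsingleton_cokernel hS' (h U R hR) k))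

end Groth.Agent.S6178
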