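import Groth.Statements.S6181
import Groth.Agent.EtaleSite.SetPushImage
import Mathlib.CategoryTheory.Limits.FunctorCategory.Shapes.Products
-- import your own Groth.Agent.* helpers here

set_option autoImplicit false
open CategoryTheory CategoryTheory.Limits AlgebraicGeometry Opposite
universe u
open EtDesc

namespace Groth.Agent.S6181

/-- Let f : X -> Y be a finite morphism of schemes, Ω an algebraically closed field and η : Spec Ω -> Y
a geometric point. The functor F ↦ (f_* F)_η on etale sheaves of sets on X is isomorphic to the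
product, over the geometric points ξ : Spec Ω -> X lying over η, of the fibre functors F ↦ F_ξ. (The
published statement gives a canonical isomorphism and indexes the product by the points of the
geometric fibre over a separable closure of the residue field; this row asserts only that an
isomorphism of functors exists and indexes the product by the Ω-valued points of X over η, which for
Ω algebraically closed correspond to those points.) -/
theorem result {X Y : Scheme.{u}} (f : X ⟶ Y) [IsFinite f]
    {Ω : Type u} [Field Ω] [IsAlgClosed Ω] (η : Spec (CommRingCat.of Ω) ⟶ Y) :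
    Nonempty (EtDesc.pushSh f ⋙ (Scheme.pointSmallEtale η).sheafFiber (A := Type (u + 1)) ≅
      ∏ᶜ fun ξ : {ξ : Spec (CommRingCat.of Ω) ⟶ X // ξ ≫ f = η} =>
        ((Scheme.pointSmallEtale ξ.1).sheafFiber (A := Type (u + 1)) : EtDesc.Sh X ⥤ Type (u + 1))) := by
  classical
  let fib : {ξ : Spec (CommRingCat.of Ω) ⟶ X // ξ ≫ f = η} → (EtDesc.Sh X ⥤ Type (u + 1)) :=
    fun ξ => (Scheme.pointSmallEtale ξ.1).sheafFiber
  let c : ∀ ξ, EtDesc.pushSh f ⋙ (Scheme.pointSmallEtale η).sheafFiber (A := Type (u + 1)) ⟶ fib ξ :=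
    fun ξ =>
    { app := fun F => Groth.Agent.EtaleSite.SetPush.cmpAt f ξ.1 ξ.2 F
      naturality := fun F G a => by
        ext p
        obtain ⟨V, φ, s, rfl⟩ := Groth.Agent.EtaleSite.SetStalk.exists_germ_eq η
          ((EtDesc.pushSh f).obj F) p
        refine (congrArg (Groth.Agent.EtaleSite.SetPush.cmpAt f ξ.1 ξ.2 G)
          (Groth.Agent.EtaleSite.SetStalk.germ_naturality η ((EtDesc.pushSh f).map a) V φ s)).trans ?_
        refine (Groth.Agent.EtaleSite.SetPush.cmpAt_germ f ξ.1 ξ.2 G V φ _).trans ?_
        refine Eq.trans ?_ (congrArg ((fib ξ).map a)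
          (Groth.Agent.EtaleSite.SetPush.cmpAt_germ f ξ.1 ξ.2 F V φ s)).symm
        exact (Groth.Agent.EtaleSite.SetStalk.germ_naturality ξ.1 a _ _ s).symm }
  let ψ := Pi.lift c
  have : IsIso ψ := by
    refine @NatIso.isIso_of_isIso_app _ _ _ _ _ _ ψ fun F => ?_
    let k := ψ.app F ≫ (piObjIso fib F).hom
    have : IsIso k := by
      rw [CategoryTheory.isIso_iff_bijective]
      have hk : ∀ ξ x, Pi.π (fun ξ => (fib ξ).obj F) ξ (k x) =
          Groth.Agent.EtaleSite.SetPush.cmpAt f ξ.1 ξ.2 F x := fun ξ x => by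
        have h1 : k ≫ Pi.π (fun ξ => (fib ξ).obj F) ξ = (c ξ).app F := by
          rw [Category.assoc, piObjIso_hom_comp_π, ← NatTrans.comp_app, Pi.lift_π]
        exact congrArg (fun m => m x) h1
      constructor
      · intro p q hpq
        refine Groth.Agent.EtaleSite.SetPush.eq_of_cmpAt f η F p q fun ξ hξ => ?_
        rw [← hk ⟨ξ, hξ⟩, ← hk ⟨ξ, hξ⟩, hpq]
      · intro q
        obtain ⟨p, hp⟩ := Groth.Agent.EtaleSite.SetPush.exists_cmpAt_eq f η F
          (fun ξ => Pi.π (fun ξ => (fib ξ).obj F) ξ q)
        refine ⟨p, (Types.productIso.{u, u + 1} fun ξ => (fib ξ).obj F).toEquiv.injective ?_⟩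
        funext ξ
        exact (hk ξ p).trans (hp ξ)
    exact IsIso.of_isIso_comp_right (ψ.app F) (piObjIso fib F).hom
  exact ⟨asIso ψ⟩
end Groth.Agent.S6181
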