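import Groth.Statements.S6182
import Groth.Agent.TopFin.Site
import Groth.Agent.TopFin.Alg

set_option autoImplicit false
open CategoryTheory CategoryTheory.Limits Opposite
universe u
open ToposFin

namespace Groth.Agent.S6182

/-- Let (C, J) and (D, K) be small sites with fibre products in which every object is quasi-compact, and
G : C -> D a continuous functor whose inverse-image functor on sheaves of sets f^* (the sheaf
pullback along G, from sheaves on C to sheaves on D) preserves finite limits, so that G is a
morphism of sites and f a morphism of topoi. Then f is coherent: f^* sends quasi-compact objects to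
quasi-compact objects and quasi-separated objects to quasi-separated objects. -/
theorem result {C D : Type u} [SmallCategory C] [SmallCategory D]
    [HasPullbacks C] [HasPullbacks D] (J : GrothendieckTopology C) (K : GrothendieckTopology D)
    (hC : ∀ X : C, ToposFin.IsQCSite J X) (hD : ∀ Y : D, ToposFin.IsQCSite K Y)
    (G : C ⥤ D) [Functor.IsContinuous G J K] [PreservesFiniteLimits (G.sheafPullback (Type u) J K)] :
    (∀ X : ToposFin.Sh J, ToposFin.IsQC X → ToposFin.IsQC ((G.sheafPullback (Type u) J K).obj X)) ∧
      (∀ X : ToposFin.Sh J, ToposFin.IsQS X → ToposFin.IsQS ((G.sheafPullback (Type u) J K).obj X)) := by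
  let adj := G.sheafAdjunctionContinuous (Type u) J K
  have e : ∀ X : C, Nonempty (ToposFin.eps K (G.obj X) ≅ (G.sheafPullback (Type u) J K).obj (ToposFin.eps J X)) := by
    intro X
    let Φ : Sheaf K (Type u) ⥤ Type u :=
      sheafToPresheaf K (Type u) ⋙ (evaluation Dᵒᵖ (Type u)).obj (Opposite.op (G.obj X))
    let r₁ : Φ.CorepresentableBy (ToposFin.eps K (G.obj X)) :=
      { homEquiv := Topos.Gen.homEquiv K
        homEquiv_comp := fun f t => Topos.Gen.homEquiv_comp K t f }
    let r₂ : Φ.CorepresentableBy ((G.sheafPullback (Type u) J K).obj (ToposFin.eps J X)) :=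
      { homEquiv := fun {Z} => (adj.homEquiv _ Z).trans (Topos.Gen.homEquiv J)
        homEquiv_comp := fun f t => by
          simp only [Equiv.trans_apply]
          refine (congrArg _ (adj.homEquiv_naturality_right t f)).trans ?_
          exact Topos.Gen.homEquiv_comp J _ _ }
    exact ⟨r₁.uniqueUpToIso r₂⟩
  have hS : ∀ Z ∈ Set.range (ToposFin.eps J), ToposFin.IsCoherent Z := by
    rintro _ ⟨X, rfl⟩
    exact TopFin.Site.isCoherent_eps J hC X
  have h : ∀ Z ∈ Set.range (ToposFin.eps J),
      ToposFin.IsCoherent ((G.sheafPullback (Type u) J K).obj Z) := by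
    rintro _ ⟨X, rfl⟩
    obtain ⟨i⟩ := e X
    exact TopFin.QC.isCoherent_of_iso i (TopFin.Site.isCoherent_eps K hD _)
  have hgen : ToposFin.IsGenerating (Set.range (ToposFin.eps J)) := TopFin.Site.gens_eps J
  have hK : ToposFin.HasQCGenerators K := TopFin.QC.hasQCGenerators_of_gens (TopFin.Site.gens_eps K) (by
    rintro _ ⟨V, rfl⟩
    exact (TopFin.Site.isQC_eps_iff K V).1 (hD V))
  exact ⟨fun Z hZ => TopFin.Alg.isQC_map adj (TopFin.QC.gens_set hgen) (fun Y hY => (h Y hY).1) hZ,
    fun Z hZ => TopFin.Alg.isQS_map adj hK hS hgen h hZ⟩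

end Groth.Agent.S6182
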