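import Groth.Statements.S6185
import Groth.Agent.BigBC.SmallBig
-- import your own Groth.Agent.* helpers here

set_option autoImplicit false
open CategoryTheory CategoryTheory.Limits AlgebraicGeometry Opposite
universe u
open BigSite

namespace Groth.Agent.S6185

/-- For a scheme X and an abelian sheaf F on the big etale site of X, the cohomology groups H^p(X_et,
F|) of the restriction of F to the small etale site and H^p of F on the big etale site are
isomorphic for every p. Existence of an additive isomorphism only (the published statement asserts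
that the canonical comparison homomorphism is an isomorphism; that map is not named here). -/
theorem result (X : Scheme.{u})
    (F : BigSite.Ab Scheme.etalePrecoverage X) (p : ℕ) :
    Nonempty (EtCoh.H X ((BigSite.resEt Scheme.etalePrecoverage X).obj F) p ≃+
      BigSite.H Scheme.etalePrecoverage X F p) := by
  have hz : ∀ q : ℕ, 0 < q → IsZero (((BigSite.resEt Scheme.etalePrecoverage X).rightDerived q).obj F) :=
    fun q hq => Groth.Agent.BigBC.isZero_RresEt X q hq F
  let A := (constantSheaf X.smallEtaleTopology AddCommGrpCat.{u + 1}).obj (AddCommGrpCat.of (ULift.{u + 1} ℤ))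
  let e₁ := AddEquiv.ofBijective (AddMonoidHom.mk'
    (Groth.Agent.EtaleSite.AdjExt.toExt (BigSite.piEtAdj Scheme.etalePrecoverage X) A F p)
    (fun a b => by simp [Groth.Agent.EtaleSite.AdjExt.toExt, Abelian.Ext.mapExactFunctor_add,
      Abelian.Ext.add_comp]))
    (Groth.Agent.EtaleSite.AdjExt.toExt_bijective (BigSite.piEtAdj Scheme.etalePrecoverage X) p A F hz)
  let i := (Groth.Agent.BigBC.piEtPullConstIso X Scheme.etalePrecoverage).app (AddCommGrpCat.of (ULift.{u + 1} ℤ))
  exact ⟨e₁.trans
    { toFun := fun x => (Abelian.Ext.mk₀ i.inv).comp x (zero_add p)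
      invFun := fun x => (Abelian.Ext.mk₀ i.hom).comp x (zero_add p)
      left_inv := fun x => by
        change (Abelian.Ext.mk₀ i.hom).comp ((Abelian.Ext.mk₀ i.inv).comp x (zero_add p)) (zero_add p) = x
        rw [Abelian.Ext.mk₀_comp_mk₀_assoc, i.hom_inv_id, Abelian.Ext.mk₀_id_comp]
      right_inv := fun x => by
        change (Abelian.Ext.mk₀ i.inv).comp ((Abelian.Ext.mk₀ i.hom).comp x (zero_add p)) (zero_add p) = x
        rw [Abelian.Ext.mk₀_comp_mk₀_assoc, i.inv_hom_id, Abelian.Ext.mk₀_id_comp]
      map_add' := fun x y => Abelian.Ext.comp_add _ _ _ _ }⟩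

end Groth.Agent.S6185
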