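import Groth.Statements.S6202
import Groth.Agent.PCohD.RelRestrict

set_option autoImplicit false
universe u
open CategoryTheory CategoryTheory.Limits AlgebraicGeometry
attribute [local instance] HasDerivedCategory.standard
open KSix

namespace Groth.Agent.S6202

/-- Let f : X ⟶ Y be a morphism of schemes, n an integer and E a cochain complex of O_X-modules whose
class in D(O_X) is n-pseudo-coherent relative to f (chart form; in particular f is locally of finite
type). Then for every open U of X the termwise restriction E|_U is n-pseudo-coherent relative to U ⟶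
X ⟶ Y. -/
theorem result {X Y : Scheme.{u}} (f : X ⟶ Y) (n : ℤ) (E : CochainComplex X.Modules ℤ)
    (hE : DerSch.IsPseudoCoherentRel f n (DCoh.toD X E)) (U : X.Opens) :
    DerSch.IsPseudoCoherentRel (U.ι ≫ f) n (DCoh.toD (U : Scheme.{u}) ((DCoh.restrictCx U).obj E)) := by
  have h := Groth.Agent.PCohD.rel_restrict hE U
  have := h.1
  rw [Groth.Agent.PCohD.rel_iff_tc] at h ⊢
  refine fun W V hWV k φ hφ => @fun hc => ?_
  exact Groth.Agent.PCohD.pc_of_iso ((Groth.Agent.PCohD.pushD _).mapIso
    ((DCoh.restrictD W.1.ι).mapIso (Groth.Agent.PerfTri.Perfect.restrQ U.ι E))) (h W V hWV k φ hφ)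

end Groth.Agent.S6202
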