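import Groth.Statements.S6203
import Groth.Agent.PCohD.RelRestrict

set_option autoImplicit false
universe u
open CategoryTheory CategoryTheory.Limits AlgebraicGeometry
attribute [local instance] HasDerivedCategory.standard
open KSix

namespace Groth.Agent.S6203

/-- Let f : X ⟶ Y be locally of finite type, n an integer, E a cochain complex of O_X-modules, and (U i)
a family of opens of X with union X such that, for every i, the termwise restriction E|_{U i} is
n-pseudo-coherent relative to U i ⟶ X ⟶ Y (chart form). Then E is n-pseudo-coherent relative to f. -/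
theorem result {X Y : Scheme.{u}} (f : X ⟶ Y) [LocallyOfFiniteType f] (n : ℤ)
    (E : CochainComplex X.Modules ℤ) {ι : Type u} (U : ι → X.Opens) (hU : ⨆ i, U i = ⊤)
    (h : ∀ i : ι, DerSch.IsPseudoCoherentRel ((U i).ι ≫ f) n (DCoh.toD (U i : Scheme.{u}) ((DCoh.restrictCx (U i)).obj E))) :
    DerSch.IsPseudoCoherentRel f n (DCoh.toD X E) := by
  refine Groth.Agent.PCohD.rel_of_cover U hU fun i => ?_
  have h0 := h i
  have := h0.1
  rw [Groth.Agent.PCohD.rel_iff_tc] at h0 ⊢
  refine fun W V hWV k φ hφ => @fun hc => ?_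
  exact Groth.Agent.PCohD.pc_of_iso ((Groth.Agent.PCohD.pushD _).mapIso
    ((DCoh.restrictD W.1.ι).mapIso (Groth.Agent.PerfTri.Perfect.restrQ (U i).ι E).symm)) (h0 W V hWV k φ hφ)

end Groth.Agent.S6203
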