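import Groth.Statements.S6207
import Groth.Agent.PCohD.RelCalc

set_option autoImplicit false
universe u
open CategoryTheory CategoryTheory.Limits AlgebraicGeometry
attribute [local instance] HasDerivedCategory.standard
open KSix

namespace Groth.Agent.S6207

/-- Suppose g : Y ⟶ Z is locally of finite type and pseudo-coherent (meaning O_Y, placed in degree 0, is
n-pseudo-coherent relative to g for each integer n). Fix an integer r and an object E of D(O_Y)
whose cohomology is bounded above. Then absolute r-pseudo-coherence of E on Y holds exactly when E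
is r-pseudo-coherent relative to g (chart form). -/
theorem result {Y Z : Scheme.{u}} (g : Y ⟶ Z)
    [LocallyOfFiniteType g] (hg : ∀ n : ℤ, DerSch.IsNPseudoCoherent g n) (r b : ℤ) (E : DCoh.D Y) [E.IsLE b] :
    DCoh.IsPseudoCoherentD r E ↔ DerSch.IsPseudoCoherentRel g r E := by
  have key : ∀ (U : Y.Opens) (hU : IsAffineOpen U) (V : Z.Opens) (hV : IsAffineOpen V)
      (h : U ≤ g ⁻¹ᵁ V) (k : ℕ) (φ : MvPolynomial (Fin k) Γ(Z, V) →+* Γ(Y, U)),
      DerSch.IsChart g U V h φ → ∀ [IsClosedImmersion (Groth.Agent.PCohD.cIm U φ)],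
        Groth.Agent.PCohD.HasPCUnit (Groth.Agent.PCohD.cIm U φ) := by
    intro U hU V hV h k φ hφ _ n
    have ht := (Groth.Agent.PCohD.tc_iff φ).1
      ((Groth.Agent.PCohD.rel_iff_tc _).1 (hg n) ⟨U, hU⟩ ⟨V, hV⟩ h k φ hφ)
    refine Groth.Agent.PCohD.pc_of_iso ?_ ht
    exact (Groth.Agent.PCohD.pushD _).mapIso ((DCoh.restrictD U.ι).mapIso
        ((DerivedCategory.singleFunctorIsoCompQ Y.Modules 0).app (Coh.structureModule Y)).symm) ≪≫
      Groth.Agent.PCohD.testInD U.ι (Groth.Agent.PCohD.cIm U φ) (Coh.structureModule Y) ≪≫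
      (DerivedCategory.singleFunctor _ 0).mapIso ((Scheme.Modules.pushforward _).mapIso
        (Scheme.Modules.restrictUnitIso U.ι))
  constructor
  · intro hE
    rw [Groth.Agent.PCohD.rel_iff_tc]
    intro U V h k φ hφ
    intro hc
    exact Groth.Agent.PCohD.pc_pushD _ (key U U.2 V V.2 h k φ hφ) (Groth.Agent.PCohD.pc_restrict _ hE)
  · intro hE
    refine Groth.Agent.PCohD.pc_of_local fun y => ?_
    obtain ⟨V, hV, hyV, -⟩ := exists_isAffineOpen_mem_and_subset (x := g y) (U := ⊤) trivial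
    obtain ⟨U, hU, hyU, hUV⟩ := exists_isAffineOpen_mem_and_subset (x := y) (U := g ⁻¹ᵁ V) hyV
    obtain ⟨k, φ, hφ⟩ := Groth.Agent.PCohD.exists_chart hU hV hUV
    have := Groth.Agent.PCohD.isClosedImmersion_cIm hU hφ.1
    exact ⟨U, U.ι, inferInstance, ⟨⟨y, hyU⟩, rfl⟩, Groth.Agent.PCohD.pc_of_pushD _
      (key U hU V hV hUV k φ hφ)
      ((Groth.Agent.PCohD.tc_iff φ).1 ((Groth.Agent.PCohD.P_of_rel hE hU hV hUV).tc hU hUV φ hφ))⟩

end Groth.Agent.S6207
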