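import Groth.Statements.S6211
import Groth.Agent.PCohD.RelFamily
import Groth.Agent.PCohD.RelLpull
import Groth.Agent.PCohD.NPCSquare

set_option autoImplicit false
universe u
open CategoryTheory CategoryTheory.Limits AlgebraicGeometry
attribute [local instance] HasDerivedCategory.standard
open KSix

namespace Groth.Agent.S6211

/-- Sufficiency: let f : X ⟶ Y be locally of finite type, h : Y' ⟶ Y flat, surjective and quasi-compact,
X' = X ×_Y Y' with projections g : X' ⟶ X and f' : X' ⟶ Y', n an integer, and E an object of D(O_X)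
with bounded above cohomology whose cohomology sheaves are quasi-coherent. If, the derived pullback
Lg^* being assumed to exist, Lg^* E is n-pseudo-coherent relative to f' (chart form), then E is
n-pseudo-coherent relative to f. (Necessity is the flat base change statement. The published
statement takes h faithfully flat, that is flat and surjective; this row also takes h quasi-compact:
for A an infinite product of copies of the field with two elements, the disjoint union of the
spectra of all local rings of A is flat and surjective over Spec A but not quasi-compact, and the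
ideal sheaf of finitely supported sequences, which is not of finite type, pulls back to a module of
finite type on it, so descent of pseudo-coherence fails; the published proof's final step, descent
of finite type for quasi-coherent modules, needs quasi-compactness.) -/
theorem result {X Y Y' : Scheme.{u}} (f : X ⟶ Y) [LocallyOfFiniteType f]
    (h : Y' ⟶ Y) [Flat h] [Surjective h] [QuasiCompact h] [DCoh.HasLpull (pullback.fst f h)] (n b : ℤ) (E : DCoh.D X) [E.IsLE b]
    (hq : DCoh.IsQCohD E) (hE : DerSch.IsPseudoCoherentRel (pullback.snd f h) n ((DCoh.Lpull (pullback.fst f h)).obj E)) :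
    DerSch.IsPseudoCoherentRel f n E := by
  refine PCohD.rel_iff.2 fun U V e => ?_
  haveI := KFlat.TildeExact.preservesFiniteLimits_tilde Γ(X, (U : X.Opens))
  obtain ⟨M, ⟨eM⟩⟩ := KFlat.TildeD.exists_iso_of_isQCohD (R := Γ(X, (U : X.Opens))) _ (PCohD.isQCohD_pushD_isoSpec hq U.2)
  refine (PCohD.P_iff_isRel U.2 V.2 e M eM).2 ?_
  obtain ⟨s, hs, hcov⟩ := isCompact_iff_finite_and_eq_biUnion_affineOpens.mp
    (h.isCompact_preimage V.2.isCompact)
  have : Finite s := hs.to_subtype
  obtain ⟨r, ⟨σ⟩⟩ := Finite.exists_equiv_fin s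
  let V' : Fin r → Y'.affineOpens := fun i => (σ.symm i).1
  have e' : ∀ i, (V' i : Y'.Opens) ≤ h ⁻¹ᵁ (V : Y.Opens) := fun i => by
    rw [hcov]
    exact le_biSup (fun i : Y'.affineOpens => (i : Y'.Opens)) (σ.symm i).2
  choose W hW e₁ e₂ hWeq hpo using fun i => PCohD.exists_pushout f h V.2 U.2 (V' i).2 e (e' i)
  let _ := (f.appLE (V : Y.Opens) (U : X.Opens) e).hom.toAlgebra
  let _ := fun i => (h.appLE (V : Y.Opens) (V' i : Y'.Opens) (e' i)).hom.toAlgebra
  let _ := fun i => ((pullback.fst f h).appLE (U : X.Opens) (W i) (e₁ i)).hom.toAlgebra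
  let _ := fun i => ((pullback.snd f h).appLE (V' i : Y'.Opens) (W i) (e₂ i)).hom.toAlgebra
  let _ : ∀ i, Algebra Γ(Y, (V : Y.Opens)) Γ(pullback f h, W i) := fun i =>
    ((algebraMap Γ(Y', (V' i : Y'.Opens)) Γ(pullback f h, W i)).comp
      (algebraMap Γ(Y, (V : Y.Opens)) Γ(Y', (V' i : Y'.Opens)))).toAlgebra
  have : ∀ i, IsScalarTower Γ(Y, (V : Y.Opens)) Γ(Y', (V' i : Y'.Opens)) Γ(pullback f h, W i) :=
    fun i => .of_algebraMap_eq fun _ => rfl
  have : ∀ i, IsScalarTower Γ(Y, (V : Y.Opens)) Γ(X, (U : X.Opens)) Γ(pullback f h, W i) :=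
    fun i => .of_algebraMap_eq' (congrArg CommRingCat.Hom.hom (hpo i).w).symm
  have : ∀ i, Algebra.IsPushout Γ(Y, (V : Y.Opens)) Γ(Y', (V' i : Y'.Opens)) Γ(X, (U : X.Opens))
      Γ(pullback f h, W i) := fun i => CommRingCat.isPushout_iff_isPushout.mp (hpo i).flip
  have : ∀ i, Module.Flat Γ(Y, (V : Y.Opens)) Γ(Y', (V' i : Y'.Opens)) := fun i =>
    HasRingHomProperty.appLE @Flat h ‹_› V (V' i) (e' i)
  have : Algebra.FiniteType Γ(Y, (V : Y.Opens)) Γ(X, (U : X.Opens)) := f.finiteType_appLE V.2 U.2 e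
  refine PCohD.isRel_of_family (A' := fun i => Γ(Y', (V' i : Y'.Opens))) (B' := fun i => Γ(pullback f h, W i))
    (fun p => ?_) M fun i inst => ?_
  case refine_2 =>
    haveI := KFlat.TildeExact.preservesFiniteLimits_tilde Γ(pullback f h, W i)
    haveI : DRing.HasLBaseChange ((pullback.fst f h).appLE (U : X.Opens) (W i) (e₁ i)).hom := inst
    haveI : Flat (pullback.fst f h) := inferInstance
    obtain ⟨e'⟩ := PCohD.nonempty_sections_lpull (pullback.fst f h) E U.2 (hW i) (e₁ i) M eM
    exact (PCohD.P_iff_isRel (hW i) (V' i).2 (e₂ i) _ e').1 (PCohD.P_of_rel hE (hW i) (V' i).2 (e₂ i))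
  obtain ⟨y', hy'⟩ := h.surjective (V.2.fromSpec p)
  have hy'V : h y' ∈ (V : Y.Opens) := by
    rw [hy', ← SetLike.mem_coe, ← V.2.range_fromSpec]
    exact ⟨p, rfl⟩
  have : y' ∈ h ⁻¹ᵁ (V : Y.Opens) := hy'V
  rw [hcov, TopologicalSpace.Opens.mem_iSup] at this
  obtain ⟨j, hj⟩ := this
  obtain ⟨hjs, hyj⟩ := TopologicalSpace.Opens.mem_iSup.1 hj
  have hyi : y' ∈ (V' (σ ⟨j, hjs⟩) : Y'.Opens) := by simpa [V'] using hyj
  refine ⟨σ ⟨j, hjs⟩, (V' _).2.primeIdealOf ⟨y', hyi⟩, ?_⟩
  apply V.2.fromSpec.isOpenEmbedding.injective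
  rw [← hy']
  exact (congrArg V.2.fromSpec (IsAffineOpen.comap_primeIdealOf_appLE (f := h) (V : Y.Opens) V.2 _
    (V' (σ ⟨j, hjs⟩)).2 (e' _) hyi)).trans (V.2.fromSpec_primeIdealOf ⟨h y', hy'V⟩)

end Groth.Agent.S6211
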