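import Groth.Statements.S6212
import Groth.Agent.PCohD.PerfAmpNhd

set_option autoImplicit false
universe u
open CategoryTheory CategoryTheory.Limits AlgebraicGeometry
attribute [local instance] HasDerivedCategory.standard
open KSix

namespace Groth.Agent.S6212

/-- Let f : X ⟶ Y be locally of finite type, F a cochain complex of O_X-modules, a and b integers and x
a point of X. The following are equivalent: (i) on some open neighbourhood U of x, F|_U has perfect
amplitude in [a, b] relative to U ⟶ Y (pseudo-coherent relative to the morphism in chart form, and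
of tor amplitude in [a, b] stalkwise over the local rings of Y); (ii) on some open neighbourhood U
of x, F|_U is (a-1)-pseudo-coherent relative to U ⟶ Y and its cohomology sheaves vanish outside [a,
b], and the complex of stalks F_x over the local ring of Y at f x has tor amplitude in [a, b]. -/
theorem result {X Y : Scheme.{u}} (f : X ⟶ Y)
    [LocallyOfFiniteType f] (F : CochainComplex X.Modules ℤ) (a b : ℤ) (x : X) :
    (∃ U : X.Opens, x ∈ U ∧ DerSch.HasPerfAmplitudeRel (U.ι ≫ f) a b ((DCoh.restrictCx U).obj F)) ↔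
      ((∃ U : X.Opens, x ∈ U ∧
          DerSch.IsPseudoCoherentRel (U.ι ≫ f) (a - 1) (DCoh.toD (U : Scheme.{u}) ((DCoh.restrictCx U).obj F)) ∧
          ∀ i : ℤ, i < a ∨ b < i → IsZero (DCoh.HD (DCoh.toD (U : Scheme.{u}) ((DCoh.restrictCx U).obj F)) i)) ∧
        DerSch.HasTorAmplitudeAt f a b F x) := by
  constructor
  · rintro ⟨U, hxU, hpc, htor⟩
    exact ⟨⟨U, hxU, hpc _, PCohD.PerfAmpNhd.isZero_HD_of_torAmp _ _ htor⟩,
      (PCohD.PerfAmpNhd.torAt_restr_iff U.ι f ⟨x, hxU⟩ F a b).1 (htor ⟨x, hxU⟩)⟩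
  · rintro ⟨⟨U, hxU, hpc, hv⟩, htor⟩
    obtain ⟨V, hV, hxV, -⟩ := exists_isAffineOpen_mem_and_subset (x := f x) (U := ⊤) trivial
    obtain ⟨A, hA, hxA, hle⟩ := exists_isAffineOpen_mem_and_subset (x := x) (U := U ⊓ f ⁻¹ᵁ V) ⟨hxU, hxV⟩
    have hAU : A ≤ U := fun y hy => (hle hy).1
    have hAV : A ≤ f ⁻¹ᵁ V := fun y hy => (hle hy).2
    obtain ⟨n, φ, hφ⟩ := PCohD.exists_chart hA hV hAV
    have := PCohD.isClosedImmersion_cIm hA hφ.1
    have hT := (PCohD.tc_iff φ).1 (((PCohD.PerfAmpNhd.rel_restrict_iff U).1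
      (PCohD.rel_congr_iso (PerfTri.Perfect.restrQ U.ι F).symm hpc) ⟨A, hA⟩ ⟨V, hV⟩ hAU hAV).tc
        hA hAV φ hφ)
    let i := PCohD.cIm A φ
    let g := Spec.map (CommRingCat.ofHom (MvPolynomial.C : Γ(Y, V) →+* MvPolynomial (Fin n) Γ(Y, V))) ≫
      hV.fromSpec
    have hC : (MvPolynomial.C : Γ(Y, V) →+* MvPolynomial (Fin n) Γ(Y, V)).Flat :=
      (RingHom.flat_algebraMap_iff (R := Γ(Y, V)) (S := MvPolynomial (Fin n) Γ(Y, V))).2 inferInstance
    have hC' : (MvPolynomial.C : Γ(Y, V) →+* MvPolynomial (Fin n) Γ(Y, V)).FinitePresentation :=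
      (RingHom.finitePresentation_algebraMap (A := Γ(Y, V)) (B := MvPolynomial (Fin n) Γ(Y, V))).2 inferInstance
    have : Flat (Spec.map (CommRingCat.ofHom (MvPolynomial.C : Γ(Y, V) →+* MvPolynomial (Fin n) Γ(Y, V)))) :=
      (HasRingHomProperty.Spec_iff (P := @Flat)).mpr hC
    have : LocallyOfFinitePresentation
        (Spec.map (CommRingCat.ofHom (MvPolynomial.C : Γ(Y, V) →+* MvPolynomial (Fin n) Γ(Y, V)))) :=
      (HasRingHomProperty.Spec_iff (P := @LocallyOfFinitePresentation)).mpr hC'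
    have hw : A.ι ≫ f = i ≫ g := by
      change _ = PCohD.cIm A φ ≫ _ ≫ _
      rw [← Category.assoc, ← PCohD.cIm_comp, hφ.2, PCohD.cIm, CommRingCat.ofHom_hom, Category.assoc,
        IsAffineOpen.SpecMap_appLE_fromSpec f hV hA hAV, ← Category.assoc, ← hA.isoSpec_hom,
        hA.isoSpec_hom_fromSpec]
    let F' := (DCoh.restrictCx A).obj F
    have hvA : ∀ q, q < a ∨ b < q → IsZero (DCoh.HD (DCoh.toD (A : Scheme.{u}) F') q) := fun q hq =>
      (PCohD.FTFP.isZero_restr (X.homOfLE hAU) (hv q hq)).of_iso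
        ((DerivedCategory.homologyFunctor _ q).mapIso
          ((PerfTri.Perfect.restrQ A.ι F).symm ≪≫
            (PerfTri.Perfect.restrComp (X.homOfLE hAU) U.ι A.ι (Scheme.homOfLE_ι _ _) _).symm ≪≫
            (DCoh.restrictD _).mapIso (PerfTri.Perfect.restrQ U.ι F)))
    have htA : DerSch.HasTorAmplitudeAt (i ≫ g) a b F' ⟨x, hxA⟩ :=
      hw ▸ (PCohD.PerfAmpNhd.torAt_restr_iff A.ι f ⟨x, hxA⟩ F a b).2 htor
    obtain ⟨W, hxW, hperf⟩ := PCohD.PerfAmpNhd.exists_nhd i g F' a b ⟨x, hxA⟩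
      (PCohD.pc_of_iso ((PCohD.pushD i).mapIso (PerfTri.Perfect.restrQ A.ι F)) hT) hvA htA
    rw [← hw] at hperf
    exact ⟨A.ι ''ᵁ (i ⁻¹ᵁ W), ⟨⟨x, hxA⟩, hxW, rfl⟩, PCohD.PerfAmpNhd.perfAmp_nested F a b A _ hperf⟩

end Groth.Agent.S6212
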