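import Groth.Statements.S6225
import Groth.Agent.PCohD.NPC
import Groth.Agent.DRing.RelPC

set_option autoImplicit false
universe u
open CategoryTheory CategoryTheory.Limits AlgebraicGeometry
attribute [local instance] HasDerivedCategory.standard
open KSix

namespace Groth.Agent.S6225

/-- A finite type algebra is finitely presented iff it is so as a module over a polynomial ring. -/
theorem fp_iff {R A : Type u} [CommRing R] [CommRing A] [Algebra R A] [Algebra.FiniteType R A] :
    DerCA.IsRelPseudoCoherentModule R A (-1) A ↔ Algebra.FinitePresentation R A := by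
  obtain ⟨n, α, hα⟩ := DRing.RelPC.exists_presentation R A
  rw [(DRing.RelPC.relPCModule_iff α hα A).2]
  let P := MvPolynomial (Fin n) R
  let _ : Module P A := Module.compHom A α.toRingHom
  let l : P →ₗ[P] A :=
    { toFun := α
      map_add' := map_add α
      map_smul' := fun r x => by
        change α (r * x) = α r * α x
        exact map_mul α r x }
  have hl : ∀ x, x ∈ LinearMap.ker l ↔ x ∈ RingHom.ker α.toRingHom := fun x => Iff.rfl
  have hker : LinearMap.ker l = RingHom.ker α.toRingHom := Submodule.ext hl
  constructor
  · intro h
    have : Module.FinitePresentation P A := h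
    exact Algebra.FinitePresentation.of_surjective hα
      (hker ▸ Module.FinitePresentation.fg_ker (R := P) l hα)
  · intro h
    exact Module.finitePresentation_of_surjective l hα
      (hker.symm ▸ Algebra.FinitePresentation.ker_fG_of_surjective α hα)

/-- Last assertion: a morphism f : X ⟶ Y locally of finite type is (-1)-pseudo-coherent (O_X placed in
degree 0 is (-1)-pseudo-coherent relative to f, in chart form) if and only if f is locally of finite
presentation. -/
theorem result {X Y : Scheme.{u}} (f : X ⟶ Y) [LocallyOfFiniteType f] :
    DerSch.IsNPseudoCoherent f (-1) ↔ LocallyOfFinitePresentation f := by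
  rw [HasRingHomProperty.iff_appLE (P := @LocallyOfFinitePresentation), PCohD.npc_iff]
  constructor
  · intro h V U e
    let _ := (f.appLE (V : Y.Opens) (U : X.Opens) e).hom.toAlgebra
    have : Algebra.FiniteType Γ(Y, (V : Y.Opens)) Γ(X, (U : X.Opens)) := f.finiteType_appLE V.2 U.2 e
    exact fp_iff.1 (h U V e)
  · intro h U V e
    let _ := (f.appLE (V : Y.Opens) (U : X.Opens) e).hom.toAlgebra
    have : Algebra.FiniteType Γ(Y, (V : Y.Opens)) Γ(X, (U : X.Opens)) := f.finiteType_appLE V.2 U.2 e
    exact fp_iff.2 (h V U e)

end Groth.Agent.S6225
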