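import Groth.Statements.S6214
import Groth.Agent.S6225
import Groth.Agent.PCohD.NPC
import Groth.Agent.FlatMor.PC.TorDim
import Groth.Agent.DRing.PCTrunc
import Groth.Agent.DRing.TorBalance
import Groth.Agent.UnitsThick.PushO
-- import your own Groth.Agent.* helpers here

set_option autoImplicit false
universe u
open CategoryTheory CategoryTheory.Limits AlgebraicGeometry
attribute [local instance] HasDerivedCategory.standard
open KSix
open CategoryTheory CategoryTheory.Limits AlgebraicGeometry

namespace Groth.Agent.S6214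

/-- A flat finitely presented algebra is pseudo-coherent relative to the base. -/
theorem isRelPC_of_flat_fp (R B : Type u) [CommRing R] [CommRing B] [Algebra R B] [Module.Flat R B]
    [Algebra.FinitePresentation R B] (n : ℤ) : DerCA.IsRelPseudoCoherentModule R B n B := by
  obtain ⟨k, φ, hφ, hpc⟩ := (FlatMor.PC.perfectHom_of_flat_fp (A := R) (B := B)).1
  letI := φ.toRingHom.toAlgebra
  refine ((DRing.RelPC.isRel_iff φ hφ _ n).trans
    (DRing.RelPC.pcModule_restrict_iff _ (ModuleCat.of B B) n)).2 ?_
  exact DRing.PC.pcModule'_iff.1 hpc n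

/-- The complex of stalks of the structure sheaf. -/
theorem torAmp_unit_iff {X Y : Scheme.{u}} (f : X ⟶ Y) (x : X) :
    DerSch.HasTorAmplitudeAt f (-((0 : ℕ) : ℤ)) 0 (DerSch.unitCx X) x ↔
      FlatMod.IsFlatOverAt f (Coh.structureModule X) x := by
  let N := (DerSch.stalkOver f x).obj (Coh.structureModule X)
  let e : DRing.toD ((DerSch.stalkCxOver f x).obj (DerSch.unitCx X)) ≅ Dual.inD _ N :=
    DerivedCategory.Q.mapIso ((HomologicalComplex.singleMapHomologicalComplex (DerSch.stalkOver f x)
      (ComplexShape.up ℤ) 0).app (Coh.structureModule X)) ≪≫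
      ((DerivedCategory.singleFunctorIsoCompQ (ModuleCat.{u} _) 0).app N).symm
  exact Iff.trans ⟨DRing.TorAmp.torAmp_of_iso e, DRing.TorAmp.torAmp_of_iso e.symm⟩
    ((DRing.TorBalance.hasTorDimLE_iff 0 N).symm.trans (DRing.TorBalance.hasTorDimLE_zero_iff N))

/-- A morphism f : X ⟶ Y locally of finite type has perfect dimension at most 0 (O_X placed in degree 0
is pseudo-coherent relative to f in chart form and has stalkwise tor amplitude in [0, 0] over the
local rings of Y) if and only if f is flat and locally of finite presentation. -/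
theorem result {X Y : Scheme.{u}} (f : X ⟶ Y) [LocallyOfFiniteType f] :
    DerSch.HasPerfDimLE f 0 ↔ (Flat f ∧ LocallyOfFinitePresentation f) := by
  constructor
  · rintro ⟨hpc, htor⟩
    exact ⟨UnitsThick.PushO.flat_of_isFlatOver_unit f fun x => (torAmp_unit_iff f x).1 (htor x),
      (Groth.Agent.S6225.result f).1 (hpc (-1))⟩
  · rintro ⟨hflat, hfp⟩
    refine ⟨fun n => (PCohD.npc_iff f).2 fun U V h => ?_,
      fun x => (torAmp_unit_iff f x).2 (UnitsThick.PushO.isFlatOver_unit f x)⟩
    let _ := (f.appLE (V : Y.Opens) (U : X.Opens) h).hom.toAlgebra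
    have : Algebra.FinitePresentation Γ(Y, (V : Y.Opens)) Γ(X, (U : X.Opens)) :=
      HasRingHomProperty.appLE @LocallyOfFinitePresentation f hfp V U h
    have : Module.Flat Γ(Y, (V : Y.Opens)) Γ(X, (U : X.Opens)) := HasRingHomProperty.appLE @Flat f hflat V U h
    exact isRelPC_of_flat_fp _ _ n

end Groth.Agent.S6214
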