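import Groth.Statements.S6218
import Groth.Agent.PCohD.RelAbs
import Groth.Agent.PCohD.PushTor
import Groth.Agent.PCohD.PerfAmp
-- import your own Groth.Agent.* helpers here

set_option autoImplicit false
universe u
open CategoryTheory CategoryTheory.Limits AlgebraicGeometry
attribute [local instance] HasDerivedCategory.standard
open KSix

namespace Groth.Agent.S6218

/-- Let i : X ⟶ Y be a closed immersion, g : Y ⟶ S smooth, a and b integers, and F a cochain complex of
O_X-modules such that the termwise direct image i_* F has perfect amplitude in [a, b] on Y in the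
absolute sense (locally isomorphic in D to a complex of finite locally free modules placed in [a,
b]). Then F has perfect amplitude in [a, b] relative to i ≫ g (pseudo-coherent relative to it in
chart form, with stalkwise tor amplitude in [a, b] over the local rings of S). -/
theorem result {X Y S : Scheme.{u}} (i : X ⟶ Y) [IsClosedImmersion i]
    (g : Y ⟶ S) [Smooth g] (a b : ℤ) (F : CochainComplex X.Modules ℤ)
    (hF : KSix.HasPerfectAmplitudeIn a b (DCoh.toD Y (((Scheme.Modules.pushforward i).mapHomologicalComplex (ComplexShape.up ℤ)).obj F))) :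
    DerSch.HasPerfAmplitudeRel (i ≫ g) a b F := by
  let e : (PCohD.pushD i).obj (DCoh.toD X F) ≅
      DCoh.toD Y (((Scheme.Modules.pushforward i).mapHomologicalComplex (ComplexShape.up ℤ)).obj F) :=
    (Scheme.Modules.pushforward i).mapDerivedCategoryFactors.app F
  have hperf : DCoh.IsPerfect (DCoh.toD Y
      (((Scheme.Modules.pushforward i).mapHomologicalComplex (ComplexShape.up ℤ)).obj F)) := fun y => by
    obtain ⟨V, hy, hV⟩ := hF y
    refine ⟨V, hy, fun F' hF' => ?_⟩
    obtain ⟨G, hG, hGf, he⟩ := hV F' hF'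
    exact ⟨G, ⟨⟨a, b, hG⟩, hGf⟩, he⟩
  have hfl : DCoh.HasFlatAmplitudeIn a b (DCoh.toD Y
      (((Scheme.Modules.pushforward i).mapHomologicalComplex (ComplexShape.up ℤ)).obj F)) := by
    refine PCohD.PerfAmp.flatAmp_of_local fun y => ?_
    obtain ⟨V, hy, hV⟩ := hF y
    obtain ⟨G, hG, hGf, ⟨eG⟩⟩ := hV _ ⟨Iso.refl _⟩
    exact ⟨V, hy, G, hG, fun j => PCohD.PerfTor.isFlat_of_isFinLocFree (hGf j),
      ⟨eG.symm ≪≫ (PerfTri.Perfect.restrQ V.ι _).symm⟩⟩
  exact ⟨fun m => (PCohD.rel_comp_iff i g _).2 ((PCohD.pc_iff_of_iso e).2 (PCohD.pc_of_perfect hperf m)),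
    PCohD.PushTor.hasTorAmplitude_of_flatAmp i g F hfl⟩

end Groth.Agent.S6218
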