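import Groth.Statements.S6219
import Groth.Agent.PCohD.RelAbs
import Groth.Agent.PCohD.PushSmooth
import Groth.Agent.PCohD.PerfAmp
-- import your own Groth.Agent.* helpers here

set_option autoImplicit false
universe u
open CategoryTheory CategoryTheory.Limits AlgebraicGeometry
attribute [local instance] HasDerivedCategory.standard
open KSix

namespace Groth.Agent.S6219

/-- Let i : X ⟶ Y be a closed immersion, g : Y ⟶ S smooth of relative dimension at most d (every point
of Y has an open neighbourhood on which g is smooth of some relative dimension n ≤ d), a and b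
integers, and F a cochain complex of O_X-modules with perfect amplitude in [a, b] relative to i ≫ g
(pseudo-coherent relative to it in chart form, with stalkwise tor amplitude in [a, b] over the local
rings of S). Then the termwise direct image i_* F has perfect amplitude in [a - d, b] on Y in the
absolute sense (locally isomorphic in D to a complex of finite locally free modules placed in [a -
d, b]). -/
theorem result {X Y S : Scheme.{u}} (i : X ⟶ Y) [IsClosedImmersion i]
    (g : Y ⟶ S) [Smooth g] (d : ℕ)
    (hd : ∀ y : Y, ∃ (n : ℕ) (V : Y.Opens), n ≤ d ∧ y ∈ V ∧ SmoothOfRelativeDimension n (V.ι ≫ g))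
    (a b : ℤ) (F : CochainComplex X.Modules ℤ) (hF : DerSch.HasPerfAmplitudeRel (i ≫ g) a b F) :
    KSix.HasPerfectAmplitudeIn (a - d) b (DCoh.toD Y (((Scheme.Modules.pushforward i).mapHomologicalComplex (ComplexShape.up ℤ)).obj F)) := by
  let G := ((Scheme.Modules.pushforward i).mapHomologicalComplex (ComplexShape.up ℤ)).obj F
  let e : (PCohD.pushD i).obj (DCoh.toD X F) ≅ DCoh.toD Y G :=
    (Scheme.Modules.pushforward i).mapDerivedCategoryFactors.app F
  have hfl : DCoh.HasFlatAmplitudeIn (a - d) b (DCoh.toD Y G) :=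
    PCohD.PushSmooth.flatAmp_push i g d hd F hF.2
  by_cases hab : a - (d : ℤ) ≤ b
  · exact (PCohD.PerfAmp.perfAmp_iff _ hab).2
      ⟨(PCohD.pc_iff_of_iso e).1 ((PCohD.rel_comp_iff i g _).1 (hF.1 _)), hfl⟩
  · obtain ⟨E, hv, -, ⟨eE⟩⟩ := hfl
    refine fun y => ⟨⊤, trivial, fun F' ⟨eF⟩ => ⟨(DCoh.restrictCx ⊤).obj E, fun j hj => ?_, fun j => ?_, ⟨?_⟩⟩⟩
    · exact (Scheme.Modules.restrictFunctor _).map_isZero (hv j hj)
    · exact KFlat.LocFree.isFinLocFree_of_iso
        (((HomologicalComplex.eval _ _ j).map_isZero (isZero_zero _)).iso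
          ((Scheme.Modules.restrictFunctor _).map_isZero (hv j (by omega))))
        (PCohD.isStrictlyPerfect_zero.2 j)
    · exact (PerfTri.Perfect.restrQ (⊤ : Y.Opens).ι F').symm ≪≫
        (DCoh.restrictD (⊤ : Y.Opens).ι).mapIso (eF ≪≫ eE.symm) ≪≫ PerfTri.Perfect.restrQ (⊤ : Y.Opens).ι E

end Groth.Agent.S6219
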