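import Groth.Statements.S6220
import Groth.Agent.PCohD.RelCohNoeth
import Groth.Agent.PCohD.RelRestrict
import Groth.Agent.CohDerLib.QC.CohPush
import Groth.Agent.CycLib.ModStalk
import Groth.Agent.ProperFin.Supp
import Groth.Agent.KFlat.RPushBase
-- import your own Groth.Agent.* helpers here

set_option autoImplicit false
universe u
open CategoryTheory CategoryTheory.Limits AlgebraicGeometry
attribute [local instance] HasDerivedCategory.standard
open KSix

namespace Groth.Agent.S6220

/-- Relative pseudo-coherence is invariant under isomorphism. -/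
theorem rel_congr {X S : Scheme.{u}} {f : X ⟶ S} {K K' : DCoh.D X} (e : K ≅ K') {m : ℤ}
    (h : DerSch.IsPseudoCoherentRel f m K) : DerSch.IsPseudoCoherentRel f m K' := by
  obtain ⟨hf, 𝒱, h𝒱, H⟩ := h
  refine ⟨hf, 𝒱, h𝒱, fun V hV => ?_⟩
  obtain ⟨𝒰, h𝒰, H'⟩ := H V hV
  refine ⟨𝒰, h𝒰, fun U hU h => ?_⟩
  obtain ⟨n, φ, hc, hpc⟩ := H' U hU h
  exact ⟨n, φ, hc, fun G ⟨eG⟩ => hpc G ⟨eG ≪≫ e.symm⟩⟩

/-- Relative pseudo-coherence in every degree is local. -/
theorem relAll_of_local {Y S : Scheme.{u}} (q : Y ⟶ S) [LocallyOfFiniteType q] {K : DCoh.D Y}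
    (h : ∀ y : Y, ∃ U : Y.Opens, y ∈ U ∧
      DerSch.IsPseudoCoherentRelAll (U.ι ≫ q) ((DCoh.restrictD U.ι).obj K)) :
    DerSch.IsPseudoCoherentRelAll q K := fun m => by
  choose U hy hU using h
  exact PCohD.rel_of_cover U (TopologicalSpace.Opens.ext (Set.eq_univ_of_forall fun y =>
    TopologicalSpace.Opens.mem_iSup.2 ⟨y, hy y⟩)) fun y => hU y m

/-- Let S be a locally Noetherian scheme, p : X ⟶ S and q : Y ⟶ S locally of finite type, f : X ⟶ Y
proper with f ≫ q = p, and E an object of D(O_X) with bounded below cohomology which is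
pseudo-coherent relative to p (chart form, every degree). Then, the derived direct image being
assumed to exist, Rf_* E is pseudo-coherent relative to q. -/
theorem result {X Y S : Scheme.{u}} [IsLocallyNoetherian S]
    (p : X ⟶ S) (q : Y ⟶ S) [LocallyOfFiniteType p] [LocallyOfFiniteType q] (f : X ⟶ Y) [IsProper f] (w : f ≫ q = p)
    [DCoh.HasRpush f] (E : DCoh.D X) (a : ℤ) [E.IsGE a] (hE : DerSch.IsPseudoCoherentRelAll p E) :
    DerSch.IsPseudoCoherentRelAll q ((DCoh.Rpush f).obj E) := by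
  refine relAll_of_local q fun y => ?_
  obtain ⟨U, hU, hy, -⟩ := exists_isAffineOpen_mem_and_subset (x := y) (U := ⊤) trivial
  refine ⟨U, hy, fun m => ?_⟩
  let g := f ∣_ U
  let E' := (DCoh.restrictD (f ⁻¹ᵁ U).ι).obj E
  have : IsLocallyNoetherian Y := LocallyOfFiniteType.isLocallyNoetherian q
  have : IsAffine U := hU
  have : IsNoetherian (U : Scheme.{u}) := ⟨⟩
  have : IsProper g := IsZariskiLocalAtTarget.restrict ‹IsProper f› U
  have : CompactSpace (f ⁻¹ᵁ U : Scheme.{u}) := QuasiCompact.compactSpace_of_compactSpace g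
  have := Groth.Agent.KFlat.RPush.hasRpush g
  have hE' : DerSch.IsPseudoCoherentRelAll (g ≫ U.ι ≫ q) E' := fun k => by
    have h := PCohD.rel_restrict (hE k) (f ⁻¹ᵁ U)
    rwa [← w, ← Category.assoc, ← morphismRestrict_ι, Category.assoc] at h
  have : LocallyOfFiniteType (g ≫ U.ι ≫ q) := inferInstance
  have hc : DCoh.IsCohD E' := PCohD.isCohD_of_relAll hE'
  have hsupp : ∀ i : ℤ, ClSub.IsProperOver g (CohB1.support (DCoh.HD E' i)) := fun i => by
    have h : IsClosed (CohB1.support (DCoh.HD E' i)) := by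
      have he : CohB1.support (DCoh.HD E' i) = {x | Nontrivial ((DCoh.HD E' i).presheaf.stalk x)} :=
        Set.ext fun x => not_subsingleton_iff_nontrivial
      rw [he]
      exact @CycLib.isClosed_support _ _ (hc i).1 (hc i)
    exact ⟨h, inferInstance⟩
  have : E'.IsGE a := (DerivedCategory.isGE_iff E' a).2 fun i hi =>
    PCohD.FTFP.isZero_restr _ (DerivedCategory.isZero_of_isGE E a i hi)
  obtain ⟨b, hb⟩ := PCohD.rel_isLE (hE' 0)
  obtain ⟨c, hc'⟩ := CohDerLib.QC.exists_isLE_Rpush g E' a b (fun i => (hc i).1) hsupp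
  exact rel_congr ((KFlat.RPushBase.restrictRpushIso f U).app E).symm
    (PCohD.relAll_of_isCohD (f := U.ι ≫ q) _ c
      (CohDerLib.QC.isCohD_Rpush g E' a hc hsupp (ProperFin.isCoh_structureModule _)) m)

end Groth.Agent.S6220
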