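import Groth.Statements.S6222
import Groth.Agent.PCohD.RelCohNoeth
import Groth.Agent.CohDerLib.QC.CohPush
import Groth.Agent.CycLib.ModStalk
import Groth.Agent.ProperFin.Supp
-- import your own Groth.Agent.* helpers here

set_option autoImplicit false
universe u
open CategoryTheory CategoryTheory.Limits AlgebraicGeometry
attribute [local instance] HasDerivedCategory.standard
open KSix

namespace Groth.Agent.S6222

/-- Let S be a Noetherian scheme, p : X ⟶ S and q : Y ⟶ S of finite type, f : X ⟶ Y proper with f ≫ q =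
p, and E an object of D(O_X) with cohomology bounded in [a, b] which is pseudo-coherent relative to
p (chart form, every degree). Then, Rf_* being assumed to exist, Rf_* E has bounded cohomology and
is pseudo-coherent relative to q. -/
theorem result {X Y S : Scheme.{u}} [IsNoetherian S]
    (p : X ⟶ S) (q : Y ⟶ S) [LocallyOfFiniteType p] [QuasiCompact p] [LocallyOfFiniteType q] [QuasiCompact q]
    (f : X ⟶ Y) [IsProper f] (w : f ≫ q = p) [DCoh.HasRpush f] (E : DCoh.D X) (a b : ℤ) [E.IsGE a] [E.IsLE b]
    (hE : DerSch.IsPseudoCoherentRelAll p E) :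
    (∃ c : ℤ, ((DCoh.Rpush f).obj E).IsLE c) ∧ ((DCoh.Rpush f).obj E).IsGE a ∧
      DerSch.IsPseudoCoherentRelAll q ((DCoh.Rpush f).obj E) := by
  have : IsLocallyNoetherian Y := LocallyOfFiniteType.isLocallyNoetherian q
  have : CompactSpace Y := QuasiCompact.compactSpace_of_compactSpace q
  have : IsNoetherian Y := ⟨⟩
  have hc : DCoh.IsCohD E := PCohD.isCohD_of_relAll hE
  have hsupp : ∀ i : ℤ, ClSub.IsProperOver f (CohB1.support (DCoh.HD E i)) := fun i => by
    have h : IsClosed (CohB1.support (DCoh.HD E i)) := by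
      have he : CohB1.support (DCoh.HD E i) = {x : X | Nontrivial ((DCoh.HD E i).presheaf.stalk x)} :=
        Set.ext fun x => not_subsingleton_iff_nontrivial
      rw [he]
      exact @CycLib.isClosed_support _ _ (hc i).1 (hc i)
    exact ⟨h, inferInstance⟩
  have hq : DCoh.IsQCohD E := fun i => (hc i).1
  obtain ⟨c, hc'⟩ := CohDerLib.QC.exists_isLE_Rpush f E a b hq hsupp
  exact ⟨⟨c, hc'⟩, CohDerLib.QC.isGE_Rpush f E a, PCohD.relAll_of_isCohD _ c
    (CohDerLib.QC.isCohD_Rpush f E a hc hsupp (ProperFin.isCoh_structureModule Y))⟩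

end Groth.Agent.S6222
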