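import Groth.Statements.S6226
import Groth.Agent.PCohD.NPCSquare

set_option autoImplicit false
universe u
open CategoryTheory CategoryTheory.Limits AlgebraicGeometry
attribute [local instance] HasDerivedCategory.standard
open KSix

namespace Groth.Agent.S6226

/-- Last clause: for a flat base change: let f : X ⟶ Y be locally of finite type and n-pseudo-coherent
(O_X placed in degree 0 is n-pseudo-coherent relative to f, chart form) and h : Y' ⟶ Y flat. Then
the base change X ×_Y Y' ⟶ Y' of f is n-pseudo-coherent. (The published statement assumes only that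
X and Y' are tor-independent over Y; this row takes h flat, which implies that condition.) -/
theorem result {X Y Y' : Scheme.{u}} (f : X ⟶ Y) [LocallyOfFiniteType f] (n : ℤ)
    (hf : DerSch.IsNPseudoCoherent f n) (h : Y' ⟶ Y) [Flat h] :
    DerSch.IsNPseudoCoherent (pullback.snd f h) n := by
  refine PCohD.npc_of_cover _ fun x => ?_
  obtain ⟨V, hV, hxV, -⟩ := exists_isAffineOpen_mem_and_subset
    (x := f (pullback.fst f h x)) (U := ⊤) trivial
  obtain ⟨U, hU, hxU, e⟩ := exists_isAffineOpen_mem_and_subset (x := pullback.fst f h x) (U := f ⁻¹ᵁ V) hxV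
  have hxh : h (pullback.snd f h x) ∈ V := by
    rwa [← Scheme.Hom.comp_apply, ← pullback.condition, Scheme.Hom.comp_apply]
  obtain ⟨V', hV', hxV', e'⟩ := exists_isAffineOpen_mem_and_subset (x := pullback.snd f h x) (U := h ⁻¹ᵁ V) hxh
  obtain ⟨W, hW, e₁, e₂, hWeq, hpo⟩ := PCohD.exists_pushout f h hV hU hV' e e'
  refine ⟨⟨W, hW⟩, ⟨V', hV'⟩, e₂, hWeq ▸ ⟨hxU, hxV'⟩, ?_⟩
  have hrel := (PCohD.npc_iff f).1 hf ⟨U, hU⟩ ⟨V, hV⟩ e
  let _ := (f.appLE V U e).hom.toAlgebra
  let _ := (h.appLE V V' e').hom.toAlgebra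
  let _ := ((pullback.fst f h).appLE U W e₁).hom.toAlgebra
  let _ := ((pullback.snd f h).appLE V' W e₂).hom.toAlgebra
  let _ : Algebra Γ(Y, V) Γ(pullback f h, W) :=
    ((algebraMap Γ(Y', V') Γ(pullback f h, W)).comp (algebraMap Γ(Y, V) Γ(Y', V'))).toAlgebra
  have : IsScalarTower Γ(Y, V) Γ(Y', V') Γ(pullback f h, W) := .of_algebraMap_eq fun _ => rfl
  have : IsScalarTower Γ(Y, V) Γ(X, U) Γ(pullback f h, W) :=
    .of_algebraMap_eq' (congrArg CommRingCat.Hom.hom hpo.w).symm
  have : Algebra.IsPushout Γ(Y, V) Γ(Y', V') Γ(X, U) Γ(pullback f h, W) :=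
    CommRingCat.isPushout_iff_isPushout.mp hpo.flip
  have : Module.Flat Γ(Y, V) Γ(Y', V') := HasRingHomProperty.appLE @Flat h ‹_› ⟨V, hV⟩ ⟨V', hV'⟩ e'
  exact PCohD.rel_baseChange hrel

end Groth.Agent.S6226
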