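import Groth.Statements.S6232
import Groth.Agent.KFlat.FlatProperPC
import Groth.Agent.KFlat.RPush
import Groth.Agent.ProjProper.Basic
import Groth.Agent.CohOps.PnSmooth
import Groth.Agent.S6201
import Groth.Agent.S1112

set_option autoImplicit false
universe u
open CategoryTheory CategoryTheory.Limits AlgebraicGeometry
attribute [local instance] HasDerivedCategory.standard
open KSix

namespace Groth.Agent.S6232

/-- Let i : X ⟶ P^r_Y be a closed immersion with f : X ⟶ Y the composite with the projection, suppose f
pseudo-coherent (O_X placed in degree 0 is n-pseudo-coherent relative to f in chart form for every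
n), and let E be an object of D(O_X) with bounded below cohomology which is m-pseudo-coherent in the
absolute sense for every m. Then, Rf_* being assumed to exist, Rf_* E is m-pseudo-coherent on Y for
every m. (The published statement allows any projective f, a closed immersion into P(M) with M
quasi-coherent of finite type on Y; this row takes M free of rank r + 1.) -/
theorem result {X Y : Scheme.{u}} (r : ℕ)
    (i : X ⟶ CohB1.ProjSpaceOver r Y) [IsClosedImmersion i]
    (hf : ∀ n : ℤ, DerSch.IsNPseudoCoherent (i ≫ CohB1.ProjSpaceOver.toBase r Y) n)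
    [DCoh.HasRpush (i ≫ CohB1.ProjSpaceOver.toBase r Y)] (E : DCoh.D X) (a : ℤ) [E.IsGE a]
    (hE : ∀ m : ℤ, DCoh.IsPseudoCoherentD m E) (m : ℤ) :
    DCoh.IsPseudoCoherentD m ((DCoh.Rpush (i ≫ CohB1.ProjSpaceOver.toBase r Y)).obj E) := by
  haveI : IsProper (CohB1.ProjSpaceOver.toBase r Y) := Groth.Agent.ProjProper.Basic.isProper_toBase r Y
  haveI : Smooth (CohB1.ProjSpaceOver.toBase r Y) := Groth.Agent.CohOps.PnSmooth.smooth_toBase r Y
  haveI : DCoh.HasRpush (CohB1.ProjSpaceOver.toBase r Y) := Groth.Agent.KFlat.RPush.hasRpush _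
  haveI : DCoh.HasRpush i := Groth.Agent.KFlat.RPush.hasRpush _
  have hO : ∀ n : ℤ, DCoh.IsPseudoCoherentD n
      (DCoh.inD _ ((Scheme.Modules.pushforward i).obj (Coh.structureModule X))) := fun n =>
    Groth.Agent.PCohD.pc_of_iso
      (DerivedCategory.Q.mapIso ((HomologicalComplex.singleMapHomologicalComplex
        (Scheme.Modules.pushforward i) (ComplexShape.up ℤ) 0).app (Coh.structureModule X)) ≪≫
        (DerivedCategory.singleFunctorIsoCompQ _ 0).symm.app _)
      ((Groth.Agent.S6201.result i _ n _).1 (hf n))
  exact Groth.Agent.PCohD.pc_of_iso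
    ((Groth.Agent.KFlat.RPush.rpushCompIso i (CohB1.ProjSpaceOver.toBase r Y)).app E)
    (Groth.Agent.KFlat.FlatProper.pc_Rpush _ _ (fun n =>
      (Groth.Agent.S1112.result i hO E (Groth.Agent.KFlat.FlatProper.isQCohD_of_pc hE) n).1 (hE n)) m)

end Groth.Agent.S6232
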