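import Groth.Statements.S6233
import Groth.Agent.PCohD.FibreTor
import Groth.Agent.PCohD.RelCompose
import Groth.Agent.DRing.LTensor
import Groth.Agent.S6212

set_option autoImplicit false
universe u
open CategoryTheory CategoryTheory.Limits AlgebraicGeometry
attribute [local instance] HasDerivedCategory.standard
open KSix

namespace Groth.Agent.S6233

/-- Flat morphisms locally of finite presentation are pseudo-coherent. -/
theorem npc_of_flat {Y S : Scheme.{u}} (g : Y ⟶ S) [Flat g] [LocallyOfFinitePresentation g] (n : ℤ) :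
    DerSch.IsNPseudoCoherent g n := by
  have h : FlatMod.IsFinLocFree (Coh.structureModule Y) :=
    fun x => ⟨⊤, 1, trivial, ⟨Scheme.Modules.restrictUnitIso (⊤ : Y.Opens).ι ≪≫
      (Limits.coproductUniqueIso fun _ : Fin 1 => Coh.structureModule (⊤ : Y.Opens).toScheme).symm⟩⟩
  exact (PCohD.rel_iff_pc g _).2 (PCohD.pc_of_iso
    ((DerivedCategory.singleFunctorIsoCompQ Y.Modules 0).app (Coh.structureModule Y))
    (PCohD.FreeLocus.pc_inD_of_isFinLocFree h n))

/-- `torAt_of_fibre` for a morphism with a given factorisation. -/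
theorem torAt_of_fibre' {A Q Y S : Scheme.{u}} (φ : A ⟶ Y) (i : A ⟶ Q) [IsClosedImmersion i] (p : Q ⟶ Y)
    [Flat p] [LocallyOfFinitePresentation p] (hφ : φ = i ≫ p) (g : Y ⟶ S) [Flat g] [LocallyOfFinitePresentation g]
    (F : CochainComplex A.Modules ℤ) (a b : ℤ) (z : A)
    (hpc : DCoh.IsPseudoCoherentD (a - 1) ((PCohD.pushD i).obj (DCoh.toD A F)))
    (hv : ∀ n, n < a ∨ b < n → IsZero (DCoh.HD (DCoh.toD A F) n))
    (htor : DerSch.HasTorAmplitudeAt (φ ≫ g) a b F z)
    [DRing.HasLBaseChange (Ideal.Quotient.mk (Ideal.map (g.stalkMap (φ.base z)).hom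
      (IsLocalRing.maximalIdeal (S.presheaf.stalk (g.base (φ.base z))))))]
    (hfib : DRing.HasTorAmplitudeIn ((Y.presheaf.stalk (φ.base z)) ⧸ Ideal.map (g.stalkMap (φ.base z)).hom
        (IsLocalRing.maximalIdeal (S.presheaf.stalk (g.base (φ.base z))))) a b
      ((DRing.LBaseChange (Ideal.Quotient.mk (Ideal.map (g.stalkMap (φ.base z)).hom
        (IsLocalRing.maximalIdeal (S.presheaf.stalk (g.base (φ.base z))))))).obj
        (DRing.toD ((DerSch.stalkCxOver φ z).obj F)))) :
    DerSch.HasTorAmplitudeAt φ a b F z := by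
  subst hφ
  have : DRing.HasLBaseChange (Ideal.Quotient.mk (Ideal.map (g.stalkMap (p (i z))).hom
      (IsLocalRing.maximalIdeal (S.presheaf.stalk (g (p (i z))))))) :=
    Groth.Agent.DRing.LTensor.hasLBaseChange _
  exact PCohD.FibreTor.torAt_of_fibre i p g F a b z hpc hv (by rwa [← Category.assoc]) hfib

/-- Criterion of relative perfection by fibres: let f : X ⟶ Y and g : Y ⟶ S with f ≫ g = h, f and h
locally of finite type, g flat and locally of finite presentation; let x be a point of X with y = f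
x and s = g y, F a cochain complex of O_X-modules whose class has bounded above cohomology, and a, b
integers. Write O_{Y_s,y} for the quotient of the local ring O_{Y,y} by the ideal generated by the
maximal ideal of O_{S,s} (the local ring at y of the fibre Y_s), and F_x for the complex of stalks
of F at x as a complex of O_{Y,y}-modules; the derived base change along O_{Y,y} → O_{Y_s,y} is
assumed to exist. Then the following are equivalent: (i) on some open neighbourhood of x, F has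
perfect amplitude in [a, b] relative to h (chart-form pseudo-coherence and stalkwise tor amplitude),
and F_x ⊗^L O_{Y_s,y} has tor amplitude in [a, b] over O_{Y_s,y}; (ii) on some open neighbourhood of
x, F has perfect amplitude in [a, b] relative to f. -/
theorem result {X Y S : Scheme.{u}} (f : X ⟶ Y) (g : Y ⟶ S)
    (h : X ⟶ S) (w : f ≫ g = h) [LocallyOfFiniteType f] [LocallyOfFiniteType h] [Flat g] [LocallyOfFinitePresentation g]
    (x : X) (F : CochainComplex X.Modules ℤ) (c : ℤ) [(DCoh.toD X F).IsLE c] (a b : ℤ)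
    [DRing.HasLBaseChange (Ideal.Quotient.mk (Ideal.map (g.stalkMap (f.base x)).hom
      (IsLocalRing.maximalIdeal (S.presheaf.stalk (g.base (f.base x))))))] :
    ((∃ U : X.Opens, x ∈ U ∧ DerSch.HasPerfAmplitudeRel (U.ι ≫ h) a b ((DCoh.restrictCx U).obj F)) ∧
        DRing.HasTorAmplitudeIn
          ((Y.presheaf.stalk (f.base x)) ⧸ Ideal.map (g.stalkMap (f.base x)).hom
            (IsLocalRing.maximalIdeal (S.presheaf.stalk (g.base (f.base x))))) a b
          ((DRing.LBaseChange (Ideal.Quotient.mk (Ideal.map (g.stalkMap (f.base x)).hom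
            (IsLocalRing.maximalIdeal (S.presheaf.stalk (g.base (f.base x))))))).obj
            (DRing.toD ((DerSch.stalkCxOver f x).obj F)))) ↔
      (∃ U : X.Opens, x ∈ U ∧ DerSch.HasPerfAmplitudeRel (U.ι ≫ f) a b ((DCoh.restrictCx U).obj F)) := by
  subst w
  constructor
  · rintro ⟨⟨U, hxU, hpc, htor⟩, hfib⟩
    have hv := PCohD.PerfAmpNhd.isZero_HD_of_torAmp _ _ htor
    have hpcf : ∀ m, DerSch.IsPseudoCoherentRel (U.ι ≫ f) m
        (DCoh.toD (U : Scheme.{u}) ((DCoh.restrictCx U).obj F)) := fun m =>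
      (PCohD.rel_iff_comp (npc_of_flat g)).2 (by rw [Category.assoc]; exact hpc m)
    refine (Groth.Agent.S6212.result f F a b x).2 ⟨⟨U, hxU, hpcf (a - 1), hv⟩, ?_⟩
    obtain ⟨V, hV, hxV, -⟩ := exists_isAffineOpen_mem_and_subset (x := f x) (U := ⊤) trivial
    obtain ⟨A, hA, hxA, hle⟩ := exists_isAffineOpen_mem_and_subset (x := x) (U := U ⊓ f ⁻¹ᵁ V) ⟨hxU, hxV⟩
    have hAU : A ≤ U := fun y hy => (hle hy).1
    have hAV : A ≤ f ⁻¹ᵁ V := fun y hy => (hle hy).2
    obtain ⟨n, φ, hφ⟩ := PCohD.exists_chart hA hV hAV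
    have := PCohD.isClosedImmersion_cIm hA hφ.1
    have hT := (PCohD.tc_iff φ).1 (((PCohD.PerfAmpNhd.rel_restrict_iff U).1
      (PCohD.rel_congr_iso (PerfTri.Perfect.restrQ U.ι F).symm (hpcf (a - 1))) ⟨A, hA⟩ ⟨V, hV⟩ hAU hAV).tc
        hA hAV φ hφ)
    let i := PCohD.cIm A φ
    let p := Spec.map (CommRingCat.ofHom (MvPolynomial.C : Γ(Y, V) →+* MvPolynomial (Fin n) Γ(Y, V))) ≫
      hV.fromSpec
    have hC : (MvPolynomial.C : Γ(Y, V) →+* MvPolynomial (Fin n) Γ(Y, V)).Flat :=
      (RingHom.flat_algebraMap_iff (R := Γ(Y, V)) (S := MvPolynomial (Fin n) Γ(Y, V))).2 inferInstance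
    have hC' : (MvPolynomial.C : Γ(Y, V) →+* MvPolynomial (Fin n) Γ(Y, V)).FinitePresentation :=
      (RingHom.finitePresentation_algebraMap (A := Γ(Y, V)) (B := MvPolynomial (Fin n) Γ(Y, V))).2 inferInstance
    have : Flat (Spec.map (CommRingCat.ofHom (MvPolynomial.C : Γ(Y, V) →+* MvPolynomial (Fin n) Γ(Y, V)))) :=
      (HasRingHomProperty.Spec_iff (P := @Flat)).mpr hC
    have : LocallyOfFinitePresentation
        (Spec.map (CommRingCat.ofHom (MvPolynomial.C : Γ(Y, V) →+* MvPolynomial (Fin n) Γ(Y, V)))) :=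
      (HasRingHomProperty.Spec_iff (P := @LocallyOfFinitePresentation)).mpr hC'
    have hw : A.ι ≫ f = i ≫ p := by
      change _ = PCohD.cIm A φ ≫ _ ≫ _
      rw [← Category.assoc, ← PCohD.cIm_comp, hφ.2, PCohD.cIm, CommRingCat.ofHom_hom, Category.assoc,
        IsAffineOpen.SpecMap_appLE_fromSpec f hV hA hAV, ← Category.assoc, ← hA.isoSpec_hom,
        hA.isoSpec_hom_fromSpec]
    let F' := (DCoh.restrictCx A).obj F
    have hvA : ∀ q, q < a ∨ b < q → IsZero (DCoh.HD (DCoh.toD (A : Scheme.{u}) F') q) := fun q hq =>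
      (PCohD.FTFP.isZero_restr (X.homOfLE hAU) (hv q hq)).of_iso
        ((DerivedCategory.homologyFunctor _ q).mapIso
          ((PerfTri.Perfect.restrQ A.ι F).symm ≪≫
            (PerfTri.Perfect.restrComp (X.homOfLE hAU) U.ι A.ι (Scheme.homOfLE_ι _ _) _).symm ≪≫
            (DCoh.restrictD _).mapIso (PerfTri.Perfect.restrQ U.ι F)))
    let z : (A : Scheme.{u}) := ⟨x, hxA⟩
    have htz : DerSch.HasTorAmplitudeAt ((A.ι ≫ f) ≫ g) a b F' z := by
      rw [Category.assoc]
      exact (PCohD.PerfAmpNhd.torAt_restr_iff A.ι (f ≫ g) z F a b).2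
        ((PCohD.PerfAmpNhd.torAt_restr_iff U.ι (f ≫ g) ⟨x, hxU⟩ F a b).1 (htor ⟨x, hxU⟩))
    have : DRing.HasLBaseChange (Ideal.Quotient.mk (Ideal.map (g.stalkMap ((A.ι ≫ f).base z)).hom
        (IsLocalRing.maximalIdeal (S.presheaf.stalk (g.base ((A.ι ≫ f).base z)))))) :=
      Groth.Agent.DRing.LTensor.hasLBaseChange _
    refine (PCohD.PerfAmpNhd.torAt_restr_iff A.ι f z F a b).1 (torAt_of_fibre' (A.ι ≫ f) i p hw g F' a b z
      (PCohD.pc_of_iso ((PCohD.pushD i).mapIso (PerfTri.Perfect.restrQ A.ι F)) hT) hvA htz ?_)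
    exact Groth.Agent.DRing.TorAmp.torAmp_of_iso ((DRing.LBaseChange _).mapIso (DerivedCategory.Q.mapIso
      (PCohD.PerfAmpNhd.stalkCxOverRestr A.ι f z F))).symm hfib
  · rintro ⟨U, hxU, hpc, htor⟩
    refine ⟨⟨U, hxU, fun m => ?_, fun z => ?_⟩, ?_⟩
    · rw [← Category.assoc]
      exact (PCohD.rel_iff_comp (npc_of_flat g)).1 (hpc m)
    · rw [← Category.assoc]
      have h1 := PCohD.TorComp.torAmp_comp (g.stalkMap ((U.ι ≫ f) z)).hom ((U.ι ≫ f).stalkMap z).hom _
        (Groth.Agent.DRing.TorAmp.torAmp_of_iso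
          (DerivedCategory.Q.mapIso (PCohD.TorComp.stalkCxOverRefl (U.ι ≫ f) z _)) (htor z))
        (PCohD.PushTor.torAmp_flat _ (Flat.stalkMap g _))
      rw [add_zero, add_zero] at h1
      exact Groth.Agent.DRing.TorAmp.torAmp_of_iso
        (DerivedCategory.Q.mapIso (PCohD.TorComp.stalkCxCompIso (U.ι ≫ f) g z _).symm) h1
    · exact Groth.Agent.DRing.Perfect.torAmp_baseChange _
        ((PCohD.PerfAmpNhd.torAt_restr_iff U.ι f ⟨x, hxU⟩ F a b).1 (htor ⟨x, hxU⟩))

end Groth.Agent.S6233
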