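import Groth.Statements.S6237
import Groth.Agent.FlatMor.PC.PerfectPush
import Groth.Agent.RegImm44.Affine

set_option autoImplicit false
universe u
open CategoryTheory CategoryTheory.Limits AlgebraicGeometry
attribute [local instance] HasDerivedCategory.standard
open KSix

namespace Groth.Agent.S6237

/-- Let i : Z ⟶ X be a closed immersion which is Koszul-regular (around every point the ideal of Z in an
affine open of X is generated by a finite sequence whose Koszul complex is acyclic in positive
degrees). Then i_*O_Z placed in degree 0 is a perfect object of D(O_X); in particular it is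
pseudo-coherent. -/
theorem result {Z X : Scheme.{u}} (i : Z ⟶ X)
    [IsClosedImmersion i] (hi : RegImm.IsRegularImmersion RegImm.Kind.koszul i) :
    DCoh.IsPerfect (DCoh.inD X ((Scheme.Modules.pushforward i).obj (Coh.structureModule Z))) := by
  have := Groth.Agent.WeakAssSch.isQuasicoherent_unit Z
  have : ((Scheme.Modules.pushforward i).obj (Coh.structureModule Z)).IsQuasicoherent :=
    Groth.Agent.QCoh.isQuasicoherent_pushforward i _
  refine Groth.Agent.FlatMor.PC.PerfectPush.isPerfect_of_sections _ fun x => ?_
  obtain ⟨V, hV, hx, -⟩ := exists_isAffineOpen_mem_and_subset (x := x) (U := ⊤) trivial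
  refine ⟨V, hV, hx, ?_⟩
  have : IsClosedImmersion (i ∣_ V) := IsZariskiLocalAtTarget.restrict ‹IsClosedImmersion i› V
  let := (i.app V).hom.toAlgebra
  have hs : Function.Surjective (algebraMap Γ(X, V) Γ(Z, i ⁻¹ᵁ V)) := i.app_surjective V hV
  have : Module.Finite Γ(X, V) Γ(Z, i ⁻¹ᵁ V) :=
    Module.Finite.of_surjective (Algebra.linearMap _ _) hs
  refine Groth.Agent.FlatMor.PC.PerfectPush.isPerfectModule_of_linearEquiv ?_
    (Groth.Agent.FlatMor.PC.perfectModule_of_perfectHom
      (Groth.Agent.FlatMor.PC.perfectHom_of_isKoszulRegularIdeal hs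
        (Groth.Agent.RegImm44.isKoszulRegularIdeal_ker i hi.2 hV)))
  exact { AddEquiv.refl Γ(Z, i ⁻¹ᵁ V) with map_smul' := fun r x => rfl }

end Groth.Agent.S6237
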