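import Groth.Statements.S6238
import Groth.Agent.PCohD.NPC
import Groth.Agent.FlatMor.PC.Koszul
import Groth.Agent.DRing.TorBalance
import Groth.Agent.KosCone.Basic
import Groth.Agent.DRing.PCTrunc
import Groth.Agent.PullStalk.Sky
import Groth.Agent.FlatMor.PC.TorDim
-- import your own Groth.Agent.* helpers here

set_option autoImplicit false
universe u
open CategoryTheory CategoryTheory.Limits AlgebraicGeometry
attribute [local instance] HasDerivedCategory.standard
open KSix
open CategoryTheory CategoryTheory.Limits AlgebraicGeometry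

namespace Groth.Agent.S6238

open scoped TensorProduct

open Groth.Agent.PullStalk.Sky in
/-- The stalk of the structure module. -/
theorem exists_unitStalkEquiv {X : Scheme.{u}} (x : X) :
    Nonempty ((DerSch.stalkFunctor X x).obj (Coh.structureModule X) ≃ₗ[X.presheaf.stalk x] X.presheaf.stalk x) := by
  let M := Coh.structureModule X
  let one : M.presheaf.stalk x := germM M ⊤ x trivial (show Γ(M, (⊤ : X.Opens)) from (1 : Γ(X, (⊤ : X.Opens))))
  let φ := LinearMap.toSpanSingleton (X.presheaf.stalk x) ((DerSch.stalkFunctor X x).obj M) one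
  have key : ∀ (W : X.Opens) (hW : x ∈ W) (a : Γ(X, W)),
      X.presheaf.germ W x hW a • one = germM M W x hW (show Γ(M, W) from a) := fun W hW a => by
    have h1 : one = germM M W x hW (show Γ(M, W) from (1 : Γ(X, W))) := by
      refine (M.presheaf.germ_res_apply (homOfLE (le_top : W ≤ ⊤)) x hW _).symm.trans ?_
      exact congrArg (M.presheaf.germ W x hW) (map_one (X.presheaf.map (homOfLE (le_top : W ≤ ⊤)).op).hom)
    rw [h1, ← germM_smul]
    exact congrArg (M.presheaf.germ W x hW) (mul_one a)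
  refine ⟨(LinearEquiv.ofBijective φ ⟨?_, fun t => ?_⟩).symm⟩
  · rw [injective_iff_map_eq_zero]
    intro r hr
    obtain ⟨W, hW, a, rfl⟩ := X.presheaf.exists_germ_eq (x := x) r
    have h0 := ((key W hW a).symm.trans hr).trans (map_zero (M.presheaf.germ W x hW).hom).symm
    obtain ⟨W', hW', i₁, i₂, e⟩ := M.presheaf.germ_eq x hW hW _ _ h0
    have e' : X.presheaf.map i₁.op a = 0 := e.trans (map_zero _)
    rw [← X.presheaf.germ_res_apply i₁ x hW' a, e', map_zero]
  · obtain ⟨W, hW, m, rfl⟩ := exists_germM_eq M x t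
    exact ⟨X.presheaf.germ W x hW (show Γ(X, W) from m), key W hW _⟩

/-- The terms of a Koszul complex are flat. -/
theorem flat_X {A : Type u} [CommRing A] : ∀ (l : List A) (i : ℤ), Module.Flat A ((Koszul.koszul A l).X i)
  | [], i => by
    by_cases h : i = 0
    · subst h
      exact Module.Flat.of_linearEquiv (HomologicalComplex.singleObjXSelf (ComplexShape.up ℤ) 0
        (ModuleCat.of A A)).toLinearEquiv
    · have := ModuleCat.subsingleton_of_isZero (KosCone.Basic.isZero_X ([] : List A) i (by simp; omega))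
      infer_instance
  | f :: l, i => by
    have := flat_X l (i + 1)
    have := flat_X l i
    have : Module.Flat A (ModuleCat.of A (((Koszul.koszul A l).X (i + 1) : Type u) × ((Koszul.koszul A l).X i : Type u))) :=
      inferInstanceAs (Module.Flat A (((Koszul.koszul A l).X (i + 1) : Type u) × ((Koszul.koszul A l).X i : Type u)))
    exact Module.Flat.of_linearEquiv ((HomologicalComplex.homotopyCofiber.XIsoBiprod
      (f • 𝟙 (Koszul.koszul A l)) i (i + 1) rfl) ≪≫ ModuleCat.biprodIsoProd _ _).toLinearEquiv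

/-- A quotient by a Koszul-regular sequence has tor dimension at most its length. -/
theorem hasTorDimLE_quotient {A : Type u} [CommRing A] (l : List A) (hl : LCI.IsKoszulRegularSeq A l) :
    DRing.HasTorDimLE A l.length (A ⧸ Ideal.ofList l) := by
  rw [DRing.TorBalance.hasTorDimLE_iff]
  let K : Dual.D A := DRing.toD (Koszul.koszul A l)
  have hv : ∀ i, i ≠ 0 → Subsingleton (Dual.HD A K i) := fun i hi =>
    (DRing.DBasic.subsingleton_HD_toD_iff _ i).2 (hl i hi)
  have : K.IsLE 0 := (DRing.DBasic.isLE_iff_subsingleton K 0).2 fun i hi => hv i (by omega)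
  have : K.IsGE 0 := (DerivedCategory.isGE_iff K 0).2 fun i hi =>
    (DRing.DBasic.subsingleton_HD_iff_isZero K i).1 (hv i (by omega))
  obtain ⟨M, ⟨e⟩⟩ := DerivedCategory.exists_iso_singleFunctor_obj_of_isGE_of_isLE K 0
  obtain ⟨π, hπ, hker⟩ := KosCone.Basic.exists_toH0 l
  let e1 : (Koszul.koszul A l).homology 0 ≃ₗ[A] M :=
    ((DRing.DBasic.hIso (Koszul.koszul A l) 0).symm ≪≫ (DRing.DBasic.HF 0).mapIso e ≪≫
      DRing.PC.inDIso (A := A) M).toLinearEquiv
  let e2 : (A ⧸ Ideal.ofList l) ≃ₗ[A] M :=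
    ((Submodule.quotEquivOfEq _ _ hker.symm).trans (LinearMap.quotKerEquivOfSurjective π hπ)).trans e1
  refine ⟨Koszul.koszul A l, fun i hi => KosCone.Basic.isZero_X l i (by omega), flat_X l,
    ⟨e ≪≫ (DerivedCategory.singleFunctor (ModuleCat.{u} A) 0).mapIso e2.symm.toModuleIso⟩⟩

/-- An immersion i : Z ⟶ X which is Koszul-regular of codimension d (around every point, over an affine
open of X on which i is a closed immersion, the ideal is generated by d sections whose Koszul
complex is acyclic in positive degrees) has perfect dimension at most d: O_Z placed in degree 0 is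
pseudo-coherent relative to i (chart form) with stalkwise tor amplitude in [-d, 0] over the local
rings of X. -/
theorem result {Z X : Scheme.{u}} (i : Z ⟶ X) (d : ℕ)
    (hi : RegImm.IsRegularImmersionOfCodim RegImm.Kind.koszul d i) :
    DerSch.HasPerfDimLE i d := by
  haveI := hi.1
  have hchart : ∀ z : Z, ∃ U : X.affineOpens, i z ∈ U.1 ∧ IsAffineOpen (i ⁻¹ᵁ U.1) ∧
      Function.Surjective (i.app U.1) ∧ ∃ rs : List Γ(X, U.1), rs.length = d ∧
        LCI.IsKoszulRegularSeq Γ(X, U.1) rs ∧ RingHom.ker (i.app U.1).hom = Ideal.ofList rs := by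
    intro z
    obtain ⟨U, hz, hc, rs, hd, hs, hk⟩ := hi.2 z
    haveI := hc
    haveI : IsAffine (U.1 : Scheme.{u}) := U.2
    haveI : IsAffine ((i ⁻¹ᵁ U.1 : Z.Opens) : Scheme.{u}) := isAffine_of_isAffineHom (i ∣_ U.1)
    refine ⟨U, hz, ‹_›, ?_, rs, hd, hs, hk⟩
    have h1 := (i ∣_ U.1).app_surjective ⊤ (isAffineOpen_top _)
    rw [show (i ∣_ U.1).app ⊤ = (i ∣_ U.1).appTop from rfl, morphismRestrict_appTop] at h1
    have h2 : Function.Surjective (i.app (U.1.ι ''ᵁ ⊤)) := fun y => by
      obtain ⟨a, ha⟩ := h1 (Z.presheaf.map (eqToHom (image_morphismRestrict_preimage i U.1 ⊤)).op y)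
      exact ⟨a, (ConcreteCategory.bijective_of_isIso _).1 ha⟩
    rwa [U.1.ι_image_top] at h2
  refine ⟨fun n => PCohD.npc_of_cover i fun z => ?_, fun z => ?_⟩
  · obtain ⟨U, hz, hV, hs, rs, -, hr, hk⟩ := hchart z
    refine ⟨⟨i ⁻¹ᵁ U.1, hV⟩, U, le_rfl, hz, ?_⟩
    rw [show i.appLE U.1 (i ⁻¹ᵁ U.1) le_rfl = i.app U.1 from (Scheme.Hom.app_eq_appLE i).symm]
    let _ := (i.app U.1).hom.toAlgebra
    have hpm : DRing.IsPerfectModule Γ(X, U.1) Γ(Z, i ⁻¹ᵁ U.1) :=
      DRing.Perfect.perfect_of_iso ((DerivedCategory.singleFunctor (ModuleCat.{u} Γ(X, U.1)) 0).mapIso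
        ((Submodule.quotEquivOfEq _ _ hk.symm).trans
          (LinearMap.quotKerEquivOfSurjective (Algebra.linearMap Γ(X, U.1) Γ(Z, i ⁻¹ᵁ U.1)) hs)).toModuleIso)
        (FlatMor.PC.perfectModule_quotient rs hr)
    obtain ⟨k, φ, hφ, hpc⟩ := (FlatMor.PC.perfectHom_of_perfectModule hs hpm).1
    letI := φ.toRingHom.toAlgebra
    exact ((DRing.RelPC.isRel_iff φ hφ _ n).trans
      (DRing.RelPC.pcModule_restrict_iff _ (ModuleCat.of Γ(Z, i ⁻¹ᵁ U.1) Γ(Z, i ⁻¹ᵁ U.1)) n)).2
      (DRing.PC.pcModule'_iff.1 hpc n)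
  · obtain ⟨U, hz, hV, hs, rs, hd, hr, hk⟩ := hchart z
    let A := Γ(X, U.1)
    let B := Γ(Z, i ⁻¹ᵁ U.1)
    let Ox := X.presheaf.stalk (i.base z)
    let Oz := Z.presheaf.stalk z
    letI : Algebra A B := (i.app U.1).hom.toAlgebra
    letI : Algebra A Ox := X.presheaf.algebra_section_stalk ⟨i.base z, hz⟩
    letI : Algebra B Oz := Z.presheaf.algebra_section_stalk ⟨z, hz⟩
    letI : Algebra Ox Oz := (i.stalkMap z).hom.toAlgebra
    letI : Algebra A Oz := ((algebraMap B Oz).comp (algebraMap A B)).toAlgebra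
    haveI : IsScalarTower A B Oz := IsScalarTower.of_algebraMap_eq fun _ => rfl
    haveI : IsScalarTower A Ox Oz := IsScalarTower.of_algebraMap_eq fun a =>
      (i.germ_stalkMap_apply U.1 z hz a).symm
    let p := (U.2.primeIdealOf ⟨i.base z, hz⟩).asIdeal
    let q := (hV.primeIdealOf ⟨z, hz⟩).asIdeal
    haveI : IsLocalization.AtPrime Ox p := U.2.isLocalization_stalk ⟨i.base z, hz⟩
    haveI : IsLocalization.AtPrime Oz q := hV.isLocalization_stalk ⟨z, hz⟩
    haveI : IsLocalHom (algebraMap Ox Oz) := inferInstanceAs (IsLocalHom (i.stalkMap z).hom)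
    have hpq : ∀ a : A, a ∈ p ↔ algebraMap A B a ∈ q := fun a => by
      rw [← IsLocalization.AtPrime.to_map_mem_maximal_iff Ox p a,
        ← IsLocalization.AtPrime.to_map_mem_maximal_iff Oz q (algebraMap A B a),
        IsLocalRing.mem_maximalIdeal, IsLocalRing.mem_maximalIdeal, mem_nonunits_iff, mem_nonunits_iff,
        ← IsScalarTower.algebraMap_apply A B Oz, IsScalarTower.algebraMap_apply A Ox Oz, isUnit_map_iff (algebraMap Ox Oz)]
    haveI : IsLocalization (Algebra.algebraMapSubmonoid B p.primeCompl) Oz := by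
      have hM : Algebra.algebraMapSubmonoid B p.primeCompl = q.primeCompl := by
        ext b
        constructor
        · rintro ⟨a, ha, rfl⟩
          exact fun h => ha ((hpq a).2 h)
        · intro hb
          obtain ⟨a, rfl⟩ := hs b
          exact ⟨a, fun h => hb ((hpq a).1 h), rfl⟩
      rw [hM]
      infer_instance
    haveI : Algebra.IsPushout A Ox B Oz := (Algebra.isPushout_of_isLocalization p.primeCompl Ox B Oz).symm
    haveI : Module.Flat A Ox := IsLocalization.flat Ox p.primeCompl
    have h1 : DRing.HasTorDimLE Ox d (Ox ⊗[A] B) := FlatMor.PC.hasTorDimLE_tensor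
      (FlatMor.PC.hasTorDimLE_congr
        ((Submodule.quotEquivOfEq _ _ hk.symm).trans
          (LinearMap.quotKerEquivOfSurjective (Algebra.linearMap A B) hs))
        (hd ▸ hasTorDimLE_quotient rs hr))
    have h2 : DRing.HasTorDimLE Ox d Oz :=
      FlatMor.PC.hasTorDimLE_congr (Algebra.IsPushout.equiv A Ox B Oz).toLinearEquiv h1
    let N := (DerSch.stalkOver i z).obj (Coh.structureModule Z)
    let e : DRing.toD ((DerSch.stalkCxOver i z).obj (DerSch.unitCx Z)) ≅ Dual.inD _ N :=
      DerivedCategory.Q.mapIso ((HomologicalComplex.singleMapHomologicalComplex (DerSch.stalkOver i z)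
        (ComplexShape.up ℤ) 0).app (Coh.structureModule Z)) ≪≫
        ((DerivedCategory.singleFunctorIsoCompQ (ModuleCat.{u} _) 0).app N).symm
    obtain ⟨ε⟩ := exists_unitStalkEquiv z
    exact DRing.TorAmp.torAmp_of_iso e.symm ((DRing.TorBalance.hasTorDimLE_iff d N).1
      (FlatMor.PC.hasTorDimLE_congr (M := Oz) (N := N)
        { toFun := fun t => ε.symm t
          invFun := fun t => ε t
          left_inv := fun t => ε.apply_symm_apply t
          right_inv := fun t => ε.symm_apply_apply t
          map_add' := fun a b => map_add ε.symm a b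
          map_smul' := fun r t => ε.symm.map_smul ((i.stalkMap z).hom r) t } h2))

end Groth.Agent.S6238
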