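import Groth.Statements.S6242
import Groth.Agent.PCohD.TorBC
-- import your own Groth.Agent.* helpers here

set_option autoImplicit false
universe u
open CategoryTheory CategoryTheory.Limits AlgebraicGeometry
attribute [local instance] HasDerivedCategory.standard
open KSix

namespace Groth.Agent.S6242

/-- Flat second factor: let S be a scheme and, for i = 1, 2, f_i : X_i ⟶ Y_i a morphism of S-schemes
(structure morphisms q_i : Y_i ⟶ S, and X_i over S through f_i ≫ q_i), with X₂ and Y₂ flat over S.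
Let X = X₁ ×_S X₂ and Y = Y₁ ×_S Y₂, given by pullback squares, and f : X ⟶ Y the morphism
compatible with the two projections. If f₁ has tor dimension at most n₁ and f₂ has tor dimension at
most n₂ (stalkwise: the local ring of the source at each point is isomorphic, in the derived
category of the local ring of the target, to a complex of flat modules placed in [-n_i, 0]), then f
has tor dimension at most n₁ + n₂; in particular f has finite tor dimension. (The published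
statement assumes only that X₁, X₂ and Y₁, Y₂ are tor-independent over S; this row takes X₂ and Y₂
flat over S, which implies both conditions, and records the bound n₁ + n₂ that the published proof
gives.) -/
theorem result {S X₁ Y₁ X₂ Y₂ X Y : Scheme.{u}} (f₁ : X₁ ⟶ Y₁) (q₁ : Y₁ ⟶ S)
    (f₂ : X₂ ⟶ Y₂) (q₂ : Y₂ ⟶ S) [Flat q₂] [Flat (f₂ ≫ q₂)]
    (pX₁ : X ⟶ X₁) (pX₂ : X ⟶ X₂) (hX : IsPullback pX₁ pX₂ (f₁ ≫ q₁) (f₂ ≫ q₂))
    (pY₁ : Y ⟶ Y₁) (pY₂ : Y ⟶ Y₂) (hY : IsPullback pY₁ pY₂ q₁ q₂)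
    (f : X ⟶ Y) (hf₁ : f ≫ pY₁ = pX₁ ≫ f₁) (hf₂ : f ≫ pY₂ = pX₂ ≫ f₂)
    (n₁ n₂ : ℕ) (h₁ : DerSch.HasTorDimLE f₁ n₁) (h₂ : DerSch.HasTorDimLE f₂ n₂) :
    DerSch.HasTorDimLE f (n₁ + n₂) := by
  let W := pullback q₁ (f₂ ≫ q₂)
  let w₁ : W ⟶ Y₁ := pullback.fst q₁ (f₂ ≫ q₂)
  let w₂ : W ⟶ X₂ := pullback.snd q₁ (f₂ ≫ q₂)
  have hW : IsPullback w₁ w₂ q₁ (f₂ ≫ q₂) := IsPullback.of_hasPullback _ _
  let a : X ⟶ W := hW.lift (pX₁ ≫ f₁) pX₂ (by rw [Category.assoc, hX.w])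
  have ha₁ : a ≫ w₁ = pX₁ ≫ f₁ := hW.lift_fst _ _ _
  have ha₂ : a ≫ w₂ = pX₂ := hW.lift_snd _ _ _
  let b : W ⟶ Y := hY.lift w₁ (w₂ ≫ f₂) (by rw [Category.assoc, hW.w])
  have hb₁ : b ≫ pY₁ = w₁ := hY.lift_fst _ _ _
  have hb₂ : b ≫ pY₂ = w₂ ≫ f₂ := hY.lift_snd _ _ _
  have hA : IsPullback pX₁ a f₁ w₁ :=
    (IsPullback.of_right (h₁₂ := w₂) (h₂₂ := q₁) (v₁₃ := f₂ ≫ q₂)
      (by rw [ha₂]; exact hX.flip) ha₁ hW.flip).flip
  have hB : IsPullback w₂ b f₂ pY₂ :=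
    (IsPullback.of_right (h₁₂ := pY₁) (h₂₂ := q₂) (v₁₃ := q₁)
      (by rw [hb₁]; exact hW) hb₂ hY).flip
  have : Flat w₁ := MorphismProperty.of_isPullback (P := @Flat) hW.flip ‹Flat (f₂ ≫ q₂)›
  have hbT := Groth.Agent.PCohD.TorBC.hasTorAmplitude_baseChange_unit hB hY.flip h₂
  have haT : DerSch.HasTorAmplitude a (-(n₁ : ℤ)) 0 (DerSch.unitCx X) := by
    let eU := (HomologicalComplex.singleMapHomologicalComplex (Scheme.Modules.pullback pX₁)
        (ComplexShape.up ℤ) 0).app (Coh.structureModule X₁) ≪≫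
      (HomologicalComplex.single _ (ComplexShape.up ℤ) 0).mapIso (Groth.Agent.QCoh.pullbackUnitIso pX₁)
    exact fun x => Groth.Agent.DRing.TorAmp.torAmp_of_iso
      (DerivedCategory.Q.mapIso ((DerSch.stalkCxOver a x).mapIso eU))
      (Groth.Agent.PCohD.TorComp.hasTorAmplitude_baseChange hA (DerSch.unitCx X₁) h₁ x)
  have hab : a ≫ b = f := hY.hom_ext (by rw [Category.assoc, hb₁, ha₁, hf₁])
    (by rw [Category.assoc, hb₂, reassoc_of% ha₂, hf₂])
  subst hab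
  have h := Groth.Agent.PCohD.TorComp.hasTorAmplitude_comp a b hbT _ haT
  rwa [add_zero, ← neg_add, ← Nat.cast_add] at h

end Groth.Agent.S6242
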