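import Groth.Statements.S6244
import Groth.Agent.TensorExact.Converse

set_option autoImplicit false
universe u
open CategoryTheory CategoryTheory.Limits AlgebraicGeometry
attribute [local instance] HasDerivedCategory.standard
open KSix

namespace Groth.Agent.S6244

/-- Let X be a quasi-separated scheme, p an integer, and E ∈ D⁻(O_X), given by a cochain complex F, a
(p-1)-pseudo-coherent object with quasi-coherent and locally bounded cohomology (every point has an
open neighbourhood over which the cohomology sheaves of E vanish below some degree). If, the derived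
tensor product with F being assumed to exist, the functor M ↦ H^p(M ⊗^L F) is exact on the full
subcategory of quasi-coherent O_X-modules (preserves finite limits and finite colimits there), then,
the derived pullbacks to the points Spec κ(x) ⟶ X being assumed to exist, the function x ↦
dim_{κ(x)} H^p(E ⊗^L κ(x)) is locally constant and the cohomology sheaf H^p(E) is finite locally
free. (The published statement writes the functor as M ↦ H^p(E ⊗^L M); this row takes the derived
tensor product with F as the fixed right-hand factor, and quasi-coherence of the test modules in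
Mathlib's local-presentation sense.) -/
theorem result {X : Scheme.{u}} [QuasiSeparatedSpace X]
    (F : CochainComplex X.Modules ℤ) (e : ℤ) [(DCoh.toD X F).IsLE e] (p : ℤ)
    (hq : DCoh.IsQCohD (DCoh.toD X F))
    (hb : ∀ x : X, ∃ (U : X.Opens) (a : ℤ), x ∈ U ∧ ∀ i : ℤ, i < a →
      IsZero ((Scheme.Modules.restrictFunctor U.ι).obj (DCoh.HD (DCoh.toD X F) i)))
    (hE : DCoh.IsPseudoCoherentD (p - 1) (DCoh.toD X F)) [DCoh.HasLTensorCx F]
    [PreservesFiniteLimits ((QCohCat.isQCoh X).ι ⋙ DerivedCategory.singleFunctor X.Modules 0 ⋙ DCoh.LTensorCx F ⋙ DerivedCategory.homologyFunctor X.Modules p)]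
    [PreservesFiniteColimits ((QCohCat.isQCoh X).ι ⋙ DerivedCategory.singleFunctor X.Modules 0 ⋙ DCoh.LTensorCx F ⋙ DerivedCategory.homologyFunctor X.Modules p)]
    [∀ x : X, DCoh.HasLpull (X.fromSpecResidueField x)] :
    IsLocallyConstant (fun x : X => PerfD.betti (DCoh.toD X F) x p) ∧
      FlatMod.IsFinLocFree (DCoh.HD (DCoh.toD X F) p) := by
  obtain ⟨e⟩ := TensorExact.Sheaf.nonempty_iso F p
  let F' := (KFlat.Pull.resY X).obj F
  have := KFlat.Pull.quasiIso_resYπ (Y := X) F
  let eF : DCoh.toD X F' ≅ DCoh.toD X F := asIso (DerivedCategory.Q.map ((KFlat.Pull.resYπ X).app F))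
  exact (TensorExact.Converse.of_exact F' (KFlat.Pull.isKFlat_resY F) (DCoh.toD X F) eF p hE _
    (Functor.isoWhiskerLeft (QCohCat.isQCoh X).ι e)).symm

end Groth.Agent.S6244
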