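import Groth.Statements.S6253
import Groth.Agent.TensorExact.Push
import Groth.Agent.TensorExact.Sheaf
import Groth.Agent.RpushAmp.Core
import Groth.Agent.DEq.KernelDiag
import Groth.Agent.KFlat.FlatRes

set_option autoImplicit false
universe u
open CategoryTheory CategoryTheory.Limits AlgebraicGeometry
attribute [local instance] HasDerivedCategory.standard
open KSix

namespace Groth.Agent.S6253

open MonoidalCategory Groth.Agent

section Projection

open Groth.Agent.KFlat Groth.Agent.KFlat.Pull Groth.Agent.KFlat.RPush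

/-- The projection formula on quasi-coherent modules, naturally. -/
theorem nonempty_projection_iso {X Y : Scheme.{u}} (f : X ⟶ Y) [QuasiCompact f] [QuasiSeparated f] [DCoh.HasLpull f] [DCoh.HasRpush f] (F : CochainComplex X.Modules ℤ) [DCoh.HasLTensorCx F]
    (hF : DCoh.IsQCohD (DCoh.toD X F)) :
    ∃ (G : CochainComplex Y.Modules ℤ) (_ : DCoh.toD Y G ≅ (DCoh.Rpush f).obj (DCoh.toD X F))
      (_ : DCoh.HasLTensorCx G), Nonempty
      ((QCohCat.isQCoh Y).ι ⋙ DerivedCategory.singleFunctor Y.Modules 0 ⋙ DCoh.Lpull f ⋙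
          DCoh.LTensorCx F ⋙ DCoh.Rpush f ≅
        (QCohCat.isQCoh Y).ι ⋙ DerivedCategory.singleFunctor Y.Modules 0 ⋙ DCoh.LTensorCx G) := by
  let J := (injRes X).obj F
  let eJ : DerivedCategory.Q.obj J ≅ DerivedCategory.Q.obj F := injQIso.app F
  haveI := LTensor.hasLTensorCx (ProjPerfect.fJ f J)
  haveI := LTensor.hasLTensorCx J
  let rp : DerivedCategory.Q.obj (ProjPerfect.fJ f J) ≅ (DCoh.Rpush f).obj (DerivedCategory.Q.obj J) :=
    @asIso _ _ _ _ ((toRpush f).app J) (isIso_toRpush f J)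
  refine ⟨ProjPerfect.fJ f J, rp ≪≫ (DCoh.Rpush f).mapIso eJ, inferInstance, ?_⟩
  obtain ⟨eL⟩ := DEq.nonempty_ltensorCongr eJ.symm
  let I := (QCohCat.isQCoh Y).ι ⋙ DerivedCategory.singleFunctor Y.Modules 0
  have hI : ∀ M, IsIso ((ProjPerfect.ν f J).app (I.obj M)) := fun M => by
    let S := (CochainComplex.singleFunctor Y.Modules 0).obj M.obj
    let eP : DerivedCategory.Q.obj ((resY Y).obj S) ≅ I.obj M := resQIso.app S
    exact (NatTrans.isIso_app_iff_of_iso (ProjPerfect.ν f J) eP).1
      (DEq.ProjQCoh.isIso_ν f J (QCohModel.isQCohD_of_iso eJ.symm hF) _ (isKFlat_resY S)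
        (QCohModel.isQCohD_of_iso eP.symm (TensorExact.Push.isQCohD_inD M.obj M.property)))
  haveI : IsIso (Functor.whiskerLeft I (ProjPerfect.ν f J)) :=
    have : ∀ M, IsIso ((Functor.whiskerLeft I (ProjPerfect.ν f J)).app M) := hI
    NatIso.isIso_of_isIso_app _
  exact ⟨Functor.isoWhiskerLeft I (Functor.isoWhiskerLeft (DCoh.Lpull f) (Functor.isoWhiskerRight eL _) ≪≫
      (Functor.associator _ _ _).symm) ≪≫ (asIso (Functor.whiskerLeft I (ProjPerfect.ν f J))).symm⟩

end Projection

/-- Tensoring termwise flat complexes with modules is exact. -/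
theorem shortExact_termCx {X : Scheme.{u}} (P : CochainComplex X.Modules ℤ)
    (hP : ∀ i, FlatMod.IsFlat (P.X i)) {S : ShortComplex X.Modules} (hS : S.ShortExact) :
    (S.map (TensorExact.Sheaf.termCx P)).ShortExact := by
  refine HomologicalComplex.shortExact_of_degreewise_shortExact _ fun n => ?_
  refine TensorExact.Sheaf.shortExact_of_stalk _ fun z => ?_
  let e : (TensorExact.Sheaf.termCx P ⋙ HomologicalComplex.eval X.Modules (ComplexShape.up ℤ) n) ⋙
        DerSch.stalkFunctor X z ≅
      DerSch.stalkFunctor X z ⋙ tensorLeft ((DerSch.stalkFunctor X z).obj (P.X n)) :=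
    NatIso.ofComponents (fun M => KFlat.StalkCx.stIso z (P.X n) M)
      fun g => KFlat.StalkCx.stIso_right z (P.X n) g
  have h0 := hS.map_of_exact (DerSch.stalkFunctor X z)
  let C := (DerSch.stalkFunctor X z).obj (P.X n)
  have : Module.Flat (X.presheaf.stalk z) C := hP n z
  have h1 : ((S.map (DerSch.stalkFunctor X z)).map (tensorLeft C)).ShortExact := by
    refine { exact := ?_, mono_f := ?_, epi_g := ?_ }
    · exact (ShortComplex.ShortExact.moduleCat_exact_iff_function_exact _).2
        (lTensor_exact C ((ShortComplex.ShortExact.moduleCat_exact_iff_function_exact _).1 h0.exact)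
          h0.moduleCat_surjective_g)
    · exact (ModuleCat.mono_iff_injective _).2
        (Module.Flat.lTensor_preserves_injective_linearMap (M := C) _ h0.moduleCat_injective_f)
    · exact (ModuleCat.epi_iff_surjective _).2 (LinearMap.lTensor_surjective C h0.moduleCat_surjective_g)
  exact ShortComplex.shortExact_of_iso (S.mapNatIso e.symm) h1

/-- `M ↦ H^p(M ⊗^L G)` through a K-flat model. -/
theorem nonempty_model_iso {X : Scheme.{u}} (G P : CochainComplex X.Modules ℤ) (hP : DCoh.IsKFlat P)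
    (e : DCoh.toD X P ≅ DCoh.toD X G) [DCoh.HasLTensorCx G] (p : ℤ) :
    Nonempty (DerivedCategory.singleFunctor X.Modules 0 ⋙ DCoh.LTensorCx G ⋙
      DerivedCategory.homologyFunctor X.Modules p ≅
        TensorExact.Sheaf.termCx P ⋙ HomologicalComplex.homologyFunctor X.Modules (ComplexShape.up ℤ) p) := by
  haveI := KFlat.LTensor.hasLTensorCx P
  obtain ⟨eL⟩ := DEq.nonempty_ltensorCongr e.symm
  let τ : DerivedCategory.Q ⋙ DCoh.LTensorCx P ⟶ DCoh.tensorCxQ P := KFlat.LTensor.toTensor P
  haveI : ∀ K, IsIso (τ.app K) := KFlat.LTensor.isIso_toTensor_of_kflat P hP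
  haveI : IsIso τ := NatIso.isIso_of_isIso_app _
  let H := HomologicalComplex.homologyFunctor X.Modules (ComplexShape.up ℤ) p
  exact ⟨Functor.isoWhiskerLeft _ (Functor.isoWhiskerRight eL _) ≪≫
      Functor.isoWhiskerLeft (CochainComplex.singleFunctor X.Modules 0) (Functor.isoWhiskerRight (asIso τ) _ ≪≫
        Functor.associator _ _ _ ≪≫
        Functor.isoWhiskerLeft _ (DerivedCategory.homologyFunctorFactors X.Modules p) ≪≫
        Functor.isoWhiskerRight ((KFlat.tensFlipIso X.sheaf).app P) H) ≪≫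
      (Functor.associator _ _ _).symm ≪≫ Functor.isoWhiskerRight (TensorExact.Sheaf.singleTensorIso P) H⟩

/-- For an exact functor to complexes, right exactness of `H^p` is left exactness of `H^{p+1}`. -/
theorem rightExact_iff_leftExact_succ {A B : Type*} [Category A] [Category B] [Abelian A] [Abelian B]
    (T : A ⥤ CochainComplex B ℤ) [T.Additive] (hT : ∀ S : ShortComplex A, S.ShortExact → (S.map T).ShortExact)
    (p : ℤ) :
    PreservesFiniteColimits (T ⋙ HomologicalComplex.homologyFunctor B (ComplexShape.up ℤ) p) ↔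
      PreservesFiniteLimits (T ⋙ HomologicalComplex.homologyFunctor B (ComplexShape.up ℤ) (p + 1)) := by
  let F := T ⋙ HomologicalComplex.homologyFunctor B (ComplexShape.up ℤ) p
  let G := T ⋙ HomologicalComplex.homologyFunctor B (ComplexShape.up ℤ) (p + 1)
  have hcol := ((Functor.preservesFiniteColimits_tfae F).out 0 3)
  have hlim := ((Functor.preservesFiniteLimits_tfae G).out 0 3)
  have key : ∀ (S : ShortComplex A), S.ShortExact → (Epi (F.map S.g) ↔ Mono (G.map S.f)) := fun S hS => by
    have h := hT S hS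
    have h3 := h.homology_exact₃ p (p + 1) rfl
    have h1 := h.homology_exact₁ p (p + 1) rfl
    constructor
    · intro he
      exact h1.mono_g (by
        haveI : Epi (HomologicalComplex.homologyMap (S.map T).g p) := he
        exact (cancel_epi (HomologicalComplex.homologyMap (S.map T).g p)).1 ((h.comp_δ p (p + 1) rfl).trans comp_zero.symm))
    · intro hm
      exact h3.epi_f (by
        haveI : Mono (HomologicalComplex.homologyMap (S.map T).f (p + 1)) := hm
        exact (cancel_mono (HomologicalComplex.homologyMap (S.map T).f (p + 1))).1 ((h.δ_comp p (p + 1) rfl).trans zero_comp.symm))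
  have hF : ∀ S : ShortComplex A, S.ShortExact → (S.map F).Exact := fun S hS => (hT S hS).homology_exact₂ p
  have hG : ∀ S : ShortComplex A, S.ShortExact → (S.map G).Exact := fun S hS => (hT S hS).homology_exact₂ (p + 1)
  constructor
  · intro hF'
    exact hlim.1 fun S hS => ⟨hG S hS, (key S hS).1 ((hcol.2 hF' S hS).2)⟩
  · intro hG'
    exact hcol.1 fun S hS => ⟨hF S hS, (key S hS).2 ((hlim.2 hG' S hS).2)⟩

/-- `rightExact_iff_leftExact_succ` after an exact functor. -/
theorem rightExact_iff_leftExact_succ_comp {A A' B : Type*} [Category A] [Category A'] [Category B] [Abelian A]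
    [Abelian A'] [Abelian B] (I : A ⥤ A') [I.Additive] [PreservesFiniteLimits I] [PreservesFiniteColimits I]
    (T : A' ⥤ CochainComplex B ℤ) [T.Additive] (hT : ∀ S : ShortComplex A', S.ShortExact → (S.map T).ShortExact)
    (p : ℤ) {F G : A ⥤ B}
    (e₀ : F ≅ I ⋙ (T ⋙ HomologicalComplex.homologyFunctor B (ComplexShape.up ℤ) p))
    (e₁ : G ≅ I ⋙ (T ⋙ HomologicalComplex.homologyFunctor B (ComplexShape.up ℤ) (p + 1))) :
    PreservesFiniteColimits F ↔ PreservesFiniteLimits G := by
  have h := rightExact_iff_leftExact_succ (I ⋙ T) (fun S hS => hT (S.map I) (hS.map_of_exact I)) p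
  let a₀ : F ≅ (I ⋙ T) ⋙ HomologicalComplex.homologyFunctor B (ComplexShape.up ℤ) p :=
    e₀ ≪≫ (Functor.associator _ _ _).symm
  let a₁ : G ≅ (I ⋙ T) ⋙ HomologicalComplex.homologyFunctor B (ComplexShape.up ℤ) (p + 1) :=
    e₁ ≪≫ (Functor.associator _ _ _).symm
  constructor
  · intro h0
    have := h.1 (preservesFiniteColimits_of_natIso a₀)
    exact preservesFiniteLimits_of_natIso a₁.symm
  · intro h1
    have := h.2 (preservesFiniteLimits_of_natIso a₁)
    exact preservesFiniteColimits_of_natIso a₀.symm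

/-- Reassociation of a chain of functors. -/
theorem nonempty_chain_iso {A₀ A₁ A₂ A₃ A₄ A₅ A₆ : Type*} [Category A₀] [Category A₁] [Category A₂] [Category A₃]
    [Category A₄] [Category A₅] [Category A₆] (a : A₀ ⥤ A₁) (b : A₁ ⥤ A₂) (c : A₂ ⥤ A₃) (d : A₃ ⥤ A₄)
    (r : A₄ ⥤ A₅) (g : A₂ ⥤ A₅) (H : A₅ ⥤ A₆) (K : A₁ ⥤ A₆) (eT : a ⋙ b ⋙ c ⋙ d ⋙ r ≅ a ⋙ b ⋙ g)
    (e : b ⋙ g ⋙ H ≅ K) : Nonempty (a ⋙ b ⋙ c ⋙ d ⋙ r ⋙ H ≅ a ⋙ K) :=
  ⟨Functor.isoWhiskerRight eT H ≪≫ Functor.isoWhiskerLeft a e⟩

set_option maxHeartbeats 800000 in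
/-- Let f : X ⟶ Y be a quasi-compact quasi-separated morphism of quasi-compact quasi-separated schemes,
E ∈ D^b(O_X), given by a cochain complex F, with quasi-coherent cohomology and of finite tor
amplitude relative to f (stalkwise), and p an integer. The derived functors Lf^*, − ⊗^L F and Rf_*
being assumed to exist: the functor M ↦ R^p f_*(Lf^* M ⊗^L F) from quasi-coherent O_Y-modules to
O_Y-modules is right exact if and only if the functor M ↦ R^{p+1} f_*(Lf^* M ⊗^L F) on
quasi-coherent O_Y-modules is left exact. (The published statement writes E ⊗_Y^L M = E ⊗^L Lf^* M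
and regards the functors as valued in quasi-coherent modules; this row takes the derived tensor
product with F as the fixed right-hand factor and values in all O_Y-modules.) -/
theorem result {X Y : Scheme.{u}} [CompactSpace X]
    [QuasiSeparatedSpace X] [CompactSpace Y] [QuasiSeparatedSpace Y] (f : X ⟶ Y) [QuasiCompact f]
    [QuasiSeparated f] (F : CochainComplex X.Modules ℤ) (a b : ℤ) [(DCoh.toD X F).IsGE a]
    [(DCoh.toD X F).IsLE b] (hq : DCoh.IsQCohD (DCoh.toD X F)) (hF : DerSch.HasFiniteTorAmplitude f F)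
    (p : ℤ) [DCoh.HasLpull f] [DCoh.HasLTensorCx F] [DCoh.HasRpush f] :
    PreservesFiniteColimits ((QCohCat.isQCoh Y).ι ⋙ DerivedCategory.singleFunctor Y.Modules 0 ⋙ DCoh.Lpull f ⋙ DCoh.LTensorCx F ⋙ DCoh.Rpush f ⋙ DerivedCategory.homologyFunctor Y.Modules p) ↔
      PreservesFiniteLimits ((QCohCat.isQCoh Y).ι ⋙ DerivedCategory.singleFunctor Y.Modules 0 ⋙ DCoh.Lpull f ⋙ DCoh.LTensorCx F ⋙ DCoh.Rpush f ⋙ DerivedCategory.homologyFunctor Y.Modules (p + 1)) := by
  obtain ⟨G, eG, hG, ⟨eT⟩⟩ := nonempty_projection_iso f F hq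
  haveI := hG
  obtain ⟨N, hN⟩ := RpushAmp.exists_bound f
  have hle := hN (DCoh.toD X F) a b hq inferInstance inferInstance
  obtain ⟨P, g, hflat, hz, hg⟩ := KFlat.FlatRes.exists_flatRes G (b + N) fun i hi =>
    ((DerivedCategory.isZero_of_isLE _ (b + (N : ℤ)) i hi).of_iso
      ((DerivedCategory.homologyFunctor _ i).mapIso eG)).of_iso
      ((DerivedCategory.homologyFunctorFactors Y.Modules i).app G).symm
  have hP : DCoh.IsKFlat P := KFlat.isKFlat_of_flat_boundedAbove P (b + N) hz hflat
  let I := (QCohCat.isQCoh Y).ι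
  have hiso : ∀ k : ℤ, Nonempty (I ⋙ DerivedCategory.singleFunctor Y.Modules 0 ⋙
      DCoh.Lpull f ⋙ DCoh.LTensorCx F ⋙ DCoh.Rpush f ⋙ DerivedCategory.homologyFunctor Y.Modules k ≅
      I ⋙ (TensorExact.Sheaf.termCx P ⋙ HomologicalComplex.homologyFunctor Y.Modules (ComplexShape.up ℤ) k)) := fun k => by
    obtain ⟨e⟩ := nonempty_model_iso G P hP (asIso (DerivedCategory.Q.map g)) k
    exact nonempty_chain_iso I (DerivedCategory.singleFunctor Y.Modules 0) (DCoh.Lpull f) (DCoh.LTensorCx F)
      (DCoh.Rpush f) (DCoh.LTensorCx G) (DerivedCategory.homologyFunctor Y.Modules k) _ eT e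
  obtain ⟨e0⟩ := hiso p
  obtain ⟨e1⟩ := hiso (p + 1)
  exact rightExact_iff_leftExact_succ_comp I (TensorExact.Sheaf.termCx P)
    (fun S hS => shortExact_termCx P hflat hS) p e0 e1

end Groth.Agent.S6253
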