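import Groth.Statements.S6247
import Groth.Agent.KFlat.SiteLTensor
import Groth.Agent.ModFlat.Assoc
import Groth.Agent.S9058

set_option autoImplicit false
universe u
open CategoryTheory CategoryTheory.Limits AlgebraicGeometry
attribute [local instance] HasDerivedCategory.standard
open KSix

namespace Groth.Agent.S6247

open Groth.Agent Groth.Agent.KFlat MonoidalCategory

variable {C : Type u} [SmallCategory C] {J : GrothendieckTopology C} {O : Sheaf J CommRingCat.{u}}

theorem tensorMono_tensor {A B : ModSite.Mod O} (hA : TensorMono A) (hB : TensorMono B) :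
    TensorMono (((ModSite.tensorBi O).obj A).obj B) := by
  let e : (ModSite.tensorBi O).flip.obj A ⋙ (ModSite.tensorBi O).flip.obj B ≅
      (ModSite.tensorBi O).flip.obj (((ModSite.tensorBi O).obj A).obj B) :=
    NatIso.ofComponents (fun M => (ModFlat.assocApp M A B :)) (fun {M N} f => by
      have := ModFlat.assocApp_natural f (𝟙 A) (𝟙 B)
      simp at this
      exact this)
  have : ((ModSite.tensorBi O).flip.obj A).PreservesMonomorphisms := hA
  have : ((ModSite.tensorBi O).flip.obj B).PreservesMonomorphisms := hB
  exact Functor.PreservesMonomorphisms.of_iso e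

theorem tensorMono_iso {A B : ModSite.Mod O} (e : A ≅ B) (h : TensorMono A) : TensorMono B := by
  have : ((ModSite.tensorBi O).flip.obj A).PreservesMonomorphisms := h
  exact Functor.PreservesMonomorphisms.of_iso ((ModSite.tensorBi O).flip.mapIso e)

theorem isFlat_tens_X {P F : CochainComplex (ModSite.Mod O) ℤ} (hP : ∀ i, ModSite.IsFlat (P.X i))
    (hF : ∀ i, ModSite.IsFlat (F.X i)) (i : ℤ) :
    ModSite.IsFlat ((((tens O).obj P).obj F).X i) := by
  refine isFlat_of_tensorMono ?_
  let p : ℤ × ℤ → ℤ := fun k => k.1 + k.2
  let Z : ULift.{u} (p ⁻¹' {i} : Set (ℤ × ℤ)) → ModSite.Mod O := fun k =>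
    ((ModSite.tensorBi O).obj (P.X k.down.1.1)).obj (F.X k.down.1.2)
  have h : TensorMono (∐ Z) := tensorMono_sigma Z fun k =>
    tensorMono_tensor (tensorMono_of_isFlat (hP _)) (tensorMono_of_isFlat (hF _))
  exact tensorMono_iso (Sigma.whiskerEquiv (f := Z) (g := fun k : (p ⁻¹' {i} : Set (ℤ × ℤ)) =>
    ((ModSite.tensorBi O).obj (P.X k.1.1)).obj (F.X k.1.2)) Equiv.ulift (fun _ => Iso.refl _)) h

theorem isZero_tens_X {P F : CochainComplex (ModSite.Mod O) ℤ} {m n m' n' : ℤ}
    (hP : ∀ i : ℤ, i < m ∨ n < i → IsZero (P.X i)) (hF : ∀ i : ℤ, i < m' ∨ n' < i → IsZero (F.X i))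
    (i : ℤ) (hi : i < m + m' ∨ n + n' < i) : IsZero ((((tens O).obj P).obj F).X i) := by
  refine (IsZero.iff_id_eq_zero _).2 (HomologicalComplex.mapBifunctor.hom_ext fun p q hpq => ?_)
  refine IsZero.eq_of_src ?_ _ _
  have hpq' : p + q = i := hpq
  by_cases hp : p < m ∨ n < p
  · exact (((ModSite.tensorBi O).flip.obj (F.X q)).map_isZero (hP p hp) :)
  · exact ((ModSite.tensorBi O).obj (P.X p)).map_isZero (hF q (by omega))


end Groth.Agent.S6247

namespace Groth.Agent.S6247

/-- One ringed site: let (C, J, O) be a small site with a sheaf of commutative rings O, let E be a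
cochain complex of O-modules isomorphic in D(O) to a complex P of flat O-modules which vanishes
outside [m, n] (E has flat amplitude in [m, n]), and let F be a cochain complex of flat O-modules
which vanishes outside [m', n']. Then, the derived tensor product − ⊗^L_O F being assumed to exist,
E ⊗^L_O F is isomorphic in D(O) to a complex of flat O-modules vanishing outside [m + m', n + n']:
flat amplitudes add, and in particular the derived tensor product of two objects of finite flat
amplitude has finite flat amplitude. (The published statement is for a morphism of ringed topoi f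
from S' to S and the external derived tensor product of an object over S' with an object over S,
flatness meaning exactness of the tensor product functor; this row is the case S' = S with f the
identity, on the topos of sheaves on a small site, with the second factor given by its own flat
model.) -/
theorem result {C : Type u} [SmallCategory C]
    {J : GrothendieckTopology C} (O : Sheaf J CommRingCat.{u}) (E P : CochainComplex (ModSite.Mod O) ℤ)
    (m n : ℤ) (hP : ∀ i : ℤ, ModSite.IsFlat (P.X i)) (hPb : ∀ i : ℤ, i < m ∨ n < i → IsZero (P.X i))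
    (eP : DerivedCategory.Q.obj P ≅ DerivedCategory.Q.obj E) (F : CochainComplex (ModSite.Mod O) ℤ)
    (m' n' : ℤ) (hF : ∀ i : ℤ, ModSite.IsFlat (F.X i)) (hFb : ∀ i : ℤ, i < m' ∨ n' < i → IsZero (F.X i))
    [ModSite.HasLTensorCx F] :
    ∃ G : CochainComplex (ModSite.Mod O) ℤ, (∀ i : ℤ, ModSite.IsFlat (G.X i)) ∧
      (∀ i : ℤ, i < m + m' ∨ n + n' < i → IsZero (G.X i)) ∧
      Nonempty (DerivedCategory.Q.obj G ≅ (ModSite.LTensorCx F).obj (DerivedCategory.Q.obj E)) := by
  open Groth.Agent Groth.Agent.KFlat in
  have : P.IsStrictlyLE n := (P.isStrictlyLE_iff n).2 fun i hi => hPb i (Or.inr hi)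
  have hK : ModSite.IsKFlat P := Groth.Agent.S9058.result O P n inferInstance hP
  exact ⟨((tens O).obj P).obj F, Groth.Agent.S6247.isFlat_tens_X hP hF,
    Groth.Agent.S6247.isZero_tens_X hPb hFb,
    ⟨((ModSite.LTensorCx F).mapIso eP.symm ≪≫ SiteLTensor.toTensorIso F hK).symm⟩⟩

end Groth.Agent.S6247
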