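import Groth.Statements.S6248
import Groth.Agent.TensorExact.Converse
import Groth.Agent.TensorExact.Push

set_option autoImplicit false
universe u
open CategoryTheory CategoryTheory.Limits AlgebraicGeometry
attribute [local instance] HasDerivedCategory.standard
open KSix

namespace Groth.Agent.S6248

/-- Let Y be a Noetherian scheme, f : X ⟶ Y a proper morphism, p an integer, and E ∈ D^b(O_X), given by
a cochain complex F, perfect relative to f (pseudo-coherent relative to f in chart form and locally
on X of finite stalkwise tor amplitude over the local rings of Y). The derived functors Lf^*, − ⊗^L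
F and Rf_* and the derived pullbacks to the points Spec κ(y) ⟶ Y being assumed to exist: if the
functor M ↦ R^p f_*(Lf^* M ⊗^L F) is exact on the full subcategory of quasi-coherent O_Y-modules
(preserves finite limits and finite colimits there), then R^p f_*(E) = H^p(Rf_* E) is a finite
locally free O_Y-module and the function y ↦ dim_{κ(y)} H^p(Rf_* E ⊗^L κ(y)) is locally constant on
Y. (The published statement is for a proper morphism of quasi-compact schemes with Y
quasi-separated, under the finiteness property for proper pseudo-coherent direct images, which holds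
over a Noetherian base; it writes the functor as M ↦ R^p f_*(E ⊗_Y^L M) with E ⊗_Y^L M = E ⊗^L Lf^*
M, and this row takes the derived tensor product with F as the fixed right-hand factor.) -/
theorem result {X Y : Scheme.{u}} [IsNoetherian Y]
    (f : X ⟶ Y) [IsProper f] (F : CochainComplex X.Modules ℤ) (a b : ℤ) [(DCoh.toD X F).IsGE a]
    [(DCoh.toD X F).IsLE b] (hF : DerSch.IsPerfectRel f F) (p : ℤ) [DCoh.HasLpull f]
    [DCoh.HasLTensorCx F] [DCoh.HasRpush f]
    [PreservesFiniteLimits ((QCohCat.isQCoh Y).ι ⋙ DerivedCategory.singleFunctor Y.Modules 0 ⋙ DCoh.Lpull f ⋙ DCoh.LTensorCx F ⋙ DCoh.Rpush f ⋙ DerivedCategory.homologyFunctor Y.Modules p)]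
    [PreservesFiniteColimits ((QCohCat.isQCoh Y).ι ⋙ DerivedCategory.singleFunctor Y.Modules 0 ⋙ DCoh.Lpull f ⋙ DCoh.LTensorCx F ⋙ DCoh.Rpush f ⋙ DerivedCategory.homologyFunctor Y.Modules p)]
    [∀ y : Y, DCoh.HasLpull (Y.fromSpecResidueField y)] :
    FlatMod.IsFinLocFree (DCoh.HD ((DCoh.Rpush f).obj (DCoh.toD X F)) p) ∧
      IsLocallyConstant (fun y : Y => PerfD.betti ((DCoh.Rpush f).obj (DCoh.toD X F)) y p) := by
  have hco := TensorExact.Push.isCohD_of_relAll f _ b hF.1
  obtain ⟨G, eG, hG, ⟨eT⟩⟩ := TensorExact.Push.nonempty_iso f F (fun i => (hco i).1)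
  haveI := hG
  obtain ⟨e⟩ := TensorExact.Sheaf.nonempty_iso G p
  let G' := (KFlat.Pull.resY Y).obj G
  have := KFlat.Pull.quasiIso_resYπ (Y := Y) G
  let eF : DCoh.toD Y G' ≅ DCoh.toD Y G := asIso (DerivedCategory.Q.map ((KFlat.Pull.resYπ Y).app G))
  exact TensorExact.Converse.of_exact G' (KFlat.Pull.isKFlat_resY G) _ (eF ≪≫ eG) p
    (TensorExact.Push.isPseudoCoherentD_Rpush f _ a b hco (p - 1))
    ((QCohCat.isQCoh Y).ι ⋙ DerivedCategory.singleFunctor Y.Modules 0 ⋙ DCoh.Lpull f ⋙
      DCoh.LTensorCx F ⋙ DCoh.Rpush f ⋙ DerivedCategory.homologyFunctor Y.Modules p)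
    (Functor.isoWhiskerRight eT (DerivedCategory.homologyFunctor Y.Modules p) ≪≫
      Functor.isoWhiskerLeft (QCohCat.isQCoh Y).ι e)

end Groth.Agent.S6248
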