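import Groth.Statements.S6251
import Groth.Agent.TensorExact.Converse
import Groth.Agent.TensorExact.Push
import Groth.Agent.KFlat.FlatProperPC
import Groth.Agent.KFlat.ProjFormulaClosed
import Groth.Agent.ProjProper.Basic
import Groth.Agent.CohOps.PnSmooth
import Groth.Agent.S6201
import Groth.Agent.S6235

set_option autoImplicit false
universe u
open CategoryTheory CategoryTheory.Limits AlgebraicGeometry
attribute [local instance] HasDerivedCategory.standard
open KSix

namespace Groth.Agent.S6251

/-- Let Y be a quasi-compact quasi-separated scheme, r a natural number, i : X ⟶ P^r_Y a closed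
immersion with f : X ⟶ Y its composite with the projection, p an integer, and E ∈ D^b(O_X), given by
a cochain complex F, perfect relative to f (pseudo-coherent relative to f in chart form and locally
on X of finite stalkwise tor amplitude over the local rings of Y). The derived functors Lf^*, − ⊗^L
F and Rf_* and the derived pullbacks to the points Spec κ(y) ⟶ Y being assumed to exist: if the
functor M ↦ R^p f_*(Lf^* M ⊗^L F) is exact on the full subcategory of quasi-coherent O_Y-modules
(preserves finite limits and finite colimits there), then H^p(Rf_* E) is a finite locally free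
O_Y-module and the function y ↦ dim_{κ(y)} H^p(Rf_* E ⊗^L κ(y)) is locally constant on Y. (The
published statement is for a proper morphism of quasi-compact schemes with Y quasi-separated, under
the finiteness property for proper pseudo-coherent direct images, which holds for projective
morphisms; it allows a closed immersion into P(M) with M quasi-coherent of finite type on Y, and
this row takes M free of rank r + 1; it writes the functor as M ↦ R^p f_*(E ⊗^L Lf^* M), and this
row takes the derived tensor product with F as the fixed right-hand factor.) -/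
theorem result {X Y : Scheme.{u}} [CompactSpace Y]
    [QuasiSeparatedSpace Y] (r : ℕ) (i : X ⟶ CohB1.ProjSpaceOver r Y) [IsClosedImmersion i]
    (F : CochainComplex X.Modules ℤ) (a b : ℤ) [(DCoh.toD X F).IsGE a] [(DCoh.toD X F).IsLE b]
    (hF : DerSch.IsPerfectRel (i ≫ CohB1.ProjSpaceOver.toBase r Y) F) (p : ℤ) [DCoh.HasLpull (i ≫ CohB1.ProjSpaceOver.toBase r Y)]
    [DCoh.HasLTensorCx F] [DCoh.HasRpush (i ≫ CohB1.ProjSpaceOver.toBase r Y)]
    [PreservesFiniteLimits ((QCohCat.isQCoh Y).ι ⋙ DerivedCategory.singleFunctor Y.Modules 0 ⋙ DCoh.Lpull (i ≫ CohB1.ProjSpaceOver.toBase r Y) ⋙ DCoh.LTensorCx F ⋙ DCoh.Rpush (i ≫ CohB1.ProjSpaceOver.toBase r Y) ⋙ DerivedCategory.homologyFunctor Y.Modules p)]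
    [PreservesFiniteColimits ((QCohCat.isQCoh Y).ι ⋙ DerivedCategory.singleFunctor Y.Modules 0 ⋙ DCoh.Lpull (i ≫ CohB1.ProjSpaceOver.toBase r Y) ⋙ DCoh.LTensorCx F ⋙ DCoh.Rpush (i ≫ CohB1.ProjSpaceOver.toBase r Y) ⋙ DerivedCategory.homologyFunctor Y.Modules p)]
    [∀ y : Y, DCoh.HasLpull (Y.fromSpecResidueField y)] :
    FlatMod.IsFinLocFree (DCoh.HD ((DCoh.Rpush (i ≫ CohB1.ProjSpaceOver.toBase r Y)).obj (DCoh.toD X F)) p) ∧
      IsLocallyConstant (fun y : Y => PerfD.betti ((DCoh.Rpush (i ≫ CohB1.ProjSpaceOver.toBase r Y)).obj (DCoh.toD X F)) y p) := by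
  let g := CohB1.ProjSpaceOver.toBase r Y
  haveI : IsProper g := Groth.Agent.ProjProper.Basic.isProper_toBase r Y
  haveI : Smooth g := Groth.Agent.CohOps.PnSmooth.smooth_toBase r Y
  let f := i ≫ g
  haveI : IsProper f := MorphismProperty.comp_mem _ _ _ inferInstance inferInstance
  haveI : DCoh.HasRpush g := Groth.Agent.KFlat.RPush.hasRpush _
  haveI : DCoh.HasRpush i := Groth.Agent.KFlat.RPush.hasRpush _
  have hpc : ∀ n, DCoh.IsPseudoCoherentD n ((DCoh.Rpush f).obj (DCoh.toD X F)) := fun n =>
    Groth.Agent.PCohD.pc_of_iso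
      ((DCoh.Rpush g).mapIso (Groth.Agent.KFlat.ProjFormulaClosed.rpushClosedIso i F) ≪≫
        (Groth.Agent.KFlat.RPush.rpushCompIso i g).app (DCoh.toD X F))
      (Groth.Agent.KFlat.FlatProper.pc_Rpush g _
        (fun m => (Groth.Agent.S6201.result i g m F).1 (hF.1 m)) n)
  obtain ⟨G, eG, hG, ⟨eT⟩⟩ :=
    Groth.Agent.TensorExact.Push.nonempty_iso f F (Groth.Agent.S6235.result f _ hF.1)
  haveI := hG
  obtain ⟨e⟩ := Groth.Agent.TensorExact.Sheaf.nonempty_iso G p
  let G' := (Groth.Agent.KFlat.Pull.resY Y).obj G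
  have := Groth.Agent.KFlat.Pull.quasiIso_resYπ (Y := Y) G
  let eF : DCoh.toD Y G' ≅ DCoh.toD Y G :=
    asIso (DerivedCategory.Q.map ((Groth.Agent.KFlat.Pull.resYπ Y).app G))
  exact Groth.Agent.TensorExact.Converse.of_exact G' (Groth.Agent.KFlat.Pull.isKFlat_resY G) _ (eF ≪≫ eG) p
    (hpc (p - 1))
    ((QCohCat.isQCoh Y).ι ⋙ DerivedCategory.singleFunctor Y.Modules 0 ⋙ DCoh.Lpull f ⋙
      DCoh.LTensorCx F ⋙ DCoh.Rpush f ⋙ DerivedCategory.homologyFunctor Y.Modules p)
    (Functor.isoWhiskerRight eT (DerivedCategory.homologyFunctor Y.Modules p) ≪≫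
      Functor.isoWhiskerLeft (QCohCat.isQCoh Y).ι e)

end Groth.Agent.S6251
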