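import Groth.Statements.S6252
import Groth.Agent.TensorExact.Push

set_option autoImplicit false
universe u
open CategoryTheory CategoryTheory.Limits AlgebraicGeometry
attribute [local instance] HasDerivedCategory.standard
open KSix

namespace Groth.Agent.S6252

/-- Let Y be a Noetherian reduced scheme, f : X ⟶ Y a proper morphism, p an integer, and E ∈ D^b(O_X),
given by a cochain complex F, perfect relative to f (pseudo-coherent relative to f in chart form and
locally on X of finite stalkwise tor amplitude over the local rings of Y). The derived functors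
Lf^*, − ⊗^L F and Rf_* and the derived pullbacks to the points Spec κ(y) ⟶ Y being assumed to exist:
if the function y ↦ dim_{κ(y)} H^p(Rf_* E ⊗^L κ(y)) is locally constant on Y, then the functor M ↦
R^p f_*(Lf^* M ⊗^L F) is exact on the full subcategory of quasi-coherent O_Y-modules (preserves
finite limits and finite colimits there). (The published statement is for a proper morphism of
quasi-compact schemes under the finiteness property for proper pseudo-coherent direct images, which
holds over a Noetherian base; it writes the functor as M ↦ R^p f_*(E ⊗^L Lf^* M), and this row takes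
the derived tensor product with F as the fixed right-hand factor.) -/
theorem result {X Y : Scheme.{u}} [IsNoetherian Y]
    [IsReduced Y] (f : X ⟶ Y) [IsProper f] (F : CochainComplex X.Modules ℤ) (a b : ℤ)
    [(DCoh.toD X F).IsGE a] [(DCoh.toD X F).IsLE b] (hF : DerSch.IsPerfectRel f F) (p : ℤ)
    [DCoh.HasLpull f] [DCoh.HasLTensorCx F] [DCoh.HasRpush f]
    [∀ y : Y, DCoh.HasLpull (Y.fromSpecResidueField y)]
    (hc : IsLocallyConstant (fun y : Y => PerfD.betti ((DCoh.Rpush f).obj (DCoh.toD X F)) y p)) :
    PreservesFiniteLimits ((QCohCat.isQCoh Y).ι ⋙ DerivedCategory.singleFunctor Y.Modules 0 ⋙ DCoh.Lpull f ⋙ DCoh.LTensorCx F ⋙ DCoh.Rpush f ⋙ DerivedCategory.homologyFunctor Y.Modules p) ∧ PreservesFiniteColimits ((QCohCat.isQCoh Y).ι ⋙ DerivedCategory.singleFunctor Y.Modules 0 ⋙ DCoh.Lpull f ⋙ DCoh.LTensorCx F ⋙ DCoh.Rpush f ⋙ DerivedCategory.homologyFunctor Y.Modules p) := by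
  haveI : LocallyOfFiniteType f := inferInstance
  have hco := TensorExact.Push.isCohD_of_relAll f _ b hF.1
  obtain ⟨G, eG, hG, ⟨eT⟩⟩ := TensorExact.Push.nonempty_iso f F (fun i => (hco i).1)
  haveI := hG
  obtain ⟨e⟩ := TensorExact.Sheaf.nonempty_iso G p
  let I := (QCohCat.isQCoh Y).ι
  let T := I ⋙ TensorExact.Sheaf.termCx ((KFlat.Pull.resY Y).obj G) ⋙
    HomologicalComplex.homologyFunctor Y.Modules (ComplexShape.up ℤ) p
  let E := Functor.isoWhiskerRight eT (DerivedCategory.homologyFunctor Y.Modules p) ≪≫
    Functor.isoWhiskerLeft I e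
  have h := TensorExact.Sheaf.preservesFinite_of_shortExact T fun S hS =>
    TensorExact.Sheaf.shortExact_map G _ eG p
      (TensorExact.Push.isPseudoCoherentD_Rpush f _ a b hco (p - 1)) hc (S.map I) (hS.map_of_exact I)
  have := h.1
  have := h.2
  exact ⟨preservesFiniteLimits_of_natIso E.symm, preservesFiniteColimits_of_natIso E.symm⟩

end Groth.Agent.S6252
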