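import Groth.Statements.S6254
import Groth.Agent.KFlatSite.TorSeq
import Groth.Agent.KFlat.Single
import Groth.Agent.S9058

set_option autoImplicit false
universe u
open CategoryTheory CategoryTheory.Limits AlgebraicGeometry
attribute [local instance] HasDerivedCategory.standard
open KSix

namespace Groth.Agent.S6254

open Groth.Agent Groth.Agent.KFlat Groth.Agent.KFlatSite.TorSeq ModSite

variable {C : Type u} [SmallCategory C] {J : GrothendieckTopology C} {O : Sheaf J CommRingCat.{u}}
variable (E : CochainComplex (Mod O) ℤ)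

/-- `M[0]`. -/
noncomputable abbrev S₀ : Mod O ⥤ CochainComplex (Mod O) ℤ := CochainComplex.singleFunctor (Mod O) 0

/-- The termwise complex `E ⊗ M`. -/
noncomputable abbrev Cm : Mod O ⥤ CochainComplex (Mod O) ℤ := S₀ ⋙ (tens O).obj E

theorem isIso_counit_single [ModSite.HasLTensorCx E] (hE : ModSite.IsKFlat E) (M : Mod O) :
    IsIso (((ModSite.tensorCxQ E).totalLeftDerivedCounit DerivedCategory.Q
      (HomologicalComplex.quasiIso (Mod O) (ComplexShape.up ℤ))).app (S₀.obj M)) := by
  let t := (ModSite.tensorCxQ E).totalLeftDerivedCounit DerivedCategory.Q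
    (HomologicalComplex.quasiIso (Mod O) (ComplexShape.up ℤ))
  let s := (res O).obj (S₀.obj M)
  let π : s ⟶ S₀.obj M := (resπ O).app (S₀.obj M)
  have : QuasiIso π := quasiIso_resπ _
  have h₁ : IsIso (t.app s) := inferInstanceAs (IsIso (SiteLTensor.toTensorIso E (isKFlat_res _)).hom)
  have : QuasiIso (((tens O).flip.obj E).map π) := quasiIso_tens_flip hE π
  have h₂ : IsIso ((ModSite.tensorCxQ E).map π) :=
    inferInstanceAs (IsIso (DerivedCategory.Q.map (((tens O).flip.obj E).map π)))
  have h₃ : IsIso ((DerivedCategory.Q ⋙ ModSite.LTensorCx E).map π) :=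
    inferInstanceAs (IsIso ((ModSite.LTensorCx E).map (DerivedCategory.Q.map π)))
  have : IsIso ((DerivedCategory.Q ⋙ ModSite.LTensorCx E).map π ≫ t.app (S₀.obj M)) := by
    rw [t.naturality π]
    exact IsIso.comp_isIso' h₁ h₂
  exact @IsIso.of_isIso_comp_left _ _ _ _ _ _ (t.app (S₀.obj M)) h₃ this

/-- `H^q(- ⊗ᴸ E)` is computed termwise for K-flat `E`. -/
noncomputable def gIso [ModSite.HasLTensorCx E] (hE : ModSite.IsKFlat E) (q : ℤ) :
    G E q ≅ Cm E ⋙ HomologicalComplex.homologyFunctor (Mod O) (ComplexShape.up ℤ) q :=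
  let H := DerivedCategory.homologyFunctor (Mod O) q
  let α : (S₀ ⋙ DerivedCategory.Q) ⋙ ModSite.LTensorCx E ≅ S₀ ⋙ ModSite.tensorCxQ E :=
    NatIso.ofComponents
      (fun M => @asIso _ _ _ _ (((ModSite.tensorCxQ E).totalLeftDerivedCounit DerivedCategory.Q
        (HomologicalComplex.quasiIso (Mod O) (ComplexShape.up ℤ))).app (S₀.obj M))
          (isIso_counit_single E hE M))
      (fun {M N} f => ((ModSite.tensorCxQ E).totalLeftDerivedCounit DerivedCategory.Q
        (HomologicalComplex.quasiIso (Mod O) (ComplexShape.up ℤ))).naturality (S₀.map f))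
  Functor.isoWhiskerRight (DerivedCategory.singleFunctorIsoCompQ (Mod O) 0) (ModSite.LTensorCx E ⋙ H) ≪≫
    (Functor.isoWhiskerRight α H :) ≪≫
    (Functor.isoWhiskerLeft (S₀ ⋙ (tens O).flip.obj E) (DerivedCategory.homologyFunctorFactors (Mod O) q) :) ≪≫
    Functor.isoWhiskerRight (Functor.isoWhiskerLeft S₀ ((tensFlipIso O).app E)) _

/-- The terms of `E ⊗ M`. -/
noncomputable def xI (M : Mod O) (p : ℤ) :
    ((tensorBi O).flip.obj M).obj (E.X p) ≅ ((Cm E).obj M).X p :=
  totSingleIso (tensorBi O) E 0 M p p (add_zero p)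

theorem xI_natural {M N : Mod O} (f : M ⟶ N) (p : ℤ) :
    ((tensorBi O).obj (E.X p)).map f ≫ (xI E N p).hom = (xI E M p).hom ≫ ((Cm E).map f).f p := by
  change _ = _ ≫ ((((tot (tensorBi O)).obj E)).map ((HomologicalComplex.single (Mod O) (ComplexShape.up ℤ) 0).map f)).f p
  simp only [xI, totSingleIso]
  rw [Category.assoc, totι_map_right, ← Functor.map_comp_assoc]
  refine (Functor.map_comp_assoc _ _ _ _).symm.trans ?_
  rw [HomologicalComplex.single_map_f_self, Iso.inv_hom_id_assoc]
  rfl

theorem xI_inv_natural {M N : Mod O} (f : M ⟶ N) (p : ℤ) :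
    ((Cm E).map f).f p ≫ (xI E N p).inv = (xI E M p).inv ≫ ((tensorBi O).obj (E.X p)).map f := by
  rw [Iso.comp_inv_eq, Category.assoc, xI_natural, Iso.inv_hom_id_assoc]

theorem xI_comm (M : Mod O) (p : ℤ) :
    (xI E M p).hom ≫ ((Cm E).obj M).d p (p + 1) =
      ((tensorBi O).flip.obj M).map (E.d p (p + 1)) ≫ (xI E M (p + 1)).hom :=
  totSingleIso_comm (tensorBi O) E 0 M p p (p + 1) (add_zero p) rfl

variable (p : ℤ)

/-- The cokernel of the differential. -/
noncomputable abbrev D : Mod O := cokernel (E.d p (p + 1))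

/-- The map to `D ⊗ M`. -/
noncomputable def ω (M : Mod O) : ((Cm E).obj M).X (p + 1) ⟶ ((tensorBi O).obj (D E p)).obj M :=
  (xI E M (p + 1)).inv ≫ ((tensorBi O).flip.obj M).map (cokernel.π (E.d p (p + 1)))

theorem d_ω (M : Mod O) : ((Cm E).obj M).d p (p + 1) ≫ ω E p M = 0 := by
  rw [← cancel_epi (xI E M p).hom, ω, ← Category.assoc, xI_comm, Category.assoc, Iso.hom_inv_id_assoc,
    ← Functor.map_comp, cokernel.condition, Functor.map_zero, comp_zero]

/-- The inverse comparison. -/
noncomputable def oInv (M : Mod O) :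
    ((tensorBi O).obj (D E p)).obj M ⟶ ((Cm E).obj M).opcycles (p + 1) :=
  (CokernelCofork.mapIsColimit _ (cokernelIsCokernel (E.d p (p + 1)))
      ((tensorBi O).flip.obj M)).desc
    (CokernelCofork.ofπ ((xI E M (p + 1)).hom ≫ ((Cm E).obj M).pOpcycles (p + 1)) (by
      rw [← Category.assoc, ← xI_comm, Category.assoc, HomologicalComplex.d_pOpcycles, comp_zero]))

theorem π_oInv (M : Mod O) :
    ((tensorBi O).flip.obj M).map (cokernel.π (E.d p (p + 1))) ≫ oInv E p M =
      (xI E M (p + 1)).hom ≫ ((Cm E).obj M).pOpcycles (p + 1) :=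
  Cofork.IsColimit.π_desc (CokernelCofork.mapIsColimit _ (cokernelIsCokernel (E.d p (p + 1)))
      ((tensorBi O).flip.obj M))

/-- `opcycles = D ⊗ M`. -/
noncomputable def o (M : Mod O) :
    ((Cm E).obj M).opcycles (p + 1) ≅ ((tensorBi O).obj (D E p)).obj M where
  hom := ((Cm E).obj M).descOpcycles (ω E p M) p (by simp) (d_ω E p M)
  inv := oInv E p M
  hom_inv_id := by
    rw [← cancel_epi (((Cm E).obj M).pOpcycles (p + 1)), HomologicalComplex.p_descOpcycles_assoc, ω,
      Category.assoc, Category.comp_id]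
    exact (congrArg ((xI E M (p + 1)).inv ≫ ·) (π_oInv E p M)).trans (Iso.inv_hom_id_assoc _ _)
  inv_hom_id := by
    have : Epi (((tensorBi O).flip.obj M).map (cokernel.π (E.d p (p + 1)))) := inferInstance
    refine (cancel_epi (((tensorBi O).flip.obj M).map (cokernel.π (E.d p (p + 1))))).1 ?_
    refine ((Category.assoc _ _ _).symm.trans (congrArg (· ≫ _) (π_oInv E p M))).trans ?_
    rw [Category.assoc, HomologicalComplex.p_descOpcycles, ω, Iso.hom_inv_id_assoc]
    exact (Category.comp_id _).symm

theorem o_natural {M N : Mod O} (f : M ⟶ N) :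
    HomologicalComplex.opcyclesMap ((Cm E).map f) (p + 1) ≫ (o E p N).hom =
      (o E p M).hom ≫ ((tensorBi O).obj (D E p)).map f := by
  rw [← cancel_epi (((Cm E).obj M).pOpcycles (p + 1)), HomologicalComplex.p_opcyclesMap_assoc]
  simp only [o, HomologicalComplex.p_descOpcycles, HomologicalComplex.p_descOpcycles_assoc]
  rw [ω, ← Category.assoc, xI_inv_natural, ω, Category.assoc, Category.assoc]
  congr 1
  exact ((tensorBi O).map (cokernel.π (E.d p (p + 1)))).naturality f

theorem mono_map_iff (hE : ∀ i, ModSite.IsFlat (E.X i)) :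
    (∀ {M N : Mod O} (f : M ⟶ N) [Mono f],
      Mono (HomologicalComplex.homologyMap ((Cm E).map f) (p + 1))) ↔
    ModSite.IsFlat (D E p) := by
  have hiff : ∀ A : Mod O, TensorMono A ↔ ((tensorBi O).obj A).PreservesMonomorphisms := fun A =>
    ⟨fun (h : ((tensorBi O).flip.obj A).PreservesMonomorphisms) =>
        Functor.PreservesMonomorphisms.of_iso ((tensorBiFlipIso O).app A),
      fun h => Functor.PreservesMonomorphisms.of_iso ((tensorBiFlipIso O).app A).symm⟩
  constructor
  · intro h
    refine isFlat_of_tensorMono ((hiff _).2 ⟨fun {M N} f hf => ?_⟩)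
    refine Preadditive.mono_of_cancel_zero _ fun {Z} k hk => ?_
    let v : ∀ M : Mod O, ((tensorBi O).obj (D E p)).obj M ⟶ ((Cm E).obj M).X (p + 2) := fun M =>
      (o E p M).inv ≫ ((Cm E).obj M).fromOpcycles (p + 1) (p + 2)
    have hv : ((tensorBi O).obj (D E p)).map f ≫ v N = v M ≫ ((Cm E).map f).f (p + 2) := by
      rw [← cancel_epi (o E p M).hom, ← Category.assoc, ← o_natural, Category.assoc, Iso.hom_inv_id_assoc]
      simp only [v, Iso.hom_inv_id_assoc]
      rw [← cancel_epi (((Cm E).obj M).pOpcycles (p + 1))]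
      simp [HomologicalComplex.p_opcyclesMap_assoc]
    have : Mono (((Cm E).map f).f (p + 2)) := by
      have hm := ((hiff _).1 (tensorMono_of_isFlat (hE (p + 2)))).preserves f
      have e : ((Cm E).map f).f (p + 2) = (xI E M (p + 2)).inv ≫
          ((tensorBi O).obj (E.X (p + 2))).map f ≫ (xI E N (p + 2)).hom := by
        rw [xI_natural, Iso.inv_hom_id_assoc]
      rw [e]
      infer_instance
    have hkv : k ≫ v M = 0 := by
      rw [← cancel_mono (((Cm E).map f).f (p + 2)), Category.assoc, ← hv, reassoc_of% hk, zero_comp, zero_comp]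
    have hker := ((Cm E).obj M).homologyIsKernel (p + 1) (p + 2) (by simp; omega)
    obtain ⟨k', hk'⟩ := KernelFork.IsLimit.lift' hker (k ≫ (o E p M).inv) (by
      simpa [v] using hkv)
    have hk'' : k = k' ≫ ((Cm E).obj M).homologyι (p + 1) ≫ (o E p M).hom := by
      rw [← Category.assoc]
      have hk2 : k' ≫ ((Cm E).obj M).homologyι (p + 1) = k ≫ (o E p M).inv := hk'
      rw [hk2, Category.assoc, Iso.inv_hom_id, Category.comp_id]
    have h0 : k' ≫ HomologicalComplex.homologyMap ((Cm E).map f) (p + 1) = 0 := by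
      rw [← cancel_mono (((Cm E).obj N).homologyι (p + 1) ≫ (o E p N).hom), Category.assoc,
        HomologicalComplex.homologyι_naturality_assoc, o_natural, zero_comp]
      simpa [hk''] using hk
    have := h f
    rw [hk'', zero_of_comp_mono _ h0, zero_comp]
  · intro hD M N f hf
    have := (hiff _).1 (tensorMono_of_isFlat hD)
    have : Mono (((tensorBi O).obj (D E p)).map f) := Functor.map_mono _ f
    have h1 : Mono (HomologicalComplex.homologyMap ((Cm E).map f) (p + 1) ≫
        ((Cm E).obj N).homologyι (p + 1) ≫ (o E p N).hom) := by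
      rw [HomologicalComplex.homologyι_naturality_assoc, o_natural]
      infer_instance
    exact mono_of_mono _ (((Cm E).obj N).homologyι (p + 1) ≫ (o E p N).hom)


end Groth.Agent.S6254

namespace Groth.Agent.S6254

/-- Let (C, J, O) be a small site with a sheaf of commutative rings O, p an integer, and E a bounded
above cochain complex of FLAT O-modules (termwise zero above some degree). Then, the derived tensor
product − ⊗^L_O E being assumed to exist, the functor M ↦ H^p(M ⊗^L E) from Mod(O) to Mod(O) is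
right exact if and only if the cokernel of the differential E^p ⟶ E^{p+1} is a flat O-module. (The
published statement is for a commutative ringed topos and writes E ⊗^L M; this row is the topos of
sheaves on a small site, with the derived tensor product taken with E as the fixed right-hand
factor.) -/
theorem result {C : Type u} [SmallCategory C]
    {J : GrothendieckTopology C} (O : Sheaf J CommRingCat.{u}) (E : CochainComplex (ModSite.Mod O) ℤ)
    (e : ℤ) (hEb : ∀ i : ℤ, e < i → IsZero (E.X i)) (hEf : ∀ i : ℤ, ModSite.IsFlat (E.X i)) (p : ℤ)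
    [ModSite.HasLTensorCx E] :
    PreservesFiniteColimits (DerivedCategory.singleFunctor (ModSite.Mod O) 0 ⋙ ModSite.LTensorCx E ⋙ DerivedCategory.homologyFunctor (ModSite.Mod O) p) ↔ ModSite.IsFlat (cokernel (E.d p (p + 1))) := by
  open Groth.Agent Groth.Agent.KFlatSite.TorSeq in
  have : E.IsStrictlyLE e := (E.isStrictlyLE_iff e).2 hEb
  have hK : ModSite.IsKFlat E := Groth.Agent.S9058.result O E e inferInstance hEf
  let i := Groth.Agent.S6254.gIso E hK (p + 1)
  rw [← Groth.Agent.S6254.mono_map_iff E p hEf, Groth.Agent.KFlatSite.TorSeq.rightExact_iff_leftExact E p,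
    Functor.preservesFiniteLimits_iff_forall_exact_map_and_mono]
  constructor
  · intro h M N f hf
    have hS : (ShortComplex.mk f (cokernel.π f) (cokernel.condition f)).ShortExact :=
      { exact := ShortComplex.exact_of_g_is_cokernel _ (cokernelIsCokernel f) }
    exact ((MorphismProperty.monomorphisms (ModSite.Mod O)).arrow_mk_iso_iff
      (Arrow.isoMk (i.app M) (i.app N) (i.hom.naturality f).symm)).1 (h _ hS).2
  · intro h S hS
    refine ⟨(Groth.Agent.KFlatSite.TorSeq.exact_and_iff E S hS (p + 1) _ rfl).1, ?_⟩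
    have := hS.mono_f
    exact ((MorphismProperty.monomorphisms (ModSite.Mod O)).arrow_mk_iso_iff
      (Arrow.isoMk (i.app _) (i.app _) (i.hom.naturality S.f).symm)).2 (h S.f)

end Groth.Agent.S6254
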