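import Groth.Statements.S6257
import Groth.Agent.PCohD.TorExt
-- import your own Groth.Agent.* helpers here

set_option autoImplicit false
universe u
open CategoryTheory CategoryTheory.Limits AlgebraicGeometry
attribute [local instance] HasDerivedCategory.standard
open KSix

namespace Groth.Agent.S6257

/-- Flat second factor: let S be a scheme and, for i = 1, 2, f_i : X_i ⟶ Y_i a morphism of S-schemes
(structure morphisms q_i : Y_i ⟶ S), with X₂ and Y₂ flat over S; let X = X₁ ×_S X₂ and Y = Y₁ ×_S Y₂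
be given by pullback squares, with projections p₁ : X ⟶ X₁, p₂ : X ⟶ X₂, and f : X ⟶ Y the morphism
compatible with the projections. Let E_i be a cochain complex of O_{X_i}-modules with tor amplitude
in [a_i, b_i] relative to f_i (stalkwise: flat models placed in [a_i, b_i] over the local rings of
Y_i). The external derived tensor product E₁ ⊗^L_S E₂ = Lp₁^* E₁ ⊗^L Lp₂^* E₂ is written, the
derived pullbacks being assumed to exist, as Lp₁^* E₁ ⊗^L K₂ for any cochain complex K₂ representing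
Lp₂^* E₂ for which the derived tensor product exists. Then E₁ ⊗^L_S E₂ has tor amplitude in [a₁ +
a₂, b₁ + b₂] relative to f: every cochain complex representing it has stalkwise flat models in that
interval over the local rings of Y. (The published statement assumes only that X₁, X₂ and Y₁, Y₂ are
tor-independent over S; this row takes X₂ and Y₂ flat over S, which implies both conditions.) -/
theorem result {S X₁ Y₁ X₂ Y₂ X Y : Scheme.{u}} (f₁ : X₁ ⟶ Y₁) (q₁ : Y₁ ⟶ S)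
    (f₂ : X₂ ⟶ Y₂) (q₂ : Y₂ ⟶ S) [Flat q₂] [Flat (f₂ ≫ q₂)]
    (pX₁ : X ⟶ X₁) (pX₂ : X ⟶ X₂) (hX : IsPullback pX₁ pX₂ (f₁ ≫ q₁) (f₂ ≫ q₂))
    (pY₁ : Y ⟶ Y₁) (pY₂ : Y ⟶ Y₂) (hY : IsPullback pY₁ pY₂ q₁ q₂)
    (f : X ⟶ Y) (hf₁ : f ≫ pY₁ = pX₁ ≫ f₁) (hf₂ : f ≫ pY₂ = pX₂ ≫ f₂)
    (E₁ : CochainComplex X₁.Modules ℤ) (a₁ b₁ : ℤ) (h₁ : DerSch.HasTorAmplitude f₁ a₁ b₁ E₁)
    (E₂ : CochainComplex X₂.Modules ℤ) (a₂ b₂ : ℤ) (h₂ : DerSch.HasTorAmplitude f₂ a₂ b₂ E₂)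
    [DCoh.HasLpull pX₁] [DCoh.HasLpull pX₂] :
    ∀ (K₂ : CochainComplex X.Modules ℤ) [DCoh.HasLTensorCx K₂],
      Nonempty (DCoh.toD X K₂ ≅ (DCoh.Lpull pX₂).obj (DCoh.toD X₂ E₂)) →
        DerSch.HasTorAmplitudeD f (a₁ + a₂) (b₁ + b₂) ((DCoh.LTensorCx K₂).obj ((DCoh.Lpull pX₁).obj (DCoh.toD X₁ E₁))) := by
  let W := pullback q₁ (f₂ ≫ q₂)
  let w₁ : W ⟶ Y₁ := pullback.fst q₁ (f₂ ≫ q₂)
  let w₂ : W ⟶ X₂ := pullback.snd q₁ (f₂ ≫ q₂)
  have hW : IsPullback w₁ w₂ q₁ (f₂ ≫ q₂) := IsPullback.of_hasPullback _ _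
  let a : X ⟶ W := hW.lift (pX₁ ≫ f₁) pX₂ (by rw [Category.assoc, hX.w])
  have ha₁ : a ≫ w₁ = pX₁ ≫ f₁ := hW.lift_fst _ _ _
  have ha₂ : a ≫ w₂ = pX₂ := hW.lift_snd _ _ _
  have hA : IsPullback pX₁ a f₁ w₁ :=
    (IsPullback.of_right (h₁₂ := w₂) (h₂₂ := q₁) (v₁₃ := f₂ ≫ q₂)
      (by rw [ha₂]; exact hX.flip) ha₁ hW.flip).flip
  have hP₁ := Groth.Agent.PCohD.TorComp.hasTorAmplitude_resY f₁ E₁ h₁
  intro K₂ _ hK₂
  obtain ⟨e⟩ := hK₂
  have hP₂ := Groth.Agent.PCohD.TorComp.hasTorAmplitude_resY f₂ E₂ h₂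
  let b : W ⟶ Y := hY.lift w₁ (w₂ ≫ f₂) (by rw [Category.assoc, hW.w])
  have hb₁ : b ≫ pY₁ = w₁ := hY.lift_fst _ _ _
  have hb₂ : b ≫ pY₂ = w₂ ≫ f₂ := hY.lift_snd _ _ _
  have hB : IsPullback w₂ b f₂ pY₂ :=
    (IsPullback.of_right (h₁₂ := pY₁) (h₂₂ := q₂) (v₁₃ := q₁)
      (by rw [hb₁]; exact hW) hb₂ hY).flip
  have : Flat w₁ := MorphismProperty.of_isPullback (P := @Flat) hW.flip ‹Flat (f₂ ≫ q₂)›
  have hab : a ≫ b = f := hY.hom_ext (by rw [Category.assoc, hb₁, ha₁, hf₁])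
    (by rw [Category.assoc, hb₂, reassoc_of% ha₂, hf₂])
  subst hab
  exact Groth.Agent.PCohD.TorExt.hasTorAmplitudeD_external pX₁ pX₂ w₂ a b ha₂ E₁ E₂ K₂ e
    (Groth.Agent.PCohD.TorComp.hasTorAmplitude_baseChange hA _ hP₁)
    (Groth.Agent.PCohD.TorExt.hasTorAmplitude_baseChange_indep hB hY.flip
      (Groth.Agent.KFlat.Pull.isKFlat_resY E₂) hP₂)

end Groth.Agent.S6257
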