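import Groth.Statements.S6259
import Groth.Agent.PCohD.RelPCIndepAt
-- import your own Groth.Agent.* helpers here

set_option autoImplicit false
universe u
open CategoryTheory CategoryTheory.Limits AlgebraicGeometry
attribute [local instance] HasDerivedCategory.standard
open KSix

namespace Groth.Agent.S6259

/-- Let S be a scheme and, for i = 1, 2, f_i : X_i ⟶ Y_i a morphism of S-schemes (structure morphisms
q_i : Y_i ⟶ S), with X₂ and Y₂ flat over S; let X = X₁ ×_S X₂ and Y = Y₁ ×_S Y₂ be given by pullback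
squares, with projections p₁ : X ⟶ X₁, p₂ : X ⟶ X₂, and f : X ⟶ Y the morphism compatible with the
projections; assume f₁ and f₂ locally of finite type. Let E_i ∈ D⁻(O_{X_i}), given by a cochain
complex, have quasi-coherent cohomology, be a_i-pseudo-coherent relative to f_i (chart form) and
acyclic in degrees > b_i. The external derived tensor product E₁ ⊗^L_S E₂ = Lp₁^* E₁ ⊗^L Lp₂^* E₂ is
written, the derived pullbacks being assumed to exist, as Lp₁^* E₁ ⊗^L K₂ for any cochain complex K₂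
representing Lp₂^* E₂ for which the derived tensor product exists. Then E₁ ⊗^L_S E₂ is
a-pseudo-coherent relative to f and acyclic in degrees > b, with a = max(a₁ + b₂, a₂ + b₁) and b =
b₁ + b₂. (The published statement assumes only that X₁, X₂ and Y₁, Y₂ are tor-independent over S;
this row takes X₂ and Y₂ flat over S, which implies both conditions.) -/
theorem result {S X₁ Y₁ X₂ Y₂ X Y : Scheme.{u}} (f₁ : X₁ ⟶ Y₁) (q₁ : Y₁ ⟶ S)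
    (f₂ : X₂ ⟶ Y₂) (q₂ : Y₂ ⟶ S) [Flat q₂] [Flat (f₂ ≫ q₂)]
    (pX₁ : X ⟶ X₁) (pX₂ : X ⟶ X₂) (hX : IsPullback pX₁ pX₂ (f₁ ≫ q₁) (f₂ ≫ q₂))
    (pY₁ : Y ⟶ Y₁) (pY₂ : Y ⟶ Y₂) (hY : IsPullback pY₁ pY₂ q₁ q₂)
    (f : X ⟶ Y) (hf₁ : f ≫ pY₁ = pX₁ ≫ f₁) (hf₂ : f ≫ pY₂ = pX₂ ≫ f₂)
    [LocallyOfFiniteType f₁] [LocallyOfFiniteType f₂]
    (E₁ : CochainComplex X₁.Modules ℤ) (a₁ b₁ : ℤ)
    (hq₁ : DCoh.IsQCohD (DCoh.toD X₁ E₁)) (hpc₁ : DerSch.IsPseudoCoherentRel f₁ a₁ (DCoh.toD X₁ E₁))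
    [(DCoh.toD X₁ E₁).IsLE b₁]
    (E₂ : CochainComplex X₂.Modules ℤ) (a₂ b₂ : ℤ)
    (hq₂ : DCoh.IsQCohD (DCoh.toD X₂ E₂)) (hpc₂ : DerSch.IsPseudoCoherentRel f₂ a₂ (DCoh.toD X₂ E₂))
    [(DCoh.toD X₂ E₂).IsLE b₂] [DCoh.HasLpull pX₁] [DCoh.HasLpull pX₂] :
    ∀ (K₂ : CochainComplex X.Modules ℤ) [DCoh.HasLTensorCx K₂],
      Nonempty (DCoh.toD X K₂ ≅ (DCoh.Lpull pX₂).obj (DCoh.toD X₂ E₂)) →
        DerSch.IsPseudoCoherentRel f (max (a₁ + b₂) (a₂ + b₁)) ((DCoh.LTensorCx K₂).obj ((DCoh.Lpull pX₁).obj (DCoh.toD X₁ E₁))) ∧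
          (((DCoh.LTensorCx K₂).obj ((DCoh.Lpull pX₁).obj (DCoh.toD X₁ E₁)))).IsLE (b₁ + b₂) := by
  let W := pullback q₁ (f₂ ≫ q₂)
  let w₁ : W ⟶ Y₁ := pullback.fst q₁ (f₂ ≫ q₂)
  let w₂ : W ⟶ X₂ := pullback.snd q₁ (f₂ ≫ q₂)
  have hW : IsPullback w₁ w₂ q₁ (f₂ ≫ q₂) := IsPullback.of_hasPullback _ _
  let a : X ⟶ W := hW.lift (pX₁ ≫ f₁) pX₂ (by rw [Category.assoc, hX.w])
  have ha₁ : a ≫ w₁ = pX₁ ≫ f₁ := hW.lift_fst _ _ _
  have ha₂ : a ≫ w₂ = pX₂ := hW.lift_snd _ _ _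
  have hA : IsPullback pX₁ a f₁ w₁ :=
    (IsPullback.of_right (h₁₂ := w₂) (h₂₂ := q₁) (v₁₃ := f₂ ≫ q₂)
      (by rw [ha₂]; exact hX.flip) ha₁ hW.flip).flip
  let b : W ⟶ Y := hY.lift w₁ (w₂ ≫ f₂) (by rw [Category.assoc, hW.w])
  have hb₁ : b ≫ pY₁ = w₁ := hY.lift_fst _ _ _
  have hb₂ : b ≫ pY₂ = w₂ ≫ f₂ := hY.lift_snd _ _ _
  have hB : IsPullback w₂ b f₂ pY₂ :=
    (IsPullback.of_right (h₁₂ := pY₁) (h₂₂ := q₂) (v₁₃ := q₁)
      (by rw [hb₁]; exact hW) hb₂ hY).flip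
  have hab : a ≫ b = f := hY.hom_ext (by rw [Category.assoc, hb₁, ha₁, hf₁])
    (by rw [Category.assoc, hb₂, reassoc_of% ha₂, hf₂])
  have : LocallyOfFiniteType a := MorphismProperty.of_isPullback (P := @LocallyOfFiniteType) hA ‹LocallyOfFiniteType f₁›
  have : LocallyOfFiniteType b := MorphismProperty.of_isPullback (P := @LocallyOfFiniteType) hB ‹LocallyOfFiniteType f₂›
  have := Groth.Agent.KFlat.Pull.hasLpull w₂
  subst hab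
  intro K₂ _ hK₂
  obtain ⟨e⟩ := hK₂
  have := Groth.Agent.PCohD.RelPCIndep.isLE_Lpull pX₁ (DCoh.toD X₁ E₁) b₁
  have := Groth.Agent.PCohD.RelPCIndep.isLE_Lpull pX₂ (DCoh.toD X₂ E₂) b₂
  have := Groth.Agent.PCohD.RelPCIndep.isLE_of_iso e.symm b₂
  have hle := Groth.Agent.PCohD.RelPCIndep.isLE_LTensor K₂ (b := b₂) (c := b₁)
    ((DCoh.Lpull pX₁).obj (DCoh.toD X₁ E₁))
  refine ⟨?_, hle⟩
  by_cases h1 : a₁ ≤ b₁
  · have : Flat w₁ := MorphismProperty.of_isPullback (P := @Flat) hW.flip ‹Flat (f₂ ≫ q₂)›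
    exact Groth.Agent.PCohD.RelPCIndep.rel_external_at pX₁ pX₂ w₂ a b ha₂ E₁ E₂ K₂ e h1 hq₁ hq₂
      (b₁ := b₁) (b₂ := b₂)
      (Groth.Agent.PCohD.RelPCIndep.rel_flatBC_sq_at hA E₁ (d := b₁) hq₁ hpc₁)
      (Groth.Agent.PCohD.RelPCIndep.rel_indepBC_at hB hY.flip E₂ (d := b₂) hq₂ hpc₂)
      _ (le_max_left _ _) (le_trans (by omega) (le_max_right _ _))
  · exact Groth.Agent.PCohD.RelPCIndep.rel_of_isLE (n := b₁ + b₂) (lt_max_of_lt_left (by omega))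

end Groth.Agent.S6259
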