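import Groth.Statements.S6260
import Groth.Agent.PCohD.NPCProd

set_option autoImplicit false
universe u
open CategoryTheory CategoryTheory.Limits AlgebraicGeometry
attribute [local instance] HasDerivedCategory.standard
open KSix

namespace Groth.Agent.S6260

/-- Let S be a scheme and, for i = 1, 2, f_i : X_i ⟶ Y_i a morphism of S-schemes (structure morphisms
q_i : Y_i ⟶ S), with X₂ and Y₂ flat over S; let X = X₁ ×_S X₂ and Y = Y₁ ×_S Y₂ be given by pullback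
squares, with projections p₁ : X ⟶ X₁, p₂ : X ⟶ X₂, and f : X ⟶ Y the morphism compatible with the
projections. If f₁ and f₂ are locally of finite type and pseudo-coherent (their structure sheaves in
degree 0 are n-pseudo-coherent relative to them for every n, in chart form), then f = f₁ ×_S f₂ is
pseudo-coherent. (The published statement assumes only that X₁, X₂ and Y₁, Y₂ are tor-independent
over S; this row takes X₂ and Y₂ flat over S, which implies both conditions.) -/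
theorem result {S X₁ Y₁ X₂ Y₂ X Y : Scheme.{u}} (f₁ : X₁ ⟶ Y₁) (q₁ : Y₁ ⟶ S)
    (f₂ : X₂ ⟶ Y₂) (q₂ : Y₂ ⟶ S) [Flat q₂] [Flat (f₂ ≫ q₂)]
    (pX₁ : X ⟶ X₁) (pX₂ : X ⟶ X₂) (hX : IsPullback pX₁ pX₂ (f₁ ≫ q₁) (f₂ ≫ q₂))
    (pY₁ : Y ⟶ Y₁) (pY₂ : Y ⟶ Y₂) (hY : IsPullback pY₁ pY₂ q₁ q₂)
    (f : X ⟶ Y) (hf₁ : f ≫ pY₁ = pX₁ ≫ f₁) (hf₂ : f ≫ pY₂ = pX₂ ≫ f₂)
    [LocallyOfFiniteType f₁] [LocallyOfFiniteType f₂]
    (h₁ : ∀ n : ℤ, DerSch.IsNPseudoCoherent f₁ n) (h₂ : ∀ n : ℤ, DerSch.IsNPseudoCoherent f₂ n) (n : ℤ) :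
    DerSch.IsNPseudoCoherent f n := by
  haveI : LocallyOfFiniteType f := by
    let a : X ⟶ pullback q₁ (f₂ ≫ q₂) := pullback.lift (pX₁ ≫ f₁) pX₂ (by rw [Category.assoc, hX.w])
    let b : pullback q₁ (f₂ ≫ q₂) ⟶ Y := hY.lift (pullback.fst _ _) (pullback.snd _ _ ≫ f₂)
      (by rw [Category.assoc, pullback.condition])
    have ha : IsPullback pX₁ a f₁ (pullback.fst q₁ (f₂ ≫ q₂)) := by
      refine IsPullback.of_bot ?_ (pullback.lift_fst _ _ _).symm (IsPullback.of_hasPullback q₁ (f₂ ≫ q₂))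
      rw [pullback.lift_snd]; exact hX
    have hb : IsPullback (pullback.snd q₁ (f₂ ≫ q₂)) b f₂ pY₂ := by
      refine IsPullback.of_bot ?_ (hY.lift_snd _ _ _).symm hY.flip
      rw [hY.lift_fst]; exact (IsPullback.of_hasPullback q₁ (f₂ ≫ q₂)).flip
    have hfab : f = a ≫ b := hY.hom_ext
      (by rw [hf₁, Category.assoc, hY.lift_fst, pullback.lift_fst])
      (by rw [hf₂, Category.assoc, hY.lift_snd, pullback.lift_snd_assoc])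
    haveI : LocallyOfFiniteType a := MorphismProperty.of_isPullback ha inferInstance
    haveI : LocallyOfFiniteType b := MorphismProperty.of_isPullback hb inferInstance
    rw [hfab]; infer_instance
  refine PCohD.npc_of_cover _ fun x => ?_
  obtain ⟨S₀, hS₀, hxS₀, -⟩ := exists_isAffineOpen_mem_and_subset
    (x := q₁ (f₁ (pX₁ x))) (U := ⊤) trivial
  obtain ⟨V₁, hV₁, hxV₁, eV₁⟩ := exists_isAffineOpen_mem_and_subset (x := f₁ (pX₁ x)) (U := q₁ ⁻¹ᵁ S₀) hxS₀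
  obtain ⟨U₁, hU₁, hxU₁, eU₁⟩ := exists_isAffineOpen_mem_and_subset (x := pX₁ x) (U := f₁ ⁻¹ᵁ V₁) hxV₁
  have hxS₀' : q₂ (f₂ (pX₂ x)) ∈ S₀ := by
    have := congrArg (fun k : X ⟶ S => k x) hX.w
    simp only [Scheme.Hom.comp_apply] at this
    rwa [← this]
  obtain ⟨V₂, hV₂, hxV₂, eV₂⟩ := exists_isAffineOpen_mem_and_subset (x := f₂ (pX₂ x)) (U := q₂ ⁻¹ᵁ S₀) hxS₀'
  obtain ⟨U₂, hU₂, hxU₂, eU₂⟩ := exists_isAffineOpen_mem_and_subset (x := pX₂ x) (U := f₂ ⁻¹ᵁ V₂) hxV₂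
  have : IsAffine _ := hS₀
  have : IsAffine _ := hV₁
  have : IsAffine _ := hU₁
  have : IsAffine _ := hV₂
  have : IsAffine _ := hU₂
  let WY : Y.Opens := pY₁ ⁻¹ᵁ V₁ ⊓ pY₂ ⁻¹ᵁ V₂
  let WX : X.Opens := pX₁ ⁻¹ᵁ U₁ ⊓ pX₂ ⁻¹ᵁ U₂
  have e₁ : U₁ ≤ (f₁ ≫ q₁) ⁻¹ᵁ S₀ := fun z hz => eV₁ (eU₁ hz)
  have e₂ : U₂ ≤ (f₂ ≫ q₂) ⁻¹ᵁ S₀ := fun z hz => eV₂ (eU₂ hz)
  have hWY : IsAffineOpen WY := .of_isIso (Scheme.Hom.isPullback_resLE hY (UY := WY) eV₂ eV₁ rfl).isoPullback.hom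
  have hWX : IsAffineOpen WX := .of_isIso (Scheme.Hom.isPullback_resLE hX (UY := WX) e₂ e₁ rfl).isoPullback.hom
  have hpY := (isIso_pushoutSection_iff hY eV₂ eV₁ (UY := WY) rfl).mp
    (isIso_pushoutSection_of_isAffineOpen hY eV₂ eV₁ rfl hS₀ hV₂ hV₁)
  have hpX := (isIso_pushoutSection_iff hX e₂ e₁ (UY := WX) rfl).mp
    (isIso_pushoutSection_of_isAffineOpen hX e₂ e₁ rfl hS₀ hU₂ hU₁)
  have hW : WX ≤ f ⁻¹ᵁ WY := fun z hz => by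
    refine ⟨?_, ?_⟩
    · show (f ≫ pY₁) z ∈ V₁
      rw [hf₁]; exact eU₁ hz.1
    · show (f ≫ pY₂) z ∈ V₂
      rw [hf₂]; exact eU₂ hz.2
  refine ⟨⟨WX, hWX⟩, ⟨WY, hWY⟩, hW, ⟨hxU₁, hxU₂⟩, ?_⟩
  have hd₁ := fun m => (PCohD.npc_iff f₁).1 (h₁ m) ⟨U₁, hU₁⟩ ⟨V₁, hV₁⟩ eU₁
  have hd₂ := fun m => (PCohD.npc_iff f₂).1 (h₂ m) ⟨U₂, hU₂⟩ ⟨V₂, hV₂⟩ eU₂
  let _ := (q₁.appLE S₀ V₁ eV₁).hom.toAlgebra
  let _ := (q₂.appLE S₀ V₂ eV₂).hom.toAlgebra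
  let _ := ((f₁ ≫ q₁).appLE S₀ U₁ e₁).hom.toAlgebra
  let _ := ((f₂ ≫ q₂).appLE S₀ U₂ e₂).hom.toAlgebra
  let _ := (f₁.appLE V₁ U₁ eU₁).hom.toAlgebra
  let _ := (f₂.appLE V₂ U₂ eU₂).hom.toAlgebra
  let _ := (pY₁.appLE V₁ WY inf_le_left).hom.toAlgebra
  let _ := (pY₂.appLE V₂ WY inf_le_right).hom.toAlgebra
  let _ := (pX₁.appLE U₁ WX inf_le_left).hom.toAlgebra
  let _ := (pX₂.appLE U₂ WX inf_le_right).hom.toAlgebra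
  let _ := (f.appLE WY WX hW).hom.toAlgebra
  let _ : Algebra Γ(S, S₀) Γ(Y, WY) :=
    ((algebraMap Γ(Y₁, V₁) Γ(Y, WY)).comp (algebraMap Γ(S, S₀) Γ(Y₁, V₁))).toAlgebra
  let _ : Algebra Γ(S, S₀) Γ(X, WX) :=
    ((algebraMap Γ(X₁, U₁) Γ(X, WX)).comp (algebraMap Γ(S, S₀) Γ(X₁, U₁))).toAlgebra
  have : IsScalarTower Γ(S, S₀) Γ(Y₁, V₁) Γ(Y, WY) := .of_algebraMap_eq fun _ => rfl
  have : IsScalarTower Γ(S, S₀) Γ(X₁, U₁) Γ(X, WX) := .of_algebraMap_eq fun _ => rfl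
  have : IsScalarTower Γ(S, S₀) Γ(Y₂, V₂) Γ(Y, WY) :=
    .of_algebraMap_eq' (congrArg CommRingCat.Hom.hom hpY.w)
  have : IsScalarTower Γ(S, S₀) Γ(X₂, U₂) Γ(X, WX) :=
    .of_algebraMap_eq' (congrArg CommRingCat.Hom.hom hpX.w)
  have : Algebra.IsPushout Γ(S, S₀) Γ(Y₁, V₁) Γ(Y₂, V₂) Γ(Y, WY) := CommRingCat.isPushout_iff_isPushout.mp hpY
  have : Algebra.IsPushout Γ(S, S₀) Γ(X₁, U₁) Γ(X₂, U₂) Γ(X, WX) := CommRingCat.isPushout_iff_isPushout.mp hpX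
  have : IsScalarTower Γ(S, S₀) Γ(Y₁, V₁) Γ(X₁, U₁) := .of_algebraMap_eq' (congrArg CommRingCat.Hom.hom
    (Scheme.Hom.appLE_comp_appLE f₁ q₁ S₀ V₁ U₁ eV₁ eU₁).symm)
  have : IsScalarTower Γ(S, S₀) Γ(Y₂, V₂) Γ(X₂, U₂) := .of_algebraMap_eq' (congrArg CommRingCat.Hom.hom
    (Scheme.Hom.appLE_comp_appLE f₂ q₂ S₀ V₂ U₂ eV₂ eU₂).symm)
  have : Algebra.FiniteType Γ(Y₁, V₁) Γ(X₁, U₁) :=
    HasRingHomProperty.appLE @LocallyOfFiniteType f₁ ‹_› ⟨V₁, hV₁⟩ ⟨U₁, hU₁⟩ eU₁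
  have : Algebra.FiniteType Γ(Y₂, V₂) Γ(X₂, U₂) :=
    HasRingHomProperty.appLE @LocallyOfFiniteType f₂ ‹_› ⟨V₂, hV₂⟩ ⟨U₂, hU₂⟩ eU₂
  have : Module.Flat Γ(S, S₀) Γ(Y₂, V₂) := HasRingHomProperty.appLE @Flat q₂ ‹_› ⟨S₀, hS₀⟩ ⟨V₂, hV₂⟩ eV₂
  have : Module.Flat Γ(S, S₀) Γ(X₂, U₂) :=
    HasRingHomProperty.appLE @Flat (f₂ ≫ q₂) ‹_› ⟨S₀, hS₀⟩ ⟨U₂, hU₂⟩ e₂
  refine PCohD.rel_prod (R := Γ(S, S₀)) (A₁ := Γ(Y₁, V₁)) (A₂ := Γ(Y₂, V₂)) (B₁ := Γ(X₁, U₁))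
    (B₂ := Γ(X₂, U₂)) (fun a => ?_) (fun a => ?_) hd₁ hd₂ n
  · exact ConcreteCategory.congr_hom (show pY₁.appLE V₁ WY inf_le_left ≫ f.appLE WY WX hW =
      f₁.appLE V₁ U₁ eU₁ ≫ pX₁.appLE U₁ WX inf_le_left by
        simp only [Scheme.Hom.appLE_comp_appLE, hf₁]) a
  · exact ConcreteCategory.congr_hom (show pY₂.appLE V₂ WY inf_le_right ≫ f.appLE WY WX hW =
      f₂.appLE V₂ U₂ eU₂ ≫ pX₂.appLE U₂ WX inf_le_right by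
        simp only [Scheme.Hom.appLE_comp_appLE, hf₂]) a

end Groth.Agent.S6260
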