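import Groth.Statements.S6261
import Groth.Agent.PCohD.RelPCIndepBC
import Groth.Agent.S6258
-- import your own Groth.Agent.* helpers here

set_option autoImplicit false
universe u
open CategoryTheory CategoryTheory.Limits AlgebraicGeometry
attribute [local instance] HasDerivedCategory.standard
open KSix

namespace Groth.Agent.S6261

/-- Flat first factor: let S be a scheme and, for i = 1, 2, f_i : X_i ⟶ Y_i a morphism of S-schemes
(structure morphisms q_i : Y_i ⟶ S), with X₁ and Y₁ flat over S; let X = X₁ ×_S X₂ and Y = Y₁ ×_S Y₂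
be given by pullback squares, with projections p₁ : X ⟶ X₁, p₂ : X ⟶ X₂, and f : X ⟶ Y the morphism
compatible with the projections; assume f₁ and f₂ locally of finite type. Let E₁ be a cochain
complex of O_{X₁}-modules with perfect amplitude in [a₁, b₁] relative to f₁ (pseudo-coherent
relative to f₁ in chart form and of stalkwise tor amplitude in [a₁, b₁] over the local rings of Y₁),
and E₂ ∈ D(O_{X₂}), given by a cochain complex, pseudo-coherent relative to f₂ and acyclic outside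
[a₂, b₂]. The external derived tensor product E₁ ⊗^L_S E₂ = Lp₁^* E₁ ⊗^L Lp₂^* E₂ is written, the
derived pullbacks being assumed to exist, as Lp₁^* E₁ ⊗^L K₂ for any cochain complex K₂ representing
Lp₂^* E₂ for which the derived tensor product exists. Then E₁ ⊗^L_S E₂ is pseudo-coherent relative
to f and acyclic outside [a₁ + a₂, b₁ + b₂]. (The published statement assumes only that X₁, X₂ and
Y₁, Y₂ are tor-independent over S; as for the acyclicity statement it rests on, that is not enough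
for the lower bound: over the spectrum S of a discrete valuation ring with closed point s, X₁ = Y₁ =
s with E₁ the structure sheaf and X₂ = Y₂ = S with E₂ the residue field at s in degree 0 satisfy
every hypothesis with [a_i, b_i] = [0, 0], yet the external product has nonzero cohomology in degree
-1. This row takes X₁ and Y₁ flat over S.) -/
theorem result {S X₁ Y₁ X₂ Y₂ X Y : Scheme.{u}} (f₁ : X₁ ⟶ Y₁) (q₁ : Y₁ ⟶ S)
    (f₂ : X₂ ⟶ Y₂) (q₂ : Y₂ ⟶ S) [Flat q₁] [Flat (f₁ ≫ q₁)]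
    (pX₁ : X ⟶ X₁) (pX₂ : X ⟶ X₂) (hX : IsPullback pX₁ pX₂ (f₁ ≫ q₁) (f₂ ≫ q₂))
    (pY₁ : Y ⟶ Y₁) (pY₂ : Y ⟶ Y₂) (hY : IsPullback pY₁ pY₂ q₁ q₂)
    (f : X ⟶ Y) (hf₁ : f ≫ pY₁ = pX₁ ≫ f₁) (hf₂ : f ≫ pY₂ = pX₂ ≫ f₂)
    [LocallyOfFiniteType f₁] [LocallyOfFiniteType f₂]
    (E₁ : CochainComplex X₁.Modules ℤ) (a₁ b₁ : ℤ) (h₁ : DerSch.HasPerfAmplitudeRel f₁ a₁ b₁ E₁)
    (E₂ : CochainComplex X₂.Modules ℤ) (a₂ b₂ : ℤ) (h₂ : DerSch.IsPseudoCoherentRelAll f₂ (DCoh.toD X₂ E₂))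
    [(DCoh.toD X₂ E₂).IsGE a₂] [(DCoh.toD X₂ E₂).IsLE b₂] [DCoh.HasLpull pX₁] [DCoh.HasLpull pX₂] :
    ∀ (K₂ : CochainComplex X.Modules ℤ) [DCoh.HasLTensorCx K₂],
      Nonempty (DCoh.toD X K₂ ≅ (DCoh.Lpull pX₂).obj (DCoh.toD X₂ E₂)) →
        DerSch.IsPseudoCoherentRelAll f ((DCoh.LTensorCx K₂).obj ((DCoh.Lpull pX₁).obj (DCoh.toD X₁ E₁))) ∧
          (((DCoh.LTensorCx K₂).obj ((DCoh.Lpull pX₁).obj (DCoh.toD X₁ E₁)))).IsGE (a₁ + a₂) ∧ (((DCoh.LTensorCx K₂).obj ((DCoh.Lpull pX₁).obj (DCoh.toD X₁ E₁)))).IsLE (b₁ + b₂) := by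
  let W := pullback q₁ (f₂ ≫ q₂)
  let w₁ : W ⟶ Y₁ := pullback.fst q₁ (f₂ ≫ q₂)
  let w₂ : W ⟶ X₂ := pullback.snd q₁ (f₂ ≫ q₂)
  have hW : IsPullback w₁ w₂ q₁ (f₂ ≫ q₂) := IsPullback.of_hasPullback _ _
  let a : X ⟶ W := hW.lift (pX₁ ≫ f₁) pX₂ (by rw [Category.assoc, hX.w])
  have ha₁ : a ≫ w₁ = pX₁ ≫ f₁ := hW.lift_fst _ _ _
  have ha₂ : a ≫ w₂ = pX₂ := hW.lift_snd _ _ _
  have hA : IsPullback pX₁ a f₁ w₁ :=
    (IsPullback.of_right (h₁₂ := w₂) (h₂₂ := q₁) (v₁₃ := f₂ ≫ q₂)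
      (by rw [ha₂]; exact hX.flip) ha₁ hW.flip).flip
  let b : W ⟶ Y := hY.lift w₁ (w₂ ≫ f₂) (by rw [Category.assoc, hW.w])
  have hb₁ : b ≫ pY₁ = w₁ := hY.lift_fst _ _ _
  have hb₂ : b ≫ pY₂ = w₂ ≫ f₂ := hY.lift_snd _ _ _
  have hB : IsPullback w₂ b f₂ pY₂ :=
    (IsPullback.of_right (h₁₂ := pY₁) (h₂₂ := q₂) (v₁₃ := q₁)
      (by rw [hb₁]; exact hW) hb₂ hY).flip
  have hab : a ≫ b = f := hY.hom_ext (by rw [Category.assoc, hb₁, ha₁, hf₁])
    (by rw [Category.assoc, hb₂, reassoc_of% ha₂, hf₂])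
  have : LocallyOfFiniteType a := MorphismProperty.of_isPullback (P := @LocallyOfFiniteType) hA ‹LocallyOfFiniteType f₁›
  have : LocallyOfFiniteType b := MorphismProperty.of_isPullback (P := @LocallyOfFiniteType) hB ‹LocallyOfFiniteType f₂›
  have := Groth.Agent.KFlat.Pull.hasLpull w₂
  intro K₂ _ hK₂
  refine ⟨?_, Groth.Agent.S6258.result f₁ q₁ f₂ q₂ pX₁ pX₂ hX pY₁ pY₂ hY f hf₁ hf₂ E₁ a₁ b₁ h₁.2 E₂ a₂ b₂ K₂ hK₂⟩
  obtain ⟨e⟩ := hK₂
  subst hab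
  have : Flat pY₂ := MorphismProperty.of_isPullback (P := @Flat) hY ‹Flat q₁›
  exact Groth.Agent.PCohD.RelPCIndep.rel_external pX₁ pX₂ w₂ a b ha₂ E₁ E₂ K₂ e
    (Groth.Agent.PCohD.RelPCIndep.rel_indepBC hA hW E₁ h₁.1)
    (Groth.Agent.PCohD.RelPCIndep.rel_flatBC_sq hB E₂ h₂)

end Groth.Agent.S6261
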