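import Groth.Statements.S6265
import Mathlib
-- import your own Groth.Agent.* helpers here

set_option autoImplicit false
universe u
open CAlg

namespace Groth.Agent.S6265

/-- Let R → S be a ring map with the going-down property such that over every prime of R lies at most
one prime of S, and let p be a prime of R and q a prime of S above it. Then the localization S_p of
S at the image of R - p is a localization of S at q, i.e. S_p = S_q. -/
theorem result {R S : Type u} [CommRing R] [CommRing S] [Algebra R S] [Algebra.HasGoingDown R S] (hinj : ∀ q₁ q₂ : Ideal S, q₁.IsPrime → q₂.IsPrime → q₁.under R = q₂.under R → q₁ = q₂) (p : Ideal R) [p.IsPrime] (q : Ideal S) [q.IsPrime] [q.LiesOver p] : IsLocalization.AtPrime (Localization (Algebra.algebraMapSubmonoid S p.primeCompl)) q := by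
  refine IsLocalization.of_le_of_exists_dvd (Algebra.algebraMapSubmonoid S p.primeCompl) q.primeCompl ?_ ?_
  · rintro _ ⟨r, hr, rfl⟩ hq
    exact hr ((q.over_def p).symm ▸ hq)
  · intro s hs
    by_contra! hcon
    have hdisj : Disjoint ((Ideal.span {s} : Ideal S) : Set S) (Algebra.algebraMapSubmonoid S p.primeCompl : Set S) :=
      Set.disjoint_left.mpr fun x hx hxT => hcon x hxT (Ideal.mem_span_singleton.mp hx)
    obtain ⟨Q, hQ, hsQ, hQd⟩ := Ideal.exists_le_prime_disjoint _ _ hdisj
    have hle : Q.under R ≤ p := fun r hr => by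
      by_contra hrp
      exact Set.disjoint_left.mp hQd hr ⟨r, hrp, rfl⟩
    obtain ⟨Q', hQ'q, hQ'p, hQ'o⟩ := Ideal.exists_ideal_le_liesOver_of_le (q := p) q hle
    exact hs (hQ'q ((hinj Q Q' hQ hQ'p hQ'o.over) ▸ hsQ (Ideal.mem_span_singleton_self s)))

end Groth.Agent.S6265
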