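import Groth.Statements.S6267
import Mathlib
-- import your own Groth.Agent.* helpers here

set_option autoImplicit false
universe u
open CAlg

namespace Groth.Agent.S6267

section
open TensorProduct

variable {R : Type u} [CommRing R] {M M' : Type u} [AddCommGroup M] [Module R M] [AddCommGroup M'] [Module R M']
variable (f : M →ₗ[R] M')

theorem key_quot (I : Ideal R) :
    Function.Injective (f.rTensor (R ⧸ I)) ↔ ∀ m : M, f m ∈ I • (⊤ : Submodule R M') → m ∈ I • (⊤ : Submodule R M) := by
  have hz : ∀ (N : Type u) [AddCommGroup N] [Module R N] (n : N), n ⊗ₜ[R] (1 : R ⧸ I) = 0 ↔ n ∈ I • (⊤ : Submodule R N) := by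
    intro N _ _ n
    rw [← TensorProduct.tensorQuotEquivQuotSMul_symm_mk I n, LinearEquiv.map_eq_zero_iff, Submodule.Quotient.mk_eq_zero]
  rw [injective_iff_map_eq_zero]
  constructor
  · intro h m hm
    exact (hz M m).mp (h _ (by rw [LinearMap.rTensor_tmul]; exact (hz M' _).mpr hm))
  · intro h z hz0
    obtain ⟨w, rfl⟩ := (TensorProduct.tensorQuotEquivQuotSMul M I).symm.surjective z
    obtain ⟨m, rfl⟩ := Submodule.Quotient.mk_surjective _ w
    rw [TensorProduct.tensorQuotEquivQuotSMul_symm_mk] at hz0 ⊢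
    rw [LinearMap.rTensor_tmul] at hz0
    exact (hz M m).mpr (h m ((hz M' _).mp hz0))

theorem quot_of_fg (h : ∀ I : Ideal R, I.FG → Function.Injective (f.rTensor (R ⧸ I))) (I : Ideal R) :
    Function.Injective (f.rTensor (R ⧸ I)) := by
  rw [key_quot]
  intro m hm
  have : ∃ J : Ideal R, J.FG ∧ J ≤ I ∧ f m ∈ J • (⊤ : Submodule R M') := by
    refine Submodule.smul_induction_on hm (fun r hr n _ => ⟨Ideal.span {r}, Submodule.fg_span_singleton r,
      by simpa [Ideal.span_le] using hr, Submodule.smul_mem_smul (Ideal.mem_span_singleton_self r) trivial⟩) ?_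
    rintro x y ⟨J, hJ, hJI, hx⟩ ⟨K, hK, hKI, hy⟩
    exact ⟨J ⊔ K, Submodule.FG.sup hJ hK, sup_le hJI hKI, add_mem (Submodule.smul_mono_left le_sup_left hx) (Submodule.smul_mono_left le_sup_right hy)⟩
  obtain ⟨J, hJ, hJI, hx⟩ := this
  exact Submodule.smul_mono_left hJI ((key_quot f J).mp (h J hJ) m hx)

variable [Module.Flat R M']

theorem ext_closed {Q₁ Q₂ Q₃ : Type u} [AddCommGroup Q₁] [Module R Q₁] [AddCommGroup Q₂] [Module R Q₂]
    [AddCommGroup Q₃] [Module R Q₃] (i : Q₁ →ₗ[R] Q₂) (p : Q₂ →ₗ[R] Q₃) (hi : Function.Injective i)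
    (hp : Function.Surjective p) (he : Function.Exact i p)
    (h₁ : Function.Injective (f.rTensor Q₁)) (h₃ : Function.Injective (f.rTensor Q₃)) :
    Function.Injective (f.rTensor Q₂) := by
  rw [injective_iff_map_eq_zero]
  intro z hz
  have h := h₃ (a₁ := p.lTensor M z) (a₂ := 0) (by
    rw [map_zero, ← LinearMap.comp_apply, LinearMap.rTensor_comp_lTensor, ← LinearMap.lTensor_comp_rTensor,
      LinearMap.comp_apply, hz, map_zero])
  obtain ⟨y, rfl⟩ := (lTensor_exact M he hp z).mp h
  rw [← LinearMap.comp_apply, LinearMap.rTensor_comp_lTensor, ← LinearMap.lTensor_comp_rTensor, LinearMap.comp_apply] at hz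
  have hy : f.rTensor Q₁ y = 0 := Module.Flat.lTensor_preserves_injective_linearMap i hi (by rw [hz, map_zero])
  rw [h₁ (hy.trans (map_zero _).symm), map_zero]

theorem of_finite (h : ∀ I : Ideal R, Function.Injective (f.rTensor (R ⧸ I))) :
    ∀ (n : ℕ) (Q : Type u) [AddCommGroup Q] [Module R Q] (s : Fin n → Q),
      Submodule.span R (Set.range s) = ⊤ → Function.Injective (f.rTensor Q) := by
  intro n
  induction n with
  | zero =>
    intro Q _ _ s hs
    have : Subsingleton Q := by
      rw [← Submodule.subsingleton_iff R]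
      exact subsingleton_of_bot_eq_top (by rw [← hs, Set.range_eq_empty s, Submodule.span_empty])
    exact Function.injective_of_subsingleton _
  | succ n ih =>
    intro Q _ _ s hs
    let t : R →ₗ[R] Q := LinearMap.toSpanSingleton R Q (s 0)
    refine ext_closed f ((LinearMap.ker t).liftQ t le_rfl) (LinearMap.range t).mkQ
      (LinearMap.ker_eq_bot.mp (Submodule.ker_liftQ_eq_bot _ _ _ le_rfl)) (Submodule.mkQ_surjective _) ?_
      (h (LinearMap.ker t)) (ih _ (fun i => (LinearMap.range t).mkQ (s i.succ)) ?_)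
    · rw [LinearMap.exact_iff, Submodule.ker_mkQ, Submodule.range_liftQ]
    · refine top_le_iff.mp fun q _ => ?_
      obtain ⟨q, rfl⟩ := Submodule.mkQ_surjective _ q
      have hq : q ∈ Submodule.span R (Set.range s) := hs ▸ Submodule.mem_top
      obtain ⟨c, rfl⟩ := (Submodule.mem_span_range_iff_exists_fun R).mp hq
      rw [Fin.sum_univ_succ, map_add, map_sum, show (LinearMap.range t).mkQ (c 0 • s 0) = 0 from (Submodule.Quotient.mk_eq_zero _).mpr ⟨c 0, rfl⟩, zero_add]
      exact Submodule.sum_mem _ fun i _ => by rw [map_smul]; exact Submodule.smul_mem _ _ (Submodule.subset_span ⟨i, rfl⟩)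

end

/-- Let R be a ring and f : M → M' a map of R-modules with M' flat. Then f is universally injective
exactly when, for each finitely generated ideal I of R, the induced map M ⊗ R/I → M' ⊗ R/I (that is,
M/IM → M'/IM') is injective. -/
theorem result {R : Type u} [CommRing R] {M M' : Type u} [AddCommGroup M] [Module R M] [AddCommGroup M'] [Module R M'] [Module.Flat R M'] (f : M →ₗ[R] M') : CAlgX.UniversallyInjective R f ↔ ∀ I : Ideal R, I.FG → Function.Injective (f.rTensor (R ⧸ I)) := by
  refine ⟨fun hf I _ => hf (R ⧸ I), fun h Q _ _ => ?_⟩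
  rw [injective_iff_map_eq_zero]
  intro z hz
  obtain ⟨N, hN, hzN⟩ := TensorProduct.exists_finite_submodule_right_of_setFinite {z} (Set.finite_singleton z)
  obtain ⟨y, rfl⟩ := hzN (Set.mem_singleton z)
  obtain ⟨n, s, hs⟩ := Module.Finite.exists_fin (R := R) (M := N)
  rw [← LinearMap.comp_apply, LinearMap.rTensor_comp_lTensor, ← LinearMap.lTensor_comp_rTensor, LinearMap.comp_apply] at hz
  have hy : f.rTensor N y = 0 := Module.Flat.lTensor_preserves_injective_linearMap N.subtype N.injective_subtype (by rw [hz, map_zero])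
  rw [of_finite f (quot_of_fg f h) n N s hs (hy.trans (map_zero _).symm), map_zero]

end Groth.Agent.S6267
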