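import Groth.Statements.S6268
import Mathlib
-- import your own Groth.Agent.* helpers here

set_option autoImplicit false
universe u
open CAlg

namespace Groth.Agent.S6268

/-- Suppose the structure map R → S of an R-algebra S is universally injective as an R-linear map. Then
tensoring with S detects injectivity and surjectivity of R-linear maps (and hence reflects
isomorphisms): for an R-linear g : M → N, if S ⊗ g is injective then so is g, and if S ⊗ g is
surjective then so is g. -/
theorem result {R S : Type u} [CommRing R] [CommRing S] [Algebra R S] (hS : CAlgX.UniversallyInjective R (Algebra.linearMap R S)) {M N : Type u} [AddCommGroup M] [Module R M] [AddCommGroup N] [Module R N] (g : M →ₗ[R] N) : (Function.Injective (g.lTensor S) → Function.Injective g) ∧ (Function.Surjective (g.lTensor S) → Function.Surjective g) := by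
  have key : ∀ (Q : Type u) [AddCommGroup Q] [Module R Q], Function.Injective (TensorProduct.mk R S Q 1) := by
    intro Q _ _
    have h := (hS Q).comp (TensorProduct.lid R Q).symm.injective
    convert h using 1
    ext q
    simp
  constructor
  · intro hg x y hxy
    exact key M (hg (by simp [hxy]))
  · intro hg
    rw [← LinearMap.range_eq_top, ← Submodule.Quotient.subsingleton_iff]
    refine ⟨fun a b => key _ ?_⟩
    have hs : Function.Surjective ((LinearMap.range g).mkQ.lTensor S) := LinearMap.lTensor_surjective S (Submodule.mkQ_surjective _)
    have hz : ∀ w : TensorProduct R S (N ⧸ LinearMap.range g), w = 0 := by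
      intro w
      obtain ⟨v, rfl⟩ := hs w
      obtain ⟨z, rfl⟩ := hg v
      rw [← LinearMap.comp_apply, ← LinearMap.lTensor_comp, LinearMap.range_mkQ_comp, LinearMap.lTensor_zero, LinearMap.zero_apply]
    rw [hz (TensorProduct.mk R S _ 1 a), hz (TensorProduct.mk R S _ 1 b)]

end Groth.Agent.S6268
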