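import Groth.Statements.S6271
import Mathlib
import Groth.Agent.CAlg76.LiftProj
-- import your own Groth.Agent.* helpers here

set_option autoImplicit false
universe u
open scoped TensorProduct
open CAlg

namespace Groth.Agent.S6271

/-- Let R be a ring, I ⊆ R a locally nilpotent ideal (every element of I is nilpotent) and P̄ a finite
projective R/I-module. Then there is a finite projective R-module P such that P/IP (that is, R/I ⊗
P) is isomorphic to P̄ as an R/I-module. -/
theorem result {R : Type u} [CommRing R] (I : Ideal R) (hI : ∀ x ∈ I, IsNilpotent x) (Pb : Type u) [AddCommGroup Pb] [Module (R ⧸ I) Pb] [Module.Projective (R ⧸ I) Pb] [Module.Finite (R ⧸ I) Pb] : ∃ (P : Type u) (_ : AddCommGroup P) (_ : Module R P), Module.Projective R P ∧ Module.Finite R P ∧ Nonempty (((R ⧸ I) ⊗[R] P) ≃ₗ[R ⧸ I] Pb) := by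
  classical
  let C := R ⧸ I
  let q : R →+* C := Ideal.Quotient.mk I
  let instR : Module R Pb := Module.compHom Pb q
  have : IsScalarTower R C Pb := ⟨fun r c x => by
    show (r • c) • x = q r • (c • x)
    rw [Algebra.smul_def, mul_smul]; rfl⟩
  obtain ⟨n, π, hπ⟩ := Module.Finite.exists_fin' C Pb
  obtain ⟨s, hs⟩ := Module.projective_lifting_property π LinearMap.id hπ
  have hs' : ∀ y, π (s y) = y := LinearMap.congr_fun hs
  let m : Matrix (Fin n) (Fin n) C := LinearMap.toMatrix' (s ∘ₗ π)
  have hm : m * m = m := by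
    rw [← LinearMap.toMatrix'_comp]
    congr 1
    exact LinearMap.ext fun v => congrArg s (hs' (π v))
  obtain ⟨e, he, hem⟩ := Groth.Agent.CAlg76.LiftProj.exists_idempotent_matrix_of_nil q Ideal.Quotient.mk_surjective
    (fun x hx => hI x (Ideal.Quotient.eq_zero_iff_mem.mp hx)) m hm
  let E : (Fin n → R) →ₗ[R] (Fin n → R) := Matrix.toLin' e
  have hEE : ∀ v, E (E v) = E v := fun v => by
    simp only [E, Matrix.toLin'_apply, Matrix.mulVec_mulVec, he]
  let P := LinearMap.range E
  let ρ : (Fin n → R) →ₗ[R] P := E.rangeRestrict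
  have hρ : ρ ∘ₗ P.subtype = LinearMap.id := LinearMap.ext fun x => Subtype.ext (by
    obtain ⟨v, hv⟩ := x.2
    show E x = x
    rw [← hv, hEE])
  have hbar : ∀ (v : Fin n → R), (fun i => q (E v i)) = s (π fun i => q (v i)) := by
    intro v
    funext i
    rw [show s (π fun i => q (v i)) = m.mulVec (fun i => q (v i)) by
      rw [← Matrix.toLin'_apply, Matrix.toLin'_toMatrix']; rfl]
    rw [← hem, show E v i = e.mulVec v i from rfl, Matrix.mulVec, Matrix.mulVec, dotProduct, dotProduct, map_sum]
    simp only [map_mul, Matrix.map_apply]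
  let red : (Fin n → R) →ₗ[R] (Fin n → C) := (Algebra.linearMap R C).compLeft (Fin n)
  let α : TensorProduct R C P →ₗ[C] Pb := LinearMap.liftBaseChange C ((π.restrictScalars R) ∘ₗ red ∘ₗ P.subtype)
  let Ei : Fin n → P := fun i => ρ (Pi.single i 1)
  let β : Pb →ₗ[C] TensorProduct R C P :=
    ∑ i, LinearMap.smulRight ((LinearMap.proj i : (Fin n → C) →ₗ[C] C) ∘ₗ s) ((1 : C) ⊗ₜ[R] Ei i)
  have hsum : ∀ v : Fin n → R, ρ v = ∑ i, v i • Ei i := fun v => by
    conv_lhs => rw [pi_eq_sum_univ' v]
    simp [Ei]
  have hαβ : α ∘ₗ β = LinearMap.id := by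
    refine LinearMap.ext fun y => ?_
    simp only [α, β, LinearMap.comp_apply, LinearMap.sum_apply, LinearMap.smulRight_apply, map_sum, map_smul,
      LinearMap.liftBaseChange_tmul, one_smul, LinearMap.id_apply]
    calc _ = ∑ i, s y i • π (fun j => q (E (Pi.single i 1) j)) := rfl
      _ = ∑ i, s y i • π (Pi.single i (1 : C)) := by
          refine Finset.sum_congr rfl fun i _ => ?_
          rw [hbar, hs']
          congr 2
          funext j
          rw [← Pi.map_apply (fun _ => q) (Pi.single i (1 : R)) j]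
          simp [Pi.map_apply, Pi.single_apply, apply_ite q]
      _ = π (∑ i, s y i • Pi.single i (1 : C)) := by simp only [map_sum, map_smul]
      _ = y := by rw [← pi_eq_sum_univ', hs']
  have hβα : β ∘ₗ α = LinearMap.id := by
    refine TensorProduct.AlgebraTensorModule.curry_injective (LinearMap.ext_ring (LinearMap.ext fun x => ?_))
    show β (α ((1 : C) ⊗ₜ[R] x)) = (1 : C) ⊗ₜ[R] x
    simp only [α, LinearMap.liftBaseChange_tmul, one_smul]
    obtain ⟨v, hv⟩ := x.2
    have h : s (π fun i => q ((x : Fin n → R) i)) = fun i => q ((x : Fin n → R) i) := by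
      rw [← hbar, ← hv, hEE]
    calc _ = ∑ i, s (π fun i => q ((x : Fin n → R) i)) i • ((1 : C) ⊗ₜ[R] Ei i) := by
          simp only [β, LinearMap.sum_apply]; rfl
      _ = ∑ i, (1 : C) ⊗ₜ[R] ((x : Fin n → R) i • Ei i) := by
          rw [h]
          refine Finset.sum_congr rfl fun i _ => ?_
          rw [TensorProduct.tmul_smul, TensorProduct.smul_tmul', TensorProduct.smul_tmul', smul_eq_mul, mul_one, ← Algebra.algebraMap_eq_smul_one]
          rfl
      _ = (1 : C) ⊗ₜ[R] x := by
          rw [← TensorProduct.tmul_sum, ← hsum]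
          exact congrArg _ (LinearMap.congr_fun hρ x)
  exact ⟨P, inferInstance, inferInstance, Module.Projective.of_split P.subtype ρ hρ,
    inferInstance, ⟨LinearEquiv.ofLinear α β hαβ hβα⟩⟩

end Groth.Agent.S6271
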