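import Groth.Statements.S6272
import Mathlib
-- import your own Groth.Agent.* helpers here

set_option autoImplicit false
universe u
open scoped TensorProduct
open CAlg

namespace Groth.Agent.S6272

open scoped TensorProduct

/-- Lifting along surjections of modules killed by `I`. -/
lemma exists_lift {R : Type u} [CommRing R] (I : Ideal R) {P X Y : Type u} [AddCommGroup P] [Module R P]
    [AddCommGroup X] [Module R X] [AddCommGroup Y] [Module R Y]
    (hproj : Module.Projective (R ⧸ I) ((R ⧸ I) ⊗[R] P))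
    (hX : ∀ a ∈ I, ∀ x : X, a • x = 0) (hY : ∀ a ∈ I, ∀ y : Y, a • y = 0)
    (f : X →ₗ[R] Y) (hf : Function.Surjective f) (h : P →ₗ[R] Y) :
    ∃ l : P →ₗ[R] X, f ∘ₗ l = h := by
  have hX' : Module.IsTorsionBySet R X I := fun x a => hX a.1 a.2 x
  have hY' : Module.IsTorsionBySet R Y I := fun y a => hY a.1 a.2 y
  let _ := hX'.module
  let _ := hY'.module
  have : IsScalarTower R (R ⧸ I) X := hX'.isScalarTower (S := R)
  have : IsScalarTower R (R ⧸ I) Y := hY'.isScalarTower (S := R)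
  let f' : X →ₗ[R ⧸ I] Y := LinearMap.extendScalarsOfSurjective Ideal.Quotient.mk_surjective f
  obtain ⟨l, hl⟩ := Module.projective_lifting_property f' (LinearMap.liftBaseChange (R ⧸ I) h) hf
  refine ⟨(l.restrictScalars R) ∘ₗ TensorProduct.mk R (R ⧸ I) P 1, LinearMap.ext fun p => ?_⟩
  exact (LinearMap.congr_fun hl ((1 : R ⧸ I) ⊗ₜ[R] p)).trans (by simp)

/-- The abstract form. -/
lemma projective_of_cap {R : Type u} [CommRing R] (I J : Ideal R) {F P : Type u} [AddCommGroup F]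
    [Module R F] [Module.Projective R F] [AddCommGroup P] [Module R P] (π : F →ₗ[R] P)
    (hπ : Function.Surjective π) (hIJ : I * J = ⊥)
    (hcap : I • (⊤ : Submodule R F) ⊓ J • ⊤ = ⊥)
    (hI : Module.Projective (R ⧸ I) ((R ⧸ I) ⊗[R] P))
    (hJ : Module.Projective (R ⧸ J) ((R ⧸ J) ⊗[R] P)) : Module.Projective R P := by
  let FI : Submodule R F := I • ⊤
  let FJ : Submodule R F := J • ⊤
  let PI : Submodule R P := I • ⊤
  let PJ : Submodule R P := J • ⊤
  have hmapI : FI.map π = PI := by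
    rw [Submodule.map_smul'', Submodule.map_top, LinearMap.range_eq_top.mpr hπ]
  have hmapJ : FJ.map π = PJ := by
    rw [Submodule.map_smul'', Submodule.map_top, LinearMap.range_eq_top.mpr hπ]
  let πI : F ⧸ FI →ₗ[R] P ⧸ PI := FI.mapQ PI π (Submodule.map_le_iff_le_comap.mp hmapI.le)
  let πJ : F ⧸ FJ →ₗ[R] P ⧸ PJ := FJ.mapQ PJ π (Submodule.map_le_iff_le_comap.mp hmapJ.le)
  let πS : F ⧸ (FI ⊔ FJ) →ₗ[R] P ⧸ (PI ⊔ PJ) := (FI ⊔ FJ).mapQ (PI ⊔ PJ) π
    (Submodule.map_le_iff_le_comap.mp (le_of_eq (by rw [Submodule.map_sup, hmapI, hmapJ])))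
  have hkill : ∀ {M : Type u} [AddCommGroup M] [Module R M] (N : Submodule R M) (K : Ideal R),
      K • (⊤ : Submodule R M) ≤ N → ∀ a ∈ K, ∀ x : M ⧸ N, a • x = 0 := fun N K hK a ha x => by
    obtain ⟨y, rfl⟩ := N.mkQ_surjective x
    rw [← map_smul, Submodule.mkQ_apply, Submodule.Quotient.mk_eq_zero]
    exact hK (Submodule.smul_mem_smul ha trivial)
  obtain ⟨s1, hs1⟩ := exists_lift I hI (hkill FI I le_rfl) (hkill PI I le_rfl) πI
    (fun y => by
      obtain ⟨p, rfl⟩ := PI.mkQ_surjective y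
      obtain ⟨v, rfl⟩ := hπ p
      exact ⟨FI.mkQ v, rfl⟩) PI.mkQ
  obtain ⟨s2, hs2⟩ := exists_lift J hJ (hkill FJ J le_rfl) (hkill PJ J le_rfl) πJ
    (fun y => by
      obtain ⟨p, rfl⟩ := PJ.mkQ_surjective y
      obtain ⟨v, rfl⟩ := hπ p
      exact ⟨FJ.mkQ v, rfl⟩) PJ.mkQ
  let aI : F ⧸ FI →ₗ[R] F ⧸ (FI ⊔ FJ) := Submodule.factor le_sup_left
  let aJ : F ⧸ FJ →ₗ[R] F ⧸ (FI ⊔ FJ) := Submodule.factor le_sup_right
  let X := LinearMap.ker πI
  let Y := LinearMap.ker πS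
  have hSI : ∀ u, πS (aI u) = Submodule.factor (le_sup_left : PI ≤ PI ⊔ PJ) (πI u) := fun u => by
    obtain ⟨v, rfl⟩ := FI.mkQ_surjective u
    rfl
  have hSJ : ∀ u, πS (aJ u) = Submodule.factor (le_sup_right : PJ ≤ PI ⊔ PJ) (πJ u) := fun u => by
    obtain ⟨v, rfl⟩ := FJ.mkQ_surjective u
    rfl
  have hd : ∀ p, (aI ∘ₗ s1 - aJ ∘ₗ s2) p ∈ Y := fun p => by
    rw [LinearMap.mem_ker, LinearMap.sub_apply, map_sub, LinearMap.comp_apply, LinearMap.comp_apply, hSI, hSJ,
      show πI (s1 p) = PI.mkQ p from LinearMap.congr_fun hs1 p,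
      show πJ (s2 p) = PJ.mkQ p from LinearMap.congr_fun hs2 p]
    exact sub_self _
  let f : X →ₗ[R] Y := LinearMap.codRestrict Y (aI ∘ₗ X.subtype) fun u => by
    rw [LinearMap.mem_ker, LinearMap.comp_apply, hSI, Submodule.subtype_apply,
      LinearMap.mem_ker.mp u.2, map_zero]
  have hf : Function.Surjective f := by
    rintro ⟨y, hy⟩
    obtain ⟨v, rfl⟩ := (FI ⊔ FJ).mkQ_surjective y
    have hy' : π v ∈ PI ⊔ PJ := (Submodule.Quotient.mk_eq_zero _).mp (LinearMap.mem_ker.mp hy)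
    obtain ⟨a, ha, b, hb, hab⟩ := Submodule.mem_sup.mp hy'
    obtain ⟨w, hw, rfl⟩ := hmapJ.ge hb
    refine ⟨⟨FI.mkQ (v - w), LinearMap.mem_ker.mpr ((Submodule.Quotient.mk_eq_zero _).mpr ?_)⟩, Subtype.ext ?_⟩
    · rw [map_sub, ← hab, add_sub_cancel_right]
      exact ha
    · refine (Submodule.Quotient.eq (FI ⊔ FJ)).mpr ?_
      rw [LinearMap.id_apply, sub_sub_cancel_left]
      exact neg_mem (Submodule.mem_sup_right hw)
  obtain ⟨e, he⟩ := exists_lift I hI
    (fun a ha x => Subtype.ext (hkill FI I le_rfl a ha x.1))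
    (fun a ha y => Subtype.ext (hkill (FI ⊔ FJ) I le_sup_left a ha y.1))
    f hf (LinearMap.codRestrict Y (aI ∘ₗ s1 - aJ ∘ₗ s2) hd)
  let t1 : P →ₗ[R] F ⧸ FI := s1 - X.subtype ∘ₗ e
  have ht1 : ∀ p, πI (t1 p) = PI.mkQ p := fun p => by
    show πI (s1 p - (e p).1) = _
    rw [map_sub, LinearMap.mem_ker.mp (e p).2, sub_zero]
    exact LinearMap.congr_fun hs1 p
  let G : F →ₗ[R] (F ⧸ FI) × (F ⧸ FJ) := FI.mkQ.prod FJ.mkQ
  have hGi : Function.Injective G := by
    rw [← LinearMap.ker_eq_bot, LinearMap.ker_prod, Submodule.ker_mkQ, Submodule.ker_mkQ]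
    exact hcap
  have hrange : ∀ p, (t1 p, s2 p) ∈ LinearMap.range G := fun p => by
    obtain ⟨v, hv⟩ := FI.mkQ_surjective (t1 p)
    obtain ⟨w, hw⟩ := FJ.mkQ_surjective (s2 p)
    have h1 : aI (t1 p) = aJ (s2 p) := by
      have h2 : aI (e p).1 = aI (s1 p) - aJ (s2 p) := congrArg Subtype.val (LinearMap.congr_fun he p)
      show aI (s1 p - (e p).1) = _
      rw [map_sub, h2, sub_sub_cancel]
    rw [← hv, ← hw] at h1
    obtain ⟨a, ha, b, hb, hab⟩ := Submodule.mem_sup.mp ((Submodule.Quotient.eq (FI ⊔ FJ)).mp h1)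
    refine ⟨v - a, Prod.ext ?_ ?_⟩
    · show FI.mkQ (v - a) = t1 p
      rw [map_sub, hv, show FI.mkQ a = 0 from (Submodule.Quotient.mk_eq_zero _).mpr ha, sub_zero]
    · show FJ.mkQ (v - a) = s2 p
      rw [← hw]
      refine (Submodule.Quotient.eq FJ).mpr ?_
      have h3 : v - a - w = b := by
        simp only [LinearMap.id_apply] at hab
        rw [sub_right_comm, ← hab]
        abel
      rw [h3]
      exact hb
  let s : P →ₗ[R] F := (LinearEquiv.ofInjective G hGi).symm.toLinearMap ∘ₗ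
    LinearMap.codRestrict (LinearMap.range G) (t1.prod s2) hrange
  have hs : ∀ p, G (s p) = (t1 p, s2 p) := fun p => congrArg Subtype.val
    ((LinearEquiv.ofInjective G hGi).apply_symm_apply ⟨(t1 p, s2 p), hrange p⟩)
  let φ : P →ₗ[R] P := π ∘ₗ s - LinearMap.id
  have hφ : ∀ p, φ p ∈ PI ⊓ PJ := fun p => by
    have h1 : FI.mkQ (s p) = t1 p := congrArg Prod.fst (hs p)
    have h2 : FJ.mkQ (s p) = s2 p := congrArg Prod.snd (hs p)
    refine ⟨(Submodule.Quotient.eq PI).mp ?_, (Submodule.Quotient.eq PJ).mp ?_⟩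
    · exact ((congrArg πI h1).trans (ht1 p))
    · exact ((congrArg πJ h2).trans (LinearMap.congr_fun hs2 p))
  have hφ2 : ∀ p, φ (φ p) = 0 := fun p => by
    have h1 : φ (φ p) ∈ I • (J • (⊤ : Submodule R P)) := by
      refine (smul_mono_right I ?_ : I • (⊤ : Submodule R P).map φ ≤ I • (J • ⊤)) ?_
      · rintro _ ⟨q, -, rfl⟩
        exact (hφ q).2
      · rw [← Submodule.map_smul'']
        exact Submodule.mem_map_of_mem (hφ p).1
    rwa [← Submodule.mul_smul, hIJ, Submodule.bot_smul, Submodule.mem_bot] at h1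
  refine Module.Projective.of_split (s ∘ₗ (LinearMap.id - φ)) π (LinearMap.ext fun p => ?_)
  show π (s (p - φ p)) = p
  have h3 : π (s (p - φ p)) = φ (p - φ p) + (p - φ p) := by simp [φ]
  rw [h3, map_sub, hφ2, sub_zero, add_sub_cancel]

/-- Over a ring R, take two ideals I and J meeting in zero (I ∩ J = 0) and an R-module P. If the
R/I-module P/IP (that is, R/I ⊗ P) and the R/J-module P/JP (that is, R/J ⊗ P) are both projective,
then P itself is projective over R. -/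
theorem result {R : Type u} [CommRing R] (I J : Ideal R) (hIJ : I ⊓ J = ⊥) (P : Type u) [AddCommGroup P] [Module R P] (hI : Module.Projective (R ⧸ I) ((R ⧸ I) ⊗[R] P)) (hJ : Module.Projective (R ⧸ J) ((R ⧸ J) ⊗[R] P)) : Module.Projective R P := by
  have hmem : ∀ (K : Ideal R) (v : P →₀ R), v ∈ K • (⊤ : Submodule R (P →₀ R)) → ∀ i, v i ∈ K := by
    intro K v hv i
    have h1 := Submodule.mem_map_of_mem (f := (Finsupp.lapply i : (P →₀ R) →ₗ[R] R)) hv
    rw [Submodule.map_smul''] at h1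
    have h2 : v i ∈ K • (⊤ : Submodule R R) := (smul_mono_right K le_top : _ ≤ K • (⊤ : Submodule R R)) h1
    rwa [Ideal.smul_eq_mul, Ideal.mul_top] at h2
  refine projective_of_cap I J (Finsupp.linearCombination R (id : P → P))
    (Finsupp.linearCombination_surjective R Function.surjective_id) ?_ ?_ hI hJ
  · exact le_bot_iff.mp (Ideal.mul_le_inf.trans hIJ.le)
  · rw [eq_bot_iff]
    rintro v ⟨h1, h2⟩
    refine (Submodule.mem_bot R).mpr (Finsupp.ext fun i => ?_)
    exact (Submodule.mem_bot R).mp (hIJ.le ⟨hmem I v h1 i, hmem J v h2 i⟩)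

end Groth.Agent.S6272
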