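import Groth.Statements.S6273
import Mathlib
-- import your own Groth.Agent.* helpers here

set_option autoImplicit false
universe u
open CAlg

namespace Groth.Agent.S6273

/-- Let R be a ring, S ⊆ R a multiplicative subset and A = S⁻¹R. If the image of Spec(A) → Spec(R) is
closed, then the localization map R → A is surjective; in particular A is isomorphic to R/I for the
ideal I = ker(R → A). -/
theorem result {R : Type u} [CommRing R] (S : Submonoid R) (A : Type u) [CommRing A] [Algebra R A] [IsLocalization S A] (hcl : IsClosed (Set.range (PrimeSpectrum.comap (algebraMap R A)))) : Function.Surjective (algebraMap R A) := by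
  classical
  obtain ⟨I, hI⟩ := (PrimeSpectrum.isClosed_iff_zeroLocus_ideal _).mp hcl
  intro a
  obtain ⟨r, s, rfl⟩ := IsLocalization.exists_mk'_eq S a
  suffices h : ∃ c : R, algebraMap R A ((s : R) * c - 1) = 0 by
    obtain ⟨c, hc⟩ := h
    refine ⟨r * c, (IsLocalization.mk'_eq_iff_eq_mul.mpr ?_).symm⟩
    rw [map_sub, map_mul, map_one, sub_eq_zero] at hc
    rw [map_mul, mul_assoc, mul_comm (algebraMap R A c), hc, mul_one]
  suffices h : Ideal.span {(s : R)} ⊔ RingHom.ker (algebraMap R A) = ⊤ by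
    rw [Ideal.eq_top_iff_one, Submodule.mem_sup] at h
    obtain ⟨y, hy, z, hz, hyz⟩ := h
    obtain ⟨c, rfl⟩ := Ideal.mem_span_singleton.mp hy
    refine ⟨c, ?_⟩
    rw [RingHom.mem_ker] at hz
    rw [← hyz, map_sub, map_add, hz]; ring
  by_contra hne
  obtain ⟨m, hm, hle⟩ := Ideal.exists_le_maximal _ hne
  have hdisj : Disjoint ((⊥ : Ideal R) : Set R) ((S ⊔ m.primeCompl : Submonoid R) : Set R) := by
    rw [Set.disjoint_left]
    rintro _ rfl h0
    obtain ⟨t, ht, v, hv, htv⟩ := Submonoid.mem_sup.mp h0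
    exact hv (hle (Ideal.mem_sup_right ((IsLocalization.map_eq_zero_iff S A v).mpr ⟨⟨t, ht⟩, htv⟩)))
  obtain ⟨P, hPp, -, hP⟩ := Ideal.exists_le_prime_disjoint _ _ hdisj
  have hPm : P ≤ m := fun z hz => by
    by_contra hzm
    exact Set.disjoint_left.mp hP hz (Submonoid.mem_sup_right hzm)
  have hPr : (⟨P, hPp⟩ : PrimeSpectrum R) ∈ Set.range (PrimeSpectrum.comap (algebraMap R A)) := by
    rw [PrimeSpectrum.localization_comap_range A S]
    exact hP.mono_right (fun z hz => Submonoid.mem_sup_left hz) |>.symm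
  rw [hI, PrimeSpectrum.mem_zeroLocus, SetLike.coe_subset_coe] at hPr
  have hmr : (⟨m, hm.isPrime⟩ : PrimeSpectrum R) ∈ Set.range (PrimeSpectrum.comap (algebraMap R A)) := by
    rw [hI, PrimeSpectrum.mem_zeroLocus, SetLike.coe_subset_coe]; exact hPr.trans hPm
  rw [PrimeSpectrum.localization_comap_range A S] at hmr
  exact Set.disjoint_left.mp hmr s.2 (hle (Ideal.mem_sup_left (Ideal.mem_span_singleton_self _)))

end Groth.Agent.S6273
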