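import Groth.Statements.S6274
import Mathlib
-- import your own Groth.Agent.* helpers here

set_option autoImplicit false
universe u
open CAlg

namespace Groth.Agent.S6274

/-- Let R be a ring, S ⊆ R a multiplicative subset and A = S⁻¹R, and assume the image of Spec(A) →
Spec(R) is closed. If Spec(R) is a Noetherian topological space (which holds when R is Noetherian)
or S is finitely generated as a monoid, then R is isomorphic to A × R' for some ring R', by an
isomorphism whose first component is the localization map R → A. -/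
theorem result {R : Type u} [CommRing R] (S : Submonoid R) (A : Type u) [CommRing A] [Algebra R A] [IsLocalization S A] (hcl : IsClosed (Set.range (PrimeSpectrum.comap (algebraMap R A)))) (h : TopologicalSpace.NoetherianSpace (PrimeSpectrum R) ∨ S.FG) : ∃ (R' : Type u) (_ : CommRing R') (e : R ≃+* A × R'), ∀ x : R, (e x).1 = algebraMap R A x := by
  classical
  have hrange := PrimeSpectrum.localization_comap_range A S
  let U : Set (PrimeSpectrum R) := (Set.range (PrimeSpectrum.comap (algebraMap R A)))ᶜ
  have hUopen : IsOpen U := hcl.isOpen_compl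
  have hspec : ∀ x y : PrimeSpectrum R, x ≤ y → x ∈ U → y ∈ U := by
    intro x y hxy hx hy
    apply hx
    rw [hrange] at hy ⊢
    exact Set.disjoint_of_subset_right (SetLike.coe_subset_coe.mpr hxy) hy
  have hUclosed : IsClosed U := by
    rcases h with hN | hfg
    · have hfin : (minimalPrimes R).Finite := by
        rw [← PrimeSpectrum.vanishingIdeal_irreducibleComponents]
        exact TopologicalSpace.NoetherianSpace.finite_irreducibleComponents.image _
      have : U = ⋃ P ∈ {P ∈ minimalPrimes R | ∃ x ∈ U, x.asIdeal = P}, PrimeSpectrum.zeroLocus (P : Set R) := by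
        ext y
        simp only [Set.mem_iUnion, PrimeSpectrum.mem_zeroLocus, SetLike.coe_subset_coe]
        constructor
        · intro hy
          obtain ⟨P, hP, hPy⟩ := Ideal.exists_minimalPrimes_le (I := ⊥) (J := y.asIdeal) bot_le
          have hPy' : (⟨P, hP.1.1⟩ : PrimeSpectrum R) ⤳ y := (PrimeSpectrum.le_iff_specializes _ _).mp hPy
          exact ⟨P, ⟨hP, ⟨P, hP.1.1⟩, hPy'.mem_open hUopen hy, rfl⟩, hPy⟩
        · rintro ⟨P, ⟨-, x, hx, rfl⟩, hxy⟩
          exact hspec x y hxy hx
      rw [this]
      exact (hfin.subset (fun P hP => hP.1)).isClosed_biUnion fun P _ => PrimeSpectrum.isClosed_zeroLocus _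
    · obtain ⟨T, hT⟩ := hfg
      have : U = (PrimeSpectrum.basicOpen (∏ t ∈ T, t) : Set (PrimeSpectrum R))ᶜ := by
        simp only [U]
        congr 1
        rw [hrange]
        ext x
        simp only [Set.mem_setOf_eq, SetLike.mem_coe, PrimeSpectrum.mem_basicOpen]
        constructor
        · intro hd hm
          obtain ⟨t, ht, htx⟩ := x.2.prod_mem_iff.mp hm
          exact Set.disjoint_left.mp hd (hT ▸ Submonoid.subset_closure ht) htx
        · intro hm
          rw [Set.disjoint_left]
          intro s hs hsx
          have hle : Submonoid.closure (T : Set R) ≤ x.asIdeal.primeCompl := Submonoid.closure_le.mpr fun t ht htx =>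
            hm (Ideal.mem_of_dvd _ (Finset.dvd_prod_of_mem _ ht) htx)
          exact hle (hT.symm ▸ hs) hsx
      rw [this]
      exact (PrimeSpectrum.basicOpen _).2.isClosed_compl
  obtain ⟨e, he, heq⟩ := PrimeSpectrum.exists_idempotent_basicOpen_eq_of_isClopen
    (⟨hcl, by rw [← isClosed_compl_iff]; exact hUclosed⟩ : IsClopen (Set.range (PrimeSpectrum.comap (algebraMap R A))))
  have he1 : algebraMap R A e = 1 := by
    have hu : IsUnit (algebraMap R A e) := by
      by_contra hn
      obtain ⟨m, hm, hem⟩ := exists_max_ideal_of_mem_nonunits hn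
      have : PrimeSpectrum.comap (algebraMap R A) ⟨m, hm.isPrime⟩ ∈ (PrimeSpectrum.basicOpen e : Set (PrimeSpectrum R)) := heq ▸ Set.mem_range_self _
      exact this hem
    have h2 := congrArg (algebraMap R A) he.eq
    rw [map_mul] at h2
    exact hu.mul_eq_left.mp h2
  have hker : ∀ x, algebraMap R A x = 0 → e * x = 0 := by
    intro x hx
    obtain ⟨⟨s, hs⟩, hsx⟩ := (IsLocalization.map_eq_zero_iff S A x).mp hx
    have hsub : (PrimeSpectrum.basicOpen e : Set (PrimeSpectrum R)) ⊆ PrimeSpectrum.basicOpen s := by
      rw [← heq, hrange]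
      intro y hy
      exact Set.disjoint_left.mp hy hs
    have h3 : e ∈ (Ideal.span {s}).radical := (PrimeSpectrum.basicOpen_le_basicOpen_iff e s).mp hsub
    obtain ⟨n, hn⟩ := h3
    obtain ⟨c, hc⟩ := Ideal.mem_span_singleton.mp hn
    cases n with
    | zero => rw [pow_zero] at hc; linear_combination e * x * hc + e * c * hsx
    | succ n => rw [he.pow_succ_eq] at hc; linear_combination x * hc + c * hsx
  have hsurj : Function.Surjective (algebraMap R A) := by
    intro a
    obtain ⟨r, s, rfl⟩ := IsLocalization.exists_mk'_eq S a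
    have hsub : (PrimeSpectrum.basicOpen e : Set (PrimeSpectrum R)) ⊆ PrimeSpectrum.basicOpen (s : R) := by
      rw [← heq, hrange]
      intro y hy
      exact Set.disjoint_left.mp hy s.2
    obtain ⟨n, hn⟩ := (PrimeSpectrum.basicOpen_le_basicOpen_iff e (s : R)).mp hsub
    obtain ⟨c, hc⟩ := Ideal.mem_span_singleton.mp hn
    refine ⟨r * c, (IsLocalization.mk'_eq_iff_eq_mul.mpr ?_).symm⟩
    have := congrArg (algebraMap R A) hc
    rw [map_pow, he1, one_pow, map_mul] at this
    rw [map_mul]
    linear_combination (algebraMap R A r) * this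
  let Φ : R →+* A × (R ⧸ Ideal.span {e}) := (algebraMap R A).prod (Ideal.Quotient.mk _)
  have hΦ : Function.Bijective Φ := by
    constructor
    · rw [injective_iff_map_eq_zero]
      intro x hx
      obtain ⟨h1, h2⟩ := Prod.ext_iff.mp hx
      obtain ⟨w, rfl⟩ := Ideal.mem_span_singleton.mp (Ideal.Quotient.eq_zero_iff_mem.mp h2)
      have := hker _ h1
      rwa [← mul_assoc, he.eq] at this
    · rintro ⟨a, b⟩
      obtain ⟨r, rfl⟩ := hsurj a
      obtain ⟨b, rfl⟩ := Ideal.Quotient.mk_surjective b
      refine ⟨e * r + (1 - e) * b, Prod.ext ?_ ?_⟩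
      · change algebraMap R A _ = _
        simp [he1]
      · change Ideal.Quotient.mk _ _ = Ideal.Quotient.mk _ _
        rw [Ideal.Quotient.eq]
        exact Ideal.mem_span_singleton.mpr ⟨r - b, by ring⟩
  exact ⟨R ⧸ Ideal.span {e}, inferInstance, RingEquiv.ofBijective Φ hΦ, fun x => rfl⟩

end Groth.Agent.S6274
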