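import Groth.Statements.S6275
import Mathlib
-- import your own Groth.Agent.* helpers here

set_option autoImplicit false
universe u
open CAlg

namespace Groth.Agent.S6275

/-- Let R be a Noetherian ring and p ⊆ R a prime. Then there is f ∈ R, f ∉ p, such that R_f → R_p is
injective; equivalently every x ∈ R mapping to zero in R_p maps to zero in R_f. (The cases of a
domain and of a reduced ring with finitely many minimal primes are not included here.) -/
theorem result {R : Type u} [CommRing R] [IsNoetherianRing R] (p : Ideal R) [p.IsPrime] : ∃ f : R, f ∉ p ∧ ∀ x : R, algebraMap R (Localization.AtPrime p) x = 0 → algebraMap R (Localization.Away f) x = 0 := by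
  classical
  obtain ⟨s, hs⟩ := IsNoetherian.noetherian (RingHom.ker (algebraMap R (Localization.AtPrime p)))
  have h : ∀ x ∈ s, ∃ t : R, t ∉ p ∧ t * x = 0 := by
    intro x hx
    have : x ∈ RingHom.ker (algebraMap R (Localization.AtPrime p)) := hs ▸ Submodule.subset_span hx
    obtain ⟨c, hc⟩ := (IsLocalization.map_eq_zero_iff p.primeCompl _ x).mp this
    exact ⟨c, c.2, hc⟩
  choose t ht ht' using h
  refine ⟨∏ x ∈ s.attach, t x.1 x.2, ?_, ?_⟩
  · intro hmem
    obtain ⟨x, -, hx⟩ := (Ideal.IsPrime.prod_mem_iff (p := p)).mp hmem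
    exact ht _ _ hx
  · intro x hx
    refine (IsLocalization.map_eq_zero_iff (Submonoid.powers (∏ x ∈ s.attach, t x.1 x.2)) _ x).mpr ⟨⟨_, 1, rfl⟩, ?_⟩
    simp only [pow_one]
    have hx' : x ∈ Ideal.span (s : Set R) := by rw [show Ideal.span (s : Set R) = _ from hs]; exact hx
    induction hx' using Submodule.span_induction with
    | mem y hy =>
      rw [← Finset.prod_erase_mul _ _ (Finset.mem_attach s ⟨y, hy⟩), mul_assoc, ht' y hy, mul_zero]
    | zero => simp
    | add a b _ _ ha hb =>
      simp only [mul_add]
      simp_all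
    | smul a b _ hb => rw [smul_eq_mul, mul_left_comm]; simp_all

end Groth.Agent.S6275
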