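import Groth.Statements.S6281
import Mathlib
-- import your own Groth.Agent.* helpers here

set_option autoImplicit false
universe u
open CAlg

namespace Groth.Agent.S6281

/-- For an R-algebra S and an S-module M, flatness of S over R follows once M is both flat over R and
faithfully flat over S. -/
theorem result {R S : Type u} [CommRing R] [CommRing S] [Algebra R S] (M : Type u) [AddCommGroup M] [Module S M] [Module R M] [IsScalarTower R S M] [Module.Flat R M] [Module.FaithfullyFlat S M] : Module.Flat R S := by
  rw [Module.Flat.iff_lTensor_injective']
  intro I
  let j : TensorProduct R S I →ₗ[S] TensorProduct R S R := TensorProduct.AlgebraTensorModule.lTensor S S I.subtype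
  suffices h : Function.Injective (j.lTensor M) from
    (Module.FaithfullyFlat.lTensor_injective_iff_injective S M j).mp h
  let e₁ := TensorProduct.AlgebraTensorModule.cancelBaseChange R S S M I
  let e₂ := TensorProduct.AlgebraTensorModule.cancelBaseChange R S S M R
  have hc : ∀ z, e₂ (j.lTensor M z) = I.subtype.lTensor M (e₁ z) := by
    intro z
    induction z using TensorProduct.induction_on with
    | zero => simp
    | tmul m w =>
      induction w using TensorProduct.induction_on with
      | zero => simp
      | tmul s x => simp [e₁, e₂, j]
      | add a b ha hb => simp only [TensorProduct.tmul_add, map_add, ha, hb]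
    | add a b ha hb => simp only [map_add, ha, hb]
  intro a b hab
  apply e₁.injective
  apply Module.Flat.lTensor_preserves_injective_linearMap (M := M) _ I.injective_subtype
  rw [← hc, ← hc, hab]

end Groth.Agent.S6281
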