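import Groth.Statements.S6282
import Mathlib
-- import your own Groth.Agent.* helpers here

set_option autoImplicit false
universe u
open scoped TensorProduct
open CAlg

namespace Groth.Agent.S6282

/-- Let S → S' be a homomorphism of R-algebras, M an S-module, and M' = S' ⊗_S M with its induced
R-module structure. (1) When S' is flat over S, R-flatness of M passes to M'. (2) When S' is
faithfully flat over S, M is R-flat exactly when M' is. -/
theorem result {R S S' : Type u} [CommRing R] [CommRing S] [CommRing S'] [Algebra R S] [Algebra R S'] [Algebra S S'] [IsScalarTower R S S'] (M : Type u) [AddCommGroup M] [Module S M] [Module R M] [IsScalarTower R S M] : ([Module.Flat S S'] → Module.Flat R M → Module.Flat R (S' ⊗[S] M)) ∧ ([Module.FaithfullyFlat S S'] → (Module.Flat R M ↔ Module.Flat R (S' ⊗[S] M))) := by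
  classical
  have key : ∀ (I : Ideal R), ∀ z, I.subtype.lTensor (S' ⊗[S] M) z =
      (TensorProduct.AlgebraTensorModule.assoc R S S S' M R).symm ((TensorProduct.AlgebraTensorModule.lTensor S M I.subtype).lTensor S' (TensorProduct.AlgebraTensorModule.assoc R S S S' M I z)) := by
    intro I z
    induction z using TensorProduct.induction_on with
    | zero => simp
    | tmul a b =>
      induction a using TensorProduct.induction_on with
      | zero => simp
      | tmul s m => simp
      | add a a' ha ha' => simp only [TensorProduct.add_tmul, map_add, ha, ha']
    | add a b ha hb => simp only [map_add, ha, hb]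
  have iff1 : ∀ (I : Ideal R), Function.Injective (I.subtype.lTensor (S' ⊗[S] M)) ↔
      Function.Injective ((TensorProduct.AlgebraTensorModule.lTensor S M I.subtype).lTensor S') := by
    intro I
    constructor
    · intro h a b hab
      apply (TensorProduct.AlgebraTensorModule.assoc R S S S' M I).symm.injective
      apply h
      rw [key, key, LinearEquiv.apply_symm_apply, LinearEquiv.apply_symm_apply, hab]
    · intro h a b hab
      rw [key, key] at hab
      exact (TensorProduct.AlgebraTensorModule.assoc R S S S' M I).injective (h ((TensorProduct.AlgebraTensorModule.assoc R S S S' M R).symm.injective hab))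
  refine ⟨fun {_} hM => ?_, fun {_} => ⟨fun hM => ?_, fun hM => ?_⟩⟩
  · rw [Module.Flat.iff_lTensor_injective']
    exact fun I => (iff1 I).mpr (Module.Flat.lTensor_preserves_injective_linearMap _
      (Module.Flat.lTensor_preserves_injective_linearMap (M := M) _ I.injective_subtype))
  · rw [Module.Flat.iff_lTensor_injective']
    exact fun I => (iff1 I).mpr (Module.Flat.lTensor_preserves_injective_linearMap _
      (Module.Flat.lTensor_preserves_injective_linearMap (M := M) _ I.injective_subtype))
  · rw [Module.Flat.iff_lTensor_injective']
    intro I
    exact (Module.FaithfullyFlat.lTensor_injective_iff_injective S S' _).mp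
      ((iff1 I).mp (Module.Flat.lTensor_preserves_injective_linearMap _ I.injective_subtype))

end Groth.Agent.S6282
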