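import Groth.Statements.S6283
import Mathlib
-- import your own Groth.Agent.* helpers here

set_option autoImplicit false
universe u
open scoped TensorProduct
open CAlg

namespace Groth.Agent.S6283

/-- Let R → S be a flat ring map, M an R-module and m ∈ M. Then Ann_R(m)S = Ann_S(1 ⊗ m), the
annihilator in S of the element 1 ⊗ m of S ⊗_R M. If moreover M is a finite R-module then Ann_R(M)S
= Ann_S(S ⊗_R M). -/
theorem result {R S : Type u} [CommRing R] [CommRing S] [Algebra R S] [Module.Flat R S] (M : Type u) [AddCommGroup M] [Module R M] : (∀ m : M, ((Submodule.span R {m}).annihilator).map (algebraMap R S) = (Submodule.span S {(1 : S) ⊗ₜ[R] m}).annihilator) ∧ (Module.Finite R M → (Module.annihilator R M).map (algebraMap R S) = Module.annihilator S (S ⊗[R] M)) := by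
  have key : ∀ {N : Type u} [AddCommGroup N] [Module R N] (g : R →ₗ[R] N) (s : S),
      g.lTensor S (s ⊗ₜ[R] (1 : R)) = 0 → s ∈ Ideal.map (algebraMap R S) (LinearMap.ker g) := by
    intro N _ _ g s hs
    obtain ⟨w, hw⟩ := (Module.Flat.lTensor_exact S (LinearMap.exact_subtype_ker_map g) _).mp hs
    have : ∀ w : S ⊗[R] LinearMap.ker g,
        TensorProduct.rid R S ((LinearMap.ker g).subtype.lTensor S w) ∈ Ideal.map (algebraMap R S) (LinearMap.ker g) := by
      intro w
      induction w using TensorProduct.induction_on with
      | zero => simp
      | tmul a b =>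
        simp only [LinearMap.lTensor_tmul, Submodule.coe_subtype, TensorProduct.rid_tmul, Algebra.smul_def]
        exact Ideal.mul_mem_right _ _ (Ideal.mem_map_of_mem _ b.2)
      | add x y hx hy => simp only [map_add]; exact add_mem hx hy
    have h2 := this w
    rw [hw] at h2
    simpa using h2
  constructor
  · intro m
    refine le_antisymm (Ideal.map_le_iff_le_comap.mpr fun r hr => ?_) fun s hs => ?_
    · rw [Submodule.mem_annihilator_span_singleton] at hr
      rw [Ideal.mem_comap, Submodule.mem_annihilator_span_singleton, algebraMap_smul, ← TensorProduct.tmul_smul, hr, TensorProduct.tmul_zero]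
    · rw [Submodule.mem_annihilator_span_singleton, TensorProduct.smul_tmul', smul_eq_mul, mul_one] at hs
      have := key (LinearMap.toSpanSingleton R M m) s (by simpa using hs)
      refine Ideal.map_mono (fun r hr => ?_) this
      rw [Submodule.mem_annihilator_span_singleton]
      simpa using hr
  · intro hfin
    refine le_antisymm (Ideal.map_le_iff_le_comap.mpr fun r hr => ?_) fun s hs => ?_
    · rw [Ideal.mem_comap, Module.mem_annihilator]
      intro w
      induction w using TensorProduct.induction_on with
      | zero => simp
      | tmul a b => rw [algebraMap_smul, ← TensorProduct.tmul_smul, Module.mem_annihilator.mp hr, TensorProduct.tmul_zero]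
      | add x y hx hy => rw [smul_add, hx, hy, add_zero]
    · classical
      obtain ⟨n, g, hg⟩ := Module.Finite.exists_fin (R := R) (M := M)
      have h0 : (LinearMap.toSpanSingleton R (Fin n → M) g).lTensor S (s ⊗ₜ[R] (1 : R)) = 0 := by
        apply (TensorProduct.piRight R R S (fun _ : Fin n => M)).injective
        ext i
        have := Module.mem_annihilator.mp hs (1 ⊗ₜ g i)
        simpa [TensorProduct.smul_tmul'] using this
      refine Ideal.map_mono (fun r hr => ?_) (key _ s h0)
      rw [Module.mem_annihilator]
      intro x
      have hx : x ∈ Submodule.span R (Set.range g) := hg ▸ Submodule.mem_top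
      induction hx using Submodule.span_induction with
      | mem y hy => obtain ⟨i, rfl⟩ := hy; simpa using congrFun (LinearMap.mem_ker.mp hr) i
      | zero => simp
      | add a b _ _ ha hb => rw [smul_add, ha, hb, add_zero]
      | smul a b _ hb => rw [smul_comm, hb, smul_zero]

end Groth.Agent.S6283
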