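import Groth.Statements.S6286
import Mathlib
-- import your own Groth.Agent.* helpers here

set_option autoImplicit false
universe u
open scoped TensorProduct
open CAlg

namespace Groth.Agent.S6286

open scoped TensorProduct

/-- Let k be a field, R and S k-algebras, S' ⊆ S a k-subalgebra and f ∈ R ⊗ₖ S', with image f again in R
⊗ₖ S. Then the images in Spec(R) of Spec((R ⊗ₖ S)_f) and of Spec((R ⊗ₖ S')_f) coincide: a prime p of
R is the contraction of a prime of R ⊗ₖ S not containing f if and only if it is the contraction of a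
prime of R ⊗ₖ S' not containing f. -/
theorem result (k : Type u) [Field k] (R S : Type u) [CommRing R] [Algebra k R] [CommRing S] [Algebra k S] (S' : Subalgebra k S) (f : R ⊗[k] S') (p : PrimeSpectrum R) : (∃ q : PrimeSpectrum (R ⊗[k] S), Algebra.TensorProduct.map (AlgHom.id k R) S'.val f ∉ q.asIdeal ∧ q.asIdeal.comap (algebraMap R (R ⊗[k] S)) = p.asIdeal) ↔ (∃ q' : PrimeSpectrum (R ⊗[k] S'), f ∉ q'.asIdeal ∧ q'.asIdeal.comap (algebraMap R (R ⊗[k] S')) = p.asIdeal) := by
  constructor
  · rintro ⟨q, hq, hqp⟩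
    refine ⟨PrimeSpectrum.comap (Algebra.TensorProduct.map (AlgHom.id R R) S'.val).toRingHom q, hq, ?_⟩
    rw [← hqp]
    ext r
    simp
  · rintro ⟨q', hq', hqp⟩
    let K := p.asIdeal.ResidueField
    let L := q'.asIdeal.ResidueField
    let i : R →ₐ[k] R ⊗[k] S' := Algebra.TensorProduct.includeLeft
    let η : K →+* L := Ideal.ResidueField.map p.asIdeal q'.asIdeal (algebraMap R (R ⊗[k] S')) hqp.symm
    let ψ : R ⊗[k] S' →ₐ[k] K ⊗[k] S' :=
      Algebra.TensorProduct.map (IsScalarTower.toAlgHom k R K) (AlgHom.id k S')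
    let jS : S' →+* L := (algebraMap (R ⊗[k] S') L).comp Algebra.TensorProduct.includeRight.toRingHom
    have hη : ∀ r : R, η (algebraMap R K r) = algebraMap (R ⊗[k] S') L (r ⊗ₜ 1) := fun r =>
      Ideal.ResidueField.map_algebraMap p.asIdeal q'.asIdeal (algebraMap R (R ⊗[k] S')) hqp.symm r
    have hηc : ∀ c, η (algebraMap k K c) = algebraMap k L c := fun c => by
      rw [IsScalarTower.algebraMap_apply k R K, hη, IsScalarTower.algebraMap_apply k (R ⊗[k] S') L]
      rfl
    let ηa : K →ₐ[k] L := { η with commutes' := hηc }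
    have hjc : ∀ c, jS (algebraMap k S' c) = algebraMap k L c := fun c => by
      show algebraMap (R ⊗[k] S') L (1 ⊗ₜ algebraMap k S' c) = _
      rw [IsScalarTower.algebraMap_apply k (R ⊗[k] S') L]
      exact congrArg _ (Algebra.TensorProduct.includeRight.commutes c)
    let jSa : S' →ₐ[k] L := { jS with commutes' := hjc }
    let μ : K ⊗[k] S' →ₐ[k] L := Algebra.TensorProduct.lift ηa jSa fun _ _ => .all _ _
    have hμ : ∀ t, μ (ψ t) = algebraMap (R ⊗[k] S') L t := fun t => by
      induction t with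
      | zero => simp
      | add a b ha hb => simp only [map_add, ha, hb]
      | tmul r s =>
        show η (algebraMap R K r) * algebraMap (R ⊗[k] S') L (1 ⊗ₜ s) = _
        rw [hη, ← map_mul, Algebra.TensorProduct.tmul_mul_tmul, mul_one, one_mul]
    have hnil : ¬ IsNilpotent (Algebra.TensorProduct.map (AlgHom.id k K) S'.val (ψ f)) := fun h => by
      rw [IsNilpotent.map_iff (f := Algebra.TensorProduct.map (AlgHom.id k K) S'.val)
        (Module.Flat.lTensor_preserves_injective_linearMap S'.val.toLinearMap Subtype.val_injective)] at h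
      have h' := (h.map μ).eq_zero
      rw [hμ, Ideal.algebraMap_residueField_eq_zero] at h'
      exact hq' h'
    rw [← mem_nilradical, nilradical_eq_sInf, Submodule.mem_sInf] at hnil
    push Not at hnil
    obtain ⟨Q, hQ, hfQ⟩ := hnil
    let Ψ : R ⊗[k] S →ₐ[k] K ⊗[k] S :=
      Algebra.TensorProduct.map (IsScalarTower.toAlgHom k R K) (AlgHom.id k S)
    refine ⟨PrimeSpectrum.comap Ψ.toRingHom ⟨Q, hQ⟩, fun h => hfQ ?_, ?_⟩
    · have h2 : Ψ (Algebra.TensorProduct.map (AlgHom.id k R) S'.val f) =
          Algebra.TensorProduct.map (AlgHom.id k K) S'.val (ψ f) := by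
        rw [← AlgHom.comp_apply, ← AlgHom.comp_apply, ← Algebra.TensorProduct.map_comp,
          ← Algebra.TensorProduct.map_comp]
        rfl
      rw [← h2]
      exact h
    · ext r
      have h3 : Ψ (algebraMap R (R ⊗[k] S) r) = algebraMap K (K ⊗[k] S) (algebraMap R K r) := by
        show Ψ (r ⊗ₜ 1) = algebraMap R K r ⊗ₜ 1
        simp [Ψ]
      show Ψ (algebraMap R (R ⊗[k] S) r) ∈ Q ↔ _
      rw [h3]
      refine ⟨fun h => ?_, fun h => ?_⟩
      · by_contra hr
        exact hQ.ne_top (Ideal.eq_top_of_isUnit_mem _ h ((isUnit_iff_ne_zero.mpr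
          (mt Ideal.algebraMap_residueField_eq_zero.mp hr)).map _))
      · rw [Ideal.algebraMap_residueField_eq_zero.mpr h, map_zero]
        exact zero_mem _

end Groth.Agent.S6286
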