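import Groth.Statements.S6287
import Mathlib
-- import your own Groth.Agent.* helpers here

set_option autoImplicit false
universe u
open CAlg

namespace Groth.Agent.S6287

/-- Let (A_i) be a directed system of valuation rings. Then the colimit A = colim A_i is a valuation
ring (in particular a domain). -/
theorem result {ι : Type u} [Preorder ι] [Nonempty ι] [IsDirected ι (· ≤ ·)] (G : ι → Type u) [∀ i, CommRing (G i)] [∀ i, IsDomain (G i)] [∀ i, ValuationRing (G i)] (f : ∀ i j, i ≤ j → G i →+* G j) [DirectedSystem G fun i j h => f i j h] : ∃ _ : IsDomain (Ring.DirectLimit G fun i j h => f i j h), ValuationRing (Ring.DirectLimit G fun i j h => f i j h) := by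
  have hd : IsDomain (Ring.DirectLimit G fun i j h => f i j h) := by
    rw [isDomain_iff_noZeroDivisors_and_nontrivial]
    refine ⟨⟨fun {a b} hab => ?_⟩, ?_⟩
    · obtain ⟨i, x, rfl⟩ := Ring.DirectLimit.exists_of a
      obtain ⟨j, y, rfl⟩ := Ring.DirectLimit.exists_of b
      obtain ⟨k, hik, hjk⟩ := exists_ge_ge i j
      rw [← Ring.DirectLimit.of_f (f := fun i j h => f i j h) hik, ← Ring.DirectLimit.of_f (f := fun i j h => f i j h) hjk, ← map_mul] at hab
      obtain ⟨l, hkl, hl⟩ := Ring.DirectLimit.of.zero_exact hab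
      rw [map_mul] at hl
      rcases mul_eq_zero.mp hl with h | h
      · left; rw [← Ring.DirectLimit.of_f (f := fun i j h => f i j h) hik, ← Ring.DirectLimit.of_f (f := fun i j h => f i j h) hkl, h, map_zero]
      · right; rw [← Ring.DirectLimit.of_f (f := fun i j h => f i j h) hjk, ← Ring.DirectLimit.of_f (f := fun i j h => f i j h) hkl, h, map_zero]
    · obtain ⟨i⟩ := ‹Nonempty ι›
      refine ⟨⟨0, 1, fun h => ?_⟩⟩
      rw [← map_one (Ring.DirectLimit.of G (fun i j h => f i j h) i)] at h
      obtain ⟨j, hij, hj⟩ := Ring.DirectLimit.of.zero_exact h.symm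
      rw [map_one] at hj
      exact one_ne_zero hj
  refine ⟨hd, ?_⟩
  rw [ValuationRing.iff_dvd_total]
  refine ⟨fun a b => ?_⟩
  obtain ⟨i, x, rfl⟩ := Ring.DirectLimit.exists_of a
  obtain ⟨j, y, rfl⟩ := Ring.DirectLimit.exists_of b
  obtain ⟨k, hik, hjk⟩ := exists_ge_ge i j
  rw [← Ring.DirectLimit.of_f (f := fun i j h => f i j h) hik, ← Ring.DirectLimit.of_f (f := fun i j h => f i j h) hjk]
  rcases ValuationRing.dvd_total (f i k hik x) (f j k hjk y) with h | h
  · exact Or.inl (map_dvd _ h)
  · exact Or.inr (map_dvd _ h)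

end Groth.Agent.S6287
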