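import Groth.Statements.S6289
import Mathlib
-- import your own Groth.Agent.* helpers here

set_option autoImplicit false
universe u
open CAlg

namespace Groth.Agent.S6289

/-- Let A' be a valuation ring with residue field K and A ⊆ K a valuation ring with fraction field K.
Then the subring C of A' consisting of the elements whose residue class lies in A is a valuation
ring. -/
theorem result (A' : Type u) [CommRing A'] [IsDomain A'] [ValuationRing A'] (A : ValuationSubring (IsLocalRing.ResidueField A')) : ValuationRing (A.toSubring.comap (IsLocalRing.residue A')) := by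
  rw [ValuationRing.iff_dvd_total]
  refine ⟨?_⟩
  have key : ∀ a b : A.toSubring.comap (IsLocalRing.residue A'), (a : A') ∣ b → a ∣ b ∨ b ∣ a := by
    rintro a b ⟨c, hc⟩
    by_cases hcu : IsUnit c
    · obtain ⟨v, hv⟩ := hcu.exists_left_inv
      rcases A.mem_or_inv_mem (IsLocalRing.residue A' c) with h | h
      · exact Or.inl ⟨⟨c, h⟩, Subtype.ext hc⟩
      · refine Or.inr ⟨⟨v, ?_⟩, Subtype.ext ?_⟩
        · have : IsLocalRing.residue A' v = (IsLocalRing.residue A' c)⁻¹ := by
            apply eq_inv_of_mul_eq_one_left
            rw [← map_mul, hv, map_one]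
          rw [Subring.mem_comap, this]; exact h
        · change (a : A') = (b : A') * v
          rw [hc, mul_assoc, mul_comm c v, hv, mul_one]
    · refine Or.inl ⟨⟨c, ?_⟩, Subtype.ext hc⟩
      rw [Subring.mem_comap, (IsLocalRing.residue_eq_zero_iff c).mpr hcu]
      exact A.toSubring.zero_mem
  intro a b
  rcases ValuationRing.dvd_total (a : A') (b : A') with h | h
  · exact key a b h
  · exact (key b a h).symm

end Groth.Agent.S6289
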