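import Groth.Statements.S6290
import Mathlib
-- import your own Groth.Agent.* helpers here

set_option autoImplicit false
universe u
open CAlg

namespace Groth.Agent.S6290

/-- Let R be a Noetherian ring, I ⊆ R an ideal, M a finite R-module and N = ⋂ₙ IⁿM. Then for every prime
p ⊇ I there is f ∈ R, f ∉ p, with N_f = 0, i.e. every element of N is annihilated by some power of
f. -/
theorem result {R : Type u} [CommRing R] [IsNoetherianRing R] (I : Ideal R) (M : Type u) [AddCommGroup M] [Module R M] [Module.Finite R M] (p : Ideal R) [p.IsPrime] (hIp : I ≤ p) : ∃ f : R, f ∉ p ∧ ∀ x ∈ (⨅ n : ℕ, I ^ n • (⊤ : Submodule R M)), ∃ k : ℕ, f ^ k • x = 0 := by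
  classical
  obtain ⟨s, hs⟩ := IsNoetherian.noetherian (⨅ n : ℕ, I ^ n • (⊤ : Submodule R M))
  have h : ∀ x ∈ s, ∃ t : R, t ∉ p ∧ t • x = 0 := by
    intro x hx
    have hx' : x ∈ (⨅ n : ℕ, I ^ n • (⊤ : Submodule R M)) := hs ▸ Submodule.subset_span hx
    obtain ⟨⟨r, hr⟩, hrx⟩ := (Ideal.mem_iInf_smul_pow_eq_bot_iff I x).mp hx'
    refine ⟨1 - r, fun h1 => ?_, by simp [sub_smul, hrx]⟩
    apply (inferInstance : p.IsPrime).ne_top
    rw [Ideal.eq_top_iff_one]
    simpa using add_mem h1 (hIp hr)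
  choose t ht ht' using h
  refine ⟨∏ x ∈ s.attach, t x.1 x.2, ?_, ?_⟩
  · intro hmem
    obtain ⟨x, -, hx⟩ := (Ideal.IsPrime.prod_mem_iff (p := p)).mp hmem
    exact ht _ _ hx
  · intro x hx
    refine ⟨1, ?_⟩
    rw [pow_one]
    rw [← hs] at hx
    induction hx using Submodule.span_induction with
    | mem y hy =>
      rw [← Finset.prod_erase_mul _ _ (Finset.mem_attach s ⟨y, hy⟩), mul_smul, ht' y hy, smul_zero]
    | zero => simp
    | add a b _ _ ha hb => rw [smul_add, ha, hb, add_zero]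
    | smul a b _ hb => rw [smul_comm, hb, smul_zero]

end Groth.Agent.S6290
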