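import Groth.Statements.S6296
import Mathlib
-- import your own Groth.Agent.* helpers here

set_option autoImplicit false
universe u
open CAlg

namespace Groth.Agent.S6296

/-- Let A → B be a local homomorphism of local rings such that (1) B is a finite A-module, (2) the
maximal ideal m_B is finitely generated, (3) the induced map of residue fields is an isomorphism,
and (4) m_A/m_A² → m_B/m_B² is surjective, i.e. m_B ⊆ m_A B + m_B². Then A → B is surjective. -/
theorem result {A B : Type u} [CommRing A] [CommRing B] [IsLocalRing A] [IsLocalRing B] [Algebra A B] [IsLocalHom (algebraMap A B)] [Module.Finite A B] (hfg : (IsLocalRing.maximalIdeal B).FG) (hres : Function.Surjective (IsLocalRing.ResidueField.map (algebraMap A B))) (hcot : IsLocalRing.maximalIdeal B ≤ (IsLocalRing.maximalIdeal A).map (algebraMap A B) ⊔ (IsLocalRing.maximalIdeal B) ^ 2) : Function.Surjective (algebraMap A B) := by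
  classical
  have hmax : IsLocalRing.maximalIdeal B = (IsLocalRing.maximalIdeal A).map (algebraMap A B) := by
    refine le_antisymm ?_ (((IsLocalRing.local_hom_TFAE (algebraMap A B)).out 0 2).mp ‹_›)
    refine Submodule.le_of_le_smul_of_le_jacobson_bot hfg (IsLocalRing.maximalIdeal_le_jacobson _) ?_
    rwa [smul_eq_mul, ← sq]
  change Function.Surjective (Algebra.linearMap A B)
  rw [← LinearMap.range_eq_top]
  refine top_le_iff.mp (Submodule.le_of_le_smul_of_le_jacobson_bot (Module.Finite.fg_top) (IsLocalRing.maximalIdeal_le_jacobson _) ?_)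
  intro b _
  obtain ⟨a, ha⟩ := hres (IsLocalRing.residue B b)
  obtain ⟨a, rfl⟩ := IsLocalRing.residue_surjective a
  rw [IsLocalRing.ResidueField.map_residue, eq_comm, ← sub_eq_zero, ← map_sub, IsLocalRing.residue_eq_zero_iff, hmax] at ha
  have hb : b - algebraMap A B a ∈ IsLocalRing.maximalIdeal A • (⊤ : Submodule A B) := by
    rw [Ideal.smul_top_eq_map]; exact ha
  rw [show b = algebraMap A B a + (b - algebraMap A B a) by abel]
  exact Submodule.add_mem_sup ⟨a, rfl⟩ hb

end Groth.Agent.S6296
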