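import Groth.Statements.S6297
import Mathlib
import Groth.Agent.CAlgLib.Minors
-- import your own Groth.Agent.* helpers here

set_option autoImplicit false
universe u
open CAlg

namespace Groth.Agent.S6297

/-- Let R be a ring, m ≤ n, A an n × m matrix over R and J the ideal generated by the m × m minors of A.
(1) For every f ∈ J there is an m × n matrix B with BA = f · 1. (2) If BA = f · 1 for some m × n
matrix B, then f^m ∈ J. -/
theorem result {R : Type u} [CommRing R] {n m : ℕ} (hmn : m ≤ n) (A : Matrix (Fin n) (Fin m) R) : (∀ f ∈ CAlgX.minorIdeal A m, ∃ B : Matrix (Fin m) (Fin n) R, B * A = f • (1 : Matrix (Fin m) (Fin m) R)) ∧ (∀ (f : R) (B : Matrix (Fin m) (Fin n) R), B * A = f • (1 : Matrix (Fin m) (Fin m) R) → f ^ m ∈ CAlgX.minorIdeal A m) := by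
  classical
  constructor
  · intro f hf
    induction hf using Submodule.span_induction with
    | mem y hy =>
      obtain ⟨⟨g₁, g₂⟩, rfl⟩ := hy
      by_cases hinj : Function.Injective g₂
      · have hb : Function.Bijective g₂ := Finite.injective_iff_bijective.mp hinj
        let σ : Equiv.Perm (Fin m) := Equiv.ofBijective g₂ hb
        let M : Matrix (Fin m) (Fin m) R := A.submatrix g₁ id
        have hd : Matrix.det (A.submatrix g₁ g₂) = (Equiv.Perm.sign σ : ℤ) * M.det := by
          rw [← Matrix.det_permute' σ M]; rfl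
        let E : Matrix (Fin m) (Fin n) R := (1 : Matrix (Fin n) (Fin n) R).submatrix g₁ id
        have hE : E * A = M := by
          ext i j
          simp [E, M, Matrix.mul_apply, Matrix.one_apply]
        refine ⟨((Equiv.Perm.sign σ : ℤ) : R) • (M.adjugate * E), ?_⟩
        rw [Matrix.smul_mul, Matrix.mul_assoc, hE, Matrix.adjugate_mul, smul_smul]
        exact congrArg (· • (1 : Matrix (Fin m) (Fin m) R)) hd.symm
      · simp only [Function.Injective, not_forall] at hinj
        obtain ⟨i, j, hij, hne⟩ := hinj
        refine ⟨0, ?_⟩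
        change _ = Matrix.det (A.submatrix g₁ g₂) • _
        rw [Matrix.det_zero_of_column_eq hne (fun k => by simp [hij])]
        simp
    | zero => exact ⟨0, by simp⟩
    | add a b _ _ ha hb =>
      obtain ⟨Ba, ha⟩ := ha; obtain ⟨Bb, hb⟩ := hb
      exact ⟨Ba + Bb, by rw [Matrix.add_mul, ha, hb, add_smul]⟩
    | smul a b _ hb =>
      obtain ⟨Bb, hb⟩ := hb
      exact ⟨a • Bb, by rw [Matrix.smul_mul, hb, smul_smul, smul_eq_mul]⟩
  · intro f B hB
    have h := congrArg Matrix.det hB
    rw [Matrix.det_smul, Matrix.det_one, mul_one, Fintype.card_fin] at h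
    rw [← h]
    refine Submodule.span_le.mpr ?_ (CAlgLib.Minors.det_mul_mem_span_minors B A)
    rintro _ ⟨g, rfl⟩
    exact Submodule.subset_span ⟨(g, id), rfl⟩

end Groth.Agent.S6297
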