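import Groth.Statements.S6298
import Mathlib
-- import your own Groth.Agent.* helpers here

set_option autoImplicit false
universe u
open CAlg

namespace Groth.Agent.S6298

/-- Let R be a ring, x ∈ R, I ⊆ R an ideal and p₁, …, p_r prime ideals such that for each i the coset x
+ I is not contained in p_i. Then there is y ∈ I with x + y ∉ p_i for all i. -/
theorem result {R : Type u} [CommRing R] (x : R) (I : Ideal R) {r : ℕ} (p : Fin r → Ideal R) [∀ i, (p i).IsPrime] (h : ∀ i, ∃ y ∈ I, x + y ∉ p i) : ∃ y ∈ I, ∀ i, x + y ∉ p i := by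
  classical
  by_cases hr : ∀ i, x ∉ p i
  · exact ⟨0, I.zero_mem, by simpa using hr⟩
  obtain ⟨s, hs⟩ : ∃ s : Finset (Ideal R), s = Finset.univ.image p := ⟨_, rfl⟩
  obtain ⟨T, hT⟩ : ∃ T : Finset (Ideal R), T = s.filter (fun P => Maximal (· ∈ s) P ∧ x ∉ P) := ⟨_, rfl⟩
  obtain ⟨J, hJdef⟩ : ∃ J : Ideal R, J = I * T.prod (fun P => P) := ⟨_, rfl⟩
  have hp : ∀ P ∈ s, P.IsPrime := fun P hP => by
    rw [hs] at hP; obtain ⟨i, -, rfl⟩ := Finset.mem_image.mp hP; infer_instance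
  obtain ⟨U, hU⟩ : ∃ U : Finset (Ideal R), U = s.filter (fun P => Maximal (· ∈ s) P ∧ x ∈ P) := ⟨_, rfl⟩
  have hJ : ∀ P ∈ U, ¬ J ≤ P := by
    intro P hP hle
    rw [hU] at hP; obtain ⟨hPs, hPm, hxP⟩ := Finset.mem_filter.mp hP
    rw [hJdef] at hle
    have := hp P hPs
    rcases (Ideal.IsPrime.mul_le this).mp hle with h1 | h2
    · rw [hs] at hPs; obtain ⟨i, -, rfl⟩ := Finset.mem_image.mp hPs
      obtain ⟨y, hy, hxy⟩ := h i
      exact hxy (add_mem hxP (h1 hy))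
    · obtain ⟨Q, hQ, hQP⟩ := (Ideal.IsPrime.prod_le this).mp h2
      rw [hT] at hQ; obtain ⟨hQs, hQm, hxQ⟩ := Finset.mem_filter.mp hQ
      have hQeq : Q = P := hQm.eq_of_le hPs hQP
      exact hxQ (hQeq.symm ▸ hxP)
  obtain ⟨y, hyJ, hy⟩ : ∃ y ∈ J, ∀ P ∈ U, y ∉ P := by
    by_contra! hcon
    have hsub : (J : Set R) ⊆ ⋃ P ∈ (U : Set (Ideal R)), (P : Set R) := fun y hy => by
      obtain ⟨P, hP, hyP⟩ := hcon y hy
      exact Set.mem_biUnion hP hyP
    obtain ⟨P, hP, hle⟩ := (Ideal.subset_union_prime (f := fun Q : Ideal R => Q) ⊥ ⊥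
      (fun P hP _ _ => hp P (by rw [hU] at hP; exact (Finset.mem_filter.mp hP).1))).mp hsub
    exact hJ P hP hle
  rw [hJdef] at hyJ
  refine ⟨y, (Ideal.mul_le_left : I * T.prod (fun P => P) ≤ I) hyJ, fun i hi => ?_⟩
  obtain ⟨P, hiP, hPm⟩ := s.exists_le_maximal (a := p i) (hs ▸ Finset.mem_image.mpr ⟨i, Finset.mem_univ i, rfl⟩)
  by_cases hxP : x ∈ P
  · exact hy P (hU ▸ Finset.mem_filter.mpr ⟨hPm.1, hPm, hxP⟩) ((Submodule.add_mem_iff_right P hxP).mp (hiP hi))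
  · have hyP : y ∈ P := by
      have hPT : P ∈ T := hT ▸ Finset.mem_filter.mpr ⟨hPm.1, hPm, hxP⟩
      rw [← Finset.prod_erase_mul _ _ hPT] at hyJ
      exact Ideal.mul_le_right (Ideal.mul_le_right hyJ)
    exact hxP ((Submodule.add_mem_iff_left P hyP).mp (hiP hi))

end Groth.Agent.S6298
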