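import Groth.Statements.S6299
import Mathlib
import Groth.Agent.CAlgLib.PowerSeriesIC
-- import your own Groth.Agent.* helpers here

set_option autoImplicit false
universe u
open CAlg

namespace Groth.Agent.S6299

/-- Let R be a Noetherian normal domain. Then the power series ring R[[x]] is a Noetherian normal domain
(here: it is an integrally closed domain and a Noetherian ring). -/
theorem result (R : Type u) [CommRing R] [IsDomain R] [IsNoetherianRing R] [IsIntegrallyClosed R] : IsIntegrallyClosed (PowerSeries R) ∧ IsNoetherianRing (PowerSeries R) := by
  exact ⟨Groth.Agent.CAlgLib.PowerSeriesIC.isIntegrallyClosed, inferInstance⟩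

end Groth.Agent.S6299
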