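import Groth.Statements.S6301
import Mathlib
import Groth.Agent.CAlgLib.UnivInj
-- import your own Groth.Agent.* helpers here

set_option autoImplicit false
universe u
open CAlg

namespace Groth.Agent.S6301

/-- An R-module M is flat exactly when, for every finitely presented R-module P and every surjective
R-module map N → M, the induced map Hom_R(P, N) → Hom_R(P, M) is surjective (modules P, N taken in
the same universe). -/
theorem result {R : Type u} [CommRing R] (M : Type u) [AddCommGroup M] [Module R M] : Module.Flat R M ↔ ∀ (P : Type u) [AddCommGroup P] [Module R P], Module.FinitePresentation R P → ∀ (N : Type u) [AddCommGroup N] [Module R N] (g : N →ₗ[R] M), Function.Surjective g → ∀ h : P →ₗ[R] M, ∃ h' : P →ₗ[R] N, g.comp h' = h := by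
  constructor
  · intro h P _ _ hP N _ _ g hg hh
    have hexact := LinearMap.exact_subtype_ker_map g
    exact CAlgLib.UnivInj.lift_of_finitePresentation hexact hg
      (CAlgLib.UnivInj.universallyInjective_of_flat hexact (Submodule.injective_subtype _) hg) P hh
  · intro h
    refine Module.Flat.of_forall_exists_factorization fun {l f x} hxf => ?_
    have hle : Submodule.span R {f} ≤ LinearMap.ker x := by
      rw [Submodule.span_le, Set.singleton_subset_iff]; exact hxf
    haveI : Module.FinitePresentation R (((Fin l →₀ R)) ⧸ Submodule.span R {f}) :=
      Module.finitePresentation_of_surjective (Submodule.span R {f}).mkQ (Submodule.mkQ_surjective _)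
        (by rw [Submodule.ker_mkQ]; exact Submodule.fg_span_singleton f)
    obtain ⟨h', hh'⟩ := h _ inferInstance (M →₀ R) (Finsupp.linearCombination R id)
      (Finsupp.linearCombination_id_surjective R M) ((Submodule.span R {f}).liftQ x hle)
    obtain ⟨k, a, y, hxy, ha⟩ := Module.Flat.exists_factorization_of_apply_eq_zero_of_free
      (N := Fin l →₀ R) (f := f) (x := h' ∘ₗ (Submodule.span R {f}).mkQ)
      (by rw [LinearMap.comp_apply, Submodule.mkQ_apply, (Submodule.Quotient.mk_eq_zero _).mpr (Submodule.mem_span_singleton_self f), map_zero])
    refine ⟨k, a, Finsupp.linearCombination R id ∘ₗ y, ?_, ha⟩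
    rw [LinearMap.comp_assoc, ← hxy, ← LinearMap.comp_assoc, hh', Submodule.liftQ_mkQ]

end Groth.Agent.S6301
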