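import Groth.Statements.S6306
import Mathlib
-- import your own Groth.Agent.* helpers here

set_option autoImplicit false
universe u
open CAlg

namespace Groth.Agent.S6306

/-- Let R be a nonzero ring such that every nonzero prime ideal of R contains a non-zerodivisor. Then R
is a domain. -/
theorem result (R : Type u) [CommRing R] [Nontrivial R] (h : ∀ p : Ideal R, p.IsPrime → p ≠ ⊥ → ∃ x ∈ p, x ∈ nonZeroDivisors R) : IsDomain R := by
  rw [isDomain_iff_noZeroDivisors_and_nontrivial]
  refine ⟨⟨?_⟩, ‹_›⟩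
  intro a b hab
  by_contra! hcon
  obtain ⟨ha, hb⟩ := hcon
  obtain ⟨P, hPmax, hP⟩ := Ideal.exists_le_maximal (LinearMap.ker (LinearMap.toSpanSingleton R R a))
    (by rw [Ideal.ne_top_iff_one]; simpa using ha)
  obtain ⟨q, hq, hqP⟩ := Ideal.exists_minimalPrimes_le (I := ⊥) (J := P) bot_le
  by_cases hq0 : q = ⊥
  · subst hq0
    exact hb ((hq.1.1.mem_or_mem (show a * b ∈ (⊥ : Ideal R) by simp [hab])).resolve_left (by simpa using ha))
  · obtain ⟨x, hxq, hx⟩ := h q hq.1.1 hq0
    exact Set.disjoint_left.mp (Ideal.disjoint_nonZeroDivisors_of_mem_minimalPrimes hq) hxq hx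

end Groth.Agent.S6306
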