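import Groth.Statements.S6307
import Mathlib
-- import your own Groth.Agent.* helpers here

set_option autoImplicit false
universe u
open CAlg

namespace Groth.Agent.S6307

/-- Let R be a ring, J ⊆ R a principal ideal and I ⊆ J an ideal. Then I = J · (I : J). -/
theorem result {R : Type u} [CommRing R] (I J : Ideal R) (hJ : J.IsPrincipal) (hIJ : I ≤ J) : I = J * I.colon J := by
  obtain ⟨⟨j, rfl⟩⟩ := hJ
  refine le_antisymm ?_ ?_
  · intro x hx
    obtain ⟨r, rfl⟩ := Submodule.mem_span_singleton.mp (hIJ hx)
    rw [smul_eq_mul, mul_comm r j]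
    refine Ideal.mul_mem_mul (Ideal.mem_span_singleton_self j) ?_
    simpa [Submodule.mem_colon_span_singleton] using hx
  · rw [Ideal.mul_le]
    intro a ha r hr
    have := Submodule.mem_colon.mp hr a ha
    simpa [mul_comm] using this

end Groth.Agent.S6307
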