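import Groth.Statements.S6308
import Mathlib
-- import your own Groth.Agent.* helpers here

set_option autoImplicit false
universe u
open scoped TensorProduct
open CAlg

namespace Groth.Agent.S6308

section
open TensorProduct

variable {R : Type u} [CommRing R] {M N : Type u} [AddCommGroup M] [Module R M] [AddCommGroup N] [Module R N]

theorem map_surj_iff (S : Submonoid R) (φ : M →ₗ[R] N) :
    Function.Surjective (LocalizedModule.map S φ) ↔ ∀ n : N, ∃ s ∈ S, s • n ∈ LinearMap.range φ := by
  constructor
  · intro h n
    obtain ⟨z, hz⟩ := h (LocalizedModule.mk n 1)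
    induction z using LocalizedModule.induction_on with
    | _ m t =>
      rw [LocalizedModule.map_mk, LocalizedModule.mk_eq] at hz
      obtain ⟨c, hc⟩ := hz
      refine ⟨c * t, mul_mem c.2 t.2, (c : R) • m, ?_⟩
      rw [map_smul, mul_smul]
      simp only [Submonoid.smul_def, Submonoid.coe_one, one_smul] at hc
      exact hc
  · intro h z
    induction z using LocalizedModule.induction_on with
    | _ n t =>
      obtain ⟨s, hs, m, hm⟩ := h n
      refine ⟨LocalizedModule.mk m (⟨s, hs⟩ * t), ?_⟩
      rw [LocalizedModule.map_mk, hm]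
      exact LocalizedModule.mk_cancel_common_left ⟨s, hs⟩ t n

theorem lTensor_surj_iff [Module.Finite R N] (φ : M →ₗ[R] N) (p : PrimeSpectrum R) :
    Function.Surjective (φ.lTensor p.asIdeal.ResidueField) ↔ p ∉ Module.support R (N ⧸ LinearMap.range φ) := by
  rw [Module.mem_support_iff_nontrivial_residueField_tensorProduct, not_nontrivial_iff_subsingleton]
  have hex := lTensor_exact p.asIdeal.ResidueField (LinearMap.exact_map_mkQ_range φ) (Submodule.mkQ_surjective _)
  have hsurj := LinearMap.lTensor_surjective p.asIdeal.ResidueField (Submodule.mkQ_surjective (LinearMap.range φ))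
  constructor
  · intro h
    refine ⟨fun a b => ?_⟩
    obtain ⟨a, rfl⟩ := hsurj a
    obtain ⟨b, rfl⟩ := hsurj b
    rw [(hex a).mpr (h a), (hex b).mpr (h b)]
  · intro h y
    exact (hex y).mp (Subsingleton.elim _ _)

theorem locus_eq [Module.Finite R N] (φ : M →ₗ[R] N) (p : PrimeSpectrum R) :
    Function.Surjective (LocalizedModule.map p.asIdeal.primeCompl φ) ↔ p ∉ Module.support R (N ⧸ LinearMap.range φ) := by
  rw [map_surj_iff, Module.notMem_support_iff', (Submodule.Quotient.mk_surjective _).forall]
  refine forall_congr' fun n => exists_congr fun s => and_congr_right fun _ => ?_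
  rw [← Submodule.Quotient.mk_smul, Submodule.Quotient.mk_eq_zero]

end

/-- Let R be a ring and φ : M → N a map of R-modules with N finite. For a prime p, the localization φ_p
: M_p → N_p is surjective if and only if φ ⊗ κ(p) : M ⊗ κ(p) → N ⊗ κ(p) is surjective; the set U of
such primes is open in Spec(R); and for every f ∈ R with D(f) ⊆ U the map M_f → N_f is surjective. -/
theorem result {R : Type u} [CommRing R] {M N : Type u} [AddCommGroup M] [Module R M] [AddCommGroup N] [Module R N] [Module.Finite R N] (φ : M →ₗ[R] N) : (∀ p : PrimeSpectrum R, Function.Surjective (LocalizedModule.map p.asIdeal.primeCompl φ) ↔ Function.Surjective (φ.lTensor p.asIdeal.ResidueField)) ∧ IsOpen {p : PrimeSpectrum R | Function.Surjective (LocalizedModule.map p.asIdeal.primeCompl φ)} ∧ (∀ f : R, (↑(PrimeSpectrum.basicOpen f) : Set (PrimeSpectrum R)) ⊆ {p : PrimeSpectrum R | Function.Surjective (LocalizedModule.map p.asIdeal.primeCompl φ)} → Function.Surjective (LocalizedModule.map (Submonoid.powers f) φ)) := by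
  have hset : {p : PrimeSpectrum R | Function.Surjective (LocalizedModule.map p.asIdeal.primeCompl φ)} =
      (Module.support R (N ⧸ LinearMap.range φ))ᶜ := Set.ext fun p => locus_eq φ p
  refine ⟨fun p => (locus_eq φ p).trans (lTensor_surj_iff φ p).symm, ?_, fun f hf => ?_⟩
  · rw [hset, Module.support_eq_zeroLocus]
    exact (PrimeSpectrum.isClosed_zeroLocus _).isOpen_compl
  · rw [map_surj_iff]
    intro n
    rw [hset, Module.support_eq_zeroLocus, PrimeSpectrum.basicOpen_eq_zeroLocus_compl, Set.compl_subset_compl] at hf
    obtain ⟨k, hk⟩ := (PrimeSpectrum.zeroLocus_subset_zeroLocus_iff (Module.annihilator R (N ⧸ LinearMap.range φ)) (Ideal.span {f})).mp (by rwa [PrimeSpectrum.zeroLocus_span]) (Ideal.mem_span_singleton_self f)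
    refine ⟨f ^ k, ⟨k, rfl⟩, ?_⟩
    rw [← Submodule.Quotient.mk_eq_zero, Submodule.Quotient.mk_smul]
    exact Module.mem_annihilator.mp hk _

end Groth.Agent.S6308
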