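import Groth.Statements.S6309
import Mathlib
-- import your own Groth.Agent.* helpers here

set_option autoImplicit false
universe u
open scoped TensorProduct
open CAlg

namespace Groth.Agent.S6309

section
open TensorProduct

variable {R : Type u} [CommRing R] {P₁ P₂ : Type u} [AddCommGroup P₁] [Module R P₁] [AddCommGroup P₂] [Module R P₂]
  [Module.Finite R P₁] [Module.Projective R P₁] [Module.Finite R P₂] [Module.Projective R P₂] (φ : P₁ →ₗ[R] P₂)

theorem exists_retraction {s : R} (hs : ∀ l : Module.Dual R P₁, s • l ∈ LinearMap.range φ.dualMap) :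
    ∃ ψ : P₂ →ₗ[R] P₁, ψ ∘ₗ φ = s • LinearMap.id := by
  classical
  obtain ⟨n, π, hπ⟩ := Module.Finite.exists_fin' R P₁
  obtain ⟨sec, hsec⟩ := Module.projective_lifting_property π LinearMap.id hπ
  choose g hg using fun i => hs ((LinearMap.proj i : (Fin n → R) →ₗ[R] R) ∘ₗ sec)
  refine ⟨∑ i, LinearMap.smulRight (g i) (π (Pi.single i 1)), LinearMap.ext fun x => ?_⟩
  have : ∀ i, g i (φ x) = s * sec x i := fun i => LinearMap.congr_fun (hg i) x
  simp only [LinearMap.comp_apply, LinearMap.sum_apply, LinearMap.smulRight_apply, this, mul_smul,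
    ← Finset.smul_sum, ← map_smul π, ← map_sum, LinearMap.smul_apply, LinearMap.id_apply]
  rw [← pi_eq_sum_univ', map_smul, ← LinearMap.comp_apply, hsec, LinearMap.id_apply]

theorem notMem_support_of_injective (p : PrimeSpectrum R)
    (h : Function.Injective (φ.lTensor p.asIdeal.ResidueField)) :
    p ∉ Module.support R (Module.Dual R P₁ ⧸ LinearMap.range φ.dualMap) := by
  classical
  let K := p.asIdeal.ResidueField
  let Q := Module.Dual R P₁ ⧸ LinearMap.range φ.dualMap
  rw [Module.mem_support_iff_nontrivial_residueField_tensorProduct, not_nontrivial_iff_subsingleton]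
  suffices key : ∀ l : Module.Dual R P₁, (1 : K) ⊗ₜ[R] (Submodule.Quotient.mk l : Q) = 0 by
    refine subsingleton_of_forall_eq 0 fun z => ?_
    induction z using TensorProduct.induction_on with
    | zero => rfl
    | add a b ha hb => rw [ha, hb, add_zero]
    | tmul a q =>
      obtain ⟨l, rfl⟩ := Submodule.Quotient.mk_surjective _ q
      rw [show a = a • (1 : K) by simp, ← TensorProduct.smul_tmul', key, smul_zero]
  intro l
  obtain ⟨L, hL⟩ := LinearMap.exists_leftInverse_of_injective (φ.baseChange K) (LinearMap.ker_eq_bot.mpr h)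
  let lb : K ⊗[R] P₁ →ₗ[K] K := LinearMap.liftBaseChange K (Algebra.linearMap R K ∘ₗ l)
  let H : P₂ →ₗ[R] K := ((lb ∘ₗ L).restrictScalars R) ∘ₗ TensorProduct.mk R K P₂ 1
  have hH : ∀ x, H (φ x) = algebraMap R K (l x) := fun x => by
    show lb (L (φ.baseChange K ((1 : K) ⊗ₜ[R] x))) = _
    rw [← LinearMap.comp_apply L, hL]
    simp [lb]
  obtain ⟨m, y, hy⟩ := Module.Finite.exists_fin (R := R) (M := P₂)
  obtain ⟨⟨b, hb⟩, hb'⟩ := IsLocalization.exist_integer_multiples_of_finite (nonZeroDivisors (R ⧸ p.asIdeal)) (fun j => H (y j))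
  obtain ⟨s, rfl⟩ := Ideal.Quotient.mk_surjective b
  have hs : algebraMap R K s ≠ 0 := fun h0 => by
    rw [Ideal.algebraMap_residueField_eq_zero] at h0
    exact nonZeroDivisors.ne_zero hb (Ideal.Quotient.eq_zero_iff_mem.mpr h0)
  have hrange : ∀ z, (s • H) z ∈ LinearMap.range (Algebra.linearMap R K) := by
    suffices hle : (⊤ : Submodule R P₂) ≤ (LinearMap.range (Algebra.linearMap R K)).comap (s • H) from fun z => hle Submodule.mem_top
    refine hy.ge.trans (Submodule.span_le.mpr ?_)
    rintro _ ⟨j, rfl⟩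
    obtain ⟨c, hc⟩ := hb' j
    obtain ⟨c, rfl⟩ := Ideal.Quotient.mk_surjective c
    refine ⟨c, ?_⟩
    rw [LinearMap.smul_apply]
    refine Eq.trans ?_ (Eq.trans hc ?_)
    · exact (IsScalarTower.algebraMap_apply R (R ⧸ p.asIdeal) K c)
    · exact algebraMap_smul (R ⧸ p.asIdeal) s (H (y j))
  obtain ⟨g, hg⟩ := Module.projective_lifting_property (Algebra.linearMap R K).rangeRestrict
    ((s • H).codRestrict _ hrange) (LinearMap.surjective_rangeRestrict _)
  have hg' : ∀ z, algebraMap R K (g z) = s • H z := fun z => congrArg Subtype.val (LinearMap.congr_fun hg z)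
  let D : Module.Dual R P₁ := g ∘ₗ φ - s • l
  have hD : ∀ x, D x ∈ p.asIdeal := fun x => by
    rw [← Ideal.algebraMap_residueField_eq_zero]
    show algebraMap R K (g (φ x) - s * l x) = 0
    rw [map_sub, hg', hH, Algebra.smul_def, map_mul, sub_self]
  obtain ⟨n, π, hπ⟩ := Module.Finite.exists_fin' R P₁
  obtain ⟨sec, hsec⟩ := Module.projective_lifting_property π LinearMap.id hπ
  have hDsum : D = ∑ i, D (π (Pi.single i 1)) • ((LinearMap.proj i : (Fin n → R) →ₗ[R] R) ∘ₗ sec) := by
    refine LinearMap.ext fun x => ?_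
    conv_lhs => rw [← LinearMap.id_apply (R := R) x, ← hsec, LinearMap.comp_apply, pi_eq_sum_univ' (sec x), map_sum, map_sum]
    simp only [LinearMap.sum_apply, LinearMap.smul_apply, LinearMap.comp_apply, LinearMap.proj_apply, map_smul, smul_eq_mul, mul_comm]
  have h0 : ∀ l' : Module.Dual R P₁, ∀ r ∈ p.asIdeal, (1 : K) ⊗ₜ[R] (Submodule.Quotient.mk (r • l') : Q) = 0 := fun l' r hr => by
    rw [Submodule.Quotient.mk_smul, TensorProduct.tmul_smul, ← algebraMap_smul K r,
      Ideal.algebraMap_residueField_eq_zero.mpr hr, zero_smul]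
  have h1 : s • ((1 : K) ⊗ₜ[R] (Submodule.Quotient.mk l : Q)) = 0 := by
    rw [← TensorProduct.tmul_smul, ← Submodule.Quotient.mk_smul, show s • l = g ∘ₗ φ - D by simp [D]]
    rw [Submodule.Quotient.mk_sub, (Submodule.Quotient.mk_eq_zero _).mpr (show g ∘ₗ φ ∈ LinearMap.range φ.dualMap from ⟨g, rfl⟩), zero_sub, TensorProduct.tmul_neg, neg_eq_zero,
      hDsum, ← Submodule.mkQ_apply, map_sum, TensorProduct.tmul_sum]
    exact Finset.sum_eq_zero fun i _ => h0 _ _ (hD _)
  rw [← algebraMap_smul K s] at h1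
  exact (smul_eq_zero.mp h1).resolve_left hs

theorem injective_of_retraction (p : PrimeSpectrum R) {s : R} (hs : s ∉ p.asIdeal) (ψ : P₂ →ₗ[R] P₁)
    (hψ : ψ ∘ₗ φ = s • LinearMap.id) : Function.Injective (φ.lTensor p.asIdeal.ResidueField) := by
  rw [injective_iff_map_eq_zero]
  intro z hz
  have : (s • LinearMap.id : P₁ →ₗ[R] P₁).lTensor p.asIdeal.ResidueField z = 0 := by
    rw [← hψ, LinearMap.lTensor_comp, LinearMap.comp_apply, hz, map_zero]
  rw [LinearMap.lTensor_smul, LinearMap.lTensor_id, LinearMap.smul_apply, LinearMap.id_apply,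
    ← algebraMap_smul p.asIdeal.ResidueField s] at this
  exact (smul_eq_zero.mp this).resolve_left fun h => hs (Ideal.algebraMap_residueField_eq_zero.mp h)

theorem locus : {p : PrimeSpectrum R | Function.Injective (φ.lTensor p.asIdeal.ResidueField)} =
    (Module.support R (Module.Dual R P₁ ⧸ LinearMap.range φ.dualMap))ᶜ := by
  ext p
  refine ⟨notMem_support_of_injective φ p, fun h => ?_⟩
  rw [Set.mem_compl_iff, Module.mem_support_iff_of_finite, SetLike.not_le_iff_exists] at h
  obtain ⟨s, hs, hsp⟩ := h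
  obtain ⟨ψ, hψ⟩ := exists_retraction φ (s := s) fun l => by
    rw [← Submodule.Quotient.mk_eq_zero, Submodule.Quotient.mk_smul]
    exact Module.mem_annihilator.mp hs _
  exact injective_of_retraction φ p hsp ψ hψ

end

/-- Let R be a ring and φ : P₁ → P₂ a map of finite projective R-modules. The set U of primes p of R
such that φ ⊗ κ(p) is injective is open, and for every f ∈ R with D(f) ⊆ U the map (P₁)_f → (P₂)_f
is injective and Coker(φ)_f is a finite projective module over R_f. -/
theorem result {R : Type u} [CommRing R] {P₁ P₂ : Type u} [AddCommGroup P₁] [Module R P₁] [AddCommGroup P₂] [Module R P₂] [Module.Finite R P₁] [Module.Projective R P₁] [Module.Finite R P₂] [Module.Projective R P₂] (φ : P₁ →ₗ[R] P₂) : IsOpen {p : PrimeSpectrum R | Function.Injective (φ.lTensor p.asIdeal.ResidueField)} ∧ ∀ f : R, (↑(PrimeSpectrum.basicOpen f) : Set (PrimeSpectrum R)) ⊆ {p : PrimeSpectrum R | Function.Injective (φ.lTensor p.asIdeal.ResidueField)} → Function.Injective (LocalizedModule.map (Submonoid.powers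 f) φ) ∧ Module.Finite (Localization.Away f) (LocalizedModule (Submonoid.powers f) (P₂ ⧸ LinearMap.range φ)) ∧ Module.Projective (Localization.Away f) (LocalizedModule (Submonoid.powers f) (P₂ ⧸ LinearMap.range φ)) := by
  rw [locus φ, Module.support_eq_zeroLocus]
  refine ⟨(PrimeSpectrum.isClosed_zeroLocus _).isOpen_compl, fun f hf => ?_⟩
  rw [PrimeSpectrum.basicOpen_eq_zeroLocus_compl, Set.compl_subset_compl] at hf
  obtain ⟨k, hk⟩ := (PrimeSpectrum.zeroLocus_subset_zeroLocus_iff (Module.annihilator R (Module.Dual R P₁ ⧸ LinearMap.range φ.dualMap)) (Ideal.span {f})).mp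
    (by rwa [PrimeSpectrum.zeroLocus_span]) (Ideal.mem_span_singleton_self f)
  obtain ⟨ψ, hψ⟩ := exists_retraction φ (s := f ^ k) fun l => by
    rw [← Submodule.Quotient.mk_eq_zero, Submodule.Quotient.mk_smul]
    exact Module.mem_annihilator.mp hk _
  have hψ' : ∀ x, ψ (φ x) = f ^ k • x := LinearMap.congr_fun hψ
  let S := Submonoid.powers f
  refine ⟨?_, inferInstance, ?_⟩
  · rw [injective_iff_map_eq_zero]
    intro z hz
    induction z using LocalizedModule.induction_on with
    | _ m t =>
      rw [LocalizedModule.map_mk, ← LocalizedModule.zero_mk 1, LocalizedModule.mk_eq] at hz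
      obtain ⟨c, hc⟩ := hz
      simp only [Submonoid.smul_def, Submonoid.coe_one, one_smul, smul_zero] at hc
      have h := congrArg ψ hc
      rw [map_smul, hψ', map_zero, smul_smul] at h
      rw [← LocalizedModule.zero_mk 1, LocalizedModule.mk_eq]
      refine ⟨c * ⟨f ^ k, k, rfl⟩, ?_⟩
      simp only [Submonoid.smul_def, Submonoid.coe_one, one_smul, smul_zero, Submonoid.coe_mul]
      exact h
  · let σ : (P₂ ⧸ LinearMap.range φ) →ₗ[R] P₂ := (LinearMap.range φ).liftQ (f ^ k • LinearMap.id - φ ∘ₗ ψ) (by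
      rintro _ ⟨x, rfl⟩
      simp [hψ'])
    have hσ : ∀ q, (LinearMap.range φ).mkQ (σ q) = f ^ k • q := by
      intro q
      obtain ⟨y, rfl⟩ := Submodule.Quotient.mk_surjective _ q
      simp [σ]
    let u : Localization S := Localization.mk 1 (⟨f ^ k, k, rfl⟩ : S)
    refine Module.Projective.of_split (u • LocalizedModule.map S σ) (LocalizedModule.map S (LinearMap.range φ).mkQ) ?_
    refine LinearMap.ext fun z => ?_
    induction z using LocalizedModule.induction_on with
    | _ q t =>
      simp only [LinearMap.comp_apply, LinearMap.smul_apply, map_smul, LocalizedModule.map_mk, hσ, LinearMap.id_apply, u]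
      rw [LocalizedModule.mk_smul_mk, one_smul]
      exact LocalizedModule.mk_cancel_common_left (⟨f ^ k, k, rfl⟩ : S) t q

end Groth.Agent.S6309
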