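import Groth.Statements.S6310
import Mathlib
-- import your own Groth.Agent.* helpers here

set_option autoImplicit false
universe u
open CAlg

namespace Groth.Agent.S6310

/-- Let R be a ring, S ⊆ R a multiplicative subset, I ⊆ R an ideal and M a finite R-module. If x₁, …,
x_r ∈ M have images generating S⁻¹(M/IM) as an S⁻¹R-module, then there is f ∈ S + I (f = s + i with
s ∈ S, i ∈ I) such that x₁, …, x_r generate M_f as an R_f-module. -/
theorem result {R : Type u} [CommRing R] (S : Submonoid R) (I : Ideal R) (M : Type u) [AddCommGroup M] [Module R M] [Module.Finite R M] {r : ℕ} (x : Fin r → M) (hx : Submodule.span (Localization S) (Set.range fun j => LocalizedModule.mkLinearMap S (M ⧸ (I • (⊤ : Submodule R M))) (Submodule.Quotient.mk (x j))) = ⊤) : ∃ (s : R) (i : R), s ∈ S ∧ i ∈ I ∧ Submodule.span (Localization.Away (s + i)) (Set.range fun j => LocalizedModule.mkLinearMap (Submonoid.powers (s + i)) M (x j)) = ⊤ := by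
  classical
  let N : Submodule R M := Submodule.span R (Set.range x)
  let W := M ⧸ (I • (⊤ : Submodule R M))
  let ι := LocalizedModule.mkLinearMap S W
  let q : M →ₗ[R] W := Submodule.mkQ _
  have h1 : ∀ m : M, ∃ t ∈ S, t • m ∈ N ⊔ I • (⊤ : Submodule R M) := by
    intro m
    have hm : ι (q m) ∈ Submodule.span (Localization S) (ι '' (q '' Set.range x)) := by
      rw [← Set.range_comp, ← Set.range_comp]
      exact (show Submodule.span (Localization S) (Set.range ((ι ∘ q) ∘ x)) = ⊤ from hx) ▸ Submodule.mem_top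
    rw [← Submodule.localized'_span (Localization S) S ι, Submodule.mem_localized'] at hm
    obtain ⟨n, hn, s, hs⟩ := hm
    rw [IsLocalizedModule.mk'_eq_iff] at hs
    have hs' : ι ((s : R) • q m) = ι n := by rw [map_smul, hs]; rfl
    obtain ⟨c, hc⟩ := (IsLocalizedModule.eq_iff_exists S ι).mp hs'
    rw [← Submodule.map_span] at hn
    obtain ⟨n', hn', rfl⟩ := hn
    refine ⟨c * s, mul_mem c.2 s.2, ?_⟩
    have h2 : ((c : R) * s) • m - (c : R) • n' ∈ I • (⊤ : Submodule R M) := by
      rw [← Submodule.Quotient.mk_eq_zero]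
      show q (_ - _) = 0
      rw [map_sub, map_smul, map_smul, mul_smul, sub_eq_zero]
      exact hc
    rw [← sub_add_cancel (((c : R) * s) • m) ((c : R) • n')]
    exact add_mem (Submodule.mem_sup_right h2) (Submodule.mem_sup_left (Submodule.smul_mem _ _ hn'))
  choose t htS ht using h1
  obtain ⟨G, hG⟩ := (Module.Finite.fg_top : (⊤ : Submodule R M).FG)
  let s : R := ∏ g ∈ G, t g
  have hs : ∀ m : M, s • m ∈ N ⊔ I • (⊤ : Submodule R M) := by
    suffices h : (⊤ : Submodule R M) ≤ (N ⊔ I • (⊤ : Submodule R M)).comap (LinearMap.lsmul R M s) from fun m => h Submodule.mem_top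
    refine hG.ge.trans (Submodule.span_le.mpr ?_)
    intro g hg
    show s • g ∈ N ⊔ I • (⊤ : Submodule R M)
    simp only [s, ← Finset.prod_erase_mul _ _ (Finset.mem_coe.mp hg), mul_smul]
    exact Submodule.smul_mem _ _ (ht g)
  let Q := M ⧸ N
  have hr : LinearMap.range (algebraMap R (Module.End R Q) s) ≤ I • (⊤ : Submodule R Q) := by
    rintro _ ⟨y, rfl⟩
    obtain ⟨m, rfl⟩ := Submodule.Quotient.mk_surjective N y
    obtain ⟨a, ha, b, hb, hab⟩ := Submodule.mem_sup.mp (hs m)
    rw [Module.algebraMap_end_apply, ← Submodule.Quotient.mk_smul, ← hab, Submodule.Quotient.mk_add,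
      (Submodule.Quotient.mk_eq_zero N).mpr ha, zero_add]
    have := Submodule.mem_map_of_mem (f := N.mkQ) hb
    rw [Submodule.map_smul'', Submodule.map_top] at this
    exact Submodule.smul_mono le_rfl le_top this
  obtain ⟨p, hp, hd, hpI, hp0⟩ := LinearMap.exists_monic_and_natDegree_eq_and_coeff_mem_pow_and_aeval_eq_zero R (algebraMap R (Module.End R Q) s) I hr
  have hkill : ∀ m : M, p.eval s • m ∈ N := by
    intro m
    rw [Polynomial.aeval_algebraMap_apply] at hp0
    have := LinearMap.congr_fun hp0 (Submodule.Quotient.mk m)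
    rw [Module.algebraMap_end_apply, LinearMap.zero_apply, ← Submodule.Quotient.mk_smul,
      Submodule.Quotient.mk_eq_zero, Polynomial.coe_aeval_eq_eval] at this
    simpa using this
  refine ⟨s ^ p.natDegree, p.eval s - s ^ p.natDegree, pow_mem (prod_mem fun g _ => htS g) _, ?_, ?_⟩
  · rw [Polynomial.eval_eq_sum_range, Finset.sum_range_succ, hp.coeff_natDegree, one_mul, add_sub_cancel_right]
    refine Submodule.sum_mem _ fun k hk => Ideal.mul_mem_right _ _ ?_
    exact Ideal.pow_le_self (by have := Finset.mem_range.mp hk; omega) (hpI k)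
  · rw [add_sub_cancel, show (Set.range fun j => LocalizedModule.mkLinearMap (Submonoid.powers (p.eval s)) M (x j)) =
      LocalizedModule.mkLinearMap (Submonoid.powers (p.eval s)) M '' Set.range x from Set.range_comp _ _]
    rw [← Submodule.localized'_span (Localization.Away (p.eval s)) (Submonoid.powers (p.eval s)), eq_top_iff]
    intro z _
    obtain ⟨⟨m, k⟩, rfl⟩ := IsLocalizedModule.mk'_surjective (Submonoid.powers (p.eval s))
      (LocalizedModule.mkLinearMap (Submonoid.powers (p.eval s)) M) z
    rw [Submodule.mem_localized']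
    let f : Submonoid.powers (p.eval s) := ⟨_, Submonoid.mem_powers _⟩
    refine ⟨(f : R) • m, hkill m, f * k, ?_⟩
    exact IsLocalizedModule.mk'_cancel_left _ m f k

end Groth.Agent.S6310
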