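import Groth.Statements.S6311
import Mathlib
-- import your own Groth.Agent.* helpers here

set_option autoImplicit false
universe u
open CategoryTheory
open CAlg

namespace Groth.Agent.S6311

section
open CategoryTheory

variable (R : Type u) [CommRing R] [IsLocalRing R]

/-- finite projective modules -/
abbrev PP : ObjectProperty (ModuleCat.{u} R) := fun M => Module.Finite R M ∧ Module.Projective R M

theorem cl_add {A B C : Type u} [AddCommGroup A] [Module R A] [AddCommGroup B] [Module R B] [AddCommGroup C] [Module R C]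
    [Module.Finite R A] [Module.Projective R A] [Module.Finite R B] [Module.Projective R B] [Module.Finite R C] [Module.Projective R C]
    (f : A →ₗ[R] B) (g : B →ₗ[R] C) (hf : Function.Injective f) (hg : Function.Surjective g) (h : Function.Exact f g) :
    KZero.clSub (PP R) (ModuleCat.of R B) = KZero.clSub (PP R) (ModuleCat.of R A) + KZero.clSub (PP R) (ModuleCat.of R C) := by
  have hA : PP R (ModuleCat.of R A) := ⟨inferInstance, inferInstance⟩
  have hB : PP R (ModuleCat.of R B) := ⟨inferInstance, inferInstance⟩
  have hC : PP R (ModuleCat.of R C) := ⟨inferInstance, inferInstance⟩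
  simp only [KZero.clSub, dif_pos hA, dif_pos hB, dif_pos hC]
  rw [← sub_eq_zero, ← QuotientAddGroup.mk_add, ← QuotientAddGroup.mk_sub, QuotientAddGroup.eq_zero_iff]
  refine AddSubgroup.subset_closure ⟨ModuleCat.shortComplexOfCompEqZero f g h.linearMap_comp_eq_zero, hA, hB, hC,
    ModuleCat.shortComplex_shortExact _ h hf hg, ?_⟩
  rw [sub_sub]

theorem cl_zero (A : Type u) [AddCommGroup A] [Module R A] [Subsingleton A] :
    KZero.clSub (PP R) (ModuleCat.of R A) = 0 := by
  have h := cl_add R (0 : A →ₗ[R] A) (0 : A →ₗ[R] A) (fun x y _ => Subsingleton.elim x y)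
    (fun x => ⟨x, Subsingleton.elim _ _⟩) (fun x => ⟨fun _ => ⟨x, Subsingleton.elim _ _⟩, fun _ => rfl⟩)
  exact left_eq_add.mp h

theorem cl_free : ∀ (n : ℕ) (A : Type u) [AddCommGroup A] [Module R A] [Module.Finite R A] [Module.Projective R A],
    (A ≃ₗ[R] (Fin n → R)) → KZero.clSub (PP R) (ModuleCat.of R A) = n • KZero.clSub (PP R) (ModuleCat.of R R) := by
  intro n
  induction n with
  | zero =>
    intro A _ _ _ _ e
    have := e.toEquiv.subsingleton
    rw [cl_zero, zero_smul]
  | succ n ih =>
    intro A _ _ _ _ e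
    let g : A →ₗ[R] (Fin n → R) := LinearMap.funLeft R R Fin.succ ∘ₗ e.toLinearMap
    let f : R →ₗ[R] A := e.symm.toLinearMap ∘ₗ LinearMap.single R (fun _ : Fin (n + 1) => R) 0
    rw [cl_add R f g (e.symm.injective.comp (Pi.single_injective (M := fun _ : Fin (n + 1) => R) 0))
      ((LinearMap.funLeft_surjective_of_injective R R _ (Fin.succ_injective n)).comp e.surjective) ?_,
      ih (Fin n → R) (LinearEquiv.refl R _), succ_nsmul']
    intro x
    constructor
    · intro hx
      refine ⟨e x 0, e.injective ?_⟩
      simp only [f, LinearMap.comp_apply, LinearEquiv.coe_coe, LinearEquiv.apply_symm_apply]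
      funext i
      refine Fin.cases ?_ (fun j => ?_) i
      · simp
      · simpa [g, Pi.single_eq_of_ne (Fin.succ_ne_zero j)] using (congrFun hx j).symm
    · rintro ⟨r, rfl⟩
      funext j
      simp [f, g, Pi.single_eq_of_ne (Fin.succ_ne_zero j)]

end

/-- Let R be a local ring. Then K₀(R), the Grothendieck group of the category of finite projective
R-modules, is isomorphic to ℤ via the rank; precisely, there is an isomorphism K₀(R) ≅ ℤ of abelian
groups sending the class [R] to 1 (such an isomorphism is then unique, K₀(R) being generated by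
[R]). -/
theorem result (R : Type u) [CommRing R] [IsLocalRing R] : ∃ e : KZero.K0sub (fun M : ModuleCat.{u} R => Module.Finite R M ∧ Module.Projective R M) ≃+ ℤ, e (KZero.clSub (fun M : ModuleCat.{u} R => Module.Finite R M ∧ Module.Projective R M) (ModuleCat.of R R)) = 1 := by
  let P := PP R
  have hfree : ∀ M : Subtype P, Module.Free R M.1 := fun M =>
    have := M.2.1
    have := M.2.2
    Module.free_of_flat_of_isLocalRing
  let φ : FreeAbelianGroup (Subtype P) →+ ℤ := FreeAbelianGroup.lift fun M => (Module.finrank R M.1 : ℤ)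
  have hφ : KZero.relSub P ≤ φ.ker := by
    refine (AddSubgroup.closure_le _).mpr ?_
    rintro _ ⟨S, h₁, h₂, h₃, hS, rfl⟩
    have := h₁.1; have := h₁.2; have := h₂.1; have := h₂.2; have := h₃.1; have := h₃.2
    have := hfree ⟨_, h₁⟩; have := hfree ⟨_, h₂⟩; have := hfree ⟨_, h₃⟩
    have hex := (CategoryTheory.ShortComplex.ShortExact.moduleCat_exact_iff_function_exact S).mp hS.exact
    obtain ⟨s, hs⟩ := Module.projective_lifting_property S.g.hom LinearMap.id hS.moduleCat_surjective_g
    have e := (hex.splitSurjectiveEquiv hS.moduleCat_injective_f ⟨s, hs⟩).1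
    simp only [SetLike.mem_coe, AddMonoidHom.mem_ker, φ, map_sub, FreeAbelianGroup.lift_apply_of]
    rw [LinearEquiv.finrank_eq e, Module.finrank_prod]
    push_cast
    ring
  let Φ : KZero.K0sub P →+ ℤ := QuotientAddGroup.lift _ φ hφ
  let c := KZero.clSub P (ModuleCat.of R R)
  have hc : Φ c = 1 := by
    have hR : P (ModuleCat.of R R) := ⟨inferInstanceAs (Module.Finite R R), inferInstanceAs (Module.Projective R R)⟩
    simp only [Φ, c, KZero.clSub, dif_pos hR, QuotientAddGroup.lift_mk, φ, FreeAbelianGroup.lift_apply_of]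
    simp
  have hgen : (zmultiplesHom _ c).comp Φ = AddMonoidHom.id _ := by
    refine QuotientAddGroup.addMonoidHom_ext _ (FreeAbelianGroup.lift_ext _ _ fun M => ?_)
    have := hfree M
    have := M.2.1
    have := M.2.2
    simp only [AddMonoidHom.comp_apply, QuotientAddGroup.mk'_apply, Φ, QuotientAddGroup.lift_mk, φ,
      FreeAbelianGroup.lift_apply_of, zmultiplesHom_apply, natCast_zsmul, AddMonoidHom.id_apply]
    have h := cl_free R (Module.finrank R M.1) M.1 (Module.finBasis R M.1).equivFun
    rw [KZero.clSub, dif_pos M.2] at h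
    exact h.symm
  refine ⟨AddMonoidHom.toAddEquiv Φ (zmultiplesHom _ c) hgen ?_, hc⟩
  ext
  simp [hc]

end Groth.Agent.S6311
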