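import Groth.Statements.S6312
import Mathlib
-- import your own Groth.Agent.* helpers here

set_option autoImplicit false
universe u
open CAlg

namespace Groth.Agent.S6312

/-- Let R be a ring, M an R-module and S ⊆ R a multiplicative subset. Then length_{S⁻¹R}(S⁻¹M) ≤
length_R(M). -/
theorem result {R : Type u} [CommRing R] (S : Submonoid R) (M : Type u) [AddCommGroup M] [Module R M] : Module.length (Localization S) (LocalizedModule S M) ≤ Module.length R M := by
  rw [← WithBot.coe_le_coe, Module.coe_length, Module.coe_length]
  let ι := LocalizedModule.mkLinearMap S M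
  refine Order.krullDim_le_of_strictMono
    (fun N : Submodule (Localization S) (LocalizedModule S M) => (N.restrictScalars R).comap ι) ?_
  intro N N' h
  refine lt_of_le_of_ne (Submodule.comap_mono (fun z hz => h.le hz)) fun heq => h.not_ge ?_
  intro z hz
  obtain ⟨⟨m, s⟩, rfl⟩ := IsLocalizedModule.mk'_surjective S ι z
  have h1 : ι m ∈ N' := by
    show ι m ∈ N'.restrictScalars R
    rw [← IsLocalizedModule.mk'_cancel' ι m s]
    exact Submodule.smul_mem _ _ hz
  have h2 : m ∈ (N.restrictScalars R).comap ι := (SetLike.ext_iff.mp heq m).mpr h1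
  have h3 := N.smul_mem (IsLocalization.mk' (Localization S) (1 : R) s) (show ι m ∈ N from h2)
  rwa [← IsLocalizedModule.mk'_one S ι, IsLocalizedModule.mk'_smul_mk', one_smul, mul_one] at h3

end Groth.Agent.S6312
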