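import Groth.Statements.S6317
import Mathlib
import Groth.Agent.KFlat.HomologyColim
-- import your own Groth.Agent.* helpers here

set_option autoImplicit false
universe u
open CategoryTheory
open CAlg

namespace Groth.Agent.S6317

section
open CategoryTheory CategoryTheory.Limits MonoidalCategory

variable (R : Type u) [CommRing R]

/-- `X ↦ X ⊗ P` as a functor to complexes -/
noncomputable def tensorCx (P : ChainComplex (ModuleCat.{u} R) ℕ) :
    ModuleCat.{u} R ⥤ ChainComplex (ModuleCat.{u} R) ℕ where
  obj X := (((tensoringLeft (ModuleCat.{u} R)).obj X).mapHomologicalComplex _).obj P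
  map f := (NatTrans.mapHomologicalComplex ((tensoringLeft (ModuleCat.{u} R)).map f) _).app P
  map_id X := by ext : 1; simp
  map_comp f g := by ext : 1; simp

instance (X : ModuleCat.{u} R) : PreservesColimitsOfSize.{u, u} (tensorRight X) :=
  preservesColimits_of_natIso (BraidedCategory.tensorLeftIsoTensorRight X)

instance tensorCx_preserves (P : ChainComplex (ModuleCat.{u} R) ℕ) (J : Type u) [SmallCategory J] :
    PreservesColimitsOfShape J (tensorCx R P) :=
  HomologicalComplex.preservesColimitsOfShape_of_eval _ fun i =>
    preservesColimitsOfShape_of_natIso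
      (NatIso.ofComponents (fun _ => Iso.refl _) (fun f => (Category.comp_id _).trans (Category.id_comp _).symm) :
        tensorRight (P.X i) ≅ tensorCx R P ⋙ HomologicalComplex.eval _ _ i)

end

/-- Let R be a ring, N an R-module and n ≥ 0. Then M ↦ Tor_nᴿ(M, N) commutes with filtered colimits:
Tor_n(colim Mᵢ, N) = colim Tor_n(Mᵢ, N). -/
theorem result (R : Type u) [CommRing R] (N : ModuleCat.{u} R) (n : ℕ) : Limits.PreservesFilteredColimits ((CategoryTheory.Tor (ModuleCat.{u} R) n).flip.obj N) := by
  let P := projectiveResolution N
  let e : tensorCx R P.complex ⋙ HomologicalComplex.homologyFunctor (ModuleCat.{u} R) _ n ≅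
      (CategoryTheory.Tor (ModuleCat.{u} R) n).flip.obj N :=
    NatIso.ofComponents (fun X => (P.isoLeftDerivedObj _ n).symm) (fun {X Y} f => by
      simp only [Functor.flip_obj_map, CategoryTheory.Tor_map, Iso.symm_hom, Functor.comp_map]
      rw [ProjectiveResolution.leftDerived_app_eq ((MonoidalCategory.tensoringLeft (ModuleCat.{u} R)).map f) P n]
      exact (Iso.inv_hom_id_assoc _ _).symm)
  exact ⟨fun J _ _ => Limits.preservesColimitsOfShape_of_natIso e⟩

end Groth.Agent.S6317
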