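import Groth.Statements.S6319
import Mathlib
-- import your own Groth.Agent.* helpers here

set_option autoImplicit false
universe u
open CategoryTheory
open CAlg

namespace Groth.Agent.S6319

/-- Let R be an Artinian local ring. The length function defines a homomorphism of abelian groups
length_R : K'₀(R) → ℤ on the Grothendieck group of finite R-modules, sending the class of a finite
module M to its (finite) length. -/
theorem result (R : Type u) [CommRing R] [IsArtinianRing R] [IsLocalRing R] : ∃ φ : KZero.K0sub (fun M : ModuleCat.{u} R => Module.Finite R M) →+ ℤ, ∀ (M : ModuleCat.{u} R), Module.Finite R M → (φ (KZero.clSub (fun M : ModuleCat.{u} R => Module.Finite R M) M) : ℤ) = (Module.length R M).toNat := by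
  let P : CategoryTheory.ObjectProperty (ModuleCat.{u} R) := fun M => Module.Finite R M
  let φ : FreeAbelianGroup (Subtype P) →+ ℤ := FreeAbelianGroup.lift fun M => ((Module.length R M.1).toNat : ℤ)
  have hφ : KZero.relSub P ≤ φ.ker := by
    refine (AddSubgroup.closure_le _).mpr ?_
    rintro _ ⟨S, h₁, h₂, h₃, hS, rfl⟩
    have : Module.Finite R S.X₁ := h₁
    have : Module.Finite R S.X₃ := h₃
    have hex := (CategoryTheory.ShortComplex.ShortExact.moduleCat_exact_iff_function_exact S).mp hS.exact
    have h := Module.length_eq_add_of_exact S.f.hom S.g.hom hS.moduleCat_injective_f hS.moduleCat_surjective_g hex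
    simp only [SetLike.mem_coe, AddMonoidHom.mem_ker, φ, map_sub, FreeAbelianGroup.lift_apply_of]
    rw [h, ENat.toNat_add Module.length_ne_top Module.length_ne_top]
    push_cast
    ring
  refine ⟨QuotientAddGroup.lift _ φ hφ, fun M hM => ?_⟩
  simp only [KZero.clSub, dif_pos hM, QuotientAddGroup.lift_mk, φ, FreeAbelianGroup.lift_apply_of]

end Groth.Agent.S6319
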