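import Groth.Statements.S6320
import Mathlib.RingTheory.Length
import Mathlib.RingTheory.SimpleModule.Basic
import Mathlib.Algebra.Module.LocalizedModule.Exact

set_option autoImplicit false
universe u
open CAlg

namespace Groth.Agent.S6320

theorem simp_len {R : Type u} [CommRing R] (m : Ideal R) [m.IsMaximal] (Q : Type u) [AddCommGroup Q] [Module R Q]
    (hQ : IsSimpleModule R Q) :
    Module.length (Localization.AtPrime m) (LocalizedModule m.primeCompl Q) =
      if Module.annihilator R Q = m then 1 else 0 := by
  split_ifs with h
  · rw [Module.length_eq_one_iff]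
    have hsm : ∀ s : m.primeCompl, Function.Bijective (fun x : Q => (s : R) • x) := fun s => by
      have hs : (s : R) ∉ Module.annihilator R Q := h ▸ s.2
      let l : Q →ₗ[R] Q := (s : R) • LinearMap.id
      refine (LinearMap.bijective_or_eq_zero l).resolve_right fun hl => hs ?_
      exact Module.mem_annihilator.mpr fun x => LinearMap.congr_fun hl x
    let μ := LocalizedModule.mkLinearMap m.primeCompl Q
    have hμ : Function.Bijective μ := by
      refine ⟨(injective_iff_map_eq_zero μ).mpr fun x hx => ?_, fun z => ?_⟩
      · obtain ⟨s, hs⟩ := (IsLocalizedModule.eq_zero_iff m.primeCompl μ).mp hx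
        exact (hsm s).1 (hs.trans (smul_zero _).symm)
      · induction z using LocalizedModule.induction_on with
        | h x s =>
          obtain ⟨y, rfl⟩ := (hsm s).2 x
          exact ⟨y, (LocalizedModule.mk_cancel s y).symm⟩
    have : IsSimpleModule R (LocalizedModule m.primeCompl Q) :=
      IsSimpleModule.congr (LinearEquiv.ofBijective μ hμ).symm
    have : Nontrivial (LocalizedModule m.primeCompl Q) := IsSimpleModule.nontrivial R _
    exact (isSimpleModule_iff _ _).mpr ⟨fun N => (eq_bot_or_eq_top (N.restrictScalars R)).imp
      (fun e => Submodule.restrictScalars_injective R _ _ (e.trans (Submodule.restrictScalars_bot R _ _).symm))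
      (fun e => Submodule.restrictScalars_injective R _ _ (e.trans (Submodule.restrictScalars_top R _ _).symm))⟩
  · have : (Module.annihilator R Q).IsMaximal := IsSimpleModule.annihilator_isMaximal
    obtain ⟨r, hr, hrm⟩ := SetLike.not_le_iff_exists.mp
      (fun hle => h (Ideal.IsMaximal.eq_of_le inferInstance (Ideal.IsPrime.ne_top inferInstance) hle))
    have : Subsingleton (LocalizedModule m.primeCompl Q) :=
      LocalizedModule.subsingleton_iff.mpr fun x => ⟨r, hrm, Module.mem_annihilator.mp hr x⟩
    exact Module.length_eq_zero

/-- Let A be a local ring with maximal ideal m, B a semi-local ring with maximal ideals m₁, …, mₙ and A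
→ B a ring map such that each mᵢ lies over m with [κ(mᵢ) : κ(m)] finite. Then for every B-module M
of finite length, length_A(M) = Σᵢ [κ(mᵢ) : κ(m)] · length_{B_{mᵢ}}(M_{mᵢ}); in particular
length_A(M) is finite. -/
theorem result {A B : Type u} [CommRing A] [IsLocalRing A] [CommRing B] [Algebra A B] [Finite (MaximalSpectrum B)] (hover : ∀ n : MaximalSpectrum B, n.asIdeal.comap (algebraMap A B) = IsLocalRing.maximalIdeal A) (hfin : ∀ n : MaximalSpectrum B, Module.Finite (A ⧸ n.asIdeal.comap (algebraMap A B)) (B ⧸ n.asIdeal)) (M : Type u) [AddCommGroup M] [Module B M] [Module A M] [IsScalarTower A B M] (hM : IsFiniteLength B M) : Module.length A M = ∑ᶠ n : MaximalSpectrum B, (Module.finrank (A ⧸ n.asIdeal.comap (algebraMap A B)) (B ⧸ n.asIdeal) : ℕ∞) * Module.length (Localization.AtPrime n.asIdeal) (LocalizedModule n.asIdeal.primeCompl M) := by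
  classical
  haveI := Fintype.ofFinite (MaximalSpectrum B)
  rw [finsum_eq_sum_of_fintype]
  suffices H : ∀ (M : Type u) [AddCommGroup M] [Module B M], IsFiniteLength B M → ∀ [Module A M] [IsScalarTower A B M],
      Module.length A M = ∑ n : MaximalSpectrum B, (Module.finrank (A ⧸ n.asIdeal.comap (algebraMap A B)) (B ⧸ n.asIdeal) : ℕ∞) *
        Module.length (Localization.AtPrime n.asIdeal) (LocalizedModule n.asIdeal.primeCompl M) from H M hM
  intro M _ _ hM
  induction hM with
  | @of_subsingleton M _ _ _ =>
    intro _ _
    rw [Module.length_eq_zero]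
    refine (Finset.sum_eq_zero fun n _ => ?_).symm
    have : Subsingleton (LocalizedModule n.asIdeal.primeCompl M) :=
      LocalizedModule.subsingleton_iff.mpr fun x => ⟨1, n.asIdeal.primeCompl.one_mem, Subsingleton.elim _ _⟩
    rw [Module.length_eq_zero, mul_zero]
  | @of_simple_quotient M _ _ N _ _ ih =>
    intro _ _
    have hex : Function.Exact N.subtype N.mkQ := LinearMap.exact_subtype_mkQ N
    rw [Module.length_eq_add_of_exact (N.subtype.restrictScalars A) (N.mkQ.restrictScalars A)
      Subtype.val_injective N.mkQ_surjective hex, ih]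
    have hloc : ∀ n : MaximalSpectrum B,
        Module.length (Localization.AtPrime n.asIdeal) (LocalizedModule n.asIdeal.primeCompl M) =
          Module.length (Localization.AtPrime n.asIdeal) (LocalizedModule n.asIdeal.primeCompl N) +
          if Module.annihilator B (M ⧸ N) = n.asIdeal then 1 else 0 := fun n => by
      rw [← simp_len n.asIdeal (M ⧸ N) inferInstance]
      exact Module.length_eq_add_of_exact (LocalizedModule.map n.asIdeal.primeCompl N.subtype)
        (LocalizedModule.map n.asIdeal.primeCompl N.mkQ)
        (IsLocalizedModule.map_injective n.asIdeal.primeCompl (LocalizedModule.mkLinearMap _ _)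
          (LocalizedModule.mkLinearMap _ _) N.subtype Subtype.val_injective)
        (IsLocalizedModule.map_surjective n.asIdeal.primeCompl (LocalizedModule.mkLinearMap _ _)
          (LocalizedModule.mkLinearMap _ _) N.mkQ N.mkQ_surjective)
        (LocalizedModule.map_exact n.asIdeal.primeCompl N.subtype N.mkQ hex)
    simp only [hloc, mul_add, Finset.sum_add_distrib]
    congr 1
    obtain ⟨I, hI, ⟨e⟩⟩ := isSimpleModule_iff_quot_maximal.mp (inferInstance : IsSimpleModule B (M ⧸ N))
    have hann : Module.annihilator B (M ⧸ N) = I := by rw [e.annihilator_eq, Ideal.annihilator_quotient]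
    let n₀ : MaximalSpectrum B := ⟨I, hI⟩
    rw [Finset.sum_eq_single n₀ (fun n _ hn => by
        rw [if_neg fun h => hn (MaximalSpectrum.ext (h.symm.trans hann)), mul_zero])
      (fun h => absurd (Finset.mem_univ _) h), if_pos hann, mul_one, (e.restrictScalars A).length_eq]
    haveI : IsScalarTower A (A ⧸ n₀.asIdeal.comap (algebraMap A B)) (B ⧸ n₀.asIdeal) :=
      IsScalarTower.of_algebraMap_eq fun _ => rfl
    haveI hp : (n₀.asIdeal.comap (algebraMap A B)).IsMaximal := hover n₀ ▸ inferInstance
    letI := Ideal.Quotient.field (n₀.asIdeal.comap (algebraMap A B))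
    haveI := hfin n₀
    rw [Module.length_eq_of_surjective (R := A ⧸ n₀.asIdeal.comap (algebraMap A B)) (S := A) (M := B ⧸ I)
      Ideal.Quotient.mk_surjective]
    exact Module.length_eq_finrank _ _

end Groth.Agent.S6320
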