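import Groth.Statements.S6321
import Mathlib.RingTheory.Flat.EquationalCriterion
import Mathlib.RingTheory.RingHom.FaithfullyFlat
import Mathlib.Algebra.Colimit.Ring
import Mathlib.Data.Fintype.Order

set_option autoImplicit false
universe u
open CAlg

namespace Groth.Agent.S6321

/-- Let R be a ring and (Sᵢ, φᵢⱼ) a directed system of faithfully flat R-algebras whose transition maps
are R-algebra maps. Then S = colim Sᵢ is a faithfully flat R-algebra: for any index i the composite
R → Sᵢ → S is faithfully flat. -/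
theorem result {R : Type u} [CommRing R] {ι : Type u} [Preorder ι] [Nonempty ι] [IsDirected ι (· ≤ ·)] (G : ι → Type u) [∀ i, CommRing (G i)] [∀ i, Algebra R (G i)] (f : ∀ i j, i ≤ j → G i →+* G j) [DirectedSystem G fun i j h => f i j h] (hcompat : ∀ i j (h : i ≤ j), (f i j h).comp (algebraMap R (G i)) = algebraMap R (G j)) (hff : ∀ i, (algebraMap R (G i)).FaithfullyFlat) (i : ι) : ((Ring.DirectLimit.of G (fun i j h => f i j h) i).comp (algebraMap R (G i))).FaithfullyFlat := by
  classical
  haveI : IsDirectedOrder ι := ‹_›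
  let F : ∀ a b, a ≤ b → G a → G b := fun a b h => f a b h
  let S := Ring.DirectLimit G F
  have hof : ∀ a, (Ring.DirectLimit.of G F a).comp (algebraMap R (G a)) =
      (Ring.DirectLimit.of G F i).comp (algebraMap R (G i)) := fun a => by
    obtain ⟨b, hab, hib⟩ := exists_ge_ge a i
    refine RingHom.ext fun r => ?_
    show Ring.DirectLimit.of G F a (algebraMap R (G a) r) = Ring.DirectLimit.of G F i (algebraMap R (G i) r)
    rw [← Ring.DirectLimit.of_f (G := G) (f := F) hab, ← Ring.DirectLimit.of_f (G := G) (f := F) hib]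
    show Ring.DirectLimit.of G F b (f a b hab (algebraMap R (G a) r)) = Ring.DirectLimit.of G F b (f i b hib (algebraMap R (G i) r))
    rw [← RingHom.comp_apply (f a b hab), hcompat, ← RingHom.comp_apply (f i b hib), hcompat]
  letI : Algebra R S := ((Ring.DirectLimit.of G F i).comp (algebraMap R (G i))).toAlgebra
  have hsmul : ∀ a (r : R) (x : G a), r • Ring.DirectLimit.of G F a x = Ring.DirectLimit.of G F a (r • x) := by
    intro a r x
    rw [Algebra.smul_def, Algebra.smul_def, map_mul]
    congr 1
    exact (RingHom.congr_fun (hof a) r).symm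
  haveI : ∀ a, Module.FaithfullyFlat R (G a) := fun a => RingHom.faithfullyFlat_algebraMap_iff.mp (hff a)
  have hlift : ∀ (k : ℕ) (x : Fin k → S), ∃ (a : ι) (x' : Fin k → G a),
      ∀ l, Ring.DirectLimit.of G F a (x' l) = x l := by
    intro k x
    choose a y hy using fun l => Ring.DirectLimit.exists_of (G := G) (f := F) (x l)
    obtain ⟨b, hb⟩ := Finite.exists_le a
    exact ⟨b, fun l => F (a l) b (hb l) (y l), fun l => by rw [Ring.DirectLimit.of_f, hy]⟩
  haveI : Module.Flat R S := by
    refine Module.Flat.of_forall_isTrivialRelation fun {l r x} h => ?_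
    obtain ⟨a, x', hx'⟩ := hlift l x
    have h0 : Ring.DirectLimit.of G F a (∑ t, r t • x' t) = 0 := by
      rw [map_sum, ← h]
      exact Finset.sum_congr rfl fun t _ => by rw [← hsmul, hx']
    obtain ⟨b, hab, hb⟩ := Ring.DirectLimit.of.zero_exact (f' := f) h0
    have h1 : ∑ t, r t • f a b hab (x' t) = 0 := by
      rw [← hb, map_sum]
      refine Finset.sum_congr rfl fun t _ => ?_
      rw [Algebra.smul_def, Algebra.smul_def, map_mul, ← RingHom.comp_apply (f a b hab), hcompat]
    obtain ⟨k, c, y, hy, hc⟩ := Module.Flat.isTrivialRelation_of_sum_smul_eq_zero h1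
    refine ⟨k, c, fun j => Ring.DirectLimit.of G F b (y j), fun t => ?_, hc⟩
    rw [← hx', ← Ring.DirectLimit.of_f (G := G) (f := F) hab]
    show Ring.DirectLimit.of G F b (f a b hab (x' t)) = _
    rw [show f a b hab (x' t) = _ from hy t, map_sum]
    exact Finset.sum_congr rfl fun j _ => (hsmul b _ _).symm
  show Module.FaithfullyFlat R S
  refine ⟨fun m hm htop => ?_⟩
  have h1 : (1 : S) ∈ m • (⊤ : Submodule R S) := by rw [htop]; trivial
  rw [Ideal.smul_top_eq_map] at h1
  have h1' : (1 : S) ∈ Submodule.span S (algebraMap R S '' (m : Set R)) := h1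
  rw [Submodule.mem_span_set'] at h1'
  obtain ⟨k, c, g, hg⟩ := h1'
  choose r hr hrg using fun t => (g t).2
  obtain ⟨a, c', hc'⟩ := hlift k c
  have h0 : Ring.DirectLimit.of G F a ((∑ t, r t • c' t) - 1) = 0 := by
    rw [map_sub, map_one, map_sum, sub_eq_zero]
    refine Eq.trans (Finset.sum_congr rfl fun t _ => ?_) hg
    rw [← hsmul, hc', smul_eq_mul, ← hrg t, mul_comm]
    exact Algebra.smul_def _ _
  obtain ⟨b, hab, hb⟩ := Ring.DirectLimit.of.zero_exact (f' := f) h0
  have h2 : (1 : G b) ∈ m • (⊤ : Submodule R (G b)) := by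
    rw [map_sub, map_one, sub_eq_zero] at hb
    rw [← hb, map_sum]
    refine Submodule.sum_mem _ fun t _ => ?_
    rw [show r t • c' t = algebraMap R (G a) (r t) * c' t from Algebra.smul_def _ _, map_mul, ← RingHom.comp_apply (f a b hab), hcompat, ← Algebra.smul_def]
    exact Submodule.smul_mem_smul (hr t) trivial
  refine Module.FaithfullyFlat.submodule_ne_top (R := R) (M := G b) hm (eq_top_iff.mpr fun z _ => ?_)
  rw [Ideal.smul_top_eq_map] at h2 ⊢
  have h3 : (1 : G b) ∈ m.map (algebraMap R (G b)) := h2
  have := Ideal.mul_mem_left _ z h3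
  rw [mul_one] at this
  exact this

end Groth.Agent.S6321
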