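import Groth.Statements.S6322
import Mathlib.CategoryTheory.Abelian.Projective.Resolution
import Mathlib.Algebra.Category.ModuleCat.Projective
import Mathlib.Algebra.Category.ModuleCat.Abelian

set_option autoImplicit false
universe u
open CategoryTheory
open CAlg

namespace Groth.Agent.S6322

/-- Let R be a ring, M → N a map of R-modules, N• → N a resolution (a chain complex with a
quasi-isomorphism onto N placed in degree 0) and … → F₁ → F₀ → M a complex with every Fᵢ free (F• a
chain complex with an augmentation to M in degree 0, exactness not required). Then (1) there is a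
map of complexes F• → N• compatible with M → N through the augmentations, and (2) any two such maps
are homotopic. -/
theorem result (R : Type u) [CommRing R] (M N : ModuleCat.{u} R) (g : M ⟶ N) (F Nc : ChainComplex (ModuleCat.{u} R) ℕ) (hF : ∀ i, Module.Free R (F.X i)) (εF : F ⟶ (ChainComplex.single₀ (ModuleCat.{u} R)).obj M) (εN : Nc ⟶ (ChainComplex.single₀ (ModuleCat.{u} R)).obj N) [QuasiIso εN] : (∃ φ : F ⟶ Nc, φ ≫ εN = εF ≫ (ChainComplex.single₀ (ModuleCat.{u} R)).map g) ∧ ∀ α β : F ⟶ Nc, α ≫ εN = εF ≫ (ChainComplex.single₀ (ModuleCat.{u} R)).map g → β ≫ εN = εF ≫ (ChainComplex.single₀ (ModuleCat.{u} R)).map g → Nonempty (Homotopy α β) := by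
  classical
  open Limits in
  have hproj : ∀ i, Projective (F.X i) := fun i =>
    haveI := hF i
    (F.X i).projective_of_categoryTheory_projective
  have w₀ : Nc.d 1 0 ≫ εN.f 0 = 0 := by
    rw [← εN.comm 1 0, HomologicalComplex.single_obj_d, comp_zero]
  have hs : ∀ n, (ShortComplex.mk _ _ (Nc.d_comp_d (n + 2) (n + 1) n)).Exact := fun n =>
    ((HomologicalComplex.exactAt_iff' _ (n + 2) (n + 1) n) (by simp only [ChainComplex.prev]; rfl) (by simp)).1
      (by rw [← quasiIsoAt_iff_exactAt' εN (n + 1) (ChainComplex.exactAt_succ_single_obj _ _)]; infer_instance)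
  have hcok : IsColimit (CokernelCofork.ofπ (εN.f 0) w₀) := by
    refine IsColimit.ofIsoColimit (Nc.opcyclesIsCokernel 1 0 (by simp)) ?_
    refine Cofork.ext (Nc.isoHomologyι₀.symm ≪≫ isoOfQuasiIsoAt εN 0 ≪≫
      HomologicalComplex.singleObjHomologySelfIso _ _ _) ?_
    rw [← cancel_mono (HomologicalComplex.singleObjHomologySelfIso (ComplexShape.down ℕ) 0 _).inv,
      ← cancel_mono (ChainComplex.isoHomologyι₀ _).hom]
    set_option backward.defeqAttrib.useBackward true in dsimp
    simp only [ChainComplex.isoHomologyι₀_inv_naturality_assoc, HomologicalComplex.p_opcyclesMap_assoc,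
      ChainComplex.single₀_obj_zero, Category.assoc, Iso.hom_inv_id, Category.comp_id,
      HomologicalComplex.isoHomologyι_inv_hom_id, HomologicalComplex.singleObjHomologySelfIso_inv_homologyι,
      HomologicalComplex.singleObjOpcyclesSelfIso_hom, ChainComplex.single₀ObjXSelf, Iso.refl_inv,
      Category.id_comp]
  let e0 : Nc.X 0 ⟶ N := εN.f 0
  haveI hepi : Epi e0 := epi_of_isColimit_cofork hcok
  have h₀ : (ShortComplex.mk _ _ w₀).Exact := ShortComplex.exact_of_g_is_cokernel _ hcok
  constructor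
  · let a0 : F.X 0 ⟶ M := εF.f 0
    let f0 : F.X 0 ⟶ Nc.X 0 := @Projective.factorThru _ _ _ _ _ (hproj 0) (a0 ≫ g) e0 hepi
    have hf0 : f0 ≫ e0 = a0 ≫ g := @Projective.factorThru_comp _ _ _ _ _ (hproj 0) (a0 ≫ g) e0 hepi
    have wF : F.d 1 0 ≫ εF.f 0 = 0 := by
      rw [← εF.comm 1 0, HomologicalComplex.single_obj_d, comp_zero]
    have h1 : (F.d 1 0 ≫ f0) ≫ εN.f 0 = 0 := by
      exact (Category.assoc _ _ _).trans ((congrArg (F.d 1 0 ≫ ·) hf0).trans ((Category.assoc _ _ _).symm.trans (by erw [wF, zero_comp]; rfl)))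
    let φ : F ⟶ Nc := ChainComplex.mkHom _ _ f0 (h₀.liftFromProjective (F.d 1 0 ≫ f0) h1)
      (h₀.liftFromProjective_comp _ _) fun n ⟨a, b, w⟩ =>
        ⟨(hs n).liftFromProjective (F.d (n + 2) (n + 1) ≫ b) (by simp [w]), (hs n).liftFromProjective_comp _ _⟩
    exact ⟨φ, HomologicalComplex.to_single_hom_ext hf0⟩
  · intro α β hα hβ
    let δ := α - β
    have hδ : δ.f 0 ≫ εN.f 0 = 0 := by
      have h := HomologicalComplex.congr_hom (hα.trans hβ.symm) 0
      show (α.f 0 - β.f 0) ≫ εN.f 0 = 0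
      rw [Preadditive.sub_comp, sub_eq_zero]
      exact h
    let z0 := h₀.liftFromProjective (δ.f 0) hδ
    have hz0 : z0 ≫ Nc.d 1 0 = δ.f 0 := h₀.liftFromProjective_comp _ _
    let z1 := (hs 0).liftFromProjective (δ.f 1 - F.d 1 0 ≫ z0)
      (by rw [Preadditive.sub_comp, Category.assoc, hz0, HomologicalComplex.Hom.comm, sub_self])
    have hz1 : z1 ≫ Nc.d 2 1 = δ.f 1 - F.d 1 0 ≫ z0 := (hs 0).liftFromProjective_comp _ _
    exact ⟨Homotopy.equivSubZero.invFun (Homotopy.mkInductive δ z0 (by rw [hz0]) z1 (by rw [hz1]; abel)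
      fun n ⟨a, b, w⟩ => ⟨(hs (n + 1)).liftFromProjective (δ.f (n + 2) - F.d _ _ ≫ b) (by simp [w]),
        (sub_eq_iff_eq_add'.mp ((hs (n + 1)).liftFromProjective_comp _ _).symm)⟩)⟩

end Groth.Agent.S6322
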