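import Groth.Statements.S6324
import Mathlib.RingTheory.ReesAlgebra
import Mathlib.RingTheory.IntegralClosure.IsIntegral.Basic

set_option autoImplicit false
universe u
open scoped TensorProduct
open CAlg

namespace Groth.Agent.S6324

/-- Let R → S be a ring map, I ⊆ R an ideal and A = Σ Iⁿtⁿ ⊆ R[t] the Rees algebra of I. For s ∈ S,
being integral over I is equivalent to s·t ∈ S[t] being integral over A (via A ⊆ R[t] → S[t]). -/
theorem result {R S : Type u} [CommRing R] [CommRing S] [Algebra R S] (I : Ideal R) (s : S) : W4stkalgebra1.IsIntegralOverIdeal I s ↔ ((Polynomial.mapRingHom (algebraMap R S)).comp (reesAlgebra I).val.toRingHom).IsIntegralElem (Polynomial.C s * Polynomial.X) := by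
  classical
  open Polynomial in
  constructor
  · rintro ⟨p, hp, hcoef, hps⟩
    set d := p.natDegree
    let a : Fin d → reesAlgebra I := fun j =>
      ⟨monomial (d - (j : ℕ)) (p.coeff j), reesAlgebra.monomial_mem.mpr (hcoef j j.2)⟩
    refine ⟨X ^ d + ∑ j : Fin d, C (a j) * X ^ (j : ℕ), monic_X_pow_add ((degree_sum_le _ _).trans_lt
      ((Finset.sup_lt_iff (WithBot.bot_lt_coe d)).mpr fun j _ => (degree_C_mul_X_pow_le _ _).trans_lt
        (WithBot.coe_lt_coe.mpr j.2))), ?_⟩
    rw [eval₂_add, eval₂_X_pow, eval₂_finsetSum]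
    simp only [eval₂_mul, eval₂_C, eval₂_X_pow, RingHom.comp_apply]
    have ha : ∀ j : Fin d, (Polynomial.mapRingHom (algebraMap R S)) ((reesAlgebra I).val (a j)) *
        (C s * X) ^ (j : ℕ) = C (algebraMap R S (p.coeff j) * s ^ (j : ℕ)) * X ^ d := by
      intro j
      show (monomial (d - (j : ℕ)) (p.coeff j)).map (algebraMap R S) * _ = _
      rw [map_monomial, ← C_mul_X_pow_eq_monomial, mul_pow, ← C_pow, mul_mul_mul_comm, ← C_mul, ← pow_add,
        Nat.sub_add_cancel j.2.le]
    refine (congrArg ((C s * X) ^ d + ·) (Finset.sum_congr rfl fun j _ => ha j)).trans ?_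
    rw [mul_pow, ← C_pow, ← Finset.sum_mul, ← map_sum, ← add_mul, ← C_add]
    have h0 : s ^ d + ∑ j : Fin d, algebraMap R S (p.coeff j) * s ^ (j : ℕ) = 0 := by
      conv_lhs at hps => rw [hp.as_sum]
      rw [eval₂_add, eval₂_X_pow, eval₂_finsetSum] at hps
      simp only [eval₂_mul, eval₂_C, eval₂_X_pow] at hps
      rw [Fin.sum_univ_eq_sum_range (fun j => algebraMap R S (p.coeff j) * s ^ j)]
      exact hps
    rw [h0, map_zero, zero_mul]
  · rintro ⟨q, hq, hqs⟩
    set d := q.natDegree
    let b : Fin d → R := fun j => ((q.coeff j : reesAlgebra I) : R[X]).coeff (d - (j : ℕ))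
    obtain hR | hR := subsingleton_or_nontrivial R
    · refine ⟨1, monic_one, fun j hj => absurd hj (by simp), ?_⟩
      haveI := (algebraMap R S).codomain_trivial
      exact Subsingleton.elim _ _
    set r := ∑ j : Fin d, C (b j) * X ^ (j : ℕ) with hr
    have hdeg : r.degree < d := (degree_sum_le _ _).trans_lt
      ((Finset.sup_lt_iff (WithBot.bot_lt_coe d)).mpr fun j _ => (degree_C_mul_X_pow_le _ _).trans_lt
        (WithBot.coe_lt_coe.mpr j.2))
    have hp : (X ^ d + r).Monic := monic_X_pow_add hdeg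
    have hnd : (X ^ d + r).natDegree = d := by
      rw [natDegree_eq_of_degree_eq (degree_add_eq_left_of_degree_lt (by rwa [degree_X_pow])), natDegree_X_pow]
    refine ⟨X ^ d + r, hp, fun j hj => ?_, ?_⟩
    · rw [hnd] at hj
      rw [hnd, coeff_add, coeff_X_pow, if_neg hj.ne, zero_add, hr, finsetSum_coeff,
        Finset.sum_eq_single (⟨j, hj⟩ : Fin d) (fun i _ hi => by
          rw [coeff_C_mul, coeff_X_pow, if_neg (fun e => hi (Fin.ext e.symm)), mul_zero])
          (fun h => absurd (Finset.mem_univ _) h)]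
      rw [coeff_C_mul, coeff_X_pow, if_pos rfl, mul_one]
      exact (q.coeff j).2 _
    · have h1 := congrArg (fun z => coeff z d) hqs
      rw [hq.as_sum, eval₂_add, eval₂_X_pow, eval₂_finsetSum] at h1
      simp only [eval₂_mul, eval₂_C, eval₂_X_pow, RingHom.comp_apply, coeff_add, finsetSum_coeff, mul_pow,
        ← C_pow, coeff_C_mul, coeff_X_pow, mul_one, coeff_zero] at h1
      rw [if_pos (show d = q.natDegree from rfl), mul_one] at h1
      rw [eval₂_add, eval₂_X_pow, hr, eval₂_finsetSum]
      simp only [eval₂_mul, eval₂_C, eval₂_X_pow]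
      rw [Fin.sum_univ_eq_sum_range (fun j => algebraMap R S (((q.coeff j : reesAlgebra I) : R[X]).coeff (d - j)) * s ^ j)]
      refine Eq.trans (congrArg (s ^ d + ·) (Finset.sum_congr rfl fun j hj => ?_)) h1
      rw [Finset.mem_range] at hj
      rw [← mul_assoc, coeff_mul_X_pow', if_pos hj.le, coeff_mul_C]
      show _ = (((q.coeff j : reesAlgebra I) : R[X]).map (algebraMap R S)).coeff (d - j) * s ^ j
      rw [coeff_map]

end Groth.Agent.S6324
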