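import Groth.Statements.S6325
import Groth.Agent.S6324
import Mathlib.RingTheory.IntegralClosure.IsIntegralClosure.Basic

set_option autoImplicit false
universe u
open scoped TensorProduct
open CAlg

namespace Groth.Agent.S6325

/-- Let R → S be a ring map and I ⊆ R an ideal. The elements of S integral over I form an R-submodule of
S; moreover, the product s s' is integral over I for any s ∈ S integral over R and any s' ∈ S
integral over I. -/
theorem result {R S : Type u} [CommRing R] [CommRing S] [Algebra R S] (I : Ideal R) : (∃ N : Submodule R S, ∀ s : S, s ∈ N ↔ W4stkalgebra1.IsIntegralOverIdeal I s) ∧ (∀ s s' : S, IsIntegral R s → W4stkalgebra1.IsIntegralOverIdeal I s' → W4stkalgebra1.IsIntegralOverIdeal I (s * s')) := by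
  classical
  open Polynomial in
  let σ : reesAlgebra I →+* S[X] := (mapRingHom (algebraMap R S)).comp (reesAlgebra I).val.toRingHom
  letI : Algebra (reesAlgebra I) S[X] := σ.toAlgebra
  have hiff : ∀ s : S, W4stkalgebra1.IsIntegralOverIdeal I s ↔ IsIntegral (reesAlgebra I) (C s * X) :=
    fun (s : S) => Groth.Agent.S6324.result I s
  have hC : ∀ s : S, IsIntegral R s → IsIntegral (reesAlgebra I) (C s) := by
    rintro s ⟨p, hp, hps⟩
    refine ⟨p.map (algebraMap R (reesAlgebra I)), hp.map _, ?_⟩
    rw [eval₂_map, show (algebraMap (reesAlgebra I) S[X]).comp (algebraMap R (reesAlgebra I)) =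
      (C : S →+* S[X]).comp (algebraMap R S) from RingHom.ext fun r => ?_, ← hom_eval₂, hps, map_zero]
    show (Polynomial.C r).map (algebraMap R S) = _
    rw [map_C]; rfl
  refine ⟨⟨{ carrier := {s | IsIntegral (reesAlgebra I) (C s * X)}
             add_mem' := fun {a b} ha hb => ?_
             zero_mem' := ?_
             smul_mem' := fun r a ha => ?_ }, fun s => (hiff s).symm⟩, fun s s' hs hs' => ?_⟩
  · show IsIntegral (reesAlgebra I) (C (a + b) * X)
    rw [C_add, add_mul]; exact ha.add hb
  · show IsIntegral (reesAlgebra I) (C 0 * X)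
    rw [C_0, zero_mul]; exact isIntegral_zero
  · show IsIntegral (reesAlgebra I) (C (r • a) * X)
    rw [Algebra.smul_def, C_mul, mul_assoc]
    exact (hC _ isIntegral_algebraMap).mul ha
  · rw [hiff, C_mul, mul_assoc]
    exact (hC s hs).mul ((hiff s').mp hs')

end Groth.Agent.S6325
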