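import Groth.Statements.S6326
import Mathlib.Algebra.Category.ModuleCat.FilteredColimits
import Mathlib.CategoryTheory.Limits.Types.Filtered
import Mathlib.LinearAlgebra.Quotient.Basic

set_option autoImplicit false
universe u
open scoped TensorProduct
open CategoryTheory CategoryTheory.Limits
open CAlg

namespace Groth.Agent.S6326

/-- Let R be a ring and N an R-module such that whenever M is the colimit of a filtered diagram (Mᵢ) of
R-modules (indexed by a filtered category in the same universe), the comparison map colim Hom_R(N,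
Mᵢ) → Hom_R(N, M) is injective. Then N is finitely generated. (The implication from finite
generation back to this injectivity also holds; only the characterizing direction is stated here.) -/
theorem result (R : Type u) [CommRing R] (N : Type u) [AddCommGroup N] [Module R N] (h : ∀ (J : Type u) [SmallCategory J] [IsFiltered J] (F : J ⥤ ModuleCat.{u} R), Function.Injective (colimit.post F (coyoneda.obj (Opposite.op (ModuleCat.of R N))))) : Module.Finite R N := by
  classical
  let J : Type u := {a : Submodule R N // a.FG}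
  haveI : Nonempty J := ⟨⟨⊥, Submodule.fg_bot⟩⟩
  haveI : IsDirectedOrder J := ⟨fun a b => ⟨⟨a.1 ⊔ b.1, a.2.sup b.2⟩,
    show a.1 ≤ a.1 ⊔ b.1 from le_sup_left, show b.1 ≤ a.1 ⊔ b.1 from le_sup_right⟩⟩
  let F : J ⥤ ModuleCat.{u} R :=
    { obj := fun a => ModuleCat.of R (N ⧸ a.1)
      map := fun {a b} f => ModuleCat.ofHom (Submodule.mapQ a.1 b.1 LinearMap.id (leOfHom f))
      map_id := fun a => ModuleCat.hom_ext (Submodule.linearMap_qext _ rfl)
      map_comp := fun f g => ModuleCat.hom_ext (Submodule.linearMap_qext _ rfl) }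
  let G := coyoneda.obj (Opposite.op (ModuleCat.of R N))
  let a₀ : J := ⟨⊥, Submodule.fg_bot⟩
  let f₁ : ModuleCat.of R N ⟶ F.obj a₀ := ModuleCat.ofHom a₀.1.mkQ
  have h0 : f₁ ≫ colimit.ι F a₀ = 0 ≫ colimit.ι F a₀ := by
    refine ModuleCat.hom_ext (LinearMap.ext fun x => ?_)
    let k : J := ⟨Submodule.span R {x}, Submodule.fg_span_singleton x⟩
    show colimit.ι F a₀ (a₀.1.mkQ x) = colimit.ι F a₀ 0
    rw [map_zero, ← colimit.w F (homOfLE (show a₀ ≤ k from (bot_le : (⊥ : Submodule R N) ≤ _)))]
    show colimit.ι F k (k.1.mkQ x) = 0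
    rw [show k.1.mkQ x = (0 : N ⧸ k.1) from (Submodule.Quotient.mk_eq_zero k.1).mpr (Submodule.mem_span_singleton_self x)]
    exact map_zero _
  have hpost : ∀ (g : ModuleCat.of R N ⟶ F.obj a₀),
      colimit.post F G ((colimit.cocone (F ⋙ G)).ι.app a₀ g) = g ≫ colimit.ι F a₀ :=
    fun g => congr($(colimit.ι_post F G a₀) g)
  have heq : (colimit.cocone (F ⋙ G)).ι.app a₀ f₁ = (colimit.cocone (F ⋙ G)).ι.app a₀ (0 : ModuleCat.of R N ⟶ F.obj a₀) :=
    h J F (by erw [hpost, hpost, h0])
  obtain ⟨k, p, q, hk⟩ := (Types.FilteredColimit.isColimit_eq_iff _ (colimit.isColimit _)).mp heq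
  refine ⟨(eq_top_iff.mpr fun x _ => ?_ : (k : J).1 = ⊤) ▸ k.2⟩
  have h2 := congr(($hk).hom x)
  refine (Submodule.Quotient.mk_eq_zero k.1).mp (h2.trans ?_)
  exact map_zero (F.map q).hom

end Groth.Agent.S6326
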