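import Groth.Statements.S6327
import Groth.Agent.MLMod.Colim
import Mathlib.Algebra.Category.ModuleCat.FilteredColimits
import Mathlib.CategoryTheory.Limits.Types.Filtered

set_option autoImplicit false
universe u
open scoped TensorProduct
open CategoryTheory CategoryTheory.Limits
open CAlg

namespace Groth.Agent.S6327

/-- Let R be a ring and N an R-module such that whenever M is the colimit of a filtered diagram (Mᵢ) of
R-modules (indexed by a filtered category in the same universe), the comparison map colim Hom_R(N,
Mᵢ) → Hom_R(N, M) is bijective. Then N is finitely presented. (The implication from finite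
presentation back to this bijectivity also holds; only the characterizing direction is stated here.) -/
theorem result (R : Type u) [CommRing R] (N : Type u) [AddCommGroup N] [Module R N] (h : ∀ (J : Type u) [SmallCategory J] [IsFiltered J] (F : J ⥤ ModuleCat.{u} R), Function.Bijective (colimit.post F (coyoneda.obj (Opposite.op (ModuleCat.of R N))))) : Module.FinitePresentation R N := by
  classical
  let J : Type u := MLMod.Colim.Idx R N
  let F : J ⥤ ModuleCat.{u} R :=
    { obj := fun a => ModuleCat.of R (MLMod.Colim.Stage a)
      map := fun {a b} f => ModuleCat.ofHom (MLMod.Colim.stageMap a b (leOfHom f))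
      map_id := fun a => ModuleCat.hom_ext (LinearMap.ext fun x =>
        DirectedSystem.map_self (f := fun (a b : J) h => MLMod.Colim.stageMap a b h) x)
      map_comp := fun {a b c} f g => ModuleCat.hom_ext (LinearMap.ext fun x =>
        (DirectedSystem.map_map (f := fun (a b : J) h => MLMod.Colim.stageMap a b h) (leOfHom f) (leOfHom g) x).symm) }
  let cN : Cocone F :=
    { pt := ModuleCat.of R N
      ι := { app := fun a => ModuleCat.ofHom (MLMod.Colim.stageToM a)
             naturality := fun a b f => ModuleCat.hom_ext (LinearMap.ext fun x => by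
               obtain ⟨_, x, hx, rfl⟩ := x
               rfl) } }
  let π : colimit F ⟶ ModuleCat.of R N := colimit.desc F cN
  have hπ : ∀ (a : J) (x : F.obj a), π (colimit.ι F a x) = MLMod.Colim.stageToM a x :=
    fun a x => congr($(colimit.ι_desc cN a) x)
  have hb : Function.Bijective π := by
    refine ⟨(injective_iff_map_eq_zero π.hom).mpr fun z hz => ?_, fun m => ?_⟩
    · obtain ⟨a, x, rfl⟩ := Types.jointly_surjective_of_isColimit
        (isColimitOfPreserves (forget (ModuleCat.{u} R)) (colimit.isColimit F)) z
      have hx0 : MLMod.Colim.stageToM a x = 0 := (hπ a x).symm.trans hz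
      obtain ⟨_, y, hys, rfl⟩ := x
      have hy : Finsupp.linearCombination R (id : N → N) y = 0 := hx0
      let b : J := ⟨(a.1.1, a.1.2 ⊔ R ∙ y), a.2.1.sup (Submodule.fg_span_singleton _),
        sup_le a.2.2 (by
          rw [Submodule.span_singleton_le_iff_mem]
          exact ⟨hys, hy⟩)⟩
      have hab : a ≤ b := ⟨subset_rfl, show a.1.2 ≤ a.1.2 ⊔ R ∙ y from le_sup_left⟩
      show colimit.ι F a _ = 0
      rw [← colimit.w F (homOfLE hab)]
      show colimit.ι F b (MLMod.Colim.stageMap a b hab _) = 0
      have hz0 : ∀ w : MLMod.Colim.Stage a, w.1 = a.1.2.mkQ y → MLMod.Colim.stageMap a b hab w = 0 :=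
        fun w hw => Subtype.ext (by
          show Submodule.mapQ a.1.2 b.1.2 LinearMap.id hab.2 w.1 = 0
          rw [hw]
          exact (Submodule.Quotient.mk_eq_zero b.1.2).mpr (show y ∈ a.1.2 ⊔ R ∙ y from
            Submodule.mem_sup_right (Submodule.mem_span_singleton_self y)))
      rw [hz0 _ rfl]
      exact map_zero _
    · let a : J := ⟨({m}, ⊥), Submodule.fg_bot, bot_le⟩
      refine ⟨colimit.ι F a ⟨a.1.2.mkQ (Finsupp.single m 1), _, Finsupp.single_mem_supported R 1 (by simp [a]), rfl⟩, ?_⟩
      rw [hπ]
      show Finsupp.linearCombination R (id : N → N) (Finsupp.single m 1) = m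
      simp
  let E : colimit F ≅ ModuleCat.of R N := (LinearEquiv.ofBijective π.hom hb).toModuleIso
  let G := coyoneda.obj (Opposite.op (ModuleCat.of R N))
  obtain ⟨c, hc⟩ := (h J F).2 E.inv
  obtain ⟨a, g', rfl⟩ := Types.jointly_surjective_of_isColimit (colimit.isColimit (F ⋙ G)) c
  let g : ModuleCat.of R N ⟶ F.obj a := g'
  have hg : g ≫ colimit.ι F a = E.inv := by
    rw [← hc]
    exact congr($(colimit.ι_post F G a) g').symm
  have hret : MLMod.Colim.stageToM a ∘ₗ g.hom = LinearMap.id := LinearMap.ext fun x => by
    show MLMod.Colim.stageToM a (g x) = x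
    rw [← hπ, show colimit.ι F a (g x) = E.inv x from congr($hg x)]
    exact (LinearEquiv.ofBijective π.hom hb).apply_symm_apply x
  haveI := MLMod.Colim.stage_finitePresentation a
  have hsurj : Function.Surjective (MLMod.Colim.stageToM a) := fun x => ⟨g x, LinearMap.congr_fun hret x⟩
  refine Module.finitePresentation_of_surjective (MLMod.Colim.stageToM a) hsurj ?_
  have hk : LinearMap.ker (MLMod.Colim.stageToM a) =
      LinearMap.range (LinearMap.id - g.hom ∘ₗ MLMod.Colim.stageToM a) := by
    ext x
    constructor
    · intro hx
      exact ⟨x, by simp [show MLMod.Colim.stageToM a x = 0 from hx]⟩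
    · rintro ⟨y, rfl⟩
      show MLMod.Colim.stageToM a (y - g.hom (MLMod.Colim.stageToM a y)) = 0
      rw [map_sub, ← LinearMap.comp_apply (MLMod.Colim.stageToM a) g.hom, hret, LinearMap.id_apply, sub_self]
  rw [hk, LinearMap.range_eq_map]
  exact Module.Finite.fg_top.map _

end Groth.Agent.S6327
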