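import Groth.Statements.S6329
import Mathlib.RingTheory.Length
import Mathlib.RingTheory.SimpleModule.Basic
import Mathlib.Algebra.Module.LocalizedModule.Exact

set_option autoImplicit false
universe u
open CAlg

namespace Groth.Agent.S6329

/-- Let R be a ring, M an R-module and 0 = M₀ ⊂ M₁ ⊂ … ⊂ Mₙ = M a maximal chain of submodules (a
composition series; each Mᵢ/Mᵢ₋₁ is simple, of the form R/mᵢ with mᵢ = (Mᵢ₋₁ : Mᵢ) maximal). Then
for every maximal ideal m of R the number of indices i with mᵢ = m equals length_{R_m}(M_m). -/
theorem result {R : Type u} [CommRing R] (M : Type u) [AddCommGroup M] [Module R M] (s : CompositionSeries (Submodule R M)) (h0 : s.head = ⊥) (h1 : s.last = ⊤) (m : Ideal R) [m.IsMaximal] : ((Finset.univ.filter fun i : Fin s.length => (s i.castSucc).colon (s i.succ : Set M) = m).card : ℕ∞) = Module.length (Localization.AtPrime m) (LocalizedModule m.primeCompl M) := by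
  classical
  -- simple modules
  have simp_len : ∀ (Q : Type u) [AddCommGroup Q] [Module R Q], IsSimpleModule R Q →
      Module.length (Localization.AtPrime m) (LocalizedModule m.primeCompl Q) =
        if Module.annihilator R Q = m then 1 else 0 := by
    intro Q _ _ hQ
    split_ifs with h
    · rw [Module.length_eq_one_iff]
      have hsm : ∀ s : m.primeCompl, Function.Bijective (fun x : Q => (s : R) • x) := fun s => by
        have hs : (s : R) ∉ Module.annihilator R Q := h ▸ s.2
        let l : Q →ₗ[R] Q := (s : R) • LinearMap.id
        refine (LinearMap.bijective_or_eq_zero l).resolve_right fun hl => hs ?_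
        exact Module.mem_annihilator.mpr fun x => LinearMap.congr_fun hl x
      let μ := LocalizedModule.mkLinearMap m.primeCompl Q
      have hμ : Function.Bijective μ := by
        refine ⟨(injective_iff_map_eq_zero μ).mpr fun x hx => ?_, fun z => ?_⟩
        · obtain ⟨s, hs⟩ := (IsLocalizedModule.eq_zero_iff m.primeCompl μ).mp hx
          exact (hsm s).1 (hs.trans (smul_zero _).symm)
        · induction z using LocalizedModule.induction_on with
          | h x s =>
            obtain ⟨y, rfl⟩ := (hsm s).2 x
            exact ⟨y, (LocalizedModule.mk_cancel s y).symm⟩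
      haveI : IsSimpleModule R (LocalizedModule m.primeCompl Q) :=
        IsSimpleModule.congr (LinearEquiv.ofBijective μ hμ).symm
      haveI : Nontrivial (LocalizedModule m.primeCompl Q) := IsSimpleModule.nontrivial R _
      exact (isSimpleModule_iff _ _).mpr ⟨fun N => (eq_bot_or_eq_top (N.restrictScalars R)).imp
        (fun e => Submodule.restrictScalars_injective R _ _ (e.trans (Submodule.restrictScalars_bot R _ _).symm))
        (fun e => Submodule.restrictScalars_injective R _ _ (e.trans (Submodule.restrictScalars_top R _ _).symm))⟩
    · haveI : (Module.annihilator R Q).IsMaximal := IsSimpleModule.annihilator_isMaximal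
      obtain ⟨r, hr, hrm⟩ := SetLike.not_le_iff_exists.mp
        (fun hle => h (Ideal.IsMaximal.eq_of_le inferInstance (Ideal.IsPrime.ne_top inferInstance) hle))
      haveI : Subsingleton (LocalizedModule m.primeCompl Q) :=
        LocalizedModule.subsingleton_iff.mpr fun x => ⟨r, hrm, Module.mem_annihilator.mp hr x⟩
      exact Module.length_eq_zero
  let L : Submodule R M → ℕ∞ := fun N => Module.length (Localization.AtPrime m) (LocalizedModule m.primeCompl N)
  let c : Fin s.length → ℕ∞ := fun i => if (s i.castSucc).colon (s i.succ : Set M) = m then 1 else 0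
  have step : ∀ i : Fin s.length, L (s i.succ) = L (s i.castSucc) + c i := by
    intro i
    have hle : s i.castSucc ≤ s i.succ := (s.lt_succ i).le
    let C := Submodule.comap (s i.succ).subtype (s i.castSucc)
    haveI hQ : IsSimpleModule R (s i.succ ⧸ C) := (covBy_iff_quot_is_simple hle).mp (s.step i)
    let ι : s i.castSucc →ₗ[R] s i.succ := Submodule.inclusion hle
    have hex : Function.Exact ι C.mkQ := by
      rw [LinearMap.exact_iff, Submodule.ker_mkQ]
      ext x
      exact ⟨fun hx => ⟨⟨x.1, hx⟩, Subtype.ext rfl⟩, fun ⟨y, hy⟩ => hy ▸ y.2⟩
    have hann : Module.annihilator R (s i.succ ⧸ C) = (s i.castSucc).colon (s i.succ : Set M) := by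
      ext r
      rw [Submodule.annihilator_quotient, Submodule.mem_colon, Submodule.mem_colon]
      exact ⟨fun hr x hx => hr ⟨x, hx⟩ trivial, fun hr x _ => hr x.1 x.2⟩
    simp only [L, c]
    rw [← hann, ← simp_len _ hQ]
    exact Module.length_eq_add_of_exact (LocalizedModule.map m.primeCompl ι) (LocalizedModule.map m.primeCompl C.mkQ)
      (IsLocalizedModule.map_injective m.primeCompl (LocalizedModule.mkLinearMap _ _)
        (LocalizedModule.mkLinearMap _ _) ι (Submodule.inclusion_injective hle))
      (IsLocalizedModule.map_surjective m.primeCompl (LocalizedModule.mkLinearMap _ _)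
        (LocalizedModule.mkLinearMap _ _) C.mkQ (Submodule.mkQ_surjective C))
      (LocalizedModule.map_exact m.primeCompl ι C.mkQ hex)
  have key : ∀ k : Fin (s.length + 1), L (s k) = ∑ i : Fin s.length with i.castSucc < k, c i := by
    intro k
    induction k using Fin.induction with
    | zero =>
      have hz : s 0 = ⊥ := h0
      haveI : Subsingleton (s 0) := by rw [hz]; infer_instance
      haveI : Subsingleton (LocalizedModule m.primeCompl (s 0)) :=
        LocalizedModule.subsingleton_iff.mpr fun x => ⟨1, m.primeCompl.one_mem, Subsingleton.elim _ _⟩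
      simp [L]
    | succ i ih =>
      have e : (Finset.univ.filter fun j : Fin s.length => j.castSucc < i.succ) =
          insert i (Finset.univ.filter fun j : Fin s.length => j.castSucc < i.castSucc) := by
        ext j
        simp only [Finset.mem_insert, Finset.mem_filter, Finset.mem_univ, true_and, Fin.lt_def, Fin.ext_iff,
          Fin.val_castSucc, Fin.val_succ]
        omega
      rw [step, ih, e, Finset.sum_insert (by simp), add_comm]
  have hlast : L (s (Fin.last _)) = Module.length (Localization.AtPrime m) (LocalizedModule m.primeCompl M) := by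
    have hl : s (Fin.last _) = ⊤ := h1
    let e := (LinearEquiv.ofEq _ _ hl).trans Submodule.topEquiv
    exact (LinearEquiv.ofBijective (LocalizedModule.map m.primeCompl e.toLinearMap)
      ⟨IsLocalizedModule.map_injective m.primeCompl (LocalizedModule.mkLinearMap _ _)
        (LocalizedModule.mkLinearMap _ _) _ e.injective,
      IsLocalizedModule.map_surjective m.primeCompl (LocalizedModule.mkLinearMap _ _)
        (LocalizedModule.mkLinearMap _ _) _ e.surjective⟩).length_eq
  rw [← hlast, key, Finset.filter_true_of_mem (fun i _ => Fin.castSucc_lt_last i), Finset.sum_boole]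

end Groth.Agent.S6329
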