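import Groth.Statements.S6330
import Mathlib.RingTheory.LocalRing.Module
import Mathlib.RingTheory.Support
import Mathlib.RingTheory.Localization.Finiteness
import Mathlib.RingTheory.LocalProperties.Projective
import Mathlib.Algebra.Module.LocalizedModule.Exact

set_option autoImplicit false
universe u
open scoped TensorProduct
open CAlg

namespace Groth.Agent.S6330

/-- Let R be a ring and φ : P₁ → P₂ a map of finite projective R-modules. The set W of primes p of R
such that φ ⊗ κ(p) is surjective is open, and for every f ∈ R with D(f) ⊆ W the map (P₁)_f → (P₂)_f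
is surjective and Ker(φ)_f is a finite projective module over R_f. -/
theorem result {R : Type u} [CommRing R] {P₁ P₂ : Type u} [AddCommGroup P₁] [Module R P₁] [AddCommGroup P₂] [Module R P₂] [Module.Finite R P₁] [Module.Projective R P₁] [Module.Finite R P₂] [Module.Projective R P₂] (φ : P₁ →ₗ[R] P₂) : IsOpen {p : PrimeSpectrum R | Function.Surjective (φ.lTensor p.asIdeal.ResidueField)} ∧ ∀ f : R, (↑(PrimeSpectrum.basicOpen f) : Set (PrimeSpectrum R)) ⊆ {p : PrimeSpectrum R | Function.Surjective (φ.lTensor p.asIdeal.ResidueField)} → Function.Surjective (LocalizedModule.map (Submonoid.powers f) φ) ∧ Module.Finite (Localization.Away f) (LocalizedModule (Submonoid.powers f) (LinearMap.ker φ)) ∧ Module.Projective (Localization.Away f) (LocalizedModule (Submonoid.powers f) (LinearMap.ker φ)) := by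
  classical
  let C := P₂ ⧸ LinearMap.range φ
  let q : P₂ →ₗ[R] C := (LinearMap.range φ).mkQ
  have hex : Function.Exact φ q := LinearMap.exact_map_mkQ_range φ
  have hW : {p : PrimeSpectrum R | Function.Surjective (φ.lTensor p.asIdeal.ResidueField)} = (Module.support R C)ᶜ := by
    ext p
    rw [Set.mem_compl_iff, Module.mem_support_iff_nontrivial_residueField_tensorProduct, not_nontrivial_iff_subsingleton]
    have hx := lTensor_exact p.asIdeal.ResidueField hex (Submodule.mkQ_surjective _)
    have hq := LinearMap.lTensor_surjective p.asIdeal.ResidueField (Submodule.mkQ_surjective (LinearMap.range φ))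
    constructor
    · refine fun h => subsingleton_of_forall_eq 0 fun z => ?_
      obtain ⟨y, rfl⟩ := hq z
      obtain ⟨x, rfl⟩ := h y
      exact hx.apply_apply_eq_zero x
    · intro h y
      exact (hx y).mp (Subsingleton.elim _ _)
  refine ⟨hW ▸ (Module.support_eq_zeroLocus (R := R) (M := C) ▸ PrimeSpectrum.isClosed_zeroLocus _).isOpen_compl, fun f hf => ?_⟩
  have hC : Subsingleton (LocalizedModule (Submonoid.powers f) C) :=
    LocalizedModule.subsingleton_iff_support_subset.mpr fun p hp => by
      by_contra h
      have h2 := hf (show p ∈ (PrimeSpectrum.basicOpen f : Set (PrimeSpectrum R)) by simpa using h)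
      rw [hW] at h2
      exact h2 hp
  let S := Submonoid.powers f
  let L := LocalizedModule.map S φ
  have hexL : Function.Exact L (LocalizedModule.map S q) := LocalizedModule.map_exact S φ q hex
  have hsurj : Function.Surjective L := fun y => (hexL y).mp (Subsingleton.elim _ _)
  let ι : LinearMap.ker φ →ₗ[R] P₁ := (LinearMap.ker φ).subtype
  let I := LocalizedModule.map S ι
  have hI : Function.Injective I := IsLocalizedModule.map_injective S (LocalizedModule.mkLinearMap _ _)
    (LocalizedModule.mkLinearMap _ _) ι Subtype.val_injective
  have hexI : Function.Exact I L := LocalizedModule.map_exact S ι φ φ.exact_subtype_ker_map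
  obtain ⟨s, hs⟩ := Module.projective_lifting_property L LinearMap.id hsurj
  have hp : ∀ z, ∃ w, I w = z - s (L z) := fun z => (hexI _).mp (by
    rw [map_sub]
    exact sub_eq_zero.mpr (LinearMap.congr_fun hs (L z)).symm)
  let r : LocalizedModule S P₁ →ₗ[Localization S] LocalizedModule S (LinearMap.ker φ) :=
    (LinearEquiv.ofInjective I hI).symm.toLinearMap ∘ₗ
      LinearMap.codRestrict (LinearMap.range I) (LinearMap.id - s ∘ₗ L) (fun z => by
        obtain ⟨w, hw⟩ := hp z
        exact ⟨w, hw⟩)
  have hr : r ∘ₗ I = LinearMap.id := LinearMap.ext fun w => by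
    show (LinearEquiv.ofInjective I hI).symm _ = w
    rw [LinearEquiv.symm_apply_eq]
    refine Subtype.ext ?_
    show I w - s (L (I w)) = I w
    rw [hexI.apply_apply_eq_zero, map_zero, sub_zero]
  exact ⟨hsurj, Module.Finite.of_surjective r (fun w => ⟨I w, LinearMap.congr_fun hr w⟩),
    Module.Projective.of_split I r hr⟩

end Groth.Agent.S6330
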