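import Groth.Statements.S6331
import Groth.Agent.Hensel.Pair
import Mathlib.Algebra.Ring.GeomSum

set_option autoImplicit false
universe u
open CAlg Polynomial

namespace Groth.Agent.S6331

/-- Let R be a ring, I ⊆ R an ideal all of whose elements are nilpotent, and n ≥ 1 an integer whose
image in R/I is invertible. Then (1) raising to the n-th power is a bijection of the subset 1 + I of
R onto itself: for every y ∈ I there is exactly one x ∈ I with (1 + x)ⁿ = 1 + y; (2) a unit u of R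
has an n-th root in R exactly when the residue class of u has an n-th root in R/I. -/
theorem result {R : Type u} [CommRing R] (I : Ideal R) (hI : ∀ x ∈ I, IsNilpotent x) (n : ℕ) (hn : 1 ≤ n) (hinv : IsUnit ((n : ℕ) : R ⧸ I)) : (∀ y ∈ I, ∃! x : R, x ∈ I ∧ (1 + x) ^ n = 1 + y) ∧ (∀ u : Rˣ, (∃ v : R, v ^ n = (u : R)) ↔ ∃ w : R ⧸ I, w ^ n = Ideal.Quotient.mk I (u : R)) := by
  have hjac : I ≤ Ideal.jacobson ⊥ := fun x hx => by
    obtain ⟨k, hk⟩ := hI x hx
    exact Ideal.radical_le_jacobson (I := ⊥) ⟨k, by simp [hk]⟩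
  haveI := isLocalHom_of_le_jacobson_bot I hjac
  haveI hH : HenselianRing R I := Hensel.henselianRing_of_isNilpotent hI
  have hex : ∀ y ∈ I, ∃! x : R, x ∈ I ∧ (1 + x) ^ n = 1 + y := by
    intro y hy
    have hy0 : Ideal.Quotient.mk I y = 0 := Ideal.Quotient.eq_zero_iff_mem.mpr hy
    obtain ⟨a, ha, ha1⟩ := HenselianRing.is_henselian (I := I) (X ^ n - C (1 + y))
      (monic_X_pow_sub_C _ (by omega)) 1 (by simpa using I.neg_mem hy) (by simpa [derivative_X_pow] using hinv)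
    refine ⟨a - 1, ⟨ha1, ?_⟩, fun x ⟨hx, hxn⟩ => ?_⟩
    · rw [add_sub_cancel]
      simpa [sub_eq_zero] using ha
    · have han : a ^ n = 1 + y := by simpa [sub_eq_zero] using ha
      have h1 : (∑ i ∈ Finset.range n, (1 + x) ^ i * a ^ (n - 1 - i)) * (1 + x - a) = 0 := by
        rw [geom_sum₂_mul, hxn, han, sub_self]
      have hu : IsUnit (∑ i ∈ Finset.range n, (1 + x) ^ i * a ^ (n - 1 - i)) := by
        refine Hensel.isUnit_of_mk hjac ?_
        have e1 : Ideal.Quotient.mk I a = 1 := by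
          rw [← sub_eq_zero, ← map_one (Ideal.Quotient.mk I), ← map_sub]
          exact Ideal.Quotient.eq_zero_iff_mem.mpr ha1
        simpa [Ideal.Quotient.eq_zero_iff_mem.mpr hx, e1] using hinv
      have := hu.mul_right_eq_zero.mp h1
      linear_combination this
  refine ⟨hex, fun u => ⟨fun ⟨v, hv⟩ => ⟨Ideal.Quotient.mk I v, by rw [← map_pow, hv]⟩, fun ⟨w, hw⟩ => ?_⟩⟩
  obtain ⟨v, rfl⟩ := Ideal.Quotient.mk_surjective w
  have hy : v ^ n * (↑u⁻¹ : R) - 1 ∈ I := by
    rw [← Ideal.Quotient.eq_zero_iff_mem, map_sub, map_mul, map_pow, hw, ← map_mul, Units.mul_inv, map_one, sub_self]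
  obtain ⟨x, ⟨hx, hxn⟩, -⟩ := hex _ hy
  have hu : IsUnit (1 + x) := Hensel.isUnit_of_mk hjac (by
    simp [Ideal.Quotient.eq_zero_iff_mem.mpr hx])
  refine ⟨v * (↑hu.unit⁻¹ : R), ?_⟩
  rw [add_sub_cancel] at hxn
  have h2 : v ^ n = (1 + x) ^ n * u := by rw [hxn, mul_assoc, Units.inv_mul, mul_one]
  rw [mul_pow, h2, mul_right_comm, ← mul_pow, IsUnit.mul_val_inv, one_pow, one_mul]

end Groth.Agent.S6331
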