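import Groth.Statements.S6332
import Mathlib
-- import your own Groth.Agent.* helpers here

set_option autoImplicit false
universe u
open Fields

namespace Groth.Agent.S6332

open IntermediateField in
/-- Let L/K be a finite Galois extension of fields of characteristic p > 0 whose degree equals the prime
p (equivalently, the Galois group is cyclic of order p). Then there is an element z of L with z ^ p
- z in K which generates L over K. -/
theorem result {K L : Type u} [Field K] [Field L] [Algebra K L] (p : ℕ)
    [Fact p.Prime] [CharP K p] [FiniteDimensional K L] [IsGalois K L]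
    (hdeg : Module.finrank K L = p) :
    ∃ z : L, z ^ p - z ∈ Set.range (algebraMap K L) ∧ K⟮z⟯ = ⊤ := by
  haveI : CharP L p := charP_of_injective_algebraMap (algebraMap K L).injective p
  haveI hcyc : IsCyclic (L ≃ₐ[K] L) := isCyclic_of_prime_card (p := p) (by rw [IsGalois.card_aut_eq_finrank, hdeg])
  have hp : p.Prime := Fact.out
  obtain ⟨σ, hσ⟩ := IsCyclic.exists_generator (α := L ≃ₐ[K] L)
  have hσord : σ ^ p = 1 := by
    rw [← hdeg, ← IsGalois.card_aut_eq_finrank K L]; exact pow_card_eq_one'
  have hfix : ∀ x : L, σ x = x → x ∈ Set.range (algebraMap K L) := by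
    intro x hx
    rw [IsGalois.mem_range_algebraMap_iff_fixed]
    intro g
    obtain ⟨n, rfl⟩ := Subgroup.mem_zpowers_iff.1 (hσ g)
    have hst : σ ∈ MulAction.stabilizer (L ≃ₐ[K] L) x := hx
    exact zpow_mem hst n
  let D : Module.End K L := σ.toLinearMap - 1
  have hDapp : ∀ x, D x = σ x - x := fun x => rfl
  have hDp : D ^ p = 0 := by
    have hc : Commute (σ.toLinearMap : Module.End K L) 1 := Commute.one_right _
    haveI : CharP (Module.End K L) p :=
      charP_of_injective_algebraMap (algebraMap K (Module.End K L)).injective p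
    have : (σ.toLinearMap : Module.End K L) ^ p = 1 := by
      have := congrArg AlgEquiv.toLinearMap hσord
      ext x
      have h := LinearMap.congr_fun this x
      simpa [Module.End.pow_apply, AlgEquiv.coe_pow] using h
    show (σ.toLinearMap - 1 : Module.End K L) ^ p = 0
    rw [sub_pow_char_of_commute p hc, this, one_pow, sub_self]
  obtain ⟨x₀, hx₀⟩ : ∃ x : L, x ∉ Set.range (algebraMap K L) := by
    by_contra h
    push Not at h
    have : (⊤ : IntermediateField K L) = ⊥ := eq_bot_iff.2 fun x _ => IntermediateField.mem_bot.2 (h x)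
    have h2 := congrArg (fun F : IntermediateField K L => Module.finrank K F) this
    simp [hdeg] at h2
    exact hp.one_lt.ne' h2
  have hex : ∃ n, (D ^ n) x₀ = 0 := ⟨p, by rw [hDp]; rfl⟩
  classical
  have hn := Nat.find_spec hex
  have hmin := fun m (h : m < Nat.find hex) => Nat.find_min hex h
  obtain ⟨n, hn'⟩ : ∃ n, Nat.find hex = n + 2 := by
    refine ⟨Nat.find hex - 2, ?_⟩
    have h0 : Nat.find hex ≠ 0 := fun h => hx₀ ⟨0, by rw [h] at hn; simpa using hn.symm⟩
    have h1 : Nat.find hex ≠ 1 := fun h => hx₀ (hfix x₀ (sub_eq_zero.1 (by rw [h] at hn; simpa [hDapp] using hn)))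
    omega
  let y := (D ^ n) x₀
  have hy2 : D (D y) = 0 := by
    rw [hn'] at hn
    simpa [y, pow_succ', Module.End.mul_apply] using hn
  have hy1 : D y ≠ 0 := by
    have := hmin (n + 1) (by omega)
    simpa [y, pow_succ', Module.End.mul_apply] using this
  obtain ⟨c, hc⟩ := hfix (D y) (sub_eq_zero.1 hy2)
  have hc0 : c ≠ 0 := fun h => hy1 (by rw [← hc, h, map_zero])
  refine ⟨algebraMap K L c⁻¹ * y, ?_, ?_⟩
  · have hz : σ (algebraMap K L c⁻¹ * y) = algebraMap K L c⁻¹ * y + 1 := by
      have hh : σ y = y + algebraMap K L c := by rw [hc, hDapp]; ring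
      rw [map_mul, AlgEquiv.commutes, hh, mul_add, ← map_mul, inv_mul_cancel₀ hc0, map_one]
    apply hfix
    rw [map_sub, map_pow, hz, add_pow_char, one_pow]; ring
  · have : Fact (Nat.Prime (Module.finrank K L)) := ⟨hdeg.symm ▸ hp⟩
    haveI := IntermediateField.isSimpleOrder_of_finrank_prime K L (this.out)
    refine (IsSimpleOrder.eq_bot_or_eq_top K⟮algebraMap K L c⁻¹ * y⟯).resolve_left fun h => ?_
    rw [IntermediateField.adjoin_simple_eq_bot_iff, IntermediateField.mem_bot] at h
    obtain ⟨d, hd⟩ := h
    apply hy1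
    have hh : y = algebraMap K L (c * d) := by
      rw [map_mul, hd, ← mul_assoc, ← map_mul, mul_inv_cancel₀ hc0, map_one, one_mul]
    rw [hDapp, hh, AlgEquiv.commutes, sub_self]

end Groth.Agent.S6332
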