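import Groth.Statements.S6334
import Mathlib
-- import your own Groth.Agent.* helpers here

set_option autoImplicit false
universe u
open Fields

namespace Groth.Agent.S6334

open IntermediateField in
/-- Let E/F be a finite purely inseparable extension of fields of characteristic p > 0. Then there are
elements a_1, ..., a_n of E generating E over F such that for each i the p-th power of a_i lies in
F(a_1, ..., a_{i-1}) while a_i itself does not (so each step adjoins a p-th root and has degree p);
in particular [E : F] = p ^ n. -/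
theorem result {F E : Type u} [Field F] [Field E] [Algebra F E] (p : ℕ)
    [Fact p.Prime] [CharP F p] [FiniteDimensional F E] [IsPurelyInseparable F E] :
    ∃ (n : ℕ) (a : Fin n → E), adjoin F (Set.range a) = ⊤ ∧
      (∀ i : Fin n, a i ^ p ∈ adjoin F (a '' {j | j < i}) ∧ a i ∉ adjoin F (a '' {j | j < i})) ∧
      Module.finrank F E = p ^ n := by
  have hp : p.Prime := Fact.out
  haveI : CharP E p := charP_of_injective_algebraMap (algebraMap F E).injective p
  haveI : ExpChar F p := ExpChar.prime hp
  let P : ℕ → Prop := fun n => ∃ a : Fin n → E,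
    (∀ i : Fin n, a i ^ p ∈ adjoin F (a '' {j | j < i}) ∧ a i ∉ adjoin F (a '' {j | j < i})) ∧
      Module.finrank F (adjoin F (Set.range a)) = p ^ n
  have h0 : P 0 := ⟨Fin.elim0, fun i => i.elim0, by simp⟩
  have hbound : ∀ n, P n → n ≤ Module.finrank F E := by
    rintro n ⟨a, -, hr⟩
    have := IntermediateField.finrank_le_of_le_right (le_top : adjoin F (Set.range a) ≤ ⊤)
    rw [hr, IntermediateField.finrank_top'] at this
    exact (Nat.lt_pow_self hp.one_lt).le.trans this
  classical
  let n := Nat.findGreatest P (Module.finrank F E)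
  have hn : P n := Nat.findGreatest_spec (Nat.zero_le _) h0
  have hmax : ¬ P (n + 1) := fun h => by
    have h2 : n + 1 ≤ n := Nat.le_findGreatest (hbound _ h) h
    omega
  obtain ⟨a, hst, hr⟩ := hn
  by_cases htop : adjoin F (Set.range a) = ⊤
  · exact ⟨n, a, htop, hst, by rw [← hr, htop, IntermediateField.finrank_top']⟩
  exfalso
  apply hmax
  let M := adjoin F (Set.range a)
  obtain ⟨x, hx⟩ : ∃ x, x ∉ M := by
    by_contra hc; push Not at hc; exact htop (eq_top_iff.2 fun x _ => hc x)
  have hex : ∃ m, x ^ p ^ m ∈ M := by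
    obtain ⟨m, r, hr⟩ := IsPurelyInseparable.pow_mem F p x
    exact ⟨m, hr ▸ M.algebraMap_mem r⟩
  obtain ⟨m, hm⟩ : ∃ m, Nat.find hex = m + 1 := by
    refine ⟨Nat.find hex - 1, ?_⟩
    have : Nat.find hex ≠ 0 := fun h => hx (by simpa [h] using Nat.find_spec hex)
    omega
  let b := x ^ p ^ m
  have hb : b ∉ M := Nat.find_min hex (by omega)
  have hbp : b ^ p ∈ M := by
    have := Nat.find_spec hex
    rwa [hm, pow_succ, pow_mul] at this
  have hdeg : Module.finrank M M⟮b⟯ = p := by
    have hirr : Irreducible (Polynomial.X ^ p - Polynomial.C (⟨b ^ p, hbp⟩ : M)) := by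
      refine X_pow_sub_C_irreducible_of_prime hp fun c hc => hb ?_
      have h2 : (c : E) ^ p = b ^ p := congrArg Subtype.val hc
      have : (c : E) = b := frobenius_inj E p h2
      exact this ▸ c.2
    rw [IntermediateField.adjoin.finrank (Algebra.IsIntegral.isIntegral b),
      ← minpoly.eq_of_irreducible_of_monic hirr (x := b) ?_ (Polynomial.monic_X_pow_sub_C _ hp.ne_zero),
      Polynomial.natDegree_X_pow_sub_C]
    simp
  refine ⟨Fin.snoc a b, ?_, ?_⟩
  · intro i
    refine Fin.lastCases ?_ (fun j => ?_) i
    · have : Fin.snoc a b '' {j | j < Fin.last n} = Set.range a := by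
        ext z
        constructor
        · rintro ⟨j, hj, rfl⟩
          obtain ⟨j, rfl⟩ := Fin.exists_castSucc_eq.2 (ne_of_lt hj)
          exact ⟨j, by simp⟩
        · rintro ⟨j, rfl⟩
          exact ⟨j.castSucc, Fin.castSucc_lt_last j, by simp⟩
      rw [Fin.snoc_last, this]
      exact ⟨hbp, hb⟩
    · have : Fin.snoc a b '' {k | k < j.castSucc} = a '' {k | k < j} := by
        ext z
        constructor
        · rintro ⟨k, hk, rfl⟩
          obtain ⟨k, rfl⟩ := Fin.exists_castSucc_eq.2 (ne_of_lt (lt_trans hk (Fin.castSucc_lt_last j)))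
          exact ⟨k, Fin.castSucc_lt_castSucc_iff.1 hk, by simp⟩
        · rintro ⟨k, hk, rfl⟩
          exact ⟨k.castSucc, Fin.castSucc_lt_castSucc_iff.2 hk, by simp⟩
      rw [Fin.snoc_castSucc, this]
      exact hst j
  · have hins : Set.range (Fin.snoc a b : Fin (n + 1) → E) = insert b (Set.range a) := by
      rw [Fin.range_snoc]
    have hres : adjoin F (insert b (Set.range a)) = (M⟮b⟯).restrictScalars F := by
      rw [IntermediateField.restrictScalars_adjoin, Set.insert_eq, IntermediateField.adjoin_union,
        IntermediateField.adjoin_union, IntermediateField.adjoin_self, sup_comm]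
    rw [hins, hres]
    show Module.finrank F M⟮b⟯ = _
    rw [← Module.finrank_mul_finrank F M M⟮b⟯, hdeg, hr, pow_succ]

end Groth.Agent.S6334
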