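import Groth.Statements.S6335
import Mathlib
-- import your own Groth.Agent.* helpers here

set_option autoImplicit false
universe u
open Fields

namespace Groth.Agent.S6335

/-- Let K be a field of characteristic p > 0, L/K a separable algebraic extension and a an element of L.
If a is a root of a polynomial P over K which is separable (pairwise distinct roots in an algebraic
closure) and all of whose coefficients are p-th powers in K, then a is a p-th power in L. (Part (1),
the case where P is the minimal polynomial of a, is a special case.) -/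
theorem result {K L : Type u} [Field K] [Field L] [Algebra K L]
    (p : ℕ) [Fact p.Prime] [CharP K p] [Algebra.IsSeparable K L] (a : L) (P : Polynomial K)
    (hroot : Polynomial.aeval a P = 0) (hsep : P.Separable) (hcoeff : ∀ i : ℕ, ∃ b : K, b ^ p = P.coeff i) :
    ∃ c : L, c ^ p = a := by
  let Ω := AlgebraicClosure L
  haveI : CharP L p := charP_of_injective_algebraMap (algebraMap K L).injective p
  haveI : CharP Ω p := charP_of_injective_algebraMap (algebraMap L Ω).injective p
  haveI : ExpChar L p := ExpChar.prime (Fact.out : p.Prime)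
  obtain ⟨Q, hQ⟩ : ∃ Q : Polynomial K, Q.map (frobenius K p) = P := by
    rw [← Polynomial.coe_mapRingHom, ← Set.mem_range]
    refine (Polynomial.lifts_iff_coeff_lifts (f := frobenius K p) P).2 fun i => ?_
    obtain ⟨b, hb⟩ := hcoeff i
    exact ⟨b, by rw [frobenius_def, hb]⟩
  have hQs : Q.Separable := by rw [← Polynomial.separable_map (frobenius K p), hQ]; exact hsep
  obtain ⟨c, hc⟩ := IsAlgClosed.exists_pow_nat_eq (algebraMap L Ω a) (Fact.out : p.Prime).pos
  have hQc : Polynomial.aeval c Q = 0 := by
    apply eq_zero_of_pow_eq_zero (n := p)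
    have h1 : (Polynomial.aeval c Q) ^ p = Polynomial.aeval (c ^ p) P := by
      rw [← hQ, Polynomial.aeval_def, Polynomial.aeval_def, Polynomial.eval₂_map,
        ← frobenius_def, Polynomial.hom_eval₂, frobenius_def, ← RingHom.frobenius_comm]
    rw [h1, hc, Polynomial.aeval_algebraMap_apply, hroot, map_zero]
  have hs : IsSeparable L c := by
    refine (hQs.map (f := algebraMap K L)).of_dvd (minpoly.dvd L c ?_)
    rw [Polynomial.aeval_map_algebraMap, hQc]
  have hd : minpoly L c ∣ (Polynomial.X ^ p - Polynomial.C a) := by
    apply minpoly.dvd; simp [hc]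
  have hsp : (minpoly L c).map (algebraMap L Ω) ∣ (Polynomial.X - Polynomial.C c) ^ p := by
    have := Polynomial.map_dvd (algebraMap L Ω) hd
    rwa [Polynomial.map_sub, Polynomial.map_pow, Polynomial.map_X, Polynomial.map_C, ← hc,
      map_pow, ← sub_pow_char] at this
  obtain ⟨j, -, hj⟩ := (dvd_prime_pow (Polynomial.prime_X_sub_C c) _).1 hsp
  have hmon : ((minpoly L c).map (algebraMap L Ω)).Monic :=
    (minpoly.monic (Algebra.IsIntegral.isIntegral c)).map _
  have hj' := Polynomial.eq_of_monic_of_associated hmon ((Polynomial.monic_X_sub_C c).pow j) hj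
  have h1 : (minpoly L c).natDegree = 1 := by
    have hd : (minpoly L c).natDegree = j := by
      rw [← Polynomial.natDegree_map (algebraMap L Ω), hj', Polynomial.natDegree_pow,
        Polynomial.natDegree_X_sub_C, mul_one]
    have hsf : Squarefree ((Polynomial.X - Polynomial.C c) ^ j) :=
      hj' ▸ (Polynomial.Separable.map (f := algebraMap L Ω) hs).squarefree
    have hpos := minpoly.natDegree_pos (A := L) (Algebra.IsIntegral.isIntegral c)
    rcases (Squarefree.eq_zero_or_one_of_pow_of_not_isUnit hsf (Polynomial.not_isUnit_X_sub_C c)) with h | h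
    · omega
    · omega
  obtain ⟨d, hd'⟩ := minpoly.mem_range_of_degree_eq_one L c
    (by rw [Polynomial.degree_eq_natDegree (minpoly.ne_zero (Algebra.IsIntegral.isIntegral c)), h1]; rfl)
  exact ⟨d, (algebraMap L Ω).injective (by rw [map_pow, hd', hc])⟩

end Groth.Agent.S6335
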