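import Groth.Statements.S6336
import Mathlib
-- import your own Groth.Agent.* helpers here

set_option autoImplicit false
universe u
open Fields

namespace Groth.Agent.S6336

open IntermediateField Polynomial in
/-- With an added hypothesis: let L/K be a finite extension of degree e generated by a single element a
whose e-th power lies in K, and assume that the polynomial X ^ e - 1 splits into linear factors over
K (so every e-th root of unity of any extension of K already lies in K; this holds when K contains a
primitive e-th root of unity, and when e is a power of the characteristic). Then every intermediate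
field of L/K is generated by a ^ d for some divisor d of e. (The published statement has no
hypothesis on roots of unity; for K the rationals and a a primitive 8-th root of unity, e = 4 and a
^ 4 = -1, the intermediate field generated by a + a⁻¹, a square root of 2, is none of K(a), K(a ^
2), K(a ^ 4); the published proof uses that the e-th roots of unity met are fixed by the
automorphisms it constructs, which the splitting hypothesis guarantees.) -/
theorem result {K L : Type u} [Field K] [Field L] [Algebra K L]
    [FiniteDimensional K L] (a : L) (ha : K⟮a⟯ = ⊤)
    (hpow : a ^ Module.finrank K L ∈ Set.range (algebraMap K L))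
    (hroots : (X ^ Module.finrank K L - 1 : K[X]).Splits) (L' : IntermediateField K L) :
    ∃ d : ℕ, d ∣ Module.finrank K L ∧ L' = K⟮a ^ d⟯ := by
  let m := Module.finrank L' L
  have hme : Module.finrank K L' * m = Module.finrank K L := Module.finrank_mul_finrank K L' L
  refine ⟨m, Dvd.intro_left _ hme, ?_⟩
  have he : Module.finrank K L ≠ 0 := Module.finrank_pos.ne'
  have hmem : a ^ m ∈ L' := by
    by_cases ha0 : a = 0
    · rw [ha0, zero_pow (Module.finrank_pos (R := L') (M := L)).ne']
      exact zero_mem _
    obtain ⟨c, hc⟩ := hpow
    have h1 : (Algebra.norm L' a) ^ Module.finrank K L = (algebraMap K L' c) ^ m := by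
      rw [← map_pow, ← hc, IsScalarTower.algebraMap_apply K L' L, Algebra.norm_algebraMap]
    have h2 : ((Algebra.norm L' a : L') : L) ^ Module.finrank K L = (a ^ m) ^ Module.finrank K L := by
      rw [← pow_mul, mul_comm, pow_mul, ← hc, ← map_pow (algebraMap K L), ← IntermediateField.coe_pow, h1]
      simp
    have h3 : (((Algebra.norm L' a : L') : L) / a ^ m) ^ Module.finrank K L = 1 := by
      rw [div_pow, h2, div_self (pow_ne_zero _ (pow_ne_zero _ ha0))]
    obtain ⟨ζ, hζ⟩ := hroots.mem_range_of_isRoot (f := X ^ Module.finrank K L - 1)
      (monic_X_pow_sub_C (1 : K) he).ne_zero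
      (i := algebraMap K L) (x := ((Algebra.norm L' a : L') : L) / a ^ m) (by simp [IsRoot, h3])
    have hne : algebraMap K L ζ ≠ 0 := by
      intro h
      rw [← hζ, h, zero_pow he] at h3
      exact zero_ne_one h3
    have : a ^ m = ((Algebra.norm L' a : L') : L) / algebraMap K L ζ := by
      rw [hζ]
      field_simp [show ((Algebra.norm L' a : L') : L) ≠ 0 from fun h => hne (by rw [hζ, h, zero_div])]
    rw [this]
    exact div_mem (SetLike.coe_mem _) (IntermediateField.algebraMap_mem L' ζ)
  refine (IntermediateField.eq_of_le_of_finrank_le' (adjoin_le_iff.2 (Set.singleton_subset_iff.2 hmem)) ?_).symm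
  set E : IntermediateField K L := K⟮a ^ m⟯
  have htop : E⟮a⟯ = ⊤ := by
    rw [← IntermediateField.restrictScalars_eq_top_iff (K := K), eq_top_iff, ← ha]
    exact adjoin_le_iff.2 (Set.singleton_subset_iff.2 (mem_adjoin_simple_self E a))
  have hint : IsIntegral E a := IsIntegral.of_finite E a
  rw [show Module.finrank E L = (minpoly E a).natDegree by
    rw [← IntermediateField.adjoin.finrank hint, htop, IntermediateField.finrank_top']]
  let P : E[X] := X ^ m - C ⟨a ^ m, mem_adjoin_simple_self K (a ^ m)⟩
  have hm : m ≠ 0 := Module.finrank_pos.ne'
  have hP : P.natDegree = m := natDegree_X_pow_sub_C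
  exact (Polynomial.natDegree_le_of_dvd (minpoly.dvd E a (p := P) (by simp [P]))
    (monic_X_pow_sub_C _ hm).ne_zero).trans hP.le

end Groth.Agent.S6336
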