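import Groth.Statements.S6337
import Groth.Agent.MLMod.Basic

set_option autoImplicit false
universe u
open CAlg

namespace Groth.Agent.S6337

/-- A direct sum of modules is Mittag-Leffler if and only if each summand is Mittag-Leffler. -/
theorem result (R : Type u) [CommRing R] {ι : Type u} (M : ι → Type u)
    [∀ i, AddCommGroup (M i)] [∀ i, Module R (M i)] :
    CAlg.IsMittagLeffler R (DirectSum ι M) ↔ ∀ i, CAlg.IsMittagLeffler R (M i) := by
  classical
  constructor
  · intro h i
    refine MLMod.isMittagLeffler_of_universallyInjective (DirectSum.lof R ι M i) ?_ h
    intro Q _ _ x y hxy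
    have h1 := congrArg ((DirectSum.component R ι M i).rTensor Q) hxy
    have h2 : DirectSum.component R ι M i ∘ₗ DirectSum.lof R ι M i = LinearMap.id :=
      LinearMap.ext fun m => DirectSum.component.lof_self R i m
    simpa only [← LinearMap.rTensor_comp_apply, h2, LinearMap.rTensor_id_apply] using h1
  · intro h κ Q _ _
    rw [injective_iff_map_eq_zero]
    intro x hx
    apply (TensorProduct.directSumLeft R R M (Π k, Q k)).injective
    rw [map_zero]
    refine DFinsupp.ext fun i => ?_
    have h1 : (TensorProduct.directSumLeft R R M (Π k, Q k) x) i =
        (DirectSum.component R ι M i).rTensor _ x := by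
      clear hx
      induction x using TensorProduct.induction_on with
      | zero => simp
      | tmul m q =>
        induction m using DirectSum.induction_on with
        | zero => simp
        | of j m =>
          rw [← DirectSum.lof_eq_of R, TensorProduct.directSumLeft_tmul_lof, LinearMap.rTensor_tmul]
          by_cases hji : j = i
          · subst hji; rw [DirectSum.component.lof_self, DirectSum.lof_eq_of, DirectSum.of_eq_same]
          · simp [DirectSum.lof_eq_of, DirectSum.of_eq_of_ne _ _ _ (Ne.symm hji),
              ← DirectSum.apply_eq_component]
        | add u v hu hv => simp only [TensorProduct.add_tmul, map_add, DirectSum.add_apply, hu, hv]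
      | add u v hu hv => simp only [map_add, DirectSum.add_apply, hu, hv]
    rw [DirectSum.zero_apply]
    refine h1.trans (h i κ Q ?_)
    rw [map_zero]
    funext k
    exact (MLMod.piRightHom_rTensor (R := R) (Q := Q) (DirectSum.component R ι M i) x k).trans
      (by rw [hx, Pi.zero_apply, map_zero]; rfl)

end Groth.Agent.S6337
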