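import Groth.Statements.S6340
import Groth.Agent.MLMod.Basic

set_option autoImplicit false
universe u
open CAlg

namespace Groth.Agent.S6340

/-- Let M₁ → M₂ → M₃ → 0 be exact with M₁ finitely generated; if M₂ is Mittag-Leffler then so is M₃.
Equivalently, as stated here: the quotient of a Mittag-Leffler module by a finitely generated
submodule is Mittag-Leffler. -/
theorem result (R : Type u) [CommRing R] {M : Type u} [AddCommGroup M] [Module R M]
    (N : Submodule R M) (hN : N.FG) (hM : CAlg.IsMittagLeffler R M) :
    CAlg.IsMittagLeffler R (M ⧸ N) := by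
  intro ι Q _ _
  rw [injective_iff_map_eq_zero]
  intro x hx
  haveI : Module.Finite R N := Module.Finite.iff_fg.mpr hN
  obtain ⟨x, rfl⟩ := LinearMap.rTensor_surjective _ N.mkQ_surjective x
  have hex := LinearMap.exact_subtype_mkQ N
  have h1 : ∀ i, ∃ k, N.subtype.rTensor (Q i) k = TensorProduct.piRightHom R R M Q x i := fun i => by
    refine ((rTensor_exact (Q i) hex N.mkQ_surjective) _).mp ?_
    rw [← MLMod.piRightHom_rTensor, hx, Pi.zero_apply]
  choose k hk using h1
  obtain ⟨k', hk'⟩ := MLMod.piRightHom_surjective_of_finite (R := R) N k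
  have : N.subtype.rTensor _ k' = x := hM ι Q (funext fun i => by
    rw [MLMod.piRightHom_rTensor, hk', hk])
  rw [← this]
  exact (rTensor_exact _ hex N.mkQ_surjective).apply_apply_eq_zero k' 

end Groth.Agent.S6340
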