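import Groth.Statements.S6341
import Groth.Agent.MLMod.Basic

set_option autoImplicit false
universe u
open scoped TensorProduct
open CAlg

namespace Groth.Agent.S6341

/-- The colimit of a directed system of Mittag-Leffler modules with universally injective transition
maps is Mittag-Leffler. -/
theorem result (R : Type u) [CommRing R] {ι : Type u}
    [Preorder ι] [IsDirected ι (· ≤ ·)] [DecidableEq ι] (G : ι → Type u) [∀ i, AddCommGroup (G i)]
    [∀ i, Module R (G i)] (f : ∀ i j, i ≤ j → G i →ₗ[R] G j) [DirectedSystem G fun i j h => f i j h]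
    (hf : ∀ i j (h : i ≤ j), CAlgX.UniversallyInjective R (f i j h))
    (hG : ∀ i, CAlg.IsMittagLeffler R (G i)) :
    CAlg.IsMittagLeffler R (Module.DirectLimit G f) := by
  classical
  rcases isEmpty_or_nonempty ι with h | h
  · intro κ Q _ _ a b _
    have h0 : ∀ z : Module.DirectLimit G f ⊗[R] (Π i, Q i), z = 0 := fun z => by
      induction z using TensorProduct.induction_on with
      | zero => rfl
      | tmul m q => rw [Subsingleton.elim m 0, TensorProduct.zero_tmul]
      | add u v hu hv => rw [hu, hv, add_zero]
    rw [h0 a, h0 b]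
  have hof : ∀ i, CAlgX.UniversallyInjective R (Module.DirectLimit.of R ι G f i) := by
    intro i Q _ _
    rw [injective_iff_map_eq_zero]
    intro x hx
    obtain ⟨j, hij, hj⟩ := MLMod.Colim.rTensor_of_zero_exact x hx
    exact hf i j hij Q (hj.trans (map_zero _).symm)
  intro κ Q _ _
  rw [injective_iff_map_eq_zero]
  intro x hx
  obtain ⟨i, y, rfl⟩ := MLMod.Colim.exists_rTensor_of x
  have : y = 0 := hG i κ Q (by
    rw [map_zero]
    funext j
    apply hof i (Q j)
    rw [← MLMod.piRightHom_rTensor, hx, Pi.zero_apply, Pi.zero_apply, map_zero])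
  rw [this, map_zero]

end Groth.Agent.S6341
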