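import Groth.Statements.S6345
import Groth.Agent.MLMod.BaseChange

set_option autoImplicit false
universe u
open scoped TensorProduct
open CAlg

namespace Groth.Agent.S6345

/-- Let I be a finitely generated ideal of a commutative ring R and M an R/I-module. Then M is
Mittag-Leffler over R if and only if it is Mittag-Leffler over R/I. -/
theorem result (R : Type u) [CommRing R] (I : Ideal R) (hI : I.FG)
    (M : Type u) [AddCommGroup M] [Module (R ⧸ I) M] [Module R M] [IsScalarTower R (R ⧸ I) M] :
    CAlg.IsMittagLeffler R M ↔ CAlg.IsMittagLeffler (R ⧸ I) M := by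
  haveI : Module.FinitePresentation R (R ⧸ I) :=
    Module.finitePresentation_of_surjective I.mkQ I.mkQ_surjective (by rwa [Submodule.ker_mkQ])
  refine ⟨fun h => ?_, MLMod.isMittagLeffler_restrictScalars_of_fp⟩
  let φ : (R ⧸ I) ⊗[R] M →ₗ[R ⧸ I] M := (LinearMap.id : M →ₗ[R] M).liftBaseChange (R ⧸ I)
  have hinv : ∀ z, (1 : R ⧸ I) ⊗ₜ[R] φ z = z := fun z => by
    induction z using TensorProduct.induction_on with
    | zero => simp
    | tmul s m =>
      obtain ⟨r, rfl⟩ := Ideal.Quotient.mk_surjective s
      simp only [φ, LinearMap.liftBaseChange_tmul, LinearMap.id_apply]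
      rw [← Ideal.Quotient.algebraMap_eq, algebraMap_smul, TensorProduct.tmul_smul,
        TensorProduct.smul_tmul', ← Algebra.algebraMap_eq_smul_one]
    | add u v hu hv => rw [map_add, TensorProduct.tmul_add, hu, hv]
  refine MLMod.isMittagLeffler_congr (LinearEquiv.ofBijective φ
    ⟨fun a b hab => by rw [← hinv a, ← hinv b, hab], fun m => ⟨1 ⊗ₜ[R] m, by simp [φ]⟩⟩) ?_
  exact MLMod.isMittagLeffler_baseChange h

end Groth.Agent.S6345
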