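import Groth.Statements.S6349
import Groth.Agent.LocFlat.Basic

set_option autoImplicit false
universe u
open scoped TensorProduct
open CAlg

namespace Groth.Agent.S6349

/-- Let I be an ideal of a commutative ring R and M an R-module such that M/IM is flat over R/I and
Tor_1^R(R/I, M) = 0, i.e. the map I ⊗_R M → M is injective. Then M/IⁿM is flat over R/Iⁿ for every n
≥ 1. (When I is nilpotent this yields flatness of M itself, a standard companion statement.) -/
theorem result (R : Type u) [CommRing R] (I : Ideal R) (M : Type u)
    [AddCommGroup M] [Module R M] [Module.Flat (R ⧸ I) ((R ⧸ I) ⊗[R] M)]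
    (htor : Function.Injective ((Submodule.subtype I).rTensor M)) (n : ℕ) (hn : 1 ≤ n) :
    Module.Flat (R ⧸ I ^ n) ((R ⧸ I ^ n) ⊗[R] M) := by
  rw [Module.Flat.iff_rTensor_injective']
  intro J
  let J' : Submodule R (R ⧸ I ^ n) := J.restrictScalars R
  have hinj := LocFlat.inj_of_pow M I htor ‹_› n J' (R ⧸ I ^ n) J'.subtype
    (Submodule.injective_subtype _) (by
      rw [eq_bot_iff, Submodule.smul_le]
      intro r hr y _
      rw [Submodule.mem_bot, Algebra.smul_def, Ideal.Quotient.algebraMap_eq,
        Ideal.Quotient.eq_zero_iff_mem.mpr hr, zero_mul])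
  let eA := TensorProduct.AlgebraTensorModule.cancelBaseChange R (R ⧸ I ^ n) (R ⧸ I ^ n) J M
  let eB := TensorProduct.AlgebraTensorModule.cancelBaseChange R (R ⧸ I ^ n) (R ⧸ I ^ n) (R ⧸ I ^ n) M
  have key : ∀ z : J ⊗[R ⧸ I ^ n] ((R ⧸ I ^ n) ⊗[R] M),
      ((Submodule.subtype J).restrictScalars R).rTensor M (eA z) =
        eB ((Submodule.subtype J).rTensor ((R ⧸ I ^ n) ⊗[R] M) z) := by
    intro z
    induction z using TensorProduct.induction_on with
    | zero => simp
    | tmul x y =>
      induction y using TensorProduct.induction_on with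
      | zero => simp
      | tmul s m => simp [eA, eB]
      | add u v hu hv => simp only [TensorProduct.tmul_add, map_add, hu, hv]
    | add u v hu hv => simp only [map_add, hu, hv]
  intro x y hxy
  apply eA.injective
  apply hinj
  show ((Submodule.subtype J).restrictScalars R).rTensor M (eA x) =
    ((Submodule.subtype J).restrictScalars R).rTensor M (eA y)
  rw [key, key, hxy]

end Groth.Agent.S6349
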