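import Groth.Statements.S6362
import Mathlib
-- import your own Groth.Agent.* helpers here

set_option autoImplicit false
universe u
open scoped TensorProduct
open Fields

namespace Groth.Agent.S6362

/-- Let K/F be a finite separable extension and L/F an extension with L algebraically closed. Then the
L-algebra map K ⊗_F L → ∏_σ L, indexed by the F-algebra maps σ : K → L and sending a ⊗ b to (σ(a)
b)_σ, is an isomorphism; stated as bijectivity of that map. -/
theorem result {F K L : Type u} [Field F] [Field K] [Field L]
    [Algebra F K] [Algebra F L] [FiniteDimensional F K] [Algebra.IsSeparable F K] [IsAlgClosed L] :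
    Function.Bijective (fun x : K ⊗[F] L => fun σ : K →ₐ[F] L =>
      Algebra.TensorProduct.lift σ (AlgHom.id F L) (fun a b => Commute.all (σ a) b) x) := by
  classical
  let b := Module.finBasis F K
  have hcard : Fintype.card (K →ₐ[F] L) = Module.finrank F K := AlgHom.card F K L
  let e : Fin (Module.finrank F K) ≃ (K →ₐ[F] L) := (Fintype.equivFinOfCardEq hcard).symm
  let M : Matrix (Fin (Module.finrank F K)) (Fin (Module.finrank F K)) L :=
    (Algebra.embeddingsMatrixReindex F L b e).transpose
  have hM : IsUnit M := by
    rw [Matrix.isUnit_iff_isUnit_det, Matrix.det_transpose, isUnit_iff_ne_zero]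
    intro h0
    have h := Algebra.discr_eq_det_embeddingsMatrixReindex_pow_two F L b e
    rw [h0] at h
    exact Algebra.discr_not_zero_of_basis F b
      ((algebraMap F L).injective (by rw [h, map_zero, zero_pow two_ne_zero]))
  set f := fun x : K ⊗[F] L => fun σ : K →ₐ[F] L =>
      Algebra.TensorProduct.lift σ (AlgHom.id F L) (fun a b => Commute.all (σ a) b) x
  let g : (Fin (Module.finrank F K) → L) → K ⊗[F] L := fun c => ∑ i, b i ⊗ₜ[F] c i
  have hg : Function.Surjective g := by
    intro x
    induction x with
    | zero => exact ⟨0, by simp [g]⟩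
    | tmul a l =>
      refine ⟨fun i => b.repr a i • l, ?_⟩
      show ∑ i, b i ⊗ₜ[F] (b.repr a i • l) = _
      simp only [TensorProduct.tmul_smul]
      simp only [TensorProduct.smul_tmul', ← TensorProduct.sum_tmul, b.sum_repr]
    | add x y hx hy =>
      obtain ⟨c, rfl⟩ := hx
      obtain ⟨d, rfl⟩ := hy
      exact ⟨c + d, by simp [g, TensorProduct.tmul_add, Finset.sum_add_distrib]⟩
  have hfg : ∀ c, f (g c) = (M.mulVec c) ∘ e.symm := by
    intro c
    funext σ
    obtain ⟨j, rfl⟩ := e.surjective σ
    simp [f, g, M, Matrix.mulVec, dotProduct, Algebra.embeddingsMatrixReindex,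
      Algebra.embeddingsMatrix]
    refine Finset.sum_congr rfl fun x _ => ?_
    exact Algebra.TensorProduct.lift_tmul _ _ _ _ _
  have hb : Function.Bijective (f ∘ g) := by
    rw [show f ∘ g = (fun v => v ∘ e.symm) ∘ M.mulVec from funext hfg]
    exact ((Equiv.arrowCongr e (Equiv.refl L)).bijective).comp ⟨Matrix.mulVec_injective_iff_isUnit.2 hM, Matrix.mulVec_surjective_iff_isUnit.2 hM⟩
  exact ⟨fun x y h => by
    obtain ⟨c, rfl⟩ := hg x
    obtain ⟨d, rfl⟩ := hg y
    rw [hb.1 h], fun y => ⟨g (hb.2 y).choose, (hb.2 y).choose_spec⟩⟩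

end Groth.Agent.S6362
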