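import Groth.Statements.S6363
import Mathlib
-- import your own Groth.Agent.* helpers here

set_option autoImplicit false
universe u
open scoped TensorProduct
open Fields

namespace Groth.Agent.S6363

/-- For a finite field extension L/K and a normal closure M of L/K, some K-algebra homomorphism from the
n-fold tensor power L ⊗_K ⋯ ⊗_K L to M is surjective, where n = [L : K]_s is the separable degree
(so n ≤ [L : K]). -/
theorem result {K L M : Type u} [Field K] [Field L] [Field M]
    [Algebra K L] [Algebra K M] [Algebra L M] [IsScalarTower K L M] [FiniteDimensional K L]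
    [IsNormalClosure K L M] :
    ∃ f : (⨂[K] _ : Fin (Field.finSepDegree K L), L) →ₐ[K] M, Function.Surjective f := by
  classical
  obtain ⟨hs, htop⟩ := Algebra.IsAlgebraic.isNormalClosure_iff.1 (inferInstance : IsNormalClosure K L M)
  have hn : Field.finSepDegree K L = Nat.card (L →ₐ[K] M) :=
    Field.finSepDegree_eq_of_adjoin_splits K L M (S := Set.univ) (IntermediateField.adjoin_univ K L)
      (fun s _ => ⟨Algebra.IsIntegral.isIntegral s, hs s⟩)
  let e : Fin (Field.finSepDegree K L) ≃ (L →ₐ[K] M) :=
    ((Finite.equivFin (L →ₐ[K] M)).trans (finCongr hn.symm)).symm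
  let φ : MultilinearMap K (fun _ : Fin (Field.finSepDegree K L) => L) M :=
    (MultilinearMap.mkPiAlgebra K (Fin (Field.finSepDegree K L)) M).compLinearMap
      fun i => (e i).toLinearMap
  refine ⟨PiTensorProduct.liftAlgHom φ (by simp [φ]) (fun x y => by
    simp [φ, Finset.prod_mul_distrib]), ?_⟩
  set f := PiTensorProduct.liftAlgHom φ (by simp [φ]) (fun x y => by
    simp [φ, Finset.prod_mul_distrib])
  have : Normal K M := IsNormalClosure.normal (F := K) (K := L) (L := M)
  let F' : IntermediateField K M :=
    subalgebraEquivIntermediateField f.range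
  have hle : ∀ σ : L →ₐ[K] M, ∀ a : L, σ a ∈ f.range := by
    intro σ a
    obtain ⟨i, rfl⟩ := e.surjective σ
    refine ⟨PiTensorProduct.tprod K (Function.update 1 i a), ?_⟩
    show f _ = _
    simp only [f, φ, PiTensorProduct.liftAlgHom, AlgHom.ofLinearMap_apply, PiTensorProduct.lift.tprod,
      MultilinearMap.compLinearMap_apply, MultilinearMap.mkPiAlgebra_apply, AlgHom.toLinearMap_apply]
    rw [Finset.prod_eq_single i (fun j _ hj => by simp [Function.update_of_ne hj]) (by simp),
      Function.update_self]
  have h1 : IntermediateField.normalClosure K L M ≤ F' := by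
    rw [normalClosure_def]
    refine iSup_le fun σ => ?_
    rintro _ ⟨a, rfl⟩
    exact hle σ a
  intro y
  exact h1 (htop ▸ IntermediateField.mem_top)

end Groth.Agent.S6363
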