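import Groth.Statements.S6364
import Mathlib
import Mathlib
-- import your own Groth.Agent.* helpers here

set_option autoImplicit false
universe u
open Fields

namespace Groth.Agent.S6364

open IntermediateField in
/-- Let L/K be a finite extension and a ∈ L with minimal polynomial P over K. Then P ^ e, with e = [L :
K(a)], is the characteristic polynomial of multiplication by a (the K-linear map x ↦ a x on L), and
e · deg P = [L : K]. -/
theorem result {K L : Type u} [Field K] [Field L] [Algebra K L] [FiniteDimensional K L]
    (a : L) :
    (Algebra.lmul K L a).charpoly = minpoly K a ^ Module.finrank K⟮a⟯ L ∧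
      Module.finrank K⟮a⟯ L * (minpoly K a).natDegree = Module.finrank K L := by
  refine ⟨?_, ?_⟩
  · have := Algebra.IsAlgebraic.of_finite K L
    have h1 : (Algebra.lmul K L a).charpoly = minpoly K a ^ Module.finrank K⟮a⟯ L := by
      classical
      let pb := IntermediateField.adjoin.powerBasis (Algebra.IsIntegral.isIntegral (R := K) a)
      let c := Module.Free.chooseBasis K⟮a⟯ L
      rw [← LinearMap.charpoly_toMatrix _ (pb.basis.smulTower c)]
      change (Algebra.leftMulMatrix (pb.basis.smulTower c) a).charpoly = _
      have hb : Algebra.leftMulMatrix (pb.basis.smulTower c) a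
          = Matrix.blockDiagonal fun _ => Algebra.leftMulMatrix pb.basis (AdjoinSimple.gen K a) := by
        rw [← Algebra.smulTower_leftMulMatrix_algebraMap pb.basis c, AdjoinSimple.algebraMap_gen]
      have hbd : ∀ (o : Type u) (d : ℕ) [Fintype o] [DecidableEq o] (M : o → Matrix (Fin d) (Fin d) K),
          (Matrix.blockDiagonal M).charpoly = ∏ k, (M k).charpoly := by
        intro o d _ _ M
        unfold Matrix.charpoly
        rw [← Matrix.det_blockDiagonal]
        congr 1
        ext ⟨i, k⟩ ⟨j, k'⟩ : 1
        by_cases hk : k = k' <;> by_cases hij : i = j <;> simp [Matrix.blockDiagonal_apply, hk, hij]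
      rw [hb, hbd, Finset.prod_const, Finset.card_univ]
      have hg : pb.gen = AdjoinSimple.gen K a := rfl
      rw [← hg, charpoly_leftMulMatrix, hg, minpoly_gen, Module.finrank_eq_card_basis c]
    exact h1
  · rw [← IntermediateField.adjoin.finrank (Algebra.IsIntegral.isIntegral a), mul_comm,
      Module.finrank_mul_finrank]

end Groth.Agent.S6364
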