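import Groth.Statements.S6366
import Mathlib.Algebra.Module.FinitePresentation

set_option autoImplicit false
universe u
open CAlg

namespace Groth.Agent.S6366

/-- In a coherent ring, finitely generated submodules of finite free modules are finitely presented. -/
theorem fp_of_fg_free {R : Type u} [CommRing R]
    (hR : ∀ I : Ideal R, I.FG → Module.FinitePresentation R I) :
    ∀ (n : ℕ) (L : Submodule R (Fin n → R)), L.FG → Module.FinitePresentation R L := by
  intro n
  induction n with
  | zero =>
    intro L _
    haveI : Subsingleton L := ⟨fun a b => Subtype.ext (Subsingleton.elim _ _)⟩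
    haveI := hR ⊥ Submodule.fg_bot
    exact Module.FinitePresentation.of_equiv (0 : (⊥ : Submodule R R) ≃ₗ[R] L)
  | succ n ih =>
    intro L hL
    haveI : Module.Finite R L := Module.Finite.iff_fg.mpr hL
    let p : (Fin (n + 1) → R) →ₗ[R] R := LinearMap.proj 0
    let q := p.comp L.subtype
    haveI : Module.FinitePresentation R (LinearMap.range q) :=
      hR _ (Module.Finite.iff_fg.mp inferInstance)
    have hkfg : (LinearMap.ker q.rangeRestrict).FG :=
      Module.FinitePresentation.fg_ker _ q.surjective_rangeRestrict
    haveI : Module.Finite R (LinearMap.ker q.rangeRestrict) := Module.Finite.iff_fg.mpr hkfg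
    let tl : LinearMap.ker q.rangeRestrict →ₗ[R] (Fin n → R) :=
      (LinearMap.funLeft R R Fin.succ).comp (L.subtype.comp (LinearMap.ker q.rangeRestrict).subtype)
    have htl : Function.Injective tl := by
      intro x y h
      refine Subtype.ext (Subtype.ext (funext (Fin.cases ?_ fun i => congrFun h i)))
      have hx : q x.1 = 0 := congrArg Subtype.val x.2
      have hy : q y.1 = 0 := congrArg Subtype.val y.2
      exact hx.trans hy.symm
    haveI : Module.FinitePresentation R (LinearMap.range tl) := ih _ (Module.Finite.iff_fg.mp inferInstance)
    haveI : Module.FinitePresentation R (LinearMap.ker q.rangeRestrict) :=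
      Module.FinitePresentation.of_equiv (M := LinearMap.range tl) (N := LinearMap.ker q.rangeRestrict) (LinearEquiv.ofInjective tl htl).symm
    exact Module.finitePresentation_of_ker q.rangeRestrict q.surjective_rangeRestrict

/-- Let R be a coherent ring, i.e. every finitely generated ideal of R is finitely presented. Then an
R-module is coherent (finitely generated, and every finitely generated submodule is finitely
presented) if and only if it is finitely presented. -/
theorem result (R : Type u) [CommRing R]
    (hR : ∀ I : Ideal R, I.FG → Module.FinitePresentation R I) (M : Type u) [AddCommGroup M] [Module R M] :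
    (Module.Finite R M ∧ ∀ N : Submodule R M, N.FG → Module.FinitePresentation R N) ↔ Module.FinitePresentation R M := by
  constructor
  · rintro ⟨hfin, h⟩
    haveI := h ⊤ hfin.fg_top
    exact Module.FinitePresentation.of_equiv Submodule.topEquiv
  · intro hM
    refine ⟨inferInstance, fun N hN => ?_⟩
    obtain ⟨n, g, hg⟩ := Module.Finite.exists_fin' R M
    have hk : (LinearMap.ker g).FG := Module.FinitePresentation.fg_ker g hg
    have hL : (N.comap g).FG := by
      refine Submodule.fg_of_fg_map_of_fg_inf_ker g ?_ ?_
      · rwa [Submodule.map_comap_eq_of_surjective hg]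
      · rwa [inf_eq_right.mpr (LinearMap.ker_le_comap g)]
    haveI := fp_of_fg_free hR n _ hL
    let φ : N.comap g →ₗ[R] N := g.restrict fun x hx => hx
    have hφ : Function.Surjective φ := fun ⟨y, hy⟩ => by
      obtain ⟨x, rfl⟩ := hg y
      exact ⟨⟨x, hy⟩, rfl⟩
    refine Module.finitePresentation_of_surjective φ hφ ?_
    have he : Submodule.map (N.comap g).subtype (LinearMap.ker φ) = LinearMap.ker g := by
      ext x
      exact ⟨fun ⟨y, hy, hyx⟩ => hyx ▸ congrArg Subtype.val (show φ y = 0 from hy),
        fun hx => ⟨⟨x, by rw [Submodule.mem_comap, show g x = 0 from hx]; exact N.zero_mem⟩, Subtype.ext hx, rfl⟩⟩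
    exact Submodule.fg_of_fg_map_injective _ (N.comap g).injective_subtype (he ▸ hk)

end Groth.Agent.S6366
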