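import Groth.Statements.S6367
import Mathlib.Algebra.Module.FinitePresentation

set_option autoImplicit false
universe u
open CAlg

namespace Groth.Agent.S6367

/-- Let 0 → M₁ → M₂ → M₃ → 0 be a short exact sequence of R-modules (f injective, g surjective, image of
f = kernel of g). If M₁ and M₃ are coherent — finitely generated with every finitely generated
submodule finitely presented — then so is M₂. -/
theorem result (R : Type u) [CommRing R] {M₁ M₂ M₃ : Type u}
    [AddCommGroup M₁] [Module R M₁] [AddCommGroup M₂] [Module R M₂] [AddCommGroup M₃] [Module R M₃]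
    (f : M₁ →ₗ[R] M₂) (g : M₂ →ₗ[R] M₃) (hf : Function.Injective f) (hg : Function.Surjective g)
    (hfg : LinearMap.range f = LinearMap.ker g)
    (h₁ : (Module.Finite R M₁ ∧ ∀ N : Submodule R M₁, N.FG → Module.FinitePresentation R N))
    (h₃ : (Module.Finite R M₃ ∧ ∀ N : Submodule R M₃, N.FG → Module.FinitePresentation R N)) :
    (Module.Finite R M₂ ∧ ∀ N : Submodule R M₂, N.FG → Module.FinitePresentation R N) := by
  obtain ⟨hfin₁, h₁⟩ := h₁
  obtain ⟨hfin₃, h₃⟩ := h₃
  refine ⟨⟨Submodule.fg_of_fg_map_of_fg_inf_ker g ?_ ?_⟩, fun N hN => ?_⟩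
  · rw [Submodule.map_top, LinearMap.range_eq_top.mpr hg]; exact hfin₃.fg_top
  · rw [top_inf_eq, ← hfg, LinearMap.range_eq_map]; exact hfin₁.fg_top.map f
  haveI : Module.Finite R N := Module.Finite.iff_fg.mpr hN
  let q := g.comp N.subtype
  haveI : Module.FinitePresentation R (LinearMap.range q) := h₃ _ (Module.Finite.iff_fg.mp inferInstance)
  haveI : Module.Finite R (LinearMap.ker q.rangeRestrict) :=
    Module.Finite.iff_fg.mpr (Module.FinitePresentation.fg_ker _ q.surjective_rangeRestrict)
  have hmem : ∀ x : LinearMap.ker q.rangeRestrict, ((x : N) : M₂) ∈ LinearMap.range f := fun x => by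
    rw [hfg]; exact congrArg Subtype.val x.2
  let e := LinearEquiv.ofInjective f hf
  let θ : LinearMap.ker q.rangeRestrict →ₗ[R] M₁ :=
    e.symm.toLinearMap.comp ((N.subtype.comp (LinearMap.ker q.rangeRestrict).subtype).codRestrict _ hmem)
  have hθ : Function.Injective θ := fun x y h =>
    Subtype.ext (Subtype.ext (congrArg Subtype.val (e.symm.injective h) : _))
  haveI : Module.FinitePresentation R (LinearMap.range θ) := h₁ _ (Module.Finite.iff_fg.mp inferInstance)
  haveI : Module.FinitePresentation R (LinearMap.ker q.rangeRestrict) :=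
    Module.FinitePresentation.of_equiv (LinearEquiv.ofInjective θ hθ).symm
  exact Module.finitePresentation_of_ker q.rangeRestrict q.surjective_rangeRestrict

end Groth.Agent.S6367
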