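import Groth.Statements.S6368
import Mathlib.RingTheory.Flat.FaithfullyFlat.Basic
import Mathlib.LinearAlgebra.TensorProduct.Finiteness

set_option autoImplicit false
universe u
open scoped TensorProduct
open CAlg

namespace Groth.Agent.S6368

/-- Let R → S be faithfully flat and M an R-module. If the S-module S ⊗_R M is countably generated then
M is countably generated. -/
theorem result (R S : Type u) [CommRing R] [CommRing S] [Algebra R S]
    [Module.FaithfullyFlat R S] (M : Type u) [AddCommGroup M] [Module R M]
    (h : CAlg.IsCountablyGenerated S (S ⊗[R] M)) : CAlg.IsCountablyGenerated R M := by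
  classical
  obtain ⟨s, hs, hspan⟩ := h
  choose F hF using fun z : S ⊗[R] M => TensorProduct.exists_finset z
  let D : Set M := ⋃ z ∈ s, ((F z).image Prod.snd : Finset M)
  refine ⟨D, hs.biUnion fun z _ => Finset.countable_toSet _, ?_⟩
  let N := Submodule.span R D
  have hq : ∀ z, N.mkQ.baseChange S z = 0 := by
    intro z
    have hz : z ∈ Submodule.span S s := hspan ▸ Submodule.mem_top
    induction hz using Submodule.span_induction with
    | mem z hz =>
      rw [hF z, map_sum]
      refine Finset.sum_eq_zero fun p hp => ?_
      rw [LinearMap.baseChange_tmul, Submodule.mkQ_apply, (Submodule.Quotient.mk_eq_zero N).mpr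
        (Submodule.subset_span (Set.mem_biUnion hz (Finset.mem_image_of_mem Prod.snd hp))), TensorProduct.tmul_zero]
    | zero => rw [map_zero]
    | add a b _ _ ha hb => rw [map_add, ha, hb, add_zero]
    | smul c a _ ha => rw [map_smul, ha, smul_zero]
  haveI : Subsingleton (S ⊗[R] (M ⧸ N)) := subsingleton_of_forall_eq 0 fun z => by
    obtain ⟨w, rfl⟩ := LinearMap.lTensor_surjective S N.mkQ_surjective z
    exact hq w
  haveI : Subsingleton (M ⧸ N) := Module.FaithfullyFlat.lTensor_reflects_triviality R S (M ⧸ N)
  exact Submodule.Quotient.subsingleton_iff.mp this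

end Groth.Agent.S6368
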