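import Groth.Statements.S6369
import Mathlib.RingTheory.DedekindDomain.Ideal.Basic
import Mathlib.RingTheory.Ideal.Quotient.Operations

set_option autoImplicit false
universe u
open CAlg

namespace Groth.Agent.S6369

theorem multiset_eq_of_prod_eq {D : Type u} [CommRing D] [IsDomain D] :
    ∀ (A B : Multiset (Ideal D)), (∀ p ∈ A, p.IsPrime) → (∀ p ∈ B, p.IsPrime) →
      ∀ (Y : Ideal D) (c : D), c ≠ 0 → A.prod * Y = Ideal.span {c} → A.prod = B.prod → A = B := by
  classical
  intro A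
  induction A using Multiset.strongInductionOn with
  | ih A ih =>
  intro B hA hB Y c hc hY hAB
  by_cases hA0 : A = 0
  · subst hA0
    refine (Multiset.eq_zero_of_forall_notMem fun q hq => (hB q hq).ne_top (top_le_iff.mp ?_)).symm
    calc (⊤ : Ideal D) = B.prod := by rw [← hAB, Multiset.prod_zero, Ideal.one_eq_top]
      _ ≤ q := Ideal.le_of_dvd (Multiset.dvd_prod hq)
  · obtain ⟨p₀, hp₀⟩ := Multiset.exists_mem_of_ne_zero hA0
    obtain ⟨P, hP⟩ := A.toFinset.exists_minimal ⟨p₀, Multiset.mem_toFinset.mpr hp₀⟩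
    have hPA : P ∈ A := Multiset.mem_toFinset.mp hP.1
    have hPp := hA P hPA
    obtain ⟨b, hb, hbP⟩ := (Ideal.IsPrime.multiset_prod_le hPp).mp
      (hAB ▸ Ideal.le_of_dvd (Multiset.dvd_prod hPA))
    obtain ⟨a, ha, hab⟩ := (Ideal.IsPrime.multiset_prod_le (hB b hb)).mp
      (hAB.le.trans (Ideal.le_of_dvd (Multiset.dvd_prod hb)))
    obtain rfl : b = P := le_antisymm hbP ((hP.2 (Multiset.mem_toFinset.mpr ha) (hab.trans hbP)).trans hab)
    obtain ⟨A', rfl⟩ := Multiset.exists_cons_of_mem hPA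
    obtain ⟨B', rfl⟩ := Multiset.exists_cons_of_mem hb
    rw [Multiset.prod_cons, Multiset.prod_cons] at hAB
    rw [Multiset.prod_cons] at hY
    have hU : A'.prod = B'.prod := by
      refine (Ideal.span_singleton_mul_right_inj hc).mp ?_
      calc Ideal.span {c} * A'.prod = (b * A'.prod * Y) * A'.prod := by rw [hY]
        _ = (b * B'.prod * Y) * A'.prod := by rw [hAB]
        _ = (b * A'.prod * Y) * B'.prod := by ring
        _ = Ideal.span {c} * B'.prod := by rw [hY]
    rw [ih A' (Multiset.lt_cons_self _ _) B' (fun p hp => hA p (Multiset.mem_cons_of_mem hp))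
      (fun p hp => hB p (Multiset.mem_cons_of_mem hp)) (b * Y) c hc (by rw [← hY]; ring) hU]

/-- (1) ⇒ (3): let R be a domain such that every nonzero ideal is a product of nonzero prime ideals,
uniquely up to permutation of the factors. Then R is Noetherian, integrally closed and of dimension
at most one, i.e. a Dedekind domain in the Noetherian sense. (The converse and the description by
discrete valuation rings at maximal ideals are the standard equivalences.) -/
theorem result (R : Type u) [CommRing R] [IsDomain R]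
    (h : ∀ I : Ideal R, I ≠ ⊥ → ∃! s : Multiset (Ideal R), (∀ p ∈ s, p.IsPrime ∧ p ≠ ⊥) ∧ s.prod = I) :
    IsDedekindDomain R := by
  classical
  have hprod : ∀ I : Ideal R, I ≠ ⊥ → ∃ s : Multiset (Ideal R), (∀ p ∈ s, p.IsPrime ∧ p ≠ ⊥) ∧ s.prod = I :=
    fun I hI => (h I hI).exists
  have hmax : ∀ P : Ideal R, P.IsPrime → P ≠ ⊥ → P.IsMaximal := by
    intro P hP hP0
    refine Ideal.isMaximal_iff.mpr ⟨(Ideal.ne_top_iff_one P).mp hP.ne_top, fun J a hPJ ha haJ => ?_⟩
    suffices hJ : P ⊔ Ideal.span {a} = ⊤ by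
      have : P ⊔ Ideal.span {a} ≤ J := sup_le hPJ ((Ideal.span_singleton_le_iff_mem J).mpr haJ)
      exact this (hJ ▸ Submodule.mem_top)
    have hne : ∀ x : R, P ⊔ Ideal.span {x} ≠ ⊥ := fun x e => hP0 (eq_bot_iff.mpr (e ▸ le_sup_left))
    obtain ⟨Q, hQ, hQprod⟩ := hprod _ (hne a)
    obtain ⟨S, hS, hSprod⟩ := hprod _ (hne (a ^ 2))
    let π := Ideal.Quotient.mk P
    have hle : ∀ (T : Multiset (Ideal R)) (x : R), T.prod = P ⊔ Ideal.span {x} → ∀ q ∈ T, P ≤ q :=
      fun T x hT q hq => le_sup_left.trans (hT.ge.trans (Ideal.le_of_dvd (Multiset.dvd_prod hq)))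
    have hmap : ∀ x : R, (P ⊔ Ideal.span {x}).map π = Ideal.span {π x} := fun x => by
      rw [Ideal.map_sup, Ideal.map_span, Set.image_singleton, Ideal.map_quotient_self, bot_sup_eq]
    have hmprod : ∀ T : Multiset (Ideal R), (T.map (Ideal.map π)).prod = T.prod.map π := fun T =>
      (map_multiset_prod (Ideal.mapHom π) T).symm
    have hQ2 : ∀ q ∈ Q + Q, q.IsPrime ∧ P ≤ q := fun q hq => by
      rcases Multiset.mem_add.mp hq with h1 | h1 <;> exact ⟨(hQ q h1).1, hle Q a hQprod q h1⟩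
    have hS2 : ∀ q ∈ S, q.IsPrime ∧ P ≤ q := fun q hq => ⟨(hS q hq).1, hle S _ hSprod q hq⟩
    have hprime : ∀ T : Multiset (Ideal R), (∀ q ∈ T, q.IsPrime ∧ P ≤ q) →
        ∀ p ∈ T.map (Ideal.map π), p.IsPrime := by
      intro T hT p hp
      obtain ⟨q, hq, rfl⟩ := Multiset.mem_map.mp hp
      haveI := (hT q hq).1
      exact Ideal.map_isPrime_of_surjective Ideal.Quotient.mk_surjective (by
        rw [Ideal.mk_ker]; exact (hT q hq).2)
    have e1 : ((Q + Q).map (Ideal.map π)).prod = Ideal.span {π a ^ 2} := by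
      rw [hmprod, Multiset.prod_add, hQprod, Ideal.map_mul, hmap, Ideal.span_singleton_mul_span_singleton,
        ← pow_two]
    have e2 : (Q + Q).map (Ideal.map π) = S.map (Ideal.map π) := by
      refine multiset_eq_of_prod_eq _ _ (hprime _ hQ2) (hprime _ hS2) ⊤ (π a ^ 2)
        (pow_ne_zero 2 (fun e => ha (Ideal.Quotient.eq_zero_iff_mem.mp e))) ?_ ?_
      · rw [Ideal.mul_top, e1]
      · rw [e1, hmprod, hSprod, hmap, map_pow]
    have e3 : Q + Q = S := by
      have hid : ∀ T : Multiset (Ideal R), (∀ q ∈ T, q.IsPrime ∧ P ≤ q) →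
          (T.map (Ideal.map π)).map (Ideal.comap π) = T := fun T hT => by
        rw [Multiset.map_map]
        conv_rhs => rw [← Multiset.map_id T]
        refine Multiset.map_congr rfl fun q hq => ?_
        show (q.map π).comap π = q
        rw [Ideal.comap_map_of_surjective _ Ideal.Quotient.mk_surjective, sup_eq_left,
          ← RingHom.ker_eq_comap_bot, Ideal.mk_ker]
        exact (hT q hq).2
      rw [← hid _ hQ2, e2, hid _ hS2]
    have hsq : (P ⊔ Ideal.span {a}) * (P ⊔ Ideal.span {a}) = P ⊔ Ideal.span {a ^ 2} := by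
      rw [← hQprod, ← Multiset.prod_add, e3, hSprod]
    have hPJ' : P * (P ⊔ Ideal.span {a}) = P := by
      refine le_antisymm (Ideal.le_of_dvd (dvd_mul_right _ _)) fun x hx => ?_
      have hx2 : x ∈ (P * (P ⊔ Ideal.span {a})) ⊔ Ideal.span {a ^ 2} := by
        have h1 : x ∈ (P ⊔ Ideal.span {a}) * (P ⊔ Ideal.span {a}) := hsq ▸ Submodule.mem_sup_left hx
        rw [Ideal.sup_mul, Ideal.mul_sup (Ideal.span {a}), Ideal.span_singleton_mul_span_singleton,
          ← pow_two] at h1
        refine (show P * (P ⊔ Ideal.span {a}) ⊔ (Ideal.span {a} * P ⊔ Ideal.span {a ^ 2}) ≤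
          P * (P ⊔ Ideal.span {a}) ⊔ Ideal.span {a ^ 2} from sup_le le_sup_left (sup_le ?_ le_sup_right)) h1
        rw [mul_comm]
        exact (Ideal.mul_mono_right le_sup_right).trans le_sup_left
      obtain ⟨u, hu, v, hv, huv⟩ := Submodule.mem_sup.mp hx2
      obtain ⟨r, rfl⟩ := Ideal.mem_span_singleton'.mp hv
      have hr : r ∈ P := by
        have h2 : r * a ^ 2 ∈ P := by
          have : r * a ^ 2 = x - u := by rw [← huv]; ring
          rw [this]; exact P.sub_mem hx (Ideal.le_of_dvd (dvd_mul_right _ _) hu)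
        exact (hP.mem_or_mem h2).resolve_right fun h3 => ha (hP.mem_of_pow_mem 2 h3)
      rw [← huv]
      refine Ideal.add_mem _ hu (Ideal.mul_mem_mul hr ?_)
      exact Submodule.mem_sup_right (Ideal.mem_span_singleton'.mpr ⟨a, (pow_two a).symm⟩)
    have hu := (h P hP0).unique (y₁ := ({P} : Multiset (Ideal R))) (y₂ := P ::ₘ Q)
      ⟨fun q hq => by rw [Multiset.mem_singleton] at hq; exact hq ▸ ⟨hP, hP0⟩, Multiset.prod_singleton P⟩
      ⟨fun q hq => by
        rcases Multiset.mem_cons.mp hq with rfl | h1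
        · exact ⟨hP, hP0⟩
        · exact hQ q h1, by rw [Multiset.prod_cons, hQprod, hPJ']⟩
    rw [← Multiset.cons_zero, Multiset.cons_inj_right] at hu
    rw [← hQprod, ← hu, Multiset.prod_zero, Ideal.one_eq_top]
  have hdiv : ∀ P : Ideal R, P.IsPrime → P ≠ ⊥ → ∃ (J : Ideal R) (c : R), c ≠ 0 ∧ P * J = Ideal.span {c} := by
    intro P hP hP0
    obtain ⟨c, hcP, hc⟩ := Submodule.exists_mem_ne_zero_of_ne_bot hP0
    obtain ⟨s, hs, hsprod⟩ := hprod (Ideal.span {c}) (by simpa using hc)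
    obtain ⟨q, hq, hqP⟩ := (Ideal.IsPrime.multiset_prod_le hP).mp
      (hsprod.le.trans ((Ideal.span_singleton_le_iff_mem P).mpr hcP))
    obtain rfl : q = P := (hmax q (hs q hq).1 (hs q hq).2).eq_of_le hP.ne_top hqP
    obtain ⟨s', rfl⟩ := Multiset.exists_cons_of_mem hq
    exact ⟨s'.prod, c, hc, by rw [← hsprod, Multiset.prod_cons]⟩
  have hall : ∀ I : Ideal R, I ≠ ⊥ → ∃ (J : Ideal R) (c : R), c ≠ 0 ∧ I * J = Ideal.span {c} := by
    intro I hI
    obtain ⟨s, hs, rfl⟩ := hprod I hI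
    clear hI
    induction s using Multiset.induction_on with
    | empty => exact ⟨⊤, 1, one_ne_zero, by simp⟩
    | cons p t ih =>
      obtain ⟨J₁, c₁, hc₁, e₁⟩ := hdiv p (hs p (Multiset.mem_cons_self _ _)).1 (hs p (Multiset.mem_cons_self _ _)).2
      obtain ⟨J₂, c₂, hc₂, e₂⟩ := ih fun q hq => hs q (Multiset.mem_cons_of_mem hq)
      refine ⟨J₁ * J₂, c₁ * c₂, mul_ne_zero hc₁ hc₂, ?_⟩
      rw [Multiset.prod_cons, mul_mul_mul_comm, e₁, e₂, Ideal.span_singleton_mul_span_singleton]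
  rw [isDedekindDomain_iff_mul_inv_cancel (K := FractionRing R)]
  intro I hI
  obtain ⟨a, I₀, ha, rfl⟩ := FractionalIdeal.exists_eq_spanSingleton_mul I
  have hI₀ : I₀ ≠ ⊥ := fun e => hI (by rw [e]; simp)
  obtain ⟨J, c, hc, e⟩ := hall I₀ hI₀
  rw [FractionalIdeal.mul_inv_cancel_iff]
  refine ⟨FractionalIdeal.spanSingleton (nonZeroDivisors R)
    (algebraMap R (FractionRing R) a * (algebraMap R (FractionRing R) c)⁻¹) * (J : FractionalIdeal (nonZeroDivisors R) (FractionRing R)), ?_⟩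
  rw [mul_mul_mul_comm, FractionalIdeal.spanSingleton_mul_spanSingleton, ← FractionalIdeal.coeIdeal_mul, e,
    FractionalIdeal.coeIdeal_span_singleton, FractionalIdeal.spanSingleton_mul_spanSingleton,
    inv_mul_cancel_left₀ (IsFractionRing.to_map_ne_zero_of_mem_nonZeroDivisors (mem_nonZeroDivisors_of_ne_zero ha)),
    inv_mul_cancel₀ (IsFractionRing.to_map_ne_zero_of_mem_nonZeroDivisors (mem_nonZeroDivisors_of_ne_zero hc)),
    FractionalIdeal.spanSingleton_one]

end Groth.Agent.S6369
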