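import Groth.Statements.S6370
import Groth.Agent.OneDim.KrullAkizuki
import Mathlib.RingTheory.DedekindDomain.IntegralClosure
import Mathlib.RingTheory.Ideal.GoingUp

set_option autoImplicit false
universe u
open CAlg

namespace Groth.Agent.S6370

/-- For a one-dimensional Noetherian domain A with fraction field K, a finite field extension L of K
(separable or not) and B the integral closure of A in L: B is a Dedekind domain, Spec B → Spec A is
surjective and has finite fibres, and at every maximal ideal Q of B the residue field B/Q is finite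
over A/(Q ∩ A). -/
theorem result (A K L B : Type u) [CommRing A] [IsDomain A]
    [IsNoetherianRing A] (hdim : ringKrullDim A = 1) [Field K] [Algebra A K] [IsFractionRing A K]
    [Field L] [Algebra K L] [FiniteDimensional K L] [Algebra A L] [IsScalarTower A K L]
    [CommRing B] [IsDomain B] [Algebra A B] [Algebra B L] [IsScalarTower A B L] [IsIntegralClosure B A L] :
    IsDedekindDomain B ∧ Function.Surjective (PrimeSpectrum.comap (algebraMap A B)) ∧
      (∀ p : PrimeSpectrum A, (PrimeSpectrum.comap (algebraMap A B) ⁻¹' {p}).Finite) ∧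
      ∀ Q : Ideal B, Q.IsMaximal → Module.Finite (A ⧸ Q.comap (algebraMap A B)) (B ⧸ Q) := by
  classical
  haveI : Ring.KrullDimLE 1 A :=
    Order.krullDimLE_iff _ _ |>.mpr (le_of_eq hdim)
  have hAL : Function.Injective (algebraMap A L) := by
    rw [IsScalarTower.algebraMap_eq A K L]
    exact (algebraMap K L).injective.comp (IsFractionRing.injective A K)
  have hBL : Function.Injective (algebraMap B L) := IsIntegralClosure.algebraMap_injective B A L
  have hAB : Function.Injective (algebraMap A B) := fun x y h => hAL (by
    rw [IsScalarTower.algebraMap_apply A B L, h, ← IsScalarTower.algebraMap_apply])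
  haveI : Algebra.IsIntegral A B := IsIntegralClosure.isIntegral_algebra A L
  obtain ⟨s, bs, hbs⟩ := FiniteDimensional.exists_is_basis_integral A K L
  let A' : Subalgebra A L := Algebra.adjoin A (Set.range bs)
  haveI hA'fin : Module.Finite A A' := Module.Finite.iff_fg.mpr
    (fg_adjoin_of_finite (Set.finite_range bs) (by rintro _ ⟨i, rfl⟩; exact hbs i))
  haveI : Algebra.IsIntegral A A' := Algebra.IsIntegral.of_finite A A'
  haveI : IsNoetherianRing A' := isNoetherian_of_tower A (inferInstanceAs (IsNoetherian A A'))
  haveI : Ring.KrullDimLE 1 A' := by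
    rw [Ring.krullDimLE_one_iff_of_noZeroDivisors]
    intro I hI hIp
    haveI : Ring.DimensionLEOne A := ⟨fun {p} hp hp' =>
      (Ring.krullDimLE_one_iff_of_noZeroDivisors.mp inferInstance) p hp hp'⟩
    exact Ideal.isMaximal_of_isIntegral_of_isMaximal_comap I
      ((Ideal.IsPrime.comap (algebraMap A A')).isMaximal
        (fun h0 => hI (Ideal.eq_bot_of_comap_eq_bot h0)))
  haveI : IsFractionRing A' L := by
    refine IsFractionRing.of_field A' L fun z => ?_
    obtain ⟨⟨d, hd⟩, hint⟩ := IsLocalization.exist_integer_multiples_of_finset (nonZeroDivisors A)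
      (Finset.univ.image fun i => bs.repr z i)
    have hmem : algebraMap A L d * z ∈ A' := by
      conv => enter [2]; rw [← bs.sum_repr z]
      rw [Finset.mul_sum]
      refine Subalgebra.sum_mem _ fun i _ => ?_
      obtain ⟨a, ha⟩ := hint (bs.repr z i) (Finset.mem_image.mpr ⟨i, Finset.mem_univ i, rfl⟩)
      have h1 : algebraMap A L d * (bs.repr z i • bs i) = a • bs i := by
        rw [Algebra.smul_def, Algebra.smul_def, ← mul_assoc, IsScalarTower.algebraMap_apply A K L d,
          IsScalarTower.algebraMap_apply A K L a, ← map_mul, ha]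
        simp [Algebra.smul_def]
      rw [h1]
      exact Subalgebra.smul_mem _ (Algebra.subset_adjoin (Set.mem_range_self i)) a
    refine ⟨(⟨_, hmem⟩ : A'), algebraMap A A' d, ?_⟩
    show z = algebraMap A L d * z / algebraMap A L d
    rw [mul_div_cancel_left₀]
    rw [Ne, map_eq_zero_iff _ hAL]
    exact nonZeroDivisors.ne_zero hd
  let B' : Subalgebra A' L :=
    { (algebraMap B L).range with
      algebraMap_mem' := fun a =>
        ⟨IsIntegralClosure.mk' B (a : L) (((Algebra.IsIntegral.isIntegral a).algebraMap : IsIntegral A (algebraMap A' L a))), IsIntegralClosure.algebraMap_mk' ..⟩ }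
  let e : B ≃+* B' := RingEquiv.ofBijective
    ({ toFun := fun b => ⟨algebraMap B L b, b, rfl⟩
       map_one' := Subtype.ext (map_one _)
       map_zero' := Subtype.ext (map_zero _)
       map_mul' := fun x y => Subtype.ext (map_mul _ x y)
       map_add' := fun x y => Subtype.ext (map_add _ x y) } : B →+* B')
    ⟨fun x y h => hBL (congrArg Subtype.val h), fun ⟨_, b, hb⟩ => ⟨b, Subtype.ext hb⟩⟩
  haveI : IsNoetherianRing B :=
    haveI := Groth.Agent.OneDim.isNoetherianRing_subalgebra (A := A') B'
    isNoetherianRing_of_ringEquiv B' e.symm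
  haveI : Ring.DimensionLEOne B := ⟨fun {P} hP0 hP => by
    have h1 := (Groth.Agent.OneDim.dimensionLEOne_subalgebra (A := A') B').maximalOfPrime
      (p := P.map e) (fun h => hP0 ((Ideal.map_eq_bot_iff_of_injective e.injective).mp h))
      (Ideal.map_isPrime_of_equiv e)
    have h2 : P = (P.map e).comap e := (Ideal.comap_map_of_bijective e e.bijective).symm
    rw [h2]
    exact Ideal.comap_isMaximal_of_surjective e e.surjective⟩
  haveI : IsFractionRing B L := IsIntegralClosure.isFractionRing_of_finite_extension A K L B
  have hded : IsDedekindDomain B := (isDedekindDomain_iff B L).mpr ⟨inferInstance, inferInstance, inferInstance,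
    fun {x} hx => ⟨IsIntegralClosure.mk' B x (isIntegral_trans (R := A) (A := B) x hx), IsIntegralClosure.algebraMap_mk' ..⟩⟩
  have hcont : ∀ {Q : Ideal B}, Q ≠ ⊥ → Q.comap (algebraMap A B) ≠ ⊥ := fun hQ h =>
    hQ (Ideal.eq_bot_of_comap_eq_bot h)
  refine ⟨hded, fun p => ?_, fun p => ?_, fun Q hQ => ?_⟩
  · obtain ⟨Q, hQ, hQp⟩ := Ideal.exists_ideal_over_prime_of_isIntegral_of_isDomain (S := B) p.asIdeal
      (by rw [(RingHom.injective_iff_ker_eq_bot _).mp hAB]; exact bot_le)
    exact ⟨⟨Q, hQ⟩, PrimeSpectrum.ext hQp⟩
  · rcases eq_or_ne p.asIdeal ⊥ with hp | hp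
    · refine (Set.finite_singleton (⟨⊥, Ideal.isPrime_bot⟩ : PrimeSpectrum B)).subset fun q hq => ?_
      refine PrimeSpectrum.ext (by_contra fun hne => hcont hne ?_)
      rw [← hp]
      exact congrArg PrimeSpectrum.asIdeal hq
    · obtain ⟨a, ha, ha0⟩ := Submodule.exists_mem_ne_zero_of_ne_bot hp
      have hfin := Groth.Agent.OneDim.finite_maximal_containing (A := A') B' (a := algebraMap A A' a)
        (fun h => ha0 (hAL ((congrArg Subtype.val h).trans (map_zero _).symm)))
      refine (hfin.preimage (f := fun q : PrimeSpectrum B => q.asIdeal.map e) (fun q₁ _ q₂ _ h => ?_)).subset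
        fun q hq => ?_
      · exact PrimeSpectrum.ext ((Ideal.comap_map_of_bijective e e.bijective).symm.trans
          ((congrArg (Ideal.comap e) h).trans (Ideal.comap_map_of_bijective e e.bijective)))
      · have haq : algebraMap A B a ∈ q.asIdeal := by
          have h1 : q.asIdeal.comap (algebraMap A B) = p.asIdeal := congrArg PrimeSpectrum.asIdeal hq
          rw [← h1] at ha
          exact ha
        have hq0 : q.asIdeal ≠ ⊥ := fun h => ha0 (hAB (by
          rw [map_zero]; rw [h, Ideal.mem_bot] at haq; exact haq))
        haveI := Ring.DimensionLEOne.maximalOfPrime hq0 q.isPrime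
        refine ⟨Ideal.map_isMaximal_of_equiv e, ?_⟩
        have h3 : e (algebraMap A B a) = algebraMap A' B' (algebraMap A A' a) :=
          Subtype.ext (IsScalarTower.algebraMap_apply A B L a).symm
        exact h3 ▸ Ideal.mem_map_of_mem e haq
  · have hQ0 : Q ≠ ⊥ := by
      intro h
      subst h
      have hB : IsField B := Ring.isField_iff_maximal_bot.mpr hQ
      have hA : IsField A := isField_of_isIntegral_of_isField hAB hB
      letI := hA.toField
      rw [ringKrullDim_eq_zero_of_field A] at hdim
      exact zero_ne_one hdim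
    obtain ⟨a, ha, ha0⟩ := Submodule.exists_mem_ne_zero_of_ne_bot (hcont hQ0)
    haveI hQp := hQ.isPrime
    have hfl := Groth.Agent.OneDim.isFiniteLength_quotient (A := A') B' (a := algebraMap A A' a)
      (fun h => ha0 (hAL ((congrArg Subtype.val h).trans (map_zero _).symm)))
    haveI : IsNoetherian A' (B' ⧸ LinearMap.range (LinearMap.lsmul A' B' (algebraMap A A' a))) :=
      (isFiniteLength_iff_isNoetherian_isArtinian.mp hfl).1
    haveI : Module.Finite A (B' ⧸ LinearMap.range (LinearMap.lsmul A' B' (algebraMap A A' a))) :=
      Module.Finite.trans A' _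
    let f : B' →ₗ[A] B ⧸ Q :=
      { toFun := fun x => Ideal.Quotient.mk Q (e.symm x)
        map_add' := fun x y => by simp
        map_smul' := fun r x => by
          have h1 : e.symm (algebraMap A B' r) = algebraMap A B r := by
            rw [RingEquiv.symm_apply_eq]
            exact Subtype.ext (IsScalarTower.algebraMap_apply A B L r)
          rw [Algebra.smul_def, map_mul, map_mul, h1, RingHom.id_apply, Algebra.smul_def]
          rfl }
    have hker : (LinearMap.range (LinearMap.lsmul A' B' (algebraMap A A' a))).restrictScalars A ≤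
        LinearMap.ker f := by
      rintro _ ⟨x, rfl⟩
      have h2 : e.symm (algebraMap A' B' (algebraMap A A' a)) = algebraMap A B a := by
        rw [RingEquiv.symm_apply_eq]
        exact Subtype.ext (IsScalarTower.algebraMap_apply A B L a)
      refine Ideal.Quotient.eq_zero_iff_mem.mpr ?_
      rw [LinearMap.lsmul_apply, Algebra.smul_def, map_mul, h2]
      exact Q.mul_mem_right _ ha
    haveI : Module.Finite A (B' ⧸ (LinearMap.range (LinearMap.lsmul A' B' (algebraMap A A' a))).restrictScalars A) :=
      Module.Finite.equiv (Submodule.Quotient.restrictScalarsEquiv A _).symm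
    haveI : Module.Finite A (B ⧸ Q) := by
      refine Module.Finite.of_surjective (Submodule.liftQ _ f hker) fun z => ?_
      obtain ⟨z, rfl⟩ := Ideal.Quotient.mk_surjective z
      exact ⟨Submodule.Quotient.mk (e z), by simp [f]⟩
    exact Module.Finite.of_restrictScalars_finite A _ _

end Groth.Agent.S6370
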