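import Groth.Statements.S6371
import Mathlib.Algebra.Algebra.Epi
import Mathlib.RingTheory.Localization.BaseChange
import Mathlib.RingTheory.Localization.AtPrime.Basic
import Mathlib.RingTheory.TensorProduct.Maps

set_option autoImplicit false
universe u
open scoped TensorProduct
open CAlg

namespace Groth.Agent.S6371

/-- A ring map R → S is an epimorphism of rings if and only if for every prime p of R the localized map
R_p → S_p is an epimorphism, where S_p is S localized at the image of R ∖ p. -/
theorem result (R S : Type u) [CommRing R] [CommRing S] [Algebra R S] :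
    Algebra.IsEpi R S ↔ ∀ (p : Ideal R) [p.IsPrime],
      Algebra.IsEpi (Localization.AtPrime p) (Localization (Algebra.algebraMapSubmonoid S p.primeCompl)) := by
  classical
  constructor
  · intro hepi p _
    let Rp := Localization.AtPrime p
    let M := Algebra.algebraMapSubmonoid S p.primeCompl
    let Sp := Localization M
    let i : S →ₐ[R] Sp := IsScalarTower.toAlgHom R S Sp
    let F : S ⊗[R] S →ₐ[R] Sp ⊗[Rp] Sp := Algebra.TensorProduct.lift
      ((Algebra.TensorProduct.includeLeft (R := Rp) (S := R) (A := Sp) (B := Sp)).comp i)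
      (((Algebra.TensorProduct.includeRight (R := Rp) (A := Sp) (B := Sp)).restrictScalars R).comp i)
      (fun _ _ => .all _ _)
    refine (Algebra.isEpi_iff_forall_one_tmul_eq Rp Sp).mpr fun z => ?_
    obtain ⟨s, ⟨_, r, hr, rfl⟩, rfl⟩ := IsLocalization.exists_mk'_eq M z
    set z := IsLocalization.mk' Sp s (⟨algebraMap R S r, r, hr, rfl⟩ : M)
    have hu : IsUnit (algebraMap R Rp r) := IsLocalization.map_units Rp (⟨r, hr⟩ : p.primeCompl)
    have hz : algebraMap R Rp r • z = algebraMap S Sp s := by
      rw [algebraMap_smul, Algebra.smul_def, IsScalarTower.algebraMap_apply R S Sp]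
      exact IsLocalization.mk'_spec' Sp s (⟨algebraMap R S r, r, hr, rfl⟩ : M)
    have h := congrArg F ((Algebra.isEpi_iff_forall_one_tmul_eq R S).mp inferInstance s)
    simp only [F, i, Algebra.TensorProduct.lift_tmul, map_one, one_mul, mul_one, AlgHom.comp_apply,
      AlgHom.restrictScalars_apply, Algebra.TensorProduct.includeLeft_apply,
      Algebra.TensorProduct.includeRight_apply, IsScalarTower.coe_toAlgHom'] at h
    refine hu.smul_left_cancel.mp ?_
    rw [← TensorProduct.tmul_smul, TensorProduct.smul_tmul', hz]
    exact h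
  · intro h
    refine (Algebra.isEpi_iff_forall_one_tmul_eq R S).mpr fun s => ?_
    rw [← sub_eq_zero]
    set d : S ⊗[R] S := (1 : S) ⊗ₜ[R] s - s ⊗ₜ[R] 1
    suffices hd : ∀ (p : Ideal R) [p.IsMaximal], ∃ r ∉ p, r • d = 0 by
      by_contra hne
      let A := (LinearMap.toSpanSingleton R (S ⊗[R] S) d).ker
      obtain ⟨p, hp, hle⟩ := Ideal.exists_le_maximal A (fun e => hne (by
        have : (1 : R) ∈ A := e ▸ Submodule.mem_top
        simpa [A] using this))
      obtain ⟨r, hr, hrd⟩ := hd p
      exact hr (hle (by simpa [A] using hrd))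
    intro p _
    let Rp := Localization.AtPrime p
    let M := Algebra.algebraMapSubmonoid S p.primeCompl
    let Sp := Localization M
    haveI := h p
    have he := congrArg (IsLocalization.moduleTensorEquiv p.primeCompl Rp Sp Sp)
      ((Algebra.isEpi_iff_forall_one_tmul_eq Rp Sp).mp inferInstance (algebraMap S Sp s))
    let ι : S →ₗ[R] Sp := (IsScalarTower.toAlgHom R S Sp).toLinearMap
    haveI : IsLocalizedModule p.primeCompl ι := by
      exact isLocalizedModule_iff_isLocalization.mpr inferInstance
    have h0 : TensorProduct.map ι ι d = 0 := by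
      simp only [d, map_sub, TensorProduct.map_tmul, sub_eq_zero, ι, AlgHom.toLinearMap_apply, map_one,
        IsScalarTower.coe_toAlgHom']
      exact he
    obtain ⟨⟨r, hr⟩, hrd⟩ := (IsLocalizedModule.eq_zero_iff p.primeCompl (TensorProduct.map ι ι)).mp h0
    exact ⟨r, hr, hrd⟩

end Groth.Agent.S6371
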