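import Groth.Statements.S6374
import Groth.Agent.S6373
import Mathlib.RingTheory.LocalRing.ResidueField.Fiber
import Mathlib.RingTheory.TensorProduct.Maps

set_option autoImplicit false
universe u
open scoped TensorProduct
open CAlg

namespace Groth.Agent.S6374

/-- For an epimorphism of rings R → S, the induced map Spec S → Spec R is injective and induces trivial
residue field extensions; stated in the form the proof gives: for every prime p of R the fibre ring
S ⊗_R κ(p) is either zero or κ(p) → S ⊗_R κ(p) is bijective, together with injectivity of Spec S →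
Spec R. -/
theorem result (R S : Type u) [CommRing R] [CommRing S] [Algebra R S]
    [Algebra.IsEpi R S] :
    Function.Injective (PrimeSpectrum.comap (algebraMap R S)) ∧
      ∀ (p : Ideal R) [p.IsPrime],
        Subsingleton (p.Fiber S) ∨ Function.Bijective (algebraMap p.ResidueField (p.Fiber S)) := by
  classical
  have hfib : ∀ (p : Ideal R) [p.IsPrime],
      Subsingleton (p.Fiber S) ∨ Function.Bijective (algebraMap p.ResidueField (p.Fiber S)) := by
    intro p _
    let k := p.ResidueField
    let i : S →ₐ[R] k ⊗[R] S := Algebra.TensorProduct.includeRight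
    let F : S ⊗[R] S →ₐ[R] (k ⊗[R] S) ⊗[k] (k ⊗[R] S) := Algebra.TensorProduct.lift
      ((Algebra.TensorProduct.includeLeft (R := k) (S := R) (A := k ⊗[R] S) (B := k ⊗[R] S)).comp i)
      (((Algebra.TensorProduct.includeRight (R := k) (A := k ⊗[R] S) (B := k ⊗[R] S)).restrictScalars R).comp i)
      (fun _ _ => .all _ _)
    haveI : Algebra.IsEpi k (k ⊗[R] S) := by
      refine (Algebra.isEpi_iff_forall_one_tmul_eq k _).mpr fun z => ?_
      induction z using TensorProduct.induction_on with
      | zero => simp
      | add a b ha hb => rw [TensorProduct.tmul_add, TensorProduct.add_tmul, ha, hb]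
      | tmul a s =>
        have h := congrArg F ((Algebra.isEpi_iff_forall_one_tmul_eq R S).mp inferInstance s)
        simp only [F, i, Algebra.TensorProduct.lift_tmul, map_one, one_mul, mul_one, AlgHom.comp_apply,
          AlgHom.restrictScalars_apply, Algebra.TensorProduct.includeLeft_apply,
          Algebra.TensorProduct.includeRight_apply] at h
        have ha : a ⊗ₜ[R] s = a • ((1 : k) ⊗ₜ[R] s) := by rw [TensorProduct.smul_tmul', smul_eq_mul, mul_one]
        rw [ha, TensorProduct.tmul_smul, h, ← TensorProduct.smul_tmul']
    exact Groth.Agent.S6373.result k (k ⊗[R] S)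
  refine ⟨fun q₁ q₂ h => ?_, hfib⟩
  let p := PrimeSpectrum.comap (algebraMap R S) q₁
  haveI hsub : Subsingleton (PrimeSpectrum (p.asIdeal.Fiber S)) := by
    rcases hfib p.asIdeal with hs | hb
    · haveI := hs; infer_instance
    · exact (PrimeSpectrum.comapEquiv (RingEquiv.ofBijective _ hb)).symm.injective.subsingleton
  haveI := (PrimeSpectrum.preimageEquivFiber R S p).injective.subsingleton
  exact congrArg Subtype.val (Subsingleton.elim
    (⟨q₁, rfl⟩ : ↥(PrimeSpectrum.comap (algebraMap R S) ⁻¹' {p})) ⟨q₂, h.symm⟩)

end Groth.Agent.S6374
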