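import Groth.Statements.S6375
import Mathlib.RingTheory.TensorProduct.Basic
import Mathlib.Algebra.Algebra.Epi
import Mathlib.LinearAlgebra.TensorProduct.RightExactness
import Mathlib.LinearAlgebra.TensorProduct.Finiteness
import Mathlib.LinearAlgebra.DirectSum.Finsupp
import Mathlib.SetTheory.Cardinal.Arithmetic

set_option autoImplicit false
universe u
open CAlg
open scoped TensorProduct

namespace Groth.Agent.S6375

/-- For an infinite source ring: if R → S is an epimorphism of rings with R infinite, then |S| ≤ |R| as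
cardinals. (For finite R the published statement also asserts |S| ≤ |R|, but its proof only gives
that S is countable and omits the rest, so that case is not included.) -/
theorem result (R S : Type u) [CommRing R] [CommRing S] [Algebra R S] [Algebra.IsEpi R S]
    [Infinite R] : Cardinal.mk S ≤ Cardinal.mk R := by
  classical
  let D := Σ p : ℕ × ℕ, (Fin p.1 → Fin p.2 → R) × (Fin p.1 × Fin p.1)
  have key : ∀ b : S, ∃ d : D, ∃ (n : Fin d.1.1 → S) (y : Fin d.1.2 → S),
      (∀ i, ∑ j, d.2.1 i j • y j =
        (if i = d.2.2.1 then b else 0) - (if i = d.2.2.2 then 1 else 0)) ∧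
      (∀ j, ∑ i, d.2.1 i j • n i = 0) ∧ n d.2.2.1 = 1 ∧ n d.2.2.2 = b := by
    intro b
    let π : (S →₀ R) →ₗ[R] S := Finsupp.linearCombination R id
    let K : Submodule R (S →₀ R) := LinearMap.ker π
    have hK : Function.Exact K.subtype π := LinearMap.exact_subtype_ker_map π
    let x : (S →₀ R) ⊗[R] S := Finsupp.single 1 1 ⊗ₜ b - Finsupp.single b 1 ⊗ₜ 1
    have hx : π.rTensor S x = 0 := by
      simp only [x, π, map_sub, LinearMap.rTensor_tmul, Finsupp.linearCombination_single, one_smul,
        id_eq, sub_eq_zero]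
      exact ((Algebra.isEpi_iff_forall_one_tmul_eq R S).mp inferInstance b)
    obtain ⟨w, hw⟩ := (rTensor_exact (M := K) (N := S →₀ R) (P := S) (f := K.subtype) (g := π) S hK
      (Finsupp.linearCombination_id_surjective R S) x).mp hx
    obtain ⟨T, rfl⟩ := TensorProduct.exists_finset w
    let Supp : Finset S := {1, b} ∪ T.biUnion (fun t => (t.1 : S →₀ R).support)
    let e := Supp.equivFin
    let f := T.equivFin
    refine ⟨⟨(Supp.card, T.card), fun i j => ((f.symm j).1.1 : S →₀ R) (e.symm i : S),
      e ⟨1, by simp [Supp]⟩, e ⟨b, by simp [Supp]⟩⟩, fun i => (e.symm i : S), fun j => (f.symm j).1.2,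
      fun i => ?_, fun j => ?_, by simp, by simp⟩
    · have h := congrArg (fun z => TensorProduct.finsuppScalarLeft R S S z (e.symm i : S)) hw
      simp only [x, map_sum, map_sub, Finsupp.finsetSum_apply, Finsupp.sub_apply, LinearMap.rTensor_tmul,
        TensorProduct.finsuppScalarLeft_apply_tmul_apply, Submodule.subtype_apply, Finsupp.single_apply,
        ite_smul, one_smul, zero_smul] at h
      rw [← Finset.sum_coe_sort] at h
      rw [← f.sum_comp]
      simp only [Equiv.symm_apply_apply]
      refine h.trans ?_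
      congr 1 <;> refine if_congr ?_ rfl rfl <;>
        rw [← Equiv.symm_apply_eq, Subtype.ext_iff] <;> exact eq_comm
    · have h : π ((f.symm j).1.1 : S →₀ R) = 0 := (f.symm j).1.1.2
      simp only [π, Finsupp.linearCombination_apply] at h
      have hsub : ((f.symm j).1.1 : S →₀ R).support ⊆ Supp := fun z hz =>
        Finset.mem_union_right _ (Finset.mem_biUnion.mpr ⟨_, (f.symm j).2, hz⟩)
      rw [Finsupp.sum_of_support_subset _ hsub (fun i a => a • id i) (fun z _ => zero_smul R _)] at h
      rw [← Finset.sum_coe_sort, ← e.symm.sum_comp] at h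
      exact h
  choose d n y h1 h2 h3 h4 using key
  have hd : Function.Injective d := by
    intro b b' hbb'
    have aux : ∀ (d₀ : D) (n' y₀ : _),
        (∀ i, ∑ j, d₀.2.1 i j • (y₀ : Fin d₀.1.2 → S) j =
          (if i = d₀.2.2.1 then b else 0) - (if i = d₀.2.2.2 then 1 else 0)) →
        (∀ j, ∑ i, d₀.2.1 i j • (n' : Fin d₀.1.1 → S) i = 0) →
        n' d₀.2.2.1 = 1 → n' d₀.2.2.2 = b' → b = b' := by
      intro d₀ n' y₀ e1 e2 e3 e4
      have hs : ∑ i, (∑ j, d₀.2.1 i j • y₀ j) * n' i = 0 := by
        simp only [Finset.sum_mul]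
        rw [Finset.sum_comm]
        refine Finset.sum_eq_zero fun j _ => ?_
        have := congrArg (y₀ j * ·) (e2 j)
        simp only [Finset.mul_sum, mul_zero, mul_smul_comm] at this
        simpa only [smul_mul_assoc] using this
      simp only [e1, sub_mul, ite_mul, zero_mul, one_mul, Finset.sum_sub_distrib, Finset.sum_ite_eq',
        Finset.mem_univ, if_true, e3, e4, mul_one, sub_eq_zero] at hs
      exact hs
    have hb : (fun d₀ : D => ∃ y₀ : Fin d₀.1.2 → S, ∀ i, ∑ j, d₀.2.1 i j • y₀ j =
        (if i = d₀.2.2.1 then b else 0) - (if i = d₀.2.2.2 then 1 else 0)) (d b) := ⟨y b, h1 b⟩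
    rw [hbb'] at hb
    obtain ⟨y₀, hy₀⟩ := hb
    exact aux (d b') (n b') y₀ hy₀ (h2 b') (h3 b') (h4 b')
  refine (Cardinal.mk_le_of_injective hd).trans ?_
  have hR : Cardinal.aleph0 ≤ Cardinal.mk R := Cardinal.aleph0_le_mk R
  rw [Cardinal.mk_sigma]
  refine (Cardinal.sum_le_sum _ (fun _ => Cardinal.mk R) fun p => ?_).trans ?_
  · rw [Cardinal.mk_prod]
    refine le_trans (mul_le_mul' ?_ ((Cardinal.lift_le_aleph0.mpr Cardinal.mk_le_aleph0).trans hR))
      (Cardinal.mul_eq_self hR).le
    simp only [Cardinal.mk_arrow, Cardinal.mk_fin, Cardinal.lift_natCast, Cardinal.lift_uzero]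
    exact (Cardinal.power_le_power_right (Cardinal.power_nat_le hR)).trans (Cardinal.power_nat_le hR)
  · rw [Cardinal.sum_const, Cardinal.lift_uzero]
    exact (mul_le_mul' ((Cardinal.lift_le_aleph0.mpr Cardinal.mk_le_aleph0).trans hR) le_rfl).trans
      (Cardinal.mul_eq_self hR).le

end Groth.Agent.S6375
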