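import Groth.Statements.S6377
import Groth.Agent.TorOne.Basic
import Groth.Agent.CAlgLib.UnivInj
import Mathlib.LinearAlgebra.TensorProduct.Finiteness
import Mathlib.RingTheory.Localization.BaseChange
import Mathlib.RingTheory.Flat.Localization
import Mathlib.RingTheory.Nilpotent.Lemmas
import Mathlib.CategoryTheory.Abelian.LeftDerived
import Mathlib.Algebra.Homology.ShortComplex.ModuleCat
import Mathlib.Algebra.Category.ModuleCat.Projective

set_option autoImplicit false
universe u
open CategoryTheory
open scoped TensorProduct
open CAlg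

namespace Groth.Agent.S6377

/-- Kernels of successive free covers. -/
noncomputable def syz (A : Type u) [CommRing A] (M : Type u) [AddCommGroup M] [Module A M] :
    ℕ → ModuleCat.{u} A
  | 0 => ModuleCat.of A M
  | i + 1 => ModuleCat.of A (LinearMap.ker (Finsupp.linearCombination A (id : syz A M i → syz A M i)))

variable {A : Type u} [CommRing A] {M : Type u} [AddCommGroup M] [Module A M]

/-- The inclusion of a syzygy in the free cover. -/
noncomputable def inc (i : ℕ) : syz A M (i + 1) →ₗ[A] (syz A M i →₀ A) :=
  (LinearMap.ker (Finsupp.linearCombination A (id : syz A M i → syz A M i))).subtype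

/-- The free cover. -/
noncomputable def cov (i : ℕ) : (syz A M i →₀ A) →ₗ[A] syz A M i := Finsupp.linearCombination A id

theorem inc_injective (i : ℕ) : Function.Injective (inc (A := A) (M := M) i) := Subtype.val_injective

theorem cov_surjective (i : ℕ) : Function.Surjective (cov (A := A) (M := M) i) :=
  Finsupp.linearCombination_id_surjective A _

theorem inc_cov_exact (i : ℕ) : Function.Exact (inc (A := A) (M := M) i) (cov i) :=
  LinearMap.exact_subtype_ker_map _

/-- `Tor_{i+1}(M, N) = 0`. -/
def V (A : Type u) [CommRing A] (M : Type u) [AddCommGroup M] [Module A M] (i : ℕ)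
    (N : Type u) [AddCommGroup N] [Module A N] : Prop :=
  Function.Injective ((inc (A := A) (M := M) i).lTensor N)

theorem V_extension (i : ℕ) {N₁ N₂ N₃ : Type u} [AddCommGroup N₁] [Module A N₁] [AddCommGroup N₂]
    [Module A N₂] [AddCommGroup N₃] [Module A N₃] (a : N₁ →ₗ[A] N₂) (b : N₂ →ₗ[A] N₃)
    (ha : Function.Injective a) (hab : Function.Exact a b) (hb : Function.Surjective b)
    (h₁ : V A M i N₁) (h₃ : V A M i N₃) : V A M i N₂ :=
  TorOne.injective_of_exact (K := LinearMap.ker (cov (A := A) (M := M) i)) a b ha hab hb h₁ h₃

theorem V_shift (i : ℕ) {N L C : Type u} [AddCommGroup N] [Module A N] [AddCommGroup L]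
    [Module A L] [AddCommGroup C] [Module A C] (a : N →ₗ[A] L) (b : L →ₗ[A] C)
    (ha : Function.Injective a) (hab : Function.Exact a b) (hb : Function.Surjective b)
    (hL : V A M i L) (hC : V A M (i + 1) C) : V A M i N := by
  have hK : Function.Injective (a.lTensor (syz A M (i + 1))) :=
    lTensor_injective_of_exact_of_exact_of_rTensor_injective (inc_cov_exact (i + 1))
      (cov_surjective (i + 1)) hab hb
      (by
        intro x y hxy
        apply (TensorProduct.comm A (syz A M (i + 2)) C).injective
        apply hC
        have hc : ∀ z, (inc (i + 1)).lTensor C (TensorProduct.comm A _ C z) =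
            TensorProduct.comm A _ C ((inc (A := A) (M := M) (i + 1)).rTensor C z) := by
          intro z
          induction z using TensorProduct.induction_on with
          | zero => simp
          | tmul s t => simp
          | add s t hs ht => simp only [map_add, hs, ht]
        rw [hc, hc, hxy])
      (Module.Flat.lTensor_preserves_injective_linearMap a ha)
  have hK' : Function.Injective (a.rTensor (syz A M (i + 1))) :=
    (LinearMap.lTensor_inj_iff_rTensor_inj _ a).mp hK
  intro x y hxy
  apply hK'
  apply hL
  rw [← LinearMap.comp_apply, ← LinearMap.comp_apply ((inc i).lTensor L), LinearMap.lTensor_comp_rTensor,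
    ← LinearMap.rTensor_comp_lTensor, LinearMap.comp_apply, LinearMap.comp_apply, hxy]

theorem flat_syz_baseChange (B : Type u) [CommRing B] [Algebra A B] [Module.Flat B (B ⊗[A] M)] (i : ℕ) :
    (∀ j < i, Function.Injective ((inc (A := A) (M := M) j).lTensor B)) →
      Module.Flat B (B ⊗[A] syz A M i) := by
  induction i with
  | zero => exact fun _ => ‹_›
  | succ i ih =>
    intro h
    haveI := ih fun j hj => h j (by omega)
    have hex : Function.Exact ((inc (A := A) (M := M) i).baseChange B) ((cov i).baseChange B) :=
      lTensor_exact B (inc_cov_exact i) (cov_surjective i)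
    exact CAlgLib.UnivInj.flat_left (CAlgLib.UnivInj.universallyInjective_of_flat hex (h i (by omega))
      (LinearMap.lTensor_surjective B (cov_surjective i)))

theorem V_of_baseChange (B : Type u) [CommRing B] [Algebra A B] [Module.Flat B (B ⊗[A] M)] (i : ℕ)
    (h : ∀ j ≤ i, Function.Injective ((inc (A := A) (M := M) j).lTensor B))
    (L : Type u) [AddCommGroup L] [Module A L] [Module B L] [IsScalarTower A B L] : V A M i L := by
  haveI := flat_syz_baseChange B i fun j hj => h j hj.le
  have hex : Function.Exact ((inc (A := A) (M := M) i).baseChange B) ((cov i).baseChange B) :=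
    lTensor_exact B (inc_cov_exact i) (cov_surjective i)
  have hu := CAlgLib.UnivInj.universallyInjective_of_flat hex (h i le_rfl)
    (LinearMap.lTensor_surjective B (cov_surjective i)) L
  have hu' : Function.Injective (((inc (A := A) (M := M) i).baseChange B).lTensor L) :=
    (LinearMap.lTensor_inj_iff_rTensor_inj L _).mpr hu
  let e₁ := TensorProduct.AlgebraTensorModule.cancelBaseChange A B B L (syz A M (i + 1))
  let e₂ := TensorProduct.AlgebraTensorModule.cancelBaseChange A B B L (syz A M i →₀ A)
  have key : ∀ z, (inc i).lTensor L (e₁ z) =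
      e₂ (((inc (A := A) (M := M) i).baseChange B).lTensor L z) := by
    intro z
    induction z using TensorProduct.induction_on with
    | zero => simp
    | tmul l y =>
      induction y using TensorProduct.induction_on with
      | zero => simp
      | tmul r k => simp [e₁, e₂]
      | add y y' hy hy' => simp only [TensorProduct.tmul_add, map_add, hy, hy']
    | add z z' hz hz' => simp only [map_add, hz, hz']
  intro x y hxy
  obtain ⟨x, rfl⟩ := e₁.surjective x
  obtain ⟨y, rfl⟩ := e₁.surjective y
  rw [key, key] at hxy
  rw [hu' (e₂.injective hxy)]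

theorem exact_shift {P : ℕ → Type u} [∀ n, AddCommGroup (P n)] [∀ n, Module A (P n)]
    [∀ n, Module.Flat A (P n)] (d : ∀ n, P (n + 1) →ₗ[A] P n) (hd : ∀ n, d n ∘ₗ d (n + 1) = 0)
    (hP : ∀ n, Function.Exact (d (n + 1)) (d n)) {K F X : Type u} [AddCommGroup K] [Module A K]
    [AddCommGroup F] [Module A F] [Module.Flat A F] [AddCommGroup X] [Module A X]
    (a : K →ₗ[A] F) (b : F →ₗ[A] X) (ha : Function.Injective a) (hab : Function.Exact a b)
    (hb : Function.Surjective b) (n : ℕ)
    (hX : ∀ z, (d (n + 1)).lTensor X z = 0 → ∃ w, (d (n + 2)).lTensor X w = z) :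
    ∀ z, (d n).lTensor K z = 0 → ∃ w, (d (n + 1)).lTensor K w = z := by
  have hc : ∀ {U W : Type u} [AddCommGroup U] [Module A U] [AddCommGroup W] [Module A W] (φ : U →ₗ[A] W)
      (m : ℕ) (z : U ⊗[A] P (m + 1)),
      (d m).lTensor W (φ.rTensor _ z) = φ.rTensor _ ((d m).lTensor U z) := by
    intro U W _ _ _ _ φ m z
    rw [← LinearMap.comp_apply, LinearMap.lTensor_comp_rTensor, ← LinearMap.rTensor_comp_lTensor]
    rfl
  intro z hz
  obtain ⟨w, hw⟩ := (Module.Flat.lTensor_exact F (hP n) (a.rTensor _ z)).mp (by rw [hc, hz, map_zero])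
  obtain ⟨v, hv⟩ := hX (b.rTensor _ w) (by
    rw [hc, hw, ← LinearMap.comp_apply, ← LinearMap.rTensor_comp,
      show b ∘ₗ a = 0 from LinearMap.ext fun x => hab.apply_apply_eq_zero x]
    simp)
  obtain ⟨v', rfl⟩ := LinearMap.rTensor_surjective _ hb v
  obtain ⟨u, hu⟩ := (rTensor_exact (P (n + 2)) hab hb (w - (d (n + 2)).lTensor F v')).mp (by
    rw [map_sub, ← hc, hv, sub_self])
  refine ⟨u, Module.Flat.rTensor_preserves_injective_linearMap a ha ?_⟩
  rw [← hc, hu, map_sub, hw, ← LinearMap.comp_apply ((d (n + 1)).lTensor F), ← LinearMap.lTensor_comp, hd]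
  simp

/-- Let A be a ring, M an A-module and I = (f_1, ..., f_r) an ideal generated by r ≥ 1 elements. If (1)
M_{f_i} is flat over A_{f_i} for each i, (2) M/IM is flat over A/I, and (3) Tor_i^A(M, A/I) = 0 for
i = 1, ..., r + 1, then M is flat over A. (The published statement adds the same with 'faithfully
flat', whose proof it omits; that variant is not included.) -/
theorem result (A : Type u) [CommRing A] (M : Type u) [AddCommGroup M]
    [Module A M] {r : ℕ} (hr : 1 ≤ r) (f : Fin r → A)
    (h1 : ∀ i, Module.Flat (Localization.Away (f i)) (LocalizedModule (Submonoid.powers (f i)) M))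
    (h2 : Module.Flat (A ⧸ Ideal.span (Set.range f)) ((A ⧸ Ideal.span (Set.range f)) ⊗[A] M))
    (h3 : ∀ i : ℕ, 1 ≤ i → i ≤ r + 1 →
      Limits.IsZero (((CategoryTheory.Tor (ModuleCat.{u} A) i).obj (ModuleCat.of A M)).obj (ModuleCat.of A (A ⧸ Ideal.span (Set.range f))))) :
    Module.Flat A M := by
  classical
  set I := Ideal.span (Set.range f) with hI
  -- injectivity modulo `I`
  have hmod : ∀ j ≤ r, Function.Injective ((inc (A := A) (M := M) j).lTensor (A ⧸ I)) := by
    let R := projectiveResolution (ModuleCat.of A (A ⧸ I))
    haveI : ∀ n, Module.Flat A (R.complex.X n) := fun n => by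
      haveI : Module.Projective A (R.complex.X n) :=
        haveI := R.projective n
        (IsProjective.iff_projective (R.complex.X n)).mpr this
      infer_instance
    let d : ∀ n, R.complex.X (n + 1) →ₗ[A] R.complex.X n := fun n => (R.complex.d (n + 1) n).hom
    have hd : ∀ n, d n ∘ₗ d (n + 1) = 0 := fun n => LinearMap.ext fun x => by
      show R.complex.d (n + 1) n (R.complex.d (n + 2) (n + 1) x) = 0
      rw [← ModuleCat.comp_apply, R.complex.d_comp_d]
      rfl
    have hP : ∀ n, Function.Exact (d (n + 1)) (d n) := fun n =>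
      LinearMap.exact_iff.mpr (R.exact_succ n).moduleCat_range_eq_ker.symm
    let W : ModuleCat.{u} A → ℕ → Prop := fun X n =>
      ∀ z, (d n).lTensor X z = 0 → ∃ w, (d (n + 1)).lTensor X w = z
    have hWM : ∀ n, n ≤ r → W (ModuleCat.of A M) n := by
      intro n hn
      let Fn := (MonoidalCategory.tensoringLeft (ModuleCat.{u} A)).obj (ModuleCat.of A M)
      have h0 := h3 (n + 1) (by omega) (by omega)
      change Limits.IsZero ((Fn.leftDerived (n + 1)).obj (ModuleCat.of A (A ⧸ I))) at h0
      rw [(R.isoLeftDerivedObj Fn (n + 1)).isZero_iff] at h0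
      have h4 := (HomologicalComplex.exactAt_iff_isZero_homology _ _).mpr h0
      rw [HomologicalComplex.exactAt_iff' _ (n + 2) (n + 1) n (by simp) (by simp),
        ShortComplex.moduleCat_exact_iff] at h4
      exact h4
    have hsyz : ∀ j, j ≤ r → ∀ n, n + j ≤ r → W (syz A M j) n := by
      intro j
      induction j with
      | zero => exact fun _ n hn => hWM n (by omega)
      | succ j ih =>
        intro hj n hn
        have hprev := ih (by omega) (n + 1) (by omega)
        exact exact_shift (P := fun m => (R.complex.X m : Type u)) (X := syz A M j) d hd hP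
          (inc (A := A) (M := M) j) (cov (A := A) (M := M) j) (inc_injective j) (inc_cov_exact j) (cov_surjective j) n hprev
    intro j hj
    have hT : Limits.IsZero (((CategoryTheory.Tor (ModuleCat.{u} A) 1).obj (syz A M j)).obj
        (ModuleCat.of A (A ⧸ I))) := by
      let Fn := (MonoidalCategory.tensoringLeft (ModuleCat.{u} A)).obj (syz A M j)
      change Limits.IsZero ((Fn.leftDerived 1).obj (ModuleCat.of A (A ⧸ I)))
      rw [(R.isoLeftDerivedObj Fn 1).isZero_iff]
      refine (HomologicalComplex.exactAt_iff_isZero_homology _ _).mp ?_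
      rw [HomologicalComplex.exactAt_iff' _ 2 1 0 (by simp) (by simp), ShortComplex.moduleCat_exact_iff]
      exact hsyz j hj 0 (by omega)
    have hinj := (TorOne.isZero_tor_one_iff (M := A ⧸ I) (syz A M j) (Submodule.mkQ I)
      (Submodule.mkQ_surjective I)).mp hT
    rw [LinearMap.lTensor_inj_iff_rTensor_inj]
    have hK : Function.Injective (((LinearMap.ker (Submodule.mkQ I)).subtype).rTensor (syz A M j)) :=
      (LinearMap.lTensor_inj_iff_rTensor_inj _ _).mp hinj
    exact (LinearMap.lTensor_inj_iff_rTensor_inj _ _).mp
      (lTensor_injective_of_exact_of_exact_of_rTensor_injective (LinearMap.exact_subtype_ker_map (Submodule.mkQ I))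
        (Submodule.mkQ_surjective I) (inc_cov_exact j) (cov_surjective j) hK
        (Module.Flat.lTensor_preserves_injective_linearMap (inc j) (inc_injective j)))
  -- modules killed by `I`
  have hkill : ∀ i ≤ r, ∀ n : ℕ, ∀ (N : Type u) [AddCommGroup N] [Module A N],
      (∀ a ∈ I ^ n, ∀ x : N, a • x = 0) → V A M i N := by
    intro i hi n
    induction n with
    | zero =>
      intro N _ _ hN
      haveI : Subsingleton N := subsingleton_of_forall_eq 0 fun x => by
        rw [← one_smul A x]; exact hN 1 (by simp) x
      intro x y _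
      haveI : Subsingleton (N ⊗[A] syz A M (i + 1)) := by
        refine subsingleton_of_forall_eq 0 fun z => ?_
        induction z using TensorProduct.induction_on with
        | zero => rfl
        | tmul a b => rw [Subsingleton.elim a 0, TensorProduct.zero_tmul]
        | add a b ha hb => rw [ha, hb, add_zero]
      exact Subsingleton.elim x y
    | succ n ih =>
      intro N _ _ hN
      let N' := I • (⊤ : Submodule A N)
      refine V_extension i N'.subtype N'.mkQ N'.injective_subtype (LinearMap.exact_subtype_mkQ N')
        N'.mkQ_surjective (ih N' fun a ha x => Subtype.ext ?_) ?_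
      · rw [Submodule.coe_smul]
        refine Submodule.smul_induction_on x.2 (fun b hb y _ => ?_) (fun y z hy hz => by rw [smul_add, hy, hz]; simp)
        rw [smul_smul]
        exact hN _ (by rw [pow_succ]; exact Ideal.mul_mem_mul ha hb) y
      · have hQ : Module.IsTorsionBySet A (N ⧸ N') (I : Set A) := by
          intro x a
          obtain ⟨x, rfl⟩ := Submodule.mkQ_surjective N' x
          rw [← map_smul, Submodule.mkQ_apply, Submodule.Quotient.mk_eq_zero]
          exact Submodule.smul_mem_smul a.2 trivial
        letI := hQ.module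
        haveI : IsScalarTower A (A ⧸ I) (N ⧸ N') := hQ.isScalarTower
        haveI := h2
        exact V_of_baseChange (A ⧸ I) i (fun j hj => hmod j (by omega)) (N ⧸ N')
  -- torsion modules
  have main : ∀ k : ℕ, k ≤ r → ∀ (i : ℕ), i + k ≤ r → ∀ (N : Type u) [AddCommGroup N] [Module A N],
      (∀ l : Fin r, (l : ℕ) + k < r → ∀ x : N, ∃ m : ℕ, f l ^ m • x = 0) → V A M i N := by
    intro k
    induction k with
    | zero =>
      intro _ i hi N _ _ hN
      rw [V, injective_iff_map_eq_zero]
      intro z hz
      obtain ⟨N₀, hfin, hzN⟩ := TensorProduct.exists_finite_submodule_left_of_setFinite {z} (Set.finite_singleton z)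
      obtain ⟨z, rfl⟩ := hzN (Set.mem_singleton z)
      obtain ⟨S, hS⟩ := Module.Finite.fg_top (R := A) (M := N₀)
      have hrad : I ≤ (Module.annihilator A N₀).radical := by
        rw [hI, Ideal.span_le]
        rintro _ ⟨l, rfl⟩
        choose m hm using fun x : N => hN l (by omega) x
        refine ⟨S.sup fun x => m x, Module.mem_annihilator.mpr fun x => ?_⟩
        have hx : x ∈ Submodule.span A (S : Set N₀) := hS ▸ Submodule.mem_top
        induction hx using Submodule.span_induction with
        | mem y hy =>
          obtain ⟨c, hc⟩ := Nat.exists_eq_add_of_le (Finset.le_sup (f := fun x : N₀ => m x) hy)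
          rw [hc, add_comm, pow_add, mul_smul]
          refine smul_eq_zero_of_right _ (Subtype.ext ?_)
          rw [Submodule.coe_smul]
          exact hm y
        | zero => rw [smul_zero]
        | add a b _ _ ha hb => rw [smul_add, ha, hb, add_zero]
        | smul c a _ ha => rw [smul_comm, ha, smul_zero]
      obtain ⟨n, hn⟩ := Ideal.exists_pow_le_of_le_radical_of_fg hrad
        (Submodule.fg_span (Set.finite_range f))
      have hV := hkill i (by omega) n N₀ fun a ha x => Module.mem_annihilator.mp (hn ha) x
      have h0 : (inc i).lTensor N₀ z = 0 := by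
        apply Module.Flat.rTensor_preserves_injective_linearMap (M := syz A M i →₀ A) N₀.subtype N₀.injective_subtype
        rw [map_zero, ← LinearMap.comp_apply, LinearMap.rTensor_comp_lTensor, ← LinearMap.lTensor_comp_rTensor,
          LinearMap.comp_apply, hz]
      rw [hV (h0.trans (map_zero _).symm), map_zero]
    | succ k ih =>
      intro hk i hi N _ _ hN
      let l₀ : Fin r := ⟨r - (k + 1), by omega⟩
      let S := Submonoid.powers (f l₀)
      let g : N →ₗ[A] LocalizedModule S N := LocalizedModule.mkLinearMap S N
      have hT : ∀ (X : Type u) [AddCommGroup X] [Module A X],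
          (∀ l : Fin r, (l : ℕ) + (k + 1) < r → ∀ x : X, ∃ m : ℕ, f l ^ m • x = 0) →
          (∀ x : X, ∃ m : ℕ, f l₀ ^ m • x = 0) →
          (∀ l : Fin r, (l : ℕ) + k < r → ∀ x : X, ∃ m : ℕ, f l ^ m • x = 0) := by
        intro X _ _ h h' l hl x
        by_cases hll : l = l₀
        · subst hll; exact h' x
        · refine h l ?_ x
          have : (l : ℕ) ≠ r - (k + 1) := fun e => hll (Fin.ext e)
          omega
      refine V_extension i (LinearMap.ker g).subtype g.rangeRestrict (LinearMap.ker g).injective_subtype
        ?_ g.surjective_rangeRestrict ?_ ?_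
      · intro y
        rw [← LinearMap.mem_ker, LinearMap.ker_rangeRestrict]
        exact ⟨fun hy => ⟨⟨y, hy⟩, rfl⟩, fun ⟨z, hz⟩ => hz ▸ z.2⟩
      · refine ih (by omega) i (by omega) _ (hT _ (fun l hl x => ?_) (fun x => ?_))
        · obtain ⟨m, hm⟩ := hN l hl (x : N)
          exact ⟨m, Subtype.ext hm⟩
        · obtain ⟨⟨_, m, rfl⟩, hm⟩ := (IsLocalizedModule.eq_zero_iff S g).mp x.2
          exact ⟨m, Subtype.ext hm⟩
      · let R' := LinearMap.range g
        refine V_shift i R'.subtype R'.mkQ R'.injective_subtype (LinearMap.exact_subtype_mkQ R') R'.mkQ_surjective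
          ?_ (ih (by omega) (i + 1) (by omega) _ (hT _ (fun l hl x => ?_) (fun x => ?_)))
        · haveI : Module.Flat A (Localization.Away (f l₀)) := IsLocalization.flat _ S
          haveI : Module.Flat (Localization.Away (f l₀)) (Localization.Away (f l₀) ⊗[A] M) := by
            haveI := h1 l₀
            exact Module.Flat.of_linearEquiv (LocalizedModule.equivTensorProduct S M).symm
          exact V_of_baseChange (Localization.Away (f l₀)) i (fun j _ =>
            Module.Flat.lTensor_preserves_injective_linearMap _ (inc_injective j)) (LocalizedModule S N)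
        · obtain ⟨y, rfl⟩ := R'.mkQ_surjective x
          induction y using LocalizedModule.induction_on with
          | h y t =>
            obtain ⟨m, hm⟩ := hN l hl y
            refine ⟨m, ?_⟩
            rw [← map_smul, LocalizedModule.smul'_mk, hm, LocalizedModule.zero_mk, map_zero]
        · obtain ⟨y, rfl⟩ := R'.mkQ_surjective x
          obtain ⟨⟨z, ⟨_, m, rfl⟩⟩, hz⟩ := IsLocalizedModule.surj S g y
          refine ⟨m, ?_⟩
          rw [← map_smul, Submodule.mkQ_apply, Submodule.Quotient.mk_eq_zero]
          exact ⟨z, hz.symm⟩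
  have hflat : CAlgX.UniversallyInjective A (inc (A := A) (M := M) 0) := fun Q _ _ =>
    (LinearMap.lTensor_inj_iff_rTensor_inj Q _).mp (main r le_rfl 0 (by omega) Q fun l hl => absurd hl (by omega))
  exact CAlgLib.UnivInj.flat_right (inc_cov_exact 0) (cov_surjective 0) hflat

end Groth.Agent.S6377
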