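import Groth.Statements.S6378
import Groth.Agent.TorOne.Basic
import Mathlib.RingTheory.SimpleModule.Basic
import Mathlib.RingTheory.FiniteLength

set_option autoImplicit false
universe u
open scoped TensorProduct
open CategoryTheory
open CAlg

namespace Groth.Agent.S6378

/-- Let (R, m, κ) be a local ring and M an R-module with Tor_1^R(κ, M) = 0. Then Tor_1^R(N, M) = 0 for
every finite length R-module N. -/
theorem result (R : Type u) [CommRing R] [IsLocalRing R]
    (M : Type u) [AddCommGroup M] [Module R M]
    (h : Limits.IsZero (((CategoryTheory.Tor (ModuleCat.{u} R) 1).obj (ModuleCat.of R (IsLocalRing.ResidueField R))).obj (ModuleCat.of R M)))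
    (N : Type u) [AddCommGroup N] [Module R N] (hN : IsFiniteLength R N) :
    Limits.IsZero (((CategoryTheory.Tor (ModuleCat.{u} R) 1).obj (ModuleCat.of R N)).obj (ModuleCat.of R M)) := by
  let g : (M →₀ R) →ₗ[R] M := Finsupp.linearCombination R id
  have hg : Function.Surjective g := fun m => ⟨Finsupp.single m 1, by simp [g]⟩
  have hk := (TorOne.isZero_tor_one_iff (IsLocalRing.ResidueField R) g hg).mp h
  rw [TorOne.isZero_tor_one_iff N g hg]
  clear h
  induction hN with
  | of_subsingleton => exact Function.injective_of_subsingleton _
  | of_simple_quotient _ ih =>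
    rename_i N' _ _ S _ _
    refine TorOne.injective_of_exact S.subtype S.mkQ S.injective_subtype (LinearMap.exact_subtype_mkQ S)
      S.mkQ_surjective ih ?_
    obtain ⟨J, hJ, ⟨e⟩⟩ := isSimpleModule_iff_quot_maximal.mp ‹IsSimpleModule R (N' ⧸ S)›
    obtain rfl := IsLocalRing.eq_maximalIdeal hJ
    intro x y hxy
    have key : ∀ z, e.toLinearMap.rTensor _ ((LinearMap.ker g).subtype.lTensor _ z) =
        (LinearMap.ker g).subtype.lTensor (R ⧸ IsLocalRing.maximalIdeal R) (e.toLinearMap.rTensor _ z) := fun z => by
      induction z using TensorProduct.induction_on with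
      | zero => simp
      | tmul a b => simp
      | add u v hu hv => simp only [map_add, hu, hv]
    refine (LinearEquiv.rTensor _ e).injective (hk ?_)
    exact (key x).symm.trans ((congrArg _ hxy).trans (key y))

end Groth.Agent.S6378
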