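import Groth.Statements.S6382
import Groth.Agent.LocFlat.Basic
import Mathlib.RingTheory.IsTensorProduct
import Mathlib.RingTheory.TensorProduct.Finite
import Mathlib.LinearAlgebra.Basis.VectorSpace

set_option autoImplicit false
universe u
open CAlg

namespace Groth.Agent.S6382

open TensorProduct in
theorem flat_tensor (R S : Type u) [CommRing R] [CommRing S] [Algebra R S] (T : Type u) [AddCommGroup T]
    [Module S T] [Module R T] [IsScalarTower R S T] [Module.Flat S T]
    (M : Type u) [AddCommGroup M] [Module S M] [Module R M] [IsScalarTower R S M] [Module.Flat R M] :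
    Module.Flat R (T ⊗[S] M) := by
  rw [Module.Flat.iff_lTensor_preserves_injective_linearMap]
  intro A B _ _ _ _ f hf
  let f' : M ⊗[R] A →ₗ[S] M ⊗[R] B := AlgebraTensorModule.lTensor S M f
  have hf' : Function.Injective f' := Module.Flat.lTensor_preserves_injective_linearMap (M := M) f hf
  have hf'' : Function.Injective (f'.lTensor T) := Module.Flat.lTensor_preserves_injective_linearMap f' hf'
  let eA := AlgebraTensorModule.assoc R S S T M A
  let eB := AlgebraTensorModule.assoc R S S T M B
  have key : ∀ z, eB (f.lTensor (T ⊗[S] M) z) = f'.lTensor T (eA z) := by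
    intro z
    induction z using TensorProduct.induction_on with
    | zero => simp
    | tmul x a =>
      induction x using TensorProduct.induction_on with
      | zero => simp
      | tmul t m => simp [eA, eB, f']
      | add x y hx hy => simp only [TensorProduct.add_tmul, map_add, hx, hy]
    | add x y hx hy => simp only [map_add, hx, hy]
  intro x y hxy
  apply eA.injective
  apply hf''
  rw [← key, ← key, hxy]

/-- Consider a commutative square of local rings and local homomorphisms R → S, R → R', S → S', R' → S',
and a finite S-module M. Assume the maps R → R' and S → S' are flat, M is flat over R, the maximal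
ideal of R generates the maximal ideal of R', and R', S' are Noetherian. Then M' = M ⊗_S S' (any
base change of M along S → S') is flat over R'. -/
theorem result (R S R' S' : Type u) [CommRing R] [CommRing S]
    [CommRing R'] [CommRing S'] [IsLocalRing R] [IsLocalRing S] [IsLocalRing R'] [IsLocalRing S']
    [Algebra R S] [Algebra R R'] [Algebra S S'] [Algebra R' S'] [Algebra R S']
    [IsScalarTower R S S'] [IsScalarTower R R' S']
    [IsLocalHom (algebraMap R S)] [IsLocalHom (algebraMap R R')] [IsLocalHom (algebraMap S S')]
    [IsLocalHom (algebraMap R' S')] [Module.Flat R R'] [Module.Flat S S']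
    [IsNoetherianRing R'] [IsNoetherianRing S']
    (hm : (IsLocalRing.maximalIdeal R).map (algebraMap R R') = IsLocalRing.maximalIdeal R')
    (M : Type u) [AddCommGroup M] [Module S M] [Module R M] [IsScalarTower R S M] [Module.Finite S M]
    [Module.Flat R M]
    (M' : Type u) [AddCommGroup M'] [Module S' M'] [Module S M'] [IsScalarTower S S' M'] [Module R' M']
    [IsScalarTower R' S' M'] (j : M →ₗ[S] M') (hj : IsBaseChange S' j) :
    Module.Flat R' M' := by
  classical
  letI : Module R M' := Module.compHom M' (algebraMap R S')
  haveI : IsScalarTower R S' M' := IsScalarTower.of_algebraMap_smul fun _ _ => rfl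
  haveI : IsScalarTower R R' M' := IsScalarTower.of_algebraMap_smul fun r x => by
    rw [← algebraMap_smul S' (algebraMap R R' r) x, ← IsScalarTower.algebraMap_apply]
    rfl
  haveI : IsScalarTower R S M' := IsScalarTower.of_algebraMap_smul fun r x => by
    rw [← algebraMap_smul S' (algebraMap R S r) x, ← IsScalarTower.algebraMap_apply]
    rfl
  haveI : Module.Finite S' M' := Module.Finite.equiv hj.equiv
  haveI : Module.Flat R M' := by
    haveI := flat_tensor R S S' M
    exact Module.Flat.of_linearEquiv (hj.equiv.restrictScalars R).symm
  let m := IsLocalRing.maximalIdeal R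
  let m' := IsLocalRing.maximalIdeal R'
  refine LocFlat.flat_criterion (S := S') M' m'
    (LocFlat.map_le_jacobson m' (IsLocalRing.maximalIdeal.isMaximal R').ne_top) ?_ ?_
  · let ι : m → m' := fun x => ⟨algebraMap R R' x, by
      exact hm.le (Ideal.mem_map_of_mem _ x.2)⟩
    let g : TensorProduct R m M' →+ TensorProduct R' m' M' :=
      TensorProduct.liftAddHom
        (AddMonoidHom.mk' (fun x => AddMonoidHom.mk' (fun y => ι x ⊗ₜ[R'] y) (fun a b => TensorProduct.tmul_add _ a b))
          (fun a b => by
            ext y
            show ι (a + b) ⊗ₜ[R'] y = ι a ⊗ₜ[R'] y + ι b ⊗ₜ[R'] y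
            rw [← TensorProduct.add_tmul]
            congr 1
            exact Subtype.ext (map_add _ _ _)))
        (fun r a y => by
          show ι (r • a) ⊗ₜ[R'] y = ι a ⊗ₜ[R'] (r • y)
          rw [← algebraMap_smul R' r y, TensorProduct.tmul_smul, TensorProduct.smul_tmul']
          congr 1
          exact Subtype.ext (by simp [ι, Algebra.smul_def]))
    have hg : Function.Surjective g := by
      intro z
      induction z using TensorProduct.induction_on with
      | zero => exact ⟨0, map_zero g⟩
      | add a b ha hb =>
        obtain ⟨a, rfl⟩ := ha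
        obtain ⟨b, rfl⟩ := hb
        exact ⟨a + b, map_add g a b⟩
      | tmul x y =>
        obtain ⟨x, hx⟩ := x
        have hx' : x ∈ Ideal.span (algebraMap R R' '' (m : Set R)) := by
          have := hm.ge hx
          rwa [Ideal.map] at this
        suffices h : ∀ y (hx : x ∈ m'), ∃ w, g w = (⟨x, hx⟩ : m') ⊗ₜ[R'] y from h y hx
        clear hx y
        induction hx' using Submodule.span_induction with
        | mem x hx =>
          obtain ⟨a, ha, rfl⟩ := hx
          exact fun y _ => ⟨(⟨a, ha⟩ : m) ⊗ₜ[R] y, rfl⟩
        | zero =>
          intro y h0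
          refine ⟨0, ?_⟩
          rw [map_zero, show (⟨0, h0⟩ : m') = 0 from rfl, TensorProduct.zero_tmul]
        | add a b ha hb iha ihb =>
          intro y h
          have ha' : a ∈ m' := hm.le (by rwa [Ideal.map])
          have hb' : b ∈ m' := hm.le (by rwa [Ideal.map])
          obtain ⟨w₁, h₁⟩ := iha y ha'
          obtain ⟨w₂, h₂⟩ := ihb y hb'
          exact ⟨w₁ + w₂, by rw [map_add, h₁, h₂, ← TensorProduct.add_tmul]; rfl⟩
        | smul c a ha iha =>
          intro y h
          have ha' : a ∈ m' := hm.le (by rwa [Ideal.map])
          obtain ⟨w, hw⟩ := iha (c • y) ha'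
          exact ⟨w, by rw [hw, ← TensorProduct.smul_tmul]; rfl⟩
    have key : ∀ w, TensorProduct.lid R' M' ((Submodule.subtype m').rTensor M' (g w)) =
        TensorProduct.lid R M' ((Submodule.subtype m).rTensor M' w) := by
      intro w
      induction w using TensorProduct.induction_on with
      | zero => simp
      | tmul a y =>
        show algebraMap R R' (a : R) • y = (a : R) • y
        exact algebraMap_smul R' (a : R) y
      | add a b ha hb => simp only [map_add, ha, hb]
    rw [injective_iff_map_eq_zero]
    intro z hz
    obtain ⟨w, rfl⟩ := hg z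
    have hw : w = 0 := by
      apply Module.Flat.rTensor_preserves_injective_linearMap (M := M') (Submodule.subtype m) m.injective_subtype
      apply (TensorProduct.lid R M').injective
      rw [← key, hz]
      simp
    rw [hw, map_zero]
  · letI : Field (R' ⧸ m') := Ideal.Quotient.field m'
    infer_instance

end Groth.Agent.S6382
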