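import Groth.Statements.S6383
import Mathlib.Algebra.DirectSum.Module
import Mathlib.LinearAlgebra.TensorProduct.Finiteness
import Mathlib.Data.Set.Countable
import Mathlib.RingTheory.TensorProduct.Basic

set_option autoImplicit false
universe u
open scoped TensorProduct
open CAlg

namespace Groth.Agent.S6383

/-- For a ring map R → S and an R-module M whose base change S ⊗_R M is an internal direct sum of
countably generated S-submodules Q_i (i ∈ I), every countably generated submodule N ≤ M can be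
enlarged to a countably generated submodule N' ≤ M, together with a subset I' ⊆ I, so that the
S-span of the image 1 ⊗ N' inside S ⊗_R M equals the sum of the Q_i over i ∈ I'. -/
theorem result (R S : Type u) [CommRing R] [CommRing S] [Algebra R S]
    (M : Type u) [AddCommGroup M] [Module R M] {I : Type u} [DecidableEq I] (Q : I → Submodule S (S ⊗[R] M))
    (hQ : DirectSum.IsInternal Q) (hQc : ∀ i, ∃ t : Set (S ⊗[R] M), t.Countable ∧ Submodule.span S t = Q i)
    (N : Submodule R M) (hN : ∃ s : Set M, s.Countable ∧ Submodule.span R s = N) :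
    ∃ (N' : Submodule R M) (I' : Set I), N ≤ N' ∧ (∃ s : Set M, s.Countable ∧ Submodule.span R s = N') ∧
      Submodule.span S ((TensorProduct.mk R S M 1) '' (N' : Set M)) = ⨆ i ∈ I', Q i := by
  classical
  obtain ⟨s, hs, rfl⟩ := hN
  have hfin : ∀ z : S ⊗[R] M, ∃ D : Finset M, z ∈ Submodule.span S ((TensorProduct.mk R S M 1) '' (D : Set M)) := by
    intro z
    obtain ⟨F, rfl⟩ := TensorProduct.exists_finset z
    refine ⟨F.image Prod.snd, Submodule.sum_mem _ fun i hi => ?_⟩
    rw [← mul_one i.1, ← smul_eq_mul, ← TensorProduct.smul_tmul']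
    exact Submodule.smul_mem _ _ (Submodule.subset_span ⟨i.2, Finset.mem_image_of_mem _ hi, rfl⟩)
  choose D hD using hfin
  have hsupp : ∀ c : M, ∃ J : Finset I, (1 : S) ⊗ₜ[R] c ∈ ⨆ i ∈ J, Q i := fun c =>
    Submodule.exists_finset_of_mem_iSup Q (hQ.submodule_iSup_eq_top ▸ Submodule.mem_top)
  choose J hJ using hsupp
  choose t ht hts using hQc
  let C : ℕ → Set M := fun n => Nat.rec s (fun _ C => C ∪ ⋃ c ∈ C, ⋃ i ∈ J c, ⋃ z ∈ t i, (D z : Set M)) n
  have hC : ∀ n, (C n).Countable := by
    intro n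
    induction n with
    | zero => exact hs
    | succ n ih =>
      exact ih.union (ih.biUnion fun c _ => (J c).countable_toSet.biUnion fun i _ =>
        (ht i).biUnion fun z _ => (D z).countable_toSet)
  refine ⟨Submodule.span R (⋃ n, C n), ⋃ c ∈ (⋃ n, C n), (J c : Set I),
    Submodule.span_mono (fun c hc => Set.mem_iUnion.mpr ⟨0, hc⟩), ⟨_, Set.countable_iUnion hC, rfl⟩,
    le_antisymm (Submodule.span_le.mpr ?_) (iSup₂_le fun i hi => ?_)⟩
  · rintro _ ⟨x, hx, rfl⟩
    have hsub : Submodule.span R (⋃ n, C n) ≤ ((⨆ i ∈ ⋃ c ∈ (⋃ n, C n), (J c : Set I), Q i).restrictScalars R).comap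
        (TensorProduct.mk R S M 1) := Submodule.span_le.mpr fun c hc =>
      (show (⨆ i ∈ J c, Q i) ≤ ⨆ i ∈ ⋃ c ∈ (⋃ n, C n), (J c : Set I), Q i from
        iSup₂_le fun i hi => le_biSup Q (Set.mem_biUnion hc hi)) (hJ c)
    exact hsub hx
  · obtain ⟨c, hc, hi⟩ := Set.mem_iUnion₂.mp hi
    obtain ⟨n, hn⟩ := Set.mem_iUnion.mp hc
    rw [← hts i, Submodule.span_le]
    intro z hz
    refine Submodule.span_mono (Set.image_mono fun d hd => Submodule.subset_span
      (Set.mem_iUnion.mpr ⟨n + 1, Or.inr ?_⟩)) (hD z)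
    exact Set.mem_biUnion hn (Set.mem_biUnion hi (Set.mem_biUnion hz hd))

end Groth.Agent.S6383
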