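import Groth.Statements.S6385
import Mathlib.RingTheory.NoetherNormalization
import Mathlib.RingTheory.KrullDimension.Polynomial
import Mathlib.RingTheory.Ideal.GoingUp
import Mathlib.RingTheory.Localization.Away.Basic
import Mathlib

set_option autoImplicit false
universe u
open CAlg

namespace Groth.Agent.S6385

/-- Let k be a field, S a finite type k-algebra, q a prime of S and x the corresponding point of X =
Spec S. Then there is g ∈ S, g ∉ q, such that dim S_g equals dim_x X — the minimum of dim S_{g'}
over all g' ∉ q — and, writing d for this dimension, a finite injective k-algebra map from the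
polynomial ring k[y_1, ..., y_d] to S_g. -/
theorem result (k S : Type u) [Field k] [CommRing S] [Algebra k S]
    [Algebra.FiniteType k S] (q : Ideal S) [q.IsPrime] :
    ∃ (g : S) (d : ℕ), g ∉ q ∧ ringKrullDim (Localization.Away g) = d ∧
      (∀ g' : S, g' ∉ q → ringKrullDim (Localization.Away g) ≤ ringKrullDim (Localization.Away g')) ∧
      ∃ φ : MvPolynomial (Fin d) k →ₐ[k] Localization.Away g, Function.Injective φ ∧ φ.toRingHom.Finite := by
  classical
  obtain ⟨b, ⟨g, hg, rfl⟩, hmin⟩ := wellFounded_lt.has_min
    ((fun g : S => ringKrullDim (Localization.Away g)) '' {g | g ∉ q})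
    ⟨_, ⟨1, fun h => Ideal.IsPrime.ne_top ‹_› (q.eq_top_of_isUnit_mem h isUnit_one), rfl⟩⟩
  haveI : Nontrivial (Localization.Away g) := by
    refine not_subsingleton_iff_nontrivial.mp fun h => ?_
    obtain ⟨⟨_, n, rfl⟩, hn⟩ := (IsLocalization.subsingleton_iff (S := Localization.Away g)).mp h |> fun h0 =>
      (⟨⟨0, h0⟩, rfl⟩ : ∃ x : Submonoid.powers g, (x : S) = 0)
    exact hg (Ideal.IsPrime.mem_of_pow_mem ‹_› n ((show g ^ n = 0 from hn) ▸ q.zero_mem))
  haveI : Algebra.FiniteType k (Localization.Away g) :=
    Algebra.FiniteType.trans (R := k) (S := S) inferInstance (IsLocalization.finiteType_of_monoid_fg (Submonoid.powers g) _)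
  obtain ⟨d, φ, hφi, hφf⟩ := exists_finite_inj_algHom_of_fg k (Localization.Away g)
  refine ⟨g, d, hg, ?_, fun g' hg' => not_lt.mp fun h => hmin _ ⟨g', hg', rfl⟩ h, φ, hφi, hφf⟩
  letI := φ.toRingHom.toAlgebra
  haveI : Module.Finite (MvPolynomial (Fin d) k) (Localization.Away g) := hφf
  haveI := Algebra.IsIntegral.of_finite (MvPolynomial (Fin d) k) (Localization.Away g)
  have hle : ringKrullDim (Localization.Away g) = ringKrullDim (MvPolynomial (Fin d) k) := by
    refine le_antisymm ?_ ?_
    · refine Order.krullDim_le_of_strictMono (PrimeSpectrum.comap (algebraMap (MvPolynomial (Fin d) k) (Localization.Away g))) fun p q hpq => ?_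
      exact Ideal.IsIntegral.comap_lt_comap hpq
    · refine iSup_le fun l => ?_
      obtain ⟨P, -, hP, hPl⟩ := Ideal.exists_ideal_over_prime_of_isIntegral l.head.asIdeal (⊥ : Ideal (Localization.Away g))
        (by rw [← RingHom.ker_eq_comap_bot, (RingHom.injective_iff_ker_eq_bot (algebraMap (MvPolynomial (Fin d) k) (Localization.Away g))).1 hφi]; exact bot_le)
      have : P.LiesOver l.head.asIdeal := ⟨hPl.symm⟩
      obtain ⟨L, hL, -⟩ := Ideal.exists_ltSeries_of_hasGoingUp l P
      exact le_iSup_of_le L (le_of_eq (by rw [hL]))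
  rw [hle, MvPolynomial.ringKrullDim_of_isNoetherianRing, ringKrullDim_eq_zero_of_field, zero_add, Nat.card_fin]

end Groth.Agent.S6385
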