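import Groth.Statements.S6386
import Mathlib.RingTheory.Flat.EquationalCriterion
import Mathlib.Algebra.FreeAlgebra.Cardinality
import Mathlib.SetTheory.Cardinal.Arithmetic

set_option autoImplicit false
universe u
open CAlg

namespace Groth.Agent.S6386

/-- The key step of its proof: let A be a ring, κ = max(|A|, ℵ₀), and B a flat A-algebra. Then every
A-subalgebra E ⊆ B with at most κ elements lies inside a flat A-subalgebra B' ⊆ B with at most κ
elements. Consequently B is the filtered colimit (union) of its flat A-subalgebras of cardinality at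
most κ. -/
theorem result (A B : Type u) [CommRing A] [CommRing B] [Algebra A B]
    [Module.Flat A B] (E : Subalgebra A B) (hE : Cardinal.mk E ≤ max (Cardinal.mk A) Cardinal.aleph0) :
    ∃ B' : Subalgebra A B, E ≤ B' ∧ Module.Flat A B' ∧ Cardinal.mk B' ≤ max (Cardinal.mk A) Cardinal.aleph0 := by
  classical
  set κ := max (Cardinal.mk A) Cardinal.aleph0 with hκ
  have hA : Cardinal.mk A ≤ κ := le_max_left _ _
  have hℵ : Cardinal.aleph0 ≤ κ := le_max_right _ _
  let Rel := fun E' : Subalgebra A B =>
    Σ l : ℕ, {p : (Fin l → A) × (Fin l → E') // ∑ i, p.1 i • (p.2 i : B) = 0}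
  have htriv : ∀ (E' : Subalgebra A B) (r : Rel E'),
      Module.IsTrivialRelation r.2.1.1 (fun i => (r.2.1.2 i : B)) := fun E' r =>
    Module.Flat.isTrivialRelation_of_sum_smul_eq_zero r.2.2
  choose k a y hy ha using htriv
  let next : Subalgebra A B → Subalgebra A B := fun E' =>
    Algebra.adjoin A ((E' : Set B) ∪ Set.range fun q : Σ r : Rel E', Fin (k E' r) => y E' q.1 q.2)
  have hcard : ∀ E' : Subalgebra A B, Cardinal.mk E' ≤ κ → Cardinal.mk (next E') ≤ κ := by
    intro E' hE'
    refine (Algebra.cardinalMk_adjoin_le A _).trans (max_le (max_le hA ?_) hℵ)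
    refine (Cardinal.mk_union_le _ _).trans ((add_le_add hE' ?_).trans (Cardinal.add_eq_self hℵ).le)
    refine Cardinal.mk_range_le.trans ?_
    rw [Cardinal.mk_sigma]
    have hRel : Cardinal.mk (Rel E') ≤ κ := by
      rw [Cardinal.mk_sigma]
      refine (Cardinal.sum_le_sum _ (fun _ => κ) fun l => ?_).trans ?_
      · refine (Cardinal.mk_subtype_le _).trans ?_
        rw [Cardinal.mk_prod]
        simp only [Cardinal.mk_arrow, Cardinal.mk_fin, Cardinal.lift_natCast, Cardinal.lift_uzero, Cardinal.lift_id]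
        exact (mul_le_mul' ((Cardinal.power_le_power_right hA).trans (Cardinal.power_nat_le hℵ))
          ((Cardinal.power_le_power_right hE').trans (Cardinal.power_nat_le hℵ))).trans
          (Cardinal.mul_eq_self hℵ).le
      · rw [Cardinal.sum_const, Cardinal.lift_uzero]
        exact (mul_le_mul' ((Cardinal.lift_le_aleph0.mpr Cardinal.mk_le_aleph0).trans hℵ) le_rfl).trans
          (Cardinal.mul_eq_self hℵ).le
    rw [← Cardinal.mk_sigma]
    refine (Cardinal.mk_le_of_injective (f := fun q : Σ r : Rel E', Fin (k E' r) => (q.1, (q.2 : ℕ))) ?_).trans ?_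
    · rintro ⟨r, x⟩ ⟨r', x'⟩ h
      obtain ⟨rfl, h⟩ := Prod.mk.inj h
      obtain rfl : x = x' := Fin.ext h
      rfl
    · rw [Cardinal.mk_prod, Cardinal.lift_uzero]
      exact (mul_le_mul' hRel ((Cardinal.lift_le_aleph0.mpr Cardinal.mk_le_aleph0).trans hℵ)).trans
        (Cardinal.mul_eq_self hℵ).le
  let chain : ℕ → Subalgebra A B := fun n => next^[n] E
  have hsucc : ∀ n, chain (n + 1) = next (chain n) := fun n => Function.iterate_succ_apply' next n E
  have hc : ∀ n, Cardinal.mk (chain n) ≤ κ := by
    intro n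
    induction n with
    | zero => exact hE
    | succ n ih => rw [hsucc]; exact hcard _ ih
  have hmono : Monotone chain := monotone_nat_of_le_succ fun n => by
    rw [hsucc]; exact fun x hx => Algebra.subset_adjoin (Or.inl hx)
  have hdir : Directed (· ≤ ·) chain := hmono.directed_le
  have hmem : ∀ x, x ∈ (⨆ n, chain n : Subalgebra A B) ↔ ∃ n, x ∈ chain n := fun x => by
    rw [← SetLike.mem_coe, Subalgebra.coe_iSup_of_directed hdir, Set.mem_iUnion]
    rfl
  refine ⟨⨆ n, chain n, le_iSup chain 0, ?_, ?_⟩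
  · refine Module.Flat.of_forall_isTrivialRelation fun {l f x} hfx => ?_
    choose N hN using fun i => (hmem (x i : B)).mp (x i).2
    let n := Finset.univ.sup N
    let r : Rel (chain n) := ⟨l, (f, fun i => ⟨x i, hmono (Finset.le_sup (Finset.mem_univ i)) (hN i)⟩), by
      simpa using congrArg Subtype.val hfx⟩
    refine ⟨k _ r, a _ r, fun j => ⟨y _ r j, (hmem _).mpr ⟨n + 1, ?_⟩⟩, fun i => Subtype.ext ?_, ha _ r⟩
    · rw [hsucc]
      exact Algebra.subset_adjoin (Or.inr ⟨⟨r, j⟩, rfl⟩)
    · simpa using hy _ r i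
  · rw [show Cardinal.mk (⨆ n, chain n : Subalgebra A B) = Cardinal.mk (⋃ n, (chain n : Set B)) from
      Cardinal.mk_congr (Equiv.setCongr (Subalgebra.coe_iSup_of_directed hdir))]
    have h := Cardinal.mk_iUnion_le_lift (fun n => (chain n : Set B))
    simp only [Cardinal.lift_uzero] at h
    exact h.trans ((mul_le_mul' ((Cardinal.lift_le_aleph0.mpr Cardinal.mk_le_aleph0).trans hℵ)
      (ciSup_le hc)).trans (Cardinal.mul_eq_self hℵ).le)

end Groth.Agent.S6386
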