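import Groth.Statements.S6387
import Groth.Agent.LocFlat.Basic
import Mathlib.LinearAlgebra.TensorProduct.Quotient
import Mathlib.Algebra.Category.ModuleCat.Monoidal.Basic
import Mathlib.Algebra.Homology.ShortComplex.ModuleCat

set_option autoImplicit false
universe u
open CategoryTheory
open CAlg

namespace Groth.Agent.S6387

open TensorProduct in
theorem step {R S : Type u} [CommRing R] [CommRing S] [IsLocalRing R] [IsLocalRing S] [IsNoetherianRing S]
    [Algebra R S] [IsLocalHom (algebraMap R S)] {A B D : Type u} [AddCommGroup A] [Module S A]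
    [AddCommGroup B] [Module S B] [Module R B] [IsScalarTower R S B] [Module.Finite S B]
    [AddCommGroup D] [Module S D] [Module R D] [IsScalarTower R S D] [Module.Flat R D]
    (f : A →ₗ[S] B) (g : B →ₗ[S] D) (hgf : ∀ a, g (f a) = 0)
    (hm : ∀ x, g x ∈ (IsLocalRing.maximalIdeal R).map (algebraMap R S) • (⊤ : Submodule S D) →
      ∃ a, x - f a ∈ (IsLocalRing.maximalIdeal R).map (algebraMap R S) • (⊤ : Submodule S B)) :
    (∀ x, g x = 0 → ∃ a, f a = x) ∧ Module.Flat R (D ⧸ LinearMap.range g) := by
  set m := IsLocalRing.maximalIdeal R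
  let u : (B ⧸ LinearMap.range f) →ₗ[S] D := (LinearMap.range f).liftQ g (by
    rintro _ ⟨a, rfl⟩; exact hgf a)
  have hinj : Function.Injective ((u.restrictScalars R).lTensor (R ⧸ m)) := by
    rw [injective_iff_map_eq_zero]
    intro z hz
    let e := TensorProduct.quotTensorEquivQuotSMul (B ⧸ LinearMap.range f) m
    obtain ⟨q, hq⟩ := Submodule.Quotient.mk_surjective _ (e z)
    obtain ⟨x, rfl⟩ := Submodule.Quotient.mk_surjective _ q
    have hz' : z = (Ideal.Quotient.mk m 1) ⊗ₜ[R] (Submodule.Quotient.mk x) := by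
      apply e.injective
      rw [← hq, TensorProduct.quotTensorEquivQuotSMul_mk_tmul, one_smul]
    subst hz'
    have h1 := (congrArg (TensorProduct.quotTensorEquivQuotSMul D m) hz).trans
      (LinearEquiv.map_zero (TensorProduct.quotTensorEquivQuotSMul D m))
    erw [LinearMap.lTensor_tmul, TensorProduct.quotTensorEquivQuotSMul_mk_tmul] at h1
    rw [one_smul, Submodule.Quotient.mk_eq_zero] at h1
    obtain ⟨a, ha⟩ := hm x (by
      rw [← Submodule.restrictScalars_mem R, Ideal.smul_restrictScalars]
      exact h1)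
    apply e.injective
    rw [TensorProduct.quotTensorEquivQuotSMul_mk_tmul, one_smul, map_zero, Submodule.Quotient.mk_eq_zero]
    have h2 : (Submodule.Quotient.mk x : B ⧸ LinearMap.range f) = Submodule.Quotient.mk (x - f a) := by
      rw [Submodule.Quotient.eq, sub_sub_cancel]; exact ⟨a, rfl⟩
    rw [h2]
    rw [← Submodule.restrictScalars_mem R, Ideal.smul_restrictScalars] at ha
    have h3 : ((LinearMap.range f).mkQ.restrictScalars R) (x - f a) ∈
        Submodule.map ((LinearMap.range f).mkQ.restrictScalars R) (m • (⊤ : Submodule R B)) :=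
      Submodule.mem_map_of_mem ha
    rw [Submodule.map_smul''] at h3
    exact Submodule.smul_mono (le_refl m) le_top h3
  obtain ⟨hu, hflat⟩ := Groth.Agent.LocFlat.injective_and_flat_coker (S := S) (u.restrictScalars R) hinj
  refine ⟨fun x hx => ?_, ?_⟩
  · have h0 : (Submodule.Quotient.mk x : B ⧸ LinearMap.range f) = 0 := hu (by rw [map_zero]; exact hx)
    exact (Submodule.Quotient.mk_eq_zero _).mp h0
  · have he : LinearMap.range (u.restrictScalars R) = (LinearMap.range g).restrictScalars R := by
      ext y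
      constructor
      · rintro ⟨z, rfl⟩
        obtain ⟨z, rfl⟩ := Submodule.Quotient.mk_surjective _ z
        exact ⟨z, rfl⟩
      · rintro ⟨z, rfl⟩
        exact ⟨Submodule.Quotient.mk z, rfl⟩
    rw [he] at hflat
    exact Module.Flat.of_linearEquiv (Submodule.Quotient.restrictScalarsEquiv R (LinearMap.range g)).symm

/-- Let R and S be Noetherian local rings, R → S a local ring map, and m the maximal ideal of R. Take a
bounded complex F_e → … → F_1 → F_0 of finitely generated S-modules, zero to the left of F_e (a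
chain complex C with C_j = 0 for j > e) such that every F_j is flat over R and the complex 0 →
F_e/mF_e → … → F_0/mF_0 (C tensored over S with S/mS) is exact at F_e, …, F_1. Then 0 → F_e → … →
F_0 is exact at F_e, …, F_1 and the cokernel of F_1 → F_0 (the homology of C in degree 0) is flat
over R. -/
theorem result {R S : Type u} [CommRing R] [CommRing S]
    [IsLocalRing R] [IsLocalRing S] [IsNoetherianRing R] [IsNoetherianRing S] [Algebra R S]
    [IsLocalHom (algebraMap R S)] (C : ChainComplex (ModuleCat.{u} S) ℕ) (e : ℕ)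
    (hzero : ∀ j, e < j → Limits.IsZero (C.X j)) (hfin : ∀ j, Module.Finite S (C.X j))
    (hflat : ∀ j, Module.Flat R ((ModuleCat.restrictScalars (algebraMap R S)).obj (C.X j)))
    (hex : ∀ j, 1 ≤ j → j ≤ e →
      (((MonoidalCategory.tensorLeft
          (ModuleCat.of S (S ⧸ (IsLocalRing.maximalIdeal R).map (algebraMap R S)))).mapHomologicalComplex
          (ComplexShape.down ℕ)).obj C).ExactAt j) :
    (∀ j, 1 ≤ j → j ≤ e → C.ExactAt j) ∧
      Module.Flat R ((ModuleCat.restrictScalars (algebraMap R S)).obj (C.homology 0)) := by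
  classical
  letI : ∀ j, Module R (C.X j) := fun j => Module.compHom (C.X j) (algebraMap R S)
  haveI : ∀ j, IsScalarTower R S (C.X j) := fun j => IsScalarTower.of_algebraMap_smul fun _ _ => rfl
  haveI hflat' : ∀ j, Module.Flat R (C.X j) := hflat
  set J := (IsLocalRing.maximalIdeal R).map (algebraMap R S) with hJ
  have hzero' : ∀ j, e < j → Subsingleton (C.X j) := fun j hj => ModuleCat.subsingleton_of_isZero (hzero j hj)
  have hgf : ∀ j (a : C.X (j + 2)), C.d (j + 1) j (C.d (j + 2) (j + 1) a) = 0 := fun j a => by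
    rw [← ModuleCat.comp_apply, C.d_comp_d]; rfl
  have hmod : ∀ j, j + 1 ≤ e → ∀ x : C.X (j + 1), C.d (j + 1) j x ∈ J • (⊤ : Submodule S (C.X j)) →
      ∃ a, x - C.d (j + 2) (j + 1) a ∈ J • (⊤ : Submodule S (C.X (j + 1))) := by
    intro j hj x hx
    have h := hex (j + 1) (by omega) hj
    rw [HomologicalComplex.exactAt_iff' _ (j + 2) (j + 1) j (by simp) (by simp),
      ShortComplex.moduleCat_exact_iff] at h
    obtain ⟨y, hy⟩ := h ((Ideal.Quotient.mk J 1) ⊗ₜ[S] x) (by
      change ((C.d (j + 1) j).hom.lTensor (S ⧸ J)) _ = 0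
      rw [LinearMap.lTensor_tmul]
      apply (TensorProduct.quotTensorEquivQuotSMul _ J).injective
      rw [TensorProduct.quotTensorEquivQuotSMul_mk_tmul, one_smul, map_zero, Submodule.Quotient.mk_eq_zero]
      exact hx)
    change ((C.d (j + 2) (j + 1)).hom.lTensor (S ⧸ J)) y = _ at hy
    obtain ⟨a, ha⟩ := Submodule.Quotient.mk_surjective _ (TensorProduct.quotTensorEquivQuotSMul _ J y)
    have hy' : y = (Ideal.Quotient.mk J 1) ⊗ₜ[S] a := by
      apply (TensorProduct.quotTensorEquivQuotSMul _ J).injective
      rw [TensorProduct.quotTensorEquivQuotSMul_mk_tmul, one_smul, ha]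
    subst hy'
    refine ⟨a, ?_⟩
    have h2 := congrArg (TensorProduct.quotTensorEquivQuotSMul (C.X (j + 1)) J) hy
    rw [LinearMap.lTensor_tmul] at h2
    erw [TensorProduct.quotTensorEquivQuotSMul_mk_tmul, TensorProduct.quotTensorEquivQuotSMul_mk_tmul] at h2
    rw [one_smul, one_smul, eq_comm, Submodule.Quotient.eq] at h2
    exact h2
  have main : ∀ k j, e ≤ j + k →
      Module.Flat R (C.X j ⧸ LinearMap.range (C.d (j + 1) j).hom) ∧
        (j + 1 ≤ e → ∀ x : C.X (j + 1), C.d (j + 1) j x = 0 → ∃ a, C.d (j + 2) (j + 1) a = x) := by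
    intro k
    induction k with
    | zero =>
      intro j hj
      refine ⟨?_, fun h => absurd h (by omega)⟩
      haveI := hzero' (j + 1) (by omega)
      have hbot : LinearMap.range (C.d (j + 1) j).hom = ⊥ := by
        rw [eq_bot_iff]; rintro _ ⟨x, rfl⟩; rw [Subsingleton.elim x 0, map_zero]; exact zero_mem _
      exact Module.Flat.of_linearEquiv ((Submodule.quotEquivOfEqBot _ hbot).restrictScalars R)
    | succ k ih =>
      intro j hj
      by_cases hje : e ≤ j
      · haveI := hzero' (j + 1) (by omega)
        have hbot : LinearMap.range (C.d (j + 1) j).hom = ⊥ := by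
          rw [eq_bot_iff]; rintro _ ⟨x, rfl⟩; rw [Subsingleton.elim x 0, map_zero]; exact zero_mem _
        exact ⟨Module.Flat.of_linearEquiv ((Submodule.quotEquivOfEqBot _ hbot).restrictScalars R),
          fun h => absurd h (by omega)⟩
      · haveI := hfin (j + 1)
        obtain ⟨h1, -⟩ := ih (j + 1) (by omega)
        haveI := h1
        obtain ⟨h2, h3⟩ := step (C.d (j + 2) (j + 1)).hom (C.d (j + 1) j).hom (hgf j) (hmod j (by omega))
        exact ⟨h3, fun _ => h2⟩
  refine ⟨fun j hj1 hje => ?_, ?_⟩
  · obtain ⟨j, rfl⟩ : ∃ i, j = i + 1 := ⟨j - 1, by omega⟩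
    rw [HomologicalComplex.exactAt_iff' _ (j + 2) (j + 1) j (by simp) (by simp),
      ShortComplex.moduleCat_exact_iff]
    exact fun x hx => (main e j (by omega)).2 hje x hx
  · haveI := (main e 0 (by omega)).1
    let iso : C.homology 0 ≅ ModuleCat.of S (C.X 0 ⧸ LinearMap.range (C.d 1 0).hom) :=
      C.isoHomologyι₀ ≪≫ (C.opcyclesIsCokernel 1 0 (by simp)).coconePointUniqueUpToIso
        (ModuleCat.cokernelIsColimit (C.d 1 0))
    let E := iso.toLinearEquiv
    refine Module.Flat.of_linearEquiv (M := C.X 0 ⧸ LinearMap.range (C.d 1 0).hom)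
      ({ toFun := E
         invFun := E.symm
         left_inv := E.left_inv
         right_inv := E.right_inv
         map_add' := E.map_add
         map_smul' := fun r x => ?_ } :
        (ModuleCat.restrictScalars (algebraMap R S)).obj (C.homology 0) ≃ₗ[R] _)
    exact (E.map_smul (algebraMap R S r) (x : C.homology 0)).trans (algebraMap_smul S r (E x))

end Groth.Agent.S6387
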