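import Groth.Statements.S6388
import Groth.Agent.MLMod.Basic

set_option autoImplicit false
universe u
open CAlg

namespace Groth.Agent.S6388

/-- Let f : M → N and g : M → M' be maps of R-modules and let N' be their pushout, realised as the
quotient of M' × N by the submodule of elements (g x, -f x). Then g dominates f — for every module Q
the kernel of f ⊗ id_Q is contained in the kernel of g ⊗ id_Q — if and only if the canonical map M'
→ N' is universally injective. -/
theorem result (R : Type u) [CommRing R] {M N M' : Type u}
    [AddCommGroup M] [Module R M] [AddCommGroup N] [Module R N] [AddCommGroup M'] [Module R M']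
    (f : M →ₗ[R] N) (g : M →ₗ[R] M') :
    (∀ (Q : Type u) [AddCommGroup Q] [Module R Q], LinearMap.ker (f.rTensor Q) ≤ LinearMap.ker (g.rTensor Q)) ↔
      CAlgX.UniversallyInjective R
        ((LinearMap.range (g.prod (-f))).mkQ ∘ₗ LinearMap.inl R M' N) := by
  let π := (LinearMap.range (g.prod (-f))).mkQ
  have hex : Function.Exact (g.prod (-f)) π := LinearMap.exact_iff.mpr (Submodule.ker_mkQ _)
  have hs := Submodule.mkQ_surjective (LinearMap.range (g.prod (-f)))
  constructor
  · intro h Q _ _
    rw [injective_iff_map_eq_zero]
    intro y hy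
    rw [LinearMap.rTensor_comp_apply] at hy
    obtain ⟨x, hx⟩ := ((rTensor_exact Q hex hs) _).mp hy
    have h1 := congrArg ((LinearMap.snd R M' N).rTensor Q) hx
    have h2 := congrArg ((LinearMap.fst R M' N).rTensor Q) hx
    simp only [← LinearMap.rTensor_comp_apply, LinearMap.snd_prod, LinearMap.fst_prod,
      LinearMap.snd_comp_inl, LinearMap.fst_comp_inl, LinearMap.rTensor_zero, LinearMap.zero_apply,
      LinearMap.rTensor_id_apply, LinearMap.rTensor_neg, LinearMap.neg_apply, neg_eq_zero] at h1 h2
    rw [← h2]
    exact h Q h1
  · intro h Q _ _ x hx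
    rw [LinearMap.mem_ker] at hx ⊢
    apply h Q
    rw [map_zero, LinearMap.rTensor_comp_apply]
    have h0 := (rTensor_exact Q hex hs).apply_apply_eq_zero x
    convert h0 using 2
    have hsplit : g.prod (-f) = LinearMap.inl R M' N ∘ₗ g - LinearMap.inr R M' N ∘ₗ f := by
      ext m <;> simp
    rw [hsplit, LinearMap.rTensor_sub, LinearMap.sub_apply, LinearMap.rTensor_comp_apply,
      LinearMap.rTensor_comp_apply, hx, map_zero, sub_zero]

end Groth.Agent.S6388
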