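import Groth.Statements.S6390
import Groth.Agent.Kaplansky.Basic
import Groth.Agent.Kaplansky.Devissage

set_option autoImplicit false
universe u
open scoped Classical
open CAlg

namespace Groth.Agent.S6390

/-- An R-module M is a direct sum of countably generated modules if and only if it admits a Kaplansky
dévissage, i.e. an increasing family of submodules (M_s) indexed by a well-ordered set S with M_s =
⋃_{t<s} M_t at non-successor indices (so the first term is 0), ⋃_s M_s = M, and, whenever t is the
successor of s, M_s a direct summand of M_t with M_t/M_s countably generated. -/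
theorem result (R : Type u) [CommRing R] (M : Type u)
    [AddCommGroup M] [Module R M] :
    (∃ (ι : Type u) (N : ι → Submodule R M), DirectSum.IsInternal N ∧ ∀ i, CAlg.IsCountablyGenerated R (N i)) ↔
      ∃ (S : Type u) (_ : LinearOrder S) (_ : WellFoundedLT S) (Mf : S → Submodule R M), Monotone Mf ∧
        (∀ s : S, Order.IsSuccPrelimit s → Mf s = ⨆ t : {t : S // t < s}, Mf t.1) ∧
        (⨆ s, Mf s) = ⊤ ∧
        (∀ s t : S, s ⋖ t → ∃ C : Submodule R M, Mf s ⊓ C = ⊥ ∧ Mf s ⊔ C = Mf t ∧
          CAlg.IsCountablyGenerated R (↥(Mf t) ⧸ Submodule.comap (Mf t).subtype (Mf s))) := by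
  classical
  constructor
  · rintro ⟨ι, N, hN, hc⟩
    have hind := hN.submodule_iSupIndep
    have htop := hN.submodule_iSup_eq_top
    obtain ⟨o, ho⟩ := exists_wellFoundedLT ι
    letI := o; haveI := ho
    let Mf : WithTop ι → Submodule R M := fun s => ⨆ (j : ι) (_ : (j : WithTop ι) < s), N j
    have hmono : Monotone Mf := fun a b hab =>
      iSup₂_le fun j hj => le_iSup₂ (f := fun (j : ι) (_ : (j : WithTop ι) < b) => N j) j (hj.trans_le hab)
    refine ⟨WithTop ι, inferInstance, inferInstance, Mf, hmono, fun s hs => ?_, ?_, fun s t hst => ?_⟩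
    · refine le_antisymm (iSup₂_le fun j hj => ?_) (iSup_le fun t => hmono t.2.le)
      obtain ⟨t, hjt, hts⟩ := (not_covBy_iff hj).mp (hs (j : WithTop ι))
      exact le_iSup_of_le ⟨t, hts⟩ (le_iSup₂ (f := fun (j : ι) (_ : (j : WithTop ι) < t) => N j) j hjt)
    · rw [eq_top_iff, ← htop, iSup_le_iff]
      exact fun j => le_iSup_of_le ⊤ (le_iSup₂ (f := fun (j : ι) (_ : (j : WithTop ι) < ⊤) => N j) j (WithTop.coe_lt_top j))
    · obtain ⟨i, rfl⟩ := WithTop.ne_top_iff_exists.mp hst.lt.ne_top
      have heq : Mf t = Mf i ⊔ N i := by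
        refine le_antisymm (iSup₂_le fun j hj => ?_) (sup_le (hmono hst.le)
          (le_iSup₂ (f := fun (j : ι) (_ : (j : WithTop ι) < t) => N j) i hst.lt))
        obtain h | h := lt_or_eq_of_le (hst.le_of_lt hj)
        · exact le_sup_of_le_left (le_iSup₂ (f := fun (j' : ι) (_ : (j' : WithTop ι) < i) => N j') j h)
        · rw [WithTop.coe_eq_coe.mp h]; exact le_sup_right
      have hdis : Mf i ⊓ N i = ⊥ := by
        refine (Disjoint.eq_bot ?_)
        refine (hind.disjoint_biSup (x := i) (y := {j : ι | (j : WithTop ι) < i}) (lt_irrefl (i : WithTop ι))).symm.mono_left ?_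
        exact iSup₂_le fun j hj => le_biSup N (show j ∈ {j : ι | (j : WithTop ι) < i} from hj)
      refine ⟨N i, hdis, heq.symm, ?_⟩
      exact Kaplansky.isCountablyGenerated_of_surjective
        (Kaplansky.nonempty_equiv_quotient (Mf i) (Mf t) (N i) hdis heq.symm).some.symm.toLinearMap
        (LinearEquiv.surjective _) (hc i)
  · rintro ⟨S, _, _, Mf, hmono, hlim, htop, hsplit⟩
    let C : {p : S × S // p.1 ⋖ p.2} → Submodule R M := fun p => (hsplit p.1.1 p.1.2 p.2).choose
    have hC := fun p : {p : S × S // p.1 ⋖ p.2} => (hsplit p.1.1 p.1.2 p.2).choose_spec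
    refine ⟨_, C, by convert Kaplansky.devissage_isInternal Mf hmono hlim htop C (fun p => (hC p).1) (fun p => (hC p).2.1), fun p => ?_⟩
    exact Kaplansky.isCountablyGenerated_of_surjective
      (Kaplansky.nonempty_equiv_quotient (Mf p.1.1) (Mf p.1.2) (C p) (hC p).1 (hC p).2.1).some.toLinearMap
      (LinearEquiv.surjective _) (hC p).2.2

end Groth.Agent.S6390
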