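import Groth.Statements.S6391
import Groth.Agent.Hensel.Local
import Groth.Agent.IndAlg.Etale
import Mathlib.RingTheory.TensorProduct.Maps
import Mathlib.RingTheory.FinitePresentation

set_option autoImplicit false
universe u
open CAlg
open scoped TensorProduct

namespace Groth.Agent.S6391

open IsLocalRing in
/-- A point of an ind-étale algebra in the residue field of a henselian local ring lifts uniquely. -/
theorem existsUnique_lift {R S T : Type u} [CommRing R] [CommRing S] [Algebra R S] [CommRing T]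
    [HenselianLocalRing T] [Algebra R T] (hS : IndAlg.Fac (IndAlg.Etale.Et R) S)
    (σ : S →ₐ[R] ResidueField T) : ∃! f : S →ₐ[R] T, ∀ x, residue T (f x) = σ x := by
  classical
  have hlift : ∀ (E : Type u) [CommRing E] [Algebra R E], IndAlg.Etale.Et R E → ∀ w : E →ₐ[R] S,
      ∃! g : E →ₐ[R] T, ∀ a, residue T (g a) = σ (w a) := by
    intro E _ _ hE w
    haveI : Algebra.Etale R E := hE
    exact Hensel.existsUnique_algHom_residue E (σ.comp w)
  -- values at stages
  let Val : S → T → Prop := fun x t => ∃ (E : Type u) (_ : CommRing E) (_ : Algebra R E)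
    (_ : IndAlg.Etale.Et R E) (w : E →ₐ[R] S) (g : E →ₐ[R] T) (a : E),
    (∀ a, residue T (g a) = σ (w a)) ∧ w a = x ∧ g a = t
  have hex : ∀ x, ∃ t, Val x t := by
    intro x
    obtain ⟨E, _, _, hE, v, w, hw⟩ :=
      hS (MvPolynomial PUnit R) inferInstance (MvPolynomial.aeval fun _ => x)
    obtain ⟨g, hg, -⟩ := hlift E hE w
    refine ⟨g (v (MvPolynomial.X PUnit.unit)), E, _, _, hE, w, g, v (MvPolynomial.X PUnit.unit), hg, ?_, rfl⟩
    rw [← AlgHom.comp_apply, hw, MvPolynomial.aeval_X]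
  have huniq : ∀ x t t', Val x t → Val x t' → t = t' := by
    rintro x t t' ⟨E₁, _, _, hE₁, w₁, g₁, a₁, hg₁, hx₁, rfl⟩ ⟨E₂, _, _, hE₂, w₂, g₂, a₂, hg₂, hx₂, rfl⟩
    haveI : Algebra.Etale R E₁ := hE₁
    haveI : Algebra.Etale R E₂ := hE₂
    let p : E₁ ⊗[R] E₂ →ₐ[R] S := Algebra.TensorProduct.lift w₁ w₂ fun _ _ => .all _ _
    let J : Ideal (E₁ ⊗[R] E₂) := Ideal.span {a₁ ⊗ₜ[R] (1 : E₂) - (1 : E₁) ⊗ₜ[R] a₂}
    haveI : Algebra.FinitePresentation R (E₁ ⊗[R] E₂) :=
      Algebra.FinitePresentation.trans R E₁ (E₁ ⊗[R] E₂)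
    haveI : Algebra.FinitePresentation R ((E₁ ⊗[R] E₂) ⧸ J) :=
      Algebra.FinitePresentation.quotient (Submodule.fg_span (Set.finite_singleton _))
    have hJ : ∀ z ∈ J, p z = 0 := by
      intro z hz
      obtain ⟨c, rfl⟩ := Ideal.mem_span_singleton'.mp hz
      rw [map_mul, map_sub]
      simp [p, hx₁, hx₂]
    obtain ⟨E, _, _, hE, v, w, hw⟩ := hS ((E₁ ⊗[R] E₂) ⧸ J) inferInstance (Ideal.Quotient.liftₐ J p hJ)
    obtain ⟨g, hg, -⟩ := hlift E hE w
    let i₁ : E₁ →ₐ[R] E := v.comp ((Ideal.Quotient.mkₐ R J).comp Algebra.TensorProduct.includeLeft)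
    let i₂ : E₂ →ₐ[R] E := v.comp ((Ideal.Quotient.mkₐ R J).comp Algebra.TensorProduct.includeRight)
    have hi₁ : ∀ a, w (i₁ a) = w₁ a := fun a => by
      have h := congr($hw (Ideal.Quotient.mkₐ R J (a ⊗ₜ[R] (1 : E₂))))
      refine Eq.trans h ?_
      show p (a ⊗ₜ[R] (1 : E₂)) = _
      simp [p]
    have hi₂ : ∀ a, w (i₂ a) = w₂ a := fun a => by
      have h := congr($hw (Ideal.Quotient.mkₐ R J ((1 : E₁) ⊗ₜ[R] a)))
      refine Eq.trans h ?_
      show p ((1 : E₁) ⊗ₜ[R] a) = _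
      simp [p]
    have e₁ : g₁ = g.comp i₁ := (hlift E₁ hE₁ w₁).unique hg₁ fun a => by
      rw [AlgHom.comp_apply, hg, hi₁]
    have e₂ : g₂ = g.comp i₂ := (hlift E₂ hE₂ w₂).unique hg₂ fun a => by
      rw [AlgHom.comp_apply, hg, hi₂]
    rw [e₁, e₂, AlgHom.comp_apply, AlgHom.comp_apply]
    refine congrArg g (congrArg v ?_)
    show Ideal.Quotient.mk J (a₁ ⊗ₜ[R] (1 : E₂)) = Ideal.Quotient.mk J ((1 : E₁) ⊗ₜ[R] a₂)
    rw [Ideal.Quotient.eq]
    exact Ideal.mem_span_singleton_self _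
  choose F hF using hex
  have hpair : ∀ x y : S, ∃ (E : Type u) (_ : CommRing E) (_ : Algebra R E) (_ : IndAlg.Etale.Et R E)
      (w : E →ₐ[R] S) (g : E →ₐ[R] T) (a b : E),
      (∀ a, residue T (g a) = σ (w a)) ∧ w a = x ∧ w b = y := by
    intro x y
    obtain ⟨E, _, _, hE, v, w, hw⟩ :=
      hS (MvPolynomial (Fin 2) R) inferInstance (MvPolynomial.aeval ![x, y])
    obtain ⟨g, hg, -⟩ := hlift E hE w
    refine ⟨E, _, _, hE, w, g, v (MvPolynomial.X 0), v (MvPolynomial.X 1), hg, ?_, ?_⟩ <;>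
      rw [← AlgHom.comp_apply, hw, MvPolynomial.aeval_X] <;> rfl
  have hadd : ∀ x y, F (x + y) = F x + F y := fun x y => by
    obtain ⟨E, _, _, hE, w, g, a, b, hg, rfl, rfl⟩ := hpair x y
    rw [huniq _ _ _ (hF (w a)) ⟨E, _, _, hE, w, g, a, hg, rfl, rfl⟩,
      huniq _ _ _ (hF (w b)) ⟨E, _, _, hE, w, g, b, hg, rfl, rfl⟩,
      huniq _ _ (g (a + b)) (hF (w a + w b)) ⟨E, _, _, hE, w, g, a + b, hg, map_add w a b, rfl⟩,
      map_add]
  have hmul : ∀ x y, F (x * y) = F x * F y := fun x y => by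
    obtain ⟨E, _, _, hE, w, g, a, b, hg, rfl, rfl⟩ := hpair x y
    rw [huniq _ _ _ (hF (w a)) ⟨E, _, _, hE, w, g, a, hg, rfl, rfl⟩,
      huniq _ _ _ (hF (w b)) ⟨E, _, _, hE, w, g, b, hg, rfl, rfl⟩,
      huniq _ _ (g (a * b)) (hF (w a * w b)) ⟨E, _, _, hE, w, g, a * b, hg, map_mul w a b, rfl⟩,
      map_mul]
  have halg : ∀ r, F (algebraMap R S r) = algebraMap R T r := fun r => by
    obtain ⟨E, _, _, hE, w, g, a, b, hg, -, -⟩ := hpair 0 0
    rw [huniq _ _ (g (algebraMap R E r)) (hF (algebraMap R S r))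
      ⟨E, _, _, hE, w, g, algebraMap R E r, hg, w.commutes r, rfl⟩, g.commutes]
  refine ⟨{ toFun := F
            map_one' := by simpa using halg 1
            map_mul' := hmul
            map_zero' := by simpa using halg 0
            map_add' := hadd
            commutes' := halg }, fun x => ?_, fun f' hf' => AlgHom.ext fun x => ?_⟩
  · obtain ⟨E, _, _, -, w, g, a, hg, rfl, ha⟩ := hF x
    show residue T (F (w a)) = _
    rw [← ha, hg]
  · obtain ⟨E, _, _, hE, w, g, a, hg, rfl, ha⟩ := hF x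
    show f' (w a) = F (w a)
    rw [← ha, (hlift E hE w).unique hg (y₂ := f'.comp w) fun a => hf' (w a)]
    rfl

/-- Let R be a ring, S and S' henselian local rings which are filtered colimits of étale R-algebras, and
K a field together with R-algebra maps S → K and S' → K identifying K with the residue field of each
(surjective with kernel the maximal ideal). Then exactly one isomorphism of R-algebras S → S'
commutes with the two maps to K. -/
theorem result (R S S' K : Type u) [CommRing R]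
    [CommRing S] [CommRing S'] [Field K] [HenselianLocalRing S] [HenselianLocalRing S']
    [Algebra R S] [Algebra R S'] [Algebra R K] (hS : EtPBC.IsIndEtale R S) (hS' : EtPBC.IsIndEtale R S')
    (u : S →ₐ[R] K) (u' : S' →ₐ[R] K) (hu : Function.Surjective u) (hu' : Function.Surjective u')
    (hku : RingHom.ker u.toRingHom = IsLocalRing.maximalIdeal S)
    (hku' : RingHom.ker u'.toRingHom = IsLocalRing.maximalIdeal S') :
    ∃! e : S ≃ₐ[R] S', u'.comp (e : S →ₐ[R] S') = u := by
  classical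
  have hfac : IndAlg.Fac (IndAlg.Etale.Et R) S := IndAlg.fac_of_isInd hS
  have hfac' : IndAlg.Fac (IndAlg.Etale.Et R) S' := IndAlg.fac_of_isInd hS'
  have hpt : ∀ {T : Type u} [CommRing T] [Algebra R T] [HenselianLocalRing T] (p : T →ₐ[R] K),
      Function.Surjective p → RingHom.ker p.toRingHom = IsLocalRing.maximalIdeal T →
      ∃ e : K →ₐ[R] IsLocalRing.ResidueField T,
        Function.Injective e ∧ ∀ t, e (p t) = IsLocalRing.residue T t := by
    intro T _ _ _ p hp hk
    let q : IsLocalRing.ResidueField T →ₐ[R] K :=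
      Ideal.Quotient.liftₐ (IsLocalRing.maximalIdeal T) p (fun t ht => by
        rw [← hk] at ht
        exact ht)
    have hq : ∀ t, q (IsLocalRing.residue T t) = p t := fun t => rfl
    have hb : Function.Bijective q := ⟨q.toRingHom.injective, fun k => by
      obtain ⟨t, rfl⟩ := hp k
      exact ⟨_, hq t⟩⟩
    let qe := AlgEquiv.ofBijective q hb
    exact ⟨qe.symm.toAlgHom, qe.symm.injective, fun t => qe.injective (by
      show qe (qe.symm (p t)) = _
      rw [AlgEquiv.apply_symm_apply]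
      exact (hq t).symm)⟩
  obtain ⟨ι, hι, hιu⟩ := hpt u hu hku
  obtain ⟨ι', hι', hιu'⟩ := hpt u' hu' hku'
  obtain ⟨f, hf, hfu⟩ := existsUnique_lift (T := S') hfac (ι'.comp u)
  obtain ⟨g, hg, -⟩ := existsUnique_lift (T := S) hfac' (ι.comp u')
  have hf' : ∀ x, u' (f x) = u x := fun x => hι' (by rw [hιu', hf]; rfl)
  have hg' : ∀ x, u (g x) = u' x := fun x => hι (by rw [hιu, hg]; rfl)
  have h₁ : g.comp f = AlgHom.id R S :=
    (existsUnique_lift (T := S) hfac (ι.comp u)).unique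
      (fun x => by rw [AlgHom.comp_apply, ← hιu, hg', hf']; rfl) (fun x => (hιu x).symm)
  have h₂ : f.comp g = AlgHom.id R S' :=
    (existsUnique_lift (T := S') hfac' (ι'.comp u')).unique
      (fun x => by rw [AlgHom.comp_apply, ← hιu', hf', hg']; rfl) (fun x => (hιu' x).symm)
  refine ⟨AlgEquiv.ofAlgHom f g h₂ h₁, AlgHom.ext hf', fun e he => AlgEquiv.ext fun x => ?_⟩
  have : (e : S →ₐ[R] S') = f := hfu _ fun x => by
    rw [← hιu']
    exact congrArg ι' (congr($he x))
  exact congr($this x)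

end Groth.Agent.S6391
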