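import Groth.Statements.S6393
import Groth.Agent.FibC.Basic

set_option autoImplicit false
open CategoryTheory
universe v₂ u₂ v u
open FibCat

namespace Groth.Agent.S6393

/-- Given `p : S ⥤ C`, saying that p is fibred in groupoids is equivalent to saying that p is a fibred
functor whose fibre category over every object of C is a groupoid. -/
theorem result {C : Type u} [Category.{v} C] {S : Type u₂} [Category.{v₂} S] (p : S ⥤ C) :
    FibCat.IsFibGrpd p ↔ (p.IsFibered ∧ ∀ U : C, IsGroupoid (p.Fiber U)) := by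
  constructor
  · exact fun h => ⟨Groth.Agent.FibC.fibGrpd_isFibered h, Groth.Agent.FibC.fiber_isGroupoid h⟩
  · rintro ⟨hf, hg⟩
    constructor
    · intro x V f
      obtain ⟨y, φ, hφ⟩ := Groth.Agent.FibC.exists_sc_lift (p := p) rfl f
      exact ⟨y, φ, inferInstance⟩
    · intro y x φ
      obtain ⟨y', φ', hφ'⟩ := Groth.Agent.FibC.exists_sc_lift (p := p) rfl (p.map φ)
      obtain ⟨χ, ⟨hχ, hχφ⟩, -⟩ := Functor.IsStronglyCartesian.universal_property p (p.map φ) φ'
        (𝟙 (p.obj y)) (p.map φ) (by simp) φ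
      let χ' : Functor.Fiber.mk (p := p) (a := y) rfl ⟶
        Functor.Fiber.mk (IsHomLift.domain_eq p (p.map φ) φ') := ⟨χ, hχ⟩
      have := (hg (p.obj y)).all_isIso χ'
      have : IsIso χ := (inferInstance : IsIso (Functor.Fiber.fiberInclusion.map χ'))
      have h := (inferInstance : p.IsStronglyCartesian (𝟙 _ ≫ p.map φ) (χ ≫ φ'))
      simpa [hχφ] using h

end Groth.Agent.S6393
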