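import Groth.Statements.S6394
import Groth.Agent.FibC.Basic

set_option autoImplicit false
open CategoryTheory
universe v u
open FibCat

namespace Groth.Agent.S6394

/-- If `F : 𝒳 ⟶ 𝒴` is an equivalence in the 2-category of categories over `C`, then `𝒳` is fibred over
`C` if and only if `𝒴` is. -/
theorem result {C : Type u} [Category.{v} C] {𝒳 𝒴 : BasedCategory.{v, max u v} C} (F : 𝒳 ⥤ᵇ 𝒴) (hF : FibCat.IsEquivOver F) :
    𝒳.p.IsFibered ↔ 𝒴.p.IsFibered := by
  have := Groth.Agent.FibC.isEquivalence_of_isEquivOver hF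
  constructor
  · intro h
    refine Functor.IsFibered.of_exists_isStronglyCartesian (fun y R f => ?_)
    obtain ⟨x, e, he⟩ := Groth.Agent.FibC.essSurjOver_of_isEquivOver hF y
    have hx : 𝒳.p.obj x = 𝒴.p.obj y :=
      (F.w_obj x).symm.trans (IsHomLift.domain_eq 𝒴.p (𝟙 (𝒴.p.obj y)) e.hom)
    obtain ⟨x', φ, hφ⟩ := Groth.Agent.FibC.exists_sc_lift hx f
    have := Groth.Agent.FibC.map_sc_of_isEquivOver hF f φ
    exact ⟨_, F.toFunctor.map φ ≫ e.hom,
      by simpa using (inferInstance : 𝒴.p.IsStronglyCartesian (f ≫ 𝟙 _) (F.toFunctor.map φ ≫ e.hom))⟩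
  · intro h
    refine Functor.IsFibered.of_exists_isStronglyCartesian (fun x R f => ?_)
    obtain ⟨y, ψ, hψ⟩ := Groth.Agent.FibC.exists_sc_lift (F.w_obj x) f
    obtain ⟨x', e, he⟩ := Groth.Agent.FibC.essSurjOver_of_isEquivOver hF y
    have hy : 𝒴.p.obj y = R := IsHomLift.domain_eq 𝒴.p f ψ
    subst hy
    refine ⟨x', F.toFunctor.preimage (e.hom ≫ ψ), ?_⟩
    have : 𝒴.p.IsStronglyCartesian f (F.toFunctor.map (F.toFunctor.preimage (e.hom ≫ ψ))) := by
      rw [Functor.map_preimage]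
      simpa using (inferInstance : 𝒴.p.IsStronglyCartesian (𝟙 _ ≫ f) (e.hom ≫ ψ))
    exact Groth.Agent.FibC.sc_of_map_sc F f _

end Groth.Agent.S6394
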