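import Groth.Statements.S6399
import Groth.Agent.FibC.Rep

set_option autoImplicit false
set_option backward.isDefEq.respectTransparency false
set_option backward.isDefEq.respectTransparency.types false
open CategoryTheory
universe v u
open FibCat

namespace Groth.Agent.S6399

/-- A functor `G : 𝒳 ⟶ 𝒴` over `C` between categories fibred in groupoids is fully faithful if and only
if the diagonal `𝒳 ⟶ 𝒳 ×_𝒴 𝒳` is an equivalence over `C`. -/
theorem result {C : Type u} [Category.{v} C] {𝒳 𝒴 : BasedCategory.{v, max u v} C} (G : 𝒳 ⥤ᵇ 𝒴) (h𝒳 : FibCat.IsFibGrpd 𝒳.p) (h𝒴 : FibCat.IsFibGrpd 𝒴.p) :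
    (G.toFunctor.Full ∧ G.toFunctor.Faithful) ↔ FibCat.IsEquivOver (FibCat.diag G) := by
  have hd : ∀ {a b : 𝒳.obj} (φ : a ⟶ b), ((FibCat.diag G).toFunctor.map φ).hom.fst = φ ∧
      ((FibCat.diag G).toFunctor.map φ).hom.snd = φ := fun φ => ⟨rfl, rfl⟩
  constructor
  · rintro ⟨_, _⟩
    rw [Groth.Agent.FibC.isEquivOver_iff]
    refine ⟨⟨⟨fun {a b} m => ?_⟩, ⟨fun {a b} φ ψ h => ?_⟩⟩, fun z => ?_⟩
    · refine ⟨m.hom.fst, Groth.Agent.FibC.fp_hom_ext rfl (G.toFunctor.map_injective ?_)⟩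
      have w : G.toFunctor.map m.hom.fst ≫ 𝟙 _ = 𝟙 _ ≫ G.toFunctor.map m.hom.snd := m.hom.w
      simpa [hd] using w
    · exact congrArg (fun t => Limits.CategoricalPullback.Hom.fst t.hom) h
    · refine ⟨z.obj.fst, Groth.Agent.FibC.fpIsoMk (Iso.refl _) (G.toFunctor.preimageIso z.obj.iso) ?_, ?_⟩
      · show G.toFunctor.map (𝟙 _) ≫ z.obj.iso.hom = 𝟙 _ ≫ G.toFunctor.map (G.toFunctor.preimage z.obj.iso.hom)
        simp
      · exact (Groth.Agent.FibC.fp_isHomLift_iff _ _).2 (IsHomLift.id rfl)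
  · intro h
    have := Groth.Agent.FibC.full_of_isEquivOver h
    have := Groth.Agent.FibC.faithful_of_isEquivOver h
    refine ⟨⟨fun {a b} ψ => ?_⟩, ⟨fun {a b} φ ψ e => ?_⟩⟩
    · let f : 𝒳.p.obj a ⟶ 𝒳.p.obj b := eqToHom (G.w_obj a).symm ≫ 𝒴.p.map ψ ≫ eqToHom (G.w_obj b)
      have : 𝒴.p.IsHomLift f ψ := IsHomLift.of_fac 𝒴.p f ψ (G.w_obj a) (G.w_obj b) rfl
      obtain ⟨c, χ, hχ⟩ := Groth.Agent.FibC.exists_lift' h𝒳 (x := b) rfl f
      have := Groth.Agent.FibC.sc_of_fibGrpd h𝒴 f (G.toFunctor.map χ)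
      obtain ⟨θ, ⟨hθ, hθ'⟩, -⟩ := Functor.IsStronglyCartesian.universal_property 𝒴.p f (G.toFunctor.map χ)
        (𝟙 (𝒳.p.obj a)) f (Category.id_comp f).symm ψ
      have : IsIso θ := Groth.Agent.FibC.isIso_of_fibGrpd h𝒴 (𝟙 (𝒳.p.obj a)) θ
      let z := Groth.Agent.FibC.fpMk G G a c (@asIso _ _ _ _ θ this) hθ
      obtain ⟨x, e, -⟩ := Groth.Agent.FibC.essSurjOver_of_isEquivOver h z
      have w : G.toFunctor.map e.hom.hom.fst ≫ θ = 𝟙 _ ≫ G.toFunctor.map e.hom.hom.snd := e.hom.hom.w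
      have hi : e.inv.hom.fst ≫ e.hom.hom.fst = 𝟙 _ :=
        congrArg (fun t => Limits.CategoricalPullback.Hom.fst t.hom) e.inv_hom_id
      refine ⟨e.inv.hom.fst ≫ e.hom.hom.snd ≫ χ, ?_⟩
      rw [Category.id_comp] at w
      rw [Functor.map_comp, Functor.map_comp, ← reassoc_of% w, hθ', ← Functor.map_comp_assoc, hi]
      exact (congrArg (· ≫ ψ) (G.toFunctor.map_id _)).trans (Category.id_comp ψ)
    · let m : (FibCat.diag G).toFunctor.obj a ⟶ (FibCat.diag G).toFunctor.obj b :=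
        Groth.Agent.FibC.fpHom φ ψ (by
          show G.toFunctor.map φ ≫ 𝟙 _ = 𝟙 _ ≫ G.toFunctor.map ψ
          simp [e])
      obtain ⟨χ, hχ⟩ := (FibCat.diag G).toFunctor.map_surjective m
      have h1 : χ = φ := congrArg (fun t => Limits.CategoricalPullback.Hom.fst t.hom) hχ
      have h2 : χ = ψ := congrArg (fun t => Limits.CategoricalPullback.Hom.snd t.hom) hχ
      rw [← h1, h2]

end Groth.Agent.S6399
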