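import Groth.Statements.S6402
import Groth.Agent.FibC.Rep
import Groth.Agent.FibC.Based

set_option autoImplicit false
set_option backward.isDefEq.respectTransparency false
set_option backward.isDefEq.respectTransparency.types false
open CategoryTheory
universe v u
open FibCat

namespace Groth.Agent.S6402

/-- For a functor `F : 𝒳 ⟶ 𝒴` of fibred categories over `C` preserving strongly cartesian morphisms, the
relative inertia `I_{𝒳/𝒴}` (pairs `(x, α)` with `α` an automorphism of `x` sent to the identity by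
`F`) is equivalent over `C` to `𝒳 ×_{Δ, 𝒳 ×_𝒴 𝒳, Δ} 𝒳`, by a functor over `C` whose composite with
either projection is the forgetful functor `(x, α) ↦ x`. (Only the two projections of the
equivalence are pinned here; its 2-cell component at `(x, α)` is `(α, 𝟙)`.) -/
theorem result {C : Type u} [Category.{v} C] {𝒳 𝒴 : BasedCategory.{v, max u v} C} [𝒳.p.IsFibered] [𝒴.p.IsFibered] (F : 𝒳 ⥤ᵇ 𝒴) (hF : FibCat.PreservesStronglyCartesian F) :
    ∃ E : FibCat.inertia F ⥤ᵇ FibCat.fp (FibCat.diag F) (FibCat.diag F),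
      FibCat.IsEquivOver E ∧ BasedFunctor.comp E (FibCat.fpFst _ _) = FibCat.inertiaToBase F ∧
        BasedFunctor.comp E (FibCat.fpSnd _ _) = FibCat.inertiaToBase F := by
  let app : ∀ x : (FibCat.inertia F).obj,
      (FibCat.diag F).toFunctor.obj x.pt ≅ (FibCat.diag F).toFunctor.obj x.pt :=
    fun x => Groth.Agent.FibC.fpIsoMk x.aut (Iso.refl _) (by
      show F.toFunctor.map x.aut.hom ≫ 𝟙 _ = 𝟙 _ ≫ F.toFunctor.map (𝟙 _)
      rw [x.map_aut, F.toFunctor.map_id])
  let ε : BasedFunctor.comp (FibCat.inertiaToBase F) (FibCat.diag F) ≅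
      BasedFunctor.comp (FibCat.inertiaToBase F) (FibCat.diag F) :=
    Groth.Agent.StFib.isoMk app
      (fun x => Groth.Agent.StFib.vert_fp_iff.2 (Groth.Agent.StFib.vert_of_isHomLift (Groth.Agent.FibC.aut_lift x)))
      (fun {x y} φ => Groth.Agent.FibC.fp_hom_ext φ.comm.symm
        (by
          show φ.hom ≫ 𝟙 _ = 𝟙 _ ≫ φ.hom
          simp))
  refine ⟨FibCat.fpLift (FibCat.inertiaToBase F) (FibCat.inertiaToBase F) ε, ?_, rfl, rfl⟩
  refine Groth.Agent.StFib.fpLift_isEquivOver_mk _ _ _ (fun φ ψ h _ => FibCat.InertiaObj.hom_ext h) ?_ ?_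
  · intro x y a b h
    have h1 : a ≫ y.aut.hom = x.aut.hom ≫ b := congrArg (fun t => Limits.CategoricalPullback.Hom.fst t.hom) h
    have h2 : a ≫ 𝟙 _ = 𝟙 _ ≫ b := congrArg (fun t => Limits.CategoricalPullback.Hom.snd t.hom) h
    have h2' : a = b := (Category.comp_id a).symm.trans (h2.trans (Category.id_comp b))
    subst h2'
    exact ⟨⟨a, h1.symm⟩, rfl, rfl⟩
  · intro z
    let j₁ : z.obj.fst ≅ z.obj.snd := Groth.Agent.StFib.fpIsoFst z.obj.iso
    let j₂ : z.obj.fst ≅ z.obj.snd := Groth.Agent.StFib.fpIsoSnd z.obj.iso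
    have hj : F.toFunctor.map j₁.hom ≫ 𝟙 _ = 𝟙 _ ≫ F.toFunctor.map j₂.hom := z.obj.iso.hom.hom.w
    have hj' : F.toFunctor.map j₁.hom = F.toFunctor.map j₂.hom :=
      (Category.comp_id _).symm.trans (hj.trans (Category.id_comp _))
    refine ⟨⟨z.obj.fst, j₁ ≪≫ j₂.symm, ?_⟩, Iso.refl _, j₂, Groth.Agent.StFib.Vert.id _, ?_⟩
    · show F.toFunctor.map (j₁.hom ≫ j₂.inv) = 𝟙 _
      rw [F.toFunctor.map_comp, hj', ← F.toFunctor.map_comp, Iso.hom_inv_id, F.toFunctor.map_id]
    · refine Groth.Agent.FibC.fp_hom_ext ?_ ?_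
      · show 𝟙 _ ≫ j₁.hom = (j₁.hom ≫ j₂.inv) ≫ j₂.hom
        simp
      · show 𝟙 _ ≫ j₂.hom = 𝟙 _ ≫ j₂.hom
        rfl

end Groth.Agent.S6402
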