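import Groth.Statements.S6405
import Groth.Agent.FibC.Based

set_option autoImplicit false
set_option backward.isDefEq.respectTransparency false
set_option backward.isDefEq.respectTransparency.types false
open CategoryTheory
universe v u
open FibCat

namespace Groth.Agent.S6405

/-- (2) ⇒ (1): if `𝒳` is fibred in groupoids over `C` and the canonical functor `I_𝒳 ⟶ 𝒳` from its
inertia is an equivalence over `C`, then `𝒳` is fibred in setoids. (The published statement is an
equivalence; this row states only that the inertia condition implies that `𝒳` is fibred in setoids.) -/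
theorem result {C : Type u} [Category.{v} C] {𝒳 : BasedCategory.{v, max u v} C} (h𝒳 : FibCat.IsFibGrpd 𝒳.p)
    (h : FibCat.IsEquivOver (FibCat.inertiaToBase (FibCat.toSelf 𝒳))) : FibCat.IsFibSetoid 𝒳.p := by
  have := Groth.Agent.FibC.full_of_isEquivOver h
  have key : ∀ (a : 𝒳.obj) (α : a ⟶ a) (U : C), 𝒳.p.IsHomLift (𝟙 U) α → α = 𝟙 a := by
    intro a α U hα
    have : IsIso α := Groth.Agent.FibC.isIso_of_fibGrpd h𝒳 (𝟙 U) α
    have ha : 𝒳.p.obj a = U := IsHomLift.domain_eq 𝒳.p (𝟙 U) α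
    subst ha
    have hk : (FibCat.toSelf 𝒳).toFunctor.map (asIso α).hom = 𝟙 _ :=
      (IsHomLift.eq_of_isHomLift 𝒳.p (𝟙 (𝒳.p.obj a)) α).symm
    have hk1 : (FibCat.toSelf 𝒳).toFunctor.map (Iso.refl a).hom = 𝟙 _ := Functor.map_id _ _
    let A : (FibCat.inertia (FibCat.toSelf 𝒳)).obj := ⟨a, asIso α, hk⟩
    let B : (FibCat.inertia (FibCat.toSelf 𝒳)).obj := ⟨a, Iso.refl a, hk1⟩
    obtain ⟨m, hm⟩ := (FibCat.inertiaToBase (FibCat.toSelf 𝒳)).toFunctor.map_surjective (X := A) (Y := B) (𝟙 a)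
    have hm' : m.hom = 𝟙 a := hm
    have := m.comm
    rw [hm'] at this
    simpa [A, B] using this
  refine ⟨h𝒳, fun U a b => ⟨fun φ ψ => Subtype.ext ?_⟩⟩
  have := φ.2
  have := ψ.2
  have : IsIso ψ.1 := Groth.Agent.FibC.isIso_of_fibGrpd h𝒳 (𝟙 U) ψ.1
  have := key a.1 (φ.1 ≫ inv ψ.1) U inferInstance
  exact ((IsIso.comp_inv_eq ψ.1).mp this).trans (Category.id_comp _)

end Groth.Agent.S6405
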