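import Groth.Statements.S6406
import Groth.Agent.FibC.SetFib

set_option autoImplicit false
set_option backward.isDefEq.respectTransparency false
set_option backward.isDefEq.respectTransparency.types false
open CategoryTheory
universe v u
open FibCat

namespace Groth.Agent.S6406

/-- A category fibred in setoids over `C` admits an equivalence over `C` to a category fibred in sets
over `C`. (The target is taken in the same universes as the slices `C/U`; its morphism sets are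
essentially as small as those of `C`.) -/
theorem result {C : Type u} [Category.{v} C] {𝒳 : BasedCategory.{v, max u v} C} (h𝒳 : FibCat.IsFibSetoid 𝒳.p) :
    ∃ (𝒴 : BasedCategory.{v, max u v} C) (F : 𝒳 ⥤ᵇ 𝒴), FibCat.IsFibSet 𝒴.p ∧ FibCat.IsEquivOver F := by
  let r : Setoid 𝒳.obj :=
    { r := fun a b => ∃ e : a ≅ b, 𝒳.p.IsHomLift (𝟙 (𝒳.p.obj a)) e.hom
      iseqv :=
        { refl := fun a => ⟨Iso.refl a, by simpa using (inferInstance : 𝒳.p.IsHomLift (𝟙 (𝒳.p.obj a)) (𝟙 a))⟩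
          symm := fun {a b} ⟨e, he⟩ => ⟨e.symm, by
            rw [IsHomLift.codomain_eq 𝒳.p (𝟙 (𝒳.p.obj a)) e.hom]
            exact IsHomLift.lift_id_inv 𝒳.p _ e⟩
          trans := fun {a b c} ⟨e, he⟩ ⟨e', he'⟩ => ⟨e ≪≫ e', by
            rw [IsHomLift.codomain_eq 𝒳.p (𝟙 (𝒳.p.obj a)) e.hom] at he'
            exact IsHomLift.comp_of_lift_id 𝒳.p _ e.hom e'.hom⟩ } }
  let Q : ObjectProperty 𝒳.obj := fun a => (Quotient.mk r a).out = a
  have hQ : ∀ a, Q (Quotient.mk r a).out := fun a => by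
    show (Quotient.mk r (Quotient.mk r a).out).out = _
    rw [Quotient.out_eq]
  let 𝒴 : BasedCategory.{v, max u v} C := BasedCategory.ofFunctor (Q.ι ⋙ 𝒳.p)
  let I : 𝒴 ⥤ᵇ 𝒳 := ⟨Q.ι, rfl⟩
  have hI : FibCat.IsEquivOver I := by
    have : I.toFunctor.Full := inferInstanceAs Q.ι.Full
    have : I.toFunctor.Faithful := inferInstanceAs Q.ι.Faithful
    refine Groth.Agent.FibC.isEquivOver_of_fullyFaithful I fun a => ?_
    obtain ⟨e, he⟩ := Quotient.mk_out (s := r) a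
    refine ⟨⟨_, hQ a⟩, e, ?_⟩
    have he1 : 𝒳.p.IsHomLift (𝟙 (𝒳.p.obj (Quotient.mk r a).out)) e.hom := he
    rw [← IsHomLift.codomain_eq 𝒳.p (𝟙 (𝒳.p.obj (Quotient.mk r a).out)) e.hom] at he1
    exact he1
  obtain ⟨G, hη, hε⟩ := hI
  refine ⟨𝒴, G, ⟨Groth.Agent.FibC.fibGrpd_of_equivOver (F := G) ⟨I, hε, hη⟩ h𝒳.1, fun U => ?_⟩, I, hε, hη⟩
  refine ⟨fun a b => ⟨fun φ ψ => ?_⟩, fun {a b} φ => ?_⟩
  · have h1 : 𝒳.p.IsHomLift (𝟙 U) (I.toFunctor.map φ.1) := @BasedFunctor.preserves_isHomLift _ _ _ _ I _ _ _ _ (𝟙 U) φ.1 φ.2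
    have h2 : 𝒳.p.IsHomLift (𝟙 U) (I.toFunctor.map ψ.1) := @BasedFunctor.preserves_isHomLift _ _ _ _ I _ _ _ _ (𝟙 U) ψ.1 ψ.2
    have : I.toFunctor.Faithful := inferInstanceAs Q.ι.Faithful
    exact Subtype.ext (I.toFunctor.map_injective (Groth.Agent.FibC.setoid_hom_eq h𝒳 (𝟙 U) _ _))
  · have h1 : 𝒳.p.IsHomLift (𝟙 U) (I.toFunctor.map φ.1) := @BasedFunctor.preserves_isHomLift _ _ _ _ I _ _ _ _ (𝟙 U) φ.1 φ.2
    have := Groth.Agent.FibC.isIso_of_fibGrpd h𝒳.1 (𝟙 U) (I.toFunctor.map φ.1)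
    have ha : 𝒳.p.obj a.1.obj = U := a.2
    have hr : r.r a.1.obj b.1.obj := ⟨asIso (I.toFunctor.map φ.1), by rw [ha]; exact h1⟩
    exact Subtype.ext (ObjectProperty.FullSubcategory.ext
      ((a.1.property.symm.trans (congrArg Quotient.out (Quotient.sound hr))).trans b.1.property))

end Groth.Agent.S6406
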