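import Groth.Statements.S6407
import Groth.Agent.FibC.SetFib

set_option autoImplicit false
set_option backward.isDefEq.respectTransparency false
set_option backward.isDefEq.respectTransparency.types false
open CategoryTheory
universe v u
open FibCat

namespace Groth.Agent.S6407

/-- For categories `𝒳, 𝒴` fibred in setoids over `C` and functors `f, g : 𝒳 ⟶ 𝒴` over `C` that agree on
isomorphism classes of objects of each fibre category, there is a unique 2-isomorphism `f ≅ g` over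
`C`. -/
theorem result {C : Type u} [Category.{v} C] {𝒳 𝒴 : BasedCategory.{v, max u v} C} (h𝒳 : FibCat.IsFibSetoid 𝒳.p) (h𝒴 : FibCat.IsFibSetoid 𝒴.p) (f g : 𝒳 ⥤ᵇ 𝒴)
    (hfg : ∀ (U : C) (x : 𝒳.p.Fiber U), Nonempty ((FibCat.fiberFunctor f U).obj x ≅ (FibCat.fiberFunctor g U).obj x)) :
    Nonempty (Unique (f ≅ g)) := by
  have hc : ∀ a : 𝒳.obj, ∃ e : f.toFunctor.obj a ≅ g.toFunctor.obj a,
      𝒴.p.IsHomLift (𝟙 (𝒳.p.obj a)) e.hom := by
    intro a
    obtain ⟨e⟩ := hfg (𝒳.p.obj a) (Functor.Fiber.mk rfl)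
    exact ⟨Functor.Fiber.fiberInclusion.mapIso e, e.hom.2⟩
  choose e he using hc
  let ε : f ≅ g := BasedNatIso.mkNatIso (NatIso.ofComponents e (fun {a b} φ => by
    have := he a
    have := he b
    exact Groth.Agent.FibC.setoid_hom_eq h𝒴 (𝒳.p.map φ) _ _)) he
  refine ⟨{ default := ε, uniq := fun η => ?_ }⟩
  apply Iso.ext
  apply BasedNatTrans.homCategory.ext
  apply NatTrans.ext
  funext a
  have h1 : 𝒴.p.IsHomLift (𝟙 (𝒳.p.obj a)) (η.hom.toNatTrans.app a) := BasedNatTrans.app_isHomLift η.hom a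
  have h2 : 𝒴.p.IsHomLift (𝟙 (𝒳.p.obj a)) (ε.hom.toNatTrans.app a) := BasedNatTrans.app_isHomLift ε.hom a
  exact Groth.Agent.FibC.setoid_hom_eq h𝒴 (𝟙 (𝒳.p.obj a)) _ _

end Groth.Agent.S6407
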