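import Groth.Statements.S6408
import Groth.Agent.FibC.SetFib

set_option autoImplicit false
open CategoryTheory
universe v u
open FibCat

namespace Groth.Agent.S6408

theorem eq_eqToHom_of_heq {D : Type*} [Category D] {a b : D} (f : a ⟶ b) (h : a = b)
    (e : HEq f (𝟙 b)) : f = eqToHom h := by
  subst h
  simpa using eq_of_heq e

/-- Between categories fibred in sets over `C` the only 2-morphisms over `C` are identities. -/
theorem result {C : Type u} [Category.{v} C] {𝒳 𝒴 : BasedCategory.{v, max u v} C} (h𝒳 : FibCat.IsFibSet 𝒳.p) (h𝒴 : FibCat.IsFibSet 𝒴.p) {F G : 𝒳 ⥤ᵇ 𝒴} (α : F ⟶ G) :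
    ∃ h : F = G, α = eqToHom h := by
  have hd : ∀ a : 𝒳.obj, ∃ h : F.obj a = G.obj a, α.toNatTrans.app a = eqToHom h := by
    intro a
    have := Groth.Agent.FibC.fibSet_lift_unique h𝒴 (𝟙 (𝒳.p.obj a))
      ⟨F.obj a, α.toNatTrans.app a⟩ ⟨G.obj a, 𝟙 _⟩
      (BasedNatTrans.app_isHomLift α a) (IsHomLift.id (G.w_obj a))
    obtain ⟨h₁, h₂⟩ := Sigma.mk.inj_iff.1 this
    exact ⟨h₁, eq_eqToHom_of_heq _ h₁ h₂⟩
  have hobj : ∀ a, F.obj a = G.obj a := fun a => (hd a).1
  have htoF : F.toFunctor = G.toFunctor := by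
    refine Functor.ext hobj fun a b f => ?_
    have hn := α.toNatTrans.naturality f
    rw [(hd a).2, (hd b).2] at hn
    rw [← Category.assoc, ← hn]
    simp
  obtain ⟨F₀, wF⟩ := F
  obtain ⟨G₀, wG⟩ := G
  obtain rfl : F₀ = G₀ := htoF
  refine ⟨rfl, BasedNatTrans.homCategory.ext _ _ (NatTrans.ext (funext fun a => ?_))⟩
  rw [(hd a).2]
  rfl

end Groth.Agent.S6408
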