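import Groth.Statements.S6410
import Groth.Agent.FibC.Yoneda

set_option autoImplicit false
set_option backward.isDefEq.respectTransparency false
set_option backward.isDefEq.respectTransparency.types false
open CategoryTheory
universe v u
open FibCat

namespace Groth.Agent.S6410

/-- For `𝒳` fibred over `C`, evaluation at `𝟙_U` restricted to the functors `C/U ⟶ 𝒳` over `C` that
preserve strongly cartesian morphisms is an equivalence of categories onto the fibre category `𝒳_U`. -/
theorem result {C : Type u} [Category.{v} C] {𝒳 : BasedCategory.{v, max u v} C} [𝒳.p.IsFibered] (U : C) :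
    ((ObjectProperty.ι (FibCat.PreservesStronglyCartesian (𝒳 := FibCat.overCat U) (𝒴 := 𝒳))) ⋙ FibCat.evalAtId 𝒳 U).IsEquivalence := by
  refine { faithful := ⟨fun {G H} α β e => ?_⟩, full := ⟨fun {G H} θ => ?_⟩, essSurj := ⟨fun x => ?_⟩ }
  · exact ObjectProperty.hom_ext _ (Groth.Agent.FibC.yoneda_injective H.property (congrArg Subtype.val e))
  · have := θ.2
    obtain ⟨α, hα⟩ := Groth.Agent.FibC.yoneda_surjective H.property
      (θ.1 : G.obj.toFunctor.obj (Groth.Agent.FibC.overTop U) ⟶ H.obj.toFunctor.obj (Groth.Agent.FibC.overTop U))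
    exact ⟨ObjectProperty.homMk α, Subtype.ext hα⟩
  · obtain ⟨G, hG, e, he⟩ := Groth.Agent.FibC.exists_overLift x.1 x.2
    exact ⟨⟨G, hG⟩, ⟨Groth.Agent.FibC.fiberIso _ _ e he⟩⟩

end Groth.Agent.S6410
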