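import Groth.Statements.S6412
import Groth.Agent.FibC.RepProd

set_option autoImplicit false
set_option backward.isDefEq.respectTransparency false
set_option backward.isDefEq.respectTransparency.types false
open CategoryTheory CategoryTheory.Limits
universe v u
open FibCat

namespace Groth.Agent.S6412

/-- For `C` with binary products and fibre products and `𝒮` fibred in groupoids over `C`, the diagonal
`𝒮 ⟶ 𝒮 ×_C 𝒮` is representable if and only if every functor `C/U ⟶ 𝒮` over `C` is representable.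
(Representability of each base change to a slice `C/V` is taken as a category over `C`; for
categories fibred in groupoids this agrees with representability over `C/V`.) -/
theorem result {C : Type u} [Category.{v} C] [HasBinaryProducts C] [HasPullbacks C] {𝒮 : BasedCategory.{v, max u v} C} (h𝒮 : FibCat.IsFibGrpd 𝒮.p) :
    FibCat.IsRepresentable1 (FibCat.diag (FibCat.toSelf 𝒮)) ↔ ∀ (U : C) (G : FibCat.overCat U ⥤ᵇ 𝒮), FibCat.IsRepresentable1 G := by
  constructor
  · intro hΔ U G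
    exact Groth.Agent.FibC.isRepresentable1_of_comp_diag G (FibCat.toSelf 𝒮)
      (Groth.Agent.FibC.isRepresentable1_to_self _) hΔ
  · intro h W k
    let O := FibCat.overCat W
    let G₁ := BasedFunctor.comp k (FibCat.fpFst (FibCat.toSelf 𝒮) (FibCat.toSelf 𝒮))
    let G₂ := BasedFunctor.comp k (FibCat.fpSnd (FibCat.toSelf 𝒮) (FibCat.toSelf 𝒮))
    let pair : FibCat.fp G₁ G₂ ⥤ᵇ FibCat.fp (FibCat.toSelf O) (FibCat.toSelf O) :=
      FibCat.fpLift (FibCat.fpFst G₁ G₂) (FibCat.fpSnd G₁ G₂) (Groth.Agent.FibC.selfIso _ _)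
    let Δ := FibCat.diag (FibCat.toSelf 𝒮)
    let Z := FibCat.fp k Δ
    let a₀ := FibCat.fpFst k Δ
    let κ : BasedFunctor.comp a₀ G₁ ≅ BasedFunctor.comp a₀ G₂ :=
      Groth.Agent.StFib.isoWhiskerRight (FibCat.fpIso k Δ) (FibCat.fpFst (FibCat.toSelf 𝒮) (FibCat.toSelf 𝒮)) ≪≫
        (Groth.Agent.StFib.isoWhiskerRight (FibCat.fpIso k Δ) (FibCat.fpSnd (FibCat.toSelf 𝒮) (FibCat.toSelf 𝒮))).symm
    let T : Z ⥤ᵇ FibCat.fp G₁ G₂ := FibCat.fpLift a₀ a₀ κ
    let e : BasedFunctor.comp T pair ≅ BasedFunctor.comp a₀ (FibCat.diag (FibCat.toSelf O)) :=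
      Groth.Agent.StFib.isoMk
        (fun w => Groth.Agent.FibC.fpIsoMk (Iso.refl w.obj.fst) (Iso.refl w.obj.fst)
          (@Groth.Agent.FibC.self_w _ _ O O (pair.toFunctor.obj (T.toFunctor.obj w))
            ((FibCat.diag (FibCat.toSelf O)).toFunctor.obj w.obj.fst) _ _ (𝟙 (Over.left w.obj.fst)) _ _
            (IsHomLift.id rfl) (IsHomLift.id rfl)))
        (fun w => Groth.Agent.StFib.Vert.id _)
        (fun φ => Groth.Agent.FibC.fp_hom_ext ((Category.comp_id _).trans (Category.id_comp _).symm)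
          ((Category.comp_id _).trans (Category.id_comp _).symm))
    refine Groth.Agent.FibC.isRepresentable_of_equiv (E := FibCat.fpLift T a₀ e) ?_ ?_
    · refine Groth.Agent.StFib.fpLift_isEquivOver_mk _ _ _ ?_ ?_ ?_
      · intro w w' φ ψ _ h2
        have h2' : φ.hom.fst = ψ.hom.fst := h2
        refine Groth.Agent.FibC.fp_hom_ext h2' ?_
        have wφ : G₂.toFunctor.map φ.hom.fst ≫ w'.obj.iso.hom.hom.snd = w.obj.iso.hom.hom.snd ≫ φ.hom.snd :=
          congrArg (fun t => Limits.CategoricalPullback.Hom.snd t.hom) φ.hom.w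
        have wψ : G₂.toFunctor.map ψ.hom.fst ≫ w'.obj.iso.hom.hom.snd = w.obj.iso.hom.hom.snd ≫ ψ.hom.snd :=
          congrArg (fun t => Limits.CategoricalPullback.Hom.snd t.hom) ψ.hom.w
        rw [h2'] at wφ
        exact (cancel_epi (Groth.Agent.StFib.fpIsoSnd w.obj.iso).hom).1 (wφ.symm.trans wψ)
      · intro w w' a b hab
        let l₁ : G₁.toFunctor.obj w.obj.fst ≅ w.obj.snd := Groth.Agent.StFib.fpIsoFst w.obj.iso
        let l₂ : G₂.toFunctor.obj w.obj.fst ≅ w.obj.snd := Groth.Agent.StFib.fpIsoSnd w.obj.iso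
        let l₁' : G₁.toFunctor.obj w'.obj.fst ≅ w'.obj.snd := Groth.Agent.StFib.fpIsoFst w'.obj.iso
        let l₂' : G₂.toFunctor.obj w'.obj.fst ≅ w'.obj.snd := Groth.Agent.StFib.fpIsoSnd w'.obj.iso
        let b' : w.obj.fst ⟶ w'.obj.fst := b
        have h₁ : a.hom.fst = b' := (Category.comp_id _).symm.trans
          ((congrArg (fun t => Limits.CategoricalPullback.Hom.fst t.hom) hab).trans (Category.id_comp _))
        have h₂ : a.hom.snd = b' := (Category.comp_id _).symm.trans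
          ((congrArg (fun t => Limits.CategoricalPullback.Hom.snd t.hom) hab).trans (Category.id_comp _))
        have aw : G₁.toFunctor.map a.hom.fst ≫ l₁'.hom ≫ l₂'.inv =
            (l₁.hom ≫ l₂.inv) ≫ G₂.toFunctor.map a.hom.snd := a.hom.w
        rw [h₁, h₂] at aw
        let σ : w.obj.snd ⟶ w'.obj.snd := l₂.inv ≫ G₂.toFunctor.map b' ≫ l₂'.hom
        have w₁ : G₁.toFunctor.map b' ≫ l₁'.hom = l₁.hom ≫ σ := by
          rw [← cancel_mono l₂'.inv, Category.assoc, aw]
          simp [σ]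
        have w₂ : G₂.toFunctor.map b' ≫ l₂'.hom = l₂.hom ≫ σ := by simp [σ]
        exact ⟨Groth.Agent.FibC.fpHom b' σ (Groth.Agent.FibC.fp_hom_ext w₁ w₂),
          Groth.Agent.FibC.fp_hom_ext h₁.symm h₂.symm, rfl⟩
      · intro z
        let c₁ := z.obj.fst.obj.fst
        let c := z.obj.snd
        let m₁ : c₁ ≅ c := Groth.Agent.StFib.fpIsoFst z.obj.iso
        let m₂ : z.obj.fst.obj.snd ≅ c := Groth.Agent.StFib.fpIsoSnd z.obj.iso
        have hm₁ : Groth.Agent.StFib.Vert m₁.hom := Groth.Agent.StFib.vert_fp_iff.1 (Groth.Agent.StFib.vert_fp_iso z)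
        have hm₂ : Groth.Agent.StFib.Vert m₂.hom := Groth.Agent.StFib.vert_fp_snd (Groth.Agent.StFib.vert_fp_iso z)
        let t : G₁.toFunctor.obj c ≅ G₂.toFunctor.obj c :=
          G₁.toFunctor.mapIso m₁.symm ≪≫ z.obj.fst.obj.iso ≪≫ G₂.toFunctor.mapIso m₂
        have ht : Groth.Agent.StFib.Vert t.hom :=
          (hm₁.inv.map G₁).comp ((Groth.Agent.StFib.vert_fp_iso z.obj.fst).comp (hm₂.map G₂))
        have hone : 𝒮.p.IsHomLift (𝟙 (Over.left c)) (Iso.refl (G₂.toFunctor.obj c)).hom :=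
          IsHomLift.id (G₂.w_obj c)
        let w : Z.obj := Groth.Agent.FibC.fpMk k Δ c (G₂.toFunctor.obj c)
          (Groth.Agent.FibC.fpIsoMk t (Iso.refl (G₂.toFunctor.obj c))
            (@Groth.Agent.FibC.self_w _ _ 𝒮 𝒮 (k.toFunctor.obj c) (Δ.toFunctor.obj (G₂.toFunctor.obj c)) _ _
              (𝟙 (Over.left c)) _ _ (ht.isHomLift (G₁.w_obj c)) hone))
          ((Groth.Agent.FibC.fp_isHomLift_iff _ _).2 (ht.isHomLift (G₁.w_obj c)))
        refine ⟨w, Groth.Agent.FibC.fpIsoMk m₁.symm m₂.symm ?_, Iso.refl c, hm₁.inv, Groth.Agent.FibC.fp_hom_ext ?_ ?_⟩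
        · show G₁.toFunctor.map m₁.inv ≫ z.obj.fst.obj.iso.hom = (t.hom ≫ 𝟙 _) ≫ G₂.toFunctor.map m₂.inv
          simp [t]
        · show m₁.inv ≫ m₁.hom = 𝟙 c ≫ 𝟙 c
          simp
        · show m₂.inv ≫ m₂.hom = 𝟙 c ≫ 𝟙 c
          simp
    · obtain ⟨V, F₀, hF₀⟩ := h W G₂ W G₁ |> id
      obtain ⟨E, hE, -, -⟩ := Groth.Agent.StFib.isEquivOver_symm hF₀
      exact (Groth.Agent.FibC.isRepresentable_fp_comp_equiv hE pair _).1
        (Groth.Agent.FibC.isRepresentable1_diag_overCat W V _)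

end Groth.Agent.S6412
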