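import Groth.Statements.S6413
import Groth.Agent.FibC.Based

set_option autoImplicit false
set_option backward.isDefEq.respectTransparency false
set_option backward.isDefEq.respectTransparency.types false
open CategoryTheory
universe v u
open FibCat

namespace Groth.Agent.S6413

/-- For `𝒳, 𝒴` fibred in groupoids over `C` and `F : 𝒳 ⟶ 𝒴` over `C`, the projection `𝒳 ×_{F, 𝒴, id} 𝒴 ⟶
𝒴` is a category fibred in groupoids over `𝒴`. -/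
theorem result {C : Type u} [Category.{v} C] {𝒳 𝒴 : BasedCategory.{v, max u v} C} (h𝒳 : FibCat.IsFibGrpd 𝒳.p) (h𝒴 : FibCat.IsFibGrpd 𝒴.p) (F : 𝒳 ⥤ᵇ 𝒴) :
    FibCat.IsFibGrpd (FibCat.fpSnd F (BasedFunctor.id 𝒴)).toFunctor := by
  refine Groth.Agent.FibC.isFibGrpd_of_isoLift (Groth.Agent.FibC.fp_isFibGrpd h𝒳 h𝒴 h𝒴) h𝒴 _ ?_
  intro a b e he
  have he' : 𝒴.p.IsHomLift (𝟙 (𝒳.p.obj a.obj.fst)) e.hom := he
  have ha : 𝒴.p.IsHomLift (𝟙 (𝒳.p.obj a.obj.fst)) a.obj.iso.hom := a.property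
  let e₁ : b ≅ a.obj.snd := e
  have he₁ : 𝒴.p.IsHomLift (𝟙 (𝒳.p.obj a.obj.fst)) e₁.hom := he'
  let a' := Groth.Agent.FibC.fpMk F (BasedFunctor.id 𝒴) a.obj.fst b (a.obj.iso ≪≫ e₁.symm)
    (IsHomLift.comp_of_lift_id 𝒴.p _ a.obj.iso.hom e₁.inv)
  let φ : a' ⟶ a := Groth.Agent.FibC.fpHom (𝟙 _) e.hom (by
    show F.toFunctor.map (𝟙 _) ≫ a.obj.iso.hom = (a.obj.iso.hom ≫ e₁.inv) ≫ e₁.hom
    simp)
  exact ⟨a', φ, IsHomLift.map (FibCat.fpSnd F (BasedFunctor.id 𝒴)).toFunctor φ⟩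

end Groth.Agent.S6413
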