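import Groth.Statements.S6417
import Groth.Agent.FibC.Basic

set_option autoImplicit false
set_option backward.isDefEq.respectTransparency false
set_option backward.isDefEq.respectTransparency.types false
open CategoryTheory CategoryTheory.Limits
universe v₁ u₁ v₂ u₂
open FibCat

namespace Groth.Agent.S6417

/-- For `p : 𝒮 ⥤ C`, a strongly cartesian `φ : x ⟶ y`, any `ψ : z ⟶ y`, and a strongly cartesian `a : w
⟶ z` lying over the second projection of `p x ×_{p y} p z`, the object `w` is a fibre product `x ×_y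
z`: there is `b : w ⟶ x` over the first projection with `(b, a)` a pullback square. -/
theorem result {𝒮 : Type u₁} [Category.{v₁} 𝒮] {C : Type u₂} [Category.{v₂} C] (p : 𝒮 ⥤ C) {x y z w : 𝒮} (φ : x ⟶ y) (ψ : z ⟶ y)
    [p.IsStronglyCartesian (p.map φ) φ] [HasPullback (p.map φ) (p.map ψ)] (a : w ⟶ z)
    [p.IsStronglyCartesian (pullback.snd (p.map φ) (p.map ψ)) a] :
    ∃ b : w ⟶ x, p.IsHomLift (pullback.fst (p.map φ) (p.map ψ)) b ∧ IsPullback b a φ ψ := by
  let p₁ := pullback.fst (p.map φ) (p.map ψ)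
  let p₂ := pullback.snd (p.map φ) (p.map ψ)
  have hw : p.IsHomLift (p₁ ≫ p.map φ) (a ≫ ψ) := by
    rw [show p₁ ≫ p.map φ = p₂ ≫ p.map ψ from pullback.condition]; infer_instance
  obtain ⟨b, ⟨hb, hb'⟩, -⟩ := Functor.IsStronglyCartesian.universal_property p (p.map φ) φ
    p₁ _ rfl (a ≫ ψ)
  have hs : ∀ (T : 𝒮) (u : T ⟶ x) (v : T ⟶ z), u ≫ φ = v ≫ ψ →
      ∃! m : T ⟶ w, m ≫ b = u ∧ m ≫ a = v := by
    intro T u v huv
    let k : p.obj T ⟶ pullback (p.map φ) (p.map ψ) :=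
      pullback.lift (p.map u) (p.map v) (by rw [← p.map_comp, ← p.map_comp, huv])
    have hk₁ : k ≫ p₁ = p.map u := pullback.lift_fst _ _ _
    have hk₂ : k ≫ p₂ = p.map v := pullback.lift_snd _ _ _
    obtain ⟨m, ⟨hm, hm'⟩, hu⟩ := Functor.IsStronglyCartesian.universal_property p p₂ a k (p.map v) hk₂.symm v
    refine ⟨m, ⟨?_, hm'⟩, ?_⟩
    · have h1 : p.IsHomLift (k ≫ p₁) (m ≫ b) := inferInstance
      rw [hk₁] at h1
      apply Functor.IsStronglyCartesian.ext p (p.map φ) φ (p.map u)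
      rw [Category.assoc, hb', reassoc_of% hm', huv]
    · rintro m' ⟨h₁, h₂⟩
      refine hu m' ⟨?_, h₂⟩
      have hwR : p.obj w = pullback (p.map φ) (p.map ψ) := IsHomLift.domain_eq p p₂ a
      refine IsHomLift.of_fac p k m' rfl hwR ?_
      apply pullback.hom_ext
      · show k ≫ p₁ = _ ≫ p₁
        rw [hk₁, ← h₁, p.map_comp, IsHomLift.fac' p p₁ b]
        simp [p₁]
      · show k ≫ p₂ = _ ≫ p₂
        rw [hk₂, ← h₂, p.map_comp, IsHomLift.fac' p p₂ a]
        simp [p₂]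
  refine ⟨b, hb, ⟨⟨hb'⟩, ⟨PullbackCone.IsLimit.mk hb' (fun s => (hs s.pt s.fst s.snd s.condition).exists.choose)
    (fun s => (hs s.pt s.fst s.snd s.condition).exists.choose_spec.1)
    (fun s => (hs s.pt s.fst s.snd s.condition).exists.choose_spec.2)
    (fun s m h₁ h₂ => (hs s.pt s.fst s.snd s.condition).unique ⟨h₁, h₂⟩
      (hs s.pt s.fst s.snd s.condition).exists.choose_spec)⟩⟩⟩

end Groth.Agent.S6417
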