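import Groth.Statements.S6421


set_option autoImplicit false
open CategoryTheory CategoryTheory.Limits
universe v u
open FibCat

namespace Groth.Agent.S6421

theorem iso_hom {X Y Z A B C : Type u} [Category.{v} X] [Category.{v} Y] [Category.{v} Z]
    [Category.{v} A] [Category.{v} B] [Category.{v} C] {H : X ⥤ Z} {I : Y ⥤ Z} {F : A ⥤ C} {G : B ⥤ C}
    (ψ : CatCospanTransform H I F G) (t : CategoricalPullback H I) :
    ((FibCat.categoricalPullbackMap ψ).obj t).iso.hom =
      ψ.squareLeft.iso.inv.app t.fst ≫ ψ.base.map t.iso.hom ≫ ψ.squareRight.iso.hom.app t.snd := by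
  simp [FibCat.categoricalPullbackMap]
  rfl

/-- For a 2-commutative morphism of cospans of categories whose outer functors `X ⥤ A`, `Y ⥤ B` are
fully faithful and whose middle functor `Z ⥤ C` is faithful, the induced functor `X ×_Z Y ⥤ A ×_C B`
is fully faithful. -/
theorem result {X Y Z A B C : Type u} [Category.{v} X] [Category.{v} Y] [Category.{v} Z] [Category.{v} A] [Category.{v} B] [Category.{v} C] {H : X ⥤ Z} {I : Y ⥤ Z} {F : A ⥤ C} {G : B ⥤ C} (ψ : CatCospanTransform H I F G) [ψ.left.Full] [ψ.left.Faithful] [ψ.right.Full] [ψ.right.Faithful] [ψ.base.Faithful] :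
    (FibCat.categoricalPullbackMap ψ).Full ∧ (FibCat.categoricalPullbackMap ψ).Faithful := by
  have hf : (FibCat.categoricalPullbackMap ψ).Faithful :=
    ⟨fun {x y} f g h => CategoricalPullback.hom_ext
      (ψ.left.map_injective (congrArg CategoricalPullback.Hom.fst h))
      (ψ.right.map_injective (congrArg CategoricalPullback.Hom.snd h))⟩
  refine ⟨⟨fun {x y} f => ?_⟩, hf⟩
  obtain ⟨a, ha⟩ := ψ.left.map_surjective (X := x.fst) (Y := y.fst) f.fst
  obtain ⟨b, hb⟩ := ψ.right.map_surjective (X := x.snd) (Y := y.snd) f.snd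
  refine ⟨{ fst := a, snd := b, w := ψ.base.map_injective ?_ }, CategoricalPullback.hom_ext ha hb⟩
  have w : F.map (ψ.left.map a) ≫ ψ.squareLeft.iso.inv.app y.fst ≫ ψ.base.map y.iso.hom ≫
        ψ.squareRight.iso.hom.app y.snd =
      (ψ.squareLeft.iso.inv.app x.fst ≫ ψ.base.map x.iso.hom ≫ ψ.squareRight.iso.hom.app x.snd) ≫
        G.map (ψ.right.map b) := by
    rw [← iso_hom ψ y, ← iso_hom ψ x, ha, hb]
    exact f.w
  have n1 : ψ.base.map (H.map a) ≫ ψ.squareLeft.iso.hom.app y.fst =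
      ψ.squareLeft.iso.hom.app x.fst ≫ F.map (ψ.left.map a) := ψ.squareLeft.iso.hom.naturality a
  have n2 : ψ.base.map (I.map b) ≫ ψ.squareRight.iso.hom.app y.snd =
      ψ.squareRight.iso.hom.app x.snd ≫ G.map (ψ.right.map b) := ψ.squareRight.iso.hom.naturality b
  rw [← cancel_mono (ψ.squareRight.iso.hom.app y.snd), Functor.map_comp, Functor.map_comp,
    Category.assoc, Category.assoc, n2]
  calc ψ.base.map (H.map a) ≫ ψ.base.map y.iso.hom ≫ ψ.squareRight.iso.hom.app y.snd
      = (ψ.base.map (H.map a) ≫ ψ.squareLeft.iso.hom.app y.fst) ≫ ψ.squareLeft.iso.inv.app y.fst ≫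
          ψ.base.map y.iso.hom ≫ ψ.squareRight.iso.hom.app y.snd := by simp
    _ = ψ.squareLeft.iso.hom.app x.fst ≫ F.map (ψ.left.map a) ≫ ψ.squareLeft.iso.inv.app y.fst ≫
          ψ.base.map y.iso.hom ≫ ψ.squareRight.iso.hom.app y.snd := by rw [n1, Category.assoc]
    _ = _ := by rw [w]; simp

end Groth.Agent.S6421
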