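import Groth.Statements.S6422
import Groth.Agent.S6421

set_option autoImplicit false
open CategoryTheory CategoryTheory.Limits
universe v u
open FibCat

namespace Groth.Agent.S6422

/-- For a 2-commutative morphism of cospans of categories whose outer functors `X ⥤ A`, `Y ⥤ B` are
equivalences and whose middle functor `Z ⥤ C` is fully faithful, the induced functor `X ×_Z Y ⥤ A
×_C B` is an equivalence of categories. -/
theorem result {X Y Z A B C : Type u} [Category.{v} X] [Category.{v} Y] [Category.{v} Z] [Category.{v} A] [Category.{v} B] [Category.{v} C] {H : X ⥤ Z} {I : Y ⥤ Z} {F : A ⥤ C} {G : B ⥤ C} (ψ : CatCospanTransform H I F G) [ψ.left.IsEquivalence] [ψ.right.IsEquivalence] [ψ.base.Full] [ψ.base.Faithful] :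
    (FibCat.categoricalPullbackMap ψ).IsEquivalence := by
  obtain ⟨hF, hff⟩ := Groth.Agent.S6421.result ψ
  refine { essSurj := ⟨fun t => ?_⟩ }
  let x := ψ.left.objPreimage t.fst
  let y := ψ.right.objPreimage t.snd
  let ex := ψ.left.objObjPreimageIso t.fst
  let ey := ψ.right.objObjPreimageIso t.snd
  let e : H.obj x ≅ I.obj y := ψ.base.preimageIso
    (ψ.squareLeft.iso.app x ≪≫ F.mapIso ex ≪≫ t.iso ≪≫ G.mapIso ey.symm ≪≫ (ψ.squareRight.iso.app y).symm)
  refine ⟨{ fst := x, snd := y, iso := e }, ⟨CategoricalPullback.mkIso ex ey ?_⟩⟩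
  show F.map ex.hom ≫ t.iso.hom = _ ≫ G.map ey.hom
  rw [Groth.Agent.S6421.iso_hom]
  simp [e]
  erw [Category.id_comp, ← G.map_comp, Iso.inv_hom_id, G.map_id, Category.comp_id]

end Groth.Agent.S6422
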