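import Groth.Statements.S6423
import Groth.Agent.CatLimFin.Rep

set_option autoImplicit false
open CategoryTheory CategoryTheory.Limits
universe v u
open CatLim

namespace Groth.Agent.S6423

/-- (2) ⇒ (1): a category with equalizers and fibre products has all finite connected limits. -/
theorem result {C : Type u} [Category.{v} C] [HasEqualizers C] [HasPullbacks C]
    (J : Type) [SmallCategory J] [FinCategory J] [IsConnected J] : HasLimitsOfShape J C := by
  classical
  refine ⟨fun M => ?_⟩
  obtain ⟨E, hE⟩ := CatLimFin.rep_univ_connected M
  exact CatLimFin.hasLimit_of_rep M (E := Finset.univ ∪ E)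
    (fun a => Finset.mem_union_left _ (Finset.mem_univ a)) (CatLimFin.rep_add_arrows M hE _)

end Groth.Agent.S6423
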