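import Groth.Statements.S6425
import Mathlib.CategoryTheory.Limits.Types.Products


set_option autoImplicit false
open CategoryTheory CategoryTheory.Limits
universe v
open CatLim

namespace Groth.Agent.S6425

/-- Over an index category in which any two objects map to a common object, the comparison map `colim (M
× N) → colim M × colim N` for diagrams of sets is surjective. -/
theorem result {I : Type v} [SmallCategory I]
    (hI : ∀ x y : I, ∃ (z : I) (_ : x ⟶ z) (_ : y ⟶ z), True) (M N : I ⥤ Type v) :
    Function.Surjective (prodComparison (colim : (I ⥤ Type v) ⥤ Type v) M N) := by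
  intro p
  obtain ⟨i, m, hm⟩ := Types.jointly_surjective' (prod.fst (X := colim.obj M) (Y := colim.obj N) p)
  obtain ⟨j, n, hn⟩ := Types.jointly_surjective' (prod.snd (X := colim.obj M) (Y := colim.obj N) p)
  obtain ⟨z, a, b, -⟩ := hI i j
  let m' : coyoneda.obj (Opposite.op z) ⟶ M := coyonedaEquiv.symm (M.map a m)
  let n' : coyoneda.obj (Opposite.op z) ⟶ N := coyonedaEquiv.symm (N.map b n)
  let e : (M ⨯ N).obj z := coyonedaEquiv (prod.lift m' n')
  refine ⟨colimit.ι (M ⨯ N) z e, ?_⟩
  have h1 : (prod.fst (X := M) (Y := N)).app z e = M.map a m := by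
    have : coyonedaEquiv (prod.lift m' n' ≫ prod.fst) = M.map a m := by
      rw [prod.lift_fst]; exact coyonedaEquiv.apply_symm_apply _
    exact this
  have h2 : (prod.snd (X := M) (Y := N)).app z e = N.map b n := by
    have : coyonedaEquiv (prod.lift m' n' ≫ prod.snd) = N.map b n := by
      rw [prod.lift_snd]; exact coyonedaEquiv.apply_symm_apply _
    exact this
  apply (Types.binaryProductIso (colim.obj M) (colim.obj N)).toEquiv.injective
  apply Prod.ext
  · simp only [Iso.toEquiv_fun, Types.binaryProductIso_hom_comp_fst_apply]
    rw [← ConcreteCategory.comp_apply, prodComparison_fst]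
    refine (ConcreteCategory.congr_hom
      (ι_colimMap (prod.fst (X := M) (Y := N)) z) e).trans ?_
    rw [ConcreteCategory.comp_apply, h1]
    exact (colimit.w_apply M a m).trans hm
  · simp only [Iso.toEquiv_fun, Types.binaryProductIso_hom_comp_snd_apply]
    rw [← ConcreteCategory.comp_apply, prodComparison_snd]
    refine (ConcreteCategory.congr_hom
      (ι_colimMap (prod.snd (X := M) (Y := N)) z) e).trans ?_
    rw [ConcreteCategory.comp_apply, h2]
    exact (colimit.w_apply N b n).trans hn

end Groth.Agent.S6425
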