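import Groth.Statements.S6426


set_option autoImplicit false
open CategoryTheory CategoryTheory.Limits
universe v
open CatLim

namespace Groth.Agent.S6426

/-- Over a nonempty index category in which any two objects map to a common object, the set-theoretic
colimit of a diagram of abelian groups surjects onto its colimit in abelian groups. (The published
statement does not require the index category to be nonempty; this row assumes it, because for the
empty index category the colimit of sets is empty while the colimit of abelian groups is the zero
group.) -/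
theorem result {I : Type v} [SmallCategory I] [Nonempty I]
    (hI : ∀ x y : I, ∃ (z : I) (_ : x ⟶ z) (_ : y ⟶ z), True) (M : I ⥤ AddCommGrpCat.{v}) :
    Function.Surjective (colimit.post M (forget AddCommGrpCat.{v})) := by
  let P := M ⋙ forget AddCommGrpCat.{v}
  let g := colimit.post M (forget AddCommGrpCat.{v})
  have hg : ∀ i (x : M.obj i), g (colimit.ι P i x) = colimit.ι M i x := fun i x => by
    have := ConcreteCategory.congr_hom (colimit.ι_post M (forget AddCommGrpCat.{v}) i) x
    exact this
  let S : AddSubgroup (colimit M : AddCommGrpCat.{v}) :=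
    { carrier := {y | ∃ i, ∃ x : M.obj i, colimit.ι M i x = y}
      zero_mem' := ⟨Classical.arbitrary I, 0, map_zero _⟩
      neg_mem' := by
        rintro _ ⟨i, x, rfl⟩
        exact ⟨i, -x, map_neg _ _⟩
      add_mem' := by
        rintro _ _ ⟨i, x, rfl⟩ ⟨j, y, rfl⟩
        obtain ⟨z, a, b, -⟩ := hI i j
        refine ⟨z, M.map a x + M.map b y, ?_⟩
        rw [map_add, colimit.w_apply M a x, colimit.w_apply M b y] }
  have key : AddCommGrpCat.ofHom (QuotientAddGroup.mk' S) = (0 : colimit M ⟶ _) := by
    apply colimit.hom_ext
    intro i
    rw [Limits.comp_zero]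
    ext x
    exact (QuotientAddGroup.eq_zero_iff _).2 ⟨i, x, rfl⟩
  intro y
  have hy : (y : (colimit M : AddCommGrpCat.{v})) ∈ S :=
    (QuotientAddGroup.eq_zero_iff y).1 (ConcreteCategory.congr_hom key y)
  obtain ⟨i, x, hx⟩ := hy
  exact ⟨colimit.ι P i x, (hg i x).trans hx⟩

end Groth.Agent.S6426
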