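import Groth.Statements.S6427


set_option autoImplicit false
open CategoryTheory CategoryTheory.Limits
universe v
open CatLim

namespace Groth.Agent.S6427

lemma eq_iff {I : Type v} [SmallCategory I]
    (hI : ∀ ⦃x y z : I⦄ (f : x ⟶ y) (g : x ⟶ z), ∃ (w : I) (f' : y ⟶ w) (g' : z ⟶ w), f ≫ f' = g ≫ g')
    (N : I ⥤ Type v) {i j : I} {a : N.obj i} {b : N.obj j}
    (h : colimit.ι N i a = colimit.ι N j b) :
    ∃ (k : I) (f : i ⟶ k) (g : j ⟶ k), N.map f a = N.map g b := by
  have h' := Types.colimit_eq h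
  generalize hp : (⟨i, a⟩ : Σ x, N.obj x) = P₀ at h'
  generalize hq : (⟨j, b⟩ : Σ x, N.obj x) = Q₀ at h'
  let R : (Σ x, N.obj x) → (Σ x, N.obj x) → Prop := fun p q =>
    ∃ (k : I) (f : p.1 ⟶ k) (g : q.1 ⟶ k), N.map f p.2 = N.map g q.2
  suffices R P₀ Q₀ by subst hp hq; exact this
  clear hp hq
  induction h' with
  | rel p q hpq =>
    obtain ⟨f, hf⟩ := hpq
    exact ⟨q.1, f, 𝟙 _, by rw [N.map_id]; exact hf.symm⟩
  | refl p => exact ⟨p.1, 𝟙 _, 𝟙 _, rfl⟩
  | symm p q _ ih =>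
    obtain ⟨k, f, g, e⟩ := ih
    exact ⟨k, g, f, e.symm⟩
  | trans p q r _ _ ih1 ih2 =>
    obtain ⟨k, f, g, e⟩ := ih1
    obtain ⟨k', f', g', e'⟩ := ih2
    obtain ⟨w, u, u', hu⟩ := hI g f'
    refine ⟨w, f ≫ u, g' ≫ u', ?_⟩
    rw [N.map_comp_apply, e, ← N.map_comp_apply, hu, N.map_comp_apply, e', ← N.map_comp_apply]


/-- Over an index category in which every pair of morphisms with common source can be completed to a
commutative square, colimits of sets preserve injective morphisms of diagrams. -/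
theorem result {I : Type v} [SmallCategory I]
    (hI : ∀ ⦃x y z : I⦄ (f : x ⟶ y) (g : x ⟶ z), ∃ (w : I) (f' : y ⟶ w) (g' : z ⟶ w), f ≫ f' = g ≫ g')
    {M N : I ⥤ Type v} (φ : M ⟶ N) (hφ : ∀ i, Function.Injective (φ.app i)) :
    Function.Injective (colimMap φ) := by
  intro u w huw
  obtain ⟨i, a, rfl⟩ := Types.jointly_surjective' u
  obtain ⟨j, b, rfl⟩ := Types.jointly_surjective' w
  simp only [← ConcreteCategory.comp_apply, ι_colimMap] at huw
  simp only [ConcreteCategory.comp_apply] at huw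
  obtain ⟨k, f, g, hfg⟩ := eq_iff hI N huw
  rw [← NatTrans.naturality_apply φ f, ← NatTrans.naturality_apply φ g] at hfg
  rw [← colimit.w_apply M f a, ← colimit.w_apply M g b, hφ k hfg]

end Groth.Agent.S6427
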