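import Groth.Statements.S6428
import Mathlib.CategoryTheory.Limits.Final


set_option autoImplicit false
open CategoryTheory CategoryTheory.Limits
universe v₁ u₁ v₂ u₂ v₃ u₃
open CatLim

namespace Groth.Agent.S6428

/-- If `F : I ⥤ I'` has connected fibre categories and is surjective on morphisms, then for every
diagram `M : I' ⥤ C` the colimit of `F ⋙ M` exists if and only if that of `M` does, and the
canonical comparison between them is then an isomorphism. -/
theorem result {I : Type u₁} [Category.{v₁} I] {I' : Type u₂} [Category.{v₂} I'] {C : Type u₃} [Category.{v₃} C] (F : I ⥤ I')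
    (h1 : ∀ x' : I', IsConnected (F.Fiber x'))
    (h2 : ∀ ⦃x' y' : I'⦄ (α' : x' ⟶ y'), ∃ (x y : I) (hx : F.obj x = x') (hy : F.obj y = y') (α : x ⟶ y), F.map α = eqToHom hx ≫ α' ≫ eqToHom hy.symm)
    (M : I' ⥤ C) :
    (HasColimit (F ⋙ M) ↔ HasColimit M) ∧ ∀ [HasColimit (F ⋙ M)] [HasColimit M], IsIso (colimit.pre M F) := by
  haveI : F.Final := by
    refine ⟨fun d => ?_⟩
    haveI := h1 d
    obtain ⟨⟨x₁, hx₁⟩⟩ := (h1 d).is_nonempty
    let mk0 : F.Fiber d → StructuredArrow d F := fun p =>
      StructuredArrow.mk (Y := p.1) (eqToHom p.2.symm)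
    haveI : Nonempty (StructuredArrow d F) := ⟨mk0 ⟨x₁, hx₁⟩⟩
    have hfib : ∀ p q : F.Fiber d, Zigzag (mk0 p) (mk0 q) := by
      intro p q
      let G : F.Fiber d ⥤ StructuredArrow d F :=
        { obj := mk0
          map := fun {p q} g => StructuredArrow.homMk g.1 (by
            have := g.2
            simp [mk0, CategoryTheory.IsHomLift.fac' F (𝟙 d) g.1]) }
      exact zigzag_obj_of_zigzag G (isPreconnected_zigzag p q)
    apply zigzag_isConnected
    suffices ∀ s : StructuredArrow d F, Zigzag (mk0 ⟨x₁, hx₁⟩) s from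
      fun s t => (this s).symm.trans (this t)
    intro s
    obtain ⟨x, y, hx, hy, α, hα⟩ := h2 s.hom
    refine (hfib ⟨x₁, hx₁⟩ ⟨x, hx⟩).trans ?_
    refine Zigzag.trans (j₂ := StructuredArrow.mk (Y := y) (s.hom ≫ eqToHom hy.symm)) ?_ ?_
    · exact Zigzag.of_hom (StructuredArrow.homMk α (by simp [mk0, hα]))
    · haveI := h1 (F.obj s.right)
      let G : F.Fiber (F.obj s.right) ⥤ StructuredArrow d F :=
        { obj := fun p => StructuredArrow.mk (Y := p.1) (s.hom ≫ eqToHom p.2.symm)
          map := fun {p q} g => StructuredArrow.homMk g.1 (by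
            have := g.2
            simp [CategoryTheory.IsHomLift.fac' F (𝟙 (F.obj s.right)) g.1]) }
      have h3 := zigzag_obj_of_zigzag G
        (isPreconnected_zigzag (Functor.Fiber.mk hy) (Functor.Fiber.mk (rfl : F.obj s.right = _)))
      refine h3.trans (Zigzag.of_hom (StructuredArrow.homMk (𝟙 _) ?_))
      simp only [G, Functor.Fiber.mk, eqToHom_refl, Category.comp_id]
      change (s.hom ≫ 𝟙 (F.obj s.right)) ≫ F.map (𝟙 s.right) = s.hom
      simp
  refine ⟨Functor.Final.hasColimit_comp_iff F, fun {_} {_} => ?_⟩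
  infer_instance

end Groth.Agent.S6428
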