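import Groth.Statements.S6430
import Groth.Agent.FibC.Basic

set_option autoImplicit false
open CategoryTheory
universe v₂ u₂ v u
open FibCat

namespace Groth.Agent.S6430

/-- For a fibred category `p : 𝒮 ⥤ C`, the wide subcategory of `𝒮` on the strongly cartesian morphisms
is fibred in groupoids over `C`. -/
theorem result {C : Type u} [Category.{v} C] {𝒮 : Type u₂} [Category.{v₂} 𝒮] (p : 𝒮 ⥤ C) [p.IsFibered] :
    FibCat.IsFibGrpd (FibCat.cartSubProj p) := by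
  constructor
  · intro x R f
    change R ⟶ p.obj x.obj at f
    obtain ⟨y, φ, hφ⟩ := Groth.Agent.FibC.exists_sc_lift (p := p) (x := x.obj) rfl f
    have hmem : p.IsStronglyCartesian (p.map φ) φ :=
      (Groth.Agent.FibC.isStronglyCartesian_self_iff f φ).1 hφ
    let ψ : (⟨y⟩ : FibCat.cartSub p) ⟶ x := ⟨φ, hmem⟩
    obtain ⟨ha, hb, e⟩ := (Groth.Agent.FibC.isHomLift_map_iff f φ).1 hφ.toIsHomLift
    exact ⟨⟨y⟩, ψ, IsHomLift.of_fac (FibCat.cartSubProj p) f ψ ha hb e⟩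
  · intro y x φ
    have hφ : p.IsStronglyCartesian (p.map φ.hom) φ.hom := φ.property
    refine @Functor.IsStronglyCartesian.mk _ _ _ _ _ _ _ _ _ _ φ inferInstance ?_
    intro z g ψ hψ
    have e : g ≫ p.map φ.hom = p.map ψ.hom :=
      IsHomLift.eq_of_isHomLift (FibCat.cartSubProj p) (g ≫ (FibCat.cartSubProj p).map φ) ψ
    have hψ' : p.IsStronglyCartesian (p.map ψ.hom) ψ.hom := ψ.property
    have : p.IsHomLift (p.map ψ.hom) ψ.hom := IsHomLift.map p ψ.hom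
    obtain ⟨χ, ⟨hχ, hχ'⟩, hu⟩ := @Functor.IsStronglyCartesian.universal_property _ _ _ _ p _ _ _ _ (p.map φ.hom) φ.hom hφ _ _ g (p.map ψ.hom) e.symm ψ.hom this
    have hc : p.IsStronglyCartesian (g ≫ p.map φ.hom) (χ ≫ φ.hom) := by
      rw [e, hχ']; exact hψ'
    have hχc : p.IsStronglyCartesian g χ := @Functor.IsStronglyCartesian.of_comp _ _ _ _ p _ _ _ _ _ _ g (p.map φ.hom) χ φ.hom hφ hc hχ
    let χ' : z ⟶ y := ⟨χ, (Groth.Agent.FibC.isStronglyCartesian_self_iff g χ).1 hχc⟩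
    refine ⟨χ', ⟨?_, WideSubcategory.hom_ext _ hχ'⟩, ?_⟩
    · obtain ⟨ha, hb, e'⟩ := (Groth.Agent.FibC.isHomLift_map_iff g χ).1 hχ
      exact IsHomLift.of_fac (FibCat.cartSubProj p) g χ' ha hb e'
    · rintro ω ⟨hω, hω'⟩
      refine WideSubcategory.hom_ext _ (hu ω.hom ⟨?_, congrArg (fun t => InducedWideCategory.Hom.hom t) hω'⟩)
      obtain ⟨ha, hb, e'⟩ := (Groth.Agent.FibC.isHomLift_map_iff g ω).1 hω
      exact IsHomLift.of_fac p g ω.hom ha hb e'

end Groth.Agent.S6430
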