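import Groth.Statements.S6433


set_option autoImplicit false
open CategoryTheory
universe v u v' u'
open CatLoc

namespace Groth.Agent.S6433

lemma common {C : Type u} [Category.{v} C] (W : MorphismProperty C) [W.HasLeftCalculusOfFractions]
    {ι : Type} (t : Finset ι) {Y : C} (Z : ι → C) (σ : ∀ i, Y ⟶ Z i) (hσ : ∀ i, W (σ i)) :
    ∃ (Y' : C) (s : Y ⟶ Y') (_ : W s), ∀ i ∈ t, ∃ k : Z i ⟶ Y', σ i ≫ k = s := by
  classical
  induction t using Finset.induction with
  | empty => exact ⟨Y, 𝟙 Y, W.id_mem Y, by simp⟩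
  | insert a t ha ih =>
    obtain ⟨Y', s, hs, hk⟩ := ih
    obtain ⟨ψ, hψ⟩ := (MorphismProperty.RightFraction.mk s hs (σ a)).exists_leftFraction
    simp only at hψ
    refine ⟨_, σ a ≫ ψ.s, W.comp_mem _ _ (hσ a) ψ.hs, ?_⟩
    intro i hi
    rcases Finset.mem_insert.1 hi with rfl | hi
    · exact ⟨ψ.s, rfl⟩
    · obtain ⟨k, hk⟩ := hk i hi
      exact ⟨k ≫ ψ.f, by rw [← Category.assoc, hk, hψ]⟩

lemma exists_den {C : Type u} [Category.{v} C] {D : Type u'} [Category.{v'} D] (W : MorphismProperty C) (L : C ⥤ D) [L.IsLocalization W] [W.HasLeftCalculusOfFractions]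
    {ι : Type} [Fintype ι] (X : ι → C) (Y : C) (g : ∀ i, L.obj (X i) ⟶ L.obj Y) :
    ∃ (Y' : C) (s : Y ⟶ Y') (_ : W s) (f : ∀ i, X i ⟶ Y'), ∀ i, g i ≫ L.map s = L.map (f i) := by
  choose φ hφ using fun i => Localization.exists_leftFraction L W (g i)
  obtain ⟨Y', s, hs, hk⟩ := common W Finset.univ (fun i => (φ i).Y') (fun i => (φ i).s) (fun i => (φ i).hs)
  choose k hk using fun i => hk i (Finset.mem_univ i)
  refine ⟨Y', s, hs, fun i => (φ i).f ≫ k i, fun i => ?_⟩
  rw [hφ i, ← hk i, L.map_comp, L.map_comp, MorphismProperty.LeftFraction.map_comp_map_s_assoc]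


/-- For a left multiplicative system `W` and a localization functor `L`, any finite family of morphisms
`L X_i ⟶ L Y` admits a common denominator: some `s : Y ⟶ Y'` in `W` and morphisms `f_i : X_i ⟶ Y'`
with `g_i = L(s)⁻¹ L(f_i)`. -/
theorem result {C : Type u} [Category.{v} C] {D : Type u'} [Category.{v'} D] (W : MorphismProperty C) (L : C ⥤ D) [L.IsLocalization W] [W.HasLeftCalculusOfFractions]
    {ι : Type} [Finite ι] (X : ι → C) (Y : C) (g : ∀ i, L.obj (X i) ⟶ L.obj Y) :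
    ∃ (Y' : C) (s : Y ⟶ Y') (_ : W s) (f : ∀ i, X i ⟶ Y'), ∀ i, g i ≫ L.map s = L.map (f i) := by
  have := Fintype.ofFinite ι
  exact exists_den W L X Y g

end Groth.Agent.S6433
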