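import Groth.Statements.S6434
import Groth.Agent.S6433
import Mathlib.Data.Fintype.Sigma
import Mathlib.CategoryTheory.Localization.CalculusOfFractions.Fractions

set_option autoImplicit false
open CategoryTheory
universe v u v' u'
open CatLoc

namespace Groth.Agent.S6434

open Limits in
lemma equalize {C : Type u} [Category.{v} C] {D : Type u'} [Category.{v'} D] (W : MorphismProperty C) (L : C ⥤ D) [L.IsLocalization W] [W.HasLeftCalculusOfFractions]
    {ι : Type} (t : Finset ι) {Y : C} (X : ι → C) (a b : ∀ i, X i ⟶ Y) (h : ∀ i, L.map (a i) = L.map (b i)) :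
    ∃ (Y' : C) (s : Y ⟶ Y') (_ : W s), ∀ i ∈ t, a i ≫ s = b i ≫ s := by
  classical
  induction t using Finset.induction with
  | empty => exact ⟨Y, 𝟙 Y, W.id_mem Y, by simp⟩
  | insert c t hc ih =>
    obtain ⟨Y', s, hs, hk⟩ := ih
    obtain ⟨Z, v, hv, e⟩ := (MorphismProperty.map_eq_iff_postcomp L W (a c ≫ s) (b c ≫ s)).1
      (by rw [L.map_comp, L.map_comp, h])
    refine ⟨Z, s ≫ v, W.comp_mem _ _ hs hv, ?_⟩
    intro i hi
    rcases Finset.mem_insert.1 hi with rfl | hi
    · simpa using e
    · rw [reassoc_of% (hk i hi)]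

open Limits in
lemma preservesColimit {C : Type u} [Category.{v} C] {D : Type u'} [Category.{v'} D] (W : MorphismProperty C) (L : C ⥤ D) [L.IsLocalization W] [W.HasLeftCalculusOfFractions]
    {J : Type} [SmallCategory J] [FinCategory J] (K : J ⥤ C) : PreservesColimit K L := by
  constructor
  intro c hc
  have hinv := Localization.inverts L W
  have key : ∀ cD : Cocone (K ⋙ L), ∃! m : L.obj c.pt ⟶ cD.pt, ∀ j, L.map (c.ι.app j) ≫ m = cD.ι.app j := by
    intro cD
    have := Localization.essSurj L W
    obtain ⟨Y, ⟨e⟩⟩ : ∃ Y : C, Nonempty (L.obj Y ≅ cD.pt) := ⟨_, ⟨L.objObjPreimageIso cD.pt⟩⟩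
    have existsm : ∃ m : L.obj c.pt ⟶ L.obj Y, ∀ j, L.map (c.ι.app j) ≫ m = cD.ι.app j ≫ e.inv := by
      obtain ⟨Y', s, hs, f, hf⟩ := Groth.Agent.S6433.exists_den W L K.obj Y (fun j => cD.ι.app j ≫ e.inv)
      have := hinv s hs
      obtain ⟨Z, v, hv, hv'⟩ := equalize W L (Finset.univ : Finset (Σ a b : J, a ⟶ b))
        (fun t => K.obj t.1) (fun t => K.map t.2.2 ≫ f t.2.1) (fun t => f t.1) (fun t => by
          rw [L.map_comp, ← hf, ← hf, ← Category.assoc]
          congr 1
          rw [← Category.assoc]
          congr 1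
          exact cD.w t.2.2)
      let cC : Cocone K :=
        { pt := Z
          ι :=
            { app := fun j => f j ≫ v
              naturality := fun a b φ => by
                simpa using hv' ⟨a, b, φ⟩ (Finset.mem_univ _) } }
      have := hinv v hv
      have : IsIso (L.map (s ≫ v)) := by rw [L.map_comp]; infer_instance
      refine ⟨L.map (hc.desc cC) ≫ inv (L.map (s ≫ v)), fun j => ?_⟩
      rw [← Category.assoc, ← L.map_comp, hc.fac cC j, IsIso.comp_inv_eq]
      simp only [L.map_comp, ← Category.assoc]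
      simp only [cC, L.map_comp]
      exact congrArg (· ≫ L.map v) (hf j).symm
    have uniq : ∀ m m' : L.obj c.pt ⟶ L.obj Y,
        (∀ j, L.map (c.ι.app j) ≫ m = L.map (c.ι.app j) ≫ m') → m = m' := by
      intro m m' h
      obtain ⟨φ, h1, h2⟩ := Localization.exists_leftFraction₂ L W m m'
      obtain ⟨Z, v, hv, hv'⟩ := equalize W L (Finset.univ : Finset J) K.obj
        (fun j => c.ι.app j ≫ φ.f) (fun j => c.ι.app j ≫ φ.f') (fun j => by
          have e1 : m ≫ L.map φ.s = L.map φ.f := by
            rw [h1]; exact MorphismProperty.LeftFraction.map_comp_map_s φ.fst L hinv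
          have e2 : m' ≫ L.map φ.s = L.map φ.f' := by
            rw [h2]; exact MorphismProperty.LeftFraction.map_comp_map_s φ.snd L hinv
          rw [L.map_comp, L.map_comp, ← e1, ← e2, reassoc_of% (h j)])
      have e : φ.f ≫ v = φ.f' ≫ v := hc.hom_ext fun j => by
        simpa using hv' j (Finset.mem_univ _)
      have := hinv φ.s φ.hs
      have := hinv v hv
      rw [← cancel_mono (L.map φ.s), h1, h2]
      rw [← cancel_mono (L.map v)]
      erw [MorphismProperty.LeftFraction.map_comp_map_s, MorphismProperty.LeftFraction.map_comp_map_s]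
      exact (L.map_comp _ _).symm.trans ((congrArg L.map e).trans (L.map_comp _ _))
    obtain ⟨m, hm⟩ := existsm
    refine ⟨m ≫ e.hom, fun j => by simp [reassoc_of% (hm j)], fun m' hm' => ?_⟩
    have := uniq (m' ≫ e.inv) m (fun j => by rw [hm, ← hm' j, Category.assoc])
    rw [← this]; simp
  exact ⟨{
    desc := fun cD => (key cD).choose
    fac := fun cD j => (key cD).choose_spec.1 j
    uniq := fun cD m hm => (key cD).choose_spec.2 m hm }⟩


/-- The localization functor at a left multiplicative system commutes with finite colimits. -/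
theorem result {C : Type u} [Category.{v} C] {D : Type u'} [Category.{v'} D] (W : MorphismProperty C) (L : C ⥤ D) [L.IsLocalization W] [W.HasLeftCalculusOfFractions] :
    Limits.PreservesFiniteColimits L := by
  exact ⟨fun J _ _ => ⟨fun {K} => preservesColimit W L K⟩⟩

end Groth.Agent.S6434
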