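import Groth.Statements.S6435


set_option autoImplicit false
open CategoryTheory
universe v u v' u'
open CatLoc

namespace Groth.Agent.S6435

/-- For a multiplicative system `W` (left and right calculus of fractions) with localization functor
`L`, a morphism `f` becomes an isomorphism under `L` if and only if `g ∘ f ∈ W` and `f ∘ h ∈ W` for
some `g, h`. -/
theorem result {C : Type u} [Category.{v} C] {D : Type u'} [Category.{v'} D] (W : MorphismProperty C) (L : C ⥤ D) [L.IsLocalization W] [W.HasLeftCalculusOfFractions] [W.HasRightCalculusOfFractions]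
    {X Y : C} (f : X ⟶ Y) :
    IsIso (L.map f) ↔ ∃ (Z Z' : C) (g : Y ⟶ Z) (h : Z' ⟶ X), W (f ≫ g) ∧ W (h ≫ f) := by
  have hinv := Localization.inverts L W
  constructor
  · intro hf
    obtain ⟨φ, hφ⟩ := Localization.exists_leftFraction L W (inv (L.map f))
    obtain ⟨ψ, hψ⟩ := Localization.exists_rightFraction L W (inv (L.map f))
    have h1 : inv (L.map f) ≫ L.map φ.s = L.map φ.f := by rw [hφ]; simp
    have h2 : L.map ψ.s ≫ inv (L.map f) = L.map ψ.f := by rw [hψ]; simp
    obtain ⟨Z, v, hv, ev⟩ := (MorphismProperty.map_eq_iff_postcomp L W (f ≫ φ.f) φ.s).1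
      (by rw [L.map_comp, ← h1, IsIso.hom_inv_id_assoc])
    obtain ⟨Z', u, hu, eu⟩ := (MorphismProperty.map_eq_iff_precomp L W (ψ.f ≫ f) ψ.s).1
      (by rw [L.map_comp, ← h2, Category.assoc, IsIso.inv_hom_id, Category.comp_id])
    refine ⟨Z, Z', φ.f ≫ v, u ≫ ψ.f, ?_, ?_⟩
    · rw [← Category.assoc, ev]; exact W.comp_mem _ _ φ.hs hv
    · rw [Category.assoc, eu]; exact W.comp_mem _ _ hu ψ.hs
  · rintro ⟨Z, Z', g, h, hg, hh⟩
    have i1 := hinv _ hg
    have i2 := hinv _ hh
    rw [L.map_comp] at i1 i2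
    have : IsSplitMono (L.map f) := IsSplitMono.mk' ⟨L.map g ≫ inv (L.map f ≫ L.map g),
      by rw [← Category.assoc, IsIso.hom_inv_id]⟩
    have : IsSplitEpi (L.map f) := IsSplitEpi.mk' ⟨inv (L.map h ≫ L.map f) ≫ L.map h,
      by rw [Category.assoc, IsIso.inv_hom_id]⟩
    exact isIso_of_mono_of_isSplitEpi _

end Groth.Agent.S6435
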