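import Groth.Statements.S6437
import Groth.Agent.S12219
import Groth.Agent.S6427
import Mathlib.Data.Fintype.Sigma
import Mathlib.CategoryTheory.Limits.ConcreteCategory.Basic

set_option autoImplicit false
open CategoryTheory CategoryTheory.Limits
universe v
open CatLim

namespace Groth.Agent.S6437

lemma coeq {I : Type v} [SmallCategory I]
    (h1 : ∀ ⦃w x y : I⦄ (a : w ⟶ x) (b : w ⟶ y), ∃ (z : I) (c : x ⟶ z) (d : y ⟶ z), a ≫ c = b ≫ d)
    (h2 : ∀ ⦃x y : I⦄ (a b : x ⟶ y), ∃ (z : I) (c : y ⟶ z), a ≫ c = b ≫ c)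
    (N : I ⥤ Type v) {k : I} {a b : N.obj k} (h : colimit.ι N k a = colimit.ι N k b) :
    ∃ (k' : I) (g : k ⟶ k'), N.map g a = N.map g b := by
  obtain ⟨k', f, g, e⟩ := Groth.Agent.S6427.eq_iff h1 N h
  obtain ⟨z, c, hc⟩ := h2 f g
  refine ⟨z, f ≫ c, ?_⟩
  conv_rhs => rw [hc]
  rw [Functor.map_comp_apply, Functor.map_comp_apply, e]

lemma equalize {I : Type v} [SmallCategory I]
    (h1 : ∀ ⦃w x y : I⦄ (a : w ⟶ x) (b : w ⟶ y), ∃ (z : I) (c : x ⟶ z) (d : y ⟶ z), a ≫ c = b ≫ d)
    (k : I) {α : Type} (A : Finset α) (Q : α → ∀ k', (k ⟶ k') → Prop)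
    (hQ : ∀ a k' k'' (u : k ⟶ k') (v : k' ⟶ k''), Q a k' u → Q a k'' (u ≫ v))
    (h : ∀ a ∈ A, ∃ k' u, Q a k' u) : ∃ k' u, ∀ a ∈ A, Q a k' u := by
  classical
  induction A using Finset.induction with
  | empty => exact ⟨k, 𝟙 k, fun a ha => by simp at ha⟩
  | insert a A _ ih =>
    obtain ⟨k₁, u₁, h₁⟩ := ih (fun b hb => h b (Finset.mem_insert_of_mem hb))
    obtain ⟨k₂, u₂, h₂⟩ := h a (Finset.mem_insert_self _ _)
    obtain ⟨z, c, d, hcd⟩ := h1 u₁ u₂
    refine ⟨z, u₁ ≫ c, fun b hb => ?_⟩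
    rcases Finset.mem_insert.1 hb with rfl | hb
    · rw [hcd]; exact hQ _ _ _ _ _ h₂
    · exact hQ _ _ _ _ _ (h₁ b hb)

lemma common {I : Type v} [SmallCategory I]
    (hz : ∀ x y : I, Zigzag x y → ∃ z : I, Nonempty (x ⟶ z) ∧ Nonempty (y ⟶ z))
    (x : I) {α : Type} (A : Finset α) (i : α → I) (h : ∀ a ∈ A, Zigzag x (i a)) :
    ∃ k, ∃ _ : x ⟶ k, ∀ a ∈ A, Nonempty (i a ⟶ k) := by
  classical
  induction A using Finset.induction with
  | empty => exact ⟨x, 𝟙 x, fun a ha => by simp at ha⟩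
  | insert a A _ ih =>
    obtain ⟨k₁, u₁, h₁⟩ := ih (fun b hb => h b (Finset.mem_insert_of_mem hb))
    obtain ⟨z, ⟨c⟩, ⟨d⟩⟩ := hz k₁ (i a)
      ((Zigzag.of_inv u₁).trans (h a (Finset.mem_insert_self _ _)))
    refine ⟨z, u₁ ≫ c, fun b hb => ?_⟩
    rcases Finset.mem_insert.1 hb with rfl | hb
    · exact ⟨d⟩
    · obtain ⟨t⟩ := h₁ b hb; exact ⟨t ≫ c⟩


/-- Over an index category in which spans can be completed to commutative squares and parallel pairs can
be coequalized (a disjoint union of filtered categories), colimits of sets commute with finite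
connected limits. -/
theorem result {I : Type v} [SmallCategory I]
    (h1 : ∀ ⦃w x y : I⦄ (a : w ⟶ x) (b : w ⟶ y), ∃ (z : I) (c : x ⟶ z) (d : y ⟶ z), a ≫ c = b ≫ d)
    (h2 : ∀ ⦃x y : I⦄ (a b : x ⟶ y), ∃ (z : I) (c : y ⟶ z), a ≫ c = b ≫ c)
    (J : Type) [SmallCategory J] [FinCategory J] [IsConnected J] :
    PreservesLimitsOfShape J (colim : (I ⥤ Type v) ⥤ Type v) := by
  have hz : ∀ x y : I, Zigzag x y → ∃ z : I, Nonempty (x ⟶ z) ∧ Nonempty (y ⟶ z) :=
    fun x y => (Groth.Agent.S12219.result h1 x y).1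
  refine ⟨fun {K} => preservesLimit_of_preserves_limit_cone (limit.isLimit K) ?_⟩
  apply Classical.choice
  rw [Types.isLimit_iff]
  intro s hs
  let L : J → I ⥤ Type v := fun j => K.obj j
  show ∃! x, ∀ j, colimMap (limit.π K j) x = s j
  choose i a ha using fun j => Types.jointly_surjective' (F := L j) (s j)
  have hrel : ∀ {j j' : J} (f : j ⟶ j'),
      colimit.ι (L j') (i j) ((K.map f).app (i j) (a j)) = colimit.ι (L j') (i j') (a j') := by
    intro j j' f
    have e1 : colimMap (K.map f) (colimit.ι (L j) (i j) (a j)) =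
        colimit.ι (L j') (i j) ((K.map f).app (i j) (a j)) :=
      ConcreteCategory.congr_hom (ι_colimMap (K.map f) (i j)) (a j)
    rw [← e1, ha j, ha j']
    exact hs f
  obtain ⟨j₀⟩ := (inferInstance : Nonempty J)
  have hcon : ∀ j, Zigzag (i j₀) (i j) := fun j => by
    refine induct_on_objects {j | Zigzag (i j₀) (i j)} (j₀ := j₀) (Zigzag.refl _)
      (fun {j₁ j₂} f => ?_) j
    obtain ⟨k, p, q, -⟩ := Groth.Agent.S6427.eq_iff h1 (L j₂) (hrel f)
    have := Zigzag.of_hom_inv p q
    exact ⟨fun h => h.trans this, fun h => h.trans this.symm⟩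
  obtain ⟨k, p₀, hk⟩ := common hz (i j₀) Finset.univ i (fun j _ => hcon j)
  let p : ∀ j, i j ⟶ k := fun j => (hk j (Finset.mem_univ j)).some
  let b : ∀ j, (L j).obj k := fun j => (L j).map (p j) (a j)
  have hb : ∀ j, colimit.ι (L j) k (b j) = s j := fun j =>
    (colimit.w_apply (L j) (p j) (a j)).trans (ha j)
  obtain ⟨k₁, g, hg⟩ := equalize h1 k (Finset.univ : Finset (Σ x y : J, x ⟶ y))
    (fun w k' u => (L w.2.1).map u ((K.map w.2.2).app k (b w.1)) = (L w.2.1).map u (b w.2.1))
    (fun w k' k'' u v h => by rw [Functor.map_comp_apply, Functor.map_comp_apply, h])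
    (fun w _ => by
      have e1 : colimMap (K.map w.2.2) (colimit.ι (L w.1) k (b w.1)) =
          colimit.ι (L w.2.1) k ((K.map w.2.2).app k (b w.1)) :=
        ConcreteCategory.congr_hom (ι_colimMap (K.map w.2.2) k) (b w.1)
      apply coeq h1 h2 (L w.2.1)
      rw [← e1, hb, hb]
      exact hs w.2.2)
  let c : Cone K :=
    { pt := coyoneda.obj (Opposite.op k₁)
      π :=
        { app := fun j => coyonedaEquiv.symm ((L j).map g (b j))
          naturality := fun j j' f => by
            apply coyonedaEquiv.injective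
            have := hg ⟨j, j', f⟩ (Finset.mem_univ _)
            rw [← NatTrans.naturality_apply] at this
            simpa [coyonedaEquiv, L] using this.symm } }
  let y₀ : (limit K).obj k₁ := coyonedaEquiv (limit.lift K c)
  have hy₀ : ∀ j, (limit.π K j).app k₁ y₀ = (L j).map g (b j) := fun j => by
    have : coyonedaEquiv (limit.lift K c ≫ limit.π K j) = (L j).map g (b j) := by
      rw [limit.lift_π]; exact coyonedaEquiv.apply_symm_apply _
    exact this
  refine ⟨colimit.ι (limit K) k₁ y₀, fun j => ?_, ?_⟩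
  · refine (ConcreteCategory.congr_hom (ι_colimMap (limit.π K j) k₁) y₀).trans ?_
    rw [ConcreteCategory.comp_apply, hy₀]
    exact (colimit.w_apply (L j) g (b j)).trans (hb j)
  · intro y hy
    obtain ⟨i', z, rfl⟩ := Types.jointly_surjective' (F := limit K) y
    have hz' : ∀ j, colimit.ι (L j) i' ((limit.π K j).app i' z) =
        colimit.ι (L j) k₁ ((L j).map g (b j)) := fun j => by
      refine ((ConcreteCategory.congr_hom (ι_colimMap (limit.π K j) i') z).symm.trans
        (hy j)).trans ?_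
      exact ((colimit.w_apply (L j) g (b j)).trans (hb j)).symm
    obtain ⟨k₂, u, v, -⟩ := Groth.Agent.S6427.eq_iff h1 (L j₀) (hz' j₀)
    obtain ⟨k₃, w, hw⟩ := equalize h1 k₂ (Finset.univ : Finset J)
      (fun j k' t => (L j).map t ((L j).map u ((limit.π K j).app i' z)) =
        (L j).map t ((L j).map v ((L j).map g (b j))))
      (fun j k' k'' t t' h => by rw [Functor.map_comp_apply, h, Functor.map_comp_apply])
      (fun j _ => by
        apply coeq h1 h2 (L j)
        rw [colimit.w_apply, colimit.w_apply]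
        exact hz' j)
    have : (limit K).map (u ≫ w) z = (limit K).map (v ≫ w) y₀ := by
      apply Concrete.isLimit_ext _
        (isLimitOfPreserves ((evaluation I (Type v)).obj k₃) (limit.isLimit K))
      intro j
      show (limit.π K j).app k₃ ((limit K).map (u ≫ w) z) =
        (limit.π K j).app k₃ ((limit K).map (v ≫ w) y₀)
      rw [NatTrans.naturality_apply, NatTrans.naturality_apply, hy₀, Functor.map_comp_apply,
        Functor.map_comp_apply]
      exact hw j (Finset.mem_univ j)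
    rw [← colimit.w_apply (limit K) (u ≫ w) z, this]
    exact colimit.w_apply (limit K) (v ≫ w) y₀

end Groth.Agent.S6437
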