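import Groth.Statements.S6438
import Mathlib.CategoryTheory.Limits.Shapes.FiniteMultiequalizer
import Mathlib.CategoryTheory.Limits.IsConnected
import Mathlib.Data.Fintype.Card
import Mathlib.Data.Finite.Defs
open CategoryTheory.Limits

set_option autoImplicit false
open CategoryTheory
universe v u
open CatLim

namespace Groth.Agent.S6438

lemma aux1 {I : Type u} [Category.{v} I] {a b d : I} (p : a = b) (q : b = a) (f : a ⟶ d) :
    eqToHom p ≫ eqToHom q ≫ f = f := by subst p; simp

lemma aux2 {I : Type u} [Category.{v} I] {x a b d : I} (m : x ⟶ a) (p : a = b) (q : b = a)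
    (f : a ⟶ d) : (m ≫ eqToHom p) ≫ eqToHom q ≫ f = m ≫ f := by subst p; simp

/-- A category with finitely many objects whose morphisms are generated under composition by finitely
many of them receives a functor from a finite category which is both final and initial, the finite
category being connected (resp. nonempty) exactly when the given one is. (The published statement
says that limits and colimits of every diagram are computed after restriction along the functor;
this is expressed here through finality and initiality.) -/
theorem result {I : Type u} [Category.{v} I] [Finite I]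
    (gen : Finset (Σ x y : I, x ⟶ y))
    (hgen : ∀ P : MorphismProperty I, P.IsMultiplicative → (∀ a ∈ gen, P a.2.2) → P = ⊤) :
    ∃ (J : Type) (_ : SmallCategory J) (_ : FinCategory J) (F : J ⥤ I),
      F.Final ∧ F.Initial ∧ (IsConnected J ↔ IsConnected I) ∧ (Nonempty J ↔ Nonempty I) := by
  classical
  obtain ⟨n, ⟨e⟩⟩ := Finite.exists_equiv_fin I
  let eg := gen.equivFin
  let S : MultispanShape.{0, 0} :=
    { L := Fin gen.card
      R := Fin n
      fst := fun l => e (eg.symm l).1.1
      snd := fun l => e (eg.symm l).1.2.1 }
  let D : MultispanIndex S I :=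
    { left := fun l => (eg.symm l).1.1
      right := fun i => e.symm i
      fst := fun l => eqToHom (e.symm_apply_apply _).symm
      snd := fun l => (eg.symm l).1.2.2 ≫ eqToHom (e.symm_apply_apply _).symm }
  haveI : Fintype S.L := inferInstanceAs (Fintype (Fin _))
  haveI : Fintype S.R := inferInstanceAs (Fintype (Fin _))
  let F := D.multispan
  haveI hF : F.Final := by
    refine ⟨fun d => ?_⟩
    let r : ∀ (i : Fin n) (φ : d ⟶ e.symm i), StructuredArrow d F :=
      fun i φ => StructuredArrow.mk (Y := (WalkingMultispan.right i : WalkingMultispan S)) φ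
    let P : MorphismProperty I := fun x y m =>
      ∀ (i j : Fin n) (hi : e.symm i = x) (hj : e.symm j = y) (φ : d ⟶ x),
        Zigzag (r i (φ ≫ eqToHom hi.symm)) (r j (φ ≫ m ≫ eqToHom hj.symm))
    have hP : P.IsMultiplicative :=
      { id_mem := fun x i j hi hj φ => by
          obtain rfl : i = j := e.symm.injective (hi.trans hj.symm)
          rw [Category.id_comp]
        comp_mem := fun {x y z} m m' hm hm' i j hi hj φ => by
          have h1 := hm i (e y) hi (e.symm_apply_apply y) φ
          have h2 := hm' (e y) j (e.symm_apply_apply y) hj (φ ≫ m)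
          simp only [Category.assoc] at h1 h2 ⊢
          exact h1.trans h2 }
    have htop := hgen P hP (fun a ha i j hi hj φ => by
      obtain ⟨l, hl⟩ := eg.symm.surjective ⟨a, ha⟩
      obtain rfl : a = (eg.symm l).1 := by rw [hl]
      obtain rfl : i = e (eg.symm l).1.1 := by rw [← hi, e.apply_symm_apply]
      obtain rfl : j = e (eg.symm l).1.2.1 := by rw [← hj, e.apply_symm_apply]
      let mid : StructuredArrow d F := StructuredArrow.mk (Y := (WalkingMultispan.left l : WalkingMultispan S)) φ
      exact (Zigzag.of_inv (StructuredArrow.homMk (f := mid)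
        (f' := r _ (φ ≫ eqToHom hi.symm)) ((WalkingMultispan.Hom.fst (J := S) l)) rfl)).trans
        (Zigzag.of_hom (StructuredArrow.homMk (f := mid)
          (f' := r _ (φ ≫ (eg.symm l).1.2.2 ≫ eqToHom hj.symm))
          ((WalkingMultispan.Hom.snd (J := S) l)) rfl)))
    let base : StructuredArrow d F := r (e d) (eqToHom (e.symm_apply_apply d).symm)
    haveI : Nonempty (StructuredArrow d F) := ⟨base⟩
    apply zigzag_isConnected
    suffices ∀ s, Zigzag base s from fun s t => (this s).symm.trans (this t)
    have hr : ∀ i φ, Zigzag base (r i φ) := fun i φ => by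
      have hm : P φ := by rw [htop]; trivial
      have := hm (e d) i (e.symm_apply_apply d) rfl (𝟙 d)
      simpa [base] using this
    intro s
    obtain ⟨x, φ, rfl⟩ := StructuredArrow.mk_surjective s
    match x with
    | .right i => exact hr i φ
    | .left l =>
      exact (hr _ (φ ≫ eqToHom (e.symm_apply_apply _).symm)).trans
        (Zigzag.of_inv (StructuredArrow.homMk (f := StructuredArrow.mk φ)
          (f' := r _ (φ ≫ eqToHom (e.symm_apply_apply _).symm))
          ((WalkingMultispan.Hom.fst (J := S) l)) rfl))
  haveI hI : F.Initial := by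
    refine ⟨fun d => ?_⟩
    let r : ∀ (i : Fin n) (φ : e.symm i ⟶ d), CostructuredArrow F d :=
      fun i φ => CostructuredArrow.mk (Y := (WalkingMultispan.right i : WalkingMultispan S)) φ
    let P : MorphismProperty I := fun x y m =>
      ∀ (i j : Fin n) (hi : e.symm i = x) (hj : e.symm j = y) (φ : y ⟶ d),
        Zigzag (r i (eqToHom hi ≫ m ≫ φ)) (r j (eqToHom hj ≫ φ))
    have hP : P.IsMultiplicative :=
      { id_mem := fun x i j hi hj φ => by
          obtain rfl : i = j := e.symm.injective (hi.trans hj.symm)
          rw [Category.id_comp]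
        comp_mem := fun {x y z} m m' hm hm' i j hi hj φ => by
          have h1 := hm i (e y) hi (e.symm_apply_apply y) (m' ≫ φ)
          have h2 := hm' (e y) j (e.symm_apply_apply y) hj φ
          simp only [Category.assoc] at h1 h2 ⊢
          exact h1.trans h2 }
    have htop := hgen P hP (fun a ha i j hi hj φ => by
      obtain ⟨l, hl⟩ := eg.symm.surjective ⟨a, ha⟩
      obtain rfl : a = (eg.symm l).1 := by rw [hl]
      obtain rfl : i = e (eg.symm l).1.1 := by rw [← hi, e.apply_symm_apply]
      obtain rfl : j = e (eg.symm l).1.2.1 := by rw [← hj, e.apply_symm_apply]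
      let mid : CostructuredArrow F d :=
        CostructuredArrow.mk (Y := (WalkingMultispan.left l : WalkingMultispan S)) ((eg.symm l).1.2.2 ≫ φ)
      exact (Zigzag.of_inv (CostructuredArrow.homMk (f := mid)
        (f' := r _ (eqToHom hi ≫ (eg.symm l).1.2.2 ≫ φ)) ((WalkingMultispan.Hom.fst (J := S) l))
          (aux1 (e.symm_apply_apply _).symm hi ((eg.symm l).1.2.2 ≫ φ)))).trans
        (Zigzag.of_hom (CostructuredArrow.homMk (f := mid)
          (f' := r _ (eqToHom hj ≫ φ))
          ((WalkingMultispan.Hom.snd (J := S) l))
          (aux2 (eg.symm l).1.2.2 (e.symm_apply_apply _).symm hj φ))))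
    let base : CostructuredArrow F d := r (e d) (eqToHom (e.symm_apply_apply d))
    haveI : Nonempty (CostructuredArrow F d) := ⟨base⟩
    apply zigzag_isConnected
    suffices ∀ s, Zigzag s base from fun s t => (this s).trans (this t).symm
    have hr : ∀ i φ, Zigzag (r i φ) base := fun i φ => by
      have hm : P φ := by rw [htop]; trivial
      have := hm i (e d) rfl (e.symm_apply_apply d) (𝟙 d)
      simpa [base] using this
    intro s
    obtain ⟨x, φ, rfl⟩ := CostructuredArrow.mk_surjective s
    match x with
    | .right i => exact hr i φ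
    | .left l =>
      exact (Zigzag.of_hom (CostructuredArrow.homMk (f := CostructuredArrow.mk φ)
        (f' := r _ (eqToHom (e.symm_apply_apply _) ≫ φ))
        ((WalkingMultispan.Hom.fst (J := S) l))
        (aux1 (e.symm_apply_apply _).symm (e.symm_apply_apply _) φ))).trans (hr _ _)
  refine ⟨WalkingMultispan S, inferInstance, inferInstance, F, hF, hI,
    CategoryTheory.Functor.isConnected_iff_of_final F, ⟨fun ⟨j⟩ => ⟨F.obj j⟩, fun ⟨x⟩ => ⟨.right (e x)⟩⟩⟩

end Groth.Agent.S6438
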