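import Groth.Statements.S6439
import Groth.Agent.FibC.Rep

set_option autoImplicit false
set_option backward.isDefEq.respectTransparency false
set_option backward.isDefEq.respectTransparency.types false
open CategoryTheory
universe v u
open FibCat

namespace Groth.Agent.S6439

section
open Bicategory
universe wB vB uB
variable {B : Type uB} [Bicategory.{wB, vB} B]

def precompComp {a b d : B} (c : B) (f : a ⟶ b) (g : b ⟶ d) :
    precomp c g ⋙ precomp c f ≅ precomp c (f ≫ g) :=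
  NatIso.ofComponents (fun X => (α_ f g X).symm) (fun {X Y} m => by simp [Bicategory.precomp])

def precompId (a c : B) : precomp c (𝟙 a) ≅ 𝟭 _ :=
  NatIso.ofComponents (fun X => λ_ X) (fun {X Y} m => by simp [Bicategory.precomp])

def postcompComp {b d e : B} (a : B) (f : b ⟶ d) (g : d ⟶ e) :
    postcomp a f ⋙ postcomp a g ≅ postcomp a (f ≫ g) :=
  NatIso.ofComponents (fun X => α_ X f g) (fun {X Y} m => by simp [Bicategory.postcomp])

def postcompId (a b : B) : postcomp a (𝟙 b) ≅ 𝟭 _ :=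
  NatIso.ofComponents (fun X => ρ_ X) (fun {X Y} m => by simp [Bicategory.postcomp])

theorem precomp_isEquivalence {a b : B} (c : B) (f : a ⟶ b) (g : b ⟶ a) (η : f ≫ g ≅ 𝟙 a)
    (ε : g ≫ f ≅ 𝟙 b) : (precomp c f).IsEquivalence :=
  Functor.IsEquivalence.mk' (precomp c g)
    ((precompId b c).symm ≪≫ ((precomposing b b c).mapIso ε).symm ≪≫ (precompComp c g f).symm)
    (precompComp c f g ≪≫ (precomposing a a c).mapIso η ≪≫ precompId a c)

theorem postcomp_isEquivalence {b c : B} (a : B) (f : b ⟶ c) (g : c ⟶ b) (η : f ≫ g ≅ 𝟙 b)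
    (ε : g ≫ f ≅ 𝟙 c) : (postcomp a f).IsEquivalence :=
  Functor.IsEquivalence.mk' (postcomp a g)
    ((postcompId a b).symm ≪≫ ((postcomposing a b b).mapIso η).symm ≪≫ (postcompComp a f g).symm)
    (postcompComp a g f ≪≫ (postcomposing a c c).mapIso ε ≪≫ postcompId a c)

end

/-- For categories fibred in groupoids over `C` and equivalences `φ : 𝒮₁ ⟶ 𝒮₂`, `ψ : 𝒮₃ ⟶ 𝒮₄` over `C`,
the functor `α ↦ ψ ∘ α ∘ φ` between the categories of functors over `C` is an equivalence of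
categories. -/
theorem result {C : Type u} [Category.{v} C] {𝒮₁ 𝒮₂ 𝒮₃ 𝒮₄ : BasedCategory.{v, max u v} C}
    (h₁ : FibCat.IsFibGrpd 𝒮₁.p) (h₂ : FibCat.IsFibGrpd 𝒮₂.p) (h₃ : FibCat.IsFibGrpd 𝒮₃.p) (h₄ : FibCat.IsFibGrpd 𝒮₄.p)
    (φ : 𝒮₁ ⟶ 𝒮₂) (ψ : 𝒮₃ ⟶ 𝒮₄) (hφ : FibCat.IsEquivOver φ) (hψ : FibCat.IsEquivOver ψ) :
    (Bicategory.precomp 𝒮₃ φ ⋙ Bicategory.postcomp 𝒮₁ ψ).IsEquivalence := by
  obtain ⟨φ', -, ⟨η⟩, ⟨ε⟩⟩ := Groth.Agent.StFib.isEquivOver_symm hφ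
  obtain ⟨ψ', -, ⟨η'⟩, ⟨ε'⟩⟩ := Groth.Agent.StFib.isEquivOver_symm hψ
  have := precomp_isEquivalence (a := 𝒮₁) (b := 𝒮₂) 𝒮₃ φ φ' η ε
  have := postcomp_isEquivalence (b := 𝒮₃) (c := 𝒮₄) 𝒮₁ ψ ψ' η' ε'
  infer_instance

end Groth.Agent.S6439
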