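import Groth.Statements.S6442
import Mathlib.CategoryTheory.Sites.EpiMono
import Mathlib.CategoryTheory.Sites.LocallyBijective

set_option autoImplicit false
open CategoryTheory CategoryTheory.Limits Opposite
universe u
open SiteMisc

namespace Groth.Agent.S6442

/-- An object `U` of a site is weakly contractible, i.e. for every covering sieve `S` the sheafified map
`(∐_{V → U ∈ S} h_V)^# ⟶ h_U^#` has a section, if and only if taking sections over `U` turns
epimorphisms of sheaves of sets into surjections. (Coverings are taken as covering sieves; the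
coproduct is formed in presheaves and then sheafified.) -/
theorem result {C : Type u} [SmallCategory C] (J : GrothendieckTopology C) (U : C) :
    (∀ S : Sieve U, S ∈ J U →
      IsSplitEpi ((presheafToSheaf J (Type u)).map
        (Sigma.desc (fun i : (Σ V : C, {f : V ⟶ U // S f}) => yoneda.map i.2.1) :
          (∐ fun i : (Σ V : C, {f : V ⟶ U // S f}) => yoneda.obj i.1) ⟶ yoneda.obj U))) ↔
    ∀ (F G : Sheaf J (Type u)) (φ : F ⟶ G), Epi φ → Function.Surjective (φ.hom.app (op U)) := by
  let adj := sheafificationAdjunction J (Type u)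
  constructor
  · intro h F G φ hφ t
    have hφ' : Sheaf.IsLocallySurjective φ := (Sheaf.isLocallySurjective_iff_epi' _ φ).2 hφ
    have hS : Presheaf.imageSieve φ.hom t ∈ J U := Presheaf.imageSieve_mem J φ.hom t
    have := h _ hS
    let c := (presheafToSheaf J (Type u)).map
      (Sigma.desc (fun i : (Σ V : C, {f : V ⟶ U // Presheaf.imageSieve φ.hom t f}) => yoneda.map i.2.1) :
        (∐ fun i : (Σ V : C, {f : V ⟶ U // Presheaf.imageSieve φ.hom t f}) => yoneda.obj i.1) ⟶
          yoneda.obj U)
    let lift : ∀ i : (Σ V : C, {f : V ⟶ U // Presheaf.imageSieve φ.hom t f}), F.obj.obj (op i.1) :=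
      fun i => Presheaf.localPreimage φ.hom t i.2.1 i.2.2
    let ψ := (adj.homEquiv _ F).symm (Sigma.desc fun i => yonedaEquiv.symm (lift i))
    let tt := (adj.homEquiv (yoneda.obj U) G).symm (yonedaEquiv.symm t)
    have hc : c ≫ tt = ψ ≫ φ := by
      apply (adj.homEquiv _ G).injective
      simp only [c, tt, ψ]
      rw [adj.homEquiv_naturality_left, Equiv.apply_symm_apply, adj.homEquiv_naturality_right,
        Equiv.apply_symm_apply]
      refine Sigma.hom_ext _ _ fun i => ?_
      rw [← Category.assoc, Sigma.ι_desc, ← Category.assoc, Sigma.ι_desc]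
      apply yonedaEquiv.injective
      rw [← yonedaEquiv_naturality, Equiv.apply_symm_apply]
      change G.obj.map i.2.1.op t = yonedaEquiv (yonedaEquiv.symm (lift i) ≫ φ.hom)
      rw [yonedaEquiv_comp, Equiv.apply_symm_apply]
      exact (Presheaf.app_localPreimage φ.hom t i.2.1 i.2.2).symm
    let w := (adj.homEquiv (yoneda.obj U) F) (section_ c ≫ ψ)
    refine ⟨yonedaEquiv w, ?_⟩
    have hw : w ≫ φ.hom = yonedaEquiv.symm t := by
      have := adj.homEquiv_naturality_right (section_ c ≫ ψ) φ
      rw [Category.assoc, ← hc, IsSplitEpi.id_assoc] at this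
      simp only [tt, Equiv.apply_symm_apply] at this
      exact this.symm
    rw [← yonedaEquiv_comp, hw, Equiv.apply_symm_apply]
  · intro h S hS
    let p : (∐ fun i : (Σ V : C, {f : V ⟶ U // S f}) => yoneda.obj i.1) ⟶ yoneda.obj U :=
      Sigma.desc (fun i : (Σ V : C, {f : V ⟶ U // S f}) => yoneda.map i.2.1)
    let φ := (presheafToSheaf J (Type u)).map p
    have hp : Presheaf.IsLocallySurjective J p := ⟨fun {V} k => by
      refine J.superset_covering ?_ (J.pullback_stable k hS)
      intro W g hg
      refine ⟨(Sigma.ι (fun i : (Σ V : C, {f : V ⟶ U // S f}) => yoneda.obj i.1)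
        ⟨W, g ≫ k, hg⟩).app (op W) (𝟙 W), ?_⟩
      have := congrArg (fun m => m.app (op W) (𝟙 W)) (Sigma.ι_desc
        (fun i : (Σ V : C, {f : V ⟶ U // S f}) => yoneda.map i.2.1) ⟨W, g ≫ k, hg⟩)
      exact this.trans (Category.id_comp _)⟩
    have : Sheaf.IsLocallySurjective φ := (Presheaf.isLocallySurjective_presheafToSheaf_map_iff J p).2 hp
    have hφ : Epi φ := (Sheaf.isLocallySurjective_iff_epi' _ φ).1 this
    obtain ⟨s, hs⟩ := h _ _ φ hφ
      (yonedaEquiv ((adj.homEquiv (yoneda.obj U) _) (𝟙 _)))
    refine IsSplitEpi.mk' ⟨(adj.homEquiv (yoneda.obj U) _).symm (yonedaEquiv.symm s), ?_⟩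
    apply (adj.homEquiv (yoneda.obj U) _).injective
    rw [adj.homEquiv_naturality_right, Equiv.apply_symm_apply]
    apply yonedaEquiv.injective
    change yonedaEquiv (yonedaEquiv.symm s ≫ φ.hom) = _
    rw [yonedaEquiv_comp, Equiv.apply_symm_apply]
    exact hs

end Groth.Agent.S6442
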