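import Groth.Statements.S6443
import Groth.Agent.FibC.Rep

set_option autoImplicit false
set_option backward.isDefEq.respectTransparency false
set_option backward.isDefEq.respectTransparency.types false
open CategoryTheory
universe v u
open FibCat

namespace Groth.Agent.S6443

/-- If a category `𝒮` fibred in groupoids over `C` is represented by `X` via `j : 𝒮 ⟶ C/X` and by `X'`
via `j' : 𝒮 ⟶ C/X'` (equivalences over `C`), then there is an isomorphism `X' ≅ X` under which `j'`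
becomes 2-isomorphic to `j` over `C`. -/
theorem result {C : Type u} [Category.{v} C] {𝒮 : BasedCategory.{v, max u v} C} (h𝒮 : FibCat.IsFibGrpd 𝒮.p)
    {X X' : C} (j : 𝒮 ⥤ᵇ FibCat.overCat X) (j' : 𝒮 ⥤ᵇ FibCat.overCat X') (hj : FibCat.IsEquivOver j) (hj' : FibCat.IsEquivOver j') :
    ∃ e : X' ≅ X, Nonempty (BasedFunctor.comp j' (⟨Over.map e.hom, Over.mapForget_eq e.hom⟩ : FibCat.overCat X' ⥤ᵇ FibCat.overCat X) ≅ j) := by
  obtain ⟨k', hk', ⟨η'⟩, ⟨ε'⟩⟩ := Groth.Agent.StFib.isEquivOver_symm hj'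
  obtain ⟨k, hk, ⟨η⟩, ⟨ε⟩⟩ := Groth.Agent.StFib.isEquivOver_symm hj
  obtain ⟨h, ⟨a⟩⟩ := Groth.Agent.FibC.exists_iso_overMap (BasedFunctor.comp k' j)
  obtain ⟨h', ⟨a'⟩⟩ := Groth.Agent.FibC.exists_iso_overMap (BasedFunctor.comp k j')
  have key : ∀ {A B : C} (j₁ : 𝒮 ⥤ᵇ FibCat.overCat A) (j₂ : 𝒮 ⥤ᵇ FibCat.overCat B)
      (k₁ : FibCat.overCat A ⥤ᵇ 𝒮) (k₂ : FibCat.overCat B ⥤ᵇ 𝒮) (_ : BasedFunctor.comp j₂ k₂ ≅ BasedFunctor.id 𝒮)
      (_ : BasedFunctor.comp k₁ j₁ ≅ BasedFunctor.id (FibCat.overCat A)) (f : A ⟶ B) (g : B ⟶ A)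
      (_ : BasedFunctor.comp k₁ j₂ ≅ Groth.Agent.FibC.overMap f)
      (_ : BasedFunctor.comp k₂ j₁ ≅ Groth.Agent.FibC.overMap g), f ≫ g = 𝟙 A := by
    intro A B j₁ j₂ k₁ k₂ e₂ e₁ f g af ag
    obtain ⟨c⟩ := Groth.Agent.FibC.overMap_comp f g
    obtain ⟨d⟩ := Groth.Agent.FibC.overMap_id A
    exact Groth.Agent.FibC.eq_of_overMap_iso
      (c.symm ≪≫ Groth.Agent.StFib.isoWhiskerRight af.symm (Groth.Agent.FibC.overMap g) ≪≫
        Groth.Agent.StFib.isoWhiskerLeft (BasedFunctor.comp k₁ j₂) ag.symm ≪≫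
        Groth.Agent.StFib.isoWhiskerLeft k₁ (Groth.Agent.StFib.isoWhiskerRight e₂ j₁) ≪≫ e₁ ≪≫ d.symm)
  refine ⟨⟨h, h', key j' j k' k η ε' h h' a a', key j j' k k' η' ε h' h a' a⟩, ⟨?_⟩⟩
  exact Groth.Agent.StFib.isoWhiskerLeft j' a.symm ≪≫ Groth.Agent.StFib.isoWhiskerRight η' j

end Groth.Agent.S6443
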