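import Groth.Statements.S6446
import Mathlib.CategoryTheory.Limits.Types.Filtered


set_option autoImplicit false
open CategoryTheory CategoryTheory.Limits Opposite
universe v u
open CatLim

namespace Groth.Agent.S6446

/-- (2) ⇒ (1): over a filtered index category, a diagram `M` with a cocone `(X, M_i → X)` inducing
bijections `colim_i Mor(W, M_i) → Mor(W, X)` for all `W` is essentially constant as an ind-object
with value `X`. -/
theorem result {I : Type v} [SmallCategory I] [IsFiltered I] {C : Type u} [Category.{v} C]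
    (M : I ⥤ C) (c : Cocone M)
    (h : ∀ W : C, Function.Bijective (colimit.desc (M ⋙ coyoneda.obj (op W)) ((coyoneda.obj (op W)).mapCocone c))) :
    CatLim.IsEssConstInd M c := by
  let P : C → I ⥤ Type v := fun W => M ⋙ coyoneda.obj (op W)
  have hdesc : ∀ (W : C) (i : I) (g : W ⟶ M.obj i),
      colimit.desc (P W) ((coyoneda.obj (op W)).mapCocone c) (colimit.ι (P W) i g) = g ≫ c.ι.app i :=
    fun W i g =>
      ConcreteCategory.congr_hom (colimit.ι_desc ((coyoneda.obj (op W)).mapCocone c) i) g
  obtain ⟨e, he⟩ := (h c.pt).2 (𝟙 c.pt)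
  obtain ⟨i, s, rfl⟩ := Types.jointly_surjective' e
  rw [hdesc] at he
  refine ⟨i, s, he, fun j => ?_⟩
  have h1 : colimit.ι (P (M.obj j)) i (c.ι.app j ≫ s) = colimit.ι (P (M.obj j)) j (𝟙 (M.obj j)) := by
    apply (h (M.obj j)).1
    rw [hdesc, hdesc, Category.assoc, he]
    erw [Category.comp_id, Category.id_comp]
  obtain ⟨k, a, b, hab⟩ := (Types.FilteredColimit.colimit_eq_iff (P (M.obj j))).1 h1
  exact ⟨k, a, b, by simpa [P] using hab.symm⟩

end Groth.Agent.S6446
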