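import Groth.Statements.S6447
import Mathlib.CategoryTheory.Limits.Shapes.Pullback.Categorical.Basic

set_option autoImplicit false
set_option backward.isDefEq.respectTransparency false
set_option backward.isDefEq.respectTransparency.types false
open CategoryTheory CategoryTheory.Limits
universe v u
open FibCat

namespace Groth.Agent.S6447

open CategoricalPullback in
theorem cart {U X B D : Type*} [Category U] [Category X] [Category B] [Category D]
    (T : U ⥤ X) (L : U ⥤ D) (F : X ⥤ B) (G : D ⥤ B) (e : T ⋙ F ≅ L ⋙ G)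
    (hff : ∀ u u' (f : T.obj u ⟶ T.obj u') (g : L.obj u ⟶ L.obj u'),
      F.map f ≫ e.hom.app u' = e.hom.app u ≫ G.map g → ∃! k, T.map k = f ∧ L.map k = g)
    (hes : ∀ x d (θ : F.obj x ≅ G.obj d), ∃ u, ∃ (a : T.obj u ≅ x) (b : L.obj u ≅ d),
      F.map a.hom ≫ θ.hom = e.hom.app u ≫ G.map b.hom) :
    FibCat.IsTwoCart T L F G e := by
  unfold FibCat.IsTwoCart
  let K := (CatCommSqOver.toFunctorToCategoricalPullback F G U).obj ⟨T, L, e⟩
  have : K.Faithful := ⟨fun {u u'} k k' h => by
    obtain ⟨q, -, hq⟩ := hff u u' (K.map k).fst (K.map k).snd (K.map k).w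
    rw [hq k ⟨rfl, rfl⟩, hq k' ⟨congrArg CategoricalPullback.Hom.fst h.symm, congrArg CategoricalPullback.Hom.snd h.symm⟩]⟩
  have : K.Full := ⟨fun {u u'} m => by
    obtain ⟨q, ⟨h1, h2⟩, -⟩ := hff u u' m.fst m.snd m.w
    exact ⟨q, CategoricalPullback.hom_ext h1 h2⟩⟩
  have : K.EssSurj := ⟨fun w => by
    obtain ⟨u, a, b, h⟩ := hes w.fst w.snd w.iso
    exact ⟨u, ⟨CategoricalPullback.mkIso a b h⟩⟩⟩
  exact { }

/-- For a 2-fibre product `U = X ×_Y V` of categories, the square formed by `U ⟶ X`, the diagonals `U ⟶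
U ×_V U`, `X ⟶ X ×_Y X` and the induced functor `U ×_V U ⟶ X ×_Y X` is 2-cartesian. (The filling
2-isomorphism is the one whose two components at every object are identities; it exists and is
unique with that property.) -/
theorem result {X Y V : Type u} [Category.{v} X] [Category.{v} Y] [Category.{v} V] (p : X ⥤ Y) (q : V ⥤ Y) :
    ∃ e, (∀ u, (e.hom.app u).fst = 𝟙 _ ∧ (e.hom.app u).snd = 𝟙 _) ∧ FibCat.IsTwoCart
      (CategoricalPullback.π₁ p q)
      ((CategoricalPullback.CatCommSqOver.toFunctorToCategoricalPullback (CategoricalPullback.π₂ p q) (CategoricalPullback.π₂ p q) (CategoricalPullback p q)).obj ⟨𝟭 _, 𝟭 _, Iso.refl _⟩)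
      ((CategoricalPullback.CatCommSqOver.toFunctorToCategoricalPullback p p X).obj ⟨𝟭 _, 𝟭 _, Iso.refl _⟩)
      (FibCat.categoricalPullbackMap (⟨CategoricalPullback.π₁ p q, q, CategoricalPullback.π₁ p q, ⟨(CatCommSq.iso (CategoricalPullback.π₁ p q) (CategoricalPullback.π₂ p q) p q).symm⟩, ⟨(CatCommSq.iso (CategoricalPullback.π₁ p q) (CategoricalPullback.π₂ p q) p q).symm⟩⟩ : CatCospanTransform (CategoricalPullback.π₂ p q) (CategoricalPullback.π₂ p q) p p))
      e := by
  refine ⟨NatIso.ofComponents (fun u => CategoricalPullback.mkIso (Iso.refl _) (Iso.refl _) (by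
      simp [FibCat.categoricalPullbackMap, CatCommSq.iso, CategoricalPullback.toCatCommSqOver]
      show u.iso.hom ≫ q.map (𝟙 u.snd) ≫ u.iso.inv = 𝟙 _
      simp))
    (fun f => by ext <;> simp [FibCat.categoricalPullbackMap, CatCommSq.iso, CategoricalPullback.toCatCommSqOver]), fun u => ⟨rfl, rfl⟩, ?_⟩
  refine cart _ _ _ _ _ (fun u u' f g h => ?_) (fun x d θ => ?_)
  · have h1 := congrArg CategoricalPullback.Hom.fst h
    have h2 := congrArg CategoricalPullback.Hom.snd h
    simp [FibCat.categoricalPullbackMap, CatCommSq.iso, CategoricalPullback.toCatCommSqOver] at h1 h2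
    have hg := g.w
    simp at hg
    refine ⟨g.fst, ⟨h1.symm, CategoricalPullback.hom_ext rfl ?_⟩, fun k hk => congrArg CategoricalPullback.Hom.fst hk.2⟩
    refine CategoricalPullback.hom_ext (h1.symm.trans h2) ?_
    exact (Category.comp_id _).symm.trans (hg.trans (Category.id_comp _))
  · have hw := θ.hom.w
    simp [FibCat.categoricalPullbackMap, CatCommSq.iso, CategoricalPullback.toCatCommSqOver] at hw
    let t1 := (CategoricalPullback.π₁ p p).mapIso θ
    let t2 := (CategoricalPullback.π₂ p p).mapIso θ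
    have h1 : p.map θ.hom.fst ≫ d.fst.iso.hom ≫ q.map d.iso.hom ≫ d.snd.iso.inv = p.map θ.hom.snd :=
      hw.trans (Category.id_comp _)
    let u : CategoricalPullback p q := ⟨x, d.fst.snd, p.mapIso t1 ≪≫ d.fst.iso⟩
    let a : u ≅ d.fst := CategoricalPullback.mkIso t1 (Iso.refl _) (by simp [u, t1])
    let b : u ≅ d.snd := CategoricalPullback.mkIso t2 d.iso (by
      simp [u, t1, t2, ← h1])
    refine ⟨u, Iso.refl _, CategoricalPullback.mkIso a b (by simp [u, a, b]; rfl), ?_⟩
    ext <;> simp [FibCat.categoricalPullbackMap, u, a, b, t1, t2]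

end Groth.Agent.S6447
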