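import Groth.Statements.S6448
import Groth.Agent.S12219

set_option autoImplicit false
open CategoryTheory
universe v u
open CatLim

namespace Groth.Agent.S6448

/-- In a category where spans complete to commutative squares and parallel pairs are coequalized by a
later arrow, every connected component is filtered (so the category is a disjoint union of filtered
categories). -/
theorem result {I : Type u} [Category.{v} I]
    (h1 : ∀ ⦃w x y : I⦄ (a : w ⟶ x) (b : w ⟶ y), ∃ (z : I) (c : x ⟶ z) (d : y ⟶ z), a ≫ c = b ≫ d)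
    (h2 : ∀ ⦃x y : I⦄ (a b : x ⟶ y), ∃ (z : I) (c : y ⟶ z), a ≫ c = b ≫ c)
    (j : ConnectedComponents I) : IsFiltered j.Component := by
  have hz : ∀ x y : I, Zigzag x y → ∃ z : I, Nonempty (x ⟶ z) ∧ Nonempty (y ⟶ z) :=
    fun x y => (Groth.Agent.S12219.result h1 x y).1
  haveI : IsFilteredOrEmpty j.Component :=
    { cocone_objs := fun X Y => by
        obtain ⟨z, ⟨f⟩, ⟨g⟩⟩ := hz X.1 Y.1 (Quotient.exact' (X.2.trans Y.2.symm))
        refine ⟨⟨z, ?_⟩, ObjectProperty.homMk f, ObjectProperty.homMk g, trivial⟩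
        exact (Quotient.sound' (Zigzag.of_inv f)).trans X.2
      cocone_maps := fun X Y f g => by
        obtain ⟨z, c, hc⟩ := h2 f.hom g.hom
        refine ⟨⟨z, ?_⟩, ObjectProperty.homMk c, ObjectProperty.hom_ext _ hc⟩
        exact (Quotient.sound' (Zigzag.of_inv c)).trans Y.2 }
  exact ⟨⟩

end Groth.Agent.S6448
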