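import Groth.Statements.S6471
import Groth.Agent.IntMult66.Scheme
import Groth.Agent.S1897
import Groth.Agent.S2428
import Groth.Agent.CycLib.ShiftPull
import Groth.Agent.ZClosLib.CohDescent

set_option autoImplicit false
universe u
open CategoryTheory CategoryTheory.Limits AlgebraicGeometry
attribute [local instance] HasDerivedCategory.standard
open IntMult

namespace Groth.Agent.S6471

set_option linter.style.haveILetI false

theorem chi_baseChange {A B : Type u} [CommRing A] [CommRing B] [Algebra A B] [IsLocalRing A]
    [IsLocalRing B] [IsLocalHom (algebraMap A B)] [Module.Flat A B] (P Q : Type u) [AddCommGroup P]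
    [Module A P] [AddCommGroup Q] [Module A Q] :
    IntMult.chi B (TensorProduct A B P) (TensorProduct A B Q) = IntMult.chi A P Q *
      ((Module.length B (B ⧸ (IsLocalRing.maximalIdeal A).map (algebraMap A B))).toNat : ℤ) := by
  unfold IntMult.chi
  rw [finsum_mul]
  refine finsum_congr fun i => ?_
  obtain ⟨e⟩ := Groth.Agent.S2428.result A B P Q i
  rw [← e.length_eq, Groth.Agent.CycLib.length_tensor, ENat.toNat_mul, Nat.cast_mul, mul_assoc]

/-- For a flat morphism f : X → Y between nonsingular varieties, with e = dim X − dim Y (every fibre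
component has dimension e), and coherent O_Y-modules F, G whose supports have dimension at most r
and s and meet in dimension at most r + s − dim Y, the cycles of the pulled-back modules,
[f^*F]_{r+e} and [f^*G]_{s+e}, meet properly, and pulling back the product [F]_r · [G]_s along f
gives their product: f^*([F]_r · [G]_s) = [f^*F]_{r+e} · [f^*G]_{s+e}, coefficientwise (f^* on
cycles is Cyc.pullFun with relative dimension e, f^* on modules is Mathlib's
Scheme.Modules.pullback). Here X is a nonsingular variety over the algebraically closed field K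
(smooth, separated, quasi-compact, integral) with dimension function δ (transcendence degree over K,
recorded by Cyc.DeltaCompat to Spec K with value 0, together with Cyc.IsSetup) and n = dim X = δ of
the generic point; cycles are coefficient functions X → ℤ, proper intersection is
IntMult.IntersectProperly and α · β is the Tor-formula intersection product on coefficient functions
(IntMult.interProd). The same holds for Y with δY and m = dim Y. -/
theorem result (K : Type u) [Field K] [IsAlgClosed K] (X Y : Scheme.{u}) (f : X ⟶ Y) (gX : X ⟶ Spec (CommRingCat.of K)) (gY : Y ⟶ Spec (CommRingCat.of K)) (hf : f ≫ gY = gX) [Smooth gX] [IsSeparated gX] [QuasiCompact gX] [IsIntegral X] [Smooth gY] [IsSeparated gY] [QuasiCompact gY] [IsIntegral Y] [Flat f] (δX : X → ℤ) (δY : Y → ℤ) (hX : Cyc.IsSetup X δX) (hY : Cyc.IsSetup Y δY) (hδX : Cyc.DeltaCompat gX δX (fun _ => 0)) (hδY : Cyc.DeltaCompat gY δY (fun _ => 0)) (hδ : Cyc.DeltaCompat f δX δY) (n m : ℤ) (hn : δX (genericPoint X) = n) (hm : δY (genericPoint Y) = m) (e : ℕ) (he : (e : ℤ) = n - m) (hrel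 : Cyc.HasRelDim f e) (F G : Y.Modules) (hF : Coh.IsCoh F) (hG : Coh.IsCoh G) (r s : ℤ) (hr : ∀ y : Y, Nontrivial (F.presheaf.stalk y) → δY y ≤ r) (hs : ∀ y : Y, Nontrivial (G.presheaf.stalk y) → δY y ≤ s) (hrs : ∀ y : Y, Nontrivial (F.presheaf.stalk y) → Nontrivial (G.presheaf.stalk y) → δY y ≤ r + s - m) : IntMult.IntersectProperly δX n (Cyc.sheafFun δX (r + e) ((Scheme.Modules.pullback f).obj F)) (Cyc.sheafFun δX (s + e) ((Scheme.Modules.pullback f).obj G)) ∧ Cyc.pullFun f δX δY e (IntMult.interProd δY m (Cyc.sheafFun δY r F) (Cyc.sheafFun δY s G)) = IntMult.interProd δX n (Cyc.sheafFun δX (r + e) ((Scheme.Modules.pullback f).obj F)) (Cyc.sheafFun δX (s + e) ((Scheme.Modules.pullback f).obj G)) := by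
  classical
  haveI := hX.1
  haveI := hY.1
  haveI : LocallyOfFiniteType f := by
    haveI : LocallyOfFiniteType (f ≫ gY) := hf ▸ inferInstance
    exact locallyOfFiniteType_of_comp f gY
  have hs' : Groth.Agent.CycLib.ShiftBy f δX δY (e : ℤ) := by
    intro x hm
    obtain ⟨k, hk, hk'⟩ := hδ x
    have := Groth.Agent.CycLib.trdeg_eq_of_hasRelDim f hrel x hm
    rw [hk] at this
    rw [hk', show k = e by exact_mod_cast this]
  have hle : ∀ x : X, δX x ≤ δY (f x) + e := fun x => hs'.le hX.2.2 x
  have hdown : ∀ (H : Y.Modules) (x : X),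
      Nontrivial (((Scheme.Modules.pullback f).obj H).presheaf.stalk x) →
        Nontrivial (H.presheaf.stalk (f x)) := by
    intro H x hx
    by_contra h
    haveI := not_nontrivial_iff_subsingleton.mp h
    letI := (f.stalkMap x).hom.toAlgebra
    letI := Groth.Agent.PullStalk.Basic.moduleOver f H x
    haveI : IsScalarTower (Y.presheaf.stalk (f x)) (X.presheaf.stalk x)
        (((Scheme.Modules.pullback f).obj H).presheaf.stalk x) :=
      IsScalarTower.of_algebraMap_smul fun _ _ => rfl
    exact not_subsingleton (((Scheme.Modules.pullback f).obj H).presheaf.stalk x)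
      (Groth.Agent.PullStalk.Basic.isBaseChange_unitStalk f H x).equiv.symm.injective.subsingleton
  have hF' : Coh.IsCoh ((Scheme.Modules.pullback f).obj F) := Groth.Agent.ZClosLib.CohDescent.isCoh_pullback f F hF
  have hG' : Coh.IsCoh ((Scheme.Modules.pullback f).obj G) := Groth.Agent.ZClosLib.CohDescent.isCoh_pullback f G hG
  have hr' : ∀ x : X, Nontrivial (((Scheme.Modules.pullback f).obj F).presheaf.stalk x) →
      δX x ≤ r + e := fun x hx => (hle x).trans (add_le_add (hr _ (hdown F x hx)) le_rfl)
  have hs'' : ∀ x : X, Nontrivial (((Scheme.Modules.pullback f).obj G).presheaf.stalk x) →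
      δX x ≤ s + e := fun x hx => (hle x).trans (add_le_add (hs _ (hdown G x hx)) le_rfl)
  have hrs' : ∀ x : X, Nontrivial (((Scheme.Modules.pullback f).obj F).presheaf.stalk x) →
      Nontrivial (((Scheme.Modules.pullback f).obj G).presheaf.stalk x) →
      δX x ≤ (r + e) + (s + e) - n := fun x h1 h2 => by
    have := hrs _ (hdown F x h1) (hdown G x h2)
    have := hle x
    omega
  obtain ⟨hp, hX'⟩ := Groth.Agent.IntMult66.interProd_sheafFun gX hδX hn _ _ hF' hG' hr' hs'' hrs'
  obtain ⟨-, hY'⟩ := Groth.Agent.IntMult66.interProd_sheafFun gY hδY hm F G hF hG hr hs hrs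
  refine ⟨hp, funext fun x => ?_⟩
  rw [hX' x]
  unfold Cyc.pullFun
  rw [hY' (f x)]
  letI := (f.stalkMap x).hom.toAlgebra
  letI := Groth.Agent.PullStalk.Basic.moduleOver f F x
  letI := Groth.Agent.PullStalk.Basic.moduleOver f G x
  haveI : IsScalarTower (Y.presheaf.stalk (f x)) (X.presheaf.stalk x)
      (((Scheme.Modules.pullback f).obj F).presheaf.stalk x) :=
    IsScalarTower.of_algebraMap_smul fun _ _ => rfl
  haveI : IsScalarTower (Y.presheaf.stalk (f x)) (X.presheaf.stalk x)
      (((Scheme.Modules.pullback f).obj G).presheaf.stalk x) :=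
    IsScalarTower.of_algebraMap_smul fun _ _ => rfl
  haveI : IsLocalHom (algebraMap (Y.presheaf.stalk (f x)) (X.presheaf.stalk x)) :=
    inferInstanceAs (IsLocalHom (f.stalkMap x).hom)
  haveI : Module.Flat (Y.presheaf.stalk (f x)) (X.presheaf.stalk x) := Flat.stalkMap f x
  have hchi : IntMult.chi (X.presheaf.stalk x) (((Scheme.Modules.pullback f).obj F).presheaf.stalk x)
      (((Scheme.Modules.pullback f).obj G).presheaf.stalk x) =
      IntMult.chi (Y.presheaf.stalk (f x)) (F.presheaf.stalk (f x)) (G.presheaf.stalk (f x)) *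
        ((Module.length (X.presheaf.stalk x) (X.presheaf.stalk x ⧸
          (IsLocalRing.maximalIdeal (Y.presheaf.stalk (f x))).map (f.stalkMap x).hom)).toNat : ℤ) := by
    rw [← Groth.Agent.IntMult66.chi_congr_left _
        (Groth.Agent.PullStalk.Basic.isBaseChange_unitStalk f F x).equiv,
      ← Groth.Agent.IntMult66.chi_congr_right _
        (Groth.Agent.PullStalk.Basic.isBaseChange_unitStalk f G x).equiv, chi_baseChange]
    rfl
  by_cases hx : δX x = r + e + (s + e) - n
  · rw [if_pos hx, hchi]
    have hlx := hle x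
    rcases subsingleton_or_nontrivial (F.presheaf.stalk (f x)) with hF0 | hF1
    · have h0 : IntMult.chi (Y.presheaf.stalk (f x)) (F.presheaf.stalk (f x)) (G.presheaf.stalk (f x)) = 0 := by
        rw [Groth.Agent.IntMult88.chi_comm, Groth.Agent.IntMult66.chi_subsingleton]
      simp [h0]
    rcases subsingleton_or_nontrivial (G.presheaf.stalk (f x)) with hG0 | hG1
    · have h0 : IntMult.chi (Y.presheaf.stalk (f x)) (F.presheaf.stalk (f x)) (G.presheaf.stalk (f x)) = 0 :=
        Groth.Agent.IntMult66.chi_subsingleton _ _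
      simp [h0]
    have := hrs (f x) hF1 hG1
    rw [if_pos (by omega), if_pos (by omega)]
  · rw [if_neg hx]
    split_ifs with h1 h2
    · omega
    · exact zero_mul _
    · rfl

end Groth.Agent.S6471
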