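import Groth.Statements.S6451
import Groth.Agent.IntMult66.Bilin
import Groth.Agent.S6471

set_option autoImplicit false
universe u
open CategoryTheory CategoryTheory.Limits AlgebraicGeometry
attribute [local instance] HasDerivedCategory.standard
open IntMult

namespace Groth.Agent.S6451

/-- For a flat morphism f : X → Y between nonsingular varieties, with e = dim X − dim Y (every fibre
component has dimension e), and for cycles α ∈ Z_r(Y) and β ∈ Z_s(Y) meeting properly, the flat
pullbacks f^*α and f^*β again meet properly and pulling back commutes with the product: f^*(α · β) =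
f^*α · f^*β, coefficientwise (flat pullback is Cyc.pullFun with relative dimension e). Here X is a
nonsingular variety over the algebraically closed field K (smooth, separated, quasi-compact,
integral) with dimension function δ (transcendence degree over K, recorded by Cyc.DeltaCompat to
Spec K with value 0, together with Cyc.IsSetup) and n = dim X = δ of the generic point; cycles are
Mathlib AlgebraicCycles with Cyc.Zk membership, proper intersection is IntMult.IntersectProperly and
α · β is the Tor-formula intersection product on coefficient functions (IntMult.interProd). The same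
holds for Y with δY and m = dim Y. -/
theorem result (K : Type u) [Field K] [IsAlgClosed K] (X Y : Scheme.{u}) (f : X ⟶ Y) (gX : X ⟶ Spec (CommRingCat.of K)) (gY : Y ⟶ Spec (CommRingCat.of K)) (hf : f ≫ gY = gX) [Smooth gX] [IsSeparated gX] [QuasiCompact gX] [IsIntegral X] [Smooth gY] [IsSeparated gY] [QuasiCompact gY] [IsIntegral Y] [Flat f] (δX : X → ℤ) (δY : Y → ℤ) (hX : Cyc.IsSetup X δX) (hY : Cyc.IsSetup Y δY) (hδX : Cyc.DeltaCompat gX δX (fun _ => 0)) (hδY : Cyc.DeltaCompat gY δY (fun _ => 0)) (hδ : Cyc.DeltaCompat f δX δY) (n m : ℤ) (hn : δX (genericPoint X) = n) (hm : δY (genericPoint Y) = m) (e : ℕ) (he : (e : ℤ) = n - m) (hrel : Cyc.HasRelDim f e) (r s : ℤ) (α β : AlgebraicCycle Y ℤ) (hα : α ∈ Cyc.Zk Y δY r) (hβ : β ∈ Cyc.Zk Y δY s) (hprop : IntMult.IntersectProperly δY m ⇑α ⇑β) : IntMult.IntersectProperly δX n (Cyc.pullFun f δX δY e ⇑α) (Cyc.pullFun f δX δY e ⇑β) ∧ Cyc.pullFun f δX δY e (IntMult.interProd δY m ⇑α ⇑β) = IntMult.interProd δX n (Cyc.pullFun f δX δY e ⇑α)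 (Cyc.pullFun f δX δY e ⇑β) := by
  classical
  haveI := hX.1
  haveI := hY.1
  haveI : CompactSpace X := QuasiCompact.compactSpace_of_compactSpace gX
  haveI : CompactSpace Y := QuasiCompact.compactSpace_of_compactSpace gY
  haveI : LocallyOfFiniteType f := by
    haveI : LocallyOfFiniteType (f ≫ gY) := hf ▸ inferInstance
    exact locallyOfFiniteType_of_comp f gY
  have hs' : Groth.Agent.CycLib.ShiftBy f δX δY (e : ℤ) := by
    intro x hm
    obtain ⟨k, hk, hk'⟩ := hδ x
    have := Groth.Agent.CycLib.trdeg_eq_of_hasRelDim f hrel x hm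
    rw [hk] at this
    rw [hk', show k = e by exact_mod_cast this]
  have hle : ∀ x : X, δX x ≤ δY (f x) + e := fun x => hs'.le hX.2.2 x
  have hne : ∀ (φ : Y → ℤ) (x : X), Cyc.pullFun f δX δY e φ x ≠ 0 → δX x = δY (f x) + e ∧ φ (f x) ≠ 0 := by
    intro φ x hx
    unfold Cyc.pullFun at hx
    split_ifs at hx with h
    · exact ⟨h, left_ne_zero_of_mul hx⟩
    · exact absurd rfl hx
  refine ⟨fun u v z hu hv huz hvz => ?_, ?_⟩
  · obtain ⟨du, au⟩ := hne _ u hu
    obtain ⟨dv, bv⟩ := hne _ v hv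
    have := hprop (f u) (f v) (f z) au bv (huz.map f.continuous) (hvz.map f.continuous)
    have := hle z
    omega
  obtain ⟨α', hα'⟩ := Groth.Agent.CycLib.exists_pull_cycle f hX.2.2 hs' α
  obtain ⟨β', hβ'⟩ := Groth.Agent.CycLib.exists_pull_cycle f hX.2.2 hs' β
  let S := (Groth.Agent.CycLib.finite_support_of_compact α).toFinset
  let T := (Groth.Agent.CycLib.finite_support_of_compact β).toFinset
  let S' := (Groth.Agent.CycLib.finite_support_of_compact α').toFinset
  let T' := (Groth.Agent.CycLib.finite_support_of_compact β').toFinset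
  have hS : ∀ y, y ∉ S → α y = 0 := fun y hy => by simpa [S] using hy
  have hT : ∀ y, y ∉ T → β y = 0 := fun y hy => by simpa [T] using hy
  have hS' : ∀ u, u ∉ S' → Cyc.pullFun f δX δY e ⇑α u = 0 := fun u hu => by rw [← hα']; simpa [S'] using hu
  have hT' : ∀ u, u ∉ T' → Cyc.pullFun f δX δY e ⇑β u = 0 := fun u hu => by rw [← hβ']; simpa [T'] using hu
  have hpull : ∀ (φ : Y → ℤ) (U : Finset Y), (∀ y, y ∉ U → φ y = 0) → ∀ u, Cyc.pullFun f δX δY e φ u =
      ∑ ξ ∈ U, φ ξ * Cyc.pullFun f δX δY e (Set.indicator {ξ} 1) u := fun φ U hU u => by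
    unfold Cyc.pullFun
    split_ifs with h
    · rw [Groth.Agent.IntMult66.eq_sum_indicator φ U hU (f u), Finset.sum_mul]
      exact Finset.sum_congr rfl fun ξ _ => by ring
    · simp
  have hp1 : ∀ (φ : Y → ℤ) (ξ : Y) (u : X), φ ξ ≠ 0 →
      Cyc.pullFun f δX δY e (Set.indicator {ξ} 1) u ≠ 0 → Cyc.pullFun f δX δY e φ u ≠ 0 := by
    intro φ ξ u hξ hu
    obtain ⟨hd, h1⟩ := hne _ u hu
    have hfu : f u = ξ := by simpa [Set.indicator_apply] using h1
    unfold Cyc.pullFun at hu ⊢
    rw [if_pos hd] at hu ⊢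
    exact mul_ne_zero (hfu ▸ hξ) (right_ne_zero_of_mul hu)
  have key : ∀ ξ η : Y, α ξ ≠ 0 → β η ≠ 0 →
      Cyc.pullFun f δX δY e (IntMult.interProd δY m (Set.indicator {ξ} 1) (Set.indicator {η} 1)) =
        IntMult.interProd δX n (Cyc.pullFun f δX δY e (Set.indicator {ξ} 1))
          (Cyc.pullFun f δX δY e (Set.indicator {η} 1)) := by
    intro ξ η hξ hη
    obtain ⟨hs1, he1⟩ := Groth.Agent.IntMult66.sheafFun_oz gY hδY ξ
    obtain ⟨hs2, he2⟩ := Groth.Agent.IntMult66.sheafFun_oz gY hδY η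
    have hc1 := Groth.Agent.CohDev.isCoh_oz (X := Y) ξ
    have hc2 := Groth.Agent.CohDev.isCoh_oz (X := Y) η
    obtain ⟨-, h⟩ := Groth.Agent.S6471.result K X Y f gX gY hf δX δY hX hY hδX hδY hδ n m hn hm e he hrel
      (Cyc.closureStructureSheaf ξ) (Cyc.closureStructureSheaf η) hc1 hc2 (δY ξ) (δY η)
      (fun y hy => Groth.Agent.IntMult66.delta_mono gY hδY (hs1 y hy))
      (fun y hy => Groth.Agent.IntMult66.delta_mono gY hδY (hs2 y hy))
      (fun y h1 h2 => hprop ξ η y hξ hη (hs1 y h1) (hs2 y h2))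
    obtain ⟨-, p1⟩ := Groth.Agent.S1897.result X Y δX δY hX hY f e hrel hδ (δY ξ) _ hc1
      fun y hy => Groth.Agent.IntMult66.delta_mono gY hδY (hs1 y hy)
    obtain ⟨-, p2⟩ := Groth.Agent.S1897.result X Y δX δY hX hY f e hrel hδ (δY η) _ hc2
      fun y hy => Groth.Agent.IntMult66.delta_mono gY hδY (hs2 y hy)
    rw [← p1, ← p2, he1, he2] at h
    exact h
  funext x
  have hlin : ∀ (φ : Y → Y → Y → ℤ), Cyc.pullFun f δX δY e
      (fun y => ∑ ξ ∈ S, ∑ η ∈ T, α ξ * β η * φ ξ η y) x =
      ∑ ξ ∈ S, ∑ η ∈ T, α ξ * β η * Cyc.pullFun f δX δY e (φ ξ η) x := fun φ => by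
    unfold Cyc.pullFun
    split_ifs with h
    · simp only [Finset.sum_mul]
      exact Finset.sum_congr rfl fun ξ _ => Finset.sum_congr rfl fun η _ => by ring
    · simp
  rw [funext fun y => Groth.Agent.IntMult66.interProd_eq_sum δY m ⇑α ⇑β S T hS hT y, hlin,
    Groth.Agent.IntMult66.interProd_eq_sum δX n _ _ S' T' hS' hT' x]
  calc _ = ∑ ξ ∈ S, ∑ η ∈ T, ∑ u ∈ S', ∑ v ∈ T', (α ξ * Cyc.pullFun f δX δY e (Set.indicator {ξ} 1) u) *
          (β η * Cyc.pullFun f δX δY e (Set.indicator {η} 1) v) *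
          IntMult.interProd δX n (Set.indicator {u} 1) (Set.indicator {v} 1) x := by
        refine Finset.sum_congr rfl fun ξ _ => Finset.sum_congr rfl fun η _ => ?_
        by_cases h0 : α ξ = 0 ∨ β η = 0
        · rcases h0 with h0 | h0 <;> simp [h0]
        rw [not_or] at h0
        rw [key ξ η h0.1 h0.2, Groth.Agent.IntMult66.interProd_eq_sum δX n _ _ S' T'
          (fun u hu => by_contra fun h => hp1 ⇑α ξ u h0.1 h (hS' u hu))
          (fun u hu => by_contra fun h => hp1 ⇑β η u h0.2 h (hT' u hu)) x, Finset.mul_sum]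
        refine Finset.sum_congr rfl fun u _ => ?_
        rw [Finset.mul_sum]
        exact Finset.sum_congr rfl fun v _ => by ring
    _ = _ := by
        rw [Finset.sum_comm_cycle]
        refine Finset.sum_congr rfl fun u _ => ?_
        rw [Finset.sum_comm_cycle]
        refine Finset.sum_congr rfl fun v _ => ?_
        rw [hpull ⇑α S hS u, hpull ⇑β T hT v, Finset.sum_mul_sum, Finset.sum_mul]
        refine Finset.sum_congr rfl fun ξ _ => ?_
        rw [Finset.sum_mul]

end Groth.Agent.S6451
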