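import Groth.Statements.S6458
import Groth.Agent.CycLib.DimFun
import Mathlib.RingTheory.KrullDimension.Regular
import Mathlib.AlgebraicGeometry.FunctionField
-- import your own Groth.Agent.* helpers here

set_option autoImplicit false
universe u
open CategoryTheory AlgebraicGeometry
open Cyc

namespace Groth.Agent.S6458

/-- Let X be integral with generic point η and ξ the generic point of an irreducible component of an
effective Cartier divisor on X; locally: g ∈ 𝔪_ξ ⊂ O_{X,ξ} is nonzero and O_{X,ξ}/(g) is
zero-dimensional. Then dim_δ of the closure of ξ is dim_δ(X) − 1, i.e. δ(ξ) = δ(η) − 1. Here a pair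
(X, δ) with Cyc.IsSetup plays the role of a scheme locally of finite type over the base (S, δ) (X
locally Noetherian with universally catenary local rings, δ a dimension function). -/
theorem result (X : Scheme.{u}) [IsIntegral X] (δ : X → ℤ) (hX : Cyc.IsSetup X δ) (ξ : X) (g : ↑(X.presheaf.stalk ξ)) (hg0 : g ≠ 0) (hgm : g ∈ IsLocalRing.maximalIdeal (X.presheaf.stalk ξ)) (hdim : ringKrullDim (↑(X.presheaf.stalk ξ) ⧸ Ideal.span {g}) = 0) : δ ξ = δ (genericPoint X) - 1 := by
  haveI := hX.1
  obtain ⟨n, hn, hd⟩ := Groth.Agent.CycLib.ringKrullDim_stalk hX.2.2 ξ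
  have h1 := ringKrullDim_quotient_span_singleton_succ_eq_ringKrullDim_of_mem_nonZeroDivisors
    (mem_nonZeroDivisors_of_ne_zero hg0) hgm
  rw [hdim, zero_add, hd] at h1
  have : n = 1 := by exact_mod_cast h1.symm
  omega

end Groth.Agent.S6458
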