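import Groth.Statements.S6460
import Mathlib.AlgebraicGeometry.Noetherian
-- import your own Groth.Agent.* helpers here

set_option autoImplicit false
universe u
open CategoryTheory AlgebraicGeometry
open Cyc

namespace Groth.Agent.S6460

/-- (3) ⇒ (1): suppose that for every x ∈ X there is an integer n_x with δ(ξ) = n_x for every generic
point ξ of an irreducible component of X containing x. Then X decomposes into open and closed
subschemes X_n (n ∈ ℤ) such that every irreducible component of X_n has δ-dimension n; stated as the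
existence of a locally constant c : X → ℤ with δ(ξ) = c(ξ) for every point ξ that is maximal under
specialization. (The converse implications are immediate and not stated.) Here a pair (X, δ) with
Cyc.IsSetup plays the role of a scheme locally of finite type over the base (S, δ) (X locally
Noetherian with universally catenary local rings, δ a dimension function). -/
theorem result (X : Scheme.{u}) (δ : X → ℤ) (hX : Cyc.IsSetup X δ) (h3 : ∀ x : X, ∃ n : ℤ, ∀ ξ : X, (∀ ξ' : X, ξ' ⤳ ξ → ξ' = ξ) → ξ ⤳ x → δ ξ = n) : ∃ c : X → ℤ, IsLocallyConstant c ∧ ∀ ξ : X, (∀ ξ' : X, ξ' ⤳ ξ → ξ' = ξ) → δ ξ = c ξ := by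
  classical
  haveI := hX.1
  choose n hn using h3
  have hmax : ∀ x : X, ∃ ξ : X, (∀ ξ' : X, ξ' ⤳ ξ → ξ' = ξ) ∧ ξ ⤳ x := fun x => by
    obtain ⟨hZ, hxZ⟩ : irreducibleComponent x ∈ irreducibleComponents X ∧ x ∈ irreducibleComponent x :=
      ⟨irreducibleComponent_mem_irreducibleComponents x, mem_irreducibleComponent⟩
    obtain ⟨ξ, hξ⟩ := QuasiSober.sober hZ.1 isClosed_irreducibleComponent
    refine ⟨ξ, fun ξ' h' => ?_, hξ.specializes hxZ⟩
    have hsub : irreducibleComponent x ⊆ closure {ξ'} := by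
      rw [← hξ.def]
      exact isClosed_closure.closure_subset_iff.2 (Set.singleton_subset_iff.2 (specializes_iff_mem_closure.1 h'))
    have he := hZ.2 isIrreducible_singleton.closure hsub
    have hmem : ξ' ∈ closure ({ξ} : Set X) := by
      rw [hξ.def]; exact he (subset_closure rfl)
    exact (h'.antisymm (specializes_iff_mem_closure.2 hmem)).eq
  refine ⟨n, (IsLocallyConstant.iff_exists_open n).2 fun x => ?_, fun ξ hξ => hn ξ ξ hξ specializes_rfl⟩
  obtain ⟨W, hW, hxW, -⟩ := exists_isAffineOpen_mem_and_subset (TopologicalSpace.Opens.mem_top x)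
  haveI : IsNoetherianRing Γ(X, W) := IsLocallyNoetherian.component_noetherian ⟨W, hW⟩
  haveI : TopologicalSpace.NoetherianSpace (W : Set X) := noetherianSpace_of_isAffineOpen W hW
  let M : Set X := {ξ | (∀ ξ' : X, ξ' ⤳ ξ → ξ' = ξ) ∧ ξ ∈ W}
  have hMfin : M.Finite := by
    let U : Scheme.{u} := W
    haveI : TopologicalSpace.NoetherianSpace U := inferInstanceAs (TopologicalSpace.NoetherianSpace (W : Set X))
    haveI : QuasiSober W := inferInstanceAs (QuasiSober (W : Scheme.{u}))
    have hgen : ∀ ξ : M, IsGenericPoint (⟨ξ.1, ξ.2.2⟩ : U) (irreducibleComponent (⟨ξ.1, ξ.2.2⟩ : U)) := fun ξ => by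
      obtain ⟨η, hη⟩ := @QuasiSober.sober U _ (inferInstanceAs (QuasiSober (W : Scheme.{u}))) _
        (isIrreducible_irreducibleComponent (x := (⟨ξ.1, ξ.2.2⟩ : U))) isClosed_irreducibleComponent
      have hsp : η ⤳ (⟨ξ.1, ξ.2.2⟩ : U) := hη.specializes mem_irreducibleComponent
      obtain rfl : η = (⟨ξ.1, ξ.2.2⟩ : U) := Subtype.ext (ξ.2.1 _ (hsp.map continuous_subtype_val))
      exact hη
    haveI : Finite (irreducibleComponents U) :=
      TopologicalSpace.NoetherianSpace.finite_irreducibleComponents.to_subtype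
    refine Set.finite_coe_iff.1 (Finite.of_injective
      (fun ξ : M => (⟨_, irreducibleComponent_mem_irreducibleComponents (⟨ξ.1, ξ.2.2⟩ : U)⟩ :
        irreducibleComponents U)) fun a b hab => ?_)
    have he := Subtype.mk.inj hab
    have h2 : IsGenericPoint (⟨b.1, b.2.2⟩ : U) (irreducibleComponent (⟨a.1, a.2.2⟩ : U)) := by
      rw [he]; exact hgen b
    have h3 : (⟨a.1, a.2.2⟩ : U) = ⟨b.1, b.2.2⟩ := (hgen a).eq h2
    exact Subtype.ext (show a.1 = b.1 from congrArg (fun v : U => W.ι v) h3)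
  let F : Set X := ⋃ ξ ∈ M ∩ {ξ | ¬ ξ ⤳ x}, closure {ξ}
  have hF : IsClosed F := (hMfin.inter_of_left _).isClosed_biUnion fun _ _ => isClosed_closure
  refine ⟨(W : Set X) \ F, W.2.sdiff hF, ⟨hxW, fun hxF => ?_⟩, fun y hy => ?_⟩
  · obtain ⟨ξ, hξ, hcl⟩ := Set.mem_iUnion₂.1 hxF
    exact hξ.2 (specializes_iff_mem_closure.2 hcl)
  · obtain ⟨ξ, hξ, hξy⟩ := hmax y
    have hξx : ξ ⤳ x := by
      by_contra hh
      exact hy.2 (Set.mem_iUnion₂.2 ⟨ξ, ⟨⟨hξ, hξy.mem_open W.2 hy.1⟩, hh⟩, specializes_iff_mem_closure.1 hξy⟩)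
    rw [← hn y ξ hξ hξy, hn x ξ hξ hξx]

end Groth.Agent.S6460
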