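import Groth.Statements.S6461
import Groth.Agent.CycLib.Interval
import Groth.Agent.Depth.CM
import Mathlib.AlgebraicGeometry.Noetherian

set_option autoImplicit false
universe u
open CategoryTheory AlgebraicGeometry
open Cyc

namespace Groth.Agent.S6461

open AlgebraicGeometry CategoryTheory IsLocalRing in
theorem delta_eq (X : Scheme.{u}) (δ : X → ℤ) (hd : Cyc.IsDimFun X δ) (x ξ : X)
    (hcm : LocCoh.IsCohenMacaulayLocalRing ↑(X.presheaf.stalk x)) (hsp : ξ ⤳ x)
    (hmax : ∀ ξ' : X, ξ' ⤳ ξ → ξ' = ξ) :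
    ∃ d : ℕ, ringKrullDim (X.presheaf.stalk x) = d ∧ δ ξ = δ x + d := by
  let R := X.presheaf.stalk x
  haveI : LocCoh.IsCohenMacaulayLocalRing R := hcm
  let p : PrimeSpectrum R := PrimeSpectrum.comap (X.presheaf.stalkSpecializes hsp).hom
    (closedPoint (X.presheaf.stalk ξ))
  have hker : RingHom.ker (Cyc.specMap x ξ hsp) = p.asIdeal := by
    ext a
    show X.residue ξ ((X.presheaf.stalkSpecializes hsp) a) = 0 ↔
      (X.presheaf.stalkSpecializes hsp) a ∈ maximalIdeal (X.presheaf.stalk ξ)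
    exact IsLocalRing.residue_eq_zero_iff _
  have hpξ : X.fromSpecStalk x p = ξ := by
    have e := Scheme.SpecMap_stalkSpecializes_fromSpecStalk (X := X) hsp
    calc X.fromSpecStalk x p
        = (Spec.map (X.presheaf.stalkSpecializes hsp) ≫ X.fromSpecStalk x) (closedPoint _) := rfl
      _ = ξ := by rw [e]; exact Scheme.fromSpecStalk_closedPoint
  have hmin : p.asIdeal ∈ (Module.annihilator R R).minimalPrimes := by
    rw [Module.annihilator_eq_bot.2 inferInstance]
    refine ⟨⟨p.2, bot_le⟩, fun Q hQ hle => ?_⟩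
    have h1 : X.fromSpecStalk x ⟨Q, hQ.1⟩ ⤳ X.fromSpecStalk x p :=
      ((PrimeSpectrum.le_iff_specializes ⟨Q, hQ.1⟩ p).1 hle).map (X.fromSpecStalk x).continuous
    rw [hpξ] at h1
    have h2 : (⟨Q, hQ.1⟩ : PrimeSpectrum R) = p :=
      (X.fromSpecStalk x).isEmbedding.injective ((hmax _ h1).trans hpξ.symm)
    exact (congrArg PrimeSpectrum.asIdeal h2).ge
  have h3 := Groth.Agent.Depth.ringKrullDim_quotient_associatedPrime
    ((Groth.Agent.Depth.isCohenMacaulayLocalRing_iff (R := R)).mp hcm)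
    (Module.associatedPrimes.minimalPrimes_annihilator_subset_associatedPrimes R R hmin)
  rw [Module.supportDim_self_eq_ringKrullDim] at h3
  have h4 := Groth.Agent.CycLib.ringKrullDim_locQuot hd hsp
  refine ⟨(δ ξ - δ x).toNat, ?_, ?_⟩
  · rw [← h3, ← h4]
    exact ringKrullDim_eq_of_ringEquiv (Ideal.quotEquivOfEq hker.symm)
  · have := Groth.Agent.CycLib.le_of_specializes hd hsp
    omega


/-- If all local rings of X are Cohen–Macaulay then every x ∈ X has an open neighbourhood U and an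
integer n with δ(ξ) = n for every generic point ξ of an irreducible component of U (every point of U
maximal under specialization). Here a pair (X, δ) with Cyc.IsSetup plays the role of a scheme
locally of finite type over the base (S, δ) (X locally Noetherian with universally catenary local
rings, δ a dimension function). -/
theorem result (X : Scheme.{u}) (δ : X → ℤ) (hX : Cyc.IsSetup X δ) (hCM : ∀ x : X, LocCoh.IsCohenMacaulayLocalRing ↑(X.presheaf.stalk x)) (x : X) : ∃ (U : X.Opens) (n : ℤ), x ∈ U ∧ ∀ ξ : X, ξ ∈ U → (∀ ξ' : X, ξ' ⤳ ξ → ξ' = ξ) → δ ξ = n := by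
  haveI := hX.1
  obtain ⟨V, hV, hxV, -⟩ := exists_isAffineOpen_mem_and_subset (show x ∈ (⊤ : X.Opens) from trivial)
  haveI : IsNoetherianRing Γ(X, V) := IsLocallyNoetherian.component_noetherian ⟨V, hV⟩
  haveI : IsAffine V.toScheme := hV
  haveI : IsLocallyNoetherian V.toScheme := isLocallyNoetherian_of_isOpenImmersion V.ι
  haveI : IsNoetherian V.toScheme := ⟨⟩
  let M : Set X := {ξ | ξ ∈ V ∧ ∀ ξ' : X, ξ' ⤳ ξ → ξ' = ξ}
  have hMfin : M.Finite := by
    have hsub : M ⊆ V.ι '' {w : V.toScheme | closure ({w} : Set V.toScheme) ∈ irreducibleComponents V.toScheme} := by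
      rintro ξ ⟨hξV, hmax⟩
      refine ⟨⟨ξ, hξV⟩, ⟨isIrreducible_singleton.closure, fun T hT hle => ?_⟩, rfl⟩
      have hsp : hT.genericPoint ⤳ (⟨ξ, hξV⟩ : V.toScheme) :=
        hT.isGenericPoint_genericPoint_closure.specializes (subset_closure (hle (subset_closure rfl)))
      have he : hT.genericPoint = (⟨ξ, hξV⟩ : V.toScheme) :=
        Subtype.ext (hmax _ (hsp.map V.ι.continuous))
      have hg := hT.isGenericPoint_genericPoint_closure
      rw [he] at hg
      exact subset_closure.trans hg.def.symm.le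
    refine (Set.Finite.image _ ?_).subset hsub
    refine Set.Finite.of_finite_image ((TopologicalSpace.NoetherianSpace.finite_irreducibleComponents
      (α := V.toScheme)).subset (Set.image_subset_iff.2 fun w hw => hw)) ?_
    intro a _ b _ hab
    have ha : IsGenericPoint a (closure {a}) := isGenericPoint_closure
    have hb : IsGenericPoint b (closure {a}) := by
      simp only at hab
      rw [hab]; exact isGenericPoint_closure
    exact ha.eq hb
  let C : Set X := ⋃ ξ ∈ {ξ ∈ M | ¬ ξ ⤳ x}, closure {ξ}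
  have hC : IsClosed C := (hMfin.subset (Set.sep_subset _ _)).isClosed_biUnion fun ξ _ => isClosed_closure
  let U : X.Opens := V ⊓ ⟨Cᶜ, hC.isOpen_compl⟩
  have hxU : x ∈ U := ⟨hxV, fun hx => by
    simp only [C, Set.mem_iUnion] at hx
    obtain ⟨ξ, ⟨_, hξ⟩, hmem⟩ := hx
    exact hξ (specializes_iff_mem_closure.2 hmem)⟩
  have hgen : ∀ ξ : X, ξ ∈ U → (∀ ξ' : X, ξ' ⤳ ξ → ξ' = ξ) → ξ ⤳ x := fun ξ hξ hmax => by
    by_contra h
    refine hξ.2 (Set.mem_biUnion (x := ξ) ⟨⟨hξ.1, hmax⟩, h⟩ (subset_closure rfl))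
  haveI := hCM x
  obtain ⟨d, hd, -⟩ := Groth.Agent.RegLoc.exists_natCast_eq_ringKrullDim (X.presheaf.stalk x)
  refine ⟨U, δ x + d, hxU, fun ξ hξ hmax => ?_⟩
  obtain ⟨d', hd', he⟩ := delta_eq X δ hX.2.2 x ξ (hCM x) (hgen ξ hξ hmax) hmax
  rw [hd] at hd'
  have : d = d' := by exact_mod_cast hd'
  omega

end Groth.Agent.S6461
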