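import Groth.Statements.S6463
import Groth.Agent.LFDesc.Trivial
import Mathlib.AlgebraicGeometry.Morphisms.Proper

set_option backward.isDefEq.respectTransparency false

set_option autoImplicit false
universe u
open CategoryTheory CategoryTheory.Limits AlgebraicGeometry
open PicF

namespace Groth.Agent.S6463

/-- For a field k and a smooth projective curve X over k that has a k-rational point σ, the conditions
under which the Picard functor is computed through the section are met: f : X → Spec k is flat,
proper and of finite presentation with a section, and O_T → f_{T,*} O_{X_T} is an isomorphism for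
every scheme T over k. Only the last assertion is stated (the others are part of the hypotheses or
immediate): for every t : T → Spec k, the sheaf map of the base change X ×_k T → T is an
isomorphism. Proper replaces projective (they agree for curves over a field). -/
theorem result (k : Type u) [Field k] (X : Scheme.{u}) (f : X ⟶ Spec (CommRingCat.of k)) (hX : Curve.IsSmoothProperCurve k X f) (σ : Spec (CommRingCat.of k) ⟶ X) (hσ : σ ≫ f = 𝟙 (Spec (CommRingCat.of k))) (T : Scheme.{u}) (t : T ⟶ Spec (CommRingCat.of k)) : IsIso (pullback.snd f t).c := by
  obtain ⟨_, _, _, -⟩ := hX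
  have hfield := isField_of_universallyClosed (K := k) f
  let := hfield.toField
  have : Nontrivial Γ(Spec (CommRingCat.of k), ⊤) :=
    (Scheme.ΓSpecIso (CommRingCat.of k)).commRingCatIsoToRingEquiv.toEquiv.nontrivial
  have hinj : Function.Injective σ.appTop := RingHom.injective σ.appTop.hom
  have hcomp : ∀ x, σ.appTop (f.appTop x) = x := fun x => by
    rw [← ConcreteCategory.comp_apply, ← Scheme.Hom.comp_appTop, hσ]
    simp
  have htop : Function.Bijective f.appTop :=
    ⟨Function.LeftInverse.injective hcomp, fun y => ⟨σ.appTop y, hinj (hcomp _)⟩⟩
  have hf : ∀ U : (Spec (CommRingCat.of k)).Opens, Function.Bijective (f.app U) := fun U => by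
    rcases eq_or_ne U ⊥ with rfl | hU
    · have h1 : Subsingleton Γ(X, f ⁻¹ᵁ ⊥) := CommRingCat.subsingleton_of_isTerminal
        (X.sheaf.isTerminalOfEqEmpty (by ext; simp))
      have h2 : Subsingleton Γ(Spec (CommRingCat.of k), ⊥) := CommRingCat.subsingleton_of_isTerminal
        ((Spec (CommRingCat.of k)).sheaf.isTerminalOfEqEmpty rfl)
      exact ⟨fun a b _ => Subsingleton.elim a b, fun b => ⟨0, Subsingleton.elim _ _⟩⟩
    · obtain rfl : U = ⊤ := by
        obtain ⟨x, hx⟩ := (TopologicalSpace.Opens.ne_bot_iff_nonempty U).1 hU
        refine eq_top_iff.2 fun y _ => ?_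
        rw [show y = x from Subsingleton.elim (α := PrimeSpectrum k) y x]
        exact hx
      exact htop
  have hc : ∀ U, IsIso ((pullback.snd f t).app U) := fun U => (ConcreteCategory.isIso_iff_bijective _).2
    (LFDesc.bijective_app_of_isPullback (IsPullback.of_hasPullback f t) hf U)
  have : ∀ U, IsIso ((pullback.snd f t).c.app U) := fun U => hc U.unop
  exact NatIso.isIso_of_isIso_app _

end Groth.Agent.S6463
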