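import Groth.Statements.S6473
import Groth.Agent.IntMult88.Geom
import Groth.Agent.RegImm44.Affine
import Mathlib.RingTheory.Ideal.KrullsHeightTheorem

set_option autoImplicit false
universe u
open CategoryTheory CategoryTheory.Limits AlgebraicGeometry
open IntMult

namespace Groth.Agent.S6473

section
open CategoryTheory CategoryTheory.Limits AlgebraicGeometry TopologicalSpace

namespace Groth.Agent.RegDim88

variable (k : Type u) [Field k] {P Z : Scheme.{u}}
  [P.Over (Spec (CommRingCat.of k))] [LocallyOfFiniteType (P ↘ Spec (CommRingCat.of k))]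
  [Z.Over (Spec (CommRingCat.of k))] [LocallyOfFiniteType (Z ↘ Spec (CommRingCat.of k))]

/-- An immersion-like map does not lower the dimension of points. -/
theorem dimPt_le_of_isEmbedding (p : P ⟶ Z) (hp : Topology.IsEmbedding p) (t : P) (V : Z.Opens)
    (htV : p t ∈ V) (hcl : ∀ w ∈ V, p t ⤳ w → w ∈ Set.range p) :
    VarDim.dimPt k Z (p t) ≤ VarDim.dimPt k P t := by
  obtain ⟨y, hy, hyV, hy0⟩ := VarDim.exists_le_dimPt_eq_zero k (p t) V htV
  obtain ⟨-, l, hl0, hl1, hl2⟩ := VarDim.exists_ltSeries_of_le k hy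
  have hmem : ∀ i, l i ∈ Set.range p := fun i =>
    hcl _ ((show l i ⤳ y from hl0 ▸ l.monotone (Fin.zero_le i)).mem_open V.2 hyV)
      ((l.monotone (Fin.le_last i)).trans hl1)
  choose q hq using hmem
  have hle : ∀ a b : P, a ≤ b ↔ p a ≤ p b := fun a b =>
    (hp.isInducing.specializes_iff).symm
  have hlt : ∀ a b : P, a < b ↔ p a < p b := fun a b => by
    rw [lt_iff_le_not_ge, lt_iff_le_not_ge, hle, hle]
  let l' : LTSeries P := LTSeries.mk l.length q fun i j hij => (hlt _ _).2 (by
    rw [hq, hq]; exact l.strictMono hij)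
  have h1 := Order.length_le_height (p := l') (x := t)
    ((hle _ _).2 (by
      show p (q (Fin.last _)) ≤ p t
      rw [hq]; exact hl1))
  rw [VarDim.height_eq_dimPt k] at h1
  have h2 : l.length ≤ VarDim.dimPt k P t := by exact_mod_cast h1
  rw [hy0, zero_add] at hl2
  omega

/-- Krull: a maximal ideal which is the radical of `c` elements has height at most `c`. -/
theorem ringKrullDim_le_of_radical {R : Type u} [CommRing R] [IsLocalRing R] [IsNoetherianRing R]
    (J : Ideal R) (hJ : J ≤ IsLocalRing.maximalIdeal R) (h : ∀ q : Ideal R, q.IsPrime → J ≤ q →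
      q = IsLocalRing.maximalIdeal R) : ringKrullDim R ≤ J.spanFinrank := by
  have h1 := ringKrullDim_le_ringKrullDim_quotient_add_spanFinrank J
    (hJ.trans (IsLocalRing.ringJacobson_eq_maximalIdeal R).ge)
  have h2 : ringKrullDim (R ⧸ J) ≤ 0 := by
    refine Ring.krullDimLE_iff.1 (Ring.krullDimLE_zero_iff.2 fun q hq => ?_)
    have h3 := h (q.comap (Ideal.Quotient.mk J)) (Ideal.comap_isPrime _ _)
      (le_of_eq_of_le Ideal.mk_ker.symm (Ideal.comap_mono bot_le))
    have h4 : Ideal.map (Ideal.Quotient.mk J) (q.comap (Ideal.Quotient.mk J)) = q :=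
      Ideal.map_comap_of_surjective _ Ideal.Quotient.mk_surjective q
    rw [← h4]
    refine (Ideal.map_eq_top_or_isMaximal_of_surjective _ Ideal.Quotient.mk_surjective
      (h3 ▸ IsLocalRing.maximalIdeal.isMaximal R)).resolve_left ?_
    rw [h4]; exact hq.ne_top
  have h5 := h1.trans (add_le_add h2 le_rfl)
  rwa [zero_add] at h5

end Groth.Agent.RegDim88

end

set_option backward.isDefEq.respectTransparency false

/-- Let f : X → Y be a morphism of varieties over K which is a regular immersion of codimension c, and Z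
⊂ Y a closed subvariety of dimension d. Then each irreducible component T of f⁻¹(Z) = X ×_Y Z
satisfies dim T ≥ d − c; stated as d ≤ dim T + c. Varieties: integral, separated, of finite type
over the algebraically closed field K. (The published statement takes f to be a closed immersion,
regular immersions being closed there; this row allows any immersion cut out, locally on Y where it
is closed, by a regular sequence of length c, the bound being local on Y. The published statement
also has a second part, for local complete intersection morphisms of a given relative dimension,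
which this row does not state.) -/
theorem result (K : Type u) [Field K] [IsAlgClosed K] (X Y Z : Scheme.{u}) (gX : X ⟶ Spec (CommRingCat.of K)) (gY : Y ⟶ Spec (CommRingCat.of K)) [IsSeparated gX] [LocallyOfFiniteType gX] [QuasiCompact gX] [IsIntegral X] [IsSeparated gY] [LocallyOfFiniteType gY] [QuasiCompact gY] [IsIntegral Y] (f : X ⟶ Y) (hf : f ≫ gY = gX) (c : ℕ) (hreg : RegImm.IsRegularImmersionOfCodim RegImm.Kind.regular c f) (ι : Z ⟶ Y) [IsClosedImmersion ι] [IsIntegral Z] (d : ℕ) (hd : topologicalKrullDim Z = d) (T : Set ↥(pullback f ι)) (hT : T ∈ irreducibleComponents ↥(pullback f ι)) : ((d : ℕ) : WithBot ℕ∞) ≤ topologicalKrullDim ↥T + c := by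
  classical
  obtain ⟨hfi, hchart⟩ := hreg
  haveI := hfi
  haveI : QuasiSober ↥(pullback f ι) := inferInstance
  have hTc : IsClosed T := isClosed_of_mem_irreducibleComponents T hT
  obtain ⟨t, ht⟩ := QuasiSober.sober hT.1 hTc
  have hmax : ∀ y : ↥(pullback f ι), y ⤳ t → y = t := fun y hy => by
    have h1 : closure {t} ⊆ closure {y} := specializes_iff_closure_subset.1 hy
    have h2 := hT.2 isIrreducible_singleton.closure (ht.def.symm ▸ h1)
    refine ((specializes_iff_closure_subset.2 ?_).antisymm hy).eq.symm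
    rw [ht.def]; exact h2
  haveI hsnd : IsImmersion (pullback.snd f ι) := MorphismProperty.pullback_snd _ _ inferInstance
  obtain ⟨U, hxU, hUc, rs, hlen, -, hker⟩ := hchart (pullback.fst f ι t)
  haveI := hUc
  set z := pullback.snd f ι t with hz
  have hcomm : ∀ p : ↥(pullback f ι), ι (pullback.snd f ι p) = f (pullback.fst f ι p) := fun p => by
    rw [← Scheme.Hom.comp_apply, ← pullback.condition, Scheme.Hom.comp_apply]
  have hzU : ι z ∈ U.1 := by rw [hz, hcomm]; exact hxU
  -- points of `Z` over `U` killed by the equations lie in the image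
  have hrange : ∀ w : Z, ι w ∈ U.1 → (∀ r ∈ rs, ι w ∉ Y.basicOpen r) →
      w ∈ Set.range (pullback.snd f ι) := by
    intro w hw hr
    have hle : RingHom.ker (f.app U.1).hom ≤ (U.2.primeIdealOf ⟨ι w, hw⟩).asIdeal := by
      rw [hker, Ideal.ofList, Ideal.span_le]
      intro r hr'
      by_contra hc
      exact hr r hr' ((Groth.Agent.RegImm44.mem_basicOpen_iff U.2 ⟨ι w, hw⟩ r).2 hc)
    obtain ⟨x, hx⟩ := Groth.Agent.RegImm44.exists_preimage_of_ker_le f U.2 _ hle
    rw [U.2.fromSpec_primeIdealOf] at hx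
    obtain ⟨q, -, hq⟩ := Scheme.Pullback.exists_preimage_pullback x w hx
    exact ⟨q, hq⟩
  have hzero : ∀ r ∈ rs, ι z ∉ Y.basicOpen r := by
    intro r hr hmem
    have hle := Groth.Agent.RegImm44.ker_le_primeIdealOf f U.2 (pullback.fst f ι t) hxU
      (show r ∈ RingHom.ker (f.app U.1).hom by rw [hker]; exact Ideal.subset_span hr)
    have hmem' : f (pullback.fst f ι t) ∈ Y.basicOpen r := hcomm t ▸ hmem
    exact (Groth.Agent.RegImm44.mem_basicOpen_iff U.2 ⟨_, hxU⟩ r).1 hmem' hle
  -- structures over `K`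
  letI : Z.Over (Spec (CommRingCat.of K)) := ⟨ι ≫ gY⟩
  haveI : LocallyOfFiniteType (Z ↘ Spec (CommRingCat.of K)) :=
    inferInstanceAs (LocallyOfFiniteType (ι ≫ gY))
  letI : (pullback f ι).Over (Spec (CommRingCat.of K)) := ⟨pullback.snd f ι ≫ ι ≫ gY⟩
  haveI : LocallyOfFiniteType (pullback.snd f ι) := inferInstance
  haveI : LocallyOfFiniteType ((pullback f ι) ↘ Spec (CommRingCat.of K)) :=
    inferInstanceAs (LocallyOfFiniteType (pullback.snd f ι ≫ ι ≫ gY))
  haveI : IsLocallyNoetherian Z :=
    LocallyOfFiniteType.isLocallyNoetherian (Z ↘ Spec (CommRingCat.of K))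
  -- the local dimension is at most `c`
  let φ : Γ(Y, U.1) →+* Z.presheaf.stalk z :=
    (Z.presheaf.germ (ι ⁻¹ᵁ U.1) z hzU).hom.comp (ι.app U.1).hom
  have hiff : ∀ (r : Γ(Y, U.1)) (w : Z) (hw : ι w ∈ U.1), ι w ∈ Y.basicOpen r ↔
      IsUnit (Z.presheaf.germ (ι ⁻¹ᵁ U.1) w hw (ι.app U.1 r)) := fun r w hw => by
    have h2 : (ι ⁻¹ᵁ Y.basicOpen r) = Z.basicOpen (ι.app U.1 r) := Scheme.preimage_basicOpen ι r
    rw [← Scheme.mem_basicOpen _ _ w hw, ← h2]
    rfl
  have hdim : ringKrullDim (Z.presheaf.stalk z) ≤ (c : WithBot ℕ∞) := by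
    refine le_trans (Groth.Agent.RegDim88.ringKrullDim_le_of_radical
      (Ideal.span ((rs.map φ).toFinset : Set (Z.presheaf.stalk z))) ?_ ?_) ?_
    · rw [Ideal.span_le]
      intro a ha
      simp only [List.coe_toFinset, List.mem_map, Set.mem_ofPred_eq] at ha
      obtain ⟨r, hr, rfl⟩ := ha
      exact fun hu => hzero r hr ((hiff r z hzU).2 hu)
    · intro q hq hJq
      let p : ↥(Spec (Z.presheaf.stalk z)) := ⟨q, hq⟩
      have hp : Z.fromSpecStalk z p ⤳ z := by
        have : Z.fromSpecStalk z p ∈ Set.range (Z.fromSpecStalk z) := ⟨p, rfl⟩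
        rwa [Scheme.range_fromSpecStalk] at this
      set w := Z.fromSpecStalk z p with hw
      have hwU : ι w ∈ U.1 := (hp.map ι.continuous).mem_open U.1.2 hzU
      have hwr : ∀ r ∈ rs, ι w ∉ Y.basicOpen r := by
        intro r hr hmem
        have h1 : p ∈ Z.fromSpecStalk z ⁻¹ᵁ Z.basicOpen (ι.app U.1 r) := by
          show w ∈ Z.basicOpen (ι.app U.1 r)
          exact (Scheme.mem_basicOpen _ _ w hwU).2 ((hiff r w hwU).1 hmem)
        have h2 : (Z.presheaf.germ (ι ⁻¹ᵁ U.1) z hzU (ι.app U.1 r)) ∈ q :=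
          hJq (Ideal.subset_span (by simpa using ⟨r, hr, rfl⟩))
        have hzV : z ∈ ι ⁻¹ᵁ U.1 := hzU
        rw [Scheme.preimage_basicOpen, Scheme.fromSpecStalk_app hzV, CommRingCat.comp_apply,
          CommRingCat.comp_apply, Scheme.basicOpen_res, basicOpen_eq_of_affine',
          Iso.inv_hom_id_apply] at h1
        exact h1.2 h2
      obtain ⟨q', hq'⟩ := hrange w hwU hwr
      have h3 : q' = t := hmax q' ((pullback.snd f ι).isEmbedding.isInducing.specializes_iff.1
        (by rw [hq', ← hz]; exact hp))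
      have h4 : p = IsLocalRing.closedPoint (Z.presheaf.stalk z) :=
        (Z.fromSpecStalk z).isEmbedding.injective
          ((hw.symm.trans (hq'.symm.trans (by rw [h3]))).trans Scheme.fromSpecStalk_closedPoint.symm)
      exact congrArg PrimeSpectrum.asIdeal h4
    · refine Nat.cast_le.2 ?_
      refine (Submodule.spanFinrank_span_le_ncard_of_finite (Finset.finite_toSet _)).trans ?_
      rw [Set.ncard_coe_finset]
      exact (List.toFinset_card_le _).trans (by simp [hlen])
  obtain ⟨hd1, hd2⟩ := Groth.Agent.IntMult88.ringKrullDim_stalk_eq K hd z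
  have hd3 : d - Groth.Agent.VarDim.dimPt K Z z ≤ c := by
    rw [hd1] at hdim; exact_mod_cast hdim
  have hd4 : Groth.Agent.VarDim.dimPt K Z z ≤ Groth.Agent.VarDim.dimPt K (pullback f ι) t := by
    refine Groth.Agent.RegDim88.dimPt_le_of_isEmbedding K _ (pullback.snd f ι).isEmbedding t
      (ι ⁻¹ᵁ U.1) hzU fun w hw hzw => hrange w hw fun r hr hmem => hzero r hr ?_
    exact (hzw.map ι.continuous).mem_open (Y.basicOpen r).2 hmem
  have hTdim := Groth.Agent.VarBC.Dim.topDim_closure K t
  rw [ht.def] at hTdim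
  rw [hTdim]
  exact_mod_cast (by omega : d ≤ Groth.Agent.VarDim.dimPt K (pullback f ι) t + c)

end Groth.Agent.S6473
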