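import Groth.Statements.S6475
import Groth.Agent.CycLib.DevDegVan
import Groth.Agent.CycLib.ModStalk
import Groth.Agent.CycLib.MapLib
import Groth.Agent.S1899

set_option autoImplicit false
universe u
open CategoryTheory AlgebraicGeometry
open Cyc

namespace Groth.Agent.S6475

open Groth.Agent Groth.Agent.CycLib.Dev

theorem capIter_ofFn {X : Scheme.{u}} (δ : X → ℤ) : ∀ {d : ℕ} (D : Fin d → TwDatum X) (γ : ℕ → X → ℤ),
    (∀ (i : ℕ) (h : i < d), γ (i + 1) = Cyc.c1CapFun δ (D ⟨i, h⟩).L (γ i) (D ⟨i, h⟩).s) →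
      capIter δ (List.ofFn D) (γ 0) = γ d
  | 0, _, _, _ => rfl
  | d + 1, D, γ, h => by
    rw [List.ofFn_succ]
    simp only [capIter]
    have := capIter_ofFn δ (fun i => D i.succ) (fun i => γ (i + 1)) fun i hi => h (i + 1) (by omega)
    rw [show Cyc.c1CapFun δ (D 0).L (γ 0) (D 0).s = γ (0 + 1) from (h 0 (by omega)).symm]
    exact this

/-- Let X be proper over a field k, Z ⊂ X a closed subscheme of dimension d and L_1, …, L_d invertible
O_X-modules. Then the intersection number (L_1 ⋯ L_d · Z) equals deg(c_1(L_1) ∩ … ∩ c_1(L_d) ∩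
[Z]_d). The left side is FGA.intNum (alternating sum of Euler characteristics of (⊗_{i∈I} M_i) ⊗ O_Z
with M_i inverse to L_i, which is the number defined through the numerical polynomial); the right
side iterates Cyc.c1CapFun with any nonzero rational sections starting from [Z]_d and takes
ChowOps.deg of the resulting 0-cycle. Dimension function: transcendence degree over k. The caps are
applied starting with L_1 (innermost), the reverse of the displayed order; the degree does not
depend on the order. (The published statement also gives deg_L(Z) = deg(c_1(L)^d ∩ [Z]_d) for an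
ample L, the case L_1 = … = L_d = L; this row does not restate it.) -/
theorem result (k : Type u) [Field k] (X : Scheme.{u}) [X.Over (Spec (CommRingCat.of k))] [IsProper (X ↘ Spec (CommRingCat.of k))] (δ : X → ℤ) (hX : Cyc.IsSetup X δ) (hδ : Cyc.DeltaCompat (X ↘ Spec (CommRingCat.of k)) δ (fun _ => 0)) (Z : Scheme.{u}) (ι : Z ⟶ X) [IsClosedImmersion ι] (d : ℕ) (hd : topologicalKrullDim Z = d) (L M : Fin d → X.Modules) (hL : ∀ i, PicF.IsInvertible (L i)) (hM : ∀ i, Nonempty (CohB1.tensorMod (M i) (L i) ≅ Coh.structureModule X)) (s : (i : Fin d) → (ξ : X) → Cyc.secFibre (L i) ξ) (hs : ∀ i ξ, s i ξ ≠ 0) (γ : ℕ → X → ℤ) (hγ0 : γ 0 = Cyc.subschemeFun δ d ι) (hγs : ∀ (i : ℕ) (h : i < d), γ (i + 1) = Cyc.c1CapFun δ (L ⟨i, h⟩) (γ i) (s ⟨i, h⟩)) (α : AlgebraicCycle X ℤ) (hα : ⇑α = γ d) : FGA.intNum k X d M ((Coh.push ι).obj (Coh.structureModule Z)) = ChowOps.deg (X ↘ Spec (CommRingCat.of k)) δ α := by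
  haveI := EulerChar.isLocallyNoetherian k (X := X)
  have hdX := isDimFun_delta k hδ
  letI : Z.Over (Spec (CommRingCat.of k)) := ⟨ι ≫ (X ↘ Spec (CommRingCat.of k))⟩
  haveI : IsProper (Z ↘ Spec (CommRingCat.of k)) :=
    inferInstanceAs (IsProper (ι ≫ (X ↘ Spec (CommRingCat.of k))))
  have hδZ : Cyc.DeltaCompat (Z ↘ Spec (CommRingCat.of k)) (fun z => δ (ι z)) (fun _ => 0) :=
    CycLib.deltaCompat_comp (CycLib.deltaCompat_preimmersion ι δ) hδ
  have hZd : ∀ z : Z, δ (ι z) ≤ (d : ℤ) := delta_le_of_dim k hδZ (δ := fun z => δ (ι z)) hd.le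
  set F := (Coh.push ι).obj (Coh.structureModule Z) with hFdef
  have hF : Cyc.CohLe δ (d : ℤ) F := by
    refine ⟨CycLib.isCoh_push _ ι (ProperFin.isCoh_structureModule Z), fun x hx => ?_⟩
    by_contra hlt
    refine not_nontrivial_iff_subsingleton.2 (CycLib.subsingleton_stalk_push_of_not_mem ι fun hr => ?_) hx
    obtain ⟨z, rfl⟩ := hr
    exact hlt (hZd z)
  let D : Fin d → TwDatum X := fun i => ⟨L i, M i, hL i, (hM i).some, s i, hs i⟩
  have key := twEuler_eq k hδ (List.ofFn D) d List.length_ofFn F hF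
  rw [← Groth.Agent.S1899.result X Z δ hX ι (d : ℤ) hZd, ← hγ0, capIter_ofFn δ D γ hγs, twEuler_ofFn k D F] at key
  have hdim : topologicalKrullDim (Set.range ι) ≤ (d : WithBot ℕ∞) := by
    rw [← IsHomeomorph.topologicalKrullDim_eq _ ι.isClosedEmbedding.isEmbedding.toHomeomorph.isHomeomorph]
    exact hd.le
  have hsum : FGA.intNum k X d M F = CycLib.Dev.degFun k (γ d) := by
    rw [← key, FGA.intNum]
    refine Finset.sum_congr rfl fun I _ => congrArg _ ?_
    refine eulerCharLE_eq k _ ι.isClosedEmbedding.isClosed_range (fun x hx => ?_) hdim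
    haveI := CycLib.subsingleton_stalk_push_of_not_mem ι hx
    exact (Ref1.tfrom_surjective _ F x).subsingleton
  rw [hsum]
  have hcyc : IsCyc δ 0 (γ d) := by
    rw [← capIter_ofFn δ D γ hγs]
    refine isCyc_capIter k hδ _ ?_
    rw [List.length_ofFn, hγ0, Groth.Agent.S1899.result X Z δ hX ι (d : ℤ) hZd]
    exact isCyc_sheafFun hdX hF
  classical
  have hfin := hcyc.finite_support k
  rw [ChowOps.deg]
  refine Eq.trans ?_ (CycLib.map_apply_eq_sum (X ↘ Spec (CommRingCat.of k)) δ (fun _ => (0 : ℤ)) α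
    (IsLocalRing.closedPoint k : Spec (CommRingCat.of k)) hfin.toFinset
    fun x _ hx => hfin.mem_toFinset.2 (by rwa [hα] at hx)).symm
  have hP : ∀ x : X, (X ↘ Spec (CommRingCat.of k)) x = (IsLocalRing.closedPoint k : Spec (CommRingCat.of k)) :=
    fun x => Subsingleton.elim (α := PrimeSpectrum k) _ _
  refine Eq.trans ?_ (Finset.sum_congr (Finset.filter_true_of_mem fun x _ => hP x).symm fun _ _ => rfl)
  rw [CycLib.Dev.degFun, finsum_eq_sum_of_support_subset _ (s := hfin.toFinset) fun x hx => by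
    rw [Set.Finite.coe_toFinset]; exact fun h0 => hx (by simp [h0])]
  refine Finset.sum_congr rfl fun x hx => ?_
  have hx0 : δ x = 0 := not_not.1 fun h => (hfin.mem_toFinset.1 hx) (hcyc.zero x h)
  rw [AlgebraicCycle.mapCoeff, if_pos hx0, hα, mul_comm]

end Groth.Agent.S6475
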