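import Groth.Statements.S6476
import Groth.Agent.CycHerb.MinimalPrime
-- import your own Groth.Agent.* helpers here

set_option autoImplicit false
universe u v
open CycAlg

namespace Groth.Agent.S6476

/-- Let A be a Noetherian local ring, M a finite A-module of dimension 1, and φ, ψ : M → M injective
with φ(ψ(M)) = ψ(φ(M)) (e.g. φ, ψ commute). Then length_A(M/φψM) is finite and (M/φψM, φ, ψ) is an
exact (2, 1)-periodic complex; here φ', ψ' denote the endomorphisms of M/φψM induced by φ and ψ, and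
exactness says both cohomology modules (CycAlg.perH) are trivial. -/
theorem result {A : Type u} [CommRing A] [IsNoetherianRing A] [IsLocalRing A] {M : Type v} [AddCommGroup M] [Module A M] [Module.Finite A M] (hdim : Module.supportDim A M = 1) (φ ψ : M →ₗ[A] M) (hφ : Function.Injective φ) (hψ : Function.Injective ψ) (hcomm : Submodule.map φ (LinearMap.range ψ) = Submodule.map ψ (LinearMap.range φ)) (φ' ψ' : (M ⧸ LinearMap.range (φ ∘ₗ ψ)) →ₗ[A] (M ⧸ LinearMap.range (φ ∘ₗ ψ))) (hφ' : φ' ∘ₗ (LinearMap.range (φ ∘ₗ ψ)).mkQ = (LinearMap.range (φ ∘ₗ ψ)).mkQ ∘ₗ φ) (hψ' : ψ' ∘ₗ (LinearMap.range (φ ∘ₗ ψ)).mkQ = (LinearMap.range (φ ∘ₗ ψ)).mkQ ∘ₗ ψ) : Module.length A (M ⧸ LinearMap.range (φ ∘ₗ ψ)) < ⊤ ∧ CycAlg.IsPeriodic φ' ψ' ∧ Subsingleton (CycAlg.perH φ' ψ') ∧ Subsingleton (CycAlg.perH ψ' φ') := by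
  have hP : ∀ m, m ∈ LinearMap.range (φ ∘ₗ ψ) ↔ ∃ z, ψ (φ z) = m := fun m => by
    rw [LinearMap.range_comp, hcomm, ← LinearMap.range_comp]; rfl
  have eφ : ∀ m, φ' (Submodule.Quotient.mk m) = Submodule.Quotient.mk (φ m) := fun m =>
    DFunLike.congr_fun hφ' m
  have eψ : ∀ m, ψ' (Submodule.Quotient.mk m) = Submodule.Quotient.mk (ψ m) := fun m =>
    DFunLike.congr_fun hψ' m
  refine ⟨(Groth.Agent.CycHerb.length_coker_ne_top_of_injective hdim.le (φ ∘ₗ ψ)
    (hφ.comp hψ)).lt_top, ⟨?_, ?_⟩, ?_, ?_⟩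
  · refine LinearMap.ext fun q => ?_
    obtain ⟨m, rfl⟩ := Submodule.Quotient.mk_surjective _ q
    rw [LinearMap.comp_apply, eψ, eφ, LinearMap.zero_apply, Submodule.Quotient.mk_eq_zero]
    exact ⟨m, rfl⟩
  · refine LinearMap.ext fun q => ?_
    obtain ⟨m, rfl⟩ := Submodule.Quotient.mk_surjective _ q
    rw [LinearMap.comp_apply, eφ, eψ, LinearMap.zero_apply, Submodule.Quotient.mk_eq_zero, hP]
    exact ⟨m, rfl⟩
  · rw [Submodule.Quotient.subsingleton_iff, eq_top_iff]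
    rintro ⟨q, hq⟩ -
    obtain ⟨m, rfl⟩ := Submodule.Quotient.mk_surjective _ q
    rw [LinearMap.mem_ker, eφ, Submodule.Quotient.mk_eq_zero] at hq
    obtain ⟨z, hz⟩ := hq
    have hz' : ψ z = m := hφ hz
    exact ⟨Submodule.Quotient.mk z, by rw [eψ, hz']; rfl⟩
  · rw [Submodule.Quotient.subsingleton_iff, eq_top_iff]
    rintro ⟨q, hq⟩ -
    obtain ⟨m, rfl⟩ := Submodule.Quotient.mk_surjective _ q
    rw [LinearMap.mem_ker, eψ, Submodule.Quotient.mk_eq_zero, hP] at hq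
    obtain ⟨z, hz⟩ := hq
    have hz' : φ z = m := hψ hz
    exact ⟨Submodule.Quotient.mk z, by rw [eφ, hz']; rfl⟩

end Groth.Agent.S6476
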