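import Groth.Statements.S6477
import Groth.Agent.CycLib.ShiftPull
import Groth.Agent.CycLib.FlatLength
import Groth.Agent.PullStalk.Basic
-- import your own Groth.Agent.* helpers here

set_option autoImplicit false
universe u
open CategoryTheory AlgebraicGeometry
open CategoryTheory.Limits
open Cyc

namespace Groth.Agent.S6477

/-- Let F be a coherent O_X-module with dim_δ Supp(F) ≤ k and F' = p^*F its base change to X'. Then
dim_{δ'} Supp(F') ≤ k + c and g^*[F]_k = [F']_{k+c} in Z_{k+c}(X') (coefficientwise; support bounds
through nontrivial stalks). Setting: p : X' → X is flat (not necessarily of finite type), (X, δ) and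
(X', δ') satisfy Cyc.IsSetup, and δ'(x') = δ(p x') + c whenever x' is maximal under generalization
inside its fibre p⁻¹(p x'); g^* : Z_k(X) → Z_{k+c}(X') is the coefficientwise flat pullback
Cyc.pullFun p δ' δ c. (The published statement takes X′ = X ×_S S′ for a flat S′ → S and X locally
of finite type over S; this row allows any flat p : X′ → X with the shift condition. The published
statement also has a part for closed subschemes, which follows with [Z]_k = [O_Z]_k; this row does
not restate it.) -/
theorem result (X X' : Scheme.{u}) (p : X' ⟶ X) [Flat p] (δ : X → ℤ) (δ' : X' → ℤ) (hX : Cyc.IsSetup X δ) (hX' : Cyc.IsSetup X' δ') (c : ℤ) (hc : ∀ x' : X', (∀ y, p y = p x' → y ⤳ x' → y = x') → δ' x' = δ (p x') + c) (k : ℤ) (F : X.Modules) (hF : Coh.IsCoh F) (hdim : ∀ x : X, Nontrivial (F.presheaf.stalk x) → δ x ≤ k) : (∀ x' : X', Nontrivial (((Scheme.Modules.pullback p).obj F).presheaf.stalk x') → δ' x' ≤ k + c) ∧ Cyc.pullFun p δ' δ c (Cyc.sheafFun δ k F) = Cyc.sheafFun δ' (k + c) ((Scheme.Modules.pullback p).obj F) := by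
  haveI := hX'.1
  have hs : CycLib.ShiftBy p δ' δ c := hc
  have hle := fun x => hs.le hX'.2.2 x
  have hloc : ∀ x : X', Module.length (X'.presheaf.stalk x) (((Scheme.Modules.pullback p).obj F).presheaf.stalk x) =
      Module.length (X.presheaf.stalk (p x)) (F.presheaf.stalk (p x)) *
        Module.length (X'.presheaf.stalk x) (X'.presheaf.stalk x ⧸
          (IsLocalRing.maximalIdeal (X.presheaf.stalk (p x))).map (p.stalkMap x).hom) := by
    intro x
    letI := (p.stalkMap x).hom.toAlgebra
    letI := PullStalk.Basic.moduleOver p F x
    haveI : IsScalarTower (X.presheaf.stalk (p x)) (X'.presheaf.stalk x)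
        (((Scheme.Modules.pullback p).obj F).presheaf.stalk x) :=
      IsScalarTower.of_algebraMap_smul fun _ _ => rfl
    haveI : IsLocalHom (algebraMap (X.presheaf.stalk (p x)) (X'.presheaf.stalk x)) :=
      inferInstanceAs (IsLocalHom (p.stalkMap x).hom)
    haveI : Module.Flat (X.presheaf.stalk (p x)) (X'.presheaf.stalk x) := Flat.stalkMap p x
    rw [← (PullStalk.Basic.isBaseChange_unitStalk p F x).equiv.length_eq]
    exact CycLib.length_tensor _
  refine ⟨fun x hx => ?_, funext fun x => ?_⟩
  · refine (hle x).trans (add_le_add (hdim (p x) ?_) le_rfl)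
    by_contra h
    haveI := not_nontrivial_iff_subsingleton.mp h
    have h0 := hloc x
    have h00 : Module.length (X.presheaf.stalk (p x)) (F.presheaf.stalk (p x)) = 0 :=
      Module.length_eq_zero_iff.mpr inferInstance
    rw [h00, zero_mul, Module.length_eq_zero_iff] at h0
    exact not_subsingleton _ h0
  · simp only [Cyc.pullFun, Cyc.sheafFun]
    have hzero : k < δ (p x) → Subsingleton (F.presheaf.stalk (p x)) := fun hlt =>
      not_nontrivial_iff_subsingleton.mp fun h => absurd (hdim _ h) (not_le.mpr hlt)
    by_cases h : δ' x = k + c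
    · rw [if_pos h, hloc x]
      rcases lt_trichotomy (δ (p x)) k with hlt | heq | hgt
      · exfalso
        have := hle x
        omega
      · rw [if_pos (by omega), if_pos heq, ENat.toNat_mul, Nat.cast_mul]
      · haveI := hzero hgt
        have h00 : Module.length (X.presheaf.stalk (p x)) (F.presheaf.stalk (p x)) = 0 :=
          Module.length_eq_zero_iff.mpr inferInstance
        rw [if_neg (by omega), h00]
        simp
    · rw [if_neg h]
      split_ifs with h1 h2
      · omega
      · exact zero_mul _
      · rfl

end Groth.Agent.S6477
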