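import Groth.Statements.S6480
import Groth.Agent.CycHerb.IndexFormula
import Groth.Agent.LenLib.OrdFrac
import Mathlib.RingTheory.Regular.IsSMulRegular
import Mathlib.RingTheory.Ideal.MinimalPrime.Localization
-- import your own Groth.Agent.* helpers here

set_option autoImplicit false
universe u
open CycAlg

namespace Groth.Agent.S6480

open Groth.Agent.CycHerb Groth.Agent.LenLib Pointwise

/-- Let A be a Noetherian local ring of dimension 1, a, b ∈ A nonzerodivisors, A without embedded
primes, M a finite A-module without embedded associated primes and with Supp(M) = Spec(A). Put I =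
{x ∈ A | x·(a/b) ∈ A}, and write 𝔮_1, …, 𝔮_t for the minimal prime ideals of A. The conclusion is
that M contains (a/b)IM, and that the difference length_A(M/(a/b)IM) minus length_A(M/IM) equals the
sum over i of length_{A_{𝔮_i}}(M_{𝔮_i}) multiplied by ord_{A/𝔮_i}(a/b). Encoding: I is the ideal
quotient (bA : aA); '(a/b)IM ⊂ M' is aIM ⊆ bM; (a/b)IM is the submodule of m with bm ∈ aIM (b acts
injectively on M); ord_{A/𝔮}(a/b) is CycAlg.ordFrac on κ(𝔮) = Frac(A/𝔮); lengths are truncated to ℕ
(they are finite here). -/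
theorem result {A : Type u} [CommRing A] [IsNoetherianRing A] [IsLocalRing A] (hA : ringKrullDim A = 1) {M : Type u} [AddCommGroup M] [Module A M] [Module.Finite A M] (a b : A) (ha : a ∈ nonZeroDivisors A) (hb : b ∈ nonZeroDivisors A) (hAemb : ∀ p ∈ associatedPrimes A A, p ∈ minimalPrimes A) (hMemb : ∀ p ∈ associatedPrimes A M, p ∈ minimalPrimes A) (hsupp : Module.support A M = Set.univ) (I : Ideal A) (hI : I = (Ideal.span {b}).colon (Ideal.span {a})) (P : Submodule A M) (hP : P = Submodule.comap (LinearMap.lsmul A M b) ((Ideal.span {a} * I) • (⊤ : Submodule A M))) : (Ideal.span {a} * I) • (⊤ : Submodule A M) ≤ LinearMap.range (LinearMap.lsmul A M b) ∧ ((Module.length A (M ⧸ P)).toNat : ℤ) - ((Module.length A (M ⧸ I • (⊤ : Submodule A M))).toNat : ℤ) = ∑ᶠ (q : PrimeSpectrum A) (_ : q.asIdeal ∈ minimalPrimes A), ((Module.length (Localization.AtPrime q.asIdeal) (LocalizedModule q.asIdeal.primeCompl M)).toNat : ℤ) * CycAlg.ordFrac (A ⧸ q.asIdeal) q.asIdeal.ResidueField (algebraMap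 A q.asIdeal.ResidueField a / algebraMap A q.asIdeal.ResidueField b) := by
  have hdimM : Module.supportDim A M ≤ 1 := hA ▸ Module.supportDim_le_ringKrullDim A M
  have hfin := finite_nonMaximal_support hdimM
  set T := hfin.toFinset with hTdef
  have hmem : ∀ p, p ∈ T ↔ ¬ p.asIdeal.IsMaximal := fun p => by
    rw [hTdef, Set.Finite.mem_toFinset]
    exact ⟨fun h => h.2, fun h => ⟨by simp [hsupp], h⟩⟩
  have hminmax : ∀ p : PrimeSpectrum A, ¬ p.asIdeal.IsMaximal ↔ p.asIdeal ∈ minimalPrimes A := by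
    intro p
    constructor
    · intro hpm
      refine ⟨⟨p.2, bot_le⟩, ?_⟩
      rintro J ⟨hJ, -⟩ hJp
      exact (congr_arg PrimeSpectrum.asIdeal (supportDim_le_one_minimal hdimM hpm
        (q := ⟨J, hJ⟩) (by simp [hsupp]) hJp)).ge
    · intro hp hpm
      have h0 : ringKrullDim A ≤ 0 := by
        refine Order.krullDim_nonpos_iff_forall_isMax.2 fun q r hqr => ?_
        have e : ∀ s : PrimeSpectrum A, s = p := fun s => by
          have h1 : s.asIdeal ≤ p.asIdeal := by
            rw [IsLocalRing.eq_maximalIdeal hpm]; exact IsLocalRing.le_maximalIdeal s.2.ne_top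
          exact PrimeSpectrum.ext (le_antisymm h1 (hp.2 ⟨s.2, bot_le⟩ h1))
        rw [e q, e r]
      rw [hA] at h0; norm_cast at h0
  have hinj : ∀ c : A, c ∈ nonZeroDivisors A → Function.Injective (LinearMap.lsmul A M c) := by
    intro c hc
    by_contra hni
    have : c ∈ ({r | IsSMulRegular M r}ᶜ : Set A) := hni
    rw [← biUnion_associatedPrimes_eq_compl_regular A M] at this
    simp only [Set.mem_iUnion] at this
    obtain ⟨q, hq, hcq⟩ := this
    exact Set.disjoint_left.1 (Ideal.disjoint_nonZeroDivisors_of_mem_minimalPrimes (hMemb q hq))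
      hcq hc
  have hx : ∀ c : A, c ∈ nonZeroDivisors A → ∀ p ∈ T, c ∉ p.asIdeal := fun c hc p hp hcp =>
    Set.disjoint_left.1 (Ideal.disjoint_nonZeroDivisors_of_mem_minimalPrimes
      ((hminmax p).1 ((hmem p).1 hp))) hcp hc
  have hanti : ∀ p ∈ T, ∀ q ∈ T, q ≤ p → q = p := fun p hp q _ hqp =>
    supportDim_le_one_minimal hdimM ((hmem p).1 hp) (by simp [hsupp]) hqp
  have hform := fun c hc => index_lsmul_eq_sum (M := M) c T (fun p hp => (hmem p).1 hp) hanti
    (hx c hc) (fun p _ hpm => (hmem p).2 hpm)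
  obtain ⟨⟨-, hca⟩, ea⟩ := hform a ha
  obtain ⟨⟨-, hcb⟩, eb⟩ := hform b hb
  obtain ⟨⟨-, hcab⟩, -⟩ := hform (a * b) (mul_mem ha hb)
  rw [index_of_injective (hinj a ha)] at ea
  rw [index_of_injective (hinj b hb)] at eb
  set La := LinearMap.lsmul A M a with hLa
  set Lb := LinearMap.lsmul A M b with hLb
  set IM : Submodule A M := I • ⊤ with hIM
  set Q : Submodule A M := (Ideal.span {a} * I) • ⊤ with hQ
  have hQa : Q = IM.map La := by
    rw [hQ, hIM, Submodule.mul_smul, Submodule.ideal_span_singleton_smul]; rfl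
  have hmemI : ∀ z ∈ I, ∃ w, w * b = z * a := fun z hz => by
    rw [hI, Submodule.mem_colon] at hz
    exact Ideal.mem_span_singleton'.1 (hz a (Ideal.mem_span_singleton_self a))
  have hbI : b ∈ I := by
    rw [hI, Submodule.mem_colon]
    intro z hz
    exact Ideal.mul_mem_right z _ (Ideal.mem_span_singleton_self b)
  have hQb : Q ≤ LinearMap.range Lb := by
    rw [hQ, Submodule.smul_le]
    intro r hr n _
    obtain ⟨z, hz, rfl⟩ := Ideal.mem_span_singleton_mul.1 hr
    obtain ⟨w, hw⟩ := hmemI z hz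
    exact ⟨w • n, by rw [hLb, LinearMap.lsmul_apply, smul_smul, mul_comm b w, hw, mul_comm]⟩
  refine ⟨hQb, ?_⟩
  have hPQ : P.map Lb = Q := by
    rw [hP]; exact Submodule.map_comap_eq_of_le hQb
  have hbQ : ∀ m, (a * b) • m ∈ Q := fun m =>
    Submodule.smul_mem_smul (Ideal.mul_mem_mul (Ideal.mem_span_singleton_self a) hbI) trivial
  have hfQ : Module.length A (M ⧸ Q) ≠ ⊤ :=
    ne_top_of_le_ne_top hcab (Module.length_le_of_surjective
      (Submodule.factor (p := LinearMap.range (LinearMap.lsmul A M (a * b))) (p' := Q)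
        (by rintro _ ⟨m, rfl⟩; exact hbQ m)) (Submodule.factor_surjective _))
  -- the two chains Q ≤ aM ≤ M and Q ≤ bM ≤ M
  have chain : ∀ (c : M →ₗ[A] M) (W : Submodule A M), Function.Injective c → W.map c = Q →
      Module.length A (M ⧸ W) ≠ ⊤ ∧
      lenZ A (M ⧸ Q) = lenZ A (M ⧸ LinearMap.range c) + lenZ A (M ⧸ W) := by
    intro c W hcinj hW
    have hle : Q ≤ LinearMap.range c := hW ▸ LinearMap.map_le_range
    let u : (M ⧸ W) →ₗ[A] (M ⧸ Q) := W.mapQ Q c (Submodule.map_le_iff_le_comap.1 hW.le)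
    have hu : Function.Injective u := by
      rw [← LinearMap.ker_eq_bot, eq_bot_iff]
      intro q hq
      obtain ⟨m, rfl⟩ := Submodule.Quotient.mk_surjective _ q
      have h' : c m ∈ Q := (Submodule.Quotient.mk_eq_zero _).1 (LinearMap.mem_ker.1 hq)
      rw [← hW] at h'
      obtain ⟨w, hw, hwm⟩ := h'
      exact (Submodule.Quotient.mk_eq_zero _).2 (hcinj hwm ▸ hw)
    have hex : Function.Exact u (Submodule.factor hle) := by
      intro q
      obtain ⟨m, rfl⟩ := Submodule.Quotient.mk_surjective _ q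
      constructor
      · intro h
        obtain ⟨w, hw⟩ := (Submodule.Quotient.mk_eq_zero _).1 h
        exact ⟨Submodule.Quotient.mk w, congr_arg Submodule.Quotient.mk hw⟩
      · rintro ⟨w, hw⟩
        obtain ⟨w, rfl⟩ := Submodule.Quotient.mk_surjective _ w
        rw [← hw]
        exact (Submodule.Quotient.mk_eq_zero _).2 ⟨w, rfl⟩
    refine ⟨ne_top_of_le_ne_top hfQ (Module.length_le_of_injective u hu), ?_⟩
    have e := lenZ_eq_range_add hex hfQ
    rw [lenZ_of_injective hu, lenZ_of_surjective (Submodule.factor_surjective hle)] at e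
    rw [e, add_comm]
  obtain ⟨-, e1⟩ := chain La IM (hinj a ha) hQa.symm
  obtain ⟨-, e2⟩ := chain Lb P (hinj b hb) hPQ
  have hset : {q : PrimeSpectrum A | q.asIdeal ∈ minimalPrimes A} =
      {p : PrimeSpectrum A | p ∈ Module.support A M ∧ ¬ p.asIdeal.IsMaximal} := by
    ext p; simp [hsupp, hminmax]
  refine Eq.trans ?_ ((finsum_mem_congr hset fun _ _ => rfl).trans
    (finsum_mem_eq_finite_toFinset_sum _ hfin)).symm
  show lenZ A (M ⧸ P) - lenZ A (M ⧸ IM) = _
  rw [show lenZ A (M ⧸ P) - lenZ A (M ⧸ IM) =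
    lenZ A (M ⧸ LinearMap.range La) - lenZ A (M ⧸ LinearMap.range Lb) by omega, ea, eb,
    ← Finset.sum_sub_distrib]
  refine Finset.sum_congr hTdef fun p hp => ?_
  have hp' := (hmem p).1 (hTdef ▸ hp)
  have : Ring.KrullDimLE 1 (A ⧸ p.asIdeal) :=
    Ring.krullDimLE_iff.2 (le_trans (ringKrullDim_quotient_le p.asIdeal) hA.le)
  have hne : ∀ c ∈ nonZeroDivisors A, Ideal.Quotient.mk p.asIdeal c ≠ 0 := fun c hc h =>
    hx c hc p ((hmem p).2 hp') (Ideal.Quotient.eq_zero_iff_mem.1 h)
  have hfr := ordFrac_mk (K := p.asIdeal.ResidueField) (hne a ha) (hne b hb)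
  have etow : ∀ c : A, algebraMap (A ⧸ p.asIdeal) p.asIdeal.ResidueField
      (Ideal.Quotient.mk p.asIdeal c) = algebraMap A p.asIdeal.ResidueField c := fun c =>
    (IsScalarTower.algebraMap_apply A (A ⧸ p.asIdeal) p.asIdeal.ResidueField c).symm
  rw [etow, etow] at hfr
  rw [hfr]
  show _ = lenZ _ _ * _
  ring

end Groth.Agent.S6480
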