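import Groth.Statements.S6481
import Groth.Agent.CycGlue.GlueCurve
-- import your own Groth.Agent.* helpers here

set_option autoImplicit false
universe u
open CycAlg

namespace Groth.Agent.S6481

/-- Let (A, 𝔪) be a 2-dimensional Noetherian local ring, t ∈ 𝔪 a nonzerodivisor with V(t) = {𝔪, 𝔮_1, …,
𝔮_r}, and A_{𝔮_i} ⊂ B_i finite ring extensions with B_i/A_{𝔮_i} annihilated by a power of t and with
t a nonzerodivisor on each B_i. Then A admits some finite extension A ⊂ B whose quotient B/A is
killed by some power of t, such that for every i the localization B_{𝔮_i} = B ⊗_A A_{𝔮_i} is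
isomorphic to B_i (existence of an A_{𝔮_i}-algebra isomorphism; B itself is only asserted to exist).
(The published statement allows any finite ring extensions A_{𝔮_i} ⊂ B_i; this row asks t to be a
nonzerodivisor on each B_i, the case its proof treats, where B_i sits inside t^{-n}A_{𝔮_i}. The
published statement also makes B local with the same residue field as A; this row omits that
clause.) Finite extension with quotient killed by a power of t: CycAlg.IsFinExt with the ideal (t). -/
theorem result (A : Type u) [CommRing A] [IsNoetherianRing A] [IsLocalRing A] (hA : ringKrullDim A = 2) (t : A) (ht : t ∈ IsLocalRing.maximalIdeal A) (htnz : t ∈ nonZeroDivisors A) (r : ℕ) (q : Fin r → Ideal A) (hq : ∀ i, (q i).IsPrime) (hinj : Function.Injective q) (hqm : ∀ i, q i ≠ IsLocalRing.maximalIdeal A) (htq : ∀ i, t ∈ q i) (hV : ∀ p : Ideal A, p.IsPrime → t ∈ p → p = IsLocalRing.maximalIdeal A ∨ ∃ i, p = q i) (B : Fin r → Type u) [∀ i, CommRing (B i)] [∀ i, Algebra (Localization.AtPrime (q i)) (B i)] (hB : ∀ i, CycAlg.IsFinExt (Localization.AtPrime (q i)) (B i) (Ideal.span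 {algebraMap A (Localization.AtPrime (q i)) t})) (htB : ∀ i, IsSMulRegular (B i) (algebraMap A (Localization.AtPrime (q i)) t)) : ∃ (C : Type u) (_ : CommRing C) (_ : Algebra A C), CycAlg.IsFinExt A C (Ideal.span {t}) ∧ ∀ i, Nonempty (TensorProduct A (Localization.AtPrime (q i)) C ≃ₐ[Localization.AtPrime (q i)] B i) := by
  classical
  haveI : ∀ i, (q i).IsPrime := hq
  letI : ∀ i, Algebra A (B i) := fun i =>
    ((algebraMap (Localization.AtPrime (q i)) (B i)).comp
      (algebraMap A (Localization.AtPrime (q i)))).toAlgebra
  haveI : ∀ i, IsScalarTower A (Localization.AtPrime (q i)) (B i) := fun i =>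
    IsScalarTower.of_algebraMap_eq fun _ => rfl
  choose e he using fun i => (hB i).2.2
  have d : CycGlue.Curve.Data t q B (Finset.univ.sup e) :=
    { nzd := htnz
      mem := htq
      inj := hinj
      minimal := fun i p hp htp hle =>
        CycGlue.Curve.eq_of_le_of_dim_two (hp := hp) (hq := hq i) hA htnz htp hle (hqm i)
      injective := fun i => (hB i).1
      finite := fun i => (hB i).2.1
      regular := fun i x y h => htB i (by
        simpa [Algebra.smul_def, ← IsScalarTower.algebraMap_apply] using h)
      coker := fun i b => by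
        obtain ⟨α, hα⟩ := he i _ (Ideal.pow_mem_pow (Ideal.mem_span_singleton_self _) (e i)) b
        obtain ⟨⟨a, s⟩, has⟩ := IsLocalization.surj (q i).primeCompl α
        obtain ⟨g, hg⟩ := pow_dvd_pow t (Finset.le_sup (f := e) (Finset.mem_univ i))
        refine ⟨g * a, s, s.2, ?_⟩
        rw [map_mul, IsScalarTower.algebraMap_apply A (Localization.AtPrime (q i)) (B i) a, ← has,
          map_mul, hα, ← IsScalarTower.algebraMap_apply, hg, Algebra.smul_def, Algebra.smul_def,
          Algebra.smul_def, map_mul, ← map_pow, ← IsScalarTower.algebraMap_apply]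
        ring }
  obtain ⟨C, hfg, ⟨N, hN⟩, hloc⟩ := d.exists_glue
  have hinjT : Function.Injective (algebraMap A (Localization.Away t)) :=
    IsLocalization.injective _ (Submonoid.powers_le.mpr htnz)
  refine ⟨C, inferInstance, inferInstance, ⟨fun x y h => hinjT (congrArg Subtype.val h),
    Module.Finite.iff_fg.mpr hfg, N, fun x hx c => ?_⟩, fun i => ?_⟩
  · obtain ⟨g, rfl⟩ := Ideal.mem_span_singleton.mp (Ideal.span_singleton_pow t N ▸ hx)
    obtain ⟨a, ha⟩ := hN c c.2
    refine ⟨g * a, Subtype.ext ?_⟩
    show algebraMap A (Localization.Away t) (g * a) = (t ^ N * g) • (c : Localization.Away t)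
    rw [mul_comm (t ^ N) g, mul_smul, ← ha, map_mul]
    exact (Algebra.smul_def _ _).symm
  · obtain ⟨π, hπ⟩ := hloc i
    exact CycGlue.Curve.nonempty_algEquiv i π

end Groth.Agent.S6481
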