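import Groth.Statements.S6482
import Groth.Agent.CycLib.MapLib

set_option autoImplicit false
universe u
open CategoryTheory AlgebraicGeometry
open CategoryTheory.Limits
open Cyc

namespace Groth.Agent.S6482

/-- Let f : Y → X be an envelope. Then f_* : Z_k(Y) → Z_k(X) is surjective, hence so is f_* : CH_k(Y) →
CH_k(X). An envelope is a proper, completely decomposed morphism (every point of the target has a
point over it with trivial residue field extension; this prelude's Cyc.IsCompletelyDecomposed). Here
a pair (X, δ) with Cyc.IsSetup plays the role of a scheme locally of finite type over the base (S,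
δ) (X locally Noetherian with universally catenary local rings, δ a dimension function), and
Cyc.DeltaCompat records that the dimension function upstairs is the induced one. -/
theorem result (X Y : Scheme.{u}) (δ : X → ℤ) (δY : Y → ℤ) (hX : Cyc.IsSetup X δ) (hY : Cyc.IsSetup Y δY) (f : Y ⟶ X) [IsProper f] (hcd : Cyc.IsCompletelyDecomposed f) (hδ : Cyc.DeltaCompat f δY δ) (k : ℤ) (α : AlgebraicCycle X ℤ) (hα : α ∈ Cyc.Zk X δ k) : ∃ β : AlgebraicCycle Y ℤ, β ∈ Cyc.Zk Y δY k ∧ AlgebraicCycle.map f δY δ β = α := by
  classical
  choose s hs hsurj using hcd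
  have hfun : ∀ y : Y, y ∈ Function.support (fun y : Y => if s (f y) = y then α (f y) else 0) →
      y = s (f y) ∧ α (f y) ≠ 0 := fun y hy => by
    rw [Function.mem_support] at hy
    split_ifs at hy with h
    · exact ⟨h.symm, hy⟩
    · exact absurd rfl hy
  let β : AlgebraicCycle Y ℤ :=
    ⟨fun y => if s (f y) = y then α (f y) else 0, by simp, fun z _ => by
      obtain ⟨W, hW, hzW, -⟩ := exists_isAffineOpen_mem_and_subset (TopologicalSpace.Opens.mem_top z)
      refine ⟨W, W.2.mem_nhds hzW, (((α.locallyFiniteSupport.finite_inter_support_of_isCompact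
        (hW.isCompact.image f.continuous))).image s).subset ?_⟩
      rintro y ⟨hyW, hy⟩
      obtain ⟨h1, h2⟩ := hfun y hy
      exact ⟨f y, ⟨⟨y, hyW, rfl⟩, h2⟩, h1.symm⟩⟩
  have hβ : ∀ y, β y = if s (f y) = y then α (f y) else 0 := fun y => rfl
  refine ⟨β, fun y hy => ?_, ?_⟩
  · rw [hβ]
    split_ifs with h
    · refine hα _ fun he => hy ?_
      rw [CycLib.delta_eq_of_surjective f hδ y (h ▸ hsurj (f y)), he]
    · rfl
  · ext x
    rw [CycLib.map_apply_eq_sum f δY δ β x {s x} (fun y h1 h2 => by
      rw [hβ] at h2
      split_ifs at h2 with h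
      · rw [Finset.mem_singleton, ← h, h1]
      · exact absurd rfl h2)]
    rw [Finset.filter_true_of_mem (fun y hy => by rw [Finset.mem_singleton.1 hy]; exact hs x),
      Finset.sum_singleton, hβ, if_pos (by rw [hs x]), hs x, AlgebraicCycle.mapCoeff,
      if_pos (CycLib.delta_eq_of_surjective f hδ (s x) (hsurj x)),
      CycLib.residueDegree_eq_one f (s x) (hsurj x), Nat.cast_one, mul_one]

end Groth.Agent.S6482
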