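import Groth.Statements.S6483
import Groth.Agent.CycLib.RatPush

set_option autoImplicit false
universe u
open CategoryTheory AlgebraicGeometry
open CategoryTheory.Limits
open Cyc

namespace Groth.Agent.S6483

open Groth.Agent.CycLib IsLocalRing

/-- Let f : Y → X be an envelope and p, q : Y ×_X Y → Y the two projections. If a k-cycle β on Y has
f_*β ∼_rat 0 on X, then β ∼_rat p_*γ − q_*γ for some k-cycle γ on Y ×_X Y. Together with
surjectivity of f_* and f_* p_* = f_* q_*, this is the exact sequence CH_k(Y ×_X Y) → CH_k(Y) →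
CH_k(X) → 0. An envelope is a proper, completely decomposed morphism (every point of the target has
a point over it with trivial residue field extension; this prelude's Cyc.IsCompletelyDecomposed).
Here a pair (X, δ) with Cyc.IsSetup plays the role of a scheme locally of finite type over the base
(S, δ) (X locally Noetherian with universally catenary local rings, δ a dimension function), and
Cyc.DeltaCompat records that the dimension function upstairs is the induced one. -/
theorem result (X Y : Scheme.{u}) (δ : X → ℤ) (δY : Y → ℤ) (hX : Cyc.IsSetup X δ) (hY : Cyc.IsSetup Y δY) (f : Y ⟶ X) [IsProper f] (hcd : Cyc.IsCompletelyDecomposed f) (hδ : Cyc.DeltaCompat f δY δ) (δ2 : ↥(pullback f f) → ℤ) (h2 : Cyc.IsSetup (pullback f f) δ2) (hδ2 : Cyc.DeltaCompat (pullback.fst f f) δ2 δY) (k : ℤ) (β : AlgebraicCycle Y ℤ) (hβ : β ∈ Cyc.Zk Y δY k) (h0 : Cyc.RatEquivZero δ k (AlgebraicCycle.map f δY δ β)) : ∃ γ : AlgebraicCycle (pullback f f) ℤ, γ ∈ Cyc.Zk (pullback f f) δ2 k ∧ Cyc.RatEquiv δY k β (AlgebraicCycle.map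 (pullback.fst f f) δ2 δY γ - AlgebraicCycle.map (pullback.snd f f) δ2 δY γ) := by
  classical
  haveI := hX.1
  haveI := hY.1
  obtain ⟨ι, ξ, g, hξ, hg, hlf, hsum⟩ := h0
  choose η hη hηs using fun i => hcd (ξ i)
  let g' : (i : ι) → Y.residueField (η i) := fun i =>
    f.residueFieldMap (η i) ((Scheme.residueFieldCongr (hη i)).inv (g i))
  have hg' : ∀ i, g' i ≠ 0 := fun i => (map_ne_zero _).2 ((map_ne_zero _).2 (hg i))
  have hηd : ∀ i, δY (η i) = k + 1 := fun i => by
    rw [delta_eq_of_surjective f hδ (η i) (hηs i), hη i, hξ i]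
  have hηU : ∀ (U : Set X), IsOpen U → ∀ i, ∀ y ∈ closure {η i}, f y ∈ U → (closure {ξ i} ∩ U).Nonempty :=
    fun U hU i y hy hyU => ⟨ξ i, subset_closure rfl, by
      rw [← hη i]; exact ((specializes_iff_mem_closure.2 hy).map f.continuous).mem_open hU hyU⟩
  have hlf' : ∀ y : Y, ∃ U : Set Y, IsOpen U ∧ y ∈ U ∧ {i | (closure {η i} ∩ U).Nonempty}.Finite := by
    intro y
    obtain ⟨U, hU, hyU, hUfin⟩ := hlf (f y)
    exact ⟨f ⁻¹' U, hU.preimage f.continuous, hyU,
      hUfin.subset fun i ⟨z, hz1, hz2⟩ => hηU U hU i z hz1 hz2⟩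
  obtain ⟨D, hD⟩ := exists_cycle_finsum_divFun hY.2.2 η g' hg' hlf'
  choose Di hDi using fun i => exists_single_divFun hY.2.2 (η i) (hg' i)
  have hsupp : ∀ i y, Di i y ≠ 0 → η i ⤳ y ∧ δY y + 1 = δY (η i) := fun i y hy => by
    by_contra hn
    exact hy (by rw [hDi]; exact dif_neg hn)
  have hfD : ∀ x, AlgebraicCycle.map f δY δ D x = AlgebraicCycle.map f δY δ β x := by
    intro x
    obtain ⟨U, hU, hxU, hUfin⟩ := hlf x
    rw [hsum x, map_finsum f D Di x (hUfin.subset fun i ⟨y, h1, h2⟩ =>
      hηU U hU i y (specializes_iff_mem_closure.1 (hsupp i y h2).1) (by rw [h1]; exact hxU))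
      fun y _ => (hD y).trans (finsum_congr fun i => (congrFun (hDi i) y).symm)]
    refine finsum_congr fun i => ?_
    rw [map_divFun_eq' f hY.2.2 hX.2.2 hδ (η i) (delta_eq_of_surjective f hδ _ (hηs i)) (hg' i) (Di i)
      (hDi i) x, normGen_residueFieldMap, residueDegree_eq_one f (η i) (hηs i), pow_one]
    have key : ∀ (ζ : X) (hζ : ζ = ξ i), Cyc.divFun δ ζ ((Scheme.residueFieldCongr hζ).inv (g i)) x =
        Cyc.divFun δ (ξ i) (g i) x := by
      rintro _ rfl
      simp
    exact key _ (hη i)
  have hDk : ∀ y, δY y ≠ k → D y = 0 := fun y hy => by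
    rw [hD, finsum_eq_zero_of_forall_eq_zero]
    intro i
    exact dif_neg fun h => hy (by have := h.2; rw [hηd] at this; omega)
  let β' := β - D
  have hβ' : ∀ y, δY y ≠ k → β' y = 0 := fun y hy => by
    show β y - D y = 0
    rw [hβ y hy, hDk y hy, sub_zero]
  have hfβ' : ∀ x, AlgebraicCycle.map f δY δ β' x = 0 := fun x => by
    rw [map_sub_apply, hfD, sub_self]
  -- sections over the points of X, and the points (y, s (f y)) of the fibre square
  choose s hsx hss using hcd
  choose σ hσ hσ' using fun x => exists_section f (hsx x) (hss x)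
  let ψ : (y : Y) → (Spec (Y.residueField y) ⟶ Y) := fun y => Spec.map (f.residueFieldMap y) ≫ σ (f y)
  have hψ : ∀ y, Y.fromSpecResidueField y ≫ f = ψ y ≫ f := fun y => by
    rw [Category.assoc, hσ, f.SpecMap_residueFieldMap_fromSpecResidueField y]
  have hzex : ∀ y, ∃ w : (pullback f f : Scheme.{u}), (pullback.fst f f w = y ∧
      Function.Surjective ((pullback.fst f f).residueFieldMap w).hom) ∧ pullback.snd f f w = s (f y) := by
    intro y
    obtain ⟨w0, h1, h2⟩ : ∃ w0 : Spec (Y.residueField y) ⟶ pullback f f,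
        w0 ≫ pullback.fst f f = Y.fromSpecResidueField y ∧ w0 ≫ pullback.snd f f = ψ y :=
      ⟨pullback.lift _ _ (hψ y), pullback.lift_fst _ _ _, pullback.lift_snd _ _ _⟩
    refine ⟨w0 (closedPoint (Y.residueField y)), surjective_residueFieldMap_of_lift _ w0 h1, ?_⟩
    show (w0 ≫ pullback.snd f f) (closedPoint (Y.residueField y)) = _
    have key : ∀ q, ψ y q = s (f y) := fun q => by
      show (Spec.map (f.residueFieldMap y) ≫ σ (f y)) q = _
      rw [Scheme.Hom.comp_apply]
      exact hσ' (f y) _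
    rw [h2]
    exact key _
  choose z hz1 hz2 using hzex
  have hδz : ∀ y, δ2 (z y) = δY y := fun y => by
    rw [delta_eq_of_surjective _ hδ2 (z y) (hz1 y).2, (hz1 y).1]
  let γ : AlgebraicCycle (pullback f f) ℤ := ⟨fun w => if w = z (pullback.fst f f w) then β' (pullback.fst f f w) else 0,
    by simp, fun w _ => by
      obtain ⟨W, hW, hwW, -⟩ := exists_isAffineOpen_mem_and_subset (x := w) (U := ⊤) trivial
      refine ⟨W, W.2.mem_nhds hwW, ((β'.locallyFiniteSupport.finite_inter_support_of_isCompact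
        (hW.isCompact.image (pullback.fst f f).continuous)).image z).subset ?_⟩
      rintro v ⟨hvW, hv⟩
      simp only [Function.mem_support] at hv
      by_cases hvz : v = z (pullback.fst f f v)
      · rw [if_pos hvz] at hv
        exact ⟨_, ⟨⟨v, hvW, rfl⟩, hv⟩, hvz.symm⟩
      · exact absurd (if_neg hvz) hv⟩
  have hγ : ∀ w, γ w = if w = z (pullback.fst f f w) then β' (pullback.fst f f w) else 0 := fun _ => rfl
  have hγz : ∀ y, γ (z y) = β' y := fun y => by
    rw [hγ, show pullback.fst f f (z y) = y from (hz1 y).1, if_pos rfl]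
  have hγne : ∀ w, γ w ≠ 0 → w = z (pullback.fst f f w) ∧ β' (pullback.fst f f w) ≠ 0 := fun w hw => by
    rw [hγ] at hw
    by_cases h : w = z (pullback.fst f f w)
    · exact ⟨h, by rwa [if_pos h] at hw⟩
    · exact absurd (if_neg h) hw
  refine ⟨γ, fun w hw => ?_, ι, η, g', hηd, hg', hlf', fun y => ?_⟩
  · by_contra hne
    obtain ⟨h1, h2⟩ := hγne w hne
    exact h2 (hβ' _ (by rw [← hδz, ← h1]; exact hw))
  have hfst : AlgebraicCycle.map (pullback.fst f f) δ2 δY γ y = β' y := by
    rw [map_apply_eq_sum _ δ2 δY γ y {z y} fun w h1 h2 => Finset.mem_singleton.2 ((hγne w h2).1.trans (congrArg z h1)),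
      Finset.filter_true_of_mem (fun w hw => (Finset.mem_singleton.1 hw) ▸ (hz1 y).1), Finset.sum_singleton,
      hγz, AlgebraicCycle.mapCoeff, if_pos ((hδz y).trans (congrArg δY (hz1 y).1.symm)),
      residueDegree_eq_one _ _ (hz1 y).2, Nat.cast_one, mul_one]
  have hsnd : AlgebraicCycle.map (pullback.snd f f) δ2 δY γ y = 0 := by
    let S := (finite_fibre_support f β' (f y)).toFinset
    by_cases hy : y = s (f y)
    swap
    · rw [map_apply_eq_sum _ δ2 δY γ y ∅ fun w h1 h2 => absurd ?_ hy]
      · simp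
      · rw [(hγne w h2).1, hz2] at h1
        rw [← h1, hsx]
    rw [map_apply_eq_sum _ δ2 δY γ y (S.image z) fun w h1 h2 => ?_,
      Finset.filter_true_of_mem fun w hw => ?_, Finset.sum_image fun a _ b _ e => by
        rw [← (hz1 a).1, ← (hz1 b).1]; exact congrArg _ e]
    · refine Eq.trans ?_ (hfβ' (f y))
      rw [map_apply_eq_sum f δY δ β' (f y) S fun a h1 h2 => (Set.Finite.mem_toFinset _).2 ⟨h1, h2⟩,
        Finset.filter_true_of_mem fun a ha => ((Set.Finite.mem_toFinset _).1 ha).1]
      refine Finset.sum_congr rfl fun a ha => ?_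
      rw [hγz, AlgebraicCycle.mapCoeff, AlgebraicCycle.mapCoeff]
      have hsd : δY (s (f a)) = δ (f a) := by
        rw [delta_eq_of_surjective f hδ _ (hss (f a)), hsx]
      have hdeg : (pullback.snd f f).residueDegree (z a) = f.residueDegree a := by
        have e := residueDegree_congr (pullback.condition (f := f) (g := f)) (z a)
        rw [residueDegree_comp, residueDegree_comp, residueDegree_eq_one _ _ (hz1 a).2, one_mul,
          show pullback.fst f f (z a) = a from (hz1 a).1,
          show pullback.snd f f (z a) = s (f a) from hz2 a, residueDegree_eq_one f _ (hss (f a)), mul_one] at e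
        exact e.symm
      rw [hdeg, hδz, hz2, hsd]
    · obtain ⟨a, ha, rfl⟩ := Finset.mem_image.1 hw
      rw [hz2, ((Set.Finite.mem_toFinset _).1 ha).1]
      exact hy.symm
    · obtain ⟨h3, h4⟩ := hγne w h2
      refine Finset.mem_image.2 ⟨_, (Set.Finite.mem_toFinset _).2 ⟨?_, h4⟩, h3.symm⟩
      have e : f (pullback.fst f f w) = f (pullback.snd f f w) := by
        show (pullback.fst f f ≫ f) w = (pullback.snd f f ≫ f) w
        rw [pullback.condition]
      rw [e, h1]
  show β y - (AlgebraicCycle.map (pullback.fst f f) δ2 δY γ y - AlgebraicCycle.map (pullback.snd f f) δ2 δY γ y) = _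
  rw [hfst, hsnd, sub_zero, ← hD y]
  show β y - (β y - D y) = D y
  ring

end Groth.Agent.S6483
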