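import Groth.Statements.S6484
import Mathlib.AlgebraicGeometry.PullbackCarrier
import Mathlib.AlgebraicGeometry.Morphisms.Preimmersion
-- import your own Groth.Agent.* helpers here

set_option autoImplicit false
universe u
open CategoryTheory AlgebraicGeometry
open CategoryTheory.Limits
open Cyc

namespace Groth.Agent.S6484

/-- If f : Y → X is completely decomposed (this prelude's Cyc.IsCompletelyDecomposed: over every point
of X lies a point of Y with trivial residue field extension) and g : X' → X is any morphism of
schemes, then the base change Y ×_X X' → X' is completely decomposed. Consequently the base change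
of an envelope (a proper completely decomposed morphism) is an envelope, properness being preserved
by base change. (The published envelope statement takes X′ → X between schemes locally of finite
type over a base; this row allows any g.) -/
theorem result (X X' Y : Scheme.{u}) (f : Y ⟶ X) (g : X' ⟶ X) (hcd : Cyc.IsCompletelyDecomposed f) : Cyc.IsCompletelyDecomposed (pullback.snd f g) := by
  intro x'
  obtain ⟨y, hy, hsurj⟩ := hcd (g x')
  have hbij : Function.Bijective (f.residueFieldMap y).hom := ⟨RingHom.injective _, hsurj⟩
  haveI : IsIso (f.residueFieldMap y) := (ConcreteCategory.isIso_iff_bijective _).2 hbij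
  let a : Spec (X'.residueField x') ⟶ Y :=
    Spec.map (inv (f.residueFieldMap y) ≫ (X.residueFieldCongr hy).hom ≫ g.residueFieldMap x') ≫
      Y.fromSpecResidueField y
  have ha : a ≫ f = X'.fromSpecResidueField x' ≫ g := by
    simp only [a, Category.assoc, ← Scheme.Hom.SpecMap_residueFieldMap_fromSpecResidueField, ← Spec.map_comp_assoc]
    simp only [Category.assoc, IsIso.hom_inv_id_assoc, Spec.map_comp, Scheme.Hom.SpecMap_residueFieldMap_fromSpecResidueField]
    rw [Scheme.residueFieldCongr_fromSpecResidueField, Scheme.Hom.SpecMap_residueFieldMap_fromSpecResidueField]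
  let h := pullback.lift a (X'.fromSpecResidueField x') ha
  let s : Spec (X'.residueField x') := IsLocalRing.closedPoint _
  have hh : h ≫ pullback.snd f g = X'.fromSpecResidueField x' := pullback.lift_snd _ _ _
  refine ⟨h s, ?_, ?_⟩
  · rw [← Scheme.Hom.comp_apply, hh, Scheme.fromSpecResidueField_apply]
  · haveI : IsPreimmersion (h ≫ pullback.snd f g) := by rw [hh]; infer_instance
    have h1 : Function.Surjective ((h ≫ pullback.snd f g).residueFieldMap s).hom := fun c => by
      obtain ⟨c, rfl⟩ := Scheme.residue_surjective _ s c
      obtain ⟨d, rfl⟩ := (h ≫ pullback.snd f g).stalkMap_surjective s c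
      exact ⟨(X'.residue _).hom d, congrArg (fun φ => φ d) (congrArg CommRingCat.Hom.hom (Scheme.residue_residueFieldMap (h ≫ pullback.snd f g) s))⟩
    rw [Scheme.residueFieldMap_comp] at h1
    intro c
    obtain ⟨d, hd⟩ := h1 ((h.residueFieldMap s).hom c)
    exact ⟨d, (h.residueFieldMap s).hom.injective hd⟩

end Groth.Agent.S6484
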