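import Groth.Statements.S6485
import Mathlib.RingTheory.MvPolynomial.IrreducibleQuadratic
import Mathlib.LinearAlgebra.Matrix.Determinant.Basic
import Mathlib.LinearAlgebra.Matrix.Permutation
-- import your own Groth.Agent.* helpers here

set_option autoImplicit false
universe u
open IntMult

namespace Groth.Agent.S6485

open MvPolynomial

lemma irreducible_det {k : Type u} [Field k] {N : ℕ} (m : ℕ) :
    ∀ f g : Fin (m + 1) → Fin N, Function.Injective f → Function.Injective g →
      Irreducible (Matrix.of fun i j => (X (f i, g j) : MvPolynomial (Fin N × Fin N) k)).det := by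
  classical
  induction m with
  | zero =>
    intro f g _ _
    rw [Matrix.det_fin_one, Matrix.of_apply]
    exact (X_prime).irreducible
  | succ m ih =>
    intro f g hf hg
    let i₀ : Fin N × Fin N := (f 0, g 0)
    let A : Matrix (Fin (m + 1 + 1)) (Fin (m + 1 + 1)) (MvPolynomial (Fin N × Fin N) k) :=
      Matrix.of fun i j => X (f i, g j)
    let M := (A.submatrix Fin.succ Fin.succ).det
    let R := ∑ j : Fin (m + 1), (-1) ^ ((j.succ : Fin (m + 1 + 1)) : ℕ) * A 0 j.succ * (A.submatrix Fin.succ j.succ.succAbove).det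
    have hdet : A.det = M * X i₀ + R := by
      rw [Matrix.det_succ_row_zero, Fin.sum_univ_succ, Fin.val_zero, pow_zero, one_mul]
      show A 0 0 * (A.submatrix Fin.succ (Fin.succAbove 0)).det + R = M * X i₀ + R
      rw [mul_comm]
      rfl
    have hMirr : Irreducible M := ih (f ∘ Fin.succ) (g ∘ Fin.succ) (hf.comp (Fin.succ_injective _)) (hg.comp (Fin.succ_injective _))
    let φ : MvPolynomial {p : Fin N × Fin N // p ≠ i₀} k →ₐ[k] MvPolynomial (Fin N × Fin N) k := rename Subtype.val
    have hφ : ∀ x ∈ φ.range, i₀ ∉ x.vars := by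
      rintro _ ⟨y, rfl⟩ hv
      obtain ⟨p, -, hp⟩ := mem_vars_rename Subtype.val y hv
      exact p.2 hp
    have hA : ∀ i j, (i ≠ 0 ∨ j ≠ 0) → A i j ∈ φ.range := fun i j hij =>
      ⟨X ⟨(f i, g j), fun e => by
        rcases hij with h | h
        · exact h (hf (congrArg Prod.fst e))
        · exact h (hg (congrArg Prod.snd e))⟩, rename_X _ _⟩
    have hsub : ∀ c : Fin (m + 1) → Fin (m + 1 + 1), (A.submatrix Fin.succ c).det ∈ φ.range := fun c => by
      rw [Matrix.det_apply']
      exact φ.range.sum_mem fun σ _ => φ.range.mul_mem (intCast_mem _ _)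
        (φ.range.prod_mem fun i _ => hA _ _ (Or.inl (Fin.succ_ne_zero _)))
    have hR : R ∈ φ.range := φ.range.sum_mem fun j _ =>
      φ.range.mul_mem (φ.range.mul_mem (pow_mem (neg_mem (one_mem _)) _) (hA _ _ (Or.inr (Fin.succ_ne_zero _)))) (hsub _)
    show Irreducible A.det
    rw [hdet]
    refine irreducible_mul_X_add M R i₀ hMirr.ne_zero (hφ _ (hsub _)) (hφ _ hR) (hMirr.isRelPrime_iff_not_dvd.2 fun hdvd => ?_)
    let s : Equiv.Perm (Fin (m + 1 + 1)) := Equiv.swap 0 1
    let v : Fin N × Fin N → k := fun p => if ∃ i, f i = p.1 ∧ g (s i) = p.2 then 1 else 0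
    have hv : ∀ i j, eval v (A i j) = s.permMatrix k i j := fun i j => by
      show eval v (X (f i, g j)) = _
      rw [eval_X]
      by_cases h : s i = j
      · rw [show v (f i, g j) = 1 from if_pos ⟨i, rfl, by rw [h]⟩]
        simp [Equiv.Perm.permMatrix, PEquiv.toMatrix_apply, h]
      · rw [show v (f i, g j) = 0 from if_neg fun ⟨i', h1, h2⟩ => h (by rw [← hf h1]; exact hg h2)]
        simp [Equiv.Perm.permMatrix, PEquiv.toMatrix_apply, h]
    have hM0 : eval v M = 0 := by
      rw [RingHom.map_det]
      refine Matrix.det_eq_zero_of_row_eq_zero 0 fun j => ?_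
      refine (hv (Fin.succ 0) j.succ).trans ?_
      have : s (Fin.succ (0 : Fin (m + 1))) ≠ j.succ := by
        rw [show s (Fin.succ (0 : Fin (m + 1))) = 0 from Equiv.swap_apply_right 0 1]
        exact (Fin.succ_ne_zero j).symm
      rw [Fin.succ_zero_eq_one] at this
      simp [Equiv.Perm.permMatrix, PEquiv.toMatrix_apply, this]
    have hA0 : eval v A.det = 0 := by
      obtain ⟨q, hq⟩ := hdvd
      rw [hdet, map_add, map_mul, hq, map_mul, hM0, zero_mul, zero_mul, add_zero]
    rw [RingHom.map_det, show (eval v).mapMatrix A = s.permMatrix k from Matrix.ext hv, Matrix.det_permutation] at hA0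
    rcases Int.units_eq_one_or (Equiv.Perm.sign s) with h | h <;> rw [h] at hA0 <;> simp at hA0


/-- Let k be a field and n ≥ 1. Then the determinant of the generic matrix (x_{ij})_{1 ≤ i, j ≤ n} is an
irreducible element of the polynomial ring k[x_{ij}] (Mathlib's Matrix.mvPolynomialX is the generic
matrix over MvPolynomial (Fin n × Fin n) k). -/
theorem result (k : Type u) [Field k] (n : ℕ) (hn : 1 ≤ n) : Irreducible (Matrix.mvPolynomialX (Fin n) (Fin n) k).det := by
  obtain ⟨m, rfl⟩ : ∃ m, n = m + 1 := ⟨n - 1, by omega⟩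
  exact irreducible_det m id id Function.injective_id Function.injective_id

end Groth.Agent.S6485
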