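import Groth.Statements.S6487
import Groth.Agent.JacPts.Basic
import Groth.Agent.FFCurve.Curve
import Groth.Agent.FF.Linear
import Groth.Agent.GrpGen19.Basic
import Groth.Agent.HilbD.Push
import Groth.Agent.PicAlg.IdealPull
import Groth.Agent.PicCl.Basic
import Groth.Agent.S4642


set_option autoImplicit false
universe u
open CategoryTheory CategoryTheory.Limits AlgebraicGeometry
open PicF

namespace Groth.Agent.S6487

open CategoryTheory CategoryTheory.Limits AlgebraicGeometry FunFld Groth.Agent.FFCurve in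
/-- Sections can be cut down to one by points coming from `k`. -/
theorem exists_ell_one {k : Type u} [Field k] {F : Type u} [Field F] [Algebra k F] (hK : IsFunctionField k F)
    (S : Set (Divisor k F)) (hadd : ∀ D E, D ∈ S → E ∈ S → D + E ∈ S)
    (h0 : (0 : Divisor k F) ∈ S)
    (hpts : ∀ T : Finset (Place k F), ∃ P ∉ T, P.deg = 1 ∧ Finsupp.single P (1 : ℤ) ∈ S ∧ (-Finsupp.single P (1 : ℤ)) ∈ S)
    (D : Divisor k F) :
    ∃ E ∈ S, ell (D + E) = 1 ∧ (ell (D + E) : ℤ) = (D + E).deg + 1 - genus k F := by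
  classical
  obtain ⟨P, -, hPd, hP, -⟩ := hpts ∅
  have hn : ∀ n : ℕ, ∃ E ∈ S, E.deg = (n : ℤ) := by
    intro n
    induction n with
    | zero => exact ⟨0, h0, by simp [FF.deg_zero']⟩
    | succ n ih =>
      obtain ⟨E, hE, hd⟩ := ih
      exact ⟨E + Finsupp.single P 1, hadd _ _ hE hP, by rw [FF.deg_add, hd, FF.deg_single, hPd]; push_cast; ring⟩
  obtain ⟨E₀, hE₀, hd₀⟩ := hn ((2 * (genus k F : ℤ) + 1 - D.deg).toNat)
  have hge : 2 * (genus k F : ℤ) + 1 ≤ (D + E₀).deg := by
    rw [FF.deg_add, hd₀]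
    have := Int.self_le_toNat (2 * (genus k F : ℤ) + 1 - D.deg)
    omega
  have h1 := FF.ell_eq_of_deg_ge hK (D := D + E₀) (by omega)
  suffices ∀ n : ℕ, ∀ E ∈ S, ell (D + E) = n + 1 → (ell (D + E) : ℤ) = (D + E).deg + 1 - genus k F →
      ∃ E ∈ S, ell (D + E) = 1 ∧ (ell (D + E) : ℤ) = (D + E).deg + 1 - genus k F by
    exact this (ell (D + E₀) - 1) E₀ hE₀ (by omega) h1
  intro n
  induction n with
  | zero => exact fun E hE h h' => ⟨E, hE, h, h'⟩
  | succ n ih =>
    intro E hE h h'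
    obtain ⟨x, hx, hx0⟩ := (L (D + E)).exists_mem_ne_zero_of_ne_bot fun e => by
      simp only [ell] at h
      rw [e, finrank_bot] at h
      omega
    obtain ⟨Q, hQ, hQd, -, hQS⟩ := hpts ((D + E).support ∪ (FF.finite_support_ord (k := k) hK.1 x).toFinset)
    simp only [Finset.mem_union, Finsupp.mem_support_iff, Set.Finite.mem_toFinset, Function.mem_support,
      not_or, not_not] at hQ
    have hlt : ell (D + E - Finsupp.single Q 1) < ell (D + E) :=
      (FF.ell_lt_iff_exists hK (D + E) Q).2 ⟨x, hx, by rw [hQ.1, WithZero.exp_zero, FF.val_eq_one_iff Q hx0]; exact hQ.2⟩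
    have h2 := (FF.ell_sub_single_le hK (D + E) Q).2
    rw [hQd] at h2
    have he : D + (E + -Finsupp.single Q (1 : ℤ)) = D + E - Finsupp.single Q 1 := by abel
    refine ih _ (hadd _ _ hE hQS) (by rw [he]; omega) ?_
    rw [he, FF.deg_sub, FF.deg_single, hQd]
    push_cast
    omega


/-- Let k be a separably closed field, X a smooth projective curve over k, K/k a field extension and L
an invertible sheaf on X_K. Then there is an invertible sheaf L_0 on X with dim_K H^0(X_K, L ⊗
L_0|_{X_K}) = 1 and H^1(X_K, L ⊗ L_0|_{X_K}) = 0. The base change X_K is given as any pullback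
square over Spec K → Spec k with its K-structure; L_0|_{X_K} is the pullback module and ⊗ is
CohB1.tensorMod; proper replaces projective (equivalent for curves over a field). -/
theorem result (k : Type u) [Field k] [IsSepClosed k] (X : Scheme.{u}) [X.Over (Spec (CommRingCat.of k))] (hX : Curve.IsSmoothProperCurve k X (X ↘ Spec (CommRingCat.of k))) (K : Type u) [Field K] [Algebra k K] (XK : Scheme.{u}) [XK.Over (Spec (CommRingCat.of K))] (g : XK ⟶ X) (hpb : IsPullback g (XK ↘ Spec (CommRingCat.of K)) (X ↘ Spec (CommRingCat.of k)) (Spec.map (CommRingCat.ofHom (algebraMap k K)))) (L : XK.Modules) (hL : PicF.IsInvertible L) : ∃ L₀ : X.Modules, PicF.IsInvertible L₀ ∧ Module.finrank K (Coh.HH XK (CohB1.tensorMod L ((Scheme.Modules.pullback g).obj L₀)) 0) = 1 ∧ Subsingleton (Coh.HH XK (CohB1.tensorMod L ((Scheme.Modules.pullback g).obj L₀)) 1) := by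
  classical
  open CategoryTheory CategoryTheory.Limits AlgebraicGeometry FunFld Groth.Agent.FFCurve in
  obtain ⟨hXp, hXs, hXi, hXd⟩ := hX
  haveI := hXp
  haveI := hXs
  haveI := hXi
  haveI : RegCurve X := regCurve_of_smooth k hXd
  obtain ⟨σ₀, hσ₀, -⟩ := JacPts.exists_ratPt_avoid X k hXd ∅
  haveI : GeometricallyConnected (X ↘ Spec (CommRingCat.of k)) := by
    haveI : ConnectedSpace (Over.mk (X ↘ Spec (CommRingCat.of k))).left := inferInstanceAs (ConnectedSpace X)
    exact GrpGen19.geometricallyConnected_of_point (X := Over.mk (X ↘ Spec (CommRingCat.of k)))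
      (Over.homMk σ₀ hσ₀)
  haveI : IsProper (XK ↘ Spec (CommRingCat.of K)) := MorphismProperty.of_isPullback hpb hXp
  haveI : Smooth (XK ↘ Spec (CommRingCat.of K)) := MorphismProperty.of_isPullback hpb hXs
  haveI : GeometricallyConnected (XK ↘ Spec (CommRingCat.of K)) :=
    MorphismProperty.of_isPullback hpb ‹GeometricallyConnected (X ↘ Spec (CommRingCat.of k))›
  have hKd : topologicalKrullDim XK = 1 := by
    rw [IsHomeomorph.topologicalKrullDim_eq _ (hpb.isoPullback.hom.homeomorph.isHomeomorph)]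
    exact (S4642.result (X ↘ Spec (CommRingCat.of k))).trans hXd
  obtain ⟨_, _⟩ := JacPts.integral_reg K XK hKd
  haveI : Flat (Spec.map (CommRingCat.ofHom (algebraMap k K))) := by
    rw [HasRingHomProperty.Spec_iff (P := @Flat)]
    exact RingHom.flat_algebraMap_iff.2 inferInstance
  -- points from `k`
  have hlift : ∀ σ : Spec (CommRingCat.of k) ⟶ X, σ ≫ (X ↘ Spec (CommRingCat.of k)) = 𝟙 _ →
      ∃ τ : Spec (CommRingCat.of K) ⟶ XK, τ ≫ g = Spec.map (CommRingCat.ofHom (algebraMap k K)) ≫ σ ∧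
        τ ≫ (XK ↘ Spec (CommRingCat.of K)) = 𝟙 _ ∧ σ.ker.comap g = τ.ker := by
    intro σ hσ
    haveI := JacPts.isClosedImmersion_ratPt k hσ
    refine ⟨hpb.lift (Spec.map (CommRingCat.ofHom (algebraMap k K)) ≫ σ) (𝟙 _) (by rw [Category.assoc, hσ]; simp),
      hpb.lift_fst _ _ _, hpb.lift_snd _ _ _, ?_⟩
    refine HilbD.comap_ker_of_isPullback (a := Spec.map (CommRingCat.ofHom (algebraMap k K))) ?_
    refine (IsPullback.of_bot ?_ (hpb.lift_fst _ _ _).symm hpb).flip
    rw [hpb.lift_snd, hσ]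
    exact IsPullback.id_vert _
  choose τ hτg hτ hτc using hlift
  have hK' := JacPts.isFunctionField K hKd (hτ σ₀ hσ₀)
  let S : Set (Divisor K XK.functionField) := {D | ∃ (L₀ : X.Modules) (h₀ : PicF.IsInvertible L₀),
    DivEq K (divOf K hKd (PicCl.isInvertible_pullback g h₀)) D}
  have hO := isInvertible_structureModule (X := X)
  have h0S : (0 : Divisor K XK.functionField) ∈ S :=
    ⟨_, hO, DivEq.trans' K hKd (DivEq.symm' K hKd (divEq_iso K hKd (PicCl.isInvertible_pullback g hO)
      (isInvertible_structureModule (X := XK)) (QCoh.pullbackUnitIso g))) (divEq_structureModule K hKd)⟩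
  have hadd : ∀ D E, D ∈ S → E ∈ S → D + E ∈ S := by
    rintro D E ⟨M, hM, hD⟩ ⟨M', hM', hE⟩
    obtain ⟨e⟩ := PicLaw.pullback_tensor g hM hM'
    exact ⟨_, AmpleLib.isInvertible_tensorMod hM hM', DivEq.trans' K hKd
      (DivEq.symm' K hKd (divEq_iso K hKd _ (AmpleLib.isInvertible_tensorMod (PicCl.isInvertible_pullback g hM) (PicCl.isInvertible_pullback g hM')) e))
      (DivEq.trans' K hKd (divEq_tensor K hKd _ _) (DivEq.add' K hKd hD hE))⟩
  have hpts : ∀ T : Finset (Place K XK.functionField), ∃ P ∉ T, P.deg = 1 ∧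
      Finsupp.single P (1 : ℤ) ∈ S ∧ (-Finsupp.single P (1 : ℤ)) ∈ S := by
    intro T
    let bad : Finset (ZetaLib.ClosedPt X) := T.biUnion fun P =>
      if h : IsClosed ({g ((placeEquiv K hKd).symm P).1} : Set X) then {⟨_, h⟩} else ∅
    obtain ⟨σ, hσ, hav⟩ := JacPts.exists_ratPt_avoid X k hXd bad
    refine ⟨JacPts.plc K hKd (hτ σ hσ), fun hmem => ?_, JacPts.deg_plc K hKd (hτ σ hσ), ?_⟩
    · have hcl := (JacPts.cpt k hσ).2
      have hpt : g (JacPts.cpt K (hτ σ hσ)).1 = (JacPts.cpt k hσ).1 := by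
        show g (τ σ hσ (IsLocalRing.closedPoint K)) = σ (IsLocalRing.closedPoint k)
        rw [← Scheme.Hom.comp_apply, hτg, Scheme.Hom.comp_apply]
        congr 1
        exact Subsingleton.elim (α := PrimeSpectrum k) _ _
      have hsymm : (placeEquiv K hKd).symm (JacPts.plc K hKd (hτ σ hσ)) = JacPts.cpt K (hτ σ hσ) :=
        (placeEquiv K hKd).symm_apply_apply _
      refine hav ⟨g (JacPts.cpt K (hτ σ hσ)).1, hpt ▸ hcl⟩ (Finset.mem_biUnion.2 ⟨_, hmem, ?_⟩) hpt.symm
      rw [hsymm, dif_pos (hpt ▸ hcl)]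
      exact Finset.mem_singleton_self _
    · have hI := JacPts.isInvertible_ker k hXd hσ
      have hI' := JacPts.isInvertible_ker K hKd (hτ σ hσ)
      obtain ⟨ψ⟩ := PicAlg.nonempty_pullback_idealMod g σ.ker
        (IdealSh.IdealMod.isEffCartierIdeal_of_isInvertible _ hI)
        (IdealSh.IdealMod.isEffCartierIdeal_of_isInvertible _ (by rw [hτc σ hσ]; exact hI'))
      have hneg : DivEq K (divOf K hKd (PicCl.isInvertible_pullback g hI)) (-Finsupp.single (JacPts.plc K hKd (hτ σ hσ)) 1) :=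
        DivEq.trans' K hKd (DivEq.symm' K hKd (divEq_iso K hKd _ hI' (ψ ≪≫ eqToIso (by rw [hτc σ hσ]))))
          (JacPts.divEq_ker K hKd (hτ σ hσ))
      refine ⟨?_, _, hI, hneg⟩
      obtain ⟨N, hN, ⟨u⟩⟩ := PicLaw.exists_inverse hI
      refine ⟨N, hN, ?_⟩
      obtain ⟨e⟩ := PicLaw.pullback_tensor g hI hN
      have h3 : DivEq K (divOf K hKd (PicCl.isInvertible_pullback g hI) + divOf K hKd (PicCl.isInvertible_pullback g hN)) 0 :=
        DivEq.trans' K hKd (DivEq.symm' K hKd (divEq_tensor K hKd _ _))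
          (DivEq.trans' K hKd (DivEq.symm' K hKd (divEq_iso K hKd _ (isInvertible_structureModule (X := XK))
            (e.symm ≪≫ (Scheme.Modules.pullback g).mapIso u ≪≫ QCoh.pullbackUnitIso g))) (divEq_structureModule K hKd))
      obtain ⟨z, hz, h4⟩ := DivEq.add' K hKd h3 (DivEq.symm' K hKd hneg)
      refine ⟨z, hz, ?_⟩
      rw [zero_add] at h4
      have : divOf K hKd (PicCl.isInvertible_pullback g hN) =
          divOf K hKd (PicCl.isInvertible_pullback g hI) + divOf K hKd (PicCl.isInvertible_pullback g hN) +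
            -Finsupp.single (JacPts.plc K hKd (hτ σ hσ)) 1 - divOf K hKd (PicCl.isInvertible_pullback g hI) +
            Finsupp.single (JacPts.plc K hKd (hτ σ hσ)) 1 := by abel
      rw [this, h4]
      abel
  obtain ⟨E, ⟨L₀, h₀, hE⟩, hell, hns⟩ := exists_ell_one hK' S hadd h0S hpts (divOf K hKd hL)
  have hT := AmpleLib.isInvertible_tensorMod hL (PicCl.isInvertible_pullback g h₀)
  have hDiv : DivEq K (divOf K hKd hT) (divOf K hKd hL + E) :=
    DivEq.trans' K hKd (divEq_tensor K hKd hL _) (DivEq.add' K hKd (divEq_refl K hKd _) hE)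
  refine ⟨L₀, h₀, ?_, ?_⟩
  · rw [finrank_zero K hKd hK' hT, DivEq.ell_eq K hKd hDiv, hell]
  · haveI := CurveCoh.finite_HH_one (k := K) (CohB1.tensorMod L ((Scheme.Modules.pullback g).obj L₀)) (FFCurve.hv K hKd) hKd
      ⟨ProjTwist.isQCoh_of_isInvertible hT, (VBLib.isCoh_of_ofRank (VBLib.ofRank_one_of_invertible hT)).2⟩
    refine (Module.finrank_zero_iff (R := K)).1 ?_
    have h5 := finrank_one K hKd hK' hT
    rw [DivEq.ell_eq K hKd hDiv, DivEq.deg_eq K hKd hDiv] at h5
    omega

end Groth.Agent.S6487
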