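import Groth.Statements.S6488
import Groth.Agent.CycLib.Deform.Construct
import Groth.Agent.CycLib.Deform.Ideals
import Groth.Agent.CycLib.VecBdl.Splitting
import Groth.Agent.CycLib.DevGysinPull
-- import your own Groth.Agent.* helpers here

set_option autoImplicit false
universe u
open CategoryTheory AlgebraicGeometry
open Cyc

namespace Groth.Agent.S6488

set_option linter.style.haveILetI false
set_option maxHeartbeats 2000000

open CategoryTheory.Limits Groth.Agent.CycLib Groth.Agent.CycLib.Dev Groth.Agent.CycLib.Deform Groth.Agent.CycLib.ZeroTop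

/-- Let (L, s, i : D → X) be a triple defining a Gysin map. There is a commutative diagram with i' : D'
→ X', p : D' → D, g : X' → X (p ≫ i = i' ≫ g) such that (1) p and g are flat, of finite type, with
all fibre components of dimension 1, (2) p^* : CH_k(D) → CH_{k+1}(D') is injective for all k, (3) i'
identifies D' with the vanishing scheme in X' of a single global function s' ∈ Γ(X', O_{X'}), and
(4) p^* ∘ i^* = (i')^* ∘ g^* : CH_{k+1}(X) → CH_{k+1}(D'). Dimension functions on X', D' are the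
induced ones; Gysin maps are computed as c_1 ∩ − with the sections s, s' where nonzero and arbitrary
nonzero fallbacks. (The published statement adds that these properties survive any base change Y → X
locally of finite type; this row omits that addendum.) Here a pair (X, δ) with Cyc.IsSetup plays the
role of a scheme locally of finite type over the base (S, δ) (X locally Noetherian with universally
catenary local rings, δ a dimension function), and Cyc.DeltaCompat records that the dimension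
function upstairs is the induced one. -/
theorem result (X D : Scheme.{u}) (δ : X → ℤ) (hX : Cyc.IsSetup X δ) (L : X.Modules) (hL : PicF.IsInvertible L) (s : L.presheaf.obj (Opposite.op ⊤)) (i : D ⟶ X) [IsClosedImmersion i] (hD : Cyc.IsZeroSchemeOf i L s) : ∃ (X' D' : Scheme.{u}) (i' : D' ⟶ X') (p : D' ⟶ D) (g : X' ⟶ X) (_ : IsClosedImmersion i') (_ : Flat p) (_ : Flat g) (_ : LocallyOfFiniteType p) (_ : LocallyOfFiniteType g) (_ : QuasiCompact p) (_ : QuasiCompact g) (δX' : X' → ℤ) (δD' : D' → ℤ) (s' : (Coh.structureModule X').presheaf.obj (Opposite.op ⊤)), i' ≫ g = p ≫ i ∧ Cyc.IsSetup X' δX' ∧ Cyc.DeltaCompat g δX' δ ∧ (∀ d', δD' d' = δX' (i' d')) ∧ Cyc.HasRelDim p 1 ∧ Cyc.HasRelDim g 1 ∧ Cyc.IsZeroSchemeOf i' (Coh.structureModule X') s' ∧ (∀ (k : ℤ) (β : AlgebraicCycle D ℤ), β ∈ Cyc.Zk D (fun d => δ (i d)) k → ∀ β' : AlgebraicCycle D' ℤ, ⇑β' = Cyc.pullFun p δD' (fun d => δ (i d)) 1 ⇑β → Cyc.RatEquivZero δD' (k + 1) β' → Cyc.RatEquivZero (fun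 d => δ (i d)) k β) ∧ ∀ (k : ℤ) (α : AlgebraicCycle X ℤ), α ∈ Cyc.Zk X δ (k + 1) → ∀ (w : (ξ : X) → Cyc.secFibre L ξ), (∀ ξ, w ξ ≠ 0) → ∀ (w' : (ξ : X') → Cyc.secFibre (Coh.structureModule X') ξ), (∀ ξ, w' ξ ≠ 0) → ∀ ζ₁ ζ₂ : AlgebraicCycle D' ℤ, ⇑ζ₁ = Cyc.pullFun p δD' (fun d => δ (i d)) 1 (fun d => Cyc.c1CapFun δ L ⇑α (Cyc.gysinChoice L s w) (i d)) → (∀ d', ζ₂ d' = Cyc.c1CapFun δX' (Coh.structureModule X') (Cyc.pullFun g δX' δ 1 ⇑α) (Cyc.gysinChoice (Coh.structureModule X') s' w') (i' d')) → Cyc.RatEquiv δD' (k + 1) ζ₁ ζ₂ := by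
  classical
  haveI := hX.1
  have hd := hX.2.2
  obtain ⟨Am⟩ := exists_ambient (X := X) hL s
  haveI := Am.aff
  haveI := Am.flat
  haveI := Am.lft
  haveI := Am.closed0
  haveI := Am.iso0
  let π := Am.π
  let O : Am.V.Modules := Coh.structureModule Am.V
  let M : Am.V.Modules := (Scheme.Modules.pullback π).obj L
  have hM : PicF.IsInvertible M := PicCl.isInvertible_pullback π hL
  have hO : PicF.IsInvertible O := LFFrame.isInvertible_structureModule Am.V
  have hM1 : FlatMod.IsFinLocFreeOfRank 1 M := ProjTwist.isFinLocFreeOfRank_one hM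
  have hL1 : FlatMod.IsFinLocFreeOfRank 1 L := ProjTwist.isFinLocFreeOfRank_one hL
  have hO1 : FlatMod.IsFinLocFreeOfRank 1 O := ProjTwist.isFinLocFreeOfRank_one hO
  obtain ⟨δV, hV, hπδ⟩ := VecBdl.exists_setup π hX
  haveI := hV.1
  have hdV := hV.2.2
  have hsπ : ShiftBy π δV δ ((1 + 1 : ℕ) : ℤ) := Am.shift hX hπδ
  obtain ⟨hrD, hkD⟩ := (isZeroSchemeOf_iff hL s i).1 hD
  -- the two divisors
  obtain ⟨X', jX, hjX, hrX, hkX⟩ := ZeroTop.exists_zeroScheme hM Am.σ
  obtain ⟨L1, jL, hjL, hrL, hkL⟩ := ZeroTop.exists_zeroScheme hO Am.τ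
  haveI := hjX
  haveI := hjL
  have hZX : Cyc.IsZeroSchemeOf jX M Am.σ := (isZeroSchemeOf_iff hM Am.σ jX).2 ⟨hrX, hkX⟩
  have hZL : Cyc.IsZeroSchemeOf jL O Am.τ := (isZeroSchemeOf_iff hO Am.τ jL).2 ⟨hrL, hkL⟩
  let g : X' ⟶ X := jX ≫ π
  let πL : L1 ⟶ X := jL ≫ π
  haveI hgfl : Flat g := flat_comp hM hZX Am.regσ
  haveI hLfl : Flat πL := flat_comp hO hZL Am.regτ
  haveI := isLocallyNoetherian_closed jX
  haveI := isLocallyNoetherian_closed jL
  have hdX' := isDimFun_comp_closed jX hdV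
  have hdL := isDimFun_comp_closed jL hdV
  let δX' : X' → ℤ := fun z => δV (jX z)
  let δL : L1 → ℤ := fun z => δV (jL z)
  have hgδ : Cyc.DeltaCompat g δX' δ := deltaCompat_comp (deltaCompat_preimmersion jX δV) hπδ
  have hLδ : Cyc.DeltaCompat πL δL δ := deltaCompat_comp (deltaCompat_preimmersion jL δV) hπδ
  have hgs : ShiftBy g δX' δ ((1 : ℕ) : ℤ) := shiftBy_comp hM hZX Am.regσ hdV hsπ
  have hLs : ShiftBy πL δL δ ((1 : ℕ) : ℤ) := shiftBy_comp hO hZL Am.regτ hdV hsπ
  have hgr : Cyc.HasRelDim g 1 := hasRelDim_comp hM hZX Am.regσ hdV hsπ hπδ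
  have hLr : Cyc.HasRelDim πL 1 := hasRelDim_comp hO hZL Am.regτ hdV hsπ hπδ
  have hX' : Cyc.IsSetup X' δX' := by
    obtain ⟨δ'', h'', hc⟩ := VecBdl.exists_setup g hX
    exact deltaCompat_unique hgδ hc ▸ h''
  -- the common divisor
  let b : pullback πL i ⟶ L1 := pullback.fst πL i
  let p : pullback πL i ⟶ D := pullback.snd πL i
  have hbw : b ≫ πL = p ≫ i := pullback.condition
  have hZb : Cyc.IsZeroSchemeOf b ((Scheme.Modules.pullback πL).obj L) (gsec πL L s) :=
    isZeroSchemeOf_pullback hL s πL hD (IsPullback.of_hasPullback πL i)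
  have hML : PicF.IsInvertible ((Scheme.Modules.pullback jL).obj M) := PicCl.isInvertible_pullback jL hM
  have hJL : ∀ z, zJ ((Scheme.Modules.pullback jL).obj M) (gsec jL M Am.σ) z =
      zJ ((Scheme.Modules.pullback πL).obj L) (gsec πL L s) z := fun z => by
    have h0 : (zJ O Am.τ (jL z)).map (jL.stalkMap z).hom = ⊥ := (Ideal.map_eq_bot_iff_le_ker _).2 (hkL z).ge
    have h1 := congrArg (Ideal.map (jL.stalkMap z).hom) (Am.comb (jL z))
    rw [Ideal.map_sup, Ideal.map_sup, h0, sup_bot_eq, sup_bot_eq] at h1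
    rw [zJ_gsec jL hM1, zJ_gsec πL hL1, h1, zJ_gsec π hL1, Ideal.map_map]
    show Ideal.map _ (zJ L s (π (jL z))) = Ideal.map ((jL ≫ π).stalkMap z).hom _
    rw [Scheme.Hom.stalkMap_comp]
    rfl
  have hZb' : Cyc.IsZeroSchemeOf b ((Scheme.Modules.pullback jL).obj M) (gsec jL M Am.σ) := by
    obtain ⟨h1, h2⟩ := (isZeroSchemeOf_iff (PicCl.isInvertible_pullback πL hL) _ b).1 hZb
    exact (isZeroSchemeOf_iff hML _ b).2 ⟨h1.trans (by simp only [hJL]), fun d => (h2 d).trans (hJL _).symm⟩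
  have hZq : Cyc.IsZeroSchemeOf (pullback.snd jX jL) ((Scheme.Modules.pullback jL).obj M) (gsec jL M Am.σ) :=
    isZeroSchemeOf_pullback hM Am.σ jL hZX (IsPullback.of_hasPullback jX jL).flip
  obtain ⟨e, he⟩ := exists_iso_of_ker b (pullback.snd jX jL)
    (zJ ((Scheme.Modules.pullback jL).obj M) (gsec jL M Am.σ))
    (((isZeroSchemeOf_iff hML _ b).1 hZb').1.trans ((isZeroSchemeOf_iff hML _ _).1 hZq).1.symm)
    ((isZeroSchemeOf_iff hML _ b).1 hZb').2 ((isZeroSchemeOf_iff hML _ _).1 hZq).2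
  let a : pullback πL i ⟶ X' := e.hom ≫ pullback.fst jX jL
  have hab : IsPullback a b jX jL :=
    IsPullback.of_iso_pullback ⟨by
      show (e.hom ≫ pullback.fst jX jL) ≫ jX = b ≫ jL
      rw [Category.assoc, pullback.condition, reassoc_of% he]⟩ e rfl he
  haveI : IsClosedImmersion a := inferInstanceAs (IsClosedImmersion (e.hom ≫ pullback.fst jX jL))
  have hag : a ≫ g = p ≫ i := by
    rw [← hbw]
    show a ≫ jX ≫ π = b ≫ jL ≫ π
    rw [reassoc_of% hab.w]
  let δD' : ↥(pullback πL i) → ℤ := fun z => δV (jX (a z))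
  have hδeq : δD' = fun z => δL (b z) := funext fun z => by
    show δV (jX (a z)) = δV (jL (b z))
    rw [← Scheme.Hom.comp_apply, hab.w, Scheme.Hom.comp_apply]
  haveI := isLocallyNoetherian_closed b
  haveI := isLocallyNoetherian_closed i
  have hdD := isDimFun_comp_closed i hd
  have hdb := isDimFun_comp_closed b hdL
  have hda : Cyc.IsDimFun (pullback πL i : Scheme.{u}) δD' := hδeq ▸ hdb
  have hpδ : Cyc.DeltaCompat p δD' (fun d => δ (i d)) := by
    refine deltaCompat_of_comp_closed p i ?_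
    rw [hδeq, ← hbw]
    exact deltaCompat_comp (deltaCompat_preimmersion b δL) hLδ
  have hps : ShiftBy p δD' (fun d => δ (i d)) ((1 : ℕ) : ℤ) := fun z hz => by
    have hrb : Set.range b = πL ⁻¹' Set.range i := Scheme.Pullback.range_fst πL i
    have hπb : ∀ y, πL (b y) = i (p y) := fun y => by
      rw [← Scheme.Hom.comp_apply, hbw, Scheme.Hom.comp_apply]
    have h := hLs (b z) fun y hy hsp => by
      obtain ⟨y', rfl⟩ := hrb.ge (show y ∈ πL ⁻¹' Set.range i from ⟨p z, (hy.trans (hπb z)).symm⟩)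
      rw [hπb, hπb] at hy
      exact congrArg b (hz y' (i.isClosedEmbedding.injective hy)
        (b.isClosedEmbedding.isInducing.specializes_iff.1 hsp))
    rw [hπb] at h
    rw [hδeq]
    exact h
  haveI : QuasiCompact p := inferInstance
  have hpr : Cyc.HasRelDim p 1 := hasRelDim_of_trdeg p fun z hz => by
    obtain ⟨n, hn, hn'⟩ := hpδ z
    have := hps z hz
    rw [hn, show n = 1 by simp only at hn' this; omega]
  -- the function cutting out the divisor
  let eU := QCoh.pullbackUnitIso jX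
  let s' : (Coh.structureModule X').presheaf.obj (Opposite.op ⊤) := eU.hom.app ⊤ (gsec jX O Am.τ)
  have hOX := LFFrame.isInvertible_structureModule X'
  have hOX1 : PicF.IsInvertible ((Scheme.Modules.pullback jX).obj O) := PicCl.isInvertible_pullback jX hO
  have hZa : Cyc.IsZeroSchemeOf a ((Scheme.Modules.pullback jX).obj O) (gsec jX O Am.τ) :=
    isZeroSchemeOf_pullback hO Am.τ jX hZL hab
  have hJ' : ∀ x, zJ ((Scheme.Modules.pullback jX).obj O) (gsec jX O Am.τ) x = zJ (Coh.structureModule X') s' x :=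
    fun x => (zJ_iso eU _ x).symm
  have hZa' : Cyc.IsZeroSchemeOf a (Coh.structureModule X') s' := by
    obtain ⟨h1, h2⟩ := (isZeroSchemeOf_iff hOX1 _ a).1 hZa
    exact (isZeroSchemeOf_iff hOX _ a).2 ⟨h1.trans (by simp only [hJ']), fun d => (h2 d).trans (hJ' _)⟩
  refine ⟨X', pullback πL i, a, p, g, inferInstance, inferInstance, hgfl, inferInstance, inferInstance,
    inferInstance, inferInstance, δX', δD', s', hag, hX', hgδ, fun _ => rfl, hpr, hgr, hZa', ?_, ?_⟩
  · -- injectivity, through the zero section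
    intro k β hβ β' hβ' h0
    have hb0 := IsCyc.of_cycle β hβ
    let m : (pullback πL i : Scheme.{u}) ⟶ Am.V := b ≫ jL
    let M' := (Scheme.Modules.pullback m).obj M
    have hM' : PicF.IsInvertible M' := PicCl.isInvertible_pullback m hM
    let u' := gsec m M Am.u
    obtain ⟨Z, j0, hj0, hr0, hk0⟩ := ZeroTop.exists_zeroScheme hM' u'
    haveI := hj0
    have hZ0 : Cyc.IsZeroSchemeOf j0 M' u' := (isZeroSchemeOf_iff hM' u' j0).2 ⟨hr0, hk0⟩
    have hm : ZeroOf m fun v => zJ _ (gsec π L s) v ⊔ zJ O Am.τ v := by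
      refine ZeroOf.comp ⟨hrL, hkL⟩ (ZeroOf.congr ((isZeroSchemeOf_iff (PicCl.isInvertible_pullback πL hL) _ b).1 hZb)
        fun z => ?_)
      rw [zJ_gsec πL hL1, zJ_gsec π hL1, Ideal.map_map]
      show Ideal.map ((jL ≫ π).stalkMap z).hom _ = _
      rw [Scheme.Hom.stalkMap_comp]
      rfl
    have hreg' : ∀ z, RelTop.RegGen (RelTop.fibI p z) (zJ M' u' z) := fun z => by
      obtain ⟨w, hw, hw'⟩ := Am.regu (m z)
      refine ⟨m.stalkMap z w, ?_, fun y hy => ?_⟩
      · rw [zJ_gsec m hM1, hw, Ideal.map_span, Set.image_singleton]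
      · have hfib : RelTop.fibI p z = RelTop.fibI (m ≫ π) z := by
          rw [← fibI_comp_closed (f := p) i z, ← hbw]
          rfl
        rw [hfib] at hy ⊢
        refine regGen_restrict m π z hw' ?_ ?_ y hy
        · rw [hm.2]
          refine sup_le_sup_right ?_ _
          rw [zJ_gsec π hL1]
          refine Ideal.map_mono (IsLocalRing.le_maximalIdeal fun h => ?_)
          have hh : zJ L s (π (m z)) ≠ ⊤ := by
            have hx : π (m z) ∈ Set.range i := ⟨p z, by
              show (p ≫ i) z = (m ≫ π) z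
              rw [← hbw]
              rfl⟩
            exact hrD.le hx
          exact hh h
        · rw [hm.2]
          exact le_sup_right
    have hps' : ShiftBy p δD' (fun d => δ (i d)) ((0 + 1 : ℕ) : ℤ) := hps
    have key := gysin_pull_eq hM' hZ0 hreg' hda hps' hdD hb0 (fun ξ => Submodule.Quotient.mk (exists_isBas hM' ξ).choose)
    have hmem : ⇑β' ∈ prin hda (k + 1) := h0
    have hg0 := gysin_mem hM' u' hda j0 hZ0.1 (PicCl.isInvertible_pullback j0 hM') hmem
      (fun ξ => Submodule.Quotient.mk (exists_isBas hM' ξ).choose)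
      (fun ξ => mk_ne_zero_of_isBas (exists_isBas hM' ξ).choose_spec)
    rw [hβ'] at hg0
    have hone : ((0 + 1 : ℕ) : ℤ) = 1 := rfl
    rw [hone] at key
    rw [key, Nat.cast_zero] at hg0
    -- the zero section over `D`
    let hh : Z ⟶ D := j0 ≫ p
    let π0 : Am.Z0 ⟶ X := Am.ι0 ≫ π
    haveI : IsIso π0 := Am.iso0
    have hu : ZeroOf (j0 ≫ m) fun v => zJ M Am.u v ⊔ (zJ _ (gsec π L s) v ⊔ zJ O Am.τ v) :=
      ZeroOf.comp hm (ZeroOf.congr ⟨hr0, hk0⟩ fun z => zJ_gsec m hM1 Am.u z)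
    have hn : ZeroOf (pullback.fst π0 i ≫ Am.ι0) fun v => zJ _ (gsec π L s) v ⊔ (zJ M Am.u v ⊔ zJ O Am.τ v) := by
      refine ZeroOf.comp ⟨Am.range0, Am.ker0⟩ (ZeroOf.congr ((isZeroSchemeOf_iff (PicCl.isInvertible_pullback π0 hL)
        _ _).1 (isZeroSchemeOf_pullback hL s π0 hD (IsPullback.of_hasPullback π0 i))) fun z => ?_)
      rw [zJ_gsec π0 hL1, zJ_gsec π hL1, Ideal.map_map]
      show Ideal.map ((Am.ι0 ≫ π).stalkMap z).hom _ = _
      rw [Scheme.Hom.stalkMap_comp]
      rfl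
    have hn' := ZeroOf.congr hn fun v => sup_left_comm _ _ _
    obtain ⟨e0, he0⟩ := exists_iso_of_ker (j0 ≫ m) (pullback.fst π0 i ≫ Am.ι0)
      (fun v => zJ M Am.u v ⊔ (zJ _ (gsec π L s) v ⊔ zJ O Am.τ v)) (hu.1.trans hn'.1.symm) hu.2 hn'.2
    have hhe : hh = e0.hom ≫ pullback.snd π0 i := by
      rw [← cancel_mono i]
      show (j0 ≫ p) ≫ i = _
      rw [Category.assoc, ← hbw, Category.assoc, ← pullback.condition]
      show j0 ≫ b ≫ jL ≫ π = e0.hom ≫ pullback.fst π0 i ≫ Am.ι0 ≫ π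
      rw [reassoc_of% he0]
      rfl
    haveI : IsIso hh := hhe ▸ inferInstance
    haveI := isLocallyNoetherian_closed j0
    have hdZ := isDimFun_comp_closed j0 hda
    have hZs : ShiftBy hh (fun z => δD' (j0 z)) (fun d => δ (i d)) ((0 : ℕ) : ℤ) :=
      shiftBy_comp hM' hZ0 hreg' hda hps'
    rw [Nat.cast_zero] at hZs
    have hinj : ∀ x, δ (i x) = δD' (j0 ((inv hh) x)) := fun x => by
      have h := hZs ((inv hh) x) fun x' hx' _ => (asIso hh).hom.homeomorph.injective hx'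
      rw [← Scheme.Hom.comp_apply, IsIso.inv_hom_id] at h
      simpa using h.symm
    have hs2 : ShiftBy (inv hh) (fun d => δ (i d)) (fun z => δD' (j0 z)) 0 := fun x _ => by
      rw [add_zero]
      exact hinj x
    have hDset : Cyc.IsSetup D fun d => δ (i d) := by
      obtain ⟨δ'', h'', hc⟩ := VecBdl.exists_setup i hX
      exact deltaCompat_unique (deltaCompat_preimmersion i δ) hc ▸ h''
    have hZset : Cyc.IsSetup Z fun z => δD' (j0 z) := by
      obtain ⟨δ'', h'', hc⟩ := VecBdl.exists_setup hh hDset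
      have hcc : Cyc.DeltaCompat hh (fun z => δD' (j0 z)) fun d => δ (i d) :=
        deltaCompat_comp (deltaCompat_preimmersion j0 δD') hpδ
      exact deltaCompat_unique hcc hc ▸ h''
    have hcyc : IsCyc (fun z => δD' (j0 z)) k (Cyc.pullFun hh (fun z => δD' (j0 z)) (fun d => δ (i d)) 0 ⇑β) := by
      have h := ShiftC1.isCyc_pull hh hdZ hZs hb0
      rwa [add_zero] at h
    obtain ⟨γ, -, hγ⟩ := hcyc.exists_cycle
    have hγ0 : Cyc.RatEquivZero (fun z => δD' (j0 z)) k γ := by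
      rw [ratEquivZero_iff hdZ, hγ]
      exact hg0
    have hres := ratEquivZero_pull_shift (inv hh) hDset hZset hs2 hγ0 β fun x => by
      rw [hγ, pullFun_comp_shift (inv hh) hh hdD hdZ hs2 hZs]
      simp only [IsIso.inv_hom_id]
      exact (VecBdl.pullFun_id _ _ _).symm
    rwa [add_zero] at hres
  · -- the two Gysin maps
    intro k α hα w hw w' hw' ζ₁ ζ₂ hζ₁ hζ₂
    have hα' := IsCyc.of_cycle α hα
    let c := Cyc.pullFun π δV δ ((1 + 1 : ℕ) : ℤ) ⇑α
    have hc : IsCyc δV (k + 1 + 1 + 1) c := by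
      have h := ShiftC1.isCyc_pull π hdV hsπ hα'
      rwa [show k + 1 + ((1 + 1 : ℕ) : ℤ) = k + 1 + 1 + 1 by push_cast; ring] at h
    have any : ∀ {Y : Scheme.{u}} {N : Y.Modules} (hN : PicF.IsInvertible N),
        ∃ t : (ξ : Y) → Cyc.secFibre N ξ, ∀ ξ, t ξ ≠ 0 := fun hN =>
      ⟨fun ξ => Submodule.Quotient.mk (exists_isBas hN ξ).choose,
        fun ξ => mk_ne_zero_of_isBas (exists_isBas hN ξ).choose_spec⟩
    obtain ⟨tM, htM⟩ := any hM
    obtain ⟨tO, htO⟩ := any hO
    obtain ⟨t1, ht1⟩ := any hOX1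
    obtain ⟨t2, ht2⟩ := any hML
    obtain ⟨t3, ht3⟩ := any (PicCl.isInvertible_pullback πL hL)
    have m0 := gysin_gysin jX jL a b hab hdV hM Am.σ hZX hO Am.τ hZL (gsec jX O Am.τ) hZa (gsec jL M Am.σ) hZb'
      tM htM tO htO t1 ht1 t2 ht2 hc
    have e1 := gysin_pull_eq hM hZX Am.regσ hdV hsπ hd hα' tM
    have e2 := gysin_pull_eq hO hZL Am.regτ hdV hsπ hd hα' tO
    simp only [gysinDiff, c] at m0
    rw [e1, e2, Nat.cast_one] at m0
    have cg : IsCyc δX' (k + 1 + 1) (Cyc.pullFun g δX' δ 1 ⇑α) := by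
      have h := ShiftC1.isCyc_pull g hdX' hgs hα'
      rwa [Nat.cast_one] at h
    have cL : IsCyc δL (k + 1 + 1) (Cyc.pullFun πL δL δ 1 ⇑α) := by
      have h := ShiftC1.isCyc_pull πL hdL hLs hα'
      rwa [Nat.cast_one] at h
    have m1 := gysin_indep hdX' a hOX1 hOX eU (gsec jX O Am.τ) s' hJ' hZa cg t1 ht1 w' hw'
    have m2 := gysin_indep hdL b hML (PicCl.isInvertible_pullback πL hL) ((Scheme.Modules.pullbackComp jL π).app L)
      (gsec jL M Am.σ) (gsec πL L s) hJL hZb' cL t2 ht2 t3 ht3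
    have m3 := gysin_pull πL i hdL hL s (gsec πL L s) hd hLδ hLr hD hZb hα' w hw t3 ht3
    rw [Nat.cast_one] at m3
    have tot := AddSubgroup.add_mem _ (AddSubgroup.sub_mem _ m0 m1)
      (AddSubgroup.add_mem _ (prin_congr hdb hda hδeq.symm m2) (prin_congr hdb hda hδeq.symm m3))
    have hdiff : ∀ z, ((⇑ζ₁ - ⇑ζ₂ : ↥(pullback πL i) → ℤ)) z = _ := fun z => rfl
    rw [Cyc.RatEquiv, ratEquivZero_iff hda, show ⇑(ζ₁ - ζ₂) = ⇑ζ₁ - ⇑ζ₂ from rfl]
    rw [← AddSubgroup.neg_mem_iff]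
    convert tot using 1
    funext z
    simp only [Pi.neg_apply, Pi.sub_apply, Pi.add_apply, hζ₁, hζ₂, hδeq]
    ring

end Groth.Agent.S6488
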