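import Groth.Statements.S6494
import Groth.Agent.IntMult66.FamProd

set_option autoImplicit false
set_option maxSynthPendingDepth 3
set_option maxHeartbeats 1000000
universe u
open CategoryTheory CategoryTheory.Limits AlgebraicGeometry
attribute [local instance] HasDerivedCategory.standard
open IntMult

namespace Groth.Agent.S6494

/-- Let X → P be a closed immersion of nonsingular varieties and C' ⊂ P × P^1 a closed subvariety of
dimension r + 1 with (1) the fibre C = C'_0 of dimension r (C' → P^1 dominant), (2) C' and X × P^1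
intersecting properly, (3) [C]_r and X intersecting properly. Then, with α = [C]_r · X and β = C' ·
(X × P^1), one has α = pr_{X,*}(β · (X × 0)). Stated on P × P^1: α = pr_*((C' · (X × P^1)) · (P ×
0)) as cycles on P. (The published statement takes the product of β with X × 0 on X × P^1 and pushes
it forward along X × P^1 → X; this row takes the product of C′ · (X × P^1) with P × 0 on P × P^1 and
pushes it forward along P × P^1 → P, which is the same cycle on P.) Encoding: P × P^1 =
CohB1.ProjSpaceOver 1 P with projection pr and zero section P1.sect P 0; dimension functions δP, δ'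
(transcendence degree); C'_0 is the pullback of C' along the zero section and [C]_r its r-cycle
(Cyc.subschemeFun); X × P^1 and P × 0 enter as the prime cycles of their generic points; products
are IntMult.interProd on P (dim N_P) and on P × P^1 (dim N_P + 1). Here P and X are nonsingular
varieties over the algebraically closed field K (smooth, separated, quasi-compact, integral), δP is
the dimension function on P (transcendence degree over K, recorded by Cyc.DeltaCompat to Spec K with
value 0, together with Cyc.IsSetup), N_P = δP of the generic point of P and n = δP of the generic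
point of X; proper intersection is IntMult.IntersectProperly / IntMult.ProperInt and products are
IntMult.interProd. -/
theorem result (K : Type u) [Field K] [IsAlgClosed K] (P : Scheme.{u}) (fP : P ⟶ Spec (CommRingCat.of K)) [Smooth fP] [IsSeparated fP] [QuasiCompact fP] [IsIntegral P] (δP : P → ℤ) (hP : Cyc.IsSetup P δP) (hδP : Cyc.DeltaCompat fP δP (fun _ => 0)) (NP : ℕ) (hNP : δP (genericPoint P) = NP) (δ' : ↥(CohB1.ProjSpaceOver 1 P) → ℤ) (hP' : Cyc.IsSetup (CohB1.ProjSpaceOver 1 P) δ') (hδ' : Cyc.DeltaCompat (CohB1.ProjSpaceOver.toBase 1 P) δ' δP) [QuasiCompact (CohB1.ProjSpaceOver.toBase 1 P)] (X : Scheme.{u}) (fX : X ⟶ Spec (CommRingCat.of K)) [Smooth fX] [IsSeparated fX] [QuasiCompact fX] [IsIntegral X] (ι : X ⟶ P) [IsClosedImmersion ι] (hι : ι ≫ fP = fX) (n : ℕ) (hn : δP (ι (genericPoint X)) = n) (ζX : ↥(CohB1.ProjSpaceOver 1 P)) (hζ1 : CohB1.ProjSpaceOver.toBase 1 P ζX = ι (genericPoint X)) (hζ2 : δ' ζX = n + 1) (C' : Scheme.{u}) [IsIntegral C'] (ι' : C' ⟶ CohB1.ProjSpaceOver 1 P) [IsClosedImmersion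 ι'] (r : ℕ) (hr : δ' (ι' (genericPoint C')) = r + 1) (hC0 : ∀ w : ↥(pullback ι' (P1.sect P 0)), δP (pullback.snd ι' (P1.sect P 0) w) ≤ r) (hC0ne : Nonempty ↥(pullback ι' (P1.sect P 0))) (h2 : IntMult.ProperInt (closure {ι' (genericPoint C')}) (⇑(CohB1.ProjSpaceOver.toBase 1 P) ⁻¹' Set.range ⇑ι) (NP + 1) (r + 1) (n + 1)) (h3 : IntMult.IntersectProperly δP NP (Cyc.subschemeFun δP r (pullback.snd ι' (P1.sect P 0))) (Set.indicator {ι (genericPoint X)} 1)) (B : AlgebraicCycle (CohB1.ProjSpaceOver 1 P) ℤ) (hB : ⇑B = IntMult.interProd δ' (NP + 1) (IntMult.interProd δ' (NP + 1) (Set.indicator {ι' (genericPoint C')} 1) (Set.indicator {ζX} 1)) (Set.indicator {P1.sect P 0 (genericPoint P)} 1)) : ⇑(AlgebraicCycle.map (CohB1.ProjSpaceOver.toBase 1 P) δ' δP B) = IntMult.interProd δP NP (Cyc.subschemeFun δP r (pullback.snd ι' (P1.sect P 0))) (Set.indicator {ι (genericPoint X)} 1) := by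
  classical
  open Groth.Agent.IntMult66 Groth.Agent.CycLib in
  exact (by
    haveI := hP.1
    haveI := isClosedImmersion_sect P 0
    haveI := isIntegral_projSpaceOver fP
    haveI := smooth_toBase_comp fP
    haveI : IsProper (CohB1.ProjSpaceOver.toBase 1 P) := ProjProper.Basic.isProper_toBase 1 P
    have hδ := deltaCompat_toBase_comp fP hδP hδ'
    set q := CohB1.ProjSpaceOver.toBase 1 P
    set c := ι' (genericPoint C')
    set x := ι (genericPoint X)
    set s := P1.sect P 0 (genericPoint P)
    set C0 := Cyc.subschemeFun δP r (pullback.snd ι' (P1.sect P 0)) with hC0def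
    have hW : δ' (genericPoint (CohB1.ProjSpaceOver 1 P)) = (NP : ℤ) + 1 := by
      rw [delta_genericPoint fP hδP hδ', hNP]
    have hle : ∀ ξ : P, c ⤳ P1.sect P 0 ξ → δP ξ ≤ r := fun ξ h => by
      obtain ⟨c', hc'⟩ := h.mem_closed ι'.isClosedEmbedding.isClosed_range ⟨genericPoint C', rfl⟩
      obtain ⟨w, -, hw⟩ := Scheme.Pullback.exists_preimage_pullback (f := ι') (g := P1.sect P 0) c' ξ hc'
      exact hw ▸ hC0 w
    have hz : ∀ w, ζX ⤳ w → x ⤳ q w := fun w h => hζ1 ▸ h.map q.continuous
    have hsec : ∀ w, s ⤳ w → ∃ y : P, P1.sect P 0 y = w := fun w h =>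
      h.mem_closed (P1.sect P 0).isClosedEmbedding.isClosed_range ⟨_, rfl⟩
    have hC0c : ∀ ξ, C0 ξ ≠ 0 → δP ξ = r ∧ c ⤳ P1.sect P 0 ξ := fun ξ hξ => by
      obtain ⟨hd, w, hw⟩ := Groth.Agent.S1954.of_subschemeFun_ne_zero δP r (pullback.snd ι' (P1.sect P 0)) ξ hξ
      refine ⟨hd, ((genericPoint_specializes (pullback.fst ι' (P1.sect P 0) w)).map ι'.continuous).trans
        (specializes_of_eq ?_)⟩
      rw [← Scheme.Hom.comp_apply, pullback.condition, Scheme.Hom.comp_apply, hw]
    have hone : ∀ a b : ↥(CohB1.ProjSpaceOver 1 P), (Set.indicator {a} 1 b : ℤ) ≠ 0 → b = a := fun a b h =>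
      Set.mem_singleton_iff.1 (Set.mem_of_indicator_ne_zero h)
    have hUV : IntMult.IntersectProperly δ' ((NP : ℤ) + 1) (Set.indicator {c} 1) (Set.indicator {ζX} 1) := by
      intro a b w ha hb haw hbw
      obtain rfl := hone _ _ ha
      obtain rfl := hone _ _ hb
      have := delta_le_of_properInt (q ≫ fP) hδ h2 isClosed_closure
        (ι.isClosedEmbedding.isClosed_range.preimage q.continuous) (specializes_iff_mem_closure.1 haw)
        ((hz w hbw).mem_closed ι.isClosedEmbedding.isClosed_range ⟨genericPoint X, rfl⟩)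
      rw [hr, hζ2]
      push_cast at this
      exact this
    have hVW : IntMult.IntersectProperly δ' ((NP : ℤ) + 1) (Set.indicator {ζX} 1) (Set.indicator {s} 1) := by
      intro a b w ha hb haw hbw
      obtain rfl := hone _ _ ha
      obtain rfl := hone _ _ hb
      obtain ⟨y, rfl⟩ := hsec w hbw
      have h := hz _ haw
      rw [toBase_sect] at h
      have := delta_mono fP hδP h
      rw [delta_sect hδ', delta_sect hδ', hζ2, hNP]
      rw [hn] at this
      omega
    have hUW : IntMult.IntersectProperly δ' ((NP : ℤ) + 1) (Set.indicator {c} 1) (Set.indicator {s} 1) := by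
      intro a b w ha hb haw hbw
      obtain rfl := hone _ _ ha
      obtain rfl := hone _ _ hb
      obtain ⟨y, rfl⟩ := hsec w hbw
      have := hle y haw
      rw [delta_sect hδ', delta_sect hδ', hr, hNP]
      omega
    have hbound : ∀ y : P, c ⤳ P1.sect P 0 y → x ⤳ y → δP y ≤ (r : ℤ) + n - NP := fun y h hx => by
      obtain ⟨ξ, hξy, hξr, hcξ⟩ := exists_component fP hδP hδ' c hr hle h
      have h0 : C0 ξ ≠ 0 := by
        rw [hC0def, subschemeFun_fibre_zero δP r ι' ξ hξr]
        exact length_fibre_zero_ne_zero fP hδP c hle hξr hcξ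
      have := h3 ξ x y h0 (by simp) hξy hx
      rw [hξr, hn] at this
      exact this
    have hUVW : ∀ w, c ⤳ w → ζX ⤳ w → s ⤳ w → δ' w ≤ δ' c + δ' ζX + δ' s - 2 * ((NP : ℤ) + 1) := by
      intro w h1 hz' hs
      obtain ⟨y, rfl⟩ := hsec w hs
      have h := hz _ hz'
      rw [toBase_sect] at h
      have := hbound y h1 h
      rw [delta_sect hδ', delta_sect hδ', hr, hζ2, hNP]
      omega
    rw [← Groth.Agent.S6450.result K _ (q ≫ fP) δ' hP' hδ ((NP : ℤ) + 1) hW c ζX s hUV hVW hUW hUVW,
      interProd_fibre_sect fP hδP hδ' fX ι NP n hNP hn ζX hζ1 hζ2] at hB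
    have hx' : δ' (P1.sect P 0 x) = n := by rw [delta_sect hδ', hn]
    funext y
    have hBy : ∀ w, B w = if δ' c + δ' (P1.sect P 0 x) - ((NP : ℤ) + 1) = δ' w then
        IntMult.mult (IntMult.ptIdeal c) (IntMult.ptIdeal (P1.sect P 0 x)) w else 0 := fun w => by
      rw [hB, interProd_indicator]
    have hmap : AlgebraicCycle.map q δ' δP B y = B (P1.sect P 0 y) := by
      rw [map_apply_eq_sum q δ' δP B y {P1.sect P 0 y} fun p hp hne => ?_,
        Finset.filter_true_of_mem fun p hp => by rw [Finset.mem_singleton.1 hp]; exact toBase_sect 0 y,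
        Finset.sum_singleton]
      · unfold AlgebraicCycle.mapCoeff
        rw [if_pos, residueDegree_toBase_sect]
        · simp
        · show δ' _ = δP (q _)
          rw [toBase_sect, delta_sect hδ']
      · rw [hBy] at hne
        split_ifs at hne with hd
        · have hp' : P1.sect P 0 x ⤳ p := by_contra fun h => hne (mult_eq_zero_right h)
          obtain ⟨y', rfl⟩ := hp'.mem_closed (P1.sect P 0).isClosedEmbedding.isClosed_range ⟨_, rfl⟩
          rw [toBase_sect] at hp
          rw [hp]
          exact Finset.mem_singleton_self _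
        · exact absurd rfl hne
    rw [hmap, hBy, hr, hx', delta_sect hδ']
    by_cases hall : δP y = (r : ℤ) + n - NP ∧ c ⤳ P1.sect P 0 y ∧ x ⤳ y
    swap
    · have hR : IntMult.interProd δP NP C0 (Set.indicator {x} 1) y = 0 := by
        refine finsum_eq_zero_of_forall_eq_zero fun p => ?_
        by_contra hne
        have h1 : C0 p.1.1 ≠ 0 := fun h => hne (by rw [h, zero_mul, zero_mul])
        have h2' : (Set.indicator {x} 1 p.1.2 : ℤ) ≠ 0 := fun h => hne (by rw [h, mul_zero, zero_mul])
        have h2'' : p.1.2 = x := Set.mem_singleton_iff.1 (Set.mem_of_indicator_ne_zero h2')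
        obtain ⟨hd, hcξ⟩ := hC0c _ h1
        have h := p.2.2.2
        have hxy := p.2.2.1
        rw [hd, h2'', hn] at h
        rw [h2''] at hxy
        exact hall ⟨by omega, hcξ.trans (p.2.1.map (P1.sect P 0).continuous), hxy⟩
      rw [hR]
      split_ifs with hd
      · by_contra hne
        refine hall ⟨by omega, by_contra fun h => hne (mult_eq_zero_left h), ?_⟩
        have h : P1.sect P 0 x ⤳ P1.sect P 0 y := by_contra fun h => hne (mult_eq_zero_right h)
        exact (P1.sect P 0).isClosedEmbedding.isInducing.specializes_iff.1 h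
      · rfl
    obtain ⟨hy, hcy, hxy⟩ := hall
    rw [if_pos (by omega)]
    obtain ⟨R, _, _, _, p, _, _, _⟩ := exists_chart fP y
    haveI := isRegularLocalRing_localization K R p (P.presheaf.stalk y)
    haveI := (ptPrime (P1.sect P 0 y) c hcy).isPrime
    have hnle : ¬ RingHom.ker (sig P y) ≤ (ptPrime (P1.sect P 0 y) c hcy).asIdeal := fun h => by
      obtain ⟨ξ, hξ, -⟩ := exists_ker_sig_le hcy h
      have := hle ξ (specializes_of_eq hξ.symm)
      rw [← hξ, delta_sect hδ'] at hr
      omega
    rw [mult_ptIdeal hcy (hxy.map (P1.sect P 0).continuous), IntMult88.chi_comm, ← comap_sig_ptPrime hxy,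
      chi_sig fP y _ hnle, IntMult88.chi_comm]
    set Px := ptPrime y x hxy
    set J := (ptPrime (P1.sect P 0 y) c hcy).asIdeal.map (sig P y) with hJ
    obtain ⟨d, hd, hd'⟩ := ringKrullDim_stalk fP hδP y
    rw [hNP] at hd'
    obtain ⟨bx, hbx, hbx'⟩ := ringKrullDim_ptPrime fP hδP hxy
    rw [hn] at hbx'
    obtain ⟨a, ha⟩ : ∃ a : ℕ, (a : ℤ) = r - δP y :=
      ⟨((r : ℤ) - δP y).toNat, by have := hle y hcy; omega⟩
    have hover : ∀ η, ∀ h : η ⤳ y, J ≤ (ptPrime y η h).asIdeal → c ⤳ P1.sect P 0 η := fun η h hJη => by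
      rw [hJ, Ideal.map_le_iff_le_comap, comap_sig_ptPrime h] at hJη
      exact (ptPrime_le_iff hcy _).1 hJη
    have hsupp : Module.supportDim (P.presheaf.stalk y) (P.presheaf.stalk y ⧸ J) ≤ a :=
      supportDim_le a fun Q hQ => by
        obtain ⟨η, hη, rfl⟩ := exists_ptPrime y Q
        have hQ' := Module.mem_support_iff_of_finite.1 hQ
        rw [Ideal.annihilator_quotient] at hQ'
        obtain ⟨e, he, he'⟩ := ringKrullDim_ptPrime fP hδP hη
        have := hle η (hover η hη hQ')
        rw [he]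
        exact_mod_cast (by omega : e ≤ a)
    have hmeet : Meet (A := P.presheaf.stalk y) (P.presheaf.stalk y ⧸ Px.asIdeal)
        (P.presheaf.stalk y ⧸ J) := by
      rw [Meet, Ideal.annihilator_quotient, Ideal.annihilator_quotient, Ideal.radical_eq_sInf]
      refine le_sInf ?_
      rintro Q ⟨hQ, hQp⟩
      obtain ⟨η, hη, he⟩ := exists_ptPrime y ⟨Q, hQp⟩
      have he' : (ptPrime y η hη).asIdeal = Q := congrArg PrimeSpectrum.asIdeal he
      rw [← he'] at hQ
      have := hbound η (hover η hη (le_sup_right.trans hQ)) ((ptPrime_le_iff hxy hη).1 (le_sup_left.trans hQ))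
      obtain rfl := eq_of_le fP hδP hη (by omega)
      rw [← he']
      have : ptPrime η η hη = IsLocalRing.closedPoint (P.presheaf.stalk η) :=
        (P.fromSpecStalk η).isEmbedding.injective
          ((fromSpecStalk_ptPrime _ _ _).trans Scheme.fromSpecStalk_closedPoint.symm)
      exact (congrArg PrimeSpectrum.asIdeal this).ge
    obtain ⟨-, S, hS⟩ := chi_devissage K R p (P.presheaf.stalk y ⧸ Px.asIdeal) a (fun Q hQ hm =>
      chi_eq_zero_of_lt K R p hd Q Px hQ.le hbx.le (Or.inl hQ) (by omega) hm) inferInstance hsupp hmeet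
    obtain ⟨hzero, hsum⟩ := hS S le_rfl
    rw [hsum]
    let g : PrimeSpectrum (P.presheaf.stalk y) → ℤ := fun Q =>
      if ringKrullDim (P.presheaf.stalk y ⧸ Q.asIdeal) = a then locLen (P.presheaf.stalk y ⧸ J) Q *
        IntMult.chi (P.presheaf.stalk y) (P.presheaf.stalk y ⧸ Px.asIdeal) (P.presheaf.stalk y ⧸ Q.asIdeal) else 0
    rw [← finsum_eq_finsetSum_of_support_subset g (s := S) fun Q hQ => by
      by_contra hQS
      refine hQ ?_
      show (if _ then _ else _) = _
      split_ifs with hQe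
      · rw [hzero Q hQS hQe, zero_mul]
      · rfl]
    let Φ : {ξ : P // ξ ⤳ y ∧ δP ξ = r} → PrimeSpectrum (P.presheaf.stalk y) := fun ξ => ptPrime y ξ.1 ξ.2.1
    have hΦ : Function.Injective Φ := by
      rintro ⟨η, h, h'⟩ ⟨η', h1, h1'⟩ heq
      have := congrArg (fun Q => P.fromSpecStalk y Q) heq
      simp only [Φ, fromSpecStalk_ptPrime] at this
      exact Subtype.ext this
    have hrange : Function.support g ⊆ Set.range Φ := by
      intro Q hQ
      simp only [g, Function.mem_support, ne_eq, ite_eq_right_iff, not_forall] at hQ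
      obtain ⟨h1, -⟩ := hQ
      obtain ⟨η, h, hη⟩ := exists_ptPrime y Q
      obtain ⟨e, he, he'⟩ := ringKrullDim_ptPrime fP hδP h
      rw [hη, h1] at he
      have : a = e := by exact_mod_cast he
      exact ⟨⟨η, h, by omega⟩, hη⟩
    conv_lhs => rw [← Set.indicator_eq_self.mpr hrange, ← finsum_mem_def, finsum_mem_range hΦ]
    let em : {ξ : P // ξ ⤳ y ∧ δP ξ = r} →
        {p : P × P // p.1 ⤳ y ∧ p.2 ⤳ y ∧ δP p.1 + δP p.2 - (NP : ℤ) = δP y} :=
      fun ξ => ⟨(ξ.1, x), ξ.2.1, hxy, by have := ξ.2.2; show δP ξ.1 + δP x - (NP : ℤ) = δP y; omega⟩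
    have hem : Function.Injective em := fun u v h => Subtype.ext (congrArg (fun p => p.1.1) h)
    unfold IntMult.interProd
    let F : {p : P × P // p.1 ⤳ y ∧ p.2 ⤳ y ∧ δP p.1 + δP p.2 - (NP : ℤ) = δP y} → ℤ := fun p =>
      C0 p.1.1 * Set.indicator {x} 1 p.1.2 * IntMult.mult (IntMult.ptIdeal p.1.1) (IntMult.ptIdeal p.1.2) y
    show _ = finsum F
    have hF : Function.support F ⊆ Set.range em := fun p hp => by
      have h1 : C0 p.1.1 ≠ 0 := fun h => hp (by simp [F, h])
      have h2' : p.1.2 = x := by_contra fun h => hp (by simp [F, h])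
      exact ⟨⟨p.1.1, p.2.1, (hC0c _ h1).1⟩, Subtype.ext (Prod.ext rfl h2'.symm)⟩
    conv_rhs => rw [← Set.indicator_eq_self.mpr hF, ← finsum_mem_def, finsum_mem_range hem]
    refine finsum_congr fun ξ => ?_
    obtain ⟨ξ, hξy, hξr⟩ := ξ
    obtain ⟨e, he, he'⟩ := ringKrullDim_ptPrime fP hδP hξy
    have hee : ringKrullDim (P.presheaf.stalk y ⧸ (ptPrime y ξ hξy).asIdeal) = a := by
      rw [he, show e = a by omega]
    show g (ptPrime y ξ hξy) = C0 ξ * Set.indicator {x} 1 x *
      IntMult.mult (IntMult.ptIdeal ξ) (IntMult.ptIdeal x) y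
    letI : Algebra (P.presheaf.stalk y) (P.presheaf.stalk ξ) := (P.presheaf.stalkSpecializes hξy).hom.toAlgebra
    haveI : IsLocalization.AtPrime (P.presheaf.stalk ξ) (ptPrime y ξ hξy).asIdeal :=
      isLocalization_stalkSpecializes hξy
    have hlen : locLen (P.presheaf.stalk y ⧸ J) (ptPrime y ξ hξy) = C0 ξ := by
      rw [locLen_eq (ptPrime y ξ hξy) (P.presheaf.stalk ξ), (quotTensor (P.presheaf.stalk ξ) J).length_eq,
        hC0def, subschemeFun_fibre_zero δP r ι' ξ hξr, hJ, ← stalkIdeal_ptIdeal hcy,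
        ← map_sig_stalkIdeal (IntMult.ptIdeal c) hξy]
      rfl
    simp only [g, if_pos hee, hlen, Set.indicator_of_mem (Set.mem_singleton x), Pi.one_apply, mul_one]
    rw [mult_ptIdeal hξy hxy])

end Groth.Agent.S6494
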