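import Groth.Statements.S6495
import Groth.Agent.CycLib.LimitCycle
-- import your own Groth.Agent.* helpers here

set_option autoImplicit false
universe u
open CategoryTheory AlgebraicGeometry
open Cyc

namespace Groth.Agent.S6495

/-- Surjectivity of colim Z_k(X_i) → Z_k(X'): every k-cycle α' on the limit X' is g_i^*α for some i and
some k-cycle α on X_i, where g_i : X' → X_i is the projection and g_i^* the shift-0 base-change
pullback on coefficient functions. Setting: a directed inverse system (X_i) of quasi-compact schemes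
with affine flat transition morphisms and limit X' (a limit cone), each X_i and X' carrying a
dimension function with Cyc.IsSetup, and every transition map and every projection X' → X_i shifting
the dimension functions by c = 0 at generic points of fibres, so that the base-change pullbacks g^*
are Cyc.pullFun with shift 0. (The published statement takes X_i and X′ to be the base changes of
one quasi-compact scheme of finite type over a base S along S_i → S and lim S_i → S; this row allows
any such inverse system.) -/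
theorem result (I : Type u) [Preorder I] [IsDirected I (fun a b => a ≤ b)] [Nonempty I] (D : Iᵒᵖ ⥤ Scheme.{u}) (c : Limits.Cone D) (hc : Limits.IsLimit c) (haff : ∀ (i j : Iᵒᵖ) (f : i ⟶ j), IsAffineHom (D.map f)) (hflat : ∀ (i j : Iᵒᵖ) (f : i ⟶ j), Flat (D.map f)) (hqc : ∀ i, CompactSpace ↥(D.obj i)) (δ : (i : Iᵒᵖ) → ↥(D.obj i) → ℤ) (δ' : ↥c.pt → ℤ) (hset : ∀ i, Cyc.IsSetup (D.obj i) (δ i)) (hset' : Cyc.IsSetup c.pt δ') (hshift : ∀ (i j : Iᵒᵖ) (f : i ⟶ j) (x : ↥(D.obj i)), (∀ y, D.map f y = D.map f x → y ⤳ x → y = x) → δ i x = δ j (D.map f x)) (hflat' : ∀ i, Flat (c.π.app i)) (hshift' : ∀ (i : Iᵒᵖ) (x : ↥c.pt), (∀ y, c.π.app i y = c.π.app i x → y ⤳ x → y = x) → δ' x = δ i (c.π.app i x)) (k : ℤ) (α' : AlgebraicCycle c.pt ℤ) (hα' : α' ∈ Cyc.Zk c.pt δ' k) : ∃ (i : Iᵒᵖ) (α : AlgebraicCycle (D.obj i) ℤ), α ∈ Cyc.Zk (D.obj i) (δ i) k ∧ Cyc.pullFun (c.π.app i) δ' (δ i) 0 ⇑α = ⇑α' := by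
  classical
  haveI := hqc
  haveI := haff
  haveI := hset'.1
  haveI : ∀ j, IsLocallyNoetherian (D.obj j) := fun j => (hset j).1
  haveI : IsFiltered I := isFiltered_of_directed_le_nonempty I
  haveI : IsCofiltered Iᵒᵖ := isCofiltered_op_of_isFiltered I
  haveI : CompactSpace c.pt := Scheme.compactSpace_of_isLimit D c hc
  haveI : IsNoetherian c.pt := ⟨⟩
  let F := (CycLib.finite_support_of_compact α').toFinset
  obtain ⟨i, hi⟩ := CycLib.exists_good hc (Opposite.op (Classical.arbitrary I)) F
  let g : c.pt → D.obj i := c.π.app i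
  have hgen : ∀ x ∈ F, ∀ y : c.pt, g y = g x → y ⤳ x → y = x := fun x hx y hy hyx =>
    (hyx.antisymm (specializes_iff_mem_closure.mpr ((hi x hx).1 (show g y ∈ closure {g x} from
      hy ▸ subset_closure rfl)))).eq
  have hgenδ : ∀ x ∈ F, δ' x = δ i (g x) := fun x hx => hshift' i x (hgen x hx)
  have huniq : ∀ x ∈ F, ∀ y : c.pt, g y = g x → δ' y = δ i (g y) → x = y := fun x hx y hy hd => by
    refine CycLib.eq_of_specializes hset'.2.2
      (specializes_iff_mem_closure.mpr ((hi x hx).1 (show g y ∈ closure {g x} from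
        hy ▸ subset_closure rfl))) (le_of_eq ?_)
    rw [hd, hy, hgenδ x hx]
  let a : D.obj i → ℤ := fun y => ∑ x ∈ F with g x = y, α' x
  have ha : a.support.Finite := by
    refine (F.image g).finite_toSet.subset fun y hy => ?_
    obtain ⟨x, hx, -⟩ := Finset.exists_ne_zero_of_sum_ne_zero (Function.mem_support.mp hy)
    obtain ⟨hxF, rfl⟩ := Finset.mem_filter.mp hx
    exact Finset.mem_image_of_mem g hxF
  let A : AlgebraicCycle (D.obj i) ℤ :=
    { toFun := a
      supportWithinDomain' := Set.subset_univ _
      supportLocallyFiniteWithinDomain' := fun z _ => ⟨Set.univ, Filter.univ_mem, by rwa [Set.univ_inter]⟩ }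
  refine ⟨i, A, fun y hy => ?_, funext fun x => ?_⟩
  · refine Finset.sum_eq_zero fun x hx => ?_
    obtain ⟨hxF, rfl⟩ := Finset.mem_filter.mp hx
    exact hα' x (by rwa [hgenδ x hxF])
  · show (if δ' x = δ i (g x) + 0 then a (g x) * _ else 0) = α' x
    rw [add_zero]
    split_ifs with hd
    · by_cases hx : x ∈ F
      · have hsum : a (g x) = α' x := Finset.sum_eq_single_of_mem x
          (Finset.mem_filter.mpr ⟨hx, rfl⟩) fun y hy hne => by
            obtain ⟨hyF, hgy⟩ := Finset.mem_filter.mp hy
            exact absurd (huniq y hyF x hgy.symm hd) hne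
        rw [hsum]
        have hlen := CycLib.length_residue (R := c.pt.presheaf.stalk x)
        have h2 : Module.length (c.pt.presheaf.stalk x)
            (c.pt.presheaf.stalk x ⧸ CycLib.fibIdeal (X := c.pt) (c.π.app i) x) = 1 := by
          have e : CycLib.fibIdeal (X := c.pt) (c.π.app i) x = IsLocalRing.maximalIdeal _ := (hi x hx).2
          rw [e]; exact hlen
        erw [h2]
        simp
      · have hsum : a (g x) = 0 := Finset.sum_eq_zero fun y hy => by
          obtain ⟨hyF, hgy⟩ := Finset.mem_filter.mp hy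
          exact absurd (huniq y hyF x hgy.symm hd ▸ hyF) hx
        rw [hsum, zero_mul]
        exact (not_not.mp fun h => hx ((CycLib.finite_support_of_compact α').mem_toFinset.mpr h)).symm
    · refine Eq.symm (not_not.mp fun h => hd ?_)
      exact hgenδ x ((CycLib.finite_support_of_compact α').mem_toFinset.mpr h)

end Groth.Agent.S6495
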