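import Groth.Statements.S6497
import Groth.Agent.CycLib.ShiftPull
import Groth.Agent.CycLib.LimitCycle
import Groth.Agent.S6496
-- import your own Groth.Agent.* helpers here

set_option autoImplicit false
set_option maxHeartbeats 1000000
universe u
open CategoryTheory AlgebraicGeometry
open Cyc
open Groth.Agent Groth.Agent.CycLib

namespace Groth.Agent.S6497

/-- Injectivity of colim CH_k(X_i) → CH_k(X'): if α ∈ Z_k(X_i) and g_i^*α ∼_rat 0 on X' (for a cycle
with the pulled-back coefficients), then for some stage X_j above X_i the pullback of α to X_j is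
∼_rat 0. Setting: a directed inverse system (X_i) of quasi-compact schemes with affine flat
transition morphisms and limit X' (a limit cone), each X_i and X' carrying a dimension function with
Cyc.IsSetup, and every transition map and every projection X' → X_i shifting the dimension functions
by c = 0 at generic points of fibres, so that the base-change pullbacks g^* are Cyc.pullFun with
shift 0. (The published statement takes X_i and X′ to be the base changes of one quasi-compact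
scheme of finite type over a base S along S_i → S and lim S_i → S; this row allows any such inverse
system.) -/
theorem result (I : Type u) [Preorder I] [IsDirected I (fun a b => a ≤ b)] [Nonempty I] (D : Iᵒᵖ ⥤ Scheme.{u}) (c : Limits.Cone D) (hc : Limits.IsLimit c) (haff : ∀ (i j : Iᵒᵖ) (f : i ⟶ j), IsAffineHom (D.map f)) (hflat : ∀ (i j : Iᵒᵖ) (f : i ⟶ j), Flat (D.map f)) (hqc : ∀ i, CompactSpace ↥(D.obj i)) (δ : (i : Iᵒᵖ) → ↥(D.obj i) → ℤ) (δ' : ↥c.pt → ℤ) (hset : ∀ i, Cyc.IsSetup (D.obj i) (δ i)) (hset' : Cyc.IsSetup c.pt δ') (hshift : ∀ (i j : Iᵒᵖ) (f : i ⟶ j) (x : ↥(D.obj i)), (∀ y, D.map f y = D.map f x → y ⤳ x → y = x) → δ i x = δ j (D.map f x)) (hflat' : ∀ i, Flat (c.π.app i)) (hshift' : ∀ (i : Iᵒᵖ) (x : ↥c.pt), (∀ y, c.π.app i y = c.π.app i x → y ⤳ x → y = x) → δ' x = δ i (c.π.app i x)) (k : ℤ) (i : Iᵒᵖ) (α : AlgebraicCycle (D.obj i) ℤ) (hα : α ∈ Cyc.Zk (D.obj i) (δ i) k) (α' : AlgebraicCycle c.pt ℤ) (hα' : ⇑α' = Cyc.pullFun (c.π.app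 i) δ' (δ i) 0 ⇑α) (h0 : Cyc.RatEquivZero δ' k α') : ∃ (j : Iᵒᵖ) (f : j ⟶ i) (αj : AlgebraicCycle (D.obj j) ℤ), ⇑αj = Cyc.pullFun (D.map f) (δ j) (δ i) 0 ⇑α ∧ Cyc.RatEquivZero (δ j) k αj := by
  classical
  haveI := hqc
  haveI := haff
  haveI := hset'.1
  haveI : ∀ j, IsLocallyNoetherian (D.obj j) := fun j => (hset j).1
  haveI : ∀ j, QuasiSeparatedSpace (D.obj j) := fun j => inferInstance
  haveI : IsFiltered I := isFiltered_of_directed_le_nonempty I
  haveI : IsCofiltered Iᵒᵖ := isCofiltered_op_of_isFiltered I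
  haveI : CompactSpace c.pt := Scheme.compactSpace_of_isLimit D c hc
  haveI : IsNoetherian c.pt := ⟨⟩
  have hsπ : ∀ j, ShiftBy (X := c.pt) (c.π.app j) δ' (δ j) 0 := fun j x hx => by
    rw [add_zero]; exact hshift' j x hx
  have hsD : ∀ (a b : Iᵒᵖ) (φ : a ⟶ b), ShiftBy (D.map φ) (δ a) (δ b) 0 := fun a b φ x hx => by
    rw [add_zero]; exact hshift a b φ x hx
  obtain ⟨J, ξ, g, hξ, hg, hlf, hsum⟩ := h0
  choose U hUo hxU hUfin using hlf
  obtain ⟨t, ht⟩ := isCompact_univ.elim_finite_subcover U hUo fun x _ => Set.mem_iUnion.2 ⟨x, hxU x⟩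
  haveI : Finite J := by
    refine Set.finite_univ_iff.1 ((t.finite_toSet.biUnion fun x _ => hUfin x).subset fun a _ => ?_)
    obtain ⟨x, hx, hax⟩ := Set.mem_iUnion₂.1 (ht (Set.mem_univ (ξ a)))
    exact Set.mem_biUnion hx ⟨ξ a, subset_closure rfl, hax⟩
  haveI := Fintype.ofFinite J
  obtain ⟨i1, hi1⟩ := exists_good hc i (Finset.univ.image ξ)
  have hreach : ∀ a, ∃ j : Iᵒᵖ, Reached (X := c.pt) (c.π.app j) (ξ a) (g a) := by
    intro a
    obtain ⟨b, hb⟩ := Scheme.residue_surjective c.pt (ξ a) (g a)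
    obtain ⟨W, hxW, s, rfl⟩ := c.pt.presheaf.exists_germ_eq b
    obtain ⟨j, -, V, hV, hxV, hVW⟩ := LimTop.exists_nhd hc i W.2 hxW
    have hle : c.π.app j ⁻¹ᵁ V ≤ W := hVW
    obtain ⟨m, f, h, t, ht⟩ := LimLib.exists_appLE_eq hc hV.isCompact rfl
      (c.pt.presheaf.map (homOfLE hle).op s)
    have hxm : c.π.app m (ξ a) ∈ D.map f ⁻¹ᵁ V := h hxV
    refine ⟨m, (D.obj m).residue _ ((D.obj m).presheaf.germ _ _ hxm t), ?_⟩
    rw [← hb]
    refine (congr($(Scheme.residue_residueFieldMap (c.π.app m) (ξ a)) _)).trans ?_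
    refine congrArg (c.pt.residue (ξ a)) ?_
    show (Scheme.Hom.stalkMap (c.π.app m) (ξ a)) ((D.obj m).presheaf.germ _ _ hxm t) = _
    rw [Scheme.Hom.germ_stalkMap_apply, ← c.pt.presheaf.germ_res_apply (homOfLE hle) (ξ a) hxV s, ← ht]
    exact (c.pt.presheaf.germ_res_apply (homOfLE h) (ξ a) hxV _).symm
  choose jr hjr using hreach
  obtain ⟨l, hl⟩ := IsCofiltered.inf_objs_exists (insert i (insert i1 (Finset.univ.image jr)))
  obtain ⟨f⟩ := hl (Finset.mem_insert_self _ _)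
  obtain ⟨f1⟩ := hl (Finset.mem_insert_of_mem (Finset.mem_insert_self _ _))
  have hgood : ∀ a, imgClosure c (ξ a) l ⊆ closure {ξ a} ∧
      fibIdeal (X := c.pt) (c.π.app l) (ξ a) = IsLocalRing.maximalIdeal _ := fun a => by
    obtain ⟨e1, e2⟩ := hi1 (ξ a) (Finset.mem_image_of_mem ξ (Finset.mem_univ a))
    exact ⟨(imgClosure_mono f1 _).trans e1, le_antisymm (fibIdeal_le _ _) (e2 ▸ fibIdeal_mono f1 _)⟩
  have hgen : ∀ a, ∀ y : c.pt, c.π.app l y = c.π.app l (ξ a) → y ⤳ ξ a → y = ξ a := fun a y hy hyx =>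
    (hyx.antisymm (specializes_iff_mem_closure.mpr ((hgood a).1
      (show c.π.app l y ∈ closure {c.π.app l (ξ a)} from hy ▸ subset_closure rfl)))).eq
  have hlift : ∀ a, Reached (X := c.pt) (c.π.app l) (ξ a) (g a) := fun a => by
    obtain ⟨φ⟩ := hl (Finset.mem_insert_of_mem (Finset.mem_insert_of_mem
      (Finset.mem_image_of_mem jr (Finset.mem_univ a))))
    have h := hjr a
    rw [← c.w φ] at h
    exact h.of_comp
  choose a ha using hlift
  have hane : ∀ n, a n ≠ 0 := fun n e => hg n (by rw [← ha n, e, map_zero])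
  let η : J → D.obj l := fun n => c.π.app l (ξ n)
  have hη : ∀ n, δ l (η n) = k + 1 := fun n => by rw [← hξ n]; exact (hshift' l _ (hgen n)).symm
  obtain ⟨Dl, hDl⟩ := exists_cycle_finsum_divFun (hset l).2.2 η a hane
    fun x => ⟨Set.univ, isOpen_univ, trivial, Set.toFinite _⟩
  have hrel : Cyc.RatEquivZero (δ l) k Dl :=
    ⟨J, η, a, hη, hane, fun x => ⟨Set.univ, isOpen_univ, trivial, Set.toFinite _⟩, hDl⟩
  obtain ⟨αl, hαl⟩ := exists_pull_cycle (D.map f) (hset l).2.2 (hsD l i f) α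
  haveI := hflat' l
  have hpd : ∀ n x, Cyc.pullFun (X := c.pt) (c.π.app l) δ' (δ l) 0 (Cyc.divFun (δ l) (η n) (a n)) x =
      Cyc.divFun δ' (ξ n) (g n) x := by
    intro n x
    rw [pullFun_divFun_shift (X := c.pt) (c.π.app l) hset'.2.2 (hset l).2.2 (hsπ l) (η n) (a n) (hane n) x]
    let ζ0 : FibGen (X := c.pt) (c.π.app l) (η n) := ⟨ξ n, hgen n, rfl⟩
    rw [finsum_eq_single _ ζ0 fun ζ hne => absurd ?_ hne]
    · rw [pullTerm]
      have h1 : fibLen (X := c.pt) (c.π.app l) ζ0.1 = 1 := by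
        have h2 : Module.length (c.pt.presheaf.stalk (ξ n))
            (c.pt.presheaf.stalk (ξ n) ⧸ fibIdeal (X := c.pt) (c.π.app l) (ξ n)) = 1 := by
          rw [(hgood n).2]; exact length_residue
        exact congrArg ENat.toNat h2
      rw [h1, Nat.cast_one, one_mul, Scheme.residueFieldCongr_refl]
      exact congrArg (fun b => Cyc.divFun δ' (ξ n) b x) (ha n)
    · obtain ⟨ζ, hζ, hζη⟩ := ζ
      exact Subtype.ext (hζ (ξ n) hζη.symm (specializes_iff_mem_closure.mpr ((hgood n).1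
        (show c.π.app l ζ ∈ closure {c.π.app l (ξ n)} from hζη ▸ subset_closure rfl)))).symm
  let β : AlgebraicCycle (D.obj l) ℤ := αl - Dl
  have hDk : Dl ∈ Cyc.Zk (D.obj l) (δ l) k := fun y hy => by
    rw [hDl]
    refine finsum_eq_zero_of_forall_eq_zero fun n => dif_neg fun h => hy ?_
    have := h.2; rw [hη n] at this; omega
  have hβk : β ∈ Cyc.Zk (D.obj l) (δ l) k := fun y hy => by
    show αl y - Dl y = 0
    rw [hDk y hy, sub_zero, hαl, Cyc.pullFun]
    split_ifs with h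
    · rw [hα _ (fun e => hy (by rw [h, e, add_zero])), zero_mul]
    · rfl
  have hsub : ∀ {W : Scheme.{u}} (p : W ⟶ D.obj l) (dW : W → ℤ) (x : W),
      Cyc.pullFun p dW (δ l) 0 ⇑β x =
        Cyc.pullFun p dW (δ l) 0 ⇑αl x - Cyc.pullFun p dW (δ l) 0 ⇑Dl x := by
    intro W p dW x
    simp only [Cyc.pullFun]
    split_ifs with h
    · exact sub_mul _ _ _
    · exact (sub_zero 0).symm
  have hβ0 : Cyc.pullFun (X := c.pt) (c.π.app l) δ' (δ l) 0 ⇑β = 0 := funext fun x => by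
    rw [hsub, hαl, pullFun_comp_shift (X := c.pt) (c.π.app l) (D.map f) hset'.2.2 (hset l).2.2 (hsπ l) (hsD l i f)]
    rw [c.w f, ← hα', hsum x, Pi.zero_apply, sub_eq_zero, ← finsum_congr fun n => hpd n x,
      finsum_eq_sum_of_fintype, show ⇑Dl = fun y => ∑ n, Cyc.divFun (δ l) (η n) (a n) y from
        funext fun y => (hDl y).trans (finsum_eq_sum_of_fintype _)]
    simp only [Cyc.pullFun]
    split_ifs with h
    · exact (Finset.sum_mul _ _ _).symm
    · exact Finset.sum_const_zero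
  obtain ⟨m, h, hm⟩ := S6496.result I D c hc haff hflat hqc δ δ' hset hset' hshift hflat' hshift' k l β hβk hβ0
  haveI := hflat m l h
  obtain ⟨αm, hαm⟩ := exists_pull_cycle (D.map (h ≫ f)) (hset m).2.2 (hsD m i (h ≫ f)) α
  refine ⟨m, h ≫ f, αm, hαm, ?_⟩
  have key := ratEquivZero_pull_shift (D.map h) (hset m) (hset l) (hsD m l h) hrel αm fun x => ?_
  · rwa [add_zero] at key
  · rw [hαm, D.map_comp, ← pullFun_comp_shift (D.map h) (D.map f) (hset m).2.2 (hset l).2.2 (hsD m l h) (hsD l i f),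
      ← hαl, ← sub_eq_zero, ← hsub]
    exact congrFun hm x

end Groth.Agent.S6497
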