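import Groth.Statements.S6498
import Groth.Agent.HTor95.CohModel
import Groth.Agent.KFlat.FlatRes

set_option autoImplicit false
universe u
open CategoryTheory CategoryTheory.Limits AlgebraicGeometry
attribute [local instance] HasDerivedCategory.standard
open IntMult

namespace Groth.Agent.S6498

/-- Let X be a locally Noetherian scheme. If L and K lie in D^-_Coh(O_X) (bounded above with coherent
cohomology sheaves) then so does L ⊗^L_{O_X} K. Here K is presented by a cochain complex E and − ⊗^L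
E is the prelude's total left derived functor DCoh.LTensorCx E, under its existence hypothesis
DCoh.HasLTensorCx E. (Part (1), coherence of the Tor sheaves of two coherent modules, is not
stated.) -/
theorem result (X : Scheme.{u}) [IsLocallyNoetherian X] (E : CochainComplex X.Modules ℤ) [DCoh.HasLTensorCx E] (L : DCoh.D X) (hL : DCoh.IsCohD L) (hLb : ∃ a : ℤ, ∀ i, a < i → IsZero (DCoh.HD L i)) (hE : DCoh.IsCohD (DCoh.toD X E)) (hEb : ∃ b : ℤ, ∀ i, b < i → IsZero (DCoh.HD (DCoh.toD X E) i)) : DCoh.IsCohD ((DCoh.LTensorCx E).obj L) ∧ ∃ n : ℤ, ∀ i, n < i → IsZero (DCoh.HD ((DCoh.LTensorCx E).obj L) i) := by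
  classical
  obtain ⟨K, ⟨eK⟩⟩ : ∃ K : CochainComplex X.Modules ℤ, Nonempty (DerivedCategory.Q.obj K ≅ L) :=
    ⟨_, ⟨DerivedCategory.Q.objObjPreimageIso L⟩⟩
  obtain ⟨a, ha⟩ := hLb
  obtain ⟨b, hb⟩ := hEb
  let eh : ∀ i, K.homology i ≅ DCoh.HD L i := fun i =>
    ((DerivedCategory.homologyFunctorFactors _ i).app K).symm ≪≫ (DerivedCategory.homologyFunctor _ i).mapIso eK
  let eE : ∀ i, E.homology i ≅ DCoh.HD (DCoh.toD X E) i := fun i =>
    ((DerivedCategory.homologyFunctorFactors _ i).app E).symm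
  obtain ⟨P, g, hPf, hPb, hg⟩ := KFlat.FlatRes.exists_flatRes K a fun i hi => (ha i hi).of_iso (eh i)
  obtain ⟨E', g', -, hE'b, hg'⟩ := KFlat.FlatRes.exists_flatRes E b fun i hi => (hb i hi).of_iso (eE i)
  have hP : DCoh.IsKFlat P := KFlat.isKFlat_of_flat_boundedAbove P a hPb hPf
  let eP : DerivedCategory.Q.obj P ≅ L :=
    @asIso _ _ _ _ (DerivedCategory.Q.map g) ((DerivedCategory.isIso_Q_map_iff_quasiIso _ _).2 hg) ≪≫ eK
  obtain ⟨eT⟩ := KFlat.QCohTensor.exists_tensor_iso hP
    (@asIso _ _ _ _ (DerivedCategory.Q.map g') ((DerivedCategory.isIso_Q_map_iff_quasiIso _ _).2 hg'))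
  let T := (DCoh.tensorCx.obj P).obj E
  let eL : (DCoh.LTensorCx E).obj L ≅ DerivedCategory.Q.obj T :=
    (DCoh.LTensorCx E).mapIso eP.symm ≪≫
      @asIso _ _ _ _ ((KFlat.LTensor.toTensor E).app P) (KFlat.LTensor.isIso_toTensor E hP)
  let eHP : ∀ i, P.homology i ≅ DCoh.HD L i := fun i =>
    ((DerivedCategory.homologyFunctorFactors _ i).app P).symm ≪≫ (DerivedCategory.homologyFunctor _ i).mapIso eP
  refine ⟨fun i => ?_, a + b, fun i hi => ?_⟩
  · refine CohDev.isCoh_of_iso ?_ (HTor95.CohModel.isCoh_homology_of_local T i fun z => ?_)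
    · exact ((DerivedCategory.homologyFunctorFactors _ i).app T).symm ≪≫
        (DerivedCategory.homologyFunctor _ i).mapIso eL.symm
    · obtain ⟨U, hU, hzU, -⟩ := exists_isAffineOpen_mem_and_subset (x := z) (U := ⊤) trivial
      haveI : IsLocallyNoetherian (Spec Γ(X, U)) := isLocallyNoetherian_of_isOpenImmersion hU.fromSpec
      exact ⟨U, hU, hzU, HTor95.CohModel.isCoh_homology_pull_tensor _ hP
        (HTor95.CohModel.exists_model_affine P (fun k => CohDev.isCoh_of_iso (eHP k).symm (hL k)) a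
          (fun k hk => (ha k hk).of_iso (eHP k)) hU)
        (HTor95.CohModel.exists_model_affine E (fun k => CohDev.isCoh_of_iso (eE k).symm (hE k)) b
          (fun k hk => (hb k hk).of_iso (eE k)) hU) i⟩
  · let T' := (DCoh.tensorCx.obj P).obj E'
    have hz : IsZero (T'.homology i) := by
      refine ShortComplex.isZero_homology_of_isZero_X₂ _ ?_
      let I := {j : ℤ × ℤ //
        ComplexShape.π (ComplexShape.up ℤ) (ComplexShape.up ℤ) (ComplexShape.up ℤ) j = i}
      let F := fun j : I => ((DCoh.tensorBi (X := X)).obj (P.X j.1.1)).obj (E'.X j.1.2)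
      show IsZero (∐ F)
      refine (IsZero.iff_id_eq_zero _).2 (Sigma.hom_ext _ _ fun j => ?_)
      refine IsZero.eq_of_src ?_ _ _
      have hn : j.1.1 + j.1.2 = i := j.2
      by_cases h : a < j.1.1
      · exact ((DCoh.tensorBi (X := X)).flip.obj (E'.X j.1.2)).map_isZero (hPb _ h)
      · exact ((DCoh.tensorBi (X := X)).obj (P.X j.1.1)).map_isZero (hE'b _ (by omega))
    refine hz.of_iso ?_
    exact (DerivedCategory.homologyFunctor _ i).mapIso (eL ≪≫ eT.symm) ≪≫
      (DerivedCategory.homologyFunctorFactors _ i).app T'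

end Groth.Agent.S6498
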