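import Groth.Statements.S6499
import Groth.Agent.CycLib.ModStalk
import Groth.Agent.CycLib.Residue
-- import your own Groth.Agent.* helpers here

set_option autoImplicit false
universe u
open CategoryTheory AlgebraicGeometry
open Cyc

namespace Groth.Agent.S6499

/-- Suppose X and Y are schemes locally of finite type over the base, and π : X → Y is a morphism
between them that is finite. Then π_* sends Coh_{≤k}(X) into Coh_{≤k}(Y): for F coherent on X with
dim_δ Supp(F) ≤ k, the direct image π_*F is coherent with dim_δ Supp(π_*F) ≤ k (Cyc.CohLe).
(Exactness of π_* and the commutative diagram with the cycle maps are not restated; the latter is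
the existing compatibility of [−]_k with π_*.) Here a pair (X, δ) with Cyc.IsSetup plays the role of
a scheme locally of finite type over the base (S, δ) (X locally Noetherian with universally catenary
local rings, δ a dimension function), and Cyc.DeltaCompat records that the dimension function
upstairs is the induced one. -/
theorem result (X Y : Scheme.{u}) (δX : X → ℤ) (δY : Y → ℤ) (hX : Cyc.IsSetup X δX) (hY : Cyc.IsSetup Y δY) (π : X ⟶ Y) [IsFinite π] (hδ : Cyc.DeltaCompat π δX δY) (k : ℤ) (F : X.Modules) (hF : Cyc.CohLe δX k F) : Cyc.CohLe δY k ((Coh.push π).obj F) := by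
  haveI := hF.1.1
  refine ⟨Groth.Agent.CycLib.isCoh_push F π hF.1, fun y hy => ?_⟩
  obtain ⟨x, rfl, hx⟩ := Groth.Agent.CycLib.exists_of_nontrivial_stalk_push F π hF.1 y hy
  exact (Groth.Agent.CycLib.le_delta π hδ x).trans (hF.2 x hx)

end Groth.Agent.S6499
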