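import Groth.Statements.S6500
import Groth.Agent.S0563
import Groth.Agent.EGA41Lib.TorShift
import Groth.Agent.CurveDVR.Stalk
import Groth.Agent.Props.NormalCM

set_option autoImplicit false
universe u
open CategoryTheory CategoryTheory.Limits AlgebraicGeometry
attribute [local instance] HasDerivedCategory.standard
open IntMult

namespace Groth.Agent.S6500

/-- Let X be a nonsingular variety of dimension n and F, G coherent O_X-modules. The Tor sheaves
Tor_p^{O_X}(F, G), whose stalks are Tor_p^{O_{X,x}}(F_x, G_x), are nonzero only for p ∈ {0, …, n}: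
for every point x and every p > n, Tor_p^{O_{X,x}}(F_x, G_x) = 0. (Coherence of the Tor sheaves and
the support statement are not restated.) Nonsingular variety: X → Spec K smooth, separated,
quasi-compact, X integral, K algebraically closed; n = dim X. -/
theorem result (K : Type u) [Field K] [IsAlgClosed K] (X : Scheme.{u}) (f : X ⟶ Spec (CommRingCat.of K)) [Smooth f] [IsSeparated f] [QuasiCompact f] [IsIntegral X] (n : ℕ) (hn : topologicalKrullDim X = n) (F G : X.Modules) (hF : Coh.IsCoh F) (hG : Coh.IsCoh G) (x : X) (p : ℕ) (hp : n < p) : Subsingleton (DRing.Tor ↑(X.presheaf.stalk x) p ↑(F.presheaf.stalk x) ↑(G.presheaf.stalk x)) := by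
  haveI := Groth.Agent.CurveDVR.isRegularLocalRing_stalk f x
  have hle : ringKrullDim (X.presheaf.stalk x) ≤ (n : WithBot ℕ∞) :=
    (Groth.Agent.Props.NormalCM.ringKrullDim_stalk_le X x).trans hn.le
  obtain ⟨d, hd, hdn⟩ : ∃ d : ℕ, ringKrullDim (X.presheaf.stalk x) = d ∧ d ≤ n := by
    obtain ⟨d, hd⟩ : ∃ d : ℕ, ringKrullDim (X.presheaf.stalk x) = d := by
      obtain ⟨a, ha⟩ := WithBot.ne_bot_iff_exists.mp (ringKrullDim_ne_bot (R := X.presheaf.stalk x))
      cases a with
      | top =>
        exact absurd (WithBot.coe_le_coe.mp (ha.le.trans hle)) (not_le.mpr (ENat.natCast_lt_top n))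
      | coe m => exact ⟨m, ha.symm⟩
    exact ⟨d, hd, by rw [hd] at hle; exact_mod_cast hle⟩
  exact ModuleCat.subsingleton_of_isZero (Groth.Agent.EGA41Lib.TorShift.isZero_tor_of_pd d _
    (Groth.Agent.S0563.result _ d hd _) (ModuleCat.of _ (F.presheaf.stalk x)) p (by omega))

end Groth.Agent.S6500
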