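import Groth.Statements.S6502
import Groth.Agent.CInt77.CILocalize

set_option autoImplicit false
universe u
open LCI

namespace Groth.Agent.S6502

/-- A Noetherian ring A is a local complete intersection (every localization A_p at a prime is a
complete intersection, that is, its completion is a regular complete local ring modulo a regular
sequence) exactly when, for each maximal ideal m of A, the localization A_m is itself a complete
intersection. -/
theorem result {A : Type u} [CommRing A] [IsNoetherianRing A] :
    (∀ (p : Ideal A) [p.IsPrime], Pi1.IsCompleteIntersection (Localization.AtPrime p)) ↔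
    (∀ (m : Ideal A) [m.IsMaximal], Pi1.IsCompleteIntersection (Localization.AtPrime m)) := by
  refine ⟨fun h m _ => h m, fun h p _ => ?_⟩
  obtain ⟨m, hm, hpm⟩ := p.exists_le_maximal (Ideal.IsPrime.ne_top ‹_›)
  let Am := Localization.AtPrime m
  let q : Ideal Am := p.map (algebraMap A Am)
  have hd : Disjoint (m.primeCompl : Set A) (p : Set A) := Set.disjoint_left.2 fun x hx hxp => hx (hpm hxp)
  haveI : q.IsPrime := IsLocalization.isPrime_of_isPrime_disjoint m.primeCompl Am p ‹_› hd
  have hqp : q.comap (algebraMap A Am) = p := IsLocalization.comap_map_of_isPrime_disjoint m.primeCompl Am ‹_› hd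
  haveI : IsLocalization.AtPrime (Localization.AtPrime q) p := by
    have := IsLocalization.isLocalization_atPrime_localization_atPrime m.primeCompl q
    convert this using 2
    exact hqp.symm
  let e : Localization.AtPrime q ≃ₐ[A] Localization.AtPrime p := IsLocalization.algEquiv p.primeCompl _ _
  haveI : IsNoetherianRing Am := IsLocalization.isNoetherianRing m.primeCompl _ inferInstance
  exact CIntCI.isCI_of_ringEquiv e.toRingEquiv (CInt77.isCI_localization Am (h m) q)

end Groth.Agent.S6502
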