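import Groth.Statements.S6507
import Groth.Agent.HyperLib.Ops

set_option autoImplicit false
universe u
open CategoryTheory
open Hyper

namespace Groth.Agent.S6507

open Opposite CategoryTheory.Limits in
/-- With presheaves taken on the localized site C/X: let C be a small site with fibre products, X an
object, K a hypercovering of X and n ≥ 0. Let u : P → F(K_n) be a morphism of presheaves of sets on
C/X, where F(K_n) is the coproduct of the presheaves represented by the members of the family K_n,
and assume u is locally surjective. Then there exist a hypercovering L of X and a morphism f : L → K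
such that F(f_n) : F(L_n) → F(K_n) factors through u. -/
theorem result {C : Type u} [SmallCategory C] [HasPullbacks C]
    (J : GrothendieckTopology C) (X : C)
    [∀ (n : ℕ) (F : (SimplexCategory.Truncated n)ᵒᵖ ⥤ Limits.FormalCoproduct.{u} (Over X)),
      (SimplexCategory.Truncated.inclusion n).op.HasRightKanExtension F]
    (K : SimplicialObject (FormalCoproduct.{u} (Over X))) (hK : Hyper.IsHypercovering J X K) (n : ℕ)
    (P : (Over X)ᵒᵖ ⥤ Type u) (u : P ⟶ FormalCoproduct.yoneda.obj (K.obj (op (SimplexCategory.mk n))))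
    (hu : Presheaf.IsLocallySurjective (J.over X) u) :
    ∃ (L : SimplicialObject (FormalCoproduct.{u} (Over X))) (f : L ⟶ K)
      (g : FormalCoproduct.yoneda.obj (L.obj (op (SimplexCategory.mk n))) ⟶ P),
      Hyper.IsHypercovering J X L ∧ g ≫ u = FormalCoproduct.yoneda.map (f.app (op (SimplexCategory.mk n))) := by
  have : HasFiniteLimits (FormalCoproduct.{u} (Over X)) := HyperLib.Refine.hasFiniteLimits_formalCoproduct
  let Kn := K.obj (op (SimplexCategory.mk n))
  let ι := fun (W : Over X) => (HyperLib.FillHyper.ι Kn).hom.app (op W)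
  let Z : FormalCoproduct.{u} (Over X) := ⟨Σ W : Over X, P.obj (op W), fun p => p.1⟩
  let v : Z ⟶ Kn := ⟨fun p => (ι p.1 (u.app (op p.1) p.2)).1, fun p => (ι p.1 (u.app (op p.1) p.2)).2⟩
  have hv : Hyper.IsSRCovering (J.over X) v := HyperLib.Points.isSRCovering_of_liftSieve fun W q => by
    refine (J.over X).superset_covering ?_ (Presheaf.imageSieve_mem (J.over X) u (U := op W)
      ((HyperLib.FillHyper.ι Kn).inv.app (op W) (FormalCoproduct.inclHomEquiv _ _ q)))
    rintro W' g ⟨t, ht⟩
    refine ⟨FormalCoproduct.Hom.fromIncl (Y := Z) ⟨W', t⟩ (𝟙 W'), ?_⟩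
    refine (FormalCoproduct.inclHomEquiv _ _).injective ?_
    have h := (congrArg ((HyperLib.FillHyper.ι Kn).hom.app (op W')) ht).trans
      ((HyperLib.FillHyper.ι_res Kn g.op _).trans (congrArg _ (HyperLib.FillHyper.ι_inv Kn _ _)))
    refine Eq.trans ?_ (h.trans rfl)
    refine Sigma.ext rfl (heq_of_eq ?_)
    exact Category.id_comp _
  obtain ⟨L, f, g, hL, hg⟩ := HyperLib.Refine.exists_refinement v
    (HyperLib.Points.hc_of_isHypercovering hK) hv
  let e : FormalCoproduct.yoneda.obj Z ⟶ P :=
    Limits.Sigma.desc fun p : Z.I => yonedaEquiv.symm p.2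
  refine ⟨L, f, FormalCoproduct.yoneda.map g ≫ e, HyperLib.Points.isHypercovering_of_hc hL, ?_⟩
  rw [← hg, Functor.map_comp, Category.assoc]
  refine congrArg (FormalCoproduct.yoneda.map g ≫ ·) (Limits.Sigma.hom_ext _ _ fun p => ?_)
  refine (colimit.ι_desc_assoc _ _ _).trans (Eq.trans ?_ (colimit.ι_desc (Limits.Cofan.mk _ fun i => yoneda.map (v.φ i) ≫
    Limits.Sigma.ι (fun i : Kn.I => yoneda.obj (Kn.obj i)) (v.f i)) ⟨p⟩).symm)
  refine yonedaEquiv.injective ?_
  refine (yonedaEquiv_comp _ _).trans ?_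
  refine (congrArg _ (yonedaEquiv.apply_symm_apply p.2)).trans ?_
  refine (((HyperLib.FillHyper.ι Kn).app (op p.1)).toEquiv).injective ?_
  have key : Limits.Sigma.ι (fun i : Kn.I => yoneda.obj (Kn.obj i)) (v.f p) ≫ (HyperLib.FillHyper.ι Kn).hom =
      HyperLib.Coprod.pt (𝟭 (Over X)) Kn (v.f p) :=
    IsColimit.comp_coconePointUniqueUpToIso_hom _ (HyperLib.Coprod.isColimit (𝟭 (Over X)) Kn)
      (⟨v.f p⟩ : Discrete Kn.I)
  have h3 := congrArg yonedaEquiv ((Category.assoc (yoneda.map (v.φ p)) _ _).trans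
    (congrArg (yoneda.map (v.φ p) ≫ ·) key))
  rw [yonedaEquiv_comp] at h3
  refine Eq.trans ?_ h3.symm
  rw [← yonedaEquiv_naturality]
  exact Sigma.ext rfl (heq_of_eq (Category.comp_id (v.φ p)).symm)

end Groth.Agent.S6507
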