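import Groth.Statements.S6511
import Groth.Agent.KFlat.MVRel


set_option autoImplicit false
universe u
open CategoryTheory
attribute [local instance] HasDerivedCategory.standard
open DCoh

namespace Groth.Agent.S6511

open AlgebraicGeometry CategoryTheory.Limits in
/-- Let f : X → Y be a morphism of schemes and X = U ∪ V with U, V open; write a, b, c for the
restrictions of f to U, V, U ∩ V. For every E ∈ D(O_X) there is a distinguished triangle Rf_*E →
Ra_*(E|_U) ⊕ Rb_*(E|_V) → Rc_*(E|_{U∩V}) → Rf_*E[1] in D(O_Y). The objects are the stated ones; the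
morphisms are only asserted to exist. (The published statement is for ringed spaces; this row is for
schemes.) -/
theorem result {X Y : Scheme.{u}} (f : X ⟶ Y) (U V : X.Opens) (hUV : U ⊔ V = ⊤)
    [DCoh.HasRpush f] [DCoh.HasRpush (U.ι ≫ f)] [DCoh.HasRpush (V.ι ≫ f)] [DCoh.HasRpush ((U ⊓ V).ι ≫ f)]
    [PreservesFiniteLimits (Scheme.Modules.restrictFunctor U.ι)]
    [PreservesFiniteLimits (Scheme.Modules.restrictFunctor V.ι)]
    [PreservesFiniteLimits (Scheme.Modules.restrictFunctor (U ⊓ V).ι)] (E : DCoh.D X) :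
    ∃ (a : (DCoh.Rpush f).obj E ⟶ ((DCoh.Rpush (U.ι ≫ f)).obj ((DCoh.restrictD U.ι).obj E) ⊞ (DCoh.Rpush (V.ι ≫ f)).obj ((DCoh.restrictD V.ι).obj E))) (b : ((DCoh.Rpush (U.ι ≫ f)).obj ((DCoh.restrictD U.ι).obj E) ⊞ (DCoh.Rpush (V.ι ≫ f)).obj ((DCoh.restrictD V.ι).obj E)) ⟶ (DCoh.Rpush ((U ⊓ V).ι ≫ f)).obj ((DCoh.restrictD (U ⊓ V).ι).obj E)) (c : (DCoh.Rpush ((U ⊓ V).ι ≫ f)).obj ((DCoh.restrictD (U ⊓ V).ι).obj E) ⟶ ((DCoh.Rpush f).obj E)⟦(1 : ℤ)⟧),
      Pretriangulated.Triangle.mk a b c ∈ Pretriangulated.distinguishedTriangles := by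
  have : DerivedCategory.Q.EssSurj (C := CochainComplex X.Modules ℤ) :=
    Localization.essSurj _ (HomologicalComplex.quasiIso X.Modules (ComplexShape.up ℤ))
  have := preservesBinaryBiproducts_of_preservesBiproducts (Groth.Agent.KFlat.WeakKInj.pushCx f)
  let K := DerivedCategory.Q.objPreimage E
  let I := (Groth.Agent.KFlat.RPush.injRes X).obj K
  let e : DerivedCategory.Q.obj I ≅ E :=
    (Groth.Agent.KFlat.RPush.injQIso (X := X)).app K ≪≫ DerivedCategory.Q.objObjPreimageIso E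
  open Groth.Agent.KFlat.MVTriangle Groth.Agent.KFlat.MVRel Groth.Agent.KFlat.RPush Groth.Agent.KFlat.WeakKInj in
  exact exists_triangle_of_shortExact
    (shortExact_scc_push f I hUV (fun n => inferInstanceAs (Injective (((Groth.Agent.DHA.KInj.resolution X.Modules).obj K).X n))))
    ((pushCx f).mapBiprod _ _)
    (@asIso _ _ _ _ ((toRpush f).app I) (isIso_toRpush f I) ≪≫ (DCoh.Rpush f).mapIso e)
    (pushRcIso f I U ≪≫ (DCoh.Rpush (U.ι ≫ f)).mapIso ((DCoh.restrictD U.ι).mapIso e))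
    (pushRcIso f I V ≪≫ (DCoh.Rpush (V.ι ≫ f)).mapIso ((DCoh.restrictD V.ι).mapIso e))
    (pushRcIso f I (U ⊓ V) ≪≫ (DCoh.Rpush ((U ⊓ V).ι ≫ f)).mapIso ((DCoh.restrictD (U ⊓ V).ι).mapIso e))

end Groth.Agent.S6511
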