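import Groth.Statements.S6513
import Groth.Agent.KFlat.MVExtZero


set_option autoImplicit false
universe u
open CategoryTheory
attribute [local instance] HasDerivedCategory.standard
open DCoh

namespace Groth.Agent.S6513

open AlgebraicGeometry CategoryTheory.Limits in
/-- If a scheme X is the union of two opens U and V, then for every E ∈ D(O_X) there is a distinguished
triangle j_{U∩V,!}(E|_{U∩V}) → j_{U,!}(E|_U) ⊕ j_{V,!}(E|_V) → E → j_{U∩V,!}(E|_{U∩V})[1] in D(O_X),
where j_! is extension by zero computed termwise (its exactness is carried as an instance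
hypothesis). The objects are the stated ones; the morphisms are only asserted to exist. (The
published statement is for ringed spaces; this row is for schemes.) -/
theorem result {X : Scheme.{u}} (U V : X.Opens) (hUV : U ⊔ V = ⊤)
    [PreservesFiniteLimits (CxOX.extZero U.ι)] [PreservesFiniteLimits (CxOX.extZero V.ι)]
    [PreservesFiniteLimits (CxOX.extZero (U ⊓ V).ι)] (E : DCoh.D X) :
    ∃ (a : (CxOX.extZeroD (U ⊓ V).ι).obj ((DCoh.restrictD (U ⊓ V).ι).obj E) ⟶ ((CxOX.extZeroD U.ι).obj ((DCoh.restrictD U.ι).obj E) ⊞ (CxOX.extZeroD V.ι).obj ((DCoh.restrictD V.ι).obj E))) (b : ((CxOX.extZeroD U.ι).obj ((DCoh.restrictD U.ι).obj E) ⊞ (CxOX.extZeroD V.ι).obj ((DCoh.restrictD V.ι).obj E)) ⟶ E) (c : E ⟶ ((CxOX.extZeroD (U ⊓ V).ι).obj ((DCoh.restrictD (U ⊓ V).ι).obj E))⟦(1 : ℤ)⟧),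
      Pretriangulated.Triangle.mk a b c ∈ Pretriangulated.distinguishedTriangles := by
  have : DerivedCategory.Q.EssSurj (C := CochainComplex X.Modules ℤ) :=
    Localization.essSurj _ (HomologicalComplex.quasiIso X.Modules (ComplexShape.up ℤ))
  let K := DerivedCategory.Q.objPreimage E
  let e : DerivedCategory.Q.obj K ≅ E := DerivedCategory.Q.objObjPreimageIso E
  open Groth.Agent.KFlat.MVExtZero in
  exact Groth.Agent.KFlat.MVTriangle.exists_triangle_of_shortExact (shortExact_scc' hUV K) (Iso.refl _)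
    (ecIso (U ⊓ V) K ≪≫ (CxOX.extZeroD (U ⊓ V).ι).mapIso ((DCoh.restrictD (U ⊓ V).ι).mapIso e))
    (ecIso U K ≪≫ (CxOX.extZeroD U.ι).mapIso ((DCoh.restrictD U.ι).mapIso e))
    (ecIso V K ≪≫ (CxOX.extZeroD V.ι).mapIso ((DCoh.restrictD V.ι).mapIso e))
    e

end Groth.Agent.S6513
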