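import Groth.Statements.S6514
import Groth.Agent.KFlat.FlatPull
import Groth.Agent.KFlat.CxAdj
import Mathlib.Algebra.Homology.HomotopyCategory.KInjective

open CategoryTheory.Limits

set_option autoImplicit false
universe u
open CategoryTheory
open DCoh

namespace Groth.Agent.S6514

open AlgebraicGeometry in
/-- If f : X → Y is a flat morphism of schemes and I is a K-injective complex of O_X-modules, then f_* I
(direct image applied termwise) is a K-injective complex of O_Y-modules. (The published statement is
for flat morphisms of ringed spaces; this row is for flat morphisms of schemes.) -/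
theorem result {X Y : Scheme.{u}} (f : X ⟶ Y) [Flat f]
    (I : CochainComplex X.Modules ℤ) (hI : I.IsKInjective) :
    CochainComplex.IsKInjective (((Scheme.Modules.pushforward f).mapHomologicalComplex (ComplexShape.up ℤ)).obj I) := by
  let G := Scheme.Modules.pullback f
  let adj := Scheme.Modules.pullbackPushforwardAdjunction f
  refine ⟨fun {K} g hK => ?_⟩
  let adjC := Groth.Agent.KFlat.CxAdj.mapCx adj (ComplexShape.up ℤ)
  have hGK : ((G.mapHomologicalComplex (ComplexShape.up ℤ)).obj K).Acyclic := fun i =>
    ShortComplex.Exact.map (hK i) G
  have := hI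
  let h := CochainComplex.IsKInjective.homotopyZero ((adjC.homEquiv _ _).symm g) hGK
  refine ⟨(Homotopy.ofEq ?_).trans ((((Scheme.Modules.pushforward f).mapHomotopy h).compLeft (adjC.unit.app K)).trans
    (Homotopy.ofEq ?_))⟩
  · exact ((adjC.homEquiv _ _).apply_symm_apply g).symm.trans (adjC.homEquiv_unit _ _ _)
  · rw [Functor.map_zero, comp_zero]

end Groth.Agent.S6514
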