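import Groth.Statements.S6524
import Groth.Agent.SiteCoh.Free
import Groth.Agent.SiteCoh.Baer
import Mathlib.CategoryTheory.Sites.Abelian

set_option autoImplicit false
universe u
open CategoryTheory
open CohSite

namespace Groth.Agent.S6524

/-- Let (C, J) be a small site and I an abelian sheaf. Suppose that for every object X of C, every
abelian subsheaf S of the free abelian sheaf Z_X^# on X (given as a monomorphism S → Z_X^#) and
every morphism S → I, the morphism extends to Z_X^# → I. Then I is an injective abelian sheaf. -/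
theorem result {C : Type u} [SmallCategory C]
    (J : GrothendieckTopology C) (I : Sheaf J AddCommGrpCat.{u})
    (h : ∀ (X : C) (S : Sheaf J AddCommGrpCat.{u}) (i : S ⟶ CohCx.freeSheaf J X) [Mono i] (φ : S ⟶ I),
      ∃ ψ : CohCx.freeSheaf J X ⟶ I, i ≫ ψ = φ) :
    Injective I := by
  refine Groth.Agent.SiteCoh.Baer.injective_of_family.{u} (fun X : C => CohCx.freeSheaf J X) ?_ I h
  intro F G p _ hp
  by_contra hc
  push_neg at hc
  apply hp
  have hs : ∀ U : Cᵒᵖ, IsIso (((sheafToPresheaf J AddCommGrpCat.{u}).map p).app U) := fun U => by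
    have := (NatTrans.mono_iff_mono_app ((sheafToPresheaf J AddCommGrpCat.{u}).map p)).1 inferInstance U
    have : Epi (((sheafToPresheaf J AddCommGrpCat.{u}).map p).app U) := by
      rw [AddCommGrpCat.epi_iff_surjective]
      intro x
      let e := Groth.Agent.SiteCoh.Free.sectionEquiv J U.unop
      obtain ⟨a, ha⟩ := hc U.unop ((e G).symm x)
      refine ⟨e F a, ?_⟩
      show p.hom.app (Opposite.op U.unop) (e F a) = x
      rw [← Groth.Agent.SiteCoh.Free.sectionEquiv_comp, ha, AddEquiv.apply_symm_apply]
    exact isIso_of_mono_of_epi _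
  have : IsIso ((sheafToPresheaf J AddCommGrpCat.{u}).map p) := NatIso.isIso_of_isIso_app _
  exact isIso_of_fully_faithful (sheafToPresheaf J AddCommGrpCat.{u}) p

end Groth.Agent.S6524
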