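import Groth.Statements.S6530
import Groth.Agent.DPow95.Completion

set_option autoImplicit false
universe u
open DPow

namespace Groth.Agent.S6530

/-- Let (A, I, γ) be a divided power ring and p a prime number with p^t A ⊆ I for some t ≥ 0, so that p
is nilpotent in A/I. Let A^∧ be the p-adic completion of A and π : A^∧ → A/I the composite of the
evaluation A^∧ → A/p^tA with the projection A/p^tA → A/I. Then π is surjective, and there is a
divided power structure on Ker(π) (this kernel is the p-adic completion of I) such that the
canonical map A → A^∧ is a homomorphism of divided power rings. -/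
theorem result {A : Type u} [CommRing A] {I : Ideal A}
    (γ : DividedPowers I) (p : ℕ) [Fact p.Prime] (t : ℕ) (ht : Ideal.span {(p : A)} ^ t ≤ I) :
    Function.Surjective ((Ideal.Quotient.factor ht).comp
      (AdicCompletion.evalₐ (Ideal.span {(p : A)}) t).toRingHom) ∧
    ∃ δ : DividedPowers (RingHom.ker ((Ideal.Quotient.factor ht).comp
      (AdicCompletion.evalₐ (Ideal.span {(p : A)}) t).toRingHom)),
      γ.IsDPMorphism δ (algebraMap A (AdicCompletion (Ideal.span {(p : A)}) A)) := by
  refine ⟨fun z => ?_, DPow95.Completion.exists_dividedPowers γ (p : A) t ht⟩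
  obtain ⟨a, rfl⟩ := Ideal.Quotient.mk_surjective z
  exact ⟨algebraMap A _ a, by
    show Ideal.Quotient.factor ht (AdicCompletion.evalₐ _ t (algebraMap A _ a)) = _
    rw [AlgHom.commutes]; exact Ideal.Quotient.factor_mk ht a⟩

end Groth.Agent.S6530
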