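import Groth.Statements.S6531
import Groth.Agent.QCoh.Basic
import Mathlib

set_option autoImplicit false
universe u
open CategoryTheory
open CechOX

namespace Groth.Agent.S6531

section
open CategoryTheory CategoryTheory.Limits AlgebraicGeometry Opposite TopologicalSpace
open Groth.Agent
open scoped Simplicial

variable {X : Scheme.{u}}

section
variable {F G H : X.Modules}

/-- A morphism injective on all sections is a monomorphism. -/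
theorem mono_of_injective (φ : F ⟶ G) (h : ∀ W s, φ.app W s = 0 → s = 0) : Mono φ := by
  refine Preadditive.mono_of_cancel_zero _ fun {Q} π hπ ↦ ?_
  refine Scheme.Modules.hom_ext π 0 fun W ↦ ?_
  ext s
  exact h W _ congr(($hπ).app W s)

/-- Exactness from local liftings. -/
theorem exact_of_locally_exists (f : F ⟶ G) (g : G ⟶ H) (w : f ≫ g = 0)
    (h : ∀ (W : X.Opens) (t : Γ(G, W)), g.app W t = 0 → ∀ x ∈ W, ∃ (W' : X.Opens) (hle : W' ≤ W),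
      x ∈ W' ∧ ∃ s : Γ(F, W'), f.app W' s = QCoh.res G hle t) : (ShortComplex.mk f g w).Exact := by
  rw [ShortComplex.exact_iff_kernel_ι_comp_cokernel_π_zero]
  refine Scheme.Modules.hom_ext _ 0 fun W ↦ ?_
  ext k
  change (cokernel.π f).app W ((kernel.ι g).app W k) = 0
  have h0 : g.app W ((kernel.ι g).app W k) = 0 := congr(($(kernel.condition g)).app W k)
  choose W' hle hx s hs using fun x : W ↦ h W _ h0 x.1 x.2
  refine QCoh.eq_zero_of_locally_eq_zero _ hle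
    (fun x hx' ↦ Opens.mem_iSup.mpr ⟨⟨x, hx'⟩, hx _⟩) _ fun x ↦ ?_
  rw [← QCoh.app_res, ← hs x]
  exact congr(($(cokernel.condition f)).app (W' x) (s x))

end

/-- sections over an open -/
noncomputable abbrev Ev (V : X.Opens) : X.Modules ⥤ AddCommGrpCat.{u} :=
  Scheme.Modules.toPresheaf X ⋙ (evaluation _ _).obj (op V)

instance (V : X.Opens) (J : Type u) : PreservesLimitsOfShape (Discrete J) (Ev V) := by
  haveI : PreservesLimitsOfShape (Discrete J) (Scheme.Modules.toPresheaf X) := inferInstance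
  haveI : PreservesLimitsOfShape (Discrete J)
      ((evaluation (TopologicalSpace.Opens X)ᵒᵖ AddCommGrpCat.{u}).obj (op V)) := evaluation_preservesLimitsOfShape ..
  exact comp_preservesLimitsOfShape (Scheme.Modules.toPresheaf X) ((evaluation (TopologicalSpace.Opens X)ᵒᵖ AddCommGrpCat.{u}).obj (op V))

lemma pi_exists {J : Type u} (f : J → X.Modules) (V : X.Opens) (t : ∀ x, Γ(f x, V)) :
    ∃ s : Γ(∏ᶜ f, V), ∀ x, (Pi.π f x).app V s = t x := by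
  let A := AddCommGrpCat.of (∀ x, (Γ(f x, V) : Type u))
  let l : A ⟶ ∏ᶜ fun x => (Ev V).obj (f x) :=
    Pi.lift fun x => AddCommGrpCat.ofHom (Pi.evalAddMonoidHom (fun x => (Γ(f x, V) : Type u)) x)
  refine ⟨((PreservesProduct.iso (Ev V) f).inv).hom (l.hom t), fun x => ?_⟩
  have h : (PreservesProduct.iso (Ev V) f).inv ≫ (Ev V).map (Pi.π f x) = Pi.π _ x := by
    rw [Iso.inv_comp_eq, PreservesProduct.iso_hom, piComparison_comp_π]
  exact (congr($h (l.hom t))).trans (congr($(Pi.lift_π (fun x => AddCommGrpCat.ofHom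
    (Pi.evalAddMonoidHom (fun x => (Γ(f x, V) : Type u)) x)) x) t))

lemma pi_ext {J : Type u} (f : J → X.Modules) (V : X.Opens) {s s' : Γ(∏ᶜ f, V)}
    (h : ∀ x, (Pi.π f x).app V s = (Pi.π f x).app V s') : s = s' := by
  have hi : Function.Injective ((PreservesProduct.iso (Ev V) f).hom).hom :=
    ((PreservesProduct.iso (Ev V) f).addCommGroupIsoToAddEquiv).injective
  refine hi (Concrete.limit_ext _ _ _ ?_)
  rintro ⟨x⟩
  have e : (PreservesProduct.iso (Ev V) f).hom ≫ Pi.π _ x = (Ev V).map (Pi.π f x) := by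
    rw [PreservesProduct.iso_hom, piComparison_comp_π]
  exact (congr($e s)).trans ((h x).trans (congr($e s')).symm)

variable {ι : Type u} (𝒰 : ι → X.Opens) (F : X.Modules)

/-- the open on which a component lives -/
noncomputable abbrev D {n : ℕ} (x : Fin (n + 1) → ι) (V : X.Opens) : X.Opens :=
  (∏ᶜ (𝒰 ∘ x)).ι ''ᵁ ((∏ᶜ (𝒰 ∘ x)).ι ⁻¹ᵁ V)

lemma D_eq {n : ℕ} (x : Fin (n + 1) → ι) (V : X.Opens) : D 𝒰 x V = (∏ᶜ (𝒰 ∘ x)) ⊓ V := by
  rw [D, Scheme.Hom.image_preimage_eq_opensRange_inf, Scheme.Opens.opensRange_ι]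

lemma D_le {n : ℕ} (x : Fin (n + 1) → ι) (V : X.Opens) : D 𝒰 x V ≤ V := D_eq 𝒰 x V ▸ inf_le_right

lemma D_le_U {n : ℕ} (x : Fin (n + 1) → ι) (V : X.Opens) (a : Fin (n + 1)) : D 𝒰 x V ≤ 𝒰 (x a) :=
  D_eq 𝒰 x V ▸ inf_le_left.trans (leOfHom (Pi.π (𝒰 ∘ x) a))

lemma le_D {n : ℕ} (x : Fin (n + 1) → ι) {V W : X.Opens} (h : W ≤ V) (h' : ∀ a, W ≤ 𝒰 (x a)) :
    W ≤ D 𝒰 x V :=
  D_eq 𝒰 x V ▸ le_inf (leOfHom (Pi.lift fun a => homOfLE (h' a))) h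

/-- the terms -/
noncomputable abbrev C : CochainComplex X.Modules ℕ := (CechOX.cechSh 𝒰).obj F

/-- components of a section -/
noncomputable abbrev comp (n : ℕ) (V : X.Opens) (x : Fin (n + 1) → ι) :
    Γ((C 𝒰 F).X n, V) ⟶ Γ(F, D 𝒰 x V) :=
  (Pi.π (fun x : Fin (n + 1) → ι => (CechOX.pushRestr (∏ᶜ (𝒰 ∘ x))).obj F) x).app V

lemma comp_res (n : ℕ) {V W : X.Opens} (h : W ≤ V) (s : Γ((C 𝒰 F).X n, V)) (x : Fin (n + 1) → ι) :
    comp 𝒰 F n W x (QCoh.res _ h s) =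
      QCoh.res F (le_D 𝒰 x ((D_le 𝒰 x W).trans h) (D_le_U 𝒰 x W)) (comp 𝒰 F n V x s) := by
  refine (QCoh.app_res (Pi.π (fun x : Fin (n + 1) → ι => (CechOX.pushRestr (∏ᶜ (𝒰 ∘ x))).obj F) x) h s).trans ?_
  show F.presheaf.map ((CechOX.interFun (∏ᶜ (𝒰 ∘ x))).map (homOfLE h)).op _ = _
  rfl

lemma le_face {n : ℕ} (x : Fin (n + 2) → ι) (V : X.Opens) (j : Fin (n + 2)) :
    D 𝒰 x V ≤ D 𝒰 (x ∘ j.succAbove) V :=
  le_D 𝒰 _ (D_le 𝒰 x V) fun _ => D_le_U 𝒰 x V _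

lemma comp_d (n : ℕ) (V : X.Opens) (s : Γ((C 𝒰 F).X n, V)) (x : Fin (n + 2) → ι) :
    comp 𝒰 F (n + 1) V x (((C 𝒰 F).d n (n + 1)).app V s) =
      ∑ j : Fin (n + 2), (-1 : ℤ) ^ (j : ℕ) •
        QCoh.res F (le_face 𝒰 x V j) (comp 𝒰 F n V (x ∘ j.succAbove) s) := by
  let P := CechOX.pushRestrFam.flip.obj F
  have h0 : (C 𝒰 F).d n (n + 1) ≫ Pi.π (fun x : Fin (n + 2) → ι => P.obj (op (∏ᶜ (𝒰 ∘ x)))) x =
      ∑ j : Fin (n + 2), (-1 : ℤ) ^ (j : ℕ) •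
        (Pi.π (fun x : Fin (n + 1) → ι => P.obj (op (∏ᶜ (𝒰 ∘ x)))) (x ∘ j.succAbove) ≫
          P.map (homOfLE (leOfHom (Pi.lift fun a => Pi.π (𝒰 ∘ x) (j.succAbove a)) :
            ∏ᶜ (𝒰 ∘ x) ≤ ∏ᶜ (𝒰 ∘ (x ∘ j.succAbove)))).op) := by
    refine (congrArg (· ≫ _) (CochainComplex.of_d
      (fun i ↦ ((FormalCoproduct.cosimplicialObjectFunctor (FormalCoproduct.mk _ 𝒰).cech).obj P).obj ⦋i⦌)
      (AlgebraicTopology.AlternatingCofaceMapComplex.objD _) n)).trans ?_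
    refine (Preadditive.sum_comp ..).trans (Finset.sum_congr rfl fun j _ ↦ ?_)
    refine (Preadditive.zsmul_comp ..).trans (congrArg (((-1 : ℤ) ^ (j : ℕ)) • ·) ?_)
    refine (Pi.lift_π (f := fun x : Fin (n + 2) → ι ↦ P.obj (op (∏ᶜ (𝒰 ∘ x)))) _ x).trans ?_
    exact congrArg (fun m => Pi.π (fun x : Fin (n + 1) → ι => P.obj (op (∏ᶜ (𝒰 ∘ x)))) (x ∘ j.succAbove) ≫ P.map m)
      (Subsingleton.elim _ _)
  have h1 := congr(($h0).app V s)
  refine Eq.trans h1 ?_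
  refine (map_sum (AddMonoidHom.mk' (fun g : (C 𝒰 F).X n ⟶ _ => g.app V s) fun _ _ => rfl) _ _).trans ?_
  refine Finset.sum_congr rfl fun j _ => ?_
  refine (map_zsmul (AddMonoidHom.mk' (fun g : (C 𝒰 F).X n ⟶ _ => g.app V s) fun _ _ => rfl) _ _).trans ?_
  exact congrArg (((-1 : ℤ) ^ (j : ℕ)) • ·) rfl

lemma comp_aug (V : X.Opens) (s : Γ(F, V)) (x : Fin 1 → ι) :
    comp 𝒰 F 0 V x ((CechOX.cechShAug 𝒰 F).app V s) = QCoh.res F (D_le 𝒰 x V) s := by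
  have h := Pi.lift_π (fun i : Fin 1 → ι => (Scheme.Modules.restrictAdjunction (∏ᶜ (𝒰 ∘ i)).ι).unit.app F) x
  refine (congr(($h).app V s)).trans ?_
  rfl

lemma cons_face_succ {p : ℕ} (v : ι) (y : Fin (p + 2) → ι) (j : Fin (p + 2)) :
    (Fin.cons v y : Fin (p + 3) → ι) ∘ j.succ.succAbove = Fin.cons v (y ∘ j.succAbove) := by
  funext a
  cases a using Fin.cases with
  | zero => simp
  | succ a => simp

lemma cons_face_zero {p : ℕ} (v : ι) (y : Fin (p + 1) → ι) :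
    (Fin.cons v y : Fin (p + 2) → ι) ∘ (0 : Fin (p + 2)).succAbove = y := by
  funext a; simp

lemma res_congr {n : ℕ} {V W : X.Opens} (s : Γ((C 𝒰 F).X n, V)) {x y : Fin (n + 1) → ι} (e : x = y)
    (h : W ≤ D 𝒰 x V) (h' : W ≤ D 𝒰 y V) :
    QCoh.res F h (comp 𝒰 F n V x s) = QCoh.res F h' (comp 𝒰 F n V y s) := by
  subst e; rfl

theorem exact_succ (h𝒰 : ⨆ i, 𝒰 i = ⊤) (p : ℕ) :
    (ShortComplex.mk ((C 𝒰 F).d p (p + 1)) ((C 𝒰 F).d (p + 1) (p + 2)) ((C 𝒰 F).d_comp_d _ _ _)).Exact := by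
  refine exact_of_locally_exists _ _ _ fun V t ht z hz => ?_
  obtain ⟨i₀, hi₀⟩ := Opens.mem_iSup.1 (h𝒰 ▸ (show z ∈ (⊤ : X.Opens) from trivial) : z ∈ ⨆ i, 𝒰 i)
  have hW : ∀ x : Fin (p + 1) → ι, D 𝒰 x (V ⊓ 𝒰 i₀) ≤ D 𝒰 (Fin.cons i₀ x : Fin (p + 2) → ι) V := fun x =>
    le_D 𝒰 _ ((D_le 𝒰 x _).trans inf_le_left) fun a => by
      cases a using Fin.cases with
      | zero => simpa using (D_le 𝒰 x _).trans inf_le_right
      | succ a => simpa using D_le_U 𝒰 x _ a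
  obtain ⟨s, hs⟩ := pi_exists (fun x : Fin (p + 1) → ι => (CechOX.pushRestr (∏ᶜ (𝒰 ∘ x))).obj F) (V ⊓ 𝒰 i₀)
    fun x => QCoh.res F (hW x) (comp 𝒰 F (p + 1) V (Fin.cons i₀ x) t)
  refine ⟨V ⊓ 𝒰 i₀, inf_le_left, ⟨hz, hi₀⟩, s, pi_ext _ _ fun x => ?_⟩
  show comp 𝒰 F (p + 1) _ x _ = comp 𝒰 F (p + 1) _ x (QCoh.res _ _ t)
  rw [comp_d, comp_res]
  have hs' : ∀ y : Fin (p + 1) → ι, comp 𝒰 F p (V ⊓ 𝒰 i₀) y s =
      QCoh.res F (hW y) (comp 𝒰 F (p + 1) V (Fin.cons i₀ y) t) := hs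
  have hE : D 𝒰 x (V ⊓ 𝒰 i₀) ≤ D 𝒰 (Fin.cons i₀ x : Fin (p + 3) → ι) V :=
    le_D 𝒰 _ ((D_le 𝒰 x _).trans inf_le_left) fun a => by
      cases a using Fin.cases with
      | zero => simpa using (D_le 𝒰 x _).trans inf_le_right
      | succ a => simpa using D_le_U 𝒰 x _ a
  have h4 := congrArg (QCoh.res F hE) ((comp_d 𝒰 F (p + 1) V t (Fin.cons i₀ x)).symm.trans
    ((congrArg (comp 𝒰 F (p + 2) V (Fin.cons i₀ x)) ht).trans (map_zero _)))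
  rw [map_zero, map_sum, Fin.sum_univ_succ] at h4
  simp only [Fin.val_zero, pow_zero, one_smul, Fin.val_succ, pow_succ, mul_neg_one, neg_smul, map_neg, map_zsmul,
    Finset.sum_neg_distrib, QCoh.res_res] at h4
  rw [← sub_eq_add_neg, sub_eq_zero] at h4
  rw [res_congr 𝒰 F t (cons_face_zero i₀ x) _ (le_D 𝒰 x ((D_le 𝒰 x _).trans inf_le_left) (D_le_U 𝒰 x _))] at h4
  refine Eq.trans ?_ h4.symm
  refine Finset.sum_congr rfl fun j _ => congrArg (((-1 : ℤ) ^ (j : ℕ)) • ·) ?_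
  rw [hs', QCoh.res_res]
  exact res_congr 𝒰 F t (cons_face_succ i₀ x j).symm _ _

theorem aug_d : CechOX.cechShAug 𝒰 F ≫ (C 𝒰 F).d 0 1 = 0 := by
  refine Scheme.Modules.hom_ext _ 0 fun V => ?_
  ext s
  refine pi_ext _ _ fun x => ?_
  show comp 𝒰 F 1 V x (((C 𝒰 F).d 0 1).app V ((CechOX.cechShAug 𝒰 F).app V s)) = comp 𝒰 F 1 V x 0
  rw [map_zero, comp_d, Fin.sum_univ_two, comp_aug, comp_aug, QCoh.res_res, QCoh.res_res]
  simp

theorem mono_aug (h𝒰 : ⨆ i, 𝒰 i = ⊤) : Mono (CechOX.cechShAug 𝒰 F) := by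
  refine mono_of_injective _ fun V s hs => ?_
  refine QCoh.eq_zero_of_locally_eq_zero F (fun i : ι => D_le 𝒰 (fun _ : Fin 1 => i) V)
    (fun z hz => ?_) _ fun i => ?_
  · obtain ⟨i, hi⟩ := Opens.mem_iSup.1 (h𝒰 ▸ (show z ∈ (⊤ : X.Opens) from trivial) : z ∈ ⨆ i, 𝒰 i)
    exact Opens.mem_iSup.2 ⟨i, le_D 𝒰 _ (inf_le_left : V ⊓ 𝒰 i ≤ V) (fun _ => inf_le_right) ⟨hz, hi⟩⟩
  · rw [← comp_aug, hs, map_zero]

theorem exact_zero (h𝒰 : ⨆ i, 𝒰 i = ⊤) :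
    (ShortComplex.mk (CechOX.cechShAug 𝒰 F) ((C 𝒰 F).d 0 1) (aug_d 𝒰 F)).Exact := by
  refine exact_of_locally_exists _ _ _ fun V t ht z hz => ?_
  obtain ⟨i₀, hi₀⟩ := Opens.mem_iSup.1 (h𝒰 ▸ (show z ∈ (⊤ : X.Opens) from trivial) : z ∈ ⨆ i, 𝒰 i)
  let c : Fin 1 → ι := fun _ => i₀
  refine ⟨V ⊓ 𝒰 i₀, inf_le_left, ⟨hz, hi₀⟩,
    QCoh.res F (le_D 𝒰 c inf_le_left fun _ => inf_le_right) (comp 𝒰 F 0 V c t), pi_ext _ _ fun x => ?_⟩
  show comp 𝒰 F 0 _ x _ = comp 𝒰 F 0 _ x (QCoh.res _ _ t)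
  rw [comp_aug, comp_res, QCoh.res_res]
  have hE : D 𝒰 x (V ⊓ 𝒰 i₀) ≤ D 𝒰 (Fin.cons i₀ x : Fin 2 → ι) V :=
    le_D 𝒰 _ ((D_le 𝒰 x _).trans inf_le_left) fun a => by
      cases a using Fin.cases with
      | zero => simpa using (D_le 𝒰 x _).trans inf_le_right
      | succ a => simpa using D_le_U 𝒰 x _ a
  have h4 := congrArg (QCoh.res F hE) ((comp_d 𝒰 F 0 V t (Fin.cons i₀ x)).symm.trans
    ((congrArg (comp 𝒰 F 1 V (Fin.cons i₀ x)) ht).trans (map_zero _)))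
  rw [map_zero, map_sum, Fin.sum_univ_two] at h4
  simp only [Fin.val_zero, pow_zero, one_smul, Fin.val_one, pow_one, neg_smul, map_neg, QCoh.res_res] at h4
  rw [← sub_eq_add_neg, sub_eq_zero,
    res_congr 𝒰 F t (cons_face_zero i₀ x) _ (le_D 𝒰 x ((D_le 𝒰 x _).trans inf_le_left) (D_le_U 𝒰 x _)),
    res_congr 𝒰 F t (show (Fin.cons i₀ x : Fin 2 → ι) ∘ (1 : Fin 2).succAbove = c by
      funext a; rw [Fin.fin_one_eq_zero a]; rfl) _
      (le_D 𝒰 c ((D_le 𝒰 x _).trans inf_le_left) fun _ => (D_le 𝒰 x _).trans inf_le_right)] at h4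
  exact h4.symm

theorem main (h𝒰 : ⨆ i, 𝒰 i = ⊤) :
    Mono (CechOX.cechShAug 𝒰 F) ∧
    CechOX.cechShAug 𝒰 F ≫ ((CechOX.cechSh 𝒰).obj F).d 0 1 = 0 ∧
    (∀ (G : X.Modules) (g : G ⟶ ((CechOX.cechSh 𝒰).obj F).X 0), g ≫ ((CechOX.cechSh 𝒰).obj F).d 0 1 = 0 →
      ∃! g' : G ⟶ F, g' ≫ CechOX.cechShAug 𝒰 F = g) ∧
    ∀ p : ℕ, IsZero (((CechOX.cechSh 𝒰).obj F).homology (p + 1)) := by
  haveI hm := mono_aug 𝒰 F h𝒰
  have hE := exact_zero 𝒰 F h𝒰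
  haveI : Mono (ShortComplex.mk (CechOX.cechShAug 𝒰 F) ((C 𝒰 F).d 0 1) (aug_d 𝒰 F)).f := hm
  refine ⟨hm, aug_d 𝒰 F, fun G g hg => ⟨hE.lift g hg, hE.lift_f g hg, fun g' hg' => ?_⟩, fun p => ?_⟩
  · rw [← cancel_mono (CechOX.cechShAug 𝒰 F), hg']
    exact (hE.lift_f g hg).symm
  · rw [← HomologicalComplex.exactAt_iff_isZero_homology,
      HomologicalComplex.exactAt_iff' _ p (p + 1) (p + 2) (by simp) (by simp)]
    exact exact_succ 𝒰 F h𝒰 p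

end

open AlgebraicGeometry CategoryTheory.Limits in
/-- Let X be a scheme, X = ⋃ U_i an open covering and F an O_X-module. The Čech complex of sheaves 𝔠(𝒰,
F), with 𝔠^p the product over (p+1)-tuples of the direct images of the restrictions of F to U_{i_0}
∩ … ∩ U_{i_p}, together with the canonical coaugmentation F → 𝔠^0, is a resolution of F: the
coaugmentation is a monomorphism, its composite with the first differential is zero, it is a kernel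
of that differential (every map into 𝔠^0 killed by the differential factors uniquely through it),
and the cohomology sheaves of 𝔠(𝒰, F) vanish in all positive degrees. (The published statement is
for ringed spaces; this row is for schemes.) -/
theorem result {X : Scheme.{u}} {ι : Type u} (𝒰 : ι → X.Opens) (h𝒰 : ⨆ i, 𝒰 i = ⊤)
    (F : X.Modules) :
    Mono (CechOX.cechShAug 𝒰 F) ∧
    CechOX.cechShAug 𝒰 F ≫ ((CechOX.cechSh 𝒰).obj F).d 0 1 = 0 ∧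
    (∀ (G : X.Modules) (g : G ⟶ ((CechOX.cechSh 𝒰).obj F).X 0), g ≫ ((CechOX.cechSh 𝒰).obj F).d 0 1 = 0 →
      ∃! g' : G ⟶ F, g' ≫ CechOX.cechShAug 𝒰 F = g) ∧
    ∀ p : ℕ, IsZero (((CechOX.cechSh 𝒰).obj F).homology (p + 1)) := by
  exact main 𝒰 F h𝒰

end Groth.Agent.S6531
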