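import Groth.Statements.S6532
import Groth.Agent.LCI.TorObstruction

set_option autoImplicit false
universe u
open LCI

namespace Groth.Agent.S6532

/-- Let R' → R be a surjection of Noetherian rings whose kernel is generated by a single element f and
has square zero; let I ⊆ R be the image of the annihilator of f. Let S = R[x_1, …, x_n]/(f_1, …,
f_m) and let ∑ r_j f_j = 0 be a relation in R[x_1, …, x_n] such that (1) every coefficient of every
r_j lies in I, and (2) there are lifts r'_j, f'_j in R'[x_1, …, x_n] and an element g with ∑ r'_j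
f'_j = f g, where g maps to a non-nilpotent element of S/IS. Under these hypotheses, the
Tor-dimension of S over R is infinite (so S fails to be a perfect R-algebra). -/
theorem result {R' R : Type u} [CommRing R'] [CommRing R]
    [IsNoetherianRing R'] [IsNoetherianRing R] (π : R' →+* R) (hπ : Function.Surjective π)
    (f : R') (hker : RingHom.ker π = Ideal.span {f}) (hf : f * f = 0)
    {n m : ℕ} (fs r : Fin m → MvPolynomial (Fin n) R) (hrel : ∑ j, r j * fs j = 0)
    (h1 : ∀ (j : Fin m) (d : Fin n →₀ ℕ),
      MvPolynomial.coeff d (r j) ∈ ((Ideal.span {f}).annihilator).map π)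
    (r' f' : Fin m → MvPolynomial (Fin n) R') (g : MvPolynomial (Fin n) R')
    (hr' : ∀ j, MvPolynomial.map π (r' j) = r j) (hf' : ∀ j, MvPolynomial.map π (f' j) = fs j)
    (hsum : ∑ j, r' j * f' j = MvPolynomial.C f * g)
    (hg : ¬ IsNilpotent (Ideal.Quotient.mk
      (Ideal.span (Set.range fs) ⊔ (((Ideal.span {f}).annihilator).map π).map MvPolynomial.C)
      (MvPolynomial.map π g))) :
    ¬ DRing.HasFiniteTorDim R (MvPolynomial (Fin n) R ⧸ Ideal.span (Set.range fs)) := by
  rintro ⟨d, hd⟩
  let P := MvPolynomial (Fin n) R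
  let J : Ideal P := Ideal.span (Set.range fs)
  let I : Ideal R := ((Ideal.span {f}).annihilator).map π
  let red : MvPolynomial (Fin n) R' →+* P := MvPolynomial.map π
  have hker' : RingHom.ker red = Ideal.span {MvPolynomial.C f} := by
    rw [MvPolynomial.ker_map, hker, Ideal.map_span, Set.image_singleton]
  have hann : ∀ a : R', a ∈ (Ideal.span {f}).annihilator ↔ a * f = 0 := fun a => by
    rw [show Ideal.span {f} = Submodule.span R' {f} from rfl, Submodule.mem_annihilator_span_singleton,
      smul_eq_mul]
  have hI : ∀ a ∈ I.map (MvPolynomial.C (σ := Fin n)),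
      ∃ a', red a' = a ∧ MvPolynomial.C f * a' = 0 := by
    intro a ha
    rw [show I.map (MvPolynomial.C (σ := Fin n)) =
      Ideal.map red (((Ideal.span {f}).annihilator).map MvPolynomial.C) by
        simp only [I, red, Ideal.map_map]
        congr 1
        exact RingHom.ext fun c => (MvPolynomial.map_C π c).symm,
      Ideal.mem_map_iff_of_surjective _ (MvPolynomial.map_surjective π hπ)] at ha
    obtain ⟨a', ha', rfl⟩ := ha
    refine ⟨a', rfl, ?_⟩
    ext e
    rw [MvPolynomial.coeff_C_mul, MvPolynomial.coeff_zero, mul_comm]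
    exact (hann _).1 (MvPolynomial.mem_map_C_iff.1 ha' e)
  have hI' : ∀ a', MvPolynomial.C f * a' = 0 → red a' ∈ I.map (MvPolynomial.C (σ := Fin n)) := by
    intro a' ha'
    rw [MvPolynomial.mem_map_C_iff]
    intro e
    rw [MvPolynomial.coeff_map]
    refine Ideal.mem_map_of_mem π ((hann _).2 ?_)
    rw [mul_comm, ← MvPolynomial.coeff_C_mul, ha', MvPolynomial.coeff_zero]
  have hrI : ∀ j, r j ∈ I.map (MvPolynomial.C (σ := Fin n)) := fun j =>
    MvPolynomial.mem_map_C_iff.2 (h1 j)
  have hsmul : ∀ (M : Type u) [AddCommGroup M] [Module R M] [Module P M] [IsScalarTower R P M],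
      ((I.map (MvPolynomial.C (σ := Fin n))) • (⊤ : Submodule P M)).restrictScalars R =
        (I • ⊤ : Submodule R M) := fun M _ _ _ _ => by
    rw [← MvPolynomial.algebraMap_eq, Ideal.smul_restrictScalars, Submodule.restrictScalars_top]
  obtain ⟨k, hk⟩ := Groth.Agent.LCI.TorObstruction.exists_pow_mem J red (MvPolynomial.C f)
    (MvPolynomial.map_surjective π hπ) hker' (by rw [← map_mul, hf, map_zero]) _ hI hI' fs r r' f'
    (fun i => Ideal.subset_span ⟨i, rfl⟩) hr' hf' hrI g hsum d (fun N hN x hx => by
      have hN' : d < N + 1 := Nat.lt_succ_of_le hN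
      obtain ⟨y, hy⟩ := Groth.Agent.LCI.FreeRes.exists_of_tor_vanish R J I N
        (hd (R ⧸ I) (N + 1) hN') x (by rw [← hsmul]; exact hx)
      refine ⟨y, ?_⟩
      rw [← hsmul] at hy
      exact hy)
  refine hg ⟨k, ?_⟩
  rw [← map_pow, Ideal.Quotient.eq_zero_iff_mem]
  exact hk

end Groth.Agent.S6532
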