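import Groth.Statements.S6535
import Groth.Agent.HyperLib.Ops

set_option autoImplicit false
universe u
open CategoryTheory
open Hyper

namespace Groth.Agent.S6535

open Opposite CategoryTheory.Limits in
/-- Let C be a small site with fibre products, X an object, K, L, M simplicial semi-representable
objects over X with morphisms a : K → L and b : M → L, and P = K ×_L M a fibre product (a pullback
square of simplicial objects). Assume (1) K is a hypercovering of X, (2) M_0 → L_0 is a covering,
and (3) for every n ≥ 0 the canonical morphism γ : M_{n+1} → L_{n+1} ×_{(cosk_n sk_n L)_{n+1}}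
(cosk_n sk_n M)_{n+1} is a covering (stated for every fibre product of that cospan and the induced
γ). Then P is a hypercovering of X. -/
theorem result {C : Type u} [SmallCategory C] [HasPullbacks C]
    (J : GrothendieckTopology C) (X : C)
    [∀ (n : ℕ) (F : (SimplexCategory.Truncated n)ᵒᵖ ⥤ Limits.FormalCoproduct.{u} (Over X)),
      (SimplexCategory.Truncated.inclusion n).op.HasRightKanExtension F]
    {K L M P : SimplicialObject (FormalCoproduct.{u} (Over X))} (a : K ⟶ L) (b : M ⟶ L)
    (p1 : P ⟶ K) (p2 : P ⟶ M) (hP : IsPullback p1 p2 a b)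
    (hK : Hyper.IsHypercovering J X K)
    (h0 : Hyper.IsSRCovering (J.over X) (b.app (op (SimplexCategory.mk 0))))
    (hγ : ∀ (n : ℕ) (Q : FormalCoproduct.{u} (Over X))
      (q1 : Q ⟶ L.obj (op (SimplexCategory.mk (n + 1))))
      (q2 : Q ⟶ ((SimplicialObject.truncation n ⋙ SimplicialObject.Truncated.cosk n).obj M).obj
        (op (SimplexCategory.mk (n + 1))))
      (γ : M.obj (op (SimplexCategory.mk (n + 1))) ⟶ Q),
      IsPullback q1 q2 (((SimplicialObject.coskAdj n).unit.app L).app (op (SimplexCategory.mk (n + 1))))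
        (((SimplicialObject.truncation n ⋙ SimplicialObject.Truncated.cosk n).map b).app
          (op (SimplexCategory.mk (n + 1)))) →
      γ ≫ q1 = b.app (op (SimplexCategory.mk (n + 1))) →
      γ ≫ q2 = ((SimplicialObject.coskAdj n).unit.app M).app (op (SimplexCategory.mk (n + 1))) →
      Hyper.IsSRCovering (J.over X) γ) :
    Hyper.IsHypercovering J X P := by
  have hK' := HyperLib.Points.hc_of_isHypercovering hK
  have hP' : ∀ k, IsPullback (p1.app k) (p2.app k) (a.app k) (b.app k) := fun k =>
    hP.map ((evaluation _ _).obj k)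
  refine HyperLib.Points.isHypercovering_of_hc (HyperLib.Ops.hc_pullback hP' hK'
    (fun W x => HyperLib.Points.liftSieve_mem h0 x) fun n W z hz x hx => ?_)
  obtain ⟨e, he, hej⟩ := HyperLib.CoskLift.exists_family M n z hz
  obtain ⟨c, hc⟩ := HyperLib.CoskLift.exists_point M n e he
  let Qb := ((SimplicialObject.truncation n ⋙ SimplicialObject.Truncated.cosk n).map b).app
    (op (SimplexCategory.mk (n + 1)))
  have hxc : x ≫ (HyperLib.CoskLift.η L n).app (op (SimplexCategory.mk (n + 1))) = c ≫ Qb := by
    refine HyperLib.Points.point_ext L n _ _ fun k hk φ => ?_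
    obtain ⟨j, θ, rfl⟩ := HyperLib.Points.exists_factor φ hk
    have h1 : (HyperLib.CoskLift.η L n).app (op (SimplexCategory.mk (n + 1))) ≫
        (HyperLib.CoskLift.Q L n).map (θ ≫ SimplexCategory.δ j).op ≫ HyperLib.CoskLift.ev L n k hk =
          L.δ j ≫ L.map θ.op := by
      rw [← NatTrans.naturality_assoc, HyperLib.CoskLift.η_ev, Category.comp_id, op_comp, Functor.map_comp]
      rfl
    have h2 : Qb ≫ (HyperLib.CoskLift.Q L n).map (θ ≫ SimplexCategory.δ j).op ≫ HyperLib.CoskLift.ev L n k hk =
        (HyperLib.CoskLift.Q M n).map (θ ≫ SimplexCategory.δ j).op ≫ HyperLib.CoskLift.ev M n k hk ≫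
          b.app (op (SimplexCategory.mk k)) := by
      have hn := ((SimplicialObject.truncation n ⋙ SimplicialObject.Truncated.cosk n).map b).naturality
        (θ ≫ SimplexCategory.δ j).op
      refine ((reassoc_of% hn) _).symm.trans ?_
      exact congrArg (_ ≫ ·) (congr_app ((SimplicialObject.coskAdj (C := FormalCoproduct.{u} (Over X)) n).counit.naturality
        ((SimplicialObject.truncation n).map b)) (op ⟨SimplexCategory.mk k, hk⟩))
    simp only [Category.assoc] at h1 h2 ⊢
    rw [h1, h2, ← Category.assoc, hx j, reassoc_of% (hc k hk (θ ≫ SimplexCategory.δ j)),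
      he n k le_rfl hk θ (SimplexCategory.δ j), hej, Category.assoc, Category.assoc, b.naturality]
  obtain ⟨Q, q1, q2, hQ⟩ : ∃ (Q : FormalCoproduct.{u} (Over X)) (q1 : Q ⟶ L.obj (op (SimplexCategory.mk (n + 1))))
      (q2 : Q ⟶ (HyperLib.CoskLift.Q M n).obj (op (SimplexCategory.mk (n + 1)))),
      IsPullback q1 q2 ((HyperLib.CoskLift.η L n).app (op (SimplexCategory.mk (n + 1)))) Qb :=
    ⟨_, _, _, IsPullback.of_hasPullback _ _⟩
  have hγw : b.app (op (SimplexCategory.mk (n + 1))) ≫ (HyperLib.CoskLift.η L n).app _ =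
      (HyperLib.CoskLift.η M n).app (op (SimplexCategory.mk (n + 1))) ≫ Qb :=
    congr_app ((SimplicialObject.coskAdj (C := FormalCoproduct.{u} (Over X)) n).unit.naturality b) _
  have hcov := hγ n Q q1 q2 (hQ.lift _ _ hγw) hQ (hQ.lift_fst _ _ _) (hQ.lift_snd _ _ _)
  refine ⟨_, HyperLib.Points.liftSieve_mem hcov (hQ.lift x c hxc), fun {W'} g hg => ?_⟩
  obtain ⟨y, hy⟩ := hg
  have hy1 := congrArg (· ≫ q1) hy
  have hy2 := congrArg (· ≫ q2) hy
  simp only [HyperLib.Points.res, Category.assoc, IsPullback.lift_fst, IsPullback.lift_snd] at hy1 hy2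
  refine ⟨y, hy1, fun j => ?_⟩
  have h1 : M.δ j = (HyperLib.CoskLift.η M n).app (op (SimplexCategory.mk (n + 1))) ≫
      (HyperLib.CoskLift.Q M n).map (SimplexCategory.δ j).op ≫ HyperLib.CoskLift.ev M n n le_rfl := by
    rw [← NatTrans.naturality_assoc, HyperLib.CoskLift.η_ev, Category.comp_id]
    rfl
  rw [h1, reassoc_of% hy2, hc n le_rfl (SimplexCategory.δ j), hej]

end Groth.Agent.S6535
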