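import Groth.Statements.S6540
import Groth.Agent.CurveSimple.Degree

set_option autoImplicit false
universe u
open CategoryTheory CategoryTheory.Limits AlgebraicGeometry
open Curves

namespace Groth.Agent.S6540

/-- Let X be a proper curve over the field k (proper, integral, of dimension one) with H^0(X, O_X) = k
and genus 0. Then every invertible O_X-module of degree 0 is trivial, i.e. isomorphic to O_X. -/
theorem result (k : Type u) [Field k] (X : Scheme.{u}) [X.Over (Spec (CommRingCat.of k))]
    [IsIntegral X] [IsProper (X ↘ (Spec (CommRingCat.of k)))] (hdim : topologicalKrullDim X = 1)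
    (h0 : Module.finrank k (Coh.HH X (Coh.structureModule X) 0) = 1) (hg : Curv2.genus k X = 0)
    (L : X.Modules) (hL : PicF.IsInvertible L) (hdeg : Curv2.deg k X L 1 = 0) :
    Nonempty (L ≅ Coh.structureModule X) := by
  have hO : Curv2.euler k X (Coh.structureModule X) = 1 := by
    rw [CurveSimple.euler_eq k hdim, h0, show Module.finrank k (Coh.HH X (Coh.structureModule X) 1) = 0 from hg]
    simp
  have hLe : Curv2.euler k X L = 1 := by
    have := hdeg
    rw [Curv2.deg, hO] at this
    push_cast at this
    linarith
  rw [CurveSimple.euler_eq k hdim] at hLe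
  have h1 : 0 < Module.finrank k (Coh.HH X L 0) := by omega
  obtain ⟨s, hs⟩ := CurveSimple.exists_hom_ne_zero (Module.nontrivial_of_finrank_pos h1)
  exact (CurveSimple.deg_nonneg_of_hom k hdim hL s hs).2 hdeg

end Groth.Agent.S6540
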