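import Groth.Statements.S6542
import Groth.Agent.CurveSimple.ToP1
import Groth.Agent.CurveSimple.PointDeg

set_option autoImplicit false
universe u
open CategoryTheory CategoryTheory.Limits AlgebraicGeometry
attribute [local instance] Curv2.resAlgebra
open Curves

namespace Groth.Agent.S6542

/-- Let X be a proper curve over the field k (proper, integral, of dimension one). If H^1(X, O_X) = 0
and there are closed points x_1, ..., x_n of X whose local rings are normal and whose residue-field
degrees over k have greatest common divisor 1, then X is isomorphic to P^1_k over k. -/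
theorem result (k : Type u) [Field k] (X : Scheme.{u}) [X.Over (Spec (CommRingCat.of k))]
    [IsIntegral X] [IsProper (X ↘ (Spec (CommRingCat.of k)))] (hdim : topologicalKrullDim X = 1)
    (h1 : Subsingleton (Coh.HH X (Coh.structureModule X) 1))
    (s : Finset X) (hcl : ∀ x ∈ s, IsClosed ({x} : Set X)) (hn : ∀ x ∈ s, IsIntegrallyClosed (X.presheaf.stalk x))
    (hgcd : s.gcd (fun x => Module.finrank k (X.residueField x)) = 1) :
    ∃ e : X ≅ CohB1.ProjSpace 1 k, e.hom ≫ CohB1.ProjSpace.toSpec 1 k = X ↘ (Spec (CommRingCat.of k)) := by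
  have hmem : ∀ x ∈ s, ((Module.finrank k (X.residueField x) : ℕ) : ℤ) ∈ CurveSimple.degSet k hdim :=
    fun x hx => CurveSimple.residue_mem_degSet k hdim x (hcl x hx)
      (CurveSimple.isPrincipal_of_normal k hdim x (hcl x hx) (hn x hx))
  obtain ⟨g, hg⟩ := Int.subgroup_cyclic (CurveSimple.degSet k hdim)
  have hdvd : ∀ x ∈ s, g.natAbs ∣ Module.finrank k (X.residueField x) := fun x hx => by
    have h := hmem x hx
    rw [hg, AddSubgroup.mem_closure_singleton] at h
    obtain ⟨n, hn'⟩ := h
    exact Int.natAbs_dvd_natAbs.2 (show g ∣ ((Module.finrank k (X.residueField x) : ℕ) : ℤ) from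
      ⟨n, by rw [← hn', smul_eq_mul, mul_comm]⟩)
  have h1g : g.natAbs = 1 := Nat.dvd_one.1 (hgcd ▸ Finset.dvd_gcd hdvd)
  have hone : (1 : ℤ) ∈ CurveSimple.degSet k hdim := by
    rw [hg, AddSubgroup.mem_closure_singleton]
    rcases Int.natAbs_eq_iff.1 h1g with h | h <;> subst h
    · exact ⟨1, by simp⟩
    · exact ⟨-1, by simp⟩
  obtain ⟨L, hL, hdeg⟩ := hone
  exact CurveSimple.exists_iso_p1_of_deg_one k hdim h1 hL hdeg

end Groth.Agent.S6542
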