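import Groth.Statements.S6544
import Groth.Agent.FFCurve.P1Iso
import Groth.Agent.FF.RR
import Groth.Agent.FBase.BC
import Groth.Agent.VBLib.RRGeom
import Groth.Agent.AbVarLib.Basics

set_option autoImplicit false
universe u
open CategoryTheory CategoryTheory.Limits AlgebraicGeometry
open Curves

namespace Groth.Agent.S6544

/-- Let X be a proper curve over the field k (proper, integral, of dimension one) which is smooth and
geometrically irreducible over k, of genus 0. If X has an invertible O_X-module of odd degree, then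
X is isomorphic to P^1_k over k. -/
theorem result (k : Type u) [Field k] (X : Scheme.{u}) [X.Over (Spec (CommRingCat.of k))]
    [IsIntegral X] [IsProper (X ↘ (Spec (CommRingCat.of k)))] (hdim : topologicalKrullDim X = 1)
    [Smooth (X ↘ (Spec (CommRingCat.of k)))] [GeometricallyIrreducible (X ↘ (Spec (CommRingCat.of k)))] (hg : Curv2.genus k X = 0)
    (L : X.Modules) (hL : PicF.IsInvertible L) (hodd : Odd (Curv2.deg k X L 1)) :
    ∃ e : X ≅ CohB1.ProjSpace 1 k, e.hom ≫ CohB1.ProjSpace.toSpec 1 k = X ↘ (Spec (CommRingCat.of k)) := by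
  haveI : GeometricallyConnected (X ↘ Spec (CommRingCat.of k)) :=
    Groth.Agent.FBase.BC.geometricallyConnected_of_geometricallyIrreducible _
  haveI : GeometricallyReduced (X ↘ Spec (CommRingCat.of k)) :=
    Groth.Agent.AbVarLib.Basics.geometricallyReduced_of_smooth _
  have h0 := Groth.Agent.VBLib.finrank_H0_structure_eq_one
    (Groth.Agent.VBLib.bijective_toGlobal_of_geometrically k X)
  haveI := Groth.Agent.FFCurve.regCurve_of_smooth (X := X) k hdim
  have hK := Groth.Agent.FFCurve.isFunctionField_of_h0 (X := X) k hdim h0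
  rw [Groth.Agent.FFCurve.genus_eq_genus k hdim hK] at hg
  rw [Groth.Agent.FFCurve.deg_eq k hdim hK hL] at hodd
  obtain ⟨m, hm⟩ := hodd
  obtain ⟨C, hC⟩ := Groth.Agent.FF.exists_canonical hK
  have hCd := Groth.Agent.FF.deg_canonical hK hC
  have hE : (Groth.Agent.FFCurve.divOf k hdim hL + m • C).deg = 1 := by
    rw [Groth.Agent.FF.deg_add, Groth.Agent.FF.deg_zsmul, hCd, hm, hg]
    push_cast
    ring
  refine Groth.Agent.FFCurve.exists_iso_p1_of_deg_one k hdim hK hE ?_
  have := Groth.Agent.FF.ell_eq_of_deg_ge hK (D := Groth.Agent.FFCurve.divOf k hdim hL + m • C)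
    (by rw [hE, hg]; norm_num)
  rw [hE, hg] at this
  omega

end Groth.Agent.S6544
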