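import Groth.Statements.S6551
import Groth.Agent.S1591
import Groth.Agent.S1592
import Groth.Agent.FlatDescends.Basic
import Groth.Agent.LimLib.Basic
import Mathlib.AlgebraicGeometry.AffineTransitionLimit

set_option autoImplicit false
universe u
open CategoryTheory AlgebraicGeometry
open Curves

namespace Groth.Agent.S6551

open CategoryTheory.Limits

theorem nodal_of_isPullback {X S X' S' P : Scheme.{u}} {f : X ⟶ S} {g : S' ⟶ S} {q : X' ⟶ X} {f' : X' ⟶ S'}
    {q₀ : P ⟶ X} {f₀' : P ⟶ S'} (h : IsPullback q f' f g) (h₀ : IsPullback q₀ f₀' f g)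
    (hn : Curv2.IsNodalFamily f') : Curv2.IsNodalFamily f₀' := by
  have := S1592.result f' hn (h₀.isoIsPullback _ _ h).hom
  rwa [IsPullback.isoIsPullback_hom_snd] at this

theorem descends_nodal :
    LimLib.Descends.{u} (fun _ _ f => Curv2.IsNodalFamily f) @LocallyOfFinitePresentation := by
  intro I _ _ D c hc hD hqc hqs i X₀ f₀ hc₁ hc₂ hQ X q f hf hP
  have : LocallyOfFinitePresentation f₀ := hQ
  obtain ⟨j, φ, hj⟩ := FlatDescends.descends_flat D c hc hD hqc hqs i X₀ f₀ hc₁ hc₂ hQ X q f hf hP.1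
  let f₁ := pullback.snd f₀ (D.map φ)
  haveI : Flat f₁ := hj
  haveI : LocallyOfFinitePresentation f₁ := MorphismProperty.of_isPullback (P := @LocallyOfFinitePresentation) (IsPullback.of_hasPullback f₀ (D.map φ)) hQ
  let q₁ : X ⟶ pullback f₀ (D.map φ) := pullback.lift q (f ≫ c.π.app j) (by rw [hf.w, Category.assoc, c.w])
  have h₁ : IsPullback q₁ f f₁ (c.π.app j) :=
    IsPullback.of_right (by rw [pullback.lift_fst, c.w]; exact hf) (pullback.lift_snd _ _ _) (IsPullback.of_hasPullback f₀ (D.map φ))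
  obtain ⟨U, -, hU⟩ := S1591.result f₁
  have htop : ∀ x : X, q₁ x ∈ U := fun x => by
    have h2 := nodal_of_isPullback h₁ (IsPullback.of_hasPullback f₁ (c.π.app j)) hP
    have h3 := (hU _ (c.π.app j)).2 ⊤ (S1592.result _ h2 (⊤ : (pullback f₁ (c.π.app j)).Opens).ι)
      (show h₁.isoPullback.hom x ∈ (⊤ : (pullback f₁ (c.π.app j)).Opens) from trivial)
    have e : h₁.isoPullback.hom ≫ pullback.fst f₁ (c.π.app j) = q₁ := h₁.isoPullback_hom_fst
    rw [← e]
    exact h3
  haveI : CompactSpace ↑(pullback f₀ (D.map φ)) := QuasiCompact.compactSpace_of_compactSpace (pullback.fst f₀ _)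
  haveI : QuasiSeparatedSpace ↑(pullback f₀ (D.map φ)) := quasiSeparatedSpace_of_quasiSeparated (pullback.fst f₀ _)
  obtain ⟨k, a, hk⟩ := exists_map_eq_top _ _ (LimLib.isLimitBcCone hc h₁) (i := Over.mk (𝟙 j))
    (pullback.fst f₁ (D.map (Over.mk (𝟙 j)).hom) ⁻¹ᵁ U) (by
      refine top_le_iff.1 fun x _ => ?_
      show pullback.fst f₁ (D.map (Over.mk (𝟙 j)).hom) ((LimLib.bcCone h₁).π.app (Over.mk (𝟙 j)) x) ∈ U
      have e : (LimLib.bcCone h₁).π.app (Over.mk (𝟙 j)) ≫ pullback.fst f₁ (D.map (Over.mk (𝟙 j)).hom) = q₁ :=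
        pullback.lift_fst _ _ _
      have := htop x
      rw [← e] at this
      exact this)
  refine ⟨k.left, k.hom ≫ φ, ?_⟩
  have hk' : pullback.fst f₁ (D.map k.hom) ⁻¹ᵁ U = ⊤ := by
    refine top_le_iff.1 fun x _ => ?_
    have := hk.ge (TopologicalSpace.Opens.mem_top x)
    show pullback.fst f₁ (D.map k.hom) x ∈ U
    have e : (LimLib.bcDiag D j f₁).map a ≫ pullback.fst f₁ (D.map (Over.mk (𝟙 j)).hom) = pullback.fst f₁ (D.map k.hom) :=
      pullback.lift_fst _ _ _
    rw [← e]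
    exact this
  have h4 := (hU _ (D.map k.hom)).1
  have h5 : Curv2.IsNodalFamily (pullback.snd f₁ (D.map k.hom)) := by
    refine S1593.result _ PUnit (fun _ => ((pullback.fst f₁ (D.map k.hom) ⁻¹ᵁ U : (pullback f₁ (D.map k.hom)).Opens) : Scheme.{u}))
      (fun _ => (pullback.fst f₁ (D.map k.hom) ⁻¹ᵁ U).ι) (fun x => ⟨⟨⟩, ⟨x, hk'.ge trivial⟩, rfl⟩) fun _ => h4
  refine nodal_of_isPullback ((IsPullback.of_hasPullback f₁ (D.map k.hom)).paste_horiz
    (IsPullback.of_hasPullback f₀ (D.map φ))) (q₀ := pullback.fst f₀ (D.map (k.hom ≫ φ))) ?_ h5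
  rw [← D.map_comp]
  exact IsPullback.of_hasPullback _ _

/-- Let S = lim S_i be the limit of a cofiltered system of schemes with affine transition morphisms, i₀
an index with S_{i₀} quasi-compact and quasi-separated, and f₀ : X₀ → Y₀ a morphism of quasi-compact
quasi-separated schemes over S_{i₀} which is locally of finite presentation. Write f : X → Y for the
pullback of f₀ along S → S_{i₀}. Assuming f to be at-worst-nodal, with relative dimension 1, there
exists an index i mapping to i₀ for which the pullback f_i : X_i → Y_i of f₀ to S_i is likewise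
at-worst-nodal of relative dimension 1. -/
theorem result {I : Type u} [SmallCategory I] [IsCofiltered I]
    (D : I ⥤ Scheme.{u}) (c : Limits.Cone D) (hc : Limits.IsLimit c)
    [∀ (i j : I) (f : i ⟶ j), IsAffineHom (D.map f)] (i₀ : I) [CompactSpace (D.obj i₀)]
    [QuasiSeparatedSpace (D.obj i₀)] {X₀ Y₀ : Scheme.{u}} (f₀ : X₀ ⟶ Y₀) (g₀ : Y₀ ⟶ D.obj i₀)
    [CompactSpace X₀] [QuasiSeparatedSpace X₀] [CompactSpace Y₀] [QuasiSeparatedSpace Y₀]
    {X Y : Scheme.{u}} (f : X ⟶ Y) (g : Y ⟶ c.pt) (qY : Y ⟶ Y₀) (qX : X ⟶ X₀)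
    (hY : IsPullback qY g g₀ (c.π.app i₀)) (hX : IsPullback qX f f₀ qY) [LocallyOfFinitePresentation f₀]
    (hf : Curv2.IsNodalFamily f) :
    ∃ (i : I) (φ : i ⟶ i₀) (Xi Yi : Scheme.{u}) (fi : Xi ⟶ Yi) (gi : Yi ⟶ D.obj i) (pY : Yi ⟶ Y₀)
      (pX : Xi ⟶ X₀), IsPullback pY gi g₀ (D.map φ) ∧ IsPullback pX fi f₀ pY ∧ Curv2.IsNodalFamily fi := by
  haveI : MorphismProperty.RespectsIso (fun (A B : Scheme.{u}) (h : A ⟶ B) => Curv2.IsNodalFamily h) :=
    MorphismProperty.RespectsIso.mk _ (fun e h hh => S1592.result h hh e.hom)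
      (fun e h hh => S1595.result e.hom h hh)
  exact descends_nodal.exists_stage hc f₀ hY hX inferInstance hf

end Groth.Agent.S6551
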