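import Groth.Statements.S6552
import Groth.Agent.StrictSSLib.BcPoints

set_option autoImplicit false
set_option linter.style.haveILetI false
universe u
open CategoryTheory CategoryTheory.Limits AlgebraicGeometry
open Curves

namespace Groth.Agent.S6552

/-- Let k be a field, X a scheme locally of finite type over k of dimension 1, π : Y → X an étale
morphism, and y ∈ Y a point with image x. Then x is a closed point of X which is a node if and only
if y is a closed point of Y which is a node (Y being a k-scheme through π). -/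
theorem result (k : Type u) [Field k] (X : Scheme.{u}) [X.Over (Spec (CommRingCat.of k))] [LocallyOfFiniteType (X ↘ (Spec (CommRingCat.of k)))] (hdim : topologicalKrullDim X = 1)
    {Y : Scheme.{u}} (π : Y ⟶ X) [Etale π] (y : Y) :
    Curv2.IsNode k X (π y) ↔ @Curv2.IsNode k _ Y ⟨π ≫ (X ↘ (Spec (CommRingCat.of k)))⟩ y := by
  let K := AlgebraicClosure k
  let φ := X ↘ (Spec (CommRingCat.of k))
  let b := Spec.map (CommRingCat.ofHom (algebraMap k K))
  haveI : JacobsonSpace X := LocallyOfFiniteType.jacobsonSpace φ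
  let g : pullback (π ≫ φ) b ⟶ pullback φ b :=
    pullback.map _ _ _ _ π (𝟙 _) (𝟙 _) (by simp) (by simp)
  have hg1 : g ≫ pullback.fst φ b = pullback.fst (π ≫ φ) b ≫ π := pullback.lift_fst _ _ _
  have hg2 : g ≫ pullback.snd φ b = pullback.snd (π ≫ φ) b := (pullback.lift_snd _ _ _).trans (Category.comp_id _)
  have hX := IsPullback.of_hasPullback φ b
  have hY : IsPullback (pullback.fst (π ≫ φ) b) (g ≫ pullback.snd φ b) (π ≫ φ) b :=
    hg2.symm ▸ IsPullback.of_hasPullback (π ≫ φ) b
  have hsq : IsPullback (pullback.fst (π ≫ φ) b) g π (pullback.fst φ b) := hY.of_bot hg1.symm hX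
  haveI : Etale g := MorphismProperty.of_isPullback (P := @Etale) hsq inferInstance
  haveI : LocallyOfFiniteType (pullback.snd φ b) := inferInstance
  have key : ∀ yb : ↑(pullback (π ≫ φ) b), IsClosed ({π (pullback.fst (π ≫ φ) b yb)} : Set X) →
      (StrictSSLib.IsOdpAt (pullback.snd φ b) (g yb) ↔ StrictSSLib.IsOdpAt (pullback.snd (π ≫ φ) b) yb) := by
    intro yb hcl
    rw [StrictSSLib.isOdpAt_iff_of_etale (pullback.snd φ b) g yb
      (StrictSSLib.isClosed_singleton_of_over_closed hX (by rwa [← Scheme.Hom.comp_apply, hg1, Scheme.Hom.comp_apply]))]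
    exact StrictSSLib.isOdpAt_congr hg2 yb
  constructor
  · rintro ⟨hcl, xb, hxb, hord⟩
    refine ⟨?_, ?_⟩
    · haveI := StrictSSLib.lqf_of_etale π
      haveI : DiscreteTopology (π ⁻¹' {π y} : Set Y) :=
        isDiscrete_iff_discreteTopology.mp (π.isDiscrete_preimage_singleton (π y))
      have h1 : IsClosed ({⟨y, rfl⟩} : Set (π ⁻¹' {π y} : Set Y)) := isClosed_discrete _
      have h2 := (hcl.preimage π.continuous).isClosedMap_subtype_val _ h1
      simpa using h2
    · obtain ⟨z, hz1, hz2⟩ := Scheme.Pullback.exists_preimage_pullback (f := π) (g := pullback.fst φ b) y xb hxb.symm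
      refine ⟨hsq.isoPullback.inv z, ?_, ?_⟩
      · show pullback.fst (π ≫ φ) b (hsq.isoPullback.inv z) = y
        rw [← Scheme.Hom.comp_apply, hsq.isoPullback_inv_fst, hz1]
      · have h3 : pullback.fst (π ≫ φ) b (hsq.isoPullback.inv z) = y := by
          rw [← Scheme.Hom.comp_apply, hsq.isoPullback_inv_fst, hz1]
        have h4 : g (hsq.isoPullback.inv z) = xb := by
          rw [← Scheme.Hom.comp_apply, hsq.isoPullback_inv_snd, hz2]
        refine (key _ (by rw [h3]; exact hcl)).mp ?_
        rw [h4]
        exact hord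
  · rintro ⟨hcl, yb, hyb, hord⟩
    haveI : LocallyOfFiniteType π := inferInstance
    have hxcl : IsClosed ({π y} : Set X) := π.closePoints_subset_preimage_closedPoints hcl
    refine ⟨hxcl, g yb, ?_, (key yb (by rw [show pullback.fst (π ≫ φ) b yb = y from hyb]; exact hxcl)).mpr hord⟩
    show pullback.fst φ b (g yb) = π y
    have h5 : (g ≫ pullback.fst φ b) yb = (pullback.fst (π ≫ φ) b ≫ π) yb := by rw [hg1]
    exact h5.trans (congrArg π hyb)

end Groth.Agent.S6552
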