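import Groth.Statements.S6555
import Groth.Agent.EGA4Lib.SmoothRegular
import Groth.Agent.CurveDVR.Stalk
import Groth.Agent.CAlg76.FibreDim
import Groth.Agent.RegLoc.Basic
import Mathlib
-- import your own Groth.Agent.* helpers here

set_option autoImplicit false
universe u
open CategoryTheory CategoryTheory.Limits AlgebraicGeometry
attribute [local instance] Curv2.resAlgebra Curv2.stalkAlgebra
open Curves

namespace Groth.Agent.S6555

open IsLocalRing TensorProduct in
/-- Over a field, for a local algebra whose maximal ideal is generated by `s` and whose residue field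
is separable, `D s` spans the differentials (when these are finite). -/
theorem span_D_eq_top (k R : Type u) [Field k] [CommRing R] [IsLocalRing R] [Algebra k R]
    [Algebra.IsSeparable k (ResidueField R)] [Module.Finite R Ω[R⁄k]] (s : R)
    (hm : maximalIdeal R = Ideal.span {s}) :
    Submodule.span R {KaehlerDifferential.D k R s} = ⊤ := by
  haveI : Algebra.FormallyUnramified k (ResidueField R) := .of_isSeparable _ _
  rw [← IsLocalRing.map_tensorProduct_mk_eq_top, eq_top_iff]
  intro z _
  obtain ⟨c, rfl⟩ := (KaehlerDifferential.exact_kerCotangentToTensor_mapBaseChange k R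
    (ResidueField R) Ideal.Quotient.mk_surjective z).mp (Subsingleton.elim _ _)
  obtain ⟨⟨a, ha⟩, rfl⟩ := Ideal.toCotangent_surjective _ c
  simp only [KaehlerDifferential.kerCotangentToTensor_toCotangent]
  have ha' : a ∈ maximalIdeal R := (residue_eq_zero_iff a).mp ha
  rw [hm, Ideal.mem_span_singleton'] at ha'
  obtain ⟨b, rfl⟩ := ha'
  have hs : algebraMap R (ResidueField R) s = 0 :=
    (residue_eq_zero_iff s).mpr (hm ▸ Ideal.mem_span_singleton_self s)
  refine ⟨b • KaehlerDifferential.D k R s, Submodule.smul_mem _ b (Submodule.mem_span_singleton_self _), ?_⟩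
  rw [Derivation.leibniz, TensorProduct.tmul_add]
  have : (1 : ResidueField R) ⊗ₜ[R] (s • KaehlerDifferential.D k R b) = 0 := by
    rw [← TensorProduct.smul_tmul, ← Algebra.algebraMap_eq_smul_one, hs, TensorProduct.zero_tmul]
  rw [this, add_zero]
  rfl

/-- Let X be a scheme over the field k and x ∈ X a closed point near which X → Spec k is smooth of
relative dimension 1 (on some open neighbourhood of x), with κ(x)/k separable. If s is an
irreducible element of the local ring O_{X,x} (a discrete valuation ring, so s generates its maximal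
ideal), then Ω_{O_{X,x}/k}, which is the stalk of Ω_{X/k} at x, is free of rank one with basis d s:
the map a ↦ a · d s from O_{X,x} to Ω_{O_{X,x}/k} is bijective. -/
theorem result (k : Type u) [Field k] (X : Scheme.{u}) [X.Over (Spec (CommRingCat.of k))]
    (x : X) (hx : IsClosed ({x} : Set X))
    (hsm : ∃ U : X.Opens, x ∈ U ∧ SmoothOfRelativeDimension 1 (U.ι ≫ (X ↘ (Spec (CommRingCat.of k)))))
    (hsep : Algebra.IsSeparable k (X.residueField x))
    (s : X.presheaf.stalk x) (hs : Irreducible s) :
    Function.Bijective (fun a : X.presheaf.stalk x => a • KaehlerDifferential.D k (X.presheaf.stalk x) s) := by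
  obtain ⟨U, hxU, hU⟩ := hsm
  obtain ⟨S, hS, V, hV, hxV, e, hstd⟩ :=
    hU.exists_isStandardSmoothOfRelativeDimension (⟨x, hxU⟩ : U.toScheme)
  have hStop : S = ⊤ := by
    ext t
    simp only [TopologicalSpace.Opens.coe_top, Set.mem_univ, iff_true]
    have := e hxV
    rw [Subsingleton.elim t ((U.ι ≫ (X ↘ (Spec (CommRingCat.of k)))) ⟨x, hxU⟩)]
    exact this
  subst hStop
  let W : X.Opens := U.ι ''ᵁ V
  have hW : IsAffineOpen W := hV.image_of_isOpenImmersion U.ι
  have hxW : x ∈ W := ⟨⟨x, hxU⟩, hxV, rfl⟩
  have hstd' : RingHom.IsStandardSmoothOfRelativeDimension 1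
      ((X ↘ (Spec (CommRingCat.of k))).appLE ⊤ W le_top).hom := by
    have h := hstd
    rw [← Scheme.Hom.appLE_comp_appLE U.ι (X ↘ (Spec (CommRingCat.of k))) ⊤ W V le_top
      (U.ι.preimage_image_eq V).ge, Scheme.Opens.ι_appLE] at h
    have he : ∀ g : Opposite.op W ⟶ Opposite.op W, X.presheaf.map g = 𝟙 _ := fun g => by
      rw [Subsingleton.elim g (𝟙 _), CategoryTheory.Functor.map_id]
    erw [he, Category.comp_id] at h
    exact h
  letI algA : Algebra k Γ(X, W) := (((X ↘ (Spec (CommRingCat.of k))).appLE ⊤ W le_top).hom.comp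
    (Scheme.ΓSpecIso (CommRingCat.of k)).inv.hom).toAlgebra
  haveI hA : Algebra.IsStandardSmoothOfRelativeDimension 1 k Γ(X, W) := by
    rw [← RingHom.isStandardSmoothOfRelativeDimension_algebraMap]
    exact RingHom.isStandardSmoothOfRelativeDimension_respectsIso.2
      ((X ↘ (Spec (CommRingCat.of k))).appLE ⊤ W le_top).hom
      (Scheme.ΓSpecIso (CommRingCat.of k)).symm.commRingCatIsoToRingEquiv hstd'
  haveI : Algebra.IsStandardSmooth k Γ(X, W) :=
    Algebra.IsStandardSmoothOfRelativeDimension.isStandardSmooth 1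
  let R := X.presheaf.stalk x
  let q := (hW.primeIdealOf ⟨x, hxW⟩).asIdeal
  letI algR : Algebra Γ(X, W) (X.presheaf.stalk x) := TopCat.Presheaf.algebra_section_stalk X.presheaf ⟨x, hxW⟩
  haveI hloc : IsLocalization.AtPrime (X.presheaf.stalk x) q := hW.isLocalization_stalk ⟨x, hxW⟩
  haveI : IsScalarTower k Γ(X, W) (X.presheaf.stalk x) := IsScalarTower.of_algebraMap_eq fun a => by
    show (X.presheaf.germ ⊤ x trivial).hom _ = (X.presheaf.germ W x hxW).hom
      ((X.presheaf.map (homOfLE le_top).op).hom ((X ↘ (Spec (CommRingCat.of k))).app ⊤ _))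
    exact (TopCat.Presheaf.germ_res_apply _ _ _ _ _).symm
  haveI : Nontrivial Γ(X, W) := (algebraMap Γ(X, W) (X.presheaf.stalk x)).domain_nontrivial
  haveI : Algebra.FormallyEtale Γ(X, W) (X.presheaf.stalk x) :=
    Algebra.FormallyEtale.of_isLocalization q.primeCompl
  -- `Ω` of the stalk is free of rank one
  let eΩ := (KaehlerDifferential.isBaseChange_of_formallyEtale k Γ(X, W) (X.presheaf.stalk x)).equiv
  haveI : Module.Free (X.presheaf.stalk x) Ω[X.presheaf.stalk x⁄k] := Module.Free.of_equiv eΩ
  haveI : Module.Finite (X.presheaf.stalk x) Ω[X.presheaf.stalk x⁄k] := Module.Finite.equiv eΩ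
  have hrank : Module.finrank (X.presheaf.stalk x) Ω[X.presheaf.stalk x⁄k] = 1 := by
    rw [← eΩ.finrank_eq, Module.finrank_baseChange]
    exact Module.finrank_eq_of_rank_eq
      (Algebra.IsStandardSmoothOfRelativeDimension.rank_kaehlerDifferential 1)
  -- the stalk is a domain with maximal ideal generated by `s`
  haveI hsmA : Algebra.Smooth k Γ(X, W) := inferInstance
  have hreg : IsRegularLocalRing (Localization.AtPrime q) := by
    have hk : PrimeSpectrum.comap (algebraMap k Γ(X, W)) (hW.primeIdealOf ⟨x, hxW⟩) ∈ EGA4.regLocus k := by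
      show IsRegularLocalRing (Localization.AtPrime _)
      have hM : (PrimeSpectrum.comap (algebraMap k Γ(X, W)) (hW.primeIdealOf ⟨x, hxW⟩)).asIdeal = ⊥ :=
        (Ideal.eq_bot_or_top _).resolve_right
          (PrimeSpectrum.comap (algebraMap k Γ(X, W)) (hW.primeIdealOf ⟨x, hxW⟩)).isPrime.ne_top
      have e := IsLocalization.atUnits k (S := Localization.AtPrime
        (PrimeSpectrum.comap (algebraMap k Γ(X, W)) (hW.primeIdealOf ⟨x, hxW⟩)).asIdeal)
        (PrimeSpectrum.comap (algebraMap k Γ(X, W)) (hW.primeIdealOf ⟨x, hxW⟩)).asIdeal.primeCompl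
        (fun a ha => by
          refine isUnit_iff_ne_zero.mpr fun h => ha ?_
          rw [h]; exact zero_mem _)
      exact IsRegularLocalRing.of_ringEquiv e.toRingEquiv
    exact Groth.Agent.EGA4Lib.mem_regLocus_of_smooth (hW.primeIdealOf ⟨x, hxW⟩) hk
  haveI hregR : IsRegularLocalRing (X.presheaf.stalk x) :=
    IsRegularLocalRing.of_ringEquiv (IsLocalization.algEquiv q.primeCompl (Localization.AtPrime q)
      (X.presheaf.stalk x)).toRingEquiv
  haveI : Algebra.IsSeparable k (IsLocalRing.ResidueField (X.presheaf.stalk x)) := hsep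
  have hm : IsLocalRing.maximalIdeal (X.presheaf.stalk x) = Ideal.span {s} := by
    haveI : IsDomain (X.presheaf.stalk x) := Groth.Agent.RegLoc.isDomain _
    have hrel : SmoothOfRelativeDimension 1 (Spec.map (CommRingCat.ofHom (algebraMap k Γ(X, W)))) := by
      rw [HasRingHomProperty.Spec_iff (P := @SmoothOfRelativeDimension 1)]
      exact RingHom.locally_of RingHom.isStandardSmoothOfRelativeDimension_respectsIso _
        ((RingHom.isStandardSmoothOfRelativeDimension_algebraMap 1).mpr hA)
    have hd1 : ringKrullDim (X.presheaf.stalk x) ≤ 1 := by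
      rw [IsLocalization.AtPrime.ringKrullDim_eq_height q]
      exact (Ideal.height_le_ringKrullDim_of_ne_top (hW.primeIdealOf ⟨x, hxW⟩).isPrime.ne_top).trans
        (by exact_mod_cast Groth.Agent.CAlg76.FibreDim.ringKrullDim_le_of_smooth hrel)
    have hd0 : ¬ ringKrullDim (X.presheaf.stalk x) ≤ 0 := fun h0 => by
      haveI : Ring.KrullDimLE 0 (X.presheaf.stalk x) := Ring.krullDimLE_iff.mpr h0
      obtain ⟨b, hb⟩ := (Ring.KrullDimLE.isField_of_isDomain
        (R := X.presheaf.stalk x)).mul_inv_cancel hs.ne_zero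
      exact hs.not_isUnit (isUnit_iff_exists_inv.mpr ⟨b, hb⟩)
    haveI := Groth.Agent.CurveDVR.isDiscreteValuationRing_of_regular (X.presheaf.stalk x) (le_antisymm hd1 (by
      rw [not_le] at hd0
      exact Order.succ_le_of_lt hd0))
    exact hs.maximalIdeal_eq
  let L : (X.presheaf.stalk x) →ₗ[X.presheaf.stalk x] Ω[X.presheaf.stalk x⁄k] :=
    LinearMap.toSpanSingleton _ _ (KaehlerDifferential.D k (X.presheaf.stalk x) s)
  have hsurj : Function.Surjective L := by
    rw [← LinearMap.range_eq_top, LinearMap.range_toSpanSingleton]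
    exact span_D_eq_top k _ s hm
  let b := (Module.finBasisOfFinrankEq (X.presheaf.stalk x) Ω[X.presheaf.stalk x⁄k] hrank).equivFun.trans
    (LinearEquiv.funUnique (Fin 1) (X.presheaf.stalk x) (X.presheaf.stalk x))
  have hbij : Function.Bijective (b.toLinearMap ∘ₗ L) :=
    OrzechProperty.bijective_of_surjective_endomorphism _ (b.surjective.comp hsurj)
  exact (Function.Bijective.of_comp_iff' b.bijective L).mp hbij

end Groth.Agent.S6555
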