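import Groth.Statements.S6556
import Groth.Agent.InsepLen.Algebra
import Groth.Agent.Wt.FlatWt
import Groth.Agent.VarDim.Scheme

set_option autoImplicit false
universe u
open CategoryTheory CategoryTheory.Limits AlgebraicGeometry
attribute [local instance] Curv2.resAlgebra
open Curves

namespace Groth.Agent.S6556

open Groth.Agent TensorProduct
open Groth.Agent.Wt.FlatWt (ringLen ringLen_comp_of_flat ringLen_comp_of_map_eq)

theorem map_maximalIdeal_of_isIso {A B : CommRingCat.{u}} [IsLocalRing A] [IsLocalRing B] (φ : A ⟶ B)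
    [IsIso φ] : (IsLocalRing.maximalIdeal A).map φ.hom = IsLocalRing.maximalIdeal B :=
  IsLocalRing.map_maximalIdeal_of_surjective _ (ConcreteCategory.bijective_of_isIso φ).2

theorem ringLen_congr {X Y : Scheme.{u}} {f g : X ⟶ Y} (h : f = g) (z : X) :
    ringLen (f.stalkMap z) = ringLen (g.stalkMap z) := by subst h; rfl

theorem ringLen_stalkMap_comp_left {X Y Z : Scheme.{u}} (j : X ⟶ Y) [IsOpenImmersion j] (f : Y ⟶ Z)
    (z : X) : ringLen ((j ≫ f).stalkMap z) = ringLen (f.stalkMap (j z)) := by
  rw [Scheme.Hom.stalkMap_comp]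
  exact ringLen_comp_of_flat (C := X.presheaf.stalk z) _ _
    (RingHom.Flat.of_bijective (ConcreteCategory.bijective_of_isIso (j.stalkMap z)))
    (map_maximalIdeal_of_isIso (j.stalkMap z))

theorem ringLen_stalkMap_comp_right {X Y Z : Scheme.{u}} (f : X ⟶ Y) (j : Y ⟶ Z) [IsOpenImmersion j]
    (z : X) : ringLen ((f ≫ j).stalkMap z) = ringLen (f.stalkMap z) := by
  rw [Scheme.Hom.stalkMap_comp]
  exact ringLen_comp_of_map_eq _ _ (map_maximalIdeal_of_isIso (j.stalkMap (f z)))

theorem ramificationIdx_eq_ringLen {A B : CommRingCat.{u}} [IsLocalRing A] [IsLocalRing B] (φ : A ⟶ B)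
    [IsLocalHom φ.hom] :
    letI := φ.hom.toAlgebra
    (IsLocalRing.maximalIdeal B).ramificationIdx A = ringLen φ := by
  letI := φ.hom.toAlgebra
  haveI : IsLocalHom (algebraMap A B) := ‹_›
  let L := Localization.AtPrime (IsLocalRing.maximalIdeal B)
  have hbij : Function.Bijective (algebraMap B L) :=
    (IsLocalization.atUnits B (IsLocalRing.maximalIdeal B).primeCompl (fun x hx =>
      IsLocalRing.notMem_maximalIdeal.mp hx)).bijective
  let ψ : B ⟶ CommRingCat.of L := CommRingCat.ofHom (algebraMap B L)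
  haveI : IsLocalHom ψ.hom := ⟨fun a ha => by
    obtain ⟨v, hv⟩ := hbij.2 ha.unit⁻¹.1
    refine IsUnit.of_mul_eq_one v (hbij.1 ?_)
    rw [map_mul, map_one, hv]
    exact IsUnit.mul_val_inv ha⟩
  rw [← ringLen_comp_of_flat (C := CommRingCat.of L) φ ψ (RingHom.Flat.of_bijective hbij)
    Localization.AtPrime.map_eq_maximalIdeal, ringLen, Ideal.ramificationIdx_def]
  have hu : (IsLocalRing.maximalIdeal B).under A = IsLocalRing.maximalIdeal A :=
    ((IsLocalRing.local_hom_TFAE (algebraMap A B)).out 0 4 rfl rfl).mp ‹_›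
  rw [hu]
  congr 3

theorem ringLen_SpecMap {R S : CommRingCat.{u}} (φ : R ⟶ S) (q : Spec S) :
    letI := φ.hom.toAlgebra
    ringLen ((Spec.map φ).stalkMap q) = q.asIdeal.ramificationIdx R := by
  algebraize [φ.hom]
  have hqp : q.asIdeal.IsPrime := PrimeSpectrum.isPrime q
  let p := q.asIdeal.under R
  have : p.IsPrime := inferInstanceAs (q.asIdeal.under R).IsPrime
  let L := Localization.localRingHom p q.asIdeal φ.hom rfl
  have hloc : IsLocalHom L := Localization.isLocalHom_localRingHom _ _ _ _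
  rw [show (Spec.map φ).stalkMap q = _ from (Scheme.localRingHom_comp_stalkIso φ q).symm]
  haveI : IsLocalRing ((Spec R).presheaf.stalk (PrimeSpectrum.comap φ.hom q)) :=
    inferInstanceAs (IsLocalRing ((Spec R).presheaf.stalk (Spec.map φ q)))
  refine (ringLen_comp_of_map_eq _ _
    (IsLocalRing.map_maximalIdeal_of_surjective _
      (ConcreteCategory.bijective_of_isIso (Spec.stalkIso R (q.comap φ.hom)).hom).2)).trans ?_
  haveI : IsLocalHom (Spec.stalkIso S q).inv.hom := ⟨fun a ha =>
    (isUnit_map_iff (Spec.stalkIso S q).symm.commRingCatIsoToRingEquiv a).mp ha⟩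
  refine (ringLen_comp_of_flat (C := (Spec S).presheaf.stalk q) _ _
    (RingHom.Flat.of_bijective (ConcreteCategory.bijective_of_isIso _))
    (IsLocalRing.map_maximalIdeal_of_surjective _
      (ConcreteCategory.bijective_of_isIso (Spec.stalkIso S q).inv).2)).trans ?_
  rw [Ideal.ramificationIdx_def]
  have hI : Ideal.map L (IsLocalRing.maximalIdeal (Localization.AtPrime p)) =
      Ideal.map (algebraMap R (Localization.AtPrime q.asIdeal)) p := by
    rw [← Localization.AtPrime.map_eq_maximalIdeal, Ideal.map_map]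
    congr 1
    ext r
    simp [L, Localization.localRingHom_to_map]
    rfl
  exact congrArg (fun I : Ideal (Localization.AtPrime q.asIdeal) =>
    (Module.length (Localization.AtPrime q.asIdeal) (Localization.AtPrime q.asIdeal ⧸ I)).toNat) hI

/-- Let X be a smooth curve over the field k (integral, separated, of finite type and smooth over k, of
dimension one), k̄ an algebraic closure of k, x̄ ∈ X_{k̄} a closed point and x ∈ X its image. Then
the ramification index of the extension of discrete valuation rings O_{X,x} → O_{X_{k̄}, x̄} (the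
length of O_{X_{k̄},x̄} modulo the ideal generated by the maximal ideal of O_{X,x}) equals the
inseparable degree [κ(x) : k]_i. -/
theorem result (k : Type u) [Field k] (X : Scheme.{u}) [X.Over (Spec (CommRingCat.of k))]
    [IsIntegral X] [IsSeparated (X ↘ (Spec (CommRingCat.of k)))] [LocallyOfFiniteType (X ↘ (Spec (CommRingCat.of k)))] [QuasiCompact (X ↘ (Spec (CommRingCat.of k)))] (hdX : topologicalKrullDim X = 1) [Smooth (X ↘ (Spec (CommRingCat.of k)))]
    (xb : Curv2.bc k X (AlgebraicClosure k)) (hxb : IsClosed ({xb} : Set (Curv2.bc k X (AlgebraicClosure k)))) :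
    letI := ((Curv2.bcFst k X (AlgebraicClosure k)).stalkMap xb).hom.toAlgebra
    Ideal.ramificationIdx (IsLocalRing.maximalIdeal ((Curv2.bc k X (AlgebraicClosure k)).presheaf.stalk xb))
        (X.presheaf.stalk (Curv2.bcFst k X (AlgebraicClosure k) xb)) =
      Field.finInsepDegree k (X.residueField (Curv2.bcFst k X (AlgebraicClosure k) xb)) := by
  set Ω := AlgebraicClosure k
  set q := X ↘ Spec (CommRingCat.of k) with hqdef
  set g := Spec.map (CommRingCat.ofHom (algebraMap k Ω))
  set x := Curv2.bcFst k X Ω xb with hxdef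
  haveI : IsIntegralHom g := IsIntegralHom.SpecMap_iff.mpr
    (algebraMap_isIntegral_iff.mpr inferInstance)
  haveI : IsIntegralHom (Curv2.bcFst k X Ω) := inferInstanceAs (IsIntegralHom (pullback.fst q g))
  have hx : IsClosed ({x} : Set X) := by
    rw [← Set.image_singleton (f := Curv2.bcFst k X Ω) (a := xb)]
    exact (Curv2.bcFst k X Ω).isClosedMap _ hxb
  obtain ⟨_, ⟨U, hU, rfl⟩, hxU, -⟩ :=
    X.isBasis_affineOpens.exists_subset_of_mem_open (Set.mem_univ x) isOpen_univ
  replace hU : IsAffineOpen U := hU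
  letI : Algebra k Γ(X, U) := VarDim.secAlgebra k X U
  haveI : Algebra.FiniteType k Γ(X, U) := VarDim.finiteType_sections k hU
  have hsq : hU.fromSpec ≫ q = Spec.map (CommRingCat.ofHom (algebraMap k Γ(X, U))) := by
    have h2 : CommRingCat.ofHom (algebraMap k Γ(X, U)) =
        (Scheme.ΓSpecIso (CommRingCat.of k)).inv ≫ q.appLE ⊤ U (by simp) := rfl
    rw [h2, Spec.map_comp, ← (isAffineOpen_top (Spec (CommRingCat.of k))).SpecMap_appLE_fromSpec q hU (show U ≤ q ⁻¹ᵁ ⊤ from le_top),
      IsAffineOpen.fromSpec_top, Scheme.isoSpec_Spec_inv]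
  let m : pullback (Spec.map (CommRingCat.ofHom (algebraMap k Γ(X, U)))) g ⟶ pullback q g :=
    pullback.map _ _ _ _ hU.fromSpec (𝟙 _) (𝟙 _) (by rw [Category.comp_id, hsq]) (by simp)
  let j : Spec (CommRingCat.of (Γ(X, U) ⊗[k] Ω)) ⟶ Curv2.bc k X Ω :=
    (pullbackSpecIso k Γ(X, U) Ω).inv ≫ m
  haveI : IsOpenImmersion m := inferInstance
  haveI : IsOpenImmersion j := inferInstance
  let inc : CommRingCat.of Γ(X, U) ⟶ CommRingCat.of (Γ(X, U) ⊗[k] Ω) :=
    CommRingCat.ofHom Algebra.TensorProduct.includeLeftRingHom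
  have hj : j ≫ Curv2.bcFst k X Ω = Spec.map inc ≫ hU.fromSpec := by
    have h1 := pullbackSpecIso_inv_fst k Γ(X, U) Ω
    have hm : m ≫ pullback.fst q g = pullback.fst _ _ ≫ hU.fromSpec := pullback.lift_fst _ _ _
    show ((pullbackSpecIso k Γ(X, U) Ω).inv ≫ m) ≫ pullback.fst q g = _
    rw [Category.assoc, hm, ← Category.assoc]
    exact congrArg (· ≫ hU.fromSpec) h1
  obtain ⟨z, hz⟩ : xb ∈ Set.range j := by
    have hr : xb ∈ Set.range m := by
      rw [Scheme.Pullback.range_map]
      refine ⟨?_, ?_⟩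
      · show x ∈ Set.range hU.fromSpec
        rw [hU.range_fromSpec]
        exact hxU
      · simp
    obtain ⟨w, hw⟩ := hr
    refine ⟨(pullbackSpecIso k Γ(X, U) Ω).hom w, ?_⟩
    rw [← hw]
    show ((pullbackSpecIso k Γ(X, U) Ω).hom ≫ j) w = m w
    simp only [j, Iso.hom_inv_id_assoc]
  have hzp : Spec.map inc z = hU.primeIdealOf ⟨x, hxU⟩ := by
    apply hU.fromSpec.isEmbedding.injective
    rw [hU.fromSpec_primeIdealOf, ← Scheme.Hom.comp_apply, ← hj, Scheme.Hom.comp_apply, hz]
  haveI hp : (hU.primeIdealOf ⟨x, hxU⟩).asIdeal.IsMaximal := by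
    rw [← PrimeSpectrum.isClosed_singleton_iff_isMaximal]
    have : ({hU.primeIdealOf ⟨x, hxU⟩} : Set (Spec Γ(X, U))) = hU.fromSpec ⁻¹' {x} := by
      ext w
      constructor
      · rintro rfl; exact hU.fromSpec_primeIdealOf ⟨x, hxU⟩
      · intro hw
        exact hU.fromSpec.isEmbedding.injective (hw.trans (hU.fromSpec_primeIdealOf ⟨x, hxU⟩).symm)
    exact this ▸ hx.preimage hU.fromSpec.continuous
  let π : Γ(X, U) →ₐ[k] X.residueField x :=
    { (X.evaluation U x hxU).hom with
      commutes' := fun c => VarDim.evaluation_algebraMap k X U x hxU c }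
  have hπ : Function.Surjective π := fun w => by
    obtain ⟨a, s, hs, h⟩ := VarDim.exists_evaluation_mul_eq hU x hxU w
    obtain ⟨b, i, hi, hbi⟩ := hp.exists_inv hs
    refine ⟨a * b, ?_⟩
    have h1 : X.evaluation U x hxU s * X.evaluation U x hxU b = 1 := by
      have := congrArg (X.evaluation U x hxU).hom hbi
      rw [map_add, map_mul, map_one, (VarDim.evaluation_eq_zero_iff hU x hxU i).mpr hi, add_zero] at this
      rw [mul_comm]
      exact this
    show X.evaluation U x hxU (a * b) = w
    rw [map_mul, ← h, mul_assoc, h1, mul_one]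
  have hker : RingHom.ker π = (hU.primeIdealOf ⟨x, hxU⟩).asIdeal := by
    ext a
    exact VarDim.evaluation_eq_zero_iff hU x hxU a
  haveI : Algebra.FiniteType k (X.residueField x) := Algebra.FiniteType.of_surjective π hπ
  haveI : Module.Finite k (X.residueField x) := finite_of_finite_type_of_isJacobsonRing k _
  haveI : z.asIdeal.IsPrime := z.isPrime
  rw [ramificationIdx_eq_ringLen ((Curv2.bcFst k X Ω).stalkMap xb)]
  rw [← InsepLen.length_fibre π hπ z.asIdeal ((congrArg PrimeSpectrum.asIdeal hzp).trans hker.symm),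
    hker, ← hz, ← ringLen_stalkMap_comp_left j (Curv2.bcFst k X Ω) z, ringLen_congr hj z,
    ringLen_stalkMap_comp_right, ringLen_SpecMap, Ideal.ramificationIdx_def]
  congr 3
  all_goals
    rw [← congrArg PrimeSpectrum.asIdeal hzp]
    rfl

end Groth.Agent.S6556
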