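import Groth.Statements.S6557
import Groth.Agent.RelDiv.SmoothDesc
import Groth.Agent.S10935
import Groth.Agent.S9800
import Groth.Agent.HomShQC.Stalk

set_option autoImplicit false
universe u
open CategoryTheory CategoryTheory.Limits AlgebraicGeometry
open Curves
attribute [-instance] CategoryTheory.ReflQuiver.toQuiver

namespace Groth.Agent.S6557

/-- Let k be a field and f : X → Y a surjective morphism over k of curves over k (integral, separated,
of finite type over k, of dimension one). If X is smooth over k and every local ring of Y is an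
integrally closed domain, then Y is also smooth over k. -/
theorem result (k : Type u) [Field k]
    (X Y : Scheme.{u}) [X.Over (Spec (CommRingCat.of k))] [Y.Over (Spec (CommRingCat.of k))]
    [IsIntegral X] [IsSeparated (X ↘ (Spec (CommRingCat.of k)))] [LocallyOfFiniteType (X ↘ (Spec (CommRingCat.of k)))] [QuasiCompact (X ↘ (Spec (CommRingCat.of k)))] (hdX : topologicalKrullDim X = 1) [IsIntegral Y] [IsSeparated (Y ↘ (Spec (CommRingCat.of k)))] [LocallyOfFiniteType (Y ↘ (Spec (CommRingCat.of k)))] [QuasiCompact (Y ↘ (Spec (CommRingCat.of k)))] (hdY : topologicalKrullDim Y = 1)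
    (f : X ⟶ Y) (hf : f ≫ (Y ↘ (Spec (CommRingCat.of k))) = X ↘ (Spec (CommRingCat.of k))) [Surjective f]
    [Smooth (X ↘ (Spec (CommRingCat.of k)))] (hY : Pi1.IsNormalScheme Y) :
    Smooth (Y ↘ (Spec (CommRingCat.of k))) := by
  have : LocallyOfFiniteType f := by
    have : LocallyOfFiniteType (f ≫ (Y ↘ Spec (CommRingCat.of k))) := by rw [hf]; infer_instance
    exact locallyOfFiniteType_of_comp f (Y ↘ Spec (CommRingCat.of k))
  have : IsLocallyNoetherian Y := LocallyOfFiniteType.isLocallyNoetherian (Y ↘ Spec (CommRingCat.of k))
  have : IsLocallyNoetherian X := LocallyOfFiniteType.isLocallyNoetherian (X ↘ Spec (CommRingCat.of k))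
  have : CompactSpace X := QuasiCompact.compactSpace_of_compactSpace (X ↘ Spec (CommRingCat.of k))
  have : AlgebraicGeometry.IsNoetherian X := ⟨⟩
  have : LocallyOfFinitePresentation f := LocallyOfFinitePresentation.iff_locallyOfFiniteType.mpr inferInstance
  have : Flat f := by
    refine (Groth.Agent.S10935.result f (Groth.Agent.S9800.result Y hY hdY.le) hdY).mpr fun x hx => ?_
    have hgenX : x = genericPoint X := by
      obtain ⟨hp, m, hm⟩ := hx
      have hbot : IsLocalRing.maximalIdeal (X.presheaf.stalk x) = ⊥ := by
        refine le_bot_iff.1 fun a ha => ?_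
        by_contra ha0
        let L := Groth.Agent.HomShQC.unitStalk x
        obtain ⟨e, rfl⟩ := L.surjective m
        have hm0 : e ≠ 0 := fun h0 => by
          apply hp.ne_top
          rw [hm, Ideal.eq_top_iff_one]
          refine Ideal.le_radical (Submodule.mem_colon_singleton.2 ?_)
          exact (Submodule.mem_bot _).2 ((one_smul _ _).trans ((congrArg L h0).trans (map_zero L)))
        rw [hm] at ha
        obtain ⟨j, hj⟩ := ha
        have h2 : a ^ j • L e = 0 := (Submodule.mem_bot _).1 (Submodule.mem_colon_singleton.1 hj)
        rw [← map_smul, LinearEquiv.map_eq_zero_iff, smul_eq_mul] at h2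
        exact (mul_ne_zero (pow_ne_zero j (by simpa using ha0)) hm0) h2
      have hF : IsField (X.presheaf.stalk x) := IsLocalRing.isField_iff_maximalIdeal_eq.2 hbot
      have h0 : Order.coheight x = 0 := by
        have h := ringKrullDim_stalk_eq_coheight x
        rw [ringKrullDim_eq_zero_of_isField hF] at h
        exact_mod_cast h.symm
      exact ((genericPoint_specializes x).antisymm
        (Order.coheight_eq_zero.1 h0 (genericPoint_specializes x))).eq.symm
    rw [hgenX]
    refine IsGenericPoint.eq ?_ (genericPoint_spec Y)
    have h := (genericPoint_spec X).image f.continuous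
    rwa [Set.image_univ, f.surjective.range_eq, closure_univ] at h
  have : Smooth (f ≫ (Y ↘ Spec (CommRingCat.of k))) := by rw [hf]; infer_instance
  exact Groth.Agent.RelDiv.smooth_of_fppf_comp f _

end Groth.Agent.S6557
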