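import Groth.Statements.S6558
import Groth.Agent.FFCurve.InsepTwist
import Groth.Agent.FFCurve.OmegaBC

set_option autoImplicit false
universe u
open CategoryTheory CategoryTheory.Limits AlgebraicGeometry
open Curves

namespace Groth.Agent.S6558

set_option linter.style.haveILetI false
set_option backward.isDefEq.respectTransparency false
set_option backward.isDefEq.respectTransparency.types false
set_option maxHeartbeats 1000000

/-- Isomorphic modules have cohomology of the same dimension. -/
theorem finrank_iso_modules (k : Type u) [Field k] {X : Scheme.{u}} [X.Over (Spec (CommRingCat.of k))]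
    {M N : X.Modules} (e : M ≅ N) (j : ℕ) :
    Module.finrank k (Coh.HH X M j) = Module.finrank k (Coh.HH X N j) :=
  (LinearEquiv.ofBijective (CohLin.overLin k (CohLin.hMap e.hom j)) (CohLin.hIso e j).bijective).finrank_eq

/-- Invariance of cohomology under base change along an endomorphism of the base field. -/
theorem finrank_twist (k : Type u) [Field k] (σ : k →+* k) {X Y : Scheme.{u}} (f : X ⟶ Spec (CommRingCat.of k))
    [IsProper f] (q : Y ⟶ X) (g : Y ⟶ Spec (CommRingCat.of k))
    (H : IsPullback q g f (Spec.map (CommRingCat.ofHom σ))) (i : ℕ) :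
    letI : X.Over (Spec (CommRingCat.of k)) := ⟨f⟩
    letI : Y.Over (Spec (CommRingCat.of k)) := ⟨g⟩
    Module.finrank k (Coh.HH Y ((Scheme.Modules.pullback q).obj (Coh.structureModule X)) i) =
      Module.finrank k (Coh.HH X (Coh.structureModule X) i) :=
  @CMReg.finrank_baseChange X Y k _ f k _ σ.toAlgebra _ q g H (Coh.structureModule X)
    (VBLib.isCoh_of_ofRank (ProjTwist.isFinLocFreeOfRank_one (PicLoc.isInvertible_structureModule X))) i

/-- Let p be a prime number, k a field of characteristic p, and f : X → Y a nonconstant morphism over k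
of proper nonsingular curves over k (proper, integral, of dimension one, all local rings regular),
nonconstant meaning f(ξ_X) = ξ_Y for the generic points (hypothesis e), so that k(Y) maps into k(X).
Assume X is smooth over k with H^0(X, O_X) = k and k(X)/k(Y) purely inseparable. Then Y is smooth
over k, its global functions are the constants k, and Y and X have the same genus. -/
theorem result (k : Type u) [Field k] (p : ℕ) [Fact p.Prime] [CharP k p]
    (X Y : Scheme.{u}) [X.Over (Spec (CommRingCat.of k))] [Y.Over (Spec (CommRingCat.of k))]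
    [IsIntegral X] [IsProper (X ↘ (Spec (CommRingCat.of k)))] (hdX : topologicalKrullDim X = 1) (hregX : ∀ x : X, IsRegularLocalRing (X.presheaf.stalk x))
    [IsIntegral Y] [IsProper (Y ↘ (Spec (CommRingCat.of k)))] (hdY : topologicalKrullDim Y = 1) (hregY : ∀ y : Y, IsRegularLocalRing (Y.presheaf.stalk y))
    (f : X ⟶ Y) (hf : f ≫ (Y ↘ (Spec (CommRingCat.of k))) = X ↘ (Spec (CommRingCat.of k))) (e : f (genericPoint X) = genericPoint Y)
    [Smooth (X ↘ (Spec (CommRingCat.of k)))] (h0 : Module.finrank k (Coh.HH X (Coh.structureModule X) 0) = 1)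
    (hpi : letI := ((Y.presheaf.stalkSpecializes (specializes_of_eq e) ≫ f.stalkMap (genericPoint X)).hom).toAlgebra
      IsPurelyInseparable Y.functionField X.functionField) :
    Smooth (Y ↘ (Spec (CommRingCat.of k))) ∧ Module.finrank k (Coh.HH Y (Coh.structureModule Y) 0) = 1 ∧
      Curv2.genus k Y = Curv2.genus k X := by
  haveI : ExpChar k p := ExpChar.prime Fact.out
  haveI := FFCurve.regCurve_of_smooth (X := X) k hdX
  haveI := FFCurve.regCurve_of_regular (X := Y) k hdY hregY
  haveI : ExpChar X.functionField p :=
    expChar_of_injective_ringHom (algebraMap k X.functionField).injective p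
  -- a separating variable
  obtain ⟨hfs, hess⟩ := FFCurve.formallySmooth_functionField (X := X) k
  have h1 := FFCurve.finrank_kaehler_functionField (X := X) k hdX
  obtain ⟨x, hx⟩ : ∃ x : X.functionField, KaehlerDifferential.D k X.functionField x ≠ 0 := by
    by_contra! h0
    haveI : Subsingleton Ω[X.functionField⁄k] := subsingleton_of_forall_eq 0 fun w => by
      have hw : w ∈ (⊥ : Submodule X.functionField Ω[X.functionField⁄k]) := by
        have : Submodule.span X.functionField (Set.range (KaehlerDifferential.D k X.functionField)) ≤ ⊥ := by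
          rw [Submodule.span_le]; rintro _ ⟨z, rfl⟩; exact (Submodule.mem_bot _).2 (h0 z)
        exact this (by rw [KaehlerDifferential.span_range_derivation]; trivial)
      exact (Submodule.mem_bot _).1 hw
    rw [Module.finrank_zero_of_subsingleton] at h1
    exact zero_ne_one h1
  set kx := IntermediateField.adjoin k ({x} : Set X.functionField)
  haveI : Subsingleton Ω[X.functionField⁄kx] := by
    refine subsingleton_of_forall_eq 0 fun y => ?_
    obtain ⟨z, rfl⟩ := KaehlerDifferential.map_surjective k kx X.functionField y
    obtain ⟨a, rfl⟩ := exists_smul_eq_of_finrank_eq_one h1 hx z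
    rw [map_smul, KaehlerDifferential.map_D]
    rw [show KaehlerDifferential.D kx X.functionField (algebraMap X.functionField X.functionField x) = 0 from
      (Derivation.map_algebraMap _ (⟨x, IntermediateField.mem_adjoin_simple_self k x⟩ : kx)), smul_zero]
  haveI : Algebra.FormallyUnramified kx X.functionField := ⟨inferInstance⟩
  haveI : Algebra.EssFiniteType kx X.functionField := Algebra.EssFiniteType.of_comp k kx X.functionField
  haveI : Algebra.IsSeparable kx X.functionField := Algebra.FormallyUnramified.isSeparable _ _
  -- the image of the function field of `Y`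
  set ψ : Y.functionField ⟶ X.functionField :=
    Y.presheaf.stalkSpecializes (specializes_of_eq e) ≫ f.stalkMap (genericPoint X) with hψdef
  have hψ : Spec.map ψ ≫ Y.fromSpecStalk (genericPoint Y) = X.fromSpecStalk (genericPoint X) ≫ f := by
    rw [hψdef, Spec.map_comp, Category.assoc, Scheme.SpecMap_stalkSpecializes_fromSpecStalk,
      Scheme.SpecMap_stalkMap_fromSpecStalk]
  have hψk : ∀ c : k, ψ.hom (algebraMap k Y.functionField c) = algebraMap k X.functionField c := by
    intro c
    have h : CommRingCat.ofHom (algebraMap k Y.functionField) ≫ ψ =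
        CommRingCat.ofHom (algebraMap k X.functionField) := by
      apply Spec.map_injective
      have h2 : Y.fromSpecStalk (genericPoint Y) ≫ (Y ↘ Spec (CommRingCat.of k)) =
          Spec.map (CommRingCat.ofHom (algebraMap k Y.functionField)) := FFCurve.fromSpecStalk_str (X := Y) k
      have h3 : X.fromSpecStalk (genericPoint X) ≫ (X ↘ Spec (CommRingCat.of k)) =
          Spec.map (CommRingCat.ofHom (algebraMap k X.functionField)) := FFCurve.fromSpecStalk_str (X := X) k
      rw [Spec.map_comp]
      refine (congrArg (fun m => Spec.map ψ ≫ m) h2.symm).trans ?_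
      rw [← Category.assoc, hψ, Category.assoc, hf]
      exact h3
    have h2 := RingHom.congr_fun (congrArg CommRingCat.Hom.hom h) c
    rw [CommRingCat.hom_comp, RingHom.comp_apply, CommRingCat.hom_ofHom, CommRingCat.hom_ofHom] at h2
    exact h2
  let Ψ : Y.functionField →ₐ[k] X.functionField := { ψ.hom with commutes' := hψk }
  set L := Ψ.fieldRange
  let eL : Y.functionField ≃ₐ[k] L :=
    AlgEquiv.ofBijective Ψ.rangeRestrict ⟨fun a b h => Ψ.toRingHom.injective (congrArg Subtype.val h),
      Ψ.rangeRestrict_surjective⟩
  haveI : FiniteDimensional L X.functionField := by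
    obtain ⟨t, ht⟩ := FFCurve.exists_transcendental (X := Y) k hdY
    have ht' : Transcendental k (Ψ t) := fun h => ht ((isAlgebraic_algHom_iff Ψ Ψ.toRingHom.injective).1 h)
    haveI := FFCurve.isFF_of_transc (X := X) k (FFCurve.hv (X := X) k hdX) hdX ht'
    have hle : IntermediateField.adjoin k ({Ψ t} : Set X.functionField) ≤ L :=
      IntermediateField.adjoin_simple_le_iff.2 ⟨t, rfl⟩
    letI : Algebra (IntermediateField.adjoin k ({Ψ t} : Set X.functionField)) L :=
      (IntermediateField.inclusion hle).toRingHom.toAlgebra
    haveI : IsScalarTower (IntermediateField.adjoin k ({Ψ t} : Set X.functionField)) L X.functionField :=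
      IsScalarTower.of_algebraMap_eq fun _ => rfl
    exact Module.Finite.of_restrictScalars_finite (IntermediateField.adjoin k ({Ψ t} : Set X.functionField)) _ _
  haveI : IsPurelyInseparable L X.functionField := by
    letI := ψ.hom.toAlgebra
    haveI : IsPurelyInseparable Y.functionField X.functionField := hpi
    haveI : ExpChar Y.functionField p := expChar_of_injective_ringHom (algebraMap k Y.functionField).injective p
    haveI : ExpChar L p := expChar_of_injective_ringHom (algebraMap k L).injective p
    rw [isPurelyInseparable_iff_pow_mem L p]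
    intro z
    obtain ⟨n, y, hy⟩ := IsPurelyInseparable.pow_mem Y.functionField p z
    exact ⟨n, ⟨eL y, hy⟩⟩
  obtain ⟨r, hr⟩ := FFCurve.InsepTwist.exists_eq_adjoin_pow p (x := x) L
  obtain ⟨hint, hreg, hpr, ⟨eM⟩⟩ := FFCurve.InsepTwist.exists_functionField_twist (X := X) k p r hdX
  haveI := hint
  haveI := hreg
  letI : (FFCurve.InsepTwist.twist k X p r).Over (Spec (CommRingCat.of k)) :=
    ⟨pullback.snd (X ↘ Spec (CommRingCat.of k)) (Spec.map (CommRingCat.ofHom (iterateFrobenius k p r)))⟩
  haveI := hpr
  obtain ⟨j, hj⟩ := FFCurve.InsepTwist.exists_iso (X := FFCurve.InsepTwist.twist k X p r) (Y := Y) k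
    (eL.trans ((IntermediateField.equivOfEq hr).trans eM.symm))
  -- transport along the isomorphism with the twist
  set g := Spec.map (CommRingCat.ofHom (iterateFrobenius k p r))
  have hj' : j.hom ≫ pullback.snd (X ↘ Spec (CommRingCat.of k)) g = Y ↘ Spec (CommRingCat.of k) := hj
  let q : Y ⟶ X := j.hom ≫ pullback.fst (X ↘ Spec (CommRingCat.of k)) g
  have H : IsPullback q (Y ↘ Spec (CommRingCat.of k)) (X ↘ Spec (CommRingCat.of k)) g :=
    (IsPullback.of_hasPullback (X ↘ Spec (CommRingCat.of k)) g).of_iso j.symm (Iso.refl _) (Iso.refl _) (Iso.refl _)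
      (by simp [q]) (by simp [← hj']) (by simp) (by simp)
  have hsm : Smooth (Y ↘ Spec (CommRingCat.of k)) := by
    rw [← hj']
    infer_instance
  have hb : ∀ i, Module.finrank k (Coh.HH Y (Coh.structureModule Y) i) =
      Module.finrank k (Coh.HH X (Coh.structureModule X) i) := fun i => by
    rw [← finrank_iso_modules k (QCoh.pullbackUnitIso q)]
    exact finrank_twist k (iterateFrobenius k p r) (X ↘ Spec (CommRingCat.of k)) q (Y ↘ Spec (CommRingCat.of k)) H i
  exact ⟨hsm, (hb 0).trans h0, hb 1⟩

end Groth.Agent.S6558
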