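import Groth.Statements.S6559
import Groth.Agent.CurveExt.Basic

set_option autoImplicit false
universe u
open CategoryTheory CategoryTheory.Limits AlgebraicGeometry
open Curves

namespace Groth.Agent.S6559

/-- Let k be a field, X a curve over k (integral, separated and of finite type over k, of dimension
one), Y a proper variety over k (integral, proper over k), U ⊆ X a nonempty open and f : U → Y a
morphism over k. If the local ring of X at a closed point x is a discrete valuation ring, then f
extends to a k-morphism U' → Y on some open U' ⊇ U of X containing x. -/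
theorem result (k : Type u) [Field k]
    (X Y : Scheme.{u}) [X.Over (Spec (CommRingCat.of k))] [Y.Over (Spec (CommRingCat.of k))]
    [IsIntegral X] [IsSeparated (X ↘ (Spec (CommRingCat.of k)))] [LocallyOfFiniteType (X ↘ (Spec (CommRingCat.of k)))] [QuasiCompact (X ↘ (Spec (CommRingCat.of k)))] (hdX : topologicalKrullDim X = 1)
    [IsIntegral Y] [IsProper (Y ↘ (Spec (CommRingCat.of k)))]
    (U : X.Opens) (hU : (U : Set X).Nonempty) (f : (U : Scheme.{u}) ⟶ Y) (hf : f ≫ (Y ↘ (Spec (CommRingCat.of k))) = U.ι ≫ (X ↘ (Spec (CommRingCat.of k))))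
    (x : X) (hx : IsClosed ({x} : Set X)) (hdvr : IsDiscreteValuationRing (X.presheaf.stalk x)) :
    ∃ (U' : X.Opens) (hUU' : U ≤ U') (f' : (U' : Scheme.{u}) ⟶ Y), x ∈ U' ∧
      f' ≫ (Y ↘ (Spec (CommRingCat.of k))) = U'.ι ≫ (X ↘ (Spec (CommRingCat.of k))) ∧ X.homOfLE hUU' ≫ f' = f := by
  classical
  set pX := X ↘ (Spec (CommRingCat.of k))
  set pY := Y ↘ (Spec (CommRingCat.of k))
  haveI : IsLocallyNoetherian X := LocallyOfFiniteType.isLocallyNoetherian pX
  have hUd : Dense (U : Set X) := U.2.dense hU
  haveI := hdvr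
  obtain ⟨V, v, hxV, hv, hvU⟩ := CurveExt.exists_extend_at pX pY hUd f hf x (fun i hi _ => by
    obtain ⟨l₀, hl₀, hl₀'⟩ := CurveExt.exists_lift_of_isClosedMap (pullback.fst pX pY)
      (pullback.fst pX pY).isClosedMap x
      (pullback.lift (Spec.map (CommRingCat.ofHom (algebraMap (X.presheaf.stalk x)
          (FractionRing (X.presheaf.stalk x)))) ≫ X.fromSpecStalk x) i
        (by rw [Category.assoc]; exact hi.symm))
      (pullback.lift_fst _ _ _)
    refine ⟨l₀ ≫ pullback.snd pX pY, ?_, ?_⟩
    · rw [Category.assoc, ← pullback.condition, ← Category.assoc, hl₀]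
    · rw [← Category.assoc, hl₀', pullback.lift_snd])
  obtain ⟨W, hUW, w, hP, hw, hwU⟩ := CurveExt.exists_glue_extensions pX pY hUd f hf {x}
    (fun y hy => by
      rw [Set.mem_singleton_iff] at hy
      subst hy
      exact ⟨V, v, hxV, hv, hvU⟩)
  exact ⟨W, hUW, w, hP x rfl, hw, hwU⟩

end Groth.Agent.S6559
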