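import Groth.Statements.S6563
import Groth.Agent.DimOneAmple.RedCompletion
import Groth.Agent.ProjProper.Basic
import Groth.Agent.CurveExt.Basic

set_option autoImplicit false
universe u
open CategoryTheory CategoryTheory.Limits AlgebraicGeometry
open Curves

namespace Groth.Agent.S6563

/-- Let k be a field and f : X → Y a morphism over k of varieties over k, with X a curve (integral,
separated and of finite type over k, of dimension one) and Y proper over k (and integral). Then f
extends over a projective completion of X: there are a projective curve X̄ over k (integral, of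
dimension one, admitting a closed immersion over k into some P^n_k), an open immersion j : X → X̄
over k and a k-morphism g : X̄ → Y with g ∘ j = f. -/
theorem result (k : Type u) [Field k]
    (X Y : Scheme.{u}) [X.Over (Spec (CommRingCat.of k))] [Y.Over (Spec (CommRingCat.of k))]
    [IsIntegral X] [IsSeparated (X ↘ (Spec (CommRingCat.of k)))] [LocallyOfFiniteType (X ↘ (Spec (CommRingCat.of k)))] [QuasiCompact (X ↘ (Spec (CommRingCat.of k)))] (hdX : topologicalKrullDim X = 1)
    [IsIntegral Y] [IsProper (Y ↘ (Spec (CommRingCat.of k)))]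
    (f : X ⟶ Y) (hf : f ≫ (Y ↘ (Spec (CommRingCat.of k))) = X ↘ (Spec (CommRingCat.of k))) :
    ∃ (Xb : Scheme.{u}) (_ : Xb.Over (Spec (CommRingCat.of k))) (j : X ⟶ Xb) (g : Xb ⟶ Y),
      IsOpenImmersion j ∧ j ≫ g = f ∧ j ≫ (Xb ↘ (Spec (CommRingCat.of k))) = X ↘ (Spec (CommRingCat.of k)) ∧ g ≫ (Y ↘ (Spec (CommRingCat.of k))) = Xb ↘ (Spec (CommRingCat.of k)) ∧
      IsIntegral Xb ∧ topologicalKrullDim Xb = 1 ∧
      ∃ (n : ℕ) (i : Xb ⟶ CohB1.ProjSpace n k), IsClosedImmersion i ∧ i ≫ CohB1.ProjSpace.toSpec n k = Xb ↘ (Spec (CommRingCat.of k)) := by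
  classical
  obtain ⟨d, Xb, c, j, hc, hj, hw, hdense, -, hXb, -, hb⟩ :=
    Groth.Agent.DimOneAmple.exists_completion_reduced (k := k) X hdX.le
  haveI := hc
  haveI := hj
  haveI := Groth.Agent.ProjProper.Basic.isProper_toSpec d k
  letI : Xb.Over (Spec (CommRingCat.of k)) := ⟨c ≫ CohB1.ProjSpace.toSpec d k⟩
  let pX : Xb ⟶ Spec (CommRingCat.of k) := Xb ↘ (Spec (CommRingCat.of k))
  let pY := Y ↘ (Spec (CommRingCat.of k))
  haveI : IsProper pX := inferInstanceAs (IsProper (c ≫ CohB1.ProjSpace.toSpec d k))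
  haveI : IsLocallyNoetherian Xb := LocallyOfFiniteType.isLocallyNoetherian pX
  haveI : ∀ y : Xb, _root_.IsReduced (Xb.presheaf.stalk y) := fun y => by
    by_cases h : y ∈ Set.range j.base
    · obtain ⟨x, rfl⟩ := h
      exact isReduced_of_injective _ (asIso (j.stalkMap x)).commRingCatIsoToRingEquiv.injective
    · obtain ⟨-, h1, -⟩ := hb y h
      infer_instance
  haveI : IsReduced Xb := isReduced_of_isReduced_stalk Xb
  haveI : IrreducibleSpace Xb := by
    have h := ((IrreducibleSpace.isIrreducible_univ X).image j.base j.continuous.continuousOn).closure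
    rw [Set.image_univ, hdense.closure_eq] at h
    exact { toPreirreducibleSpace := ⟨h.2⟩, toNonempty := ⟨h.1.some⟩ }
  haveI : IsIntegral Xb := isIntegral_of_irreducibleSpace_of_isReduced Xb
  let U : Xb.Opens := j.opensRange
  have hUd : Dense (U : Set Xb) := hdense
  let h : (U : Scheme.{u}) ⟶ Y := j.isoOpensRange.inv ≫ f
  have hh : h ≫ pY = U.ι ≫ pX := by
    rw [Category.assoc, hf, Iso.inv_comp_eq, ← Category.assoc j.isoOpensRange.hom, Scheme.Hom.isoOpensRange_hom_ι]
    exact hw.symm
  obtain ⟨W, hUW, w, hP, hw', hwU⟩ := CurveExt.exists_glue_extensions pX pY hUd h hh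
    (Set.range j.base)ᶜ (fun y hy => by
      obtain ⟨-, hdom, hdvr⟩ := hb y hy
      exact CurveExt.exists_extend_at pX pY hUd h hh y (fun i hi _ => by
        obtain ⟨l₀, hl₀, hl₀'⟩ := CurveExt.exists_lift_of_isClosedMap (pullback.fst pX pY)
          (pullback.fst pX pY).isClosedMap y
          (pullback.lift (Spec.map (CommRingCat.ofHom (algebraMap (Xb.presheaf.stalk y)
              (FractionRing (Xb.presheaf.stalk y)))) ≫ Xb.fromSpecStalk y) i
            (by rw [Category.assoc]; exact hi.symm))
          (pullback.lift_fst _ _ _)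
        refine ⟨l₀ ≫ pullback.snd pX pY, ?_, ?_⟩
        · rw [Category.assoc, ← pullback.condition, ← Category.assoc, hl₀]
        · rw [← Category.assoc, hl₀', pullback.lift_snd]))
  have hWtop : (⊤ : Xb.Opens) ≤ W := fun y _ => by
    by_cases hy : y ∈ Set.range j.base
    · exact hUW hy
    · exact hP y hy
  refine ⟨Xb, inferInstance, j, Xb.topIso.inv ≫ Xb.homOfLE hWtop ≫ w, hj, ?_, hw, ?_, inferInstance,
    le_antisymm hXb ?_, d, c, hc, rfl⟩
  · have e : j.isoOpensRange.hom ≫ Xb.homOfLE hUW = j ≫ Xb.topIso.inv ≫ Xb.homOfLE hWtop := by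
      rw [← cancel_mono W.ι]
      simp [Scheme.Hom.isoOpensRange_hom_ι]
    rw [← reassoc_of% e, hwU]
    simp [h]
  · simp only [Category.assoc]
    rw [hw']
    simp
    rfl
  · rw [← hdX]
    exact j.isOpenEmbedding.isInducing.topologicalKrullDim_le

end Groth.Agent.S6563
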