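import Groth.Statements.S6564


set_option autoImplicit false
universe u
open CategoryTheory CategoryTheory.Limits AlgebraicGeometry
open Curves

namespace Groth.Agent.S6564

/-- Let X be proper over the field k of dimension at most 1. If X has a g^r_d (an invertible module L of
degree d with an ordered family of r + 1 global sections linearly independent over k), then X has a
g^s_d for every 0 ≤ s ≤ r. -/
theorem result (k : Type u) [Field k] (X : Scheme.{u}) [X.Over (Spec (CommRingCat.of k))] [IsProper (X ↘ (Spec (CommRingCat.of k)))] (hdim : topologicalKrullDim X ≤ 1)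
    (d r : ℕ) (L : X.Modules) (σ : Fin (r + 1) → LinSer.Sect X L) (hL : LinSer.IsLinSer k X L d r σ)
    (s : ℕ) (hs : s ≤ r) :
    ∃ (L' : X.Modules) (τ : Fin (s + 1) → LinSer.Sect X L'), LinSer.IsLinSer k X L' d s τ := by
  refine ⟨L, fun i => σ (Fin.castLE (by omega) i), hL.1, hL.2.1, fun c hc => ?_⟩
  let ι : Fin (s + 1) → Fin (r + 1) := Fin.castLE (by omega)
  have hι : Function.Injective ι := Fin.castLE_injective _
  have h := hL.2.2 (Function.extend ι c 0) (by
    rw [← Fintype.sum_of_injective ι hι
      (fun i => (Coh.toGlobal (X ↘ Spec (CommRingCat.of k)) (c i)) • σ (ι i))]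
    · exact hc
    · intro j hj
      rw [Function.extend_apply' _ _ _ (by simpa using hj), Pi.zero_apply, map_zero, zero_smul]
    · intro i
      rw [hι.extend_apply])
  funext i
  have := congrFun h (ι i)
  rwa [hι.extend_apply] at this

end Groth.Agent.S6564
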