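import Groth.Statements.S6570
import Groth.Agent.NodeStruct.FittingFamily

set_option autoImplicit false
universe u
open CategoryTheory CategoryTheory.Limits AlgebraicGeometry
attribute [local instance] HasDerivedCategory.standard
open Curves

namespace Groth.Agent.S6570

/-- Let f : X → S be a quasi-separated morphism of schemes (so that Ω_{X/S} can be taken as the conormal
sheaf of the diagonal). The following are equivalent: (1) f is flat, locally of finite presentation,
and every nonempty fibre is equidimensional of dimension 1 with at-worst-nodal singularities; (2) f
is syntomic of relative dimension 1, and Sing(f) → S is unramified, where Sing(f) ⊆ X denotes the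
closed subscheme whose ideal sheaf is the first Fitting ideal of Ω_{X/S}. (The published statement
does not assume f quasi-separated; this row does.) -/
theorem result {X S : Scheme.{u}} (f : X ⟶ S) [QuasiSeparated f] :
    Curv2.IsNodalFamily f ↔
      (Synt.IsSyntomicMor f ∧ (∀ x : X, Dual3.localFibreDim f x = 1) ∧
        FormallyUnramified ((Fitt.sheafIdeal (Omega.sheaf f) 1).subschemeι ≫ f)) := by
  constructor
  · intro h
    exact ⟨NodeStruct.isSyntomicMor_of_nodal f h,
      fun x => (NodeStruct.localFibreDim_eq f x).trans (NodeStruct.fibreDimAt_eq_one f h x),
      NodeStruct.formallyUnramified_fitting f h⟩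
  · rintro ⟨hs, hd, hunr⟩
    exact NodeStruct.isNodalFamily_of_fitting f hs hd hunr

end Groth.Agent.S6570
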