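import Groth.Statements.S6573
import Groth.Agent.NodeCplFam.Scheme

set_option autoImplicit false
universe u
open CategoryTheory CategoryTheory.Limits AlgebraicGeometry
open Curves

namespace Groth.Agent.S6573

section Aux

open IsLocalRing

theorem core {A B : Type u} [CommRing A] [IsLocalRing A] [IsNoetherianRing A] [CommRing B] [IsLocalRing B]
    [IsNoetherianRing B] [Algebra A B] [IsLocalHom (algebraMap A B)] [Module.Flat A B]
    (χ : AdicCompletion (maximalIdeal B) B →+* MvPowerSeries (Fin 2) (ResidueField A) ⧸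
      Ideal.span {(MvPowerSeries.X 0 * MvPowerSeries.X 1 : MvPowerSeries (Fin 2) (ResidueField A))})
    (hχ : Function.Surjective χ)
    (hχk : RingHom.ker χ = (maximalIdeal A).map (algebraMap A (AdicCompletion (maximalIdeal B) B)))
    (hχA : ∀ r, χ (algebraMap A (AdicCompletion (maximalIdeal B) B) r) =
      Ideal.Quotient.mk _ (MvPowerSeries.C (residue A r))) :
    ∃ h ∈ maximalIdeal (AdicCompletion (maximalIdeal A) A),
      ∃ e : AdicCompletion (maximalIdeal B) B ≃+*
          (MvPowerSeries (Fin 2) (AdicCompletion (maximalIdeal A) A) ⧸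
            Ideal.span {(MvPowerSeries.X 0 * MvPowerSeries.X 1 - MvPowerSeries.C h :
              MvPowerSeries (Fin 2) (AdicCompletion (maximalIdeal A) A))}),
        ∀ r : A, e (algebraMap A (AdicCompletion (maximalIdeal B) B) r) =
          Ideal.Quotient.mk _ (MvPowerSeries.C (algebraMap A (AdicCompletion (maximalIdeal A) A) r)) := by
  classical
  haveI : IsNoetherianRing (AdicCompletion (maximalIdeal B) B) :=
    RegLoc.Completion.isNoetherianRing_adicCompletion' _
  have hq0 : MvPowerSeries.constantCoeff
      (MvPowerSeries.X 0 * MvPowerSeries.X 1 : MvPowerSeries (Fin 2) (ResidueField A)) = 0 := by simp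
  choose b hb using fun i : Fin 2 => hχ (Ideal.Quotient.mk _ (MvPowerSeries.X i))
  have huv : b 0 * b 1 ∈ (maximalIdeal A).map (algebraMap A (AdicCompletion (maximalIdeal B) B)) := by
    rw [← hχk, RingHom.mem_ker, map_mul, hb, hb, ← map_mul, Ideal.Quotient.eq_zero_iff_mem]
    exact Ideal.mem_span_singleton_self _
  have hgen : maximalIdeal (AdicCompletion (maximalIdeal B) B) = Ideal.span {b 0, b 1} ⊔
      (maximalIdeal A).map (algebraMap A (AdicCompletion (maximalIdeal B) B)) := by
    rw [NodeCplFam.maximalIdeal_eq hq0 χ hχ b hb, hχk]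
    congr 2
    ext z
    simp [Fin.exists_fin_two, eq_comm]
  have hres := NodeCplFam.residue_bijective hq0 χ hχ hχA
  haveI := NodeCplFam.isLocalHom_cpl (A := A) (B := B)
  obtain ⟨_, hT, -⟩ := EGA4Lib.exists_algebra_cpl A (AdicCompletion (maximalIdeal B) B)
  haveI := hT
  obtain ⟨α, hα, ψ₂, hs, hX, hY, h0⟩ := NodeCompl.exists_surjective hres (b 0) (b 1) huv hgen
  rw [← NodeCompl.ker_cplResidue, RingHom.mem_ker] at hα
  let j := (AdicCompletion.ofAlgEquiv (maximalIdeal (AdicCompletion (maximalIdeal B) B))).symm
  have hj : ∀ z : AdicCompletion (maximalIdeal B) B, j (algebraMap _ _ z) = z := fun z => j.commutes z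
  let ψ : MvPowerSeries (Fin 2) (AdicCompletion (maximalIdeal A) A) →+* AdicCompletion (maximalIdeal B) B :=
    j.toRingEquiv.toRingHom.comp ψ₂.toRingHom
  have hψ : Function.Surjective ψ := j.surjective.comp hs
  have hψC : ∀ a : A, ψ (MvPowerSeries.C (algebraMap A (AdicCompletion (maximalIdeal A) A) a)) =
      algebraMap A (AdicCompletion (maximalIdeal B) B) a := fun a => by
    have h1 := (ψ₂.restrictScalars A).commutes a
    rw [IsScalarTower.algebraMap_apply A (AdicCompletion (maximalIdeal A) A) (MvPowerSeries _ _),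
      ← MvPowerSeries.c_eq_algebraMap, IsScalarTower.algebraMap_apply A (AdicCompletion (maximalIdeal B) B)
        (AdicCompletion (maximalIdeal (AdicCompletion (maximalIdeal B) B)) _)] at h1
    show j (ψ₂ _) = _
    rw [AlgHom.restrictScalars_apply] at h1
    rw [h1, hj]
  have hψX : ∀ i, χ (ψ (MvPowerSeries.X i)) = Ideal.Quotient.mk _ (MvPowerSeries.X i) := by
    intro i
    have key : ∀ z w, z - algebraMap _ _ w ∈ NodeCompl.baseIdeal A (AdicCompletion (maximalIdeal B) B) →
        χ (j z) = χ w := by
      intro z w h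
      have h1 : j z - w ∈ RingHom.ker χ := by
        have h2 := Ideal.mem_map_of_mem j.toRingEquiv.toRingHom h
        rw [NodeCompl.baseIdeal, Ideal.map_map] at h2
        have h3 : j.toRingEquiv.toRingHom.comp (algebraMap A (AdicCompletion
            (maximalIdeal (AdicCompletion (maximalIdeal B) B)) (AdicCompletion (maximalIdeal B) B))) =
            algebraMap A (AdicCompletion (maximalIdeal B) B) := RingHom.ext fun a => by
          show j (algebraMap A _ a) = _
          rw [IsScalarTower.algebraMap_apply A (AdicCompletion (maximalIdeal B) B) (AdicCompletion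
            (maximalIdeal (AdicCompletion (maximalIdeal B) B)) (AdicCompletion (maximalIdeal B) B)), hj]
        rw [h3, ← hχk, map_sub] at h2
        simpa [hj] using h2
      rwa [RingHom.mem_ker, map_sub, sub_eq_zero] at h1
    fin_cases i
    · exact (key _ _ hX).trans (hb 0)
    · exact (key _ _ hY).trans (hb 1)
  have hF : ψ (MvPowerSeries.X 0 * MvPowerSeries.X 1 - MvPowerSeries.C α) = 0 := by
    show j (ψ₂ _) = 0
    rw [h0, map_zero]
  have hker := NodeCplFam.ker_eq hq0 χ hχk hχA ψ hψC hψX hψ hF (by simp [hα])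
  refine ⟨α, ?_, ((Ideal.quotEquivOfEq hker.symm).trans (RingHom.quotientKerEquivOfSurjective hψ)).symm,
    fun r => ?_⟩
  · rwa [AdicCompletion.maximalIdeal_eq_map (R := A), ← NodeCompl.ker_cplResidue, RingHom.mem_ker]
  · rw [RingEquiv.symm_apply_eq]
    exact (hψC r).symm

end Aux

/-- Let f : T → S be a morphism of schemes, t ∈ T with image s ∈ S. Assume that the local ring O_{S,s}
is Noetherian, that f is locally of finite type, that f is flat at the point t, and that t is a
split node of the fibre T_s — here taken in the form: t is a closed point of T_s and the completion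
of O_{T_s,t} is isomorphic, compatibly with κ(s), to κ(s)[[x,y]]/(xy). Then there are h in the
maximal ideal of the completion Â of O_{S,s} and an isomorphism of the completion of O_{T,t} with
Â[[x,y]]/(xy − h) compatible with the maps from O_{S,s} (hence an isomorphism of Â-algebras). -/
theorem result {T S : Scheme.{u}} (f : T ⟶ S) [LocallyOfFiniteType f] (t : T)
    [IsNoetherianRing (S.presheaf.stalk (f t))] (hfl : (f.stalkMap t).hom.Flat)
    (ht : letI : (f.fiber (f t)).Over (Spec (S.residueField (f t))) := ⟨f.fiberToSpecResidueField (f t)⟩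
      letI := Curv2.stalkAlgebra (S.residueField (f t)) (f.fiber (f t)) (f.asFiber t)
      IsClosed ({f.asFiber t} : Set (f.fiber (f t))) ∧
        Curv2.IsOrdDoublePt (S.residueField (f t)) ((f.fiber (f t)).presheaf.stalk (f.asFiber t))) :
    ∃ h ∈ IsLocalRing.maximalIdeal (Curv2.cpl (S.presheaf.stalk (f t))),
      ∃ e : Curv2.cpl (T.presheaf.stalk t) ≃+*
          (MvPowerSeries (Fin 2) (Curv2.cpl (S.presheaf.stalk (f t))) ⧸
            Ideal.span {(MvPowerSeries.X 0 * MvPowerSeries.X 1 - MvPowerSeries.C h : MvPowerSeries (Fin 2) (Curv2.cpl (S.presheaf.stalk (f t))))}),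
        ∀ a : S.presheaf.stalk (f t),
          e (algebraMap (T.presheaf.stalk t) (Curv2.cpl (T.presheaf.stalk t)) ((f.stalkMap t).hom a)) =
            Ideal.Quotient.mk _ (MvPowerSeries.C (algebraMap (S.presheaf.stalk (f t)) (Curv2.cpl (S.presheaf.stalk (f t))) a)) := by
  letI := (f.stalkMap t).hom.toAlgebra
  haveI := NodeCplFam.isNoetherianRing_stalk f t
  haveI : Module.Flat (S.presheaf.stalk (f t)) (T.presheaf.stalk t) := hfl
  haveI : IsLocalHom (algebraMap (S.presheaf.stalk (f t)) (T.presheaf.stalk t)) :=
    inferInstanceAs <| IsLocalHom (f.stalkMap t).hom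
  obtain ⟨-, he⟩ := ht
  obtain ⟨χ, h1, h2, h3⟩ := NodeCplFam.exists_data f t he
  obtain ⟨h, hh, e, he'⟩ := core χ h1 h2 h3
  exact ⟨h, hh, e, fun r => he' r⟩

end Groth.Agent.S6573
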