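import Groth.Statements.S6574
import Groth.Agent.JacNode.Node
import Groth.Agent.NodeForm.Converse
import Groth.Agent.Depth.Local
import Groth.Agent.ArtFunLib.PowerSeries
import Groth.Agent.Adic.Basic
-- import your own Groth.Agent.* helpers here

set_option autoImplicit false
universe u
open Curves

namespace Groth.Agent.S6574

open IsLocalRing MvPowerSeries in
theorem isAdicComplete_quot {k : Type u} [Field k] {n : ℕ} (I : Ideal (MvPowerSeries (Fin n) k))
    [IsLocalRing (MvPowerSeries (Fin n) k ⧸ I)] :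
    IsAdicComplete (maximalIdeal (MvPowerSeries (Fin n) k ⧸ I)) (MvPowerSeries (Fin n) k ⧸ I) := by
  haveI : IsAdicComplete (maximalIdeal k) k := by
    rw [IsLocalRing.maximalIdeal_eq_bot]; infer_instance
  haveI := Groth.Agent.ArtFunLib.isAdicComplete_ps (C := k) (σ := Fin n)
  rw [← IsLocalRing.map_maximalIdeal_of_surjective (Ideal.Quotient.mk I) Ideal.Quotient.mk_surjective,
    ← Ideal.Quotient.algebraMap_eq]
  exact (IsAdicComplete.map_algebraMap_iff _ _).2 (Groth.Agent.Adic.isAdicComplete_of_finite _)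

open IsLocalRing MvPowerSeries in
theorem ringKrullDim_node_le_one {k : Type u} [Field k] {a b c : k} (hd : b ^ 2 - 4 * a * c ≠ 0) :
    ringKrullDim (MvPowerSeries (Fin 2) k ⧸ Ideal.span {Groth.Agent.NodeForm.qf a b c}) ≤ 1 := by
  haveI := Groth.Agent.PlaneCurve70.isDomain (k := k) (n := 2)
  have h := ringKrullDim_quotient_succ_le_of_nonZeroDivisor
    (mem_nonZeroDivisors_of_ne_zero (Groth.Agent.NodeForm.qf_ne_zero hd))
  rw [Groth.Agent.PSLoc.ringKrullDim_eq] at h
  exact ENat.WithBot.add_le_add_one_right_iff.mp (le_trans h (le_of_eq one_add_one_eq_two.symm))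

/-- Let k be a field, A = k[[x_1, …, x_n]], and I = (f_1, …, f_m) ⊆ m_A. The following are equivalent:
(1) A/I is a node in the algebraic sense: A/I ≅ k[[u, v]]/(a u^2 + b uv + c v^2) as k-algebras for a
nondegenerate quadratic form (A/I is complete with residue field k, so this is the completion
criterion for nodes); (2) the quotient A/I has no nonzero nilpotents, and m_A is generated by I
together with every (n−1)-by-(n−1) minor taken from the Jacobian (∂f_j/∂x_i) (that is, these
elements generate I + m_A = m_A); (3) depth(A/I) = 1 and the same condition on minors. Stated as (1)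
⇔ (2) and (2) ⇔ (3). -/
theorem result (k : Type u) [Field k] (n m : ℕ)
    (f : Fin m → MvPowerSeries (Fin n) k) (hf : ∀ j, f j ∈ IsLocalRing.maximalIdeal (MvPowerSeries (Fin n) k)) :
    ((∃ a b c : k, 4 * a * c - b ^ 2 ≠ 0 ∧
        Nonempty ((MvPowerSeries (Fin n) k ⧸ Ideal.span (Set.range f)) ≃ₐ[k]
          (MvPowerSeries (Fin 2) k ⧸ Ideal.span
            {(MvPowerSeries.C a * MvPowerSeries.X 0 ^ 2 + MvPowerSeries.C b * MvPowerSeries.X 0 * MvPowerSeries.X 1 +
              MvPowerSeries.C c * MvPowerSeries.X 1 ^ 2 : MvPowerSeries (Fin 2) k)}))) ↔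
      (IsReduced (MvPowerSeries (Fin n) k ⧸ Ideal.span (Set.range f)) ∧
        Ideal.span {d : MvPowerSeries (Fin n) k | ∃ (ρ : Fin (n - 1) → Fin m) (γ : Fin (n - 1) → Fin n), Function.Injective ρ ∧ Function.Injective γ ∧
          d = ((Matrix.of fun (j : Fin m) (i : Fin n) => MvPowerSeries.pderiv k i (f j)).submatrix ρ γ).det} ⊔ Ideal.span (Set.range f) = IsLocalRing.maximalIdeal (MvPowerSeries (Fin n) k))) ∧
    ((IsReduced (MvPowerSeries (Fin n) k ⧸ Ideal.span (Set.range f)) ∧
        Ideal.span {d : MvPowerSeries (Fin n) k | ∃ (ρ : Fin (n - 1) → Fin m) (γ : Fin (n - 1) → Fin n), Function.Injective ρ ∧ Function.Injective γ ∧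
          d = ((Matrix.of fun (j : Fin m) (i : Fin n) => MvPowerSeries.pderiv k i (f j)).submatrix ρ γ).det} ⊔ Ideal.span (Set.range f) = IsLocalRing.maximalIdeal (MvPowerSeries (Fin n) k)) ↔
      (LocCoh.depth (MvPowerSeries (Fin n) k) (MvPowerSeries (Fin n) k ⧸ Ideal.span (Set.range f)) = 1 ∧
        Ideal.span {d : MvPowerSeries (Fin n) k | ∃ (ρ : Fin (n - 1) → Fin m) (γ : Fin (n - 1) → Fin n), Function.Injective ρ ∧ Function.Injective γ ∧
          d = ((Matrix.of fun (j : Fin m) (i : Fin n) => MvPowerSeries.pderiv k i (f j)).submatrix ρ γ).det} ⊔ Ideal.span (Set.range f) = IsLocalRing.maximalIdeal (MvPowerSeries (Fin n) k))) := by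
  classical
  have hf0 : ∀ j, MvPowerSeries.constantCoeff (f j) = 0 := fun j => JacNode.mem_maximalIdeal_iff.mp (hf j)
  let I := Ideal.span (Set.range f)
  let R := MvPowerSeries (Fin n) k ⧸ I
  have hI : I ≤ IsLocalRing.maximalIdeal (MvPowerSeries (Fin n) k) := JacNode.span_le_max hf0
  haveI : Nontrivial R := Ideal.Quotient.nontrivial_iff.mpr fun h =>
    (IsLocalRing.maximalIdeal.isMaximal _).ne_top (top_unique (h ▸ hI))
  haveI : IsLocalRing R := IsLocalRing.of_surjective' (Ideal.Quotient.mk I) Ideal.Quotient.mk_surjective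
  haveI : IsNoetherianRing R := inferInstance
  haveI := isAdicComplete_quot (k := k) (n := n) I
  let ιR : R ≃+* AdicCompletion (IsLocalRing.maximalIdeal R) R :=
    (AdicCompletion.ofAlgEquiv (IsLocalRing.maximalIdeal R)).toRingEquiv
  have hιR : ∀ r : R, ιR r = algebraMap R (AdicCompletion (IsLocalRing.maximalIdeal R) R) r := fun r =>
    ((AdicCompletion.ofAlgEquiv (IsLocalRing.maximalIdeal R)).commutes r)
  have halg : ∀ t : k, algebraMap k R t = Ideal.Quotient.mk I (MvPowerSeries.C t) := fun t => rfl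
  -- the residue field
  let ρ : k →+* IsLocalRing.ResidueField R := (IsLocalRing.residue R).comp (algebraMap k R)
  have hρ : Function.Bijective ρ := by
    refine ⟨ρ.injective, fun z => ?_⟩
    obtain ⟨r, rfl⟩ := IsLocalRing.residue_surjective z
    obtain ⟨g, rfl⟩ := Ideal.Quotient.mk_surjective r
    refine ⟨MvPowerSeries.constantCoeff g, ?_⟩
    show IsLocalRing.residue R (algebraMap k R _) = _
    rw [halg, ← sub_eq_zero, ← map_sub, ← map_sub, IsLocalRing.residue_eq_zero_iff]
    exact (JacNode.mem_max_iff hf0).mpr (by simp)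
  let eρ : k ≃+* IsLocalRing.ResidueField R := RingEquiv.ofBijective ρ hρ
  haveI : Algebra.IsSeparable k (IsLocalRing.ResidueField R) :=
    Algebra.IsSeparable.of_equiv_equiv (RingEquiv.refl k) eρ (by ext t; rfl)
  let Φ : MvPowerSeries (Fin 2) k ≃+* MvPowerSeries (Fin 2) (IsLocalRing.ResidueField R) :=
    RingEquiv.ofBijective (MvPowerSeries.map eρ.toRingHom) ⟨fun p q h => MvPowerSeries.ext fun e =>
        eρ.injective (by simpa using congrArg (MvPowerSeries.coeff e) h),
      fun q => ⟨fun e => eρ.symm (MvPowerSeries.coeff e q), MvPowerSeries.ext fun e => by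
        show eρ (eρ.symm _) = _
        exact eρ.apply_symm_apply _⟩⟩
  have hΦ : ∀ a b c : k, Φ (NodeForm.qf a b c) = NodeForm.qf (ρ a) (ρ b) (ρ c) := fun a b c => by
    show MvPowerSeries.map eρ.toRingHom (NodeForm.qf a b c) = _
    simp only [NodeForm.qf, map_add, map_mul, map_pow, MvPowerSeries.map_C, MvPowerSeries.map_X]
    rfl
  have hQ : ∀ a b c : k, (Ideal.span {NodeForm.qf (ρ a) (ρ b) (ρ c)}) =
      Ideal.map (Φ : MvPowerSeries (Fin 2) k →+* _) (Ideal.span {NodeForm.qf a b c}) := fun a b c => by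
    rw [Ideal.map_span, Set.image_singleton, RingEquiv.coe_toRingHom, hΦ]
  have hdisc : ∀ a b c : k, 4 * a * c - b ^ 2 ≠ 0 → ρ b ^ 2 - 4 * ρ a * ρ c ≠ 0 := fun a b c h h0 =>
    h (ρ.injective (by simp only [map_sub, map_mul, map_pow, map_ofNat, map_zero]; linear_combination -h0))
  -- the form of condition (1)
  let Node := ∃ a b c : k, 4 * a * c - b ^ 2 ≠ 0 ∧ Nonempty (R ≃ₐ[k]
    (MvPowerSeries (Fin 2) k ⧸ Ideal.span {NodeForm.qf a b c}))
  let Crit := JacNode.crit f = IsLocalRing.maximalIdeal (MvPowerSeries (Fin n) k)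
  -- positive depth and a relation give (1)
  have key : ∀ t ∈ IsLocalRing.maximalIdeal R, IsSMulRegular R t → Crit → Node := by
    intro t ht htreg hc
    obtain ⟨hfr, x, y, a, b, c, hx, hy, hspan, hd, hrel⟩ :=
      JacNode.exists_relation hf0 ((JacNode.crit_eq_iff hf0).mp hc)
    have hd' : IsLocalRing.residue R (4 * algebraMap k R a * algebraMap k R c - algebraMap k R b ^ 2) ≠ 0 := by
      rw [← map_ofNat (algebraMap k R) 4, ← map_pow, ← map_mul, ← map_mul, ← map_sub]
      exact fun h0 => hd (ρ.injective (by rw [map_zero]; exact h0))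
    obtain ⟨e, he⟩ := NodeForm.exists_equiv_of_relation_of_regular (k := k) hfr ht htreg x y
      (algebraMap k R a) (algebraMap k R b) (algebraMap k R c) hx hy hspan hd' hrel
    let e' := (ιR.trans e).trans (Ideal.quotientEquiv _ _ Φ (hQ a b c)).symm
    refine ⟨a, b, c, hd, ⟨AlgEquiv.ofRingEquiv (f := e') fun s => ?_⟩⟩
    show (Ideal.quotientEquiv _ _ Φ (hQ a b c)).symm (e (ιR (algebraMap k R s))) = _
    rw [hιR, RingEquiv.symm_apply_eq]
    refine (he s).trans ?_
    show _ = Ideal.quotientEquiv _ _ Φ (hQ a b c) (Ideal.Quotient.mk _ (MvPowerSeries.C s))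
    rw [Ideal.quotientEquiv_mk]
    congr 1
    show _ = MvPowerSeries.map eρ.toRingHom (MvPowerSeries.C s)
    rw [MvPowerSeries.map_C]
    rfl
  -- consequences of (1)
  have fwd : Node → IsReduced R ∧ Crit ∧ LocCoh.depth (MvPowerSeries (Fin n) k) R = 1 := by
    rintro ⟨a, b, c, hd, ⟨e⟩⟩
    obtain ⟨hred, hfr, x, y, a', b', c', hx, hy, hspan, hd', hrel⟩ :=
      NodeForm.exists_relation_of_equiv (hdisc a b c hd)
        ((ιR.symm.trans e.toRingEquiv).trans (Ideal.quotientEquiv _ _ Φ (hQ a b c)))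
    haveI := hred
    refine ⟨hred, (JacNode.crit_eq_iff hf0).mpr
      (JacNode.secondOrder_of_relation hf0 hfr hx hy hspan hd' hrel), le_antisymm ?_ ?_⟩
    · haveI : Module.Finite (MvPowerSeries (Fin n) k) R := inferInstance
      obtain ⟨P, hP⟩ := associatedPrimes.nonempty (MvPowerSeries (Fin n) k) R
      have h1 := Groth.Agent.Depth.depth_le_ringKrullDim_quotient hP
      have hIP : I ≤ P := by
        intro i hi
        obtain ⟨hPp, z, hz⟩ := hP
        rw [hz]
        refine Ideal.le_radical (Submodule.mem_colon_singleton.mpr ?_)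
        rw [Submodule.mem_bot]
        obtain ⟨g, rfl⟩ := Ideal.Quotient.mk_surjective z
        show Ideal.Quotient.mk I (i * g) = 0
        exact Ideal.Quotient.eq_zero_iff_mem.mpr (I.mul_mem_right _ hi)
      have h2 : ringKrullDim (MvPowerSeries (Fin n) k ⧸ P) ≤ 1 :=
        (ringKrullDim_le_of_surjective (Ideal.Quotient.factor hIP) (Ideal.Quotient.factor_surjective hIP)).trans
          ((ringKrullDim_eq_of_ringEquiv e.toRingEquiv).le.trans (ringKrullDim_node_le_one
            (fun h => hd (by linear_combination -h))))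
      exact WithBot.coe_le_coe.mp (h1.trans h2)
    · obtain ⟨t, ht, htreg⟩ := NodeForm.exists_regular hfr
      obtain ⟨t, rfl⟩ := Ideal.Quotient.mk_surjective t
      show 1 ≤ LocCoh.idealDepth _ _
      refine Groth.Agent.Depth.one_le_idealDepth_iff.mpr fun P hP hle => ?_
      refine Groth.Agent.Depth.notMem_of_isSMulRegular hP (fun p q h => htreg ?_)
        (hle (JacNode.mem_maximalIdeal_iff.mpr ((JacNode.mem_max_iff hf0).mp ht)))
      exact h
  refine ⟨⟨fun h => ⟨(fwd h).1, (fwd h).2.1⟩, ?_⟩, ⟨?_, ?_⟩⟩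
  · rintro ⟨hred, hc⟩
    haveI : IsReduced R := hred
    obtain ⟨hfr, -⟩ := JacNode.exists_relation hf0 ((JacNode.crit_eq_iff hf0).mp hc)
    obtain ⟨t, ht, htreg⟩ := NodeForm.exists_regular hfr
    exact key t ht htreg hc
  · rintro ⟨hred, hc⟩
    haveI : IsReduced R := hred
    obtain ⟨hfr, -⟩ := JacNode.exists_relation hf0 ((JacNode.crit_eq_iff hf0).mp hc)
    obtain ⟨t, ht, htreg⟩ := NodeForm.exists_regular hfr
    exact ⟨(fwd (key t ht htreg hc)).2.2, hc⟩
  · rintro ⟨hdep, hc⟩
    obtain ⟨t, ht, htreg⟩ := Groth.Agent.Depth.exists_isSMulRegular_of_one_le_idealDepth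
      (show 1 ≤ LocCoh.idealDepth _ R from hdep.ge)
    exact ⟨(fwd (key (Ideal.Quotient.mk I t) ((JacNode.mem_max_iff hf0).mpr (JacNode.mem_maximalIdeal_iff.mp ht))
      (fun p q h => htreg h) hc)).1, hc⟩

end Groth.Agent.S6574
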