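import Groth.Statements.S6575
import Mathlib.RingTheory.Ideal.Quotient.Defs
import Mathlib.LinearAlgebra.Matrix.Determinant.Basic
import Mathlib.RingTheory.Ideal.Quotient.Operations
-- import your own Groth.Agent.* helpers here

set_option autoImplicit false
universe u
open Curves

namespace Groth.Agent.S6575

/-- One inclusion. -/
lemma minors_le (k : Type u) [Field k] (n m l r : ℕ)
    (f : Fin m → MvPowerSeries (Fin n) k) (g : Fin l → MvPowerSeries (Fin n) k)
    (hfg : Ideal.span (Set.range f) ≤ Ideal.span (Set.range g)) :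
    Ideal.span {d : MvPowerSeries (Fin n) k | ∃ (ρ : Fin r → Fin m) (γ : Fin r → Fin n), Function.Injective ρ ∧ Function.Injective γ ∧
          d = ((Matrix.of fun (j : Fin m) (i : Fin n) => MvPowerSeries.pderiv k i (f j)).submatrix ρ γ).det} ⊔ Ideal.span (Set.range f) ≤
      Ideal.span {d : MvPowerSeries (Fin n) k | ∃ (ρ : Fin r → Fin l) (γ : Fin r → Fin n), Function.Injective ρ ∧ Function.Injective γ ∧
          d = ((Matrix.of fun (j : Fin l) (i : Fin n) => MvPowerSeries.pderiv k i (g j)).submatrix ρ γ).det} ⊔ Ideal.span (Set.range g) := by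
  classical
  refine sup_le (Ideal.span_le.2 ?_) (hfg.trans le_sup_right)
  rintro _ ⟨ρ, γ, -, hγ, rfl⟩
  set I := Ideal.span (Set.range g)
  set J := Ideal.span {d : MvPowerSeries (Fin n) k | ∃ (ρ : Fin r → Fin l) (γ : Fin r → Fin n),
    Function.Injective ρ ∧ Function.Injective γ ∧
      d = ((Matrix.of fun (j : Fin l) (i : Fin n) => MvPowerSeries.pderiv k i (g j)).submatrix ρ γ).det} ⊔ I
  let q := Ideal.Quotient.mk J
  have hg : ∀ s, q (g s) = 0 := fun s => Ideal.Quotient.eq_zero_iff_mem.2
    (Ideal.mem_sup_right (Ideal.subset_span ⟨s, rfl⟩))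
  have hc : ∀ j, ∃ c : Fin l → MvPowerSeries (Fin n) k, ∑ s, c s * g s = f j := fun j =>
    (Submodule.mem_span_range_iff_exists_fun _).1 (hfg (Ideal.subset_span ⟨j, rfl⟩))
  choose c hc using hc
  let v : Fin l → (Fin r → MvPowerSeries (Fin n) k ⧸ J) := fun s i => q (MvPowerSeries.pderiv k (γ i) (g s))
  have hrows : q.mapMatrix ((Matrix.of fun (j : Fin m) (i : Fin n) => MvPowerSeries.pderiv k i (f j)).submatrix ρ γ) =
      Matrix.of fun a => ∑ s, q (c (ρ a) s) • v s := by
    refine Matrix.ext fun a i => ?_
    simp only [RingHom.mapMatrix_apply, Matrix.map_apply, Matrix.submatrix_apply, Matrix.of_apply,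
      Finset.sum_apply, Pi.smul_apply, smul_eq_mul, v]
    rw [← hc (ρ a), map_sum, map_sum]
    refine Finset.sum_congr rfl fun s _ => ?_
    rw [Derivation.leibniz, map_add, smul_eq_mul, smul_eq_mul, map_mul, map_mul, hg s, zero_mul, add_zero]
  show _ ∈ J
  rw [← Ideal.Quotient.eq_zero_iff_mem, RingHom.map_det, hrows]
  change (Matrix.detRowAlternating : (Fin r → MvPowerSeries (Fin n) k ⧸ J) [⋀^Fin r]→ₗ[_] _).toMultilinearMap
    (fun a => ∑ s, q (c (ρ a) s) • v s) = 0
  rw [MultilinearMap.map_sum]
  refine Finset.sum_eq_zero fun φ _ => ?_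
  rw [MultilinearMap.map_smul_univ]
  by_cases hφ : Function.Injective φ
  · have : (Matrix.of fun a => v (φ a)).det = 0 := by
      rw [show (Matrix.of fun a => v (φ a)) = q.mapMatrix
        ((Matrix.of fun (j : Fin l) (i : Fin n) => MvPowerSeries.pderiv k i (g j)).submatrix φ γ) from rfl,
        ← RingHom.map_det, Ideal.Quotient.eq_zero_iff_mem]
      exact Ideal.mem_sup_left (Ideal.subset_span ⟨φ, γ, hφ, hγ, rfl⟩)
    exact smul_eq_zero_of_right _ this
  · obtain ⟨a, b, hab, hne⟩ := Function.not_injective_iff.1 hφ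
    exact smul_eq_zero_of_right _
      (Matrix.det_zero_of_row_eq (M := Matrix.of fun a => v (φ a)) hne (congrArg v hab))

/-- Let k be a field, A = k[[x_1, …, x_n]] and I ⊆ A an ideal generated by f_1, …, f_m and also by g_1,
…, g_l. Then for every r ≥ 0 the ideal of A/I generated by the r × r minors of (∂f_j/∂x_i) equals
the one generated by the r × r minors of (∂g_s/∂x_i); stated in A as equality of the ideals
generated by the minors together with I. (The published result also asserts independence of the
regular system of parameters x_1, …, x_n, which is not stated here.) -/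
theorem result (k : Type u) [Field k] (n m l r : ℕ)
    (f : Fin m → MvPowerSeries (Fin n) k) (g : Fin l → MvPowerSeries (Fin n) k)
    (hfg : Ideal.span (Set.range f) = Ideal.span (Set.range g)) :
    Ideal.span {d : MvPowerSeries (Fin n) k | ∃ (ρ : Fin r → Fin m) (γ : Fin r → Fin n), Function.Injective ρ ∧ Function.Injective γ ∧
          d = ((Matrix.of fun (j : Fin m) (i : Fin n) => MvPowerSeries.pderiv k i (f j)).submatrix ρ γ).det} ⊔ Ideal.span (Set.range f) =
      Ideal.span {d : MvPowerSeries (Fin n) k | ∃ (ρ : Fin r → Fin l) (γ : Fin r → Fin n), Function.Injective ρ ∧ Function.Injective γ ∧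
          d = ((Matrix.of fun (j : Fin l) (i : Fin n) => MvPowerSeries.pderiv k i (g j)).submatrix ρ γ).det} ⊔ Ideal.span (Set.range g) := by
  exact le_antisymm (minors_le k n m l r f g hfg.le) (minors_le k n l m r g f hfg.ge)

end Groth.Agent.S6575
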