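import Groth.Statements.S6579
import Groth.Agent.FFCurve.P1Map
import Groth.Agent.FFCurve.Basic
import Groth.Agent.FFCurve.IsoP1
import Groth.Agent.EulerChar.FiniteMap
import Groth.Agent.BigVol.SemiAmple
import Groth.Agent.VBLib.Line
import Groth.Agent.Props.GenLocus
import Groth.Agent.ShStabLib.BC.Sys

set_option autoImplicit false
universe u
open CategoryTheory CategoryTheory.Limits AlgebraicGeometry
open Curves

namespace Groth.Agent.S6579

/-- Let k be a field and X a proper curve over k all of whose local rings are regular (X integral,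
proper, of dimension one), (L, V) a g^1_d on X with ordered basis s_0, s_1 of V, and φ : X → P^1_k a
morphism over k together with α : φ^*O(1) → L sending φ^*T_i to s_i (the morphism attached to the
linear series). Then either (1) φ is nonconstant and has degree at most d — here: φ does not factor
through a closed point, and k(X) has dimension at most d over the local ring of P^1_k at the image
of the generic point of X (that image is then the generic point, so this is [k(X) : k(P^1_k)] ≤ d) —
or (2) φ maps X (set-theoretically) to a single closed point of P^1_k, and in that case H^0(X, O_X)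
is bigger than k. -/
theorem result (k : Type u) [Field k] (X : Scheme.{u}) [X.Over (Spec (CommRingCat.of k))]
    [IsIntegral X] [IsProper (X ↘ (Spec (CommRingCat.of k)))] (hdim : topologicalKrullDim X = 1) (hreg : ∀ x : X, IsRegularLocalRing (X.presheaf.stalk x))
    (d : ℕ) (L : X.Modules) (s : Fin (1 + 1) → LinSer.Sect X L) (hL : LinSer.IsLinSer k X L d 1 s)
    (φ : X ⟶ CohB1.ProjSpace 1 k) (α : (Scheme.Modules.pullback φ).obj (Twist.twistProjSpace 1 k 1) ⟶ L)
    (hφ : φ ≫ CohB1.ProjSpace.toSpec 1 k = X ↘ (Spec (CommRingCat.of k)) ∧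
        ∀ i : Fin (1 + 1), (α.val.app (Opposite.op ⊤)).hom (OmegaSh.pullSect φ (Twist.twistProjSpace 1 k 1) ⊤ (Twist.globalOf (CohB1.polyGrading 1 k) (⟨MvPolynomial.X i, MvPolynomial.isHomogeneous_X k i⟩ : (CohB1.polyGrading 1 k) 1))) = s i) :
    ((¬ ∃ p : CohB1.ProjSpace 1 k, IsClosed ({p} : Set (CohB1.ProjSpace 1 k)) ∧ Set.range φ ⊆ {p}) ∧
      (letI := (φ.stalkMap (genericPoint X)).hom.toAlgebra
       Module.finrank ((CohB1.ProjSpace 1 k).presheaf.stalk (φ (genericPoint X))) X.functionField ≤ d)) ∨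
    ((∃ p : CohB1.ProjSpace 1 k, IsClosed ({p} : Set (CohB1.ProjSpace 1 k)) ∧ Set.range φ ⊆ {p}) ∧
      Module.finrank k (Coh.HH X (Coh.structureModule X) 0) ≠ 1) := by
  classical
  obtain ⟨hLi, hLd, hind⟩ := hL
  haveI := FFCurve.regCurve_of_regular k hdim hreg
  have hX : VBLib.GoodCurve k X := ⟨inferInstance, fun x => FFCurve.RegCurve.val x, hdim⟩
  obtain ⟨hPp, hPs, hPi, hPd⟩ := FFCurve.p1_facts k
  haveI := hPi
  letI : (CohB1.ProjSpace 1 k).Over (Spec (CommRingCat.of k)) := ⟨CohB1.ProjSpace.toSpec 1 k⟩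
  haveI : IsProper ((CohB1.ProjSpace 1 k) ↘ Spec (CommRingCat.of k)) := hPp
  let M := Twist.twistProjSpace 1 k (1 : ℤ)
  let A := (Scheme.Modules.pullback φ).obj M
  have hM : PicF.IsInvertible M := ProjTwist.isInvertible_twistProjSpace 1 k 1
  have hA : PicF.IsInvertible A := PicCl.isInvertible_pullback φ hM
  have hs0 : s 0 ≠ 0 := fun h => by
    have := hind (Pi.single 0 1) (by
      refine Finset.sum_eq_zero fun i _ => ?_
      by_cases hi : i = 0
      · subst hi; rw [h]; exact smul_zero (A := Γ(L, ⊤)) (_ : Γ(X, ⊤))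
      · simp [Pi.single_eq_of_ne hi])
    simpa using congrFun this 0
  by_cases hξ : φ (genericPoint X) = genericPoint (CohB1.ProjSpace 1 k)
  · -- nonconstant
    refine Or.inl ⟨?_, ?_⟩
    · rintro ⟨p, hp, hsub⟩
      have h1 : φ (genericPoint X) = p := hsub ⟨_, rfl⟩
      have huniv : (Set.univ : Set (CohB1.ProjSpace 1 k)) = {p} := by
        rw [← (genericPoint_spec (CohB1.ProjSpace 1 k)).def, ← hξ, h1]
        exact hp.closure_eq
      have h0 : topologicalKrullDim (CohB1.ProjSpace 1 k) ≤ 0 := by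
        rw [← IsHomeomorph.topologicalKrullDim_eq _ (Homeomorph.Set.univ (CohB1.ProjSpace 1 k)).isHomeomorph]
        exact EulerChar.topDim_le_zero_of_finite (huniv ▸ Set.finite_singleton _) fun z _ => by
          rwa [show z = p from huniv.le (Set.mem_univ z)]
      rw [hPd] at h0
      norm_num at h0
    have hdeg := EulerChar.deg_pullback φ hφ.1 hdim hPd hξ (ProjTwist.isFinLocFreeOfRank_one hM)
    have h1 : Curv2.deg k (CohB1.ProjSpace 1 k) M 1 = 1 := by
      refine (EulerChar.deg_iso k ((Scheme.Modules.pullbackId (CohB1.ProjSpace 1 k)).app M) (n := 1)).symm.trans ?_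
      exact (FFCurve.pullback_twist_one k (Iso.refl (CohB1.ProjSpace 1 k)) (Category.id_comp _)).1
    rw [h1, mul_one] at hdeg
    have hα : α ≠ 0 := fun h => hs0 (by rw [← hφ.2 0, h]; rfl)
    have hAr := ProjTwist.isFinLocFreeOfRank_one hA
    have hLr := ProjTwist.isFinLocFreeOfRank_one hLi
    have hle := (hX.line_hom (VBLib.isFinLocFree_of_ofRank hAr) (VBLib.isFinLocFree_of_ofRank hLr)
      (VBLib.rk_eq hAr) (VBLib.rk_eq hLr) α hα).2.1
    rw [VBLib.dg, VBLib.dg, VBLib.rk_eq hAr, VBLib.rk_eq hLr, hdeg, hLd] at hle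
    letI := (φ.stalkMap (genericPoint X)).hom.toAlgebra
    have hY' : IsField ((CohB1.ProjSpace 1 k).presheaf.stalk (φ (genericPoint X))) := by
      rw [hξ]
      exact Field.toIsField (CohB1.ProjSpace 1 k).functionField
    have hX' : IsField (X.presheaf.stalk (genericPoint X)) := Field.toIsField X.functionField
    have b : ∀ {Z : Scheme.{u}} (z : Z), IsField (Z.presheaf.stalk z) → Function.Bijective (Z.residue z) :=
      fun {Z} z h => by
        refine ⟨(injective_iff_map_eq_zero _).2 fun a ha => ?_, Z.residue_surjective z⟩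
        have : a ∈ IsLocalRing.maximalIdeal (Z.presheaf.stalk z) := Ideal.Quotient.eq_zero_iff_mem.1 ha
        rwa [IsLocalRing.isField_iff_maximalIdeal_eq.1 h, Ideal.mem_bot] at this
    letI := (φ.residueFieldMap (genericPoint X)).hom.toAlgebra
    have hfr : Module.finrank ((CohB1.ProjSpace 1 k).presheaf.stalk (φ (genericPoint X))) X.functionField =
        φ.residueDegree (genericPoint X) := by
      refine Algebra.finrank_eq_of_equiv_equiv (RingEquiv.ofBijective ((CohB1.ProjSpace 1 k).residue _).hom (b _ hY'))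
        (RingEquiv.ofBijective (X.residue _).hom (b _ hX')) ?_
      exact RingHom.ext fun a => ConcreteCategory.congr_hom (Scheme.residue_residueFieldMap φ (genericPoint X)) a
    rw [hfr]
    exact_mod_cast hle
  · -- constant
    have hp := VarDim.isClosed_singleton_of_ne_genericPoint (X := CohB1.ProjSpace 1 k) k hPd hξ
    have hall : ∀ x : X, φ x = φ (genericPoint X) := fun x => by
      have hx : x ∈ φ ⁻¹' {φ (genericPoint X)} := by
        refine (hp.preimage φ.continuous).closure_subset_iff.2 (Set.singleton_subset_iff.2 rfl) ?_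
        rw [(genericPoint_spec X).def]; trivial
      exact hx
    refine Or.inr ⟨⟨_, hp, Set.range_subset_iff.2 hall⟩, fun h0 => ?_⟩
    obtain ⟨v⟩ := BigVol.SemiAmple.nonempty_pullback_iso_unit φ _ hall hM
    letI : Module k Γ(Coh.structureModule X, ⊤) :=
      Module.compHom _ (KSMod.kTop k (X ↘ Spec (CommRingCat.of k)))
    have h1 : Module.finrank k Γ(Coh.structureModule X, ⊤) = 1 :=
      ((ShStabLib.BC.h0Equiv (k := k) (Coh.structureModule X)).finrank_eq).symm.trans h0
    have hne : (Groth.Agent.Props.GenLocus.one' ⊤ : Γ(Coh.structureModule X, ⊤)) ≠ 0 := fun h => by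
      have h' : (1 : Γ(X, ⊤)) = 0 := h
      exact one_ne_zero h'
    have hc := (finrank_eq_one_iff_of_nonzero' _ hne).1 h1
    let T : Fin (1 + 1) → Γ(A, ⊤) := fun i => OmegaSh.pullSect φ M ⊤ (Twist.globalOf (CohB1.polyGrading 1 k)
      (⟨MvPolynomial.X i, MvPolynomial.isHomogeneous_X k i⟩ : (CohB1.polyGrading 1 k) 1))
    choose c hc' using fun i => hc (v.hom.app ⊤ (T i))
    set g := v.inv ≫ α
    let K : k →+* Γ(X, ⊤) := Coh.toGlobal (X ↘ Spec (CommRingCat.of k))
    let w : Γ(L, ⊤) := g.app ⊤ (Groth.Agent.Props.GenLocus.one' ⊤)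
    have hs : ∀ i, s i = ((K (c i)) • w : Γ(L, ⊤)) := fun i => by
      rw [← hφ.2 i]
      refine Eq.trans ?_ (Scheme.Modules.Hom.app_smul g (K (c i))
        (Groth.Agent.Props.GenLocus.one' ⊤))
      refine Eq.trans ?_ (congrArg (fun t => g.app ⊤ t) (hc' i).symm)
      show α.app ⊤ (T i) = (v.hom ≫ v.inv ≫ α).app ⊤ (T i)
      rw [Iso.hom_inv_id_assoc]
    have := hind ![c 1, -c 0] (by
      rw [Fin.sum_univ_two, hs 0, hs 1]
      show K (c 1) • (K (c 0) • w) + K (-c 0) • (K (c 1) • w) = 0
      simp only [smul_smul, ← map_mul, ← add_smul, ← map_add, Matrix.cons_val_zero, Matrix.cons_val_one]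
      rw [show c 1 * c 0 + -c 0 * c 1 = 0 by ring, map_zero, zero_smul])
    refine hs0 ?_
    have hc0 : c 0 = 0 := neg_eq_zero.1 (congrFun this 1)
    rw [hs 0, hc0, map_zero]
    exact zero_smul Γ(X, ⊤) (_ : Γ(L, ⊤))

end Groth.Agent.S6579
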