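import Groth.Statements.S6580
import Mathlib.CategoryTheory.Triangulated.Pretriangulated
-- import your own Groth.Agent.* helpers here

set_option autoImplicit false
universe v u
open CategoryTheory CategoryTheory.Limits
open CohDer

namespace Groth.Agent.S6580

open CategoryTheory.Pretriangulated in
/-- Let (X, Y, Z, f, g, h) be a distinguished triangle of a pretriangulated category, and let a : X ⟶ X
and c : Z ⟶ Z be idempotents with h ≫ a⟦1⟧ = c ≫ h. Then there is an idempotent b : Y ⟶ Y such that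
(a, b, c) is an endomorphism of the triangle. -/
theorem result {D : Type u} [Category.{v} D] [Preadditive D] [HasZeroObject D] [HasShift D ℤ]
    [∀ n : ℤ, (shiftFunctor D n).Additive] [Pretriangulated D]
    (T : Triangle D) (hT : T ∈ distinguishedTriangles) (a : T.obj₁ ⟶ T.obj₁) (c : T.obj₃ ⟶ T.obj₃)
    (ha : a ≫ a = a) (hc : c ≫ c = c) (comm : T.mor₃ ≫ (shiftFunctor D (1 : ℤ)).map a = c ≫ T.mor₃) :
    ∃ b : T.obj₂ ⟶ T.obj₂, b ≫ b = b ∧ T.mor₁ ≫ b = a ≫ T.mor₁ ∧ T.mor₂ ≫ c = b ≫ T.mor₂ := by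
  obtain ⟨b, hb₁, hb₂⟩ := complete_distinguished_triangle_morphism₂ T T hT hT a c comm
  set d := b ≫ b - b with hd
  have hd₁ : T.mor₁ ≫ d = 0 := by
    rw [hd, Preadditive.comp_sub, reassoc_of% hb₁, hb₁, ← Category.assoc a, ha, sub_self]
  have hd₂ : d ≫ T.mor₂ = 0 := by
    rw [hd, Preadditive.sub_comp, Category.assoc, ← hb₂, ← Category.assoc b, ← hb₂, Category.assoc,
      hc, sub_self]
  have hd0 : d ≫ d = 0 := by
    obtain ⟨k, hk⟩ := Triangle.yoneda_exact₂ T hT d hd₁
    conv_lhs => arg 2; rw [hk]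
    rw [reassoc_of% hd₂, zero_comp]
  have hbd : b ≫ d = d ≫ b := by simp [hd]
  have hbb : b ≫ b = b + d := by rw [hd, add_sub_cancel]
  refine ⟨b + (d - d ≫ b - d ≫ b), ?_, ?_, ?_⟩
  · simp only [Preadditive.comp_add, Preadditive.add_comp, Preadditive.comp_sub,
      Preadditive.sub_comp, Category.assoc, reassoc_of% hbd, hbd, hbb, hd0, reassoc_of% hd0,
      zero_comp, comp_zero]
    abel
  · simp [Preadditive.comp_add, Preadditive.comp_sub, hb₁, reassoc_of% hd₁, hd₁]
  · have : d ≫ b ≫ T.mor₂ = 0 := by rw [← hb₂, reassoc_of% hd₂, zero_comp]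
    simp [Preadditive.add_comp, Preadditive.sub_comp, hb₂, hd₂, this]

end Groth.Agent.S6580
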