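import Groth.Statements.S6584
import Mathlib.CategoryTheory.Triangulated.HomologicalFunctor
-- import your own Groth.Agent.* helpers here

set_option autoImplicit false
universe v u v' u'
open CategoryTheory CategoryTheory.Limits
open CohDer

namespace Groth.Agent.S6584

open CategoryTheory.Pretriangulated in
/-- Let H : D ⥤ A be a homological functor from a pretriangulated category to an abelian category. The
full subcategory of D on the objects X with H(X⟦n⟧) = 0 for all n ≫ 0 is a strictly full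
pretriangulated subcategory (zero object, stable under shifts and isomorphisms, closed under
extensions) and is saturated: if X ⊞ Y belongs to it then so do X and Y. -/
theorem result {D : Type u} [Category.{v} D] [Preadditive D] [HasZeroObject D] [HasShift D ℤ]
    [∀ n : ℤ, (shiftFunctor D n).Additive] [Pretriangulated D]
    {A : Type u'} [Category.{v'} A] [Abelian A] (H : D ⥤ A) [H.IsHomological] :
    (ObjectProperty.IsTriangulated (fun X : D => ∃ N : ℤ, ∀ n : ℤ, N ≤ n → IsZero (H.obj ((shiftFunctor D n).obj X)))) ∧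
    (ObjectProperty.IsClosedUnderIsomorphisms (fun X : D => ∃ N : ℤ, ∀ n : ℤ, N ≤ n → IsZero (H.obj ((shiftFunctor D n).obj X)))) ∧
    (∀ X Y : D, (∃ N : ℤ, ∀ n : ℤ, N ≤ n → IsZero (H.obj ((shiftFunctor D n).obj (X ⊞ Y)))) →
      (∃ N : ℤ, ∀ n : ℤ, N ≤ n → IsZero (H.obj ((shiftFunctor D n).obj X))) ∧
      (∃ N : ℤ, ∀ n : ℤ, N ≤ n → IsZero (H.obj ((shiftFunctor D n).obj Y)))) := by
  let P : ObjectProperty D := fun X => ∃ N : ℤ, ∀ n : ℤ, N ≤ n → IsZero (H.obj ((shiftFunctor D n).obj X))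
  have hiso : ∀ X Y : D, (X ≅ Y) → P X → P Y := fun X Y e ⟨N, hN⟩ =>
    ⟨N, fun n hn => (hN n hn).of_iso (H.mapIso ((shiftFunctor D n).mapIso e.symm))⟩
  have : ObjectProperty.IsClosedUnderIsomorphisms P := ⟨fun e h => hiso _ _ e h⟩
  have hret : ∀ X Y : D, ∀ (r : Retract X Y), P Y → P X := fun X Y r ⟨N, hN⟩ => ⟨N, fun n hn =>
    IsZero.of_mono_eq_zero (H.map ((shiftFunctor D n).map r.i)) ((hN n hn).eq_of_tgt _ _)⟩
  refine ⟨?_, this, fun X Y h => ⟨hret _ _ ⟨biprod.inl, biprod.fst, biprod.inl_fst⟩ h,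
    hret _ _ ⟨biprod.inr, biprod.snd, biprod.inr_snd⟩ h⟩⟩
  exact
    { exists_zero := ⟨_, isZero_zero D, 0, fun n _ =>
        H.map_isZero ((shiftFunctor D n).map_isZero (isZero_zero D))⟩
      isStableUnderShiftBy := fun a => ⟨fun X ⟨N, hN⟩ => ⟨N - a, fun n hn =>
        (hN (a + n) (by omega)).of_iso (H.mapIso ((shiftFunctorAdd' D a n _ rfl).app X).symm)⟩⟩
      ext₂' := fun T hT ⟨N₁, hN₁⟩ ⟨N₃, hN₃⟩ => ⟨_, ⟨max N₁ N₃, fun n hn => by
        have hex := H.map_distinguished_exact _ (Triangle.shift_distinguished T hT n)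
        refine hex.isZero_of_both_zeros ?_ ?_
        · apply IsZero.eq_of_src
          exact hN₁ n (by omega)
        · apply IsZero.eq_of_tgt
          exact hN₃ n (by omega)⟩, ⟨Iso.refl _⟩⟩ }

end Groth.Agent.S6584
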