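import Groth.Statements.S6585
import Groth.Agent.DHA.Orth

set_option autoImplicit false
universe v u
open CategoryTheory CategoryTheory.Limits
open CohDer

namespace Groth.Agent.S6585

open CategoryTheory.Pretriangulated in
/-- Let D be a triangulated category and E, K objects of D. Then Hom(E, K⟦i⟧) = 0 for all integers i if
and only if Hom(E', K) = 0 for every E' in ⟨E⟩, the smallest strictly full saturated triangulated
subcategory of D containing E (the objects obtained from E by shifts, finite direct sums, direct
summands and extensions). -/
theorem result {D : Type u} [Category.{v} D] [Preadditive D] [HasZeroObject D] [HasShift D ℤ]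
    [∀ n : ℤ, (shiftFunctor D n).Additive] [Pretriangulated D] [IsTriangulated D]
    (E K : D) :
    (∀ (i : ℤ) (f : E ⟶ (shiftFunctor D i).obj K), f = 0) ↔
      ∀ (E' : D), (ObjectProperty.singleton E).triangEnvelope E' → ∀ f : E' ⟶ K, f = 0 := by
  constructor
  · intro h E' hE' f
    have hle : (ObjectProperty.singleton E).triangEnvelope ≤ Groth.Agent.DHA.Orth.leftOrth K :=
      (ObjectProperty.triangEnvelope_le_iff _).2 (by rintro X ⟨⟩ n f; exact h n f)
    have := hle E' hE' 0 (f ≫ (shiftFunctorZero D ℤ).inv.app K)
    simpa [Preadditive.IsIso.comp_right_eq_zero] using this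
  · intro h i f
    have hE : (ObjectProperty.singleton E).triangEnvelope ((shiftFunctor D (-i)).obj E) :=
      ((ObjectProperty.singleton E).triangEnvelope).le_shift (-i) _
        (ObjectProperty.le_triangEnvelope _ _ (by simp))
    apply (shiftFunctor D (-i)).map_injective
    have := h _ hE (f⟦-i⟧' ≫ (shiftFunctorCompIsoId D i (-i) (by omega)).hom.app K)
    simpa [Preadditive.IsIso.comp_right_eq_zero] using this

end Groth.Agent.S6585
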