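import Groth.Statements.S6586
import Groth.Agent.DHA.Orth

set_option autoImplicit false
universe v u
open CategoryTheory CategoryTheory.Limits
open CohDer

namespace Groth.Agent.S6586

/-- Fix a triangulated category D together with an object E in it. Suppose E classically generates D,
i.e. ⟨E⟩ = D; then E is a generator of D: an object K with Hom(E, K⟦n⟧) = 0 for all n is zero. -/
theorem result {D : Type u} [Category.{v} D] [Preadditive D] [HasZeroObject D] [HasShift D ℤ]
    [∀ n : ℤ, (shiftFunctor D n).Additive] [Pretriangulated D] [IsTriangulated D]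
    (E : D) (hE : (ObjectProperty.singleton E).IsClassicalTriangulatedGenerator) :
    CohDer.Generates (fun _ : PUnit.{1} => E) := by
  intro K hK
  have hle : (ObjectProperty.singleton E).triangEnvelope ≤ Groth.Agent.DHA.Orth.leftOrth K :=
    (ObjectProperty.triangEnvelope_le_iff _).2
      (by rintro X ⟨⟩ n f; exact hK PUnit.unit n f)
  have h : (shiftFunctorZero D ℤ).inv.app K = 0 :=
    hle K (by rw [hE]; trivial) 0 _
  exact IsZero.of_mono_eq_zero ((shiftFunctorZero D ℤ).inv.app K) h

end Groth.Agent.S6586
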