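import Groth.Statements.S6587


set_option autoImplicit false
universe v u
open CategoryTheory CategoryTheory.Limits Opposite
open CohDer

namespace Groth.Agent.S6587

open CategoryTheory.Pretriangulated in
/-- Let D be a triangulated category and let X_n → Y_n → Z_n → X_n⟦1⟧ be an inverse system of
distinguished triangles of D indexed by ℕ (levelwise maps f, g, h of inverse systems, each level
distinguished). If the inverse system (Z_n) is pro-zero, then the levelwise map f : (X_n) → (Y_n) is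
a pro-isomorphism. -/
theorem result {D : Type u} [Category.{v} D] [Preadditive D] [HasZeroObject D] [HasShift D ℤ]
    [∀ n : ℤ, (shiftFunctor D n).Additive] [Pretriangulated D] [IsTriangulated D]
    (X Y Z : ARSys.PS D) (f : X ⟶ Y) (g : Y ⟶ Z) (h : Z ⟶ X ⋙ shiftFunctor D (1 : ℤ))
    (hT : ∀ n : ℕ, Triangle.mk (f.app (op n)) (g.app (op n)) (h.app (op n)) ∈ distinguishedTriangles)
    (hZ : DerCA.IsProZero Z) :
    DerCA.IsProIso f := by
  intro n
  obtain ⟨n', hn', hz'⟩ := hZ n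
  obtain ⟨m, hm, hz⟩ := hZ n'
  have hg : ARSys.tr Y hm ≫ g.app (op n') = 0 := by
    rw [ARSys.tr, g.naturality, show Z.map (homOfLE hm).op = 0 from hz, comp_zero]
  obtain ⟨b₁, hb₁⟩ : ∃ b₁ : Y.obj (op m) ⟶ X.obj (op n'), ARSys.tr Y hm = b₁ ≫ f.app (op n') :=
    Triangle.coyoneda_exact₂ _ (hT n') _ hg
  have hδ : (f.app (op m) ≫ b₁ - ARSys.tr X hm) ≫ f.app (op n') = 0 := by
    rw [Preadditive.sub_comp, Category.assoc, ← hb₁, ARSys.tr, ARSys.tr, f.naturality, sub_self]
  obtain ⟨k, hk⟩ : ∃ k, (f.app (op m) ≫ b₁ - ARSys.tr X hm)⟦(1 : ℤ)⟧' = k ≫ h.app (op n') :=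
    Triangle.coyoneda_exact₁ _ (hT n')
      ((f.app (op m) ≫ b₁ - ARSys.tr X hm)⟦(1 : ℤ)⟧') (by
        exact ((shiftFunctor D (1 : ℤ)).map_comp _ (f.app (op n'))).symm.trans (by rw [hδ, Functor.map_zero]; rfl))
  have h0 : (f.app (op m) ≫ b₁ - ARSys.tr X hm) ≫ ARSys.tr X hn' = 0 := by
    apply (shiftFunctor D (1 : ℤ)).map_injective
    rw [Functor.map_comp, hk, Functor.map_zero, Category.assoc]
    have := h.naturality (homOfLE hn').op
    rw [Functor.comp_map, show Z.map (homOfLE hn').op = 0 from hz', zero_comp] at this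
    rw [ARSys.tr, ← this, comp_zero]
  refine ⟨m, hn'.trans hm, b₁ ≫ ARSys.tr X hn', ?_, ?_⟩
  · rw [Preadditive.sub_comp, sub_eq_zero, Category.assoc] at h0
    rw [h0, ARSys.tr, ARSys.tr, ← Functor.map_comp]
    rfl
  · rw [Category.assoc, ARSys.tr, f.naturality, ← Category.assoc, ← hb₁, ARSys.tr, ← Functor.map_comp]
    rfl

end Groth.Agent.S6587
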