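import Groth.Statements.S6592
import Groth.Prelude.Def_DerLim
import Mathlib.Algebra.BigOperators.Intervals
-- import your own Groth.Agent.* helpers here

set_option autoImplicit false
universe v u
open CategoryTheory CategoryTheory.Limits
open DerLim

namespace Groth.Agent.S6592


section Helpers

open CategoryTheory.Limits Pretriangulated

set_option linter.unusedSectionVars false

variable {D : Type u} [Category.{v} D] [Preadditive D] [HasZeroObject D] [HasShift D ℤ]
  [∀ n : ℤ, (shiftFunctor D n).Additive] [Pretriangulated D]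
  (F : ℕ ⥤ D) (n : ℕ → ℕ) [HasCoproduct (fun m : ℕ => F.obj m)]
  [HasCoproduct (fun i : ℕ => F.obj (n i))]

/-- composite transition map followed by the inclusion -/
noncomputable def toSum (m j : ℕ) : F.obj m ⟶ ∐ fun k : ℕ => F.obj k :=
  if h : m ≤ j then F.map (homOfLE h) ≫ Sigma.ι (fun k : ℕ => F.obj k) j else 0

lemma toSum_of_le {m j : ℕ} (h : m ≤ j) :
    toSum F m j = F.map (homOfLE h) ≫ Sigma.ι (fun k : ℕ => F.obj k) j := dif_pos h

lemma toSum_self (m : ℕ) : toSum F m m = Sigma.ι (fun k : ℕ => F.obj k) m := by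
  rw [toSum_of_le F le_rfl]; simp

lemma comp_toSum {m m' j : ℕ} (h : m ≤ m') (h' : m' ≤ j) :
    F.map (homOfLE h) ≫ toSum F m' j = toSum F m j := by
  rw [toSum_of_le F h', toSum_of_le F (h.trans h'), ← Functor.map_comp_assoc]
  rfl

/-- `1 - shift` -/
noncomputable abbrev oneSub (K : ℕ → D) [HasCoproduct K] (f : ∀ m, K m ⟶ K (m + 1)) :
    ∐ K ⟶ ∐ K := 𝟙 (∐ K) - DerLim.shiftMap K f

lemma ι_oneSub (K : ℕ → D) [HasCoproduct K] (f : ∀ m, K m ⟶ K (m + 1)) (m : ℕ) :
    Sigma.ι K m ≫ oneSub K f = Sigma.ι K m - f m ≫ Sigma.ι K (m + 1) := by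
  rw [Preadditive.comp_sub, Category.comp_id, DerLim.shiftMap, Sigma.ι_desc]

lemma map_comp_ι {L : D} (ι : ∀ m : ℕ, F.obj m ⟶ L)
    (hL : DerLim.IsHocolim (fun m : ℕ => F.obj m)
      (fun m : ℕ => F.map (homOfLE (Nat.le_succ m))) L ι)
    {m m' : ℕ} (h : m ≤ m') : F.map (homOfLE h) ≫ ι m' = ι m := by
  obtain ⟨c, hT⟩ := hL
  have h0 : oneSub (fun m : ℕ => F.obj m) (fun m => F.map (homOfLE (Nat.le_succ m))) ≫
      Sigma.desc ι = 0 := comp_distTriang_mor_zero₁₂ _ hT
  have hs : ∀ k, F.map (homOfLE (Nat.le_succ k)) ≫ ι (k + 1) = ι k := fun k => by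
    have := Sigma.ι (fun m : ℕ => F.obj m) k ≫= h0
    rw [comp_zero, ← Category.assoc, ι_oneSub, Preadditive.sub_comp, Category.assoc,
      Sigma.ι_desc, Sigma.ι_desc, sub_eq_zero] at this
    exact this.symm
  induction h with
  | refl => simp
  | @step k h' ih =>
    conv_rhs => rw [← ih, ← hs k]
    rw [← Functor.map_comp_assoc]
    rfl

lemma oneSub_toSum (m N : ℕ) (hm : m ≤ N) :
    ∑ j ∈ Finset.Ico m N, toSum F m j ≫
        oneSub (fun k : ℕ => F.obj k) (fun k => F.map (homOfLE (Nat.le_succ k))) =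
      toSum F m m - toSum F m N := by
  have e : ∀ j ∈ Finset.Ico m N, toSum F m j ≫
        oneSub (fun k : ℕ => F.obj k) (fun k => F.map (homOfLE (Nat.le_succ k))) =
      (-toSum F m (j + 1)) - (-toSum F m j) := fun j hj => by
    have hj' := (Finset.mem_Ico.1 hj).1
    rw [toSum_of_le F hj', toSum_of_le F (hj'.trans (Nat.le_succ j)), Category.assoc, ι_oneSub,
      Preadditive.comp_sub, ← Functor.map_comp_assoc, homOfLE_comp, neg_sub_neg]
  rw [Finset.sum_congr rfl e, Finset.sum_Ico_sub (fun j => -toSum F m j) hm]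
  simp [sub_eq_add_neg, add_comm]

end Helpers

/-- Let D be a triangulated category, (K_m, f_m) a system of objects of D indexed by ℕ (given as a
functor F : ℕ ⥤ D) and n₁ < n₂ < … a strictly increasing sequence. Assume ⨁ K_m and ⨁ K_{n_i} exist.
If L is a homotopy colimit of (K_m) and L' a homotopy colimit of the subsequence (K_{n_i}) (with the
composite transition maps), then there is an isomorphism L' ≅ L under which the structure map
K_{n_i} ⟶ L' corresponds to K_{n_i} ⟶ L for every i. -/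
theorem result {D : Type u} [Category.{v} D] [Preadditive D] [HasZeroObject D] [HasShift D ℤ]
    [∀ n : ℤ, (shiftFunctor D n).Additive] [Pretriangulated D] [IsTriangulated D]
    (F : ℕ ⥤ D) (n : ℕ → ℕ) (hn : StrictMono n)
    [HasCoproduct (fun m : ℕ => F.obj m)] [HasCoproduct (fun i : ℕ => F.obj (n i))]
    (L : D) (ι : ∀ m : ℕ, F.obj m ⟶ L)
    (hL : DerLim.IsHocolim (fun m : ℕ => F.obj m) (fun m : ℕ => F.map (homOfLE (Nat.le_succ m))) L ι)
    (L' : D) (ι' : ∀ i : ℕ, F.obj (n i) ⟶ L')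
    (hL' : DerLim.IsHocolim (fun i : ℕ => F.obj (n i)) (fun i : ℕ => F.map (homOfLE (hn.monotone (Nat.le_succ i)))) L' ι') :
    ∃ e : L' ≅ L, ∀ i : ℕ, ι' i ≫ e.hom = ι (n i) := by
  classical
  have hcompat := fun {m m' : ℕ} (h : m ≤ m') => map_comp_ι F ι hL h
  obtain ⟨c', hT'⟩ := hL'
  obtain ⟨c, hT⟩ := hL
  open CategoryTheory.Limits CategoryTheory.Pretriangulated in
  let K := fun m : ℕ => F.obj m
  let K' := fun i : ℕ => F.obj (n i)
  let f := fun m : ℕ => F.map (homOfLE (Nat.le_succ m))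
  let f' := fun i : ℕ => F.map (homOfLE (hn.monotone (Nat.le_succ i)))
  have hex : ∀ m, ∃ i, m ≤ n i := fun m => ⟨m, hn.id_le m⟩
  let σ := fun m => Nat.find (hex m)
  have hσ : ∀ m, m ≤ n (σ m) := fun m => Nat.find_spec (hex m)
  have hσmin : ∀ m i, m ≤ n i → σ m ≤ i := fun m i h => Nat.find_min' (hex m) h
  have hσn : ∀ i, σ (n i) = i := fun i =>
    le_antisymm (hσmin _ i le_rfl) (hn.le_iff_le.1 (hσ (n i)))
  have hσne : ∀ i m, n i < m → m ≤ n (i + 1) → σ m = i + 1 := fun i m h₁ h₂ =>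
    le_antisymm (hσmin _ _ h₂) (hn.lt_iff_lt.1 (h₁.trans_le (hσ m)))
  let a : ∐ K' ⟶ ∐ K := Sigma.desc fun i => ∑ j ∈ Finset.Ico (n i) (n (i + 1)), toSum F (n i) j
  let b : ∐ K' ⟶ ∐ K := Sigma.desc fun i => Sigma.ι K (n i)
  let cc : ∐ K ⟶ ∐ K' := Sigma.desc fun m => F.map (homOfLE (hσ m)) ≫ Sigma.ι K' (σ m)
  let d : ∐ K ⟶ ∐ K' := Sigma.desc fun m =>
    if h : n (σ m) = m then F.map (homOfLE h.ge) ≫ Sigma.ι K' (σ m) else 0
  have hab : oneSub K' f' ≫ b = a ≫ oneSub K f := Sigma.hom_ext _ _ fun i => by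
    rw [← Category.assoc, ι_oneSub, Preadditive.sub_comp, Category.assoc, Sigma.ι_desc,
      Sigma.ι_desc, Sigma.ι_desc_assoc, Preadditive.sum_comp,
      oneSub_toSum F _ _ (hn.monotone (Nat.le_succ i)), toSum_self,
      toSum_of_le F (hn.monotone (Nat.le_succ i))]
  have hcd : oneSub K f ≫ cc = d ≫ oneSub K' f' := Sigma.hom_ext _ _ fun m => by
    rw [← Category.assoc, ι_oneSub, Preadditive.sub_comp, Category.assoc, Sigma.ι_desc,
      Sigma.ι_desc, Sigma.ι_desc_assoc]
    by_cases h : n (σ m) = m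
    · rw [dif_pos h, Category.assoc, ι_oneSub, Preadditive.comp_sub]
      congr 1
      have h2 : σ (m + 1) = σ m + 1 := hσne (σ m) (m + 1) (by omega)
        (by have := hn (Nat.lt_add_one (σ m)); omega)
      show F.map _ ≫ F.map _ ≫ Sigma.ι K' (σ (m + 1)) = F.map _ ≫ F.map _ ≫ Sigma.ι K' (σ m + 1)
      rw [← Functor.map_comp_assoc, ← Functor.map_comp_assoc, homOfLE_comp, homOfLE_comp]
      generalize_proofs p₁ p₂
      revert p₁
      rw [h2]
      intro p₁
      rfl
    · rw [dif_neg h, zero_comp, sub_eq_zero]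
      have h2 : σ (m + 1) = σ m :=
        le_antisymm (hσmin _ _ (by have := hσ m; omega))
          (hσmin _ _ (by have := hσ (m + 1); omega))
      rw [← Functor.map_comp_assoc, homOfLE_comp]
      generalize_proofs p₁ p₂
      revert p₂
      rw [h2]
      intro p₂
      rfl
  obtain ⟨g, hg₂, hg₃⟩ : ∃ g : L' ⟶ L, Sigma.desc ι' ≫ g = b ≫ Sigma.desc ι ∧
      c' ≫ (shiftFunctor D (1 : ℤ)).map a = g ≫ c :=
    Pretriangulated.complete_distinguished_triangle_morphism _ _ hT' hT a b hab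
  obtain ⟨g', hg'₂, hg'₃⟩ : ∃ g : L ⟶ L', Sigma.desc ι ≫ g = cc ≫ Sigma.desc ι' ∧
      c ≫ (shiftFunctor D (1 : ℤ)).map d = g ≫ c' :=
    Pretriangulated.complete_distinguished_triangle_morphism _ _ hT hT' d cc hcd
  have hbc : b ≫ cc = 𝟙 _ := Sigma.hom_ext _ _ fun i => by
    rw [Sigma.ι_desc_assoc, Sigma.ι_desc, Category.comp_id]
    generalize_proofs p₁
    revert p₁
    rw [hσn i]
    intro p₁
    exact (congrArg (· ≫ Sigma.ι K' i) (F.map_id _)).trans (Category.id_comp _)
  have had : a ≫ d = 𝟙 _ := Sigma.hom_ext _ _ fun i => by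
    rw [Sigma.ι_desc_assoc, Preadditive.sum_comp, Category.comp_id]
    rw [Finset.sum_eq_single (n i)]
    · rw [toSum_self, Sigma.ι_desc, dif_pos (by rw [hσn])]
      generalize_proofs p₁
      revert p₁
      rw [hσn i]
      intro p₁
      exact (congrArg (· ≫ Sigma.ι K' i) (F.map_id _)).trans (Category.id_comp _)
    · intro j hj hne
      obtain ⟨h₁, h₂⟩ := Finset.mem_Ico.1 hj
      have h2 := hσne i j (by omega) (by omega)
      rw [toSum_of_le F h₁, Category.assoc, Sigma.ι_desc, dif_neg (by rw [h2]; omega), comp_zero]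
    · intro hni
      exact absurd (Finset.mem_Ico.2 ⟨le_rfl, hn (Nat.lt_succ_self i)⟩) hni
  have h₁ : IsIso (g ≫ g') :=
    let φ : Pretriangulated.Triangle.mk (oneSub K' f') (Sigma.desc ι') c' ⟶
        Pretriangulated.Triangle.mk (oneSub K' f') (Sigma.desc ι') c' :=
      { hom₁ := 𝟙 _
        hom₂ := 𝟙 _
        hom₃ := g ≫ g'
        comm₁ := (Category.comp_id _).trans (Category.id_comp _).symm
        comm₂ := by
          show Sigma.desc ι' ≫ g ≫ g' = 𝟙 _ ≫ Sigma.desc ι'
          rw [Category.id_comp, ← Category.assoc, hg₂, Category.assoc, hg'₂, ← Category.assoc, hbc,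
            Category.id_comp]
        comm₃ := by
          show c' ≫ (shiftFunctor D (1 : ℤ)).map (𝟙 (∐ K')) = (g ≫ g') ≫ c'
          rw [← had, Functor.map_comp, ← Category.assoc, hg₃, Category.assoc, hg'₃, Category.assoc] }
    Pretriangulated.isIso₃_of_isIso₁₂ φ hT' hT' (inferInstanceAs (IsIso (𝟙 _))) (inferInstanceAs (IsIso (𝟙 _)))
  have h₂ : IsIso (g' ≫ g) := by
    let H : ∐ K ⟶ ∐ K := Sigma.desc fun m => -∑ j ∈ Finset.Ico m (n (σ m)), toSum F m j
    have hH : d ≫ a = 𝟙 _ + oneSub K f ≫ H := Sigma.hom_ext _ _ fun m => by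
      rw [Preadditive.comp_add, Category.comp_id, ← Category.assoc _ (oneSub K f), ι_oneSub,
        Preadditive.sub_comp, Category.assoc, Sigma.ι_desc, Sigma.ι_desc, Sigma.ι_desc_assoc,
        Preadditive.comp_neg, Preadditive.comp_sum, sub_neg_eq_add, ← toSum_self F m]
      by_cases h : n (σ m) = m
      · have h2 : σ (m + 1) = σ m + 1 := hσne (σ m) (m + 1) (by omega)
          (by have := hn (Nat.lt_add_one (σ m)); omega)
        rw [dif_pos h, Category.assoc, Sigma.ι_desc, Preadditive.comp_sum, h2]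
        have e : ∑ j ∈ Finset.Ico (n (σ m)) (n (σ m + 1)),
            F.map (homOfLE h.ge) ≫ toSum F (n (σ m)) j =
              ∑ j ∈ Finset.Ico m (n (σ m + 1)), toSum F m j :=
          Finset.sum_congr (by rw [h]) fun j hj =>
            comp_toSum F _ (by have := (Finset.mem_Ico.1 hj).1; omega)
        have e' : ∑ j ∈ Finset.Ico (m + 1) (n (σ m + 1)), f m ≫ toSum F (m + 1) j =
            ∑ j ∈ Finset.Ico (m + 1) (n (σ m + 1)), toSum F m j :=
          Finset.sum_congr rfl fun j hj => comp_toSum F _ (Finset.mem_Ico.1 hj).1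
        rw [e, e', h, Finset.Ico_self, Finset.sum_empty, neg_zero, zero_add,
          Finset.sum_eq_sum_Ico_succ_bot (by have := hn (Nat.lt_add_one (σ m)); omega)]
      · have h2 : σ (m + 1) = σ m :=
          le_antisymm (hσmin _ _ (by have := hσ m; omega))
            (hσmin _ _ (by have := hσ (m + 1); omega))
        have hlt : m < n (σ m) := lt_of_le_of_ne (hσ m) (Ne.symm h)
        rw [dif_neg h, zero_comp, h2, Finset.sum_eq_sum_Ico_succ_bot hlt]
        have e : ∑ j ∈ Finset.Ico (m + 1) (n (σ m)), f m ≫ toSum F (m + 1) j =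
            ∑ j ∈ Finset.Ico (m + 1) (n (σ m)), toSum F m j :=
          Finset.sum_congr rfl fun j hj => comp_toSum F _ (Finset.mem_Ico.1 hj).1
        rw [e]
        abel
    have hq : Sigma.desc ι ≫ g' ≫ g = Sigma.desc ι := by
      rw [← Category.assoc, hg'₂, Category.assoc, hg₂, ← Category.assoc]
      refine Sigma.hom_ext _ _ fun m => ?_
      simp only [b, cc, Category.assoc, Sigma.ι_desc_assoc, Sigma.ι_desc]
      exact hcompat (hσ m)
    have hcψ : (g' ≫ g) ≫ c = c := by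
      rw [Category.assoc, ← hg₃, ← Category.assoc, ← hg'₃, Category.assoc, ← Functor.map_comp, hH,
        Functor.map_add, CategoryTheory.Functor.map_id, Functor.map_comp, Preadditive.comp_add]
      have h31 : c ≫ (shiftFunctor D (1 : ℤ)).map (oneSub K f) = 0 :=
        Pretriangulated.comp_distTriang_mor_zero₃₁ _ hT
      rw [← Category.assoc c, h31, zero_comp, add_zero]
      exact Category.comp_id _
    set δ := g' ≫ g - 𝟙 L with hδ
    obtain ⟨h, hh⟩ : ∃ h, δ = c ≫ h := Pretriangulated.Triangle.yoneda_exact₃ _ hT δ (by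
      show Sigma.desc ι ≫ δ = 0
      rw [hδ, Preadditive.comp_sub, hq, Category.comp_id, sub_self])
    have hsq : δ ≫ δ = 0 := by
      conv_lhs => arg 2; rw [hh]
      rw [← Category.assoc, hδ, Preadditive.sub_comp, hcψ, Category.id_comp, sub_self, zero_comp]
    have he : g' ≫ g = 𝟙 _ + δ := by rw [hδ, add_sub_cancel]
    refine ⟨𝟙 _ - δ, ?_, ?_⟩
    · rw [he]; simp [Preadditive.comp_sub, Preadditive.add_comp, hsq]
    · rw [he]; simp [Preadditive.sub_comp, Preadditive.comp_add, hsq]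
  have : IsSplitMono g := ⟨⟨⟨g' ≫ inv (g ≫ g'), by rw [← Category.assoc]; simp⟩⟩⟩
  have : IsSplitEpi g := ⟨⟨⟨inv (g' ≫ g) ≫ g', by simp⟩⟩⟩
  have : IsIso g := isIso_of_mono_of_isSplitEpi g
  refine ⟨asIso g, fun i => ?_⟩
  have := Sigma.ι K' i ≫= hg₂
  rw [Sigma.ι_desc_assoc, Sigma.ι_desc_assoc, Sigma.ι_desc] at this
  exact this

end Groth.Agent.S6592
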