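import Groth.Statements.S6594
import Mathlib.CategoryTheory.Triangulated.Pretriangulated

set_option autoImplicit false
universe v u
open CategoryTheory CategoryTheory.Limits
open CohDer

namespace Groth.Agent.S6594

open CategoryTheory.Pretriangulated in
/-- (1) ⇔ (3): let D be a pretriangulated category and f : X ⟶ Y a morphism. Then f has a kernel if and
only if f is isomorphic to a composite K ⊞ Z → Z → Z ⊞ Q of a projection and a coprojection for some
objects K, Z, Q. -/
theorem result {D : Type u} [Category.{v} D] [Preadditive D] [HasZeroObject D] [HasShift D ℤ]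
    [∀ n : ℤ, (shiftFunctor D n).Additive] [Pretriangulated D]
    {X Y : D} (f : X ⟶ Y) :
    HasKernel f ↔ ∃ (K Z Q : D) (e₁ : X ≅ K ⊞ Z) (e₂ : Y ≅ Z ⊞ Q),
      f = e₁.hom ≫ biprod.snd ≫ biprod.inl ≫ e₂.inv := by
  have split : ∀ {A B : D} (m : A ⟶ B), Mono m → ∃ (Q : D) (e : B ≅ A ⊞ Q), m ≫ e.hom = biprod.inl := by
    intro A B m hm
    obtain ⟨Q, q, r, hT⟩ := distinguished_cocone_triangle m
    obtain ⟨e, he, -⟩ := exists_iso_binaryBiproduct_of_distTriang _ hT
      ((Triangle.mor₃_eq_zero_iff_mono₁ _ hT).2 hm)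
    exact ⟨Q, e, he⟩
  constructor
  · intro hk
    obtain ⟨Z, e₁, he₁⟩ := split (kernel.ι f) inferInstance
    let f' : Z ⟶ Y := biprod.inr ≫ e₁.inv ≫ f
    have hι : biprod.inl ≫ e₁.inv ≫ f = 0 := by
      rw [← he₁]; simp
    haveI : Mono f' := Preadditive.mono_of_cancel_zero _ fun {T} t ht => by
      have h0 : (t ≫ biprod.inr ≫ e₁.inv) ≫ f = 0 := by simpa [f'] using ht
      have h1 := congrArg (fun φ => φ ≫ e₁.hom ≫ biprod.snd) (kernel.lift_ι f _ h0)
      simp only [Category.assoc, reassoc_of% he₁, biprod.inl_snd, comp_zero,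
        Iso.inv_hom_id_assoc, biprod.inr_snd, Category.comp_id] at h1
      exact h1.symm
    obtain ⟨Q, e₂, he₂⟩ := split f' inferInstance
    refine ⟨kernel f, Z, Q, e₁, e₂, ?_⟩
    rw [← reassoc_of% he₂, Iso.hom_inv_id, Category.comp_id, ← cancel_epi e₁.inv,
      Iso.inv_hom_id_assoc]
    apply biprod.hom_ext'
    · rw [biprod.inl_snd_assoc, zero_comp]; exact hι
    · rw [biprod.inr_snd_assoc]
  · rintro ⟨K, Z, Q, e₁, e₂, rfl⟩
    refine ⟨⟨⟨KernelFork.ofι (biprod.inl ≫ e₁.inv) (by simp),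
      KernelFork.IsLimit.ofι' _ _ (fun {T} t ht => ⟨t ≫ e₁.hom ≫ biprod.fst, ?_⟩)⟩⟩⟩
    have h' : (t ≫ e₁.hom) ≫ biprod.snd = (0 : T ⟶ Z) := by
      have := congrArg (fun φ => φ ≫ e₂.hom ≫ biprod.fst) ht
      simpa using this
    rw [← cancel_mono e₁.hom]
    simp only [Category.assoc, Iso.inv_hom_id, Category.comp_id]
    apply biprod.hom_ext
    · simp
    · simpa using h'.symm

end Groth.Agent.S6594
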