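import Groth.Statements.S6596
import Groth.Agent.CohDerLib.Postnikov
import Groth.Agent.S6595

set_option autoImplicit false
universe v u
open CategoryTheory CategoryTheory.Limits
open CohDer

namespace Groth.Agent.S6596

open CategoryTheory.Pretriangulated in
/-- Let D be a triangulated category and φ : X ⟶ X' a morphism of chain complexes in D considered in
degrees ≤ n, where a Postnikov system for the complex X_n → … → X_0 consists of objects Y_k, an
isomorphism Y_0 ⟶ X_0, and for 0 ≤ k < n distinguished triangles Y_{k+1} ⟶ X_{k+1} ⟶ Y_k ⟶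
Y_{k+1}⟦1⟧ with X_{k+1} ⟶ Y_k ⟶ X_k the differential. Suppose X and X' carry Postnikov systems (Y,
a, b, c) and (Y', a', b', c'). If Hom(X_i⟦i - j - 1⟧, X'_j) = 0 for all j + 1 < i ≤ n, then φ
extends to a morphism of Postnikov systems: morphisms y_k : Y_k ⟶ Y'_k for k ≤ n forming, with the
φ_k, morphisms of the distinguished triangles and compatible with Y_0 ⟶ X_0 and Y'_0 ⟶ X'_0. -/
theorem result {D : Type u} [Category.{v} D] [Preadditive D] [HasZeroObject D] [HasShift D ℤ]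
    [∀ n : ℤ, (shiftFunctor D n).Additive] [Pretriangulated D] [IsTriangulated D]
    (X X' : ChainComplex D ℕ) (φ : X ⟶ X') (n : ℕ)
    (Y : ℕ → D) (a : ∀ k, Y k ⟶ X.X k) (b : ∀ k, X.X (k + 1) ⟶ Y k)
    (c : ∀ k, Y k ⟶ (shiftFunctor D (1 : ℤ)).obj (Y (k + 1)))
    (h0 : IsIso (a 0))
    (hP : ∀ k, k < n → Triangle.mk (a (k + 1)) (b k) (c k) ∈ distinguishedTriangles ∧ b k ≫ a k = X.d (k + 1) k)
    (qY : ℕ → D) (qa : ∀ k, qY k ⟶ X'.X k) (qb : ∀ k, X'.X (k + 1) ⟶ qY k)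
    (qc : ∀ k, qY k ⟶ (shiftFunctor D (1 : ℤ)).obj (qY (k + 1)))
    (qh0 : IsIso (qa 0))
    (qhP : ∀ k, k < n → Triangle.mk (qa (k + 1)) (qb k) (qc k) ∈ distinguishedTriangles ∧ qb k ≫ qa k = X'.d (k + 1) k)
    (hX : ∀ i j : ℕ, j + 1 < i → i ≤ n → ∀ ψ : (shiftFunctor D ((i : ℤ) - j - 1)).obj (X.X i) ⟶ X'.X j, ψ = 0) :
    ∃ y : ∀ k, Y k ⟶ qY k,
      (∀ k, k ≤ n → y k ≫ qa k = a k ≫ φ.f k) ∧
      (∀ k, k < n → b k ≫ y k = φ.f (k + 1) ≫ qb k ∧ c k ≫ (shiftFunctor D (1 : ℤ)).map (y (k + 1)) = y k ≫ qc k) := by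
  have vanY := Groth.Agent.S6595.result X X' n qY qa qb qc qh0 qhP hX
  have inj : ∀ k, k + 1 ≤ n → ∀ t : X.X (k + 1) ⟶ qY k, t ≫ qa k = 0 → t = 0 := by
    intro k hk t ht
    cases k with
    | zero => haveI := qh0; rw [← cancel_mono (qa 0), zero_comp]; exact ht
    | succ j =>
      refine CohDerLib.Postnikov.eq_zero_of_comp_mor₁ _ _ _ (qhP j (by omega)).1 t ht (fun χ => ?_)
      have h := vanY (j + 1 + 1) j (by omega) hk
      have hs : (((j + 1 + 1 : ℕ) : ℤ) - j - 1) = 1 := by push_cast; omega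
      rw [hs] at h
      exact h χ
  have step : ∀ (k : ℕ) (y : Y k ⟶ qY k), ∃ y' : Y (k + 1) ⟶ qY (k + 1),
      k < n → y ≫ qa k = a k ≫ φ.f k →
        b k ≫ y = φ.f (k + 1) ≫ qb k ∧ y' ≫ qa (k + 1) = a (k + 1) ≫ φ.f (k + 1) ∧
          c k ≫ (shiftFunctor D (1 : ℤ)).map y' = y ≫ qc k := by
    intro k y
    by_cases hk : k < n ∧ y ≫ qa k = a k ≫ φ.f k
    · obtain ⟨hk, hy⟩ := hk
      have hb : b k ≫ y = φ.f (k + 1) ≫ qb k := by
        rw [← sub_eq_zero]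
        refine inj k (by omega) _ ?_
        rw [Preadditive.sub_comp, Category.assoc, Category.assoc, hy, (qhP k hk).2,
          reassoc_of% (hP k hk).2, φ.comm, sub_self]
      obtain ⟨y', h1, h2⟩ := complete_distinguished_triangle_morphism₁
        (Triangle.mk (a (k + 1)) (b k) (c k)) (Triangle.mk (qa (k + 1)) (qb k) (qc k))
        (hP k hk).1 (qhP k hk).1 (φ.f (k + 1)) y hb
      exact ⟨y', fun _ _ => ⟨hb, h1.symm, h2⟩⟩
    · exact ⟨0, fun h1 h2 => absurd ⟨h1, h2⟩ hk⟩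
  choose next hnext using step
  haveI := qh0
  let y : ∀ k, Y k ⟶ qY k := fun k =>
    Nat.rec (motive := fun k => Y k ⟶ qY k) (a 0 ≫ φ.f 0 ≫ inv (qa 0)) next k
  have hy : ∀ k, k ≤ n → y k ≫ qa k = a k ≫ φ.f k := by
    intro k
    induction k with
    | zero =>
      intro _
      change (a 0 ≫ φ.f 0 ≫ inv (qa 0)) ≫ qa 0 = _
      simp
    | succ k ih => exact fun hk => (hnext k (y k) (by omega) (ih (by omega))).2.1
  exact ⟨y, hy, fun k hk => ⟨(hnext k (y k) hk (hy k hk.le)).1, (hnext k (y k) hk (hy k hk.le)).2.2⟩⟩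

end Groth.Agent.S6596
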