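import Groth.Statements.S6597
import Groth.Agent.PostnikovLib.Basic
-- import your own Groth.Agent.* helpers here

set_option autoImplicit false
universe v u
open CategoryTheory CategoryTheory.Limits
open CohDer

namespace Groth.Agent.S6597

/-- composite of the connecting maps down to degree `n` -/
noncomputable def chain {D : Type u} [Category.{v} D] [HasShift D ℤ] (qY : ℕ → D)
    (qc : ∀ k, qY k ⟶ (shiftFunctor D (1 : ℤ)).obj (qY (k + 1))) (n : ℕ) :
    ∀ (j k : ℕ), k + j = n → (qY k ⟶ (shiftFunctor D (j : ℤ)).obj (qY n))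
  | 0, k, h => eqToHom (congrArg qY (by omega)) ≫ (shiftFunctorZero D ℤ).inv.app (qY n)
  | j + 1, k, h => qc k ≫ (shiftFunctor D (1 : ℤ)).map (chain qY qc n j (k + 1) (by omega)) ≫
      (shiftFunctorAdd' D (j : ℤ) 1 ((j + 1 : ℕ) : ℤ) (by omega)).inv.app (qY n)


open CategoryTheory.Pretriangulated in
/-- Let D be a triangulated category, φ : X ⟶ X' a morphism of chain complexes in D considered in
degrees ≤ n, where a Postnikov system for the complex X_n → … → X_0 consists of objects Y_k, an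
isomorphism Y_0 ⟶ X_0, and for 0 ≤ k < n distinguished triangles Y_{k+1} ⟶ X_{k+1} ⟶ Y_k ⟶
Y_{k+1}⟦1⟧ with X_{k+1} ⟶ Y_k ⟶ X_k the differential; let (Y, a, b, c) and (Y', a', b', c') be
Postnikov systems for X and X'. If Hom(X_i⟦i⟧, Y'_n⟦n⟧) = 0 for i = 1, …, n, then two morphisms of
Postnikov systems extending φ agree on Y_n. (The published statement says there is at most one
morphism of Postnikov systems; the argument, by induction along Y_0 → Y_1⟦1⟧ → … → Y_n⟦n⟧,
determines the component in degree n, which is what is asserted here.) -/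
theorem result {D : Type u} [Category.{v} D] [Preadditive D] [HasZeroObject D] [HasShift D ℤ]
    [∀ n : ℤ, (shiftFunctor D n).Additive] [Pretriangulated D] [IsTriangulated D]
    (X X' : ChainComplex D ℕ) (φ : X ⟶ X') (n : ℕ)
    (Y : ℕ → D) (a : ∀ k, Y k ⟶ X.X k) (b : ∀ k, X.X (k + 1) ⟶ Y k)
    (c : ∀ k, Y k ⟶ (shiftFunctor D (1 : ℤ)).obj (Y (k + 1)))
    (h0 : IsIso (a 0))
    (hP : ∀ k, k < n → Triangle.mk (a (k + 1)) (b k) (c k) ∈ distinguishedTriangles ∧ b k ≫ a k = X.d (k + 1) k)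
    (qY : ℕ → D) (qa : ∀ k, qY k ⟶ X'.X k) (qb : ∀ k, X'.X (k + 1) ⟶ qY k)
    (qc : ∀ k, qY k ⟶ (shiftFunctor D (1 : ℤ)).obj (qY (k + 1)))
    (qh0 : IsIso (qa 0))
    (qhP : ∀ k, k < n → Triangle.mk (qa (k + 1)) (qb k) (qc k) ∈ distinguishedTriangles ∧ qb k ≫ qa k = X'.d (k + 1) k)
    (hv : ∀ i : ℕ, 1 ≤ i → i ≤ n → ∀ ψ : (shiftFunctor D (i : ℤ)).obj (X.X i) ⟶ (shiftFunctor D (n : ℤ)).obj (qY n), ψ = 0)
    (y z : ∀ k, Y k ⟶ qY k)
    (hy : (∀ k, k ≤ n → y k ≫ qa k = a k ≫ φ.f k) ∧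
      (∀ k, k < n → b k ≫ y k = φ.f (k + 1) ≫ qb k ∧ c k ≫ (shiftFunctor D (1 : ℤ)).map (y (k + 1)) = y k ≫ qc k))
    (hz : (∀ k, k ≤ n → z k ≫ qa k = a k ≫ φ.f k) ∧
      (∀ k, k < n → b k ≫ z k = φ.f (k + 1) ≫ qb k ∧ c k ≫ (shiftFunctor D (1 : ℤ)).map (z (k + 1)) = z k ≫ qc k)) :
    y n = z n := by
  suffices key : ∀ (k j : ℕ) (h : k + j = n), (y k - z k) ≫ chain qY qc n j k h = 0 by
    have h := key n 0 rfl
    rwa [show chain qY qc n 0 n rfl = (shiftFunctorZero D ℤ).inv.app (qY n) from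
        Category.id_comp _, Preadditive.IsIso.comp_right_eq_zero, sub_eq_zero] at h
  intro k
  induction k with
  | zero =>
    intro j h
    have : y 0 = z 0 := by rw [← cancel_mono (qa 0), hy.1 0 (by omega), hz.1 0 (by omega)]
    rw [this, sub_self, zero_comp]
  | succ k ih =>
    intro j h
    have h' := ih (j + 1) (by omega)
    change (y k - z k) ≫ qc k ≫ _ ≫ _ = 0 at h'
    rw [← Category.assoc, ← Category.assoc, Preadditive.IsIso.comp_right_eq_zero,
      Preadditive.sub_comp, ← (hy.2 k (by omega)).2, ← (hz.2 k (by omega)).2,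
      ← Preadditive.comp_sub, ← Functor.map_sub, Category.assoc, ← Functor.map_comp] at h'
    obtain ⟨ψ, hψ⟩ := Groth.Agent.PostnikovLib.Basic.exists_desc (hP k (by omega)).1 _ h'
    have : ψ = 0 := by
      have h2 := Groth.Agent.PostnikovLib.Basic.zero_of_shift (k + 1 : ℕ) n 0 j (by omega)
        (hv (k + 1) (by omega) (by omega)) ((shiftFunctorZero D ℤ).hom.app (X.X (k + 1)) ≫ ψ)
      rwa [Preadditive.IsIso.comp_left_eq_zero] at h2
    rw [hψ, this, comp_zero]

end Groth.Agent.S6597
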