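import Groth.Statements.S6600
import Mathlib.CategoryTheory.Triangulated.Orthogonal
-- import your own Groth.Agent.* helpers here

set_option autoImplicit false
universe v u
open CategoryTheory CategoryTheory.Limits
open CohDer

namespace Groth.Agent.S6600

open CategoryTheory CategoryTheory.Limits Pretriangulated

open CategoryTheory.Pretriangulated in
/-- Let D be a triangulated category, A ⊂ D a full subcategory invariant under all shifts, and X → Y → Z
→ X⟦1⟧ a distinguished triangle. Then Z lies in the right orthogonal A^⊥ if and only if Hom(A, X) →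
Hom(A, Y) is bijective for every object A of A. -/
theorem result {D : Type u} [Category.{v} D] [Preadditive D] [HasZeroObject D] [HasShift D ℤ]
    [∀ n : ℤ, (shiftFunctor D n).Additive] [Pretriangulated D] [IsTriangulated D]
    (P : ObjectProperty D) [P.IsStableUnderShift ℤ] (T : Triangle D) (hT : T ∈ distinguishedTriangles) :
    P.rightOrthogonal T.obj₃ ↔ ∀ A : D, P A → Function.Bijective (fun u : A ⟶ T.obj₁ => u ≫ T.mor₁) := by
  constructor
  · intro h A hA
    refine ⟨fun u u' he => ?_, fun f => ?_⟩
    · obtain ⟨g, hg⟩ := Triangle.coyoneda_exact₂ _ (inv_rot_of_distTriang _ hT) (u - u')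
        (by change (u - u') ≫ T.mor₁ = 0; rw [Preadditive.sub_comp]; exact sub_eq_zero.2 he)
      have : g = 0 := P.rightOrthogonal.le_shift (-1 : ℤ) _ h g hA
      exact sub_eq_zero.1 (by rw [hg, this]; exact zero_comp)
    · obtain ⟨g, hg⟩ := Triangle.coyoneda_exact₂ _ hT f (h _ hA)
      exact ⟨g, hg.symm⟩
  · intro h A f hA
    have h3 : f ≫ T.mor₃ = 0 := by
      apply (shiftFunctor D (-1 : ℤ)).map_injective
      rw [Functor.map_zero, ← cancel_mono ((shiftFunctorCompIsoId D (1 : ℤ) (-1) (by lia)).hom.app T.obj₁), zero_comp]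
      refine (h _ (P.le_shift (-1 : ℤ) _ hA)).1 ?_
      have h31 := congrArg (fun k => (shiftFunctor D (-1 : ℤ)).map (f ≫ k)) (comp_distTriang_mor_zero₃₁ _ hT)
      have hn := (shiftFunctorCompIsoId D (1 : ℤ) (-1) (by lia)).hom.naturality T.mor₁
      dsimp at h31 hn ⊢
      rw [zero_comp, Category.assoc, ← hn, ← Category.assoc, ← Functor.map_comp, Category.assoc, h31]
      simp
    obtain ⟨g, rfl⟩ := Triangle.coyoneda_exact₃ _ hT f h3
    obtain ⟨u, rfl⟩ := (h A hA).2 g
    simp [comp_distTriang_mor_zero₁₂ _ hT]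

end Groth.Agent.S6600
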