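import Groth.Statements.S6602
import Mathlib.CategoryTheory.Triangulated.Orthogonal
-- import your own Groth.Agent.* helpers here

set_option autoImplicit false
universe v u
open CategoryTheory CategoryTheory.Limits
open CohDer

namespace Groth.Agent.S6602

open CategoryTheory.Pretriangulated in
/-- (1) ⇔ (2): let D be a triangulated category and B a full triangulated subcategory. The inclusion
functor B → D has a left adjoint if and only if for every X in D there is a distinguished triangle A
→ X → B → A⟦1⟧ with B in B and A in the left orthogonal ^⊥B. (The published statement further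
asserts that B is then saturated and, when strictly full, equals the right orthogonal of its left
orthogonal; this row asserts only the equivalence.) -/
theorem result {D : Type u} [Category.{v} D] [Preadditive D] [HasZeroObject D] [HasShift D ℤ]
    [∀ n : ℤ, (shiftFunctor D n).Additive] [Pretriangulated D] [IsTriangulated D]
    (P : ObjectProperty D) [P.IsTriangulated] :
    P.ι.IsRightAdjoint ↔ ∀ X : D, ∃ (A B : D) (f : A ⟶ X) (g : X ⟶ B) (h : B ⟶ (shiftFunctor D (1 : ℤ)).obj A),
      Triangle.mk f g h ∈ distinguishedTriangles ∧ P B ∧ P.leftOrthogonal A := by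
  constructor
  · intro hR X
    let adj := Adjunction.ofIsRightAdjoint P.ι
    let B : P.FullSubcategory := P.ι.leftAdjoint.obj X
    let g : X ⟶ B.obj := adj.unit.app X
    have ginj : ∀ (B' : P.FullSubcategory) (c c' : B.obj ⟶ B'.obj), g ≫ c = g ≫ c' → c = c' := by
      intro B' c c' h
      obtain ⟨c, rfl⟩ := P.ι.map_surjective (c : P.ι.obj B ⟶ P.ι.obj B')
      obtain ⟨c', rfl⟩ := P.ι.map_surjective (c' : P.ι.obj B ⟶ P.ι.obj B')
      rw [(adj.homEquiv X B').injective (a₁ := c) (a₂ := c')
        (by rw [Adjunction.homEquiv_unit, Adjunction.homEquiv_unit]; exact h)]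
    obtain ⟨A, f, h, hT⟩ := distinguished_cocone_triangle₁ g
    refine ⟨A, B.obj, f, g, h, hT, B.property, ?_⟩
    intro B' a hB'
    have hB'1 : P (B'⟦(1 : ℤ)⟧) := P.le_shift 1 _ hB'
    have h0 : h ≫ a⟦(1 : ℤ)⟧' = 0 := ginj ⟨_, hB'1⟩ _ _ (by
      have e : g ≫ h = 0 := comp_distTriang_mor_zero₂₃ _ hT
      rw [← Category.assoc, e, zero_comp, comp_zero])
    obtain ⟨b, hb⟩ := Triangle.yoneda_exact₃ _ (rot_of_distTriang _ hT) (a⟦(1 : ℤ)⟧') h0
    obtain ⟨b', rfl⟩ := (shiftFunctor D (1 : ℤ)).map_surjective b
    have hab : a = -(f ≫ b') := (shiftFunctor D (1 : ℤ)).map_injective (by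
      rw [Functor.map_neg]
      exact hb.trans ((Preadditive.neg_comp _ _).trans (congrArg (- ·) (Functor.map_comp _ _ _).symm)))
    obtain ⟨c, hc⟩ : ∃ c : B.obj ⟶ B', b' = g ≫ c := by
      refine ⟨((adj.homEquiv X ⟨B', hB'⟩).symm b').hom, ?_⟩
      have := (adj.homEquiv X ⟨B', hB'⟩).apply_symm_apply b'
      rw [Adjunction.homEquiv_unit] at this
      exact this.symm
    rw [hab, hc, ← Category.assoc, show f ≫ g = 0 from comp_distTriang_mor_zero₁₂ _ hT, zero_comp, neg_zero]
  · intro H
    choose A B f g h hT hB hA using H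
    let F : ∀ X, P.FullSubcategory := fun X => ⟨B X, hB X⟩
    have bij : ∀ (X : D) (Y : P.FullSubcategory),
        Function.Bijective (fun c : F X ⟶ Y => g X ≫ P.ι.map c) := by
      intro X Y
      refine ⟨fun c c' hcc' => ?_, fun b => ?_⟩
      · apply P.ι.map_injective
        obtain ⟨d, hd⟩ := Triangle.yoneda_exact₃ _ (hT X) (P.ι.map c - P.ι.map c')
          ((Preadditive.comp_sub _ _ _).trans (sub_eq_zero.2 hcc'))
        have : d = 0 := P.leftOrthogonal.le_shift 1 _ (hA X) d Y.property
        rw [this, comp_zero] at hd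
        exact sub_eq_zero.1 hd
      · obtain ⟨d, hd⟩ := Triangle.yoneda_exact₂ _ (hT X) (b : X ⟶ Y.obj) (hA X _ Y.property)
        obtain ⟨c, rfl⟩ := P.ι.map_surjective (X := F X) (Y := Y) d
        exact ⟨c, hd.symm⟩
    exact (Adjunction.adjunctionOfEquivLeft (G := P.ι) (F_obj := F) (fun X Y => Equiv.ofBijective _ (bij X Y))
      (fun X Y Y' k c => by simp)).isRightAdjoint

end Groth.Agent.S6602
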