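import Groth.Statements.S6603
import Groth.Agent.TriLoc.Basic
-- import your own Groth.Agent.* helpers here

set_option autoImplicit false
universe v u v' u'
open CategoryTheory CategoryTheory.Limits
open CohDer

namespace Groth.Agent.S6603

open CategoryTheory CategoryTheory.Limits Pretriangulated
open scoped ZeroObject

open CategoryTheory.Pretriangulated in
/-- (1) ⇔ (2) ⇔ (3) ⇔ (4): let D be a pretriangulated category, S a multiplicative system compatible
with the triangulated structure, and Q : D → S⁻¹D the localization functor. For an object Z of D the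
following are equivalent: (1) Q(Z) = 0; (2) 0 : Z ⟶ Z' is in S for some Z'; (3) 0 : Z' ⟶ Z is in S
for some Z'; (4) there are an object Z' and a distinguished triangle (X, Y, Z ⊞ Z', f, g, h) with f
∈ S. (The further equivalences (5)–(7) for saturated S are not asserted.) -/
theorem result {D : Type u} [Category.{v} D] [Preadditive D] [HasZeroObject D] [HasShift D ℤ]
    [∀ n : ℤ, (shiftFunctor D n).Additive] [Pretriangulated D]
    (S : MorphismProperty D) [S.HasLeftCalculusOfFractions] [S.HasRightCalculusOfFractions]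
    [S.IsCompatibleWithTriangulation]
    {E : Type u'} [Category.{v'} E] (Q : D ⥤ E) [Q.IsLocalization S] (Z : D) :
    (IsZero (Q.obj Z) ↔ ∃ Z' : D, S (0 : Z ⟶ Z')) ∧
    (IsZero (Q.obj Z) ↔ ∃ Z' : D, S (0 : Z' ⟶ Z)) ∧
    (IsZero (Q.obj Z) ↔ ∃ (Z' X Y : D) (f : X ⟶ Y) (g : Y ⟶ Z ⊞ Z') (h : Z ⊞ Z' ⟶ (shiftFunctor D (1 : ℤ)).obj X),
      Triangle.mk f g h ∈ distinguishedTriangles ∧ S f) := by
  have hzero : ∀ {A B : D}, S (0 : A ⟶ B) → IsZero (Q.obj A) ∧ IsZero (Q.obj B) := by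
    intro A B h
    haveI := Localization.inverts S.Q S _ h
    rw [TriLoc.isZero_iff_Q S Q, TriLoc.isZero_iff_Q S Q]
    exact ⟨(IsZero.iff_id_eq_zero _).2 (by
        rw [← IsIso.hom_inv_id (S.Q.map (0 : A ⟶ B))]
        exact (congrArg (fun k => k ≫ inv (S.Q.map (0 : A ⟶ B))) (S.Q.map_zero A B)).trans zero_comp),
      (IsZero.iff_id_eq_zero _).2 (by
        rw [← IsIso.inv_hom_id (S.Q.map (0 : A ⟶ B))]
        exact (congrArg (fun k => inv (S.Q.map (0 : A ⟶ B)) ≫ k) (S.Q.map_zero A B)).trans comp_zero)⟩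
  have hpre : IsZero (Q.obj Z) → ∃ Z' : D, S (0 : Z' ⟶ Z) := fun h => by
    obtain ⟨Z', s, hs, e⟩ := (MorphismProperty.map_eq_iff_precomp Q S _ _).1 ((TriLoc.isZero_iff_map_id_eq S Q Z).1 h)
    rw [Category.comp_id, comp_zero] at e
    exact ⟨Z', e ▸ hs⟩
  refine ⟨⟨fun h => ?_, fun ⟨Z', h⟩ => (hzero h).1⟩, ⟨hpre, fun ⟨Z', h⟩ => (hzero h).2⟩,
    ⟨fun h => ?_, ?_⟩⟩
  · obtain ⟨Z', s, hs, e⟩ := (MorphismProperty.map_eq_iff_postcomp Q S _ _).1 ((TriLoc.isZero_iff_map_id_eq S Q Z).1 h)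
    rw [Category.id_comp, zero_comp] at e
    exact ⟨Z', e ▸ hs⟩
  · obtain ⟨Z', hs⟩ := hpre h
    obtain ⟨g, k, hT⟩ := TriLoc.exists_triangle_of_zero Z' Z
    exact ⟨_, Z', Z, 0, g, k, hT, hs⟩
  · rintro ⟨Z', X, Y, f, g, k, hT, hf⟩
    have h : IsIso (Q.map f) := Localization.inverts Q S f hf
    have hW := (TriLoc.isIso_iff_isZero_cone S Q _ hT).1 h
    exact TriLoc.isZero_of_retract S Q (biprod.inl : Z ⟶ Z ⊞ Z') biprod.fst biprod.inl_fst hW

end Groth.Agent.S6603
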