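import Groth.Statements.S6604
import Groth.Agent.TriLoc.Basic
-- import your own Groth.Agent.* helpers here

set_option autoImplicit false
universe v u v' u'
open CategoryTheory CategoryTheory.Limits
open CohDer

namespace Groth.Agent.S6604

open CategoryTheory CategoryTheory.Limits Pretriangulated
open scoped ZeroObject

/-- Let D be a triangulated category, B a full triangulated subcategory and Q : D → D/B the quotient
functor. Q sends an object Z of D to zero (Q(Z) = 0, i.e. Z belongs to the kernel of Q) exactly
when, for a suitable object Z' of D, the direct sum Z ⊞ Z' is isomorphic to some object lying in B;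
put differently, the kernel is the smallest saturated, strictly full triangulated subcategory that
contains B. -/
theorem result {D : Type u} [Category.{v} D] [Preadditive D] [HasZeroObject D] [HasShift D ℤ]
    [∀ n : ℤ, (shiftFunctor D n).Additive] [Pretriangulated D] [IsTriangulated D]
    (B : ObjectProperty D) [B.IsTriangulated]
    {E : Type u'} [Category.{v'} E] (Q : D ⥤ E) [Q.IsLocalization B.trW] (Z : D) :
    IsZero (Q.obj Z) ↔ ∃ (Z' Y : D), B Y ∧ Nonempty (Z ⊞ Z' ≅ Y) := by
  constructor
  · intro h
    obtain ⟨Z', s, hs, e⟩ := (MorphismProperty.map_eq_iff_precomp Q B.trW _ _).1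
      ((TriLoc.isZero_iff_map_id_eq B.trW Q Z).1 h)
    rw [Category.comp_id, comp_zero] at e
    subst e
    obtain ⟨g, k, hT⟩ := TriLoc.exists_triangle_of_zero Z' Z
    rw [← ObjectProperty.trW_isoClosure] at hs
    obtain ⟨Y, hY, ⟨e⟩⟩ := (B.isoClosure.trW_iff_of_distinguished _ hT).1 hs
    exact ⟨_, Y, hY, ⟨e⟩⟩
  · rintro ⟨Z', Y, hY, ⟨e⟩⟩
    have h : B.trW (0 : (0 : D) ⟶ Y) := ⟨Y, 𝟙 Y, 0, contractible_distinguished₁ Y, hY⟩
    have : IsIso (Q.map (0 : (0 : D) ⟶ Y)) := Localization.inverts Q B.trW _ h
    have hY' : IsZero (Q.obj Y) :=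
      (TriLoc.isIso_iff_isZero_cone B.trW Q _ (contractible_distinguished₁ Y)).1 this
    exact TriLoc.isZero_of_retract B.trW Q (biprod.inl ≫ e.hom) (e.inv ≫ biprod.fst) (by simp) hY' 

end Groth.Agent.S6604
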