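import Groth.Statements.S6606
import Mathlib
-- import your own Groth.Agent.* helpers here

set_option autoImplicit false
universe v u
open CategoryTheory CategoryTheory.Limits
open CohDer

namespace Groth.Agent.S6606

open CategoryTheory

/-- Let A be an abelian category, β : P ⟶ L and α : E ⟶ L morphisms of cochain complexes and n an
integer. Assume P is a bounded complex of projective objects with Pⁱ = 0 for i < n, and that Hⁱ(α)
is an isomorphism for i > n and an epimorphism for i = n. Then there is γ : P ⟶ E such that γ ≫ α is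
homotopic to β. -/
theorem result {A : Type u} [Category.{v} A] [Abelian A]
    (P E L : CochainComplex A ℤ) (β : P ⟶ L) (α : E ⟶ L) (n b : ℤ) [P.IsStrictlyGE n] [P.IsStrictlyLE b]
    (hP : ∀ i : ℤ, Projective (P.X i))
    (hiso : ∀ i : ℤ, n < i → IsIso (HomologicalComplex.homologyMap α i)) (hepi : Epi (HomologicalComplex.homologyMap α n)) :
    ∃ γ : P ⟶ E, Nonempty (Homotopy (γ ≫ α) β) := by
  let q := HomotopyCategory.quotient A (ComplexShape.up ℤ)
  let F := HomotopyCategory.homologyFunctor A (ComplexShape.up ℤ) 0
  let T := CochainComplex.mappingCone.triangleh α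
  have hT : T ∈ Pretriangulated.distinguishedTriangles :=
    HomotopyCategory.mappingCone_triangleh_distinguished α
  have hm : ∀ i, n ≤ i → (CochainComplex.mappingCone α).ExactAt i := fun i hi => by
    have e1 : Epi ((F.shift i).map T.mor₁) := by
      have : Epi (HomologicalComplex.homologyMap α i) := by
        rcases hi.eq_or_lt with rfl | h
        · exact hepi
        · have := hiso i h; infer_instance
      exact ((MorphismProperty.epimorphisms A).arrow_mk_iso_iff
        (((Functor.mapArrowFunctor _ _).mapIso
          (HomotopyCategory.homologyFunctorFactors A (ComplexShape.up ℤ) i)).app (Arrow.mk α))).2 this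
    have m1 : Mono ((F.shift (i + 1)).map T.mor₁) := by
      have : IsIso (HomologicalComplex.homologyMap α (i + 1)) := hiso (i + 1) (by omega)
      exact ((MorphismProperty.monomorphisms A).arrow_mk_iso_iff
        (((Functor.mapArrowFunctor _ _).mapIso
          (HomotopyCategory.homologyFunctorFactors A (ComplexShape.up ℤ) (i + 1))).app (Arrow.mk α))).2
          (show Mono (HomologicalComplex.homologyMap α (i + 1)) from inferInstance)
    have h2 := (F.homologySequence_epi_shift_map_mor₁_iff T hT i).1 e1
    have h3 := (F.homologySequence_mono_shift_map_mor₁_iff T hT i (i + 1) rfl).1 m1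
    have hz : IsZero ((F.shift i).obj T.obj₃) :=
      (F.homologySequence_exact₃ T hT i (i + 1) rfl).isZero_X₂ h2 h3
    rw [HomologicalComplex.exactAt_iff_isZero_homology]
    exact hz.of_iso ((HomotopyCategory.homologyFunctorFactors A (ComplexShape.up ℤ) i).app _).symm
  let C := CochainComplex.mappingCone α
  let f := β ≫ CochainComplex.mappingCone.inr α
  have main : ∀ k : ℕ, ∃ f' : P ⟶ C, Nonempty (Homotopy f f') ∧ ∀ i, b - k < i → f'.f i = 0 := by
    intro k
    induction k with
    | zero => exact ⟨f, ⟨Homotopy.refl _⟩, fun i hi => (P.isZero_of_isStrictlyLE b i (by omega)).eq_of_src _ _⟩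
    | succ k ih =>
      obtain ⟨f', ⟨H⟩, hf'⟩ := ih
      let m : ℤ := b - k
      by_cases hmn : m < n
      · refine ⟨f', ⟨H⟩, fun i hi => ?_⟩
        by_cases hi' : i = m
        · exact (P.isZero_of_isStrictlyGE n i (by omega)).eq_of_src _ _
        · exact hf' i (by omega)
      · have hc : f'.f m ≫ C.d m (m + 1) = 0 := by
          rw [f'.comm, hf' (m + 1) (by omega), comp_zero]
        have := hP m
        have hex : (C.sc' (m - 1) m (m + 1)).Exact :=
          ((HomologicalComplex.exactAt_iff' C (m - 1) m (m + 1) (by simp) (by simp)).1 (hm m (by omega)))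
        obtain ⟨l, hl⟩ : ∃ l : P.X m ⟶ C.X (m - 1), l ≫ C.d (m - 1) m = f'.f m :=
          ⟨hex.liftFromProjective (f'.f m) hc, hex.liftFromProjective_comp _ _⟩
        let h : ∀ i j, (ComplexShape.up ℤ).Rel j i → (P.X i ⟶ C.X j) := fun i j hji =>
          if e : i = m then
            eqToHom (congrArg P.X e) ≫ l ≫ eqToHom (congrArg C.X (show m - 1 = j from by
              have : j + 1 = i := hji
              omega))
          else 0
        refine ⟨f' - Homotopy.nullHomotopicMap' h, ⟨H.trans (Homotopy.equivSubZero.symm
          ((Homotopy.ofEq (by simp)).trans (Homotopy.nullHomotopy' h)))⟩, fun i hi => ?_⟩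
        rw [HomologicalComplex.sub_f_apply, Homotopy.nullHomotopicMap'_f (k₀ := i + 1) (k₁ := i)
          (k₂ := i - 1) (c := ComplexShape.up ℤ) (by simp) (by simp)]
        by_cases hi' : i = m
        · subst hi'
          simp [h, hl]
        · have : i + 1 ≠ m := by omega
          simp [h, hi', this, hf' i (by omega)]
  obtain ⟨f', ⟨H⟩, hf'⟩ := main (b - n + 1).toNat
  have h0 : q.map β ≫ T.mor₂ = 0 := by
    show q.map β ≫ q.map (CochainComplex.mappingCone.inr α) = 0
    rw [← q.map_comp, HomotopyCategory.eq_of_homotopy _ _ H, ← q.map_zero]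
    congr 1
    ext i
    by_cases hi : i < n
    · exact (P.isZero_of_isStrictlyGE n i hi).eq_of_src _ _
    · exact hf' i (by omega)
  obtain ⟨g, hg⟩ := Pretriangulated.Triangle.coyoneda_exact₂ T hT (q.map β) h0
  obtain ⟨γ, rfl⟩ := q.map_surjective g
  exact ⟨γ, ⟨HomotopyCategory.homotopyOfEq _ _ (by rw [q.map_comp]; exact hg.symm)⟩⟩


end Groth.Agent.S6606
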