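import Groth.Statements.S6607
import Mathlib.CategoryTheory.Triangulated.Orthogonal
-- import your own Groth.Agent.* helpers here

set_option autoImplicit false
universe v u
open CategoryTheory CategoryTheory.Limits
open CohDer

namespace Groth.Agent.S6607

open CategoryTheory.Pretriangulated Triangulated

section

variable {D : Type u} [Category.{v} D] [Preadditive D] [HasZeroObject D] [HasShift D ℤ]
    [∀ n : ℤ, (shiftFunctor D n).Additive] [Pretriangulated D]

/-- the class of objects with a decomposition triangle -/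
abbrev Dec (B : ObjectProperty D) : ObjectProperty D := fun X =>
  ∃ (A Y : D) (f : A ⟶ X) (g : X ⟶ Y) (h : Y ⟶ (shiftFunctor D (1 : ℤ)).obj A),
    Triangle.mk f g h ∈ distinguishedTriangles ∧ B Y ∧ B.leftOrthogonal A

lemma dec_zero (B : ObjectProperty D) [B.IsTriangulated] : ∃ Z : D, IsZero Z ∧ Dec B Z := by
  obtain ⟨Z, hZ, hBZ⟩ := B.exists_prop_of_containsZero
  refine ⟨Z, hZ, Z, Z, 𝟙 Z, 0, 0, ?_, hBZ, fun Y u _ => hZ.eq_of_src _ _⟩
  exact isomorphic_distinguished _ (contractible_distinguished Z) _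
    (Triangle.isoMk _ _ (Iso.refl _) (Iso.refl _) (hZ.iso (Limits.isZero_zero D))
      (hZ.eq_of_src _ _) (hZ.eq_of_src _ _) (hZ.eq_of_src _ _))

lemma dec_shift (B : ObjectProperty D) [B.IsTriangulated] (n : ℤ) {X : D} (hX : Dec B X) :
    Dec B (X⟦n⟧) := by
  obtain ⟨A, Y, f, g, h, hT, hY, hA⟩ := hX
  exact ⟨_, _, _, _, _, Triangle.shift_distinguished _ hT n, B.le_shift n _ hY,
    B.leftOrthogonal.le_shift n _ hA⟩

lemma dec_ext (B : ObjectProperty D) [B.IsTriangulated] [IsTriangulated D]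
    (T : Triangle D) (hT : T ∈ distinguishedTriangles) (h₁ : Dec B T.obj₁) (h₃ : Dec B T.obj₃) :
    Dec B T.obj₂ := by
  obtain ⟨X₁, X₂, X₃, u, v, w⟩ := T
  obtain ⟨A₁, Y₁, f₁, g₁, k₁, hT₁, hY₁, hA₁⟩ := h₁
  obtain ⟨A₃, Y₃, f₃, g₃, k₃, hT₃, hY₃, hA₃⟩ := h₃
  obtain ⟨M, π, δ, hM⟩ := distinguished_cocone_triangle (f₁ ≫ u)
  let O := someOctahedron rfl hT₁ hT hM
  obtain ⟨l, hl⟩ : ∃ l : A₃ ⟶ M, f₃ = l ≫ O.m₃ :=
    Triangle.coyoneda_exact₃ _ O.mem f₃ (hA₃ _ (B.le_shift 1 _ hY₁))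
  obtain ⟨W₀, a₀, b₀, hW₀⟩ := distinguished_cocone_triangle l
  let O₂ := someOctahedron hl.symm hW₀ (rot_of_distTriang _ O.mem) hT₃
  obtain ⟨W, hW, ⟨e⟩⟩ := B.ext_of_isTriangulatedClosed₁' _ O₂.mem hY₃ (B.le_shift 1 _ hY₁)
  have hW' : Triangle.mk l (a₀ ≫ e.hom) (e.inv ≫ b₀) ∈ distinguishedTriangles :=
    isomorphic_distinguished _ hW₀ _
      (Triangle.isoMk _ _ (Iso.refl _) (Iso.refl _) e.symm
        (by dsimp; exact (Category.comp_id _).trans (Category.id_comp _).symm)
        ((Category.assoc a₀ e.hom e.inv).trans ((congrArg (a₀ ≫ ·) e.hom_inv_id).trans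
          ((Category.comp_id a₀).trans (Category.id_comp a₀).symm)))
        ((congrArg ((e.inv ≫ b₀) ≫ ·) ((shiftFunctor D (1 : ℤ)).map_id A₃)).trans (Category.comp_id _)))
  obtain ⟨F, φ, ψ, hF⟩ := distinguished_cocone_triangle₁ (π ≫ a₀ ≫ e.hom)
  let O₃ := someOctahedron' rfl hM hW' hF
  exact ⟨F, W, φ, π ≫ a₀ ≫ e.hom, ψ, hF, hW,
    ObjectProperty.ext_of_isTriangulatedClosed₂ B.leftOrthogonal _ O₃.mem hA₁ hA₃⟩

end


open CategoryTheory.Pretriangulated in
/-- Let D be a triangulated category and B a full triangulated subcategory. Let P(X) be the property: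
there is a distinguished triangle A → X → B → A⟦1⟧ with B in B and A in ^⊥B. Then P satisfies
two-out-of-three in distinguished triangles, i.e. it is stable under all shifts and closed under
extensions (a triangulated object property). -/
theorem result {D : Type u} [Category.{v} D] [Preadditive D] [HasZeroObject D] [HasShift D ℤ]
    [∀ n : ℤ, (shiftFunctor D n).Additive] [Pretriangulated D] [IsTriangulated D]
    (B : ObjectProperty D) [B.IsTriangulated] :
    ObjectProperty.IsTriangulated (fun X : D => ∃ (A Y : D) (f : A ⟶ X) (g : X ⟶ Y) (h : Y ⟶ (shiftFunctor D (1 : ℤ)).obj A),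
      Triangle.mk f g h ∈ distinguishedTriangles ∧ B Y ∧ B.leftOrthogonal A) := by
  exact
    { exists_zero := dec_zero B
      isStableUnderShiftBy := fun n => ⟨fun X hX => dec_shift B n hX⟩
      ext₂' := fun T hT h₁ h₃ => ObjectProperty.le_isoClosure _ _ (dec_ext B T hT h₁ h₃) }

end Groth.Agent.S6607
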