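import Groth.Statements.S6610
import Mathlib
import Groth.Agent.SplitFac.Basic
import Groth.Agent.DHA.ClassRes
-- import your own Groth.Agent.* helpers here

set_option autoImplicit false
universe v u
open CategoryTheory CategoryTheory.Limits
open CohDer

namespace Groth.Agent.S6610

open CategoryTheory Groth.Agent ZeroObject

/-- Let A be an abelian category with enough projectives and S : 0 → A• → B• → C• → 0 a short exact
sequence of cochain complexes all vanishing above degree n. Then there are a short exact sequence T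
: 0 → P₁ → P₂ → P₃ → 0 of complexes of projective objects vanishing above degree n and a morphism of
short exact sequences T ⟶ S whose three components are quasi-isomorphisms (projective resolutions).
(The published statement is phrased for bounded below complexes; projective resolutions are bounded
above by definition and exist only for complexes with cohomology bounded above, so the statement is
given here for bounded above complexes, the case dual to the injective one.) -/
theorem result {A : Type u} [Category.{v} A] [Abelian A] [EnoughProjectives A]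
    (S : ShortComplex (CochainComplex A ℤ)) (hS : S.ShortExact) (n : ℤ)
    [S.X₁.IsStrictlyLE n] [S.X₂.IsStrictlyLE n] [S.X₃.IsStrictlyLE n] :
    ∃ (T : ShortComplex (CochainComplex A ℤ)) (φ : T ⟶ S), T.ShortExact ∧
      T.X₁.IsStrictlyLE n ∧ T.X₂.IsStrictlyLE n ∧ T.X₃.IsStrictlyLE n ∧
      (∀ k : ℤ, Projective (T.X₁.X k) ∧ Projective (T.X₂.X k) ∧ Projective (T.X₃.X k)) ∧
      QuasiIso φ.τ₁ ∧ QuasiIso φ.τ₂ ∧ QuasiIso φ.τ₃ := by
  letI : HasDerivedCategory A := HasDerivedCategory.standard A
  have hP : ∀ X : A, ∃ (Y : A) (p : Y ⟶ X), Projective Y ∧ Epi p := fun X =>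
    ⟨Projective.over X, Projective.π X, inferInstance, inferInstance⟩
  have hZ : Projective (0 : A) :=
    ⟨fun f _ _ => ⟨0, (isZero_zero A).eq_of_src _ _⟩⟩
  obtain ⟨P₁, r₁, hle₁, hpr₁, -, hq₁⟩ :=
    DHA.ClassRes.exists_leftResolution (K := S.X₁) (P := fun X => Projective X) hP (isZero_zero A) hZ n
  obtain ⟨P₂, r₂, hle₂, hpr₂, -, hq₂⟩ :=
    DHA.ClassRes.exists_leftResolution (K := S.X₂) (P := fun X => Projective X) hP (isZero_zero A) hZ n
  have := hle₁; have := hle₂; have := hq₁; have := hq₂
  have := hpr₁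
  have : P₁.IsKProjective := CochainComplex.isKProjective_of_projective P₁ n
  let q := HomotopyCategory.quotient A (ComplexShape.up ℤ)
  have : IsIso (DerivedCategory.Qh.map (q.map r₂)) :=
    (NatIso.isIso_map_iff (DerivedCategory.quotientCompQhIso A) r₂).2 inferInstance
  obtain ⟨a', ha'⟩ := (CochainComplex.IsKProjective.Qh_map_bijective P₁ (q.obj P₂)).surjective
    (DerivedCategory.Qh.map (q.map (r₁ ≫ S.f)) ≫ inv (DerivedCategory.Qh.map (q.map r₂)))
  obtain ⟨a, rfl⟩ := q.map_surjective a'
  have hbr : q.map (a ≫ r₂) = q.map (r₁ ≫ S.f) := by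
    apply (CochainComplex.IsKProjective.Qh_map_bijective P₁ (q.obj S.X₂)).injective
    rw [q.map_comp, Functor.map_comp, ha', Category.assoc, IsIso.inv_hom_id, Category.comp_id]
  let H : Homotopy (r₁ ≫ S.f - a ≫ r₂) 0 :=
    Homotopy.equivSubZero (HomotopyCategory.homotopyOfEq _ _ hbr.symm)
  let z := CochainComplex.HomComplex.Cochain.equivHomotopy _ _ H
  let h' : CochainComplex.mappingCone (𝟙 P₁) ⟶ S.X₂ :=
    CochainComplex.mappingCone.desc (𝟙 P₁) z.1 (r₁ ≫ S.f - a ≫ r₂) (by
      have hz := z.2
      simp only [CochainComplex.HomComplex.Cochain.ofHom_zero, add_zero] at hz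
      rw [Category.id_comp]; exact hz.symm)
  let ψ : SplitFac.cyl (K := P₁) (L := P₂) ⟶ S.X₂ := biprod.desc r₂ h'
  let i := SplitFac.inj a
  have hi : i ≫ ψ = r₁ ≫ S.f := by
    simp [i, ψ, SplitFac.inj, h']
  have hψ : QuasiIso ψ := by
    let e : HomotopyEquiv (SplitFac.cyl (K := P₁) (L := P₂)) P₂ :=
      ⟨biprod.fst, biprod.inl, SplitFac.homotopy, Homotopy.ofEq (biprod.inl_fst)⟩
    have h1 : QuasiIso (biprod.inl : P₂ ⟶ SplitFac.cyl (K := P₁) (L := P₂)) := by
      exact e.symm.quasiIso_hom
    have h2 : QuasiIso ((biprod.inl : P₂ ⟶ SplitFac.cyl (K := P₁) (L := P₂)) ≫ ψ) := by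
      simp only [ψ, biprod.inl_desc]; exact hq₂
    exact quasiIso_of_comp_left biprod.inl ψ
  have hsplit : ∀ k, ∃ r : (SplitFac.cyl (K := P₁) (L := P₂)).X k ⟶ P₁.X k, i.f k ≫ r = 𝟙 _ := fun k => by
    obtain ⟨C, e, he⟩ := SplitFac.inj_split a k
    exact ⟨e.hom ≫ biprod.fst, by rw [← Category.assoc, he, biprod.inl_fst]⟩
  have : ∀ k, Mono (i.f k) := fun k => by
    obtain ⟨r, hr⟩ := hsplit k
    exact (SplitMono.mk r hr).mono
  have : Mono i := HomologicalComplex.mono_of_mono_f _ this
  let T : ShortComplex (CochainComplex A ℤ) := ShortComplex.mk i (cokernel.π i) (cokernel.condition i)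
  have hT : T.ShortExact :=
    { exact := ShortComplex.exact_of_g_is_cokernel _ (cokernelIsCokernel i) }
  let φ : T ⟶ S :=
    { τ₁ := r₁
      τ₂ := ψ
      τ₃ := cokernel.desc i (ψ ≫ S.g) (by rw [reassoc_of% hi, S.zero, comp_zero])
      comm₁₂ := hi.symm
      comm₂₃ := (cokernel.π_desc _ _ _).symm }
  have hproj₂ : ∀ k, Projective ((SplitFac.cyl (K := P₁) (L := P₂)).X k) := fun k => by
    have := hpr₂ k
    have := hpr₁ k
    have := hpr₁ (k + 1)
    have : Projective ((CochainComplex.mappingCone (𝟙 P₁)).X k) :=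
      Projective.of_iso (HomologicalComplex.homotopyCofiber.XIsoBiprod (𝟙 P₁) k (k + 1) rfl).symm inferInstance
    exact Projective.of_iso (HomologicalComplex.biprodXIso _ _ k).symm inferInstance
  have hproj₃ : ∀ k, Projective ((cokernel i).X k) := fun k => by
    obtain ⟨r, hr⟩ := hsplit k
    have hk := hT.map_of_exact (HomologicalComplex.eval A (ComplexShape.up ℤ) k)
    have := hk.mono_f
    have := hk.epi_g
    let s := ShortComplex.Splitting.ofExactOfRetraction _ hk.exact r hr hk.epi_g
    have := hproj₂ k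
    exact Retract.projective (X := (cokernel i).X k) (Y := (SplitFac.cyl (K := P₁) (L := P₂)).X k)
      ⟨s.s, (cokernel.π i).f k, s.s_g⟩
  have hle₃ : (cokernel i).IsStrictlyLE n := by
    rw [CochainComplex.isStrictlyLE_iff]
    intro k hk
    have := (hT.map_of_exact (HomologicalComplex.eval A (ComplexShape.up ℤ) k)).epi_g
    have h0 : IsZero ((SplitFac.cyl (K := P₁) (L := P₂)).X k) := by
      have := SplitFac.cyl_isStrictlyLE (K := P₁) (L := P₂) n
      exact CochainComplex.isZero_of_isStrictlyLE _ n k hk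
    exact IsZero.of_epi ((cokernel.π i).f k) h0
  refine ⟨T, φ, hT, hle₁, SplitFac.cyl_isStrictlyLE n, hle₃,
    fun k => ⟨hpr₁ k, hproj₂ k, hproj₃ k⟩, hq₁, hψ, ?_⟩
  exact HomologicalComplex.HomologySequence.quasiIso_τ₃ φ hT hS hq₁ hψ


end Groth.Agent.S6610
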