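import Groth.Statements.S6612
import Mathlib

set_option autoImplicit false
universe v u
open CategoryTheory CategoryTheory.Limits
open CohDer

namespace Groth.Agent.S6612

/-- Let A be an additive category and 0 → A₂ → B₂ → C₂ → 0 a termwise split exact sequence of complexes.
Given a chain map b from a complex B₁ into B₂ and a chain map b' from B₂ into a complex B₃, suppose
that both composites b ≫ (B₂ → C₂) and (A₂ → B₂) ≫ b' are null-homotopic. Then b ≫ b' is homotopic
to zero. (The published statement has three termwise split sequences Aᵢ → Bᵢ → Cᵢ and asks both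
squares of each diagram to commute up to homotopy; this row keeps only the middle sequence and the
two conditions at B₂ that the argument uses, so it is more general.) -/
theorem result {V : Type u} [Category.{v} V] [Preadditive V] [HasBinaryBiproducts V]
    (S : ShortComplex (CochainComplex V ℤ))
    (σ : ∀ n : ℤ, (S.map (HomologicalComplex.eval V (ComplexShape.up ℤ) n)).Splitting)
    {B₁ B₃ : CochainComplex V ℤ} (b : B₁ ⟶ S.X₂) (b' : S.X₂ ⟶ B₃)
    (hb : Nonempty (Homotopy (b ≫ S.g) 0)) (hb' : Nonempty (Homotopy (S.f ≫ b') 0)) :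
    Nonempty (Homotopy (b ≫ b') 0) := by
  obtain ⟨H⟩ := hb
  obtain ⟨H'⟩ := hb'
  let r : ∀ i, S.X₂.X i ⟶ S.X₁.X i := fun i => (σ i).r
  let s : ∀ i, S.X₃.X i ⟶ S.X₂.X i := fun i => (σ i).s
  have hsg : ∀ i, s i ≫ S.g.f i = 𝟙 _ := fun i => (σ i).s_g
  have hid : ∀ i, r i ≫ S.f.f i + S.g.f i ≫ s i = 𝟙 _ := fun i => (σ i).id
  have hmono : ∀ i, Mono (S.f.f i) := fun i => (σ i).mono_f
  let L : ∀ i j, B₁.X i ⟶ S.X₂.X j := fun i j => H.hom i j ≫ s j
  let N := Homotopy.nullHomotopicMap L
  have hN : N ≫ S.g = b ≫ S.g := by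
    rw [Homotopy.nullHomotopicMap_comp]
    ext i
    have := H.comm i
    simp only [HomologicalComplex.zero_f_apply, add_zero] at this
    rw [this]
    have hL : (fun i j => L i j ≫ S.g.f j) = H.hom := by
      funext a c; simp [L, hsg]
    rw [hL]
    simp [Homotopy.nullHomotopicMap]
  have hz : ∀ i, (b - N).f i ≫ S.g.f i = 0 := fun i => by
    have := congrArg (fun φ => HomologicalComplex.Hom.f φ i) hN
    simp only [HomologicalComplex.comp_f] at this
    rw [HomologicalComplex.sub_f_apply, Preadditive.sub_comp, this, sub_self]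
  have hfac : ∀ i, ((b - N).f i ≫ r i) ≫ S.f.f i = (b - N).f i := fun i => by
    calc _ = (b - N).f i ≫ (r i ≫ S.f.f i + S.g.f i ≫ s i) - ((b - N).f i ≫ S.g.f i) ≫ s i := by
          rw [Preadditive.comp_add, Category.assoc, Category.assoc]; abel
      _ = _ := by rw [hid, hz, zero_comp, sub_zero, Category.comp_id]
  let b1 : B₁ ⟶ S.X₁ :=
    { f := fun i => (b - N).f i ≫ r i
      comm' := fun i j _ => by
        haveI := hmono j
        rw [← cancel_mono (S.f.f j), Category.assoc, ← HomologicalComplex.Hom.comm, ← Category.assoc,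
          hfac, Category.assoc, hfac]
        exact (b - N).comm i j }
  have e : b = N + b1 ≫ S.f := by
    rw [show b1 ≫ S.f = b - N from HomologicalComplex.hom_ext _ _ hfac]
    abel
  refine ⟨?_⟩
  rw [e, Preadditive.add_comp, Category.assoc, show (0 : B₁ ⟶ B₃) = 0 + b1 ≫ 0 by simp]
  exact (((Homotopy.nullHomotopy L (fun i j hij => by simp only [L]; rw [H.zero i j hij, zero_comp])).compRight b').trans
    (Homotopy.ofEq (by simp))).add (H'.compLeft b1)

end Groth.Agent.S6612
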