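import Groth.Statements.S6613
import Mathlib.CategoryTheory.Localization.CalculusOfFractions
-- import your own Groth.Agent.* helpers here

set_option autoImplicit false
universe v u v' u'
open CategoryTheory CategoryTheory.Limits
open CohDer

namespace Groth.Agent.S6613

section

variable {D : Type u} [Category.{v} D] (P : ObjectProperty D) (S : MorphismProperty D)
  [S.HasRightCalculusOfFractions] (hP : ∀ X : D, ∃ (X' : D) (s : X' ⟶ X), P X' ∧ S s)

include hP in
lemma hasRight : (S.inverseImage P.ι).HasRightCalculusOfFractions where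
  id_mem X := by show S (P.ι.map (𝟙 X)); rw [CategoryTheory.Functor.map_id]; exact S.id_mem _
  comp_mem f g hf hg := by
    show S (P.ι.map (f ≫ g)); rw [Functor.map_comp]; exact S.comp_mem _ _ hf hg
  exists_rightFraction {X Y} φ := by
    obtain ⟨ψ, hψ⟩ := (MorphismProperty.LeftFraction.mk (W := S) (P.ι.map φ.f) (P.ι.map φ.s) φ.hs).exists_rightFraction
    obtain ⟨Z, s, hZ, hs⟩ := hP ψ.X'
    obtain ⟨a, ha⟩ := P.ι.map_surjective (X := ⟨Z, hZ⟩) (Y := X) (s ≫ ψ.s)
    obtain ⟨b, hb⟩ := P.ι.map_surjective (X := ⟨Z, hZ⟩) (Y := Y) (s ≫ ψ.f)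
    refine ⟨MorphismProperty.RightFraction.mk a ?_ b, P.ι.map_injective ?_⟩
    · show S (P.ι.map a); rw [ha]; exact S.comp_mem _ _ hs ψ.hs
    · simp only [Functor.map_comp, ha, hb, Category.assoc]
      exact congrArg (s ≫ ·) hψ
  ext X Y Y' f₁ f₂ s hs h := by
    obtain ⟨X', t, ht, e⟩ := MorphismProperty.HasRightCalculusOfFractions.ext
      (P.ι.map f₁) (P.ι.map f₂) (P.ι.map s) hs (by rw [← Functor.map_comp, ← Functor.map_comp, h])
    obtain ⟨Z, r, hZ, hr⟩ := hP X'
    obtain ⟨a, ha⟩ := P.ι.map_surjective (X := ⟨Z, hZ⟩) (Y := X) (r ≫ t)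
    refine ⟨⟨Z, hZ⟩, a, ?_, P.ι.map_injective ?_⟩
    · show S (P.ι.map a); rw [ha]; exact S.comp_mem _ _ hr ht
    · rw [Functor.map_comp, Functor.map_comp, ha, Category.assoc, Category.assoc, e]

end


/-- Let D be a pretriangulated category, D' ⊂ D a full pretriangulated subcategory, S a saturated
multiplicative system of D compatible with the triangulated structure and Q : D → S⁻¹D the
localization. Assume every X in D admits some s : X' ⟶ X in S with X' in D'. Then, with S' = S ∩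
Arrows(D'), the functor (S')⁻¹D' → S⁻¹D is an equivalence; equivalently the composite D' → D → S⁻¹D
is a localization of D' at S'. (The published result additionally claims that the intersection S' =
S ∩ Arrows(D') forms a multiplicative system on D' which is saturated and respects the triangulated
structure of D'; this row asserts only the localization property.) -/
theorem result {D : Type u} [Category.{v} D] [Preadditive D] [HasZeroObject D] [HasShift D ℤ]
    [∀ n : ℤ, (shiftFunctor D n).Additive] [Pretriangulated D]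
    (P : ObjectProperty D) [P.IsTriangulated]
    (S : MorphismProperty D) [S.HasLeftCalculusOfFractions] [S.HasRightCalculusOfFractions] [S.IsCompatibleWithTriangulation]
    {E : Type u'} [Category.{v'} E] (Q : D ⥤ E) [Q.IsLocalization S]
    (hsat : ∀ {X Y : D} (f : X ⟶ Y), IsIso (Q.map f) → S f)
    (hP : ∀ X : D, ∃ (X' : D) (s : X' ⟶ X), P X' ∧ S s) :
    (P.ι ⋙ Q).IsLocalization (S.inverseImage P.ι) := by
  have := hasRight P S hP
  let W := S.inverseImage P.ι
  have hinv : W.IsInvertedBy (P.ι ⋙ Q) := fun _ _ f hf => Localization.inverts Q S _ hf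
  let G : W.Localization ⥤ E := Localization.lift (P.ι ⋙ Q) hinv W.Q
  let e : W.Q ⋙ G ≅ P.ι ⋙ Q := Localization.fac (P.ι ⋙ Q) hinv W.Q
  have := Localization.essSurj Q S
  have := Localization.essSurj W.Q W
  have hes : G.EssSurj := ⟨fun Y => by
    obtain ⟨X', s, hX', hs⟩ := hP (Q.objPreimage Y)
    exact ⟨W.Q.obj ⟨X', hX'⟩, ⟨e.app _ ≪≫ @asIso _ _ _ _ (Q.map s) (Localization.inverts Q S s hs) ≪≫
      Q.objObjPreimageIso Y⟩⟩⟩
  have hfull : G.Full := ⟨fun {X Y} g => by
    let eX := W.Q.objObjPreimageIso X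
    let eY := W.Q.objObjPreimageIso Y
    let g' := e.inv.app _ ≫ G.map eX.hom ≫ g ≫ G.map eY.inv ≫ e.hom.app _
    obtain ⟨ψ, hψ⟩ := Localization.exists_rightFraction Q S g'
    obtain ⟨Z, r, hZ, hr⟩ := hP ψ.X'
    obtain ⟨a, ha⟩ := P.ι.map_surjective (X := ⟨Z, hZ⟩) (Y := W.Q.objPreimage X) (r ≫ ψ.s)
    obtain ⟨b, hb⟩ := P.ι.map_surjective (X := ⟨Z, hZ⟩) (Y := W.Q.objPreimage Y) (r ≫ ψ.f)
    have haW : W a := by show S (P.ι.map a); rw [ha]; exact S.comp_mem _ _ hr ψ.hs
    have := Localization.inverts W.Q W a haW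
    let m := inv (W.Q.map a) ≫ W.Q.map b
    have hm : W.Q.map a ≫ m = W.Q.map b := by simp [m]
    have h1 : Q.map (P.ι.map a) ≫ g' = Q.map (P.ι.map b) := by
      rw [ha, hb, hψ, Functor.map_comp, Functor.map_comp, Category.assoc]
      exact congrArg (Q.map r ≫ ·) (ψ.map_s_comp_map Q (Localization.inverts Q S))
    refine ⟨eX.inv ≫ m ≫ eY.hom, ?_⟩
    have h2 : e.inv.app _ ≫ G.map m ≫ e.hom.app _ = g' := by
      have hni : IsIso (Q.map (P.ι.map a)) := hinv a haW
      rw [← cancel_epi (Q.map (P.ι.map a)), h1]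
      show (P.ι ⋙ Q).map a ≫ _ = (P.ι ⋙ Q).map b
      rw [e.inv.naturality_assoc]
      show e.inv.app _ ≫ G.map (W.Q.map a) ≫ G.map m ≫ e.hom.app _ = _
      rw [← G.map_comp_assoc, hm]
      exact NatIso.naturality_1 e b
    have h3 : G.map m = G.map eX.hom ≫ g ≫ G.map eY.inv := by
      rw [← cancel_epi (e.inv.app _), ← cancel_mono (e.hom.app _), Category.assoc, h2]
      simp [g']
    rw [Functor.map_comp, Functor.map_comp, h3]
    simp⟩
  have hfaith : G.Faithful := ⟨fun {X Y} {φ₁ φ₂} h => by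
    let eX := W.Q.objObjPreimageIso X
    let eY := W.Q.objObjPreimageIso Y
    obtain ⟨a, ha⟩ := Localization.exists_rightFraction W.Q W (eX.hom ≫ φ₁ ≫ eY.inv)
    obtain ⟨b, hb⟩ := Localization.exists_rightFraction W.Q W (eX.hom ≫ φ₂ ≫ eY.inv)
    obtain ⟨ψ, hψ⟩ := (MorphismProperty.LeftFraction.mk (W := W) a.s b.s b.hs).exists_rightFraction
    have hr : W (ψ.s ≫ a.s) := W.comp_mem _ _ ψ.hs a.hs
    have := Localization.inverts W.Q W _ hr
    suffices e0 : W.Q.map (ψ.s ≫ a.f) = W.Q.map (ψ.f ≫ b.f) by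
      have e1 : eX.hom ≫ φ₁ ≫ eY.inv = eX.hom ≫ φ₂ ≫ eY.inv := by
        rw [← cancel_epi (W.Q.map (ψ.s ≫ a.s))]
        conv_rhs => rw [show ψ.s ≫ a.s = ψ.f ≫ b.s from hψ]
        rw [Functor.map_comp, Functor.map_comp, Category.assoc, Category.assoc, ha, hb,
          a.map_s_comp_map W.Q (Localization.inverts W.Q W),
          b.map_s_comp_map W.Q (Localization.inverts W.Q W), ← Functor.map_comp, ← Functor.map_comp, e0]
      exact (cancel_mono eY.inv).1 ((cancel_epi eX.hom).1 e1)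
    have hG : G.map (W.Q.map (ψ.s ≫ a.f)) = G.map (W.Q.map (ψ.f ≫ b.f)) := by
      rw [Functor.map_comp W.Q, Functor.map_comp W.Q,
        ← a.map_s_comp_map W.Q (Localization.inverts W.Q W),
        ← b.map_s_comp_map W.Q (Localization.inverts W.Q W), ← ha, ← hb,
        ← Functor.map_comp_assoc W.Q, ← Functor.map_comp_assoc W.Q,
        show ψ.s ≫ a.s = ψ.f ≫ b.s from hψ]
      simp only [Functor.map_comp, h]
    have hQ : Q.map (P.ι.map (ψ.s ≫ a.f)) = Q.map (P.ι.map (ψ.f ≫ b.f)) := by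
      show (P.ι ⋙ Q).map _ = (P.ι ⋙ Q).map _
      rw [← NatIso.naturality_1 e, ← NatIso.naturality_1 e]
      exact congrArg (fun z => e.inv.app _ ≫ z ≫ e.hom.app _) hG
    obtain ⟨Z₀, s₀, hs₀, es⟩ := (MorphismProperty.map_eq_iff_precomp Q S _ _).1 hQ
    obtain ⟨Z, r, hZ, hr₀⟩ := hP Z₀
    obtain ⟨c, hc⟩ := P.ι.map_surjective (X := ⟨Z, hZ⟩) (Y := ψ.X') (r ≫ s₀)
    have hcW : W c := by show S (P.ι.map c); rw [hc]; exact S.comp_mem _ _ hr₀ hs₀
    have := Localization.inverts W.Q W c hcW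
    have ec : c ≫ (ψ.s ≫ a.f) = c ≫ (ψ.f ≫ b.f) := P.ι.map_injective (by
      rw [Functor.map_comp, Functor.map_comp _ c, hc, Category.assoc, Category.assoc, es])
    rw [← cancel_epi (W.Q.map c), ← Functor.map_comp, ← Functor.map_comp, ec]⟩
  have : G.IsEquivalence := { }
  exact Functor.IsLocalization.of_equivalence_target W.Q W (P.ι ⋙ Q) G.asEquivalence e

end Groth.Agent.S6613
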