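import Groth.Statements.S6614
import Mathlib.CategoryTheory.Triangulated.Pretriangulated
-- import your own Groth.Agent.* helpers here

set_option autoImplicit false
universe v u
open CategoryTheory CategoryTheory.Limits Opposite
open CohDer

namespace Groth.Agent.S6614

open CategoryTheory.Pretriangulated

lemma split_of_retraction {D : Type u} [Category.{v} D] [Preadditive D] [HasZeroObject D] [HasShift D ℤ]
    [∀ n : ℤ, (shiftFunctor D n).Additive] [Pretriangulated D] {A Y : D} (c : A ⟶ Y) (r : Y ⟶ A)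
    (hcr : c ≫ r = 𝟙 A) :
    ∃ (Z : D) (g : Y ⟶ Z) (σ : Z ⟶ Y), c ≫ g = 0 ∧ σ ≫ r = 0 ∧ σ ≫ g = 𝟙 Z ∧ r ≫ c + g ≫ σ = 𝟙 Y := by
  obtain ⟨Z, g, h, hT⟩ := distinguished_cocone_triangle c
  have : Mono c := (⟨⟨r, hcr⟩⟩ : IsSplitMono c).mono
  have h0 : h = 0 := (Triangle.mor₃_eq_zero_iff_mono₁ _ hT).2 this
  obtain ⟨e, he1, he2⟩ : ∃ e : Y ≅ A ⊞ Z, c ≫ e.hom = biprod.inl ∧ g = e.hom ≫ biprod.snd :=
    exists_iso_binaryBiproduct_of_distTriang _ hT h0
  let σ₀ := biprod.inr ≫ e.inv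
  have hσg : σ₀ ≫ g = 𝟙 Z := by simp [σ₀, he2]
  have hcg : c ≫ g = 0 := comp_distTriang_mor_zero₁₂ _ hT
  have hid : (e.hom ≫ biprod.fst) ≫ c + g ≫ σ₀ = 𝟙 Y := by
    have hc : c = biprod.inl ≫ e.inv := by rw [← he1, Category.assoc, e.hom_inv_id, Category.comp_id]
    rw [hc, he2]
    simp only [σ₀, Category.assoc]
    rw [← Preadditive.comp_add, ← Category.assoc (biprod.fst : A ⊞ Z ⟶ A), ← Category.assoc (biprod.snd : A ⊞ Z ⟶ Z),
      ← Preadditive.add_comp, biprod.total, Category.id_comp, e.hom_inv_id]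
  have hf : r = e.hom ≫ biprod.fst + g ≫ σ₀ ≫ r := by
    conv_lhs => rw [← Category.id_comp r, ← hid]
    rw [Preadditive.add_comp, Category.assoc, hcr, Category.comp_id, Category.assoc]
  refine ⟨Z, g, σ₀ - σ₀ ≫ r ≫ c, hcg, ?_, ?_, ?_⟩
  · simp [Preadditive.sub_comp, hcr]
  · simp [Preadditive.sub_comp, hcg, hσg]
  · calc r ≫ c + g ≫ (σ₀ - σ₀ ≫ r ≫ c) = (e.hom ≫ biprod.fst + g ≫ σ₀ ≫ r) ≫ c + g ≫ (σ₀ - σ₀ ≫ r ≫ c) := by
          rw [← hf]
      _ = (e.hom ≫ biprod.fst) ≫ c + g ≫ σ₀ := by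
          simp only [Preadditive.add_comp, Preadditive.comp_sub, Category.assoc]; abel
      _ = 𝟙 Y := hid


/-- Let D be a triangulated category and (A_n) an ℕ-indexed inverse system of D which is essentially
constant with value A relative to the cone c. Then there are an index i and direct sum
decompositions A_{i+j} ≅ A ⊞ Z_j (j ≥ 0) such that (a) c_{i+j} is the inclusion of the summand A and
the transition maps A_{i+k} → A_{i+j} are 𝟙_A ⊕ (Z_k → Z_j), and (b) for every j there is k ≥ j with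
Z_k → Z_j zero. (The published statement is an equivalence whose converse is given without proof;
this row states only the forward implication.) -/
theorem result {D : Type u} [Category.{v} D] [Preadditive D] [HasZeroObject D] [HasShift D ℤ]
    [∀ n : ℤ, (shiftFunctor D n).Additive] [Pretriangulated D] [IsTriangulated D]
    (X : ARSys.PS D) (A : D) (c : (Functor.const ℕᵒᵖ).obj A ⟶ X) (hX : DerCA.IsEssConstant X A c) :
    ∃ (i : ℕ) (Z : ℕ → D) (e : ∀ j : ℕ, X.obj (op (i + j)) ≅ A ⊞ Z j) (z : ∀ j k : ℕ, j ≤ k → (Z k ⟶ Z j)),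
      (∀ j : ℕ, c.app (op (i + j)) ≫ (e j).hom = biprod.inl) ∧
      (∀ (j k : ℕ) (hjk : j ≤ k), (e k).inv ≫ ARSys.tr X (Nat.add_le_add_left hjk i) = biprod.map (𝟙 A) (z j k hjk) ≫ (e j).inv) ∧
      (∀ j : ℕ, ∃ (k : ℕ) (hjk : j ≤ k), z j k hjk = 0) := by
  obtain ⟨i, s, hs, hk⟩ := hX
  let r : ∀ j, X.obj (op (i + j)) ⟶ A := fun j => ARSys.tr X (Nat.le_add_right i j) ≫ s
  have hc : ∀ (m n : ℕ) (h : n ≤ m), c.app (op m) ≫ ARSys.tr X h = c.app (op n) := fun m n h =>
    (c.naturality (homOfLE h).op).symm.trans (Category.id_comp _)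
  have hcr : ∀ j, c.app (op (i + j)) ≫ r j = 𝟙 A := fun j =>
    (Category.assoc _ _ _).symm.trans (((congrArg (· ≫ s) (hc (i + j) i (Nat.le_add_right i j))) :).trans hs)
  choose Z g σ hcg hσr hσg hid using fun j => split_of_retraction (c.app (op (i + j))) (r j) (hcr j)
  have htr : ∀ (l m n : ℕ) (h : n ≤ m) (h' : m ≤ l), ARSys.tr X h' ≫ ARSys.tr X h = ARSys.tr X (h.trans h') :=
    fun l m n h h' => by rw [ARSys.tr, ARSys.tr, ARSys.tr, ← X.map_comp]; rfl
  let e : ∀ j : ℕ, X.obj (op (i + j)) ≅ A ⊞ Z j := fun j =>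
    { hom := biprod.lift (r j) (g j)
      inv := biprod.desc (c.app (op (i + j))) (σ j)
      hom_inv_id := by rw [biprod.lift_desc]; exact hid j
      inv_hom_id := by
        ext
        · simpa using hcr j
        · simpa using hcg j
        · simpa using hσr j
        · simpa using hσg j }
  refine ⟨i, Z, e, fun j k hjk => σ k ≫ ARSys.tr X (Nat.add_le_add_left hjk i) ≫ g j, fun j => ?_,
    fun j k hjk => ?_, fun j => ?_⟩
  · ext
    · simpa [e] using hcr j
    · simpa [e] using hcg j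
  · have h1 : σ k ≫ ARSys.tr X (Nat.add_le_add_left hjk i) ≫ r j = 0 := by
      show σ k ≫ _ ≫ (ARSys.tr X _ ≫ s) = 0
      rw [← Category.assoc (ARSys.tr X _), htr]
      exact hσr k
    refine biprod.hom_ext' _ _ ?_ ?_
    · simp only [e, biprod.inl_desc_assoc, biprod.inl_map_assoc, biprod.inl_desc, Category.id_comp]
      exact hc _ _ _
    · simp only [e, biprod.inr_desc_assoc, biprod.inr_map_assoc, biprod.inr_desc, Category.assoc]
      conv_lhs => rw [← Category.comp_id (ARSys.tr X _), ← hid j]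
      simp only [Preadditive.comp_add]
      rw [reassoc_of% h1, zero_comp, zero_add]
  · obtain ⟨k', hi, hj, e'⟩ := hk (i + j)
    refine ⟨k' - i, by omega, ?_⟩
    have hh : i + j ≤ i + (k' - i) := by omega
    have e2 : ARSys.tr X hh = ARSys.tr X (Nat.le_add_right i (k' - i)) ≫ s ≫ c.app (op (i + j)) := by
      rw [← htr _ k' (i + j) hj (by omega), e', ← Category.assoc, htr]
    show σ (k' - i) ≫ ARSys.tr X hh ≫ g j = 0
    rw [e2]
    simp [hcg]

end Groth.Agent.S6614
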