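import Groth.Statements.S6615
import Mathlib.CategoryTheory.Triangulated.Pretriangulated
-- import your own Groth.Agent.* helpers here

set_option autoImplicit false
universe v u
open CategoryTheory CategoryTheory.Limits Opposite
open CohDer

namespace Groth.Agent.S6615

open CategoryTheory.Pretriangulated

lemma isIso_of_restrict {D : Type u} [Category.{v} D] [Preadditive D] [HasZeroObject D] [HasShift D ℤ]
    [∀ n : ℤ, (shiftFunctor D n).Additive] [Pretriangulated D] {A B C : D} {a : A ⟶ B} {b : B ⟶ C}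
    {δ : C ⟶ A⟦(1 : ℤ)⟧} (hT : Triangle.mk a b δ ∈ distinguishedTriangles) (θ : B ⟶ B)
    (h1 : a ≫ θ = a) (h2 : θ ≫ b = b) : IsIso θ :=
  isIso₂_of_isIso₁₃
    ({ hom₁ := 𝟙 _, hom₂ := θ, hom₃ := 𝟙 _,
       comm₁ := by show a ≫ θ = 𝟙 A ≫ a; rw [h1, Category.id_comp]
       comm₂ := by show b ≫ 𝟙 C = θ ≫ b; rw [h2, Category.comp_id]
       comm₃ := by show δ ≫ (𝟙 A)⟦(1 : ℤ)⟧' = 𝟙 C ≫ δ; simp } :
      Triangle.mk a b δ ⟶ Triangle.mk a b δ) hT hT (IsIso.id _) (IsIso.id _)


open CategoryTheory.Pretriangulated in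
/-- Essential constancy of the middle system: in a triangulated category D, take an ℕ-indexed inverse
system of distinguished triangles with vertices A_n, B_n, C_n. When (A_n) and (C_n) are both
essentially constant, the middle system (B_n) is too. (The published statement also says the values
fit in a distinguished triangle receiving a map of triangles from some level; this row asserts only
the essential constancy of the middle system.) -/
theorem result {D : Type u} [Category.{v} D] [Preadditive D] [HasZeroObject D] [HasShift D ℤ]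
    [∀ n : ℤ, (shiftFunctor D n).Additive] [Pretriangulated D] [IsTriangulated D]
    (X Y Z : ARSys.PS D) (f : X ⟶ Y) (g : Y ⟶ Z) (h : Z ⟶ X ⋙ shiftFunctor D (1 : ℤ))
    (hT : ∀ n : ℕ, Triangle.mk (f.app (op n)) (g.app (op n)) (h.app (op n)) ∈ distinguishedTriangles)
    (hX : ∃ (A : D) (cA : (Functor.const ℕᵒᵖ).obj A ⟶ X), DerCA.IsEssConstant X A cA)
    (hZ : ∃ (C : D) (cC : (Functor.const ℕᵒᵖ).obj C ⟶ Z), DerCA.IsEssConstant Z C cC) :
    ∃ (B : D) (cB : (Functor.const ℕᵒᵖ).obj B ⟶ Y), DerCA.IsEssConstant Y B cB := by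
  obtain ⟨A, cA, iX, sA, hsA, hkA⟩ := hX
  obtain ⟨C, cC, iZ, sC, hsC, hkC⟩ := hZ
  have htr : ∀ (W : ARSys.PS D) (l m n : ℕ) (h : n ≤ m) (h' : m ≤ l),
      ARSys.tr W h' ≫ ARSys.tr W h = ARSys.tr W (h.trans h') :=
    fun W l m n h h' => by rw [ARSys.tr, ARSys.tr, ARSys.tr, ← W.map_comp]; rfl
  have hf : ∀ (m n : ℕ) (h' : n ≤ m), ARSys.tr X h' ≫ f.app (op n) = f.app (op m) ≫ ARSys.tr Y h' :=
    fun m n h' => f.naturality _
  have hg : ∀ (m n : ℕ) (h' : n ≤ m), ARSys.tr Y h' ≫ g.app (op n) = g.app (op m) ≫ ARSys.tr Z h' :=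
    fun m n h' => g.naturality _
  have hh : ∀ (m n : ℕ) (h' : n ≤ m),
      ARSys.tr Z h' ≫ h.app (op n) = h.app (op m) ≫ (shiftFunctor D (1 : ℤ)).map (ARSys.tr X h') :=
    fun m n h' => h.naturality _
  have hcA : ∀ (m n : ℕ) (h' : n ≤ m), cA.app (op m) ≫ ARSys.tr X h' = cA.app (op n) := fun m n h' =>
    (cA.naturality (homOfLE h').op).symm.trans (Category.id_comp _)
  have hcC : ∀ (m n : ℕ) (h' : n ≤ m), cC.app (op m) ≫ ARSys.tr Z h' = cC.app (op n) := fun m n h' =>
    (cC.naturality (homOfLE h').op).symm.trans (Category.id_comp _)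
  let i := max iX iZ
  let rA : ∀ m, i ≤ m → (X.obj (op m) ⟶ A) := fun m hm => ARSys.tr X (le_trans (le_max_left iX iZ) hm) ≫ sA
  let rC : ∀ m, i ≤ m → (Z.obj (op m) ⟶ C) := fun m hm => ARSys.tr Z (le_trans (le_max_right iX iZ) hm) ≫ sC
  have hrA : ∀ m hm, cA.app (op m) ≫ rA m hm = 𝟙 A := fun m hm =>
    (Category.assoc _ _ _).symm.trans (((congrArg (· ≫ sA) (hcA m iX (le_trans (le_max_left iX iZ) hm))) :).trans hsA)
  have hrC : ∀ m hm, cC.app (op m) ≫ rC m hm = 𝟙 C := fun m hm =>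
    (Category.assoc _ _ _).symm.trans (((congrArg (· ≫ sC) (hcC m iZ (le_trans (le_max_right iX iZ) hm))) :).trans hsC)
  have hA2 : ∀ (m m' : ℕ) (hm : i ≤ m) (h' : m ≤ m'), ARSys.tr X h' ≫ rA m hm = rA m' (hm.trans h') :=
    fun m m' hm h' => by simp only [rA]; rw [← Category.assoc, htr]
  have hC2 : ∀ (m m' : ℕ) (hm : i ≤ m) (h' : m ≤ m'), ARSys.tr Z h' ≫ rC m hm = rC m' (hm.trans h') :=
    fun m m' hm h' => by simp only [rC]; rw [← Category.assoc, htr]
  -- far enough out the transition maps factor through the values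
  have far : ∀ n, ∃ (k : ℕ) (hk : i ≤ k) (hn : n ≤ k), ∀ (l : ℕ) (hl : k ≤ l),
      ARSys.tr X (hn.trans hl) = rA l (hk.trans hl) ≫ cA.app (op n) ∧
      ARSys.tr Z (hn.trans hl) = rC l (hk.trans hl) ≫ cC.app (op n) := by
    intro n
    obtain ⟨a, ha1, ha2, ea⟩ := hkA n
    obtain ⟨b, hb1, hb2, eb⟩ := hkC n
    refine ⟨max i (max a b), le_max_left _ _, by omega, fun l hl => ⟨?_, ?_⟩⟩
    · rw [← htr X l a n ha2 (by omega), ea, ← Category.assoc, htr, ← Category.assoc]
    · rw [← htr Z l b n hb2 (by omega), eb, ← Category.assoc, htr, ← Category.assoc]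
  let δ : C ⟶ A⟦(1 : ℤ)⟧ := cC.app (op i) ≫ h.app (op i) ≫ (shiftFunctor D (1 : ℤ)).map (rA i le_rfl)
  have hδm : ∀ m hm, cC.app (op m) ≫ h.app (op m) ≫ (shiftFunctor D (1 : ℤ)).map (rA m hm) = δ := by
    intro m hm
    show _ = cC.app (op i) ≫ _
    rw [← hcC m i hm, Category.assoc, reassoc_of% (hh m i hm), ← Functor.map_comp, hA2 i m le_rfl hm]
  have hδ : ∀ n, cC.app (op n) ≫ h.app (op n) = δ ≫ (shiftFunctor D (1 : ℤ)).map (cA.app (op n)) := by
    intro n
    obtain ⟨k, hk, hn, e⟩ := far n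
    rw [← hδm k hk, Category.assoc, Category.assoc, ← Functor.map_comp, ← (e k le_rfl).1, ← hh,
      ← Category.assoc, hcC]
  obtain ⟨B, a, b, hB⟩ := distinguished_cocone_triangle₂ δ
  have hβ : ∀ n, ∃ β : B ⟶ Y.obj (op n), a ≫ β = cA.app (op n) ≫ f.app (op n) ∧
      b ≫ cC.app (op n) = β ≫ g.app (op n) := fun n =>
    complete_distinguished_triangle_morphism₂ _ _ hB (hT n) (cA.app (op n)) (cC.app (op n)) (hδ n).symm
  choose β hβ1 hβ2 using hβ
  -- a retraction on a deep level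
  obtain ⟨m, hmi, hmi', hm⟩ := far i
  obtain ⟨t, ht1, ht2⟩ : ∃ t : Y.obj (op m) ⟶ B, f.app (op m) ≫ t = rA m hmi ≫ a ∧
      g.app (op m) ≫ rC m hmi = t ≫ b :=
    complete_distinguished_triangle_morphism₂ _ _ (hT m) hB (rA m hmi) (rC m hmi) (by
      show h.app (op m) ≫ (shiftFunctor D (1 : ℤ)).map (rA m hmi) = rC m hmi ≫ δ
      rw [show δ = cC.app (op i) ≫ h.app (op i) ≫ (shiftFunctor D (1 : ℤ)).map (rA i le_rfl) from rfl,
        ← Category.assoc (rC m hmi), ← (hm m le_rfl).2, ← Category.assoc (ARSys.tr Z _), hh m i hmi,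
        Category.assoc, ← Functor.map_comp, hA2 i m le_rfl hmi])
  let T : ∀ l, m ≤ l → (Y.obj (op l) ⟶ B) := fun l hl => ARSys.tr Y hl ≫ t
  have hT1 : ∀ l hl, f.app (op l) ≫ T l hl = rA l (hmi.trans hl) ≫ a := fun l hl => by
    simp only [T]
    rw [← Category.assoc, ← hf, Category.assoc, ht1, ← Category.assoc, hA2 m l hmi hl]
  have hT2 : ∀ l hl, T l hl ≫ b = g.app (op l) ≫ rC l (hmi.trans hl) := fun l hl => by
    simp only [T]
    rw [Category.assoc, ← ht2, ← Category.assoc, hg, Category.assoc, hC2 m l hmi hl]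
  have hθ : ∀ l hl, IsIso (β l ≫ T l hl) := fun l hl => isIso_of_restrict hB _
    (by rw [← Category.assoc, hβ1, Category.assoc, hT1 l hl, ← Category.assoc, hrA l (hmi.trans hl), Category.id_comp])
    (by rw [Category.assoc, hT2, ← Category.assoc, ← hβ2, Category.assoc, hrC l (hmi.trans hl), Category.comp_id])
  have hepi : ∀ l hl, Epi (T l hl) := fun l hl => by
    have := hθ l hl
    exact epi_of_epi (β l) (T l hl)
  -- deep transition maps factor through `T`
  have hfac : ∀ n, ∃ (l : ℕ) (hl : m ≤ l) (hn : n ≤ l) (γ : B ⟶ Y.obj (op n)), ARSys.tr Y hn = T l hl ≫ γ := by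
    intro n
    have hD : ∀ n, ∃ (k : ℕ) (_ : m ≤ k) (hn : n ≤ k), ∀ (l : ℕ) (hl : k ≤ l) (hlm : m ≤ l),
        f.app (op l) ≫ (ARSys.tr Y (hn.trans hl) - T l hlm ≫ β n) = 0 ∧
        (ARSys.tr Y (hn.trans hl) - T l hlm ≫ β n) ≫ g.app (op n) = 0 := by
      intro n
      obtain ⟨k, hk, hn, e⟩ := far n
      refine ⟨max k m, le_max_right _ _, le_trans hn (le_max_left _ _), fun l hl hlm => ⟨?_, ?_⟩⟩
      · have e1 := (e l (le_trans (le_max_left _ _) hl)).1
        rw [Preadditive.comp_sub, sub_eq_zero, ← hf, e1, ← Category.assoc (f.app (op l)), hT1 l hlm]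
        simp only [Category.assoc, hβ1]
      · have e2 := (e l (le_trans (le_max_left _ _) hl)).2
        rw [Preadditive.sub_comp, sub_eq_zero, hg, e2, Category.assoc (T l hlm), ← hβ2, ← Category.assoc (T l hlm),
          hT2 l hlm]
        simp only [Category.assoc]
    obtain ⟨k, hmk, hnk, hk⟩ := hD n
    obtain ⟨l, hml, hkl, hl⟩ := hD k
    refine ⟨l, hml, hnk.trans hkl, β k ≫ ARSys.tr Y hnk + β n - (β k ≫ T k hmk) ≫ β n, ?_⟩
    have hzero : (ARSys.tr Y hkl - T l hml ≫ β k) ≫ (ARSys.tr Y hnk - T k hmk ≫ β n) = 0 := by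
      obtain ⟨x', hx'⟩ : ∃ x' : Y.obj (op l) ⟶ X.obj (op k),
          ARSys.tr Y hkl - T l hml ≫ β k = x' ≫ f.app (op k) :=
        Triangle.coyoneda_exact₂ _ (hT k) _ (hl l le_rfl hml).2
      rw [hx', Category.assoc, (hk k le_rfl hmk).1, comp_zero]
    have eT : ARSys.tr Y hkl ≫ T k hmk = T l hml := by
      simp only [T]
      rw [← Category.assoc, htr]
    rw [Preadditive.sub_comp, Preadditive.comp_sub, Preadditive.comp_sub, htr, ← Category.assoc, eT] at hzero
    rw [Preadditive.comp_sub, Preadditive.comp_add]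
    simp only [Category.assoc] at hzero ⊢
    rw [← sub_eq_zero]
    rw [← hzero]
    abel
  choose L hLm hLn γ hγ using hfac
  have hγl : ∀ n l (hl : L n ≤ l), ARSys.tr Y ((hLn n).trans hl) = T l ((hLm n).trans hl) ≫ γ n := fun n l hl => by
    rw [← htr Y l (L n) n (hLn n) hl, hγ, ← Category.assoc]
    simp only [T]
    rw [← Category.assoc, htr]
  have hcomp : ∀ (n n' : ℕ) (hn : n' ≤ n), γ n ≫ ARSys.tr Y hn = γ n' := by
    intro n n' hn
    let l := max (L n) (L n')
    have := hepi l ((hLm n).trans (le_max_left _ _))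
    rw [← cancel_epi (T l ((hLm n).trans (le_max_left _ _))), ← Category.assoc, ← hγl n l (le_max_left _ _), htr,
      hγl n' l (le_max_right _ _)]
  refine ⟨B, { app := fun n => γ n.unop, naturality := fun n n' u => (Category.id_comp _).trans (hcomp _ _ _).symm },
    m, t, ?_, fun j => ⟨L j, hLm j, hLn j, ?_⟩⟩
  · have := hepi (L m) (hLm m)
    show γ m ≫ t = 𝟙 B
    rw [← cancel_epi (T (L m) (hLm m)), ← Category.assoc, ← hγ m, Category.comp_id]
  · exact (hγ j).trans (Category.assoc _ _ _)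

end Groth.Agent.S6615
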