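import Groth.Statements.S6617
import Groth.Agent.SplitFac.Basic
-- import your own Groth.Agent.* helpers here

set_option autoImplicit false
universe v u
open CategoryTheory CategoryTheory.Limits
open CohDer

namespace Groth.Agent.S6617

open CategoryTheory Groth.Agent

/-- Let A be an additive category and A₀ → A₁ → A₂ → … a sequence of composable morphisms of complexes.
There are complexes Bᵢ, homotopy equivalences Bᵢ ⟶ Aᵢ and termwise split injections Bᵢ ⟶ Bᵢ₊₁
forming a commutative ladder over the given sequence. Moreover if all Aᵢ are bounded below, resp.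
bounded above, then the Bᵢ may be chosen bounded below, resp. bounded above. (The published
statement is for finite sequences A₁ → … → A_n; this row takes a sequence indexed by ℕ, built by the
same step-by-step construction.) -/
theorem result {V : Type u} [Category.{v} V] [Preadditive V] [HasBinaryBiproducts V] [HasZeroObject V]
    (X : ℕ → CochainComplex V ℤ) (a : ∀ i, X i ⟶ X (i + 1)) :
    ∃ (B : ℕ → CochainComplex V ℤ) (b : ∀ i, B i ⟶ B (i + 1)) (e : ∀ i, HomotopyEquiv (B i) (X i)),
      (∀ i, b i ≫ (e (i + 1)).hom = (e i).hom ≫ a i) ∧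
      (∀ (i : ℕ) (n : ℤ), ∃ (C : V) (ε : (B (i + 1)).X n ≅ (B i).X n ⊞ C), (b i).f n ≫ ε.hom = biprod.inl) ∧
      ((∀ i, ∃ m : ℤ, (X i).IsStrictlyGE m) → ∀ i, ∃ m : ℤ, (B i).IsStrictlyGE m) ∧
      ((∀ i, ∃ m : ℤ, (X i).IsStrictlyLE m) → ∀ i, ∃ m : ℤ, (B i).IsStrictlyLE m) := by
  classical
  let step : ∀ i, (Σ B : CochainComplex V ℤ, HomotopyEquiv B (X i)) →
      (Σ B : CochainComplex V ℤ, HomotopyEquiv B (X (i + 1))) := fun i p =>
    ⟨SplitFac.cyl (K := p.1) (L := X (i + 1)),
      ⟨biprod.fst, biprod.inl, SplitFac.homotopy, Homotopy.ofEq (biprod.inl_fst)⟩⟩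
  let seq : ∀ i, Σ B : CochainComplex V ℤ, HomotopyEquiv B (X i) := fun i =>
    Nat.rec ⟨X 0, HomotopyEquiv.refl _⟩ step i
  refine ⟨fun i => (seq i).1, fun i => SplitFac.inj ((seq i).2.hom ≫ a i), fun i => (seq i).2,
    fun i => biprod.lift_fst _ _,
    fun i n => SplitFac.inj_split ((seq i).2.hom ≫ a i) n, fun h i => ?_, fun h i => ?_⟩
  · induction i with
    | zero => exact h 0
    | succ i ih =>
      obtain ⟨m, hm⟩ := ih
      obtain ⟨m', hm'⟩ := h (i + 1)
      have : CochainComplex.IsStrictlyGE (seq i).1 (min m m') := (seq i).1.isStrictlyGE_of_ge _ m (by omega)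
      have : CochainComplex.IsStrictlyGE (X (i + 1)) (min m m') := (X (i + 1)).isStrictlyGE_of_ge _ m' (by omega)
      exact ⟨min m m' - 1, SplitFac.cyl_isStrictlyGE (min m m')⟩
  · induction i with
    | zero => exact h 0
    | succ i ih =>
      obtain ⟨m, hm⟩ := ih
      obtain ⟨m', hm'⟩ := h (i + 1)
      have : CochainComplex.IsStrictlyLE (seq i).1 (max m m') := (seq i).1.isStrictlyLE_of_le m _ (by omega)
      have : CochainComplex.IsStrictlyLE (X (i + 1)) (max m m') := (X (i + 1)).isStrictlyLE_of_le m' _ (by omega)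
      exact ⟨max m m', SplitFac.cyl_isStrictlyLE (max m m')⟩


end Groth.Agent.S6617
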