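import Groth.Statements.S6618
import Groth.Agent.RDerLES
-- import your own Groth.Agent.* helpers here

set_option autoImplicit false
universe v v' u u'
open CategoryTheory CategoryTheory.Limits
open CohDer

namespace Groth.Agent.S6618

/-- Part (2): (3), in the case where A has enough injectives: let F : A ⥤ B be an additive functor
between abelian categories, A with enough injectives. Then R⁰F is left exact; moreover, F itself is
left exact exactly when the canonical comparison morphism from F to R⁰F is invertible. -/
theorem result {A : Type u} [Category.{v} A] [Abelian A] [EnoughInjectives A]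
    {B : Type u'} [Category.{v'} B] [Abelian B] (F : A ⥤ B) [F.Additive] :
    PreservesFiniteLimits (F.rightDerived 0) ∧ (IsIso F.toRightDerivedZero ↔ PreservesFiniteLimits F) := by
  have h0 : PreservesFiniteLimits (F.rightDerived 0) := by
    have := RDer.rightDerived_additive F 0
    refine (Functor.preservesFiniteLimits_tfae (F.rightDerived 0)).out 0 3 |>.1 fun S hS => ?_
    refine ⟨(Groth.Agent.RDerLES.derivedLES F).exact₂ S hS 0, ?_⟩
    obtain ⟨T⟩ := Groth.Agent.RDerLES.nonempty_sesRes hS
    have := (T.map_shortExact F).mono_f
    have hmono := HomologicalComplex.mono_homologyMap_of_mono_of_not_rel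
        (T.cx.map (F.mapHomologicalComplex (ComplexShape.up ℕ))).f 0 (by simp)
    have e : (F.rightDerived 0).map S.f ≫ (T.I₂.isoRightDerivedObj F 0).hom =
        (T.I₁.isoRightDerivedObj F 0).hom ≫
          HomologicalComplex.homologyMap ((F.mapHomologicalComplex _).map T.f) 0 :=
      Groth.Agent.RDerLES.map_eq F T.ι_f 0
    refine (((MorphismProperty.monomorphisms B).arrow_mk_iso_iff
      (Arrow.isoMk (T.I₁.isoRightDerivedObj F 0) (T.I₂.isoRightDerivedObj F 0) e.symm :
        Arrow.mk ((F.rightDerived 0).map S.f) ≅
          Arrow.mk (HomologicalComplex.homologyMap ((F.mapHomologicalComplex _).map T.f) 0)))).2 ?_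
    exact hmono
  refine ⟨h0, fun h => ?_, fun h => inferInstance⟩
  exact preservesFiniteLimits_of_natIso (asIso F.toRightDerivedZero).symm

end Groth.Agent.S6618
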