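import Groth.Statements.S6622
import Mathlib
-- import your own Groth.Agent.* helpers here

set_option autoImplicit false
universe v u
open CategoryTheory CategoryTheory.Limits
open CohDer

namespace Groth.Agent.S6622

open CategoryTheory ZeroObject

/-- Let A be an additive category. The full subcategories K⁻(A) (complexes K with Kⁿ = 0 for n ≫ 0) and
Kᵇ(A) (Kⁿ = 0 for |n| ≫ 0) of the homotopy category K(A) are full triangulated subcategories. -/
theorem result {V : Type u} [Category.{v} V] [Preadditive V] [HasZeroObject V] [HasBinaryBiproducts V] :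
    (ObjectProperty.IsTriangulated (fun K : HomotopyCategory V (ComplexShape.up ℤ) => ∃ n : ℤ, CochainComplex.IsStrictlyLE K.as n)) ∧
    (ObjectProperty.IsTriangulated (fun K : HomotopyCategory V (ComplexShape.up ℤ) =>
      ∃ a b : ℤ, CochainComplex.IsStrictlyGE K.as a ∧ CochainComplex.IsStrictlyLE K.as b)) := by
  let P₁ : ObjectProperty (HomotopyCategory V (ComplexShape.up ℤ)) :=
    fun K => ∃ n : ℤ, CochainComplex.IsStrictlyLE K.as n
  let P₂ : ObjectProperty (HomotopyCategory V (ComplexShape.up ℤ)) :=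
    fun K => ∃ a b : ℤ, CochainComplex.IsStrictlyGE K.as a ∧ CochainComplex.IsStrictlyLE K.as b
  have coneLE : ∀ {K L : CochainComplex V ℤ} (f : K ⟶ L) (n₁ n₂ : ℤ),
      K.IsStrictlyLE n₁ → L.IsStrictlyLE n₂ →
      (CochainComplex.mappingCone f).IsStrictlyLE (max n₁ n₂) := by
    intro K L f n₁ n₂ _ _
    rw [CochainComplex.isStrictlyLE_iff]
    intro i hi
    rw [CochainComplex.mappingCone.isZero_X_iff]
    exact ⟨K.isZero_of_isStrictlyLE n₁ _ (by omega), L.isZero_of_isStrictlyLE n₂ _ (by omega)⟩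
  have hz : ∀ (m : ℤ), (0 : CochainComplex V ℤ).IsStrictlyLE m ∧ (0 : CochainComplex V ℤ).IsStrictlyGE m := by
    intro m
    constructor
    · rw [CochainComplex.isStrictlyLE_iff]
      exact fun i _ => (HomologicalComplex.eval V _ i).map_isZero (isZero_zero _)
    · rw [CochainComplex.isStrictlyGE_iff]
      exact fun i _ => (HomologicalComplex.eval V _ i).map_isZero (isZero_zero _)
  have : P₁.ContainsZero := ⟨⟨(HomotopyCategory.quotient _ _).obj 0,
    Functor.map_isZero _ (isZero_zero _), 0, (hz 0).1⟩⟩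
  have : P₂.ContainsZero := ⟨⟨(HomotopyCategory.quotient _ _).obj 0,
    Functor.map_isZero _ (isZero_zero _), 0, 0, (hz 0).2, (hz 0).1⟩⟩
  have : P₁.IsStableUnderShift ℤ := ⟨fun n => ⟨fun K hK => by
    obtain ⟨K : CochainComplex _ _, rfl⟩ := K.quotient_obj_surjective
    obtain ⟨q, hq⟩ := hK
    have hq : K.IsStrictlyLE q := hq
    rw [ObjectProperty.prop_shift_iff, HomotopyCategory.shift_quotient_obj]
    exact ⟨q - n, K.isStrictlyLE_shift q n (q - n) (by omega)⟩⟩⟩
  have : P₂.IsStableUnderShift ℤ := ⟨fun n => ⟨fun K hK => by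
    obtain ⟨K : CochainComplex _ _, rfl⟩ := K.quotient_obj_surjective
    obtain ⟨a, q, ha, hq⟩ := hK
    have ha : K.IsStrictlyGE a := ha
    have hq : K.IsStrictlyLE q := hq
    rw [ObjectProperty.prop_shift_iff, HomotopyCategory.shift_quotient_obj]
    exact ⟨a - n, q - n, K.isStrictlyGE_shift a n (a - n) (by omega),
      K.isStrictlyLE_shift q n (q - n) (by omega)⟩⟩⟩
  have main : ∀ (Q : ObjectProperty (HomotopyCategory V (ComplexShape.up ℤ))),
      (∀ {K L : CochainComplex V ℤ} (f : K ⟶ L), Q ((HomotopyCategory.quotient _ _).obj K) →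
        Q ((HomotopyCategory.quotient _ _).obj L) →
        Q ((HomotopyCategory.quotient _ _).obj (CochainComplex.mappingCone f))) →
      Q.IsTriangulatedClosed₃ := by
    intro Q hQ
    refine ⟨fun T hT h₁ h₂ => ?_⟩
    obtain ⟨f : T.obj₁.as ⟶ T.obj₂.as, hf⟩ :=
      (HomotopyCategory.quotient _ _).map_surjective T.mor₁
    refine ⟨_, hQ f h₁ h₂, ⟨Pretriangulated.Triangle.π₃.mapIso
      (Pretriangulated.isoTriangleOfIso₁₂ T _ hT (HomotopyCategory.mappingCone_triangleh_distinguished f)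
        (Iso.refl _) (Iso.refl _) ((Category.comp_id _).trans (hf.symm.trans (Category.id_comp _).symm)))⟩⟩
  have : P₁.IsTriangulatedClosed₃ := main P₁ fun f h₁ h₂ => by
    obtain ⟨n₁, h₁⟩ := h₁
    obtain ⟨n₂, h₂⟩ := h₂
    exact ⟨max n₁ n₂, coneLE f n₁ n₂ h₁ h₂⟩
  have : P₂.IsTriangulatedClosed₃ := main P₂ fun {K L} f h₁ h₂ => by
    obtain ⟨a₁, n₁, (g₁ : K.IsStrictlyGE a₁), (h₁ : K.IsStrictlyLE n₁)⟩ := h₁
    obtain ⟨a₂, n₂, (g₂ : L.IsStrictlyGE a₂), (h₂ : L.IsStrictlyLE n₂)⟩ := h₂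
    exact ⟨min (a₁ - 1) a₂, max n₁ n₂,
      CochainComplex.isStrictlyGE_mappingCone f a₁ a₂ _ (by omega) (by omega),
      coneLE f n₁ n₂ h₁ h₂⟩
  exact ⟨{ toIsTriangulatedClosed₂ := .of_isTriangulatedClosed₃ (P := P₁) },
    { toIsTriangulatedClosed₂ := .of_isTriangulatedClosed₃ (P := P₂) }⟩


end Groth.Agent.S6622
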