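import Groth.Statements.S6623
import Groth.Agent.PostnikovLib.Basic
-- import your own Groth.Agent.* helpers here

set_option autoImplicit false
universe v u
open CategoryTheory CategoryTheory.Limits
open CohDer

namespace Groth.Agent.S6623

open CategoryTheory.Pretriangulated in
/-- Let D be a triangulated category, φ : X ⟶ X' a morphism of chain complexes in D considered in
degrees ≤ n, where a Postnikov system for the complex X_n → … → X_0 consists of objects Y_k, an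
isomorphism Y_0 ⟶ X_0, and for 0 ≤ k < n distinguished triangles Y_{k+1} ⟶ X_{k+1} ⟶ Y_k ⟶
Y_{k+1}⟦1⟧ with X_{k+1} ⟶ Y_k ⟶ X_k the differential; let (Y, a, b, c) and (Y', a', b', c') be
Postnikov systems for X and X'. If Hom(X_{j-i}⟦1-i⟧, X'_j) = 0 and Hom(X_j, X'_{j-i}⟦-i⟧) = 0 for
all 0 < i ≤ j ≤ n, then there is at most one morphism of Postnikov systems extending φ: two such
morphisms agree on Y_k for every k ≤ n. -/
theorem result {D : Type u} [Category.{v} D] [Preadditive D] [HasZeroObject D] [HasShift D ℤ]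
    [∀ n : ℤ, (shiftFunctor D n).Additive] [Pretriangulated D] [IsTriangulated D]
    (X X' : ChainComplex D ℕ) (φ : X ⟶ X') (n : ℕ)
    (Y : ℕ → D) (a : ∀ k, Y k ⟶ X.X k) (b : ∀ k, X.X (k + 1) ⟶ Y k)
    (c : ∀ k, Y k ⟶ (shiftFunctor D (1 : ℤ)).obj (Y (k + 1)))
    (h0 : IsIso (a 0))
    (hP : ∀ k, k < n → Triangle.mk (a (k + 1)) (b k) (c k) ∈ distinguishedTriangles ∧ b k ≫ a k = X.d (k + 1) k)
    (qY : ℕ → D) (qa : ∀ k, qY k ⟶ X'.X k) (qb : ∀ k, X'.X (k + 1) ⟶ qY k)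
    (qc : ∀ k, qY k ⟶ (shiftFunctor D (1 : ℤ)).obj (qY (k + 1)))
    (qh0 : IsIso (qa 0))
    (qhP : ∀ k, k < n → Triangle.mk (qa (k + 1)) (qb k) (qc k) ∈ distinguishedTriangles ∧ qb k ≫ qa k = X'.d (k + 1) k)
    (hv : ∀ i j : ℕ, 0 < i → i ≤ j → j ≤ n →
      (∀ ψ : (shiftFunctor D (1 - (i : ℤ))).obj (X.X (j - i)) ⟶ X'.X j, ψ = 0) ∧
      (∀ ψ : X.X j ⟶ (shiftFunctor D (-(i : ℤ))).obj (X'.X (j - i)), ψ = 0))
    (y z : ∀ k, Y k ⟶ qY k)
    (hy : (∀ k, k ≤ n → y k ≫ qa k = a k ≫ φ.f k) ∧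
      (∀ k, k < n → b k ≫ y k = φ.f (k + 1) ≫ qb k ∧ c k ≫ (shiftFunctor D (1 : ℤ)).map (y (k + 1)) = y k ≫ qc k))
    (hz : (∀ k, k ≤ n → z k ≫ qa k = a k ≫ φ.f k) ∧
      (∀ k, k < n → b k ≫ z k = φ.f (k + 1) ≫ qb k ∧ c k ≫ (shiftFunctor D (1 : ℤ)).map (z (k + 1)) = z k ≫ qc k))
    (k : ℕ) (hk : k ≤ n) :
    y k = z k := by
  induction k with
  | zero =>
    rw [← cancel_mono (qa 0), hy.1 0 hk, hz.1 0 hk]
  | succ k ih =>
    have hd : c k ≫ (shiftFunctor D (1 : ℤ)).map (y (k + 1) - z (k + 1)) = 0 := by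
      rw [Functor.map_sub, Preadditive.comp_sub, (hy.2 k (by omega)).2, (hz.2 k (by omega)).2,
        ih (by omega), sub_self]
    obtain ⟨ψ, hψ⟩ := Groth.Agent.PostnikovLib.Basic.exists_desc (hP k (by omega)).1 _ hd
    have h1 : ψ ≫ qa (k + 1) = 0 := by
      obtain ⟨ω, hω⟩ := Triangle.yoneda_exact₂ _ (hP k (by omega)).1 (ψ ≫ qa (k + 1)) (by
        show a (k + 1) ≫ ψ ≫ qa (k + 1) = 0
        rw [← Category.assoc, ← hψ, Preadditive.sub_comp, hy.1 _ hk, hz.1 _ hk, sub_self])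
      have hω0 : ω = 0 := by
        refine Groth.Agent.PostnikovLib.Basic.hom_from_eq_zero n X.X Y a b c h0
          (fun j hj => (hP j hj).1) k (by omega) _ (fun l hl g => ?_) ω
        have := (hv (l + 1) (k + 1) (by omega) (by omega) hk).1
        rw [show k + 1 - (l + 1) = k - l by omega,
          show (1 : ℤ) - ((l + 1 : ℕ) : ℤ) = -(l : ℤ) by push_cast; omega] at this
        exact this g
      subst hω0
      exact hω.trans comp_zero
    obtain ⟨ρ, hρ⟩ := Triangle.coyoneda_exact₁ _ (qhP k (by omega)).1 ((shiftFunctor D (1 : ℤ)).map ψ)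
      (by
        show (shiftFunctor D (1 : ℤ)).map ψ ≫ (shiftFunctor D (1 : ℤ)).map (qa (k + 1)) = 0
        rw [← Functor.map_comp, h1, Functor.map_zero])
    have hρ0 : ρ = 0 := by
      refine Groth.Agent.PostnikovLib.Basic.hom_to_eq_zero n X'.X qY qa qb qc qh0
        (fun j hj => (qhP j hj).1) k (by omega) _ (fun l hl g => ?_) ρ
      refine Groth.Agent.PostnikovLib.Basic.zero_of_shift_tgt (-((l + 1 : ℕ) : ℤ)) _ _
        (by push_cast; omega) (fun f => ?_) g
      have := (hv (l + 1) (k + 1) (by omega) (by omega) hk).2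
      rw [show k + 1 - (l + 1) = k - l by omega] at this
      exact this f
    have : ψ = 0 := (shiftFunctor D (1 : ℤ)).map_injective (by
      rw [hρ0, zero_comp] at hρ
      exact hρ.trans (Functor.map_zero _ _ _).symm)
    rw [this, comp_zero, sub_eq_zero] at hψ
    exact hψ

end Groth.Agent.S6623
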