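import Groth.Statements.S6625
import Groth.Agent.S6624
-- import your own Groth.Agent.* helpers here

set_option autoImplicit false
universe w w' v v' u u'
open CategoryTheory CategoryTheory.Limits
open CohDer

namespace Groth.Agent.S6625


section

variable {A : Type u} [Category.{v} A] [Abelian A] (I : ObjectProperty A)
  {X : A} (J : InjectiveResolution X)

/-- a stage of the construction of a resolution by objects of `I` under an injective one -/
structure Stage (n : ℕ) where
  B : A
  Y : A
  m : B ⟶ Y
  h : J.cocomplex.X n ⟶ Y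
  mono : Mono m
  memB : I B
  memY : I Y
  van : ∀ ⦃T : A⦄ (y : T ⟶ J.cocomplex.X n), y ≫ J.cocomplex.d n (n + 1) = 0 →
    y ≫ h ≫ cokernel.π m = 0

variable (h1 : ∀ X : A, ∃ (Y : A) (ι : X ⟶ Y), I Y ∧ Mono ι)
  (hco : ∀ ⦃B Y : A⦄ (m : B ⟶ Y), Mono m → I B → I Y → I (cokernel m)) (hX : I X)

include h1 hco in
lemma exists_next {n : ℕ} (s : Stage I J n) :
    ∃ s' : Stage I J (n + 1), ∃ e : s'.B = cokernel s.m,
      J.cocomplex.d n (n + 1) ≫ s'.h = s.h ≫ cokernel.π s.m ≫ eqToHom e.symm ≫ s'.m := by
  let g := s.h ≫ cokernel.π s.m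
  let φ : J.cocomplex.X n ⟶ cokernel s.m ⊞ J.cocomplex.X (n + 1) :=
    biprod.lift g (-J.cocomplex.d n (n + 1))
  have hmono : Mono (biprod.inl ≫ cokernel.π φ) := by
    refine Preadditive.mono_of_cancel_zero _ fun {T} x hx => ?_
    obtain ⟨T', p, hp, y, hy⟩ := (ShortComplex.exact_cokernel φ).exact_up_to_refinements
      (x ≫ biprod.inl) (by simpa using hx)
    dsimp at y hy
    have e1 : p ≫ x = y ≫ g := by simpa [φ] using congrArg (· ≫ biprod.fst) hy
    have e2 : y ≫ J.cocomplex.d n (n + 1) = 0 := by simpa [φ] using congrArg (· ≫ biprod.snd) hy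
    rw [← cancel_epi p, e1, s.van y e2, comp_zero]
  obtain ⟨Y, i, hY, hi⟩ := h1 (cokernel φ)
  let m := biprod.inl ≫ cokernel.π φ ≫ i
  have hm : Mono m := by
    rw [show m = (biprod.inl ≫ cokernel.π φ) ≫ i from (Category.assoc _ _ _).symm]
    exact mono_comp _ _
  let h := biprod.inr ≫ cokernel.π φ ≫ i
  have hc : J.cocomplex.d n (n + 1) ≫ h = g ≫ m := by
    have : φ ≫ cokernel.π φ ≫ i = 0 := by rw [cokernel.condition_assoc, zero_comp]
    have e : (g ≫ biprod.inl - J.cocomplex.d n (n + 1) ≫ biprod.inr) ≫ cokernel.π φ ≫ i = 0 := by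
      refine Eq.trans ?_ this
      congr 1
      simp [φ, biprod.lift_eq, sub_eq_add_neg]
    rw [Preadditive.sub_comp, sub_eq_zero] at e
    simpa [m, h] using e.symm
  refine ⟨⟨_, Y, m, h, hm, hco s.m s.mono s.memB s.memY, hY, fun T y hy => ?_⟩, rfl, ?_⟩
  · obtain ⟨T', p, hp, y', hy'⟩ := (J.exact_succ n).exact_up_to_refinements y hy
    dsimp at y' hy'
    rw [← cancel_epi p, reassoc_of% hy', reassoc_of% hc, cokernel.condition, comp_zero, comp_zero,
      comp_zero]
  · simpa [g] using hc

include h1 hX in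
lemma exists_zero : ∃ s : Stage I J 0, ∃ e : s.B = X, eqToHom e.symm ≫ s.m = J.ι.f 0 ≫ s.h := by
  obtain ⟨Y, i, hY, hi⟩ := h1 (J.cocomplex.X 0)
  let ι₀ : X ⟶ J.cocomplex.X 0 := J.ι.f 0
  have : Mono ι₀ := inferInstanceAs (Mono (J.ι.f 0))
  refine ⟨⟨X, Y, ι₀ ≫ i, i, inferInstance, hX, hY, fun T y hy => ?_⟩, rfl, by rw [eqToHom_refl]; exact Category.id_comp _⟩
  obtain ⟨T', p, hp, y', hy'⟩ := J.exact₀.exact_up_to_refinements y hy
  dsimp at y' hy'
  have hy'' : p ≫ y = y' ≫ ι₀ := hy'
  rw [← cancel_epi p, reassoc_of% hy'', ← Category.assoc ι₀ i, cokernel.condition, comp_zero,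
    comp_zero]

/-- the stages -/
noncomputable def stage : ∀ n, Stage I J n
  | 0 => (exists_zero I J h1 hX).choose
  | n + 1 => (exists_next I J h1 hco (stage n)).choose

lemma stage_succ_B (n : ℕ) : (stage I J h1 hco hX (n + 1)).B = cokernel (stage I J h1 hco hX n).m :=
  (exists_next I J h1 hco (stage I J h1 hco hX n)).choose_spec.choose

/-- the map from one cokernel to the next term -/
noncomputable def stepMono (n : ℕ) :
    cokernel (stage I J h1 hco hX n).m ⟶ (stage I J h1 hco hX (n + 1)).Y :=
  eqToHom (stage_succ_B I J h1 hco hX n).symm ≫ (stage I J h1 hco hX (n + 1)).m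

instance mono_stepMono (n : ℕ) : Mono (stepMono I J h1 hco hX n) :=
  have := (stage I J h1 hco hX (n + 1)).mono
  mono_comp _ _

lemma cokernel_cond (n : ℕ) :
    stepMono I J h1 hco hX n ≫ cokernel.π (stage I J h1 hco hX (n + 1)).m = 0 := by
  rw [stepMono, Category.assoc, cokernel.condition, comp_zero]

lemma shortExact_step (n : ℕ) :
    (ShortComplex.mk _ _ (cokernel_cond I J h1 hco hX n)).ShortExact := by
  have h := ShortComplex.exact_cokernel (stage I J h1 hco hX (n + 1)).m
  have := (stage I J h1 hco hX (n + 1)).mono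
  exact ShortComplex.ShortExact.mk' (ShortComplex.exact_of_iso (ShortComplex.isoMk
    (S₁ := ShortComplex.mk (stage I J h1 hco hX (n + 1)).m
      (cokernel.π (stage I J h1 hco hX (n + 1)).m) (cokernel.condition _))
    (eqToIso (stage_succ_B I J h1 hco hX n)) (Iso.refl _) (Iso.refl _)
    (by simp [stepMono]) (by simp)) h) inferInstance inferInstance

/-- the resolution by objects of `I` -/
noncomputable def W : CochainComplex A ℕ :=
  CochainComplex.of (fun n => (stage I J h1 hco hX n).Y)
    (fun n => cokernel.π (stage I J h1 hco hX n).m ≫ stepMono I J h1 hco hX n)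
    (fun n => by simp [reassoc_of% (cokernel_cond I J h1 hco hX n)])

lemma W_d (n : ℕ) : (W I J h1 hco hX).d n (n + 1) =
    cokernel.π (stage I J h1 hco hX n).m ≫ stepMono I J h1 hco hX n :=
  CochainComplex.of_d (fun n => (stage I J h1 hco hX n).Y)
    (fun n => cokernel.π (stage I J h1 hco hX n).m ≫ stepMono I J h1 hco hX n) n

/-- the map from the injective resolution -/
noncomputable def toW : J.cocomplex ⟶ W I J h1 hco hX where
  f n := (stage I J h1 hco hX n).h
  comm' i j (hij : i + 1 = j) := by
    subst hij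
    rw [W_d]
    exact ((exists_next I J h1 hco (stage I J h1 hco hX i)).choose_spec.choose_spec).symm

/-- the augmentation -/
noncomputable def aug : (CochainComplex.single₀ A).obj X ⟶ W I J h1 hco hX :=
  J.ι ≫ toW I J h1 hco hX

lemma stage_zero_B : (stage I J h1 hco hX 0).B = X :=
  (exists_zero I J h1 hX).choose_spec.choose

lemma aug_f_zero : (aug I J h1 hco hX).f 0 =
    eqToHom (stage_zero_B I J h1 hco hX).symm ≫ (stage I J h1 hco hX 0).m :=
  ((exists_zero I J h1 hX).choose_spec.choose_spec).symm

lemma aug_cond : eqToHom (stage_zero_B I J h1 hco hX).symm ≫ (stage I J h1 hco hX 0).m ≫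
    cokernel.π (stage I J h1 hco hX 0).m = 0 := by simp

variable {C : Type u'} [Category.{v'} C] [Abelian C] (G : A ⥤ C) [G.Additive]
  (hG : ∀ S : ShortComplex A, S.ShortExact → I S.X₁ → I S.X₂ → (S.map G).ShortExact)

include hG in
lemma quasiIso_map_aug :
    QuasiIso ((G.mapHomologicalComplex (ComplexShape.up ℕ)).map (aug I J h1 hco hX)) := by
  let st := stage I J h1 hco hX
  have hC : ∀ n, I (cokernel (st n).m) := fun n =>
    hco _ (st n).mono (st n).memB (st n).memY
  have hs : ∀ n, ((ShortComplex.mk _ _ (cokernel_cond I J h1 hco hX n)).map G).ShortExact :=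
    fun n => hG _ (shortExact_step I J h1 hco hX n) (hC n) (st (n + 1)).memY
  have h0 := (st 0).mono
  have hsh0 : ((ShortComplex.mk _ _ (cokernel.condition (st 0).m)).map G).ShortExact :=
    hG _ (ShortComplex.ShortExact.mk' (ShortComplex.exact_cokernel _) inferInstance inferInstance)
      (st 0).memB (st 0).memY
  refine (quasiIso_iff _).2 fun i => ?_
  rcases i with _ | n
  · rw [CochainComplex.quasiIsoAt₀_iff, ShortComplex.quasiIso_iff_of_zeros]
    · refine (ShortComplex.exact_and_mono_f_iff_of_iso (S₂ := ShortComplex.mk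
        (G.map (eqToHom (stage_zero_B I J h1 hco hX).symm ≫ (st 0).m))
        (G.map (cokernel.π (st 0).m ≫ stepMono I J h1 hco hX 0))
        (by rw [← G.map_comp]; simp [st])) ?_).2 ?_
      · exact ShortComplex.isoMk (Iso.refl _) (Iso.refl _) (Iso.refl _)
          ((Category.id_comp _).trans ((congrArg G.map (aug_f_zero I J h1 hco hX).symm).trans
            (Category.comp_id _).symm))
          ((Category.id_comp _).trans ((congrArg G.map (W_d I J h1 hco hX 0).symm).trans
            (Category.comp_id _).symm))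
      have hm : Mono (G.map (stepMono I J h1 hco hX 0)) := (hs 0).mono_f
      have hm' : Mono (G.map (st 0).m) := hsh0.mono_f
      refine ⟨?_, ?_⟩
      · let φ : (ShortComplex.mk _ _ (cokernel.condition (st 0).m)).map G ⟶ ShortComplex.mk
            (G.map (eqToHom (stage_zero_B I J h1 hco hX).symm ≫ (st 0).m))
            (G.map (cokernel.π (st 0).m ≫ stepMono I J h1 hco hX 0))
            (by rw [← G.map_comp]; simp [st]) :=
          { τ₁ := G.map (eqToHom (stage_zero_B I J h1 hco hX))
            τ₂ := 𝟙 _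
            τ₃ := G.map (stepMono I J h1 hco hX 0)
            comm₁₂ := by
              show G.map _ ≫ G.map (_ ≫ _) = G.map _ ≫ 𝟙 _
              rw [← G.map_comp, eqToHom_trans_assoc, eqToHom_refl, Category.id_comp,
                Category.comp_id]
            comm₂₃ := by
              show 𝟙 _ ≫ G.map (_ ≫ _) = G.map _ ≫ G.map _
              rw [G.map_comp, Category.id_comp] }
        have : Epi φ.τ₁ := inferInstanceAs (Epi (G.map (eqToHom (stage_zero_B I J h1 hco hX))))
        have : IsIso φ.τ₂ := inferInstanceAs (IsIso (𝟙 _))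
        have : Mono φ.τ₃ := hm
        exact (ShortComplex.exact_iff_of_epi_of_isIso_of_mono φ).1 hsh0.exact
      · show Mono (G.map (_ ≫ _))
        rw [G.map_comp]; exact mono_comp _ _
    all_goals first
      | rfl
      | exact (congrArg G.map ((W I J h1 hco hX).shape 0 0 (by simp))).trans (G.map_zero _ _)
      | exact (congrArg G.map (HomologicalComplex.single_obj_d (ComplexShape.up ℕ) 0 X _ _)).trans
          (G.map_zero _ _)
  · have hex : ((G.mapHomologicalComplex (ComplexShape.up ℕ)).obj
        ((CochainComplex.single₀ A).obj X)).ExactAt (n + 1) := ShortComplex.exact_of_isZero_X₂ _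
      (G.map_isZero (HomologicalComplex.isZero_single_obj_X (ComplexShape.up ℕ) 0 X (n + 1)
        (by omega)))
    rw [quasiIsoAt_iff_exactAt _ _ hex]
    rw [HomologicalComplex.exactAt_iff' _ n (n + 1) (n + 1 + 1) (by simp) (by simp)]
    have hepi : Epi (G.map (cokernel.π (st n).m)) := by
      rcases n with _ | k
      · exact hsh0.epi_g
      · exact (hs k).epi_g
    have hm : Mono (G.map (stepMono I J h1 hco hX (n + 1))) := (hs (n + 1)).mono_f
    let T : ShortComplex C := ShortComplex.mk
      (G.map (cokernel.π (st n).m ≫ stepMono I J h1 hco hX n))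
      (G.map (cokernel.π (st (n + 1)).m ≫ stepMono I J h1 hco hX (n + 1)))
      (by rw [← G.map_comp]; simp [st, reassoc_of% (cokernel_cond I J h1 hco hX n)])
    refine ShortComplex.exact_of_iso (ShortComplex.isoMk (S₁ := T) (Iso.refl _) (Iso.refl _)
      (Iso.refl _) ((Category.id_comp _).trans ((congrArg G.map (W_d I J h1 hco hX n)).trans
        (Category.comp_id _).symm)) ((Category.id_comp _).trans
        ((congrArg G.map (W_d I J h1 hco hX (n + 1))).trans (Category.comp_id _).symm))) ?_
    let T' : ShortComplex C := ShortComplex.mk (G.map (stepMono I J h1 hco hX n))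
      (G.map (cokernel.π (st (n + 1)).m ≫ stepMono I J h1 hco hX (n + 1)))
      (by rw [← G.map_comp]; simp [st, reassoc_of% (cokernel_cond I J h1 hco hX n)])
    let a : (ShortComplex.mk _ _ (cokernel_cond I J h1 hco hX n)).map G ⟶ T' :=
      { τ₁ := 𝟙 _, τ₂ := 𝟙 _, τ₃ := G.map (stepMono I J h1 hco hX (n + 1))
        comm₁₂ := (Category.id_comp _).trans (Category.comp_id _).symm
        comm₂₃ := by
          show 𝟙 _ ≫ G.map (_ ≫ _) = G.map _ ≫ G.map _
          rw [G.map_comp, Category.id_comp] }
    have : Epi a.τ₁ := inferInstanceAs (Epi (𝟙 _))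
    have : IsIso a.τ₂ := inferInstanceAs (IsIso (𝟙 _))
    have : Mono a.τ₃ := hm
    have hT' : T'.Exact := (ShortComplex.exact_iff_of_epi_of_isIso_of_mono a).1 (hs n).exact
    let b : T ⟶ T' :=
      { τ₁ := G.map (cokernel.π (st n).m), τ₂ := 𝟙 _, τ₃ := 𝟙 _
        comm₁₂ := by
          show G.map _ ≫ G.map _ = G.map (_ ≫ _) ≫ 𝟙 _
          rw [G.map_comp, Category.comp_id]
        comm₂₃ := (Category.id_comp _).trans (Category.comp_id _).symm }
    have : Epi b.τ₁ := hepi
    have : IsIso b.τ₂ := inferInstanceAs (IsIso (𝟙 _))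
    have : Mono b.τ₃ := inferInstanceAs (Mono (𝟙 _))
    exact (ShortComplex.exact_iff_of_epi_of_isIso_of_mono b).2 hT'

end

section

variable {A : Type u} [Category.{v} A] [Abelian A] [EnoughInjectives A]
    {B : Type u'} [Category.{v'} B] [Abelian B] (F : A ⥤ B) [F.Additive] (I : ObjectProperty A)
    (h1 : ∀ X : A, ∃ (Y : A) (ι : X ⟶ Y), I Y ∧ Mono ι)
    (h2 : ∀ S : ShortComplex A, S.ShortExact → I S.X₁ → I S.X₂ → I S.X₃ ∧ (S.map F).ShortExact)

omit [EnoughInjectives A] in
include h1 h2 in
lemma quasiIso_map {X : A} (hX : I X) (J : InjectiveResolution X) :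
    QuasiIso ((F.mapHomologicalComplex (ComplexShape.up ℕ)).map J.ι) := by
  have hco : ∀ ⦃B Y : A⦄ (m : B ⟶ Y), Mono m → I B → I Y → I (cokernel m) := fun B Y m hm hB hY =>
    (h2 (ShortComplex.mk _ _ (cokernel.condition m))
      (ShortComplex.ShortExact.mk' (ShortComplex.exact_cokernel _) hm inferInstance) hB hY).1
  have hqi : QuasiIso (aug I J h1 hco hX) := by
    have h := quasiIso_map_aug I J h1 hco hX (𝟭 A) (fun S hS _ _ => hS)
    exact h
  let R : Groth.Agent.ModShf.AcyclicRes.Res X := ⟨_, aug I J h1 hco hX, hqi⟩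
  let r := R.desc (𝟙 X) J
  have hr : J.ι ≫ toW I J h1 hco hX ≫ r = J.ι := by
    have := R.ι_desc (𝟙 X) J
    change (J.ι ≫ toW I J h1 hco hX) ≫ r = _ at this
    simpa using this
  let hom : Homotopy (toW I J h1 hco hX ≫ r) (𝟙 J.cocomplex) :=
    InjectiveResolution.descHomotopy (𝟙 X) _ _ (by simp [hr]) (by simp)
  have hW := quasiIso_map_aug I J h1 hco hX F (fun S hS h h' => (h2 S hS h h').2)
  let Φ := F.mapHomologicalComplex (ComplexShape.up ℕ)
  refine (quasiIso_iff _).2 fun i => (quasiIsoAt_iff_isIso_homologyMap _ i).2 ?_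
  have hiso : IsIso (HomologicalComplex.homologyMap (Φ.map J.ι) i ≫
      HomologicalComplex.homologyMap (Φ.map (toW I J h1 hco hX)) i) := by
    have := (quasiIsoAt_iff_isIso_homologyMap _ i).1 ((quasiIso_iff _).1 hW i)
    rw [← HomologicalComplex.homologyMap_comp, ← Φ.map_comp]
    exact this
  have hsplit : HomologicalComplex.homologyMap (Φ.map (toW I J h1 hco hX)) i ≫
      HomologicalComplex.homologyMap (Φ.map r) i = 𝟙 _ := by
    rw [← HomologicalComplex.homologyMap_comp, ← Φ.map_comp, (F.mapHomotopy hom).homologyMap_eq,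
      Φ.map_id, HomologicalComplex.homologyMap_id]
  have hmono : Mono (HomologicalComplex.homologyMap (Φ.map (toW I J h1 hco hX)) i) :=
    mono_of_mono_fac hsplit
  have hepi : Epi (HomologicalComplex.homologyMap (Φ.map (toW I J h1 hco hX)) i) :=
    epi_of_epi (HomologicalComplex.homologyMap (Φ.map J.ι) i) _
  have := isIso_of_mono_of_epi (HomologicalComplex.homologyMap (Φ.map (toW I J h1 hco hX)) i)
  exact IsIso.of_isIso_comp_right (HomologicalComplex.homologyMap (Φ.map J.ι) i)
    (HomologicalComplex.homologyMap (Φ.map (toW I J h1 hco hX)) i)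

end


/-- In the case where A has enough injectives: let F : A ⥤ B be an additive functor between abelian
categories, A with enough injectives, and I a class of objects of A such that (1) each object of A
embeds by a monomorphism into some object of I, and (2) whenever 0 → P → Q → R → 0 is a short exact
sequence whose terms P and Q lie in I, the third term R also lies in I, and applying F to the
sequence yields a short exact sequence in B. Under these assumptions, each X belonging to I is right
acyclic for F, meaning the map F(X)[0] ⟶ RF(X[0]) is an isomorphism. -/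
theorem result {A : Type u} [Category.{v} A] [Abelian A] [HasDerivedCategory.{w} A] [EnoughInjectives A]
    {B : Type u'} [Category.{v'} B] [Abelian B] [HasDerivedCategory.{w'} B]
    (F : A ⥤ B) [F.Additive] (I : ObjectProperty A)
    (h1 : ∀ X : A, ∃ (Y : A) (ι : X ⟶ Y), I Y ∧ Mono ι)
    (h2 : ∀ S : ShortComplex A, S.ShortExact → I S.X₁ → I S.X₂ → I S.X₃ ∧ (S.map F).ShortExact)
    (X : A) (hX : I X) :
    IsIso (F.rightDerivedFunctorPlusUnit.app ((HomotopyCategory.Plus.singleFunctor A 0).obj X)) := by
  let J : InjectiveResolution X := Classical.choice (HasInjectiveResolution.out (Z := X))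
  rw [Groth.Agent.S6624.isIso_unit_iff F J]
  exact quasiIso_map F I h1 h2 hX J

end Groth.Agent.S6625
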