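import Groth.Statements.S6629
import Groth.Agent.EtaleSite.Covers
import Mathlib.CategoryTheory.Sites.EpiMono

set_option autoImplicit false
open CategoryTheory CategoryTheory.Limits AlgebraicGeometry Opposite
universe u
open EtDesc

namespace Groth.Agent.S6629

/-- Let f : X ⟶ Y be a morphism of schemes satisfying condition (B) (for every etale V ⟶ Y and every
etale covering of X ×_Y V there is an etale covering of V by schemes V_j such that each X ×_Y V_j is
a disjoint union of open subschemes each mapping into X ×_Y V through a member of the given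
covering). Then the direct image of sheaves of sets on the small etale sites along f sends
epimorphisms to epimorphisms. -/
theorem result {X Y : Scheme.{u}} (f : X ⟶ Y) (hB : BigSite.PropB f) :
    (EtDesc.pushSh f).PreservesEpimorphisms := by
  refine ⟨fun {F G} a ha => (Sheaf.isLocallySurjective_iff_epi' _ _).1 ⟨fun {V} t => ?_⟩⟩
  have hls : Sheaf.IsLocallySurjective a := (Sheaf.isLocallySurjective_iff_epi' _ _).2 ha
  have hS := Presheaf.imageSieve_mem X.smallEtaleTopology a.hom (U := op ((EtCoh.bc f).obj V)) t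
  choose U g pt hg hpt using Groth.Agent.EtaleSite.Covers.exists_of_mem hS
  choose sx hsx using hg
  let σ := pullbackSymmetry V.hom f
  have hgs : ∀ x, Etale (g x).left := fun x => inferInstance
  obtain ⟨κ, V', v', hv', hcov, hW⟩ := hB V.left V.hom (ULift.{u} ↥(pullback V.hom f))
    (fun x => (U x.down).left) (fun x => (g x.down).left ≫ σ.hom)
    (fun x => by
      have := hgs x.down
      have : Etale σ.hom := inferInstance
      exact inferInstanceAs (Etale ((g x.down).left ≫ σ.hom)))
    (fun x => ⟨⟨σ.inv x⟩, pt (σ.inv x), by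
      change σ.hom ((g (σ.inv x)).left (pt (σ.inv x))) = x
      rw [hpt]
      exact (Scheme.Hom.comp_apply σ.inv σ.hom x).symm.trans (by rw [Iso.inv_hom_id]; rfl)⟩)
  refine Groth.Agent.EtaleSite.mem_topology_of_forall_exists _ fun y => ?_
  obtain ⟨j, w₀, hw₀⟩ := hcov y
  have := hv' j
  let Vj : Y.Etale := Scheme.Etale.mk (v' j ≫ V.hom)
  let kj : Vj ⟶ V := MorphismProperty.Over.homMk (A := Vj) (B := V) (v' j) rfl trivial
  refine ⟨Vj, kj, w₀, ?_, hw₀⟩
  obtain ⟨μ, W, hdisj, htop, hfac⟩ := hW j
  let σ' := pullbackSymmetry (v' j ≫ V.hom) f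
  let O : μ → (pullback (v' j ≫ V.hom) f).Opens := fun m => σ'.hom ⁻¹ᵁ W m
  let Wm : μ → X.Etale := fun m => Scheme.Etale.mk ((O m).ι ≫ pullback.snd (v' j ≫ V.hom) f)
  let im : ∀ m, Wm m ⟶ (EtCoh.bc f).obj Vj := fun m =>
    MorphismProperty.Over.homMk (A := Wm m) (B := (EtCoh.bc f).obj Vj) (O m).ι rfl trivial
  choose ix hh hhe using hfac
  have hfacm : ∀ m, ∃ q : Wm m ⟶ U (ix m).down,
      q ≫ g (ix m).down = im m ≫ (EtCoh.bc f).map kj := by
    intro m
    let l : (O m : Scheme.{u}) ⟶ (U (ix m).down).left := (σ'.hom ∣_ W m) ≫ hh m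
    have hbc : ((EtCoh.bc f).map kj).left ≫ σ.hom =
        σ'.hom ≫ pullback.map f (v' j ≫ V.hom) f V.hom (𝟙 X) (v' j) (𝟙 Y) (by simp) (by simp) := by
      apply pullback.hom_ext
      · refine (Category.assoc _ _ _).trans ?_
        refine (congrArg (((EtCoh.bc f).map kj).left ≫ ·)
          (pullbackSymmetry_hom_comp_fst V.hom f)).trans ?_
        refine (MorphismProperty.Over.w ((EtCoh.bc f).map kj)).trans ?_
        exact (((Category.assoc _ _ _).trans (congrArg (σ'.hom ≫ ·)
          ((pullback.lift_fst _ _ _).trans (Category.comp_id _)))).trans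
          (pullbackSymmetry_hom_comp_fst (v' j ≫ V.hom) f)).symm
      · refine (Category.assoc _ _ _).trans ?_
        refine (congrArg (((EtCoh.bc f).map kj).left ≫ ·)
          (pullbackSymmetry_hom_comp_snd V.hom f)).trans ?_
        refine (EtCoh.isPullback_bc_map f kj).w.trans ?_
        exact (((Category.assoc _ _ _).trans (congrArg (σ'.hom ≫ ·) (pullback.lift_snd _ _ _))).trans
          ((Category.assoc _ _ _).symm.trans
            (congrArg (· ≫ v' j) (pullbackSymmetry_hom_comp_snd (v' j ≫ V.hom) f)))).symm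
    have hl : l ≫ (g (ix m).down).left = (O m).ι ≫ ((EtCoh.bc f).map kj).left := by
      apply (cancel_mono σ.hom).1
      refine (Category.assoc _ _ _).trans (Eq.trans ?_ (Category.assoc _ _ _).symm)
      refine Eq.trans ?_ (congrArg ((O m).ι ≫ ·) hbc).symm
      refine (Category.assoc _ _ _).trans ((congrArg ((σ'.hom ∣_ W m) ≫ ·) (hhe m)).trans ?_)
      exact (morphismRestrict_ι_assoc σ'.hom (W m) _)
    refine ⟨MorphismProperty.Over.homMk (A := Wm m) (B := U (ix m).down) l ?_ trivial,
      MorphismProperty.Over.Hom.ext hl⟩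
    refine (congrArg (l ≫ ·) (MorphismProperty.Over.w (g (ix m).down)).symm).trans ?_
    refine (Category.assoc _ _ _).symm.trans ((congrArg (fun e => e ≫ ((EtCoh.bc f).obj V).hom) hl).trans ?_)
    exact (Category.assoc _ _ _).trans
      (congrArg ((O m).ι ≫ ·) (MorphismProperty.Over.w ((EtCoh.bc f).map kj)))
  choose q hq using hfacm
  let sm : ∀ m, F.obj.obj (op (Wm m)) := fun m => F.obj.map (q m).op (sx (ix m).down)
  have hsh := (isSheaf_iff_isSheaf_of_type _ _).1 F.property
  have hmem : Sieve.generate (Presieve.ofArrows Wm im) ∈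
      X.smallEtaleTopology ((EtCoh.bc f).obj Vj) := by
    refine Groth.Agent.EtaleSite.mem_topology_of_forall_exists _ fun x => ?_
    have hx : σ'.hom x ∈ (⨆ m, W m) := by rw [htop]; trivial
    obtain ⟨m, hm⟩ := TopologicalSpace.Opens.mem_iSup.1 hx
    exact ⟨Wm m, im m, (⟨x, hm⟩ : O m), Sieve.le_generate _ _ _ (Presieve.ofArrows.mk m), rfl⟩
  have hcompat : Presieve.Arrows.Compatible F.obj im sm := by
    intro m m' Z a b hab
    by_cases hmm : m = m'
    · subst hmm
      have : a = b := MorphismProperty.Over.Hom.ext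
        ((cancel_mono (O m).ι).1 (congrArg (fun e => e.left) hab))
      rw [this]
    · have : IsEmpty Z.left := ⟨fun z => by
        have e := congrArg (fun e => e.left z) hab
        change (O m).ι (a.left z) = (O m').ι (b.left z) at e
        have h1 : σ'.hom ((O m).ι (a.left z)) ∈ W m := (a.left z).2
        have h2 : σ'.hom ((O m').ι (b.left z)) ∈ W m' := (b.left z).2
        rw [← e] at h2
        exact (hdisj m m' hmm).le_bot ⟨h1, h2⟩⟩
      exact (Groth.Agent.EtaleSite.Covers.subsingleton_sect_of_isEmpty F Z).elim _ _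
  obtain ⟨s, hs, -⟩ := (Presieve.isSheafFor_arrows_iff F.obj im).1
    ((Presieve.isSheafFor_iff_generate _).2 (hsh _ hmem)) sm hcompat
  refine ⟨s, ?_⟩
  change a.hom.app (op ((EtCoh.bc f).obj Vj)) s = G.obj.map ((EtCoh.bc f).map kj).op t
  refine (((isSheaf_iff_isSheaf_of_type _ _).1 G.property).isSeparated _ hmem).ext ?_
  rintro Z _ ⟨_, r, _, ⟨m⟩, rfl⟩
  simp only [op_comp, Functor.map_comp_apply]
  congr 1
  rw [← NatTrans.naturality_apply, hs m]
  simp only [sm, NatTrans.naturality_apply, hsx]
  rw [← Functor.map_comp_apply, ← Functor.map_comp_apply, ← op_comp, ← op_comp, hq]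

end Groth.Agent.S6629
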