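import Groth.Statements.S6630
import Groth.Agent.EtaleSite.PushIntegral

set_option autoImplicit false
open CategoryTheory CategoryTheory.Limits AlgebraicGeometry Opposite
universe u
open EtCore

namespace Groth.Agent.S6630

/-- An integral morphism of schemes satisfies condition (B): for every etale V ⟶ Y and every etale
covering of X ×_Y V there is an etale covering of V by schemes V_j such that each X ×_Y V_j is a
disjoint union of open subschemes each mapping into X ×_Y V through a member of the given covering. -/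
theorem result {X Y : Scheme.{u}} (f : X ⟶ Y) [IsIntegralHom f] : BigSite.PropB f := by
  intro V v _ ι U g hg hcov
  classical
  let G : (∐ U) ⟶ pullback f v := Sigma.desc g
  have : AlgebraicGeometry.Etale G := Groth.Agent.EtaleSite.etale_sigmaDesc g
  choose V' hv' h hh using fun y : V =>
    Groth.Agent.EtaleSite.exists_nbhd_factor (pullback.snd f v) G y fun x _ => by
      obtain ⟨i, z, hz⟩ := hcov x
      exact ⟨Sigma.ι U i z, by rw [← Scheme.Hom.comp_apply, Sigma.ι_desc]; exact hz⟩
  refine ⟨V, fun y => (V' y).left, fun y => (V' y).hom, fun y => (V' y).prop,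
    fun y => ⟨y, (hv' y).choose, (hv' y).choose_spec⟩, fun y => ?_⟩
  let m : pullback f ((V' y).hom ≫ v) ⟶ pullback (V' y).hom (pullback.snd f v) :=
    pullback.lift (pullback.snd _ _)
      (pullback.map f ((V' y).hom ≫ v) f v (𝟙 X) (V' y).hom (𝟙 Y) (by simp) (by simp)) (pullback.lift_snd _ _ _).symm
  have hm : m ≫ h y ≫ G =
      pullback.map f ((V' y).hom ≫ v) f v (𝟙 X) (V' y).hom (𝟙 Y) (by simp) (by simp) := by
    rw [hh]; exact pullback.lift_snd _ _ _
  obtain ⟨W, hd, hc, hk⟩ := Groth.Agent.EtaleSite.exists_pieces (m ≫ h y)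
  refine ⟨ι, W, hd, eq_top_iff.2 fun x _ => ?_, fun a => ?_⟩
  · obtain ⟨a, ha⟩ := hc x
    exact TopologicalSpace.Opens.mem_iSup.2 ⟨a, ha⟩
  · obtain ⟨k, hk⟩ := hk a
    refine ⟨a, k, ?_⟩
    rw [← hm, ← Sigma.ι_desc g a, ← Category.assoc k, hk]
    simp only [Category.assoc]
    rfl

end Groth.Agent.S6630
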