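import Groth.Statements.S6631
import Groth.Agent.EtaleSite.SetStalk
import Groth.Agent.EtaleSite.Covers

set_option autoImplicit false
open CategoryTheory CategoryTheory.Limits AlgebraicGeometry Opposite
universe u
open EtDesc

namespace Groth.Agent.S6631

open Groth.Agent.EtaleSite in
lemma exists_bc_cover {X Y : Scheme.{u}} (f : X ⟶ Y) (hC : BigSite.PropC f) (U : X.Etale) :
    ∃ (V : Y.Etale) (k : (EtCoh.bc f).obj V ⟶ U), Function.Surjective k.left.base := by
  obtain ⟨V, v, hv, h, hw, hs⟩ := hC U.left U.hom
  let V' : Y.Etale := Scheme.Etale.mk v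
  let h' : pullback v f ⟶ U.left := (pullbackSymmetry v f).hom ≫ h
  have hw' : h' ≫ U.hom = pullback.snd v f := by simp [h', hw]
  have : Surjective h' := inferInstance
  exact ⟨V', MorphismProperty.Over.homMk (A := (EtCoh.bc f).obj V') (B := U) h' hw' trivial,
    h'.surjective⟩


/-- Let f : X ⟶ Y be a morphism of schemes satisfying condition (C) (for every etale U ⟶ X there are an
etale V ⟶ Y and a surjective X-morphism X ×_Y V ⟶ U). Then the direct image of sheaves of sets on
the small etale sites along f reflects monomorphisms and epimorphisms. -/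
theorem result {X Y : Scheme.{u}} (f : X ⟶ Y) (hC : BigSite.PropC f) :
    (EtDesc.pushSh f).ReflectsMonomorphisms ∧ (EtDesc.pushSh f).ReflectsEpimorphisms := by
  refine ⟨⟨fun {F G} a ha => ?_⟩, ⟨fun {F G} a ha => ?_⟩⟩
  · have hinj : ∀ V : Y.Etale, Function.Injective (a.hom.app (op ((EtCoh.bc f).obj V))) := fun V => by
      have : Mono (((EtDesc.pushSh f).map a).hom) :=
        inferInstanceAs (Mono ((sheafToPresheaf _ _).map ((EtDesc.pushSh f).map a)))
      exact (CategoryTheory.mono_iff_injective (((EtDesc.pushSh f).map a).hom.app (op V))).1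
        inferInstance
    refine Groth.Agent.EtaleSite.SetStalk.mono_of_injective a fun U s t hst => ?_
    obtain ⟨V, k, hk⟩ := exists_bc_cover f hC U.unop
    refine (((isSheaf_iff_isSheaf_of_type _ _).1 F.property).isSeparated _
      (Groth.Agent.EtaleSite.Covers.singleton_mem k hk)).ext ?_
    rintro W g ⟨_, p, _, ⟨⟩, rfl⟩
    have e : F.obj.map k.op s = F.obj.map k.op t := by
      apply hinj V
      simp only [NatTrans.naturality_apply]
      exact congrArg _ hst
    simp only [op_comp, Functor.map_comp_apply, e]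
  · refine (Sheaf.isLocallySurjective_iff_epi' _ a).1 ⟨fun {U} t => ?_⟩
    have hls : Sheaf.IsLocallySurjective ((EtDesc.pushSh f).map a) :=
      (Sheaf.isLocallySurjective_iff_epi' _ _).2 ha
    obtain ⟨V, k, hk⟩ := exists_bc_cover f hC U
    have hS := (EtCoh.coverPreserving_bc f).cover_preserve
      (Presheaf.imageSieve_mem Y.smallEtaleTopology ((EtDesc.pushSh f).map a).hom
        (U := op V) (G.obj.map k.op t))
    refine Groth.Agent.EtaleSite.mem_topology_of_forall_exists _ fun u => ?_
    obtain ⟨z, hz⟩ := hk u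
    obtain ⟨W, g, w, ⟨W', q, r, hq, rfl⟩, hw⟩ := Groth.Agent.EtaleSite.Covers.exists_of_mem hS z
    refine ⟨W, (r ≫ (EtCoh.bc f).map q) ≫ k, w, ?_, (congrArg k.left.base hw).trans hz⟩
    obtain ⟨s, hs⟩ := hq
    refine ⟨F.obj.map r.op s, ?_⟩
    change a.hom.app (op ((EtCoh.bc f).obj W')) s =
      G.obj.map ((EtCoh.bc f).map q).op (G.obj.map k.op t) at hs
    rw [NatTrans.naturality_apply, hs]
    simp only [op_comp, Functor.map_comp_apply]

end Groth.Agent.S6631
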