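import Groth.Statements.S6632
import Groth.Agent.EtaleSite.Clopen
import Groth.Prelude.Def_BigSite

set_option autoImplicit false
open CategoryTheory CategoryTheory.Limits AlgebraicGeometry Opposite
universe u
open EtCore

namespace Groth.Agent.S6632

set_option backward.isDefEq.respectTransparency.types false in
/-- Let f : X ⟶ Y be a morphism of schemes such that, for every etale V ⟶ Y, the base change X ×_Y V ⟶ V
satisfies condition (C) (for every etale U ⟶ X ×_Y V there are an etale V' ⟶ V and a surjective
morphism from the base change of V' to U over X ×_Y V) and is closed as a map of topological spaces.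
Then the base change functor V ↦ X ×_Y V from the small etale site of Y to that of X is almost
cocontinuous: every covering sieve of X ×_Y V contains the images of the members of some covering
sieve of V, except for members V' for which X ×_Y V' is covered by the empty sieve. -/
theorem result {X Y : Scheme.{u}} (f : X ⟶ Y)
    (hC : ∀ (V : Scheme.{u}) (v : V ⟶ Y) [Etale v], BigSite.PropC (pullback.snd f v))
    (hcl : ∀ (V : Scheme.{u}) (v : V ⟶ Y) [Etale v], IsClosedMap (pullback.snd f v).base) :
    BigSite.IsAlmostCocontinuous (EtCoh.bc f) Y.smallEtaleTopology X.smallEtaleTopology := by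
  intro V R hR
  let R' : Sieve V :=
    { arrows := fun Z g => IsEmpty ↥((EtCoh.bc f).obj Z).left ∨ R ((EtCoh.bc f).map g)
      downward_closed := fun {Z W g} hg k => by
        rcases hg with hg | hg
        · exact Or.inl (Function.isEmpty ((EtCoh.bc f).map k).left)
        · refine Or.inr ?_
          rw [Functor.map_comp]
          exact R.downward_closed hg _ }
  refine ⟨R', Groth.Agent.EtaleSite.mem_topology_of_forall_exists _ fun v => ?_, ?_⟩
  · haveI : AlgebraicGeometry.Etale V.hom := V.prop
    let s : pullback V.hom f ⟶ pullback f V.hom := (pullbackSymmetry V.hom f).hom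
    let q : pullback f V.hom ⟶ V.left := pullback.snd f V.hom
    by_cases hv : v ∈ Set.range q
    · obtain ⟨x', hx'⟩ := hv
      obtain ⟨Z, g, z, hg, hz⟩ := Groth.Agent.EtaleSite.exists_of_mem_topology hR
        ((pullbackSymmetry V.hom f).inv x')
      let gl : Z.left ⟶ pullback V.hom f := g.left
      haveI : AlgebraicGeometry.Etale gl := by
        have h1 : AlgebraicGeometry.Etale g.left := by
          haveI : AlgebraicGeometry.Etale ((EtCoh.bc f).obj V).hom := ((EtCoh.bc f).obj V).prop
          haveI : AlgebraicGeometry.Etale (g.left ≫ ((EtCoh.bc f).obj V).hom) := by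
            rw [MorphismProperty.Over.w g]; exact Z.prop
          exact Etale.of_comp g.left ((EtCoh.bc f).obj V).hom
        exact h1
      haveI : AlgebraicGeometry.Etale s := inferInstance
      obtain ⟨V₂, v₂, hv₂, h, hh, hs⟩ := hC V.left V.hom Z.left (gl ≫ s)
      let V' : Y.Etale := Scheme.Etale.mk (v₂ ≫ V.hom)
      let e : V' ⟶ V := MorphismProperty.Over.homMk v₂ rfl trivial
      let be : pullback (v₂ ≫ V.hom) f ⟶ pullback V.hom f := ((EtCoh.bc f).map e).left
      have hbe : be ≫ pullback.fst V.hom f = pullback.fst (v₂ ≫ V.hom) f ≫ v₂ :=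
        (EtCoh.isPullback_bc_map f e).w
      let m : pullback (v₂ ≫ V.hom) f ⟶ pullback q v₂ :=
        pullback.lift (be ≫ s) (pullback.fst _ _) (by
          rw [Category.assoc]
          exact (congrArg (be ≫ ·) (pullbackSymmetry_hom_comp_snd V.hom f)).trans hbe)
      have hm : (m ≫ h) ≫ gl = be := by
        rw [← cancel_mono s, Category.assoc, Category.assoc, hh]
        exact pullback.lift_fst _ _ _
      let k : (EtCoh.bc f).obj V' ⟶ Z := MorphismProperty.Over.homMk (m ≫ h) (by
        rw [← MorphismProperty.Over.w g, ← MorphismProperty.Over.w ((EtCoh.bc f).map e)]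
        exact (Category.assoc _ _ _).symm.trans (congrArg (· ≫ _) hm)) trivial
      obtain ⟨p, hp⟩ := hs.surj z
      have hgz : s (gl z) = x' := by
        rw [show gl z = (pullbackSymmetry V.hom f).inv x' from hz, ← Scheme.Hom.comp_apply,
          Iso.inv_hom_id]
        rfl
      refine ⟨V', e, pullback.snd q v₂ p, Or.inr ?_, ?_⟩
      · rw [show (EtCoh.bc f).map e = k ≫ g from (MorphismProperty.Over.Hom.ext hm).symm]
        exact R.downward_closed hg k
      · show v₂ (pullback.snd q v₂ p) = v
        rw [← Scheme.Hom.comp_apply, ← pullback.condition, Scheme.Hom.comp_apply, ← hx', ← hgz,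
          ← hp, ← Scheme.Hom.comp_apply gl s, ← Scheme.Hom.comp_apply h, hh]
    · let O : V.left.Opens := ⟨(Set.range q)ᶜ,
        ((hcl V.left V.hom).isClosed_range).isOpen_compl⟩
      refine ⟨Groth.Agent.EtaleSite.piece V O, Groth.Agent.EtaleSite.pieceHom V O,
        (⟨v, hv⟩ : O), Or.inl ⟨fun z => ?_⟩, rfl⟩
      let be : pullback (O.ι ≫ V.hom) f ⟶ pullback V.hom f :=
        ((EtCoh.bc f).map (Groth.Agent.EtaleSite.pieceHom V O)).left
      have hbe : be ≫ pullback.fst V.hom f = pullback.fst (O.ι ≫ V.hom) f ≫ O.ι :=
        (EtCoh.isPullback_bc_map f (Groth.Agent.EtaleSite.pieceHom V O)).w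
      have h2 : be ≫ s ≫ q = pullback.fst (O.ι ≫ V.hom) f ≫ O.ι :=
        (congrArg (be ≫ ·) (pullbackSymmetry_hom_comp_snd V.hom f)).trans hbe
      refine (pullback.fst (O.ι ≫ V.hom) f z).2 ⟨s (be z), ?_⟩
      exact congrArg (fun k : pullback (O.ι ≫ V.hom) f ⟶ V.left => k z) h2
  · intro Z g hg
    rcases hg with hg | hg
    · exact Or.inl (Groth.Agent.EtaleSite.mem_topology_of_forall_exists _ fun u => isEmptyElim u)
    · exact Or.inr hg

end Groth.Agent.S6632
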