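import Groth.Statements.S6636
import Groth.Agent.AlmostCocont
import Groth.Agent.LiftClosed.Scheme

set_option autoImplicit false
open CategoryTheory CategoryTheory.Limits AlgebraicGeometry Opposite
universe u
open BigSite

namespace Groth.Agent.S6636

/-- For the etale and the smooth topologies: for a closed immersion of schemes f : X ⟶ Y the big direct
image along f preserves coequalizers and pushouts of sheaves of sets, and preserves finite colimits
of abelian sheaves (so it is exact there, being a right adjoint). (The published statement also
covers the syntomic topology; this row treats the etale and smooth topologies only.) -/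
theorem result {X Y : Scheme.{u}} (f : X ⟶ Y) [IsClosedImmersion f]
    (K : Precoverage Scheme.{u}) (hK : K = Scheme.etalePrecoverage ∨ K = Scheme.precoverage @Smooth) :
    PreservesColimitsOfShape WalkingParallelPair (BigSite.pushBig K f (Type (u + 1))) ∧
      PreservesColimitsOfShape WalkingSpan (BigSite.pushBig K f (Type (u + 1))) ∧
      PreservesFiniteColimits (BigSite.pushBig K f AddCommGrpCat.{u + 1}) := by
  have hu := LiftClosed.isAlmostCocontinuous_etale_or_smooth f K hK
  refine ⟨AlmostCocont.preservesColimitsOfShape.{u + 1} hu WalkingParallelPair,
    AlmostCocont.preservesColimitsOfShape.{u + 1} hu WalkingSpan, ?_⟩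
  let P := BigSite.pushBig K f AddCommGrpCat.{u + 1}
  haveI : P.PreservesEpimorphisms := AlmostCocont.preservesEpimorphisms_ab.{u + 1} hu
  haveI : PreservesFiniteLimits P :=
    letI : PreservesLimitsOfSize.{0, 0} P := (BigSite.bigAdj K f AddCommGrpCat.{u + 1}).rightAdjoint_preservesLimits
    PreservesLimitsOfSize.preservesFiniteLimits P
  haveI : P.PreservesHomology := Functor.preservesHomology_of_preservesEpis_and_kernels P
  refine ((Functor.preservesFiniteColimits_tfae P).out 0 3).mp ?_
  intro S hS
  refine ⟨?_, ?_⟩
  · exact hS.exact.map P
  · haveI := hS.epi_g
    infer_instance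

end Groth.Agent.S6636
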