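import Groth.Statements.S6637
import Groth.Agent.BigBC.Basic
-- import your own Groth.Agent.* helpers here

set_option autoImplicit false
open CategoryTheory CategoryTheory.Limits AlgebraicGeometry Opposite
universe u
open BigSite

namespace Groth.Agent.S6637

/-- For the Zariski, etale, smooth and fppf topologies: for a monomorphism of schemes f : X ⟶ Y the
counit f_big⁻¹ f_big,* F ⟶ F is an isomorphism for every sheaf of sets F on the big site of X, and
for every abelian sheaf. (The published statement also covers the syntomic topology; this row treats
the Zariski, etale, smooth and fppf topologies only.) -/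
theorem result {X Y : Scheme.{u}} (f : X ⟶ Y) [Mono f]
    (K : Precoverage Scheme.{u}) (hK : K = Scheme.zariskiPrecoverage ∨ K = Scheme.etalePrecoverage ∨
      K = Scheme.precoverage @Smooth ∨ K = Scheme.fppfPrecoverage) :
    (∀ F : QuotSh.Sh K X, IsIso ((BigSite.bigAdj K f (Type (u + 1))).counit.app F)) ∧
      (∀ F : BigSite.Ab K X, IsIso ((BigSite.bigAdj K f AddCommGrpCat.{u + 1}).counit.app F)) := by
  clear hK
  have : ∀ U : Over X, IsIso ((Over.mapPullbackAdj f).unit.app U) := fun U => by
    refine ⟨Over.homMk (pullback.fst _ _) ?_, ?_, ?_⟩
    · dsimp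
      exact (cancel_mono f).1 (by simp [pullback.condition])
    · ext
      simp [Over.mapPullbackAdj_unit_app]
      exact pullback.lift_fst _ _ _
    · ext
      apply pullback.hom_ext
      · simp [Over.mapPullbackAdj_unit_app]
        erw [pullback.lift_fst, Category.comp_id]
      · dsimp [Over.mapPullbackAdj_unit_app]
        refine (cancel_mono f).1 ?_
        simp
        erw [pullback.lift_snd_assoc, pullback.condition]
  constructor <;>
  · intro F
    rw [← isIso_iff_of_reflects_iso _ (sheafToPresheaf _ _)]
    have : IsIso (Over.mapPullbackAdj f).unit := NatIso.isIso_of_isIso_app _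
    refine @NatIso.isIso_of_isIso_app _ _ _ _ _ _ _ fun U => ?_
    change IsIso (F.obj.map ((Over.mapPullbackAdj f).unit.app U.unop).op)
    infer_instance

end Groth.Agent.S6637
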