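import Groth.Statements.S6639
import Groth.Agent.FrobSemi.Basic
import Mathlib.RingTheory.Flat.FaithfullyFlat.Algebra
import Mathlib.LinearAlgebra.Dimension.Constructions

set_option autoImplicit false
universe u
open scoped TensorProduct
open EtBase

namespace Groth.Agent.S6639

/-- Let k ⟶ k' be a homomorphism of algebraically closed fields of characteristic p > 0 (an extension of
algebraically closed fields), V a finite-dimensional k-vector space, F : V ⟶ V additive with F(c •
v) = c^p • F(v), and F' the additive endomorphism of V' = k' ⊗_k V satisfying F'(c ⊗ v) = c^p ⊗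
F(v). Then v ↦ 1 ⊗ v maps the fixed vectors of F bijectively onto the fixed vectors of F'. -/
theorem result {k k' V : Type u} [Field k] [IsAlgClosed k] [Field k']
    [IsAlgClosed k'] [Algebra k k'] (p : ℕ) [Fact p.Prime] [CharP k p]
    [AddCommGroup V] [Module k V] [FiniteDimensional k V] (F : V →+ V)
    (hF : ∀ (c : k) (v : V), F (c • v) = c ^ p • F v)
    (F' : k' ⊗[k] V →+ k' ⊗[k] V) (hF' : ∀ (c : k') (v : V), F' (c ⊗ₜ[k] v) = (c ^ p) ⊗ₜ[k] F v) :
    Set.BijOn (fun v : V => (1 : k') ⊗ₜ[k] v) {v : V | F v = v} {w : k' ⊗[k] V | F' w = w} := by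
  obtain ⟨W, n, hn, hFW, hW, hfix⟩ := Groth.Agent.FrobSemi.exists_core p F hF
  haveI : CharP k' p := charP_of_injective_algebraMap (algebraMap k k').injective p
  have hF'' : ∀ (c : k') (x : k' ⊗[k] V), F' (c • x) = c ^ p • F' x := by
    intro c x
    induction x using TensorProduct.induction_on with
    | zero => simp
    | tmul a v => simp [TensorProduct.smul_tmul', hF', mul_pow]
    | add x y hx hy => simp [smul_add, hx, hy]
  let L : k' ⊗[k] W →ₗ[k'] k' ⊗[k] V := W.subtype.baseChange k'
  let W' := LinearMap.range L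
  have hLinj : Function.Injective L :=
    Module.Flat.lTensor_preserves_injective_linearMap (M := k') _ W.subtype_injective
  have hmem : ∀ (c : k') (w : V), w ∈ W → c ⊗ₜ[k] w ∈ W' := fun c w hw =>
    ⟨c ⊗ₜ ⟨w, hw⟩, rfl⟩
  have hiter : ∀ m (c : k') (v : V), F'^[m] (c ⊗ₜ[k] v) = (c ^ p ^ m) ⊗ₜ[k] (F^[m] v) := by
    intro m
    induction m with
    | zero => simp
    | succ m ih =>
      intro c v
      rw [Function.iterate_succ_apply', ih, hF', Function.iterate_succ_apply', ← pow_mul, ← pow_succ]
  have hcore : ∀ x, F'^[n] x ∈ W' := by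
    intro x
    induction x using TensorProduct.induction_on with
    | zero => rw [iterate_map_zero]; exact W'.zero_mem
    | tmul c v => rw [hiter]; exact hmem _ _ (hn v)
    | add x y hx hy => rw [iterate_map_add]; exact W'.add_mem hx hy
  have h1 : ∀ x ∈ W', F' x ∈ W' := by
    rintro _ ⟨z, rfl⟩
    induction z using TensorProduct.induction_on with
    | zero => simp
    | tmul c w =>
      rw [show L (c ⊗ₜ w) = c ⊗ₜ[k] (w : V) from rfl, hF']
      exact hmem _ _ (hFW _ w.2)
    | add x y hx hy => rw [map_add, map_add]; exact W'.add_mem hx hy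
  have h2 : W' ≤ Submodule.span k' (F' '' (W' : Set (k' ⊗[k] V))) := by
    rintro _ ⟨z, rfl⟩
    induction z using TensorProduct.induction_on with
    | zero => simp
    | tmul c w =>
      rw [show L (c ⊗ₜ w) = c ⊗ₜ[k] (w : V) from rfl,
        show c ⊗ₜ[k] (w : V) = c • ((1 : k') ⊗ₜ[k] (w : V)) by simp [TensorProduct.smul_tmul']]
      refine Submodule.smul_mem _ _ ?_
      have h := hW w.2
      generalize (w : V) = v at h
      induction h using Submodule.span_induction with
      | mem y hy =>
        obtain ⟨a, ha, rfl⟩ := hy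
        exact Submodule.subset_span ⟨1 ⊗ₜ[k] a, hmem _ _ ha, by rw [hF', one_pow]⟩
      | zero => simp
      | add a b _ _ ha hb => rw [TensorProduct.tmul_add]; exact add_mem ha hb
      | smul a b _ hb =>
        rw [← TensorProduct.smul_tmul, ← algebraMap_smul k' a (1 : k'), ← TensorProduct.smul_tmul']
        exact Submodule.smul_mem _ _ hb
    | add x y hx hy => rw [map_add]; exact add_mem hx hy
  have h3 : ∀ x, F' x = x → x ∈ W' := fun x hx => by
    rw [← Function.iterate_fixed hx n]
    exact hcore x
  have hc := (Groth.Agent.FrobSemi.card_fixed p F hF W hFW hW hfix).2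
  have hc' := (Groth.Agent.FrobSemi.card_fixed p F' hF'' W' h1 h2 h3).2
  rw [show Module.finrank k' W' = Module.finrank k W by
    rw [LinearMap.finrank_range_of_inj hLinj, Module.finrank_baseChange]] at hc'
  let g : {v : V | F v = v} → {w : k' ⊗[k] V | F' w = w} := fun v =>
    ⟨1 ⊗ₜ[k] v.1, by rw [Set.mem_setOf_eq, hF', one_pow, v.2]⟩
  have hinj : Function.Injective (fun v : V => (1 : k') ⊗ₜ[k] v) :=
    Module.FaithfullyFlat.tensorProduct_mk_injective (A := k) (B := k') V
  have : Finite {v : V | F v = v} := Nat.finite_of_card_ne_zero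
    (by rw [hc]; exact pow_ne_zero _ (Fact.out : p.Prime).ne_zero)
  have : Finite {w : k' ⊗[k] V | F' w = w} := Nat.finite_of_card_ne_zero
    (by rw [hc']; exact pow_ne_zero _ (Fact.out : p.Prime).ne_zero)
  have hg : Function.Bijective g := (Nat.bijective_iff_injective_and_card g).2
    ⟨fun a b h => Subtype.ext (hinj (congrArg Subtype.val h)), hc.trans hc'.symm⟩
  refine ⟨fun v hv => (g ⟨v, hv⟩).2, hinj.injOn, fun w hw => ?_⟩
  obtain ⟨v, hv⟩ := hg.2 ⟨w, hw⟩
  exact ⟨v.1, v.2, congrArg Subtype.val hv⟩

end Groth.Agent.S6639
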