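import Groth.Statements.S6640
import Groth.Agent.EtaleSite.ConstSections


set_option autoImplicit false
open CategoryTheory CategoryTheory.Limits AlgebraicGeometry Opposite
universe u
open EtCore

namespace Groth.Agent.S6640

/-- Let X be an irreducible scheme, ξ a geometric point over its generic point, A' an additive subgroup
of an abelian group A, and G an abelian sheaf on the small etale site of X with monomorphisms a :
const A' ⟶ G and b : G ⟶ const A whose composite is the map of constant sheaves induced by the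
inclusion. If the stalk of a at ξ is an isomorphism, then a is an isomorphism. -/
theorem result {X : Scheme.{u}} [IrreducibleSpace ↥X]
    {Ω : Type u} [Field Ω] [IsSepClosed Ω] (ξ : Spec (CommRingCat.of Ω) ⟶ X)
    (hξ : ξ.base default = genericPoint ↥X)
    (A : Type) [AddCommGroup A] (A' : AddSubgroup A) (G : EtCoh.Ab X)
    (a : EtCoh.const X ↥A' ⟶ G) (b : G ⟶ EtCoh.const X A) [Mono a] [Mono b]
    (hab : a ≫ b = (constantSheaf X.smallEtaleTopology AddCommGrpCat.{u + 1}).map
      (AddCommGrpCat.ofHom (AddEquiv.ulift.symm.toAddMonoidHom.comp (A'.subtype.comp AddEquiv.ulift.toAddMonoidHom))))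
    (hst : IsIso ((EtCoh.stalk ξ).map a)) : IsIso a := by
  let inc : AddCommGrpCat.of (ULift.{u + 1} ↥A') ⟶ AddCommGrpCat.of (ULift.{u + 1} A) :=
    AddCommGrpCat.ofHom (AddEquiv.ulift.symm.toAddMonoidHom.comp (A'.subtype.comp AddEquiv.ulift.toAddMonoidHom))
  have hinjb : ∀ W, Function.Injective (b.hom.app (Opposite.op W)) := fun W =>
    (AddCommGrpCat.mono_iff_injective _).1
      (((evaluation _ AddCommGrpCat.{u + 1}).obj (Opposite.op W)).map_mono
        ((sheafToPresheaf X.smallEtaleTopology AddCommGrpCat.{u + 1}).map b))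
  have key : ∀ (W : X.Etale) (c : ULift.{u + 1} ↥A'),
      b.hom.app (Opposite.op W) (a.hom.app (Opposite.op W) (EtaleSite.ConstSections.cst W c)) =
        EtaleSite.ConstSections.cst W (inc c) := fun W c => by
    rw [← EtaleSite.ConstSections.map_cst_hom inc W c, ← hab]
    rfl
  refine EtaleSite.isIso_of_stalk a fun Ω' _ _ ζ => (ConcreteCategory.isIso_iff_bijective _).2
    ⟨(EtaleSite.mono_iff_stalk a).1 inferInstance Ω' ζ, fun p => ?_⟩
  obtain ⟨U, x, s, rfl⟩ := EtaleSite.exists_germ_eq ζ G p
  obtain ⟨W, g, y, c, hy, hc⟩ := EtaleSite.ConstSections.exists_eq_cst ζ U x (b.hom.app _ s)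
  let s' := G.obj.map g.op s
  have hs' : b.hom.app _ s' = EtaleSite.ConstSections.cst W c :=
    (NatTrans.naturality_apply b.hom g.op s).trans hc
  obtain ⟨w', hw'⟩ := EtaleSite.ConstSections.exists_point_over_genericPoint W
    (y.left (default : Spec (CommRingCat.of Ω')))
  obtain ⟨φ, -⟩ := EtaleSite.exists_fiber_point ξ W w' (hw'.trans hξ.symm)
  obtain ⟨q, hq⟩ := (ConcreteCategory.bijective_of_isIso ((EtCoh.stalk ξ).map a)).2
    (EtaleSite.germ ξ G W φ s')
  obtain ⟨U', x', t, rfl⟩ := EtaleSite.exists_germ_eq ξ _ q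
  obtain ⟨V, g', z, c', hz, hc'⟩ := EtaleSite.ConstSections.exists_eq_cst ξ U' x' t
  have hinc : c = inc c' := by
    have h1 := congrArg ((EtCoh.stalk ξ).map b) hq
    rw [← hz, ← EtaleSite.germ_res, hc', EtaleSite.germ_naturality, EtaleSite.germ_naturality,
      EtaleSite.germ_naturality, hs', key, EtaleSite.ConstSections.germ_cst_eq ξ V W z φ] at h1
    exact EtaleSite.ConstSections.germ_cst_injective ξ W φ h1.symm
  have hs : s' = a.hom.app _ (EtaleSite.ConstSections.cst W c') :=
    hinjb W (by rw [hs', hinc, key])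
  refine ⟨EtaleSite.germ ζ _ W y (EtaleSite.ConstSections.cst W c'), ?_⟩
  rw [EtaleSite.germ_naturality, ← hs, EtaleSite.germ_res, hy]

end Groth.Agent.S6640
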