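import Groth.Statements.S6641
import Groth.Agent.GalCohAux.EtSuppClosed
import Groth.Agent.S0749

set_option autoImplicit false
open CategoryTheory CategoryTheory.Limits AlgebraicGeometry Opposite
universe u
open Curves

namespace Groth.Agent.S6641

attribute [-instance] GalCohAux.EtFin.instUniqueCarrierCarrierCommRingCatSpecOf_groth

/-- Let X be a smooth curve over an algebraically closed field k (here: X integral of dimension one,
smooth, separated and of finite type over k), and for a closed point x let i_x : Spec κ(x) ⟶ X be
its inclusion. Then H^q of the direct sum, over all closed points x, of the sheaves (i_x)_* Z (given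
here as any colimit cofan of that family) vanishes for every q ≥ 1. -/
theorem result (k : Type u) [Field k] [IsAlgClosed k] (X : Scheme.{u})
    (f : X ⟶ Spec (CommRingCat.of k)) [Smooth f] [IsSeparated f] [LocallyOfFiniteType f] [QuasiCompact f] [IsIntegral X]
    (hdim : topologicalKrullDim ↥X = 1)
    (c : Cofan fun x : {x : ↥X // IsClosed ({x} : Set ↥X)} =>
      (EtCoh.push (X.fromSpecResidueField x.1)).obj (EtCoh.const (Spec (X.residueField x.1)) ℤ))
    (hc : IsColimit c) (q : ℕ) (hq : 1 ≤ q) :
    Subsingleton (EtCoh.H X c.pt q) := by
  haveI : IsLocallyNoetherian X := LocallyOfFiniteType.isLocallyNoetherian f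
  haveI : CompactSpace X := QuasiCompact.compactSpace_of_compactSpace f
  haveI : IsNoetherian X := {}
  have hcl : ∀ y ∈ EtPBC.supp c.pt, IsClosed ({y} : Set X) := by
    rintro y ⟨Ω, _, _, ξ, hr, hne⟩
    by_contra hy
    refine hne ((IsZero.iff_id_eq_zero _).2 ?_)
    haveI := (Scheme.pointSmallEtale ξ).skyscraperSheafAdjunction (A := AddCommGrpCat.{u + 1}) |>.leftAdjoint_preservesColimits
    refine (isColimitOfPreserves (EtCoh.stalk ξ) hc).hom_ext fun j => ?_
    refine IsZero.eq_of_src ?_ _ _
    haveI : IsClosedImmersion (X.fromSpecResidueField j.as.1) := IsClosedImmersion.of_isPreimmersion _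
      (by rw [Scheme.range_fromSpecResidueField]; exact j.as.2)
    refine EtaleSite.isZero_stalk_push _ ξ ?_ _
    rw [Scheme.range_fromSpecResidueField, Set.mem_singleton_iff]
    intro e
    refine hy ?_
    have : ξ default = y := hr.subset ⟨default, rfl⟩
    rw [← this, e]
    exact j.as.2
  refine GalCohAux.EtSuppClosed.subsingleton_H_of_supp_closed c.pt hcl q fun x hx M => ?_
  haveI := S0749.isSepClosed_residueField f x (hcl x hx)
  exact GalCohAux.EtSuppClosed.subsingleton_sepClosed (X.residueField x) M q hq

end Groth.Agent.S6641
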