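import Groth.Statements.S6648
import Groth.Agent.EtaleSite.Points
-- import your own Groth.Agent.* helpers here

set_option autoImplicit false
open CategoryTheory CategoryTheory.Limits AlgebraicGeometry Opposite
universe u
open EtCore

namespace Groth.Agent.S6648

/-- For a sheaf of (commutative) rings O on the small etale site of a scheme S, the set of points s of S
over which some geometric stalk of O is a nonzero ring is closed in S. (Rings are taken in the
universe of the schemes, as for the structure presheaf of the prelude.) -/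
theorem result {S : Scheme.{u}} (O : Sheaf S.smallEtaleTopology CommRingCat.{u}) :
    IsClosed {s : ↥S | ∃ (Ω : Type u) (_ : Field Ω) (_ : IsSepClosed Ω) (ξ : Spec (CommRingCat.of Ω) ⟶ S),
      ξ.base default = s ∧ Nontrivial ↑((Scheme.pointSmallEtale ξ).presheafFiber.obj O.obj)} := by
  rw [← isOpen_compl_iff, isOpen_iff_forall_mem_open]
  intro x hx
  let ξ := Groth.Agent.EtaleSite.geomPointAt S x
  let P := Scheme.pointSmallEtale ξ
  have htriv : ¬ Nontrivial ↑(P.presheafFiber.obj O.obj) := fun hn =>
    hx ⟨_, _, inferInstance, ξ, Groth.Agent.EtaleSite.geomPointAt_apply S x _, hn⟩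
  rw [not_nontrivial_iff_subsingleton] at htriv
  let φ : P.fiber.obj (EtCoh.top S) := (Over.homMk ξ (Category.comp_id _) :
    Over.mk ξ ⟶ (Scheme.Etale.forget S).obj (EtCoh.top S))
  obtain ⟨V, g, y, -, h01⟩ := (P.toPresheafFiber_eq_iff' (EtCoh.top S) φ
    (0 : O.obj.obj (op (EtCoh.top S))) 1).1 (Subsingleton.elim _ _)
  haveI : AlgebraicGeometry.Etale V.hom := V.prop
  refine ⟨Set.range V.hom, ?_, V.hom.isOpenMap.isOpen_range, y.left (default : Spec (CommRingCat.of _)),
    (congrArg (fun k : Spec (CommRingCat.of _) ⟶ S => k default) (Over.w y)).trans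
      (Groth.Agent.EtaleSite.geomPointAt_apply S x _)⟩
  rintro _ ⟨v, rfl⟩ ⟨Ω, _, _, ζ, hζ, hn⟩
  obtain ⟨z, -⟩ := Groth.Agent.EtaleSite.exists_fiber_point ζ V v hζ.symm
  refine zero_ne_one (α := ↑((Scheme.pointSmallEtale ζ).presheafFiber.obj O.obj)) ?_
  rw [← map_zero ((Scheme.pointSmallEtale ζ).toPresheafFiber V z O.obj).hom,
    ← map_one ((Scheme.pointSmallEtale ζ).toPresheafFiber V z O.obj).hom,
    ← map_zero (O.obj.map g.op).hom, ← map_one (O.obj.map g.op).hom]
  exact congrArg _ h01

end Groth.Agent.S6648
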