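import Groth.Statements.S6649
import Groth.Agent.CiFields.Tsen
import Groth.Agent.CiFields.Brauer
import Groth.Agent.CiFields.AlgExt
import Groth.Agent.VarDim.Curve

set_option autoImplicit false
open CategoryTheory CategoryTheory.Limits AlgebraicGeometry Opposite
universe u
open Curves

namespace Groth.Agent.S6649

/-- For a curve C over an algebraically closed field k (C integral of dimension one, separated and of
finite type over k) the Brauer group of the function field of C is zero: every finite-dimensional
central division algebra over the function field has dimension one. -/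
theorem result (k : Type u) [Field k] [IsAlgClosed k] (C : Scheme.{u})
    (f : C ⟶ Spec (CommRingCat.of k)) [IsSeparated f] [LocallyOfFiniteType f] [QuasiCompact f] [IsIntegral C]
    (hdim : topologicalKrullDim ↥C = 1)
    (D : Type u) [DivisionRing D] [Algebra ↑C.functionField D] [Algebra.IsCentral ↑C.functionField D]
    [FiniteDimensional ↑C.functionField D] : Module.finrank ↑C.functionField D = 1 := by
  letI : C.Over (Spec (CommRingCat.of k)) := ⟨f⟩
  haveI : LocallyOfFiniteType (C ↘ Spec (CommRingCat.of k)) := ‹LocallyOfFiniteType f›
  letI := Curv2.resAlgebra k C (genericPoint C)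
  have h1 : Algebra.trdeg k (C.residueField (genericPoint C)) = (1 : ℕ) := by
    rw [Groth.Agent.VarDim.trdeg_residueField k C (genericPoint C),
      Groth.Agent.VarDim.dimPt_genericPoint_of_curve k hdim]
  have hb : Function.Bijective (C.residue (genericPoint C)) :=
    ⟨RingHom.injective (R := C.functionField) (C.residue (genericPoint C)).hom, C.residue_surjective _⟩
  have hK : Curves.IsCi C.functionField 1 :=
    Groth.Agent.CiFields.isCi_of_ringEquiv (RingEquiv.ofBijective (C.residue (genericPoint C)).hom hb).symm
      (Groth.Agent.CiFields.tsen_lang 1 h1)
  exact Groth.Agent.CiFields.finrank_eq_one_of_isCr_one (Groth.Agent.CiFields.isCr_of_isCi hK) D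

end Groth.Agent.S6649
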