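import Groth.Statements.S8532
import Groth.Agent.FlatTrace.Basic
import Groth.Agent.FlatTrace.Weight
import Groth.Agent.EtaleSite.IntegralBC
import Groth.Agent.DescSh.Sub
import Groth.Agent.EtDescSS.Etale

set_option autoImplicit false
universe u
open CategoryTheory CategoryTheory.Limits AlgebraicGeometry Opposite
open EtAcyc

namespace Groth.Agent.S8532

open Groth.Agent Groth.Agent.Wt in
theorem wt_eq_one {X S : Scheme.{u}} (f : X ⟶ S) [Etale f] (x : X) : FlatWt.wt f x = 1 := by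
  have h := (FlatWt.etale_stalk f x).1
  have hl : FlatWt.ringLen (f.stalkMap x) = 1 := by
    rw [FlatWt.ringLen, h]
    have : Module.length (X.presheaf.stalk x)
        (X.presheaf.stalk x ⧸ IsLocalRing.maximalIdeal (X.presheaf.stalk x)) = 1 := by
      rw [Module.length_eq_one_iff, isSimpleModule_iff_isCoatom, ← Ideal.isMaximal_def]
      infer_instance
    rw [this]
    rfl
  rw [FlatWt.wt, hl, FlatWt.ins_eq_one_of_etale]
  rfl

open Groth.Agent Groth.Agent.Wt in
theorem finrank_eq_card {X S : Scheme.{u}} (f : X ⟶ S) [IsFinite f] [Etale f] (s : S) :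
    ∃ (Ω : Type u) (_ : Field Ω) (_ : IsAlgClosed Ω) (ξ : Spec (CommRingCat.of Ω) ⟶ S),
      f.finrank s = Nat.card ↥(pullback f ξ) := by
  obtain ⟨y, hy⟩ := GeomPts.exists_geomPt s
  refine ⟨_, inferInstance, inferInstance, y, ?_⟩
  haveI : Finite {u // f u = GeomPts.pt y} := (f.finite_preimage_singleton _).to_subtype
  haveI := GeomPts.finite_geomFib f y
  have h1 := (GeomPts.geomInt_eq_fibreIntegral f y (FlatWt.wt f)).trans
    (FlatWt.fibreIntegral_eq_finrank f (GeomPts.pt y))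
  cases nonempty_fintype (GeomPts.GeomFib f y)
  rw [GeomPts.geomInt, finsum_eq_sum_of_fintype] at h1
  simp only [wt_eq_one, Finset.sum_const, Finset.card_univ, nsmul_eq_mul, mul_one, hy] at h1
  have h2 : f.finrank s = Nat.card (GeomPts.GeomFib f y) := by
    rw [Nat.card_eq_fintype_card]
    exact_mod_cast h1.symm
  rw [h2]
  refine Nat.card_eq_of_bijective (fun ξ => (EtaleSite.fibPt f y ξ.1 ξ.2) default) ⟨fun a b e => ?_, fun x => ?_⟩
  · have hs : ∀ c : GeomPts.GeomFib f y, EtaleSite.fibPt f y c.1 c.2 ≫ pullback.snd f y = 𝟙 _ :=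
      fun c => pullback.lift_snd _ _ _
    haveI : IsOpenImmersion (EtaleSite.fibPt f y a.1 a.2) :=
      EtaleSite.isOpenImmersion_of_section (pullback.snd f y) _ (hs a)
    have hr : Set.range (EtaleSite.fibPt f y b.1 b.2) ⊆ Set.range (EtaleSite.fibPt f y a.1 a.2) := by
      rintro _ ⟨z, rfl⟩
      exact ⟨default, e.trans (congrArg _ (Subsingleton.elim _ _))⟩
    have hl := IsOpenImmersion.lift_fac (EtaleSite.fibPt f y a.1 a.2) (EtaleSite.fibPt f y b.1 b.2) hr
    have hl1 : IsOpenImmersion.lift (EtaleSite.fibPt f y a.1 a.2) (EtaleSite.fibPt f y b.1 b.2) hr = 𝟙 _ := by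
      refine (Category.comp_id _).symm.trans ((congrArg (_ ≫ ·) (hs a)).symm.trans ?_)
      exact (Category.assoc _ _ _).symm.trans ((congrArg (· ≫ pullback.snd f y) hl).trans (hs b))
    rw [hl1, Category.id_comp] at hl
    have := congrArg (· ≫ pullback.fst f y) hl
    simp only [EtaleSite.fibPt, pullback.lift_fst] at this
    exact Subtype.ext this
  · obtain ⟨ξ, h, hx⟩ := EtaleSite.exists_fibPt f y x
    exact ⟨⟨ξ, h⟩, hx⟩

theorem isIso_nsmul {X : Scheme.{u}} (L : Set ℕ) (F : EtCoh.Ab X) (hF : EtAcyc.IsLTorsion L F) (d : ℕ)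
    (hd : ∀ p : ℕ, p.Prime → p ∈ L → ¬ p ∣ d) : IsIso (d • 𝟙 F) := by
  refine Groth.Agent.EtaleSite.isIso_of_stalk _ fun Ω _ _ ξ => ?_
  rw [Functor.map_nsmul, CategoryTheory.Functor.map_id, ConcreteCategory.isIso_iff_bijective]
  have happ : ∀ z : (EtCoh.stalk ξ).obj F, (d • 𝟙 ((EtCoh.stalk ξ).obj F) : _ ⟶ _) z = d • z :=
    fun z => rfl
  have hkill : ∀ z : (EtCoh.stalk ξ).obj F, ∃ a : ℕ, Nat.Coprime d a ∧ a • z = 0 := by
    intro z
    obtain ⟨U, x, s, rfl⟩ := Groth.Agent.EtaleSite.exists_germ_eq ξ F z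
    obtain ⟨V, g, a, ⟨v, hv⟩, ⟨ha0, ha⟩, hs⟩ := hF U s (x.left (default : Spec (CommRingCat.of Ω)))
    refine ⟨a, Nat.coprime_of_dvd fun p hp hpd hpa => hd p hp (ha p hp hpa) hpd, ?_⟩
    obtain ⟨y, hy, -⟩ := Groth.Agent.DescSh.exists_lift_fiber g x v hv
    rw [← hy, ← Groth.Agent.EtaleSite.germ_res, ← map_nsmul, hs, map_zero]
  constructor
  · intro z w hzw
    rw [happ, happ] at hzw
    obtain ⟨a, hda, ha⟩ := hkill (z - w)
    have h0 : d • (z - w) = 0 := by rw [smul_sub, hzw, sub_self]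
    have := addOrderOf_dvd_iff_nsmul_eq_zero.2 h0
    have h1 := Nat.dvd_gcd this (addOrderOf_dvd_iff_nsmul_eq_zero.2 ha)
    rw [hda.gcd_eq_one, Nat.dvd_one, AddMonoid.addOrderOf_eq_one_iff, sub_eq_zero] at h1
    exact h1
  · intro w
    obtain ⟨a, hda, ha⟩ := hkill w
    refine ⟨(Nat.gcdA d a) • w, (happ _).trans ?_⟩
    have h := congrArg (fun k : ℤ => k • w) (Nat.gcd_eq_gcd_ab d a)
    simp only [hda.gcd_eq_one, Nat.cast_one, one_smul, add_smul] at h
    rw [mul_comm (a : ℤ), mul_smul _ (a : ℤ), natCast_zsmul, ha, smul_zero, add_zero, mul_smul,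
      natCast_zsmul] at h
    exact h.symm

/-- Let f : X' → X be finite etale of constant degree d (every geometric fibre has exactly d points), L
a set of primes such that no prime in L divides d, F an abelian L-torsion sheaf on the small etale
site of X, and q a natural number. If H^q(X', f⁻¹F) = 0, then H^q(X, F) = 0. -/
theorem result {X X' : Scheme.{u}} (f : X' ⟶ X) [IsFinite f] [Etale f]
    (d : ℕ) (hd : ∀ (Ω : Type u) [Field Ω] [IsSepClosed Ω] (ξ : Spec (CommRingCat.of Ω) ⟶ X),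
      Nat.card ↥(pullback f ξ) = d)
    (L : Set ℕ) (hL : ∀ p : ℕ, p.Prime → p ∈ L → ¬ p ∣ d) (F : EtCoh.Ab X) (hF : EtAcyc.IsLTorsion L F)
    [PreservesFiniteLimits (EtCoh.pull f)] (q : ℕ)
    (h : Subsingleton (EtCoh.H X' ((EtCoh.pull f).obj F) q)) :
    Subsingleton (EtCoh.H X F q) := by
  haveI : Flat f := inferInstance
  have hfr : ∀ s : X, f.finrank s = d := fun s => by
    obtain ⟨Ω, _, _, ξ, h⟩ := finrank_eq_card f s
    exact h.trans (hd Ω ξ)
  have hu := Groth.Agent.FlatTrace.unit_tr f d hfr F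
  have hiso := isIso_nsmul L F hF d hL
  rw [← hu] at hiso
  obtain ⟨e⟩ := Groth.Agent.EtDescSS.Etale.nonempty_H_push_iso f ((EtCoh.pull f).obj F) q
  haveI : Subsingleton ((EtCoh.HF X q).obj ((EtCoh.push f).obj ((EtCoh.pull f).obj F))) :=
    e.addCommGroupIsoToAddEquiv.toEquiv.subsingleton
  have hi : IsIso ((EtCoh.HF X q).map ((EtCoh.pullPushAdj f).unit.app F ≫
      (Groth.Agent.FlatTrace.tr f).app F)) := inferInstance
  rw [Functor.map_comp, ConcreteCategory.isIso_iff_bijective] at hi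
  refine ⟨fun a b => hi.1 ?_⟩
  rw [ConcreteCategory.comp_apply, ConcreteCategory.comp_apply]
  exact congrArg _ (Subsingleton.elim (α := (EtCoh.HF X q).obj ((EtCoh.push f).obj ((EtCoh.pull f).obj F))) _ _)

end Groth.Agent.S8532
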