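import Groth.Statements.S6652
import Groth.Agent.EtLimit.Main
import Groth.Agent.GalCohAux.EtDimVanD
import Groth.Agent.GalCohAux.EtCdTrDeg
import Groth.Agent.GalCohAux.EtNsmul
import Groth.Agent.FlatTrace.Stalk
import Groth.Agent.EtaleSite.HpullComp
import Groth.Agent.EtaleSite.HpullSeq
import Groth.Agent.S14451
import Groth.Agent.S3054
import Groth.Agent.S8532

set_option autoImplicit false
set_option linter.style.haveILetI false
set_option backward.isDefEq.respectTransparency false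
open CategoryTheory CategoryTheory.Limits AlgebraicGeometry Opposite
universe u
open EtCore

namespace Groth.Agent.S6652

open Groth.Agent Groth.Agent.GalCohAux

attribute [-instance] EtFin.instUniqueCarrierCarrierCommRingCatSpecOf_groth

/-- A limit of finite schemes over a base is integral over it. -/
theorem isIntegralHom_π_comp {I : Type u} [SmallCategory I] [IsCofiltered I] {D : I ⥤ Scheme.{u}}
    {S : Scheme.{u}} (t : D ⟶ (Functor.const I).obj S) {c : Cone D} (hc : IsLimit c)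
    (hfin : ∀ i, IsFinite (t.app i)) (i : I) : IsIntegralHom (c.π.app i ≫ t.app i) := by
  have w : ∀ {a b : I} (f : a ⟶ b), D.map f ≫ t.app b = t.app a := fun f => by simp
  haveI : ∀ {a b : I} (f : a ⟶ b), IsAffineHom (D.map f) := fun {a b} f => by
    haveI : IsFinite (D.map f ≫ t.app b) := w f ▸ hfin a
    haveI := hfin b
    haveI : IsFinite (D.map f) := MorphismProperty.of_postcomp (W' := @IsSeparated) @IsFinite (D.map f) (t.app b) inferInstance inferInstance
    infer_instance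
  haveI := isAffineHom_π_app D c hc
  haveI := hfin i
  haveI : IsAffineHom (t.app i) := inferInstance
  refine { isIntegral_app := fun U hU => ?_ }
  intro z
  haveI : ∀ j : Over i, IsAffine ((opensDiagram D i (t.app i ⁻¹ᵁ U)).obj j) := fun j =>
    ((hU.preimage (t.app i)).preimage (D.map j.hom))
  obtain ⟨j, s, hs⟩ := exists_appTop_π_eq_of_isAffine_of_isLimit _ _
    (isLimitOpensCone D c hc i (t.app i ⁻¹ᵁ U)) ((c.π.app i ⁻¹ᵁ (t.app i ⁻¹ᵁ U)).topIso.inv z)
  have le : c.π.app i ⁻¹ᵁ (t.app i ⁻¹ᵁ U) ≤ c.π.app j.left ⁻¹ᵁ (D.map j.hom ⁻¹ᵁ (t.app i ⁻¹ᵁ U)) :=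
    le_of_eq (congrArg (fun k => k ⁻¹ᵁ (t.app i ⁻¹ᵁ U)) (c.w j.hom).symm)
  have e' : D.map j.hom ⁻¹ᵁ (t.app i ⁻¹ᵁ U) = t.app j.left ⁻¹ᵁ U :=
    congrArg (fun k => k ⁻¹ᵁ U) (w j.hom)
  let y := (D.map j.hom ⁻¹ᵁ (t.app i ⁻¹ᵁ U)).topIso.hom s
  have hy : (c.π.app j.left).appLE _ _ le y = z := by
    have h2 := congrArg (c.π.app i ⁻¹ᵁ (t.app i ⁻¹ᵁ U)).topIso.hom hs
    have h3 : ((opensCone D c i (t.app i ⁻¹ᵁ U)).π.app j).appTop =
        (D.map j.hom ⁻¹ᵁ (t.app i ⁻¹ᵁ U)).topIso.hom ≫ (c.π.app j.left).appLE _ _ le ≫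
          (c.π.app i ⁻¹ᵁ (t.app i ⁻¹ᵁ U)).topIso.inv := Scheme.Hom.resLE_app_top _ le
    rw [h3] at h2
    simp only [CommRingCat.comp_apply] at h2
    erw [Iso.inv_hom_id_apply, Iso.inv_hom_id_apply] at h2
    exact h2
  haveI := hfin j.left
  have hint : ((t.app j.left).appLE U _ e'.le).hom.IsIntegralElem y := by
    have hh : ∀ (V : (D.obj j.left).Opens) (e : V = t.app j.left ⁻¹ᵁ U),
        ((t.app j.left).appLE U V e.le).hom.Finite := by
      rintro V rfl
      rw [← Scheme.Hom.app_eq_appLE]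
      exact (t.app j.left).finite_app U hU
    exact (hh _ e').to_isIntegral y
  obtain ⟨p, hp, he⟩ := hint
  refine ⟨p, hp, ?_⟩
  have key : ∀ (k : c.pt ⟶ S), k = c.π.app i ≫ t.app i → ∀ (h : c.π.app i ⁻¹ᵁ (t.app i ⁻¹ᵁ U) ≤ k ⁻¹ᵁ U),
      k.appLE U _ h = (c.π.app i ≫ t.app i).app U := by
    rintro k rfl h
    exact (Scheme.Hom.app_eq_appLE _).symm
  have hcomp : c.π.app j.left ≫ t.app j.left = c.π.app i ≫ t.app i :=
    ((congrArg (c.π.app j.left ≫ ·) (w j.hom)).symm.trans (Category.assoc _ _ _).symm).trans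
      (congrArg (· ≫ t.app i) (c.w j.hom))
  have h4 := Scheme.Hom.appLE_comp_appLE (c.π.app j.left) (t.app j.left) U _ _ e'.le le
  show Polynomial.eval₂ ((c.π.app i ≫ t.app i).app U).hom z p = 0
  rw [← key _ hcomp (le_of_eq (congrArg (fun k => k ⁻¹ᵁ U) hcomp).symm), ← h4, CommRingCat.hom_comp, ← hy]
  refine (Polynomial.hom_eval₂ p _ _ y).symm.trans ?_
  rw [he, map_zero]

attribute [local instance] EtaleSite.preservesFiniteLimits_pull

open Groth.Agent.Wt in
/-- The rank of a finite étale morphism is the number of geometric points of a fibre. -/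
theorem finrank_eq {X S : Scheme.{u}} (f : X ⟶ S) [IsFinite f] [Etale f] (d : ℕ)
    (hd : ∀ (Ω : Type u) [Field Ω] [IsAlgClosed Ω] (η : Spec (CommRingCat.of Ω) ⟶ S),
      Nat.card {t : Spec (CommRingCat.of Ω) ⟶ X // t ≫ f = η} = d) (s : S) : f.finrank s = d := by
  obtain ⟨y, hy⟩ := GeomPts.exists_geomPt s
  haveI : Finite {u // f u = GeomPts.pt y} := (f.finite_preimage_singleton _).to_subtype
  haveI := GeomPts.finite_geomFib f y
  have h1 := (GeomPts.geomInt_eq_fibreIntegral f y (FlatWt.wt f)).trans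
    (FlatWt.fibreIntegral_eq_finrank f (GeomPts.pt y))
  cases nonempty_fintype (GeomPts.GeomFib f y)
  rw [GeomPts.geomInt, finsum_eq_sum_of_fintype] at h1
  simp only [S8532.wt_eq_one, Finset.sum_const, Finset.card_univ, nsmul_eq_mul, mul_one, hy] at h1
  have h2 : f.finrank s = Nat.card (GeomPts.GeomFib f y) := by
    rw [Nat.card_eq_fintype_card]
    exact_mod_cast h1.symm
  exact h2.trans (hd _ y)

/-- Vanishing of a pullback only depends on the morphism. -/
theorem Hpull_eq_zero_congr {X Y : Scheme.{u}} {f f' : X ⟶ Y} (w : f = f') (G : EtCoh.Ab Y) (n : ℕ)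
    (e : EtCoh.H Y G n) : EtCore.Hpull f G n e = 0 → EtCore.Hpull f' G n e = 0 := by
  subst w
  exact id

theorem Hpull_comp_zero {X Y Z : Scheme.{u}} (g : X ⟶ Y) (h : Y ⟶ Z) (n : ℕ) (G : EtCoh.Ab Z)
    (e : EtCoh.H Z G n) :
    EtCore.Hpull (g ≫ h) G n e = 0 ↔ EtCore.Hpull g ((EtCoh.pull h).obj G) n (EtCore.Hpull h G n e) = 0 := by
  rw [← EtaleSite.HpullComp.Hpull_comp g h n G e]
  refine ⟨fun h0 => by rw [h0, Abelian.Ext.zero_comp], fun h0 => ?_⟩
  refine (EtaleSite.HpullComp.HF_map_bijective ((EtCore.pullComp g h).hom.app G)).1 ?_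
  dsimp only
  rw [h0]
  simp

/-- A class of an `ℓ`-primary sheaf killed by a finite étale cover of degree prime to `ℓ` is zero. -/
theorem eq_zero_of_Hpull {X S : Scheme.{u}} (f : X ⟶ S) [IsFinite f] [Etale f] {ℓ d : ℕ} (hd : d.Coprime ℓ)
    (hrk : ∀ s : S, f.finrank s = d) {G : EtCoh.Ab S} (hG : Dix.IsPrimaryTorsion ℓ G) {n : ℕ}
    (α : EtCoh.H S G n) (h0 : EtCore.Hpull f G n α = 0) : α = 0 := by
  let η := (EtCoh.pullPushAdj f).unit.app G
  let x : EtCoh.H S ((EtCoh.push f).obj ((EtCoh.pull f).obj G)) n :=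
    α.comp (Abelian.Ext.mk₀ η) (add_zero n)
  have hb := S14451.result f ((EtCoh.pull f).obj G) (fun q hq => S3054.result f _ q hq) n
  have hx : EtLim.HofPush f ((EtCoh.pull f).obj G) n x = 0 := by
    show (EtCore.Hpull f _ n x).comp (Abelian.Ext.mk₀ ((EtCoh.pullPushAdj f).counit.app _)) (add_zero n) = 0
    rw [EtaleSite.HpullSeq.Hpull_postcomp, h0, Abelian.Ext.zero_comp, Abelian.Ext.zero_comp]
  have hx0 : x = 0 := hb.1 (hx.trans (map_zero _).symm)
  have h1 : α.comp (Abelian.Ext.mk₀ (d • 𝟙 G)) (add_zero n) = 0 := by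
    rw [← FlatTrace.unit_tr f d hrk G, ← Abelian.Ext.mk₀_comp_mk₀,
      ← Abelian.Ext.comp_assoc_of_second_deg_zero]
    show x.comp (Abelian.Ext.mk₀ ((FlatTrace.tr f).app G)) (add_zero n) = 0
    rw [hx0, Abelian.Ext.zero_comp]
  haveI := EtCdTrDeg.isIso_nsmul hG hd
  exact (EtaleSite.HpullComp.HF_map_bijective (n := n) (d • 𝟙 G)).1
    (h1.trans (by simp))

/-- Let ℓ be a prime, n > 0, S a quasi-compact quasi-separated scheme and X the limit (in schemes over
S) of a nonempty directed inverse system of S-schemes X_i, each finite etale over S with all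
geometric fibres of one cardinality d_i prime to ℓ; let g : X ⟶ S be the structure morphism. Call an
abelian sheaf ℓ-power torsion when every section is, etale locally around every point, killed by a
power of ℓ (the predicate T below, pinned by hT). Then for an ℓ-power torsion G on S_etale with
H^n(S, G) nonzero, g⁻¹G is ℓ-power torsion with H^n(X, g⁻¹G) nonzero; and for an ℓ-power torsion F
on X_etale with H^n(X, F) nonzero, g_*F is ℓ-power torsion with H^n(S, g_*F) nonzero. (The published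
statement is the equivalence of the two nonvanishing conditions; this row states it through the
explicit sheaves g⁻¹G and g_*F.) -/
theorem result (ℓ : ℕ) [Fact ℓ.Prime] (n : ℕ) (hn : 0 < n)
    (T : ∀ (Y : Scheme.{u}), EtCoh.Ab Y → Prop)
    (hT : ∀ (Y : Scheme.{u}) (G : EtCoh.Ab Y), T Y G ↔
      ∀ (U : Y.Etale) (s : EtCoh.sect G U) (y : ↥U.left), ∃ (V : Y.Etale) (φ : V ⟶ U),
        (∃ v : ↥V.left, φ.left.base v = y) ∧ ∃ m : ℕ, (ℓ ^ m) • G.obj.map φ.op s = 0)
    (S : Scheme.{u}) [CompactSpace ↥S] [QuasiSeparatedSpace ↥S]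
    {ι : Type u} [Preorder ι] [IsDirected ι (· ≤ ·)] [Nonempty ι] (Xs : ιᵒᵖ ⥤ Over S)
    (hfin : ∀ i, IsFinite (Xs.obj i).hom) (het : ∀ i, AlgebraicGeometry.Etale (Xs.obj i).hom)
    (d : ιᵒᵖ → ℕ) (hd : ∀ i, ℓ.Coprime (d i))
    (hdeg : ∀ (i : ιᵒᵖ) (Ω : Type u) [Field Ω] [IsAlgClosed Ω] (η : Spec (CommRingCat.of Ω) ⟶ S),
      Nat.card {t : Spec (CommRingCat.of Ω) ⟶ (Xs.obj i).left // t ≫ (Xs.obj i).hom = η} = d i)
    (c : Cone Xs) (hc : IsLimit c) :
    (∀ G : EtCoh.Ab S, T S G → Nontrivial (EtCoh.H S G n) →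
      T c.pt.left ((EtCoh.pull c.pt.hom).obj G) ∧ Nontrivial (EtCoh.H c.pt.left ((EtCoh.pull c.pt.hom).obj G) n)) ∧
    (∀ F : EtCoh.Ab c.pt.left, T c.pt.left F → Nontrivial (EtCoh.H c.pt.left F n) →
      T S ((EtCoh.push c.pt.hom).obj F) ∧ Nontrivial (EtCoh.H S ((EtCoh.push c.pt.hom).obj F) n)) := by
  have hℓ : ℓ.Prime := Fact.out
  let D : ιᵒᵖ ⥤ Scheme.{u} := Xs ⋙ Over.forget S
  let t : D ⟶ (Functor.const ιᵒᵖ).obj S :=
    { app := fun i => (Xs.obj i).hom
      naturality := fun i j a => by simp [D] }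
  let c' : Cone D := (Over.forget S).mapCone c
  let hc' : IsLimit c' := isLimitOfPreserves (Over.forget S) hc
  haveI : ∀ i, IsFinite (t.app i) := hfin
  haveI : ∀ (i j : ιᵒᵖ) (a : i ⟶ j), IsAffineHom (D.map a) := fun i j a => by
    have w : D.map a ≫ t.app j = t.app i := by simp
    haveI : IsFinite (D.map a ≫ t.app j) := w ▸ hfin i
    haveI : IsFinite (D.map a) := IsFinite.of_comp _ (t.app j)
    infer_instance
  haveI : ∀ i, CompactSpace (D.obj i) := fun i => by
    haveI := hfin i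
    exact QuasiCompact.compactSpace_of_compactSpace (Xs.obj i).hom
  haveI : ∀ i, QuasiSeparatedSpace (D.obj i) := fun i => by
    haveI := hfin i
    exact quasiSeparatedSpace_of_quasiSeparated (Xs.obj i).hom
  obtain ⟨i⟩ : Nonempty ιᵒᵖ := ⟨op (Classical.arbitrary ι)⟩
  have wg : c'.π.app i ≫ t.app i = c.pt.hom := Over.w (c.π.app i)
  haveI : IsIntegralHom c.pt.hom := wg ▸ isIntegralHom_π_comp t hc' hfin i
  have toP : ∀ {Y : Scheme.{u}} {G : EtCoh.Ab Y}, T Y G → Dix.IsPrimaryTorsion ℓ G :=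
    fun h => (hT _ _).1 h
  have ofL : ∀ {Y : Scheme.{u}} {G : EtCoh.Ab Y}, EtAcyc.IsLTorsion {ℓ} G → T Y G :=
    fun h => (hT _ _).2 ((EtDimVanD.isPrimaryTorsion_iff hℓ _).2 h)
  refine ⟨fun G hG hH => ⟨ofL ((EtDimVanD.torsionClass {ℓ}).pull c.pt.hom
      ((EtDimVanD.isPrimaryTorsion_iff hℓ G).1 (toP hG))), ?_⟩,
    fun F hF hH => ⟨ofL ((EtDimVanD.torsionClass {ℓ}).push c.pt.hom
      ((EtDimVanD.isPrimaryTorsion_iff hℓ F).1 (toP hF))), ?_⟩⟩
  · obtain ⟨α, hα⟩ := exists_ne (0 : EtCoh.H S G n)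
    refine nontrivial_of_ne (EtCore.Hpull c.pt.hom G n α) 0 fun h0 => hα ?_
    obtain ⟨k, a, ha⟩ := (EtLimit.limit_cohomology hc' n).2 i _ _
      ((Hpull_comp_zero (c'.π.app i) (t.app i) n G α).1 (Hpull_eq_zero_congr wg.symm G n α h0))
    have hk : EtCore.Hpull (t.app k) G n α = 0 :=
      Hpull_eq_zero_congr (by simp) G n α ((Hpull_comp_zero (D.map a) (t.app i) n G α).2 ha)
    haveI : Etale (t.app k) := het k
    exact eq_zero_of_Hpull (t.app k) (hd k).symm (finrank_eq (t.app k) (d k) (hdeg k)) (toP hG) α hk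
  · exact (Equiv.ofBijective _
      (S14451.result c.pt.hom F (fun q hq => S3054.result c.pt.hom F q hq) n)).nontrivial

end Groth.Agent.S6652
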