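import Groth.Statements.S6653
import Groth.Agent.GalCohAux.EtDivSum
import Groth.Agent.GalCohAux.EtDivReg
import Groth.Agent.CurveDVR.Stalk
import Groth.Agent.S3502
-- import your own Groth.Agent.* helpers here

set_option autoImplicit false
set_option backward.isDefEq.respectTransparency false
open CategoryTheory CategoryTheory.Limits AlgebraicGeometry Opposite
universe u
open Curves

namespace Groth.Agent.S6653

open GalCohAux

attribute [-instance] GalCohAux.EtFin.instUniqueCarrierCarrierCommRingCatSpecOf_groth

/-- The fundamental exact sequence: with the divisor map left unnamed: let X be a smooth curve over an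
algebraically closed field k (here: X integral of dimension one, smooth, separated and of finite
type over k), let j : Spec O_{X,η} ⟶ X be the canonical morphism from the spectrum of the local ring
at the generic point, and for a closed point x let i_x : Spec κ(x) ⟶ X be its inclusion. Then the
canonical map G_{m,X} ⟶ j_* G_{m,η} is a monomorphism, and its cokernel is isomorphic to the direct
sum over all closed points of the sheaves (i_x)_* Z (existence of an isomorphism only; the direct
sum is given as any colimit cofan of that family). -/
theorem result (k : Type u) [Field k] [IsAlgClosed k] (X : Scheme.{u})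
    (f : X ⟶ Spec (CommRingCat.of k)) [Smooth f] [IsSeparated f] [LocallyOfFiniteType f] [QuasiCompact f] [IsIntegral X]
    (hdim : topologicalKrullDim ↥X = 1)
    (c : Cofan fun x : {x : ↥X // IsClosed ({x} : Set ↥X)} =>
      (EtCoh.push (X.fromSpecResidueField x.1)).obj (EtCoh.const (Spec (X.residueField x.1)) ℤ))
    (hc : IsColimit c) :
    Mono (EtLim.GmPush (X.fromSpecStalk (genericPoint ↥X))) ∧
      Nonempty (cokernel (EtLim.GmPush (X.fromSpecStalk (genericPoint ↥X))) ≅ c.pt) := by
  haveI : IsLocallyNoetherian X := LocallyOfFiniteType.isLocallyNoetherian f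
  have hreg : ∀ x : X, IsRegularLocalRing (X.presheaf.stalk x) := fun x => CurveDVR.isRegularLocalRing_stalk f x
  refine ⟨EtDivTor.mono_GmPush (EtDivReg.hfact hreg), ?_⟩
  have hr : ∀ x : X, EtDivPts.HtOne x ↔
      x ∈ Set.range (fun y : {x : ↥X // IsClosed ({x} : Set ↥X)} => y.1) := fun x => by
    constructor
    · intro hx
      exact ⟨⟨x, (S3502.spec_dim_one X hdim.le _ x (genericPoint_specializes x) (fun e => hx.1 e.symm)).1⟩, rfl⟩
    · rintro ⟨⟨y, hy⟩, rfl⟩
      show EtDivPts.HtOne y
      rw [EtDivSum.eq_iff_coheight, ringKrullDim_stalk_eq_coheight, CurveDVR.coheight_eq_one f hdim hy]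
      rfl
  exact EtDivSum.nonempty_iso_coproduct (EtDivReg.hfact hreg)
    (J := {x : ↥X // IsClosed ({x} : Set ↥X)}) (fun x => x.1) Subtype.val_injective hr c hc

end Groth.Agent.S6653
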