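import Groth.Prelude.Def_EtMod2
import Mathlib.AlgebraicGeometry.Properties
import Groth.Agent.EtModWLib.ConstMod

set_option autoImplicit false
open CategoryTheory CategoryTheory.Limits AlgebraicGeometry Opposite
universe u
open EtModW

namespace Groth.Agent.S6654

open Groth.Agent Groth.Agent.EtModWLib

/-- Let X be an irreducible scheme, ξ a geometric point over its generic point, Λ a commutative ring, M'
a submodule of a Λ-module M, and G a sheaf of Λ-modules on the small etale site of X with
monomorphisms a : const M' ⟶ G and b : G ⟶ const M whose composite is the map of constant sheaves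
induced by the inclusion. If the stalk of a at ξ is an isomorphism, then a is an isomorphism. -/
theorem result (Λ : Type (u + 1)) [CommRing Λ] {X : Scheme.{u}} [IrreducibleSpace ↥X]
    {Ω : Type u} [Field Ω] [IsSepClosed Ω] (ξ : Spec (CommRingCat.of Ω) ⟶ X)
    (hξ : ξ.base default = genericPoint ↥X)
    (M : Type (u + 1)) [AddCommGroup M] [Module Λ M] (M' : Submodule Λ M) (G : EtModW.Mod Λ X)
    (a : EtModW.constMod Λ X ↥M' ⟶ G) (b : G ⟶ EtModW.constMod Λ X M) [Mono a] [Mono b]
    (hab : a ≫ b = (constantSheaf X.smallEtaleTopology (ModuleCat.{u + 1} Λ)).map (ModuleCat.ofHom M'.subtype))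
    (hst : IsIso ((EtModW.stalk Λ ξ).map a)) : IsIso a := by
  refine isIso_of_stalk a fun Ω' _ _ ξ' => (ConcreteCategory.isIso_iff_bijective _).2
    ⟨(mono_iff_stalk a).1 inferInstance Ω' ξ', fun p => ?_⟩
  obtain ⟨V, φ, s, rfl⟩ := exists_germ_eq ξ' G p
  obtain ⟨x, hx⟩ := (isTriv_constSect (Λ := Λ) M V Ω' ξ' φ).2 (germ ξ' _ V φ (b.hom.app (op V) s))
  obtain ⟨W, g, w, hw, he⟩ := (germ_eq_iff ξ' _ V φ _ _).1 hx
  have hne : genericPoint ↥X ∈ Set.range W.hom := by
    have ho : IsOpen (Set.range W.hom) := by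
      haveI : Etale W.hom := W.prop
      exact W.hom.isOpenMap.isOpen_range
    exact (genericPoint_spec ↥X).mem_open_set_iff ho |>.2
      ⟨_, Set.mem_univ _, ⟨w.left (default : Spec (CommRingCat.of Ω')), rfl⟩⟩
  obtain ⟨z, hz⟩ := hne
  obtain ⟨ψ, -⟩ := EtaleSite.exists_fiber_point ξ W z (hz.trans hξ.symm)
  obtain ⟨q, hq⟩ := (ConcreteCategory.bijective_of_isIso ((EtModW.stalk Λ ξ).map a)).2
    (germ ξ G W ψ (G.obj.map g.op s))
  obtain ⟨y, rfl⟩ := (isTriv_constSect (↥M') W Ω ξ ψ).2 q
  have hab' : ∀ (U : X.Etale) (z : ↥M'),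
      b.hom.app (op U) (a.hom.app (op U) (constSect (↥M') U z)) = constSect M U (z : M) := fun U z =>
    (congrArg (fun k => k.hom.app (op U) (constSect (↥M') U z)) hab).trans
      (constMap_constSect (↥M') M'.subtype U z)
  have hxy : x = y := by
    refine (isTriv_constSect (Λ := Λ) M W Ω ξ ψ).1 ?_
    have h1 := congrArg ((EtModW.stalk Λ ξ).map b) hq
    simp only [germ_naturality, hab', NatTrans.naturality_apply] at h1
    show germ ξ _ W ψ (constSect M W x) = germ ξ _ W ψ (constSect M W (y : M))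
    rw [h1, ← he, res_constSect]
  refine ⟨germ ξ' _ W w (constSect (↥M') W y), (mono_iff_stalk b).1 inferInstance Ω' ξ' ?_⟩
  simp only [germ_naturality, hab']
  rw [← hxy, ← res_constSect M g, he, germ_res, hw]

end Groth.Agent.S6654
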