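import Groth.Prelude.Def_EtMod2
import Groth.Agent.EtModWLib.Triv

set_option autoImplicit false
open CategoryTheory CategoryTheory.Limits AlgebraicGeometry Opposite
universe u
open EtModW

namespace Groth.Agent.S6655

open Groth.Agent.EtModWLib

/-- Part (3): with both sheaves of finite type: let Λ be a commutative ring and φ : F ⟶ G a map of
finite type locally constant sheaves of Λ-modules on the small etale site of a scheme X. Then on the
members of some etale covering of X the restriction of φ is, up to isomorphisms with constant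
sheaves on both sides, the map of constant sheaves induced by a Λ-linear map. (The published
statement allows G to be any locally constant sheaf of Λ-modules; this row assumes G of finite type
as well.) -/
theorem result (Λ : Type (u + 1)) [CommRing Λ] {X : Scheme.{u}} (F G : EtModW.Mod Λ X)
    (φ : F ⟶ G) (hF : EtModW.IsFTLocConst Λ F) (hG : EtModW.IsFTLocConst Λ G) :
    ∃ (ι : Type u) (U : ι → X.Etale), EtCoh.Covers U ∧ ∀ i, ∃ (M N : Type (u + 1)) (_ : AddCommGroup M) (_ : AddCommGroup N)
      (_ : Module Λ M) (_ : Module Λ N) (h : M →ₗ[Λ] N)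
      (α : EtModW.restr Λ F (U i) ≅ (constantSheaf (X.smallEtaleTopology.over (U i)) (ModuleCat.{u + 1} Λ)).obj (ModuleCat.of Λ M))
      (β : EtModW.restr Λ G (U i) ≅ (constantSheaf (X.smallEtaleTopology.over (U i)) (ModuleCat.{u + 1} Λ)).obj (ModuleCat.of Λ N)),
      (X.smallEtaleTopology.overPullback (ModuleCat.{u + 1} Λ) (U i)).map φ ≫ β.hom =
        α.hom ≫ (constantSheaf (X.smallEtaleTopology.over (U i)) (ModuleCat.{u + 1} Λ)).map (ModuleCat.ofHom h) := by
  refine exists_covers_of_forall_geomPoint (fun V => ∃ (M N : Type (u + 1)) (_ : AddCommGroup M) (_ : AddCommGroup N)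
      (_ : Module Λ M) (_ : Module Λ N) (h : M →ₗ[Λ] N)
      (α : EtModW.restr Λ F V ≅ (constantSheaf (X.smallEtaleTopology.over V) (ModuleCat.{u + 1} Λ)).obj (ModuleCat.of Λ M))
      (β : EtModW.restr Λ G V ≅ (constantSheaf (X.smallEtaleTopology.over V) (ModuleCat.{u + 1} Λ)).obj (ModuleCat.of Λ N)),
      (X.smallEtaleTopology.overPullback (ModuleCat.{u + 1} Λ) V).map φ ≫ β.hom =
        α.hom ≫ (constantSheaf (X.smallEtaleTopology.over V) (ModuleCat.{u + 1} Λ)).map (ModuleCat.ofHom h))
    fun Ω _ _ ξ => ?_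
  obtain ⟨U, a, M, iM, jM, _, m, hm⟩ := exists_isTriv hF ξ
  obtain ⟨V, b, N, iN, jN, _, n, hn⟩ := exists_isTriv hG ξ
  obtain ⟨W, w, m', n', h, hm', hn', hh⟩ := exists_linearMap φ hm hn a b
  refine ⟨W, w, M, N, iM, iN, jM, jN, h, hm'.restrIso, hn'.restrIso, ?_⟩
  exact restrIso_comm φ hm' hn' h hh

end Groth.Agent.S6655
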