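import Groth.Statements.S6656
import Groth.Agent.EtaleSite.CechDisjoint


set_option autoImplicit false
open CategoryTheory CategoryTheory.Limits AlgebraicGeometry Opposite
universe u
open EtCore

namespace Groth.Agent.S6656

/-- Let F be an abelian sheaf on the small etale site of a scheme X, U an etale X-scheme, {U_i ⟶ U} a
finite family of etale X-schemes over U, and V ⟶ U an etale X-scheme over U with U-morphisms U_i ⟶ V
making the underlying scheme of V the coproduct (disjoint union) of the U_i. Then the Čech complex
of F for the family {U_i ⟶ U} and the Čech complex of F for the single morphism {V ⟶ U} are
isomorphic cochain complexes (existence of an isomorphism; fibre products over U in the small etale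
site are carried as the finite-products binder of the Čech complex). (The published statement is for
a standard covering, whose members are affine; this row allows any finite family with V their
disjoint union, which the same argument covers.) -/
theorem result {X : Scheme.{u}} (F : EtCoh.Ab X) (U : X.Etale)
    [HasFiniteProducts (Over U)] {ι : Type (u + 1)} [Finite ι] (Uf : ι → Over U)
    (V : Over U) (incl : ∀ i, Uf i ⟶ V)
    (hV : IsColimit (Cofan.mk V.left.left fun i => (incl i).left.left)) :
    Nonempty (EtCech.cechComplex Uf F.obj ≅ EtCech.cechComplex (fun _ : PUnit.{u + 2} => V) F.obj) := by
  exact EtaleSite.CechDisjoint.nonempty_iso F U Uf V incl hV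

end Groth.Agent.S6656
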