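import Groth.Statements.S6659
import Groth.Agent.EtaleSite.Recollement
import Groth.Agent.DRing.DerivedAdj
import Mathlib.CategoryTheory.Localization.Adjunction
-- import your own Groth.Agent.* helpers here

set_option autoImplicit false
universe u
open CategoryTheory CategoryTheory.Limits AlgebraicGeometry Opposite
attribute [local instance] HasDerivedCategory.standard
open EtDual

namespace Groth.Agent.S6659

section Abs

universe w w' v v' t t'

variable {A : Type t} [Category.{v} A] [Abelian A] [HasDerivedCategory.{w} A]
  {B : Type t'} [Category.{v'} B] [Abelian B] [HasDerivedCategory.{w'} B]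
  {L : A ⥤ B} [L.Additive] [PreservesFiniteLimits L] [PreservesFiniteColimits L]
  {R : B ⥤ A} [R.Additive] [PreservesFiniteLimits R] [PreservesFiniteColimits R] (adj : L ⊣ R)

omit [HasDerivedCategory.{w} A] [HasDerivedCategory.{w'} B] [PreservesFiniteLimits L]
  [PreservesFiniteColimits L] [PreservesFiniteLimits R] [PreservesFiniteColimits R] in
theorem isIso_homotopy_counit [∀ G, IsIso (adj.counit.app G)]
    (X : HomotopyCategory B (ComplexShape.up ℤ)) :
    IsIso ((DRing.DerivedAdj.mapHomotopyCategoryAdj adj).counit.app X) := by
  let f : (L.mapHomologicalComplex (ComplexShape.up ℤ)).obj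
      ((R.mapHomologicalComplex (ComplexShape.up ℤ)).obj X.as) ⟶ X.as :=
    { f := fun n => adj.counit.app (X.as.X n)
      comm' := fun i j _ => (adj.counit.naturality (X.as.d i j)).symm }
  have : ∀ n, IsIso (f.f n) := fun n => inferInstanceAs (IsIso (adj.counit.app (X.as.X n)))
  have : IsIso f := HomologicalComplex.Hom.isIso_of_components f
  exact (inferInstance : IsIso ((HomotopyCategory.quotient B (ComplexShape.up ℤ)).map f))

/-- Exact adjoint functors with invertible counit induce a fully faithful functor on derived categories. -/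
theorem full_and_faithful [∀ G, IsIso (adj.counit.app G)] :
    R.mapDerivedCategory.Full ∧ R.mapDerivedCategory.Faithful := by
  let adjK := DRing.DerivedAdj.mapHomotopyCategoryAdj adj
  let : CatCommSq (L.mapHomotopyCategory (ComplexShape.up ℤ)) DerivedCategory.Qh DerivedCategory.Qh
      L.mapDerivedCategory := ⟨L.mapDerivedCategoryFactorsh.symm⟩
  let : CatCommSq (R.mapHomotopyCategory (ComplexShape.up ℤ)) DerivedCategory.Qh DerivedCategory.Qh
      R.mapDerivedCategory := ⟨R.mapDerivedCategoryFactorsh.symm⟩
  let adj' : L.mapDerivedCategory ⊣ R.mapDerivedCategory :=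
    adjK.localization DerivedCategory.Qh (HomotopyCategory.quasiIso A (ComplexShape.up ℤ))
      DerivedCategory.Qh (HomotopyCategory.quasiIso B (ComplexShape.up ℤ)) _ _
  have : IsIso adj'.counit := by
    have : ∀ Y, IsIso (adj'.counit.app Y) := fun Y => by
      have := Localization.essSurj DerivedCategory.Qh (HomotopyCategory.quasiIso B (ComplexShape.up ℤ))
      have : ∀ X, IsIso (adj'.counit.app (DerivedCategory.Qh.obj X)) := fun X => by
        rw [Adjunction.localization_counit_app]
        have := isIso_homotopy_counit adj X
        infer_instance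
      exact (NatTrans.isIso_app_iff_of_iso adj'.counit (DerivedCategory.Qh.objObjPreimageIso Y)).1 (this _)
    exact NatIso.isIso_of_isIso_app _
  exact ⟨adj'.fullyFaithfulROfIsIsoCounit.full, adj'.fullyFaithfulROfIsIsoCounit.faithful⟩

/-- A complex all of whose cohomology objects have invertible unit comes from the subcategory. -/
theorem essImage_of_isIso_unit (C : CochainComplex A ℤ)
    (h : ∀ n, IsIso (adj.unit.app (C.homology n))) :
    R.mapDerivedCategory.essImage (DerivedCategory.Q.obj C) := by
  let f : C ⟶ (R.mapHomologicalComplex (ComplexShape.up ℤ)).obj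
      ((L.mapHomologicalComplex (ComplexShape.up ℤ)).obj C) :=
    { f := fun n => adj.unit.app (C.X n)
      comm' := fun i j _ => (adj.unit.naturality (C.d i j)).symm }
  have : QuasiIso f := ⟨fun n => by
    rw [quasiIsoAt_iff_isIso_homologyMap]
    have h' : IsIso (adj.unit.app (C.sc n).homology) := h n
    rw [NatTrans.app_homology, isIso_comp_left_iff, isIso_comp_right_iff] at h'
    exact h'⟩
  exact ⟨_, ⟨R.mapDerivedCategoryFactors.app _ ≪≫ (asIso (DerivedCategory.Q.map f)).symm⟩⟩

theorem nonempty_homology_iso (C : CochainComplex B ℤ) (n : ℤ) :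
    Nonempty ((DerivedCategory.homologyFunctor A n).obj (R.mapDerivedCategory.obj (DerivedCategory.Q.obj C)) ≅
      R.obj (C.homology n)) :=
  ⟨(DerivedCategory.homologyFunctor A n).mapIso (R.mapDerivedCategoryFactors.app C) ≪≫
    (DerivedCategory.homologyFunctorFactors A n).app _ ≪≫ (C.sc n).mapHomologyIso R⟩

end Abs

/-- Let i : Z → X be a closed immersion of schemes with open complement j : U → X. The direct image i_*
of abelian etale sheaves is exact (its right exactness is carried as an instance hypothesis), and
the induced functor D(Z_et) → D(X_et) is fully faithful; an object K of D(X_et) lies in its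
essential image if and only if every cohomology sheaf of K has zero restriction to U, i.e. K has
cohomology sheaves supported on Z. (The identification of the quasi-inverse with the derived functor
of sections supported on Z is not part of this row.) -/
theorem result {Z X U : Scheme.{u}} (i : Z ⟶ X)
    [IsClosedImmersion i] (j : U ⟶ X) [IsOpenImmersion j] (hZU : Set.range j = (Set.range i)ᶜ)
    [PreservesFiniteColimits (EtCoh.push i)] :
    ((EtCoh.push i).mapDerivedCategory.Full ∧ (EtCoh.push i).mapDerivedCategory.Faithful) ∧
      ∀ K : DCoh.DEt X,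
        (EtCoh.push i).mapDerivedCategory.essImage K ↔
          ∀ n : ℤ, IsZero ((EtCoh.pull j).obj (DCoh.HDEt K n)) := by
  have := EtaleSite.isRightAdjoint_push i
  have : PreservesLimits (EtCoh.push i) := (EtCoh.pullPushAdj i).rightAdjoint_preservesLimits
  have : PreservesColimits (EtCoh.pull i) := (EtCoh.pullPushAdj i).leftAdjoint_preservesColimits
  have := EtaleSite.preservesFiniteLimits_pull i
  have : (EtCoh.pull i).Additive := Functor.additive_of_preserves_binary_products _
  have : (EtCoh.push i).Additive := Functor.additive_of_preserves_binary_products _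
  have : ∀ G, IsIso ((EtCoh.pullPushAdj i).counit.app G) := EtaleSite.isIso_counit i
  refine ⟨full_and_faithful (EtCoh.pullPushAdj i), fun K => ⟨fun hK n => ?_, fun hK => ?_⟩⟩
  · obtain ⟨L, ⟨e⟩⟩ := hK
    have := Localization.essSurj DerivedCategory.Q
      (HomologicalComplex.quasiIso (EtCoh.Ab Z) (ComplexShape.up ℤ))
    let C := DerivedCategory.Q.objPreimage L
    obtain ⟨e'⟩ := nonempty_homology_iso (R := EtCoh.push i) C n
    have hz : IsZero ((EtCoh.pull j).obj ((EtCoh.push i).obj (C.homology n))) :=
      (EtaleSite.isZero_iff_stalk _).2 fun Ω _ _ ξ => IsZero.of_iso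
        (EtaleSite.isZero_stalk_push i (ξ ≫ j) (hZU.le ⟨ξ default, rfl⟩) _)
        ((EtaleSite.stalkPullIso j ξ).app _)
    exact hz.of_iso ((EtCoh.pull j).mapIso ((DerivedCategory.homologyFunctor _ n).mapIso (e.symm ≪≫
      (EtCoh.push i).mapDerivedCategory.mapIso (DerivedCategory.Q.objObjPreimageIso L).symm) ≪≫ e'))
  · have := Localization.essSurj DerivedCategory.Q
      (HomologicalComplex.quasiIso (EtCoh.Ab X) (ComplexShape.up ℤ))
    let C := DerivedCategory.Q.objPreimage K
    let e := DerivedCategory.Q.objObjPreimageIso K
    refine Functor.essImage.ofIso e (essImage_of_isIso_unit (EtCoh.pullPushAdj i) C fun n => ?_)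
    have hz : IsZero ((EtCoh.pull j).obj (C.homology n)) :=
      (hK n).of_iso ((EtCoh.pull j).mapIso
        (((DerivedCategory.homologyFunctorFactors _ n).app C).symm ≪≫
          (DerivedCategory.homologyFunctor _ n).mapIso e))
    refine EtaleSite.isIso_of_stalk _ fun Ω _ _ ξ => ?_
    by_cases hξ : ξ default ∈ Set.range i
    · exact EtaleSite.isIso_stalk_unit_push i _ ξ hξ
    · obtain ⟨ζ, rfl⟩ | h := EtSupp.exists_lift_or_notMem j ξ
      · exact (IsZero.of_iso ((EtCoh.stalk ζ).map_isZero hz)
          ((EtaleSite.stalkPullIso j ζ).app _).symm).isIso (EtaleSite.isZero_stalk_push i _ hξ _) _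
      · exact absurd (hZU.ge hξ) h

end Groth.Agent.S6659
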