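import Groth.Statements.S6666
import Groth.Agent.LimLib.ClosedApprox
import Groth.Agent.LimLib.StalkSystem
import Groth.Agent.RedSub.Basic

set_option backward.isDefEq.respectTransparency false
set_option backward.defeqAttrib.useBackward true

set_option autoImplicit false
universe u
open CategoryTheory AlgebraicGeometry
open Lim

namespace Groth.Agent.S6666

/-- A localization of a reduced ring at a minimal prime is a field. -/
lemma isField_of_minimal {A : Type u} [CommRing A] [IsReduced A] (p : Ideal A) [p.IsPrime]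
    (hp : p ∈ minimalPrimes A) (B : Type u) [CommRing B] [Algebra A B] [IsLocalization.AtPrime B p] :
    IsField B := by
  have : IsLocalRing B := IsLocalization.AtPrime.isLocalRing B p
  have : IsReduced B :=
    isReduced_localizationPreserves p.primeCompl B inferInstance
  rw [IsLocalRing.isField_iff_maximalIdeal_eq, eq_bot_iff]
  intro x hx
  have hn : x ∈ nilradical B := by
    rw [nilradical_eq_sInf, Ideal.mem_sInf]
    intro q hq
    have hq' : q.IsPrime := hq
    have hle : q.comap (algebraMap A B) ≤ p := by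
      rw [← IsLocalization.AtPrime.comap_maximalIdeal B p]
      exact Ideal.comap_mono (IsLocalRing.le_maximalIdeal hq'.ne_top)
    have he : q.comap (algebraMap A B) = p :=
      le_antisymm hle (hp.2 ⟨Ideal.IsPrime.comap _, bot_le⟩ hle)
    have h1 := IsLocalization.map_comap p.primeCompl B q
    have h2 := IsLocalization.map_comap p.primeCompl B (IsLocalRing.maximalIdeal B)
    have h3 : (IsLocalRing.maximalIdeal B).comap (algebraMap A B) = p :=
      IsLocalization.AtPrime.comap_maximalIdeal B p
    have h4 : q = IsLocalRing.maximalIdeal B :=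
      h1.symm.trans ((congrArg (Ideal.map (algebraMap A B)) (he.trans h3.symm)).trans h2)
    rw [h4]
    exact hx
  rwa [nilradical_eq_zero] at hn

/-- Let T be a nonempty quasi-compact quasi-separated scheme and P a property of schemes over T (applied
to quasi-compact quasi-separated ones). Assume: (1) for every thickening T'' → T' (a surjective
closed immersion) of quasi-compact quasi-separated schemes over T, P(T'') if and only if P(T'); (2)
if a scheme T' over T is a limit (in schemes over T) of a cofiltered system of quasi-compact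
quasi-separated schemes over T with affine transition morphisms and P holds for every member, then
P(T'); (3) if T' is quasi-compact quasi-separated over T with P(T') and Z ⊂ T' is a closed subscheme
whose open complement V is quasi-compact, then P(V) or P(Z). Then P(T) implies P(Spec K → T) for
some field K and some morphism Spec K → T. (The published statement does not require T nonempty; for
T empty and P identically true there is no morphism from the spectrum of a field to T, so
nonemptiness is assumed here.) -/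
theorem result (T : Scheme.{u}) [CompactSpace T] [QuasiSeparatedSpace T]
    [Nonempty T] (P : ∀ ⦃T' : Scheme.{u}⦄, (T' ⟶ T) → Prop)
    (h1 : ∀ ⦃T' T'' : Scheme.{u}⦄ (a : T' ⟶ T) (t : T'' ⟶ T') [IsClosedImmersion t] [Surjective t]
      [CompactSpace T'] [QuasiSeparatedSpace T'] [CompactSpace T''] [QuasiSeparatedSpace T''], P (t ≫ a) ↔ P a)
    (h2 : ∀ ⦃I : Type u⦄ [SmallCategory I] [IsCofiltered I] (D : I ⥤ Over T) (c : Limits.Cone D) (_ : Limits.IsLimit c),
      (∀ (i j : I) (m : i ⟶ j), IsAffineHom (D.map m).left) →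
      (∀ i, CompactSpace (D.obj i).left ∧ QuasiSeparatedSpace (D.obj i).left) →
      (∀ i, P (D.obj i).hom) → P c.pt.hom)
    (h3 : ∀ ⦃T' Z V : Scheme.{u}⦄ (a : T' ⟶ T) [CompactSpace T'] [QuasiSeparatedSpace T'] (i : Z ⟶ T') [IsClosedImmersion i]
      (j : V ⟶ T') [IsOpenImmersion j] [CompactSpace V], Set.range j = (Set.range i)ᶜ → P a → P (j ≫ a) ∨ P (i ≫ a))
    (hT : P (𝟙 T)) :
    ∃ (K : Type u) (_ : Field K) (t : Spec (CommRingCat.of K) ⟶ T), P t := by
  classical
  let Q (I : T.IdealSheafData) : Prop := Nonempty I.subscheme ∧ P I.subschemeι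
  have qcqs : ∀ {Z : Scheme.{u}} (i : Z ⟶ T) [IsClosedImmersion i],
      CompactSpace Z ∧ QuasiSeparatedSpace Z := fun i _ =>
    ⟨QuasiCompact.compactSpace_of_compactSpace i, quasiSeparatedSpace_of_quasiSeparated i⟩
  have hbot : Q ⊥ := by
    let e : (⊥ : T.IdealSheafData).subscheme ⟶ T := (⊥ : T.IdealSheafData).subschemeι
    have : Surjective e := ⟨fun x => by
      have : x ∈ Set.range e := by
        rw [Scheme.IdealSheafData.range_subschemeι, Scheme.IdealSheafData.support_bot]
        trivial
      exact this⟩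
    obtain ⟨_, _⟩ := qcqs e
    refine ⟨⟨(e.surjective (Classical.arbitrary T)).choose⟩, ?_⟩
    have := (h1 (𝟙 T) e (T'' := _)).mpr hT
    rwa [Category.comp_id] at this
  -- chains
  obtain ⟨I, -, hI⟩ : ∃ I, ⊥ ≤ I ∧ Maximal Q I := by
    refine zorn_le_nonempty₀ {I | Q I} (fun C hC hch J₀ hJ₀ => ?_) ⊥ hbot
    have : Nonempty C := ⟨⟨J₀, hJ₀⟩⟩
    have : IsDirectedOrder C := ⟨fun a b => (hch.total a.2 b.2).elim
      (fun h => ⟨b, h, le_refl _⟩) fun h => ⟨a, le_refl _, h⟩⟩
    let F : C →o T.IdealSheafData := ⟨Subtype.val, fun _ _ h => h⟩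
    let K : T.IdealSheafData := ⨆ j, F j
    have hK : ⨆ j, F j = K.subschemeι.ker := (Scheme.IdealSheafData.ker_subschemeι K).symm
    refine ⟨K, ?_, fun z hz => le_iSup F ⟨z, hz⟩⟩
    have hlim := LimLib.isLimitIdealCone F K.subschemeι hK
    have hcs (i : Cᵒᵖ) : CompactSpace ((LimLib.idealDiagram F).obj i).left ∧
        QuasiSeparatedSpace ((LimLib.idealDiagram F).obj i).left :=
      qcqs (F i.unop).subschemeι
    have haff (i j : Cᵒᵖ) (a : i ⟶ j) : IsAffineHom ((LimLib.idealDiagram F).map a).left :=
      inferInstance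
    refine ⟨?_, h2 _ _ hlim haff hcs fun i => (hC i.unop.2).2⟩
    let D' := LimLib.idealDiagram F ⋙ Over.forget T
    have : ∀ i, Nonempty (D'.obj i) := fun i => (hC i.unop.2).1
    have : ∀ i, CompactSpace (D'.obj i) := fun i => (hcs i).1
    have : ∀ {i j : Cᵒᵖ} (a : i ⟶ j), IsAffineHom (D'.map a) := fun a => haff _ _ a
    have : IsConnected Cᵒᵖ := IsCofiltered.isConnected _
    exact Scheme.nonempty_of_isLimit D' _ (Limits.isLimitOfPreserves (Over.forget T) hlim)
  obtain ⟨⟨hne, hPI⟩, hmax⟩ := hI
  let Z := I.subscheme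
  let a : Z ⟶ T := I.subschemeι
  obtain ⟨_, _⟩ := qcqs a
  -- nonempty closed subschemes with `P` are everything
  have key : ∀ {Z' : Scheme.{u}} (j : Z' ⟶ Z) [IsClosedImmersion j], Nonempty Z' → P (j ≫ a) →
      Surjective j := fun {Z'} j _ hne' hP' => by
    obtain ⟨_, _⟩ := qcqs (j ≫ a)
    let K := (j ≫ a).ker
    have hK : Q K := by
      let l : Z' ⟶ K.subscheme := (j ≫ a).toImage
      have hl : l ≫ K.subschemeι = j ≫ a := (j ≫ a).toImage_imageι
      have : IsIso l := IsClosedImmersion.isIso_of_ker_eq (j ≫ a) K.subschemeι l hl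
        (Scheme.IdealSheafData.ker_subschemeι _).symm
      obtain ⟨_, _⟩ := qcqs K.subschemeι
      exact ⟨hne'.map l, (h1 K.subschemeι l).mp (by rw [hl]; exact hP')⟩
    have hIK : I ≤ K := (Scheme.IdealSheafData.ker_subschemeι I).ge.trans (Scheme.Hom.le_ker_comp j a)
    have e : I = K := le_antisymm hIK (hmax hK hIK)
    have : IsIso j := IsClosedImmersion.isIso_of_ker_eq (j ≫ a) a j rfl
      (e ▸ (Scheme.IdealSheafData.ker_subschemeι I).symm : K = a.ker)
    infer_instance
  -- reduce
  let R := Scheme.IdealSheafData.vanishingIdeal (X := Z) ⊤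
  have : IsReduced R.subscheme := RedSub.isReduced_vanishingIdeal _
  have hsR : Surjective R.subschemeι := ⟨fun x => by
    have : x ∈ Set.range R.subschemeι := by
      rw [RedSub.range_vanishingIdeal_subschemeι]
      trivial
    exact this⟩
  let Z₁ := R.subscheme
  let a₁ : Z₁ ⟶ T := R.subschemeι ≫ a
  obtain ⟨_, _⟩ := qcqs a₁
  have hP₁ : P a₁ := (h1 a R.subschemeι).mpr hPI
  have hne₁ : Nonempty Z₁ := ⟨(hsR.surj hne.some).choose⟩
  -- opens
  have hopen : ∀ (W : Z₁.Opens), IsAffineOpen W → Nonempty W → P (W.ι ≫ a₁) := fun W hW hWne => by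
    have : CompactSpace (W : Scheme.{u}) := isCompact_iff_compactSpace.mp hW.isCompact
    have : QuasiSeparatedSpace (W : Scheme.{u}) := quasiSeparatedSpace_of_quasiSeparated W.ι
    let C : TopologicalSpace.Closeds Z₁ := ⟨(W : Set Z₁)ᶜ, W.2.isClosed_compl⟩
    let j := (Scheme.IdealSheafData.vanishingIdeal C).subschemeι
    have hr : Set.range j = (W : Set Z₁)ᶜ := RedSub.range_vanishingIdeal_subschemeι C
    rcases h3 a₁ j W.ι (by rw [Scheme.Opens.range_ι, hr, compl_compl]) hP₁ with h | h
    · exact h
    · by_cases hCne : Nonempty (Scheme.IdealSheafData.vanishingIdeal C).subscheme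
      · exfalso
        have hs := key (j ≫ R.subschemeι) hCne (by rw [Category.assoc]; exact h)
        obtain ⟨w⟩ := hWne
        obtain ⟨c', hc'⟩ := hs.surj (R.subschemeι w.1)
        have : j c' = w.1 := R.subschemeι.isClosedEmbedding.injective (by
          rw [← Scheme.Hom.comp_apply]; exact hc')
        exact (hr.le ⟨c', this⟩ : w.1 ∉ W) w.2
      · have hWt : Surjective W.ι := ⟨fun x => by
          by_cases hx : x ∈ W
          · exact ⟨⟨x, hx⟩, rfl⟩
          · obtain ⟨z, hz⟩ := hr.ge hx
            exact absurd ⟨z⟩ hCne⟩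
        have : IsIso W.ι := isIso_of_isOpenImmersion_of_opensRange_eq_top W.ι
          (TopologicalSpace.Opens.ext hWt.surj.range_eq)
        exact (h1 a₁ W.ι).mpr hP₁
  -- a maximal point
  obtain ⟨_, ⟨V, hV, rfl⟩, hxV, -⟩ :=
    Z₁.isBasis_affineOpens.exists_subset_of_mem_open (Set.mem_univ hne₁.some) isOpen_univ
  have hV : IsAffineOpen V := hV
  have : Nontrivial Γ(Z₁, V) := PrimeSpectrum.nonempty_iff_nontrivial.mp ⟨hV.primeIdealOf ⟨_, hxV⟩⟩
  obtain ⟨p, hp⟩ := (Ideal.nonempty_minimalPrimes (I := (⊥ : Ideal Γ(Z₁, V))) bot_ne_top)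
  have hp' : p.IsPrime := hp.1.1
  let x : Z₁ := hV.fromSpec ⟨p, hp'⟩
  have hxV' : x ∈ V := hV.range_fromSpec.le ⟨_, rfl⟩
  let := TopCat.Presheaf.algebra_section_stalk Z₁.presheaf ⟨x, hxV'⟩
  have hloc : IsLocalization.AtPrime (Z₁.presheaf.stalk x) p :=
    hV.isLocalization_stalk' ⟨p, hp'⟩ hxV'
  let _ : Field (Z₁.presheaf.stalk x) := (isField_of_minimal p hp (Z₁.presheaf.stalk x)).toField
  obtain ⟨S⟩ := LimLib.nonempty_stalkSystem Z₁ x
  let m (i : S.Jᵒᵖ) : S.D.obj i ⟶ Z₁ := S.ι.app i
  let D : S.Jᵒᵖ ⥤ Over T :=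
    { obj := fun i => Over.mk (m i ≫ a₁)
      map := fun {i j} e => Over.homMk (S.D.map e) (by
        show S.D.map e ≫ m j ≫ a₁ = m i ≫ a₁
        rw [← Category.assoc]
        exact congrArg (· ≫ a₁) ((S.ι.naturality e).trans (Category.comp_id _)))
      map_id := fun i => by ext1; exact S.D.map_id i
      map_comp := fun e e' => by ext1; exact S.D.map_comp e e' }
  let c : Limits.Cone D :=
    { pt := Over.mk (Z₁.fromSpecStalk x ≫ a₁)
      π :=
      { app := fun i => Over.homMk (S.π.app i) (by
          show S.π.app i ≫ m i ≫ a₁ = _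
          rw [← Category.assoc, S.fac i]; rfl)
        naturality := fun i j e => by ext1; exact S.π.naturality e } }
  obtain ⟨hS⟩ := S.isLimit
  have hlim : Nonempty (Limits.IsLimit c) := by
    refine ⟨Limits.IsLimit.ofExistsUnique fun U => ?_⟩
    let U' : Limits.Cone S.D :=
      { pt := U.pt.left
        π := { app := fun i => (U.π.app i).left
               naturality := fun i j e => by
                 show 𝟙 _ ≫ (U.π.app j).left = (U.π.app i).left ≫ (D.map e).left
                 rw [Category.id_comp, ← Over.comp_left, U.w e] } }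
    obtain ⟨i₀⟩ : Nonempty S.Jᵒᵖ := ⟨Opposite.op (Classical.arbitrary _)⟩
    refine ⟨Over.homMk (hS.lift U') ?_, fun i => ?_, fun n hn => ?_⟩
    · show hS.lift U' ≫ Z₁.fromSpecStalk x ≫ a₁ = U.pt.hom
      rw [← S.fac i₀, Category.assoc, ← Category.assoc]
      erw [hS.fac U' i₀]
      exact Over.w (U.π.app i₀)
    · ext1; exact hS.fac U' i
    · ext1
      exact hS.uniq U' n.left fun i => congrArg CommaMorphism.left (hn i)
  have haff (i j : S.Jᵒᵖ) (e : i ⟶ j) : IsAffineHom (D.map e).left :=
    inferInstanceAs (IsAffineHom (S.D.map e))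
  have hP := h2 D c hlim.some haff
    (fun i => ⟨inferInstanceAs (CompactSpace (S.D.obj i)),
      inferInstanceAs (QuasiSeparatedSpace (S.D.obj i))⟩)
    fun i => by
      show P (m i ≫ a₁)
      have : IsOpenImmersion (m i) := S.isOpenImmersion i
      let W := (m i).opensRange
      have hW : IsAffineOpen W := isAffineOpen_opensRange (m i)
      have hne' : Nonempty W := ⟨⟨x, S.mem i⟩⟩
      have h := hopen W hW hne'
      have : CompactSpace (W : Scheme.{u}) := isCompact_iff_compactSpace.mp hW.isCompact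
      have : QuasiSeparatedSpace (W : Scheme.{u}) := quasiSeparatedSpace_of_quasiSeparated W.ι
      let e : S.D.obj i ⟶ (W : Scheme.{u}) := (IsOpenImmersion.isoOfRangeEq (m i) W.ι (by simp [W])).hom
      have he : e ≫ W.ι = m i := IsOpenImmersion.isoOfRangeEq_hom_fac _ _ _
      rw [← he, Category.assoc]
      exact (h1 (W.ι ≫ a₁) e).mpr h
  exact ⟨Z₁.presheaf.stalk x, inferInstance, Z₁.fromSpecStalk x ≫ a₁, hP⟩

end Groth.Agent.S6666
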