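import Groth.Statements.S6685
import Groth.Agent.BigBC.SmallBig
import Groth.Agent.BigShriek.Basic
-- import your own Groth.Agent.* helpers here

set_option autoImplicit false
universe u
open CategoryTheory CategoryTheory.Limits AlgebraicGeometry Opposite
open BigSite

namespace Groth.Agent.S6685

/-- Let S be a scheme, I an injective abelian sheaf on the big etale site of S and f : T → S a scheme
over S. Then (b) the restriction I|_{S_et} of I to the small etale site of S is injective, and (a)
the restriction i_f⁻¹ I of I to the small etale site of T (sections over an etale U → T are the
sections of I over U → S) is injective. -/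
theorem result (S : Scheme.{u}) (I : BigSite.Ab Scheme.etalePrecoverage S) [Injective I]
    {T : Scheme.{u}} (f : T ⟶ S) :
    Injective ((BigSite.resEt Scheme.etalePrecoverage S).obj I) ∧
      Injective ((BigSite.resEtAlong Scheme.etalePrecoverage f).obj I) := by
  refine ⟨Groth.Agent.BigBC.injective_resEt S _ I, ?_⟩
  have := Groth.Agent.BigShriek.preservesInjective_pullBig Scheme.etalePrecoverage f
  exact Groth.Agent.BigBC.injective_resEt T _ _

end Groth.Agent.S6685
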