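import Groth.Statements.S6693
import Groth.Agent.EtAcDepth.ClosedFibreUnit
-- import your own Groth.Agent.* helpers here

set_option autoImplicit false
set_option backward.isDefEq.respectTransparency false
universe u
open CategoryTheory CategoryTheory.Limits AlgebraicGeometry Opposite
open EtBC

namespace Groth.Agent.S6693

open Groth.Agent Groth.Agent.EtaleSite Groth.Agent.EtAcDepth Groth.Agent.EtLimit IsLocalRing
open scoped TensorProduct

/-- The local statement at a point over the closed point. -/
theorem local_bijective {X S : Scheme.{u}} (f : X ⟶ S) (F : EtCoh.Ab X)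
    (hla : SGA4h.IsLARel f F) (s : S) (RS : Type u) [CommRing RS] [IsLocalRing RS]
    [Algebra (S.presheaf.stalk s) RS] [IsLocalHom (algebraMap (S.presheaf.stalk s) RS)]
    [Hensel.IsStrictHenselization (S.presheaf.stalk s) RS]
    {X' : Scheme.{u}} (f' : X' ⟶ Spec (CommRingCat.of RS)) (p : X' ⟶ X)
    (cX : IsPullback p f' f (Hens2.specOf S s RS)) (Ω : Type u) [Field Ω] [IsSepClosed Ω] (τ : RS →+* Ω)
    {Xt : Scheme.{u}} (h : Xt ⟶ X') (ft : Xt ⟶ Spec (CommRingCat.of Ω))
    (ct : IsPullback h ft f' (Spec.map (CommRingCat.ofHom τ))) (x' : X')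
    (hx : f' x' = closedPoint RS) (hs : f.base (p x') = s) :
    ∃ (RX : Type u) (_ : CommRing RX) (_ : HenselianLocalRing RX) (_ : IsSepClosed (ResidueField RX))
      (_ : Algebra (X'.presheaf.stalk x') RX) (_ : IsLocalHom (algebraMap (X'.presheaf.stalk x') RX))
      (_ : Hensel.IsStrictHenselization (X'.presheaf.stalk x') RX)
      (_ : EtPres (Hens2.specOf X' x' RX)), ∀ q : ℕ,
        Function.Bijective (EtCore.Hpull (pullback.snd h (Hens2.specOf X' x' RX))
          ((EtCoh.pull (Hens2.specOf X' x' RX)).obj ((EtCoh.pull p).obj F)) q) := by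
  subst hs
  let OX' := X'.presheaf.stalk x'
  let RX := Hens.StrictHenselization ↑OX'
  let iX : Hensel.IsStrictHenselization ↑OX' RX := inferInstance
  haveI := iX.henselian
  haveI := iX.isSepClosure.sep_closed
  obtain ⟨PX⟩ := EtLimit.nonempty_etPres X' x' RX
  refine ⟨RX, inferInstance, inferInstance, inferInstance, inferInstance, inferInstance, iX, PX, fun q => ?_⟩
  let σ' := Hens2.specOf X' x' RX
  have hp : SHStable p := by
    have hi := shStable_fst_specOf f (f.base (p x')) RS
    have := (shStable_of_isOpenImmersion cX.isoPullback.hom).comp hi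
    rwa [cX.isoPullback_hom_fst] at this
  obtain ⟨algX, locX, hX, eX⟩ := exists_alg hp x' RX _ rfl
  obtain ⟨b, hb⟩ : ∃ b : CommRingCat.of RS ⟶ CommRingCat.of RX, Spec.map b = σ' ≫ f' :=
    ⟨Spec.preimage _, Spec.map_preimage _⟩
  letI : Algebra RS RX := b.hom.toAlgebra
  have hψ : Spec.map (CommRingCat.ofHom (algebraMap RS RX)) = σ' ≫ f' := hb
  haveI : IsLocalHom (algebraMap RS RX) := by
    have h1 : PrimeSpectrum.comap b.hom (closedPoint RX) = closedPoint RS := by
      show (Spec.map b) (closedPoint RX) = _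
      rw [hb, Scheme.Hom.comp_apply]
      exact (congrArg f' (specOf_closedPoint' X' x' RX)).trans hx
    exact ⟨fun a ha => by
      by_contra hna
      have : a ∈ (PrimeSpectrum.comap b.hom (closedPoint RX)).asIdeal := by
        rw [h1]; exact (mem_maximalIdeal a).2 hna
      exact (mem_maximalIdeal _).1 this ha⟩
  let x := p x'
  have hc : (algebraMap RS RX).comp (algebraMap (S.presheaf.stalk (f.base x)) RS) =
      (algebraMap (X.presheaf.stalk x) RX).comp (f.stalkMap x).hom := by
    haveI : IsLocalHom ((algebraMap RS RX).comp (algebraMap (S.presheaf.stalk (f.base x)) RS)) :=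
      RingHom.isLocalHom_comp _ _
    haveI : IsLocalHom ((algebraMap (X.presheaf.stalk x) RX).comp (f.stalkMap x).hom) :=
      RingHom.isLocalHom_comp _ _
    have i1 : IsLocalHom (CommRingCat.ofHom ((algebraMap RS RX).comp
        (algebraMap (S.presheaf.stalk (f.base x)) RS))).hom := by
      rw [CommRingCat.hom_ofHom]; infer_instance
    have i2 : IsLocalHom (CommRingCat.ofHom ((algebraMap (X.presheaf.stalk x) RX).comp
        (f.stalkMap x).hom)).hom := by
      rw [CommRingCat.hom_ofHom]; infer_instance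
    refine congrArg CommRingCat.Hom.hom (@StrictHens.SchemeBC.stalk_hom_ext _
      (CommRingCat.of RX) (inferInstanceAs (IsLocalRing RX)) (f.base x)
      (CommRingCat.ofHom ((algebraMap RS RX).comp (algebraMap (S.presheaf.stalk (f.base x)) RS)))
      (CommRingCat.ofHom ((algebraMap (X.presheaf.stalk x) RX).comp (f.stalkMap x).hom)) i1 i2 ?_)
    rw [CommRingCat.ofHom_comp, CommRingCat.ofHom_comp, CommRingCat.ofHom_hom, Spec.map_comp,
      Spec.map_comp, Category.assoc, Category.assoc, Scheme.SpecMap_stalkMap_fromSpecStalk]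
    refine (congrArg (· ≫ Hens2.specOf S (f.base x) RS) hψ).trans ?_
    refine ((Category.assoc _ _ _).trans (congrArg (σ' ≫ ·) cX.w.symm)).trans ?_
    exact (Category.assoc _ _ _).symm.trans ((congrArg (· ≫ f) eX.symm).trans (Category.assoc _ _ _))
  letI : Algebra RS Ω := τ.toAlgebra
  haveI : IsLocalHom (algebraMap (X.presheaf.stalk x) RX) := locX
  haveI : Hensel.IsStrictHenselization (X.presheaf.stalk x) RX := hX
  have hG := hla x RS RX hc Ω q
  have sqW : IsPullback (pullback.fst h σ' ≫ ft) (pullback.snd h σ')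
      (Spec.map (CommRingCat.ofHom (algebraMap RS Ω))) (Spec.map (CommRingCat.ofHom (algebraMap RS RX))) := by
    rw [hψ]
    exact (IsPullback.of_hasPullback h σ').paste_horiz ct.flip
  let E := sqW.flip.isoPullback ≪≫ pullbackSpecIso RS RX Ω
  refine bijective_Hpull_of_iso_coef _
    ((EtCore.pullCongr eX ≪≫ EtCore.pullComp σ' p).app F) q ?_
  refine bijective_Hpull_of_iso_source E
    (Spec.map (CommRingCat.ofHom (algebraMap RX (RX ⊗[RS] Ω)))) (pullback.snd h σ') ?_ _ q hG
  rw [Iso.trans_hom, Category.assoc]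
  exact (congrArg (sqW.flip.isoPullback.hom ≫ ·) (pullbackSpecIso_hom_fst RS RX Ω)).trans
    sqW.flip.isoPullback_hom_fst

/-- For a single abelian sheaf (a bounded below complex concentrated in degree 0): let f : X → S be a
morphism of schemes and F an abelian sheaf on the small etale site of X such that f is locally
acyclic relative to F. Let s be a point of S, R_S a strict henselization of the local ring of S at
s, X' = X ×_S Spec R_S with projection p : X' → X, t̄ : Spec Ω → Spec R_S a geometric point with Ω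
algebraically closed, h : X_t̄ = X' ×_{Spec R_S} Spec Ω → X' and i : X_s̄ = X' ×_{Spec R_S} Spec
κ(R_S) → X' the fibres over t̄ and over the closed point. Put F' = p⁻¹ F. Then the restriction along
i of the unit F' → h_* h⁻¹ F' is an isomorphism, and i⁻¹ R^q h_* (h⁻¹ F') is zero for every q > 0;
together these say that i⁻¹ applied to β : F' → Rh_* (F'|X_t̄) is an isomorphism. -/
theorem result {X S : Scheme.{u}} (f : X ⟶ S) (F : EtCoh.Ab X)
    (hla : SGA4h.IsLARel f F) (s : S) (RS : Type u) [CommRing RS] [IsLocalRing RS] [Algebra (S.presheaf.stalk s) RS]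
      [IsLocalHom (algebraMap (S.presheaf.stalk s) RS)] [Hensel.IsStrictHenselization (S.presheaf.stalk s) RS]
    (X' : Scheme.{u}) (f' : X' ⟶ Spec (CommRingCat.of RS)) (p : X' ⟶ X) (cX : IsPullback p f' f (Hens2.specOf S s RS))
    (Ω : Type u) [Field Ω] [IsAlgClosed Ω] (τ : RS →+* Ω)
    (Xt : Scheme.{u}) (h : Xt ⟶ X') (ft : Xt ⟶ Spec (CommRingCat.of Ω))
    (ct : IsPullback h ft f' (Spec.map (CommRingCat.ofHom τ)))
    (Xs : Scheme.{u}) (i : Xs ⟶ X') (fs : Xs ⟶ Spec (CommRingCat.of (IsLocalRing.ResidueField RS)))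
    (cs : IsPullback i fs f' (Spec.map (CommRingCat.ofHom (IsLocalRing.residue RS)))) :
    IsIso ((EtCoh.pull i).map ((EtCoh.pullPushAdj h).unit.app ((EtCoh.pull p).obj F))) ∧
      ∀ q : ℕ, 0 < q →
        IsZero ((EtCoh.pull i).obj ((EtCoh.Rpush h q).obj ((EtCoh.pull h).obj ((EtCoh.pull p).obj F)))) := by
  let F' := (EtCoh.pull p).obj F
  haveI : IsAffineHom (Spec.map (CommRingCat.ofHom τ)) := inferInstance
  haveI : QuasiCompact h := MorphismProperty.of_isPullback ct.flip (inferInstance : QuasiCompact (Spec.map (CommRingCat.ofHom τ)))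
  haveI : QuasiSeparated h := MorphismProperty.of_isPullback ct.flip (inferInstance : QuasiSeparated (Spec.map (CommRingCat.ofHom τ)))
  have key : ∀ z : Xs, f'.base (i z) = IsLocalRing.closedPoint RS ∧ f.base (p (i z)) = s := by
    intro z
    have h1 : f'.base (i z) = IsLocalRing.closedPoint RS := by
      have e : f' (i z) = Spec.map (CommRingCat.ofHom (IsLocalRing.residue RS)) (fs z) :=
        congrArg (fun k : Xs ⟶ _ => k z) cs.w
      exact e.trans (IsLocalRing.PrimeSpectrum.comap_residue _ _)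
    refine ⟨h1, ?_⟩
    have e : f (p (i z)) = Hens2.specOf S s RS (f' (i z)) := congrArg (fun k : X' ⟶ S => k (i z)) cX.w
    exact e.trans ((congrArg (Hens2.specOf S s RS) h1).trans (specOf_closedPoint' S s RS))
  constructor
  · refine EtaleSite.isIso_of_stalk _ fun L _ _ ζ => ?_
    refine (NatIso.isIso_map_iff (stalkPullIso i ζ).symm _).1 ?_
    let x' := i (ζ default)
    obtain ⟨RX, _, _, _, _, _, _, PX, hbij⟩ := local_bijective f F hla s RS f' p cX Ω τ h ft ct x'
      (key _).1 (key _).2
    let σ' := Hens2.specOf X' x' RX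
    obtain ⟨e₀⟩ := nonempty_stalk_iso_geomPointAt (ζ ≫ i)
    obtain ⟨e₁⟩ := nonempty_stalk_iso_geomPointAt (closedPt RX ≫ σ')
    have h0 : ∀ a, (ζ ≫ i) a = x' := fun a =>
      congrArg (fun b => i (ζ b)) (Subsingleton.elim (α := Spec (CommRingCat.of L)) _ _)
    have h1 : ∀ a, (closedPt RX ≫ σ') a = x' := fun a => by
      rw [Scheme.Hom.comp_apply]
      exact (congrArg σ' (IsLocalRing.PrimeSpectrum.comap_residue _ _)).trans (specOf_closedPoint' X' x' RX)
    rw [h0] at e₀
    rw [h1] at e₁
    exact (NatIso.isIso_map_iff (e₀ ≪≫ e₁.symm) _).2 ((ConcreteCategory.isIso_iff_bijective _).2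
      (bijective_stalk_unit_strict RX PX h F' hbij))
  · intro q hq
    let G := (EtCoh.Rpush h q).obj ((EtCoh.pull h).obj F')
    refine (EtaleSite.isZero_iff_stalk _).2 fun L _ _ ζ => ?_
    refine IsZero.of_iso ?_ ((stalkPullIso i ζ).app G)
    let x' := i (ζ default)
    obtain ⟨RX, _, _, _, _, _, _, PX, hbij⟩ := local_bijective f F hla s RS f' p cX Ω τ h ft ct x'
      (key _).1 (key _).2
    let σ' := Hens2.specOf X' x' RX
    obtain ⟨Φ⟩ := EtLimit.nonempty_Rpush_stalk_iso h x' RX q
    obtain ⟨s₁⟩ := nonempty_stalk_iso_geomPointAt (ζ ≫ i)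
    obtain ⟨s₂⟩ := nonempty_stalk_iso_geomPointAt (Hens2.geomPt X' x' RX)
    rw [specOf_closedPt] at s₂
    have h0 : ∀ a, (ζ ≫ i) a = x' := fun a =>
      congrArg (fun b => i (ζ b)) (Subsingleton.elim (α := Spec (CommRingCat.of L)) _ _)
    rw [h0] at s₁
    let eF : (EtCoh.pull (pullback.fst h σ')).obj ((EtCoh.pull h).obj F') ≅
        (EtCoh.pull (pullback.snd h σ')).obj ((EtCoh.pull σ').obj F') :=
      ((EtCore.pullComp (pullback.fst h σ') h).symm ≪≫ EtCore.pullCongr pullback.condition ≪≫
        EtCore.pullComp (pullback.snd h σ') σ').app F'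
    refine IsZero.of_iso ?_ ((s₁ ≪≫ s₂.symm).app G ≪≫ Φ.app _ ≪≫ (EtCoh.HF _ q).mapIso eF)
    haveI := EtaleSite.subsingleton_H RX ((EtCoh.pull σ').obj F') q hq
    exact @AddCommGrpCat.isZero_of_subsingleton _ (hbij q).2.subsingleton

end Groth.Agent.S6693
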