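import Groth.Statements.S6696
import Groth.Agent.BigBC.Rpush
-- import your own Groth.Agent.* helpers here

set_option autoImplicit false
universe u
open CategoryTheory CategoryTheory.Limits AlgebraicGeometry Opposite
open BigSite

namespace Groth.Agent.S6696

/-- Part (5): for an abelian sheaf and degree by degree: let f : T → S be a morphism of schemes, g : S'
→ S a scheme over S and T' = S' ×_S T with projections g' : T' → T and f' : T' → S'. For an abelian
sheaf F on the big etale site of T and every q ≥ 0, the restriction g_big⁻¹ (R^q f_{big,*} F) of the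
big-site higher direct image to the big etale site of S' is isomorphic to R^q f'_{big,*} (g'_big⁻¹
F). (Existence of an isomorphism only.) -/
theorem result {T S T' S' : Scheme.{u}} (f : T ⟶ S) (g : S' ⟶ S)
    (g' : T' ⟶ T) (f' : T' ⟶ S') (c : IsPullback g' f' f g) (F : BigSite.Ab Scheme.etalePrecoverage T) (q : ℕ) :
    Nonempty ((BigSite.pullBig Scheme.etalePrecoverage g AddCommGrpCat.{u + 1}).obj
        ((BigSite.RpushBig Scheme.etalePrecoverage f q).obj F) ≅
      (BigSite.RpushBig Scheme.etalePrecoverage f' q).obj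
        ((BigSite.pullBig Scheme.etalePrecoverage g' AddCommGrpCat.{u + 1}).obj F)) := by
  let K := Scheme.etalePrecoverage.{u}
  haveI c1 : (Over.pullback f' ⋙ Over.map g').IsContinuous (QuotSh.J K S') (QuotSh.J K T) :=
    Functor.isContinuous_comp _ _ _ (QuotSh.J K T') _
  let E : BigSite.pushBig K f AddCommGrpCat.{u + 1} ⋙ BigSite.pullBig K g AddCommGrpCat.{u + 1} ≅
      BigSite.pullBig K g' AddCommGrpCat.{u + 1} ⋙ BigSite.pushBig K f' AddCommGrpCat.{u + 1} :=
    Functor.sheafPushforwardContinuousComp' (Groth.Agent.BigBC.mapPullbackIso c) _ _ _ _ ≪≫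
      (Functor.sheafPushforwardContinuousComp _ _ _ _ _ _).symm
  haveI := Groth.Agent.BigShriek.preservesInjective_pullBig K g'
  exact ⟨((Groth.Agent.ModShf.rightDerivedCompIso (BigSite.pushBig K f AddCommGrpCat.{u + 1})
      (BigSite.pullBig K g AddCommGrpCat.{u + 1}) q).app F).symm ≪≫
    (Groth.Agent.BigBC.rightDerivedCongr E q).app F ≪≫
    Groth.Agent.BigBC.rightDerivedPrecompIso (BigSite.pullBig K g' AddCommGrpCat.{u + 1})
      (BigSite.pushBig K f' AddCommGrpCat.{u + 1}) q F⟩

end Groth.Agent.S6696
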