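import Groth.Prelude.Def_EtModD2
import Groth.Prelude.Def_SixF2
import Mathlib.RingTheory.Noetherian.Defs
import Mathlib.AlgebraicGeometry.Morphisms.Etale
import Mathlib.AlgebraicGeometry.Morphisms.QuasiSeparated
import Groth.Agent.EtModWLib.GenEpi
import Mathlib.Algebra.Homology.DerivedCategory.HomologySequence
import Mathlib.Algebra.Homology.SingleHomology

set_option autoImplicit false
universe u
open CategoryTheory CategoryTheory.Limits AlgebraicGeometry Opposite
attribute [local instance] HasDerivedCategory.standard
open EtModD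

namespace Groth.Agent.S6699

open Groth.Agent Groth.Agent.EtModWLib

/-- Let X be a quasi-compact and quasi-separated scheme, Λ a Noetherian ring, K an object of D(X_et, Λ)
and b an integer such that the b-th cohomology sheaf of K is a constructible sheaf of Λ-modules.
Then there exist finitely many affine schemes U_k with etale morphisms j_k : U_k → X and a morphism
φ : F[-b] → K in D(X_et, Λ), where F is the direct sum of the sheaves j_{k!} Λ (extension by zero of
the constant sheaf Λ on U_k) placed in degree b, such that the map induced by φ on b-th cohomology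
sheaves is an epimorphism F → H^b(K). (Continuity of the functors V ↦ (V → U_k → X) between small
etale sites, true for every etale morphism, appears as an instance binder in front of the
extension-by-zero terms.) -/
theorem result (Λ : Type (u + 1)) [CommRing Λ] [IsNoetherianRing Λ] (X : Scheme.{u})
    [CompactSpace X] [QuasiSeparatedSpace X] (K : EtModD.D Λ X) (b : ℤ)
    (hK : EtModW.IsConstructible Λ (EtModD.HD K b)) :
    ∃ (m : ℕ) (U : Fin m → Scheme.{u}) (j : ∀ k, U k ⟶ X) (_ : ∀ k, Etale (j k)) (_ : ∀ k, IsAffine (U k)),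
      ∀ [∀ k, EtShriek.JCont (j k)],
        ∃ φ : (DerivedCategory.singleFunctor (EtModW.Mod Λ X) b).obj
              (∐ fun k => (EtSix.extZeroMod Λ (j k)).obj (EtSix.constΛ Λ (U k))) ⟶ K,
          Epi ((DerivedCategory.homologyFunctor (EtModW.Mod Λ X) b).map φ) := by
  obtain ⟨C, ⟨eC⟩⟩ : ∃ C : CochainComplex (EtModW.Mod Λ X) ℤ, Nonempty (DerivedCategory.Q.obj C ≅ K) :=
    ⟨_, ⟨DerivedCategory.Q.objObjPreimageIso K⟩⟩
  let eH : C.homology b ≅ EtModD.HD K b :=
    ((DerivedCategory.homologyFunctorFactors (EtModW.Mod Λ X) b).app C).symm ≪≫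
      (DerivedCategory.homologyFunctor (EtModW.Mod Λ X) b).mapIso eC
  have hC : EtModW.IsConstructible Λ (C.homology b) := isConstructible_of_iso eH.symm hK
  obtain ⟨m, W, s, hW, hgen⟩ := exists_finite_generators (C.homologyπ b) hC
  refine ⟨m, fun k => (W k).left, fun k => (W k).hom, fun k => (W k).prop, hW, ?_⟩
  intro inst
  haveI : ∀ k, Etale (W k).hom := fun k => (W k).prop
  haveI : ∀ k, EtShriek.JCont (W k).hom := inst
  obtain ⟨ψ, hψ⟩ := exists_sum_extZero_epi W (C.homologyπ b) s hgen
  let A : EtModW.Mod Λ X := ∐ fun k => ((EtSix.extZeroMod Λ (W k).hom).obj (EtSix.constΛ Λ (W k).left) : EtModW.Mod Λ X)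
  let f : (HomologicalComplex.single (EtModW.Mod Λ X) (ComplexShape.up ℤ) b).obj A ⟶ C :=
    HomologicalComplex.mkHomFromSingle (ψ ≫ C.iCycles b) (fun k _ => by
      rw [Category.assoc, C.iCycles_d, comp_zero])
  have hc : (HomologicalComplex.singleObjCyclesSelfIso (ComplexShape.up ℤ) b A).inv ≫
      HomologicalComplex.cyclesMap f b = ψ := by
    rw [← cancel_mono (C.iCycles b), Category.assoc, HomologicalComplex.cyclesMap_i,
      HomologicalComplex.singleObjCyclesSelfIso_inv_iCycles_assoc,
      HomologicalComplex.mkHomFromSingle_f, Iso.inv_hom_id_assoc]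
  haveI : Epi (HomologicalComplex.homologyMap f b) := by
    have h : (HomologicalComplex.singleObjHomologySelfIso (ComplexShape.up ℤ) b A).inv ≫
        HomologicalComplex.homologyMap f b = ψ ≫ C.homologyπ b := by
      rw [← HomologicalComplex.singleObjCyclesSelfIso_inv_homologyπ, Category.assoc,
        HomologicalComplex.homologyπ_naturality, ← Category.assoc, hc]
    haveI : Epi ((HomologicalComplex.singleObjHomologySelfIso (ComplexShape.up ℤ) b A).inv ≫
        HomologicalComplex.homologyMap f b) := by rw [h]; exact hψ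
    exact epi_of_epi (HomologicalComplex.singleObjHomologySelfIso (ComplexShape.up ℤ) b A).inv _
  refine ⟨(DerivedCategory.singleFunctorIsoCompQ (EtModW.Mod Λ X) b).hom.app A ≫
    DerivedCategory.Q.map f ≫ eC.hom, ?_⟩
  haveI : Epi ((DerivedCategory.homologyFunctor (EtModW.Mod Λ X) b).map (DerivedCategory.Q.map f)) := by
    have h := (DerivedCategory.homologyFunctorFactors (EtModW.Mod Λ X) b).hom.naturality f
    haveI : Epi ((HomologicalComplex.homologyFunctor (EtModW.Mod Λ X) (ComplexShape.up ℤ) b).map f) := by
      assumption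
    haveI : Epi ((DerivedCategory.Q ⋙ DerivedCategory.homologyFunctor (EtModW.Mod Λ X) b).map f ≫
        (DerivedCategory.homologyFunctorFactors (EtModW.Mod Λ X) b).hom.app C) := by
      rw [h]
      exact epi_comp _ _
    exact ((MorphismProperty.epimorphisms _).cancel_right_of_respectsIso _
      ((DerivedCategory.homologyFunctorFactors (EtModW.Mod Λ X) b).hom.app C)).1
      (show Epi _ from this)
  rw [Functor.map_comp, Functor.map_comp]
  refine @epi_comp _ _ _ _ _ _ ?_ _ (@epi_comp _ _ _ _ _ _ this _ ?_)
  · exact inferInstanceAs (Epi ((DerivedCategory.homologyFunctor (EtModW.Mod Λ X) b).mapIso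
      (((DerivedCategory.singleFunctorIsoCompQ (EtModW.Mod Λ X) b).app A))).hom)
  · exact inferInstanceAs (Epi ((DerivedCategory.homologyFunctor (EtModW.Mod Λ X) b).mapIso
      (eC)).hom)

end Groth.Agent.S6699
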