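import Groth.Prelude.Def_EtModD2
import Groth.Prelude.Def_SixF2
import Mathlib.RingTheory.Noetherian.Defs
import Mathlib.AlgebraicGeometry.Morphisms.Etale
import Mathlib.AlgebraicGeometry.Morphisms.QuasiSeparated
import Groth.Agent.EtModWLib.FlatRes
import Mathlib.Algebra.Homology.DerivedCategory.TStructure

set_option autoImplicit false
universe u
open CategoryTheory CategoryTheory.Limits AlgebraicGeometry Opposite
attribute [local instance] HasDerivedCategory.standard
open EtModD

namespace Groth.Agent.S6700

open Groth.Agent Groth.Agent.EtModWLib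

/-- (1) ⇔ (2): let X be a quasi-compact and quasi-separated scheme, Λ a Noetherian ring and K an object
of D(X_et, Λ) which is bounded above. Then every cohomology sheaf of K is a constructible sheaf of
Λ-modules if and only if K is isomorphic, in D(X_et, Λ), to the image of a bounded above complex of
sheaves of Λ-modules each of whose terms is isomorphic to a finite direct sum of sheaves j_! Λ,
extensions by zero of the constant sheaf Λ along etale morphisms j : U → X with U affine. (A third
equivalent condition, representability by a bounded above complex of flat constructible sheaves of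
Λ-modules, is not included. Continuity of the functors V ↦ (V → U → X) between small etale sites,
true for every etale morphism, appears as an instance binder in front of the extension-by-zero
terms.) -/
theorem result (Λ : Type (u + 1)) [CommRing Λ]
    [IsNoetherianRing Λ] (X : Scheme.{u}) [CompactSpace X] [QuasiSeparatedSpace X] (K : EtModD.D Λ X) (n : ℤ)
    [K.IsLE n] :
    (∀ i : ℤ, EtModW.IsConstructible Λ (EtModD.HD K i)) ↔
      ∃ (C : CochainComplex (EtModW.Mod Λ X) ℤ) (c : ℤ),
        (∀ i : ℤ, c < i → IsZero (C.X i)) ∧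
        (∀ i : ℤ, ∃ (m : ℕ) (U : Fin m → Scheme.{u}) (j : ∀ k, U k ⟶ X) (_ : ∀ k, Etale (j k))
            (_ : ∀ k, IsAffine (U k)),
            ∀ [∀ k, EtShriek.JCont (j k)],
              Nonempty (C.X i ≅ ∐ fun k => (EtSix.extZeroMod Λ (j k)).obj (EtSix.constΛ Λ (U k)))) ∧
        Nonempty (DerivedCategory.Q.obj C ≅ K) := by
  constructor
  · intro hK
    obtain ⟨C₀, ⟨e⟩⟩ : ∃ C : CochainComplex (EtModW.Mod Λ X) ℤ, Nonempty (DerivedCategory.Q.obj C ≅ K) :=
      ⟨_, ⟨DerivedCategory.Q.objObjPreimageIso K⟩⟩
    let eH : ∀ i, C₀.homology i ≅ EtModD.HD K i := fun i =>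
      ((DerivedCategory.homologyFunctorFactors (EtModW.Mod Λ X) i).app C₀).symm ≪≫
        (DerivedCategory.homologyFunctor (EtModW.Mod Λ X) i).mapIso e
    have hC : ∀ i, EtModW.IsConstructible Λ (C₀.homology i) := fun i => isConstructible_of_iso (eH i).symm (hK i)
    have hz : ∀ i, n < i → IsZero (C₀.homology i) := fun i hi =>
      (DerivedCategory.isZero_of_isLE K n i hi).of_iso (eH i)
    obtain ⟨Z₀, hZ, hPZ⟩ := exists_sumExtZero_isZero (Λ := Λ) (X := X)
    obtain ⟨Q, α, h1, h2, h3⟩ := LeftRes.exists_leftResolution (classes_sum (Λ := Λ) (X := X)) hC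
      Z₀ hZ hPZ n hz
    haveI := h3
    exact ⟨Q, n, h1, h2, ⟨asIso (DerivedCategory.Q.map α) ≪≫ e⟩⟩
  · rintro ⟨C, c, -, hC, ⟨e⟩⟩ i
    refine isConstructible_of_iso
      (((DerivedCategory.homologyFunctorFactors (EtModW.Mod Λ X) i).app C).symm ≪≫
        (DerivedCategory.homologyFunctor (EtModW.Mod Λ X) i).mapIso e) ?_
    exact isConstructible_homology C (fun k => isSumExtZero_constructible (hC k)) i

end Groth.Agent.S6700
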