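import Groth.Statements.S6703
import Mathlib.CategoryTheory.Adjunction.FullyFaithful
import Mathlib.CategoryTheory.HomCongr

set_option autoImplicit false
universe v v' u u'
open CategoryTheory
open DEquiv

namespace Groth.Agent.S6703

open CategoryTheory.Limits CategoryTheory.Pretriangulated

theorem bij_congr {α β : Sort*} {f g : α → β} (hg : Function.Bijective g) (h : ∀ x, f x = g x) :
    Function.Bijective f := funext h ▸ hg

section
variable {D : Type u} [Category.{v} D] [Preadditive D] [HasZeroObject D] [HasShift D ℤ]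
  [∀ n : ℤ, (shiftFunctor D n).Additive] [Pretriangulated D]

/-- An object receiving no nonzero maps from all shifts of `E ∈ S`. -/
theorem cone_isZero_right (S : Set D)
    (h2 : ∀ K : D, (∀ E ∈ S, ∀ (i : ℤ) (f : E ⟶ (shiftFunctor D i).obj K), f = 0) → IsZero K)
    {Y Z : D} (u : Y ⟶ Z)
    (hu : ∀ E ∈ S, ∀ n : ℤ, Function.Bijective (fun f : (shiftFunctor D n).obj E ⟶ Y => f ≫ u)) :
    IsIso u := by
  obtain ⟨C, p, q, hT⟩ := distinguished_cocone_triangle u
  have hzero : ∀ E ∈ S, ∀ (n : ℤ) (g : (shiftFunctor D n).obj E ⟶ C), g = 0 := by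
    intro E hE n g
    have hq : g ≫ q = 0 := by
      obtain ⟨h, hh⟩ := ((shiftFunctor D (1 : ℤ)).map_surjective
        ((shiftFunctorAdd' D (n - 1) 1 n (by omega)).inv.app E ≫ g ≫ q))
      have h0 : h ≫ u = 0 := by
        apply (shiftFunctor D (1 : ℤ)).map_injective
        rw [Functor.map_comp, hh, Functor.map_zero]
        simp only [Category.assoc]
        have h31 : q ≫ u⟦(1 : ℤ)⟧' = 0 := comp_distTriang_mor_zero₃₁ _ hT
        simp [h31]
      have : h = 0 := (hu E hE (n - 1)).injective (by simp [h0])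
      rw [this, Functor.map_zero] at hh
      exact (cancel_epi _).mp (hh.symm.trans comp_zero.symm)
    obtain ⟨g', hg'⟩ := Triangle.coyoneda_exact₃ _ hT g hq
    obtain ⟨g'', hg''⟩ := (hu E hE n).surjective g'
    have h12 : u ≫ p = 0 := comp_distTriang_mor_zero₁₂ _ hT
    rw [hg', ← hg'']
    show (g'' ≫ u) ≫ p = 0
    rw [Category.assoc, h12, comp_zero]
  have hC : IsZero C := h2 C fun E hE i f => by
    apply (shiftFunctor D (-i)).map_injective
    rw [Functor.map_zero]
    rw [← cancel_mono ((shiftFunctorCompIsoId D i (-i) (by omega)).hom.app C), zero_comp]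
    exact hzero E hE (-i) _
  exact (Triangle.isZero₃_iff_isIso₁ _ hT).mp hC

/-- An object with no nonzero maps to all shifts of `E ∈ S`. -/
theorem cone_isZero_left (S : Set D)
    (h3 : ∀ K : D, (∀ E ∈ S, ∀ (i : ℤ) (f : K ⟶ (shiftFunctor D i).obj E), f = 0) → IsZero K)
    {Y Z : D} (u : Z ⟶ Y)
    (hu : ∀ E ∈ S, ∀ n : ℤ, Function.Bijective (fun f : Y ⟶ (shiftFunctor D n).obj E => u ≫ f)) :
    IsIso u := by
  obtain ⟨C, p, q, hT⟩ := distinguished_cocone_triangle u
  have hC : IsZero C := h3 C fun E hE n g => by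
    have h12 : u ≫ p = 0 := comp_distTriang_mor_zero₁₂ _ hT
    have hp : p ≫ g = 0 := (hu E hE n).injective (by simp [reassoc_of% h12])
    obtain ⟨h, hh⟩ := Triangle.yoneda_exact₃ _ hT g hp
    obtain ⟨h', hh'⟩ := (shiftFunctor D (1 : ℤ)).map_surjective
      (h ≫ (shiftFunctorAdd' D (n - 1) 1 n (by omega)).hom.app E)
    obtain ⟨k, hk⟩ := (hu E hE (n - 1)).surjective h'
    have h31 : q ≫ u⟦(1 : ℤ)⟧' = 0 := comp_distTriang_mor_zero₃₁ _ hT
    have : g ≫ (shiftFunctorAdd' D (n - 1) 1 n (by omega)).hom.app E = 0 := by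
      rw [hh]
      dsimp
      erw [Category.assoc]
      rw [← hh', ← hk]
      show q ≫ (shiftFunctor D (1 : ℤ)).map (u ≫ k) = 0
      rw [Functor.map_comp, reassoc_of% h31, zero_comp]
    exact (cancel_mono _).mp (this.trans zero_comp.symm)
  exact (Triangle.isZero₃_iff_isIso₁ _ hT).mp hC

end

open CategoryTheory.Limits CategoryTheory.Pretriangulated in
/-- Let F : D ⥤ D' be an exact functor of triangulated categories admitting both a left and a right
adjoint, and let S be a set of objects of D such that an object K of D is zero as soon as Hom(E,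
K⟦i⟧) = 0 for all E ∈ S and i ∈ ℤ, and also as soon as Hom(K, E⟦i⟧) = 0 for all E ∈ S and i ∈ ℤ. If
for all E, E' ∈ S and i ∈ ℤ the map Hom(E, E'⟦i⟧) → Hom(F E, F (E'⟦i⟧)) given by F is bijective,
then F is full and faithful. -/
theorem result
    {D : Type u} [Category.{v} D] [Preadditive D] [HasZeroObject D] [HasShift D ℤ]
    [∀ n : ℤ, (shiftFunctor D n).Additive] [Pretriangulated D] [IsTriangulated D]
    {D' : Type u'} [Category.{v'} D'] [Preadditive D'] [HasZeroObject D'] [HasShift D' ℤ]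
    [∀ n : ℤ, (shiftFunctor D' n).Additive] [Pretriangulated D'] [IsTriangulated D']
    (F : D ⥤ D') [F.CommShift ℤ] [F.IsTriangulated] [F.IsLeftAdjoint] [F.IsRightAdjoint]
    (S : Set D)
    (h2 : ∀ K : D, (∀ E ∈ S, ∀ (i : ℤ) (f : E ⟶ (shiftFunctor D i).obj K), f = 0) → IsZero K)
    (h3 : ∀ K : D, (∀ E ∈ S, ∀ (i : ℤ) (f : K ⟶ (shiftFunctor D i).obj E), f = 0) → IsZero K)
    (h4 : ∀ E ∈ S, ∀ E' ∈ S, ∀ i : ℤ,
      Function.Bijective (fun f : E ⟶ (shiftFunctor D i).obj E' => F.map f)) :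
    F.Full ∧ F.Faithful := by
  have bij_iso : ∀ {X X' Y Y' : D} (a : X ≅ X') (b : Y ≅ Y'),
      Function.Bijective (F.map : (X ⟶ Y) → _) → Function.Bijective (F.map : (X' ⟶ Y') → _) := by
    intro X X' Y Y' a b h
    have : (F.map : (X' ⟶ Y') → _) =
        ((F.mapIso a).homCongr (F.mapIso b)) ∘ F.map ∘ (a.homCongr b).symm := by
      funext f; simp
    rw [this]
    exact (Equiv.bijective _).comp (h.comp (Equiv.bijective _))
  have bij_shift : ∀ {X Y : D} (n : ℤ), Function.Bijective (F.map : (X ⟶ Y) → _) →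
      Function.Bijective (F.map : (X⟦n⟧ ⟶ Y⟦n⟧) → _) := by
    intro X Y n h
    have hs : Function.Bijective ((shiftFunctor D n).map : (X ⟶ Y) → _) :=
      ⟨(shiftFunctor D n).map_injective, (shiftFunctor D n).map_surjective⟩
    have hs' : Function.Bijective ((shiftFunctor D' n).map : (F.obj X ⟶ F.obj Y) → _) :=
      ⟨(shiftFunctor D' n).map_injective, (shiftFunctor D' n).map_surjective⟩
    rw [← Function.Bijective.of_comp_iff _ hs]
    have : (F.map : (X⟦n⟧ ⟶ Y⟦n⟧) → _) ∘ (shiftFunctor D n).map =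
        (((F.commShiftIso n).app X).symm.homCongr ((F.commShiftIso n).app Y).symm) ∘
          (shiftFunctor D' n).map ∘ F.map := by
      funext f; simp
    rw [this]
    exact (Equiv.bijective _).comp (hs'.comp h)
  obtain ⟨R, ⟨adj⟩⟩ := Functor.IsLeftAdjoint.exists_rightAdjoint (left := F)
  obtain ⟨L, ⟨adj'⟩⟩ := Functor.IsRightAdjoint.exists_leftAdjoint (right := F)
  have hη : ∀ E' ∈ S, ∀ i : ℤ, IsIso (adj.unit.app (E'⟦i⟧)) := by
    intro E' hE' i
    refine cone_isZero_right S h2 _ fun E hE n => ?_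
    have hb : Function.Bijective (F.map : (E⟦n⟧ ⟶ E'⟦i⟧) → _) :=
      bij_iso (Iso.refl _) ((shiftFunctorAdd' D (i - n) n i (by omega)).app E').symm
        (bij_shift n (h4 E hE E' hE' (i - n)))
    exact bij_congr ((adj.homEquiv _ _).bijective.comp hb)
      fun f => by simp [Adjunction.homEquiv_unit]
  have hbij : ∀ (K : D), ∀ E' ∈ S, ∀ i : ℤ, Function.Bijective (F.map : (K ⟶ E'⟦i⟧) → _) := by
    intro K E' hE' i
    have := hη E' hE' i
    have hc : Function.Bijective (fun f : K ⟶ E'⟦i⟧ => f ≫ adj.unit.app (E'⟦i⟧)) :=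
      ((asIso (adj.unit.app (E'⟦i⟧))).homToEquiv).bijective
    exact bij_congr ((adj.homEquiv _ _).symm.bijective.comp hc)
      fun f => by simp [Adjunction.homEquiv_counit]
  have hε : ∀ K : D, IsIso (adj'.counit.app K) := by
    intro K
    refine cone_isZero_left S h3 _ fun E' hE' i => ?_
    exact bij_congr ((adj'.homEquiv _ _).symm.bijective.comp (hbij K E' hE' i))
      fun f => by simp [Adjunction.homEquiv_counit]
  have : IsIso adj'.counit := NatIso.isIso_of_isIso_app _
  exact ⟨adj'.fullyFaithfulROfIsIsoCounit.full, adj'.fullyFaithfulROfIsIsoCounit.faithful⟩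

end Groth.Agent.S6703
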