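import Groth.Statements.S6708
-- import your own Groth.Agent.* helpers here

set_option autoImplicit false
universe v u
open CategoryTheory
open DEquiv

namespace Groth.Agent.S6708

open CategoryTheory.Limits CategoryTheory.Pretriangulated in
/-- Let D be a pretriangulated category, D' ⊆ D a full triangulated subcategory (given as a property of
objects that is triangulated in Mathlib's sense) and X an object of D. Then the category of arrows E
⟶ X with E in D' is filtered. -/
theorem result
    {D : Type u} [Category.{v} D] [Preadditive D] [HasZeroObject D] [HasShift D ℤ]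
    [∀ n : ℤ, (shiftFunctor D n).Additive] [Pretriangulated D]
    (P : ObjectProperty D) [P.IsTriangulated] (X : D) :
    IsFiltered (CostructuredArrow P.ι X) := by
  have : IsFilteredOrEmpty (CostructuredArrow P.ι X) := by
    refine ⟨fun A B => ?_, fun A B f g => ?_⟩
    · obtain ⟨Z, hZ, ⟨e'⟩⟩ := P.ext_of_isTriangulatedClosed₂' _
        (binaryBiproductTriangle_distinguished A.left.obj B.left.obj) A.left.property B.left.property
      let e : A.left.obj ⊞ B.left.obj ≅ Z := e'
      exact ⟨CostructuredArrow.mk (Y := (⟨Z, hZ⟩ : P.FullSubcategory))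
          (e.inv ≫ biprod.desc A.hom B.hom),
        CostructuredArrow.homMk (ObjectProperty.homMk (biprod.inl ≫ e.hom)) (by simp),
        CostructuredArrow.homMk (ObjectProperty.homMk (biprod.inr ≫ e.hom)) (by simp), trivial⟩
    · obtain ⟨C, q, r, hT⟩ := distinguished_cocone_triangle (f.left.hom - g.left.hom)
      obtain ⟨Z, hZ, ⟨e'⟩⟩ := P.ext_of_isTriangulatedClosed₃' _ hT A.left.property B.left.property
      let e : C ≅ Z := e'
      obtain ⟨w, hw⟩ := Triangle.yoneda_exact₂ _ hT B.hom
        (show (f.left.hom - g.left.hom) ≫ B.hom = 0 by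
          rw [Preadditive.sub_comp, sub_eq_zero]
          exact (CostructuredArrow.w f).trans (CostructuredArrow.w g).symm)
      refine ⟨CostructuredArrow.mk (Y := (⟨Z, hZ⟩ : P.FullSubcategory)) (e.inv ≫ w),
        CostructuredArrow.homMk (ObjectProperty.homMk (q ≫ e.hom)) (by simp only [ObjectProperty.ι_obj, CostructuredArrow.mk_hom_eq_self, ObjectProperty.ι_map, ObjectProperty.homMk_hom, Category.assoc, Iso.hom_inv_id_assoc]; exact hw.symm), ?_⟩
      ext
      have h0 : (f.left.hom - g.left.hom) ≫ q = 0 := comp_distTriang_mor_zero₁₂ _ hT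
      rw [Preadditive.sub_comp, sub_eq_zero] at h0
      simp [reassoc_of% h0]
  obtain ⟨Z, hZ, hP⟩ := ObjectProperty.ContainsZero.exists_zero (P := P)
  have : Nonempty (CostructuredArrow P.ι X) :=
    ⟨CostructuredArrow.mk (Y := (⟨Z, hP⟩ : P.FullSubcategory)) (hZ.to_ X)⟩
  exact ⟨⟩


end Groth.Agent.S6708
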