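import Groth.Statements.S6709
import Groth.Agent.CompactTri.Basic
import Groth.Agent.DHA.Brown.Representable
import Groth.Agent.S6708
import Mathlib.Algebra.Category.ModuleCat.Colimits
import Mathlib.Algebra.Category.ModuleCat.FilteredColimits
import Mathlib.CategoryTheory.Functor.KanExtension.Pointwise
import Mathlib.CategoryTheory.Limits.ConcreteCategory.Basic
import Mathlib.CategoryTheory.Limits.Types.Filtered
import Mathlib.LinearAlgebra.Dual.Lemmas
import Mathlib.Algebra.Module.Shrink
import Mathlib.Algebra.Category.Grp.FilteredColimits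

set_option autoImplicit false
universe w v u
open CategoryTheory
open DEquiv

namespace Groth.Agent.S6709

section
open CategoryTheory.Limits CategoryTheory.Pretriangulated Opposite
open CategoryTheory.Pretriangulated.Opposite

variable {k : Type w} [Field k]
    {D : Type u} [Category.{v} D] [Preadditive D] [Linear k D] [HasZeroObject D] [HasShift D ℤ]
    [∀ n : ℤ, (shiftFunctor D n).Additive] [Pretriangulated D] [IsTriangulated D]
    [HasCoproducts.{v} D]

/-- Compact objects. -/
abbrev cpt (D : Type u) [Category.{v} D] [Preadditive D] [HasCoproducts.{v} D] : ObjectProperty D :=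
  fun K : D => CohDer.IsCompactObject K

variable (H : (cpt D).FullSubcategoryᵒᵖ ⥤ ModuleCat.{v} k) [H.Additive]

/-- Pointwise linear dual. -/
noncomputable def Hd : (cpt D).FullSubcategory ⥤ ModuleCat.{max v w} k where
  obj E := ModuleCat.of k (Module.Dual k (H.obj (op E)))
  map f := ModuleCat.ofHom (LinearMap.dualMap (H.map f.op).hom)
  map_id E := by
    rw [op_id, H.map_id]
    rfl
  map_comp f g := by
    rw [op_comp, H.map_comp]
    rfl

instance : (Hd H).Additive where
  map_add {X Y f g} := by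
    refine ModuleCat.hom_ext (LinearMap.ext fun (φ : Module.Dual k (H.obj (op X))) => ?_)
    refine LinearMap.ext fun x => ?_
    change φ ((H.map (f + g).op).hom x) = φ ((H.map f.op).hom x) + φ ((H.map g.op).hom x)
    rw [op_add, H.map_add, ModuleCat.hom_add, LinearMap.add_apply, map_add]

variable [ObjectProperty.EssentiallySmall.{v} (cpt D)]

instance isFiltered_cpt (K : D) : IsFiltered (CostructuredArrow (cpt D).ι K) :=
  haveI := Groth.Agent.DHA.Compact.isTriangulated (D := D)
  Groth.Agent.S6708.result (cpt D) K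

instance hasColimit_cpt (K : D) :
    HasColimitsOfShape (CostructuredArrow (cpt D).ι K) (ModuleCat.{max v w} k) :=
  haveI : HasColimitsOfSize.{v, v} (ModuleCat.{max v w} k) :=
    hasColimitsOfSizeShrink.{v, v, max v w, max v w} _
  hasColimitsOfShape_of_equivalence (equivSmallModel.{v} _).symm

instance : (cpt D).ι.HasPointwiseLeftKanExtension (Hd H) := fun K =>
  (inferInstance : HasColimit (CostructuredArrow.proj (cpt D).ι K ⋙ Hd H))

/-- The extension of the dual. -/
noncomputable abbrev G' : D ⥤ ModuleCat.{max v w} k :=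
  Functor.pointwiseLeftKanExtension (cpt D).ι (Hd H)

/-- Structure maps. -/
noncomputable def inj {E : (cpt D).FullSubcategory} {K : D} (g : E.obj ⟶ K) :
    (Hd H).obj E ⟶ (G' H).obj K :=
  colimit.ι (CostructuredArrow.proj (cpt D).ι K ⋙ Hd H) (CostructuredArrow.mk g)

lemma inj_map {E : (cpt D).FullSubcategory} {K K' : D} (g : E.obj ⟶ K) (f : K ⟶ K') :
    inj H g ≫ (G' H).map f = inj H (g ≫ f) := by
  refine (colimit.ι_desc _ _).trans ?_
  rfl

lemma inj_comp {E E' : (cpt D).FullSubcategory} {K : D} (a : E ⟶ E') (g : E'.obj ⟶ K) :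
    (Hd H).map a ≫ inj H g = inj H (a.hom ≫ g) :=
  colimit.w (CostructuredArrow.proj (cpt D).ι K ⋙ Hd H)
    (show CostructuredArrow.mk (S := (cpt D).ι) (Y := E) (a.hom ≫ g) ⟶
        CostructuredArrow.mk (S := (cpt D).ι) (Y := E') g from CostructuredArrow.homMk a rfl)

lemma inj_hom_ext {K : D} {M : ModuleCat.{max v w} k} {s t : (G' H).obj K ⟶ M}
    (h : ∀ (E : (cpt D).FullSubcategory) (g : E.obj ⟶ K), inj H g ≫ s = inj H g ≫ t) : s = t :=
  colimit.hom_ext fun j => h j.left j.hom

lemma inj_add {E : (cpt D).FullSubcategory} {K : D} (g g' : E.obj ⟶ K) :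
    inj H (g + g') = inj H g + inj H g' := by
  let x : CostructuredArrow (cpt D).ι K := CostructuredArrow.mk (Y := E) g
  let y : CostructuredArrow (cpt D).ι K := CostructuredArrow.mk (Y := E) g'
  let a : E ⟶ (IsFiltered.max x y).left := (IsFiltered.leftToMax x y).left
  let b : E ⟶ (IsFiltered.max x y).left := (IsFiltered.rightToMax x y).left
  have ha : a.hom ≫ (IsFiltered.max x y).hom = g := CostructuredArrow.w (IsFiltered.leftToMax x y)
  have hb : b.hom ≫ (IsFiltered.max x y).hom = g' := CostructuredArrow.w (IsFiltered.rightToMax x y)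
  have hab : (a + b).hom ≫ (IsFiltered.max x y).hom = g + g' :=
    (Preadditive.add_comp _ _ _ a.hom b.hom (IsFiltered.max x y).hom).trans
      (congrArg₂ (· + ·) ha hb)
  rw [← hab, ← inj_comp, Functor.map_add, Preadditive.add_comp, inj_comp, inj_comp, ha, hb]

/-- `inj` as a group morphism. -/
noncomputable def injHom (E : (cpt D).FullSubcategory) (K : D) :
    (E.obj ⟶ K) →+ ((Hd H).obj E ⟶ (G' H).obj K) :=
  AddMonoidHom.mk' (fun g => inj H g) (inj_add H)

lemma inj_smul (hlin : ∀ (X Y : (cpt D).FullSubcategory) (r : k) (f : X ⟶ Y),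
      H.map (r • f).op = r • H.map f.op)
    {E : (cpt D).FullSubcategory} {K : D} (r : k) (g : E.obj ⟶ K) :
    inj H (r • g) = r • inj H g := by
  have h1 : (r • 𝟙 E : E ⟶ E).hom ≫ g = r • g := by
    show (r • 𝟙 E.obj) ≫ g = r • g
    rw [Linear.smul_comp, Category.id_comp]
  have h2 : (Hd H).map (r • 𝟙 E : E ⟶ E) = r • 𝟙 ((Hd H).obj E) := by
    refine ModuleCat.hom_ext (LinearMap.ext fun (φ : Module.Dual k (H.obj (op E))) => ?_)
    refine LinearMap.ext fun x => ?_
    change φ ((H.map (r • 𝟙 E : E ⟶ E).op).hom x) = r • φ x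
    rw [hlin, op_id, H.map_id]
    exact φ.map_smul r x
  rw [← h1, ← inj_comp, h2, Linear.smul_comp, Category.id_comp]

lemma G'_map_add {K K' : D} (f g : K ⟶ K') : (G' H).map (f + g) = (G' H).map f + (G' H).map g :=
  inj_hom_ext H fun E h => by
    rw [Preadditive.comp_add, inj_map, inj_map, inj_map, Preadditive.comp_add, inj_add]

instance : (G' H).Additive := ⟨fun {_ _ _ _} => G'_map_add H _ _⟩

lemma preservesForget {K : D} :
    PreservesColimitsOfShape (CostructuredArrow (cpt D).ι K) (forget (ModuleCat.{max v w} k)) := by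
  haveI : IsFiltered (SmallModel.{v} (CostructuredArrow (cpt D).ι K)) :=
    IsFiltered.of_equivalence (equivSmallModel.{v} _)
  haveI : HasColimitsOfSize.{v, v} AddCommGrpCat.{max v w} :=
    hasColimitsOfSizeShrink.{v, v, max v w, max v w} _
  haveI : PreservesFilteredColimitsOfSize.{v, v} (forget AddCommGrpCat.{max v w}) :=
    preservesFilteredColimitsOfSize_shrink.{v, max v w, v, max v w} _
  haveI : PreservesColimitsOfShape (SmallModel.{v} (CostructuredArrow (cpt D).ι K))
      (forget₂ (ModuleCat.{max v w} k) AddCommGrpCat.{max v w} ⋙ forget AddCommGrpCat.{max v w}) :=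
    inferInstance
  haveI : PreservesColimitsOfShape (SmallModel.{v} (CostructuredArrow (cpt D).ι K))
      (forget (ModuleCat.{max v w} k)) := this
  exact preservesColimitsOfShape_of_equiv (equivSmallModel.{v} _).symm _

lemma exists_rep {K : D} (x : (G' H).obj K) :
    ∃ (E : (cpt D).FullSubcategory) (g : E.obj ⟶ K) (φ : (Hd H).obj E),
      (inj H g).hom φ = x := by
  haveI : IsFiltered (SmallModel.{v} (CostructuredArrow (cpt D).ι K)) :=
    IsFiltered.of_equivalence (equivSmallModel.{v} _)
  haveI := preservesForget (k := k) (K := K)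
  obtain ⟨j, φ, hφ⟩ := Concrete.colimit_exists_rep (CostructuredArrow.proj (cpt D).ι K ⋙ Hd H) x
  exact ⟨j.left, j.hom, φ, hφ⟩

lemma exists_of_eq_zero {K : D} {E : (cpt D).FullSubcategory} (g : E.obj ⟶ K)
    (φ : (Hd H).obj E) (h : (inj H g).hom φ = 0) :
    ∃ (E' : (cpt D).FullSubcategory) (a : E ⟶ E') (g' : E'.obj ⟶ K),
      a.hom ≫ g' = g ∧ ((Hd H).map a).hom φ = 0 := by
  haveI : IsFiltered (SmallModel.{v} (CostructuredArrow (cpt D).ι K)) :=
    IsFiltered.of_equivalence (equivSmallModel.{v} _)
  haveI := preservesForget (k := k) (K := K)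
  have h' : (inj H g).hom φ = (inj H g).hom 0 := by rw [h, map_zero]
  obtain ⟨j, a, b, hab⟩ := Concrete.colimit_exists_of_rep_eq
    (CostructuredArrow.proj (cpt D).ι K ⋙ Hd H) (i := CostructuredArrow.mk g)
    (j := CostructuredArrow.mk g) φ 0 h'
  refine ⟨j.left, a.left, j.hom, CostructuredArrow.w a, hab.trans ?_⟩
  exact map_zero ((Hd H).map b.left).hom

lemma G'_exact
    (hcoh : ∀ T ∈ distTriang D, ∀ (h₁ : CohDer.IsCompactObject T.obj₁)
      (h₂ : CohDer.IsCompactObject T.obj₂) (h₃ : CohDer.IsCompactObject T.obj₃)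
      (y : H.obj (op ⟨T.obj₂, h₂⟩)),
      H.map (ObjectProperty.homMk T.mor₁ : (⟨T.obj₁, h₁⟩ : (cpt D).FullSubcategory) ⟶
          ⟨T.obj₂, h₂⟩).op y = 0 →
        ∃ z : H.obj (op ⟨T.obj₃, h₃⟩),
          H.map (ObjectProperty.homMk T.mor₂ : (⟨T.obj₂, h₂⟩ : (cpt D).FullSubcategory) ⟶
            ⟨T.obj₃, h₃⟩).op z = y)
    (T : Triangle D) (hT : T ∈ distTriang D) (x : (G' H).obj T.obj₂)
    (hx : ((G' H).map T.mor₂).hom x = 0) : ∃ y, ((G' H).map T.mor₁).hom y = x := by
  obtain ⟨E, g, φ, rfl⟩ := exists_rep H x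
  have h0 : (inj H (g ≫ T.mor₂)).hom φ = 0 := by
    rw [← inj_map]
    exact hx
  obtain ⟨E'', a, g', hg', hφ⟩ := exists_of_eq_zero H (g ≫ T.mor₂) φ h0
  obtain ⟨X, f, δ, hX⟩ := distinguished_cocone_triangle₁ a.hom
  have hXc : CohDer.IsCompactObject X := by
    have h₁ : CohDer.IsCompactObject ((shiftFunctor D (-1 : ℤ)).obj E''.obj) :=
      Groth.Agent.DHA.Compact.shift E''.property (-1)
    exact Groth.Agent.DHA.Compact.ext₂ _ (inv_rot_of_distTriang _ hX) h₁ E.property
  obtain ⟨g₁, hg₁⟩ : ∃ g₁ : X ⟶ T.obj₁, f ≫ g = g₁ ≫ T.mor₁ :=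
    (complete_distinguished_triangle_morphism₁ _ T hX hT g g' hg').imp fun _ h => h.1
  let X' : (cpt D).FullSubcategory := ⟨X, hXc⟩
  let f' : X' ⟶ E := ObjectProperty.homMk f
  have hker : LinearMap.ker (H.map f'.op).hom ≤ LinearMap.ker (show Module.Dual k (H.obj (op E)) from φ) := by
    intro y hy
    obtain ⟨z, hz⟩ := hcoh _ hX hXc E.property E''.property y hy
    rw [LinearMap.mem_ker, ← hz]
    exact LinearMap.congr_fun hφ z
  have hmem : (show Module.Dual k (H.obj (op E)) from φ) ∈
      LinearMap.range (H.map f'.op).hom.dualMap := by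
    rw [LinearMap.range_dualMap_eq_dualAnnihilator_ker, Submodule.mem_dualAnnihilator]
    exact fun y hy => hker hy
  obtain ⟨ψ, hψ⟩ := hmem
  refine ⟨(inj H (E := X') g₁).hom ψ, ?_⟩
  have h1 : inj H (E := X') g₁ ≫ (G' H).map T.mor₁ = (Hd H).map f' ≫ inj H g := by
    rw [inj_map, inj_comp, ← hg₁]
    rfl
  refine (LinearMap.congr_fun (congrArg ModuleCat.Hom.hom h1) ψ).trans ?_
  exact congrArg (inj H g).hom hψ

omit [H.Additive] [ObjectProperty.EssentiallySmall.{v} (cpt D)] in
lemma homSum_pre {A B : D} (a : A ⟶ B) {J : Type v} (X : J → D) (x : DirectSum J (fun j => B ⟶ X j)) :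
    CohDer.homSumToHomCoprod A X (Groth.Agent.DHA.Compact.pre a X x) =
      a ≫ CohDer.homSumToHomCoprod B X x :=
  Groth.Agent.DHA.Compact.hom_pre a X x

lemma G'_coproduct {J : Type v} (X : J → D) (M : ModuleCat.{max v w} k)
    (c : ∀ j, (G' H).obj (X j) ⟶ M) :
    ∃! s : (G' H).obj (∐ X) ⟶ M, ∀ j, (G' H).map (Sigma.ι X j) ≫ s = c j := by
  classical
  let comp : ∀ E : (cpt D).FullSubcategory,
      DirectSum J (fun j => E.obj ⟶ X j) →+ ((Hd H).obj E ⟶ M) := fun E =>
    DirectSum.toAddMonoid fun j => (Preadditive.rightComp _ (c j)).comp (injHom H E (X j))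
  have comp_of : ∀ (E : (cpt D).FullSubcategory) (j : J) (f : E.obj ⟶ X j),
      comp E (DirectSum.of _ j f) = inj H f ≫ c j := fun E j f =>
    DirectSum.toAddMonoid_of (fun j => (Preadditive.rightComp _ (c j)).comp (injHom H E (X j))) j f
  let dec : ∀ (E : (cpt D).FullSubcategory) (_ : E.obj ⟶ ∐ X),
      DirectSum J (fun j => E.obj ⟶ X j) :=
    fun E g => ((E.property J X).2 g).choose
  have dec_spec : ∀ (E : (cpt D).FullSubcategory) (g : E.obj ⟶ ∐ X),
      CohDer.homSumToHomCoprod E.obj X (dec E g) = g :=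
    fun E g => ((E.property J X).2 g).choose_spec
  let cc : Cocone (CostructuredArrow.proj (cpt D).ι (∐ X) ⋙ Hd H) :=
    { pt := M
      ι :=
        { app := fun g => comp g.left (dec g.left g.hom)
          naturality := fun g g' a => by
            refine Eq.trans ?_ (Category.comp_id _).symm
            have h1 : dec g.left g.hom = Groth.Agent.DHA.Compact.pre a.left.hom X (dec g'.left g'.hom) := by
              refine (g.left.property J X).1 ?_
              rw [dec_spec, homSum_pre, dec_spec]
              exact (CostructuredArrow.w a).symm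
            rw [h1]
            generalize dec g'.left g'.hom = x
            change (Hd H).map a.left ≫ comp g'.left x = comp g.left _
            induction x using DirectSum.induction_on with
            | zero => rw [map_zero, map_zero, map_zero, comp_zero]
            | of j f =>
              rw [comp_of, reassoc_of% (inj_comp H a.left f)]
              rw [show Groth.Agent.DHA.Compact.pre a.left.hom X (DirectSum.of _ j f) =
                DirectSum.of (fun j => g.left.obj ⟶ X j) j (a.left.hom ≫ f) from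
                DirectSum.map_of (fun j => Preadditive.leftComp (X j) a.left.hom) j f]
              exact (comp_of _ _ _).symm
            | add x y hx hy => rw [map_add, Preadditive.comp_add, hx, hy, map_add, map_add] } }
  refine ⟨colimit.desc _ cc, fun j => inj_hom_ext H fun E f => ?_, fun s hs => inj_hom_ext H fun E g => ?_⟩
  · refine (Category.assoc _ _ _).symm.trans ((congrArg (· ≫ _) (inj_map H f (Sigma.ι X j))).trans ?_)
    refine (colimit.ι_desc cc (CostructuredArrow.mk (f ≫ Sigma.ι X j))).trans ?_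
    change comp E (dec E (f ≫ Sigma.ι X j)) = _
    rw [show dec E (f ≫ Sigma.ι X j) = DirectSum.of _ j f from (E.property J X).1 (by
      rw [dec_spec, Groth.Agent.DHA.Compact.hom_of]), comp_of]
  · refine Eq.trans ?_ (colimit.ι_desc cc (CostructuredArrow.mk g)).symm
    change inj H g ≫ s = comp E (dec E g)
    conv_lhs => rw [← dec_spec E g]
    generalize dec E g = x
    induction x using DirectSum.induction_on with
    | zero =>
      rw [map_zero, map_zero, show inj H (0 : E.obj ⟶ ∐ X) = 0 from map_zero (injHom H E (∐ X)),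
        zero_comp]
    | of j f =>
      rw [Groth.Agent.DHA.Compact.hom_of, comp_of, ← inj_map, Category.assoc, hs]
    | add x y hx hy =>
      rw [map_add, map_add, inj_add, Preadditive.add_comp, hx, hy]

variable [∀ E, Module.Finite k (H.obj E)]

lemma small_dual (K : D) : Small.{v} (Module.Dual k ((G' H).obj K)) := by
  let e := equivSmallModel.{v} (CostructuredArrow (cpt D).ι K)
  refine small_of_injective (β := ∀ j : SmallModel.{v} (CostructuredArrow (cpt D).ι K),
    H.obj (op (e.inverse.obj j).left))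
    (f := fun φ j => (Module.evalEquiv k (H.obj (op (e.inverse.obj j).left))).symm
      (φ ∘ₗ (inj H (e.inverse.obj j).hom).hom)) fun φ ψ h => ?_
  have h2 : ∀ g : CostructuredArrow (cpt D).ι K,
      φ ∘ₗ (inj H g.hom).hom = ψ ∘ₗ (inj H g.hom).hom := fun g => by
    have h3 := (Module.evalEquiv k _).symm.injective (congrFun h (e.functor.obj g))
    let a := e.unitIso.hom.app g
    have h4 : (Hd H).map a.left ≫ inj H (e.inverse.obj (e.functor.obj g)).hom = inj H g.hom := by
      rw [inj_comp]
      exact congrArg _ (CostructuredArrow.w a)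
    rw [← h4]
    exact congrArg (· ∘ₗ ((Hd H).map a.left).hom) h3
  refine LinearMap.ext fun x => ?_
  obtain ⟨E, g, y, rfl⟩ := exists_rep H x
  exact LinearMap.congr_fun (h2 (CostructuredArrow.mk g)) y

instance (K : D) : Small.{v} (Module.Dual k ((G' H).obj K)) := small_dual H K

/-- The cohomological extension. -/
noncomputable def G : Dᵒᵖ ⥤ AddCommGrpCat.{v} where
  obj K := AddCommGrpCat.of (Shrink.{v} (Module.Dual k ((G' H).obj K.unop)))
  map {K K'} f := AddCommGrpCat.ofHom
    (((Shrink.addEquiv (α := Module.Dual k ((G' H).obj K'.unop))).symm.toAddMonoidHom.comp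
      (((G' H).map f.unop).hom.dualMap.toAddMonoidHom)).comp
        (Shrink.addEquiv (α := Module.Dual k ((G' H).obj K.unop))).toAddMonoidHom)
  map_id K := by
    rw [unop_id, CategoryTheory.Functor.map_id, ModuleCat.hom_id, LinearMap.dualMap_id]
    refine AddCommGrpCat.hom_ext (AddMonoidHom.ext fun x => ?_)
    exact (Shrink.addEquiv (α := Module.Dual k ((G' H).obj K.unop))).symm_apply_apply x
  map_comp {K K' K''} f g := by
    rw [unop_comp, (G' H).map_comp, ModuleCat.hom_comp, ← LinearMap.dualMap_comp_dualMap]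
    refine AddCommGrpCat.hom_ext (AddMonoidHom.ext fun x => ?_)
    refine congrArg (Shrink.addEquiv (α := Module.Dual k ((G' H).obj K''.unop))).symm ?_
    exact congrArg ((G' H).map g.unop).hom.dualMap
      ((Shrink.addEquiv (α := Module.Dual k ((G' H).obj K'.unop))).apply_symm_apply _).symm

/-- Underlying functional. -/
noncomputable def down {K : Dᵒᵖ} (x : (G H).obj K) : Module.Dual k ((G' H).obj K.unop) :=
  Shrink.addEquiv (α := Module.Dual k ((G' H).obj K.unop)) x

lemma down_map {K K' : Dᵒᵖ} (f : K ⟶ K') (x : (G H).obj K) :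
    down H ((G H).map f x) = down H x ∘ₗ ((G' H).map f.unop).hom := by
  exact (Shrink.addEquiv (α := Module.Dual k ((G' H).obj K'.unop))).apply_symm_apply _

lemma down_inj {K : Dᵒᵖ} : Function.Injective (down H (K := K)) :=
  (Shrink.addEquiv (α := Module.Dual k ((G' H).obj K.unop))).injective

lemma down_surj {K : Dᵒᵖ} : Function.Surjective (down H (K := K)) :=
  (Shrink.addEquiv (α := Module.Dual k ((G' H).obj K.unop))).surjective

instance : (G H).Additive where
  map_add {K K' f g} := by
    ext x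
    apply down_inj H
    change down H ((G H).map (f + g) x) = down H ((G H).map f x + (G H).map g x)
    rw [down_map, unop_add, Functor.map_add]
    refine Eq.trans ?_ (map_add (Shrink.addEquiv (α := Module.Dual k ((G' H).obj K'.unop)))
      ((G H).map f x) ((G H).map g x)).symm
    change _ = down H ((G H).map f x) + down H ((G H).map g x)
    rw [down_map, down_map, ModuleCat.hom_add, LinearMap.comp_add]

lemma G_isHomological
    (hcoh : ∀ T ∈ distTriang D, ∀ (h₁ : CohDer.IsCompactObject T.obj₁)
      (h₂ : CohDer.IsCompactObject T.obj₂) (h₃ : CohDer.IsCompactObject T.obj₃)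
      (y : H.obj (op ⟨T.obj₂, h₂⟩)),
      H.map (ObjectProperty.homMk T.mor₁ : (⟨T.obj₁, h₁⟩ : (cpt D).FullSubcategory) ⟶
          ⟨T.obj₂, h₂⟩).op y = 0 →
        ∃ z : H.obj (op ⟨T.obj₃, h₃⟩),
          H.map (ObjectProperty.homMk T.mor₂ : (⟨T.obj₂, h₂⟩ : (cpt D).FullSubcategory) ⟶
            ⟨T.obj₃, h₃⟩).op z = y) : (G H).IsHomological := by
  constructor
  intro T hT
  rw [ShortComplex.ab_exact_iff]
  intro (x₂ : (G H).obj T.obj₂) (hx : (G H).map T.mor₂ x₂ = 0)
  have hx' : down H x₂ ∘ₗ ((G' H).map T.mor₂.unop).hom = 0 := by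
    rw [← down_map, hx]
    exact map_zero (Shrink.addEquiv (α := Module.Dual k ((G' H).obj T.obj₃.unop)))
  have hmem : down H x₂ ∈ LinearMap.range ((G' H).map T.mor₁.unop).hom.dualMap := by
    rw [LinearMap.range_dualMap_eq_dualAnnihilator_ker, Submodule.mem_dualAnnihilator]
    intro y hy
    obtain ⟨z, rfl⟩ := G'_exact H hcoh _ (unop_distinguished T hT) y hy
    exact LinearMap.congr_fun hx' z
  obtain ⟨ψ, hψ⟩ := hmem
  obtain ⟨x₁, rfl⟩ := down_surj H ψ
  refine ⟨x₁, ?_⟩
  apply down_inj H
  exact (down_map H T.mor₁ x₁).trans hψ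

lemma G_preservesProducts (J : Type v) : PreservesLimitsOfShape (Discrete J) (G H) := by
  refine ⟨fun {K} => ?_⟩
  suffices PreservesLimit (Discrete.functor (K.obj ∘ Discrete.mk)) (G H) from
    preservesLimit_of_iso_diagram (G H) Discrete.natIsoFunctor.symm
  let X : J → D := fun j => (K.obj ⟨j⟩).unop
  let fan : Fan (fun j => op (X j)) := Fan.mk (op (∐ X)) fun j => (Sigma.ι X j).op
  have hfan : IsLimit fan :=
    (Cofan.IsColimit.op (coproductIsCoproduct X))
  refine preservesLimit_of_preserves_limit_cone (F := G H) hfan ?_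
  refine IsLimit.ofExistsUnique fun s => ?_
  have key : ∀ t : s.pt, ∃! φ : Module.Dual k ((G' H).obj (∐ X)),
      ∀ j, φ ∘ₗ ((G' H).map (Sigma.ι X j)).hom = down H (s.π.app ⟨j⟩ t) := fun t => by
    let T : ModuleCat.{max v w} k := ModuleCat.of k (ULift.{v} k)
    let up : k →ₗ[k] ULift.{v} k := ULift.moduleEquiv.symm.toLinearMap
    let dn : ULift.{v} k →ₗ[k] k := ULift.moduleEquiv.toLinearMap
    obtain ⟨σ, hσ, huniq⟩ := G'_coproduct H X T
      (fun j => ModuleCat.ofHom (up ∘ₗ down H (K := op (X j)) (s.π.app ⟨j⟩ t)))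
    refine ⟨dn ∘ₗ σ.hom, fun j => ?_, fun φ hφ => ?_⟩
    · refine LinearMap.ext fun y => ?_
      exact congrArg dn (LinearMap.congr_fun (congrArg ModuleCat.Hom.hom (hσ j)) y)
    · have := huniq (ModuleCat.ofHom (up ∘ₗ φ)) (fun j => by
        refine ModuleCat.hom_ext ?_
        exact congrArg (up ∘ₗ ·) (hφ j))
      rw [← this]
      rfl
  choose φ hφ huniq using key
  choose x hx using fun t => down_surj H (K := op (∐ X)) (φ t)
  refine ⟨AddCommGrpCat.ofHom (AddMonoidHom.mk' x fun t t' => down_inj H ?_), fun j => ?_, fun m hm => ?_⟩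
  · refine Eq.trans ?_ (map_add (Shrink.addEquiv (α := Module.Dual k ((G' H).obj (∐ X)))) _ _).symm
    change down H (x (t + t')) = down H (x t) + down H (x t')
    rw [hx, hx, hx]
    refine (huniq (t + t') _ fun j => ?_).symm
    rw [LinearMap.add_comp, hφ, hφ, map_add]
    exact (map_add (Shrink.addEquiv (α := Module.Dual k ((G' H).obj (X j)))) _ _).symm
  · ext t
    apply down_inj H
    refine (down_map H _ (x t)).trans ?_
    rw [hx]
    exact hφ t j.as
  · ext t
    apply down_inj H
    refine Eq.trans ?_ (hx t).symm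
    refine huniq t _ fun j => ?_
    refine Eq.trans (down_map H (Sigma.ι X j).op (m t)).symm ?_
    exact congrArg (fun f => down H (f t)) (hm ⟨j⟩)

end

section
open CategoryTheory.Limits CategoryTheory.Pretriangulated Opposite

lemma main
    {k : Type w} [Field k]
    {D : Type u} [Category.{v} D] [Preadditive D] [Linear k D] [HasZeroObject D] [HasShift D ℤ]
    [∀ n : ℤ, (shiftFunctor D n).Additive]
    [Pretriangulated D] [IsTriangulated D] [HasCoproducts.{v} D]
    (hD : CohDer.IsCompactlyGenerated D)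
    (H : (cpt D).FullSubcategoryᵒᵖ ⥤ ModuleCat.{v} k) [H.Additive]
    (hlin : ∀ (X Y : (cpt D).FullSubcategory) (r : k) (f : X ⟶ Y), H.map (r • f).op = r • H.map f.op)
    (hcoh : ∀ T ∈ distTriang D, ∀ (h₁ : CohDer.IsCompactObject T.obj₁)
      (h₂ : CohDer.IsCompactObject T.obj₂) (h₃ : CohDer.IsCompactObject T.obj₃)
      (y : H.obj (op ⟨T.obj₂, h₂⟩)),
      H.map (ObjectProperty.homMk T.mor₁ : (⟨T.obj₁, h₁⟩ : (cpt D).FullSubcategory) ⟶
          ⟨T.obj₂, h₂⟩).op y = 0 →
        ∃ z : H.obj (op ⟨T.obj₃, h₃⟩),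
          H.map (ObjectProperty.homMk T.mor₂ : (⟨T.obj₂, h₂⟩ : (cpt D).FullSubcategory) ⟶
            ⟨T.obj₃, h₃⟩).op z = y)
    (hfin : ∀ X, Module.Finite k (H.obj X)) :
    ∃ Y : D, Nonempty (H ≅ (cpt D).ι.op ⋙ (linearYoneda k D).obj Y) := by
  haveI := Groth.Agent.CompactTri.Basic.essentiallySmall_compact hD
  haveI := hfin
  haveI := G_isHomological H hcoh
  haveI := fun J => G_preservesProducts H J
  obtain ⟨ι, E₀, hc, hg⟩ := hD
  haveI : HasColimitsOfShape (Discrete ℕ) D :=
    hasColimitsOfShape_of_equivalence (Discrete.equivalence Equiv.ulift.{v})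
  have hrep := Groth.Agent.DHA.Brown.isRepresentable (G H)
    (Groth.Agent.DHA.Brown.isPerfect_shifts E₀ hg
      (fun X i α => Groth.Agent.DHA.Brown.exists_factor_of_isCompact E₀ i (hc i) X α))
  let Yop := (G H ⋙ forget AddCommGrpCat.{v}).reprX
  let R := (G H ⋙ forget AddCommGrpCat.{v}).representableBy
  let Y : D := Yop
  let u : Module.Dual k ((G' H).obj Y) := down H (K := op Y) (R.homEquiv (𝟙 Y))
  have hbij : ∀ K : D, Function.Bijective
      (fun f : K ⟶ Y => u ∘ₗ ((G' H).map f).hom) := fun K => by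
    have h : (fun f : K ⟶ Y => u ∘ₗ ((G' H).map f).hom) =
        fun f => down H (K := op K) (R.homEquiv f) := by
      funext f
      rw [R.homEquiv_eq f]
      exact (down_map H f.op _).symm
    rw [h]
    exact Function.Bijective.comp ⟨down_inj H, down_surj H⟩ R.homEquiv.bijective
  have hinv : ∀ E : (cpt D).FullSubcategory, IsIso (inj H (𝟙 E.obj)) := fun E => by
    have := (Functor.pointwiseLeftKanExtensionIsPointwiseLeftKanExtension (cpt D).ι (Hd H)).isIso_hom
    exact inferInstanceAs (IsIso (((Functor.LeftExtension.mk _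
      (Functor.pointwiseLeftKanExtensionUnit (cpt D).ι (Hd H))).hom).app E))
  let Φ : ∀ E : (cpt D).FullSubcategory, (E.obj ⟶ Y) →ₗ[k] H.obj (op E) := fun E =>
    { toFun := fun f => (Module.evalEquiv k (H.obj (op E))).symm (u ∘ₗ (inj H f).hom)
      map_add' := fun f g => by
        rw [inj_add, ModuleCat.hom_add]
        exact (congrArg (Module.evalEquiv k (H.obj (op E))).symm (LinearMap.comp_add _ _ u)).trans
          (map_add (Module.evalEquiv k (H.obj (op E))).symm _ _)
      map_smul' := fun r f => by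
        rw [inj_smul H hlin, ModuleCat.hom_smul]
        exact (congrArg (Module.evalEquiv k (H.obj (op E))).symm (LinearMap.comp_smul u r _)).trans
          (map_smul (Module.evalEquiv k (H.obj (op E))).symm r _) }
  have hΦ : ∀ E, Function.Bijective (Φ E) := fun E => by
    haveI := hinv E
    refine (Module.evalEquiv k (H.obj (op E))).symm.bijective.comp ?_
    let i := (asIso (inj H (𝟙 E.obj))).toLinearEquiv
    have h : (fun f : E.obj ⟶ Y => u ∘ₗ (inj H f).hom) =
        (fun φ => i.dualMap φ) ∘ fun f : E.obj ⟶ Y => u ∘ₗ ((G' H).map f).hom := by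
      funext f
      rw [show inj H f = inj H (𝟙 E.obj) ≫ (G' H).map f by rw [inj_map, Category.id_comp]]
      rfl
    exact h ▸ i.dualMap.bijective.comp (hbij E.obj)
  refine ⟨Y, ⟨(NatIso.ofComponents
    (fun E => (LinearEquiv.ofBijective (Φ E.unop) (hΦ E.unop)).toModuleIso) ?_).symm⟩⟩
  intro E E' a
  refine ModuleCat.hom_ext (LinearMap.ext fun f => ?_)
  change (Module.evalEquiv k (H.obj E')).symm (u ∘ₗ (inj H (a.unop.hom ≫ f)).hom) =
    (H.map a).hom ((Module.evalEquiv k (H.obj E)).symm (u ∘ₗ (inj H f).hom))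
  rw [LinearEquiv.symm_apply_eq]
  refine LinearMap.ext fun φ => ?_
  refine (LinearMap.congr_fun (congrArg (fun m => u ∘ₗ ModuleCat.Hom.hom m)
    (inj_comp H a.unop (show E.unop.obj ⟶ Y from f)).symm) φ).trans ?_
  change u ((inj H f).hom (((Hd H).map a.unop).hom φ)) = φ ((H.map a).hom _)
  exact (Module.apply_evalEquiv_symm_apply k (H.obj E) ((H.map a).hom.dualMap φ)
    ((u ∘ₗ (inj H f).hom : Module.Dual k (Module.Dual k (H.obj E))))).symm

end

open CategoryTheory.Limits CategoryTheory.Pretriangulated Opposite in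
/-- Let k be a field and D a k-linear triangulated category with arbitrary direct sums which is
compactly generated; write D_c for the full subcategory of compact objects. Let H be a contravariant
k-linear functor from D_c to k-vector spaces which is cohomological (for every distinguished
triangle X ⟶ Y ⟶ Z of D with X, Y, Z compact, H(Z) ⟶ H(Y) ⟶ H(X) is exact) and such that every H(X)
is finite-dimensional. One can then find an object Y of D for which H becomes isomorphic to X ↦
Hom(X, Y), the functor represented by Y on compact objects (existence of such Y and of an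
isomorphism of functors). -/
theorem result
    {k : Type w} [Field k]
    {D : Type u} [Category.{v} D] [Preadditive D] [Linear k D] [HasZeroObject D] [HasShift D ℤ]
    [∀ n : ℤ, (shiftFunctor D n).Additive] [∀ n : ℤ, (shiftFunctor D n).Linear k]
    [Pretriangulated D] [IsTriangulated D] [HasCoproducts.{v} D]
    (hD : CohDer.IsCompactlyGenerated D)
    (H : (ObjectProperty.FullSubcategory (fun K : D => CohDer.IsCompactObject K))ᵒᵖ ⥤ ModuleCat.{v} k)
    [H.Additive]
    (hlin : ∀ (X Y : ObjectProperty.FullSubcategory (fun K : D => CohDer.IsCompactObject K))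
      (r : k) (f : X ⟶ Y), H.map (r • f).op = r • H.map f.op)
    (hcoh : ∀ T ∈ distTriang D, ∀ (h₁ : CohDer.IsCompactObject T.obj₁)
      (h₂ : CohDer.IsCompactObject T.obj₂) (h₃ : CohDer.IsCompactObject T.obj₃)
      (y : H.obj (op ⟨T.obj₂, h₂⟩)),
      H.map (ObjectProperty.homMk T.mor₁ : (⟨T.obj₁, h₁⟩ : ObjectProperty.FullSubcategory
          (fun K : D => CohDer.IsCompactObject K)) ⟶ ⟨T.obj₂, h₂⟩).op y = 0 →
        ∃ z : H.obj (op ⟨T.obj₃, h₃⟩),
          H.map (ObjectProperty.homMk T.mor₂ : (⟨T.obj₂, h₂⟩ : ObjectProperty.FullSubcategory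
            (fun K : D => CohDer.IsCompactObject K)) ⟶ ⟨T.obj₃, h₃⟩).op z = y)
    (hfin : ∀ X, Module.Finite k (H.obj X)) :
    ∃ Y : D, Nonempty (H ≅ (ObjectProperty.ι _).op ⋙ (linearYoneda k D).obj Y) := by
  exact main hD H hlin hcoh hfin

end Groth.Agent.S6709
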