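import Groth.Statements.S6710
import Mathlib.RingTheory.Support
import Mathlib.LinearAlgebra.Matrix.Adjugate
import Mathlib.Algebra.Module.FinitePresentation

set_option autoImplicit false
universe u v
open CategoryTheory
open FunMor

namespace Groth.Agent.S6710

/-- The statement for an affine scheme written in terms of modules: let A be a commutative ring, M a
finitely presented A-module and N a nonzero A-module with Supp(N) ⊆ Supp(M). Then Hom_A(M, N) is
nonzero. -/
theorem result
    (A : Type u) [CommRing A] (M : Type v) [AddCommGroup M] [Module A M]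
    [Module.FinitePresentation A M] (N : Type v) [AddCommGroup N] [Module A N] [Nontrivial N]
    (h : Module.support A N ⊆ Module.support A M) : Nontrivial (M →ₗ[A] N) := by
  classical
  obtain ⟨n, m, π, ρ, hπ, hρ⟩ := Module.FinitePresentation.exists_fin' A M
  let Φ : Matrix (Fin m) (Fin n) A := fun i j => ρ (Pi.single i 1) j
  let b : Fin n → M := fun j => π (Pi.single j 1)
  have hsum : ∀ w : Fin n → A, π w = ∑ j, w j • b j := fun w => by
    conv_lhs => rw [pi_eq_sum_univ' w]
    simp [b]
  have hrel : ∀ i, ∑ j, Φ i j • b j = 0 := fun i => by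
    rw [← hsum]
    exact hρ.apply_apply_eq_zero _
  -- maximal minors kill M
  have hminor : ∀ f : Fin n → Fin m, ∀ g : Fin n → Fin n,
      (Φ.submatrix f g).det ∈ Module.annihilator A M := by
    intro f g
    by_cases hg : Function.Injective g
    · have hgb : Function.Bijective g := Finite.injective_iff_bijective.mp hg
      rw [Module.mem_annihilator]
      have hb : ∀ k, (Φ.submatrix f g).det • b (g k) = 0 := by
        intro k
        calc (Φ.submatrix f g).det • b (g k)
            = ∑ k', (((Φ.submatrix f g).adjugate * Φ.submatrix f g) k k') • b (g k') := by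
              rw [Matrix.adjugate_mul]
              simp [Matrix.smul_apply, Matrix.one_apply, ite_smul]
          _ = ∑ l, (Φ.submatrix f g).adjugate k l • ∑ k', Φ (f l) (g k') • b (g k') := by
              simp only [Matrix.mul_apply, Finset.sum_smul, Finset.smul_sum, mul_smul,
                Matrix.submatrix_apply]
              exact Finset.sum_comm
          _ = 0 := by
              refine Finset.sum_eq_zero fun l _ => ?_
              rw [hgb.sum_comp (fun j => Φ (f l) j • b j), hrel, smul_zero]
      intro z
      obtain ⟨w, rfl⟩ := hπ z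
      rw [hsum, Finset.smul_sum]
      refine Finset.sum_eq_zero fun j _ => ?_
      obtain ⟨k, rfl⟩ := hgb.surjective j
      rw [smul_comm, hb, smul_zero]
    · obtain ⟨a, c, hac, hne⟩ := Function.not_injective_iff.mp hg
      rw [Matrix.det_zero_of_column_eq hne (fun i => by simp [hac])]
      exact Submodule.zero_mem _
  -- elements of Ann M act locally nilpotently on N
  have hnil : ∀ d ∈ Module.annihilator A M, ∀ x : N, ∃ k : ℕ, d ^ k • x = 0 := by
    intro d hd x
    have : d ∈ (Submodule.span A {x}).annihilator.radical := by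
      rw [Ideal.radical_eq_sInf, Submodule.mem_sInf]
      rintro p ⟨hp, hp'⟩
      exact Module.annihilator_le_of_mem_support (p := ⟨p, hp'⟩)
        (h (Module.mem_support_iff_exists_annihilator.mpr ⟨x, hp⟩)) hd
    obtain ⟨k, hk⟩ := this
    exact ⟨k, by rwa [Submodule.mem_annihilator_span_singleton] at hk⟩
  have hfin : ∀ s : Finset A, (∀ d ∈ s, d ∈ Module.annihilator A M) →
      ∃ x : N, x ≠ 0 ∧ ∀ d ∈ s, d • x = 0 := by
    intro s
    induction s using Finset.induction with
    | empty =>
      intro _
      obtain ⟨x, hx⟩ := exists_ne (0 : N)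
      exact ⟨x, hx, by simp⟩
    | insert d s _ ih =>
      intro hs
      obtain ⟨x, hx, hx'⟩ := ih fun e he => hs e (Finset.mem_insert_of_mem he)
      obtain ⟨k, hk, hk'⟩ : ∃ k, d ^ (k + 1) • x = 0 ∧ d ^ k • x ≠ 0 := by
        have hex := hnil d (hs d (Finset.mem_insert_self d s)) x
        obtain ⟨k, hk⟩ := Nat.exists_eq_succ_of_ne_zero
          (show Nat.find hex ≠ 0 from fun e => hx (by simpa [e] using Nat.find_spec hex))
        refine ⟨k, ?_, Nat.find_min hex (by omega)⟩
        have := Nat.find_spec hex
        rwa [hk] at this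
      refine ⟨d ^ k • x, hk', fun e he => ?_⟩
      obtain rfl | he := Finset.mem_insert.mp he
      · rwa [smul_smul, ← pow_succ']
      · rw [smul_comm, hx' e he, smul_zero]
  obtain ⟨x, hx, hxm⟩ := hfin (Finset.univ.image fun p : (Fin n → Fin m) × (Fin n → Fin n) =>
    (Φ.submatrix p.1 p.2).det) (by
      intro d hd
      obtain ⟨p, -, rfl⟩ := Finset.mem_image.mp hd
      exact hminor _ _)
  let P : ℕ → Prop := fun r => ∀ (f : Fin r → Fin m) (g : Fin r → Fin n),
    (Φ.submatrix f g).det • x = 0
  have hPn : P n := fun f g => hxm _ (Finset.mem_image.mpr ⟨(f, g), Finset.mem_univ _, rfl⟩)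
  have hP0 : ¬ P 0 := fun h0 => hx (by simpa using h0 Fin.elim0 Fin.elim0)
  obtain ⟨r, hr, hr', hrn⟩ : ∃ r, ¬ P r ∧ P (r + 1) ∧ r < n := by
    by_contra hc
    push Not at hc
    have : ∀ r ≤ n, ¬ P r := by
      intro r
      induction r with
      | zero => exact fun _ => hP0
      | succ r ih => exact fun hrn hP => absurd (hc r (ih (by omega)) hP) (by omega)
    exact this n le_rfl hPn
  simp only [P, not_forall] at hr
  obtain ⟨f, g, hfg⟩ := hr
  obtain ⟨j, hj⟩ : ∃ j, j ∉ Set.range g := by
    by_contra hc
    push Not at hc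
    have := Fintype.card_le_of_surjective g hc
    simp at this
    omega
  let g' : Fin (r + 1) → Fin n := Fin.cons j g
  let cof : Fin (r + 1) → A := fun k => (-1) ^ (k : ℕ) * (Φ.submatrix f (g' ∘ k.succAbove)).det
  let v : Fin n → N := fun c => ∑ k, (if g' k = c then cof k else 0) • x
  let V : (Fin n → A) →ₗ[A] N := ∑ c, (LinearMap.proj c).smulRight (v c)
  have hVρ : LinearMap.range ρ ≤ LinearMap.ker V := by
    have hrow : ∀ i, V (ρ (Pi.single i 1)) = 0 := by
      intro i
      have hV : V (ρ (Pi.single i 1)) = ∑ k, (Φ i (g' k) * cof k) • x := by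
        simp only [V, v, LinearMap.sum_apply, LinearMap.smulRight_apply, LinearMap.proj_apply,
          Finset.smul_sum, smul_smul, mul_ite, mul_zero]
        rw [Finset.sum_comm]
        refine Finset.sum_congr rfl fun k _ => ?_
        rw [← Finset.sum_smul, Finset.sum_ite_eq]
        simp [Φ]
      rw [hV, ← Finset.sum_smul]
      convert hr' (Fin.cons i f) g' using 2
      rw [Matrix.det_succ_row_zero]
      refine Finset.sum_congr rfl fun k _ => ?_
      simp only [Matrix.submatrix_apply, Fin.cons_zero, Matrix.submatrix_submatrix, cof,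
        Fin.cons_comp_succ]
      ring_nf
    rintro _ ⟨w, rfl⟩
    rw [LinearMap.mem_ker]
    have : V.comp ρ = 0 := LinearMap.pi_ext' fun i => LinearMap.ext_ring (by simpa using hrow i)
    exact LinearMap.congr_fun this w
  rw [← LinearMap.exact_iff.mp hρ] at hVρ
  refine ⟨Submodule.liftQ _ V hVρ ∘ₗ (π.quotKerEquivOfSurjective hπ).symm.toLinearMap, 0, fun h0 => hfg ?_⟩
  have hV : V (Pi.single j 1) = 0 := by
    have := LinearMap.congr_fun h0 (π (Pi.single j 1))
    rw [show π (Pi.single j 1) = π.quotKerEquivOfSurjective hπ (Submodule.Quotient.mk (Pi.single j 1))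
      from (π.quotKerEquivOfSurjective_apply_mk hπ _).symm] at this
    simpa only [LinearMap.comp_apply, LinearEquiv.coe_coe, LinearEquiv.symm_apply_apply,
      Submodule.liftQ_apply, LinearMap.zero_apply] using this
  have hg0 : ∀ k, g' k = j ↔ k = 0 := fun k => by
    refine Fin.cases ?_ (fun l => ?_) k
    · simp [g']
    · simpa [g', Fin.succ_ne_zero] using fun e => hj ⟨l, e⟩
  simpa [V, v, Pi.single_apply, hg0, cof, g', Fin.succAbove_zero, Fin.cons_comp_succ, ite_smul] using hV

end Groth.Agent.S6710
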