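import Groth.Statements.S6711
import Groth.Agent.AcyclicQA.Key
import Groth.Agent.CohAff.RcIso
import Groth.Agent.CohAff.RcComp
import Groth.Agent.QCoh.FiniteType
import Mathlib.AlgebraicGeometry.ZariskisMainTheorem

set_option autoImplicit false
universe u
open CategoryTheory AlgebraicGeometry
open FunMor

namespace Groth.Agent.S6711

open CategoryTheory.Limits in
/-- Suppose V and X are Noetherian schemes and f : V ⟶ X is separated and quasi-finite (quasi-finite
meaning locally quasi-finite and of finite type). If there is a coherent O_V-module K whose support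
is all of V such that f_* K is coherent and R^q f_* K = 0 for every q > 0, then f is finite. -/
theorem result
    {V X : Scheme.{u}} [IsNoetherian V] [IsNoetherian X] (f : V ⟶ X)
    [LocallyQuasiFinite f] [LocallyOfFiniteType f] [QuasiCompact f] [IsSeparated f]
    [HasInjectiveResolutions V.Modules]
    (K : V.Modules) (hK : Coh.IsCoh K) (hsupp : CohB1.support K = Set.univ)
    (hpush : Coh.IsCoh ((Coh.push f).obj K))
    (hvan : ∀ q : ℕ, 0 < q → IsZero ((Coh.Rpush f q).obj K)) : IsFinite f := by
  have : K.IsQuasicoherent := hK.1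
  have : ((Coh.push f).obj K).IsQuasicoherent := hpush.1
  have : SheafOfModules.IsFiniteType.{u} ((Coh.push f).obj K) := hpush.2
  have key : ∀ W : X.Opens, IsAffineOpen W → IsAffineOpen (f ⁻¹ᵁ W) ∧ (f.app W).hom.IsIntegral := by
    intro W hW
    haveI : IsAffine (W : Scheme) := hW
    let g := f ∣_ W
    haveI : LocallyQuasiFinite g := MorphismProperty.of_isPullback (P := @LocallyQuasiFinite) (isPullback_morphismRestrict f W).flip ‹LocallyQuasiFinite f›
    haveI : LocallyOfFiniteType g := MorphismProperty.of_isPullback (P := @LocallyOfFiniteType) (isPullback_morphismRestrict f W).flip ‹LocallyOfFiniteType f›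
    haveI : IsSeparated g := IsZariskiLocalAtTarget.restrict ‹IsSeparated f› W
    haveI : QuasiCompact g := MorphismProperty.of_isPullback (P := @QuasiCompact) (isPullback_morphismRestrict f W).flip ‹QuasiCompact f›
    haveI : IsAffine g.normalization := isAffine_of_isAffineHom g.fromNormalization
    haveI : CompactSpace (f ⁻¹ᵁ W).toScheme := QuasiCompact.compactSpace_of_compactSpace g
    haveI : (f ⁻¹ᵁ W).toScheme.IsQuasiAffine := Scheme.IsQuasiAffine.of_isImmersion g.toNormalization
    haveI : IsNoetherianRing Γ(X, W) := IsLocallyNoetherian.component_noetherian ⟨W, hW⟩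
    let j := (f ⁻¹ᵁ W).ι
    let K' := K.restrict j
    haveI : K'.IsQuasicoherent := inferInstanceAs (K.restrict j).IsQuasicoherent
    have htop : j ''ᵁ ⊤ = f ⁻¹ᵁ W := (f ⁻¹ᵁ W).ι_image_top
    let R := CohAff.FRes.ofMod K
    have hvan' : ∀ n, Subsingleton (Coh.HH _ K' (n + 1)) := fun n => by
      haveI : (R.Z 0).IsQuasicoherent := inferInstanceAs K.IsQuasicoherent
      have hz : IsZero (R.Rc f n) :=
        (hvan (n + 1) n.succ_pos).of_iso (CohAff.FRes.rpushIsoRc f R n).symm
      have hV : R.Van (n + 1) (j ''ᵁ ⊤) := by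
        rw [htop]
        intro x
        refine CohAff.FRes.ex_of_π'_eq_zero R f hW n x ?_
        exact congr($(congrArg (fun b => Scheme.Modules.Hom.app b W) ((IsZero.iff_id_eq_zero _).1 hz))
          (R.π' f n W x))
      refine subsingleton_of_forall_eq 0 fun e => ?_
      obtain ⟨z, rfl⟩ := (R.restrict j).clsTop_surjective (n + 1) e
      exact ((R.restrict j).clsTop_eq_zero_iff (n + 1) z).2 (hV z)
    have hsupp' : CohB1.support K' = Set.univ := Set.eq_univ_of_forall fun y h => by
      have h' : j y ∈ CohB1.support K := hsupp ▸ Set.mem_univ _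
      exact h' (@Function.Injective.subsingleton _ _ _
        (((Scheme.Modules.restrictStalkNatIso j y).app K).addCommGroupIsoToAddEquiv.symm.injective) h)
    let φ : Γ(X, W) →+* Γ((f ⁻¹ᵁ W).toScheme, ⊤) :=
      (f.app W ≫ (f ⁻¹ᵁ W).topIso.inv).hom
    have hfin : letI := Module.compHom Γ(K', ⊤) φ; Module.Finite Γ(X, W) Γ(K', ⊤) := by
      letI := Module.compHom Γ(K', ⊤) φ
      haveI := QCoh.finite_sections_of_isFiniteType ((Coh.push f).obj K) hW
      let L : Γ((Coh.push f).obj K, W) →ₗ[Γ(X, W)] Γ(K', ⊤) :=
        { toFun := fun x => (K.restrictAppIso j ⊤).inv (QCoh.res K htop.le (QCoh.unPush f K x))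
          map_add' := fun a b => by
            rw [show QCoh.unPush f K (a + b) = QCoh.unPush f K a + QCoh.unPush f K b from rfl,
              map_add, map_add]
          map_smul' := fun r x => by
            apply (ConcreteCategory.bijective_of_isIso (K.restrictAppIso j ⊤).hom).1
            rw [RingHom.id_apply, Iso.inv_hom_id_apply, QCoh.push_smul, QCoh.res_smul]
            refine Eq.trans ?_ (QCoh.restrict_smul j K (φ r) _).symm
            rw [Iso.inv_hom_id_apply]
            refine congrArg (· • _) ?_
            simp only [φ, j, Scheme.Opens.ι_appIso, Scheme.Opens.topIso]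
            rfl }
      refine Module.Finite.of_surjective L fun y => ?_
      refine ⟨QCoh.res K htop.ge ((K.restrictAppIso j ⊤).hom y), ?_⟩
      show (K.restrictAppIso j ⊤).inv (QCoh.res K htop.le (QCoh.res K htop.ge _)) = y
      rw [QCoh.res_res, QCoh.res_self, Iso.hom_inv_id_apply]
    obtain ⟨h1, h2⟩ := AcyclicQA.isAffine_and_isIntegral K' φ hsupp' hvan' hfin
    refine ⟨h1, ?_⟩
    have h3 : f.app W = CommRingCat.ofHom φ ≫ (f ⁻¹ᵁ W).topIso.hom := by
      show _ = (f.app W ≫ (f ⁻¹ᵁ W).topIso.inv) ≫ _
      rw [Category.assoc, Iso.inv_hom_id, Category.comp_id]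
    rw [h3, CommRingCat.hom_comp]
    exact h2.trans φ _ (RingHom.isIntegral_of_surjective _
      (ConcreteCategory.bijective_of_isIso (f ⁻¹ᵁ W).topIso.hom).2)
  exact
    { isAffine_preimage := fun W hW => (key W hW).1
      finite_app := fun W hW => by
        refine RingHom.IsIntegral.to_finite (key W hW).2 ?_
        rw [Scheme.Hom.app_eq_appLE]
        exact f.finiteType_appLE hW (key W hW).1 le_rfl }

end Groth.Agent.S6711
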