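import Groth.Statements.S6713
import Groth.Agent.DBSib.Basic
import Mathlib.Data.Set.Countable

set_option autoImplicit false
universe w v u
open CategoryTheory
open DEquiv

namespace Groth.Agent.S6713

section
open CategoryTheory.Limits CategoryTheory.Pretriangulated DerivedCategory
open Groth.Agent.DBSib.Basic

variable {A : Type u} [Category.{v} A] [Abelian A] [HasDerivedCategory.{w} A]

lemma countable_of_surjective {α β : Type*} [Countable α] (f : α → β) (hf : Function.Surjective f) :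
    Countable β := hf.countable

/-- `Hom` into `L` out of the middle of a triangle. -/
lemma countable_src_middle (T : Triangle (DB A)) (hT : T ∈ distTriang (DB A)) (L : DB A)
    (h₁ : Countable (T.obj₁ ⟶ L)) (h₃ : Countable (T.obj₃ ⟶ L)) :
    Countable (T.obj₂ ⟶ L) := by
  classical
  let s : (T.obj₁ ⟶ L) → (T.obj₂ ⟶ L) := fun u =>
    if h : ∃ x, T.mor₁ ≫ x = u then h.choose else 0
  refine countable_of_surjective
    (fun p : (T.obj₁ ⟶ L) × (T.obj₃ ⟶ L) => s p.1 + T.mor₂ ≫ p.2) fun x => ?_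
  have hs : T.mor₁ ≫ s (T.mor₁ ≫ x) = T.mor₁ ≫ x := by
    have h : ∃ y, T.mor₁ ≫ y = T.mor₁ ≫ x := ⟨x, rfl⟩
    simp only [s, dif_pos h]
    exact h.choose_spec
  obtain ⟨g, hg⟩ := Triangle.yoneda_exact₂ _ hT (x - s (T.mor₁ ≫ x))
    (by rw [Preadditive.comp_sub, hs, sub_self])
  exact ⟨(T.mor₁ ≫ x, g), by simp [← hg]⟩

/-- `Hom` out of `X` into the middle of a triangle. -/
lemma countable_tgt_middle (T : Triangle (DB A)) (hT : T ∈ distTriang (DB A)) (X : DB A)
    (h₁ : Countable (X ⟶ T.obj₁)) (h₃ : Countable (X ⟶ T.obj₃)) :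
    Countable (X ⟶ T.obj₂) := by
  classical
  let s : (X ⟶ T.obj₃) → (X ⟶ T.obj₂) := fun u =>
    if h : ∃ x, x ≫ T.mor₂ = u then h.choose else 0
  refine countable_of_surjective
    (fun p : (X ⟶ T.obj₃) × (X ⟶ T.obj₁) => s p.1 + p.2 ≫ T.mor₁) fun x => ?_
  have hs : s (x ≫ T.mor₂) ≫ T.mor₂ = x ≫ T.mor₂ := by
    have h : ∃ y, y ≫ T.mor₂ = x ≫ T.mor₂ := ⟨x, rfl⟩
    simp only [s, dif_pos h]
    exact h.choose_spec
  obtain ⟨g, hg⟩ := Triangle.coyoneda_exact₂ _ hT (x - s (x ≫ T.mor₂))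
    (by rw [Preadditive.sub_comp, hs, sub_self])
  exact ⟨(x ≫ T.mor₂, g), by simp [← hg]⟩

lemma epi_H_sB {n : ℤ} {X Y : A} (p : X ⟶ Y) [Epi p] : Epi ((H A n).map ((sB A n).map p)) := by
  show Epi ((homologyFunctor A n).map ((singleFunctor A n).map p))
  rw [show (homologyFunctor A n).map ((singleFunctor A n).map p) =
    (singleFunctorCompHomologyFunctorIso A n).hom.app X ≫ p ≫
      (singleFunctorCompHomologyFunctorIso A n).inv.app Y from
    (NatIso.naturality_2 (singleFunctorCompHomologyFunctorIso A n) p).symm]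
  exact epi_comp' inferInstance (epi_comp' ‹Epi p› inferInstance)

variable (hhom : ∀ X Y : A, Countable (X ⟶ Y)) (e : ℕ → A)
  (he : ∀ X : A, ∃ n : ℕ, Nonempty (X ≅ e n))
include hhom he

lemma countable_single (d : ℕ) : ∀ (n : ℤ) (X Y : A),
    Countable ((sB A n).obj X ⟶ (sB A (n - d)).obj Y) := by
  induction d with
  | zero =>
    intro n X Y
    have := hhom X Y
    rw [Nat.cast_zero, sub_zero]
    exact countable_of_surjective (fun f : X ⟶ Y => (sB A n).map f) (sB A n).map_surjective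
  | succ d ih =>
    intro n X Y
    have := fun m => hhom (e m) X
    let I := Σ m : ℕ, (e m ⟶ X)
    let tgt := (sB A (n - ((d + 1 : ℕ) : ℤ))).obj Y
    choose C q δ hT using fun i : I => distinguished_cocone_triangle ((sB A n).map i.2)
    have hC : ∀ i : I, Epi i.2 → Countable (C i ⟶ tgt) := by
      intro i hi
      obtain ⟨h₁, h₂⟩ := cone_amplitude (sB_ge n X) (sB_le n X) ((sB A n).map i.2)
        (epi_H_sB i.2) (q i) (δ i) (hT i)
      obtain ⟨Z, ⟨φ⟩⟩ := exists_iso_sB (h₁.mono (a := min n (n - 1)) (b := n - 1) (by omega)) h₂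
      have := ih (n - 1) Z Y
      rw [show n - 1 - (d : ℤ) = n - ((d + 1 : ℕ) : ℤ) by push_cast; omega] at this
      exact countable_of_surjective (fun y : (sB A (n - 1)).obj Z ⟶ tgt => φ.hom ≫ y)
        fun x => ⟨φ.inv ≫ x, by simp⟩
    have hcov : (Set.univ : Set ((sB A n).obj X ⟶ tgt)) ⊆
        ⋃ i : {i : I // Epi i.2}, Set.range (fun y : C i.1 ⟶ tgt => q i.1 ≫ y) := by
      intro x _
      obtain ⟨E', p, hp, hpx⟩ := exists_epi_comp_eq_zero (b := n)
        ((sB_le _ Y).mono (b := n - 1) (by omega)) x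
      obtain ⟨m, ⟨φ⟩⟩ := he E'
      refine Set.mem_iUnion.2 ⟨⟨⟨m, φ.inv ≫ p⟩, inferInstance⟩, ?_⟩
      obtain ⟨y, hy⟩ := Triangle.yoneda_exact₂ _ (hT ⟨m, φ.inv ≫ p⟩) x (by
        change (sB A n).map (φ.inv ≫ p) ≫ x = 0
        rw [Functor.map_comp, Category.assoc, hpx, comp_zero])
      exact ⟨y, hy.symm⟩
    have : ((Set.univ : Set ((sB A n).obj X ⟶ tgt))).Countable := by
      refine Set.Countable.mono hcov (Set.countable_iUnion fun i => ?_)
      have := hC i.1 i.2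
      exact Set.countable_range _
    exact Set.countable_univ_iff.1 this

lemma countable_hom (K L : DB A) : Countable (K ⟶ L) := by
  revert L
  refine induction (fun K => ∀ L, Countable (K ⟶ L)) ?_ ?_ ?_ K
  · intro K K' φ h L
    have := h L
    exact countable_of_surjective (fun f : K ⟶ L => φ.inv ≫ f) fun x => ⟨φ.hom ≫ x, by simp⟩
  · intro n X L
    refine induction (fun L => Countable ((sB A n).obj X ⟶ L)) ?_ ?_ ?_ L
    · intro L L' φ h
      exact countable_of_surjective (fun f : (sB A n).obj X ⟶ L => f ≫ φ.hom)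
        fun x => ⟨x ≫ φ.inv, by simp⟩
    · intro m Y
      rcases le_or_gt m n with h | h
      · obtain ⟨d, hd⟩ := Int.le.dest h
        obtain rfl : n - d = m := by omega
        exact countable_single hhom e he d n X Y
      · have : Subsingleton ((sB A n).obj X ⟶ (sB A m).obj Y) :=
          ⟨fun f g => (hom_eq_zero (sB_le n X) (sB_ge m Y) h f).trans
            (hom_eq_zero (sB_le n X) (sB_ge m Y) h g).symm⟩
        infer_instance
    · exact fun T hT h₁ h₃ => countable_tgt_middle T hT _ h₁ h₃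
  · exact fun T hT h₁ h₃ L => countable_src_middle T hT L (h₁ L) (h₃ L)

lemma countable_objects : ∃ f : ℕ → DB A, ∀ K : DB A, ∃ n, Nonempty (K ≅ f n) := by
  classical
  have hHom := countable_hom hhom e he
  choose Y f g hT using fun t : Σ a c : DB A, (c ⟶ a⟦(1 : ℤ)⟧) =>
    distinguished_cocone_triangle₂ t.2.2
  let S : ℕ → Set (DB A) := fun d => Nat.rec (Set.range fun p : ℤ × ℕ => (sB A p.1).obj (e p.2))
    (fun _ S => S ∪ ⋃ a ∈ S, ⋃ c ∈ S, Set.range fun h : c ⟶ a⟦(1 : ℤ)⟧ => Y ⟨a, c, h⟩) d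
  have hS : ∀ d, (S d).Countable := by
    intro d
    induction d with
    | zero => exact Set.countable_range _
    | succ d ih =>
      exact ih.union (ih.biUnion fun a _ => ih.biUnion fun c _ =>
        (have := hHom c (a⟦(1 : ℤ)⟧); Set.countable_range _))
  have hmono : Monotone S := monotone_nat_of_le_succ fun d => Set.subset_union_left
  have hall : ∀ K : DB A, ∃ d, ∃ X ∈ S d, Nonempty (K ≅ X) := by
    refine induction _ ?_ ?_ ?_
    · rintro K K' φ ⟨d, X, hX, ⟨ψ⟩⟩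
      exact ⟨d, X, hX, ⟨φ.symm ≪≫ ψ⟩⟩
    · intro n X
      obtain ⟨m, ⟨φ⟩⟩ := he X
      exact ⟨0, _, ⟨(n, m), rfl⟩, ⟨(sB A n).mapIso φ⟩⟩
    · rintro T hT' ⟨d₁, a, ha, ⟨α⟩⟩ ⟨d₃, c, hc, ⟨γ⟩⟩
      let h : c ⟶ a⟦(1 : ℤ)⟧ := γ.inv ≫ T.mor₃ ≫ α.hom⟦(1 : ℤ)⟧'
      refine ⟨max d₁ d₃ + 1, Y ⟨a, c, h⟩, Or.inr (Set.mem_iUnion₂.2 ⟨a,
        hmono (le_max_left _ _) ha, Set.mem_iUnion₂.2 ⟨c, hmono (le_max_right _ _) hc, h, rfl⟩⟩), ?_⟩
      obtain ⟨b, hb₁, hb₂⟩ := complete_distinguished_triangle_morphism₂ T _ hT' (hT ⟨a, c, h⟩)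
        α.hom γ.hom (Iso.hom_inv_id_assoc γ _).symm
      let φ : T ⟶ Triangle.mk (f ⟨a, c, h⟩) (g ⟨a, c, h⟩) h :=
        Triangle.homMk _ _ α.hom b γ.hom hb₁ hb₂ (Iso.hom_inv_id_assoc γ _).symm
      exact ⟨@asIso _ _ _ _ φ.hom₂ (isIso₂_of_isIso₁₃ φ hT' (hT ⟨a, c, h⟩)
        (inferInstanceAs (IsIso α.hom)) (inferInstanceAs (IsIso γ.hom)))⟩
  let U := ⋃ d, S d
  have hne : U.Nonempty := ⟨_, Set.mem_iUnion.2 ⟨0, ⟨(0, 0), rfl⟩⟩⟩
  obtain ⟨f₀, hf₀⟩ := (Set.countable_iUnion hS).exists_eq_range hne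
  refine ⟨f₀, fun K => ?_⟩
  obtain ⟨d, X, hX, hiso⟩ := hall K
  obtain ⟨n, rfl⟩ : X ∈ Set.range f₀ := hf₀ ▸ Set.mem_iUnion.2 ⟨d, hX⟩
  exact ⟨n, hiso⟩

end

/-- Let A be an abelian category which is countable: Hom(X, Y) is countable for all objects X, Y and
there are countably many isomorphism classes of objects. Then the bounded derived category D^b(A) is
countable in the same sense. -/
theorem result
    {A : Type u} [Category.{v} A] [Abelian A] [HasDerivedCategory.{w} A]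
    (hhom : ∀ X Y : A, Countable (X ⟶ Y))
    (hiso : ∃ e : ℕ → A, ∀ X : A, ∃ n : ℕ, Nonempty (X ≅ e n)) :
    (∀ K L : DerivedCategory.Bounded A, Countable (K ⟶ L)) ∧
      ∃ e : ℕ → DerivedCategory.Bounded A, ∀ K : DerivedCategory.Bounded A,
        ∃ n : ℕ, Nonempty (K ≅ e n) := by
  obtain ⟨e, he⟩ := hiso
  exact ⟨countable_hom hhom e he, countable_objects hhom e he⟩

end Groth.Agent.S6713
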