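import Groth.Statements.S6714
import Groth.Agent.FpMod.Ind

set_option autoImplicit false
universe u v' u'
open CategoryTheory CategoryTheory.Limits
open FunMor

namespace Groth.Agent.S6714

/-- Let A be a commutative ring, B a category with filtered colimits and F a functor from the category
of finitely presented A-modules to B. Then F extends to a functor F' on all A-modules which commutes
with filtered colimits, and the extension is unique: two functors on A-modules commuting with
filtered colimits whose restrictions to finitely presented modules are isomorphic are themselves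
isomorphic. -/
theorem result
    (A : Type u) [CommRing A] {B : Type u'} [Category.{v'} B] [HasFilteredColimitsOfSize.{u, u} B]
    (F : (ObjectProperty.FullSubcategory (fun M : ModuleCat.{u} A => Module.FinitePresentation A M)) ⥤ B) :
    (∃ F' : ModuleCat.{u} A ⥤ B, PreservesFilteredColimitsOfSize.{u, u} F' ∧
      Nonempty (ObjectProperty.ι (fun M : ModuleCat.{u} A => Module.FinitePresentation A M) ⋙ F' ≅ F)) ∧
    ∀ F₁ F₂ : ModuleCat.{u} A ⥤ B, PreservesFilteredColimitsOfSize.{u, u} F₁ →
      PreservesFilteredColimitsOfSize.{u, u} F₂ →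
      Nonempty (ObjectProperty.ι (fun M : ModuleCat.{u} A => Module.FinitePresentation A M) ⋙ F₁ ≅ ObjectProperty.ι (fun M : ModuleCat.{u} A => Module.FinitePresentation A M) ⋙ F₂) →
      Nonempty (F₁ ≅ F₂) := by
  open Groth.Agent.FpMod in
  haveI : (Basic.fp A).ι.HasPointwiseLeftKanExtension F := fun X =>
    haveI := Ind.hasColimitsOfShape_costructuredArrow (B := B) X
    (inferInstance : HasColimit (CostructuredArrow.proj (Basic.fp A).ι X ⋙ F))
  have hE := Functor.pointwiseLeftKanExtensionIsPointwiseLeftKanExtension (Basic.fp A).ι F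
  haveI : IsIso (Functor.pointwiseLeftKanExtensionUnit (Basic.fp A).ι F) := hE.isIso_hom
  exact ⟨⟨_, Ind.preserves_of_pointwise hE,
    ⟨(asIso (Functor.pointwiseLeftKanExtensionUnit (Basic.fp A).ι F)).symm⟩⟩,
    fun F₁ F₂ h₁ h₂ ⟨e⟩ => @Ind.nonempty_iso A _ B _ F₁ F₂ h₁ h₂ e⟩

end Groth.Agent.S6714
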