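import Groth.Statements.S6716
import Groth.Agent.FpMod.Ind
import Groth.Agent.FpMod.RightExact
import Mathlib.CategoryTheory.Preadditive.LeftExact

set_option autoImplicit false
universe u v' u'
open CategoryTheory CategoryTheory.Limits
open FunMor

namespace Groth.Agent.S6716

section
open Groth.Agent.FpMod.Basic Groth.Agent.FpMod

variable {A : Type u} [CommRing A] {B : Type u'} [Category.{v'} B] [Preadditive B]
    [HasFiniteBiproducts B]
    (F₁ : ModuleCat.{u} A ⥤ B) [PreservesFilteredColimitsOfSize.{u, u} F₁] [F₁.Additive]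
    [PreservesFiniteColimits ((fp A).ι ⋙ F₁)]

lemma map_comp_eq {T : B} {X Y Q : ModuleCat.{u} A} {f : X ⟶ Y} {π : Y ⟶ Q}
    (hex : LinearMap.ker π.hom ≤ LinearMap.range f.hom) (u : F₁.obj Y ⟶ T)
    (hu : F₁.map f ≫ u = 0) {n : ℕ} {l l' : (free A n).obj ⟶ Y} (h : l ≫ π = l' ≫ π) :
    F₁.map l ≫ u = F₁.map l' ≫ u := by
  have hmem : ∀ x, (l - l').hom x ∈ LinearMap.range f.hom := fun x => hex (by
    rw [LinearMap.mem_ker]
    have h0 : (l - l') ≫ π = 0 := by rw [Preadditive.sub_comp, h, sub_self]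
    exact LinearMap.congr_fun (congrArg ModuleCat.Hom.hom h0) x)
  obtain ⟨m, hm⟩ := Module.projective_lifting_property f.hom.rangeRestrict
    ((l - l').hom.codRestrict _ hmem) f.hom.surjective_rangeRestrict
  have hl : l - l' = ModuleCat.ofHom m ≫ f := by
    refine ModuleCat.hom_ext (LinearMap.ext fun x => ?_)
    exact (congrArg Subtype.val (LinearMap.congr_fun hm x)).symm
  rw [← sub_eq_zero, ← Preadditive.sub_comp, ← F₁.map_sub, hl, F₁.map_comp, Category.assoc, hu,
    comp_zero]

lemma exists_unique_good {T : B} {X Y Q : ModuleCat.{u} A} {f : X ⟶ Y} {π : Y ⟶ Q}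
    (hπ : Function.Surjective π.hom)
    (hex : LinearMap.ker π.hom ≤ LinearMap.range f.hom) (u : F₁.obj Y ⟶ T)
    (hu : F₁.map f ≫ u = 0) (G : FP A) (g : G.obj ⟶ Q) :
    ∃! v : F₁.obj G.obj ⟶ T, ∀ (n : ℕ) (p : free A n ⟶ G) (l : (free A n).obj ⟶ Y),
      p.hom ≫ g = l ≫ π → F₁.map p.hom ≫ v = F₁.map l ≫ u := by
  haveI := RightExact.additive_of_rightExact ((fp A).ι ⋙ F₁)
  obtain ⟨n, m, r, p, hp, he⟩ := exists_presentation G
  obtain ⟨l₀, hl₀⟩ := Module.projective_lifting_property π.hom (g.hom ∘ₗ p.hom.hom) hπ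
  let l : (free A n).obj ⟶ Y := ModuleCat.ofHom l₀
  have hl : p.hom ≫ g = l ≫ π := by
    refine ModuleCat.hom_ext (LinearMap.ext fun x => ?_)
    exact (LinearMap.congr_fun hl₀ x).symm
  have hc := CokernelCofork.mapIsColimit _ (isColimitCokernel r p hp he) ((fp A).ι ⋙ F₁)
  have hr : ((fp A).ι ⋙ F₁).map r ≫ (F₁.map l ≫ u) = 0 := by
    change F₁.map r.hom ≫ F₁.map l ≫ u = 0
    rw [← F₁.map_comp_assoc, map_comp_eq F₁ hex u hu (l' := 0) (by
      rw [Category.assoc, ← hl, zero_comp, ← Category.assoc,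
        show r.hom ≫ p.hom = 0 from congrArg InducedCategory.Hom.hom (comp_eq_zero_of_range_eq he),
        zero_comp]), F₁.map_zero, zero_comp]
  obtain ⟨v, hv'⟩ : ∃ v : F₁.obj G.obj ⟶ T, F₁.map p.hom ≫ v = F₁.map l ≫ u :=
    ⟨(CokernelCofork.IsColimit.desc' hc _ hr).1, (CokernelCofork.IsColimit.desc' hc _ hr).2⟩
  refine ⟨v, fun n' p' l' h' => ?_, fun w hw => ?_⟩
  · obtain ⟨h₀, hh⟩ := Module.projective_lifting_property p.hom.hom p'.hom.hom hp
    have hh' : p'.hom = ModuleCat.ofHom h₀ ≫ p.hom := by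
      refine ModuleCat.hom_ext (LinearMap.ext fun x => ?_)
      exact (LinearMap.congr_fun hh x).symm
    rw [hh', F₁.map_comp, Category.assoc, hv', ← F₁.map_comp_assoc]
    refine map_comp_eq F₁ hex u hu ?_
    rw [Category.assoc, ← hl, ← h', hh', Category.assoc]
  · haveI : Epi (F₁.map p.hom) := Cofork.IsColimit.epi hc
    rw [← cancel_epi (F₁.map p.hom), hv']
    exact hw n p l hl

lemma preservesCokernel {X Y : ModuleCat.{u} A} (f : X ⟶ Y) :
    PreservesColimit (parallelPair f 0) F₁ := by
  refine preservesColimit_of_preserves_colimit_cocone (cokernelIsCokernel f) ?_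
  let π := cokernel.π f
  have hπ : Function.Surjective π.hom := (ModuleCat.epi_iff_surjective π).1 inferInstance
  have hex : LinearMap.ker π.hom ≤ LinearMap.range f.hom :=
    ((ShortComplex.moduleCat_exact_iff_range_eq_ker _).1
      (ShortComplex.exact_of_g_is_cokernel (ShortComplex.mk f π (cokernel.condition f))
        (cokernelIsCokernel f))).ge
  have key : ∀ {T : B} (u : F₁.obj Y ⟶ T), F₁.map f ≫ u = 0 →
      ∃ s : F₁.obj (cokernel f) ⟶ T, F₁.map π ≫ s = u := by
    intro T u hu
    choose φ hφ huniq using exists_unique_good F₁ hπ hex u hu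
    obtain ⟨s, hs⟩ := Ind.exists_desc F₁ φ (fun {G H} k g => by
      refine (huniq G (k.hom ≫ g) _ fun n p l h => ?_).symm
      rw [← F₁.map_comp_assoc]
      exact hφ H g n (p ≫ k) l ((Category.assoc _ _ _).trans h))
    refine ⟨s, Ind.hom_ext F₁ fun G g => ?_⟩
    rw [← F₁.map_comp_assoc, hs]
    refine (huniq G (g ≫ π) _ fun n p l h => ?_).symm
    rw [← F₁.map_comp_assoc]
    exact map_comp_eq F₁ hex u hu ((Category.assoc _ _ _).trans h)
  have hepi : Epi (F₁.map π) := by
    haveI := RightExact.additive_of_rightExact ((fp A).ι ⋙ F₁)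
    refine ⟨fun {T} a b hab => Ind.hom_ext F₁ fun G g => ?_⟩
    obtain ⟨n, m, r, p, hp, he⟩ := exists_presentation G
    obtain ⟨l₀, hl₀⟩ := Module.projective_lifting_property π.hom (g.hom ∘ₗ p.hom.hom) hπ
    haveI : Epi (F₁.map p.hom) := RightExact.epi_map_of_exact ((fp A).ι ⋙ F₁) r p hp he
    have hl : p.hom ≫ g = ModuleCat.ofHom l₀ ≫ π := by
      refine ModuleCat.hom_ext (LinearMap.ext fun x => ?_)
      exact (LinearMap.congr_fun hl₀ x).symm
    rw [← cancel_epi (F₁.map p.hom), ← F₁.map_comp_assoc, ← F₁.map_comp_assoc, hl, F₁.map_comp,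
      Category.assoc, Category.assoc, hab]
  refine (CokernelCofork.isColimitMapCoconeEquiv (CokernelCofork.ofπ π (cokernel.condition f)) F₁).symm
    (CokernelCofork.IsColimit.ofπ (F₁.map π)
      (by rw [← F₁.map_comp, cokernel.condition, F₁.map_zero]) (fun u hu => (key u hu).choose)
      (fun u hu => (key u hu).choose_spec) (fun u hu s hs => ?_))
  rw [← cancel_epi (F₁.map π), (key u hu).choose_spec]
  exact hs

end

/-- Let A be a commutative ring and B an additive category with cokernels and filtered colimits. Let F'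
be a functor from A-modules to B commuting with filtered colimits whose restriction to the full
subcategory of finitely presented A-modules is right exact (F' is then the extension of that
restriction). Then F' is additive and right exact, and it preserves all small direct sums. -/
theorem result
    (A : Type u) [CommRing A] {B : Type u'} [Category.{v'} B] [Preadditive B] [HasFiniteBiproducts B]
    [HasCokernels B] [HasFilteredColimitsOfSize.{u, u} B]
    (F' : ModuleCat.{u} A ⥤ B) [PreservesFilteredColimitsOfSize.{u, u} F']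
    [PreservesFiniteColimits (ObjectProperty.ι (fun M : ModuleCat.{u} A => Module.FinitePresentation A M) ⋙ F')] :
    F'.Additive ∧ PreservesFiniteColimits F' ∧
      ∀ J : Type u, PreservesColimitsOfShape (Discrete J) F' := by
  haveI := Groth.Agent.FpMod.RightExact.additive_of_rightExact
    ((Groth.Agent.FpMod.Basic.fp A).ι ⋙ F')
  haveI := Groth.Agent.FpMod.Ind.additive F'
  haveI : HasZeroObject B := hasZeroObject_of_hasFiniteBiproducts _
  haveI : ∀ {X Y : ModuleCat.{u} A} (f : X ⟶ Y), PreservesColimit (parallelPair f 0) F' :=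
    fun f => preservesCokernel F' f
  exact ⟨inferInstance, F'.preservesFiniteColimits_of_preservesCokernels,
    fun J => Groth.Agent.FpMod.Ind.preservesCoproducts F' J⟩

end Groth.Agent.S6716
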