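import Groth.Prelude.Def_PerfAux
import Groth.Prelude.Def_CohB1
import Mathlib.AlgebraicGeometry.Morphisms.QuasiSeparated
import Groth.Agent.DEq.BoxSurj
-- import your own Groth.Agent.* helpers here

set_option autoImplicit false
universe u
open CategoryTheory AlgebraicGeometry

namespace Groth.Agent.S6717

open CategoryTheory.Limits in
/-- Let R be a commutative ring and X, Y quasi-compact and quasi-separated schemes over R which have the
resolution property. Then for every quasi-coherent O-module F of finite type on X ×_R Y there are a
finite locally free O_X-module E, a finite locally free O_Y-module G and an epimorphism pr_1^* E ⊗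
pr_2^* G ⟶ F. -/
theorem result
    (R : Type u) [CommRing R] (X Y : Scheme.{u}) [X.Over (Spec (.of R))] [Y.Over (Spec (.of R))]
    [CompactSpace X] [QuasiSeparatedSpace X] [CompactSpace Y] [QuasiSeparatedSpace Y]
    (hX : PerfAux.HasResolutionProperty X) (hY : PerfAux.HasResolutionProperty Y)
    (F : (pullback (X ↘ Spec (.of R)) (Y ↘ Spec (.of R))).Modules) (hF : Coh.IsQCoh F) (hF' : CohB1.IsFT F) :
    ∃ (E : X.Modules) (G : Y.Modules), FlatMod.IsFinLocFree E ∧ FlatMod.IsFinLocFree G ∧
      ∃ π : CohB1.tensorMod
          ((Scheme.Modules.pullback (pullback.fst (X ↘ Spec (.of R)) (Y ↘ Spec (.of R)))).obj E)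
          ((Scheme.Modules.pullback (pullback.snd (X ↘ Spec (.of R)) (Y ↘ Spec (.of R)))).obj G) ⟶ F,
        Epi π := by
  let f := X ↘ Spec (.of R)
  let g := Y ↘ Spec (.of R)
  haveI : QuasiCompact f := inferInstance
  haveI : QuasiCompact g := inferInstance
  haveI : QuasiSeparated f := inferInstance
  haveI : QuasiSeparated g := inferInstance
  haveI : QuasiSeparatedSpace (pullback f g : Scheme.{u}) := quasiSeparatedSpace_of_quasiSeparated (pullback.fst f g)
  haveI : F.IsQuasicoherent := hF
  haveI : SheafOfModules.IsFiniteType.{u} F := hF'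
  exact Agent.DEq.Box.exists_box (pullback.fst f g) (pullback.snd f g) hX hY F fun U V hU hV =>
    _root_.AlgzW.UniformCover.isAffineOpen_inf f g (isAffineOpen_top (Spec (.of R))) hU hV (by simp) (by simp)

end Groth.Agent.S6717
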