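import Groth.Statements.S6718
import Groth.Agent.Serre.Basic
import Mathlib.CategoryTheory.Linear.LinearFunctor

set_option autoImplicit false
universe w v u
open CategoryTheory
open DEquiv Groth.Agent.Serre.Basic

namespace Groth.Agent.S6718

open CategoryTheory.Limits CategoryTheory.Pretriangulated in
/-- Let k be a field and T a k-linear (pre)triangulated category with dim_k Hom(X, Y) < ∞ for all X, Y.
The following are equivalent: (1) there are a k-linear equivalence S : T ⥤ T and k-linear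
isomorphisms c_{X,Y} : Hom(X, Y) ≅ Hom(Y, S X)^∨ natural in X and in Y; (2) for every object X the
functor Y ↦ Hom(X, Y)^∨ is representable and the functor Y ↦ Hom(Y, X)^∨ is corepresentable, by
k-linear isomorphisms natural in Y. (Here V^∨ is the k-linear dual.) -/
theorem result
    {k : Type w} [Field k]
    {T : Type u} [Category.{v} T] [Preadditive T] [Linear k T] [HasZeroObject T] [HasShift T ℤ]
    [∀ n : ℤ, (shiftFunctor T n).Additive] [∀ n : ℤ, (shiftFunctor T n).Linear k] [Pretriangulated T]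
    [∀ X Y : T, Module.Finite k (X ⟶ Y)] :
    (∃ (S : T ≌ T) (_ : S.functor.Additive) (_ : S.functor.Linear k)
        (c : ∀ X Y : T, (X ⟶ Y) ≃ₗ[k] Module.Dual k (Y ⟶ S.functor.obj X)),
        (∀ (X Y Y' : T) (f : X ⟶ Y) (g : Y ⟶ Y'),
          c X Y' (f ≫ g) = (c X Y f) ∘ₗ Linear.leftComp k (S.functor.obj X) g) ∧
        (∀ (X' X Y : T) (a : X' ⟶ X) (f : X ⟶ Y),
          c X' Y (a ≫ f) = (c X Y f) ∘ₗ Linear.rightComp k Y (S.functor.map a))) ↔
    ((∀ X : T, ∃ (SX : T) (e : ∀ Y : T, (Y ⟶ SX) ≃ₗ[k] Module.Dual k (X ⟶ Y)),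
        ∀ (Y Y' : T) (g : Y' ⟶ Y) (f : Y ⟶ SX),
          e Y' (g ≫ f) = (e Y f) ∘ₗ Linear.rightComp k X g) ∧
      (∀ X : T, ∃ (RX : T) (e : ∀ Y : T, (RX ⟶ Y) ≃ₗ[k] Module.Dual k (Y ⟶ X)),
        ∀ (Y Y' : T) (g : Y ⟶ Y') (f : RX ⟶ Y),
          e Y' (f ≫ g) = (e Y f) ∘ₗ Linear.leftComp k X g)) := by
  constructor
  · rintro ⟨S, _, _, c, hc₁, hc₂⟩
    refine ⟨fun X => ⟨S.functor.obj X, fun Y => flipEquiv (c X Y), fun Y Y' g f => ?_⟩,
      fun X => ⟨S.inverse.obj X, fun Y =>
        (c (S.inverse.obj X) Y).trans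
          (Linear.homCongr k (Iso.refl Y) (S.counitIso.app X).symm).dualMap, fun Y Y' g f => ?_⟩⟩
    · ext h
      simp [hc₁]
    · ext h
      simp [hc₁, Linear.homCongr_apply]
  · rintro ⟨h₁, h₂⟩
    choose SX e he using h₁
    have henat : ∀ (X Y Y' : T) (g : Y' ⟶ Y) (f : Y ⟶ SX X) (x : X ⟶ Y'),
        e X Y' (g ≫ f) x = e X Y f (x ≫ g) := fun X Y Y' g f x => by
      rw [he]; rfl
    -- the trace
    let t : ∀ X : T, Module.Dual k (X ⟶ SX X) := fun X => e X (SX X) (𝟙 _)
    have ht : ∀ (X Y : T) (g : Y ⟶ SX X) (x : X ⟶ Y), e X Y g x = t X (x ≫ g) := by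
      intro X Y g x
      rw [← henat, Category.comp_id]
    let c : ∀ X Y : T, (X ⟶ Y) ≃ₗ[k] Module.Dual k (Y ⟶ SX X) := fun X Y => flipEquiv (e X Y)
    have hcdef : ∀ X Y f g, c X Y f g = t X (f ≫ g) := fun X Y f g => by simp [c, ht]
    let m : ∀ X' X : T, (X' ⟶ X) ≃ₗ[k] (SX X' ⟶ SX X) := fun X' X =>
      (c X' X).trans (e X (SX X')).symm
    have hm : ∀ (X' X : T) (a : X' ⟶ X) (f : X ⟶ SX X'), t X (f ≫ m X' X a) = t X' (a ≫ f) := by
      intro X' X a f
      rw [← ht, ← hcdef]
      simp [m]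
    have hext : ∀ (X Z : T) (u v : Z ⟶ SX X), (∀ x : X ⟶ Z, t X (x ≫ u) = t X (x ≫ v)) → u = v := by
      intro X Z u v h
      apply (e X Z).injective
      ext x
      rw [ht X Z u x, ht X Z v x]; exact h x
    let F : T ⥤ T :=
      { obj := SX
        map := fun {X' X} a => m X' X a
        map_id := fun X => hext _ _ _ _ fun x => by simp [hm]
        map_comp := fun {X'' X' X} a b => hext _ _ _ _ fun x => by
          rw [hm, Category.assoc, ← hm, Category.assoc, ← Category.assoc x, hm] }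
    have : F.Additive := { map_add := fun {X Y f g} => (m X Y).map_add f g }
    have : F.Linear k := { map_smul := fun {X Y} f r => (m X Y).map_smul r f }
    have : F.Faithful := { map_injective := fun {X Y} _ _ h => (m X Y).injective h }
    have : F.Full := { map_surjective := fun {X Y} g => (m X Y).surjective g }
    have : F.EssSurj := ⟨fun X => by
      obtain ⟨RX, e', he'⟩ := h₂ X
      obtain ⟨φ, -, -⟩ := existsUnique_iso (A := SX RX) (B := X) (e RX) (fun Y => flipEquiv (e' Y))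
        (fun Y Y' g f x => henat RX Y Y' g f x)
        (fun Y Y' h g f => by simp [he'])
      exact ⟨RX, ⟨φ⟩⟩⟩
    have : F.IsEquivalence := {}
    refine ⟨F.asEquivalence, inferInstanceAs F.Additive, inferInstanceAs (F.Linear k), c,
      fun X Y Y' f g => ?_, fun X' X Y a f => ?_⟩
    · refine LinearMap.ext fun h => ?_
      show c X Y' (f ≫ g) h = c X Y f (g ≫ h)
      rw [hcdef, hcdef, Category.assoc]
    · refine LinearMap.ext fun h => ?_
      show c X' Y (a ≫ f) h = c X Y f (h ≫ m X' X a)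
      exact (congrArg (t X') (Category.assoc a f h)).trans
        ((hm X' X a (f ≫ h)).symm.trans (congrArg (t X) (Category.assoc f h _))) |> fun H => (hcdef _ _ _ _).trans (H.trans (hcdef _ _ _ _).symm)


end Groth.Agent.S6718
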