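import Groth.Statements.S6721
import Groth.Agent.S2222
import Groth.Agent.KFlat.TruncHom
import Groth.Agent.CohDev.Coh

set_option autoImplicit false
universe u
open CategoryTheory AlgebraicGeometry
attribute [local instance] HasDerivedCategory.standard
open DEquiv

namespace Groth.Agent.S6721

/-- Let X be a Noetherian scheme all of whose local rings are regular and whose underlying space has
Krull dimension d. Let K be a bounded object of D(O_X) with coherent cohomology sheaves and a ∈ ℤ
with H^i(K) = 0 for a < i < a + d. Then the connecting morphism τ_{≥ a+d} K ⟶ (τ_{< a+d} K)⟦1⟧ of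
the truncation triangle vanishes (note τ_{< a+d} K = τ_{≤ a} K here), so K decomposes as τ_{≤ a} K ⊕
τ_{≥ a+d} K. -/
theorem result
    (X : Scheme.{u}) [IsNoetherian X] (hreg : Models.IsRegularScheme X) (d : ℕ)
    (hd : topologicalKrullDim X = d) (K : DCoh.D X) (hK : DCoh.IsCohD K) (lo hi : ℤ)
    [DerivedCategory.IsGE K lo] [DerivedCategory.IsLE K hi] (a : ℤ)
    (hgap : ∀ i : ℤ, a < i → i < a + d → Limits.IsZero (DCoh.HD K i)) :
    (DerivedCategory.TStructure.t.truncGEδLT (a + d)).app K = 0 := by
  let n : ℤ := a + d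
  let H := fun i : ℤ => DerivedCategory.homologyFunctor X.Modules i
  let P : DCoh.D X := (DerivedCategory.TStructure.t.truncGE n).obj K
  let Q : DCoh.D X := (DerivedCategory.TStructure.t.truncLT n).obj K
  have hPge : P.IsGE n := inferInstanceAs (DerivedCategory.TStructure.t.IsGE P n)
  have hQle : Q.IsLE (n - 1) := inferInstanceAs (DerivedCategory.TStructure.t.IsLE Q (n - 1))
  have eP : ∀ i, n ≤ i → Nonempty ((H i).obj K ≅ (H i).obj P) := fun i hi => by
    have := KFlat.TruncHom.isIso_H_truncGEπ K n i hi
    exact ⟨asIso ((H i).map ((DerivedCategory.TStructure.t.truncGEπ n).app K))⟩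
  have eQ : ∀ i, i < n → Nonempty ((H i).obj Q ≅ (H i).obj K) := fun i hi => by
    have := KFlat.TruncHom.isIso_H_truncLTι K n i hi
    exact ⟨asIso ((H i).map ((DerivedCategory.TStructure.t.truncLTι n).app K))⟩
  have hPc : DCoh.IsCohD P := fun i => by
    rcases lt_or_ge i n with h | h
    · exact CohDev.isCoh_of_isZero (P.isZero_of_isGE n i h)
    · exact CohDev.isCoh_of_iso (eP i h).some (hK i)
  have hQ0 : ∀ i, a < i → Limits.IsZero ((H i).obj Q) := fun i hi => by
    rcases lt_or_ge i n with h | h
    · exact (hgap i hi h).of_iso (eQ i h).some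
    · exact Q.isZero_of_isLE (n - 1) i (by omega)
  have hQc : ∀ i, Coh.IsCoh ((H i).obj Q) := fun i => by
    rcases lt_or_ge i n with h | h
    · exact CohDev.isCoh_of_iso (eQ i h).some.symm (hK i)
    · exact CohDev.isCoh_of_isZero (Q.isZero_of_isLE (n - 1) i (by omega))
  have hPle : P.IsLE hi := by
    rw [DerivedCategory.isLE_iff]
    intro i h
    rcases lt_or_ge i n with h' | h'
    · exact P.isZero_of_isGE n i h'
    · exact (K.isZero_of_isLE hi i h).of_iso (eP i h').some.symm
  let L : DCoh.D X := Q⟦(1 : ℤ)⟧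
  have eL : ∀ i, (H i).obj L ≅ (H (i + 1)).obj Q := fun i =>
    ((DerivedCategory.homologyFunctor X.Modules 0).shiftIso 1 i (i + 1) (by omega)).app Q
  have hLle : L.IsLE (a - 1) := by
    rw [DerivedCategory.isLE_iff]
    exact fun i h => (hQ0 (i + 1) (by omega)).of_iso (eL i)
  have hLge : L.IsGE (lo - 1) := by
    rw [DerivedCategory.isGE_iff]
    intro i h
    refine Limits.IsZero.of_iso ?_ (eL i)
    rcases lt_or_ge (i + 1) n with h' | h'
    · exact (K.isZero_of_isGE lo (i + 1) (by omega)).of_iso (eQ (i + 1) h').some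
    · exact Q.isZero_of_isLE (n - 1) (i + 1) (by omega)
  exact (S2222.result X hreg d hd).2 P L a hi (lo - 1) hPc
    (fun i => CohDev.isCoh_of_iso (eL i).symm (hQc (i + 1))) hPge hPle hLge hLle _

end Groth.Agent.S6721
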