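import Groth.Statements.S6725
import Groth.Agent.FpMod.RightExact

set_option autoImplicit false
universe u v' u'
open CategoryTheory CategoryTheory.Limits
open FunMor

namespace Groth.Agent.S6725

section
open Groth.Agent.FpMod.Basic Groth.Agent.FpMod.RightExact

variable {A : Type u} [CommRing A] {B : Type u'} [Category.{v'} B] [Preadditive B]
    {K : B} (κ : A →+* End K)

lemma kmul (a b : A) : κ (a * b) = κ a ≫ κ b := by
  rw [mul_comm a b, map_mul]; rfl

/-- `Hom(K, T)` as an `A`-module through `κ`. -/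
def KHom (_κ : A →+* End K) (T : B) : Type v' := K ⟶ T

instance (T : B) : AddCommGroup (KHom κ T) := inferInstanceAs (AddCommGroup (K ⟶ T))

instance (T : B) : Module A (KHom κ T) where
  smul a f := (κ a : K ⟶ K) ≫ (f : K ⟶ T)
  one_smul f := by
    change (κ 1 : K ⟶ K) ≫ (f : K ⟶ T) = f
    rw [map_one]
    exact Category.id_comp _
  mul_smul a b f := by
    change (κ (a * b) : K ⟶ K) ≫ (f : K ⟶ T) = (κ a : K ⟶ K) ≫ (κ b : K ⟶ K) ≫ (f : K ⟶ T)
    erw [kmul κ, Category.assoc]
  smul_zero a := Limits.comp_zero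
  smul_add a f g := Preadditive.comp_add _ _ _ _ _ _
  add_smul a b f := by
    change (κ (a + b) : K ⟶ K) ≫ (f : K ⟶ T) = _
    rw [map_add]
    exact Preadditive.add_comp _ _ _ _ _ _
  zero_smul f := by
    change (κ 0 : K ⟶ K) ≫ (f : K ⟶ T) = _
    rw [map_zero]
    exact Limits.zero_comp

/-- An object with the universal `A`-linear family indexed by `G`. -/
structure Rep (G : FP A) where
  obj : B
  η : G.obj →ₗ[A] KHom κ obj
  ext : ∀ {T : B} {s t : obj ⟶ T}, (∀ z, (η z : K ⟶ obj) ≫ s = (η z : K ⟶ obj) ≫ t) → s = t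
  exists_desc : ∀ {T : B} (g : G.obj →ₗ[A] KHom κ T),
    ∃ s : obj ⟶ T, ∀ z, (η z : K ⟶ obj) ≫ s = (g z : K ⟶ T)

variable [HasFiniteBiproducts B] [HasCokernels B]

lemma nonempty_rep (G : FP A) : Nonempty (Rep κ G) := by
  classical
  obtain ⟨n, m, r, p, hp, he⟩ := exists_presentation G
  let e : ∀ {l : ℕ}, Fin l → (Fin l → A) := fun i => Pi.single i 1
  let col : Fin m → (K ⟶ ⨁ fun _ : Fin n => K) := fun j =>
    ∑ i, (κ (r.hom.hom (e j) i) : K ⟶ K) ≫ biproduct.ι (fun _ : Fin n => K) i
  let d : (⨁ fun _ : Fin m => K) ⟶ ⨁ fun _ : Fin n => K := biproduct.desc col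
  let η₀ : (Fin n → A) →ₗ[A] KHom κ (cokernel d) :=
    ∑ i, (LinearMap.proj i).smulRight
      (show KHom κ (cokernel d) from biproduct.ι (fun _ : Fin n => K) i ≫ cokernel.π d)
  have h0 : ∀ x, (η₀ x : K ⟶ cokernel d) =
      ∑ i, (κ (x i) : K ⟶ K) ≫ biproduct.ι (fun _ : Fin n => K) i ≫ cokernel.π d := fun x => by
    simp only [η₀, LinearMap.sum_apply]
    rfl
  have hr : η₀ ∘ₗ r.hom.hom = 0 := by
    refine LinearMap.pi_ext fun j x => ?_
    have hx : (Pi.single j x : Fin m → A) = x • e j := by
      funext l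
      simp [e, Pi.single_apply]
    rw [LinearMap.comp_apply, hx, map_smul, map_smul, LinearMap.zero_apply]
    have h : η₀ (r.hom.hom (e j)) = 0 := by
      show (η₀ (r.hom.hom (e j)) : K ⟶ cokernel d) = 0
      rw [h0]
      have h2 : (biproduct.ι (fun _ : Fin m => K) j ≫ d) ≫ cokernel.π d = 0 := by
        rw [Category.assoc, cokernel.condition, comp_zero]
      simp only [d, biproduct.ι_desc, col, Preadditive.sum_comp, Category.assoc] at h2
      exact h2
    rw [h, smul_zero]
  have hker : LinearMap.ker p.hom.hom ≤ LinearMap.ker η₀ := by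
    rw [← he, LinearMap.range_le_iff_comap, ← LinearMap.ker_comp, hr, LinearMap.ker_zero]
  let η : G.obj →ₗ[A] KHom κ (cokernel d) :=
    (LinearMap.ker p.hom.hom).liftQ η₀ hker ∘ₗ
      (p.hom.hom.quotKerEquivOfSurjective hp).symm.toLinearMap
  have hη : ∀ x, η (p.hom.hom x) = η₀ x := fun x => by
    have h : (p.hom.hom.quotKerEquivOfSurjective hp).symm (p.hom.hom x) =
        Submodule.Quotient.mk x := by
      rw [LinearEquiv.symm_apply_eq]; rfl
    simp [η, h]
  have hι : ∀ i : Fin n,
      (η (p.hom.hom (e i)) : K ⟶ cokernel d) =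
        biproduct.ι (fun _ : Fin n => K) i ≫ cokernel.π d := by
    intro i
    rw [hη, h0, Finset.sum_eq_single i]
    · simp only [e, Pi.single_eq_same, map_one]
      exact Category.id_comp _
    · intro l _ hl
      simp only [e, Pi.single_eq_of_ne hl, map_zero]
      exact Limits.zero_comp
    · simp
  refine ⟨⟨cokernel d, η, fun {T s t} h => coequalizer.hom_ext (biproduct.hom_ext' _ _ fun i => ?_),
    fun {T} g => ?_⟩⟩
  · have := h (p.hom.hom (e i))
    rw [hι] at this
    simpa [Category.assoc] using this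
  · let s₀ : (⨁ fun _ : Fin n => K) ⟶ T :=
      biproduct.desc fun i => (g (p.hom.hom (e i)) : K ⟶ T)
    have hg : ∀ x : Fin n → A, (g (p.hom.hom x) : K ⟶ T) =
        ∑ i, (κ (x i) : K ⟶ K) ≫ (g (p.hom.hom (e i)) : K ⟶ T) := by
      intro x
      have hx : x = ∑ i, x i • e i := by
        funext l
        simp [e, Finset.sum_apply, Pi.single_apply]
      conv_lhs => rw [hx, map_sum, map_sum]
      simp only [map_smul]
      rfl
    have hd : d ≫ s₀ = 0 := biproduct.hom_ext' _ _ fun j => by
      have h := hg (r.hom.hom (e j))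
      rw [show p.hom.hom (r.hom.hom (e j)) = 0 from
        LinearMap.mem_ker.1 (he ▸ LinearMap.mem_range_self r.hom.hom (e j)), map_zero] at h
      rw [← Category.assoc, biproduct.ι_desc, comp_zero, Preadditive.sum_comp]
      refine (Finset.sum_congr rfl fun i _ => ?_).trans h.symm
      exact (Category.assoc _ _ _).trans (congrArg (_ ≫ ·) (biproduct.ι_desc _ _))
    refine ⟨cokernel.desc d s₀ hd, fun z => ?_⟩
    obtain ⟨x, rfl⟩ := hp z
    rw [hη, h0, hg x, Preadditive.sum_comp]
    refine Finset.sum_congr rfl fun i _ => ?_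
    simp only [Category.assoc, cokernel.π_desc, s₀]
    exact congrArg (_ ≫ ·) (biproduct.ι_desc _ _)

/-- A chosen representing object. -/
noncomputable def rep (G : FP A) : Rep κ G := (nonempty_rep κ G).some

/-- Pushing a linear family along a map. -/
def push {M : Type*} [AddCommGroup M] [Module A M] {T T' : B} (g : M →ₗ[A] KHom κ T)
    (f : T ⟶ T') : M →ₗ[A] KHom κ T' where
  toFun z := (g z : K ⟶ T) ≫ f
  map_add' z w := by
    rw [map_add]
    exact Preadditive.add_comp _ _ _ _ _ _
  map_smul' a z := by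
    rw [map_smul]
    exact Category.assoc _ _ _

/-- The functor. -/
noncomputable def functor : FP A ⥤ B where
  obj G := (rep κ G).obj
  map {G H} f := ((rep κ G).exists_desc ((rep κ H).η ∘ₗ f.hom.hom)).choose
  map_id G := (rep κ G).ext fun z => by
    rw [((rep κ G).exists_desc ((rep κ G).η ∘ₗ (𝟙 G : G ⟶ G).hom.hom)).choose_spec]
    exact (Category.comp_id _).symm
  map_comp {G H L} f f' := (rep κ G).ext fun z => by
    refine (((rep κ G).exists_desc ((rep κ L).η ∘ₗ (f ≫ f').hom.hom)).choose_spec z).trans ?_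
    refine Eq.trans ?_ (Category.assoc _ _ _)
    exact ((congrArg (· ≫ _)
      (((rep κ G).exists_desc ((rep κ H).η ∘ₗ f.hom.hom)).choose_spec z)).trans
      (((rep κ H).exists_desc ((rep κ L).η ∘ₗ f'.hom.hom)).choose_spec (f.hom.hom z))).symm

lemma η_map {G H : FP A} (f : G ⟶ H) (z : G.obj) :
    ((rep κ G).η z : K ⟶ _) ≫ (functor κ).map f = (rep κ H).η (f.hom.hom z) :=
  ((rep κ G).exists_desc ((rep κ H).η ∘ₗ f.hom.hom)).choose_spec z

lemma preservesFiniteColimits_functor : PreservesFiniteColimits (functor κ) := by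
  constructor
  intro J _ _
  constructor
  intro D
  constructor
  intro c hc
  have hc' := isColimitOfPreserves (fp A).ι hc
  have key : ∀ s : Cocone (D ⋙ functor κ), ∃! h : c.pt.obj →ₗ[A] KHom κ s.pt,
      ∀ j, h ∘ₗ (c.ι.app j).hom.hom = push κ (rep κ (D.obj j)).η (s.ι.app j) := fun s =>
    existsUnique_desc hc' (fun j => push κ (rep κ (D.obj j)).η (s.ι.app j)) (fun {i j} f => by
      ext z
      change ((rep κ (D.obj j)).η ((D.map f).hom.hom z) : K ⟶ _) ≫ s.ι.app j = _ ≫ s.ι.app i
      refine (congrArg (· ≫ _) (η_map κ (D.map f) z).symm).trans ?_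
      exact (Category.assoc _ _ _).trans (congrArg (_ ≫ ·) (s.w f)))
  refine ⟨{ desc := fun s => ((rep κ c.pt).exists_desc (key s).choose).choose,
            fac := fun s j => (rep κ (D.obj j)).ext fun z => ?_,
            uniq := fun s m hm => (rep κ c.pt).ext fun z => ?_ }⟩
  · refine (Category.assoc _ _ _).symm.trans ((congrArg (· ≫ _) (η_map κ (c.ι.app j) z)).trans ?_)
    refine (((rep κ c.pt).exists_desc (key s).choose).choose_spec _).trans ?_
    exact LinearMap.congr_fun ((key s).choose_spec.1 j) z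
  · rw [((rep κ c.pt).exists_desc _).choose_spec,
      ← (key s).choose_spec.2 (push κ (rep κ c.pt).η m) (fun j => ?_)]
    · rfl
    · ext y
      change ((rep κ c.pt).η ((c.ι.app j).hom.hom y) : K ⟶ _) ≫ m = _ ≫ s.ι.app j
      refine (congrArg (· ≫ _) (η_map κ (c.ι.app j) y).symm).trans ?_
      exact (Category.assoc _ _ _).trans (congrArg (_ ≫ ·) (hm j))

end

/-- Essential surjectivity of the functor F ↦ (F(A), induced A-action): let A be a commutative ring and
B an additive category with cokernels. For every object K of B and ring map κ : A → End(K) there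
exist a right exact functor F from the category of finitely presented A-modules to B and an
isomorphism F(A) ≅ K carrying F(multiplication by a) to κ(a) for every a ∈ A. -/
theorem result
    (A : Type u) [CommRing A] {B : Type u'} [Category.{v'} B] [Preadditive B] [HasFiniteBiproducts B]
    [HasCokernels B] (K : B) (κ : A →+* End K) :
    ∃ (F : (ObjectProperty.FullSubcategory (fun M : ModuleCat.{u} A => Module.FinitePresentation A M)) ⥤ B) (_ : PreservesFiniteColimits F)
      (e : F.obj (⟨ModuleCat.of A A, inferInstance⟩ : (ObjectProperty.FullSubcategory (fun M : ModuleCat.{u} A => Module.FinitePresentation A M))) ≅ K),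
      ∀ a : A, F.map (ObjectProperty.homMk (ModuleCat.ofHom (LinearMap.lsmul A A a)) : (⟨ModuleCat.of A A, inferInstance⟩ : (ObjectProperty.FullSubcategory (fun M : ModuleCat.{u} A => Module.FinitePresentation A M))) ⟶ (⟨ModuleCat.of A A, inferInstance⟩ : (ObjectProperty.FullSubcategory (fun M : ModuleCat.{u} A => Module.FinitePresentation A M)))) ≫ e.hom = e.hom ≫ κ a := by
  open Groth.Agent.FpMod.Basic in
  let g : A →ₗ[A] KHom κ K := LinearMap.toSpanSingleton A (KHom κ K) (show KHom κ K from 𝟙 K)
  have hg : ∀ a : A, (g a : K ⟶ K) = κ a := fun a => by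
    change (κ a : K ⟶ K) ≫ 𝟙 K = κ a
    exact Category.comp_id _
  obtain ⟨s, hs⟩ := (rep κ (one A)).exists_desc g
  let v : K ⟶ (rep κ (one A)).obj := (rep κ (one A)).η (1 : A)
  have h1 : v ≫ s = 𝟙 K := by
    rw [hs (1 : A), hg, map_one]; rfl
  let e : (functor κ).obj (one A) ≅ K :=
    { hom := s
      inv := v
      hom_inv_id := (rep κ (one A)).ext fun a => by
        change _ ≫ s ≫ v = _ ≫ 𝟙 _
        refine (Category.assoc _ _ _).symm.trans ((congrArg (· ≫ v) (hs a)).trans ?_)
        refine Eq.trans ?_ (Category.comp_id _).symm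
        rw [hg]
        change ((a • (rep κ (one A)).η (1 : A) : KHom κ _) : K ⟶ _) = _
        rw [← map_smul]
        exact congrArg _ (mul_one a)
      inv_hom_id := h1 }
  refine ⟨functor κ, preservesFiniteColimits_functor κ, e, fun a => (rep κ (one A)).ext fun x => ?_⟩
  change _ ≫ (functor κ).map _ ≫ s = _ ≫ s ≫ κ a
  refine (Category.assoc _ _ _).symm.trans ((congrArg (· ≫ s) (η_map κ _ x)).trans ((hs _).trans ?_))
  refine Eq.trans ?_ ((congrArg (fun q => CategoryStruct.comp (obj := B) q (κ a : K ⟶ K))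
    (hs x)).symm.trans (Category.assoc _ _ _))
  rw [hg, hg]
  change (κ (a * x) : K ⟶ K) = (κ x : K ⟶ K) ≫ (κ a : K ⟶ K)
  rw [mul_comm, kmul κ]

end Groth.Agent.S6725
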