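import Groth.Statements.S6726
import Groth.Agent.FpMod.RightExact

set_option autoImplicit false
universe u v' u'
open CategoryTheory CategoryTheory.Limits
open FunMor

namespace Groth.Agent.S6726

/-- Full faithfulness of the functor F ↦ (F(A), induced A-action): let A be a commutative ring, B an
additive category with cokernels, and F, F' right exact functors from the category of finitely
presented A-modules to B. Then two natural transformations F ⟶ F' with the same component at A are
equal, and a morphism φ : F(A) ⟶ F'(A) is the component at A of a natural transformation as soon as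
it commutes with F and F' applied to multiplication by every a ∈ A. -/
theorem result
    (A : Type u) [CommRing A] {B : Type u'} [Category.{v'} B] [Preadditive B] [HasFiniteBiproducts B]
    [HasCokernels B] (F F' : (ObjectProperty.FullSubcategory (fun M : ModuleCat.{u} A => Module.FinitePresentation A M)) ⥤ B)
    [PreservesFiniteColimits F] [PreservesFiniteColimits F'] :
    (∀ t t' : F ⟶ F', t.app (⟨ModuleCat.of A A, inferInstance⟩ : (ObjectProperty.FullSubcategory (fun M : ModuleCat.{u} A => Module.FinitePresentation A M))) = t'.app (⟨ModuleCat.of A A, inferInstance⟩ : (ObjectProperty.FullSubcategory (fun M : ModuleCat.{u} A => Module.FinitePresentation A M))) → t = t') ∧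
    ∀ φ : F.obj (⟨ModuleCat.of A A, inferInstance⟩ : (ObjectProperty.FullSubcategory (fun M : ModuleCat.{u} A => Module.FinitePresentation A M))) ⟶ F'.obj (⟨ModuleCat.of A A, inferInstance⟩ : (ObjectProperty.FullSubcategory (fun M : ModuleCat.{u} A => Module.FinitePresentation A M))),
      (∀ a : A, F.map (ObjectProperty.homMk (ModuleCat.ofHom (LinearMap.lsmul A A a)) : (⟨ModuleCat.of A A, inferInstance⟩ : (ObjectProperty.FullSubcategory (fun M : ModuleCat.{u} A => Module.FinitePresentation A M))) ⟶ (⟨ModuleCat.of A A, inferInstance⟩ : (ObjectProperty.FullSubcategory (fun M : ModuleCat.{u} A => Module.FinitePresentation A M)))) ≫ φ = φ ≫ F'.map (ObjectProperty.homMk (ModuleCat.ofHom (LinearMap.lsmul A A a)) : (⟨ModuleCat.of A A, inferInstance⟩ : (ObjectProperty.FullSubcategory (fun M : ModuleCat.{u} A => Module.FinitePresentation A M))) ⟶ (⟨ModuleCat.of A A, inferInstance⟩ : (ObjectProperty.FullSubcategory (fun M : ModuleCat.{u} A => Module.FinitePresentation A M))))) →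
      ∃ t : F ⟶ F', t.app (⟨ModuleCat.of A A, inferInstance⟩ : (ObjectProperty.FullSubcategory (fun M : ModuleCat.{u} A => Module.FinitePresentation A M))) = φ := by
  open Groth.Agent.FpMod.Basic Groth.Agent.FpMod.RightExact in
  refine ⟨fun t t' h => ?_, fun φ hφ => ?_⟩
  · ext G : 2
    exact hom_ext F fun x => by rw [t.naturality (hat x), t'.naturality (hat x), h]
  · haveI := additive_of_rightExact F
    haveI := additive_of_rightExact F'
    have key : ∀ G : FP A, ∃ s : F.obj G ⟶ F'.obj G,
        ∀ x : G.obj, F.map (hat x) ≫ s = φ ≫ F'.map (hat x) := fun G =>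
      exists_desc F (G := G) (T := F'.obj G)
        (AddMonoidHom.mk' (fun x => φ ≫ F'.map (hat x)) fun x y => by
          rw [hat_add, F'.map_add, Preadditive.comp_add])
        (fun a x => by
          simp only [AddMonoidHom.mk'_apply]
          rw [hat_smul, F'.map_comp, ← reassoc_of% (hφ a)])
    choose s hs using key
    refine ⟨{ app := s, naturality := fun G H f => hom_ext F fun x => ?_ }, ?_⟩
    · rw [← F.map_comp_assoc, hat_comp, hs, reassoc_of% (hs G x), ← F'.map_comp, hat_comp]
    · have h1 : hat (G := one A) (1 : A) = 𝟙 (one A) := by
        ext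
        simp
      have := hs (one A) (1 : A)
      rw [h1, F.map_id, F'.map_id, Category.id_comp, Category.comp_id] at this
      exact this

end Groth.Agent.S6726
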