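import Groth.Statements.S6727
import Groth.Agent.FpMod.Ind
import Groth.Agent.FpMod.RightExact
import Mathlib.CategoryTheory.Preadditive.LeftExact
import Mathlib.Algebra.Category.ModuleCat.AB
import Mathlib.CategoryTheory.Limits.Preserves.FunctorCategory

set_option autoImplicit false
universe u v' u'
open CategoryTheory CategoryTheory.Limits
open FunMor

namespace Groth.Agent.S6727

section Coherent

variable {A : Type u} [CommRing A]

/-- Every finitely generated submodule is finitely presented. -/
def Coh (A : Type u) [CommRing A] (M : Type u) [AddCommGroup M] [Module A M] : Prop :=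
  ∀ N : Submodule A M, N.FG → Module.FinitePresentation A N

lemma Coh.of_injective {M M' : Type u} [AddCommGroup M] [Module A M] [AddCommGroup M'] [Module A M']
    (h : Coh A M') (i : M →ₗ[A] M') (hi : Function.Injective i) : Coh A M := fun N hN => by
  have := h (N.map i) (hN.map i)
  let e := (Submodule.equivMapOfInjective i hi N).symm
  exact Module.FinitePresentation.of_equiv e

lemma Coh.prod {M M' : Type u} [AddCommGroup M] [Module A M] [AddCommGroup M'] [Module A M']
    (h : Coh A M) (h' : Coh A M') : Coh A (M × M') := fun N hN => by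
  have : Module.Finite A N := Module.Finite.of_fg hN
  let l : N →ₗ[A] M' := LinearMap.snd A M M' ∘ₗ N.subtype
  have := h' (LinearMap.range l) (Submodule.fg_range l)
  have hk : (LinearMap.ker l.rangeRestrict).FG :=
    Module.FinitePresentation.fg_ker _ l.surjective_rangeRestrict
  haveI : Module.Finite A (LinearMap.ker l.rangeRestrict) := Module.Finite.of_fg hk
  let i : LinearMap.ker l.rangeRestrict →ₗ[A] M :=
    LinearMap.fst A M M' ∘ₗ N.subtype ∘ₗ (LinearMap.ker l.rangeRestrict).subtype
  have hi : Function.Injective i := fun x y hxy => by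
    have hx : l x.1 = 0 := congrArg Subtype.val (LinearMap.mem_ker.1 x.2)
    have hy : l y.1 = 0 := congrArg Subtype.val (LinearMap.mem_ker.1 y.2)
    exact Subtype.ext (Subtype.ext (Prod.ext hxy (hx.trans hy.symm)))
  have := h (LinearMap.range i) (Submodule.fg_range i)
  let Kl : Submodule A N := LinearMap.ker l.rangeRestrict
  let i' : Kl →ₗ[A] M := i
  have h3 : Module.FinitePresentation A (LinearMap.range i') := this
  have : Module.FinitePresentation A Kl :=
    Module.FinitePresentation.of_equiv (R := A) (M := LinearMap.range i') (N := Kl)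
      (LinearEquiv.ofInjective i' hi).symm
  exact Module.finitePresentation_of_ker _ l.surjective_rangeRestrict

variable (hcoh : ∀ I : Ideal A, I.FG → Module.FinitePresentation A I)
include hcoh

lemma coh_free : ∀ n : ℕ, Coh A (Fin n → A)
  | 0 => fun N _ => by
    have : N = ⊥ := Subsingleton.elim _ _
    subst this
    exact Module.finitePresentation_of_projective _ _
  | n + 1 => by
    have h1 : Coh A A := fun I hI => hcoh I hI
    exact (h1.prod (coh_free n)).of_injective (Fin.consLinearEquiv A (fun _ => A)).symm.toLinearMap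
      (LinearEquiv.injective _)

lemma coh_fp (M : Type u) [AddCommGroup M] [Module A M] [Module.FinitePresentation A M] :
    Coh A M := fun N hN => by
  obtain ⟨n, p, hp⟩ := Module.Finite.exists_fin' A M
  have hk := Module.FinitePresentation.fg_ker p hp
  have hP : (N.comap p).FG := by
    apply Submodule.fg_of_fg_map_of_fg_inf_ker p
    · rwa [Submodule.map_comap_eq_of_surjective hp]
    · rwa [inf_eq_right.2 (LinearMap.ker_le_comap p)]
  have := coh_free hcoh n _ hP
  let q : N.comap p →ₗ[A] N := p.restrict fun x hx => hx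
  refine Module.finitePresentation_of_surjective q (fun y => ?_) ?_
  · obtain ⟨x, hx⟩ := hp y
    exact ⟨⟨x, by simp [hx]⟩, Subtype.ext hx⟩
  · have hq : LinearMap.ker q = (LinearMap.ker p).comap (N.comap p).subtype := by
      ext x
      simp [q, Subtype.ext_iff]
    refine Submodule.fg_of_fg_map_injective (N.comap p).subtype (Submodule.injective_subtype _) ?_
    rwa [hq, Submodule.map_comap_eq, Submodule.range_subtype,
      inf_eq_right.2 (LinearMap.ker_le_comap p)]

lemma finitePresentation_ker {M M' : Type u} [AddCommGroup M] [Module A M] [AddCommGroup M']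
    [Module A M'] [Module.FinitePresentation A M] [Module.FinitePresentation A M']
    (l : M →ₗ[A] M') : Module.FinitePresentation A (LinearMap.ker l) := by
  have := coh_fp hcoh M' _ (Submodule.fg_range l)
  have h := Module.FinitePresentation.fg_ker _ l.surjective_rangeRestrict
  rw [LinearMap.ker_rangeRestrict] at h
  exact coh_fp hcoh M _ h

end Coherent

section Arrows
open Groth.Agent.FpMod.Basic Groth.Agent.FpMod

variable {A : Type u} [CommRing A] {X Y : ModuleCat.{u} A} (f : X ⟶ Y)

/-- Maps of finitely presented modules over `f`. -/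
abbrev Sq : Type _ := CostructuredArrow (fp A).ι.mapArrow (Arrow.mk f)

/-- A square. -/
abbrev Sq.mk' {G H : FP A} (k : G ⟶ H) (a : G.obj ⟶ X) (b : H.obj ⟶ Y)
    (h : a ≫ f = k.hom ≫ b) : Sq f :=
  CostructuredArrow.mk (Y := Arrow.mk k) (Arrow.homMk a b h)

/-- The source. -/
abbrev π₁ : Sq f ⥤ CostructuredArrow (fp A).ι X where
  obj j := CostructuredArrow.mk (Y := j.left.left) j.hom.left
  map φ := CostructuredArrow.homMk φ.left.left (congrArg CommaMorphism.left (CostructuredArrow.w φ))

/-- The target. -/
abbrev π₂ : Sq f ⥤ CostructuredArrow (fp A).ι Y where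
  obj j := CostructuredArrow.mk (Y := j.left.right) j.hom.right
  map φ := CostructuredArrow.homMk φ.left.right
    (congrArg CommaMorphism.right (CostructuredArrow.w φ))

lemma sq_w (j : Sq f) : j.hom.left ≫ f = j.left.hom.hom ≫ j.hom.right := j.hom.w

/-- Complete the source datum to a square receiving compatible maps. -/
lemma exists_under {x : CostructuredArrow (fp A).ι X} {j : Sq f} (t : (π₁ f).obj j ⟶ x) :
    ∃ (j' : Sq f) (φ : j ⟶ j') (e : x ⟶ (π₁ f).obj j'), (π₁ f).map φ = t ≫ e := by
  let x' : CostructuredArrow (fp A).ι Y := CostructuredArrow.mk (Y := x.left) (x.hom ≫ f)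
  let y := IsFiltered.max ((π₂ f).obj j) x'
  let q := IsFiltered.leftToMax ((π₂ f).obj j) x'
  let k := IsFiltered.rightToMax ((π₂ f).obj j) x'
  let z : CostructuredArrow (fp A).ι Y := CostructuredArrow.mk (Y := j.left.left) (j.hom.left ≫ f)
  have ht : t.left.hom ≫ x.hom = j.hom.left := CostructuredArrow.w t
  let m₁ : z ⟶ y := CostructuredArrow.homMk (t.left ≫ k.left) (by
    change (t.left.hom ≫ k.left.hom) ≫ y.hom = j.hom.left ≫ f
    rw [Category.assoc, show k.left.hom ≫ y.hom = x.hom ≫ f from CostructuredArrow.w k]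
    exact (Category.assoc _ _ _).symm.trans (congrArg (· ≫ f) ht))
  let m₂ : z ⟶ y := CostructuredArrow.homMk (j.left.hom ≫ q.left) (by
    change (j.left.hom.hom ≫ q.left.hom) ≫ y.hom = j.hom.left ≫ f
    rw [Category.assoc, show q.left.hom ≫ y.hom = j.hom.right from CostructuredArrow.w q, sq_w])
  let y' := IsFiltered.coeq m₁ m₂
  let c := IsFiltered.coeqHom m₁ m₂
  have hc : t.left ≫ k.left ≫ c.left = j.left.hom ≫ q.left ≫ c.left := by
    have := congrArg CommaMorphism.left (IsFiltered.coeq_condition m₁ m₂)
    simpa [m₁, m₂] using this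
  let j' : Sq f := Sq.mk' f (k.left ≫ c.left) x.hom y'.hom (by
    change x.hom ≫ f = (k.left.hom ≫ c.left.hom) ≫ y'.hom
    rw [Category.assoc, show c.left.hom ≫ y'.hom = y.hom from CostructuredArrow.w c,
      show k.left.hom ≫ y.hom = x.hom ≫ f from CostructuredArrow.w k])
  refine ⟨j', CostructuredArrow.homMk (Arrow.homMk t.left (q.left ≫ c.left) hc) ?_, 𝟙 x, ?_⟩
  · ext1
    · exact ht
    · change (q.left.hom ≫ c.left.hom) ≫ y'.hom = j.hom.right
      rw [Category.assoc, show c.left.hom ≫ y'.hom = y.hom from CostructuredArrow.w c]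
      exact CostructuredArrow.w q
  · ext1
    exact (Category.comp_id _).symm

/-- Push a square along a map of its target. -/
lemma exists_under₂ {y : CostructuredArrow (fp A).ι Y} {j : Sq f} (t : (π₂ f).obj j ⟶ y) :
    ∃ (j' : Sq f) (φ : j ⟶ j') (e : y ⟶ (π₂ f).obj j'), (π₂ f).map φ = t ≫ e := by
  refine ⟨Sq.mk' f (j.left.hom ≫ t.left) j.hom.left y.hom (by
    change j.hom.left ≫ f = (j.left.hom.hom ≫ t.left.hom) ≫ y.hom
    rw [Category.assoc, show t.left.hom ≫ y.hom = j.hom.right from CostructuredArrow.w t, sq_w]),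
    CostructuredArrow.homMk (Arrow.homMk (𝟙 _) t.left (Category.id_comp _)) ?_, 𝟙 y, ?_⟩
  · ext1
    · exact Category.id_comp _
    · exact CostructuredArrow.w t
  · ext1
    exact (Category.comp_id _).symm

lemma isFiltered_sq : IsFiltered (Sq f) := by
  have : IsFilteredOrEmpty (Sq f) := by
    refine ⟨fun i j => ?_, fun i j u v => ?_⟩
    · let x := IsFiltered.max ((π₁ f).obj i) ((π₁ f).obj j)
      obtain ⟨i', φ, e, he⟩ := exists_under f (IsFiltered.leftToMax ((π₁ f).obj i) ((π₁ f).obj j))
      let b := IsFiltered.rightToMax ((π₁ f).obj i) ((π₁ f).obj j) ≫ e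
      let y := IsFiltered.max ((π₂ f).obj i') ((π₂ f).obj j)
      let q := IsFiltered.leftToMax ((π₂ f).obj i') ((π₂ f).obj j)
      let r := IsFiltered.rightToMax ((π₂ f).obj i') ((π₂ f).obj j)
      let z : CostructuredArrow (fp A).ι Y := CostructuredArrow.mk (Y := j.left.left) (j.hom.left ≫ f)
      have hb : b.left.hom ≫ i'.hom.left = j.hom.left := CostructuredArrow.w b
      let m₁ : z ⟶ y := CostructuredArrow.homMk (b.left ≫ i'.left.hom ≫ q.left) (by
        change (b.left.hom ≫ i'.left.hom.hom ≫ q.left.hom) ≫ y.hom = j.hom.left ≫ f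
        rw [Category.assoc, Category.assoc,
          show q.left.hom ≫ y.hom = i'.hom.right from CostructuredArrow.w q]
        exact (congrArg (b.left.hom ≫ ·) (sq_w f i').symm).trans
          ((Category.assoc _ _ _).symm.trans (congrArg (· ≫ f) hb)))
      let m₂ : z ⟶ y := CostructuredArrow.homMk (j.left.hom ≫ r.left) (by
        change (j.left.hom.hom ≫ r.left.hom) ≫ y.hom = j.hom.left ≫ f
        rw [Category.assoc, show r.left.hom ≫ y.hom = j.hom.right from CostructuredArrow.w r, sq_w])
      let c := IsFiltered.coeqHom m₁ m₂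
      have hy : c.left.hom ≫ (IsFiltered.coeq m₁ m₂).hom = y.hom := CostructuredArrow.w c
      let t : (π₂ f).obj i' ⟶ IsFiltered.coeq m₁ m₂ := q ≫ c
      let j' : Sq f := Sq.mk' f (i'.left.hom ≫ t.left) i'.hom.left (IsFiltered.coeq m₁ m₂).hom (by
        change i'.hom.left ≫ f = (i'.left.hom.hom ≫ t.left.hom) ≫ _
        rw [Category.assoc, show t.left.hom ≫ _ = i'.hom.right from CostructuredArrow.w t, sq_w])
      have hc : b.left ≫ i'.left.hom ≫ t.left = j.left.hom ≫ r.left ≫ c.left := by
        have := congrArg CommaMorphism.left (IsFiltered.coeq_condition m₁ m₂)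
        simpa [m₁, m₂, t] using this
      refine ⟨j', φ ≫ CostructuredArrow.homMk
          (Arrow.homMk (𝟙 _) t.left (Category.id_comp _)) ?_,
        CostructuredArrow.homMk (Arrow.homMk b.left (r.left ≫ c.left) hc) ?_, trivial⟩
      · ext1
        · exact Category.id_comp _
        · exact CostructuredArrow.w t
      · ext1
        · exact hb
        · exact CostructuredArrow.w (r ≫ c)
    · obtain ⟨j₁, φ, e, he⟩ := exists_under f (IsFiltered.coeqHom ((π₁ f).map u) ((π₁ f).map v))
      obtain ⟨j₂, ψ, e', he'⟩ := exists_under₂ f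
        (IsFiltered.coeqHom ((π₂ f).map (u ≫ φ)) ((π₂ f).map (v ≫ φ)))
      have h₁ : (π₁ f).map (u ≫ φ) = (π₁ f).map (v ≫ φ) := by
        rw [Functor.map_comp, Functor.map_comp, he, ← Category.assoc, ← Category.assoc,
          IsFiltered.coeq_condition]
      have h₂ : (π₂ f).map (u ≫ φ ≫ ψ) = (π₂ f).map (v ≫ φ ≫ ψ) := by
        rw [← Category.assoc, ← Category.assoc, Functor.map_comp, Functor.map_comp _ _ ψ, he',
          ← Category.assoc, ← Category.assoc, IsFiltered.coeq_condition]
      refine ⟨j₂, φ ≫ ψ, ?_⟩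
      apply CostructuredArrow.hom_ext
      ext1
      · have := congrArg CommaMorphism.left h₁
        change (u ≫ φ).left.left ≫ ψ.left.left = (v ≫ φ).left.left ≫ ψ.left.left
        exact congrArg (· ≫ ψ.left.left) this
      · exact congrArg CommaMorphism.left h₂
  have : Nonempty (Sq f) := ⟨Sq.mk' f (𝟙 (free A 0)) 0 0 (by simp)⟩
  exact ⟨⟩

lemma final_π₁ : (π₁ f).Final := by
  haveI := isFiltered_sq f
  refine Functor.final_of_exists_of_isFiltered _ (fun d => ?_) (fun {d j} s s' => ?_)
  · exact ⟨Sq.mk' f (𝟙 d.left) d.hom (d.hom ≫ f) (Category.id_comp _).symm,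
      ⟨CostructuredArrow.homMk (𝟙 d.left) (Category.id_comp _)⟩⟩
  · obtain ⟨j', φ, e, he⟩ := exists_under f (IsFiltered.coeqHom s s')
    exact ⟨j', φ, by rw [he, ← Category.assoc, ← Category.assoc, IsFiltered.coeq_condition]⟩

lemma final_π₂ : (π₂ f).Final := by
  haveI := isFiltered_sq f
  refine Functor.final_of_exists_of_isFiltered _ (fun d => ?_) (fun {d j} s s' => ?_)
  · exact ⟨Sq.mk' f (0 : free A 0 ⟶ d.left) 0 d.hom (by simp),
      ⟨CostructuredArrow.homMk (𝟙 d.left) (Category.id_comp _)⟩⟩
  · obtain ⟨j', φ, e, he⟩ := exists_under₂ f (IsFiltered.coeqHom s s')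
    exact ⟨j', φ, by rw [he, ← Category.assoc, ← Category.assoc, IsFiltered.coeq_condition]⟩

lemma essentiallySmall_sq : EssentiallySmall.{u} (Sq f) := by
  haveI : EssentiallySmall.{u} (Arrow (FP A)) := by
    rw [essentiallySmall_congr ((equivSmallModel.{u} (FP A)).functor.mapArrow.asEquivalence)]
    exact essentiallySmallSelf _
  infer_instance

lemma exists_smallDiagram :
    ∃ (S : Type u) (_ : SmallCategory S) (_ : IsFiltered S) (G H : S ⥤ FP A) (k : G ⟶ H)
      (a : colimit (G ⋙ (fp A).ι) ≅ X) (b : colimit (H ⋙ (fp A).ι) ≅ Y),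
      colim.map (Functor.whiskerRight k (fp A).ι) ≫ b.hom = a.hom ≫ f := by
  haveI := isFiltered_sq f
  haveI := final_π₁ f
  haveI := final_π₂ f
  haveI := essentiallySmall_sq f
  let e := equivSmallModel.{u} (Sq f)
  haveI : IsFiltered (SmallModel.{u} (Sq f)) := IsFiltered.of_equivalence e
  let G := e.inverse ⋙ π₁ f ⋙ CostructuredArrow.proj (fp A).ι X
  let H := e.inverse ⋙ π₂ f ⋙ CostructuredArrow.proj (fp A).ι Y
  let k : G ⟶ H :=
    { app := fun s => (e.inverse.obj s).left.hom
      naturality := fun s s' φ => (e.inverse.map φ).left.w }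
  let hX := (Functor.Final.isColimitWhiskerEquiv (F := e.inverse ⋙ π₁ f) _).symm
    ((fp A).ι.denseAt X)
  let hY := (Functor.Final.isColimitWhiskerEquiv (F := e.inverse ⋙ π₂ f) _).symm
    ((fp A).ι.denseAt Y)
  let a : colimit (G ⋙ (fp A).ι) ≅ X :=
    IsColimit.coconePointUniqueUpToIso (colimit.isColimit (G ⋙ (fp A).ι)) hX
  let b : colimit (H ⋙ (fp A).ι) ≅ Y :=
    IsColimit.coconePointUniqueUpToIso (colimit.isColimit (H ⋙ (fp A).ι)) hY
  refine ⟨_, inferInstance, inferInstance, G, H, k, a, b, colimit.hom_ext fun s => ?_⟩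
  have ha : colimit.ι (G ⋙ (fp A).ι) s ≫ a.hom = (e.inverse.obj s).hom.left :=
    (IsColimit.comp_coconePointUniqueUpToIso_hom _ hX s).trans (Category.id_comp _)
  have hb : colimit.ι (H ⋙ (fp A).ι) s ≫ b.hom = (e.inverse.obj s).hom.right :=
    (IsColimit.comp_coconePointUniqueUpToIso_hom _ hY s).trans (Category.id_comp _)
  change colimit.ι _ s ≫ colimMap _ ≫ b.hom = _
  rw [ι_colimMap_assoc, hb, reassoc_of% ha]
  exact (sq_w f (e.inverse.obj s)).symm

end Arrows

section Kernels
open Groth.Agent.FpMod.Basic Groth.Agent.FpMod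

variable {A : Type u} [CommRing A] (hcoh : ∀ I : Ideal A, I.FG → Module.FinitePresentation A I)
    {B : Type u'} [Category.{v'} B] [Preadditive B] [HasKernels B]
    [HasFilteredColimitsOfSize.{u, u} B]
    (hcomm : ∀ (J : Type u) [SmallCategory J] [IsFiltered J],
      PreservesLimitsOfShape WalkingParallelPair (colim : (J ⥤ B) ⥤ B))
    (F₁ : ModuleCat.{u} A ⥤ B) [PreservesFilteredColimitsOfSize.{u, u} F₁]
    [PreservesFiniteLimits ((fp A).ι ⋙ F₁)]

include hcoh in
omit [HasKernels B] [HasFilteredColimitsOfSize.{u, u} B]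
  [PreservesFilteredColimitsOfSize.{u, u} F₁] [Preadditive B] in
lemma preservesKernel_fp {G H : FP A} (k : G ⟶ H) :
    PreservesLimit (parallelPair k.hom 0) F₁ := by
  have hP : Module.FinitePresentation A (LinearMap.ker k.hom.hom) := by
    have := G.property
    have := H.property
    exact finitePresentation_ker hcoh k.hom.hom
  let K : FP A := ⟨ModuleCat.of A (LinearMap.ker k.hom.hom), hP⟩
  let i : K ⟶ G := ObjectProperty.homMk (ModuleCat.ofHom (LinearMap.ker k.hom.hom).subtype)
  have hi : i ≫ k = 0 := by
    ext x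
    exact x.2
  let c : Cone (parallelPair k (0 : G ⟶ H)) := KernelFork.ofι i hi
  have h₀ : IsLimit ((fp A).ι.mapCone c) :=
    (KernelFork.isLimitMapConeEquiv (KernelFork.ofι i hi) (fp A).ι).symm
      (IsLimit.ofIsoLimit (ModuleCat.kernelIsLimit k.hom) (Fork.ext (Iso.refl _) rfl))
  have h₁ : IsLimit c := isLimitOfReflects (fp A).ι h₀
  have h₂ : IsLimit (F₁.mapCone ((fp A).ι.mapCone c)) := isLimitOfPreserves ((fp A).ι ⋙ F₁) h₁
  haveI : PreservesLimit (parallelPair k 0 ⋙ (fp A).ι) F₁ :=
    preservesLimit_of_preserves_limit_cone h₀ h₂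
  exact preservesLimit_of_iso_diagram F₁
    (parallelPair.ext (F := parallelPair k 0 ⋙ (fp A).ι) (G := parallelPair k.hom 0)
      (Iso.refl _) (Iso.refl _) (by simp) (by simp))

omit [Preadditive B] [HasKernels B] [HasFilteredColimitsOfSize.{u, u} B]
  [PreservesFilteredColimitsOfSize.{u, u} F₁] in
include hcoh in
lemma preservesKernel_functor {S : Type u} [SmallCategory S] {G H : S ⥤ FP A} (k : G ⟶ H) :
    PreservesLimit (parallelPair (Functor.whiskerRight k (fp A).ι) 0)
      ((Functor.whiskeringRight S (ModuleCat.{u} A) B).obj F₁) := by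
  refine ⟨fun {c} hc => ⟨evaluationJointlyReflectsLimits _ fun s => ?_⟩⟩
  haveI := preservesKernel_fp hcoh F₁ (k.app s)
  haveI : PreservesLimit (parallelPair (Functor.whiskerRight k (fp A).ι) 0 ⋙
      (evaluation S (ModuleCat.{u} A)).obj s) F₁ :=
    preservesLimit_of_iso_diagram F₁ (K₁ := parallelPair (k.app s).hom 0)
      (parallelPair.ext (F := parallelPair (k.app s).hom 0)
        (G := parallelPair (Functor.whiskerRight k (fp A).ι) 0 ⋙
          (evaluation S (ModuleCat.{u} A)).obj s)
        (Iso.refl _) (Iso.refl _) (by simp) (by simp))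
  change IsLimit (((evaluation _ _).obj s ⋙ F₁).mapCone c)
  exact isLimitOfPreserves _ hc

omit [Preadditive B] [HasKernels B] in
include hcoh hcomm in
lemma preservesKernel {X Y : ModuleCat.{u} A} (f : X ⟶ Y) :
    PreservesLimit (parallelPair f 0) F₁ := by
  obtain ⟨S, _, _, G, H, k, a, b, hab⟩ := exists_smallDiagram f
  let k' := Functor.whiskerRight k (fp A).ι
  haveI := preservesKernel_functor hcoh F₁ k
  haveI := hcomm S
  haveI : PreservesLimit (parallelPair k' 0)
      ((Functor.whiskeringRight S (ModuleCat.{u} A) B).obj F₁ ⋙ colim) := inferInstance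
  haveI : PreservesLimit (parallelPair k' 0) (colim ⋙ F₁) :=
    preservesLimit_of_natIso _ (preservesColimitNatIso F₁ (J := S)).symm
  haveI : PreservesFiniteLimits (colim (J := S) (C := ModuleCat.{u} A)) :=
    HasExactColimitsOfShape.preservesFiniteLimits
  haveI : PreservesLimit (parallelPair k' 0 ⋙ colim) F₁ :=
    preservesLimit_of_preserves_limit_cone
      (isLimitOfPreserves colim (limit.isLimit (parallelPair k' 0)))
      (isLimitOfPreserves (colim ⋙ F₁) (limit.isLimit (parallelPair k' 0)))
  have h0 : colim.map (0 : G ⋙ (fp A).ι ⟶ H ⋙ (fp A).ι) = 0 := by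
    apply colimit.hom_ext
    intro s
    simp
  exact preservesLimit_of_iso_diagram F₁
    (parallelPair.ext (F := parallelPair k' 0 ⋙ colim) (G := parallelPair f 0) a b hab
      (by change colim.map 0 ≫ b.hom = a.hom ≫ 0; rw [h0, zero_comp, comp_zero]))

end Kernels

/-- Let A be a coherent commutative ring (every finitely generated ideal of A is a finitely presented
A-module) and B an additive category with kernels and filtered colimits in which filtered colimits
commute with kernels (equivalently with equalizers). Let F' be a functor from A-modules to B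
commuting with filtered colimits whose restriction to the full subcategory of finitely presented
A-modules is left exact. Then F' is additive and left exact, and it preserves all small direct sums. -/
theorem result
    (A : Type u) [CommRing A] (hcoh : ∀ I : Ideal A, I.FG → Module.FinitePresentation A I)
    {B : Type u'} [Category.{v'} B] [Preadditive B] [HasFiniteBiproducts B]
    [HasKernels B] [HasFilteredColimitsOfSize.{u, u} B]
    (hcomm : ∀ (J : Type u) [SmallCategory J] [IsFiltered J],
      PreservesLimitsOfShape WalkingParallelPair (colim : (J ⥤ B) ⥤ B))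
    (F' : ModuleCat.{u} A ⥤ B) [PreservesFilteredColimitsOfSize.{u, u} F']
    [PreservesFiniteLimits (ObjectProperty.ι (fun M : ModuleCat.{u} A => Module.FinitePresentation A M) ⋙ F')] :
    F'.Additive ∧ PreservesFiniteLimits F' ∧
      ∀ J : Type u, PreservesColimitsOfShape (Discrete J) F' := by
  haveI : Functor.Additive ((Groth.Agent.FpMod.Basic.fp A).ι ⋙ F') := by
    haveI : HasZeroObject B := hasZeroObject_of_hasFiniteBiproducts _
    haveI : HasFiniteProducts (Groth.Agent.FpMod.Basic.FP A) := inferInstance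
    haveI : ((Groth.Agent.FpMod.Basic.fp A).ι ⋙ F').PreservesZeroMorphisms :=
      Functor.preservesZeroMorphisms_of_preserves_terminal_object
    haveI : PreservesBinaryBiproducts ((Groth.Agent.FpMod.Basic.fp A).ι ⋙ F') :=
      ⟨fun {_ _} => preservesBinaryBiproduct_of_preservesBinaryProduct _⟩
    exact Functor.additive_of_preservesBinaryBiproducts _
  haveI := Groth.Agent.FpMod.Ind.additive F'
  haveI : HasZeroObject B := hasZeroObject_of_hasFiniteBiproducts _
  haveI : ∀ {X Y : ModuleCat.{u} A} (f : X ⟶ Y), PreservesLimit (parallelPair f 0) F' :=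
    fun f => preservesKernel hcoh hcomm F' f
  exact ⟨inferInstance, F'.preservesFiniteLimits_of_preservesKernels,
    fun J => Groth.Agent.FpMod.Ind.preservesCoproducts F' J⟩

end Groth.Agent.S6727
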