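import Groth.Statements.S6729
import Groth.Agent.DEq.BoxSurj
import Groth.Agent.S6717
import Groth.Agent.ProperFin.FiniteMap
import Groth.Agent.HomShQC.Basic
import Groth.Agent.VBLib.Basic
import Groth.Agent.CohDev.Coh
import Groth.Agent.KFlat.TensorLocFree
import Groth.Agent.KFlat.LocFree
import Mathlib.CategoryTheory.Abelian.Projective.Resolution
-- import your own Groth.Agent.* helpers here

set_option autoImplicit false
universe u
open CategoryTheory AlgebraicGeometry
open DEquiv

namespace Groth.Agent.S6729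

section
open CategoryTheory.Limits

variable {A : Type*} [Category A] [Abelian A] {P Q : A → Prop}
  (h : ∀ K, P K → ∃ (B : A) (p : B ⟶ K), Epi p ∧ Q B ∧ P (kernel p)) {Z : A}

/-- A stage of the resolution. -/
structure Stage (h : ∀ K, P K → ∃ (B : A) (p : B ⟶ K), Epi p ∧ Q B ∧ P (kernel p)) where
  K : A
  hK : P K

variable {h}

noncomputable def Stage.B (s : Stage h) : A := (h s.K s.hK).choose

noncomputable def Stage.p (s : Stage h) : s.B ⟶ s.K := (h s.K s.hK).choose_spec.choose

theorem Stage.spec (s : Stage h) : Epi s.p ∧ Q s.B ∧ P (kernel s.p) :=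
  (h s.K s.hK).choose_spec.choose_spec

noncomputable def Stage.next (s : Stage h) : Stage h := ⟨kernel s.p, s.spec.2.2⟩

noncomputable def stage (h : ∀ K, P K → ∃ (B : A) (p : B ⟶ K), Epi p ∧ Q B ∧ P (kernel p)) (hZ : P Z) : ℕ → Stage h
  | 0 => ⟨Z, hZ⟩
  | n + 1 => (stage h hZ n).next

theorem exists_resolution (h : ∀ K, P K → ∃ (B : A) (p : B ⟶ K), Epi p ∧ Q B ∧ P (kernel p)) (hZ : P Z) :
    ∃ (C : ChainComplex A ℕ) (π : C ⟶ (ChainComplex.single₀ A).obj Z),
      QuasiIso π ∧ ∀ n, Q (C.X n) := by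
  let s := stage h hZ
  let d : ∀ n, (s (n + 1)).B ⟶ (s n).B := fun n => (s n).next.p ≫ kernel.ι (s n).p
  have hd : ∀ n, d n ≫ (s n).p = 0 := fun n =>
    (Category.assoc _ _ _).trans ((congrArg _ (kernel.condition _)).trans comp_zero)
  have hex : ∀ n, (ShortComplex.mk (d n) (s n).p (hd n)).Exact := fun n => by
    have : Epi (s n).next.p := (s n).next.spec.1
    let φ : ShortComplex.mk (d n) (s n).p (hd n) ⟶
        ShortComplex.mk (kernel.ι (s n).p) (s n).p (kernel.condition _) :=
      { τ₁ := (s n).next.p, τ₂ := 𝟙 _, τ₃ := 𝟙 _ }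
    have : Epi φ.τ₁ := (s n).next.spec.1
    have : IsIso φ.τ₂ := inferInstanceAs (IsIso (𝟙 _))
    have : Mono φ.τ₃ := inferInstanceAs (Mono (𝟙 _))
    exact (ShortComplex.exact_iff_of_epi_of_isIso_of_mono φ).2
      (ShortComplex.exact_of_f_is_kernel _ (kernelIsKernel _))
  have hdd : ∀ n, d (n + 1) ≫ d n = 0 := fun n => by
    change d (n + 1) ≫ (s (n + 1)).p ≫ _ = 0
    rw [← Category.assoc, hd (n + 1), zero_comp]
  let C := ChainComplex.of (fun n => (s n).B) d hdd
  have hC : ∀ n, C.d (n + 1) n = d n := fun n => by simp [C, ChainComplex.of_d]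
  refine ⟨C, (ChainComplex.toSingle₀Equiv _ _).symm ⟨(s 0).p, by rw [hC]; exact hd 0⟩,
    ⟨fun n => ?_⟩, fun n => (s n).spec.2.1⟩
  cases n
  · rw [ChainComplex.quasiIsoAt₀_iff, ShortComplex.quasiIso_iff_of_zeros']
    · refine (ShortComplex.exact_and_epi_g_iff_of_iso ?_).2 ⟨hex 0, (s 0).spec.1⟩
      exact ShortComplex.isoMk (Iso.refl _) (Iso.refl _) (Iso.refl _)
        ((Category.id_comp _).trans ((hC 0).symm.trans (Category.comp_id _).symm))
        (by simp [ChainComplex.toSingle₀Equiv]; exact (Category.id_comp _).trans (Category.comp_id _).symm)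
    all_goals rfl
  · rename_i n
    rw [quasiIsoAt_iff_exactAt']
    · rw [HomologicalComplex.exactAt_iff' _ (n + 1 + 1) (n + 1) n (by simp) (by simp)]
      have e : (C.sc' (n + 1 + 1) (n + 1) n) ≅
          ShortComplex.mk (d (n + 1)) (d n) (hdd n) :=
        ShortComplex.isoMk (Iso.refl _) (Iso.refl _) (Iso.refl _)
          ((Category.id_comp _).trans ((hC (n + 1)).symm.trans (Category.comp_id _).symm))
          ((Category.id_comp _).trans ((hC n).symm.trans (Category.comp_id _).symm))
      refine (ShortComplex.exact_iff_of_iso e).2 ?_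
      let φ : ShortComplex.mk (d (n + 1)) (s (n + 1)).p (hd (n + 1)) ⟶
          ShortComplex.mk (d (n + 1)) (d n) (hdd n) :=
        { τ₁ := 𝟙 _, τ₂ := 𝟙 _, τ₃ := kernel.ι (s n).p
          comm₂₃ := by simp [d]; rfl }
      have : Epi φ.τ₁ := inferInstanceAs (Epi (𝟙 _))
      have : IsIso φ.τ₂ := inferInstanceAs (IsIso (𝟙 _))
      have : Mono φ.τ₃ := inferInstanceAs (Mono (kernel.ι _))
      exact (ShortComplex.exact_iff_of_epi_of_isIso_of_mono φ).1 (hex (n + 1))
    · exact ChainComplex.exactAt_succ_single_obj _ _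

end

open CategoryTheory.Limits in
/-- Let R be a Noetherian ring and X a separated scheme of finite type over R which has the resolution
property. Let O_Δ = Δ_* O_X on X ×_R X, where Δ is the diagonal. Then there is a resolution ⋯ ⟶ E_1
⊠ G_1 ⟶ E_0 ⊠ G_0 ⟶ O_Δ ⟶ 0 with every E_i and G_i a finite locally free O_X-module: an ℕ-indexed
chain complex with a quasi-isomorphism to O_Δ in degree 0, each of whose terms is isomorphic to
pr_1^* E_i ⊗ pr_2^* G_i. -/
theorem result
    (R : Type u) [CommRing R] [IsNoetherianRing R] (X : Scheme.{u}) [X.Over (Spec (.of R))]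
    [IsSeparated (X ↘ Spec (.of R))] [LocallyOfFiniteType (X ↘ Spec (.of R))] [CompactSpace X]
    (hX : PerfAux.HasResolutionProperty X) :
    ∃ (C : ChainComplex (pullback (X ↘ Spec (.of R)) (X ↘ Spec (.of R))).Modules ℕ)
      (π : C ⟶ (ChainComplex.single₀ _).obj
        ((Coh.push (pullback.diagonal (X ↘ Spec (.of R)))).obj (Coh.structureModule X))),
      QuasiIso π ∧ ∀ n : ℕ, ∃ (E G : X.Modules), FlatMod.IsFinLocFree E ∧ FlatMod.IsFinLocFree G ∧
        Nonempty (C.X n ≅ CohB1.tensorMod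
          ((Scheme.Modules.pullback (pullback.fst (X ↘ Spec (.of R)) (X ↘ Spec (.of R)))).obj E)
          ((Scheme.Modules.pullback (pullback.snd (X ↘ Spec (.of R)) (X ↘ Spec (.of R)))).obj G)) := by
  let f := X ↘ Spec (.of R)
  haveI : IsLocallyNoetherian X := LocallyOfFiniteType.isLocallyNoetherian f
  haveI : QuasiCompact f := inferInstance
  haveI : QuasiSeparatedSpace X := quasiSeparatedSpace_of_quasiSeparated f
  haveI : IsLocallyNoetherian (pullback f f : Scheme.{u}) :=
    LocallyOfFiniteType.isLocallyNoetherian (pullback.fst f f ≫ f)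
  obtain ⟨C, π, hπ, hC⟩ := exists_resolution (A := (pullback f f : Scheme.{u}).Modules)
    (P := fun K => Coh.IsCoh K)
    (Q := fun B => ∃ (E G : X.Modules), FlatMod.IsFinLocFree E ∧ FlatMod.IsFinLocFree G ∧
      Nonempty (B ≅ CohB1.tensorMod ((Scheme.Modules.pullback (pullback.fst f f)).obj E)
        ((Scheme.Modules.pullback (pullback.snd f f)).obj G))) (fun K hK => by
      obtain ⟨E, G, hE, hG, p, hp⟩ := Groth.Agent.S6717.result R X X hX hX K hK.1 hK.2
      haveI := (Groth.Agent.VBLib.isCoh_of_isFinLocFree hE).1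
      haveI := (Groth.Agent.VBLib.isCoh_of_isFinLocFree hG).1
      exact ⟨_, p, hp, ⟨E, G, hE, hG, ⟨Iso.refl _⟩⟩,
        Groth.Agent.CohDev.isCoh_kernel p (Groth.Agent.VBLib.isCoh_of_isFinLocFree
          (Groth.Agent.KFlat.TensorLocFree.isFinLocFree_tensM
            (Groth.Agent.KFlat.LocFree.isFinLocFree_pull _ hE)
            (Groth.Agent.KFlat.LocFree.isFinLocFree_pull _ hG))) hK.1⟩)
    (Groth.Agent.ProperFin.isCoh_push_of_isFinite (pullback.diagonal f) (Coh.structureModule X)
      Groth.Agent.HomShQC.isCoh_structureModule)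
  exact ⟨C, π, hπ, hC⟩

end Groth.Agent.S6729
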