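import Groth.Statements.S6731
import Groth.Agent.Serre.Basic

set_option autoImplicit false
universe w v u
open CategoryTheory
open DEquiv Groth.Agent.Serre.Basic

namespace Groth.Agent.S6731

open CategoryTheory.Limits CategoryTheory.Pretriangulated in
/-- Let k be a field and T a k-linear triangulated category with dim_k Hom(X, Y) < ∞ for all X, Y. Let
(S, c) and (S', c') be Serre functors: k-linear equivalences T ⥤ T with k-linear isomorphisms
c_{X,Y} : Hom(X, Y) ≅ Hom(Y, S X)^∨ natural in X and Y (likewise c'). Then there is a unique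
isomorphism of functors φ : S ≅ S' compatible with c and c', i.e. c_{X,Y}(f) is c'_{X,Y}(f) composed
with postcomposition by φ_X. -/
theorem result
    {k : Type w} [Field k]
    {T : Type u} [Category.{v} T] [Preadditive T] [Linear k T] [HasZeroObject T] [HasShift T ℤ]
    [∀ n : ℤ, (shiftFunctor T n).Additive] [∀ n : ℤ, (shiftFunctor T n).Linear k] [Pretriangulated T]
    [IsTriangulated T] [∀ X Y : T, Module.Finite k (X ⟶ Y)]
    (S : T ≌ T) [S.functor.Additive] [S.functor.Linear k]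
    (c : ∀ X Y : T, (X ⟶ Y) ≃ₗ[k] Module.Dual k (Y ⟶ S.functor.obj X))
    (hc₁ : ∀ (X Y Y' : T) (f : X ⟶ Y) (g : Y ⟶ Y'),
      c X Y' (f ≫ g) = (c X Y f) ∘ₗ Linear.leftComp k (S.functor.obj X) g)
    (hc₂ : ∀ (X' X Y : T) (a : X' ⟶ X) (f : X ⟶ Y),
      c X' Y (a ≫ f) = (c X Y f) ∘ₗ Linear.rightComp k Y (S.functor.map a))
    (S' : T ≌ T) [S'.functor.Additive] [S'.functor.Linear k]
    (c' : ∀ X Y : T, (X ⟶ Y) ≃ₗ[k] Module.Dual k (Y ⟶ S'.functor.obj X))
    (hc'₁ : ∀ (X Y Y' : T) (f : X ⟶ Y) (g : Y ⟶ Y'),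
      c' X Y' (f ≫ g) = (c' X Y f) ∘ₗ Linear.leftComp k (S'.functor.obj X) g)
    (hc'₂ : ∀ (X' X Y : T) (a : X' ⟶ X) (f : X ⟶ Y),
      c' X' Y (a ≫ f) = (c' X Y f) ∘ₗ Linear.rightComp k Y (S'.functor.map a)) :
    ∃! φ : S.functor ≅ S'.functor, ∀ (X Y : T) (f : X ⟶ Y),
      c X Y f = (c' X Y f) ∘ₗ Linear.rightComp k Y (φ.hom.app X) := by
  have hp : ∀ (X Y Y' : T) (h : Y' ⟶ Y) (g : Y ⟶ S.functor.obj X) (f : X ⟶ Y'),
      flipEquiv (c X Y') (h ≫ g) f = flipEquiv (c X Y) g (f ≫ h) := by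
    intro X Y Y' h g f
    simp only [flipEquiv_apply, hc₁]
    rfl
  have hq : ∀ (X Y Y' : T) (h : Y' ⟶ Y) (g : Y ⟶ S'.functor.obj X) (f : X ⟶ Y'),
      flipEquiv (c' X Y') (h ≫ g) f = flipEquiv (c' X Y) g (f ≫ h) := by
    intro X Y Y' h g f
    simp only [flipEquiv_apply, hc'₁]
    rfl
  choose φ hφ hu using fun X : T => existsUnique_iso (X := X)
    (fun Y => flipEquiv (c X Y)) (fun Y => flipEquiv (c' X Y)) (hp X) (hq X)
  have key : ∀ (X Y : T) (f : X ⟶ Y) (g : Y ⟶ S.functor.obj X),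
      c' X Y f (g ≫ (φ X).hom) = c X Y f g := by
    intro X Y f g
    have := LinearMap.congr_fun (hφ X Y g) f
    simpa using this
  have nat : ∀ {X' X : T} (a : X' ⟶ X),
      S.functor.map a ≫ (φ X).hom = (φ X').hom ≫ S'.functor.map a := by
    intro X' X a
    apply (flipEquiv (c' X (S.functor.obj X'))).injective
    ext f
    simp only [flipEquiv_apply]
    rw [key]
    have h1 := LinearMap.congr_fun (hc₂ X' X _ a f) (𝟙 _)
    have h2 := LinearMap.congr_fun (hc'₂ X' X _ a f) ((φ X').hom)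
    have h3 := key X' _ (a ≫ f) (𝟙 _)
    simp only [LinearMap.comp_apply, Linear.rightComp_apply, Category.id_comp] at h1 h2 h3
    rw [← h1, ← h2, h3]
  refine ⟨NatIso.ofComponents φ nat, fun X Y f => ?_, fun ψ hψ => ?_⟩
  · ext g
    simp [key]
  · apply Iso.ext
    ext X
    have := hu X (ψ.app X) fun Y g => by
      ext f
      simp [hψ X Y f]
    exact congrArg Iso.hom this


end Groth.Agent.S6731
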