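import Groth.Statements.S6732
import Mathlib.LinearAlgebra.Dual.Lemmas
import Mathlib.LinearAlgebra.Prod

set_option autoImplicit false
universe w v u
open CategoryTheory
open DEquiv

namespace Groth.Agent.S6732

section
open CategoryTheory.Limits CategoryTheory.Pretriangulated

variable {k : Type w} [Field k]
    {T : Type u} [Category.{v} T] [Preadditive T] [Linear k T] [HasShift T ℤ]
    [∀ n : ℤ, (shiftFunctor T n).Additive] [∀ n : ℤ, (shiftFunctor T n).Linear k]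
    [∀ X Y : T, Module.Finite k (X ⟶ Y)]
    {S : T ⥤ T}
    (c : ∀ X Y : T, (X ⟶ Y) ≃ₗ[k] Module.Dual k (Y ⟶ S.obj X))

include c

lemma eq_of_forall_pair {X Y : T} {s s' : Y ⟶ S.obj X}
    (h : ∀ t : X ⟶ Y, c X Y t s = c X Y t s') : s = s' := by
  refine sub_eq_zero.1 ((Module.forall_dual_apply_eq_zero_iff k (s - s')).1 fun φ => ?_)
  rw [← (c X Y).apply_symm_apply φ, map_sub, h, sub_self]

lemma exists_pair {X Y : T} (φ : Module.Dual k (X ⟶ Y)) :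
    ∃ s : Y ⟶ S.obj X, ∀ t : X ⟶ Y, c X Y t s = φ t := by
  refine ⟨(Module.evalEquiv k (Y ⟶ S.obj X)).symm (φ ∘ₗ (c X Y).symm.toLinearMap), fun t => ?_⟩
  rw [Module.apply_evalEquiv_symm_apply]
  simp

lemma exists_theta (X : T) :
    ∃ θ : (S.obj X)⟦(1 : ℤ)⟧ ⟶ S.obj (X⟦(1 : ℤ)⟧), ∀ u : X ⟶ S.obj X,
      c _ _ (u⟦(1 : ℤ)⟧') θ = - c X X (𝟙 X) u := by
  let P : (X ⟶ S.obj X) ≃ₗ[k] (X⟦(1 : ℤ)⟧ ⟶ (S.obj X)⟦(1 : ℤ)⟧) :=
    LinearEquiv.ofBijective ((shiftFunctor T (1 : ℤ)).mapLinearMap k)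
      ⟨(shiftFunctor T (1 : ℤ)).map_injective, (shiftFunctor T (1 : ℤ)).map_surjective⟩
  obtain ⟨θ, hθ⟩ := exists_pair c (-((c X X (𝟙 X)) ∘ₗ P.symm.toLinearMap))
  refine ⟨θ, fun u => ?_⟩
  have hu : u⟦(1 : ℤ)⟧' = P u := rfl
  rw [hθ, hu]
  simp

/-- the comparison map `(S X)⟦1⟧ ⟶ S (X⟦1⟧)` -/
noncomputable def theta (X : T) : (S.obj X)⟦(1 : ℤ)⟧ ⟶ S.obj (X⟦(1 : ℤ)⟧) :=
  (exists_theta c X).choose

lemma theta_spec (X : T) (u : X ⟶ S.obj X) :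
    c _ _ (u⟦(1 : ℤ)⟧') (theta c X) = - c X X (𝟙 X) u :=
  (exists_theta c X).choose_spec u

variable (hc₁ : ∀ (X Y Y' : T) (f : X ⟶ Y) (g : Y ⟶ Y'),
      c X Y' (f ≫ g) = (c X Y f) ∘ₗ Linear.leftComp k (S.obj X) g)
    (hc₂ : ∀ (X' X Y : T) (a : X' ⟶ X) (f : X ⟶ Y),
      c X' Y (a ≫ f) = (c X Y f) ∘ₗ Linear.rightComp k Y (S.map a))
include hc₁

omit [∀ n : ℤ, (shiftFunctor T n).Linear k] [HasShift T ℤ]
  [∀ n : ℤ, (shiftFunctor T n).Additive] in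
lemma pair₁ {X Y Y' : T} (f : X ⟶ Y) (g : Y ⟶ Y') (h : Y' ⟶ S.obj X) :
    c X Y' (f ≫ g) h = c X Y f (g ≫ h) := by
  rw [hc₁]; rfl

omit [∀ n : ℤ, (shiftFunctor T n).Linear k] [HasShift T ℤ]
  [∀ n : ℤ, (shiftFunctor T n).Additive] in
lemma pair_eq_tr {X Y : T} (t : X ⟶ Y) (s : Y ⟶ S.obj X) :
    c X Y t s = c X X (𝟙 X) (t ≫ s) := by
  rw [← pair₁ c hc₁, Category.id_comp]

include hc₂

omit [∀ n : ℤ, (shiftFunctor T n).Linear k] [HasShift T ℤ]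
  [∀ n : ℤ, (shiftFunctor T n).Additive] in
lemma pair₂ {X' X Y : T} (a : X' ⟶ X) (f : X ⟶ Y) (h : Y ⟶ S.obj X') :
    c X' Y (a ≫ f) h = c X Y f (h ≫ S.map a) := by
  rw [hc₂]; rfl

omit [∀ n : ℤ, (shiftFunctor T n).Linear k] [HasShift T ℤ]
  [∀ n : ℤ, (shiftFunctor T n).Additive] in
lemma tr_swap {X Y : T} (t : X ⟶ Y) (s : Y ⟶ S.obj X) :
    c X X (𝟙 X) (t ≫ s) = c Y Y (𝟙 Y) (s ≫ S.map t) := by
  rw [← pair_eq_tr c hc₁, ← pair₂ c hc₁ hc₂, Category.comp_id]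

lemma theta_nat {X X' : T} (φ : X ⟶ X') :
    (S.map φ)⟦(1 : ℤ)⟧' ≫ theta c X' = theta c X ≫ S.map (φ⟦(1 : ℤ)⟧') := by
  refine eq_of_forall_pair c fun w => ?_
  obtain ⟨u, rfl⟩ := (shiftFunctor T (1 : ℤ)).map_surjective w
  rw [← pair₁ c hc₁, ← pair₂ c hc₁ hc₂, ← Functor.map_comp, ← Functor.map_comp, theta_spec,
    theta_spec, ← tr_swap c hc₁ hc₂ φ u]

omit hc₂ in
lemma isIso_theta (X : T) : IsIso (theta c X) := by
  refine isIso_of_yoneda_map_bijective _ fun U => ?_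
  obtain ⟨U', ⟨i⟩⟩ : ∃ U', Nonempty (U'⟦(1 : ℤ)⟧ ≅ U) :=
    ⟨_, ⟨(shiftFunctor T (1 : ℤ)).objObjPreimageIso U⟩⟩
  constructor
  · intro s₁ s₂ h
    obtain ⟨a₁, ha₁⟩ := (shiftFunctor T (1 : ℤ)).map_surjective (i.hom ≫ s₁)
    obtain ⟨a₂, ha₂⟩ := (shiftFunctor T (1 : ℤ)).map_surjective (i.hom ≫ s₂)
    have : a₁ = a₂ := by
      refine eq_of_forall_pair c fun t => ?_
      rw [pair_eq_tr c hc₁ t a₁, pair_eq_tr c hc₁ t a₂, ← neg_inj, ← theta_spec, ← theta_spec,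
        Functor.map_comp, Functor.map_comp, pair₁ c hc₁, pair₁ c hc₁, ha₁, ha₂, Category.assoc,
        Category.assoc]
      exact congrArg _ (congrArg (i.hom ≫ ·) h)
    rw [← cancel_epi i.hom, ← ha₁, ← ha₂, this]
  · intro r
    obtain ⟨s', hs'⟩ := exists_pair c (X := X) (Y := U')
      (-((LinearMap.applyₗ (R := k) r) ∘ₗ (c _ U).toLinearMap ∘ₗ
        Linear.rightComp k _ i.hom ∘ₗ (shiftFunctor T (1 : ℤ)).mapLinearMap k))
    refine ⟨i.inv ≫ s'⟦(1 : ℤ)⟧', eq_of_forall_pair c fun v => ?_⟩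
    obtain ⟨t, ht⟩ := (shiftFunctor T (1 : ℤ)).map_surjective (v ≫ i.inv)
    have hv : v = t⟦(1 : ℤ)⟧' ≫ i.hom := by rw [ht]; simp
    dsimp only
    rw [← pair₁ c hc₁, hv]
    simp only [Category.assoc, Iso.hom_inv_id_assoc]
    rw [← Functor.map_comp, theta_spec, ← pair_eq_tr c hc₁, hs']
    simp [Functor.mapLinearMap]

end

section
open CategoryTheory.Limits CategoryTheory.Pretriangulated

variable {k : Type w} [Field k]
    {T : Type u} [Category.{v} T] [Preadditive T] [Linear k T] [HasZeroObject T] [HasShift T ℤ]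
    [∀ n : ℤ, (shiftFunctor T n).Additive] [∀ n : ℤ, (shiftFunctor T n).Linear k]
    [Pretriangulated T] [∀ X Y : T, Module.Finite k (X ⟶ Y)]
    {S : T ⥤ T} [S.Additive] [S.Linear k]
    (c : ∀ X Y : T, (X ⟶ Y) ≃ₗ[k] Module.Dual k (Y ⟶ S.obj X))
    (hc₁ : ∀ (X Y Y' : T) (f : X ⟶ Y) (g : Y ⟶ Y'),
      c X Y' (f ≫ g) = (c X Y f) ∘ₗ Linear.leftComp k (S.obj X) g)
    (hc₂ : ∀ (X' X Y : T) (a : X' ⟶ X) (f : X ⟶ Y),
      c X' Y (a ≫ f) = (c X Y f) ∘ₗ Linear.rightComp k Y (S.map a))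
include hc₁ hc₂

/-- For a distinguished triangle `Δ` and a completion `(S f, g', h')` of `S f` there is a
comparison map `ψ` to `S Δ.obj₃`. -/
lemma exists_comparison (Δ : Triangle T) (hΔ : Δ ∈ distTriang T) {W : T}
    (g' : S.obj Δ.obj₂ ⟶ W) (h' : W ⟶ (S.obj Δ.obj₁)⟦(1 : ℤ)⟧)
    (hW : Triangle.mk (S.map Δ.mor₁) g' h' ∈ distTriang T) :
    ∃ ψ : W ⟶ S.obj Δ.obj₃, g' ≫ ψ = S.map Δ.mor₂ ∧
      ψ ≫ S.map Δ.mor₃ = h' ≫ theta c Δ.obj₁ := by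
  let A : ((Δ.obj₃ ⟶ S.obj Δ.obj₂) × (Δ.obj₁⟦(1 : ℤ)⟧ ⟶ W)) →ₗ[k] (Δ.obj₃ ⟶ W) :=
    LinearMap.coprod (Linear.rightComp k _ g') (Linear.leftComp k _ Δ.mor₃)
  let L : ((Δ.obj₃ ⟶ S.obj Δ.obj₂) × (Δ.obj₁⟦(1 : ℤ)⟧ ⟶ W)) →ₗ[k] k :=
    LinearMap.coprod ((c _ _ (𝟙 Δ.obj₂)) ∘ₗ Linear.leftComp k _ Δ.mor₂)
      ((c _ _ (𝟙 (Δ.obj₁⟦(1 : ℤ)⟧))) ∘ₗ Linear.rightComp k _ (h' ≫ theta c Δ.obj₁))
  have hker : L ∈ (LinearMap.ker A).dualAnnihilator := by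
    rw [Submodule.mem_dualAnnihilator]
    rintro ⟨t, v⟩ htv
    rw [LinearMap.mem_ker] at htv
    change t ≫ g' + Δ.mor₃ ≫ v = 0 at htv
    obtain ⟨a, ha₁, ha₂⟩ : ∃ a : Δ.obj₂ ⟶ S.obj Δ.obj₁, Δ.mor₂ ≫ t = a ≫ S.map Δ.mor₁ ∧
        (-Δ.mor₁⟦(1 : ℤ)⟧') ≫ a⟦(1 : ℤ)⟧' = (-v) ≫ h' :=
      complete_distinguished_triangle_morphism₁ Δ.rotate _
      (rot_of_distTriang _ hΔ) hW t (-v) (by
        change Δ.mor₃ ≫ (-v) = t ≫ g'
        rw [Preadditive.comp_neg]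
        exact (eq_neg_of_add_eq_zero_left htv).symm)
    rw [Preadditive.neg_comp, Preadditive.neg_comp, neg_inj, ← Functor.map_comp] at ha₂
    change c _ _ (𝟙 _) (Δ.mor₂ ≫ t) +
      c _ _ (𝟙 _) (v ≫ h' ≫ theta c Δ.obj₁) = 0
    rw [ha₁, ← Category.assoc v, ← ha₂,
      ← pair_eq_tr c hc₁ ((Δ.mor₁ ≫ a)⟦(1 : ℤ)⟧') (theta c Δ.obj₁), theta_spec,
      ← tr_swap c hc₁ hc₂, add_neg_cancel]
  rw [← LinearMap.range_dualMap_eq_dualAnnihilator_ker] at hker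
  obtain ⟨Λ, hΛ⟩ := hker
  obtain ⟨ψ, hψ⟩ := exists_pair c Λ
  have key : ∀ p, Λ (A p) = L p := fun p => LinearMap.congr_fun hΛ p
  refine ⟨ψ, eq_of_forall_pair c fun t => ?_, eq_of_forall_pair c fun v => ?_⟩
  · rw [← pair₁ c hc₁, hψ, pair_eq_tr c hc₁ t, ← tr_swap c hc₁ hc₂]
    have h := key (t, 0)
    simp only [A, L, LinearMap.coprod_apply, map_zero, add_zero, LinearMap.comp_apply] at h
    exact h
  · rw [← pair₂ c hc₁ hc₂, hψ, pair_eq_tr c hc₁ v]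
    have h := key (0, v)
    simp only [A, L, LinearMap.coprod_apply, map_zero, zero_add, LinearMap.comp_apply] at h
    exact h

omit [S.Linear k] in
lemma isIso_of_comparison [S.IsEquivalence] (Δ : Triangle T) (hΔ : Δ ∈ distTriang T) {W : T}
    (g' : S.obj Δ.obj₂ ⟶ W) (h' : W ⟶ (S.obj Δ.obj₁)⟦(1 : ℤ)⟧)
    (hW : Triangle.mk (S.map Δ.mor₁) g' h' ∈ distTriang T)
    (ψ : W ⟶ S.obj Δ.obj₃) (hg : g' ≫ ψ = S.map Δ.mor₂)
    (hh : ψ ≫ S.map Δ.mor₃ = h' ≫ theta c Δ.obj₁) : IsIso ψ := by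
  haveI := isIso_theta c hc₁ Δ.obj₁
  refine isIso_of_yoneda_map_bijective _ fun U => ?_
  obtain ⟨U₀, ⟨i⟩⟩ : ∃ U₀, Nonempty (S.obj U₀ ≅ U) := ⟨_, ⟨S.objObjPreimageIso U⟩⟩
  constructor
  · intro x₁ x₂ hx
    rw [← sub_eq_zero]
    have hxψ : (i.hom ≫ (x₁ - x₂)) ≫ ψ = 0 := by
      rw [Category.assoc, Preadditive.sub_comp]
      simp [show x₁ ≫ ψ = x₂ ≫ ψ from hx]
    rw [← cancel_epi i.hom, comp_zero]
    generalize i.hom ≫ (x₁ - x₂) = x at hxψ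
    have h0 : x ≫ h' = 0 := by
      rw [← cancel_mono (theta c Δ.obj₁), Category.assoc, ← hh, ← Category.assoc, hxψ]
      simp
    obtain ⟨y, rfl⟩ := Triangle.coyoneda_exact₃ _ hW x h0
    obtain ⟨y₀, rfl⟩ := S.map_surjective y
    change (S.map y₀ ≫ g') ≫ ψ = 0 at hxψ
    rw [Category.assoc, hg, ← S.map_comp, S.map_eq_zero_iff] at hxψ
    obtain ⟨z, rfl⟩ := Triangle.coyoneda_exact₂ _ hΔ y₀ hxψ
    change S.map (z ≫ Δ.mor₁) ≫ g' = 0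
    have := comp_distTriang_mor_zero₁₂ _ hW
    change S.map Δ.mor₁ ≫ g' = 0 at this
    rw [S.map_comp, Category.assoc, this, comp_zero]
  · intro r
    obtain ⟨r₀, hr₀⟩ := S.map_surjective (i.hom ≫ r)
    obtain ⟨q, hq⟩ : ∃ q : S.obj U₀ ⟶ (S.obj Δ.obj₁)⟦(1 : ℤ)⟧,
        q = i.hom ≫ r ≫ S.map Δ.mor₃ ≫ inv (theta c Δ.obj₁) := ⟨_, rfl⟩
    obtain ⟨x, hx⟩ : ∃ x : S.obj U₀ ⟶ W, q = x ≫ h' := Triangle.coyoneda_exact₁ _ hW q (by
        change q ≫ (S.map Δ.mor₁)⟦(1 : ℤ)⟧' = 0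
        rw [hq]
        haveI := isIso_theta c hc₁ Δ.obj₂
        rw [← cancel_mono (theta c Δ.obj₂)]
        simp only [Category.assoc, theta_nat c hc₁ hc₂, IsIso.inv_hom_id_assoc, ← S.map_comp,
          comp_distTriang_mor_zero₃₁ _ hΔ, S.map_zero, comp_zero, zero_comp])
    rw [hq] at hx
    have hxr : x ≫ ψ ≫ S.map Δ.mor₃ = S.map r₀ ≫ S.map Δ.mor₃ := by
      rw [hh, ← Category.assoc, ← hx]
      simp [hr₀]
    obtain ⟨d, hd⟩ := S.map_surjective (S.map r₀ - x ≫ ψ)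
    obtain ⟨y, hy⟩ := Triangle.coyoneda_exact₃ _ hΔ d (by
      apply S.map_injective
      rw [S.map_zero, S.map_comp, hd, Preadditive.sub_comp, Category.assoc, hxr, sub_self])
    refine ⟨i.inv ≫ (x + S.map y ≫ g'), ?_⟩
    dsimp only
    rw [Category.assoc, Preadditive.add_comp, Category.assoc, hg, ← S.map_comp, ← hy, hd,
      add_sub_cancel, hr₀, Iso.inv_hom_id_assoc]

end

open CategoryTheory.Limits CategoryTheory.Pretriangulated in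
/-- Let k be a field and T a k-linear triangulated category with dim_k Hom(X, Y) < ∞ for all X, Y, and
let (S, c) be a Serre functor: a k-linear equivalence T ⥤ T with k-linear isomorphisms c_{X,Y} :
Hom(X, Y) ≅ Hom(Y, S X)^∨ natural in X and Y. Then S is an exact functor of triangulated categories:
there is an isomorphism of functors S ∘ ⟦1⟧ ≅ ⟦1⟧ ∘ S such that for every distinguished triangle (A,
B, C, f, g, h) the triangle (S A, S B, S C, S f, S g, S h followed by that isomorphism at A) is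
distinguished. -/
theorem result
    {k : Type w} [Field k]
    {T : Type u} [Category.{v} T] [Preadditive T] [Linear k T] [HasZeroObject T] [HasShift T ℤ]
    [∀ n : ℤ, (shiftFunctor T n).Additive] [∀ n : ℤ, (shiftFunctor T n).Linear k] [Pretriangulated T]
    [IsTriangulated T] [∀ X Y : T, Module.Finite k (X ⟶ Y)]
    (S : T ≌ T) [S.functor.Additive] [S.functor.Linear k]
    (c : ∀ X Y : T, (X ⟶ Y) ≃ₗ[k] Module.Dual k (Y ⟶ S.functor.obj X))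
    (hc₁ : ∀ (X Y Y' : T) (f : X ⟶ Y) (g : Y ⟶ Y'),
      c X Y' (f ≫ g) = (c X Y f) ∘ₗ Linear.leftComp k (S.functor.obj X) g)
    (hc₂ : ∀ (X' X Y : T) (a : X' ⟶ X) (f : X ⟶ Y),
      c X' Y (a ≫ f) = (c X Y f) ∘ₗ Linear.rightComp k Y (S.functor.map a)) :
    ∃ e : shiftFunctor T (1 : ℤ) ⋙ S.functor ≅ S.functor ⋙ shiftFunctor T (1 : ℤ),
      ∀ T' ∈ distTriang T,
        Triangle.mk (S.functor.map T'.mor₁) (S.functor.map T'.mor₂)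
          (S.functor.map T'.mor₃ ≫ e.hom.app T'.obj₁) ∈ distTriang T := by
  haveI : ∀ X, IsIso (theta c X) := fun X => isIso_theta c hc₁ X
  let η : S.functor ⋙ shiftFunctor T (1 : ℤ) ≅ shiftFunctor T (1 : ℤ) ⋙ S.functor :=
    NatIso.ofComponents (fun X => asIso (theta c X)) (fun φ => theta_nat c hc₁ hc₂ φ)
  refine ⟨η.symm, fun Δ hΔ => ?_⟩
  obtain ⟨W, g', h', hW⟩ := distinguished_cocone_triangle (S.functor.map Δ.mor₁)
  obtain ⟨ψ, hg, hh⟩ := exists_comparison c hc₁ hc₂ Δ hΔ g' h' hW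
  haveI := isIso_of_comparison c hc₁ hc₂ Δ hΔ g' h' hW ψ hg hh
  refine isomorphic_distinguished _ hW _
    (Triangle.isoMk _ _ (Iso.refl _) (Iso.refl _) (asIso ψ).symm ?_ ?_ ?_)
  · exact (Category.comp_id _).trans (Category.id_comp _).symm
  · change S.functor.map Δ.mor₂ ≫ inv ψ = 𝟙 (S.functor.obj Δ.obj₂) ≫ g'
    rw [Category.id_comp, IsIso.comp_inv_eq, hg]
  · change (S.functor.map Δ.mor₃ ≫ inv (theta c Δ.obj₁)) ≫
      (𝟙 (S.functor.obj Δ.obj₁))⟦(1 : ℤ)⟧' = inv ψ ≫ h'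
    rw [CategoryTheory.Functor.map_id, Category.comp_id, IsIso.eq_inv_comp, ← Category.assoc, hh,
      Category.assoc, IsIso.hom_inv_id, Category.comp_id]

end Groth.Agent.S6732
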