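import Groth.Prelude.Def_DDual2
import Groth.Prelude.Def_CohB1
import Groth.Prelude.Def_Models
import Mathlib.AlgebraicGeometry.Morphisms.FiniteType
import Mathlib.AlgebraicGeometry.ResidueField
import Mathlib.RingTheory.KrullDimension.Basic
import Groth.Agent.DRing.PointHom.RGamma
import Groth.Agent.DRing.PointHom.Duality
import Groth.Agent.S1006
-- import your own Groth.Agent.* helpers here

set_option autoImplicit false
universe u
open CategoryTheory AlgebraicGeometry
attribute [local instance] HasDerivedCategory.standard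

namespace Groth.Agent.S6733

/-- Let X be a scheme of finite type over a field k which is regular, x ∈ X a closed point, O_x the
skyscraper sheaf at x with value κ(x), d = dim O_{X,x}, and K a perfect object of D(O_X); the
derived functors - ⊗^L O_x and RΓ(X, -) are assumed to exist (instance binders). (5) If H^i(X, K ⊗^L
O_x) = 0 then H^i(K) vanishes on an open neighbourhood of x. (6) If H^i(X, K ⊗^L O_x) = 0 for all i
then every cohomology sheaf of K vanishes on an open neighbourhood of x. (1) If Hom(O_x, K⟦i⟧) = 0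
then H^{i-d}(K) vanishes on an open neighbourhood of x. (Vanishing on U: no point of U lies in the
support.) -/
theorem result
    (k : Type u) [Field k] (X : Scheme.{u}) [X.Over (Spec (.of k))]
    [LocallyOfFiniteType (X ↘ Spec (.of k))] [CompactSpace X]
    (hreg : Models.IsRegularScheme X) (x : X) (hx : IsClosed ({x} : Set X))
    (d : ℕ) (hd : ringKrullDim (X.presheaf.stalk x) = d)
    (K : DCoh.D X) (hK : DCoh.IsPerfect K)
    [DCoh.HasLTensorMod ((Coh.push (X.fromSpecResidueField x)).obj (Coh.structureModule _))] [DCoh.HasRΓ X] :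
    (∀ i : ℤ, Limits.IsZero ((DerivedCategory.homologyFunctor AddCommGrpCat.{u} i).obj
          ((DCoh.RΓ X).obj ((DCoh.LTensorMod ((Coh.push (X.fromSpecResidueField x)).obj (Coh.structureModule _))).obj K))) →
      ∃ U : X.Opens, x ∈ U ∧ ∀ y : X, y ∈ U → y ∉ CohB1.support (DCoh.HD K i)) ∧
    ((∀ i : ℤ, Limits.IsZero ((DerivedCategory.homologyFunctor AddCommGrpCat.{u} i).obj
          ((DCoh.RΓ X).obj ((DCoh.LTensorMod ((Coh.push (X.fromSpecResidueField x)).obj (Coh.structureModule _))).obj K)))) →
      ∃ U : X.Opens, x ∈ U ∧ ∀ (i : ℤ) (y : X), y ∈ U → y ∉ CohB1.support (DCoh.HD K i)) ∧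
    (∀ i : ℤ, (∀ φ : DCoh.inD X ((Coh.push (X.fromSpecResidueField x)).obj (Coh.structureModule _)) ⟶ (shiftFunctor (DCoh.D X) i).obj K, φ = 0) →
      ∃ U : X.Opens, x ∈ U ∧ ∀ y : X, y ∈ U → y ∉ CohB1.support (DCoh.HD K (i - d))) := by
  haveI : IsLocallyNoetherian X := LocallyOfFiniteType.isLocallyNoetherian (X ↘ Spec (.of k))
  haveI : IsNoetherian X := ⟨⟩
  obtain ⟨hcoh, a, c, ha, hc⟩ := Agent.S1006.result X K hK
  haveI := hreg x
  haveI := Agent.DRing.LTensor.hasLBaseChange (IsLocalRing.residue (X.presheaf.stalk x))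
  have hperf := Agent.DRing.PointHom.isPerfect_stalkD x K hcoh a c
  have hopen : ∀ i : ℤ, x ∉ CohB1.support (DCoh.HD K i) →
      ∃ U : X.Opens, x ∈ U ∧ ∀ y : X, y ∈ U → y ∉ CohB1.support (DCoh.HD K i) := fun i hi =>
    ⟨⟨(CohB1.support (DCoh.HD K i))ᶜ, (Agent.CohDev.isClosed_support (hcoh i)).isOpen_compl⟩, hi,
      fun y hy => hy⟩
  have key : ∀ i : ℤ, Limits.IsZero ((DerivedCategory.homologyFunctor AddCommGrpCat.{u} i).obj
      ((DCoh.RΓ X).obj ((DCoh.LTensorMod ((Coh.push (X.fromSpecResidueField x)).obj (Coh.structureModule _))).obj K))) →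
      x ∉ CohB1.support (DCoh.HD K i) := fun i hi =>
    (Agent.DRing.PointHom.isZero_stalkD_iff x K i).1
      (Agent.DRing.PointHom.isZero_of_fibre hperf i
        (Agent.DRing.PointHom.isZero_fibre_of_RΓ hx K hcoh a c i hi))
  refine ⟨fun i hi => hopen i (key i hi), fun h => ?_, fun i h => hopen _ ?_⟩
  · exact Agent.DRing.PointHom.exists_open x K hcoh a c fun i => key i (h i)
  · exact (Agent.DRing.PointHom.isZero_stalkD_iff x K (i - d)).1
      (Agent.DRing.PointHom.isZero_of_noHom_from_residue_degree d hd hperf i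
        (Agent.DRing.PointHom.noHom_from_point hx K a i h))

end Groth.Agent.S6733
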