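import Groth.Prelude.Def_DDual2
import Groth.Prelude.Def_Koszul
import Groth.Prelude.Def_CAlgX
import Mathlib.RingTheory.Regular.RegularSequence
import Mathlib.RingTheory.LocalRing.RingHom.Basic
import Mathlib.RingTheory.Flat.Basic
import Groth.Agent.DRing.KoszulLift.Fibre
import Groth.Agent.DRing.KoszulLift.Noeth
-- import your own Groth.Agent.* helpers here

set_option autoImplicit false
universe u
open CategoryTheory
attribute [local instance] HasDerivedCategory.standard

namespace Groth.Agent.S6737

/-- Let (R, m) → (A, n) be a flat local homomorphism between local rings, with A essentially of finite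
presentation over R. Let f̄_1, …, f̄_r ∈ n/mA ⊆ A/mA be a regular sequence, and suppose K is a
perfect object of D(A) whose derived reduction K ⊗^L_A A/mA admits, in D(A/mA), an isomorphism with
the Koszul complex of the sequence f̄_1, …, f̄_r (existence of the derived base change functor is
taken as an instance binder). Under these hypotheses one can choose lifts f_1, …, f_r ∈ A of the
f̄_i that form a regular sequence in A, for which K and the Koszul complex built from these lifts
become isomorphic objects of D(A); in addition, the quotient of A by the ideal (f_1, …, f_r) is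
R-flat. -/
theorem result
    (R A : Type u) [CommRing R] [CommRing A] [IsLocalRing R] [IsLocalRing A] [Algebra R A]
    [IsLocalHom (algebraMap R A)] [Module.Flat R A] (hefp : CAlgX.IsEssFinitePresentation R A)
    (fbar : List (A ⧸ ((IsLocalRing.maximalIdeal R).map (algebraMap R A))))
    (hfbar : ∀ f ∈ fbar, f ∈ (IsLocalRing.maximalIdeal A).map (Ideal.Quotient.mk ((IsLocalRing.maximalIdeal R).map (algebraMap R A))))
    (hreg : RingTheory.Sequence.IsRegular (A ⧸ ((IsLocalRing.maximalIdeal R).map (algebraMap R A))) fbar)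
    (K : Dual.D A) (hK : DRing.IsPerfect A K)
    [DRing.HasLBaseChange (Ideal.Quotient.mk ((IsLocalRing.maximalIdeal R).map (algebraMap R A)))]
    (hKf : Nonempty ((DRing.LBaseChange (Ideal.Quotient.mk ((IsLocalRing.maximalIdeal R).map (algebraMap R A)))).obj K ≅
      DerivedCategory.Q.obj (Koszul.koszul (A ⧸ ((IsLocalRing.maximalIdeal R).map (algebraMap R A))) fbar))) :
    ∃ fs : List A, fs.map (Ideal.Quotient.mk ((IsLocalRing.maximalIdeal R).map (algebraMap R A))) = fbar ∧ RingTheory.Sequence.IsRegular A fs ∧
      Nonempty (K ≅ DerivedCategory.Q.obj (Koszul.koszul A fs)) ∧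
      Module.Flat R (A ⧸ Ideal.span {a : A | a ∈ fs}) := by
  haveI := Agent.DRing.KoszulLift.isNoetherianRing_fibre hefp
  obtain ⟨e⟩ := hKf
  have hI : (IsLocalRing.maximalIdeal R).map (algebraMap R A) ≤ IsLocalRing.maximalIdeal A :=
    Agent.DRing.KoszulLift.mA_le
  haveI : Nontrivial (A ⧸ (IsLocalRing.maximalIdeal R).map (algebraMap R A)) :=
    Ideal.Quotient.nontrivial_iff.2 fun h => (IsLocalRing.maximalIdeal.isMaximal A).ne_top (top_le_iff.1 (h ▸ hI))
  haveI := IsLocalRing.of_surjective' (Ideal.Quotient.mk ((IsLocalRing.maximalIdeal R).map (algebraMap R A)))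
    Ideal.Quotient.mk_surjective
  have hmax : ∀ f ∈ fbar, f ∈ IsLocalRing.maximalIdeal (A ⧸ (IsLocalRing.maximalIdeal R).map (algebraMap R A)) := by
    intro f hf
    refine IsLocalRing.le_maximalIdeal (fun h => ?_) (hfbar f hf)
    have := congrArg (Ideal.comap (Ideal.Quotient.mk ((IsLocalRing.maximalIdeal R).map (algebraMap R A)))) h
    rw [Ideal.comap_map_of_surjective _ Ideal.Quotient.mk_surjective, ← RingHom.ker_eq_comap_bot,
      Ideal.mk_ker, sup_eq_left.2 hI, Ideal.comap_top] at this
    exact (IsLocalRing.maximalIdeal.isMaximal A).ne_top this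
  obtain ⟨fs, hfs, -, hmem, hiso, hflat⟩ := Agent.DRing.KoszulLift.main hefp fbar
    (IsLocalRing.isWeaklyRegular_of_perm_of_subset_maximalIdeal hreg.toIsWeaklyRegular
      fbar.reverse_perm.symm hmax) hfbar K hK e
  have hw := (Agent.DRing.KoszulLift.regular_of_fibre hefp fs (hfs ▸ hreg.toIsWeaklyRegular)).1
  refine ⟨fs, hfs, ⟨hw, fun h => ?_⟩, hiso, hflat⟩
  have h2 : Ideal.ofList fs ≤ IsLocalRing.maximalIdeal A := Ideal.span_le.2 hmem
  rw [smul_eq_mul, Ideal.mul_top] at h
  exact (IsLocalRing.maximalIdeal.isMaximal A).ne_top (top_le_iff.1 (le_of_eq_of_le h h2))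

end Groth.Agent.S6737
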