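import Groth.Prelude.Def_DDual2
import Groth.Prelude.Def_Koszul
import Mathlib.RingTheory.Regular.RegularSequence
import Mathlib.RingTheory.Localization.AtPrime.Basic
import Mathlib.RingTheory.Localization.Away.Basic
import Mathlib.RingTheory.Flat.Basic
import Mathlib.RingTheory.FiniteType
import Mathlib.RingTheory.Noetherian.Basic
import Groth.Agent.DRing.KoszulSpread.Main
-- import your own Groth.Agent.* helpers here

set_option autoImplicit false
universe u
open CategoryTheory
attribute [local instance] HasDerivedCategory.standard

namespace Groth.Agent.S6738

/-- Suppose R → S is a flat, finite type ring map of Noetherian rings, q ⊂ S is a prime, K is a perfect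
object of D(S), and f_1, …, f_r ∈ q S_q form a regular sequence for which the quotient S_q/(f_1, …,
f_r) is R-flat and K ⊗^L_S S_q agrees, up to isomorphism in D(S_q), with the Koszul complex of f_1,
…, f_r. Then one can find an element g ∈ S with g ∉ q, together with a regular sequence f'_1, …,
f'_r in S_g mapping to the f_i in S_q, such that the quotient of S_g by the ideal (f'_1, …, f'_r) is
R-flat and the Koszul complex of f'_1, …, f'_r is isomorphic, in D(S_g), to K ⊗^L_S S_g. (The
canonical S-algebra map S_g → S_q is quantified over — it exists and is unique since g ∉ q; the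
derived base change functors are assumed to exist, as instance binders.) -/
theorem result
    (R S : Type u) [CommRing R] [CommRing S] [IsNoetherianRing R] [IsNoetherianRing S] [Algebra R S]
    [Algebra.FiniteType R S] [Module.Flat R S] (q : Ideal S) [q.IsPrime]
    (K : Dual.D S) (hK : DRing.IsPerfect S K)
    (fs : List (Localization.AtPrime q)) (hfs : ∀ f ∈ fs, f ∈ IsLocalRing.maximalIdeal (Localization.AtPrime q))
    (hreg : RingTheory.Sequence.IsRegular (Localization.AtPrime q) fs)
    (hflat : Module.Flat R ((Localization.AtPrime q) ⧸ Ideal.span {a : (Localization.AtPrime q) | a ∈ fs}))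
    [DRing.HasLBaseChange (algebraMap S (Localization.AtPrime q))]
    (hKf : Nonempty ((DRing.LBaseChange (algebraMap S (Localization.AtPrime q))).obj K ≅
      DerivedCategory.Q.obj (Koszul.koszul (Localization.AtPrime q) fs))) :
    ∃ g : S, g ∉ q ∧ ∀ (φ : (Localization.Away g) →ₐ[S] (Localization.AtPrime q)), ∃ fs' : List (Localization.Away g),
      fs'.map φ = fs ∧ RingTheory.Sequence.IsRegular (Localization.Away g) fs' ∧
      Module.Flat R ((Localization.Away g) ⧸ Ideal.span {a : (Localization.Away g) | a ∈ fs'}) ∧
      ∀ [DRing.HasLBaseChange (algebraMap S (Localization.Away g))],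
        Nonempty ((DRing.LBaseChange (algebraMap S (Localization.Away g))).obj K ≅
          DerivedCategory.Q.obj (Koszul.koszul (Localization.Away g) fs')) := by
  haveI : Algebra.FinitePresentation R S := Algebra.FinitePresentation.of_finiteType.1 inferInstance
  obtain ⟨e⟩ := hKf
  exact Agent.DRing.KoszulSpread.exists_away q K hK fs hfs hreg.toIsWeaklyRegular hflat e

end Groth.Agent.S6738
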