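import Groth.Statements.S6769
import Groth.Agent.ModWatts.Basic

set_option autoImplicit false
universe u
open CategoryTheory CategoryTheory.Limits TensorProduct
open scoped ModuleCat.Algebra
open FunMor

open Groth.Agent.ModWatts.Basic

namespace Groth.Agent.S6769

/-- Let R be a commutative ring and A, B commutative R-algebras; Mod_A and Mod_B are R-linear
categories. Suppose F, F' : Mod_A ⥤ Mod_B are R-linear functors, each of which preserves finite
colimits (so is right exact) and also preserves direct sums indexed by any set. Then: (i) there is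
an A ⊗_R B-module K — a module over A and over B with commuting actions on which the two R-actions
agree — and B-linear isomorphisms K ⊗_A M ≅ F(M) natural in the A-module M; (ii) a natural
transformation F ⟶ F' is determined by its component at A, and a B-linear map φ : F(A) ⟶ F'(A) is
the component at A of some natural transformation F ⟶ F' if and only if it commutes with the
A-actions, i.e. F(a · id_A) ≫ φ = φ ≫ F'(a · id_A) for all a ∈ A. (Together: K ↦ (- ⊗_A K) is an
equivalence from Mod_{A ⊗_R B} onto the category of such functors.) -/
theorem result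
    (R : Type u) [CommRing R] (A B : Type u) [CommRing A] [CommRing B] [Algebra R A] [Algebra R B]
    (F F' : ModuleCat.{u} A ⥤ ModuleCat.{u} B) [F.Additive] [F.Linear R] [F'.Additive] [F'.Linear R]
    [PreservesFiniteColimits F] [∀ J : Type u, PreservesColimitsOfShape (Discrete J) F]
    [PreservesFiniteColimits F'] [∀ J : Type u, PreservesColimitsOfShape (Discrete J) F'] :
    (∃ (K : Type u) (_ : AddCommGroup K) (_ : Module A K) (_ : Module B K) (_ : SMulCommClass A B K),
      (∀ (r : R) (x : K), algebraMap R A r • x = algebraMap R B r • x) ∧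
      ∃ η : ∀ M : ModuleCat.{u} A, (K ⊗[A] M) ≃ₗ[B] F.obj M,
        ∀ (M N : ModuleCat.{u} A) (f : M ⟶ N) (x : K ⊗[A] M),
          η N (LinearMap.lTensor K f.hom x) = F.map f (η M x)) ∧
    (∀ t t' : F ⟶ F', t.app (ModuleCat.of A A) = t'.app (ModuleCat.of A A) → t = t') ∧
    (∀ φ : F.obj (ModuleCat.of A A) ⟶ F'.obj (ModuleCat.of A A),
      (∃ t : F ⟶ F', t.app (ModuleCat.of A A) = φ) ↔
        ∀ a : A, F.map (a • 𝟙 (ModuleCat.of A A)) ≫ φ = φ ≫ F'.map (a • 𝟙 (ModuleCat.of A A))) := by
  have hτ := isIso_tau F
  have hτ' := isIso_tau F'
  refine ⟨⟨WK F, inferInstance, inferInstance, inferInstance, inferInstance, fun r x => ?_,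
    wattsEquiv F, fun M N f x => by rw [wattsEquiv_apply, wattsEquiv_apply]; exact tauLin_natural F f x⟩,
    fun t t' h => ?_, fun φ => ⟨?_, fun h => ?_⟩⟩
  · rw [smul_def]
    refine (ConcreteCategory.congr_hom ((congrArg F.map ?_).trans
      ((Functor.linear_iff R F).mp inferInstance (ModuleCat.of A A) r)) x).trans ?_
    · apply ModuleCat.hom_ext
      apply LinearMap.ext
      intro a
      simp [Algebra.smul_def]
      rfl
    · rfl
  · ext M : 2
    rw [← cancel_epi ((tau F).app M)]
    refine tensorFunctor_hom_ext F fun x m => ?_
    show t.app M (tauLin F M (x ⊗ₜ m)) = t'.app M (tauLin F M (x ⊗ₜ m))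
    rw [tauLin_tmul, ← ModuleCat.comp_apply, ← ModuleCat.comp_apply, t.naturality, t'.naturality, h]
  · rintro ⟨t, rfl⟩ a
    exact t.naturality _
  · have h1 : ∀ a : A, ModuleCat.ofHom (a • LinearMap.id : A →ₗ[A] A) = a • 𝟙 (ModuleCat.of A A) := by
      intro a; ext; rfl
    let φA : WK F →ₗ[A] WK F' :=
      { toFun := fun x => φ x
        map_add' := fun x y => φ.hom.map_add x y
        map_smul' := fun a x => by
          rw [smul_def, h1]
          exact (ConcreteCategory.congr_hom (h a) x).trans (by rw [← h1]; rfl) }
    let T : tensorFunctor F ⟶ tensorFunctor F' :=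
      { app := fun M => ModuleCat.ofHom
          { toFun := LinearMap.rTensor M φA
            map_add' := map_add _
            map_smul' := fun b z => by
              induction z using TensorProduct.induction_on with
              | zero => simp
              | tmul x m =>
                simp only [smul_tmul', LinearMap.rTensor_tmul, RingHom.id_apply]
                exact congrArg (fun y : WK F' => y ⊗ₜ[A] m) (φ.hom.map_smul b x)
              | add z w hz hw =>
                simp only [RingHom.id_apply] at hz hw
                simp only [smul_add, map_add, hz, hw, RingHom.id_apply] }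
        naturality := fun M N f => tensorFunctor_hom_ext F fun x m => rfl }
    refine ⟨inv (tau F) ≫ T ≫ tau F', ?_⟩
    rw [NatTrans.comp_app, NatIso.isIso_inv_app, IsIso.inv_comp_eq, NatTrans.comp_app]
    refine tensorFunctor_hom_ext F fun x m => ?_
    have h2 : ModuleCat.ofHom (LinearMap.toSpanSingleton A A (m : A)) = (m : A) • 𝟙 (ModuleCat.of A A) := by
      ext; simp
    show F'.map (ModuleCat.ofHom (LinearMap.toSpanSingleton A A (m : A))) (φ x) =
      φ (F.map (ModuleCat.ofHom (LinearMap.toSpanSingleton A A (m : A))) x)
    rw [h2]
    exact (ConcreteCategory.congr_hom (h m) x).symm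

end Groth.Agent.S6769
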