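import Groth.Prelude.Def_W4stkfunctorsequivp2Beil
import Mathlib.Algebra.Homology.DerivedCategory.HomologySequence
import Mathlib.Algebra.Category.ModuleCat.Abelian
import Mathlib.CategoryTheory.Preadditive.Yoneda.Basic
import Mathlib.Algebra.Algebra.RestrictScalars
import Mathlib.RingTheory.Finiteness.Defs
import Mathlib.Data.Set.Finite.Basic
import Groth.Agent.DEq.CompactFinDim
import Groth.Agent.DEq.Beilinson
-- import your own Groth.Agent.* helpers here

set_option autoImplicit false
universe u
open CategoryTheory
attribute [local instance] HasDerivedCategory.standard

namespace Groth.Agent.S6770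

open CategoryTheory.Limits Opposite in
/-- Let k be a field, n ≥ 0, and R the Beilinson algebra of P^n_k: the k-algebra of upper triangular
(n+1) × (n+1) matrices whose (i, j) entry is a homogeneous polynomial of degree j - i in k[X_0, …,
X_n]. For an object K of the derived category D(R) of R-modules the following are equivalent: K is a
compact object (the functor Hom(K, -) with values in abelian groups commutes with arbitrary direct
sums indexed by small types), and the cohomology modules H^i(K) are finite-dimensional k-vector
spaces for all i ∈ ℤ, nonzero for only finitely many i. (Left R-modules are used; the published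
statement is for right modules, i.e. left modules over the opposite algebra, which is isomorphic to
R by reversing the order of the indices and transposing, and the printed proof applies verbatim to
either side.) -/
theorem result
    (k : Type u) [Field k] (n : ℕ)
    (K : DerivedCategory (ModuleCat.{u} (DEquiv.beilinsonAlg k n))) :
    (∀ J : Type u, PreservesColimitsOfShape (Discrete J) (preadditiveCoyoneda.obj (op K))) ↔
      ((∀ i : ℤ, Module.Finite k (RestrictScalars k (DEquiv.beilinsonAlg k n) ((DerivedCategory.homologyFunctor (ModuleCat.{u} (DEquiv.beilinsonAlg k n)) i).obj K))) ∧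
        Set.Finite {i : ℤ | Nontrivial ((DerivedCategory.homologyFunctor (ModuleCat.{u} (DEquiv.beilinsonAlg k n)) i).obj K)}) := by
  let R := DEquiv.beilinsonAlg k n
  constructor
  · intro h
    exact Agent.DEq.findim_of_good K (Agent.DEq.good_of_preserves h)
  · rintro ⟨hf, hs⟩
    obtain ⟨lo, hlo⟩ := hs.bddBelow
    obtain ⟨hi, hhi⟩ := hs.bddAbove
    haveI : K.IsGE lo := (DerivedCategory.isGE_iff K lo).2 fun i hi' => by
      haveI := not_nontrivial_iff_subsingleton.1
        (fun hn => absurd (hlo hn) (not_le.2 hi'))
      exact ModuleCat.isZero_of_subsingleton _
    haveI : K.IsLE hi := (DerivedCategory.isLE_iff K hi).2 fun i hi' => by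
      haveI := not_nontrivial_iff_subsingleton.1
        (fun hn => absurd (hhi hn) (not_le.2 hi'))
      exact ModuleCat.isZero_of_subsingleton _
    intro J
    refine Agent.DEq.Good.preservesColimitsOfShape ?_ J
    refine Agent.DEq.good_of_bounded K lo hi fun m _ => ?_
    let M := (DerivedCategory.homologyFunctor (ModuleCat.{u} R) m).obj K
    have hM : @Module.Finite k M _ _ (ModuleCat.moduleOfAlgebraModule M) := hf m
    have h0 := @Agent.DEq.Beilinson.good_single k _ n M hM
    exact Agent.DEq.Good.of_iso
      (((DerivedCategory.singleFunctors (ModuleCat.{u} R)).shiftIso (-m) m 0 (neg_add_cancel m)).app M).symm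
      (Agent.DEq.good_shift h0 (-m))

end Groth.Agent.S6770
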