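import Groth.Statements.S6771
import Groth.Agent.FMBound.Flat
import Groth.Agent.QCohGen.Closed
import Groth.Agent.QCoh.Exact
import Groth.Agent.RDerLES
import Groth.Agent.CohDerLib.QC.QFlasque
-- import your own Groth.Agent.* helpers here

set_option autoImplicit false
universe u
open CategoryTheory AlgebraicGeometry
attribute [local instance] HasDerivedCategory.standard
open FunMor

namespace Groth.Agent.S6771

section
open CategoryTheory.Limits

variable {X Y : Scheme.{u}}

theorem epi_push (f : X ⟶ Y) [HasInjectiveResolutions X.Modules] {S : ShortComplex X.Modules}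
    (hS : S.ShortExact) (h : IsZero ((Coh.Rpush f 1).obj S.X₁)) :
    Epi ((Scheme.Modules.pushforward f).map S.g) := by
  have : PreservesLimitsOfSize.{0, 0} (Scheme.Modules.pushforward f) :=
    (Scheme.Modules.pullbackPushforwardAdjunction f).rightAdjoint_preservesLimits
  have : PreservesFiniteLimits (Scheme.Modules.pushforward f) :=
    PreservesLimitsOfSize.preservesFiniteLimits _
  let Δ := RDerLES.derivedLES (Scheme.Modules.pushforward f)
  have hg : Epi ((Coh.Rpush f 0).map S.g) := (Δ.exact₃ S hS 0 1 rfl).epi_f (h.eq_of_tgt _ _)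
  have hn := (Scheme.Modules.pushforward f).toRightDerivedZero.naturality S.g
  have h1 : Epi ((Scheme.Modules.pushforward f).toRightDerivedZero.app S.X₂ ≫
      (Coh.Rpush f 0).map S.g) := epi_comp _ _
  rw [← hn] at h1
  rw [show (Scheme.Modules.pushforward f).map S.g =
    ((Scheme.Modules.pushforward f).map S.g ≫
      (Scheme.Modules.pushforward f).toRightDerivedZero.app S.X₃) ≫
      inv ((Scheme.Modules.pushforward f).toRightDerivedZero.app S.X₃) by simp]
  exact epi_comp _ _

theorem preservesCoproducts_push (f : X ⟶ Y) [QuasiCompact f] [QuasiSeparated f] (J : Type u) :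
    PreservesColimitsOfShape (Discrete J) (Scheme.Modules.pushforward f) :=
  have : ∀ M : J → X.Modules, PreservesColimit (Discrete.functor M) (Scheme.Modules.pushforward f) :=
    fun M => by
      have := Groth.Agent.CohDerLib.QC.isIso_sigmaComparison_push f M
      exact PreservesCoproduct.of_iso_comparison _ _
  preservesColimitsOfShape_of_discrete _

theorem preservesFiniteLimits_ι_psi {Z : Scheme.{u}} (p : Z ⟶ X) (q : Z ⟶ Y) (K : Z.Modules)
    (hKf : FlatMod.IsFlatOver p K) :
    PreservesFiniteLimits (ObjectProperty.ι (QCohCat.isQCoh X) ⋙ FMBound.Flat.psi p K ⋙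
      Scheme.Modules.pushforward q) := by
  have := FMBound.Flat.preservesHomology_psi p K hKf
  have : PreservesFiniteLimits (FMBound.Flat.psi p K) :=
    (FMBound.Flat.psi p K).preservesFiniteLimits_of_preservesHomology
  have : PreservesLimitsOfSize.{0, 0} (Scheme.Modules.pushforward q) :=
    (Scheme.Modules.pullbackPushforwardAdjunction q).rightAdjoint_preservesLimits
  have : PreservesFiniteLimits (Scheme.Modules.pushforward q) :=
    PreservesLimitsOfSize.preservesFiniteLimits _
  have : PreservesFiniteLimits (ObjectProperty.ι (QCohCat.isQCoh X)) :=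
    Groth.Agent.QCohGen.instPreservesFiniteLimits X
  have := comp_preservesFiniteLimits (FMBound.Flat.psi p K) (Scheme.Modules.pushforward q)
  exact comp_preservesFiniteLimits _ _

end


/-- The direction from kernels to functors: let R be a ring and X, Y schemes over R with X quasi-compact
with affine diagonal, and let K be a quasi-coherent O_{X ×_R Y}-module which is flat over X and such
that R^q pr_{2,*}(pr_1^* M ⊗ K) = 0 for every quasi-coherent O_X-module M and every q > 0 (right
derived functors of pr_{2,*}; injective resolutions carried as a binder). Then the functor F_K : M ↦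
pr_{2,*}(pr_1^* M ⊗ K), from quasi-coherent O_X-modules to O_Y-modules, is exact (preserves finite
limits and finite colimits) and commutes with arbitrary direct sums. -/
theorem result
    (R : Type u) [CommRing R] (X Y : Scheme.{u}) [X.Over (Spec (.of R))] [Y.Over (Spec (.of R))] [CompactSpace X] [IsAffineHom (Limits.pullback.diagonal (X ↘ Spec (.of R)))]
    [HasInjectiveResolutions (Limits.pullback (X ↘ Spec (.of R)) (Y ↘ Spec (.of R))).Modules]
    (K : (Limits.pullback (X ↘ Spec (.of R)) (Y ↘ Spec (.of R))).Modules) (hK : Coh.IsQCoh K) (hKf : FlatMod.IsFlatOver (Limits.pullback.fst (X ↘ Spec (.of R)) (Y ↘ Spec (.of R))) K)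
    (hKa : ∀ (M : X.Modules), Coh.IsQCoh M → ∀ q : ℕ, 0 < q →
      Limits.IsZero ((Coh.Rpush (Limits.pullback.snd (X ↘ Spec (.of R)) (Y ↘ Spec (.of R))) q).obj ((DCoh.tensorRightMod K).obj ((Scheme.Modules.pullback (Limits.pullback.fst (X ↘ Spec (.of R)) (Y ↘ Spec (.of R)))).obj M)))) :
    Limits.PreservesFiniteLimits (ObjectProperty.ι (QCohCat.isQCoh X) ⋙ Scheme.Modules.pullback (Limits.pullback.fst (X ↘ Spec (.of R)) (Y ↘ Spec (.of R))) ⋙ DCoh.tensorRightMod K ⋙ Coh.push (Limits.pullback.snd (X ↘ Spec (.of R)) (Y ↘ Spec (.of R)))) ∧ Limits.PreservesFiniteColimits (ObjectProperty.ι (QCohCat.isQCoh X) ⋙ Scheme.Modules.pullback (Limits.pullback.fst (X ↘ Spec (.of R)) (Y ↘ Spec (.of R))) ⋙ DCoh.tensorRightMod K ⋙ Coh.push (Limits.pullback.snd (X ↘ Spec (.of R)) (Y ↘ Spec (.of R)))) ∧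
      ∀ J : Type u, Limits.PreservesColimitsOfShape (Discrete J) (ObjectProperty.ι (QCohCat.isQCoh X) ⋙ Scheme.Modules.pullback (Limits.pullback.fst (X ↘ Spec (.of R)) (Y ↘ Spec (.of R))) ⋙ DCoh.tensorRightMod K ⋙ Coh.push (Limits.pullback.snd (X ↘ Spec (.of R)) (Y ↘ Spec (.of R)))) := by
  set p := Limits.pullback.fst (X ↘ Spec (.of R)) (Y ↘ Spec (.of R))
  set q := Limits.pullback.snd (X ↘ Spec (.of R)) (Y ↘ Spec (.of R))
  let ψ := FMBound.Flat.psi p K
  let G := ObjectProperty.ι (QCohCat.isQCoh X) ⋙ ψ ⋙ Scheme.Modules.pushforward q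
  have hlim : Limits.PreservesFiniteLimits G := preservesFiniteLimits_ι_psi p q K hKf
  have := FMBound.Flat.preservesHomology_psi p K hKf
  have : Limits.PreservesFiniteLimits ψ := Functor.preservesFiniteLimits_of_preservesHomology ψ
  have : Limits.PreservesFiniteColimits ψ := Functor.preservesFiniteColimits_of_preservesHomology ψ
  have hepi : G.PreservesEpimorphisms := ⟨fun {A B} g hg => by
    have : Limits.PreservesFiniteColimits (ObjectProperty.ι (QCohCat.isQCoh X)) :=
      Groth.Agent.QCohGen.instPreservesFiniteColimits X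
    have : Epi g.hom := (ObjectProperty.ι (QCohCat.isQCoh X)).map_epi g
    have : A.obj.IsQuasicoherent := A.property
    have : B.obj.IsQuasicoherent := B.property
    let S : ShortComplex X.Modules := ShortComplex.mk (Limits.kernel.ι g.hom) g.hom (Limits.kernel.condition _)
    have hS : S.ShortExact :=
      { exact := ShortComplex.exact_of_f_is_kernel S (Limits.kernelIsKernel g.hom) }
    exact epi_push q (hS.map_of_exact ψ)
      (hKa (Limits.kernel g.hom) (Groth.Agent.QCoh.isQuasicoherent_kernel g.hom) 1 one_pos)⟩
  have : G.Additive := by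
    have : Limits.PreservesFiniteLimits G := hlim
    exact Functor.additive_of_preserves_binary_products G
  have : G.PreservesHomology := Functor.preservesHomology_of_preservesEpis_and_kernels G
  refine ⟨hlim, Functor.preservesFiniteColimits_of_preservesHomology G, fun J => ?_⟩
  have : QuasiCompact (X ↘ Spec (.of R)) :=
    (HasAffineProperty.iff_of_isAffine (P := @QuasiCompact)).mpr inferInstance
  have : QuasiSeparated (X ↘ Spec (.of R)) := ⟨inferInstance⟩
  have : QuasiCompact q :=
    MorphismProperty.of_isPullback (P := @QuasiCompact) (IsPullback.of_hasPullback _ _) ‹QuasiCompact (X ↘ Spec (.of R))›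
  have : QuasiSeparated q :=
    MorphismProperty.of_isPullback (P := @QuasiSeparated) (IsPullback.of_hasPullback _ _) ‹QuasiSeparated (X ↘ Spec (.of R))›
  have := preservesCoproducts_push q J
  have : Limits.PreservesColimitsOfSize.{u, u} (DCoh.tensorRightMod K) :=
    KFlat.preservesColimitsOfSize_tensorBi_flip_obj
      (O := (Limits.pullback (X ↘ Spec (.of R)) (Y ↘ Spec (.of R))).sheaf) K
  have : Limits.PreservesColimitsOfShape (Discrete J) (ObjectProperty.ι (QCohCat.isQCoh X)) :=
    Groth.Agent.QCohGen.instPreservesColimits X (Discrete J)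
  have : Limits.PreservesColimitsOfShape (Discrete J) ψ := inferInstance
  exact inferInstanceAs (Limits.PreservesColimitsOfShape (Discrete J)
    (ObjectProperty.ι (QCohCat.isQCoh X) ⋙ ψ ⋙ Scheme.Modules.pushforward q))

end Groth.Agent.S6771
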