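import Groth.Statements.S6772
import Groth.Agent.DirImgAff.Basic
import Groth.Agent.QCoh.Pullback
import Groth.Agent.QCohGen.Closed
import Groth.Agent.LimTop.TensorQC
import Groth.Agent.KFlat.StalkTensor
-- import your own Groth.Agent.* helpers here

set_option autoImplicit false
universe u
open CategoryTheory AlgebraicGeometry
attribute [local instance] HasDerivedCategory.standard
open FunMor

namespace Groth.Agent.S6772

/-- The direction from kernels to functors: let R be a ring and X, Y schemes over R with X affine, and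
let K be a quasi-coherent O_{X ×_R Y}-module. Then the functor F_K : M ↦ pr_{2,*}(pr_1^* M ⊗ K),
from quasi-coherent O_X-modules to O_Y-modules, is right exact (preserves finite colimits) and
commutes with arbitrary direct sums. (pr_2 is affine, so pr_{2,*} is exact on quasi-coherent
modules.) -/
theorem result
    (R : Type u) [CommRing R] (X Y : Scheme.{u}) [X.Over (Spec (.of R))] [Y.Over (Spec (.of R))] [IsAffine X]
    (K : (Limits.pullback (X ↘ Spec (.of R)) (Y ↘ Spec (.of R))).Modules) (hK : Coh.IsQCoh K) :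
    Limits.PreservesFiniteColimits (ObjectProperty.ι (QCohCat.isQCoh X) ⋙ Scheme.Modules.pullback (Limits.pullback.fst (X ↘ Spec (.of R)) (Y ↘ Spec (.of R))) ⋙ DCoh.tensorRightMod K ⋙ Coh.push (Limits.pullback.snd (X ↘ Spec (.of R)) (Y ↘ Spec (.of R)))) ∧
      ∀ J : Type u, Limits.PreservesColimitsOfShape (Discrete J) (ObjectProperty.ι (QCohCat.isQCoh X) ⋙ Scheme.Modules.pullback (Limits.pullback.fst (X ↘ Spec (.of R)) (Y ↘ Spec (.of R))) ⋙ DCoh.tensorRightMod K ⋙ Coh.push (Limits.pullback.snd (X ↘ Spec (.of R)) (Y ↘ Spec (.of R)))) := by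
  set p₁ := Limits.pullback.fst (X ↘ Spec (.of R)) (Y ↘ Spec (.of R))
  set p₂ := Limits.pullback.snd (X ↘ Spec (.of R)) (Y ↘ Spec (.of R))
  haveI : IsAffineHom (X ↘ Spec (.of R)) := isAffineHom_of_isAffine _
  haveI : IsAffineHom p₂ := MorphismProperty.of_isPullback (P := @IsAffineHom) (IsPullback.of_hasPullback _ _) (inferInstanceAs (IsAffineHom (X ↘ Spec (.of R))))
  haveI : K.IsQuasicoherent := hK
  have key : Limits.PreservesColimitsOfSize.{u, u} (ObjectProperty.ι (QCohCat.isQCoh X) ⋙
      Scheme.Modules.pullback p₁ ⋙ DCoh.tensorRightMod K ⋙ Coh.push p₂) := ⟨fun {J} _ => ⟨fun {F} => by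
    haveI : Limits.PreservesColimitsOfSize.{u, u} (DCoh.tensorRightMod K) :=
      Groth.Agent.KFlat.preservesColimitsOfSize_tensorBi_flip_obj (O := (Limits.pullback (X ↘ Spec (.of R)) (Y ↘ Spec (.of R))).sheaf) K
    let G := ObjectProperty.ι (QCohCat.isQCoh X) ⋙ Scheme.Modules.pullback p₁ ⋙ DCoh.tensorRightMod K
    haveI : Limits.PreservesColimitsOfShape J (ObjectProperty.ι (QCohCat.isQCoh X)) :=
      Groth.Agent.QCohGen.instPreservesColimits X J
    haveI : Limits.PreservesColimit F G := inferInstance
    haveI : ∀ j, ((F ⋙ G).obj j).IsQuasicoherent := fun j => by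
      haveI : (F.obj j).obj.IsQuasicoherent := (F.obj j).property
      exact Groth.Agent.LimTop.TensorQC.isQuasicoherent_tensM
        ((Scheme.Modules.pullback p₁).obj (F.obj j).obj) K
    haveI : Limits.PreservesColimit (F ⋙ G) (Coh.push p₂) :=
      Groth.Agent.DirImgAff.preservesColimit_pushforward p₂ (F ⋙ G)
    exact Limits.comp_preservesColimit G (Coh.push p₂)⟩⟩
  haveI := key
  exact ⟨Limits.PreservesColimitsOfSize.preservesFiniteColimits _, fun J => inferInstance⟩

end Groth.Agent.S6772
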