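import Groth.Statements.S6775
import Mathlib.CategoryTheory.Abelian.CommSq
import Mathlib.CategoryTheory.Abelian.Basic

set_option autoImplicit false
open CategoryTheory CategoryTheory.Limits
universe v u
open CategoryTheory CategoryTheory.Abelian

namespace Groth.Agent.S6775

/-- In an abelian category a cartesian square whose bottom arrow `k` is an epimorphism is also
cocartesian, and the arrow `f` opposite to `k` is an epimorphism. -/
theorem result {A : Type u} [Category.{v} A] [Abelian A] {w x y z : A} (f : w ⟶ y) (g : w ⟶ x) (h : y ⟶ z) (k : x ⟶ z) (sq : IsPullback f g h k) [Epi k] : IsPushout f g h k ∧ Epi f := by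
  have hf : Epi f := Abelian.epi_fst_of_isLimit h k sq.isLimit
  refine ⟨?_, hf⟩
  have hex := sq.exact_shortComplex'
  have : Epi sq.shortComplex'.g := by
    change Epi (biprod.desc h (-k))
    refine ⟨fun u v huv => ?_⟩
    have := biprod.inr ≫= huv
    simpa [cancel_epi] using this
  have key : ∀ {T : A} (u : y ⟶ T) (v : x ⟶ T), f ≫ u = g ≫ v →
      ∃ φ : z ⟶ T, biprod.desc h (-k) ≫ φ = biprod.desc u (-v) := by
    intro T u v huv
    exact ⟨hex.desc (biprod.desc u (-v)) (by
      change biprod.lift f g ≫ _ = 0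
      simp [biprod.lift_desc, huv]), hex.g_desc _ _⟩
  have key1 : ∀ {T : A} (u : y ⟶ T) (v : x ⟶ T) (φ : z ⟶ T),
      biprod.desc h (-k) ≫ φ = biprod.desc u (-v) → h ≫ φ = u ∧ k ≫ φ = v := by
    intro T u v φ hφ
    exact ⟨by simpa using biprod.inl ≫= hφ, by simpa using biprod.inr ≫= hφ⟩
  choose φ hφ using fun s : PushoutCocone f g => key s.inl s.inr s.condition
  refine ⟨sq.toCommSq, ⟨PushoutCocone.IsColimit.mk sq.w φ
    (fun s => (key1 _ _ _ (hφ s)).1) (fun s => (key1 _ _ _ (hφ s)).2) (fun s m hm₁ hm₂ => ?_)⟩⟩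
  have : Epi (biprod.desc h (-k)) := by assumption
  rw [← cancel_epi (biprod.desc h (-k)), hφ]
  ext <;> simp [hm₁, hm₂]

end Groth.Agent.S6775
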