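import Groth.Statements.S6776
import Mathlib.CategoryTheory.Abelian.CommSq
import Mathlib.CategoryTheory.Abelian.Basic

set_option autoImplicit false
open CategoryTheory CategoryTheory.Limits
universe v u
open CategoryTheory CategoryTheory.Abelian

namespace Groth.Agent.S6776

/-- In an abelian category a cocartesian square whose left arrow `g` is a monomorphism is also
cartesian, and the arrow `h` opposite to `g` is a monomorphism. -/
theorem result {A : Type u} [Category.{v} A] [Abelian A] {w x y z : A} (f : w ⟶ y) (g : w ⟶ x) (h : y ⟶ z) (k : x ⟶ z) (sq : IsPushout f g h k) [Mono g] : IsPullback f g h k ∧ Mono h := by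
  have hh : Mono h := (MorphismProperty.monomorphisms A).of_isPushout sq (MorphismProperty.monomorphisms.infer_property g)
  refine ⟨?_, hh⟩
  have hex := sq.exact_shortComplex
  have : Mono sq.shortComplex.f := by
    change Mono (biprod.lift f (-g))
    refine ⟨fun u v huv => ?_⟩
    have := huv =≫ biprod.snd
    simpa [cancel_mono] using this
  have key : ∀ {T : A} (u : T ⟶ y) (v : T ⟶ x), u ≫ h = v ≫ k →
      ∃ φ : T ⟶ w, φ ≫ biprod.lift f (-g) = biprod.lift u (-v) := by
    intro T u v huv
    exact ⟨hex.lift (biprod.lift u (-v)) (by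
      change _ ≫ biprod.desc h k = 0
      simp [biprod.lift_desc, huv]), hex.lift_f _ _⟩
  have key1 : ∀ {T : A} (u : T ⟶ y) (v : T ⟶ x) (φ : T ⟶ w),
      φ ≫ biprod.lift f (-g) = biprod.lift u (-v) → φ ≫ f = u ∧ φ ≫ g = v := by
    intro T u v φ hφ
    exact ⟨by simpa using hφ =≫ biprod.fst, by simpa using hφ =≫ biprod.snd⟩
  choose φ hφ using fun s : PullbackCone h k => key s.fst s.snd s.condition
  refine ⟨sq.toCommSq, ⟨PullbackCone.IsLimit.mk sq.w φ
    (fun s => (key1 _ _ _ (hφ s)).1) (fun s => (key1 _ _ _ (hφ s)).2) (fun s m hm₁ hm₂ => ?_)⟩⟩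
  have : Mono (biprod.lift f (-g)) := by assumption
  rw [← cancel_mono (biprod.lift f (-g)), hφ]
  ext <;> simp [hm₁, hm₂]

end Groth.Agent.S6776
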