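import Groth.Statements.S6778
import Mathlib.CategoryTheory.Abelian.Refinements

set_option autoImplicit false
open CategoryTheory CategoryTheory.Limits
universe v u
open CategoryTheory CategoryTheory.Abelian

namespace Groth.Agent.S6778

/-- For a commutative diagram with rows `x ⟶ y ⟶ z` and `u ⟶ v ⟶ w` in an abelian category, if the
second row is exact and the second map `g` of the first row is an epimorphism, then the induced
sequence of cokernels of the vertical maps is exact. -/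
theorem result {A : Type u} [Category.{v} A] [Abelian A] {x y z u' v' w : A} (f : x ⟶ y) (g : y ⟶ z) (k : u' ⟶ v') (l : v' ⟶ w) (α : x ⟶ u') (β : y ⟶ v') (γ : z ⟶ w) (h₁ : α ≫ k = f ≫ β) (h₂ : β ≫ l = g ≫ γ) (hkl : k ≫ l = 0) (hex : (ShortComplex.mk k l hkl).Exact) [Epi g] : ∃ hc : cokernel.map α β f k h₁ ≫ cokernel.map β γ g l h₂ = 0, (ShortComplex.mk _ _ hc).Exact := by
  have hc : cokernel.map α β f k h₁ ≫ cokernel.map β γ g l h₂ = 0 := by
    apply (cancel_epi (cokernel.π α)).mp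
    simp [reassoc_of% hkl]
  refine ⟨hc, ?_⟩
  rw [ShortComplex.exact_iff_exact_up_to_refinements]
  intro T z hz
  dsimp at z hz
  obtain ⟨T₁, π₁, hπ₁, v, hv⟩ := surjective_up_to_refinements_of_epi (cokernel.π β) z
  have hv' : (v ≫ l) ≫ cokernel.π γ = 0 := by
    have : z ≫ cokernel.map β γ g l h₂ = 0 := hz
    have h3 := π₁ ≫= this
    rw [reassoc_of% hv] at h3
    simpa using h3
  obtain ⟨T₂, π₂, hπ₂, z', hz'⟩ :=
    (ShortComplex.exact_of_g_is_cokernel (ShortComplex.mk γ (cokernel.π γ) (cokernel.condition γ))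
      (cokernelIsCokernel γ)).exact_up_to_refinements _ hv'
  dsimp at z' hz'
  obtain ⟨T₃, π₃, hπ₃, y', hy'⟩ := surjective_up_to_refinements_of_epi g z'
  have hw : (π₃ ≫ π₂ ≫ v - y' ≫ β) ≫ l = 0 := by
    rw [Preadditive.sub_comp, Category.assoc, Category.assoc, Category.assoc, hz', h₂,
      ← reassoc_of% hy', sub_self]
  obtain ⟨T₄, π₄, hπ₄, u, hu⟩ := hex.exact_up_to_refinements _ hw
  dsimp at u hu
  refine ⟨T₄, π₄ ≫ π₃ ≫ π₂ ≫ π₁, inferInstance, u ≫ cokernel.π α, ?_⟩
  dsimp
  simp only [Category.assoc, cokernel.π_desc]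
  rw [hv, ← reassoc_of% hu]
  simp

end Groth.Agent.S6778
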