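import Groth.Statements.S6779
import Groth.Agent.SSetLib.GroupKan

set_option autoImplicit false
open CategoryTheory
universe u
open SSet

namespace Groth.Agent.S6779

open Groth.Agent.SSetLib Simplicial Opposite

/-- The underlying simplicial set of a simplicial group is a Kan complex. -/
theorem result (X : SimplicialObject GrpCat.{u}) : SSet.KanComplex (X ⋙ forget GrpCat.{u}) := by
  rw [SSet.KanComplex.iff]
  intro n i φ hφ
  let y : Fin (n + 2) → (X.obj (op ⦋n⦌) : Type u) := fun r =>
    if h : r = i then (1 : X.obj (op ⦋n⦌)) else SSet.yonedaEquiv (φ r h)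
  have hy : ∀ r (hr : r ≠ i), y r = SSet.yonedaEquiv (φ r hr) := fun r hr => dif_neg hr
  obtain ⟨g, hg⟩ : ∃ g : (X.obj (op ⦋n + 1⦌) : Type u), ∀ r, r ≠ i → X.δ r g = y r := by
    cases n with
    | zero =>
      obtain ⟨j, hj⟩ : ∃ j : Fin 2, j ≠ i := exists_ne i
      refine ⟨X.σ 0 (y j), fun r hr => ?_⟩
      obtain rfl : r = j := by fin_cases i <;> fin_cases j <;> fin_cases r <;> simp_all
      fin_cases r
      · exact ConcreteCategory.congr_hom (X.δ_comp_σ_self (i := (0 : Fin 1))) _
      · exact ConcreteCategory.congr_hom (X.δ_comp_σ_succ (i := (0 : Fin 1))) _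
    | succ m =>
      obtain ⟨g, -, hg⟩ := exists_fill (A := X _⦋m + 2⦌) (B := X _⦋m + 1⦌) (C := X _⦋m⦌)
        (fun r => (X.δ r).hom) (fun r => (X.δ r).hom) (fun r => (X.σ r).hom)
        (fun r => (X.σ r).hom) (fun j x => ConcreteCategory.congr_hom X.δ_comp_σ_self x)
        (fun j x => ConcreteCategory.congr_hom X.δ_comp_σ_succ x)
        (fun i j h x => ConcreteCategory.congr_hom (X.δ_comp_σ_of_le h) x)
        (fun i j h x => ConcreteCategory.congr_hom (X.δ_comp_σ_of_gt h) x)
        (fun i j h x => ConcreteCategory.congr_hom (X.δ_comp_δ h) x) ⊤ ⊤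
        (fun _ _ _ => trivial) (fun _ _ _ => trivial) i y (fun _ _ => trivial)
        (fun a b hab ha hb => by
          have h := congrArg SSet.yonedaEquiv
            ((SSet.horn.isCompatible_iff φ).mp hφ a.castSucc b.succ ha hb
              (Fin.castSucc_lt_succ_iff.mpr hab))
          rw [SSet.stdSimplex.yonedaEquiv_δ_comp, SSet.stdSimplex.yonedaEquiv_δ_comp] at h
          simp only [Fin.pred_succ, Fin.castPred_castSucc] at h
          rw [hy _ ha, hy _ hb]
          exact h.symm)
      exact ⟨g, hg⟩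
  refine ⟨SSet.yonedaEquiv.symm g, fun j hj => ?_⟩
  apply SSet.yonedaEquiv.injective
  rw [SSet.stdSimplex.yonedaEquiv_δ_comp, Equiv.apply_symm_apply, ← hy j hj]
  exact hg j hj

end Groth.Agent.S6779
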