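import Groth.Statements.S6780
import Groth.Agent.SSetLib.GroupKan

set_option autoImplicit false
open CategoryTheory
universe u
open SSet

namespace Groth.Agent.S6780

open Groth.Agent.SSetLib Simplicial Opposite

/-- A degreewise surjective homomorphism of simplicial abelian groups is a Kan fibration of the
underlying simplicial sets. -/
theorem result {X Y : SimplicialObject AddCommGrpCat.{u}} (f : X ⟶ Y) (hf : ∀ n : SimplexCategoryᵒᵖ, Function.Surjective (f.app n)) : SSet.modelCategoryQuillen.J.rlp (X := X ⋙ forget AddCommGrpCat.{u}) (Y := Y ⋙ forget AddCommGrpCat.{u}) (Functor.whiskerRight f (forget AddCommGrpCat.{u})) := by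
  rename' X => P, Y => Q
  intro A B ι hι
  simp only [SSet.modelCategoryQuillen.J, MorphismProperty.iSup_iff] at hι
  obtain ⟨n, ⟨i⟩⟩ := hι
  refine ⟨fun {t b} sq => ?_⟩
  let y : Fin (n + 2) → (P.obj (op ⦋n⦌) : Type u) := fun r =>
    if h : r = i then (0 : P.obj (op ⦋n⦌)) else SSet.yonedaEquiv (horn.ι i r h ≫ t)
  have hy : ∀ r (hr : r ≠ i), y r = SSet.yonedaEquiv (horn.ι i r hr ≫ t) :=
    fun r hr => dif_neg hr
  let b' : (Q.obj (op ⦋n + 1⦌) : Type u) := SSet.yonedaEquiv b
  have hyb : ∀ r, r ≠ i → f.app (op ⦋n⦌) (y r) = Q.δ r b' := by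
    intro r hr
    rw [hy r hr]
    have h := congrArg (fun φ => SSet.yonedaEquiv (horn.ι i r hr ≫ φ)) sq.w
    beta_reduce at h
    rw [horn.ι_ι_assoc, SSet.stdSimplex.yonedaEquiv_δ_comp, ← Category.assoc,
      SSet.yonedaEquiv_comp] at h
    exact h
  obtain ⟨g, hgb, hg⟩ : ∃ g : (P.obj (op ⦋n + 1⦌) : Type u), f.app (op ⦋n + 1⦌) g = b' ∧
      ∀ r, r ≠ i → P.δ r g = y r := by
    cases n with
    | zero =>
      obtain ⟨j, hj⟩ : ∃ j : Fin 2, j ≠ i := exists_ne i
      obtain ⟨x, hx⟩ := hf _ b'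
      refine ⟨x + P.σ 0 (y j - P.δ j x), ?_, fun r hr => ?_⟩
      · rw [map_add, hx, add_eq_left,
          show f.app (op ⦋0 + 1⦌) (P.σ 0 (y j - P.δ j x)) = Q.σ 0 (f.app (op ⦋0⦌) (y j - P.δ j x))
            from ConcreteCategory.congr_hom (f.naturality (SimplexCategory.σ 0).op) _,
          map_sub, hyb j hj, app_δ, hx, sub_self, map_zero]
      · obtain rfl : r = j := by fin_cases i <;> fin_cases j <;> fin_cases r <;> simp_all
        rw [map_add]
        have : P.δ r (P.σ 0 (y r - P.δ r x)) = y r - P.δ r x := by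
          fin_cases r
          · exact ConcreteCategory.congr_hom (P.δ_comp_σ_self (i := (0 : Fin 1))) _
          · exact ConcreteCategory.congr_hom (P.δ_comp_σ_succ (i := (0 : Fin 1))) _
        rw [this, add_sub_cancel]
    | succ m =>
      exact exists_horn_lift f i y b' (hf _ b') hyb fun a c hac ha hc => by
        have h := congrArg SSet.yonedaEquiv ((SSet.horn.isCompatible_iff _).mp
          (SSet.horn.IsCompatible.of_hom t) a.castSucc c.succ ha hc
            (Fin.castSucc_lt_succ_iff.mpr hac))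
        rw [SSet.stdSimplex.yonedaEquiv_δ_comp, SSet.stdSimplex.yonedaEquiv_δ_comp] at h
        simp only [Fin.pred_succ, Fin.castPred_castSucc] at h
        rw [hy _ ha, hy _ hc]
        exact h.symm
  refine ⟨⟨{ l := SSet.yonedaEquiv.symm g, fac_left := ?_, fac_right := ?_ }⟩⟩
  · refine horn.hom_ext' fun r hr => SSet.yonedaEquiv.injective ?_
    rw [horn.ι_ι_assoc, SSet.stdSimplex.yonedaEquiv_δ_comp, Equiv.apply_symm_apply, ← hy r hr]
    exact hg r hr
  · apply SSet.yonedaEquiv.injective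
    rw [SSet.yonedaEquiv_comp, Equiv.apply_symm_apply]
    exact hgb

end Groth.Agent.S6780
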