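import Groth.Statements.S6781
import Groth.Agent.SSetLib.GroupKan
import Groth.Agent.SSetLib.Normalized

set_option autoImplicit false
open CategoryTheory
universe u
open SSet

namespace Groth.Agent.S6781

open Groth.Agent.SSetLib Simplicial Opposite AlgebraicTopology AlgebraicTopology.DoldKan

section

variable {X Y : SimplicialObject AddCommGrpCat.{u}} (f : X ⟶ Y)
  (hf : ∀ n : SimplexCategoryᵒᵖ, Function.Surjective (f.app n))

include hf

lemma exists_bd_ker [QuasiIso ((alternatingFaceMapComplex AddCommGrpCat.{u}).map f)] {n : ℕ}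
    {z : (Alt X).X n} (hz : AbCx.IsCyc z) (hzn : IsNorm z) (hfz : f.app (op ⦋n⦌) z = 0) :
    ∃ c : X _⦋n + 1⦌, f.app (op ⦋n + 1⦌) c = 0 ∧ (∀ j : Fin (n + 1), X.δ j.succ c = 0) ∧
      X.δ 0 c = z := by
  let φ : Alt X ⟶ Alt Y := (alternatingFaceMapComplex AddCommGrpCat.{u}).map f
  have hφ : ∀ (m : ℕ) (a : (Alt X).X m), φ.f m a = f.app (op ⦋m⦌) a := fun m a => rfl
  obtain ⟨c', hc'⟩ := AbCx.isBd_of_quasiIsoAt φ hz ⟨0, by rw [map_zero, hφ]; exact hfz.symm⟩
  have hw : AbCx.IsCyc (φ.f (n + 1) c') := by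
    rw [AbCx.isCyc_succ]
    exact (ConcreteCategory.congr_hom (φ.comm (n + 1) n) c').trans
      ((congrArg (φ.f n) hc').trans hfz)
  obtain ⟨w, hw, v, hv⟩ := AbCx.exists_cyc_of_quasiIsoAt φ hw
  obtain ⟨u', hu'⟩ := hf (op ⦋n + 2⦌) v
  let c : (Alt X).X (n + 1) := c' - w - (Alt X).d (n + 2) (n + 1) u'
  have hfc : φ.f (n + 1) c = 0 := by
    have : φ.f (n + 1) ((Alt X).d (n + 2) (n + 1) u') = (Alt Y).d (n + 2) (n + 1) v := by
      rw [← hu']
      exact (ConcreteCategory.congr_hom (φ.comm (n + 2) (n + 1)) u').symm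
    simp only [c, map_sub, this, hv]
    abel
  have hdc : (Alt X).d (n + 1) n c = z := by
    have := ConcreteCategory.congr_hom ((Alt X).d_comp_d (n + 2) (n + 1) n) u'
    simp only [c, map_sub, hc', AbCx.isCyc_succ.mp hw]
    rw [show (Alt X).d (n + 1) n ((Alt X).d (n + 2) (n + 1) u') = 0 from this]
    simp
  refine ⟨(PInfty : Alt X ⟶ Alt X).f (n + 1) c, ?_, isNorm_PInfty c, ?_⟩
  · refine (ConcreteCategory.congr_hom (PInfty_f_naturality (n + 1) f) c).symm.trans ?_
    refine (congrArg ((PInfty : Alt Y ⟶ Alt Y).f (n + 1))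
      (show f.app (op ⦋n + 1⦌) c = (0 : (Alt Y).X (n + 1)) from (hφ _ c).symm.trans hfc)).trans ?_
    exact map_zero _
  · rw [← d_apply_of_isNorm (isNorm_PInfty c)]
    exact (ConcreteCategory.congr_hom ((PInfty : Alt X ⟶ Alt X).comm (n + 1) n) c).trans
      ((congrArg ((PInfty : Alt X ⟶ Alt X).f n) hdc).trans (PInfty_apply_of_isNorm hzn))

lemma exists_boundary_fill [QuasiIso ((alternatingFaceMapComplex AddCommGrpCat.{u}).map f)] {n : ℕ}
    (y : Fin (n + 2) → X _⦋n⦌) (b : Y _⦋n + 1⦌)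
    (hyb : ∀ r, f.app (op ⦋n⦌) (y r) = Y.δ r b)
    (hy : ∀ m (h : n = m + 1) (i j : Fin (m + 2)), i ≤ j →
      X.map (SimplexCategory.δ i ≫ eqToHom (by rw [h])).op (y ⟨j.succ, by omega⟩) =
        X.map (SimplexCategory.δ j ≫ eqToHom (by rw [h])).op (y ⟨i.castSucc, by omega⟩)) :
    ∃ g, f.app (op ⦋n + 1⦌) g = b ∧ ∀ r, X.δ r g = y r := by
  cases n with
  | zero =>
    obtain ⟨x, hx⟩ := hf _ b
    let g₀ := x + X.σ 0 (y 1 - X.δ 1 x)
    have h1 : X.δ 1 g₀ = y 1 := by
      simp only [g₀, map_add]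
      rw [show X.δ 1 (X.σ 0 (y 1 - X.δ 1 x)) = y 1 - X.δ 1 x from
        ConcreteCategory.congr_hom (X.δ_comp_σ_succ (i := (0 : Fin 1))) _, add_sub_cancel]
    have hg₀ : f.app (op ⦋1⦌) g₀ = b := by
      simp only [g₀, map_add]
      rw [hx, add_eq_left,
        show f.app (op ⦋0 + 1⦌) (X.σ 0 (y 1 - X.δ 1 x)) = Y.σ 0 (f.app (op ⦋0⦌) (y 1 - X.δ 1 x))
          from ConcreteCategory.congr_hom (f.naturality (SimplexCategory.σ 0).op) _,
        map_sub, hyb 1, app_δ, hx, sub_self, map_zero]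
    obtain ⟨c, hfc, hc, hc0⟩ := exists_bd_ker f hf (z := y 0 - X.δ 0 g₀) (AbCx.isCyc_zero _)
      trivial (by rw [map_sub, hyb 0, app_δ, hg₀, sub_self])
    refine ⟨g₀ + c, by rw [map_add, hg₀, hfc, add_zero], fun r => ?_⟩
    rw [map_add]
    fin_cases r
    · exact (congrArg (_ + ·) hc0).trans (add_sub_cancel _ _)
    · exact (congrArg (_ + ·) (hc 0)).trans ((add_zero _).trans h1)
  | succ m =>
    have hy' : ∀ i j : Fin (m + 2), i ≤ j → X.δ i (y j.succ) = X.δ j (y i.castSucc) := by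
      intro i j hij
      have := hy m rfl i j hij
      simp only [eqToHom_refl, Category.comp_id] at this
      exact this
    obtain ⟨g, hg, hgy⟩ := exists_horn_lift f 0 y b (hf _ b) (fun r _ => hyb r)
      (fun i j hij _ _ => hy' i j hij)
    have hz : ∀ r : Fin (m + 2), X.δ r (y 0 - X.δ 0 g) = 0 := by
      intro r
      have := hy' 0 r (Fin.zero_le r)
      rw [Fin.castSucc_zero] at this
      rw [map_sub, ← this, sub_eq_zero, ← hgy r.succ (Fin.succ_ne_zero r),
        δ_δ_apply X (Fin.zero_le r), Fin.castSucc_zero]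
    obtain ⟨c, hfc, hc, hc0⟩ := exists_bd_ker f hf (z := y 0 - X.δ 0 g) (isCyc_of_δ_eq_zero hz)
      (fun j => hz j.succ) (by rw [map_sub, hyb 0, app_δ, hg, sub_self])
    refine ⟨g + c, by rw [map_add, hg, hfc, add_zero], fun r => ?_⟩
    rw [map_add]
    rcases Fin.eq_zero_or_eq_succ r with rfl | ⟨j, rfl⟩
    · exact (congrArg (_ + ·) hc0).trans (add_sub_cancel _ _)
    · exact (congrArg (_ + ·) (hc j)).trans ((add_zero _).trans (hgy _ (Fin.succ_ne_zero j)))

end

/-- A degreewise surjective homomorphism of simplicial abelian groups inducing a quasi-isomorphism of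
the associated chain complexes is a trivial Kan fibration of the underlying simplicial sets. -/
theorem result {X Y : SimplicialObject AddCommGrpCat.{u}} (f : X ⟶ Y) (hf : ∀ n : SimplexCategoryᵒᵖ, Function.Surjective (f.app n)) (hq : QuasiIso ((AlgebraicTopology.alternatingFaceMapComplex AddCommGrpCat.{u}).map f)) : SSet.modelCategoryQuillen.I.rlp (X := X ⋙ forget AddCommGrpCat.{u}) (Y := Y ⋙ forget AddCommGrpCat.{u}) (Functor.whiskerRight f (forget AddCommGrpCat.{u})) := by
  rename' X => P, Y => Q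
  intro A B ι hι
  obtain ⟨n⟩ := hι
  refine ⟨fun {t b} sq => ?_⟩
  cases n with
  | zero =>
    obtain ⟨g, hg⟩ := hf (op ⦋0⦌) (SSet.yonedaEquiv b)
    refine ⟨⟨{ l := SSet.yonedaEquiv.symm g, fac_left := boundary.hom_ext₀, fac_right := ?_ }⟩⟩
    apply SSet.yonedaEquiv.injective
    rw [SSet.yonedaEquiv_comp, Equiv.apply_symm_apply]
    exact hg
  | succ n =>
    let y : Fin (n + 2) → (P.obj (op ⦋n⦌) : Type u) := fun r => SSet.yonedaEquiv (boundary.ι r ≫ t)
    obtain ⟨g, hgb, hg⟩ := exists_boundary_fill f hf y (SSet.yonedaEquiv b) (fun r => by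
        have h := congrArg (fun φ => SSet.yonedaEquiv (boundary.ι r ≫ φ)) sq.w
        beta_reduce at h
        rw [boundary.ι_ι_assoc, SSet.stdSimplex.yonedaEquiv_δ_comp, ← Category.assoc,
          SSet.yonedaEquiv_comp] at h
        exact h) (by
        rintro m rfl i j hij
        simp only [eqToHom_refl, Category.comp_id, y]
        refine (SSet.stdSimplex.yonedaEquiv_δ_comp (X := P ⋙ forget AddCommGrpCat.{u})
          (boundary.ι j.succ ≫ t) i).symm.trans
          (Eq.trans ?_ (SSet.stdSimplex.yonedaEquiv_δ_comp (X := P ⋙ forget AddCommGrpCat.{u})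
            (boundary.ι i.castSucc ≫ t) j))
        refine congrArg SSet.yonedaEquiv ?_
        simp only [← Category.assoc]
        congr 1
        rw [← cancel_mono (boundary (m + 1 + 1)).ι, Category.assoc, Category.assoc, boundary.ι_ι,
          boundary.ι_ι]
        exact SSet.stdSimplex.δ_comp_δ hij)
    refine ⟨⟨{ l := SSet.yonedaEquiv.symm g, fac_left := ?_, fac_right := ?_ }⟩⟩
    · refine boundary.hom_ext fun r => SSet.yonedaEquiv.injective ?_
      rw [boundary.ι_ι_assoc, SSet.stdSimplex.yonedaEquiv_δ_comp, Equiv.apply_symm_apply]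
      exact hg r
    · apply SSet.yonedaEquiv.injective
      rw [SSet.yonedaEquiv_comp, Equiv.apply_symm_apply]
      exact hgb

end Groth.Agent.S6781
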