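import Groth.Statements.S6782
import Groth.Agent.SSetLib.Cosk

set_option autoImplicit false
open CategoryTheory Opposite
universe u
open SSet

namespace Groth.Agent.S6782

open Simplicial Opposite Groth.Agent.SSetLib

/-- A map of `n`-coskeletal simplicial sets which is bijective on simplices of dimension `< n` and
surjective on `n`-simplices is a trivial Kan fibration. -/
theorem result {U V : SSet.{u}} (f : V ⟶ U) (n : ℕ) (h1 : ∀ i : ℕ, i < n → Function.Bijective (f.app (op (SimplexCategory.mk i)))) (h2 : Function.Surjective (f.app (op (SimplexCategory.mk n)))) [SimplicialObject.IsCoskeletal U n] [SimplicialObject.IsCoskeletal V n] : SSet.modelCategoryQuillen.I.rlp f := by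
  intro A B ι hι
  obtain ⟨m⟩ := hι
  have hU := uniqueLift U n
  have hV := uniqueLift V n
  refine ⟨fun {t b} sq => ?_⟩
  rcases le_or_gt m n with hm | hm
  · obtain ⟨x, hx⟩ : ∃ x, f.app _ x = yonedaEquiv b := by
      rcases hm.lt_or_eq with h | rfl
      · exact (h1 m h).2 _
      · exact h2 _
    have hl : yonedaEquiv.symm x ≫ f = b :=
      yonedaEquiv.injective (by rw [yonedaEquiv_comp, Equiv.apply_symm_apply, hx])
    refine ⟨⟨{ l := yonedaEquiv.symm x, fac_left := ?_, fac_right := hl }⟩⟩
    cases m with
    | zero => exact boundary.hom_ext₀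
    | succ j =>
      refine boundary.hom_ext fun i => yonedaEquiv.injective ((h1 j (by omega)).1 ?_)
      rw [← yonedaEquiv_comp, ← yonedaEquiv_comp]
      simp only [Category.assoc, hl]
      rw [sq.w]
  · let η : ∀ k, k ≤ n → ((Δ[m] : SSet.{u}) _⦋k⦌ ⟶ V _⦋k⦌) := fun k hk =>
      ↾fun s => t.app _ ⟨s, by rw [boundary_obj_eq_univ k m (by omega)]; exact Set.mem_univ _⟩
    obtain ⟨l, hl⟩ := exists_extension hV η (fun k k' hk hk' ψ => by
      ext s
      exact ConcreteCategory.congr_hom (t.naturality ψ.op)
        ⟨s, by rw [boundary_obj_eq_univ k m (by omega)]; exact Set.mem_univ _⟩)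
    refine ⟨⟨{ l := l, fac_left := ?_, fac_right := ?_ }⟩⟩
    · refine natTrans_ext hV fun k hk => ?_
      ext s
      exact (ConcreteCategory.congr_hom (hl k hk) s.1).trans rfl
    · refine natTrans_ext hU fun k hk => ?_
      ext s
      exact (congrArg (f.app _) (ConcreteCategory.congr_hom (hl k hk) s)).trans
        (ConcreteCategory.congr_hom (congr_app sq.w (op (SimplexCategory.mk k))) _)

end Groth.Agent.S6782
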