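import Groth.Statements.S6783
import Mathlib.CategoryTheory.Limits.Shapes.ConcreteCategory
-- import your own Groth.Agent.* helpers here

set_option autoImplicit false
open CategoryTheory
universe u
open SSet

namespace Groth.Agent.S6783

open Simplicial Opposite

/-- For a surjective map of sets `f : A → B`, the augmentation from the Čech nerve of `f` (with
`n`-simplices the `(n+1)`-fold fibre product of `A` over `B`) to the constant simplicial set `B` is
a trivial Kan fibration. -/
theorem result {A B : Type u} (f : A ⟶ B) (hf : Function.Surjective f) : SSet.modelCategoryQuillen.I.rlp (Arrow.mk f).augmentedCechNerve.hom := by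
  intro P Q ι hι
  obtain ⟨m⟩ := hι
  refine ⟨fun {t b} sq => ?_⟩
  have hb : ∀ {k} (s : (Δ[m] : SSet.{u}).obj k),
      b.app k s = b.app (op (SimplexCategory.mk m)) (stdSimplex.objEquiv.symm (𝟙 _)) := by
    intro k s
    obtain ⟨φ, rfl⟩ := stdSimplex.objEquiv.symm.surjective s
    have := ConcreteCategory.congr_hom (b.naturality φ.op) (stdSimplex.objEquiv.symm (𝟙 _))
    refine Eq.trans ?_ this
    exact congrArg (b.app k) (by
      apply stdSimplex.objEquiv.injective
      simp only [Equiv.apply_symm_apply]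
      change φ = φ ≫ 𝟙 _
      simp)
  let b₀ : B := b.app (op (SimplexCategory.mk m)) (stdSimplex.objEquiv.symm (𝟙 _))
  have key : ∀ a : Fin (m + 1), ∃ x : A, f x = b₀ ∧ ∀ h, x =
      Limits.WidePullback.π (fun _ : Fin (0 + 1) => f) 0
        (t.app (op (SimplexCategory.mk 0)) ⟨stdSimplex.const m a _, h⟩) := by
    intro a
    by_cases h : stdSimplex.const m a (op (SimplexCategory.mk 0)) ∈ (boundary m).obj _
    · refine ⟨Limits.WidePullback.π (fun _ : Fin (0 + 1) => f) 0
        (t.app (op (SimplexCategory.mk 0)) ⟨stdSimplex.const m a _, h⟩), ?_, fun _ => rfl⟩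
      refine (ConcreteCategory.congr_hom
        (Limits.WidePullback.π_arrow (fun _ : Fin (0 + 1) => f) 0) _).trans ?_
      exact (ConcreteCategory.congr_hom (congr_app sq.w (op (SimplexCategory.mk 0)))
        ⟨_, h⟩).trans (hb _)
    · obtain ⟨x, hx⟩ := hf b₀
      exact ⟨x, hx, fun h' => absurd h' h⟩
  choose x hx₁ hx₂ using key
  let z : (Arrow.mk f).cechNerve.obj (op (SimplexCategory.mk m)) :=
    Limits.WidePullback.lift (arrows := fun _ : Fin (m + 1) => f)
      (↾fun _ : PUnit.{u + 1} => b₀) (fun a => ↾fun _ => x a)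
      (fun a => by ext; exact hx₁ a) PUnit.unit
  have hzb : Limits.WidePullback.base (fun _ : Fin (m + 1) => f) z = b₀ :=
    ConcreteCategory.congr_hom (Limits.WidePullback.lift_base (fun _ : Fin (m + 1) => f)
      (↾fun _ : PUnit.{u + 1} => b₀) _ _) PUnit.unit
  have hzπ : ∀ a, Limits.WidePullback.π (fun _ : Fin (m + 1) => f) a z = x a := fun a =>
    ConcreteCategory.congr_hom (Limits.WidePullback.lift_π (fun _ : Fin (m + 1) => f)
      (↾fun _ : PUnit.{u + 1} => b₀) _ _ a) PUnit.unit
  have hl : ∀ {j : ℕ} (φ : ⦋j⦌ ⟶ ⦋m⦌),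
      Limits.WidePullback.base (fun _ : Fin (j + 1) => f) ((Arrow.mk f).cechNerve.map φ.op z) = b₀ ∧
      ∀ a, Limits.WidePullback.π (fun _ : Fin (j + 1) => f) a ((Arrow.mk f).cechNerve.map φ.op z) =
        x (φ.toOrderHom a) := by
    intro j φ
    constructor
    · refine Eq.trans ?_ hzb
      exact ConcreteCategory.congr_hom (Limits.WidePullback.lift_base (fun _ : Fin (j + 1) => f)
        _ _ _) z
    · intro a
      refine Eq.trans ?_ (hzπ _)
      exact ConcreteCategory.congr_hom (Limits.WidePullback.lift_π (fun _ : Fin (j + 1) => f)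
        _ _ _ a) z
  refine ⟨⟨{ l := yonedaEquiv.symm z, fac_left := ?_, fac_right := ?_ }⟩⟩
  · apply NatTrans.ext
    funext k
    apply ConcreteCategory.hom_ext
    rintro ⟨s, hs⟩
    obtain ⟨φ, rfl⟩ := stdSimplex.objEquiv.symm.surjective s
    refine CategoryTheory.Limits.Concrete.widePullback_ext (fun _ : Fin (k.unop.len + 1) => f) _ _ ?_ ?_
    · refine ((hl φ).1).trans ((hb (stdSimplex.objEquiv.symm φ)).symm.trans ?_)
      exact (ConcreteCategory.congr_hom (congr_app sq.w k) ⟨_, hs⟩).symm
    · intro a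
      refine ((hl φ).2 a).trans ?_
      have hn := ConcreteCategory.congr_hom
        (t.naturality (SimplexCategory.const ⦋0⦌ k.unop a).op) ⟨_, hs⟩
      have hv : stdSimplex.const m (φ.toOrderHom a) (op ⦋0⦌) ∈ (boundary m).obj _ := by
        rw [show stdSimplex.const m (φ.toOrderHom a) (op ⦋0⦌) =
          (Δ[m] : SSet.{u}).map (SimplexCategory.const ⦋0⦌ k.unop a).op
            (stdSimplex.objEquiv.symm φ) from stdSimplex.ext _ _ fun j => rfl]
        exact (boundary m).map (SimplexCategory.const ⦋0⦌ k.unop a).op hs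
      rw [hx₂ _ hv]
      refine Eq.trans ?_ (ConcreteCategory.congr_hom (Limits.WidePullback.lift_π
        (fun _ : Fin (0 + 1) => f) (Limits.WidePullback.base (fun _ : Fin (k.unop.len + 1) => f))
        (fun i => Limits.WidePullback.π (fun _ : Fin (k.unop.len + 1) => f)
          ((SimplexCategory.const ⦋0⦌ k.unop a).toOrderHom i)) (fun i => by simp) 0)
        (t.app k ⟨_, hs⟩))
      refine congrArg (Limits.WidePullback.π (fun _ : Fin (0 + 1) => f) 0) ?_
      refine Eq.trans ?_ hn
      rfl
  · apply NatTrans.ext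
    funext k
    apply ConcreteCategory.hom_ext
    intro s
    obtain ⟨φ, rfl⟩ := stdSimplex.objEquiv.symm.surjective s
    exact (hl φ).1.trans (hb (stdSimplex.objEquiv.symm φ)).symm

end Groth.Agent.S6783
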