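import Groth.Statements.S6784
import Groth.Agent.SSetLib.Cosk

set_option autoImplicit false
open CategoryTheory
universe u
open SSet

namespace Groth.Agent.S6784

open Groth.Agent.SSetLib Simplicial

/-- The standard simplex `Δ[n]` is `1`-coskeletal, i.e. it is the right Kan extension of its
`1`-truncation. -/
theorem result (n : ℕ) : SimplicialObject.IsCoskeletal (SSet.stdSimplex.{u}.obj (SimplexCategory.mk n)) 1 := by
  refine isCoskeletal_of_uniqueLift fun M T e he => ?_
  have hv : ∀ (t : T) k (hk : k ≤ 1) (φ : SimplexCategory.mk k ⟶ SimplexCategory.mk M)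
      (j : Fin (k + 1)),
      e k hk φ t j = e 0 zero_le_one (SimplexCategory.const _ _ (φ.toOrderHom j)) t 0 := by
    intro t k hk φ j
    have h1 := he k 0 hk zero_le_one (SimplexCategory.const _ _ j) φ
    rw [show SimplexCategory.const (SimplexCategory.mk 0) (SimplexCategory.mk k) j ≫ φ =
      SimplexCategory.const _ _ (φ.toOrderHom j) from by ext; rfl] at h1
    rw [h1]
    rfl
  refine ⟨↾fun t => stdSimplex.objMk ⟨fun a => e 0 zero_le_one (SimplexCategory.const _ _ a) t 0,
    fun a b hab => ?_⟩, fun k hk φ => ?_, fun g hg => ?_⟩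
  · have := (stdSimplex.asOrderHom (e 1 le_rfl (SimplexCategory.mkOfLe a b hab) t)).monotone
      (show (0 : Fin 2) ≤ 1 by decide)
    exact ((hv t 1 le_rfl (SimplexCategory.mkOfLe a b hab) 0).symm.le.trans this).trans
      (hv t 1 le_rfl (SimplexCategory.mkOfLe a b hab) 1).le
  · apply ConcreteCategory.hom_ext; intro t
    exact stdSimplex.ext _ _ fun j => (hv t k hk φ j).symm
  · apply ConcreteCategory.hom_ext; intro t
    refine stdSimplex.ext _ _ fun a => ?_
    have := ConcreteCategory.congr_hom (hg 0 zero_le_one (SimplexCategory.const _ _ a)) t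
    exact congrArg (fun s => stdSimplex.asOrderHom s 0) this

end Groth.Agent.S6784
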