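import Groth.Statements.S6785
-- import your own Groth.Agent.* helpers here

set_option autoImplicit false
open CategoryTheory
universe u
open SSet

namespace Groth.Agent.S6785

open MonoidalCategory CartesianMonoidalCategory Simplicial Opposite

/-- The ends of the cylinder. -/
noncomputable def ends (X : SSet.{u}) : (X ⊗ Δ[1] : SSet.{u}).Subcomplex where
  obj m := {p | (∀ j : Fin (m.unop.len + 1), stdSimplex.asOrderHom p.2 j = 0) ∨ (∀ j : Fin (m.unop.len + 1), stdSimplex.asOrderHom p.2 j = 1)}
  map φ p hp := hp.imp (fun h _ => h _) (fun h _ => h _)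

open Classical in
/-- A pair of maps as a map on the ends of the cylinder. -/
noncomputable def endsDesc {X Z : SSet.{u}} (a b : X ⟶ Z) : (ends X).toSSet ⟶ Z where
  app m := ↾fun p => if (∀ j : Fin (m.unop.len + 1), stdSimplex.asOrderHom p.1.2 j = 0) then a.app m p.1.1
    else b.app m p.1.1
  naturality m m' φ := by
    ext ⟨⟨x, t⟩, hp⟩
    rcases (id hp : (∀ j, stdSimplex.asOrderHom t j = 0) ∨ ∀ j, stdSimplex.asOrderHom t j = 1) with h | h
    · refine (if_pos (fun j => h _)).trans (Eq.trans ?_ (congrArg (Z.map φ) (if_pos h)).symm)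
      exact ConcreteCategory.congr_hom (a.naturality φ) x
    · refine (if_neg fun h' => zero_ne_one ((h' 0).symm.trans (h _))).trans
        (Eq.trans ?_ (congrArg (Z.map φ) (if_neg fun h' => zero_ne_one ((h' 0).symm.trans (h 0)))).symm)
      exact ConcreteCategory.congr_hom (b.naturality φ) x

lemma homotopy_of {X Y : SSet.{u}} (f : X ⟶ Y)
    (key : ∀ {P Q : SSet.{u}} (i : P ⟶ Q) [Mono i], HasLiftingProperty i f)
    (a b : X ⟶ X) (h : a ≫ f = b ≫ f) : Nonempty (SSet.Homotopy a b) := by
  have := key (ends X).ι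
  have sq : CommSq (endsDesc a b) (ends X).ι f (fst X Δ[1] ≫ a ≫ f) := ⟨by
    ext m ⟨⟨x, t⟩, hp⟩
    classical
    rcases (id hp : (∀ j, stdSimplex.asOrderHom t j = 0) ∨ ∀ j, stdSimplex.asOrderHom t j = 1) with h' | h'
    · exact congrArg (f.app m) (if_pos h')
    · refine (congrArg (f.app m) (if_neg fun h'' => zero_ne_one ((h'' 0).symm.trans (h' 0)))).trans ?_
      exact ConcreteCategory.congr_hom (congr_app h.symm m) x⟩
  refine ⟨{ h := sq.lift, h₀ := ?_, h₁ := ?_, rel := ?_ }⟩
  · ext m x
    have := ConcreteCategory.congr_hom (congr_app sq.fac_left m)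
      ⟨(ι₀ : X ⟶ X ⊗ Δ[1]).app m x, Or.inl fun _ => rfl⟩
    exact this.trans (if_pos fun _ => rfl)
  · ext m x
    have := ConcreteCategory.congr_hom (congr_app sq.fac_left m)
      ⟨(ι₁ : X ⟶ X ⊗ Δ[1]).app m x, Or.inr fun _ => rfl⟩
    exact this.trans (if_neg fun h'' => one_ne_zero (h'' 0))
  · ext m p
    exact p.1.2.elim

/-- A trivial Kan fibration `f : X ⟶ Y` of simplicial sets is a homotopy equivalence; more precisely it
has a section `g`, and `g ∘ f` is homotopic to the identity of `X` by a single homotopy in each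
direction. (The published statement only asserts a homotopy equivalence; the section and the
one-step homotopies are what its proof constructs.) -/
theorem result {X Y : SSet.{u}} (f : X ⟶ Y) (hf : SSet.modelCategoryQuillen.I.rlp f) : ∃ g : Y ⟶ X, g ≫ f = 𝟙 Y ∧ Nonempty (SSet.Homotopy (𝟙 X) (f ≫ g)) ∧ Nonempty (SSet.Homotopy (f ≫ g) (𝟙 X)) := by
  have hm : (MorphismProperty.monomorphisms SSet.{u}).rlp f := by rw [rlp_monomorphisms]; exact hf
  have key : ∀ {P Q : SSet.{u}} (i : P ⟶ Q) [Mono i], HasLiftingProperty i f := fun i hi => hm i hi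
  have := key (⊥ : Y.Subcomplex).ι
  have sq : CommSq ((Subcomplex.isInitialBot (X := Y)).to X) (⊥ : Y.Subcomplex).ι f (𝟙 Y) :=
    ⟨(Subcomplex.isInitialBot (X := Y)).hom_ext _ _⟩
  refine ⟨sq.lift, sq.fac_right, ?_, ?_⟩
  · refine homotopy_of f key (𝟙 X) (f ≫ sq.lift) ?_
    rw [Category.assoc, sq.fac_right, Category.id_comp, Category.comp_id]
  · refine homotopy_of f key (f ≫ sq.lift) (𝟙 X) ?_
    rw [Category.assoc, sq.fac_right, Category.id_comp, Category.comp_id]

end Groth.Agent.S6785
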