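import Groth.Statements.S6786
import Groth.Agent.LimTower.Complex

set_option autoImplicit false
open CategoryTheory CategoryTheory.Limits
universe u
open HomAlg3

namespace Groth.Agent.S6786

/-- For a sequence `(A_i) ⟶ (B_i) ⟶ (C_i) ⟶ (D_i)` of inverse systems of abelian groups over `ℕ` that is
exact levelwise at the two middle places, if `(A_i)` is Mittag-Leffler then `lim B_i ⟶ lim C_i ⟶ lim
D_i` is exact. -/
theorem result {A B C D : ℕᵒᵖ ⥤ AddCommGrpCat.{u}} (a : A ⟶ B) (b : B ⟶ C) (c : C ⟶ D) (hB : ∀ i, (b.app i).hom.ker = (a.app i).hom.range) (hC : ∀ i, (c.app i).hom.ker = (b.app i).hom.range) (hA : (A ⋙ forget AddCommGrpCat).IsMittagLeffler) : (limMap c).hom.ker = (limMap b).hom.range := by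
  ext y
  constructor
  · intro (hy : (limMap c).hom y = 0)
    exact Groth.Agent.LimTower.Basic.exists_lift_limit
      ⟨Set.univ, Set.countable_univ, fun i => ⟨i, trivial, le_rfl⟩⟩ a b
      (fun i x hx => (hB i).le (show x ∈ (b.app i).hom.ker from hx))
      (fun i x => (hB i).ge ⟨x, rfl⟩) hA y fun i => (hC i).le (show _ ∈ (c.app i).hom.ker from
        ((ConcreteCategory.congr_hom (limMap_π c i) y).symm.trans
          ((congrArg (limit.π D i).hom hy).trans (map_zero _))))
  · rintro ⟨x, rfl⟩
    refine Concrete.limit_ext _ _ _ fun i => ?_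
    rw [map_zero]
    refine (ConcreteCategory.congr_hom (limMap_π c i) _).trans
      ((congrArg (c.app i).hom (ConcreteCategory.congr_hom (limMap_π b i) x)).trans ?_)
    exact (hC i).ge ⟨_, rfl⟩

end Groth.Agent.S6786
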