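import Groth.Statements.S6788
import Mathlib.CategoryTheory.Localization.CalculusOfFractions.Preadditive

set_option autoImplicit false
open CategoryTheory CategoryTheory.Limits
universe v u v' u'
open CategoryTheory CategoryTheory.Localization

namespace Groth.Agent.S6788

/-- For a multiplicative system `W` (left and right calculus of fractions) in a preadditive category
with a zero object and its localization functor `L`, an object `X` becomes zero in the localization
iff some zero map out of `X` lies in `W`, iff some zero map into `X` lies in `W`. (The published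
statement assumes the category additive; only the zero object and the preadditive structure are
used.) -/
theorem result {C : Type u} [Category.{v} C] [Preadditive C] [HasZeroObject C] {D : Type u'} [Category.{v'} D] (L : C ⥤ D) (W : MorphismProperty C) [W.HasLeftCalculusOfFractions] [W.HasRightCalculusOfFractions] [L.IsLocalization W] (X : C) : (IsZero (L.obj X) ↔ ∃ Y : C, W (0 : X ⟶ Y)) ∧ (IsZero (L.obj X) ↔ ∃ Z : C, W (0 : Z ⟶ X)) := by
  let := Localization.preadditive L W
  have : L.Additive := Localization.functor_additive L W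
  have inv : ∀ {Y Z : C}, W (0 : Y ⟶ Z) → IsZero (L.obj Y) ∧ IsZero (L.obj Z) := by
    intro Y Z h
    have := Localization.inverts L W _ h
    have h0 : L.map (0 : Y ⟶ Z) = 0 := L.map_zero Y Z
    constructor
    · rw [IsZero.iff_id_eq_zero]
      exact (cancel_mono (L.map (0 : Y ⟶ Z))).mp (by simp [h0])
    · rw [IsZero.iff_id_eq_zero]
      exact (cancel_epi (L.map (0 : Y ⟶ Z))).mp (by simp [h0])
  refine ⟨⟨fun h => ?_, fun ⟨Y, hY⟩ => (inv hY).1⟩, ⟨fun h => ?_, fun ⟨Z, hZ⟩ => (inv hZ).2⟩⟩
  · obtain ⟨Z, s, hs, fac⟩ :=
      (MorphismProperty.map_eq_iff_postcomp L W (𝟙 X) 0).mp (h.eq_of_src _ _)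
    rw [Category.id_comp, zero_comp] at fac
    exact ⟨Z, fac ▸ hs⟩
  · obtain ⟨Z, s, hs, fac⟩ :=
      (MorphismProperty.map_eq_iff_precomp L W (𝟙 X) 0).mp (h.eq_of_src _ _)
    rw [Category.comp_id, comp_zero] at fac
    exact ⟨Z, fac ▸ hs⟩

end Groth.Agent.S6788
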