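import Groth.Statements.S6789
import Groth.Agent.SSetLib.HomotopyFamily

set_option autoImplicit false
open CategoryTheory CategoryTheory.Limits
universe v u
open CategoryTheory CategoryTheory.SimplicialObject

set_option backward.isDefEq.respectTransparency false

namespace Groth.Agent.S6789

open Groth.Agent.SSetLib Simplicial Opposite

variable {C : Type u} [Category.{v} C] (f : Arrow C)
  [∀ n : ℕ, HasWidePullback f.right (fun _ : Fin (n + 1) => f.left) (fun _ => f.hom)]
  (a b : f.left ⟶ f.left) (ha : a ≫ f.hom = f.hom) (hb : b ≫ f.hom = f.hom)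

/-- Apply `a` or `b` factorwise, as prescribed by a simplex of the interval. -/
noncomputable def fam {M : ℕ} (t : (Δ[1] : SSet.{0}) _⦋M⦌) :
    f.cechNerve _⦋M⦌ ⟶ f.cechNerve _⦋M⦌ :=
  WidePullback.lift (WidePullback.base _)
    (fun j : Fin (M + 1) => WidePullback.π (fun _ => f.hom) j ≫ if t j = 0 then a else b)
    (fun j => by split_ifs <;> simp [ha, hb])

lemma fam_natural {M M' : ℕ} (ψ : ⦋M'⦌ ⟶ ⦋M⦌) (t : (Δ[1] : SSet.{0}) _⦋M⦌) :
    fam f a b ha hb t ≫ f.cechNerve.map ψ.op =
      f.cechNerve.map ψ.op ≫ fam f a b ha hb ((Δ[1] : SSet.{0}).map ψ.op t) := by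
  refine WidePullback.hom_ext _ _ _ (fun j => ?_) ?_
  · simp [fam, Arrow.cechNerve, WidePullback.lift_π, WidePullback.lift_π_assoc, WidePullback.lift_base, WidePullback.lift_base_assoc]
    rfl
  · simp [fam, Arrow.cechNerve, WidePullback.lift_π, WidePullback.lift_π_assoc, WidePullback.lift_base, WidePullback.lift_base_assoc]

/-- For a morphism `f : Y ⟶ X` with a section `s`, the endomorphism of the Čech nerve of `f` (the
simplicial object of iterated fibre products of `Y` over `X`) that applies `s ∘ f` factorwise admits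
simplicial homotopies to and from the identity: the published formula gives one direction and its
mirror image (exchange the roles of the identity and `s ∘ f`) gives the other. -/
theorem result {C : Type u} [Category.{v} C] {Y X : C} (f : Y ⟶ X) (s : X ⟶ Y) (hs : s ≫ f = 𝟙 X) [∀ n : ℕ, HasWidePullback (Arrow.mk f).right (fun _ : Fin (n + 1) => (Arrow.mk f).left) (fun _ => (Arrow.mk f).hom)] (φ : Arrow.mk f ⟶ Arrow.mk f) (hφl : φ.left = f ≫ s) (hφr : φ.right = 𝟙 X) : Nonempty (SimplicialObject.Homotopy (𝟙 (Arrow.mk f).cechNerve) (Arrow.mapCechNerve φ)) ∧ Nonempty (SimplicialObject.Homotopy (Arrow.mapCechNerve φ) (𝟙 (Arrow.mk f).cechNerve)) := by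
  have hφ : φ.left ≫ (Arrow.mk f).hom = (Arrow.mk f).hom := by
    rw [show φ.left ≫ (Arrow.mk f).hom = (Arrow.mk f).hom ≫ φ.right from φ.w, hφr]
    exact Category.comp_id _
  have hF : ∀ (a b : (Arrow.mk f).left ⟶ (Arrow.mk f).left) (ha : a ≫ (Arrow.mk f).hom = (Arrow.mk f).hom)
      (hb : b ≫ (Arrow.mk f).hom = (Arrow.mk f).hom) (F : Arrow.mk f ⟶ Arrow.mk f)
      (hFr : F.right = 𝟙 _) {M : ℕ} (t : (Δ[1] : SSet.{0}) _⦋M⦌)
      (_ : ∀ j : Fin (M + 1), (if t j = 0 then a else b) = F.left),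
      fam (Arrow.mk f) a b ha hb t = (Arrow.mapCechNerve F).app (op ⦋M⦌) := by
    intro a b ha hb F hFr M t ht
    refine WidePullback.hom_ext _ _ _ (fun j => ?_) ?_
    · simp [fam, Arrow.mapCechNerve, ht, WidePullback.lift_π, WidePullback.lift_base]
    · simp [fam, Arrow.mapCechNerve, hFr, WidePullback.lift_π, WidePullback.lift_base]
  have hid : 𝟙 (Arrow.mk f).cechNerve = Arrow.mapCechNerve (𝟙 (Arrow.mk f)) := by
    ext n
    refine WidePullback.hom_ext _ _ _ (fun j => ?_) ?_ <;> simp [Arrow.mapCechNerve, WidePullback.lift_π, WidePullback.lift_base]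
  rw [hid]
  constructor
  · exact ⟨homotopyOfFamily (fun {_} t => fam (Arrow.mk f) (𝟙 _) φ.left (Category.id_comp _) hφ t)
      (fam_natural _ _ _ _ _)
      (fun t ht => hF _ _ _ _ _ rfl t fun j => (if_pos (ht j)).trans rfl)
      (fun t ht => hF _ _ _ _ _ hφr t fun j => if_neg (by rw [ht j]; exact one_ne_zero))⟩
  · exact ⟨homotopyOfFamily (fun {_} t => fam (Arrow.mk f) φ.left (𝟙 _) hφ (Category.id_comp _) t)
      (fam_natural _ _ _ _ _)
      (fun t ht => hF _ _ _ _ _ hφr t fun j => (if_pos (ht j)))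
      (fun t ht => hF _ _ _ _ _ rfl t fun j => (if_neg (by rw [ht j]; exact one_ne_zero)).trans rfl)⟩

end Groth.Agent.S6789
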