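import Groth.Statements.S6790
import Mathlib.CategoryTheory.Monoidal.Rigid.Basic
import Mathlib.CategoryTheory.Idempotents.Basic
import Mathlib.Tactic.CategoryTheory.Monoidal.Basic

set_option autoImplicit false
open CategoryTheory CategoryTheory.Limits MonoidalCategory
universe v u
open CategoryTheory CategoryTheory.Monoidal

namespace Groth.Agent.S6790

/-- In an idempotent-complete additive monoidal category, a direct summand of an object admitting a dual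
(with coevaluation `𝟙_ A ⟶ X ⊗ Y` and evaluation `Y ⊗ X ⟶ 𝟙_ A`) again admits such a dual. -/
theorem result {A : Type u} [Category.{v} A] [Preadditive A] [HasFiniteBiproducts A] [MonoidalCategory A] [MonoidalPreadditive A] [IsIdempotentComplete A] {X X₁ : A} (i : X₁ ⟶ X) (p : X ⟶ X₁) (hip : i ≫ p = 𝟙 X₁) [HasRightDual X] : Nonempty (HasRightDual X₁) := by
  let e : X ⟶ X := p ≫ i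
  have hee : e ≫ e = e := by simp [e, reassoc_of% hip]
  have hee' : (rightAdjointMate e) ≫ (rightAdjointMate e) = (rightAdjointMate e) := by rw [← comp_rightAdjointMate, hee]
  obtain ⟨Y₁, j, q, hjq, hqj⟩ := IsIdempotentComplete.idempotents_split _ (rightAdjointMate e) hee'
  have hep : e ≫ p = p := by simp [e, hip]
  have hje : j ≫ (rightAdjointMate e) = j := by rw [← hqj, reassoc_of% hjq]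
  refine ⟨{ rightDual := Y₁
            exact :=
              { coevaluation' := η_ X Xᘁ ≫ p ▷ Xᘁ ≫ X₁ ◁ q
                evaluation' := j ▷ X₁ ≫ Xᘁ ◁ i ≫ ε_ X Xᘁ
                coevaluation_evaluation' := ?_
                evaluation_coevaluation' := ?_ } }⟩
  · calc _ = 𝟙 _ ⊗≫ (Y₁ ◁ (η_ X Xᘁ ≫ p ▷ Xᘁ ≫ X₁ ◁ q) ≫ j ▷ (X₁ ⊗ Y₁)) ⊗≫
          (Xᘁ ◁ i ≫ ε_ X Xᘁ) ▷ Y₁ := by monoidal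
      _ = 𝟙 _ ⊗≫ j ⊗≫ Xᘁ ◁ (η_ X Xᘁ ≫ p ▷ Xᘁ) ⊗≫
          ((Xᘁ ⊗ X₁) ◁ q ≫ (Xᘁ ◁ i ≫ ε_ X Xᘁ) ▷ Y₁) ⊗≫ 𝟙 _ := by
        rw [whisker_exchange]; monoidal
      _ = 𝟙 _ ⊗≫ j ⊗≫ Xᘁ ◁ η_ X Xᘁ ⊗≫ (Xᘁ ◁ e ≫ ε_ X Xᘁ) ▷ Xᘁ ⊗≫ q ⊗≫ 𝟙 _ := by
        rw [whisker_exchange]; simp only [e]; monoidal
      _ = 𝟙 _ ⊗≫ j ⊗≫ (Xᘁ ◁ η_ X Xᘁ ≫ (rightAdjointMate e) ▷ (X ⊗ Xᘁ)) ⊗≫ ε_ X Xᘁ ▷ Xᘁ ⊗≫ q ⊗≫ 𝟙 _ := by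
        rw [← rightAdjointMate_comp_evaluation]; monoidal
      _ = 𝟙 _ ⊗≫ (j ≫ (rightAdjointMate e)) ⊗≫ (Xᘁ ◁ η_ X Xᘁ ⊗≫ ε_ X Xᘁ ▷ Xᘁ) ⊗≫ q ⊗≫ 𝟙 _ := by
        rw [whisker_exchange]; monoidal
      _ = 𝟙 _ ⊗≫ (j ≫ q) ⊗≫ 𝟙 _ := by
        rw [hje, ExactPairing.coevaluation_evaluation'']; monoidal
      _ = _ := by rw [hjq]; monoidal
  · calc _ = 𝟙 _ ⊗≫ (η_ X Xᘁ ≫ p ▷ Xᘁ ≫ X₁ ◁ (q ≫ j)) ▷ X₁ ⊗≫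
          X₁ ◁ (Xᘁ ◁ i ≫ ε_ X Xᘁ) := by monoidal
      _ = 𝟙 _ ⊗≫ ((η_ X Xᘁ ≫ X ◁ (rightAdjointMate e)) ≫ p ▷ Xᘁ) ▷ X₁ ⊗≫
          X₁ ◁ (Xᘁ ◁ i ≫ ε_ X Xᘁ) := by rw [hqj, Category.assoc, whisker_exchange]
      _ = 𝟙 _ ⊗≫ (η_ X Xᘁ ≫ (e ≫ p) ▷ Xᘁ) ▷ X₁ ⊗≫
          X₁ ◁ (Xᘁ ◁ i ≫ ε_ X Xᘁ) := by
        rw [coevaluation_comp_rightAdjointMate]; monoidal
      _ = 𝟙 _ ⊗≫ η_ X Xᘁ ▷ X₁ ⊗≫ (p ▷ (Xᘁ ⊗ X₁) ≫ X₁ ◁ (Xᘁ ◁ i ≫ ε_ X Xᘁ)) ⊗≫ 𝟙 _ := by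
        rw [hep]; monoidal
      _ = 𝟙 _ ⊗≫ (η_ X Xᘁ ▷ X₁ ≫ (X ⊗ Xᘁ) ◁ i) ⊗≫ (X ◁ ε_ X Xᘁ ≫ p ▷ 𝟙_ A) ⊗≫ 𝟙 _ := by
        rw [← whisker_exchange]; monoidal
      _ = 𝟙 _ ⊗≫ i ⊗≫ (η_ X Xᘁ ▷ X ⊗≫ X ◁ ε_ X Xᘁ) ⊗≫ p ⊗≫ 𝟙 _ := by
        rw [← whisker_exchange]; monoidal
      _ = 𝟙 _ ⊗≫ (i ≫ p) ⊗≫ 𝟙 _ := by
        rw [ExactPairing.evaluation_coevaluation'']; monoidal
      _ = _ := by rw [hip]; monoidal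

end Groth.Agent.S6790
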