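import Groth.Statements.S6791
import Mathlib.CategoryTheory.Abelian.SerreClass.Localization

set_option autoImplicit false
open CategoryTheory CategoryTheory.Limits
universe v u v' u' v'' u''
open CategoryTheory CategoryTheory.SerreClass

namespace Groth.Agent.S6791

/-- For an exact functor `F : A ⥤ B` of abelian categories and a Serre class `P` of `A` killed by `F`,
with `L : A ⥤ Q` a model of the quotient `A/P` and `Fbar : Q ⥤ B` the induced functor, `P` is
exactly the kernel of `F` if and only if `Fbar` is faithful. -/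
theorem result {A : Type u} [Category.{v} A] [Abelian A] {B : Type u'} [Category.{v'} B] [Abelian B] (F : A ⥤ B) [F.Additive] [PreservesFiniteLimits F] [PreservesFiniteColimits F] (P : ObjectProperty A) [P.IsSerreClass] (hP : ∀ X : A, P X → IsZero (F.obj X)) {Q : Type u''} [Category.{v''} Q] [Abelian Q] (L : A ⥤ Q) [L.IsLocalization P.isoModSerre] [L.Additive] [PreservesFiniteLimits L] [PreservesFiniteColimits L] (Fbar : Q ⥤ B) (e : L ⋙ Fbar ≅ F) : (∀ X : A, IsZero (F.obj X) → P X) ↔ Fbar.Faithful := by
  have : (L ⋙ Fbar).Additive := Functor.additive_of_iso e.symm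
  have : Fbar.Additive := (Localization.functor_additive_iff L P.isoModSerre Fbar).mpr this
  constructor
  · intro h
    refine ⟨fun {A' B'} φ ψ hφ => sub_eq_zero.mp ?_⟩
    have := Localization.essSurj L P.isoModSerre
    obtain ⟨X, ⟨eX⟩⟩ : ∃ X, Nonempty (L.obj X ≅ A') := ⟨_, ⟨L.objObjPreimageIso A'⟩⟩
    obtain ⟨Y, ⟨eY⟩⟩ : ∃ Y, Nonempty (L.obj Y ≅ B') := ⟨_, ⟨L.objObjPreimageIso B'⟩⟩
    obtain ⟨z, hz⟩ := Localization.exists_leftFraction L P.isoModSerre (eX.hom ≫ (φ - ψ) ≫ eY.inv)
    have := Localization.inverts L P.isoModSerre z.s z.hs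
    have hz' : L.map z.f = (eX.hom ≫ (φ - ψ) ≫ eY.inv) ≫ L.map z.s := by
      rw [hz, MorphismProperty.LeftFraction.map, Category.assoc, IsIso.inv_hom_id, Category.comp_id]
    have h0 : Fbar.map (L.map z.f) = 0 := by
      rw [hz']
      simp only [Functor.map_comp, Functor.map_sub, hφ, sub_self, zero_comp, comp_zero]
    have hF : F.map z.f = 0 := by
      have hn : Fbar.map (L.map z.f) ≫ e.hom.app z.Y' = e.hom.app X ≫ F.map z.f :=
        e.hom.naturality z.f
      rw [h0, zero_comp] at hn
      exact (cancel_epi (e.hom.app X)).mp (by rw [← hn, comp_zero])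
    have hI : IsZero (F.obj (Abelian.image z.f)) := by
      rw [IsZero.iff_id_eq_zero, ← cancel_mono (F.map (Abelian.image.ι z.f)),
        ← cancel_epi (F.map (Abelian.factorThruImage z.f)), Category.id_comp, zero_comp,
        comp_zero, ← F.map_comp, Abelian.image.fac, hF]
    have hLf : L.map z.f = 0 := (ObjectProperty.SerreClassLocalization.map_eq_zero_iff L P z.f).mpr (h _ hI)
    rw [hLf] at hz'
    have h1 : eX.hom ≫ (φ - ψ) ≫ eY.inv = 0 :=
      (cancel_mono (L.map z.s)).mp (by rw [← hz', zero_comp])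
    exact (cancel_mono eY.inv).mp ((cancel_epi eX.hom).mp (by simpa using h1))
  · intro h X hX
    rw [← ObjectProperty.SerreClassLocalization.isZero_obj_iff L P]
    have hz : IsZero (Fbar.obj (L.obj X)) := hX.of_iso (e.app X)
    rw [IsZero.iff_id_eq_zero] at hz ⊢
    exact Fbar.map_injective (by rw [Fbar.map_id, hz, Fbar.map_zero])

end Groth.Agent.S6791
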