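import Groth.Statements.S6792
import Groth.Agent.SpSeqLib.FinFil

set_option autoImplicit false
open CategoryTheory
universe v u
open SpSeq SpSeq.FilCx

namespace Groth.Agent.S6792

/-- For a filtered complex whose filtration is finite in each degree, the associated spectral sequence
is bounded (from page `0` on), the induced filtration on each cohomology object is finite, and the
spectral sequence converges to the cohomology. -/
theorem result {A : Type u} [Category.{v} A] [Abelian A] (K : SpSeq.FilCx A) (hK : ∀ n : ℤ, (K.XFil n).IsFinite) : K.IsBounded 0 ∧ (∀ n : ℤ, (K.HFil n).IsFinite) ∧ K.Converges := by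
  have hH := SpSeqLib.hFil_finite K hK
  refine ⟨SpSeqLib.isBounded_zero K hK, hH, ?_, ⟨fun p n => ?_, fun n =>
    SpSeqLib.fil_finite_separated_exhaustive _ (hH n)⟩, fun n =>
    SpSeqLib.fil_finite_complete _ (hH n)⟩
  · intro p n
    obtain ⟨r₀, hr⟩ := SpSeqLib.exists_stationary K hK p n
    exact ⟨r₀, fun r h => (hr r h).1.trans (hr r₀ le_rfl).1.symm⟩
  · obtain ⟨r₀, hr⟩ := SpSeqLib.exists_stationary K hK p n
    exact ⟨⟨by rintro _ ⟨r, rfl⟩; exact SpSeqLib.ZTop_le_ZSub K r p n,
      fun S hS => (hr r₀ le_rfl).1 ▸ hS ⟨r₀, rfl⟩⟩,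
      ⟨by rintro _ ⟨r, rfl⟩; exact SpSeqLib.BSub_le_BBot K r p n,
      fun S hS => (hr r₀ le_rfl).2 ▸ hS ⟨r₀, rfl⟩⟩⟩

end Groth.Agent.S6792
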