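import Groth.Statements.S6793
import Groth.Agent.SpSeqLib.FinFil
import Mathlib.Algebra.Homology.ExactSequence

set_option autoImplicit false
open CategoryTheory CategoryTheory.Limits
universe v u
open SpSeq SpSeq.FilCx
open scoped ZeroObject

namespace Groth.Agent.S6793

open Groth.Agent.SpSeqLib

section

variable {A : Type u} [Category.{v} A] [Abelian A] (P : ObjectProperty A)
  [P.IsClosedUnderIsomorphisms]
  (h0 : ∃ Z : A, IsZero Z ∧ P Z)
  (hP : ∀ S : ComposableArrows A 4, S.Exact → P (S.obj 0) → P (S.obj 1) → P (S.obj 3) →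
    P (S.obj 4) → P (S.obj 2))

include hP in
lemma five {a b c d e : A} (f : a ⟶ b) (g : b ⟶ c) (h : c ⟶ d) (i : d ⟶ e)
    (w₁ : f ≫ g = 0) (w₂ : g ≫ h = 0) (w₃ : h ≫ i = 0)
    (e₁ : (ShortComplex.mk f g w₁).Exact) (e₂ : (ShortComplex.mk g h w₂).Exact)
    (e₃ : (ShortComplex.mk h i w₃).Exact)
    (pa : P a) (pb : P b) (pd : P d) (pe : P e) : P c :=
  hP (ComposableArrows.mk₄ f g h i)
    (ComposableArrows.exact_of_δ₀ e₁.exact_toComposableArrows
      (ComposableArrows.exact_of_δ₀ e₂.exact_toComposableArrows e₃.exact_toComposableArrows))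
    pa pb pd pe

include h0 in
lemma zero_mem {Z : A} (h : IsZero Z) : P Z := by
  obtain ⟨Z', hZ', pZ'⟩ := h0
  exact P.prop_of_iso (hZ'.iso h) pZ'

include h0 hP in
lemma kernel_mem {a b : A} (f : a ⟶ b) (pa : P a) (pb : P b) : P (kernel f) :=
  five P hP (0 : (0 : A) ⟶ (0 : A)) (0 : (0 : A) ⟶ kernel f) (kernel.ι f) f
    zero_comp zero_comp (kernel.condition f)
    (ShortComplex.exact_of_isZero_X₂ _ (isZero_zero A))
    ((ShortComplex.exact_iff_mono _ rfl).2 inferInstance)
    (ShortComplex.exact_of_f_is_kernel _ (kernelIsKernel f))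
    (zero_mem P h0 (isZero_zero A)) (zero_mem P h0 (isZero_zero A)) pa pb

include h0 hP in
lemma cokernel_mem {a b : A} (f : a ⟶ b) (pa : P a) (pb : P b) : P (cokernel f) :=
  five P hP f (cokernel.π f) (0 : cokernel f ⟶ (0 : A)) (0 : (0 : A) ⟶ (0 : A))
    (cokernel.condition f) comp_zero comp_zero
    (ShortComplex.exact_of_g_is_cokernel _ (cokernelIsCokernel f))
    ((ShortComplex.exact_iff_epi _ rfl).2 inferInstance)
    (ShortComplex.exact_of_isZero_X₂ _ (isZero_zero A))
    pa pb (zero_mem P h0 (isZero_zero A)) (zero_mem P h0 (isZero_zero A))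

include h0 hP in
lemma mem_of_epi_exact {a b c : A} (δ : a ⟶ b) (q : b ⟶ c) [Epi q] (w : δ ≫ q = 0)
    (he : (ShortComplex.mk δ q w).Exact) (pa : P a) (pb : P b) : P c :=
  P.prop_of_iso ((cokernelIsCokernel δ).coconePointUniqueUpToIso he.gIsCokernel)
    (cokernel_mem P h0 hP δ pa pb)

include h0 hP in
lemma extension_mem {a b : A} (f : a ⟶ b) [Mono f] (pa : P a) (pc : P (cokernel f)) : P b :=
  five P hP (0 : (0 : A) ⟶ a) f (cokernel.π f) (0 : cokernel f ⟶ (0 : A))
    zero_comp (cokernel.condition f) comp_zero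
    ((ShortComplex.exact_iff_mono _ rfl).2 inferInstance)
    (ShortComplex.exact_of_g_is_cokernel _ (cokernelIsCokernel f))
    ((ShortComplex.exact_iff_epi _ rfl).2 inferInstance)
    (zero_mem P h0 (isZero_zero A)) pa pc (zero_mem P h0 (isZero_zero A))

include h0 hP in
lemma next_mem (K : SpSeq.FilCx A) (r : ℕ) (hr : ∀ p n : ℤ, P (K.E r p n)) (p n : ℤ) :
    P (K.E (r + 1) p n) := by
  obtain ⟨δ, hδ, hex⟩ := dE_prev_comp K r p n (p - r) (n - 1) (by omega) (by omega)
  have := epi_kerToNext K r p n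
  refine mem_of_epi_exact P h0 hP δ (kerToNext K r p n) hδ ?_ (hr _ _)
    (kernel_mem P h0 hP _ (hr _ _) (hr _ _))
  exact (ShortComplex.exact_iff_exact_up_to_refinements _).2 fun _ y hy => hex y hy

end


/-- For a filtered complex with degreewise finite filtration, if all terms of some page of its spectral
sequence lie in a weak Serre class `P`, then so does each cohomology object. -/
theorem result {A : Type u} [Category.{v} A] [Abelian A] (K : SpSeq.FilCx A) (hK : ∀ n : ℤ, (K.XFil n).IsFinite) (P : ObjectProperty A) [P.IsClosedUnderIsomorphisms] (h0 : ∃ Z : A, IsZero Z ∧ P Z) (hP : ∀ S : ComposableArrows A 4, S.Exact → P (S.obj 0) → P (S.obj 1) → P (S.obj 3) → P (S.obj 4) → P (S.obj 2)) (r : ℕ) (hr : ∀ p n : ℤ, P (K.E r p n)) (n : ℤ) : P (K.obj.homology n) := by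
  have hall : ∀ k, r ≤ k → ∀ p n : ℤ, P (K.E k p n) := by
    intro k hk
    induction k, hk using Nat.le_induction with
    | base => exact hr
    | succ k _ ih => exact next_mem P h0 hP K k ih
  have hgr : ∀ p, P (SpSeq.grPiece (K.HFil n).fil (K.HFil n).anti p) := by
    intro p
    obtain ⟨r₀, hr₀⟩ := exists_stationary K hK p n
    obtain ⟨e⟩ := nonempty_grPiece_iso K p n
    obtain ⟨e'⟩ := nonempty_iso_subquot_of_eq (K.BSub_le_ZSub (max r r₀) p n)
      (BBot_le_ZTop K p n) (hr₀ _ (le_max_right _ _)).1 (hr₀ _ (le_max_right _ _)).2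
    exact P.prop_of_iso (e' ≪≫ e.symm) (hall _ (le_max_left _ _) p n)
  obtain ⟨⟨a, ha⟩, b, hb⟩ := hFil_finite K hK n
  have hb' : (K.HFil n).fil (max a b) = ⊥ := le_bot_iff.1 (hb ▸ (K.HFil n).anti (le_max_right a b))
  have main : ∀ p, p ≤ max a b → P (((K.HFil n).fil p : Subobject _) : A) := by
    intro p hp
    induction p, hp using Int.leInductionDown with
    | base =>
      refine zero_mem P h0 ?_
      rw [hb']
      exact (isZero_zero A).of_iso Subobject.botCoeIsoZero
    | pred p hp ih =>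
      have key : ∀ q, q + 1 = p → P (((K.HFil n).fil q : Subobject _) : A) := by
        rintro q rfl
        exact extension_mem P h0 hP (((K.HFil n).fil (q + 1)).ofLE ((K.HFil n).fil q)
          ((K.HFil n).anti (Int.le_add_one le_rfl))) ih (hgr q)
      exact key _ (by omega)
  have hi : IsIso ((K.HFil n).fil a).arrow := (Subobject.isIso_arrow_iff_eq_top _).2 ha
  exact P.prop_of_iso (@asIso _ _ _ _ _ hi) (main a (le_max_left _ _))

end Groth.Agent.S6793
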