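import Groth.Statements.S6794
import Groth.Agent.SpSeqLib.FinFil
-- import your own Groth.Agent.* helpers here

set_option autoImplicit false
open CategoryTheory CategoryTheory.Limits
universe v u
open SpSeq SpSeq.FilCx

namespace Groth.Agent.S6794

open CategoryTheory CategoryTheory.Limits SpSeq SpSeqLib

variable {A : Type u} [Category.{v} A] [Abelian A] (K : SpSeq.FilCx A)

/-- A cocycle of `F^p K` which is a coboundary in `K` is one in `F^p K`, if `H(F^p K) → H(K)`
is injective. -/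
lemma exists_fil_of_mono (p n m : ℤ) (hm : m + 1 = n)
    (h : Mono (HomologicalComplex.homologyMap (K.fil p).arrow n)) {W : A} (z : W ⟶ K.obj.X n)
    (hzp : (K.filX p n).Factors z) (w : W ⟶ K.obj.X m) (hw : z = w ≫ K.obj.d m n) :
    ∃ (W' : A) (e : W' ⟶ W) (_ : Epi e) (w' : W' ⟶ K.obj.X m),
      (K.filX p m).Factors w' ∧ e ≫ z = w' ≫ K.obj.d m n := by
  obtain rfl : m = n - 1 := by omega
  obtain ⟨s, hs⟩ := (filX_factors_iff K p n z).1 hzp
  have hs0 : s ≫ (K.fil p : CochainComplex A ℤ).d n (n + 1) = 0 := by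
    rw [← cancel_mono ((K.fil p).arrow.f (n + 1)), zero_comp, Category.assoc,
      ← (K.fil p).arrow.comm, ← Category.assoc, hs, hw]
    simp
  obtain ⟨W', e, he, x, hx⟩ := (HomologicalComplex.mono_homologyMap_iff_up_to_refinements
    (K.fil p).arrow (n - 1) n (n + 1) (CochainComplex.prev ℤ n) (CochainComplex.next ℤ n)).1 h s hs0 w
    (hs.trans hw)
  refine ⟨W', e, he, x ≫ (K.fil p).arrow.f (n - 1), (filX_factors_iff K p _ _).2 ⟨x, rfl⟩, ?_⟩
  rw [Category.assoc, (K.fil p).arrow.comm, ← hs, reassoc_of% hx]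

/-- Every cocycle of `F^p K` is a coboundary in `F^p K`, if `H(F^p K) = 0`. -/
lemma exists_fil_of_isZero (p n m : ℤ) (hm : m + 1 = n)
    (h : IsZero ((K.fil p : CochainComplex A ℤ).homology n)) {W : A} (z : W ⟶ K.obj.X n)
    (hzp : (K.filX p n).Factors z) (hz : z ≫ K.obj.d n (n + 1) = 0) :
    ∃ (W' : A) (e : W' ⟶ W) (_ : Epi e) (w' : W' ⟶ K.obj.X m),
      (K.filX p m).Factors w' ∧ e ≫ z = w' ≫ K.obj.d m n := by
  obtain rfl : m = n - 1 := by omega
  obtain ⟨s, hs⟩ := (filX_factors_iff K p n z).1 hzp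
  have hs0 : s ≫ (K.fil p : CochainComplex A ℤ).d n (n + 1) = 0 := by
    rw [← cancel_mono ((K.fil p).arrow.f (n + 1)), zero_comp, Category.assoc,
      ← (K.fil p).arrow.comm, ← Category.assoc, hs, hz]
  obtain ⟨W', e, he, x, hx⟩ := (HomologicalComplex.exactAt_iff_exact_up_to_refinements
    _ (n - 1) n (n + 1) (CochainComplex.prev ℤ n) (CochainComplex.next ℤ n)).1
    ((HomologicalComplex.exactAt_iff_isZero_homology _ _).2 h) s hs0
  refine ⟨W', e, he, x ≫ (K.fil p).arrow.f (n - 1), (filX_factors_iff K p _ _).2 ⟨x, rfl⟩, ?_⟩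
  rw [Category.assoc, (K.fil p).arrow.comm, ← hs, reassoc_of% hx]

/-- Every cocycle of `K` is cohomologous to one in `F^p K`, if `H(F^p K) → H(K)` is surjective. -/
lemma exists_fil_of_epi (p n m : ℤ) (hm : m + 1 = n)
    (h : Epi (HomologicalComplex.homologyMap (K.fil p).arrow n)) {W : A} (z : W ⟶ K.obj.X n)
    (hz : z ≫ K.obj.d n (n + 1) = 0) :
    ∃ (W' : A) (e : W' ⟶ W) (_ : Epi e) (z' : W' ⟶ K.obj.X n) (v : W' ⟶ K.obj.X m),
      (K.filX p n).Factors z' ∧ z' ≫ K.obj.d n (n + 1) = 0 ∧ e ≫ z = z' + v ≫ K.obj.d m n := by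
  obtain rfl : m = n - 1 := by omega
  obtain ⟨W', e, he, x, hx, v, hv⟩ := (HomologicalComplex.epi_homologyMap_iff_up_to_refinements
    (K.fil p).arrow (n - 1) n (n + 1) (CochainComplex.prev ℤ n) (CochainComplex.next ℤ n)).1 h z hz
  exact ⟨W', e, he, _, v, (filX_factors_iff K p n _).2 ⟨x, rfl⟩,
    by rw [Category.assoc, (K.fil p).arrow.comm, reassoc_of% hx, zero_comp], hv⟩

section

variable (p₀ p₁ : ℤ → ℤ)
  (h0 : ∀ n p : ℤ, p₀ n ≤ p → IsZero ((K.fil p : CochainComplex A ℤ).homology n))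
  (h1 : ∀ n p : ℤ, p ≤ p₁ n → IsIso (HomologicalComplex.homologyMap (K.fil p).arrow n))

include h0 in
lemma ZSub_eq_ZTop' (r : ℕ) (p n : ℤ) (hr : 1 ≤ r) (hp : p₀ (n + 1) ≤ p + r) :
    K.ZSub r p n = K.ZTop p n := by
  refine le_antisymm (sup_le (SubElem.le_iff.2 fun W x hx => ?_) le_sup_right)
    (ZTop_le_ZSub K r p n)
  rw [SubElem.inf_factors_iff, SubElem.pullback_factors_iff] at hx
  obtain ⟨W', e, he, w, hw, hew⟩ := exists_fil_of_isZero K (p + r) (n + 1) n rfl (h0 _ _ hp) _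
    hx.2 (by simp)
  refine SubElem.factors_of_epi_comp e _ ((SubElem.sup_factors_iff _ _ _).2
    ⟨W', 𝟙 _, inferInstance, e ≫ x - w, w, (SubElem.inf_factors_iff _).2 ⟨?_, ?_⟩,
      filX_mono K (by omega) hw, by simp⟩)
  · exact SubElem.factors_sub (SubElem.comp_factors e hx.1) (filX_mono K (by omega) hw)
  · rw [SubElem.kernelSubobject_factors_iff, Preadditive.sub_comp, Category.assoc, hew, sub_self]

include h1 in
lemma BSub_eq_BBot' (r : ℕ) (p n : ℤ) (hr : 1 ≤ r) (hp : p - r + 1 ≤ p₁ n) :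
    K.BSub r p n = K.BBot p n := by
  refine le_antisymm (BSub_le_BBot K r p n) (SubElem.le_iff.2 fun W x hx => ?_)
  obtain ⟨W₁, e₁, he₁, w, b, hdw, hb, eq⟩ := (BBot_factors_iff K p n (n - 1) (by omega) x).1 hx
  have := h1 n _ hp
  obtain ⟨W₂, e₂, he₂, w', hw', eq'⟩ := exists_fil_of_mono K (p - r + 1) n (n - 1) (by omega)
    inferInstance _ (filX_mono K (by omega) hdw) w rfl
  refine (BSub_factors_iff K r p n (n - 1) (p - r + 1) (by omega) (by omega) x).2
    ⟨W₂, e₂ ≫ e₁, epi_comp _ _, w', e₂ ≫ b, hw', eq' ▸ SubElem.comp_factors e₂ hdw,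
      SubElem.comp_factors e₂ hb, ?_⟩
  rw [Category.assoc, eq, Preadditive.comp_add, eq']

include h0 in
lemma isZero_E_one_high (p n : ℤ) (hp : p₀ n ≤ p) (hp' : p₀ (n + 1) ≤ p + 1) :
    IsZero (K.E 1 p n) := by
  refine (subquot_isZero_iff _ _ _).2 (le_antisymm (K.BSub_le_ZSub 1 p n)
    (sup_le (SubElem.le_iff.2 fun W x hx => ?_) le_sup_right))
  rw [SubElem.inf_factors_iff, SubElem.pullback_factors_iff] at hx
  obtain ⟨W₁, e₁, he₁, w, hw, hew⟩ := exists_fil_of_isZero K (p + 1) (n + 1) n rfl (h0 _ _ hp') _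
    (by simpa using hx.2) (by simp)
  obtain ⟨W₂, e₂, he₂, v, hv, hev⟩ := exists_fil_of_isZero K p n (n - 1) (by omega) (h0 _ _ hp)
    (e₁ ≫ x - w)
    (SubElem.factors_sub (SubElem.comp_factors e₁ hx.1) (filX_mono K (by omega) hw))
    (by rw [Preadditive.sub_comp, Category.assoc, hew, sub_self])
  refine (BSub_factors_iff K 1 p n (n - 1) p (by omega) (by simp) x).2
    ⟨W₂, e₂ ≫ e₁, epi_comp _ _, v, e₂ ≫ w, hv, filX_map_d K n hv, SubElem.comp_factors e₂ hw, ?_⟩
  rw [← hev, Preadditive.comp_sub, Category.assoc, sub_add_cancel]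

include h1 in
lemma isZero_E_one_low (p n : ℤ) (hp : p + 1 ≤ p₁ n) (hp' : p + 1 ≤ p₁ (n + 1)) :
    IsZero (K.E 1 p n) := by
  refine (subquot_isZero_iff _ _ _).2 (le_antisymm (K.BSub_le_ZSub 1 p n)
    (sup_le (SubElem.le_iff.2 fun W x hx => ?_) le_sup_right))
  rw [SubElem.inf_factors_iff, SubElem.pullback_factors_iff] at hx
  have := h1 (n + 1) _ hp'
  obtain ⟨W₁, e₁, he₁, w, hw, hew⟩ := exists_fil_of_mono K (p + 1) (n + 1) n rfl inferInstance _
    (by simpa using hx.2) x rfl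
  have hxw : (K.filX p n).Factors (e₁ ≫ x - w) :=
    SubElem.factors_sub (SubElem.comp_factors e₁ hx.1) (filX_mono K (by omega) hw)
  have := h1 n _ hp
  obtain ⟨W₂, e₂, he₂, z, v, hz, hz0, hev⟩ := exists_fil_of_epi K (p + 1) n (n - 1) (by omega)
    inferInstance (e₁ ≫ x - w) (by rw [Preadditive.sub_comp, Category.assoc, hew, sub_self])
  have hvd : (K.filX p n).Factors (v ≫ K.obj.d (n - 1) n) := by
    rw [show v ≫ K.obj.d (n - 1) n = e₂ ≫ (e₁ ≫ x - w) - z from by rw [hev, add_sub_cancel_left]]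
    exact SubElem.factors_sub (SubElem.comp_factors e₂ hxw) (filX_mono K (by omega) hz)
  have := h1 n p (by omega)
  obtain ⟨W₃, e₃, he₃, v', hv', hev'⟩ := exists_fil_of_mono K p n (n - 1) (by omega)
    inferInstance _ hvd v rfl
  refine (BSub_factors_iff K 1 p n (n - 1) p (by omega) (by simp) x).2
    ⟨W₃, e₃ ≫ e₂ ≫ e₁, inferInstance, v', e₃ ≫ e₂ ≫ w + e₃ ≫ z, hv', filX_map_d K n hv',
      SubElem.factors_add (SubElem.comp_factors e₃ (SubElem.comp_factors e₂ hw))
        (SubElem.comp_factors e₃ hz), ?_⟩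
  have he : e₂ ≫ e₁ ≫ x = e₂ ≫ w + (z + v ≫ K.obj.d (n - 1) n) := by
    rw [← hev, Preadditive.comp_sub, add_sub_cancel]
  rw [Category.assoc, Category.assoc, he, ← hev', Preadditive.comp_add, Preadditive.comp_add]
  abel

include h0 h1 in
lemma hFil_finite' (n : ℤ) : (K.HFil n).IsFinite := by
  refine ⟨⟨p₁ n, ?_⟩, p₀ n, ?_⟩
  · have := h1 n _ le_rfl
    refine top_le_iff.1 (SubElem.le_iff.2 fun W γ _ => ?_)
    change W ⟶ K.obj.homology n at γ
    show (K.filH (p₁ n) n).Factors γ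
    exact (SubElem.imageSubobject_factors_iff _ _).2
      ⟨W, 𝟙 _, inferInstance, γ ≫ inv (HomologicalComplex.homologyMap (K.fil (p₁ n)).arrow n),
        by simp⟩
  · refine le_bot_iff.1 (SubElem.le_iff.2 fun W γ hγ => ?_)
    obtain ⟨W', e, he, g, hg⟩ := (SubElem.imageSubobject_factors_iff _ _).1 hγ
    rw [(h0 n _ le_rfl).eq_of_tgt g 0, zero_comp, ← comp_zero (f := e), cancel_epi] at hg
    exact (SubElem.bot_factors_iff γ).2 hg

end


/-- If the cohomology of the filtration steps of a filtered complex vanishes in each degree for large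
filtration index and maps isomorphically to the cohomology of the whole complex for small filtration
index, then the spectral sequence is bounded from page `1` on, the induced filtrations on cohomology
are finite, and the spectral sequence converges. (The published statement asserts boundedness
without naming a page, which read from page `0` fails for an acyclic complex with an infinite
filtration by acyclic subcomplexes; this row asserts boundedness from page `1`, which is what the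
published proof shows.) -/
theorem result {A : Type u} [Category.{v} A] [Abelian A] (K : SpSeq.FilCx A) (h0 : ∀ n : ℤ, ∃ p₀ : ℤ, ∀ p : ℤ, p₀ ≤ p → IsZero ((K.fil p : CochainComplex A ℤ).homology n)) (h1 : ∀ n : ℤ, ∃ p₁ : ℤ, ∀ p : ℤ, p ≤ p₁ → IsIso (HomologicalComplex.homologyMap (K.fil p).arrow n)) : K.IsBounded 1 ∧ (∀ n : ℤ, (K.HFil n).IsFinite) ∧ K.Converges := by
  choose p₀ hp₀ using h0
  choose p₁ hp₁ using h1
  have hH := hFil_finite' K p₀ p₁ hp₀ hp₁
  refine ⟨fun n => ?_, hH, fun p n => ?_, ⟨fun p n => ?_, fun n =>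
    fil_finite_separated_exhaustive _ (hH n)⟩, fun n => fil_finite_complete _ (hH n)⟩
  · refine Set.Finite.subset (Set.finite_Icc (min (p₁ n) (p₁ (n + 1)) - 1)
      (max (p₀ n) (p₀ (n + 1)))) fun p hp => ?_
    by_contra hcon
    rw [Set.mem_Icc, not_and_or, not_le, not_le] at hcon
    rcases hcon with h | h
    · exact hp (isZero_E_one_low K p₁ hp₁ p n (by omega) (by omega))
    · exact hp (isZero_E_one_high K p₀ hp₀ p n (by omega) (by omega))
  · refine ⟨(p₀ (n + 1) - p).toNat + 1, fun r hr => ?_⟩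
    rw [ZSub_eq_ZTop' K p₀ hp₀ r p n (by omega) (by omega),
      ZSub_eq_ZTop' K p₀ hp₀ _ p n (by omega) (by omega)]
  · have hr := ZSub_eq_ZTop' K p₀ hp₀ ((p₀ (n + 1) - p).toNat + 1) p n (by omega) (by omega)
    have hr' := BSub_eq_BBot' K p₁ hp₁ ((p + 1 - p₁ n).toNat + 1) p n (by omega) (by omega)
    exact ⟨⟨by rintro _ ⟨r, rfl⟩; exact ZTop_le_ZSub K r p n, fun S hS => hr ▸ hS ⟨_, rfl⟩⟩,
      ⟨by rintro _ ⟨r, rfl⟩; exact BSub_le_BBot K r p n, fun S hS => hr' ▸ hS ⟨_, rfl⟩⟩⟩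
end Groth.Agent.S6794
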