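import Groth.Statements.S6795
import Mathlib.CategoryTheory.Idempotents.Basic

set_option autoImplicit false
open CategoryTheory CategoryTheory.Limits
universe v u
open CategoryTheory CategoryTheory.Preadditive

namespace Groth.Agent.S6795

/-- A preadditive category with countable products in which split epimorphisms have kernels is
idempotent complete (Karoubian). -/
theorem result {D : Type u} [Category.{v} D] [Preadditive D] [HasCountableProducts D] (hk : ∀ ⦃X Y : D⦄ (f : X ⟶ Y), IsSplitEpi f → HasKernel f) : IsIdempotentComplete D := by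
  refine ⟨fun X p hp => ?_⟩
  let Y : D := ∏ᶜ fun _ : ℕ => X
  let q : X ⟶ X := 𝟙 X - p
  have hqp : q ≫ p = 0 := by simp [q, hp]
  have hpq : p ≫ q = 0 := by simp [q, hp]
  have hqq : q ≫ q = q := by simp [q, hp]
  let f : Y ⟶ Y := Pi.lift fun n => Pi.π (fun _ : ℕ => X) n ≫ q + Pi.π (fun _ : ℕ => X) (n + 1) ≫ p
  let s : Y ⟶ Y := Pi.lift fun n => Pi.π (fun _ : ℕ => X) n ≫ q +
    (match n with | 0 => 0 | (m + 1) => Pi.π (fun _ : ℕ => X) m ≫ p)
  have hsf : s ≫ f = 𝟙 Y := by
    refine Pi.hom_ext _ _ fun n => ?_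
    simp only [f, s, Category.assoc, Pi.lift_π, Preadditive.comp_add, Pi.lift_π_assoc,
      Category.id_comp]
    cases n <;> simp [hqp, hpq, hqq, hp] <;> simp [q]
  have : IsSplitEpi f := ⟨⟨⟨s, hsf⟩⟩⟩
  have := hk f this
  let u : X ⟶ Y := Pi.lift fun n => if n = 0 then p else 0
  have hu : u ≫ f = 0 := by
    refine Pi.hom_ext _ _ fun n => ?_
    simp only [f, u, Category.assoc, Pi.lift_π, Preadditive.comp_add, Pi.lift_π_assoc, zero_comp]
    cases n <;> simp [hpq]
  refine ⟨kernel f, kernel.ι f ≫ Pi.π (fun _ : ℕ => X) 0, kernel.lift f u hu, ?_, ?_⟩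
  · rw [← cancel_mono (kernel.ι f)]
    refine Pi.hom_ext _ _ fun n => ?_
    have key : ∀ m, kernel.ι f ≫ Pi.π (fun _ : ℕ => X) m ≫ q = 0 ∧
        kernel.ι f ≫ Pi.π (fun _ : ℕ => X) (m + 1) ≫ p = 0 := by
      intro m
      have h := kernel.condition f =≫ Pi.π (fun _ : ℕ => X) m
      simp only [f, Category.assoc, Pi.lift_π, Preadditive.comp_add, zero_comp] at h
      have h1 := h =≫ q
      simp only [Preadditive.add_comp, Category.assoc, hqq, hpq, comp_zero, add_zero, zero_comp] at h1
      rw [h1, zero_add] at h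
      exact ⟨h1, h⟩
    simp only [Category.assoc, kernel.lift_ι, Category.id_comp, u, Pi.lift_π]
    cases n with
    | zero =>
      have h := (key 0).1
      simp only [q, Preadditive.comp_sub, Category.comp_id, sub_eq_zero] at h
      simp [← h]
    | succ m =>
      have h := (key (m + 1)).1
      simp only [q, Preadditive.comp_sub, Category.comp_id, (key m).2, sub_zero] at h
      simp [h]
  · simp [u]

end Groth.Agent.S6795
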