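import Groth.Statements.S6796
import Mathlib.CategoryTheory.Idempotents.Basic

set_option autoImplicit false
open CategoryTheory CategoryTheory.Limits
universe v u
open CategoryTheory CategoryTheory.Preadditive

namespace Groth.Agent.S6796

/-- A preadditive category with countable coproducts in which split monomorphisms have cokernels is
idempotent complete (Karoubian). -/
theorem result {D : Type u} [Category.{v} D] [Preadditive D] [HasCountableCoproducts D] (hk : ∀ ⦃X Y : D⦄ (f : X ⟶ Y), IsSplitMono f → HasCokernel f) : IsIdempotentComplete D := by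
  refine ⟨fun X p hp => ?_⟩
  let Y : D := ∐ fun _ : ℕ => X
  let q : X ⟶ X := 𝟙 X - p
  have hqp : q ≫ p = 0 := by simp [q, hp]
  have hpq : p ≫ q = 0 := by simp [q, hp]
  have hqq : q ≫ q = q := by simp [q, hp]
  let f : Y ⟶ Y := Sigma.desc fun n => q ≫ Sigma.ι (fun _ : ℕ => X) n + p ≫ Sigma.ι (fun _ : ℕ => X) (n + 1)
  let r : Y ⟶ Y := Sigma.desc fun n => q ≫ Sigma.ι (fun _ : ℕ => X) n +
    (match n with | 0 => 0 | (m + 1) => p ≫ Sigma.ι (fun _ : ℕ => X) m)
  have hfr : f ≫ r = 𝟙 Y := by
    refine Sigma.hom_ext _ _ fun n => ?_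
    simp only [f, r, Sigma.ι_desc, Sigma.ι_desc_assoc, Preadditive.add_comp, Category.assoc,
      Category.comp_id]
    cases n <;>
      simp [reassoc_of% hqp, reassoc_of% hpq, reassoc_of% hqq, reassoc_of% hp] <;> simp [q, Y]
  have : IsSplitMono f := ⟨⟨⟨r, hfr⟩⟩⟩
  have := hk f this
  let u : Y ⟶ X := Sigma.desc fun n => if n = 0 then p else 0
  have hu : f ≫ u = 0 := by
    refine Sigma.hom_ext _ _ fun n => ?_
    simp only [f, u, Sigma.ι_desc, Sigma.ι_desc_assoc, Preadditive.add_comp, Category.assoc,
      comp_zero]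
    cases n <;> simp [hqp]
  refine ⟨cokernel f, cokernel.desc f u hu, Sigma.ι (fun _ : ℕ => X) 0 ≫ cokernel.π f, ?_, ?_⟩
  · rw [← cancel_epi (cokernel.π f)]
    refine Sigma.hom_ext _ _ fun n => ?_
    have key : ∀ m, q ≫ Sigma.ι (fun _ : ℕ => X) m ≫ cokernel.π f = 0 ∧
        p ≫ Sigma.ι (fun _ : ℕ => X) (m + 1) ≫ cokernel.π f = 0 := by
      intro m
      have h := Sigma.ι (fun _ : ℕ => X) m ≫= cokernel.condition f
      simp only [f, Sigma.ι_desc_assoc, Preadditive.add_comp, Category.assoc, comp_zero] at h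
      have h1 := q ≫= h
      simp only [Preadditive.comp_add, reassoc_of% hqq, reassoc_of% hqp, zero_comp, comp_zero,
        add_zero] at h1
      rw [h1, zero_add] at h
      exact ⟨h1, h⟩
    simp only [cokernel.π_desc_assoc, u, Sigma.ι_desc_assoc, Category.comp_id]
    cases n with
    | zero =>
      have h := (key 0).1
      simp only [q, Preadditive.sub_comp, Category.id_comp, sub_eq_zero] at h
      simp [← h]
    | succ m =>
      have h := (key (m + 1)).1
      simp only [q, Preadditive.sub_comp, Category.id_comp, (key m).2, sub_zero] at h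
      simp [h]
  · simp [u]

end Groth.Agent.S6796
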