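import Groth.Statements.S6799
import Groth.Agent.SSetLib.Cosk

set_option autoImplicit false
open CategoryTheory Opposite
universe u
open SSet

namespace Groth.Agent.S6799

open Groth.Agent.SSetLib Simplicial

/-- Two maps between `n`-coskeletal simplicial sets which agree on simplices of dimension `< n` are
homotopic, by a single homotopy. -/
theorem result {U V : SSet.{u}} (f₀ f₁ : V ⟶ U) (n : ℕ) (h : ∀ i : ℕ, i < n → f₀.app (op (SimplexCategory.mk i)) = f₁.app (op (SimplexCategory.mk i))) [SimplicialObject.IsCoskeletal U n] [SimplicialObject.IsCoskeletal V n] : Nonempty (SSet.Homotopy f₀ f₁) := by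
  have hU := uniqueLift U n
  refine ⟨{ h :=
    { app := fun m => ↾fun p => hom hU h (M := m.unop.len) p.2 p.1, naturality := ?_ }
            h₀ := ?_, h₁ := ?_, rel := ?_ }⟩
  · rintro m m' ψ
    ext p
    exact (ConcreteCategory.congr_hom (hom_natural hU h (M := m.unop.len) (M' := m'.unop.len)
      ψ.unop p.2) p.1).symm
  · ext m x
    refine ConcreteCategory.congr_hom (hom_of_zero hU h (M := m.unop.len) _ ?_) x
    exact fun j => rfl
  · ext m x
    refine ConcreteCategory.congr_hom (hom_of_one hU h (M := m.unop.len) _ ?_) x
    exact fun j => rfl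
  · ext m p
    exact p.1.2.elim

end Groth.Agent.S6799
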