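import Groth.Statements.S6801
import Groth.Agent.SubElem.Basic

set_option autoImplicit false
open CategoryTheory CategoryTheory.Limits
universe v u
open SpSeq SpSeq.FilObj

namespace Groth.Agent.S6801

/-- The composite of two strict morphisms of filtered objects is strict when the second one is a
monomorphism. (In general a composite of strict morphisms is not strict.) -/
theorem result {A : Type u} [Category.{v} A] [Abelian A] {K L M : SpSeq.FilObj A} (f : K ⟶ L) (g : L ⟶ M) (hf : SpSeq.FilObj.IsStrict f) (hg : SpSeq.FilObj.IsStrict g) [Mono g.hom] : SpSeq.FilObj.IsStrict (f ≫ g) := by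
  intro p
  rw [SubElem.eq_iff]
  intro W z
  change (imageSubobject ((K.fil p).arrow ≫ f.hom ≫ g.hom)).Factors z ↔
    (imageSubobject (f.hom ≫ g.hom) ⊓ M.fil p).Factors z
  rw [SubElem.inf_factors_iff, SubElem.image_arrow_comp_factors_iff,
    SubElem.imageSubobject_factors_iff]
  constructor
  · rintro ⟨W', e, he, x, hx, eq⟩
    refine ⟨⟨W', e, he, x, eq⟩, SubElem.factors_of_epi_comp e z ?_⟩
    rw [eq]
    exact (SubElem.pullback_factors_iff _ _ _).1
      (Subobject.factors_of_le _ ((f ≫ g).compat p) hx)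
  · rintro ⟨⟨W', e, he, x, eq⟩, hz⟩
    have hgz : (imageSubobject ((L.fil p).arrow ≫ g.hom)).Factors (e ≫ z) := by
      rw [hg p, SubElem.inf_factors_iff]
      exact ⟨(SubElem.imageSubobject_factors_iff _ _).2
        ⟨W', 𝟙 _, inferInstance, x ≫ f.hom, by simp [eq]⟩, SubElem.comp_factors e hz⟩
    obtain ⟨W'', e', he', y, hy, eq'⟩ := (SubElem.image_arrow_comp_factors_iff _ _ _).1 hgz
    have hxy : e' ≫ x ≫ f.hom = y := by
      rw [← cancel_mono g.hom, ← eq', eq]; simp
    have hfy : (imageSubobject ((K.fil p).arrow ≫ f.hom)).Factors y := by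
      rw [hf p, SubElem.inf_factors_iff]
      exact ⟨(SubElem.imageSubobject_factors_iff _ _).2
        ⟨W'', 𝟙 _, inferInstance, e' ≫ x, by simp [hxy]⟩, hy⟩
    obtain ⟨W₃, e₃, he₃, w, hw, eq₃⟩ := (SubElem.image_arrow_comp_factors_iff _ _ _).1 hfy
    exact ⟨W₃, e₃ ≫ e' ≫ e, epi_comp _ _, w, hw, by simp [eq', reassoc_of% eq₃]⟩

end Groth.Agent.S6801
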