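import Groth.Statements.S6803
import Groth.Agent.SubElem.Basic
import Mathlib.CategoryTheory.Abelian.CommSq

set_option autoImplicit false
open CategoryTheory CategoryTheory.Limits
universe v u
open SpSeq SpSeq.FilObj

namespace Groth.Agent.S6803

variable {A : Type u} [Category.{v} A] [Abelian A] {K L M : SpSeq.FilObj A} (f : K ⟶ L) (g : K ⟶ M)

lemma map_factors {X Y : SpSeq.FilObj A} (h : X ⟶ Y) (p : ℤ) {W : A} {x : W ⟶ X.obj}
    (hx : (X.fil p).Factors x) : (Y.fil p).Factors (x ≫ h.hom) :=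
  (SubElem.pullback_factors_iff _ _ _).1 (Subobject.factors_of_le _ (h.compat p) hx)

/-- The pushout of filtered objects. -/
noncomputable abbrev po : SpSeq.FilObj A where
  obj := pushout f.hom g.hom
  fil p := imageSubobject ((L.fil p).arrow ≫ pushout.inl f.hom g.hom) ⊔
    imageSubobject ((M.fil p).arrow ≫ pushout.inr f.hom g.hom)
  anti p q h := sup_le_sup
    (SubElem.le_iff.2 fun W x hx => by
      obtain ⟨W', e, he, y, hy, eq⟩ := (SubElem.image_arrow_comp_factors_iff _ _ _).1 hx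
      exact (SubElem.image_arrow_comp_factors_iff _ _ _).2
        ⟨W', e, he, y, Subobject.factors_of_le _ (L.anti h) hy, eq⟩)
    (SubElem.le_iff.2 fun W x hx => by
      obtain ⟨W', e, he, y, hy, eq⟩ := (SubElem.image_arrow_comp_factors_iff _ _ _).1 hx
      exact (SubElem.image_arrow_comp_factors_iff _ _ _).2
        ⟨W', e, he, y, Subobject.factors_of_le _ (M.anti h) hy, eq⟩)

noncomputable def inl : L ⟶ po f g :=
  ⟨pushout.inl f.hom g.hom, fun p => SubElem.le_iff.2 fun W x hx =>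
    (SubElem.pullback_factors_iff _ _ _).2 (Subobject.sup_factors_of_factors_left
      ((SubElem.image_arrow_comp_factors_iff _ _ _).2 ⟨W, 𝟙 W, inferInstance, x, hx, by simp⟩))⟩

noncomputable def inr : M ⟶ po f g :=
  ⟨pushout.inr f.hom g.hom, fun p => SubElem.le_iff.2 fun W x hx =>
    (SubElem.pullback_factors_iff _ _ _).2 (Subobject.sup_factors_of_factors_right
      ((SubElem.image_arrow_comp_factors_iff _ _ _).2 ⟨W, 𝟙 W, inferInstance, x, hx, by simp⟩))⟩

lemma isPushout : IsPushout f g (inl f g) (inr f g) := by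
  refine ⟨⟨SpSeq.FilObj.Hom.ext pushout.condition⟩, ⟨PushoutCocone.IsColimit.mk (SpSeq.FilObj.Hom.ext pushout.condition)
    (fun s => ⟨pushout.desc s.inl.hom s.inr.hom (congrArg SpSeq.FilObj.Hom.hom s.condition),
      fun p => SubElem.le_iff.2 fun W x hx => ?_⟩)
    (fun s => SpSeq.FilObj.Hom.ext (pushout.inl_desc _ _ _))
    (fun s => SpSeq.FilObj.Hom.ext (pushout.inr_desc _ _ _))
    (fun s m h1 h2 => SpSeq.FilObj.Hom.ext (pushout.hom_ext ?_ ?_))⟩⟩
  · obtain ⟨W', e, he, a, b, ha, hb, eq⟩ := (SubElem.sup_factors_iff _ _ _).1 hx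
    obtain ⟨W₁, e₁, he₁, y, hy, eq₁⟩ := (SubElem.image_arrow_comp_factors_iff _ _ _).1 ha
    obtain ⟨W₂, e₂, he₂, z, hz, eq₂⟩ := (SubElem.image_arrow_comp_factors_iff _ _ _).1 hb
    rw [SubElem.pullback_factors_iff]
    refine SubElem.factors_of_epi_comp e _ ?_
    rw [← Category.assoc, eq, Preadditive.add_comp]
    refine SubElem.factors_add (SubElem.factors_of_epi_comp e₁ _ ?_)
      (SubElem.factors_of_epi_comp e₂ _ ?_)
    · rw [← Category.assoc, eq₁, Category.assoc, pushout.inl_desc]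
      exact map_factors s.inl p hy
    · rw [← Category.assoc, eq₂, Category.assoc, pushout.inr_desc]
      exact map_factors s.inr p hz
  · exact (congrArg SpSeq.FilObj.Hom.hom h1).trans (pushout.inl_desc _ _ _).symm
  · exact (congrArg SpSeq.FilObj.Hom.hom h2).trans (pushout.inr_desc _ _ _).symm

lemma strict_inr (hf : SpSeq.FilObj.IsStrict f) : SpSeq.FilObj.IsStrict (inr f g) := by
  intro p
  rw [SubElem.eq_iff]
  intro W z
  rw [SubElem.inf_factors_iff, SubElem.image_arrow_comp_factors_iff,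
    SubElem.imageSubobject_factors_iff]
  constructor
  · rintro ⟨W', e, he, x, hx, eq⟩
    refine ⟨⟨W', e, he, x, eq⟩, SubElem.factors_of_epi_comp e z ?_⟩
    rw [eq]
    exact map_factors (inr f g) p hx
  · rintro ⟨⟨W', e, he, m, eq⟩, hz⟩
    obtain ⟨W₁, e₁, he₁, a, b, ha, hb, eq₁⟩ :=
      (SubElem.sup_factors_iff _ _ _).1 (SubElem.comp_factors e hz)
    obtain ⟨W₂, e₂, he₂, l, hl, eq₂⟩ := (SubElem.image_arrow_comp_factors_iff _ _ _).1 ha
    obtain ⟨W₃, e₃, he₃, m₂, hm₂, eq₃⟩ :=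
      (SubElem.image_arrow_comp_factors_iff _ _ _).1 (SubElem.comp_factors e₂ hb)
    have eqz : (e₃ ≫ e₂ ≫ e₁ ≫ e) ≫ z =
        (e₃ ≫ l) ≫ pushout.inl f.hom g.hom + m₂ ≫ pushout.inr f.hom g.hom := by
      rw [← eq₃]
      simp only [Category.assoc]
      rw [eq₁]
      simp [Preadditive.comp_add, eq₂]
    have hPO : IsPushout f.hom g.hom (pushout.inl f.hom g.hom) (pushout.inr f.hom g.hom) :=
      IsPushout.of_hasPushout _ _
    obtain ⟨W₄, e₄, he₄, k, hk⟩ := hPO.exact_shortComplex.exact_up_to_refinements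
      (biprod.lift (e₃ ≫ l) (m₂ - e₃ ≫ e₂ ≫ e₁ ≫ m)) (by
        have eqm : (e₃ ≫ e₂ ≫ e₁ ≫ e) ≫ z = (e₃ ≫ e₂ ≫ e₁ ≫ m) ≫ pushout.inr f.hom g.hom := by
          have eq' : e ≫ z = m ≫ pushout.inr f.hom g.hom := eq
          simp [eq']
        show biprod.lift (e₃ ≫ l) (m₂ - e₃ ≫ e₂ ≫ e₁ ≫ m) ≫
          biprod.desc (pushout.inl f.hom g.hom) (pushout.inr f.hom g.hom) = 0
        rw [biprod.lift_desc, Preadditive.sub_comp]
        rw [← add_sub_assoc, ← eqz, ← eqm, sub_self])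
    replace hk : e₄ ≫ biprod.lift (e₃ ≫ l) (m₂ - e₃ ≫ e₂ ≫ e₁ ≫ m) =
        k ≫ biprod.lift f.hom (-g.hom) := hk
    have hk1 : e₄ ≫ e₃ ≫ l = k ≫ f.hom := by simpa using hk =≫ biprod.fst
    have hk2 : e₄ ≫ (m₂ - e₃ ≫ e₂ ≫ e₁ ≫ m) = -(k ≫ g.hom) := by
      have h := hk =≫ biprod.snd
      simp only [Category.assoc, biprod.lift_snd] at h
      rw [h]
      exact Preadditive.comp_neg k g.hom
    have hkl : (imageSubobject ((K.fil p).arrow ≫ f.hom)).Factors (k ≫ f.hom) := by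
      rw [hf p, SubElem.inf_factors_iff]
      exact ⟨imageSubobject_factors_comp_self f.hom k,
        hk1 ▸ SubElem.comp_factors e₄ (SubElem.comp_factors e₃ hl)⟩
    obtain ⟨W₅, e₅, he₅, k₂, hk₂, eq₅⟩ := (SubElem.image_arrow_comp_factors_iff _ _ _).1 hkl
    refine ⟨W₅, e₅ ≫ e₄ ≫ e₃ ≫ e₂ ≫ e₁ ≫ e, inferInstance, k₂ ≫ g.hom + e₅ ≫ e₄ ≫ m₂,
      SubElem.factors_add (map_factors g p hk₂) (SubElem.comp_factors e₅ (SubElem.comp_factors e₄ hm₂)),
      ?_⟩
    have eqz' := congrArg (fun t => e₅ ≫ e₄ ≫ t) eqz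
    have h5 : e₅ ≫ e₄ ≫ e₃ ≫ l ≫ pushout.inl f.hom g.hom =
        k₂ ≫ g.hom ≫ pushout.inr f.hom g.hom := by
      rw [reassoc_of% hk1, reassoc_of% eq₅, pushout.condition]
    show _ = (k₂ ≫ g.hom + e₅ ≫ e₄ ≫ m₂) ≫ pushout.inr f.hom g.hom
    simp only [Category.assoc, Preadditive.comp_add, Preadditive.add_comp] at eqz' ⊢
    rw [eqz', h5]

lemma strict_of_iso {X Y Z : SpSeq.FilObj A} (h : X ⟶ Y) (i : Y ≅ Z)
    (hh : SpSeq.FilObj.IsStrict h) : SpSeq.FilObj.IsStrict (h ≫ i.hom) := by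
  have hio : i.hom.hom ≫ i.inv.hom = 𝟙 _ := congrArg SpSeq.FilObj.Hom.hom i.hom_inv_id
  have hoi : i.inv.hom ≫ i.hom.hom = 𝟙 _ := congrArg SpSeq.FilObj.Hom.hom i.inv_hom_id
  intro p
  rw [SubElem.eq_iff]
  intro W z
  change (imageSubobject ((X.fil p).arrow ≫ h.hom ≫ i.hom.hom)).Factors z ↔
    (imageSubobject (h.hom ≫ i.hom.hom) ⊓ Z.fil p).Factors z
  rw [SubElem.inf_factors_iff, SubElem.image_arrow_comp_factors_iff,
    SubElem.imageSubobject_factors_iff]
  constructor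
  · rintro ⟨W', e, he, x, hx, eq⟩
    refine ⟨⟨W', e, he, x, eq⟩, SubElem.factors_of_epi_comp e z ?_⟩
    rw [eq]
    exact map_factors (h ≫ i.hom) p hx
  · rintro ⟨⟨W', e, he, x, eq⟩, hz⟩
    have h0 : (imageSubobject ((X.fil p).arrow ≫ h.hom)).Factors (e ≫ z ≫ i.inv.hom) := by
      rw [hh p, SubElem.inf_factors_iff]
      refine ⟨?_, SubElem.comp_factors e (map_factors i.inv p hz)⟩
      rw [reassoc_of% eq, hio, Category.comp_id]
      exact imageSubobject_factors_comp_self _ x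
    obtain ⟨W'', e', he', y, hy, eq'⟩ := (SubElem.image_arrow_comp_factors_iff _ _ _).1 h0
    refine ⟨W'', e' ≫ e, epi_comp _ _, y, hy, ?_⟩
    rw [← reassoc_of% eq', hoi, Category.comp_id, Category.assoc]


/-- Pushouts exist in the category of filtered objects of an abelian category, and the pushout of a
strict morphism is strict. -/
theorem result {A : Type u} [Category.{v} A] [Abelian A] {K L M : SpSeq.FilObj A} (f : K ⟶ L) (g : K ⟶ M) : HasPushout f g ∧ ∀ (P : SpSeq.FilObj A) (g' : L ⟶ P) (f' : M ⟶ P), IsPushout f g g' f' → SpSeq.FilObj.IsStrict f → SpSeq.FilObj.IsStrict f' := by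
  refine ⟨(isPushout f g).hasPushout, fun P g' f' hP hf => ?_⟩
  have := strict_of_iso (inr f g) ((isPushout f g).isoIsPushout _ _ hP) (strict_inr f g hf)
  rwa [IsPushout.inr_isoIsPushout_hom] at this

end Groth.Agent.S6803
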