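import Groth.Statements.S6804
import Groth.Agent.SubElem.Basic
import Mathlib.CategoryTheory.Abelian.CommSq

set_option autoImplicit false
open CategoryTheory CategoryTheory.Limits
universe v u
open SpSeq SpSeq.FilObj

namespace Groth.Agent.S6804

variable {A : Type u} [Category.{v} A] [Abelian A] {K L M : SpSeq.FilObj A} (f : L ⟶ K) (g : M ⟶ K)

lemma map_factors {X Y : SpSeq.FilObj A} (h : X ⟶ Y) (p : ℤ) {W : A} {x : W ⟶ X.obj}
    (hx : (X.fil p).Factors x) : (Y.fil p).Factors (x ≫ h.hom) :=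
  (SubElem.pullback_factors_iff _ _ _).1 (Subobject.factors_of_le _ (h.compat p) hx)

/-- The pullback of filtered objects. -/
noncomputable abbrev pb : SpSeq.FilObj A where
  obj := pullback f.hom g.hom
  fil p := (Subobject.pullback (pullback.fst f.hom g.hom)).obj (L.fil p) ⊓
    (Subobject.pullback (pullback.snd f.hom g.hom)).obj (M.fil p)
  anti p q h := inf_le_inf ((Subobject.pullback _).map (homOfLE (L.anti h))).le
    ((Subobject.pullback _).map (homOfLE (M.anti h))).le

noncomputable def fst : pb f g ⟶ L := ⟨pullback.fst f.hom g.hom, fun _ => inf_le_left⟩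

noncomputable def snd : pb f g ⟶ M := ⟨pullback.snd f.hom g.hom, fun _ => inf_le_right⟩

lemma pb_factors (p : ℤ) {W : A} (x : W ⟶ pullback f.hom g.hom) :
    ((pb f g).fil p).Factors x ↔ (L.fil p).Factors (x ≫ pullback.fst f.hom g.hom) ∧
      (M.fil p).Factors (x ≫ pullback.snd f.hom g.hom) := by
  refine (SubElem.inf_factors_iff _).trans ?_
  rw [SubElem.pullback_factors_iff, SubElem.pullback_factors_iff]

lemma isPullback : IsPullback (fst f g) (snd f g) f g := by
  refine ⟨⟨SpSeq.FilObj.Hom.ext pullback.condition⟩, ⟨PullbackCone.IsLimit.mk (SpSeq.FilObj.Hom.ext pullback.condition)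
    (fun s => ⟨pullback.lift s.fst.hom s.snd.hom (congrArg SpSeq.FilObj.Hom.hom s.condition),
      fun p => SubElem.le_iff.2 fun W x hx => ?_⟩)
    (fun s => SpSeq.FilObj.Hom.ext (pullback.lift_fst _ _ _))
    (fun s => SpSeq.FilObj.Hom.ext (pullback.lift_snd _ _ _))
    (fun s m h1 h2 => SpSeq.FilObj.Hom.ext (pullback.hom_ext ?_ ?_))⟩⟩
  · refine (SubElem.pullback_factors_iff _ _ _).2 ((pb_factors f g p _).2 ⟨?_, ?_⟩)
    · rw [Category.assoc, pullback.lift_fst]
      exact map_factors s.fst p hx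
    · rw [Category.assoc, pullback.lift_snd]
      exact map_factors s.snd p hx
  · exact (congrArg SpSeq.FilObj.Hom.hom h1).trans (pullback.lift_fst _ _ _).symm
  · exact (congrArg SpSeq.FilObj.Hom.hom h2).trans (pullback.lift_snd _ _ _).symm

lemma strict_snd (hf : SpSeq.FilObj.IsStrict f) : SpSeq.FilObj.IsStrict (snd f g) := by
  intro p
  rw [SubElem.eq_iff]
  intro W z
  rw [SubElem.inf_factors_iff, SubElem.image_arrow_comp_factors_iff,
    SubElem.imageSubobject_factors_iff]
  constructor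
  · rintro ⟨W', e, he, x, hx, eq⟩
    refine ⟨⟨W', e, he, x, eq⟩, SubElem.factors_of_epi_comp e z ?_⟩
    rw [eq]
    exact map_factors (snd f g) p hx
  · rintro ⟨⟨W', e, he, x, eq⟩, hz⟩
    have eq' : e ≫ z = x ≫ pullback.snd f.hom g.hom := eq
    have h0 : (imageSubobject ((L.fil p).arrow ≫ f.hom)).Factors (e ≫ z ≫ g.hom) := by
      rw [hf p, SubElem.inf_factors_iff]
      refine ⟨?_, SubElem.comp_factors e (map_factors g p hz)⟩
      rw [reassoc_of% eq', ← pullback.condition, ← Category.assoc]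
      exact imageSubobject_factors_comp_self _ _
    obtain ⟨W'', e', he', l, hl, eql⟩ := (SubElem.image_arrow_comp_factors_iff _ _ _).1 h0
    have hw : l ≫ f.hom = (e' ≫ e ≫ z) ≫ g.hom := by rw [← eql]; simp
    refine ⟨W'', e' ≫ e, epi_comp _ _, pullback.lift l (e' ≫ e ≫ z) hw, (pb_factors f g p _).2 ?_, ?_⟩
    · rw [pullback.lift_fst, pullback.lift_snd]
      exact ⟨hl, SubElem.comp_factors e' (SubElem.comp_factors e hz)⟩
    · show _ = pullback.lift l (e' ≫ e ≫ z) hw ≫ pullback.snd f.hom g.hom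
      rw [pullback.lift_snd, Category.assoc]

lemma strict_of_iso {X Y Z : SpSeq.FilObj A} (i : X ≅ Y) (h : Y ⟶ Z)
    (hh : SpSeq.FilObj.IsStrict h) : SpSeq.FilObj.IsStrict (i.hom ≫ h) := by
  have hoi : i.inv.hom ≫ i.hom.hom = 𝟙 _ := congrArg SpSeq.FilObj.Hom.hom i.inv_hom_id
  intro p
  rw [SubElem.eq_iff]
  intro W z
  change (imageSubobject ((X.fil p).arrow ≫ i.hom.hom ≫ h.hom)).Factors z ↔
    (imageSubobject (i.hom.hom ≫ h.hom) ⊓ Z.fil p).Factors z
  rw [SubElem.inf_factors_iff, SubElem.image_arrow_comp_factors_iff,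
    SubElem.imageSubobject_factors_iff]
  constructor
  · rintro ⟨W', e, he, x, hx, eq⟩
    refine ⟨⟨W', e, he, x, eq⟩, SubElem.factors_of_epi_comp e z ?_⟩
    rw [eq]
    exact map_factors (i.hom ≫ h) p hx
  · rintro ⟨⟨W', e, he, x, eq⟩, hz⟩
    have h0 : (imageSubobject ((Y.fil p).arrow ≫ h.hom)).Factors (e ≫ z) := by
      rw [hh p, SubElem.inf_factors_iff]
      refine ⟨?_, SubElem.comp_factors e hz⟩
      rw [eq, ← Category.assoc]
      exact imageSubobject_factors_comp_self _ _
    obtain ⟨W'', e', he', y, hy, eq'⟩ := (SubElem.image_arrow_comp_factors_iff _ _ _).1 h0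
    refine ⟨W'', e' ≫ e, epi_comp _ _, y ≫ i.inv.hom, map_factors i.inv p hy, ?_⟩
    rw [Category.assoc, eq', Category.assoc, reassoc_of% hoi]


/-- Fibre products exist in the category of filtered objects of an abelian category, and the base change
of a strict morphism is strict. -/
theorem result {A : Type u} [Category.{v} A] [Abelian A] {K L M : SpSeq.FilObj A} (f : L ⟶ K) (g : M ⟶ K) : HasPullback f g ∧ ∀ (P : SpSeq.FilObj A) (g' : P ⟶ L) (f' : P ⟶ M), IsPullback g' f' f g → SpSeq.FilObj.IsStrict f → SpSeq.FilObj.IsStrict f' := by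
  refine ⟨(isPullback f g).hasPullback, fun P g' f' hP hf => ?_⟩
  have := strict_of_iso (hP.isoIsPullback _ _ (isPullback f g)) (snd f g) (strict_snd f g hf)
  rwa [IsPullback.isoIsPullback_hom_snd] at this

end Groth.Agent.S6804
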