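import Groth.Statements.S6810
import Mathlib.CategoryTheory.Limits.Shapes.FiniteLimits
import Mathlib.CategoryTheory.Comma.StructuredArrow.Basic
import Mathlib.Data.Finite.Sigma

set_option autoImplicit false
open CategoryTheory CategoryTheory.Limits
universe v u
open CategoryTheory CategoryTheory.SimplicialObject CategoryTheory.SimplicialObject.Truncated

namespace Groth.Agent.S6810

/-- In a category with finite colimits every truncated simplicial object has a pointwise left Kan
extension along the inclusion of the truncated simplex category, i.e. the left adjoints `i_{m!}` of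
truncation exist and are given by the colimit formula. -/
theorem result {C : Type u} [Category.{v} C] [HasFiniteColimits C] (m : ℕ) (U : (SimplexCategory.Truncated m)ᵒᵖ ⥤ C) : (SimplexCategory.Truncated.inclusion m).op.HasPointwiseLeftKanExtension U := by
  intro x
  have : Finite ((SimplexCategory.Truncated m)ᵒᵖ) := by
    refine Finite.of_injective (fun a => (⟨a.unop.1.len, Nat.lt_succ_of_le a.unop.2⟩ : Fin (m + 1))) ?_
    rintro ⟨⟨a, ha⟩⟩ ⟨⟨b, hb⟩⟩ h
    have : a = b := SimplexCategory.ext (congrArg Fin.val h)
    subst this; rfl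
  have : ∀ (a b : SimplexCategoryᵒᵖ), Finite (a ⟶ b) := fun a b =>
    Finite.of_equiv _ (opEquiv a b).symm
  have : ∀ b : (SimplexCategory.Truncated m)ᵒᵖ,
      Finite ((SimplexCategory.Truncated.inclusion m).op.obj b ⟶ x) := fun b => this _ _
  have hf : Finite (CostructuredArrow (SimplexCategory.Truncated.inclusion m).op x) :=
    Finite.of_injective (fun f => (⟨f.left, f.hom⟩ :
      Σ b : (SimplexCategory.Truncated m)ᵒᵖ, (SimplexCategory.Truncated.inclusion m).op.obj b ⟶ x)) (by
      intro f g h
      obtain ⟨r, ⟨⟨⟩⟩, φ⟩ := f
      obtain ⟨r', ⟨⟨⟩⟩, φ'⟩ := g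
      simp only [Sigma.mk.injEq] at h
      obtain ⟨rfl, h⟩ := h
      cases h; rfl)
  have : ∀ (a b : CostructuredArrow (SimplexCategory.Truncated.inclusion m).op x), Finite (a ⟶ b) := by
    intro a b
    refine Finite.of_injective (fun φ => φ.left.unop.hom) fun φ ψ h => ?_
    ext
    exact Quiver.Hom.unop_inj (InducedCategory.hom_ext h)
  let : FinCategory (CostructuredArrow (SimplexCategory.Truncated.inclusion m).op x) :=
    ⟨Fintype.ofFinite _, fun _ _ => Fintype.ofFinite _⟩
  change HasColimit _
  infer_instance

end Groth.Agent.S6810
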