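import Groth.Statements.S6811
import Groth.Agent.SSetLib.Cosk

set_option autoImplicit false
open CategoryTheory CategoryTheory.Limits
universe v u
open CategoryTheory CategoryTheory.SimplicialObject

namespace Groth.Agent.S6811

open Groth.Agent.SSetLib Simplicial

/-- In a category with finite limits, an `n`-coskeletal simplicial object is `m`-coskeletal for every `m
≥ n`. -/
theorem result {C : Type u} [Category.{v} C] [HasFiniteLimits C] (U : SimplicialObject C) {n m : ℕ} (h : n ≤ m) [U.IsCoskeletal n] : U.IsCoskeletal m := by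
  have hU := uniqueLift U n
  refine isCoskeletal_of_uniqueLift fun M T e he => ?_
  obtain ⟨g, hg, -⟩ := hU M T (fun k hk φ => e k (hk.trans h) φ)
    (fun k k' hk hk' ψ φ => he k k' _ _ ψ φ)
  refine ⟨g, fun k hk φ => hom_ext_of_le hU fun j hj ψ => ?_, fun g' hg' => ?_⟩
  · rw [Category.assoc, ← Functor.map_comp, ← op_comp, hg j hj, he k j hk]
  · exact hom_ext_of_le hU fun j hj φ => (hg' j (hj.trans h) φ).trans (hg j hj φ).symm

end Groth.Agent.S6811
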