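import Groth.Statements.S6813
import Groth.Agent.SSetLib.Cosk
import Mathlib.CategoryTheory.Limits.Constructions.Over.Basic

set_option autoImplicit false
open CategoryTheory CategoryTheory.Limits
universe v u
open CategoryTheory CategoryTheory.SimplicialObject

namespace Groth.Agent.S6813

open Groth.Agent.SSetLib Simplicial Opposite

/-- For `k ≥ 1` the forgetful functor from the over category `C/X` to `C` (with `C` having finite
limits) commutes with `cosk_k`; stated as: a `k`-coskeletal simplicial object of `C/X` has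
`k`-coskeletal underlying simplicial object in `C`. -/
theorem result {C : Type u} [Category.{v} C] [HasFiniteLimits C] (X : C) (k : ℕ) (hk : 1 ≤ k) (V : SimplicialObject (Over X)) [V.IsCoskeletal k] : SimplicialObject.IsCoskeletal (V ⋙ Over.forget X) k := by
  have hV := uniqueLift V k
  refine isCoskeletal_of_uniqueLift fun M T e he => ?_
  let Q (a : Fin (M + 1)) : T ⟶ X :=
    e 0 (Nat.zero_le k) (SimplexCategory.const _ _ a) ≫ (V.obj (op (SimplexCategory.mk 0))).hom
  have hQ : ∀ j (hj : j ≤ k) (φ : SimplexCategory.mk j ⟶ SimplexCategory.mk M) (a : Fin (j + 1)),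
      e j hj φ ≫ (V.obj (op (SimplexCategory.mk j))).hom = Q (φ.toOrderHom a) := by
    intro j hj φ a
    have h1 := he j 0 hj (Nat.zero_le k) (SimplexCategory.const _ _ a) φ
    rw [show SimplexCategory.const (SimplexCategory.mk 0) (SimplexCategory.mk j) a ≫ φ =
      SimplexCategory.const _ _ (φ.toOrderHom a) from by ext; rfl] at h1
    simp only [Q, h1, Category.assoc, Functor.comp_map, Over.forget_map]
    erw [Over.w]
  have hQQ : ∀ a b, a ≤ b → Q a = Q b := fun a b hab =>
    (hQ 1 hk (SimplexCategory.mkOfLe a b hab) 0).symm.trans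
      (hQ 1 hk (SimplexCategory.mkOfLe a b hab) 1)
  have hQ0 : ∀ a, Q a = Q 0 := fun a => (hQQ 0 a (Fin.zero_le a)).symm
  obtain ⟨g, hg, hu⟩ := hV M (Over.mk (Q 0))
    (fun j hj φ => Over.homMk (e j hj φ) ((hQ j hj φ 0).trans (hQ0 _)))
    (fun j j' hj hj' ψ φ => by ext; exact he j j' hj hj' ψ φ)
  refine ⟨g.left, fun j hj φ => congrArg CommaMorphism.left (hg j hj φ), fun g' hg' => ?_⟩
  have hg0 : g' ≫ (V.obj (op (SimplexCategory.mk M))).hom = Q 0 := by
    simp only [Q, ← hg' 0 (Nat.zero_le k), Category.assoc, Functor.comp_map, Over.forget_map]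
    erw [Over.w]
  exact congrArg CommaMorphism.left (hu (Over.homMk g' hg0) fun j hj φ => by
    ext; exact hg' j hj φ)

end Groth.Agent.S6813
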