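import Groth.Statements.S6814
-- import your own Groth.Agent.* helpers here

set_option autoImplicit false
open CategoryTheory CategoryTheory.Limits Opposite
universe v u
open CategoryTheory CategoryTheory.SimplicialObject CategoryTheory.SimplicialObject.Truncated

namespace Groth.Agent.S6814


section aux

open CategoryTheory CategoryTheory.Limits Opposite SimplexCategory.Truncated

variable {C : Type u} [Category.{v} C] {n : ℕ}
  (U : (SimplexCategory.Truncated (n + 1))ᵒᵖ ⥤ C) {T : C}
  (π : Fin (n + 3) → (T ⟶ U.obj (op ⟨SimplexCategory.mk (n + 1), (SimplexCategory.len_mk (n + 1)).le⟩)))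

/-- The map attached to a map `ψ : [k] ⟶ [n+1]`. -/
abbrev res {k : SimplexCategory} (hk : k.len ≤ n + 1) (ψ : k ⟶ SimplexCategory.mk (n + 1)) :
    U.obj (op ⟨SimplexCategory.mk (n + 1), (SimplexCategory.len_mk (n + 1)).le⟩) ⟶
      U.obj (op ⟨k, hk⟩) :=
  U.map (Hom.tr (n := n + 1) ψ hk (SimplexCategory.len_mk (n + 1)).le).op

lemma res_comp {a b : SimplexCategory} (ha : a.len ≤ n + 1) (hb : b.len ≤ n + 1) (f : a ⟶ b)
    (ψ : b ⟶ SimplexCategory.mk (n + 1)) :
    res U ha (f ≫ ψ) = res U hb ψ ≫ U.map (Hom.tr (n := n + 1) f ha hb).op := by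
  rw [← U.map_comp, ← op_comp]
  rfl

variable (hπ : ∀ i j : Fin (n + 2), i ≤ j → π (Fin.castSucc i) ≫ U.map (SimplexCategory.Truncated.δ (n + 1) j ((SimplexCategory.len_mk n).trans_le (Nat.le_succ n)) (SimplexCategory.len_mk (n + 1)).le).op = π j.succ ≫ U.map (SimplexCategory.Truncated.δ (n + 1) i ((SimplexCategory.len_mk n).trans_le (Nat.le_succ n)) (SimplexCategory.len_mk (n + 1)).le).op)

include hπ in
lemma well_defined {k : SimplexCategory} (hk : k.len ≤ n + 1) {i j : Fin (n + 3)} (hij : i ≤ j)
    (ψ ψ' : k ⟶ SimplexCategory.mk (n + 1))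
    (h : ψ ≫ SimplexCategory.δ i = ψ' ≫ SimplexCategory.δ j) :
    π i ≫ res U hk ψ = π j ≫ res U hk ψ' := by
  rcases hij.eq_or_lt with rfl | hlt
  · rw [(cancel_mono (SimplexCategory.δ i)).1 h]
  obtain ⟨j', rfl⟩ := Fin.exists_succ_eq.2 (Fin.ne_zero_of_lt hlt)
  have hi' : (i : ℕ) < n + 2 := by
    have h1 : (i : ℕ) < j' + 1 := hlt
    have h2 := j'.2
    omega
  obtain ⟨i', rfl⟩ : ∃ i' : Fin (n + 2), i'.castSucc = i := ⟨⟨i, hi'⟩, rfl⟩
  have hle : i' ≤ j' := Fin.le_iff_val_le_val.2 (Nat.le_of_lt_succ (show (i' : ℕ) < j' + 1 from hlt))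
  have hmiss : ∀ x, ψ'.toOrderHom x ≠ i' := fun x hx => by
    have e := congrArg (fun f => f.toOrderHom x) h
    change i'.castSucc.succAbove (ψ.toOrderHom x) = j'.succ.succAbove (ψ'.toOrderHom x) at e
    rw [hx, Fin.succAbove_of_castSucc_lt _ _ hlt] at e
    exact Fin.succAbove_ne _ _ e
  obtain ⟨χ, rfl⟩ := SimplexCategory.eq_comp_δ_of_not_surjective' ψ' i' hmiss
  have e : ψ = χ ≫ SimplexCategory.δ j' := by
    rw [← cancel_mono (SimplexCategory.δ i'.castSucc), h, Category.assoc, Category.assoc,
      SimplexCategory.δ_comp_δ hle]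
  subst e
  rw [res_comp U hk ((SimplexCategory.len_mk n).trans_le (Nat.le_succ n)) χ,
    res_comp U hk ((SimplexCategory.len_mk n).trans_le (Nat.le_succ n)) χ, ← Category.assoc,
    ← Category.assoc]
  exact congrArg (· ≫ _) (hπ i' j' hle)

include hπ in
lemma well_defined' {k : SimplexCategory} (hk : k.len ≤ n + 1) {i j : Fin (n + 3)}
    (ψ ψ' : k ⟶ SimplexCategory.mk (n + 1))
    (h : ψ ≫ SimplexCategory.δ i = ψ' ≫ SimplexCategory.δ j) :
    π i ≫ res U hk ψ = π j ≫ res U hk ψ' :=
  (le_total i j).elim (fun hij => well_defined U π hπ hk hij ψ ψ' h)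
    (fun hij => (well_defined U π hπ hk hij ψ' ψ h.symm).symm)

variable (n) in
/-- The top object. -/
abbrev top' : (SimplexCategory.Truncated (n + 2))ᵒᵖ :=
  op ⟨SimplexCategory.mk (n + 2), (SimplexCategory.len_mk (n + 2)).le⟩

variable (n) in
/-- The indexing category at the top. -/
abbrev Idx := StructuredArrow (top' n) (incl (n + 1) (n + 2) (Nat.le_succ _)).op

/-- The simplex map of an index. -/
abbrev imap (G : Idx n) : G.right.unop.obj ⟶ SimplexCategory.mk (n + 2) := G.hom.unop.hom

lemma exists_factor (G : Idx n) : ∃ (i : Fin (n + 3)) (ψ : G.right.unop.obj ⟶ SimplexCategory.mk (n + 1)),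
    (imap G) = ψ ≫ SimplexCategory.δ i :=
  SimplexCategory.eq_comp_δ_of_not_surjective (imap G) fun h => by
    have h1 := Fintype.card_le_of_surjective _ h
    have h2 := G.right.unop.property
    simp only [Fintype.card_fin, SimplexCategory.len_mk] at h1
    omega

/-- The leg at an index. -/
noncomputable def leg (G : Idx n) : T ⟶ U.obj G.right :=
  π (exists_factor G).choose ≫ res U G.right.unop.property (exists_factor G).choose_spec.choose

include hπ in
lemma leg_eq (G : Idx n) (i : Fin (n + 3)) (ψ : G.right.unop.obj ⟶ SimplexCategory.mk (n + 1))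
    (h : (imap G) = ψ ≫ SimplexCategory.δ i) :
    leg U π G = π i ≫ res U G.right.unop.property ψ :=
  well_defined' U π hπ _ _ _ ((exists_factor G).choose_spec.choose_spec.symm.trans h)

/-- The cone. -/
noncomputable def cone : Cone (StructuredArrow.proj (top' n) (incl (n + 1) (n + 2) (Nat.le_succ _)).op ⋙ U) where
  pt := T
  π :=
    { app := fun G => leg U π G
      naturality := fun G G' f => by
        obtain ⟨i, ψ, h⟩ := exists_factor G
        have h' : (imap G') = (f.right.unop.hom ≫ ψ) ≫ SimplexCategory.δ i := by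
          rw [Category.assoc, ← h]
          exact congrArg (fun g => g.unop.hom) (StructuredArrow.w f).symm
        show 𝟙 T ≫ leg U π G' = leg U π G ≫ U.map f.right
        rw [leg_eq U π hπ G i ψ h, leg_eq U π hπ G' i _ h', Category.id_comp, Category.assoc,
          res_comp U G'.right.unop.property G.right.unop.property]
        rfl }

/-- The index of a face. -/
abbrev face (k : Fin (n + 3)) : Idx n :=
  StructuredArrow.mk (Y := op ⟨SimplexCategory.mk (n + 1), (SimplexCategory.len_mk (n + 1)).le⟩)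
    (SimplexCategory.Truncated.δ (n + 2) k ((SimplexCategory.len_mk (n + 1)).trans_le (Nat.le_succ (n + 1))) (SimplexCategory.len_mk (n + 2)).le).op

lemma res_id : res U (SimplexCategory.len_mk (n + 1)).le (𝟙 (SimplexCategory.mk (n + 1))) = 𝟙 _ :=
  U.map_id _

/-- Index maps to a face. -/
def toFace (G : Idx n) (i : Fin (n + 3)) (ψ : G.right.unop.obj ⟶ SimplexCategory.mk (n + 1))
    (h : (imap G) = ψ ≫ SimplexCategory.δ i) : face i ⟶ G :=
  StructuredArrow.homMk (Hom.tr (n := n + 1) ψ G.right.unop.property (SimplexCategory.len_mk (n + 1)).le).op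
    (Quiver.Hom.unop_inj (ObjectProperty.hom_ext _ h.symm))

include hπ in
lemma leg_face (k : Fin (n + 3)) : leg U π (face k) = π k :=
  (leg_eq U π hπ (face k) k (𝟙 _) (Category.id_comp _).symm).trans
    ((congrArg (π k ≫ ·) (res_id U)).trans (Category.comp_id _))

variable (huniv : ∀ (S : C) (g : Fin (n + 3) → (S ⟶ U.obj (op ⟨SimplexCategory.mk (n + 1), (SimplexCategory.len_mk (n + 1)).le⟩))), (∀ i j : Fin (n + 2), i ≤ j → g (Fin.castSucc i) ≫ U.map (SimplexCategory.Truncated.δ (n + 1) j ((SimplexCategory.len_mk n).trans_le (Nat.le_succ n)) (SimplexCategory.len_mk (n + 1)).le).op = g j.succ ≫ U.map (SimplexCategory.Truncated.δ (n + 1) i ((SimplexCategory.len_mk n).trans_le (Nat.le_succ n)) (SimplexCategory.len_mk (n + 1)).le).op) → ∃! t : S ⟶ T, ∀ k : Fin (n + 3), t ≫ π k = g k)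

include hπ huniv in
lemma isLimit : Nonempty (IsLimit (cone U π hπ)) := by
  have rel : ∀ (s : Cone (StructuredArrow.proj (top' n) (incl (n + 1) (n + 2) (Nat.le_succ _)).op ⋙ U)) (G : Idx n) (i : Fin (n + 3))
      (ψ : G.right.unop.obj ⟶ SimplexCategory.mk (n + 1)) (_ : (imap G) = ψ ≫ SimplexCategory.δ i),
      s.π.app G = s.π.app (face i) ≫ res U G.right.unop.property ψ := fun s G i ψ h =>
    (s.w (toFace G i ψ h)).symm
  have h : ∀ s : Cone (StructuredArrow.proj (top' n) (incl (n + 1) (n + 2) (Nat.le_succ _)).op ⋙ U),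
      ∃! t : s.pt ⟶ T, ∀ k, t ≫ π k = s.π.app (face k) := fun s => by
    refine huniv _ (fun k => s.π.app (face k)) fun i j hij => ?_
    let G : Idx n := StructuredArrow.mk
      (Y := op ⟨SimplexCategory.mk n, (SimplexCategory.len_mk n).trans_le (Nat.le_succ n)⟩)
      (Hom.tr (n := n + 2) (SimplexCategory.δ j ≫ SimplexCategory.δ (Fin.castSucc i))
        ((SimplexCategory.len_mk n).trans_le (Nat.le_add_right n 2))
        (SimplexCategory.len_mk (n + 2)).le).op
    exact (rel s G (Fin.castSucc i) (SimplexCategory.δ j) rfl).symm.trans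
      (rel s G j.succ (SimplexCategory.δ i) (SimplexCategory.δ_comp_δ hij).symm)
  refine ⟨{ lift := fun s => (h s).exists.choose, fac := fun s G => ?_, uniq := fun s m hm => ?_ }⟩
  · obtain ⟨i, ψ, hψ⟩ := exists_factor G
    show _ ≫ leg U π G = _
    rw [leg_eq U π hπ G i ψ hψ, rel s G i ψ hψ, ← Category.assoc, (h s).exists.choose_spec i]
    rfl
  · refine (h s).unique (fun k => ?_) (h s).exists.choose_spec
    have e := hm (face k)
    change m ≫ leg U π (face k) = _ at e
    rwa [leg_face U π hπ k] at e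

include hπ huniv in
lemma hasPointwise :
    (incl (n + 1) (n + 2) (Nat.le_succ _)).op.HasPointwiseRightKanExtension U := fun Y => by
  by_cases h : Y.unop.obj.len ≤ n + 1
  · have := (StructuredArrow.mkIdInitial (Y := op ⟨Y.unop.obj, h⟩)
      (T := (incl (n + 1) (n + 2) (Nat.le_succ _)).op)).hasInitial
    show HasLimit (StructuredArrow.proj Y _ ⋙ U)
    exact inferInstanceAs (HasLimit (StructuredArrow.proj
      ((incl (n + 1) (n + 2) (Nat.le_succ _)).op.obj (op ⟨Y.unop.obj, h⟩)) _ ⋙ U))
  · obtain rfl : Y = top' n := by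
      refine Opposite.unop_injective (ObjectProperty.FullSubcategory.ext ?_)
      refine SimplexCategory.ext ?_
      have := Y.unop.property
      simp only [SimplexCategory.len_mk] at this ⊢
      omega
    exact ⟨_, (isLimit U π hπ huniv).some⟩

end aux

/-- Let `U` be an `(n+1)`-truncated simplicial object of a category `C` (so the truncation level is at
least `1`), and let `T` be an object with morphisms `π_0, …, π_{n+2} : T ⟶ U_{n+1}` satisfying the
face relations `d_j π_i = d_i π_{j+1}` for `i ≤ j` and universal among such families (that is, `T`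
represents the functor of `(n+3)`-tuples of morphisms to `U_{n+1}` satisfying the face relations).
Then `U` extends to an `(n+2)`-truncated simplicial object right adjoint to restriction: the
pointwise right Kan extension of `U` along the inclusion of `(n+1)`-truncated into `(n+2)`-truncated
simplex categories exists, and for any right Kan extension `V` of `U` the morphism `V_{n+2} ⟶ T`
matching the faces of `V` with the `π_k` is an isomorphism (the new top term is the representing
object). -/
theorem result {C : Type u} [Category.{v} C] (n : ℕ) (U : (SimplexCategory.Truncated (n + 1))ᵒᵖ ⥤ C) (T : C) (π : Fin (n + 3) → (T ⟶ U.obj (op ⟨SimplexCategory.mk (n + 1), (SimplexCategory.len_mk (n + 1)).le⟩))) (hπ : ∀ i j : Fin (n + 2), i ≤ j → π (Fin.castSucc i) ≫ U.map (SimplexCategory.Truncated.δ (n + 1) j ((SimplexCategory.len_mk n).trans_le (Nat.le_succ n)) (SimplexCategory.len_mk (n + 1)).le).op = π j.succ ≫ U.map (SimplexCategory.Truncated.δ (n + 1) i ((SimplexCategory.len_mk n).trans_le (Nat.le_succ n))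 (SimplexCategory.len_mk (n + 1)).le).op) (huniv : ∀ (S : C) (g : Fin (n + 3) → (S ⟶ U.obj (op ⟨SimplexCategory.mk (n + 1), (SimplexCategory.len_mk (n + 1)).le⟩))), (∀ i j : Fin (n + 2), i ≤ j → g (Fin.castSucc i) ≫ U.map (SimplexCategory.Truncated.δ (n + 1) j ((SimplexCategory.len_mk n).trans_le (Nat.le_succ n)) (SimplexCategory.len_mk (n + 1)).le).op = g j.succ ≫ U.map (SimplexCategory.Truncated.δ (n + 1) i ((SimplexCategory.len_mk n).trans_le (Nat.le_succ n)) (SimplexCategory.len_mk (n + 1)).le).op) → ∃! t : S ⟶ T, ∀ k : Fin (n + 3), t ≫ π k = g k) : (SimplexCategory.Truncated.incl (n + 1) (n + 2) (Nat.le_succ _)).op.HasPointwiseRightKanExtension U ∧ ∀ (V : (SimplexCategory.Truncated (n + 2))ᵒᵖ ⥤ C) (α : (SimplexCategory.Truncated.incl (n + 1) (n + 2) (Nat.le_succ _)).op ⋙ V ⟶ U) [V.IsRightKanExtension α] (t : V.obj (op ⟨SimplexCategory.mk (n + 2), (SimplexCategory.len_mk (n + 2)).le⟩) ⟶ T), (∀ k : Fin (n + 3), t ≫ π k = V.map (SimplexCategory.Truncated.δ (n + 2) k ((SimplexCategory.len_mk (n + 1)).trans_le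 (Nat.le_succ (n + 1))) (SimplexCategory.len_mk (n + 2)).le).op ≫ α.app (op ⟨SimplexCategory.mk (n + 1), (SimplexCategory.len_mk (n + 1)).le⟩)) → IsIso t := by
  have := hasPointwise U π hπ huniv
  refine ⟨this, fun V α _ t ht => ?_⟩
  let hV : IsLimit ((Functor.RightExtension.mk V α).coneAt (top' n)) :=
    Functor.isPointwiseRightKanExtensionOfIsRightKanExtension V α (top' n)
  let hT := (isLimit U π hπ huniv).some
  let e := hV.conePointUniqueUpToIso hT
  have he : e.hom = t := by
    obtain ⟨s, hs, hu⟩ := huniv _ (fun k => t ≫ π k) (fun i j hij => by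
      rw [Category.assoc, Category.assoc, hπ i j hij])
    refine (hu _ fun k => ?_).trans (hu _ fun k => rfl).symm
    have h1 := hV.conePointUniqueUpToIso_hom_comp hT (face k)
    change e.hom ≫ leg U π (face k) = _ at h1
    rw [leg_face U π hπ k] at h1
    exact h1.trans (ht k).symm
  rw [← he]
  infer_instance

end Groth.Agent.S6814
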